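import Mathlib
import Groth.Prelude.Def_AlgSpGpd
import Groth.Prelude.Def_AlgSpDec
import Groth.Agent.Lib.T2H7FieldAut

/-!
# Points of the arrows of a groupoid in sheaves with object space the spectrum of a field (helper7)

For a groupoid `(U, R, s, t, c)` in sheaves over `B` with `U = Spec k` and a field valued point `p` of `R`,
there is an algebraically closed extension `k'` of `k` such that on every restriction `(U', R', s', t', c')`
along `Spec k' ⟶ Spec k` there is `r' : U' ⟶ R'` over `p` whose source and target are automorphisms.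
-/

set_option autoImplicit false
set_option linter.unusedSectionVars false
set_option linter.unusedVariables false
set_option linter.style.haveILetI false
universe u
open CategoryTheory CategoryTheory.Limits AlgebraicGeometry

namespace Groth.Agent.Lib.T2H7.GrpdSpPt

variable {S : Scheme.{u}}

/-- Every point of a sheaf mapping to `Spec K` of a field valued point `p` maps to the class of `p`. -/
theorem map_comp_toHom {F X : AlgSp.Sp S} (p : AlgSp.FieldPt F) (h : X ⟶ (AlgSp.yon S).obj p.pt)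
    (x : AlgSp.Points X) : AlgSp.Points.map (h ≫ p.toHom) x = AlgSp.Points.mk p := by
  rw [AlgSp.Points.map_comp]
  obtain ⟨s, hs⟩ := (AlgSp.Points.schemeEquiv p.pt).surjective (AlgSp.Points.map h x)
  rw [← hs]
  change AlgSp.Points.map p.toHom (AlgSp.Points.ofScheme p.pt s) = _
  rw [← AlgSp.Points.ofPt_eq_map_ofScheme]
  exact AlgSp.Points.ofPt_toHom p s

/-- On a restriction `G'` of `G` along `φ.fU : U' ⟶ U`, a `U'`-point `x₁` of `R` with target `φ.fU` and source
`b ≫ φ.fU` lifts to a `U'`-point of `R'` with target the identity and source `b`. -/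
theorem exists_lift_restriction {B : AlgSp.Sp S} {G G' : AlgSp.GroupoidSp B}
    (φ : AlgSp.GroupoidSp.Hom G' G) (hφ : φ.IsRestriction)
    (x₁ : G'.U ⟶ G.R) (b : G'.U ⟶ G'.U) (h₁ : x₁ ≫ G.t = φ.fU) (h₂ : x₁ ≫ G.s = b ≫ φ.fU) :
    ∃ r' : G'.U ⟶ G'.R, r' ≫ φ.fR = x₁ ∧ r' ≫ G'.t = 𝟙 _ ∧ r' ≫ G'.s = b := by
  have hb : 𝟙 G'.U ≫ G'.pU = b ≫ G'.pU := by
    rw [Category.id_comp, ← φ.fU_over, ← Category.assoc, ← h₂, Category.assoc, G.s_over, ← G.t_over,
      ← Category.assoc, h₁]
  have w : x₁ ≫ G.j = pullback.lift (𝟙 G'.U) b hb ≫ φ.prodMap := by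
    apply pullback.hom_ext
    · rw [Category.assoc, AlgSp.GroupoidSp.j_fst, h₁, Category.assoc]
      unfold AlgSp.GroupoidSp.Hom.prodMap pullback.map
      rw [pullback.lift_fst, pullback.lift_fst_assoc, Category.id_comp]
    · rw [Category.assoc, AlgSp.GroupoidSp.j_snd, h₂, Category.assoc]
      unfold AlgSp.GroupoidSp.Hom.prodMap pullback.map
      rw [pullback.lift_snd, pullback.lift_snd_assoc]
  have hφ' : IsPullback φ.fR G'.j G.j φ.prodMap := hφ
  refine ⟨hφ'.lift x₁ _ w, hφ'.lift_fst _ _ _, ?_, ?_⟩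
  · rw [← G'.j_fst, ← Category.assoc, hφ'.lift_snd, pullback.lift_fst]
  · rw [← G'.j_snd, ← Category.assoc, hφ'.lift_snd, pullback.lift_snd]

/-- The main construction: see the module docstring. -/
theorem exists_algClosed_restrict_point {B : AlgSp.Sp S} (G : AlgSp.GroupoidSp B) (k : Type u) [Field k]
    (σ : Spec (CommRingCat.of k) ⟶ S) (eU : G.U ≅ (AlgSp.yon S).obj (Over.mk σ))
    (p : AlgSp.FieldPt G.R) :
    ∃ (k' : Type u) (_ : Field k') (_ : Algebra k k'), IsAlgClosed k' ∧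
      ∀ (G' : AlgSp.GroupoidSp B) (φ : AlgSp.GroupoidSp.Hom G' G), φ.IsRestriction →
        ∀ (eU' : G'.U ≅ (AlgSp.yon S).obj
            (Over.mk (Spec.map (CommRingCat.ofHom (algebraMap k k')) ≫ σ))),
          φ.fU = eU'.hom ≫ (AlgSp.yon S).map
            (Over.homMk (Spec.map (CommRingCat.ofHom (algebraMap k k'))) rfl :
              Over.mk (Spec.map (CommRingCat.ofHom (algebraMap k k')) ≫ σ) ⟶ Over.mk σ) ≫ eU.inv →
          ∃ r' : G'.U ⟶ G'.R,
            (∀ x : AlgSp.Points G'.U, AlgSp.Points.map (r' ≫ φ.fR) x = AlgSp.Points.mk p) ∧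
            IsIso (r' ≫ G'.s) ∧ IsIso (r' ≫ G'.t) := by
  obtain ⟨mt, hmt⟩ := (AlgSp.yon S).map_surjective (p.toHom ≫ G.t ≫ eU.hom)
  obtain ⟨ms, hms⟩ := (AlgSp.yon S).map_surjective (p.toHom ≫ G.s ≫ eU.hom)
  let σt : CommRingCat.of k ⟶ CommRingCat.of p.K := Spec.preimage mt.left
  let σs : CommRingCat.of k ⟶ CommRingCat.of p.K := Spec.preimage ms.left
  have hσt : Spec.map σt = mt.left := Spec.map_preimage _
  have hσs : Spec.map σs = ms.left := Spec.map_preimage _
  have wt : mt.left ≫ σ = p.str := Over.w mt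
  have ws : ms.left ≫ σ = p.str := Over.w ms
  obtain ⟨Ω, hΩ, hac, ι, β, hβ⟩ := FieldAut.exists_conj k p.K σt.hom σs.hom
  let ιc : CommRingCat.of p.K ⟶ CommRingCat.of Ω := CommRingCat.ofHom ι
  let βc : CommRingCat.of Ω ⟶ CommRingCat.of Ω := CommRingCat.ofHom (β : Ω →+* Ω)
  have hβc : IsIso βc :=
    ⟨CommRingCat.ofHom (β.symm : Ω →+* Ω), by ext a; exact β.symm_apply_apply a,
      by ext a; exact β.apply_symm_apply a⟩
  have hβ' : (σt ≫ ιc) ≫ βc = σs ≫ ιc := by
    ext a
    exact hβ a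
  let A : Algebra k Ω := (σt ≫ ιc).hom.toAlgebra
  refine ⟨Ω, hΩ, A, hac, ?_⟩
  intro G' φ hφ eU' hfU
  have halg : CommRingCat.ofHom (algebraMap k Ω) = σt ≫ ιc := rfl
  have wι : Spec.map ιc ≫ p.str = Spec.map (CommRingCat.ofHom (algebraMap k Ω)) ≫ σ := by
    rw [halg, Spec.map_comp, hσt, Category.assoc, wt]
  have wβ : Spec.map βc ≫ Spec.map (CommRingCat.ofHom (algebraMap k Ω)) ≫ σ =
      Spec.map (CommRingCat.ofHom (algebraMap k Ω)) ≫ σ := by
    rw [← Category.assoc, ← Spec.map_comp, halg, hβ', Spec.map_comp, Spec.map_comp, hσs, hσt,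
      Category.assoc, Category.assoc, ws, wt]
  let ιO : Over.mk (Spec.map (CommRingCat.ofHom (algebraMap k Ω)) ≫ σ) ⟶ p.pt :=
    Over.homMk (Spec.map ιc) wι
  let βO : Over.mk (Spec.map (CommRingCat.ofHom (algebraMap k Ω)) ≫ σ) ⟶
      Over.mk (Spec.map (CommRingCat.ofHom (algebraMap k Ω)) ≫ σ) := Over.homMk (Spec.map βc) wβ
  have hβO : IsIso βO := by
    have : IsIso ((Over.forget S).map βO) := by
      change IsIso (Spec.map βc)
      infer_instance
    exact isIso_of_reflects_iso βO (Over.forget S)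
  let algO : Over.mk (Spec.map (CommRingCat.ofHom (algebraMap k Ω)) ≫ σ) ⟶ Over.mk σ :=
    Over.homMk (Spec.map (CommRingCat.ofHom (algebraMap k Ω))) rfl
  have e1 : algO = ιO ≫ mt := by
    apply Over.OverMorphism.ext
    change Spec.map (CommRingCat.ofHom (algebraMap k Ω)) = Spec.map ιc ≫ mt.left
    rw [halg, Spec.map_comp, hσt]
  have e2 : βO ≫ algO = ιO ≫ ms := by
    apply Over.OverMorphism.ext
    change Spec.map βc ≫ Spec.map (CommRingCat.ofHom (algebraMap k Ω)) = Spec.map ιc ≫ ms.left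
    rw [← Spec.map_comp, halg, hβ', Spec.map_comp, hσs]
  have hfU' : φ.fU = eU'.hom ≫ (AlgSp.yon S).map algO ≫ eU.inv := hfU
  have h₁ : (eU'.hom ≫ (AlgSp.yon S).map ιO ≫ p.toHom) ≫ G.t = φ.fU := by
    rw [hfU', e1, Functor.map_comp, hmt]
    simp only [Category.assoc, Iso.hom_inv_id, Category.comp_id]
  have h₂ : (eU'.hom ≫ (AlgSp.yon S).map ιO ≫ p.toHom) ≫ G.s =
      (eU'.hom ≫ (AlgSp.yon S).map βO ≫ eU'.inv) ≫ φ.fU := by
    rw [hfU']
    simp only [Category.assoc, Iso.inv_hom_id_assoc]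
    rw [← Functor.map_comp_assoc, e2, Functor.map_comp, hms]
    simp only [Category.assoc, Iso.hom_inv_id, Category.comp_id]
  obtain ⟨r', hr1, hr2, hr3⟩ := exists_lift_restriction φ hφ _ _ h₁ h₂
  refine ⟨r', fun x => ?_, ?_, ?_⟩
  · rw [hr1, ← Category.assoc]
    exact map_comp_toHom p _ x
  · rw [hr3]
    infer_instance
  · rw [hr2]
    infer_instance

end Groth.Agent.Lib.T2H7.GrpdSpPt
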