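import Mathlib
import Groth.Prelude.Def_HMNum
import Groth.Agent.S18285

/-!
# Limits under one-parameter subgroups: uniqueness, fixedness (helper7)
-/

set_option autoImplicit false
set_option linter.unusedSectionVars false
set_option linter.unusedVariables false
set_option linter.style.haveILetI false
universe u
open CategoryTheory CategoryTheory.Limits MonoidalCategory CartesianMonoidalCategory MonObj
  AlgebraicGeometry Opposite

namespace Groth.Agent.Lib.T2H7.HMNumLimit

open Magnet HMNum

section Terminal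

/-- the structure morphism of `A(N)_R` is an isomorphism when `N` is trivial. -/
theorem isIso_hom_AMon (R : Type u) [CommRing R] (N : Type) [AddCommMonoid N] [Subsingleton N] :
    IsIso (AMon R N).hom := by
  have hbij : Function.Bijective
      (algebraMap R (MonoidAlgebra R (Multiplicative N))) := by
    have e := (MonoidAlgebra.uniqueAlgEquiv R (A := R) (Multiplicative N)).symm
    have he : ∀ r : R, e r = algebraMap R (MonoidAlgebra R (Multiplicative N)) r := by
      intro r
      have := e.commutes r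
      simpa using this
    have : (algebraMap R (MonoidAlgebra R (Multiplicative N)) : R → _) = e := by
      funext r
      exact (he r).symm
    rw [this]
    exact e.bijective
  have h1 : IsIso (CommRingCat.ofHom (algebraMap R (MonoidAlgebra R (Multiplicative N)))) := by
    rw [ConcreteCategory.isIso_iff_bijective]
    exact hbij
  change IsIso (Spec.map (CommRingCat.ofHom (algebraMap R (MonoidAlgebra R (Multiplicative N)))))
  infer_instance

theorem isIso_hom_AMonS (S : Scheme.{u}) (N : Type) [AddCommMonoid N] [Subsingleton N] :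
    IsIso (AMonS S N).hom := by
  haveI := isIso_hom_AMon (ULift.{u} ℤ) N
  change IsIso (pullback.snd (AMon (ULift.{u} ℤ) N).hom
    (Limits.IsTerminal.from specULiftZIsTerminal S))
  infer_instance

theorem hom_AMonS_ext (S : Scheme.{u}) (N : Type) [AddCommMonoid N] [Subsingleton N]
    {T : Over S} (b b' : T ⟶ AMonS S N) : b = b' := by
  haveI := isIso_hom_AMonS S N
  apply Over.OverMorphism.ext
  rw [← cancel_mono (AMonS S N).hom, Over.w b, Over.w b']

end Terminal

section Limits

variable {S : Scheme.{u}} {G X : Over S} [GrpObj G] (a : AlgGrp.Action G X)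
  (l : Red.Gm S ⟶ G) [IsMonHom l]

theorem lift_one_eq {T T' : Over S} {B : Over S} [MonObj B] (t : T' ⟶ T) :
    lift (1 : T' ⟶ B) t = t ≫ lift (toUnit T ≫ η[B]) (𝟙 T) := by
  rw [comp_lift, Category.comp_id, ← Category.assoc, toUnit_unique (t ≫ toUnit T) (toUnit T'),
    Hom.one_def]

theorem lift_gmAct {T' : Over S} (g : T' ⟶ Red.Gm S) (z : T' ⟶ X) :
    lift g z ≫ (gmAct a l).act = lift (g ≫ l) z ≫ a.act := by
  rw [MonAct.lift_restrict_act, MonAct.ofAction_act]

/-- limit points are fixed points. -/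
theorem isFixedBy_of_isLimitPt {T : Over S} {x y : T ⟶ X} (h : IsLimitPt a l x y) :
    IsFixedBy a l y := by
  obtain ⟨φ, -, rfl⟩ := h
  intro T' t g
  set ψ := (Magnet.attrFace (gmAct a l) isFace_bot).app (op T) φ with hψ
  have hlim : limitPt φ = lift (toUnit T ≫ η[AMonS S ↥(⊥ : AddSubmonoid ℤ)]) (𝟙 T) ≫ ψ.1 := rfl
  have h := (MonAct.mem_eqvHom_iff ψ.1).mp ψ.2 T' g (1 : T' ⟶ AMonS S ↥(⊥ : AddSubmonoid ℤ)) t
  haveI : Subsingleton ↥(⊥ : AddSubmonoid ℤ) :=
    ⟨fun p q => Subtype.ext ((AddSubmonoid.mem_bot.mp p.2).trans (AddSubmonoid.mem_bot.mp q.2).symm)⟩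
  have hb : lift g (1 : T' ⟶ AMonS S ↥(⊥ : AddSubmonoid ℤ)) ≫ (subAct S ℤ ⊥).act = 1 :=
    hom_AMonS_ext S _ _ _
  rw [hb, lift_one_eq t, Category.assoc, ← hlim, lift_gmAct] at h
  exact h.symm

/-- the constant attractor point at a fixed point. -/
theorem isLimitPt_self_of_isFixedBy {T : Over S} {y : T ⟶ X} (h : IsFixedBy a l y) :
    IsLimitPt a l y y := by
  have hmem : MonAct.IsEquivariant ((subAct S ℤ plus).prod (MonAct.trivial (Red.Gm S) T))
      (gmAct a l) (snd (A1 S) T ≫ y) := by
    rw [MonAct.mem_eqvHom_iff]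
    intro T' g b t
    rw [lift_snd_assoc, lift_snd_assoc, lift_gmAct, h T' t g]
  refine ⟨⟨snd (A1 S) T ≫ y, hmem⟩, ?_, ?_⟩
  · change lift (toUnit T ≫ η[AMonS S ↥plus]) (𝟙 T) ≫ snd (A1 S) T ≫ y = y
    rw [lift_snd_assoc, Category.id_comp]
  · rw [limitPt_eq]
    change lift (toUnit T ≫ origin S) (𝟙 T) ≫ snd (A1 S) T ≫ y = y
    rw [lift_snd_assoc, Category.id_comp]

/-- limits are unique in a separated scheme. -/
theorem isLimitPt_unique [IsSeparated X.hom] {T : Over S} {x y y' : T ⟶ X}
    (h : IsLimitPt a l x y) (h' : IsLimitPt a l x y') : y = y' := by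
  obtain ⟨φ, hφ, rfl⟩ := h
  obtain ⟨φ', hφ', rfl⟩ := h'
  have := Groth.Agent.S18285.result S ℤ X (gmAct a l) plus T (hφ.trans hφ'.symm)
  rw [this]

/-- the numerical function at a point and at its limit coincide. -/
theorem isMu_iff_of_isLimitPt [IsSeparated X.hom] (B : GLinSh.LinBun G a) {T : Over S}
    (x y : T ⟶ X) (hy : IsLimitPt a l x y) (m : ℤ) : IsMu B l x m ↔ IsMu B l y m := by
  constructor
  · rintro ⟨y', hy', hw⟩
    have e : y' = y := isLimitPt_unique a l hy' hy
    subst e
    exact ⟨y', isLimitPt_self_of_isFixedBy a l hw.1, hw⟩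
  · rintro ⟨y'', hy'', hw⟩
    have hfix := isFixedBy_of_isLimitPt a l hy
    have e : y'' = y := isLimitPt_unique a l hy'' (isLimitPt_self_of_isFixedBy a l hfix)
    subst e
    exact ⟨y'', hy, hw⟩

end Limits

end Groth.Agent.Lib.T2H7.HMNumLimit
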