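import Mathlib
import Groth.Agent.Lib.T2H7HMNumLimit

/-!
# The numerical function under translation of the point / conjugation of the subgroup (helper7)
-/

set_option autoImplicit false
set_option linter.unusedSectionVars false
set_option linter.unusedVariables false
set_option linter.style.haveILetI false
universe u
open CategoryTheory CategoryTheory.Limits MonoidalCategory CartesianMonoidalCategory MonObj
  AlgebraicGeometry Opposite

namespace Groth.Agent.Lib.T2H7.HMNumConj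

open Magnet HMNum Groth.Agent.Lib.T2H7.HMNumLimit

variable {S : Scheme.{u}} {G X : Over S} [GrpObj G] (a : AlgGrp.Action G X)

section Calculus

theorem act_mul {T : Over S} (g h : T ⟶ G) (x : T ⟶ X) :
    lift (g * h) x ≫ a.act = lift g (lift h x ≫ a.act) ≫ a.act :=
  (MonAct.ofAction a).lift_mul_act g h x

theorem act_one {T : Over S} (x : T ⟶ X) : lift (1 : T ⟶ G) x ≫ a.act = x :=
  (MonAct.ofAction a).lift_one_act x

/-- the constant `T`-point of `G` at the rational point `β`. -/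
noncomputable abbrev cst (β : 𝟙_ (Over S) ⟶ G) (T : Over S) : T ⟶ G := toUnit T ≫ β

theorem comp_cst (β : 𝟙_ (Over S) ⟶ G) {T T' : Over S} (t : T' ⟶ T) :
    t ≫ cst β T = cst β T' := by
  rw [← Category.assoc, toUnit_unique (t ≫ toUnit T) (toUnit T')]

theorem cst_inv (β : 𝟙_ (Over S) ⟶ G) (T : Over S) : cst β⁻¹ T = (cst β T)⁻¹ :=
  GrpObj.comp_inv _ _

theorem comp_lift_cst (β : 𝟙_ (Over S) ⟶ G) {T T' : Over S} {Y : Over S} (t : T' ⟶ T) (x : T ⟶ Y) :
    t ≫ lift (cst β T) x = lift (cst β T') (t ≫ x) := by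
  rw [comp_lift, comp_cst]

end Calculus

section LimitPt

variable (l l₁ : Red.Gm S ⟶ G) [IsMonHom l] [IsMonHom l₁] (β : 𝟙_ (Over S) ⟶ G)

/-- translating an attractor point. -/
theorem isLimitPt_conj
    (hl : ∀ (T' : Over S) (g : T' ⟶ Red.Gm S), (g ≫ l₁) * cst β T' = cst β T' * (g ≫ l))
    {T : Over S} {x y : T ⟶ X} (h : IsLimitPt a l x y) :
    IsLimitPt a l₁ (lift (cst β T) x ≫ a.act) (lift (cst β T) y ≫ a.act) := by
  obtain ⟨φ, hx, hy⟩ := h
  have hx' : lift (toUnit T ≫ η[AMonS S ↥plus]) (𝟙 T) ≫ φ.1 = x := hx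
  have hy' : lift (toUnit T ≫ origin S) (𝟙 T) ≫ φ.1 = y := by rw [← limitPt_eq]; exact hy
  have hmem : MonAct.IsEquivariant ((subAct S ℤ plus).prod (MonAct.trivial (Red.Gm S) T))
      (gmAct a l₁) (lift (cst β (A1 S ⊗ T)) φ.1 ≫ a.act) := by
    rw [MonAct.mem_eqvHom_iff]
    intro T' g b t
    have hφ := (MonAct.mem_eqvHom_iff φ.1).mp φ.2 T' g b t
    rw [← Category.assoc, comp_lift_cst, hφ, lift_gmAct, ← act_mul, lift_gmAct,
      ← Category.assoc (lift b t), comp_lift_cst, ← act_mul, hl]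
  refine ⟨⟨lift (cst β (A1 S ⊗ T)) φ.1 ≫ a.act, hmem⟩, ?_, ?_⟩
  · change lift (toUnit T ≫ η[AMonS S ↥plus]) (𝟙 T) ≫ lift (cst β (A1 S ⊗ T)) φ.1 ≫ a.act = _
    rw [← Category.assoc, comp_lift_cst, hx']
  · rw [limitPt_eq]
    change lift (toUnit T ≫ origin S) (𝟙 T) ≫ lift (cst β (A1 S ⊗ T)) φ.1 ≫ a.act = _
    rw [← Category.assoc, comp_lift_cst, hy']

end LimitPt

section FibreWt

variable {a}

theorem evalFn_congr {V : Over S} (π : V ⟶ X) {U : X.left.Opens} (y : Γ(V.left, π.left ⁻¹ᵁ U))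
    {T' : Over S} {v v' : T' ⟶ V} (hv : v = v') (h : ⊤ ≤ v.left ⁻¹ᵁ (π.left ⁻¹ᵁ U))
    (h' : ⊤ ≤ v'.left ⁻¹ᵁ (π.left ⁻¹ᵁ U)) : evalFn π y v h = evalFn π y v' h' := by
  subst hv
  rfl

theorem appLE_hom_congr {Y Z : Scheme.{u}} {f g : Y ⟶ Z} (h : f = g) (U : Z.Opens) (W : Y.Opens)
    (e : W ≤ f ⁻¹ᵁ U) (e' : W ≤ g ⁻¹ᵁ U) (s : Γ(Z, U)) :
    (f.appLE U W e).hom s = (g.appLE U W e').hom s := by
  subst h
  rfl

/-- the transformation rule of fibre coordinates under the lifted action, on points. -/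
theorem evalFn_act (B : GLinSh.LinBun G a) {U U' : X.left.Opens}
    {y : Γ(B.V.left, B.π.left ⁻¹ᵁ U)} {y' : Γ(B.V.left, B.π.left ⁻¹ᵁ U')}
    (c : Γ((G ⊗ X).left, a.act.left ⁻¹ᵁ U' ⊓ (snd G X).left ⁻¹ᵁ U))
    (hc : B.lift.act.left.appLE (B.π.left ⁻¹ᵁ U') (GLinSh.liftOpen a B.π U U')
        (GLinSh.liftOpen_le_act a B.π B.lift B.lift_π) y' =
      (G ◁ B.π).left.appLE _ (GLinSh.liftOpen a B.π U U') (GLinSh.liftOpen_le_base a B.π) c *
        (snd G B.V).left.appLE (B.π.left ⁻¹ᵁ U) (GLinSh.liftOpen a B.π U U')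
          (GLinSh.liftOpen_le_snd a B.π) y)
    {T' : Over S} (g₁ : T' ⟶ G) (v₁ : T' ⟶ B.V) (xb : T' ⟶ X) (hxb : v₁ ≫ B.π = xb)
    (h1 : ⊤ ≤ v₁.left ⁻¹ᵁ (B.π.left ⁻¹ᵁ U))
    (h2 : ⊤ ≤ (lift g₁ v₁ ≫ B.lift.act).left ⁻¹ᵁ (B.π.left ⁻¹ᵁ U'))
    (h3 : ⊤ ≤ (lift g₁ xb).left ⁻¹ᵁ (a.act.left ⁻¹ᵁ U' ⊓ (snd G X).left ⁻¹ᵁ U)) :
    evalFn B.π y' (lift g₁ v₁ ≫ B.lift.act) h2 =
      ((lift g₁ xb).left.appLE _ ⊤ h3).hom c * evalFn B.π y v₁ h1 := by
  have e : lift g₁ v₁ ≫ (G ◁ B.π) = lift g₁ xb := by rw [lift_whiskerLeft, hxb]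
  have hw : ⊤ ≤ (lift g₁ v₁).left ⁻¹ᵁ (GLinSh.liftOpen a B.π U U') := by
    have h3' : ⊤ ≤ (lift g₁ v₁ ≫ (G ◁ B.π)).left ⁻¹ᵁ
        (a.act.left ⁻¹ᵁ U' ⊓ (snd G X).left ⁻¹ᵁ U) := by rw [e]; exact h3
    exact h3'
  have hcc := congrArg (fun s => ((lift g₁ v₁).left.appLE (GLinSh.liftOpen a B.π U U') ⊤ hw).hom s) hc
  simp only [map_mul] at hcc
  have t1 : ((lift g₁ v₁).left.appLE (GLinSh.liftOpen a B.π U U') ⊤ hw).hom
      ((B.lift.act.left.appLE (B.π.left ⁻¹ᵁ U') (GLinSh.liftOpen a B.π U U')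
        (GLinSh.liftOpen_le_act a B.π B.lift B.lift_π)).hom y') =
      evalFn B.π y' (lift g₁ v₁ ≫ B.lift.act) h2 := by
    have := Scheme.Hom.appLE_comp_appLE (lift g₁ v₁).left B.lift.act.left (B.π.left ⁻¹ᵁ U')
      (GLinSh.liftOpen a B.π U U') ⊤ (GLinSh.liftOpen_le_act a B.π B.lift B.lift_π) hw
    exact congrArg (fun φ => φ.hom y') this
  have t2 : ((lift g₁ v₁).left.appLE (GLinSh.liftOpen a B.π U U') ⊤ hw).hom
      (((G ◁ B.π).left.appLE _ (GLinSh.liftOpen a B.π U U') (GLinSh.liftOpen_le_base a B.π)).hom c) =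
      ((lift g₁ xb).left.appLE _ ⊤ h3).hom c := by
    have := Scheme.Hom.appLE_comp_appLE (lift g₁ v₁).left (G ◁ B.π).left _
      (GLinSh.liftOpen a B.π U U') ⊤ (GLinSh.liftOpen_le_base a B.π) hw
    have h' := congrArg (fun φ => φ.hom c) this
    refine h'.trans ?_
    exact appLE_hom_congr (congrArg CommaMorphism.left e) _ _ _ _ c
  have t3 : ((lift g₁ v₁).left.appLE (GLinSh.liftOpen a B.π U U') ⊤ hw).hom
      (((snd G B.V).left.appLE (B.π.left ⁻¹ᵁ U) (GLinSh.liftOpen a B.π U U')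
        (GLinSh.liftOpen_le_snd a B.π)).hom y) = evalFn B.π y v₁ h1 := by
    have := Scheme.Hom.appLE_comp_appLE (lift g₁ v₁).left (snd G B.V).left (B.π.left ⁻¹ᵁ U)
      (GLinSh.liftOpen a B.π U U') ⊤ (GLinSh.liftOpen_le_snd a B.π) hw
    have h' := congrArg (fun φ => φ.hom y) this
    refine h'.trans ?_
    exact appLE_hom_congr (congrArg CommaMorphism.left (lift_snd g₁ v₁)) _ _ _ _ y
  rw [← t1, ← t2, ← t3]
  exact hcc

variable (l l₁ : Red.Gm S ⟶ G) [IsMonHom l] [IsMonHom l₁] (β : 𝟙_ (Over S) ⟶ G)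

/-- translating a fixed point together with its fibre weight. -/
theorem hasFibreWt_conj (B : GLinSh.LinBun G a)
    (hl : ∀ (T' : Over S) (g : T' ⟶ Red.Gm S), (g ≫ l₁) * cst β T' = cst β T' * (g ≫ l))
    {T : Over S} (hT : ∀ p q : T.left, p = q) (p₀ : T.left) {x₀ : T ⟶ X} {w : ℤ}
    (h : HasFibreWt a B.π B.atlas.chart B.lift l x₀ w) :
    HasFibreWt a B.π B.atlas.chart B.lift l₁ (lift (cst β T) x₀ ≫ a.act) w := by
  obtain ⟨hfix, U, y, hy, hU, hform⟩ := h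
  have hfix' : IsFixedBy a l₁ (lift (cst β T) x₀ ≫ a.act) := by
    intro T' t g
    rw [← Category.assoc t, comp_lift_cst, ← act_mul, hl, act_mul, hfix T' t g]
  refine ⟨hfix', ?_⟩
  set x₀' := lift (cst β T) x₀ ≫ a.act with hx₀'
  obtain ⟨U', hp, y', hy'⟩ := B.atlas.cover (x₀'.left.base p₀)
  have hU' : x₀'.left ⁻¹ᵁ U' = ⊤ := by
    ext q
    simp only [TopologicalSpace.Opens.coe_top, Set.mem_univ, iff_true]
    rw [hT q p₀]
    exact hp
  obtain ⟨c, hc⟩ := B.lift_linear U U' y y' hy hy'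
  refine ⟨U', y', hy', hU', ?_⟩
  intro T' t g v' hv' hgv'
  -- the point `v = β⁻¹ · v'` over `x₀`
  obtain ⟨v, hv_def⟩ : ∃ v : T' ⟶ B.V, v = lift (cst β T')⁻¹ v' ≫ B.lift.act := ⟨_, rfl⟩
  have hπ : ∀ (g₁ : T' ⟶ G) (v₁ : T' ⟶ B.V),
      (lift g₁ v₁ ≫ B.lift.act) ≫ B.π = lift g₁ (v₁ ≫ B.π) ≫ a.act := by
    intro g₁ v₁
    rw [Category.assoc, B.lift_π, lift_whiskerLeft_assoc]
  have htx : t ≫ x₀' = lift (cst β T') (t ≫ x₀) ≫ a.act := by
    rw [hx₀', ← Category.assoc, comp_lift_cst]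
  have hv : v ≫ B.π = t ≫ x₀ := by
    rw [hv_def, hπ, hv', htx, ← act_mul, inv_mul_cancel, act_one]
  have hlv : (lift (g ≫ l) v ≫ B.lift.act) ≫ B.π = t ≫ x₀ := by
    rw [hπ, hv, hfix T' t g]
  have key1 : v' = lift (cst β T') v ≫ B.lift.act := by
    rw [hv_def, ← act_mul (a := B.lift), mul_inv_cancel, act_one (a := B.lift)]
  have key2 : lift (g ≫ l₁) v' ≫ B.lift.act =
      lift (cst β T') (lift (g ≫ l) v ≫ B.lift.act) ≫ B.lift.act := by
    rw [← act_mul (a := B.lift), ← hl, act_mul (a := B.lift), ← key1]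
  have hform' := hform T' t g v hv hlv
  -- the common factor
  have h3 : ⊤ ≤ (lift (cst β T') (t ≫ x₀)).left ⁻¹ᵁ (a.act.left ⁻¹ᵁ U' ⊓ (snd G X).left ⁻¹ᵁ U) := by
    intro q _
    constructor
    · have : (lift (cst β T') (t ≫ x₀) ≫ a.act).left.base q ∈ U' := by
        rw [← htx]
        have : (t ≫ x₀').left.base q ∈ U' := by
          have h := top_le_preimage (𝟙 X) hU' (v := t ≫ x₀') (t := t) (by rw [Category.comp_id])
          exact h (by trivial)
        exact this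
      exact this
    · have : (lift (cst β T') (t ≫ x₀) ≫ snd G X).left.base q ∈ U := by
        rw [lift_snd]
        have h := top_le_preimage (𝟙 X) hU (v := t ≫ x₀) (t := t) (by rw [Category.comp_id])
        exact h (by trivial)
      exact this
  have e1 := evalFn_act B c hc (cst β T') v (t ≫ x₀) hv (top_le_preimage B.π hU hv)
    (by
      have hh : (lift (cst β T') v ≫ B.lift.act) ≫ B.π = t ≫ x₀' := by rw [← key1]; exact hv'
      exact top_le_preimage B.π hU' hh) h3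
  have e2 := evalFn_act B c hc (cst β T') (lift (g ≫ l) v ≫ B.lift.act) (t ≫ x₀) hlv
    (top_le_preimage B.π hU hlv)
    (by
      have hh : (lift (cst β T') (lift (g ≫ l) v ≫ B.lift.act) ≫ B.lift.act) ≫ B.π = t ≫ x₀' := by
        rw [← key2]; exact hgv'
      exact top_le_preimage B.π hU' hh) h3
  rw [evalFn_congr B.π y' key2 _ (by
      have hh : (lift (cst β T') (lift (g ≫ l) v ≫ B.lift.act) ≫ B.lift.act) ≫ B.π = t ≫ x₀' := by
        rw [← key2]; exact hgv'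
      exact top_le_preimage B.π hU' hh),
    evalFn_congr B.π y' key1 _ (by
      have hh : (lift (cst β T') v ≫ B.lift.act) ≫ B.π = t ≫ x₀' := by rw [← key1]; exact hv'
      exact top_le_preimage B.π hU' hh), e2, e1, hform']
  ring

/-- translating the point and conjugating the subgroup preserves the numerical function. -/
theorem isMu_conj (B : GLinSh.LinBun G a)
    (hl : ∀ (T' : Over S) (g : T' ⟶ Red.Gm S), (g ≫ l₁) * cst β T' = cst β T' * (g ≫ l))
    {T : Over S} (hT : ∀ p q : T.left, p = q) (p₀ : T.left) {x : T ⟶ X} {m : ℤ}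
    (h : IsMu B l x m) : IsMu B l₁ (lift (cst β T) x ≫ a.act) m := by
  obtain ⟨y, hy, hw⟩ := h
  exact ⟨_, isLimitPt_conj a l l₁ β hl hy, hasFibreWt_conj l l₁ β B hl hT p₀ hw⟩

end FibreWt

section Field

theorem cst_unit {S : Scheme.{u}} {G : Over S} (β : 𝟙_ (Over S) ⟶ G) : cst β (𝟙_ (Over S)) = β := by
  rw [cst, toUnit_unique (toUnit (𝟙_ (Over S))) (𝟙 _), Category.id_comp]

/-- `μ(g₀ · x, l) = μ(x, g₀⁻¹ l g₀)` over a field. -/
theorem isMu_act_iff_isMu_conj (k : Type u) [Field k]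
    (G X : Over (Spec (CommRingCat.of k))) [GrpObj G]
    (a : AlgGrp.Action G X) (B : GLinSh.LinBun G a) (x : 𝟙_ (Over (Spec (CommRingCat.of k))) ⟶ X)
    (l : Red.Gm (Spec (CommRingCat.of k)) ⟶ G) [IsMonHom l]
    (g₀ : 𝟙_ (Over (Spec (CommRingCat.of k))) ⟶ G)
    (l' : Red.Gm (Spec (CommRingCat.of k)) ⟶ G) [IsMonHom l']
    (hl' : l' = (toUnit _ ≫ g₀)⁻¹ * l * (toUnit _ ≫ g₀))
    (m : ℤ) : HMNum.IsMu B l (lift g₀ x ≫ a.act) m ↔ HMNum.IsMu B l' x m := by
  have hT : ∀ p q : (𝟙_ (Over (Spec (CommRingCat.of k)))).left, p = q := by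
    intro p q
    change (PrimeSpectrum k) at p q
    exact Subsingleton.elim p q
  have p₀ : (𝟙_ (Over (Spec (CommRingCat.of k)))).left := by
    change PrimeSpectrum k
    exact default
  have hgl : ∀ (T' : Over (Spec (CommRingCat.of k))) (g : T' ⟶ Red.Gm (Spec (CommRingCat.of k))),
      g ≫ l' = (cst g₀ T')⁻¹ * (g ≫ l) * cst g₀ T' := by
    intro T' g
    rw [hl', MonObj.comp_mul, MonObj.comp_mul, GrpObj.comp_inv, comp_cst]
  constructor
  · intro h
    have h1 := isMu_conj (a := a) l l' g₀⁻¹ B (fun T' g => by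
      rw [hgl, cst_inv]
      group) hT p₀ h
    rw [cst_unit, ← act_mul, inv_mul_cancel, act_one] at h1
    exact h1
  · intro h
    have h1 := isMu_conj (a := a) l' l g₀ B (fun T' g => by
      rw [hgl]
      group) hT p₀ h
    rw [cst_unit] at h1
    exact h1

section ConjHom

variable {S : Scheme.{u}} {G M : Over S} [GrpObj G] [MonObj M]

theorem tensorHom_comp_mul {Y : Over S} (f g : Y ⟶ G) :
    (f ⊗ₘ g) ≫ μ[G] = (fst Y Y ≫ f) * (snd Y Y ≫ g) := by
  rw [Hom.mul_def]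
  congr 1

/-- the conjugate of a homomorphism by a rational point is a homomorphism. -/
theorem isMonHom_conj (l : M ⟶ G) [IsMonHom l] (c : 𝟙_ (Over S) ⟶ G) :
    IsMonHom ((cst c M)⁻¹ * l * cst c M) where
  one_hom := by
    rw [MonObj.comp_mul, MonObj.comp_mul, GrpObj.comp_inv, comp_cst, IsMonHom.one_hom]
    have : (η[G] : 𝟙_ (Over S) ⟶ G) = 1 := by
      rw [Hom.one_def, toUnit_unique (toUnit (𝟙_ (Over S))) (𝟙 _), Category.id_comp]
    rw [this]
    group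
  mul_hom := by
    rw [tensorHom_comp_mul, MonObj.comp_mul, MonObj.comp_mul, GrpObj.comp_inv, comp_cst,
      IsMonHom.mul_hom, tensorHom_comp_mul, MonObj.comp_mul, MonObj.comp_mul, GrpObj.comp_inv,
      comp_cst, MonObj.comp_mul, MonObj.comp_mul, GrpObj.comp_inv, comp_cst]
    group

end ConjHom

/-- the set of normalised values of the numerical function is invariant under translation of the
point, for a conjugation-invariant norm. -/
theorem normalisedValues_act_iff (k : Type u) [Field k]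
    (G X : Over (Spec (CommRingCat.of k))) [GrpObj G]
    (a : AlgGrp.Action G X) (B : GLinSh.LinBun G a)
    (nrm : (Red.Gm (Spec (CommRingCat.of k)) ⟶ G) → ℝ)
    (hnrm : ∀ (l : Red.Gm (Spec (CommRingCat.of k)) ⟶ G) [IsMonHom l]
      (g : 𝟙_ (Over (Spec (CommRingCat.of k))) ⟶ G),
      nrm ((toUnit _ ≫ g) * l * (toUnit _ ≫ g)⁻¹) = nrm l)
    (x : 𝟙_ (Over (Spec (CommRingCat.of k))) ⟶ X) (g : 𝟙_ (Over (Spec (CommRingCat.of k))) ⟶ G)
    (q : ℝ) :
    (∃ (l : Red.Gm (Spec (CommRingCat.of k)) ⟶ G) (_ : IsMonHom l) (m : ℤ),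
        l ≠ 1 ∧ HMNum.IsMu B l (lift g x ≫ a.act) m ∧ q = (m : ℝ) / nrm l) ↔
      ∃ (l : Red.Gm (Spec (CommRingCat.of k)) ⟶ G) (_ : IsMonHom l) (m : ℤ),
        l ≠ 1 ∧ HMNum.IsMu B l x m ∧ q = (m : ℝ) / nrm l := by
  constructor
  · rintro ⟨l, hl, m, hne, hmu, hq⟩
    haveI := hl
    haveI hl' := isMonHom_conj l g
    refine ⟨(cst g _)⁻¹ * l * cst g _, hl', m, ?_, ?_, ?_⟩
    · intro h1
      apply hne
      have : l = cst g _ * ((cst g _)⁻¹ * l * cst g _) * (cst g _)⁻¹ := by group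
      rw [this, h1]
      group
    · exact (isMu_act_iff_isMu_conj k G X a B x l g _ rfl m).mp hmu
    · have h2 := hnrm ((cst g _)⁻¹ * l * cst g _) g
      have h3 : (toUnit _ ≫ g) * ((cst g (Red.Gm (Spec (CommRingCat.of k))))⁻¹ * l * cst g _) *
          (toUnit _ ≫ g)⁻¹ = l := by
        change cst g _ * ((cst g _)⁻¹ * l * cst g _) * (cst g _)⁻¹ = l
        group
      rw [h3] at h2
      rw [← h2]
      exact hq
  · rintro ⟨l', hl', m, hne, hmu, hq⟩
    haveI := hl'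
    haveI hl : IsMonHom (cst g (Red.Gm (Spec (CommRingCat.of k))) * l' * (cst g _)⁻¹) := by
      have := isMonHom_conj l' g⁻¹
      rw [cst_inv, inv_inv] at this
      exact this
    refine ⟨cst g _ * l' * (cst g _)⁻¹, hl, m, ?_, ?_, ?_⟩
    · intro h1
      apply hne
      have : l' = (cst g _)⁻¹ * (cst g _ * l' * (cst g _)⁻¹) * cst g _ := by group
      rw [this, h1]
      group
    · refine (isMu_act_iff_isMu_conj k G X a B x _ g l' ?_ m).mpr hmu
      change l' = (cst g _)⁻¹ * (cst g _ * l' * (cst g _)⁻¹) * cst g _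
      group
    · have h2 := hnrm l' g
      change nrm (cst g _ * l' * (cst g _)⁻¹) = nrm l' at h2
      rw [h2]
      exact hq

end Field

end Groth.Agent.Lib.T2H7.HMNumConj
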