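import Mathlib
import Groth.Agent.Lib.T2H7HMNumConj

/-!
# The numerical function is constant on `P(λ)`-translates (helper7)
-/

set_option autoImplicit false
set_option linter.unusedSectionVars false
set_option linter.unusedVariables false
set_option linter.style.haveILetI false
universe u
open CategoryTheory CategoryTheory.Limits MonoidalCategory CartesianMonoidalCategory MonObj
  AlgebraicGeometry Opposite

namespace Groth.Agent.Lib.T2H7.HMNumPar

open Magnet HMNum Groth.Agent.Lib.T2H7.HMNumLimit Groth.Agent.Lib.T2H7.HMNumConj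

variable {S : Scheme.{u}} {G X : Over S} [GrpObj G] (a : AlgGrp.Action G X)

section Origin

/-- the constant point at the origin of the affine line. -/
noncomputable abbrev zeroPt (S : Scheme.{u}) (T : Over S) : T ⟶ A1 S := toUnit T ≫ origin S

theorem act_A1 {T' : Over S} (u : T' ⟶ Red.Gm S) (b : T' ⟶ A1 S) :
    lift u b ≫ (subAct S ℤ plus).act = (u ≫ incl S) * b := by
  unfold subAct
  rw [MonAct.lift_restrict_act, MonAct.lift_regular_act]

/-- `u · 0 = 0` on the affine line. -/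
theorem smul_zeroPt {T' : Over S} (u : T' ⟶ Red.Gm S) :
    (u ≫ incl S) * zeroPt S T' = zeroPt S T' := by
  haveI : Subsingleton ↥(⊥ : AddSubmonoid ℤ) :=
    ⟨fun p q => Subtype.ext ((AddSubmonoid.mem_bot.mp p.2).trans (AddSubmonoid.mem_bot.mp q.2).symm)⟩
  have h := (MonAct.isEquivariant_iff _ _ _).mp (isEquivariant_faceMapS S isFace_bot) T' u
    (toUnit T' ≫ η[AMonS S ↥(⊥ : AddSubmonoid ℤ)])
  have hb : lift u (toUnit T' ≫ η[AMonS S ↥(⊥ : AddSubmonoid ℤ)]) ≫ (subAct S ℤ ⊥).act =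
      toUnit T' ≫ η[AMonS S ↥(⊥ : AddSubmonoid ℤ)] := hom_AMonS_ext S _ _ _
  rw [← Category.assoc, hb] at h
  rw [← act_A1]
  have e : zeroPt S T' = (toUnit T' ≫ η[AMonS S ↥(⊥ : AddSubmonoid ℤ)]) ≫
      AMonS.faceMap S isFace_bot := by
    rw [Category.assoc]
    rfl
  rw [e]
  exact h.symm

end Origin

section Parabolic

variable (l : Red.Gm S ⟶ G) [IsMonHom l] (gam : 𝟙_ (Over S) ⟶ G) (f : A1 S ⟶ G)
  (hf : incl S ≫ f = l * cst gam (Red.Gm S) * l⁻¹)

include hf in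
theorem f_incl {T' : Over S} (c : T' ⟶ Red.Gm S) :
    (c ≫ incl S) ≫ f = (c ≫ l) * cst gam T' * (c ≫ l)⁻¹ := by
  rw [Category.assoc, hf, MonObj.comp_mul, MonObj.comp_mul, GrpObj.comp_inv, comp_cst]

include hf in
/-- `f(u · b) = l(u) f(b) l(u)⁻¹`. -/
theorem f_equivariant [IsSeparated G.hom] {T' : Over S} (u : T' ⟶ Red.Gm S) (b : T' ⟶ A1 S) :
    ((u ≫ incl S) * b) ≫ f = (u ≫ l) * (b ≫ f) * (u ≫ l)⁻¹ := by
  let F₁ : A1 S ⊗ Red.Gm S ⟶ G :=
    ((snd (A1 S) (Red.Gm S) ≫ incl S) * fst (A1 S) (Red.Gm S)) ≫ f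
  let F₂ : A1 S ⊗ Red.Gm S ⟶ G :=
    (snd (A1 S) (Red.Gm S) ≫ l) * (fst (A1 S) (Red.Gm S) ≫ f) * (snd (A1 S) (Red.Gm S) ≫ l)⁻¹
  have hF₁ : ∀ {T'' : Over S} (p : T'' ⟶ A1 S) (q : T'' ⟶ Red.Gm S),
      lift p q ≫ F₁ = ((q ≫ incl S) * p) ≫ f := by
    intro T'' p q
    change lift p q ≫ ((snd (A1 S) (Red.Gm S) ≫ incl S) * fst (A1 S) (Red.Gm S)) ≫ f = _
    rw [← Category.assoc, MonObj.comp_mul, lift_snd_assoc, lift_fst]
  have hF₂ : ∀ {T'' : Over S} (p : T'' ⟶ A1 S) (q : T'' ⟶ Red.Gm S),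
      lift p q ≫ F₂ = (q ≫ l) * (p ≫ f) * (q ≫ l)⁻¹ := by
    intro T'' p q
    change lift p q ≫ ((snd (A1 S) (Red.Gm S) ≫ l) * (fst (A1 S) (Red.Gm S) ≫ f) *
      (snd (A1 S) (Red.Gm S) ≫ l)⁻¹) = _
    rw [MonObj.comp_mul, MonObj.comp_mul, GrpObj.comp_inv, lift_snd_assoc, lift_fst_assoc]
  have hF : F₁ = F₂ := by
    refine Groth.Agent.Lib.T2H3.MagnetDom.ext_of_AMonS_map S plus.subtype
      (AddSubmonoid.subtype_injective plus) (Red.Gm S) F₁ F₂ ?_
    apply Magnet.hom_ext_lift₂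
    intro T'' c q
    rw [lift_whiskerRight_assoc, lift_whiskerRight_assoc]
    change lift (c ≫ incl S) q ≫ F₁ = lift (c ≫ incl S) q ≫ F₂
    rw [hF₁, hF₂, f_incl l gam f hf, ← MonObj.mul_comp, f_incl l gam f hf, MonObj.mul_comp]
    group
  rw [← hF₁ b u, ← hF₂ b u, hF]

include hf in
/-- the limit `gam₀ = f(0)` of `l(u) gam l(u)⁻¹` commutes with `l`. -/
theorem limit_commutes [IsSeparated G.hom] {T' : Over S} (u : T' ⟶ Red.Gm S) :
    (u ≫ l) * cst (origin S ≫ f) T' = cst (origin S ≫ f) T' * (u ≫ l) := by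
  have h := f_equivariant l gam f hf u (zeroPt S T')
  rw [smul_zeroPt] at h
  have e : zeroPt S T' ≫ f = cst (origin S ≫ f) T' := by
    rw [cst, zeroPt, Category.assoc]
  rw [e] at h
  calc (u ≫ l) * cst (origin S ≫ f) T'
      = ((u ≫ l) * cst (origin S ≫ f) T' * (u ≫ l)⁻¹) * (u ≫ l) := by group
    _ = cst (origin S ≫ f) T' * (u ≫ l) := by rw [← h]

include hf in
theorem unit_comp_f {T : Over S} : (toUnit T ≫ η[A1 S]) ≫ f = cst gam T := by
  have h1 : η[A1 S] = η[Red.Gm S] ≫ incl S := (IsMonHom.one_hom (f := incl S)).symm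
  have h2 := f_incl l gam f hf (toUnit T ≫ η[Red.Gm S])
  have h3 : (toUnit T ≫ η[Red.Gm S]) ≫ l = 1 := by
    rw [Category.assoc, IsMonHom.one_hom, ← Hom.one_def]
  rw [h3] at h2
  rw [h1, ← Category.assoc (toUnit T), h2]
  group

include hf in
/-- translating an attractor point by `f`. -/
theorem isLimitPt_parabolic [IsSeparated G.hom] {T : Over S} {x y : T ⟶ X}
    (h : IsLimitPt a l x y) :
    IsLimitPt a l (lift (cst gam T) x ≫ a.act) (lift (cst (origin S ≫ f) T) y ≫ a.act) := by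
  obtain ⟨φ, hx, hy⟩ := h
  have hx' : lift (toUnit T ≫ η[AMonS S ↥plus]) (𝟙 T) ≫ φ.1 = x := hx
  have hy' : lift (toUnit T ≫ origin S) (𝟙 T) ≫ φ.1 = y := by rw [← limitPt_eq]; exact hy
  have hmem : MonAct.IsEquivariant ((subAct S ℤ plus).prod (MonAct.trivial (Red.Gm S) T))
      (gmAct a l) (lift (fst (A1 S) T ≫ f) φ.1 ≫ a.act) := by
    rw [MonAct.mem_eqvHom_iff]
    intro T' g b t
    have hφ := (MonAct.mem_eqvHom_iff φ.1).mp φ.2 T' g b t
    rw [← Category.assoc, comp_lift, lift_fst_assoc, hφ, lift_gmAct, ← act_mul, act_A1,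
      f_equivariant l gam f hf, lift_gmAct, ← Category.assoc (lift b t), comp_lift,
      lift_fst_assoc, ← act_mul]
    congr 2
    group
  refine ⟨⟨lift (fst (A1 S) T ≫ f) φ.1 ≫ a.act, hmem⟩, ?_, ?_⟩
  · change lift (toUnit T ≫ η[AMonS S ↥plus]) (𝟙 T) ≫ lift (fst (A1 S) T ≫ f) φ.1 ≫ a.act = _
    rw [← Category.assoc, comp_lift, lift_fst_assoc, hx', unit_comp_f l gam f hf]
  · rw [limitPt_eq]
    change lift (toUnit T ≫ origin S) (𝟙 T) ≫ lift (fst (A1 S) T ≫ f) φ.1 ≫ a.act = _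
    rw [← Category.assoc, comp_lift, lift_fst_assoc, hy', cst, Category.assoc]

include hf in
/-- `μ(x, l) = m ⇒ μ(gam · x, l) = m` for `gam ∈ P(l)`. -/
theorem isMu_parabolic [IsSeparated G.hom] (B : GLinSh.LinBun G a)
    {T : Over S} (hT : ∀ p q : T.left, p = q) (p₀ : T.left) {x : T ⟶ X} {m : ℤ}
    (h : IsMu B l x m) : IsMu B l (lift (cst gam T) x ≫ a.act) m := by
  obtain ⟨y, hy, hw⟩ := h
  refine ⟨_, isLimitPt_parabolic a l gam f hf hy, ?_⟩
  exact hasFibreWt_conj l l (origin S ≫ f) B (fun T' g => limit_commutes l gam f hf g) hT p₀ hw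

end Parabolic

section Field

/-- `μ(x, l) = μ(x, g₀⁻¹ l g₀)` for `g₀ ∈ P(l)`, over a field. -/
theorem isMu_iff_isMu_conj_of_mem_parabolic (k : Type u) [Field k]
    (G X : Over (Spec (CommRingCat.of k))) [GrpObj G] [IsSeparated G.hom]
    (a : AlgGrp.Action G X) (B : GLinSh.LinBun G a) (x : 𝟙_ (Over (Spec (CommRingCat.of k))) ⟶ X)
    (l : Red.Gm (Spec (CommRingCat.of k)) ⟶ G) [IsMonHom l]
    (g₀ : 𝟙_ (Over (Spec (CommRingCat.of k))) ⟶ G)
    (hg₀ : ∃ f : HMNum.A1 (Spec (CommRingCat.of k)) ⟶ G,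
      HMNum.incl (Spec (CommRingCat.of k)) ≫ f = l * (toUnit _ ≫ g₀) * l⁻¹)
    (l' : Red.Gm (Spec (CommRingCat.of k)) ⟶ G) [IsMonHom l']
    (hl' : l' = (toUnit _ ≫ g₀)⁻¹ * l * (toUnit _ ≫ g₀))
    (m : ℤ) : HMNum.IsMu B l x m ↔ HMNum.IsMu B l' x m := by
  rw [← isMu_act_iff_isMu_conj k G X a B x l g₀ l' hl' m]
  have hT : ∀ p q : (𝟙_ (Over (Spec (CommRingCat.of k)))).left, p = q := by
    intro p q
    change (PrimeSpectrum k) at p q
    exact Subsingleton.elim p q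
  have p₀ : (𝟙_ (Over (Spec (CommRingCat.of k)))).left := by
    change PrimeSpectrum k
    exact default
  obtain ⟨f, hf⟩ := hg₀
  constructor
  · intro h
    have h1 := isMu_parabolic a l g₀ f hf B hT p₀ h
    rw [cst_unit] at h1
    exact h1
  · intro h
    have hf' : incl (Spec (CommRingCat.of k)) ≫ f⁻¹ =
        l * cst g₀⁻¹ (Red.Gm (Spec (CommRingCat.of k))) * l⁻¹ := by
      rw [GrpObj.comp_inv, hf, cst_inv]
      group
    have h1 := isMu_parabolic a l g₀⁻¹ f⁻¹ hf' B hT p₀ h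
    rw [cst_unit, ← act_mul, inv_mul_cancel, act_one] at h1
    exact h1

end Field

end Groth.Agent.Lib.T2H7.HMNumPar
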