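import Mathlib
import Groth.Prelude.Def_Smoothing
import Groth.Agent.Lib.T2H7JacCrit
import Groth.Agent.Lib.T2H7JacCritB

/-!
# Standard elements at smooth points (helper7)

Nakayama's lemma in tensor form, and: at a smooth point of a finitely presented algebra some of the
relations generate the relation ideal locally and have a Jacobian minor which does not vanish
at the point.
-/

set_option autoImplicit false
set_option linter.unusedSectionVars false

namespace Groth.Agent.Lib.T2H7.JacCritC

open Module TensorProduct KaehlerDifferential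

universe u

section Nak

variable {P' K V : Type u} [CommRing P'] [IsLocalRing P'] [Field K] [Algebra P' K]
  [AddCommGroup V] [Module P' V] [Module.Finite P' V]

lemma mem_smul_top_of_one_tmul_eq_zero (hK : Function.Surjective (algebraMap P' K)) (y : V)
    (hy : (1 : K) ⊗ₜ[P'] y = 0) :
    y ∈ (RingHom.ker (Algebra.ofId P' K) • ⊤ : Submodule P' V) := by
  let e : (P' ⧸ RingHom.ker (Algebra.ofId P' K)) ≃ₐ[P'] K :=
    Ideal.quotientKerAlgEquivOfSurjective (f := Algebra.ofId P' K) hK
  let Θ : K ⊗[P'] V ≃ₗ[P'] V ⧸ (RingHom.ker (Algebra.ofId P' K) • ⊤ : Submodule P' V) :=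
    (e.symm.toLinearEquiv.rTensor V).trans
      (TensorProduct.quotTensorEquivQuotSMul V (RingHom.ker (Algebra.ofId P' K)))
  have h1 : Θ ((1 : K) ⊗ₜ[P'] y) = Submodule.Quotient.mk y := by
    show TensorProduct.quotTensorEquivQuotSMul V _ ((e.symm.toLinearEquiv.rTensor V) (1 ⊗ₜ y)) = _
    rw [LinearEquiv.rTensor_tmul]
    have : e.symm.toLinearEquiv (1 : K) = 1 := map_one e.symm
    rw [this, TensorProduct.quotTensorEquivQuotSMul_mk_one_tmul]
  rw [hy, map_zero] at h1
  exact (Submodule.Quotient.mk_eq_zero _).mp h1.symm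

theorem span_eq_top_of_span_tmul_eq_top (hK : Function.Surjective (algebraMap P' K)) {c : ℕ}
    (v : Fin c → V)
    (h : Submodule.span K (Set.range fun i => (1 : K) ⊗ₜ[P'] v i) = ⊤) :
    Submodule.span P' (Set.range v) = ⊤ := by
  have hne : RingHom.ker (Algebra.ofId P' K) ≠ ⊤ := by
    intro htop
    have h1 : (1 : P') ∈ RingHom.ker (Algebra.ofId P' K) := htop ▸ Submodule.mem_top
    rw [RingHom.mem_ker, map_one] at h1
    exact one_ne_zero h1
  have hIJ : RingHom.ker (Algebra.ofId P' K) ≤ Ideal.jacobson ⊥ := by
    rw [IsLocalRing.jacobson_eq_maximalIdeal ⊥ bot_ne_top]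
    exact IsLocalRing.le_maximalIdeal hne
  rw [eq_top_iff]
  refine Submodule.le_of_le_smul_of_le_jacobson_bot (Module.Finite.fg_top) hIJ ?_
  intro x _
  have hx : (1 : K) ⊗ₜ[P'] x ∈ Submodule.span K (Set.range fun i => (1 : K) ⊗ₜ[P'] v i) := by
    rw [h]; exact Submodule.mem_top
  rw [Submodule.mem_span_range_iff_exists_fun] at hx
  obtain ⟨k, hk⟩ := hx
  choose p hp using fun i => hK (k i)
  have hy : (1 : K) ⊗ₜ[P'] (x - ∑ i, p i • v i) = 0 := by
    rw [TensorProduct.tmul_sub, TensorProduct.tmul_sum, ← hk, sub_eq_zero]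
    refine Finset.sum_congr rfl fun i _ => ?_
    have h4 : k i • ((1 : K) ⊗ₜ[P'] v i) = (k i) ⊗ₜ[P'] v i := by
      rw [TensorProduct.smul_tmul', smul_eq_mul, mul_one]
    have h5 : (1 : K) ⊗ₜ[P'] (p i • v i) = (k i) ⊗ₜ[P'] v i := by
      rw [TensorProduct.tmul_smul, TensorProduct.smul_tmul', Algebra.smul_def, mul_one, hp i]
    rw [h4, h5]
  have h2 := mem_smul_top_of_one_tmul_eq_zero hK _ hy
  have h3 : x = ∑ i, p i • v i + (x - ∑ i, p i • v i) := by abel
  rw [h3]
  refine Submodule.add_mem_sup ?_ h2
  exact Submodule.sum_mem _ fun i _ => Submodule.smul_mem _ _ (Submodule.subset_span ⟨i, rfl⟩)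

end Nak

section LocalM

open Groth.Agent.Lib.T2H7.JacCrit

variable {R P S K : Type u} [CommRing R] [CommRing P] [CommRing S] [Field K]
  [Algebra R P] [Algebra R S] [Algebra P S] [IsScalarTower R P S] [Algebra S K] [Algebra P K]
  [IsScalarTower P S K]
variable {m n : ℕ} (f : Fin m → P) (hf : Ideal.span (Set.range f) = RingHom.ker (algebraMap P S))
  (b : Basis (Fin n) P Ω[P⁄R])

include hf in
/-- at a smooth point, some of the relations generate the relation ideal and have a nonvanishing
Jacobian minor -/
theorem exists_rows_cols_of_formallySmooth [IsLocalRing S] [IsLocalRing P]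
    [Algebra.FormallySmooth R P]
    (h₁ : Function.Surjective (algebraMap P S))
    (h₃ : IsLocalRing.maximalIdeal S ≤ RingHom.ker (algebraMap S K))
    (hK : Function.Surjective (algebraMap P K))
    (hsm : Algebra.FormallySmooth R S) :
    ∃ (c : ℕ) (rows : Fin c ↪ Fin m) (cols : Fin c ↪ Fin n),
      Matrix.det (Matrix.of fun j k =>
        algebraMap P K (b.repr (D R P (f (rows j))) (cols k))) ≠ 0 ∧
      Ideal.span (Set.range (f ∘ rows)) = RingHom.ker (algebraMap P S) := by
  have : Module.Free P Ω[P⁄R] := Module.Free.of_basis b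
  have : Module.Finite P Ω[P⁄R] := Module.Finite.of_basis b
  have h₂ : (RingHom.ker (algebraMap P S)).FG := by
    rw [← hf]; exact Submodule.fg_span (Set.finite_range f)
  rw [Algebra.FormallySmooth.iff_injective_cotangentComplexBaseChange P K h₁ h₂ h₃] at hsm
  have hsp := span_gen (K := K) f hf
  obtain ⟨κ, a, ha, hsp', hli⟩ := exists_linearIndependent' K (gen (K := K) f hf)
  have : Finite κ := Finite.of_injective a ha
  cases nonempty_fintype κ
  let e : Fin (Fintype.card κ) ≃ κ := (Fintype.equivFin κ).symm
  let rows : Fin (Fintype.card κ) ↪ Fin m := ⟨a ∘ e, ha.comp e.injective⟩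
  have hli' : LinearIndependent K (gen (K := K) f hf ∘ rows) := hli.comp e e.injective
  have h1 : LinearIndependent K (cotangentComplexBaseChange R S P K ∘ (gen (K := K) f hf ∘ rows)) :=
    hli'.map' _ (LinearMap.ker_eq_bot.mpr hsm)
  have h2 := h1.map' (b.baseChange K).equivFun.toLinearMap (LinearEquiv.ker _)
  let M' : Matrix (Fin (Fintype.card κ)) (Fin n) K :=
    Matrix.of fun j k => algebraMap P K (b.repr (D R P (f (rows j))) k)
  have hM' : M'.row = ((b.baseChange K).equivFun.toLinearMap ∘
      (cotangentComplexBaseChange R S P K ∘ (gen (K := K) f hf ∘ rows))) :=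
    funext fun j => (equivFun_cotangentComplexBaseChange_gen (R := R) (K := K) f hf b (rows j)).symm
  have hrows : LinearIndependent K M'.row := by
    rw [hM']; exact h2
  obtain ⟨cols, hcols⟩ := (linearIndependent_row_iff_exists_minor M').mp hrows
  refine ⟨Fintype.card κ, rows, cols, hcols, ?_⟩
  -- Nakayama
  have hfin : Module.Finite P (RingHom.ker (algebraMap P S)) := Module.Finite.iff_fg.mpr h₂
  let v : Fin (Fintype.card κ) → RingHom.ker (algebraMap P S) :=
    fun j => ⟨f (rows j), f_mem f hf (rows j)⟩
  have hv : Submodule.span K (Set.range fun j => (1 : K) ⊗ₜ[P] v j) = ⊤ := by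
    have h5 : (fun j => (1 : K) ⊗ₜ[P] v j) = (gen (K := K) f hf ∘ a) ∘ e := rfl
    rw [h5, Set.range_comp, Equiv.range_eq_univ, Set.image_univ, hsp', hsp]
  have h6 := span_eq_top_of_span_tmul_eq_top (K := K) hK v hv
  have h7 := congrArg (Submodule.map (RingHom.ker (algebraMap P S)).subtype) h6
  rw [Submodule.map_span, Submodule.map_top, Submodule.range_subtype, ← Set.range_comp] at h7
  exact h7

end LocalM

section Inst

open MvPolynomial Groth.Agent.Lib.T2H7.JacCritB

variable {R A : Type u} [CommRing R] [CommRing A] [Algebra R A] {n m : ℕ}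
  (f : Fin m → MvPolynomial (Fin n) R) (φ : MvPolynomial (Fin n) R →ₐ[R] A)
  (hφ : Function.Surjective φ)
  (hker : RingHom.ker φ.toRingHom = Ideal.span (Set.range f)) (q : Ideal A) [q.IsPrime]

include hφ hker in
theorem exists_rows_cols (hsm : Algebra.IsSmoothAt R q) :
    ∃ (c : ℕ) (rows : Fin c ↪ Fin m) (cols : Fin c ↪ Fin n),
      φ (Smoothing.jacobianMinor f rows cols) ∉ q ∧
      ∃ a₀ : MvPolynomial (Fin n) R, φ a₀ ∉ q ∧
        ∀ ℓ, a₀ * f ℓ ∈ Ideal.span (Set.range (f ∘ rows)) := by
  let q' : Ideal (MvPolynomial (Fin n) R) := q.comap φ.toRingHom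
  let alg1 : Algebra (Localization.AtPrime q') (Localization.AtPrime q) :=
    (Localization.localRingHom q' q φ.toRingHom rfl).toAlgebra
  have halg : algebraMap (Localization.AtPrime q') (Localization.AtPrime q) =
      Localization.localRingHom q' q φ.toRingHom rfl := rfl
  have : IsScalarTower R (Localization.AtPrime q') (Localization.AtPrime q) := by
    refine IsScalarTower.of_algebraMap_eq fun r => ?_
    rw [IsScalarTower.algebraMap_apply R (MvPolynomial (Fin n) R) (Localization.AtPrime q'), halg,
      Localization.localRingHom_to_map]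
    show _ = algebraMap A (Localization.AtPrime q) (φ (algebraMap R _ r))
    rw [φ.commutes, ← IsScalarTower.algebraMap_apply]
  let alg2 : Algebra (Localization.AtPrime q') q.ResidueField :=
    ((algebraMap (Localization.AtPrime q) q.ResidueField).comp
      (algebraMap (Localization.AtPrime q') (Localization.AtPrime q))).toAlgebra
  have : IsScalarTower (Localization.AtPrime q') (Localization.AtPrime q) q.ResidueField :=
    IsScalarTower.of_algebraMap_eq' rfl
  have : Algebra.FormallySmooth (MvPolynomial (Fin n) R) (Localization.AtPrime q') :=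
    Algebra.FormallySmooth.of_isLocalization q'.primeCompl
  have : Algebra.FormallyEtale (MvPolynomial (Fin n) R) (Localization.AtPrime q') :=
    Algebra.FormallyEtale.of_isLocalization q'.primeCompl
  have : Algebra.FormallySmooth R (Localization.AtPrime q') :=
    Algebra.FormallySmooth.comp R (MvPolynomial (Fin n) R) (Localization.AtPrime q')
  let b' : Basis (Fin n) (Localization.AtPrime q') Ω[Localization.AtPrime q'⁄R] :=
    ((mvPolynomialBasis R (Fin n)).baseChange (Localization.AtPrime q')).map
      (tensorKaehlerEquivOfFormallyEtale R (MvPolynomial (Fin n) R) (Localization.AtPrime q'))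
  have hb' : ∀ (p : MvPolynomial (Fin n) R) (j : Fin n), b'.repr (D R (Localization.AtPrime q')
      (algebraMap (MvPolynomial (Fin n) R) (Localization.AtPrime q') p)) j =
      algebraMap (MvPolynomial (Fin n) R) (Localization.AtPrime q') (pderiv j p) := by
    intro p j
    show ((mvPolynomialBasis R (Fin n)).baseChange (Localization.AtPrime q')).repr
      ((tensorKaehlerEquivOfFormallyEtale R (MvPolynomial (Fin n) R)
        (Localization.AtPrime q')).symm _) j = _
    rw [tensorKaehlerEquivOfFormallyEtale_symm_D_algebraMap, Basis.baseChange_repr_tmul,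
      Algebra.smul_def, mul_one, mvPolynomialBasis_repr_apply]
  have h₁ : Function.Surjective (algebraMap (Localization.AtPrime q') (Localization.AtPrime q)) := by
    rw [halg]
    exact surjective_localRingHom φ.toRingHom hφ q
  have hf : Ideal.span (Set.range (fun i => algebraMap (MvPolynomial (Fin n) R)
      (Localization.AtPrime q') (f i))) =
      RingHom.ker (algebraMap (Localization.AtPrime q') (Localization.AtPrime q)) := by
    rw [halg, ker_localRingHom φ.toRingHom hφ q, hker, Ideal.map_span, ← Set.range_comp]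
    rfl
  have h₃ : IsLocalRing.maximalIdeal (Localization.AtPrime q) ≤
      RingHom.ker (algebraMap (Localization.AtPrime q) q.ResidueField) := by
    intro x hx
    rw [RingHom.mem_ker]
    exact (IsLocalRing.residue_eq_zero_iff x).mpr hx
  have hK : Function.Surjective (algebraMap (Localization.AtPrime q') q.ResidueField) :=
    (IsLocalRing.residue_surjective (R := Localization.AtPrime q)).comp h₁
  obtain ⟨c, rows, cols, hdet, hspan⟩ := exists_rows_cols_of_formallySmooth (R := R)
    (P := Localization.AtPrime q') (S := Localization.AtPrime q) (K := q.ResidueField)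
    (fun i => algebraMap (MvPolynomial (Fin n) R) (Localization.AtPrime q') (f i)) hf b' h₁ h₃ hK
    hsm
  refine ⟨c, rows, cols, ?_, ?_⟩
  · let χ : MvPolynomial (Fin n) R →+* q.ResidueField :=
      (algebraMap A q.ResidueField).comp φ.toRingHom
    have h2 : Matrix.det (Matrix.of fun j k => algebraMap (Localization.AtPrime q') q.ResidueField
        (b'.repr (D R (Localization.AtPrime q') (algebraMap (MvPolynomial (Fin n) R)
          (Localization.AtPrime q') (f (rows j)))) (cols k))) =
        χ (Smoothing.jacobianMinor f rows cols) := by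
      unfold Smoothing.jacobianMinor
      rw [RingHom.map_det]
      congr 1
      ext j k
      rw [Matrix.of_apply, hb']
      show algebraMap (Localization.AtPrime q) q.ResidueField
        (algebraMap (Localization.AtPrime q') (Localization.AtPrime q) (algebraMap _ _ _)) = _
      rw [halg, Localization.localRingHom_to_map, ← IsScalarTower.algebraMap_apply]
      rfl
    rw [h2] at hdet
    intro hmem
    apply hdet
    show algebraMap A q.ResidueField (φ _) = 0
    rw [Ideal.algebraMap_residueField_eq_zero]
    exact hmem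
  · have hmem : ∀ ℓ, ∃ s ∈ q'.primeCompl, s * f ℓ ∈ Ideal.span (Set.range (f ∘ rows)) := by
      intro ℓ
      rw [← IsLocalization.algebraMap_mem_map_algebraMap_iff q'.primeCompl
        (Localization.AtPrime q'), Ideal.map_span, ← Set.range_comp]
      have h3 : algebraMap (MvPolynomial (Fin n) R) (Localization.AtPrime q') (f ℓ) ∈
          RingHom.ker (algebraMap (Localization.AtPrime q') (Localization.AtPrime q)) := by
        rw [← hf]
        exact Ideal.subset_span ⟨ℓ, rfl⟩
      rw [← hspan] at h3
      exact h3
    choose s hs hs' using hmem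
    refine ⟨∏ ℓ, s ℓ, ?_, fun ℓ => ?_⟩
    · have h4 : ∏ ℓ, s ℓ ∈ q'.primeCompl := prod_mem fun ℓ _ => hs ℓ
      exact h4
    · rw [← Finset.mul_prod_erase Finset.univ s (Finset.mem_univ ℓ), mul_comm (s ℓ), mul_assoc]
      exact Ideal.mul_mem_left _ _ (hs' ℓ)

end Inst

end Groth.Agent.Lib.T2H7.JacCritC
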