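import Mathlib
import Groth.Prelude.Def_Smoothing
import Groth.Agent.Lib.T2H7JacCritC

/-!
# Standard elements and the singular ideal (helper7)

`isSmoothAt_of_isStrictlyStandard`: a prime not containing a strictly standard element is a
smooth point. `exists_isElementaryStandard_not_mem`: at a smooth point of a finitely presented
algebra some elementary standard element does not vanish. `singularIdeal_eq`: the singular ideal
is the radical of the ideal of strictly (or elementary) standard elements.
-/

set_option autoImplicit false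
set_option linter.unusedSectionVars false

namespace Groth.Agent.Lib.T2H7.StdElt

open Module TensorProduct KaehlerDifferential

universe u

section LocalL

open Groth.Agent.Lib.T2H7.JacCrit

variable {R P S K : Type u} [CommRing R] [CommRing P] [CommRing S] [Field K]
  [Algebra R P] [Algebra R S] [Algebra P S] [IsScalarTower R P S] [Algebra S K] [Algebra P K]
  [IsScalarTower P S K]
variable {c n : ℕ} (f : Fin c → P) (hf : Ideal.span (Set.range f) = RingHom.ker (algebraMap P S))
  (b : Basis (Fin n) P Ω[P⁄R])

include hf in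
/-- the sufficient half of the Jacobian criterion needs no regularity -/
theorem formallySmooth_of_linearIndependent_jac [IsLocalRing S] [Algebra.FormallySmooth R P]
    (h₁ : Function.Surjective (algebraMap P S))
    (h₃ : IsLocalRing.maximalIdeal S ≤ RingHom.ker (algebraMap S K))
    (hrows : LinearIndependent K (jac (K := K) f b)) :
    Algebra.FormallySmooth R S := by
  have : Module.Free P Ω[P⁄R] := Module.Free.of_basis b
  have : Module.Finite P Ω[P⁄R] := Module.Finite.of_basis b
  have h₂ : (RingHom.ker (algebraMap P S)).FG := by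
    rw [← hf]; exact Submodule.fg_span (Set.finite_range f)
  rw [Algebra.FormallySmooth.iff_injective_cotangentComplexBaseChange P K h₁ h₂ h₃]
  have hT := equivFun_cotangentComplexBaseChange_gen (R := R) (K := K) f hf b
  have hsp := span_gen (K := K) f hf
  have h1 : LinearIndependent K (cotangentComplexBaseChange R S P K ∘ gen (K := K) f hf) := by
    apply LinearIndependent.of_comp (b.baseChange K).equivFun.toLinearMap
    have h6 : ((b.baseChange K).equivFun.toLinearMap ∘
        (cotangentComplexBaseChange R S P K ∘ gen (K := K) f hf)) = jac (K := K) f b :=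
      funext fun i => hT i
    rw [h6]
    exact hrows
  have hli : LinearIndependent K (gen (K := K) f hf) :=
    LinearIndependent.of_comp (cotangentComplexBaseChange R S P K) h1
  let B := Basis.mk hli hsp.ge
  rw [← LinearMap.ker_eq_bot, LinearMap.ker_eq_bot']
  intro x hx
  have hx' : x = ∑ i, B.repr x i • gen (K := K) f hf i := by
    conv_lhs => rw [← B.sum_repr x]
    refine Finset.sum_congr rfl fun i _ => ?_
    rw [Basis.mk_apply]
  rw [hx', map_sum] at hx
  simp only [map_smul] at hx
  have h5 := (Fintype.linearIndependent_iff.mp h1) (fun i => B.repr x i) hx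
  rw [hx']
  refine Finset.sum_eq_zero fun i _ => ?_
  rw [h5 i, zero_smul]

end LocalL

lemma linearIndependent_row_of_minor {K : Type*} [Field K] {c n : ℕ}
    (M : Matrix (Fin c) (Fin n) K) (I : Fin c → Fin n) (hI : (M.submatrix id I).det ≠ 0) :
    LinearIndependent K M.row := by
  have hu : IsUnit (M.submatrix id I) :=
    (Matrix.isUnit_iff_isUnit_det _).mpr (isUnit_iff_ne_zero.mpr hI)
  have hrows := Matrix.linearIndependent_rows_iff_isUnit.mpr hu
  exact LinearIndependent.of_comp (LinearMap.funLeft K K I) hrows

section InstA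

open MvPolynomial Groth.Agent.Lib.T2H7.JacCritB Groth.Agent.Lib.T2H7.JacCrit

variable {R A : Type u} [CommRing R] [CommRing A] [Algebra R A] {n c : ℕ}
  (g : Fin c → MvPolynomial (Fin n) R) (cols : Fin c → Fin n)
  (φ : MvPolynomial (Fin n) R →ₐ[R] A) (hφ : Function.Surjective φ) (q : Ideal A) [q.IsPrime]

include hφ in
/-- if some relations generate the relation ideal at `q` and one of their Jacobian minors does not
vanish at `q`, then `q` is a smooth point -/
theorem isSmoothAt_of_minor_not_mem
    (hgen : (Ideal.span (Set.range g)).map (algebraMap (MvPolynomial (Fin n) R)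
        (Localization.AtPrime (q.comap φ.toRingHom))) =
      (RingHom.ker φ.toRingHom).map (algebraMap (MvPolynomial (Fin n) R)
        (Localization.AtPrime (q.comap φ.toRingHom))))
    (hmin : φ (Matrix.det (Matrix.of fun j k => pderiv (cols k) (g j))) ∉ q) :
    Algebra.IsSmoothAt R q := by
  let q' : Ideal (MvPolynomial (Fin n) R) := q.comap φ.toRingHom
  let alg1 : Algebra (Localization.AtPrime q') (Localization.AtPrime q) :=
    (Localization.localRingHom q' q φ.toRingHom rfl).toAlgebra
  have halg : algebraMap (Localization.AtPrime q') (Localization.AtPrime q) =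
      Localization.localRingHom q' q φ.toRingHom rfl := rfl
  have : IsScalarTower R (Localization.AtPrime q') (Localization.AtPrime q) := by
    refine IsScalarTower.of_algebraMap_eq fun r => ?_
    rw [IsScalarTower.algebraMap_apply R (MvPolynomial (Fin n) R) (Localization.AtPrime q'), halg,
      Localization.localRingHom_to_map]
    show _ = algebraMap A (Localization.AtPrime q) (φ (algebraMap R _ r))
    rw [φ.commutes, ← IsScalarTower.algebraMap_apply]
  let alg2 : Algebra (Localization.AtPrime q') q.ResidueField :=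
    ((algebraMap (Localization.AtPrime q) q.ResidueField).comp
      (algebraMap (Localization.AtPrime q') (Localization.AtPrime q))).toAlgebra
  have : IsScalarTower (Localization.AtPrime q') (Localization.AtPrime q) q.ResidueField :=
    IsScalarTower.of_algebraMap_eq' rfl
  have : Algebra.FormallySmooth (MvPolynomial (Fin n) R) (Localization.AtPrime q') :=
    Algebra.FormallySmooth.of_isLocalization q'.primeCompl
  have : Algebra.FormallyEtale (MvPolynomial (Fin n) R) (Localization.AtPrime q') :=
    Algebra.FormallyEtale.of_isLocalization q'.primeCompl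
  have : Algebra.FormallySmooth R (Localization.AtPrime q') :=
    Algebra.FormallySmooth.comp R (MvPolynomial (Fin n) R) (Localization.AtPrime q')
  let b' : Basis (Fin n) (Localization.AtPrime q') Ω[Localization.AtPrime q'⁄R] :=
    ((mvPolynomialBasis R (Fin n)).baseChange (Localization.AtPrime q')).map
      (tensorKaehlerEquivOfFormallyEtale R (MvPolynomial (Fin n) R) (Localization.AtPrime q'))
  have hb' : ∀ (p : MvPolynomial (Fin n) R) (j : Fin n), b'.repr (D R (Localization.AtPrime q')
      (algebraMap (MvPolynomial (Fin n) R) (Localization.AtPrime q') p)) j =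
      algebraMap (MvPolynomial (Fin n) R) (Localization.AtPrime q') (pderiv j p) := by
    intro p j
    show ((mvPolynomialBasis R (Fin n)).baseChange (Localization.AtPrime q')).repr
      ((tensorKaehlerEquivOfFormallyEtale R (MvPolynomial (Fin n) R)
        (Localization.AtPrime q')).symm _) j = _
    rw [tensorKaehlerEquivOfFormallyEtale_symm_D_algebraMap, Basis.baseChange_repr_tmul,
      Algebra.smul_def, mul_one, mvPolynomialBasis_repr_apply]
  have h₁ : Function.Surjective (algebraMap (Localization.AtPrime q') (Localization.AtPrime q)) := by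
    rw [halg]
    exact surjective_localRingHom φ.toRingHom hφ q
  have hf : Ideal.span (Set.range (fun i => algebraMap (MvPolynomial (Fin n) R)
      (Localization.AtPrime q') (g i))) =
      RingHom.ker (algebraMap (Localization.AtPrime q') (Localization.AtPrime q)) := by
    rw [halg, ker_localRingHom φ.toRingHom hφ q, ← hgen, Ideal.map_span, ← Set.range_comp]
    rfl
  have h₃ : IsLocalRing.maximalIdeal (Localization.AtPrime q) ≤
      RingHom.ker (algebraMap (Localization.AtPrime q) q.ResidueField) := by
    intro x hx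
    rw [RingHom.mem_ker]
    exact (IsLocalRing.residue_eq_zero_iff x).mpr hx
  refine formallySmooth_of_linearIndependent_jac (R := R)
    (P := Localization.AtPrime q') (S := Localization.AtPrime q) (K := q.ResidueField)
    (fun i => algebraMap (MvPolynomial (Fin n) R) (Localization.AtPrime q') (g i)) hf b' h₁ h₃ ?_
  let M' : Matrix (Fin c) (Fin n) q.ResidueField :=
    Matrix.of fun j k => algebraMap (Localization.AtPrime q') q.ResidueField
      (b'.repr (D R (Localization.AtPrime q') (algebraMap (MvPolynomial (Fin n) R)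
        (Localization.AtPrime q') (g j))) k)
  show LinearIndependent q.ResidueField M'.row
  apply linearIndependent_row_of_minor M' cols
  let χ : MvPolynomial (Fin n) R →+* q.ResidueField :=
    (algebraMap A q.ResidueField).comp φ.toRingHom
  have h2 : (M'.submatrix id cols).det =
      χ (Matrix.det (Matrix.of fun j k => pderiv (cols k) (g j))) := by
    rw [RingHom.map_det]
    congr 1
    ext j k
    show algebraMap (Localization.AtPrime q') q.ResidueField (b'.repr _ (cols k)) = _
    rw [hb']
    show algebraMap (Localization.AtPrime q) q.ResidueField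
      (algebraMap (Localization.AtPrime q') (Localization.AtPrime q) (algebraMap _ _ _)) = _
    rw [halg, Localization.localRingHom_to_map, ← IsScalarTower.algebraMap_apply]
    rfl
  rw [h2]
  intro h0
  apply hmin
  rw [← Ideal.algebraMap_residueField_eq_zero]
  exact h0

end InstA

section PartA

open MvPolynomial

variable {R A : Type u} [CommRing R] [CommRing A] [Algebra R A]

/-- a strictly standard element is invertible only at smooth points -/
theorem isSmoothAt_of_isStrictlyStandard (a : A) (ha : Smoothing.IsStrictlyStandard R A a)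
    (q : Ideal A) [q.IsPrime] (haq : a ∉ q) : Algebra.IsSmoothAt R q := by
  obtain ⟨Pm, hspan, hkill⟩ := ha
  have hex : ∃ cols : Fin Pm.c → Fin Pm.n,
      Pm.hom (Smoothing.jacobianMinor Pm.rel (Fin.castLE Pm.hcm) cols) ∉ q := by
    by_contra hcon
    have hall : ∀ cols : Fin Pm.c → Fin Pm.n,
        Pm.hom (Smoothing.jacobianMinor Pm.rel (Fin.castLE Pm.hcm) cols) ∈ q :=
      fun cols => by_contra fun h => hcon ⟨cols, h⟩
    refine haq (Ideal.span_le.mpr ?_ hspan)
    rintro _ ⟨cols, rfl⟩
    exact hall cols
  obtain ⟨cols, hcols⟩ := hex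
  let g : Fin Pm.c → MvPolynomial (Fin Pm.n) R := Pm.rel ∘ Fin.castLE Pm.hcm
  have hg_le : Ideal.span (Set.range g) ≤ RingHom.ker Pm.hom.toRingHom := by
    rw [Pm.ker_eq]
    exact Ideal.span_mono (Set.range_comp_subset_range _ _)
  have hkerq : RingHom.ker Pm.hom.toRingHom ≤ q.comap Pm.hom.toRingHom := by
    intro x hx
    rw [Ideal.mem_comap, (RingHom.mem_ker).mp hx]
    exact q.zero_mem
  refine isSmoothAt_of_minor_not_mem g cols Pm.hom Pm.surj q ?_ hcols
  apply le_antisymm (Ideal.map_mono hg_le)
  obtain ⟨a', ha'⟩ := Pm.surj a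
  have ha'q : a' ∈ (q.comap Pm.hom.toRingHom).primeCompl := by
    show a' ∉ q.comap Pm.hom.toRingHom
    rw [Ideal.mem_comap]
    show Pm.hom a' ∉ q
    rw [ha']
    exact haq
  have hu : IsUnit (algebraMap (MvPolynomial (Fin Pm.n) R)
      (Localization.AtPrime (q.comap Pm.hom.toRingHom)) a') :=
    IsLocalization.map_units _ (⟨a', ha'q⟩ : (q.comap Pm.hom.toRingHom).primeCompl)
  have hfg : ((RingHom.ker Pm.hom.toRingHom).map (algebraMap (MvPolynomial (Fin Pm.n) R)
      (Localization.AtPrime (q.comap Pm.hom.toRingHom)))).FG := by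
    apply Ideal.FG.map
    rw [Pm.ker_eq]
    exact Submodule.fg_span (Set.finite_range _)
  have hjac : (RingHom.ker Pm.hom.toRingHom).map (algebraMap (MvPolynomial (Fin Pm.n) R)
      (Localization.AtPrime (q.comap Pm.hom.toRingHom))) ≤ Ideal.jacobson ⊥ := by
    rw [IsLocalRing.jacobson_eq_maximalIdeal ⊥ bot_ne_top, Ideal.map_le_iff_le_comap]
    refine le_trans hkerq (le_of_eq ?_)
    exact (IsLocalization.AtPrime.under_maximalIdeal
      (Localization.AtPrime (q.comap Pm.hom.toRingHom)) (q.comap Pm.hom.toRingHom)).symm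
  refine Submodule.le_of_le_smul_of_le_jacobson_bot hfg hjac ?_
  rw [Pm.ker_eq, Ideal.map_span, Ideal.span_le]
  rintro _ ⟨_, ⟨j, rfl⟩, rfl⟩
  by_cases hj : (j : ℕ) < Pm.c
  · refine Ideal.mem_sup_left ?_
    apply Ideal.mem_map_of_mem
    exact Ideal.subset_span ⟨⟨j, hj⟩, by simp [g, Fin.castLE]⟩
  · have h1 := hkill a' ha' j (not_lt.mp hj)
    have h2 := Ideal.mem_map_of_mem (algebraMap (MvPolynomial (Fin Pm.n) R)
      (Localization.AtPrime (q.comap Pm.hom.toRingHom))) h1
    rw [Ideal.map_sup, Ideal.map_pow, pow_two, map_mul] at h2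
    have h3 : Ideal.span (Pm.rel '' {j' : Fin Pm.m | (j' : ℕ) < Pm.c}) ≤ Ideal.span (Set.range g) := by
      apply Ideal.span_mono
      rintro _ ⟨j', hj', rfl⟩
      exact ⟨⟨j', hj'⟩, by simp [g, Fin.castLE]⟩
    have h4 := sup_le_sup_right (Ideal.map_mono (f := algebraMap (MvPolynomial (Fin Pm.n) R)
      (Localization.AtPrime (q.comap Pm.hom.toRingHom))) h3)
      (Ideal.map (algebraMap (MvPolynomial (Fin Pm.n) R)
        (Localization.AtPrime (q.comap Pm.hom.toRingHom))) (Ideal.span (Set.range Pm.rel)) *
       Ideal.map (algebraMap (MvPolynomial (Fin Pm.n) R)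
        (Localization.AtPrime (q.comap Pm.hom.toRingHom))) (Ideal.span (Set.range Pm.rel)))
    have h5 := h4 h2
    obtain ⟨v, hv⟩ := hu.exists_left_inv
    have h6 := Ideal.mul_mem_left _ v h5
    rw [← mul_assoc, hv, one_mul, Ideal.map_span _ (Set.range Pm.rel)] at h6
    rw [smul_eq_mul]
    exact h6

end PartA

section PartB

open MvPolynomial

lemma exists_perm_extending {α β : Type*} [Fintype β] (e₁ e₂ : α ↪ β) :
    ∃ σ : Equiv.Perm β, ∀ i, σ (e₁ i) = e₂ i := by
  classical
  let E : {x // x ∈ Set.range e₁} ≃ {x // x ∈ Set.range e₂} :=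
    (Equiv.ofInjective e₁ e₁.injective).symm.trans (Equiv.ofInjective e₂ e₂.injective)
  refine ⟨E.extendSubtype, fun i => ?_⟩
  rw [Equiv.extendSubtype_apply_of_mem E (e₁ i) ⟨i, rfl⟩]
  show ((Equiv.ofInjective e₂ e₂.injective)
    ((Equiv.ofInjective e₁ e₁.injective).symm ⟨e₁ i, ⟨i, rfl⟩⟩) : β) = e₂ i
  have h1 : (Equiv.ofInjective e₁ e₁.injective).symm ⟨e₁ i, ⟨i, rfl⟩⟩ = i :=
    Equiv.ofInjective_symm_apply e₁.injective i
  rw [h1]
  rfl

variable {R A : Type u} [CommRing R] [CommRing A] [Algebra R A] {n m : ℕ}
  (f : Fin m → MvPolynomial (Fin n) R) (φ : MvPolynomial (Fin n) R →ₐ[R] A)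
  (hφ : Function.Surjective φ) (hker : RingHom.ker φ.toRingHom = Ideal.span (Set.range f))

include hφ hker in
/-- reordering relations and variables turns a standard element into an elementary standard one -/
theorem isElementaryStandard_of_data {c : ℕ} (rows : Fin c ↪ Fin m) (cols : Fin c ↪ Fin n)
    (a a' : A) (ha : a = a' * φ (Smoothing.jacobianMinor f rows cols))
    (hkill : ∀ a₁, φ a₁ = a → ∀ ℓ, a₁ * f ℓ ∈
      Ideal.span (Set.range (f ∘ rows)) ⊔ Ideal.span (Set.range f) ^ 2) :
    Smoothing.IsElementaryStandard R A a := by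
  have hcm : c ≤ m := by simpa using Fintype.card_le_of_embedding rows
  have hcn : c ≤ n := by simpa using Fintype.card_le_of_embedding cols
  obtain ⟨σ, hσ⟩ := exists_perm_extending (Fin.castLEEmb hcm) rows
  obtain ⟨τ, hτ⟩ := exists_perm_extending (Fin.castLEEmb hcn) cols
  let ρ : MvPolynomial (Fin n) R ≃ₐ[R] MvPolynomial (Fin n) R := renameEquiv R τ
  let rel' : Fin m → MvPolynomial (Fin n) R := fun j => ρ.symm (f (σ j))
  have hmapJ : (Ideal.span (Set.range rel')).map ρ = Ideal.span (Set.range f) := by
    rw [Ideal.map_span, ← Set.range_comp]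
    have h1 : (⇑ρ ∘ rel') = f ∘ σ := by
      funext j
      show ρ (ρ.symm (f (σ j))) = f (σ j)
      exact ρ.apply_symm_apply _
    rw [h1, σ.surjective.range_comp]
  have hmapJ' : (Ideal.span (Set.range f)).map ρ.symm = Ideal.span (Set.range rel') := by
    rw [Ideal.map_span, ← Set.range_comp]
    have h1 : (⇑ρ.symm ∘ f) ∘ σ = rel' := rfl
    rw [← h1, σ.surjective.range_comp]
  let Pm : Smoothing.MarkedPresentation R A :=
    { n := n
      m := m
      c := c
      hcn := hcn
      hcm := hcm
      rel := rel'
      hom := φ.comp ρ.toAlgHom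
      surj := hφ.comp ρ.surjective
      ker_eq := by
        ext x
        have hk : x ∈ RingHom.ker (φ.comp ρ.toAlgHom).toRingHom ↔
            ρ x ∈ RingHom.ker φ.toRingHom := Iff.rfl
        rw [hk, hker, ← hmapJ, Ideal.mem_map_of_equiv]
        constructor
        · rintro ⟨y, hy, hxy⟩
          rwa [← ρ.injective hxy]
        · intro hx
          exact ⟨x, hx, rfl⟩ }
  refine ⟨Pm, ⟨a', ?_⟩, ?_⟩
  · rw [ha]
    congr 1
    show φ _ = φ (ρ (Smoothing.jacobianMinor rel' (Fin.castLE hcm) (Fin.castLE hcn)))
    congr 1
    unfold Smoothing.jacobianMinor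
    rw [AlgEquiv.map_det]
    congr 1
    refine Matrix.ext fun j k => ?_
    show pderiv (cols k) (f (rows j)) = ρ (pderiv (Fin.castLE hcn k) (ρ.symm (f (σ (Fin.castLE hcm j)))))
    have h1 : σ (Fin.castLE hcm j) = rows j := hσ j
    have h2 : Fin.castLE hcn k = τ.symm (cols k) := by
      rw [Equiv.eq_symm_apply]
      exact hτ k
    have h3 : ρ.symm (f (rows j)) = rename τ.symm (f (rows j)) := rfl
    rw [h1, h2, h3, pderiv_rename τ.symm.injective]
    show _ = ρ (ρ.symm _)
    rw [ρ.apply_symm_apply]
  · intro a'' ha'' j hj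
    have h1 := hkill (ρ a'') ha'' (σ j)
    have h2 := Ideal.mem_map_of_mem ρ.symm h1
    rw [Ideal.map_sup, Ideal.map_pow, hmapJ', map_mul] at h2
    have h3 : ρ.symm (ρ a'') = a'' := ρ.symm_apply_apply a''
    rw [h3] at h2
    have h4 : Ideal.map ρ.symm (Ideal.span (Set.range (f ∘ rows))) ≤
        Ideal.span (rel' '' {j' : Fin m | (j' : ℕ) < c}) := by
      rw [Ideal.map_span, ← Set.range_comp]
      apply Ideal.span_mono
      rintro _ ⟨i, rfl⟩
      refine ⟨Fin.castLE hcm i, ?_, ?_⟩
      · show ((Fin.castLE hcm i : Fin m) : ℕ) < c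
        simp
      · show ρ.symm (f (σ (Fin.castLE hcm i))) = ρ.symm (f (rows i))
        rw [show σ (Fin.castLE hcm i) = rows i from hσ i]
    exact (sup_le_sup_right h4 _) h2

end PartB

section Final

open MvPolynomial

variable {R A : Type u} [CommRing R] [CommRing A] [Algebra R A]

lemma isStrictlyStandard_of_isElementaryStandard (a : A)
    (h : Smoothing.IsElementaryStandard R A a) : Smoothing.IsStrictlyStandard R A a := by
  obtain ⟨Pm, ⟨a', ha'⟩, hk⟩ := h
  refine ⟨Pm, ?_, hk⟩
  rw [ha']
  exact Ideal.mul_mem_left _ _ (Ideal.subset_span ⟨Fin.castLE Pm.hcn, rfl⟩)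

/-- at a smooth point of a finitely presented algebra some elementary standard element does not
vanish -/
theorem exists_isElementaryStandard_not_mem [Algebra.FinitePresentation R A] (q : Ideal A)
    [q.IsPrime] (hsm : Algebra.IsSmoothAt R q) :
    ∃ a : A, Smoothing.IsElementaryStandard R A a ∧ a ∉ q := by
  obtain ⟨n, φ, hφ, hfg⟩ := Algebra.FinitePresentation.out (R := R) (A := A)
  obtain ⟨m, f, hf⟩ := Submodule.fg_iff_exists_fin_generating_family.mp hfg
  have hker : RingHom.ker φ.toRingHom = Ideal.span (Set.range f) := hf.symm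
  obtain ⟨c, rows, cols, hmin, a₀, ha₀, hgen⟩ :=
    Groth.Agent.Lib.T2H7.JacCritC.exists_rows_cols f φ hφ hker q hsm
  refine ⟨φ a₀ * φ (Smoothing.jacobianMinor f rows cols), ?_, ?_⟩
  · refine isElementaryStandard_of_data f φ hφ hker rows cols _ (φ a₀) rfl ?_
    intro a₁ ha₁ ℓ
    have h1 : a₁ - a₀ * Smoothing.jacobianMinor f rows cols ∈ Ideal.span (Set.range f) := by
      rw [← hker, RingHom.mem_ker]
      show φ (a₁ - a₀ * Smoothing.jacobianMinor f rows cols) = 0
      rw [map_sub, map_mul, ha₁, sub_self]
    have h2 : a₁ * f ℓ = (a₁ - a₀ * Smoothing.jacobianMinor f rows cols) * f ℓ +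
        Smoothing.jacobianMinor f rows cols * (a₀ * f ℓ) := by ring
    rw [h2]
    refine Ideal.add_mem _ (Ideal.mem_sup_right ?_) (Ideal.mem_sup_left ?_)
    · rw [pow_two]
      exact Ideal.mul_mem_mul h1 (Ideal.subset_span ⟨ℓ, rfl⟩)
    · exact Ideal.mul_mem_left _ _ (hgen ℓ)
  · intro h
    rcases Ideal.IsPrime.mem_or_mem inferInstance h with h | h
    · exact ha₀ h
    · exact hmin h

theorem singularIdeal_eq [Algebra.FinitePresentation R A] :
    Smoothing.singularIdeal R A =
        (Ideal.span {a : A | Smoothing.IsStrictlyStandard R A a}).radical ∧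
      Smoothing.singularIdeal R A =
        (Ideal.span {a : A | Smoothing.IsElementaryStandard R A a}).radical := by
  have h1 : (Ideal.span {a : A | Smoothing.IsStrictlyStandard R A a}).radical ≤
      Smoothing.singularIdeal R A := by
    intro x hx
    unfold Smoothing.singularIdeal
    rw [PrimeSpectrum.mem_vanishingIdeal]
    intro p hp
    have hle : Ideal.span {a : A | Smoothing.IsStrictlyStandard R A a} ≤ p.asIdeal := by
      rw [Ideal.span_le]
      intro a ha
      by_contra hap
      exact hp (isSmoothAt_of_isStrictlyStandard a ha p.asIdeal hap)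
    exact (Ideal.IsPrime.radical_le_iff p.2).mpr hle hx
  have h2 : Smoothing.singularIdeal R A ≤
      (Ideal.span {a : A | Smoothing.IsElementaryStandard R A a}).radical := by
    intro x hx
    unfold Smoothing.singularIdeal at hx
    rw [PrimeSpectrum.mem_vanishingIdeal] at hx
    rw [Ideal.radical_eq_sInf, Ideal.mem_sInf]
    rintro q ⟨hJq, hq⟩
    by_contra hxq
    have hsm : Algebra.IsSmoothAt R q := by
      by_contra hns
      exact hxq (hx ⟨q, hq⟩ hns)
    obtain ⟨a, ha, haq⟩ := exists_isElementaryStandard_not_mem q hsm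
    exact haq (hJq (Ideal.subset_span ha))
  have h3 : (Ideal.span {a : A | Smoothing.IsElementaryStandard R A a}).radical ≤
      (Ideal.span {a : A | Smoothing.IsStrictlyStandard R A a}).radical :=
    Ideal.radical_mono (Ideal.span_mono fun a ha => isStrictlyStandard_of_isElementaryStandard a ha)
  exact ⟨le_antisymm (h2.trans h3) h1, le_antisymm h2 (h3.trans h1)⟩

end Final

end Groth.Agent.Lib.T2H7.StdElt
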