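import Groth.Prelude
import Groth.Agent.S15821
import Groth.Agent.Lib.T2H7JacCrit
import Groth.Agent.Lib.T2H7JacCritB
import Groth.Agent.Lib.T2H7StdElt
import Mathlib

/-!
# Singular locus of a hypersurface in a smooth algebra (helper7)

For `A → B` formally smooth, `g : B` a nonzerodivisor, `R = B/(g)` and a prime `q` of `R`:
* `isSmoothAt_iff_exists_coord`: `R` is smooth at `q` iff some coordinate of `dg` (in a basis of
  the differentials of the local ring of `B` below `q`) is nonzero in the residue field of `q`;
* `annihilator_le_of_coord_eq_zero`: if all coordinates vanish then `Ann ⋀^n Ω[R⁄A] ≤ q`;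
* `exists_mem_annihilator_not_mem`: if some coordinate does not vanish then `Ann ⋀^n Ω[R⁄A] ⊄ q`;
* `nonempty_basis`: a basis of the differentials of the local ring from the rank hypothesis.
General lemmas: `annihilator_le_ker`, `pow_mem_annihilator_extPow`.
-/

set_option autoImplicit false

namespace Groth.Agent.Lib.T2H7.HypSing

open Module TensorProduct KaehlerDifferential

universe u

section Alt

variable {R K M : Type u} [CommRing R] [Field K] [Algebra R K] [AddCommGroup M] [Module R M]
  {n : ℕ}

/-- the alternating map `x ↦ det (θ (x i) j)` -/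
noncomputable def detAlt (θ : M →ₗ[R] (Fin n → K)) : M [⋀^Fin n]→ₗ[R] K where
  toMultilinearMap :=
    ((Matrix.detRowAlternating (n := Fin n) (R := K)).toMultilinearMap.restrictScalars R).compLinearMap
      (fun _ => θ)
  map_eq_zero_of_eq' := by
    intro v i j h hij
    exact (Matrix.detRowAlternating (n := Fin n) (R := K)).map_eq_zero_of_eq (fun k => θ (v k))
      (congrArg θ h) hij

lemma detAlt_apply (θ : M →ₗ[R] (Fin n → K)) (x : Fin n → M) :
    detAlt θ x = Matrix.det (Matrix.of fun i j => θ (x i) j) := rfl

/-- If `θ : M → K^n` is `R`-linear and some `n` elements of `M` have images with nonzero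
determinant, then the annihilator of `⋀^n M` is contained in the kernel of `R → K`. -/
theorem annihilator_le_ker (θ : M →ₗ[R] (Fin n → K)) (x : Fin n → M)
    (hx : Matrix.det (Matrix.of fun i j => θ (x i) j) ≠ 0) :
    (⋀[R]^n M).annihilator ≤ RingHom.ker (algebraMap R K) := by
  intro s hs
  have h1 : s • (exteriorPower.ιMulti R n x) = 0 := Module.mem_annihilator.mp hs _
  have h2 := congrArg (exteriorPower.alternatingMapLinearEquiv (detAlt θ)) h1
  rw [map_smul, exteriorPower.alternatingMapLinearEquiv_apply_ιMulti, map_zero, detAlt_apply,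
    Algebra.smul_def] at h2
  rw [RingHom.mem_ker]
  exact (mul_eq_zero.mp h2).resolve_right hx

end Alt


section Gen

variable {R M : Type u} [CommRing R] [AddCommGroup M] [Module R M] {n : ℕ}

/-- If `u • M` is contained in the image of a free module of rank `< n`, then `u ^ n` kills
`⋀^n M`. -/
theorem pow_mem_annihilator_extPow {ι : Type} [Fintype ι] [DecidableEq ι] (hcard : Fintype.card ι < n)
    (L : (ι → R) →ₗ[R] M) (u : R) (hu : ∀ x : M, u • x ∈ LinearMap.range L) :
    u ^ n ∈ (⋀[R]^n M).annihilator := by
  have hzero : (exteriorPower.ιMulti R n (M := M)).compLinearMap L = 0 := by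
    refine Module.Basis.ext_alternating (Pi.basisFun R ι) fun v hv => ?_
    exfalso
    have := Fintype.card_le_of_injective v hv
    rw [Fintype.card_fin] at this
    omega
  rw [Submodule.mem_annihilator]
  intro y hy
  have key : ∀ z : ⋀[R]^n M, u ^ n • z = 0 := by
    intro z
    have hz' : z ∈ (⊤ : Submodule R (⋀[R]^n M)) := Submodule.mem_top
    rw [← exteriorPower.ιMulti_span R n M] at hz'
    induction hz' using Submodule.span_induction with
    | mem z hz =>
      obtain ⟨x, rfl⟩ := hz
      choose w hw using fun i => hu (x i)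
      have h1 : u ^ n • exteriorPower.ιMulti R n x =
          exteriorPower.ιMulti R n (fun i => u • x i) := by
        rw [AlternatingMap.map_smul_univ, Finset.prod_const, Finset.card_univ, Fintype.card_fin]
      rw [h1]
      have h2 : (fun i => u • x i) = fun i => L (w i) := funext fun i => (hw i).symm
      rw [h2]
      have := congrArg (fun F => F w) hzero
      simpa using this
    | zero => rw [smul_zero]
    | add a b _ _ ha hb => rw [smul_add, ha, hb, add_zero]
    | smul r a _ ha => rw [smul_comm, ha, smul_zero]
  exact congrArg Subtype.val (key ⟨y, hy⟩)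

end Gen


section Crit

variable {A B R : Type u} [CommRing A] [CommRing B] [CommRing R]
  [Algebra A B] [Algebra B R] [Algebra A R] [IsScalarTower A B R] [Algebra.FormallySmooth A B]
  (q : Ideal R) [q.IsPrime]

/-- the canonical map from the local ring of `B` below `q` to the residue field of `q` -/
noncomputable def chi : Localization.AtPrime (q.comap (algebraMap B R)) →+* q.ResidueField :=
  (algebraMap (Localization.AtPrime q) q.ResidueField).comp
    (Localization.localRingHom (q.comap (algebraMap B R)) q (algebraMap B R) rfl)

lemma chi_algebraMap (b : B) :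
    chi (B := B) q (algebraMap B (Localization.AtPrime (q.comap (algebraMap B R))) b) =
      algebraMap R q.ResidueField (algebraMap B R b) := by
  unfold chi
  rw [RingHom.comp_apply, Localization.localRingHom_to_map, ← IsScalarTower.algebraMap_apply]

lemma isUnit_of_chi_ne_zero (c : Localization.AtPrime (q.comap (algebraMap B R)))
    (hc : chi (B := B) q c ≠ 0) : IsUnit c := by
  by_contra hnu
  apply hc
  have h1 : c ∈ IsLocalRing.maximalIdeal (Localization.AtPrime (q.comap (algebraMap B R))) :=
    (IsLocalRing.mem_maximalIdeal c).mpr hnu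
  rw [← Localization.AtPrime.map_eq_maximalIdeal] at h1
  have h2 : Ideal.map (algebraMap B (Localization.AtPrime (q.comap (algebraMap B R))))
      (q.comap (algebraMap B R)) ≤ RingHom.ker (chi (B := B) q) := by
    rw [Ideal.map_le_iff_le_comap]
    intro b hb
    rw [Ideal.mem_comap, RingHom.mem_ker, chi_algebraMap, Ideal.algebraMap_residueField_eq_zero]
    exact hb
  exact h2 h1

variable {n : ℕ}
  (b' : Basis (Fin n) (Localization.AtPrime (q.comap (algebraMap B R)))
    Ω[Localization.AtPrime (q.comap (algebraMap B R))⁄A])
  (g : B) (hg : IsSMulRegular B g) (hsurj : Function.Surjective (algebraMap B R))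
  (hker : RingHom.ker (algebraMap B R) = Ideal.span {g})

include hg hsurj hker in
/-- Jacobian criterion for a hypersurface in a formally smooth algebra, at a prime. -/
theorem isSmoothAt_iff_exists_coord :
    Algebra.IsSmoothAt A q ↔ ∃ j, chi (B := B) q (b'.repr (D A _ (algebraMap B
      (Localization.AtPrime (q.comap (algebraMap B R))) g)) j) ≠ 0 := by
  let q' : Ideal B := q.comap (algebraMap B R)
  have hlo : q.LiesOver q' := ⟨rfl⟩
  let alg1 : Algebra (Localization.AtPrime q') (Localization.AtPrime q) :=
    Localization.AtPrime.algebraOfLiesOver q' q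
  let alg2 : Algebra (Localization.AtPrime q') q.ResidueField :=
    ((algebraMap (Localization.AtPrime q) q.ResidueField).comp
      (algebraMap (Localization.AtPrime q') (Localization.AtPrime q))).toAlgebra
  have : IsScalarTower (Localization.AtPrime q') (Localization.AtPrime q) q.ResidueField :=
    IsScalarTower.of_algebraMap_eq' rfl
  have : IsScalarTower A (Localization.AtPrime q') (Localization.AtPrime q) := inferInstance
  have : Algebra.FormallySmooth B (Localization.AtPrime q') :=
    Algebra.FormallySmooth.of_isLocalization q'.primeCompl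
  have : Algebra.FormallySmooth A (Localization.AtPrime q') :=
    Algebra.FormallySmooth.comp A B (Localization.AtPrime q')
  have halg : algebraMap (Localization.AtPrime q') (Localization.AtPrime q) =
      Localization.localRingHom q' q (algebraMap B R) rfl := rfl
  have h₁ : Function.Surjective (algebraMap (Localization.AtPrime q') (Localization.AtPrime q)) := by
    rw [halg]
    exact Groth.Agent.Lib.T2H7.JacCritB.surjective_localRingHom _ hsurj q
  let f : Fin 1 → Localization.AtPrime q' := fun _ => algebraMap B (Localization.AtPrime q') g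
  have hf : Ideal.span (Set.range f) =
      RingHom.ker (algebraMap (Localization.AtPrime q') (Localization.AtPrime q)) := by
    rw [halg, Groth.Agent.Lib.T2H7.JacCritB.ker_localRingHom _ hsurj q, hker, Ideal.map_span]
    congr 1
    ext x
    simp only [f, Set.mem_range, exists_const, Set.image_singleton, Set.mem_singleton_iff]
    exact eq_comm
  have h₃ : IsLocalRing.maximalIdeal (Localization.AtPrime q) ≤
      RingHom.ker (algebraMap (Localization.AtPrime q) q.ResidueField) := by
    intro x hx
    rw [RingHom.mem_ker]
    exact (IsLocalRing.residue_eq_zero_iff x).mpr hx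
  have hreg : LCI.IsKoszulRegularSeq (Localization.AtPrime q') (List.ofFn f) := by
    refine (Groth.Agent.S15821.result _ _ ?_).1
    have h1 : IsSMulRegular (Localization.AtPrime q') (algebraMap B (Localization.AtPrime q') g) :=
      IsSMulRegular.of_isLocalization (Localization.AtPrime q') q'.primeCompl hg
    have h2 : List.ofFn f = [algebraMap B (Localization.AtPrime q') g] := by
      simp [f]
    rw [h2, RingTheory.Sequence.isWeaklyRegular_singleton_iff]
    exact h1
  have key := Groth.Agent.Lib.T2H7.JacCrit.formallySmooth_iff_linearIndependent_jac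
    (R := A) (P := Localization.AtPrime q') (S := Localization.AtPrime q) (K := q.ResidueField)
    f hf b' h₁ h₃ hreg
  show Algebra.FormallySmooth A (Localization.AtPrime q) ↔ _
  rw [key, linearIndependent_unique_iff]
  constructor
  · intro h
    by_contra hne
    apply h
    funext j
    by_contra hj
    exact hne ⟨j, hj⟩
  · rintro ⟨j, hj⟩ h
    exact hj (congrFun h j)

omit [Algebra.FormallySmooth A B] in
include hsurj hker in
theorem exists_theta
    (h0 : ∀ j, chi (B := B) q (b'.repr (D A _ (algebraMap B
      (Localization.AtPrime (q.comap (algebraMap B R))) g)) j) = 0) :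
    ∃ θ : Ω[R⁄A] →ₗ[R] (Fin n → q.ResidueField), ∀ (ω : Ω[B⁄A]) (j : Fin n),
      θ (KaehlerDifferential.map A A B R ω) j =
        chi (B := B) q (b'.repr (KaehlerDifferential.map A A B
          (Localization.AtPrime (q.comap (algebraMap B R))) ω) j) := by
  let q' : Ideal B := q.comap (algebraMap B R)
  let instP : Algebra (Localization.AtPrime q') q.ResidueField := (chi (B := B) q).toAlgebra
  have hP : ∀ x : Localization.AtPrime q', algebraMap (Localization.AtPrime q') q.ResidueField x =
      chi (B := B) q x := fun _ => rfl
  have : IsScalarTower B (Localization.AtPrime q') q.ResidueField := by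
    refine IsScalarTower.of_algebraMap_eq fun b => ?_
    rw [hP, chi_algebraMap, ← IsScalarTower.algebraMap_apply]
  let ℓ : Ω[Localization.AtPrime q'⁄A] →ₗ[Localization.AtPrime q'] (Fin n → q.ResidueField) :=
    ((Algebra.linearMap (Localization.AtPrime q') q.ResidueField).compLeft (Fin n)) ∘ₗ
      b'.equivFun.toLinearMap
  have hℓ : ∀ ω j, ℓ ω j = chi (B := B) q (b'.repr ω j) := fun ω j => rfl
  let lamB : Ω[B⁄A] →ₗ[B] (Fin n → q.ResidueField) :=
    (ℓ.restrictScalars B) ∘ₗ (KaehlerDifferential.map A A B (Localization.AtPrime q'))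
  let θt : R ⊗[B] Ω[B⁄A] →ₗ[R] (Fin n → q.ResidueField) := LinearMap.liftBaseChange R lamB
  have hθt : ∀ (r : R) (ω : Ω[B⁄A]), θt (r ⊗ₜ ω) = r • lamB ω := fun r ω => by
    simp [θt]
  -- lamB kills `D x` for `x` in the kernel
  have hkill : ∀ x ∈ RingHom.ker (algebraMap B R), lamB (D A B x) = 0 := by
    intro x hx
    rw [hker, Ideal.mem_span_singleton] at hx
    obtain ⟨h, rfl⟩ := hx
    have hg0 : algebraMap B q.ResidueField g = 0 := by
      rw [IsScalarTower.algebraMap_apply B R q.ResidueField]
      have : algebraMap B R g = 0 := by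
        have : g ∈ RingHom.ker (algebraMap B R) := by
          rw [hker]; exact Ideal.mem_span_singleton_self g
        exact this
      rw [this, map_zero]
    rw [Derivation.leibniz, map_add, map_smul, map_smul]
    have h1 : lamB (D A B g) = 0 := by
      funext j
      show ℓ (KaehlerDifferential.map A A B (Localization.AtPrime q') (D A B g)) j = 0
      rw [KaehlerDifferential.map_D, hℓ]
      exact h0 j
    rw [h1, smul_zero, add_zero]
    funext j
    rw [Pi.smul_apply, Algebra.smul_def, hg0, zero_mul]
    rfl
  have hle : LinearMap.ker (KaehlerDifferential.mapBaseChange A B R) ≤ LinearMap.ker θt := by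
    intro y hy
    have hex := KaehlerDifferential.exact_kerCotangentToTensor_mapBaseChange A B R hsurj
    obtain ⟨c, rfl⟩ := (hex y).mp hy
    obtain ⟨x, rfl⟩ := Ideal.toCotangent_surjective _ c
    rw [LinearMap.mem_ker, KaehlerDifferential.kerCotangentToTensor_toCotangent, hθt, one_smul]
    exact hkill x.1 x.2
  let e := (KaehlerDifferential.mapBaseChange A B R).quotKerEquivOfSurjective
    (KaehlerDifferential.mapBaseChange_surjective A B R hsurj)
  refine ⟨(Submodule.liftQ _ θt hle) ∘ₗ e.symm.toLinearMap, fun ω j => ?_⟩
  have h1 : e.symm (KaehlerDifferential.map A A B R ω) = Submodule.Quotient.mk (1 ⊗ₜ ω) := by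
    rw [LinearEquiv.symm_apply_eq, LinearMap.quotKerEquivOfSurjective_apply_mk,
      KaehlerDifferential.mapBaseChange_tmul, one_smul]
  rw [LinearMap.comp_apply, LinearEquiv.coe_coe, h1, Submodule.liftQ_apply, hθt, one_smul]
  rfl


omit [Algebra.FormallySmooth A B] in
include hsurj hker in
theorem annihilator_le_of_coord_eq_zero
    (h0 : ∀ j, chi (B := B) q (b'.repr (D A _ (algebraMap B
      (Localization.AtPrime (q.comap (algebraMap B R))) g)) j) = 0) :
    (⋀[R]^n (Ω[R⁄A])).annihilator ≤ q := by
  obtain ⟨θ, hθ⟩ := exists_theta q b' g hsurj hker h0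
  let q' : Ideal B := q.comap (algebraMap B R)
  have hs : ∀ i, ∃ x : Ω[B⁄A] × q'.primeCompl,
      x.2 • b' i = KaehlerDifferential.map A A B (Localization.AtPrime q') x.1 :=
    fun i => IsLocalizedModule.surj q'.primeCompl
      (KaehlerDifferential.map A A B (Localization.AtPrime q')) (b' i)
  choose x hx using hs
  have hent : ∀ i j, θ (KaehlerDifferential.map A A B R (x i).1) j =
      if i = j then algebraMap R q.ResidueField (algebraMap B R (x i).2.1) else 0 := by
    intro i j
    rw [hθ, ← hx i]
    have h1 : (x i).2 • b' i = algebraMap B (Localization.AtPrime q') (x i).2.1 • b' i := by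
      rw [algebraMap_smul]
      rfl
    rw [h1, map_smul, Basis.repr_self, Finsupp.smul_apply, Finsupp.single_apply, smul_eq_mul]
    split_ifs with hij
    · rw [mul_one, chi_algebraMap]
    · rw [mul_zero, map_zero]
  have hdet : Matrix.det (Matrix.of fun i j => θ (KaehlerDifferential.map A A B R (x i).1) j) ≠ 0 := by
    have h2 : (Matrix.of fun i j => θ (KaehlerDifferential.map A A B R (x i).1) j) =
        Matrix.diagonal fun i => algebraMap R q.ResidueField (algebraMap B R (x i).2.1) := by
      ext i j
      rw [Matrix.of_apply, hent, Matrix.diagonal_apply]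
    rw [h2, Matrix.det_diagonal, Finset.prod_ne_zero_iff]
    intro i _
    rw [Ne, Ideal.algebraMap_residueField_eq_zero]
    exact (x i).2.2
  have h3 := annihilator_le_ker θ (fun i => KaehlerDifferential.map A A B R (x i).1) hdet
  intro s hs
  have := h3 hs
  rwa [RingHom.mem_ker, Ideal.algebraMap_residueField_eq_zero] at this

omit [Algebra.FormallySmooth A B] in
include hsurj hker in
theorem exists_mem_annihilator_not_mem [Module.Finite B Ω[B⁄A]] (j0 : Fin n)
    (hj0 : chi (B := B) q (b'.repr (D A _ (algebraMap B
      (Localization.AtPrime (q.comap (algebraMap B R))) g)) j0) ≠ 0) :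
    ∃ s ∈ (⋀[R]^n (Ω[R⁄A])).annihilator, s ∉ q := by
  let q' : Ideal B := q.comap (algebraMap B R)
  let f := KaehlerDifferential.map A A B (Localization.AtPrime q')
  have hs : ∀ i, ∃ x : Ω[B⁄A] × q'.primeCompl, x.2 • b' i = f x.1 :=
    fun i => IsLocalizedModule.surj q'.primeCompl f (b' i)
  choose x hx using hs
  have hunit := isUnit_of_chi_ne_zero q _ hj0
  let gens : Set Ω[B⁄A] := {D A B g} ∪ Set.range (fun j : {j : Fin n // j ≠ j0} => (x j.1).1)
  let N : Submodule B Ω[B⁄A] := Submodule.span B gens
  let T : Submodule (Localization.AtPrime q') Ω[Localization.AtPrime q'⁄A] :=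
    Submodule.span (Localization.AtPrime q') (f '' gens)
  -- the localized span is everything
  have hmem_ne : ∀ j, j ≠ j0 → b' j ∈ T := by
    intro j hj
    have h1 : f (x j).1 ∈ T := Submodule.subset_span ⟨(x j).1, Or.inr ⟨⟨j, hj⟩, rfl⟩, rfl⟩
    rw [← hx j] at h1
    have h2 : (x j).2 • b' j = algebraMap B (Localization.AtPrime q') (x j).2.1 • b' j := by
      rw [algebraMap_smul]
      rfl
    rw [h2] at h1
    exact (Submodule.smul_mem_iff_of_isUnit T (IsLocalization.map_units _ (x j).2)).mp h1
  have hmem_j0 : b' j0 ∈ T := by
    have h1 : D A (Localization.AtPrime q') (algebraMap B (Localization.AtPrime q') g) ∈ T := by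
      refine Submodule.subset_span ⟨D A B g, Or.inl rfl, ?_⟩
      exact KaehlerDifferential.map_D A A B (Localization.AtPrime q') g
    have h2 := b'.sum_repr (D A (Localization.AtPrime q') (algebraMap B (Localization.AtPrime q') g))
    rw [← Finset.add_sum_erase Finset.univ _ (Finset.mem_univ j0)] at h2
    have h3 : ∑ j ∈ Finset.univ.erase j0, b'.repr (D A (Localization.AtPrime q')
        (algebraMap B (Localization.AtPrime q') g)) j • b' j ∈ T := by
      refine Submodule.sum_mem _ fun j hj => Submodule.smul_mem _ _ (hmem_ne j ?_)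
      exact (Finset.mem_erase.mp hj).1
    have h4 : b'.repr (D A (Localization.AtPrime q')
        (algebraMap B (Localization.AtPrime q') g)) j0 • b' j0 ∈ T := by
      have h5 : b'.repr (D A (Localization.AtPrime q')
          (algebraMap B (Localization.AtPrime q') g)) j0 • b' j0 +
          ∑ j ∈ Finset.univ.erase j0, b'.repr (D A (Localization.AtPrime q')
            (algebraMap B (Localization.AtPrime q') g)) j • b' j ∈ T := by
        rw [h2]; exact h1
      exact (Submodule.add_mem_iff_left T h3).mp h5
    exact (Submodule.smul_mem_iff_of_isUnit T hunit).mp h4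
  have hT : T = ⊤ := by
    rw [eq_top_iff, ← b'.span_eq, Submodule.span_le]
    rintro _ ⟨j, rfl⟩
    by_cases hj : j = j0
    · rw [hj]; exact hmem_j0
    · exact hmem_ne j hj
  have hloc : N.localized' (Localization.AtPrime q') q'.primeCompl f = ⊤ := by
    rw [Submodule.localized'_span]
    exact hT
  -- every element is pushed into `N` by some element outside `q'`
  have hpush : ∀ η : Ω[B⁄A], ∃ r ∉ q', r • η ∈ N := by
    intro η
    have h1 : f η ∈ N.localized' (Localization.AtPrime q') q'.primeCompl f := by
      rw [hloc]; exact Submodule.mem_top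
    obtain ⟨m, hm, s, hms⟩ := h1
    rw [IsLocalizedModule.mk'_eq_iff] at hms
    have h2 : f m = f ((s : B) • η) := by rw [hms, map_smul, Submonoid.smul_def]
    obtain ⟨c, hc⟩ := IsLocalizedModule.exists_of_eq (S := q'.primeCompl) h2
    refine ⟨(c * s : q'.primeCompl), (c * s).2, ?_⟩
    have h3 : ((c * s : q'.primeCompl) : B) • η = c • ((s : B) • η) := by
      rw [Submonoid.coe_mul, mul_smul, Submonoid.smul_def]
    rw [h3, ← hc, Submonoid.smul_def]
    exact N.smul_mem _ hm
  -- a uniform multiplier
  have hsupp : (⟨q', inferInstance⟩ : PrimeSpectrum B) ∉ Module.support B (Ω[B⁄A] ⧸ N) := by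
    rw [Module.notMem_support_iff']
    intro m
    obtain ⟨η, rfl⟩ := Submodule.Quotient.mk_surjective N m
    obtain ⟨r, hr, hrη⟩ := hpush η
    refine ⟨r, hr, ?_⟩
    rw [← Submodule.Quotient.mk_smul, Submodule.Quotient.mk_eq_zero]
    exact hrη
  rw [Module.mem_support_iff_of_finite, SetLike.not_le_iff_exists] at hsupp
  obtain ⟨u, hu, huq⟩ := hsupp
  have huN : ∀ η : Ω[B⁄A], u • η ∈ N := by
    intro η
    have := Module.mem_annihilator.mp hu (Submodule.Quotient.mk η)
    rwa [← Submodule.Quotient.mk_smul, Submodule.Quotient.mk_eq_zero] at this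
  -- pass to `R`
  let y : {j : Fin n // j ≠ j0} → Ω[R⁄A] := fun j => KaehlerDifferential.map A A B R (x j.1).1
  let L : ({j : Fin n // j ≠ j0} → R) →ₗ[R] Ω[R⁄A] := Fintype.linearCombination R y
  have hL : LinearMap.range L = Submodule.span R (Set.range y) :=
    Fintype.range_linearCombination R y
  have hg0 : algebraMap B R g = 0 := by
    have : g ∈ RingHom.ker (algebraMap B R) := by
      rw [hker]; exact Ideal.mem_span_singleton_self g
    exact this
  have hN : N ≤ Submodule.comap (KaehlerDifferential.map A A B R)
      ((Submodule.span R (Set.range y)).restrictScalars B) := by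
    apply Submodule.span_le.mpr
    rintro z (hz | ⟨j, rfl⟩)
    · rw [Set.mem_singleton_iff] at hz
      rw [hz]
      show KaehlerDifferential.map A A B R (D A B g) ∈ Submodule.span R (Set.range y)
      rw [KaehlerDifferential.map_D, hg0, map_zero]
      exact Submodule.zero_mem _
    · exact Submodule.subset_span ⟨j, rfl⟩
  have hall : ∀ z : Ω[R⁄A], algebraMap B R u • z ∈ LinearMap.range L := by
    intro z
    rw [hL]
    have hz : z ∈ (⊤ : Submodule R Ω[R⁄A]) := Submodule.mem_top
    rw [← KaehlerDifferential.span_range_derivation A R] at hz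
    induction hz using Submodule.span_induction with
    | mem w hw =>
      obtain ⟨r, rfl⟩ := hw
      obtain ⟨b, rfl⟩ := hsurj r
      rw [← KaehlerDifferential.map_D A A B R b, algebraMap_smul, ← map_smul]
      exact hN (huN (D A B b))
    | zero => rw [smul_zero]; exact Submodule.zero_mem _
    | add a b _ _ ha hb => rw [smul_add]; exact Submodule.add_mem _ ha hb
    | smul r a _ ha => rw [smul_comm]; exact Submodule.smul_mem _ _ ha
  have hcard : Fintype.card {j : Fin n // j ≠ j0} < n := by
    have := Fintype.card_subtype_lt (p := fun j : Fin n => j ≠ j0) (x := j0) (by simp)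
    rwa [Fintype.card_fin] at this
  refine ⟨(algebraMap B R u) ^ n, pow_mem_annihilator_extPow hcard L _ hall, fun h => huq ?_⟩
  have h' : algebraMap B R u ∈ q := Ideal.IsPrime.mem_of_pow_mem inferInstance n h
  exact h'

end Crit

section Bas

variable {A B : Type u} [CommRing A] [CommRing B] [Algebra A B] [Algebra.Smooth A B]
  (q' : Ideal B) [q'.IsPrime]

theorem nonempty_basis {n : ℕ} (hn : Module.rankAtStalk (Ω[B⁄A]) ⟨q', inferInstance⟩ = n) :
    Nonempty (Basis (Fin n) (Localization.AtPrime q') Ω[Localization.AtPrime q'⁄A]) := by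
  have : Algebra.FormallyEtale B (Localization.AtPrime q') :=
    Algebra.FormallyEtale.of_isLocalization q'.primeCompl
  let e := tensorKaehlerEquivOfFormallyEtale A B (Localization.AtPrime q')
  have h1 : Module.finrank (Localization.AtPrime q') (Localization.AtPrime q' ⊗[B] Ω[B⁄A]) = n := by
    rw [← hn, Module.rankAtStalk_eq_finrank_tensorProduct]
  have : Module.Free (Localization.AtPrime q') (Localization.AtPrime q' ⊗[B] Ω[B⁄A]) :=
    Module.free_of_flat_of_isLocalRing
  exact ⟨(Module.finBasisOfFinrankEq _ _ h1).map e⟩

end Bas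

end Groth.Agent.Lib.T2H7.HypSing
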