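import Mathlib
import Groth.Agent.Lib.Helper11SchImage
import Groth.Agent.S0348
import Groth.Agent.S0349
import Groth.Prelude.Def_AutSch

set_option autoImplicit false
set_option linter.unusedSectionVars false
set_option linter.unusedVariables false
set_option linter.style.haveILetI false

namespace Groth.Agent.Lib.T2H7.IdTors

universe u
open CategoryTheory CategoryTheory.Limits MonoidalCategory CartesianMonoidalCategory MonObj GrpObj
  AlgebraicGeometry

section closedImage

variable (k : Type u) [Field k]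

/-- the image of a quasi-compact homomorphism of group schemes over a field is closed. -/
theorem isClosed_range_hom (H G : Over (Spec (CommRingCat.of k))) [GrpObj H] [GrpObj G]
    (f : H ⟶ G) [IsMonHom f] [QuasiCompact f.left] : IsClosed (Set.range f.left.base) := by
  obtain ⟨j, hj⟩ : ∃ j : Over.mk (f.left.imageι ≫ G.hom) ⟶ G, j = Over.homMk f.left.imageι rfl :=
    ⟨_, rfl⟩
  obtain ⟨f', hf'⟩ : ∃ f' : H ⟶ Over.mk (f.left.imageι ≫ G.hom),
      f' = Over.homMk f.left.toImage (by
        change f.left.toImage ≫ f.left.imageι ≫ G.hom = H.hom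
        rw [Scheme.Hom.toImage_imageι_assoc, Over.w f]) := ⟨_, rfl⟩
  have hgi : f' ≫ j = f := by
    ext1
    rw [hf', hj]
    exact f.left.toImage_imageι
  have hjl : j.left = f.left.imageι := by rw [hj]; rfl
  have hcl : IsClosedImmersion j.left := by
    rw [hjl]
    exact inferInstanceAs (IsClosedImmersion f.left.imageι)
  have hdom : IsSchemeTheoreticallyDominant f'.left := by
    rw [hf']
    exact inferInstanceAs (IsSchemeTheoreticallyDominant f.left.toImage)
  obtain ⟨inst, h1, h2, h3⟩ :=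
    Groth.Agent.Lib.Helper11SchImage.exists_grpObj_image k H G _ f j f' hgi
  have hr : Set.range f.left.base = Set.range j.left.base := by
    have e1 : ∀ x : ↥H.left, f.left.base x = j.left.base (f'.left.base x) := by
      intro x
      have := congrArg (fun m : H ⟶ G => m.left.base x) hgi
      simpa using this.symm
    ext y
    constructor
    · rintro ⟨x, rfl⟩
      exact ⟨f'.left.base x, (e1 x).symm⟩
    · rintro ⟨z, rfl⟩
      obtain ⟨x, rfl⟩ := h3.surj z
      exact ⟨x, e1 x⟩
  rw [hr]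
  exact j.left.isClosedEmbedding.isClosed_range

end closedImage

section pow

variable {S : Scheme.{u}} {G H : Over S} [GrpObj G] [GrpObj H] [IsCommMonObj H]

theorem isMonHom_mul (f g : G ⟶ H) [IsMonHom f] [IsMonHom g] : IsMonHom (f * g) := by
  rw [Hom.mul_def]
  infer_instance

theorem isMonHom_pow (f : G ⟶ H) [IsMonHom f] (m : ℕ) : IsMonHom (f ^ m) := by
  induction m with
  | zero =>
    rw [pow_zero, Hom.one_def]
    infer_instance
  | succ m ih =>
    rw [pow_succ]
    haveI := ih
    exact isMonHom_mul _ _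

end pow

section main

variable (k : Type u) [Field k] [IsAlgClosed k]

/-- key step: some power of a point of `G⁰` with an `n`-th root in `G` has the corresponding root
in `G⁰`. -/
theorem exists_root (G G0 : Over (Spec (CommRingCat.of k))) [GrpObj G] [IsCommMonObj G]
    [GrpObj G0] [LocallyOfFiniteType G.hom] (i : G0 ⟶ G) [IsMonHom i] [IsOpenImmersion i.left]
    [ConnectedSpace ↥G0.left] (n : ℕ) (hn : 0 < n)
    (h0 : 𝟙_ (Over (Spec (CommRingCat.of k))) ⟶ G0) :
    ∃ (b0 : 𝟙_ (Over (Spec (CommRingCat.of k))) ⟶ G0) (r : ℕ),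
      (b0 ≫ i) ^ (n ^ (r + 1)) = (h0 ≫ i) ^ (n ^ r) := by
  haveI : IrreducibleSpace ↥G0.left := Groth.Agent.S0348.result k G0
  haveI : CompactSpace ↥G0.left := Groth.Agent.S0349.result k G0
  have hG0 : G0.hom = i.left ≫ G.hom := (Over.w i).symm
  haveI : LocallyOfFiniteType G0.hom := by
    rw [hG0]; infer_instance
  haveI : IsLocallyNoetherian G0.left := LocallyOfFiniteType.isLocallyNoetherian G0.hom
  haveI : IsNoetherian G0.left := ⟨⟩
  haveI : TopologicalSpace.NoetherianSpace ↥G0.left := inferInstance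
  -- the power maps
  obtain ⟨F, hF⟩ : ∃ F : ℕ → (G0 ⟶ G), ∀ r, F r = i ^ (n ^ r) := ⟨fun r => i ^ (n ^ r), fun _ => rfl⟩
  have hFmon : ∀ r, IsMonHom (F r) := fun r => by rw [hF]; exact isMonHom_pow i _
  have hFqc : ∀ r, QuasiCompact (F r).left := fun r => inferInstance
  have hFcl : ∀ r, IsClosed (Set.range (F r).left.base) := fun r => by
    haveI := hFmon r
    exact isClosed_range_hom k G0 G (F r)
  obtain ⟨p, hp⟩ : ∃ p : G0 ⟶ G0, p = (𝟙 G0) ^ n := ⟨_, rfl⟩
  have hpi : p ≫ i = i ^ n := by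
    rw [hp, MonObj.pow_comp, Category.id_comp]
  have hFsucc : ∀ r, F (r + 1) = p ≫ F r := fun r => by
    rw [hF, hF, MonObj.comp_pow, hpi, ← pow_mul, pow_succ, mul_comm]
  -- pull back to the Noetherian space `G0`
  obtain ⟨J, hJ⟩ : ∃ J : ℕ → TopologicalSpace.Closeds ↥G0.left,
      ∀ r, (J r : Set ↥G0.left) = i.left.base ⁻¹' Set.range (F r).left.base :=
    ⟨fun r => ⟨i.left.base ⁻¹' Set.range (F r).left.base,
      (hFcl r).preimage i.left.base.hom.continuous⟩, fun _ => rfl⟩
  have hrange_succ : ∀ r, Set.range (F (r + 1)).left.base ⊆ Set.range (F r).left.base := by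
    intro r
    rintro _ ⟨x, rfl⟩
    refine ⟨p.left.base x, ?_⟩
    have := congrArg (fun m : G0 ⟶ G => m.left.base x) (hFsucc r)
    simpa using this.symm
  have hJanti : Antitone J := by
    apply antitone_nat_of_succ_le
    intro r
    change (J (r + 1) : Set ↥G0.left) ⊆ (J r : Set ↥G0.left)
    rw [hJ, hJ]
    exact Set.preimage_mono (hrange_succ r)
  obtain ⟨r, hr⟩ := WellFoundedLT.antitone_chain_condition hJanti
  have hJeq : (J r : Set ↥G0.left) = (J (r + 1) : Set ↥G0.left) := by
    rw [hr (r + 1) (Nat.le_succ r)]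
  -- the image of `F r` lies in the range of `i`
  have hFi : ∀ r, ∃ q : G0 ⟶ G0, F r = q ≫ i := by
    intro r
    refine ⟨(𝟙 G0) ^ (n ^ r), ?_⟩
    rw [hF, MonObj.pow_comp, Category.id_comp]
  have hsub : ∀ r, Set.range (F r).left.base ⊆ Set.range i.left.base := by
    intro r
    obtain ⟨q, hq⟩ := hFi r
    rintro _ ⟨x, rfl⟩
    refine ⟨q.left.base x, ?_⟩
    have := congrArg (fun m : G0 ⟶ G => m.left.base x) hq
    simpa using this.symm
  have hCeq : Set.range (F r).left.base = Set.range (F (r + 1)).left.base := by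
    apply Set.Subset.antisymm _ (hrange_succ r)
    intro y hy
    obtain ⟨x, rfl⟩ := hsub r hy
    have hx : x ∈ (J r : Set ↥G0.left) := by
      rw [hJ]; exact hy
    rw [hJeq, hJ] at hx
    exact hx
  -- the point to be lifted
  obtain ⟨y, hy⟩ : ∃ y : 𝟙_ (Over (Spec (CommRingCat.of k))) ⟶ G, y = h0 ≫ F r := ⟨_, rfl⟩
  obtain ⟨f, hf⟩ : ∃ f : G0 ⟶ G, f = F (r + 1) := ⟨_, rfl⟩
  have pt : ↥(𝟙_ (Over (Spec (CommRingCat.of k)))).left :=
    (inferInstance : Nonempty ↥(Spec (CommRingCat.of k))).some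
  have hmem : y.left.base pt ∈ Set.range f.left.base := by
    rw [hf, ← hCeq]
    refine ⟨h0.left.base pt, ?_⟩
    have := congrArg (fun m : 𝟙_ (Over (Spec (CommRingCat.of k))) ⟶ G => m.left.base pt) hy
    simpa using this.symm
  obtain ⟨z, hz⟩ := hmem
  obtain ⟨w, -, -⟩ := Scheme.Pullback.exists_preimage_pullback (f := f.left) (g := y.left) z pt hz
  have hflft : LocallyOfFiniteType f.left := by
    have : LocallyOfFiniteType (f.left ≫ G.hom) := by
      rw [Over.w f]; infer_instance
    exact locallyOfFiniteType_of_comp f.left G.hom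
  have hsnd : LocallyOfFiniteType (pullback.snd f.left y.left) := inferInstance
  have hJ0 : JacobsonSpace ↥(𝟙_ (Over (Spec (CommRingCat.of k)))).left :=
    (inferInstance : JacobsonSpace ↥(Spec (CommRingCat.of k)))
  have hJac : JacobsonSpace ↥(pullback f.left y.left) :=
    LocallyOfFiniteType.jacobsonSpace (pullback.snd f.left y.left)
  obtain ⟨x, -, hx⟩ := nonempty_inter_closedPoints (X := ↥(pullback f.left y.left))
    (Z := Set.univ) ⟨w, trivial⟩ isOpen_univ.isLocallyClosed
  obtain ⟨sn, hsn⟩ : ∃ sn : pullback f.left y.left ⟶ Spec (CommRingCat.of k),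
      sn = pullback.snd f.left y.left := ⟨_, rfl⟩
  have hsnlft : LocallyOfFiniteType sn := by rw [hsn]; exact hsnd
  obtain ⟨s, hs⟩ : ∃ s : Spec (CommRingCat.of k) ⟶ pullback f.left y.left, s ≫ sn = 𝟙 _ :=
    ⟨pointOfClosedPoint sn x hx, pointOfClosedPoint_comp sn x hx⟩
  have hs' : s ≫ pullback.snd f.left y.left = 𝟙 _ := by rw [← hsn]; exact hs
  have hyG : y.left ≫ G.hom = 𝟙 _ := Over.w y
  have hb0 : (s ≫ pullback.fst f.left y.left) ≫ G0.hom =
      (𝟙_ (Over (Spec (CommRingCat.of k)))).hom := by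
    rw [← Over.w f, Category.assoc, ← Category.assoc (pullback.fst f.left y.left),
      pullback.condition, Category.assoc, hyG, Category.comp_id, hs']
    rfl
  refine ⟨Over.homMk (s ≫ pullback.fst f.left y.left) hb0, r, ?_⟩
  have h1 : Over.homMk (s ≫ pullback.fst f.left y.left) hb0 ≫ f = y := by
    ext1
    rw [Over.comp_left]
    change (s ≫ pullback.fst f.left y.left) ≫ f.left = y.left
    rw [Category.assoc, pullback.condition, ← Category.assoc, hs']
    exact Category.id_comp _
  rw [← MonObj.comp_pow, ← hF, ← hf, h1, hy, hF, MonObj.comp_pow]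

/-- torsion lifts modulo the identity component. -/
theorem exists_torsion (G G0 : Over (Spec (CommRingCat.of k))) [GrpObj G] [IsCommMonObj G]
    [GrpObj G0] [LocallyOfFiniteType G.hom] (i : G0 ⟶ G) [IsMonHom i] (hi : AutSch.IsIdComp i)
    (g : 𝟙_ (Over (Spec (CommRingCat.of k))) ⟶ G) (n : ℕ) (hn : 0 < n)
    (hg : g ^ n ∈ AutSch.ptsRange i) :
    ∃ t : 𝟙_ (Over (Spec (CommRingCat.of k))) ⟶ G,
      IsOfFinOrder t ∧ t⁻¹ * g ∈ AutSch.ptsRange i := by
  obtain ⟨-, hopen, hrange⟩ := hi
  haveI := hopen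
  haveI hU : Unique ↥(𝟙_ (Over (Spec (CommRingCat.of k)))).left :=
    (inferInstance : Unique (PrimeSpectrum k))
  have hpre : _root_.IsPreconnected (SGA3x.neutralSet G) := by
    unfold SGA3x.neutralSet
    rw [← Set.iSup_eq_iUnion, iSup_unique]
    exact isPreconnected_connectedComponentIn
  have hne : Nonempty ↥G0.left := ⟨(η[G0]).left.base default⟩
  haveI : ConnectedSpace ↥G0.left := by
    haveI : PreconnectedSpace ↥G0.left := by
      constructor
      rw [← hrange, ← Set.image_univ] at hpre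
      exact (i.left.isOpenEmbedding.isEmbedding.isInducing.isPreconnected_image).mp hpre
    exact ⟨hne⟩
  obtain ⟨h0, hh0⟩ := (AutSch.mem_ptsRange_iff i _).mp hg
  obtain ⟨b0, r, hb⟩ := exists_root k G G0 i n hn h0
  refine ⟨g * (b0 ≫ i)⁻¹, ?_, ?_⟩
  · rw [isOfFinOrder_iff_pow_eq_one]
    refine ⟨n ^ (r + 1), pow_pos hn _, ?_⟩
    rw [_root_.mul_pow, inv_pow, hb, hh0, ← pow_mul, ← pow_succ', mul_inv_cancel]
  · rw [_root_.mul_inv_rev, _root_.inv_inv, inv_mul_cancel_right]
    exact (AutSch.mem_ptsRange_iff i _).mpr ⟨b0, rfl⟩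

end main

end Groth.Agent.Lib.T2H7.IdTors
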