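import Groth.Agent.Lib.T2H7ImgLocC
import Groth.Agent.Lib.T2H3SubGrpObj

/-!
The image of a homomorphism from a Zariski-locally split torus to a group of multiplicative type,
constructed as a scheme-theoretic image.
-/

set_option autoImplicit false
set_option linter.unusedSectionVars false
set_option linter.unusedVariables false
set_option linter.style.haveILetI false
universe u
open CategoryTheory CategoryTheory.Limits MonoidalCategory CartesianMonoidalCategory MonObj GrpObj
  AlgebraicGeometry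

namespace Groth.Agent.Lib.T2H7.ImgGlob

open Groth.Agent.Lib.T2H7.OverGlue Groth.Agent.Lib.T2H7.GrpIsoBC Groth.Agent.Lib.T2H7.ToriMono
  Groth.Agent.Lib.T2H7.MtModel Groth.Agent.Lib.T2H7.DiagHomA Groth.Agent.Lib.T2H7.DiagHomB
  Groth.Agent.Lib.T2H7.DiagHomE Groth.Agent.Lib.T2H7.DiagDS Groth.Agent.Lib.T2H3.MultGa
  Groth.Agent.Lib.Helper27.GaGm Groth.Agent.Lib.T2H7.MtLocus Groth.Agent.Lib.T2H7.QuotSplit
  Groth.Agent.Lib.T2H7.QtBc Groth.Agent.Lib.T2H7.MaxSplit Groth.Agent.Lib.T2H7.DsExact
  Groth.Agent.Lib.T2H7.QuotUniq Groth.Agent.Lib.T2H7.ImgSplit Groth.Agent.Lib.T2H7.ImgLoc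
  Groth.Agent.Lib.T2H7.SchImg

section Global

variable {S : Scheme.{u}} {G P : Over S} (m : P ⟶ G)

/-- the scheme-theoretic image of `m`, as an object over `S`. -/
noncomputable def imgObj : Over S := Over.mk (m.left.imageι ≫ G.hom)

/-- the inclusion of the image. -/
noncomputable def imgInc : imgObj m ⟶ G := Over.homMk m.left.imageι rfl

/-- the projection onto the image. -/
noncomputable def imgProj : P ⟶ imgObj m :=
  Over.homMk m.left.toImage (by
    show m.left.toImage ≫ m.left.imageι ≫ G.hom = P.hom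
    rw [← Category.assoc, Scheme.Hom.toImage_imageι]
    exact Over.w m)

theorem imgProj_imgInc : imgProj m ≫ imgInc m = m := by
  ext : 1
  exact Scheme.Hom.toImage_imageι m.left

instance : IsClosedImmersion (imgInc m).left :=
  inferInstanceAs (IsClosedImmersion m.left.imageι)

instance : Mono (imgInc m) := by
  haveI : Mono (imgInc m).left := inferInstance
  exact Over.mono_of_mono_left _

/-- **Local description of the image**: a factorisation of a base change of `m` into a
scheme-theoretically dominant morphism followed by a closed immersion computes the base change of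
the image. -/
theorem exists_local_iso [QuasiCompact m.left] {Y : Scheme.{u}} (g : Y ⟶ S) [Flat g] {A : Over Y}
    (q : Red.bc g P ⟶ A) (c : A ⟶ Red.bc g G) (hqc : q ≫ c = (Over.pullback g).map m)
    [IsClosedImmersion c.left] [IsSchemeTheoreticallyDominant q.left] :
    ∃ θ : Red.bc g (imgObj m) ≅ A, θ.hom ≫ c = (Over.pullback g).map (imgInc m) := by
  haveI : IsSchemeTheoreticallyDominant (imgProj m).left := isSchDom_toImage m.left
  haveI : QuasiCompact (imgProj m).left := inferInstanceAs (QuasiCompact m.left.toImage)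
  have hsq := (OverDesc.isPullback_map g (imgProj m)).flip
  haveI : IsSchemeTheoreticallyDominant ((Over.pullback g).map (imgProj m)).left :=
    IsSchemeTheoreticallyDominant.of_isPullback hsq
  haveI : IsClosedImmersion ((Over.pullback g).map (imgInc m)).left :=
    OverDescP.bc (@IsClosedImmersion) g (imgInc m) inferInstance
  have hcomp : ((Over.pullback g).map (imgProj m)).left ≫ ((Over.pullback g).map (imgInc m)).left =
      q.left ≫ c.left := by
    rw [← Over.comp_left, ← Functor.map_comp, imgProj_imgInc, ← hqc]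
    rfl
  obtain ⟨θ₀, hθ₀⟩ := exists_iso_of_factorizations _ _ _ _ hcomp
  have hw : θ₀.hom ≫ A.hom = (Red.bc g (imgObj m)).hom := by
    rw [← Over.w c, ← Category.assoc, hθ₀]
    exact Over.w ((Over.pullback g).map (imgInc m))
  refine ⟨Over.isoMk θ₀ hw, ?_⟩
  ext : 1
  exact hθ₀

end Global

section Factor

variable {S : Scheme.{u}} {E G X : Over S}

/-- **Factoring through a monomorphism is Zariski-local on the base.** -/
theorem factor_of_local (j : E ⟶ G) [Mono j] (x : X ⟶ G)
    (h : ∀ s : S, ∃ (Y : Scheme.{u}) (g : Y ⟶ S), IsOpenImmersion g ∧ s ∈ Set.range g ∧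
      ∃ y : Red.bc g X ⟶ Red.bc g E, y ≫ (Over.pullback g).map j = (Over.pullback g).map x) :
    ∃ x' : X ⟶ E, x' ≫ j = x := by
  choose Y g hg hs y hy using h
  let 𝒰 : S.OpenCover := Scheme.Cover.mkOfCovers S Y g (fun s => by
    obtain ⟨z, hz⟩ := hs s
    exact ⟨s, z, hz⟩) hg
  haveI : Mono j.left := inferInstance
  have hkey : ∀ i : S, (y i).left ≫ pullback.fst E.hom (g i) ≫ j.left =
      pullback.fst X.hom (g i) ≫ x.left := by
    intro i
    rw [← ActBC.pullback_map_left_fst (g i) j, ← Category.assoc, ← Over.comp_left, hy i,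
      ActBC.pullback_map_left_fst]
  obtain ⟨x', hx'⟩ := glue 𝒰 (fun i : S => y i) (by
    intro (i : S) (j' : S)
    show pullback.fst (pullback.fst X.hom (g i)) (pullback.fst X.hom (g j')) ≫
        (y i).left ≫ pullback.fst E.hom (g i) =
      pullback.snd (pullback.fst X.hom (g i)) (pullback.fst X.hom (g j')) ≫
        (y j').left ≫ pullback.fst E.hom (g j')
    rw [← cancel_mono j.left]
    simp only [Category.assoc]
    rw [hkey i, hkey j', ← Category.assoc, ← Category.assoc, pullback.condition])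
  refine ⟨x', ?_⟩
  refine EqDesc.eq_of_openCover 𝒰 _ _ ?_
  intro (i : S)
  show (Over.pullback (g i)).map (x' ≫ j) = (Over.pullback (g i)).map x
  rw [Functor.map_comp]
  have := hx' i
  rw [show (Over.pullback (𝒰.f i)).map x' = (Over.pullback (g i)).map x' from rfl] at this
  rw [this, hy i]

end Factor

section Aff

theorem isAffineHom_DS (T : Scheme.{u}) (M : Type) [AddCommGroup M] :
    IsAffineHom (Red.DS T M).hom := by
  haveI : IsAffineHom (Red.diag (ULift.{u} ℤ) M).hom := by
    haveI : IsAffine (Red.diag (ULift.{u} ℤ) M).left := inferInstanceAs (IsAffine (Spec _))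
    infer_instance
  exact MorphismProperty.pullback_snd (P := @IsAffineHom) (Red.diag (ULift.{u} ℤ) M).hom
    (Limits.IsTerminal.from specULiftZIsTerminal T) inferInstance

theorem isAffineHom_left {T : Scheme.{u}} {M N : Type} [AddCommGroup M] [AddCommGroup N]
    (δ : Red.DS T M ⟶ Red.DS T N) : IsAffineHom δ.left := by
  haveI := isAffineHom_DS T M
  haveI := isAffineHom_DS T N
  haveI : IsAffineHom (δ.left ≫ (Red.DS T N).hom) := by
    rw [Over.w δ]
    infer_instance
  exact IsAffineHom.of_comp δ.left (Red.DS T N).hom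

end Aff

section LocalData

variable {S : Scheme.{u}} {G P : Over S} [GrpObj G] [GrpObj P]

/-- `P` is Zariski-locally a split torus (with free character groups of finite rank). -/
def LocSplit (P : Over S) [GrpObj P] : Prop :=
  ∀ s : S, ∃ V : S.Opens, s ∈ V ∧ ∃ (M : Type) (_ : AddCommGroup M) (_ : Module.Free ℤ M)
    (_ : Module.Finite ℤ M), Red.IsSplitTorusWith M (Red.bc V.ι P)

/-- local factorisation of a homomorphism from a locally split torus to a group of multiplicative
type. -/
theorem exists_local_data (hG : SGA3x.IsMultTypeFT G) (m : P ⟶ G) [IsMonHom m]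
    (hP : LocSplit P) (s : S) :
    ∃ (Y : Scheme.{u}) (g : Y ⟶ S), IsOpenImmersion g ∧ s ∈ Set.range g ∧
      ∃ (M : Type) (_ : AddCommGroup M) (_ : Module.Free ℤ M) (_ : Module.Finite ℤ M)
        (K : AddSubgroup M) (q : Red.bc g P ⟶ Red.DS Y K) (c : Red.DS Y K ⟶ Red.bc g G),
        IsMonHom c ∧ Mono c ∧ IsClosedImmersion c.left ∧
        IsSchemeTheoreticallyDominant q.left ∧ QuasiCompact q.left ∧
        q ≫ c = (Over.pullback g).map m := by
  obtain ⟨V, hsV, M, instM, hfree, hfin, hsplit⟩ := hP s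
  obtain ⟨e, he⟩ := (nonempty_grpIso_iff _ _).1 hsplit
  haveI := he
  haveI : AddGroup.FG M := Module.Finite.iff_addGroup_fg.mp hfin
  obtain ⟨Y, g, hg, hs, e', K, dInc, c, he', hdInc, hc, hcmono, heq⟩ :=
    exists_local_image hG m e s hsV
  haveI := he'
  haveI := hc
  haveI := hcmono
  haveI : AddGroup.FG K := fg_subgroup K
  have hcl : IsClosedImmersion c.left :=
    isClosedImmersion_of_mono (isMultTypeFT_DS Y K) (isMultTypeFT_bc g hG) c hcmono
  have hff := ff_of_inj K.subtype Subtype.val_injective dInc hdInc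
  haveI : Flat dInc.left := hff.1
  haveI : Surjective dInc.left := hff.2
  haveI : IsSchemeTheoreticallyDominant dInc.left := isSchDom_of_flat_surjective dInc.left
  haveI : IsAffineHom dInc.left := isAffineHom_left dInc
  haveI : IsIso e'.hom.left := inferInstanceAs (IsIso ((Over.forget _).map e'.hom))
  refine ⟨Y, g, hg, hs, M, instM, hfree, hfin, K, e'.hom ≫ dInc, c, hc,
    Over.mono_of_mono_left c, hcl, ?_, ?_, by rw [Category.assoc]; exact heq⟩
  · rw [Over.comp_left]
    infer_instance
  · rw [Over.comp_left]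
    infer_instance

theorem quasiCompact_left (hG : SGA3x.IsMultTypeFT G) (m : P ⟶ G) [IsMonHom m]
    (hP : LocSplit P) : QuasiCompact m.left := by
  refine OverDescP.of_forall_exists (@QuasiCompact) m fun s => ?_
  obtain ⟨Y, g, hg, hs, M, instM, hfree, hfin, K, q, c, hc, hcmono, hcl, hqd, hqq, heq⟩ :=
    exists_local_data hG m hP s
  refine ⟨Y, g, hg, hs, ?_⟩
  rw [← heq, Over.comp_left]
  infer_instance

/-- the image is, locally on the base, a diagonalisable subgroup. -/
theorem exists_local_iso_image (hG : SGA3x.IsMultTypeFT G) (m : P ⟶ G) [IsMonHom m]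
    (hP : LocSplit P) (s : S) :
    ∃ (Y : Scheme.{u}) (g : Y ⟶ S), IsOpenImmersion g ∧ s ∈ Set.range g ∧
      ∃ (M : Type) (_ : AddCommGroup M) (_ : Module.Free ℤ M) (_ : Module.Finite ℤ M)
        (K : AddSubgroup M) (c : Red.DS Y K ⟶ Red.bc g G)
        (θ : Red.bc g (imgObj m) ≅ Red.DS Y K), IsMonHom c ∧ Mono c ∧
        θ.hom ≫ c = (Over.pullback g).map (imgInc m) := by
  haveI := quasiCompact_left hG m hP
  obtain ⟨Y, g, hg, hs, M, instM, hfree, hfin, K, q, c, hc, hcmono, hcl, hqd, hqq, heq⟩ :=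
    exists_local_data hG m hP s
  haveI := hg
  haveI := hcl
  haveI := hqd
  obtain ⟨θ, hθ⟩ := exists_local_iso m g q c heq
  exact ⟨Y, g, hg, hs, M, instM, hfree, hfin, K, c, θ, hc, hcmono, hθ⟩

end LocalData

section Main

open Groth.Agent.Lib.T2H3.SubGrpObj

variable {S : Scheme.{u}} {G P : Over S} [GrpObj G] [GrpObj P]

theorem tensorHom_mul_eq {E : Over S} (j : E ⟶ G) :
    (j ⊗ₘ j) ≫ μ[G] = (fst E E ≫ j) * (snd E E ≫ j) := by
  rw [Hom.mul_def]
  congr 1

/-- **The image of a homomorphism from a locally split torus to a group of multiplicative type**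
exists and is a locally split torus. -/
theorem exists_image (hG : SGA3x.IsMultTypeFT G) (m : P ⟶ G) [IsMonHom m] (hP : LocSplit P) :
    ∃ (E : Over S) (_ : GrpObj E) (j : E ⟶ G) (π : P ⟶ E), IsMonHom j ∧ Mono j ∧
      (∀ s : S, ∃ U : S.Opens, s ∈ U ∧ ∃ r : ℕ,
        Red.IsSplitTorusWith (Fin r → ℤ) (Red.bc U.ι E)) ∧ π ≫ j = m := by
  obtain ⟨j, hj⟩ : ∃ j : imgObj m ⟶ G, j = imgInc m := ⟨_, rfl⟩
  haveI : Mono j := by rw [hj]; infer_instance
  have he : (η[P] ≫ imgProj m) ≫ j = η[G] := by
    rw [hj, Category.assoc, imgProj_imgInc, IsMonHom.one_hom]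
  -- multiplication
  obtain ⟨μE, hμE⟩ : ∃ μE : imgObj m ⊗ imgObj m ⟶ imgObj m, μE ≫ j = (j ⊗ₘ j) ≫ μ[G] := by
    refine factor_of_local j _ fun s => ?_
    obtain ⟨Y, g, hg, hs, M, instM, hfree, hfin, K, c, θ, hc, hcmono, hθ⟩ :=
      exists_local_iso_image hG m hP s
    haveI := hc
    rw [← hj] at hθ
    refine ⟨Y, g, hg, hs, (((Over.pullback g).map (fst _ _) ≫ θ.hom) *
      ((Over.pullback g).map (snd _ _) ≫ θ.hom)) ≫ θ.inv, ?_⟩
    have hθ' : θ.inv ≫ (Over.pullback g).map j = c := by rw [← hθ, Iso.inv_hom_id_assoc]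
    rw [Category.assoc, hθ', MonObj.mul_comp, Category.assoc, Category.assoc, hθ,
      tensorHom_mul_eq, Functor.map_mul, Functor.map_comp, Functor.map_comp]
  -- inverse
  obtain ⟨wE, hwE⟩ : ∃ wE : imgObj m ⟶ imgObj m, wE ≫ j = j ≫ ι[G] := by
    refine factor_of_local j _ fun s => ?_
    obtain ⟨Y, g, hg, hs, M, instM, hfree, hfin, K, c, θ, hc, hcmono, hθ⟩ :=
      exists_local_iso_image hG m hP s
    haveI := hc
    rw [← hj] at hθ
    refine ⟨Y, g, hg, hs, (θ.hom)⁻¹ ≫ θ.inv, ?_⟩
    have hθ' : θ.inv ≫ (Over.pullback g).map j = c := by rw [← hθ, Iso.inv_hom_id_assoc]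
    rw [Category.assoc, hθ', GrpObj.inv_comp, hθ, ← Hom.inv_def, Functor.map_inv']
  letI inst : GrpObj (imgObj m) := grpObjOfMono j (η[P] ≫ imgProj m) μE wE he hμE hwE
  haveI : IsMonHom j := isMonHom_of_mono j (η[P] ≫ imgProj m) μE wE he hμE hwE
  refine ⟨imgObj m, inst, j, imgProj m, inferInstance, inferInstance, ?_,
    by rw [hj]; exact imgProj_imgInc m⟩
  intro s
  obtain ⟨Y, g, hg, hs, M, instM, hfree, hfin, K, c, θ, hc, hcmono, hθ⟩ :=
    exists_local_iso_image hG m hP s
  haveI := hg
  haveI := hc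
  haveI := hcmono
  rw [← hj] at hθ
  haveI : IsMonHom θ.hom := isMonHom_of_mono_fac ((Over.pullback g).map j) c θ.hom hθ
  obtain ⟨r, ⟨e₂⟩⟩ := split_of_subgroup_free (S := Y) M K
  have hsplit : Red.IsSplitTorusWith (Fin r → ℤ) (Red.bc g (imgObj m)) :=
    ⟨Grp.mkIso' θ ≪≫ e₂⟩
  refine ⟨g.opensRange, hs, r, ?_⟩
  exact split_of_comp g.isoOpensRange.inv g (Scheme.Hom.isoOpensRange_inv_comp g) (imgObj m) _
    hsplit

end Main

end Groth.Agent.Lib.T2H7.ImgGlob
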