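import Groth.Agent.Lib.T2H7IrrSplitB
import Groth.Agent.Lib.T2H7SchImg

/-!
The image of a homomorphism from a diagonalisable group to a group of multiplicative type, locally
on an arbitrary base.
-/

set_option autoImplicit false
set_option linter.unusedSectionVars false
set_option linter.unusedVariables false
set_option linter.style.haveILetI false
universe u
open CategoryTheory CategoryTheory.Limits MonoidalCategory CartesianMonoidalCategory MonObj GrpObj
  AlgebraicGeometry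

namespace Groth.Agent.Lib.T2H7.ImgLoc

open Groth.Agent.Lib.T2H7.OverGlue Groth.Agent.Lib.T2H7.GrpIsoBC Groth.Agent.Lib.T2H7.ToriMono
  Groth.Agent.Lib.T2H7.MtModel Groth.Agent.Lib.T2H7.DiagHomA Groth.Agent.Lib.T2H7.DiagHomB
  Groth.Agent.Lib.T2H7.DiagHomE Groth.Agent.Lib.T2H7.DiagDS Groth.Agent.Lib.T2H3.MultGa
  Groth.Agent.Lib.Helper27.GaGm Groth.Agent.Lib.T2H7.MtLocus Groth.Agent.Lib.T2H7.QuotSplit
  Groth.Agent.Lib.T2H7.QtBc Groth.Agent.Lib.T2H7.MaxSplit Groth.Agent.Lib.T2H7.DsExact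
  Groth.Agent.Lib.T2H7.QuotUniq Groth.Agent.Lib.T2H7.ImgSplit

section LocalHom

variable {S : Scheme.{u}} {X Y : Over S} [GrpObj X] [GrpObj Y]

/-- being a homomorphism is Zariski-local on the base. -/
theorem isMonHom_of_openCover (𝒰 : S.OpenCover) (g : X ⟶ Y)
    (h : ∀ i, IsMonHom ((Over.pullback (𝒰.f i)).map g)) : IsMonHom g := by
  apply isMonHom_of_points
  refine EqDesc.eq_of_openCover 𝒰 _ _ fun i => ?_
  show (Over.pullback (𝒰.f i)).map ((fst X X * snd X X) ≫ g) =
    (Over.pullback (𝒰.f i)).map ((fst X X ≫ g) * (snd X X ≫ g))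
  haveI := h i
  rw [Functor.map_comp, Functor.map_mul, Functor.map_mul, Functor.map_comp, Functor.map_comp]
  exact MonObj.mul_comp ((Over.pullback (𝒰.f i)).map (fst X X))
    ((Over.pullback (𝒰.f i)).map (snd X X)) ((Over.pullback (𝒰.f i)).map g)

end LocalHom

section Clopen

variable {S : Scheme.{u}} {X Y : Over S}

theorem hom_ext_of_isEmpty {Z : Scheme.{u}} [IsEmpty ↥Z] {A B : Over Z} (a b : A ⟶ B) : a = b := by
  ext : 1
  haveI : IsEmpty ↥A.left := Function.isEmpty A.hom.base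
  exact (isInitialOfIsEmpty (X := A.left)).hom_ext _ _

/-- the two-member family consisting of an open subset and a complement. -/
def c2 (U U' : S.Opens) : ULift.{u} Bool → S.Opens := fun b => cond b.down U U'

theorem c2_cover (U U' : S.Opens) (h : (U' : Set S) = (U : Set S)ᶜ) :
    TopologicalSpace.IsOpenCover (c2 U U') := by
  apply TopologicalSpace.IsOpenCover.mk
  rw [eq_top_iff]
  intro x _
  by_cases hx : x ∈ U
  · exact TopologicalSpace.Opens.mem_iSup.2 ⟨⟨true⟩, hx⟩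
  · refine TopologicalSpace.Opens.mem_iSup.2 ⟨⟨false⟩, ?_⟩
    show x ∈ (U' : Set S)
    rw [h]
    exact hx

theorem eq_of_clopen (U U' : S.Opens) (h : (U' : Set S) = (U : Set S)ᶜ) (a b : X ⟶ Y)
    (h1 : (Over.pullback U.ι).map a = (Over.pullback U.ι).map b)
    (h2 : (Over.pullback U'.ι).map a = (Over.pullback U'.ι).map b) : a = b := by
  refine EqDesc.eq_of_openCover (S.openCoverOfIsOpenCover (c2 U U') (c2_cover U U' h)) a b ?_
  rintro ⟨i⟩
  cases i
  · exact h2
  · exact h1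

theorem isMonHom_of_clopen [GrpObj X] [GrpObj Y] (U U' : S.Opens)
    (h : (U' : Set S) = (U : Set S)ᶜ) (a : X ⟶ Y)
    (h1 : IsMonHom ((Over.pullback U.ι).map a)) (h2 : IsMonHom ((Over.pullback U'.ι).map a)) :
    IsMonHom a := by
  refine isMonHom_of_openCover (S.openCoverOfIsOpenCover (c2 U U') (c2_cover U U' h)) a ?_
  rintro ⟨i⟩
  cases i
  · exact h2
  · exact h1

/-- a morphism over `S` may be modified on the complement of an open and closed subset. -/
theorem exists_extend_clopen (U : S.Opens) (hUc : IsClosed (U : Set S)) (f f' : X ⟶ Y) :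
    ∃ (U' : S.Opens) (h : X ⟶ Y), (U' : Set S) = (U : Set S)ᶜ ∧
      (Over.pullback U.ι).map h = (Over.pullback U.ι).map f ∧
      (Over.pullback U'.ι).map h = (Over.pullback U'.ι).map f' := by
  obtain ⟨U', hU'⟩ : ∃ U' : S.Opens, (U' : Set S) = (U : Set S)ᶜ :=
    ⟨⟨(U : Set S)ᶜ, hUc.isOpen_compl⟩, rfl⟩
  have hcov := c2_cover U U' hU'
  let F : ∀ b : ULift.{u} Bool, Red.bc (c2 U U' b).ι X ⟶ Red.bc (c2 U U' b).ι Y := fun b =>
    match b with
    | ⟨true⟩ => (Over.pullback U.ι).map f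
    | ⟨false⟩ => (Over.pullback U'.ι).map f'
  have hdisj : U ⊓ U' = ⊥ := by
    ext x
    simp only [TopologicalSpace.Opens.coe_inf, Set.mem_inter_iff, SetLike.mem_coe,
      TopologicalSpace.Opens.coe_bot, Set.mem_empty_iff_false, iff_false, not_and]
    intro hx hx'
    have : x ∈ (U' : Set S) := hx'
    rw [hU'] at this
    exact this hx
  have hempty : IsEmpty ↥((U ⊓ U' : S.Opens) : Scheme.{u}) := by
    rw [hdisj]
    exact ⟨fun x => x.2⟩
  have hempty' : IsEmpty ↥((U' ⊓ U : S.Opens) : Scheme.{u}) := by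
    rw [inf_comm, hdisj]
    exact ⟨fun x => x.2⟩
  obtain ⟨h, hh⟩ := glue_opens (c2 U U') hcov F (by
    rintro ⟨i⟩ ⟨j⟩
    cases i <;> cases j
    · rfl
    · exact @hom_ext_of_isEmpty _ hempty' _ _ _ _
    · exact @hom_ext_of_isEmpty _ hempty _ _ _ _
    · rfl)
  exact ⟨U', h, hU', hh ⟨true⟩, hh ⟨false⟩⟩

end Clopen

section Image

variable {S : Scheme.{u}} {G : Over S} [GrpObj G] {M : Type} [AddCommGroup M] [AddGroup.FG M]

/-- a homomorphism `D(M) ⟶ G` killing `D(M/K)` factors through `D(K)`. -/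
theorem exists_mbar (K : AddSubgroup M) (m : Red.DS S M ⟶ G) [IsMonHom m]
    (dPr : Red.DS S (M ⧸ K) ⟶ Red.DS S M)
    (hdPr : ∀ x, dsFn dPr (sg x) = chr S (QuotientAddGroup.mk' K x))
    (dInc : Red.DS S M ⟶ Red.DS S K) (hdInc : ∀ k, dsFn dInc (sg k) = chr S (K.subtype k))
    (hkill : dPr ≫ m = 1) : ∃ mbar : Red.DS S K ⟶ G, IsMonHom mbar ∧ dInc ≫ mbar = m := by
  haveI : AddGroup.FG K := fg_subgroup K
  haveI : IsMonHom dPr := isMonHom_of_chr (QuotientAddGroup.mk' K) dPr hdPr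
  haveI : IsMonHom dInc := isMonHom_of_chr K.subtype dInc hdInc
  have hex : ∀ x, QuotientAddGroup.mk' K x = 0 → ∃ k, K.subtype k = x := by
    intro x hx
    exact ⟨⟨x, (QuotientAddGroup.eq_zero_iff x).1 hx⟩, rfl⟩
  have hzero : ∀ k, QuotientAddGroup.mk' K (K.subtype k) = 0 := by
    intro k
    exact (QuotientAddGroup.eq_zero_iff _).2 k.2
  have hinj : Function.Injective K.subtype := Subtype.val_injective
  have hq : RedSub.IsQuotient dPr dInc :=
    isQuotient K.subtype (QuotientAddGroup.mk' K) hinj (QuotientAddGroup.mk'_surjective K)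
      hex hzero dPr hdPr dInc hdInc
  obtain ⟨mbar, hmbar⟩ := exists_desc dPr dInc hq m (coset_const_of_kill dPr m hkill)
  exact ⟨mbar, isMonHom_of_comp dPr dInc hq m mbar hmbar, hmbar⟩

/-- **The image of a homomorphism `D_S(M) ⟶ G`** into a group of multiplicative type is, near
any given point, `D(K)` for a subgroup `K` of `M`. -/
theorem image_local (hG : SGA3x.IsMultTypeFT G) (m : Red.DS S M ⟶ G) [IsMonHom m] (s : S) :
    ∃ (W : S.Opens) (K : AddSubgroup M) (dInc : Red.DS S M ⟶ Red.DS S K)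
      (mbar : Red.DS S K ⟶ G), s ∈ W ∧ (∀ k, dsFn dInc (sg k) = chr S (K.subtype k)) ∧
      IsMonHom mbar ∧ Mono ((Over.pullback W.ι).map mbar).left ∧
      (Over.pullback W.ι).map (dInc ≫ mbar) = (Over.pullback W.ι).map m := by
  obtain ⟨Ω, instΩ, t, N, instN, eΩ, heΩ, τ, hτ, hτfl, hτsj, hτqc⟩ := exists_field_point_at hG s
  haveI := heΩ
  haveI := hτfl
  haveI := hτsj
  haveI := hτqc
  obtain ⟨ψ, hψ⟩ := exists_addHom (field_hconn (Ω := Ω)) (trv t eΩ m)
  obtain ⟨K, hK⟩ : ∃ K : AddSubgroup M, K = ψ.range := ⟨_, rfl⟩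
  haveI : AddGroup.FG K := fg_subgroup K
  haveI : AddGroup.FG (M ⧸ K) := QuotientAddGroup.fg K
  obtain ⟨dPr, hdPrmon, hdPr⟩ := exists_dsHom (T := S) (QuotientAddGroup.mk' K)
  obtain ⟨dInc, hdIncmon, hdInc⟩ := exists_dsHom (T := S) K.subtype
  haveI := hdPrmon
  haveI := hdIncmon
  have hE : ∀ {A B : Over S} [GrpObj B] (v : A ⟶ B) {Z : Scheme.{u}} (g : Z ⟶ S),
      EqDesc.E v 1 g ↔ (Over.pullback g).map v = 1 := by
    intro A B _ v Z g
    unfold EqDesc.E
    rw [Functor.map_one]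
  -- the locus where `m` kills `D(M/K)`
  obtain ⟨U, hUc, hU1, hU2⟩ := Groth.Agent.Lib.T2H7.MtLocusG.locus_trivial (dPr ≫ m)
    (isMultTypeFT_DS S (M ⧸ K)) hG
  have hsU : s ∈ U := by
    have htr : trv t eΩ (dPr ≫ m) = 1 := by
      obtain ⟨δ', hδ', hcomp⟩ := trv_comp t eΩ (QuotientAddGroup.mk' K) dPr hdPr m
      rw [hcomp]
      apply ds_ext'
      intro n
      rw [dsFn_comp_of_chr δ' (trv t eΩ m) ψ hψ n, hδ', dsFn_one_sg]
      have : QuotientAddGroup.mk' K (ψ n) = 0 := by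
        rw [QuotientAddGroup.mk'_apply, QuotientAddGroup.eq_zero_iff, hK]
        exact ⟨n, rfl⟩
      rw [this, chr_zero]
    have h1 : (Over.pullback t).map (dPr ≫ m) = 1 := (trv_eq_one_iff t eΩ _).1 htr
    have h2 : (Over.pullback (S.fromSpecResidueField s)).map (dPr ≫ m) = 1 := by
      rw [← hE] at h1 ⊢
      exact EqDesc.E.of_faithful τ hτ h1
    exact (hU1 s).2 h2
  -- modify `m` away from `U`
  obtain ⟨U', m', hU', hm'U, hm'U'⟩ := exists_extend_clopen U hUc m (1 : Red.DS S M ⟶ G)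
  haveI : IsMonHom m' := by
    refine isMonHom_of_clopen U U' hU' m' ?_ ?_
    · rw [hm'U]; infer_instance
    · rw [hm'U', Functor.map_one]; exact isMonHom_one'
  have hkill : dPr ≫ m' = 1 := by
    refine eq_of_clopen U U' hU' _ _ ?_ ?_
    · rw [Functor.map_comp, hm'U, ← Functor.map_comp, hU2, Functor.map_one]
    · rw [Functor.map_comp, hm'U', Functor.map_one, Functor.map_one, MonObj.comp_one]
  obtain ⟨mbar, hmbarmon, hmbar⟩ := exists_mbar K m' dPr hdPr dInc hdInc hkill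
  haveI := hmbarmon
  -- the fibre of `m'` at `t` is that of `m`
  have htU : ∀ x, t.base x ∈ U := fun x => by rw [pt_eq t s τ hτ x]; exact hsU
  have hmt : (Over.pullback t).map m' = (Over.pullback t).map m := by
    have hrange : Set.range t.base ⊆ Set.range U.ι.base := by
      rw [Scheme.Opens.range_ι]
      rintro _ ⟨x, rfl⟩
      exact htU x
    have hE' : EqDesc.E m' m U.ι := hm'U
    exact hE'.precomp (IsOpenImmersion.lift U.ι t hrange) (IsOpenImmersion.lift_fac _ _ _)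
  have htrv : trv t eΩ m' = trv t eΩ m := by
    unfold trv
    rw [hmt]
  -- the locus where `mbar` is a monomorphism
  obtain ⟨V, hVc, hV1, hV2⟩ := locus_mono _ _ (isMultTypeFT_DS S K) hG mbar
  obtain ⟨ψb, hψb⟩ := exists_addHom (field_hconn (Ω := Ω)) (trv t eΩ mbar)
  have hrel : ∀ n, ψ n = K.subtype (ψb n) := by
    intro n
    obtain ⟨δ', hδ', hcomp⟩ := trv_comp t eΩ K.subtype dInc hdInc mbar
    rw [hmbar, htrv] at hcomp
    apply chr_injective Ω
    rw [← hψ, hcomp, dsFn_comp_of_chr δ' (trv t eΩ mbar) ψb hψb n, hδ']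
  have hsurj : Function.Surjective ψb := by
    rintro ⟨k, hk⟩
    rw [hK] at hk
    obtain ⟨n, rfl⟩ := hk
    exact ⟨n, Subtype.ext (hrel n).symm⟩
  haveI : Mono (trv t eΩ mbar) := mono_of_surj ψb hsurj _ hψb
  have hmono_t : Mono ((Over.pullback t).map mbar) := by
    rw [map_eq_trv t eΩ mbar]
    infer_instance
  have hmono_s : Mono ((Over.pullback (S.fromSpecResidueField s)).map mbar).left := by
    apply OverDescP.of_fpqc (MorphismProperty.monomorphisms Scheme.{u}) τ
    rw [OverDescP.bc_comp_iff (MorphismProperty.monomorphisms Scheme.{u}) τ _ hτ mbar]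
    exact (inferInstance : Mono ((Over.pullback t).map mbar).left)
  have hsV : s ∈ V := (hV1 s).2 hmono_s
  refine ⟨U ⊓ V, K, dInc, mbar, ⟨hsU, hsV⟩, hdInc, inferInstance, ?_, ?_⟩
  · have h1 := OverDescP.bc (MorphismProperty.monomorphisms Scheme.{u})
      (S.homOfLE (inf_le_right : U ⊓ V ≤ V)) ((Over.pullback V.ι).map mbar) hV2
    exact (OverDescP.bc_comp_iff (MorphismProperty.monomorphisms Scheme.{u}) _ _
      (S.homOfLE_ι (inf_le_right : U ⊓ V ≤ V)) mbar).1 h1
  · rw [hmbar]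
    have hE' : EqDesc.E m' m U.ι := hm'U
    exact hE'.precomp (S.homOfLE (inf_le_left : U ⊓ V ≤ U)) (S.homOfLE_ι _)

end Image

end Groth.Agent.Lib.T2H7.ImgLoc
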