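import Groth.Agent.Lib.T2H7ImgLocA
import Groth.Agent.Lib.Helper12Descent

/-!
A monomorphism between groups of multiplicative type is a closed immersion.
-/

set_option autoImplicit false
set_option linter.unusedSectionVars false
set_option linter.unusedVariables false
set_option linter.style.haveILetI false
universe u
open CategoryTheory CategoryTheory.Limits MonoidalCategory CartesianMonoidalCategory MonObj GrpObj
  AlgebraicGeometry

namespace Groth.Agent.Lib.T2H7.ImgLoc

open Groth.Agent.Lib.T2H7.OverGlue Groth.Agent.Lib.T2H7.GrpIsoBC Groth.Agent.Lib.T2H7.ToriMono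
  Groth.Agent.Lib.T2H7.MtModel Groth.Agent.Lib.T2H7.DiagHomA Groth.Agent.Lib.T2H7.DiagHomB
  Groth.Agent.Lib.T2H7.DiagHomE Groth.Agent.Lib.T2H7.DiagDS Groth.Agent.Lib.T2H3.MultGa
  Groth.Agent.Lib.Helper27.GaGm Groth.Agent.Lib.T2H7.MtLocus Groth.Agent.Lib.T2H7.QuotSplit
  Groth.Agent.Lib.T2H7.QtBc Groth.Agent.Lib.T2H7.MaxSplit Groth.Agent.Lib.T2H7.DsExact
  Groth.Agent.Lib.T2H7.QuotUniq Groth.Agent.Lib.T2H7.ImgSplit

section ClosedImm

variable {R : Type u} [CommRing R] {M N : Type} [AddCommGroup M] [AddCommGroup N]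

theorem Fψ_surjective (ψ : M →+ N) (hψ : Function.Surjective ψ) :
    Function.Surjective (Fψ R ψ) := by
  intro x
  induction x using MonoidAlgebra.induction_on with
  | of n =>
    obtain ⟨m, hm⟩ := hψ (Multiplicative.toAdd n)
    refine ⟨MonoidAlgebra.single (Multiplicative.ofAdd m) 1, ?_⟩
    rw [Fψ_single, hm]
    rfl
  | add a b ha hb =>
    obtain ⟨a', rfl⟩ := ha
    obtain ⟨b', rfl⟩ := hb
    exact ⟨a' + b', map_add _ _ _⟩
  | smul r a ha =>
    obtain ⟨a', rfl⟩ := ha
    refine ⟨r • a', ?_⟩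
    rw [Algebra.smul_def, Algebra.smul_def, map_mul]
    congr 1
    rw [MonoidAlgebra.coe_algebraMap, MonoidAlgebra.coe_algebraMap]
    show Fψ R ψ (MonoidAlgebra.single (Multiplicative.ofAdd (0 : M)) _) = _
    rw [Fψ_single, map_zero]
    rfl

/-- over an affine base, `D(ψ)` is a closed immersion when `ψ` is surjective. -/
theorem isClosedImmersion_of_surj (ψ : M →+ N) (hψ : Function.Surjective ψ)
    (δ : Red.DS (Spec (CommRingCat.of R)) N ⟶ Red.DS (Spec (CommRingCat.of R)) M)
    (hδ : ∀ m, dsFn δ (sg m) = chr (Spec (CommRingCat.of R)) (ψ m)) :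
    IsClosedImmersion δ.left := by
  obtain ⟨aN, aM, haN, haM, he⟩ := arrow_eq ψ δ hδ
  haveI : IsIso aN.left := inferInstanceAs (IsIso ((Over.forget _).map aN))
  haveI : IsIso aM.left := inferInstanceAs (IsIso ((Over.forget _).map aM))
  haveI : IsClosedImmersion (Spec.map (CommRingCat.ofHom (Fψ R ψ))) :=
    IsClosedImmersion.spec_of_surjective _ (Fψ_surjective ψ hψ)
  obtain ⟨b, hb⟩ : ∃ b : Spec (CommRingCat.of (MonoidAlgebra R (Multiplicative M))) ⟶
      (Red.DS (Spec (CommRingCat.of R)) M).left, b = aM.left := ⟨_, rfl⟩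
  haveI : IsIso b := by rw [hb]; exact ‹IsIso aM.left›
  have he' : aN.left ≫ δ.left = Spec.map (CommRingCat.ofHom (Fψ R ψ)) ≫ b := by rw [hb]; exact he
  have h1 := MorphismProperty.cancel_left_of_respectsIso (P := @IsClosedImmersion)
    aN.left δ.left
  have h2 := MorphismProperty.cancel_right_of_respectsIso (P := @IsClosedImmersion)
    (Spec.map (CommRingCat.ofHom (Fψ R ψ))) b
  rw [he'] at h1
  exact (h1.symm.trans h2).2 inferInstance

end ClosedImm

section MonoClosed

variable {S : Scheme.{u}} {G H : Over S} [GrpObj G] [GrpObj H]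

/-- **A monomorphism between groups of multiplicative type is a closed immersion.** -/
theorem isClosedImmersion_of_mono (hG : SGA3x.IsMultTypeFT G) (hH : SGA3x.IsMultTypeFT H)
    (u : G ⟶ H) [IsMonHom u] (hmono : Mono u.left) : IsClosedImmersion u.left := by
  haveI := Groth.Agent.Lib.Helper12.descendsAlong_isClosedImmersion.{u}
  refine OverDescP.of_forall_exists (@IsClosedImmersion) u fun s => ?_
  obtain ⟨_, ⟨X, hX, rfl⟩, hsX, -⟩ := S.isBasis_affineOpens.exists_subset_of_mem_open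
    (Set.mem_univ s) isOpen_univ
  obtain ⟨X, rfl⟩ : ∃ X' : S.Opens, X' = X := ⟨X, rfl⟩
  have hXa : IsAffineOpen X := hX
  refine ⟨X.toScheme, X.ι, inferInstance, by rw [Scheme.Opens.range_ι]; exact hsX, ?_⟩
  haveI : IsAffine X.toScheme := hXa
  obtain ⟨Z, k₀, hfl, hsj, hqc, hmods⟩ := exists_local_models hG hH u X.ι
  haveI := hfl
  haveI := hsj
  haveI := hqc
  apply OverDescP.of_fpqc (@IsClosedImmersion) k₀
  rw [OverDescP.bc_comp_iff (@IsClosedImmersion) k₀ X.ι rfl u]
  refine OverDescP.of_forall_exists (@IsClosedImmersion) _ fun z => ?_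
  obtain ⟨R, instR, y, hy, hz, A, B, instA, instB, ψ, hmod⟩ := hmods z
  refine ⟨_, y, hy, hz, ?_⟩
  rw [OverDescP.bc_comp_iff (@IsClosedImmersion) y (k₀ ≫ X.ι) rfl u]
  have hmono' : MorphismProperty.monomorphisms Scheme.{u}
      ((Over.pullback (y ≫ k₀ ≫ X.ι)).map u).left :=
    OverDescP.bc (MorphismProperty.monomorphisms Scheme.{u}) _ u hmono
  obtain ⟨δ, hδ, hδmono⟩ := hmod.of_prop (MorphismProperty.monomorphisms Scheme.{u}) hmono'
  refine hmod.prop (@IsClosedImmersion) fun δ' hδ' => ?_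
  have hδδ' : δ' = δ := ds_ext' fun m => by rw [hδ, hδ']
  rw [hδδ']
  rcases subsingleton_or_nontrivial R with hR | hR
  · haveI : IsEmpty ↥(Spec (CommRingCat.of R)) :=
      inferInstanceAs (IsEmpty (PrimeSpectrum R))
    haveI : IsEmpty ↥(Red.DS (Spec (CommRingCat.of R)) A).left :=
      Function.isEmpty (Red.DS (Spec (CommRingCat.of R)) A).hom.base
    infer_instance
  · haveI : Mono δ.left := hδmono
    haveI : Mono δ := Over.mono_of_mono_left δ
    exact isClosedImmersion_of_surj ψ (surj_of_mono ψ δ hδ) δ hδ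

end MonoClosed

end Groth.Agent.Lib.T2H7.ImgLoc
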