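import Groth.Agent.Lib.T2H7ImgLocB

/-!
Local structure of a homomorphism from a locally diagonalisable group to a group of multiplicative
type.
-/

set_option autoImplicit false
set_option linter.unusedSectionVars false
set_option linter.unusedVariables false
set_option linter.style.haveILetI false
universe u
open CategoryTheory CategoryTheory.Limits MonoidalCategory CartesianMonoidalCategory MonObj GrpObj
  AlgebraicGeometry

namespace Groth.Agent.Lib.T2H7.ImgLoc

open Groth.Agent.Lib.T2H7.OverGlue Groth.Agent.Lib.T2H7.GrpIsoBC Groth.Agent.Lib.T2H7.ToriMono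
  Groth.Agent.Lib.T2H7.MtModel Groth.Agent.Lib.T2H7.DiagHomA Groth.Agent.Lib.T2H7.DiagHomB
  Groth.Agent.Lib.T2H7.DiagHomE Groth.Agent.Lib.T2H7.DiagDS Groth.Agent.Lib.T2H3.MultGa
  Groth.Agent.Lib.Helper27.GaGm Groth.Agent.Lib.T2H7.MtLocus Groth.Agent.Lib.T2H7.QuotSplit
  Groth.Agent.Lib.T2H7.QtBc Groth.Agent.Lib.T2H7.MaxSplit Groth.Agent.Lib.T2H7.DsExact
  Groth.Agent.Lib.T2H7.QuotUniq Groth.Agent.Lib.T2H7.ImgSplit

section LocalImage

variable {S : Scheme.{u}} {G P : Over S} [GrpObj G] [GrpObj P]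

/-- **Local structure of a homomorphism from a locally diagonalisable group to a group of
multiplicative type**: near each point it factors as a quotient `D(M) ⟶ D(K)` followed by a
monomorphism. -/
theorem exists_local_image (hG : SGA3x.IsMultTypeFT G) (m : P ⟶ G) [IsMonHom m] {V : S.Opens}
    {M : Type} [AddCommGroup M] [AddGroup.FG M] (e : Red.bc V.ι P ≅ Red.DS V M) [IsMonHom e.hom]
    (s : S) (hs : s ∈ V) :
    ∃ (Y : Scheme.{u}) (g : Y ⟶ S), IsOpenImmersion g ∧ s ∈ Set.range g ∧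
      ∃ (e' : Red.bc g P ≅ Red.DS Y M) (K : AddSubgroup M) (dInc : Red.DS Y M ⟶ Red.DS Y K)
        (c : Red.DS Y K ⟶ Red.bc g G), IsMonHom e'.hom ∧
        (∀ k, dsFn dInc (sg k) = chr Y (K.subtype k)) ∧ IsMonHom c ∧ Mono c.left ∧
        e'.hom ≫ dInc ≫ c = (Over.pullback g).map m := by
  have hGV := isMultTypeFT_bc V.ι hG
  obtain ⟨m', hm'⟩ : ∃ m' : Red.DS V M ⟶ Red.bc V.ι G, m' = e.inv ≫ (Over.pullback V.ι).map m :=
    ⟨_, rfl⟩
  haveI : IsMonHom m' := by rw [hm']; infer_instance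
  obtain ⟨W, K, dInc, mbar, hsW, hdInc, hmbarmon, hmono, heq⟩ :=
    image_local hGV m' (⟨s, hs⟩ : ↥(V : Scheme.{u}))
  haveI := hmbarmon
  obtain ⟨dIncW, hdIncWmon, hdIncW⟩ := exists_dsHom (T := (W : Scheme.{u})) K.subtype
  have hrel : (cIso W.ι M).inv ≫ (Over.pullback W.ι).map dInc ≫ (cIso W.ι K).hom = dIncW :=
    ds_ext' fun k => by rw [dsFn_bc W.ι K.subtype dInc hdInc k, hdIncW]
  refine ⟨(W : Scheme.{u}), W.ι ≫ V.ι, inferInstance, ⟨⟨⟨s, hs⟩, hsW⟩, rfl⟩,
    (ActBC.bcCompIso W.ι V.ι P rfl).symm ≪≫ (Over.pullback W.ι).mapIso e ≪≫ cIso W.ι M, K,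
    dIncW, (cIso W.ι K).inv ≫ (Over.pullback W.ι).map mbar ≫ (ActBC.bcCompIso W.ι V.ι G rfl).hom,
    ?_, hdIncW, inferInstance, ?_, ?_⟩
  · show IsMonHom ((ActBC.bcCompIso W.ι V.ι P rfl).inv ≫ (Over.pullback W.ι).map e.hom ≫
      (cIso W.ι M).hom)
    infer_instance
  · haveI : Mono ((Over.pullback W.ι).map mbar) := Over.mono_of_mono_left _
    haveI : Mono ((cIso W.ι K).inv ≫ (Over.pullback W.ι).map mbar ≫
        (ActBC.bcCompIso W.ι V.ι G rfl).hom) := inferInstance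
    infer_instance
  · have hnat := ActBC.bcCompIso_hom_naturality W.ι V.ι rfl m
    have h1 : (Over.pullback W.ι).map ((Over.pullback V.ι).map m) =
        (Over.pullback W.ι).map e.hom ≫ (Over.pullback W.ι).map m' := by
      rw [← Functor.map_comp, hm', Iso.hom_inv_id_assoc]
    rw [← hrel]
    simp only [Iso.trans_hom, Iso.symm_hom, Functor.mapIso_hom, Category.assoc,
      Iso.hom_inv_id_assoc]
    have h2 : (Over.pullback W.ι).map dInc ≫ (Over.pullback W.ι).map mbar =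
        (Over.pullback W.ι).map m' := by rw [← Functor.map_comp, heq]
    have h3 : (Over.pullback W.ι).map e.hom ≫ (Over.pullback W.ι).map m' ≫
        (ActBC.bcCompIso W.ι V.ι G rfl).hom =
        (ActBC.bcCompIso W.ι V.ι P rfl).hom ≫ (Over.pullback (W.ι ≫ V.ι)).map m := by
      rw [← Category.assoc, ← h1, hnat]
    rw [reassoc_of% h2, h3, Iso.inv_hom_id_assoc]

end LocalImage

end Groth.Agent.Lib.T2H7.ImgLoc
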