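import Groth.Agent.Lib.T2H7RigidG

set_option autoImplicit false
set_option linter.unusedSectionVars false
set_option linter.unusedVariables false
set_option linter.style.haveILetI false
universe u
open CategoryTheory CategoryTheory.Limits MonoidalCategory CartesianMonoidalCategory MonObj GrpObj
  AlgebraicGeometry

namespace Groth.Agent.Lib.T2H7.Rigid

open Groth.Agent.Lib.T2H3.MultGa Groth.Agent.Lib.Helper27.GaGm
  Groth.Agent.Lib.T2H7.DiagDS Groth.Agent.Lib.T2H7.DiagHomA Groth.Agent.Lib.T2H7.DiagHomB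
  Groth.Agent.Lib.T2H7.DiagHomD Groth.Agent.Lib.T2H7.MtModel

section Comm

theorem ds_comm {Z : Scheme.{u}} {M : Type} [AddCommGroup M] {W : Over Z}
    (x y : W ⟶ Red.DS Z M) : x * y = y * x := by
  apply ds_ext'
  intro m
  rw [dsFn_mul_sg, dsFn_mul_sg, mul_comm]

open Groth.Agent.Lib.T2H7.GrpIsoBC in
/-- groups of multiplicative type are commutative. -/
theorem comm_of_multType {S : Scheme.{u}} {H : Over S} [GrpObj H] (hH : SGA3x.IsMultTypeFT H)
    (X : Over S) (h h' : X ⟶ H) : h * h' = h' * h := by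
  obtain ⟨S', f, hfl, hsj, hcov, hloc⟩ := hH
  haveI := hfl
  refine EqDesc.eq_of_cover (h * h') (h' * h) f hcov fun s' => ?_
  obtain ⟨U, hs', M, inst, hfg, he⟩ := hloc s'
  refine ⟨U, hs', ?_⟩
  obtain ⟨e, hemon⟩ := (nonempty_grpIso_iff _ _).1 he
  haveI := hemon
  show (Over.pullback (U.ι ≫ f)).map (h * h') = (Over.pullback (U.ι ≫ f)).map (h' * h)
  have h1 := Functor.map_mul (Over.pullback (U.ι ≫ f)) h h'
  have h2 := Functor.map_mul (Over.pullback (U.ι ≫ f)) h' h
  rw [h1, h2, ← cancel_mono e.hom]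
  have h3 := MonObj.mul_comp ((Over.pullback (U.ι ≫ f)).map h) ((Over.pullback (U.ι ≫ f)).map h')
    e.hom
  have h4 := MonObj.mul_comp ((Over.pullback (U.ι ≫ f)).map h') ((Over.pullback (U.ι ≫ f)).map h)
    e.hom
  exact h3.trans ((ds_comm _ _).trans h4.symm)

end Comm

end Groth.Agent.Lib.T2H7.Rigid
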