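import Groth.Agent.Lib.T2H7MaxSplit
import Groth.Agent.Lib.T2H7RigidH

/-!
The image of a homomorphism from a diagonalisable group to a group of multiplicative type over a
connected base, and the greatest split subtorus.
-/

set_option autoImplicit false
set_option linter.unusedSectionVars false
set_option linter.unusedVariables false
set_option linter.style.haveILetI false
universe u
open CategoryTheory CategoryTheory.Limits MonoidalCategory CartesianMonoidalCategory MonObj GrpObj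
  AlgebraicGeometry

namespace Groth.Agent.Lib.T2H7.ImgSplit

open Groth.Agent.Lib.T2H3.MultGa Groth.Agent.Lib.Helper27.GaGm
  Groth.Agent.Lib.T2H7.DiagDS Groth.Agent.Lib.T2H7.DiagHomA Groth.Agent.Lib.T2H7.DiagHomB
  Groth.Agent.Lib.T2H7.DiagHomE
  Groth.Agent.Lib.T2H7.GrpIsoBC Groth.Agent.Lib.T2H7.ToriMono Groth.Agent.Lib.T2H7.MtModel
  Groth.Agent.Lib.T2H7.MtLocus Groth.Agent.Lib.T2H7.QuotSplit Groth.Agent.Lib.T2H7.QtBc
  Groth.Agent.Lib.T2H7.MaxSplit Groth.Agent.Lib.T2H7.DsExact Groth.Agent.Lib.T2H7.QuotUniq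

section Desc

variable {S : Scheme.{u}} {G H W : Over S} [GrpObj G] [GrpObj H] [GrpObj W]

/-- a homomorphism killing the subgroup is constant on its cosets. -/
theorem coset_const_of_kill (i : H ⟶ G) (m : G ⟶ W) [IsMonHom m] (hk : i ≫ m = 1) :
    fst G H ≫ m = ((G ◁ i) ≫ μ[G]) ≫ m := by
  have h1 : (G ◁ i) ≫ μ[G] = fst G H * (snd G H ≫ i) := by
    rw [Hom.mul_def]
    congr 1
  rw [h1, MonObj.mul_comp _ _ m, Category.assoc, hk, MonObj.comp_one, _root_.mul_one]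

end Desc

section Tr

variable {S : Scheme.{u}} {G : Over S} [GrpObj G]
  {Ω : Type u} [Field Ω] (t : Spec (CommRingCat.of Ω) ⟶ S) {N : Type} [AddCommGroup N]
  (eΩ : Red.bc t G ≅ Red.DS (Spec (CommRingCat.of Ω)) N)

/-- the fibre at `t` of a morphism `D_S(A) ⟶ G`, as a morphism `D_Ω(A) ⟶ D_Ω(N)`. -/
noncomputable def trv {A : Type} [AddCommGroup A] (v : Red.DS S A ⟶ G) :
    Red.DS (Spec (CommRingCat.of Ω)) A ⟶ Red.DS (Spec (CommRingCat.of Ω)) N :=
  (cIso t A).inv ≫ (Over.pullback t).map v ≫ eΩ.hom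

theorem map_eq_trv {A : Type} [AddCommGroup A] (v : Red.DS S A ⟶ G) :
    (Over.pullback t).map v = (cIso t A).hom ≫ trv t eΩ v ≫ eΩ.inv := by
  unfold trv
  simp

variable [IsMonHom eΩ.hom]

instance {A : Type} [AddCommGroup A] (v : Red.DS S A ⟶ G) [IsMonHom v] :
    IsMonHom (trv t eΩ v) := by
  unfold trv
  infer_instance

theorem trv_eq_one_iff {A : Type} [AddCommGroup A] (v : Red.DS S A ⟶ G) :
    trv t eΩ v = 1 ↔ (Over.pullback t).map v = 1 := by
  unfold trv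
  constructor
  · intro h
    rw [← cancel_epi (cIso t A).inv, ← cancel_mono eΩ.hom, Category.assoc, h,
      MonObj.comp_one, MonObj.one_comp (eΩ.hom)]
  · intro h
    rw [h, MonObj.one_comp (eΩ.hom), MonObj.comp_one]

theorem trv_comp {A B : Type} [AddCommGroup A] [AddCommGroup B] (ψ : A →+ B)
    (δ : Red.DS S B ⟶ Red.DS S A) (hδ : ∀ a, dsFn δ (sg a) = chr S (ψ a)) (v : Red.DS S A ⟶ G) :
    ∃ δ' : Red.DS (Spec (CommRingCat.of Ω)) B ⟶ Red.DS (Spec (CommRingCat.of Ω)) A,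
      (∀ a, dsFn δ' (sg a) = chr (Spec (CommRingCat.of Ω)) (ψ a)) ∧
        trv t eΩ (δ ≫ v) = δ' ≫ trv t eΩ v := by
  refine ⟨(cIso t B).inv ≫ (Over.pullback t).map δ ≫ (cIso t A).hom, dsFn_bc t ψ δ hδ, ?_⟩
  unfold trv
  simp

end Tr


section Image

variable {S : Scheme.{u}} {G : Over S} [GrpObj G]

theorem univ_of_clopen_mem [ConnectedSpace ↥S] (U : S.Opens) (hUc : IsClosed (U : Set S)) (s : S)
    (hs : s ∈ U) : (U : Set S) = Set.univ := by
  rcases isClopen_iff.1 (⟨hUc, U.2⟩ : IsClopen (U : Set S)) with h0 | h1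
  · exact absurd hs (by rw [← SetLike.mem_coe, h0]; exact Set.notMem_empty s)
  · exact h1

theorem cover_of_univ (U : S.Opens) (hU : (U : Set S) = Set.univ) :
    TopologicalSpace.IsOpenCover (fun _ : Unit => U) := by
  apply TopologicalSpace.IsOpenCover.mk
  ext x
  simp only [TopologicalSpace.Opens.coe_iSup, Set.mem_iUnion, SetLike.mem_coe,
    TopologicalSpace.Opens.coe_top, Set.mem_univ, iff_true]
  exact ⟨(), by rw [← SetLike.mem_coe, hU]; trivial⟩

/-- **The image of a homomorphism `D_S(M) ⟶ G`** into a group of multiplicative type over a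
connected base is `D_S(K)` for a subgroup `K` of `M`. -/
theorem image_split [ConnectedSpace ↥S] {M : Type} [AddCommGroup M] [AddGroup.FG M]
    (hG : SGA3x.IsMultTypeFT G) (m : Red.DS S M ⟶ G) [IsMonHom m] :
    ∃ (K : AddSubgroup M) (dInc : Red.DS S M ⟶ Red.DS S K) (mbar : Red.DS S K ⟶ G),
      (∀ k, dsFn dInc (sg k) = chr S (K.subtype k)) ∧ IsMonHom mbar ∧ Mono mbar ∧
        dInc ≫ mbar = m := by
  obtain ⟨Ω, instΩ, t, s, N, instN, eΩ, heΩ, τ, hτ, hτfl, hτsj, hτqc⟩ := exists_field_point hG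
  haveI := heΩ
  haveI := hτfl
  haveI := hτsj
  haveI := hτqc
  obtain ⟨ψ, hψ⟩ := exists_addHom (field_hconn (Ω := Ω)) (trv t eΩ m)
  obtain ⟨K, hK⟩ : ∃ K : AddSubgroup M, K = ψ.range := ⟨_, rfl⟩
  haveI : AddGroup.FG K := fg_subgroup K
  haveI : AddGroup.FG (M ⧸ K) := QuotientAddGroup.fg K
  obtain ⟨dPr, hdPrmon, hdPr⟩ := exists_dsHom (T := S) (QuotientAddGroup.mk' K)
  obtain ⟨dInc, hdIncmon, hdInc⟩ := exists_dsHom (T := S) K.subtype
  haveI := hdPrmon
  haveI := hdIncmon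
  have hex : ∀ x, QuotientAddGroup.mk' K x = 0 → ∃ k, K.subtype k = x := by
    intro x hx
    exact ⟨⟨x, (QuotientAddGroup.eq_zero_iff x).1 hx⟩, rfl⟩
  have hzero : ∀ k, QuotientAddGroup.mk' K (K.subtype k) = 0 := by
    intro k
    exact (QuotientAddGroup.eq_zero_iff _).2 k.2
  have hinj : Function.Injective K.subtype := Subtype.val_injective
  have hq : RedSub.IsQuotient dPr dInc :=
    isQuotient K.subtype (QuotientAddGroup.mk' K) hinj (QuotientAddGroup.mk'_surjective K)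
      hex hzero dPr hdPr dInc hdInc
  have hE : ∀ {A B : Over S} [GrpObj B] (v : A ⟶ B) {Z : Scheme.{u}} (g : Z ⟶ S),
      EqDesc.E v 1 g ↔ (Over.pullback g).map v = 1 := by
    intro A B _ v Z g
    unfold EqDesc.E
    rw [Functor.map_one]
  -- `m` kills `D(M/K)`
  have hkill : dPr ≫ m = 1 := by
    obtain ⟨U, hUc, hU1, hU2⟩ := Groth.Agent.Lib.T2H7.MtLocusG.locus_trivial (dPr ≫ m)
      (isMultTypeFT_DS S (M ⧸ K)) hG
    have htr : trv t eΩ (dPr ≫ m) = 1 := by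
      obtain ⟨δ', hδ', hcomp⟩ := trv_comp t eΩ (QuotientAddGroup.mk' K) dPr hdPr m
      rw [hcomp]
      apply ds_ext'
      intro n
      rw [dsFn_comp_of_chr δ' (trv t eΩ m) ψ hψ n, hδ', dsFn_one_sg]
      have : QuotientAddGroup.mk' K (ψ n) = 0 := by
        rw [QuotientAddGroup.mk'_apply, QuotientAddGroup.eq_zero_iff, hK]
        exact ⟨n, rfl⟩
      rw [this, chr_zero]
    have h1 : (Over.pullback t).map (dPr ≫ m) = 1 := (trv_eq_one_iff t eΩ _).1 htr
    have h2 : (Over.pullback (S.fromSpecResidueField s)).map (dPr ≫ m) = 1 := by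
      rw [← hE] at h1 ⊢
      exact EqDesc.E.of_faithful τ hτ h1
    have hsU : s ∈ U := (hU1 s).2 h2
    exact eq_one_of_top _ U (univ_of_clopen_mem U hUc s hsU) hU2
  obtain ⟨mbar, hmbar⟩ := exists_desc dPr dInc hq m (coset_const_of_kill dPr m hkill)
  haveI : IsMonHom mbar := isMonHom_of_comp dPr dInc hq m mbar hmbar
  refine ⟨K, dInc, mbar, hdInc, inferInstance, ?_, hmbar⟩
  -- `mbar` is a monomorphism
  obtain ⟨V, hVc, hV1, hV2⟩ := locus_mono _ _ (isMultTypeFT_DS S K) hG mbar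
  obtain ⟨ψb, hψb⟩ := exists_addHom (field_hconn (Ω := Ω)) (trv t eΩ mbar)
  have hrel : ∀ n, ψ n = K.subtype (ψb n) := by
    intro n
    obtain ⟨δ', hδ', hcomp⟩ := trv_comp t eΩ K.subtype dInc hdInc mbar
    rw [hmbar] at hcomp
    apply chr_injective Ω
    rw [← hψ, hcomp, dsFn_comp_of_chr δ' (trv t eΩ mbar) ψb hψb n, hδ']
  have hsurj : Function.Surjective ψb := by
    rintro ⟨k, hk⟩
    rw [hK] at hk
    obtain ⟨n, rfl⟩ := hk
    exact ⟨n, Subtype.ext (hrel n).symm⟩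
  haveI : Mono (trv t eΩ mbar) := mono_of_surj ψb hsurj _ hψb
  have hmono_t : Mono ((Over.pullback t).map mbar) := by
    rw [map_eq_trv t eΩ mbar]
    infer_instance
  have hmono_s : Mono ((Over.pullback (S.fromSpecResidueField s)).map mbar).left := by
    apply OverDescP.of_fpqc (MorphismProperty.monomorphisms Scheme.{u}) τ
    rw [OverDescP.bc_comp_iff (MorphismProperty.monomorphisms Scheme.{u}) τ _ hτ mbar]
    exact (inferInstance : Mono ((Over.pullback t).map mbar).left)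
  have hsV : s ∈ V := (hV1 s).2 hmono_s
  have hVuniv := univ_of_clopen_mem V hVc s hsV
  have hleft : Mono mbar.left := by
    refine OverDescP.of_openCover (MorphismProperty.monomorphisms Scheme.{u})
      (S.openCoverOfIsOpenCover (fun _ : Unit => V) (cover_of_univ V hVuniv)) mbar fun _ => ?_
    exact hV2
  exact Over.mono_of_mono_left mbar

end Image


section Greatest

variable {S : Scheme.{u}} {G : Over S} [GrpObj G]

/-- the product of two homomorphisms into a commutative group is a homomorphism. -/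
theorem isMonHom_mul_of_comm {X : Over S} [GrpObj X]
    (hcomm : ∀ (Y : Over S) (a b : Y ⟶ G), a * b = b * a) (x y : X ⟶ G) [IsMonHom x]
    [IsMonHom y] : IsMonHom (x * y) := by
  apply isMonHom_of_points
  rw [MonObj.comp_mul, MonObj.comp_mul, MonObj.comp_mul, MonObj.mul_comp _ _ x,
    MonObj.mul_comp _ _ y]
  rw [_root_.mul_assoc, _root_.mul_assoc]
  congr 1
  rw [← _root_.mul_assoc, ← _root_.mul_assoc]
  congr 1
  exact hcomm _ _ _

/-- `D_S(K)` is a split torus for a subgroup `K` of a finitely generated free group. -/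
theorem split_of_subgroup_free (M : Type) [AddCommGroup M] [Module.Free ℤ M] [Module.Finite ℤ M]
    (K : AddSubgroup M) :
    ∃ r' : ℕ, Nonempty (Grp.mk (Red.DS S K) ≅ Grp.mk (Red.DS S (Fin r' → ℤ))) := by
  obtain ⟨n, ⟨b⟩⟩ := Submodule.nonempty_basis_of_pid (Module.Free.chooseBasis ℤ M)
    (AddSubgroup.toIntSubmodule K)
  let e0 : (AddSubgroup.toIntSubmodule K) ≃+ (Fin n → ℤ) := b.equivFun.toAddEquiv
  let e : (Fin n → ℤ) ≃+ K :=
    { toFun := fun v => ⟨(e0.symm v).1, (e0.symm v).2⟩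
      invFun := fun k => e0 ⟨k.1, k.2⟩
      left_inv := fun v => by
        show e0 ⟨(e0.symm v).1, (e0.symm v).2⟩ = v
        exact e0.apply_symm_apply v
      right_inv := fun k => by
        apply Subtype.ext
        show (e0.symm (e0 ⟨k.1, k.2⟩)).1 = k.1
        rw [e0.symm_apply_apply]
      map_add' := fun v w => by
        apply Subtype.ext
        show (e0.symm (v + w)).1 = (e0.symm v).1 + (e0.symm w).1
        rw [map_add]
        rfl }
  obtain ⟨δ, hδmon, hδ⟩ := exists_dsHom (T := S) e.toAddMonoidHom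
  haveI := hδmon
  haveI : IsIso δ := isIso_dsHom e δ hδ
  refine ⟨n, (nonempty_grpIso_iff _ _).2 ⟨asIso δ, ?_⟩⟩
  rw [asIso_hom]
  exact hδmon

/-- a monomorphism of split tori does not decrease the rank. -/
theorem rank_le_of_mono [Nonempty S] {T T' : Over S} [GrpObj T] [GrpObj T'] (g : T ⟶ T')
    [IsMonHom g] [Mono g] (r r' : ℕ) (hT : Red.IsSplitTorusWith (Fin r → ℤ) T)
    (hT' : Red.IsSplitTorusWith (Fin r' → ℤ) T') : r ≤ r' := by
  obtain ⟨s⟩ := ‹Nonempty S›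
  obtain ⟨e', he'⟩ := (nonempty_grpIso_iff _ _).1 (split_bc (S.fromSpecResidueField s) hT')
  haveI := he'
  exact rank_le_of_point (Ω := ↑(S.residueField s)) (S.fromSpecResidueField s) e' r'
    (AddMonoidHom.id _) Function.surjective_id g r hT

/-- a split subtorus of maximal rank. -/
theorem exists_max_rank [Nonempty S] (hG : SGA3x.IsMultTypeFT G) :
    ∃ (r : ℕ) (T : Over S) (_ : GrpObj T) (j : T ⟶ G), IsMonHom j ∧ Mono j ∧
      Red.IsSplitTorusWith (Fin r → ℤ) T ∧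
      ∀ (T' : Over S) [GrpObj T'] (j' : T' ⟶ G) [IsMonHom j'] [Mono j'] (r' : ℕ),
        Red.IsSplitTorusWith (Fin r' → ℤ) T' → r' ≤ r := by
  obtain ⟨Ω, instΩ, t, N, instN, eΩ, heΩ, hfg⟩ := exists_field_point_fg hG
  haveI := heΩ
  haveI := hfg
  obtain ⟨n, f, hf⟩ := exists_fin_surj N
  obtain ⟨P, hP⟩ : ∃ P : ℕ → Prop, P = fun r => ∃ (T : Over S) (_ : GrpObj T) (j : T ⟶ G),
      IsMonHom j ∧ Mono j ∧ Red.IsSplitTorusWith (Fin r → ℤ) T := ⟨_, rfl⟩
  have h0 : P 0 := by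
    rw [hP]
    exact ⟨Red.DS S (Fin 0 → ℤ), inferInstance, 1, isMonHom_one', mono_of_subsingleton _,
      ⟨Iso.refl _⟩⟩
  have hb : ∀ r, P r → r ≤ n := by
    intro r hr
    rw [hP] at hr
    obtain ⟨T, instT, j, hjm, hjmono, hT⟩ := hr
    exact rank_le_of_point t eΩ n f hf j r hT
  obtain ⟨r, hPr, hmax⟩ := exists_max P h0 n hb
  rw [hP] at hPr
  obtain ⟨T, instT, j, hjm, hjmono, hT⟩ := hPr
  refine ⟨r, T, instT, j, hjm, hjmono, hT, ?_⟩
  intro T' _ j' _ _ r' hT'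
  exact hmax r' (by
    rw [hP]
    exact ⟨T', inferInstance, j', inferInstance, inferInstance, hT'⟩)

end Greatest


section GreatestMain

variable {S : Scheme.{u}} {G : Over S} [GrpObj G]

theorem dsFn_id {T : Scheme.{u}} {M : Type} [AddCommGroup M] (m : M) :
    dsFn (𝟙 (Red.DS T M)) (sg m) = chr T m := rfl

/-- **Over a connected base, a group of multiplicative type has a greatest split subtorus.** -/
theorem exists_greatest_split [ConnectedSpace ↥S] (hG : SGA3x.IsMultTypeFT G) :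
    ∃ (T : Over S) (_ : GrpObj T) (j : T ⟶ G) (r : ℕ), IsMonHom j ∧ Mono j ∧
      Red.IsSplitTorusWith (Fin r → ℤ) T ∧
      ∀ (T' : Over S) [GrpObj T'] (j' : T' ⟶ G) [IsMonHom j'] [Mono j'] (r' : ℕ),
        Red.IsSplitTorusWith (Fin r' → ℤ) T' → ∃ g : T' ⟶ T, g ≫ j = j' := by
  haveI : Nonempty S := inferInstance
  obtain ⟨r, T, instT, j, hjm, hjmono, hT, hmax⟩ := exists_max_rank hG
  refine ⟨T, instT, j, r, hjm, hjmono, hT, ?_⟩
  intro T' _ j' _ _ r' hT'
  obtain ⟨e, hemon⟩ := (nonempty_grpIso_iff _ _).1 hT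
  obtain ⟨e', he'mon⟩ := (nonempty_grpIso_iff _ _).1 hT'
  haveI := hemon
  haveI := he'mon
  have hcomm := Groth.Agent.Lib.T2H7.Rigid.comm_of_multType hG
  -- the two subtori as subgroups `a`, `a'`
  obtain ⟨a, ha⟩ : ∃ a : Red.DS S (Fin r → ℤ) ⟶ G, a = e.inv ≫ j := ⟨_, rfl⟩
  obtain ⟨a', ha'⟩ : ∃ a' : Red.DS S (Fin r' → ℤ) ⟶ G, a' = e'.inv ≫ j' := ⟨_, rfl⟩
  haveI : IsMonHom a := by rw [ha]; infer_instance
  haveI : IsMonHom a' := by rw [ha']; infer_instance
  haveI : Mono a := by rw [ha]; infer_instance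
  -- the product torus
  obtain ⟨p₁, hp₁mon, hp₁⟩ := exists_dsHom (T := S)
    (AddMonoidHom.inl (Fin r → ℤ) (Fin r' → ℤ))
  obtain ⟨p₂, hp₂mon, hp₂⟩ := exists_dsHom (T := S)
    (AddMonoidHom.inr (Fin r → ℤ) (Fin r' → ℤ))
  obtain ⟨s₁, hs₁mon, hs₁⟩ := exists_dsHom (T := S)
    (AddMonoidHom.fst (Fin r → ℤ) (Fin r' → ℤ))
  obtain ⟨s₂, hs₂mon, hs₂⟩ := exists_dsHom (T := S)
    (AddMonoidHom.snd (Fin r → ℤ) (Fin r' → ℤ))
  haveI := hp₁mon
  haveI := hp₂mon
  haveI := hs₁mon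
  haveI := hs₂mon
  have h11 : s₁ ≫ p₁ = 𝟙 _ := by
    apply ds_ext'
    intro x
    rw [dsFn_comp_of_chr s₁ p₁ _ hp₁ x, hs₁, dsFn_id]
    rfl
  have h12 : s₁ ≫ p₂ = 1 := by
    apply ds_ext'
    intro x
    rw [dsFn_comp_of_chr s₁ p₂ _ hp₂ x, hs₁, dsFn_one_sg]
    exact chr_zero
  have h22 : s₂ ≫ p₂ = 𝟙 _ := by
    apply ds_ext'
    intro x
    rw [dsFn_comp_of_chr s₂ p₂ _ hp₂ x, hs₂, dsFn_id]
    rfl
  have h21 : s₂ ≫ p₁ = 1 := by
    apply ds_ext'
    intro x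
    rw [dsFn_comp_of_chr s₂ p₁ _ hp₁ x, hs₂, dsFn_one_sg]
    exact chr_zero
  obtain ⟨m, hm⟩ : ∃ m : Red.DS S ((Fin r → ℤ) × (Fin r' → ℤ)) ⟶ G,
      m = (p₁ ≫ a) * (p₂ ≫ a') := ⟨_, rfl⟩
  haveI : IsMonHom m := by
    rw [hm]
    exact isMonHom_mul_of_comm hcomm _ _
  have hs₁m : s₁ ≫ m = a := by
    rw [hm, MonObj.comp_mul, ← Category.assoc, ← Category.assoc, h11, h12, Category.id_comp,
      MonObj.one_comp (a'), _root_.mul_one]
  have hs₂m : s₂ ≫ m = a' := by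
    rw [hm, MonObj.comp_mul, ← Category.assoc, ← Category.assoc, h21, h22, Category.id_comp,
      MonObj.one_comp (a), _root_.one_mul]
  haveI : AddGroup.FG ((Fin r → ℤ) × (Fin r' → ℤ)) :=
    Module.Finite.iff_addGroup_fg.mp inferInstance
  obtain ⟨K, dInc, mbar, hdInc, hmbarmon, hmbarmono, hmbar⟩ := image_split hG m
  haveI := hmbarmon
  haveI := hmbarmono
  haveI : IsMonHom dInc := isMonHom_of_chr K.subtype dInc hdInc
  obtain ⟨r'', hT''⟩ := split_of_subgroup_free (S := S) ((Fin r → ℤ) × (Fin r' → ℤ)) K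
  have hr''r : r'' ≤ r := hmax (Red.DS S K) mbar r'' hT''
  obtain ⟨g₁, hg₁⟩ : ∃ g₁ : Red.DS S (Fin r → ℤ) ⟶ Red.DS S K, g₁ = s₁ ≫ dInc := ⟨_, rfl⟩
  have hg₁a : g₁ ≫ mbar = a := by
    rw [hg₁, Category.assoc, hmbar, hs₁m]
  haveI : Mono g₁ := mono_of_mono_fac hg₁a
  haveI : IsMonHom g₁ := by rw [hg₁]; infer_instance
  have hrr'' : r ≤ r'' := rank_le_of_mono g₁ r r'' ⟨Iso.refl _⟩ hT''
  have hrr : r'' = r := le_antisymm hr''r hrr''
  subst hrr
  haveI : IsIso g₁ := isIso_of_split_same_rank g₁ r'' ⟨Iso.refl _⟩ hT''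
  refine ⟨e'.hom ≫ s₂ ≫ dInc ≫ inv g₁ ≫ e.inv, ?_⟩
  have hj2 : inv g₁ ≫ a = mbar := by
    rw [← hg₁a, IsIso.inv_hom_id_assoc]
  simp only [Category.assoc]
  rw [← ha, hj2, hmbar, hs₂m, ha', Iso.hom_inv_id_assoc]

end GreatestMain

end Groth.Agent.Lib.T2H7.ImgSplit
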