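import Groth.Agent.Lib.T2H7InertiaLevel
import Groth.Agent.Lib.Helper3IndEt
import Groth.Prelude.Def_PBC

/-!
# The local ring of the inertia invariants is ind-étale (infinite Galois case)
-/

set_option autoImplicit false
set_option linter.unusedSectionVars false
set_option linter.unusedVariables false
set_option linter.style.haveILetI false

universe u

namespace Groth.Agent.Lib.T2H7.InertiaIndEt

open Groth.Agent.Lib.T2H7.InertiaLimit Groth.Agent.Lib.T2H7.InertiaLevel
open Groth.Agent.Lib.Helper3.IndEt

variable {A K L : Type u} [CommRing A] [IsDomain A] [IsIntegrallyClosed A]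
  [Field K] [Field L] [Algebra A K] [IsFractionRing A K] [Algebra K L] [Algebra A L]
  [IsScalarTower A K L] [IsGalois K L] (q : Ideal (integralClosure A L)) [q.IsPrime]
  (I : Subgroup (L ≃ₐ[K] L))
  (hI : ∀ σ : L ≃ₐ[K] L, σ ∈ I ↔ ∀ b : integralClosure A L, ∃ c ∈ q, (c : L) = σ b - b)

local notation "CI" => (integralClosure A L ⊓
  Subalgebra.restrictScalars A (IntermediateField.toSubalgebra (IntermediateField.fixedField I)) :
    Subalgebra A L)

local notation "qC" => (Ideal.comap (Subalgebra.inclusion
  (inf_le_left : integralClosure A L ⊓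
    Subalgebra.restrictScalars A (IntermediateField.toSubalgebra (IntermediateField.fixedField I)) ≤
    integralClosure A L)) q)

include hI in
theorem factor :
    Obj.Factor A (Localization.AtPrime
      (q.comap (Subalgebra.inclusion
        (inf_le_left : integralClosure A L ⊓
          (IntermediateField.fixedField I).toSubalgebra.restrictScalars A ≤
          integralClosure A L)))) := by
  intro P _ _ _ ψ
  classical
  obtain ⟨t, ht⟩ := (Algebra.FiniteType.out : (⊤ : Subalgebra A P).FG)
  -- numerators and denominators of the images of the generators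
  have hex : ∀ p : P, ∃ (c : (integralClosure A L ⊓
        (IntermediateField.fixedField I).toSubalgebra.restrictScalars A : Subalgebra A L))
      (s : (q.comap (Subalgebra.inclusion
        (inf_le_left : integralClosure A L ⊓
          (IntermediateField.fixedField I).toSubalgebra.restrictScalars A ≤
          integralClosure A L))).primeCompl),
      ψ p = IsLocalization.mk' _ c s := fun p => by
    obtain ⟨c, s, h⟩ := IsLocalization.exists_mk'_eq (q.comap (Subalgebra.inclusion
        (inf_le_left : integralClosure A L ⊓
          (IntermediateField.fixedField I).toSubalgebra.restrictScalars A ≤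
          integralClosure A L))).primeCompl (ψ p)
    exact ⟨c, s, h.symm⟩
  choose c s hcs using hex
  have hfixC : ∀ (x : (integralClosure A L ⊓
        (IntermediateField.fixedField I).toSubalgebra.restrictScalars A : Subalgebra A L)),
      ∀ σ ∈ I, σ (x : L) = x := by
    intro x σ hσ
    have h1 := (Algebra.mem_inf.1 x.2).2
    rw [Subalgebra.mem_restrictScalars, IntermediateField.mem_toSubalgebra,
      IntermediateField.mem_fixedField_iff] at h1
    exact h1 σ hσ
  let Z : Finset L := t.image (fun p => ((c p : CI) : L)) ∪
    t.image (fun p => (((s p : (qC).primeCompl) : CI) : L))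
  have hZ : ∀ z ∈ Z, ∀ σ ∈ I, σ z = z := by
    intro z hz σ hσ
    rcases Finset.mem_union.1 hz with h | h
    · obtain ⟨p, -, rfl⟩ := Finset.mem_image.1 h
      exact hfixC _ σ hσ
    · obtain ⟨p, -, rfl⟩ := Finset.mem_image.1 h
      exact hfixC _ σ hσ
  obtain ⟨F, hZF, hVF⟩ := exists_level q I hI Z hZ
  obtain ⟨CR, _, _, ι, g, hιinj, hg, het, hrange⟩ := exists_level_data q I hI F
  have hc : ∀ p ∈ t, ∃ x : CR, ι x = c p := fun p hp =>
    (AlgHom.mem_range ι).1 (hrange _ (hZF _ (Finset.mem_union_left _ (Finset.mem_image_of_mem _ hp)))
      (fun σ hσ => hVF σ hσ _ (Finset.mem_union_left _ (Finset.mem_image_of_mem _ hp))))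
  have hs : ∀ p ∈ t, ∃ x : CR, ι x = ((s p : (qC).primeCompl) : CI) := fun p hp =>
    (AlgHom.mem_range ι).1 (hrange _ (hZF _ (Finset.mem_union_right _ (Finset.mem_image_of_mem _ hp)))
      (fun σ hσ => hVF σ hσ _ (Finset.mem_union_right _ (Finset.mem_image_of_mem _ hp))))
  choose! cR hcR using hc
  choose! sR hsR using hs
  let d : CR := ∏ p ∈ t, sR p
  haveI : IsLocalization.Away (g * d)
      (Localization.Away (algebraMap CR (Localization.Away g) d)) :=
    IsLocalization.Away.mul' (Localization.Away g) _ g d
  haveI : Algebra.Etale A (Localization.Away (algebraMap CR (Localization.Away g) d)) := by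
    haveI : Algebra.Etale (Localization.Away g)
        (Localization.Away (algebraMap CR (Localization.Away g) d)) :=
      Algebra.Etale.of_isLocalizationAway (algebraMap CR (Localization.Away g) d)
    exact Algebra.Etale.comp A (Localization.Away g) _
  -- the map to the local ring
  have hM : Submonoid.powers (g * d) ≤ Submonoid.comap (ι : CR →+* CI) (qC).primeCompl := by
    rw [Submonoid.powers_le]
    refine Submonoid.mem_comap.2 ?_
    rw [RingHom.coe_coe, map_mul]
    refine mul_mem hg ?_
    rw [map_prod]
    exact prod_mem (fun p hp => by rw [hsR p hp]; exact (s p).2)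
  let j : Localization.Away (algebraMap CR (Localization.Away g) d) →+*
      Localization.AtPrime qC :=
    IsLocalization.map (M := Submonoid.powers (g * d)) (Localization.AtPrime qC)
      (ι : CR →+* CI) hM
  have hj : Function.Injective j :=
    IsLocalization.map_injective_of_injective' (Submonoid.powers (g * d)) CI
      (Localization.AtPrime qC) hM (fun h0 => h0 (Ideal.zero_mem _)) hιinj
  have hjmap : ∀ x : CR, j (algebraMap CR _ x) = algebraMap _ _ (ι x) := fun x =>
    IsLocalization.map_eq hM x
  let jA : Localization.Away (algebraMap CR (Localization.Away g) d) →ₐ[A] _ :=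
    { j with
      commutes' := fun a => by
        change j (algebraMap A _ a) = _
        rw [IsScalarTower.algebraMap_apply A CR
          (Localization.Away (algebraMap CR (Localization.Away g) d)), hjmap, AlgHom.commutes,
          ← IsScalarTower.algebraMap_apply] }
  -- the generators land in the range
  have hunit : ∀ p ∈ t, IsUnit (algebraMap CR
      (Localization.Away (algebraMap CR (Localization.Away g) d)) (sR p)) := by
    intro p hp
    have h1 : IsUnit (algebraMap CR
        (Localization.Away (algebraMap CR (Localization.Away g) d)) (g * d)) :=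
      IsLocalization.Away.algebraMap_isUnit (g * d)
    refine isUnit_of_dvd_unit ?_ h1
    exact map_dvd _ (dvd_mul_of_dvd_right (Finset.dvd_prod_of_mem _ hp) g)
  have hgen : ∀ p ∈ t, ψ p ∈ jA.range := by
    intro p hp
    obtain ⟨u, hu⟩ := (hunit p hp).exists_left_inv
    refine ⟨algebraMap CR _ (cR p) * u, ?_⟩
    rw [hcs p]
    change j _ = _
    rw [IsLocalization.eq_mk'_iff_mul_eq, ← hsR p hp, ← hcR p hp, ← hjmap, ← hjmap, ← map_mul,
      mul_assoc, hu, mul_one]
  have hle : ψ.range ≤ jA.range := by
    rw [← Algebra.map_top, ← ht, AlgHom.map_adjoin, Algebra.adjoin_le_iff]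
    rintro _ ⟨p, hp, rfl⟩
    exact hgen p hp
  let f : P →ₐ[A] Localization.Away (algebraMap CR (Localization.Away g) d) :=
    ((AlgEquiv.ofInjective jA hj).symm : jA.range →ₐ[A] _).comp
      (ψ.codRestrict jA.range (fun p => hle ⟨p, rfl⟩))
  refine ⟨_, inferInstance, inferInstance, inferInstance, f, jA, ?_⟩
  ext p
  have h1 : jA (f p) = ((AlgEquiv.ofInjective jA hj)
      ((AlgEquiv.ofInjective jA hj).symm (ψ.codRestrict jA.range (fun p => hle ⟨p, rfl⟩) p)) :
      jA.range) := rfl
  rw [AlgHom.comp_apply, h1, AlgEquiv.apply_symm_apply]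
  rfl

include hI in
theorem isIndEtale :
    EtPBC.IsIndEtale A (Localization.AtPrime
      (q.comap (Subalgebra.inclusion
        (inf_le_left : integralClosure A L ⊓
          (IntermediateField.fixedField I).toSubalgebra.restrictScalars A ≤
          integralClosure A L)))) :=
  isIndEtale_of_factor (factor q I hI)

end Groth.Agent.Lib.T2H7.InertiaIndEt
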