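import Mathlib

/-!
# Inertia groups in infinite Galois extensions: a compactness lemma

`L/K` Galois, `B` the integral closure of `A` in `L`, `q` a prime of `B`, `I` the inertia group.
For a finite Galois subextension `F` let `V q F` be the set of automorphisms acting trivially modulo
`q` on `B ∩ F`.  Then `I = ⋂ V q F` and, by compactness of the Galois group, every finite set of
`I`-invariant elements is fixed by `V q F` for `F` large.
-/

set_option autoImplicit false
set_option linter.unusedSectionVars false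
set_option linter.unusedVariables false
set_option linter.style.haveILetI false

namespace Groth.Agent.Lib.T2H7.InertiaLimit

open scoped Pointwise Topology

section top

variable {G : Type*} [Group G] [TopologicalSpace G] [IsTopologicalGroup G]

/-- a union of left cosets of an open subgroup is clopen -/
theorem isClopen_of_mul_mem (N : Subgroup G) (hN : IsOpen (N : Set G)) (V : Set G)
    (hV : ∀ σ ∈ V, ∀ ν ∈ N, σ * ν ∈ V) : IsClopen V := by
  have key : ∀ W : Set G, (∀ σ ∈ W, ∀ ν ∈ N, σ * ν ∈ W) → IsOpen W := by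
    intro W hW
    rw [isOpen_iff_mem_nhds]
    intro σ hσ
    have h1 : IsOpen (σ • (N : Set G)) := hN.smul σ
    have h2 : σ ∈ σ • (N : Set G) := ⟨1, N.one_mem, by simp⟩
    refine Filter.mem_of_superset (h1.mem_nhds h2) ?_
    rintro _ ⟨ν, hν, rfl⟩
    exact hW σ hσ ν hν
  refine ⟨?_, key V hV⟩
  rw [← isOpen_compl_iff]
  apply key
  intro σ hσ ν hν h
  apply hσ
  have := hV _ h ν⁻¹ (N.inv_mem hν)
  rwa [mul_inv_cancel_right] at this

end top

variable {A K L : Type*} [CommRing A] [Field K] [Field L] [Algebra A K] [Algebra K L]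
  [Algebra A L] [IsScalarTower A K L] [IsGalois K L]

/-- automorphisms acting trivially modulo `q` on the part of `B` inside `F` -/
def V (q : Ideal (integralClosure A L)) (F : FiniteGaloisIntermediateField K L) :
    Set (L ≃ₐ[K] L) :=
  {σ | ∀ b : integralClosure A L, (b : L) ∈ F.toIntermediateField →
    ∃ c ∈ q, (c : L) = σ b - b}

theorem V_antitone (q : Ideal (integralClosure A L)) {F F' : FiniteGaloisIntermediateField K L}
    (h : F ≤ F') : V q F' ⊆ V q F :=
  fun σ hσ b hb => hσ b (h hb)

theorem isClosed_V (q : Ideal (integralClosure A L)) (F : FiniteGaloisIntermediateField K L) :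
    IsClosed (V q F) := by
  refine (isClopen_of_mul_mem F.toIntermediateField.fixingSubgroup
    (F.toIntermediateField.fixingSubgroup_isOpen) _ ?_).1
  intro σ hσ ν hν b hb
  obtain ⟨c, hc, h⟩ := hσ b hb
  refine ⟨c, hc, ?_⟩
  rw [h]
  have : ν (b : L) = b := (IntermediateField.mem_fixingSubgroup_iff _ _).1 hν _ hb
  change _ = σ (ν (b : L)) - _
  rw [this]

theorem exists_level (q : Ideal (integralClosure A L)) (I : Subgroup (L ≃ₐ[K] L))
    (hI : ∀ σ : L ≃ₐ[K] L, σ ∈ I ↔ ∀ b : integralClosure A L, ∃ c ∈ q, (c : L) = σ b - b)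
    (Z : Finset L) (hZ : ∀ z ∈ Z, ∀ σ ∈ I, σ z = z) :
    ∃ F : FiniteGaloisIntermediateField K L, (∀ z ∈ Z, z ∈ F.toIntermediateField) ∧
      ∀ σ ∈ V q F, ∀ z ∈ Z, σ z = z := by
  classical
  let U : Set (L ≃ₐ[K] L) := {σ | ∀ z ∈ Z, σ z = z}
  have hUopen : IsOpen U := by
    have : U = ⋂ z ∈ Z, (MulAction.stabilizer (L ≃ₐ[K] L) z : Set (L ≃ₐ[K] L)) := by
      ext σ
      simp only [U, Set.mem_iInter, SetLike.mem_coe, MulAction.mem_stabilizer_iff]
      rfl
    rw [this]
    exact isOpen_biInter_finset (fun z _ => stabilizer_isOpen_of_isIntegral (K := K) z)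
  have hdir : Directed (· ⊇ ·) (V (A := A) (K := K) q) := by
    intro F₁ F₂
    exact ⟨F₁ ⊔ F₂, V_antitone q le_sup_left, V_antitone q le_sup_right⟩
  have hinter : ∀ σ ∈ ⋂ F, V (A := A) (K := K) q F, U ∈ 𝓝 σ := by
    intro σ hσ
    apply hUopen.mem_nhds
    have hσI : σ ∈ I := by
      rw [hI]
      intro b
      have h1 := Set.mem_iInter.1 hσ (FiniteGaloisIntermediateField.adjoin K {(b : L)})
      exact h1 b (FiniteGaloisIntermediateField.subset_adjoin K {(b : L)} rfl)
    exact fun z hz => hZ z hz σ hσI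
  haveI : Nonempty (FiniteGaloisIntermediateField K L) := ⟨⊥⟩
  obtain ⟨F₀, hF₀⟩ := exists_subset_nhds_of_compactSpace hdir (isClosed_V q) hinter
  refine ⟨F₀ ⊔ FiniteGaloisIntermediateField.adjoin K (Z : Set L), ?_, ?_⟩
  · intro z hz
    have h1 : z ∈ (FiniteGaloisIntermediateField.adjoin K (Z : Set L)).toIntermediateField :=
      FiniteGaloisIntermediateField.subset_adjoin K (Z : Set L) hz
    exact (le_sup_right : FiniteGaloisIntermediateField.adjoin K (Z : Set L) ≤
      F₀ ⊔ FiniteGaloisIntermediateField.adjoin K (Z : Set L)) h1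
  · intro σ hσ
    exact hF₀ (V_antitone q le_sup_left hσ)

end Groth.Agent.Lib.T2H7.InertiaLimit
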