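import Groth.Agent.S0271
import Groth.Agent.Lib.T2H7InertiaLimit

/-!
# The finite levels of the inertia invariants in an infinite Galois extension

For a finite Galois `F` inside `L/K`, the finite group `Γ = Gal(L/K) ⧸ Gal(L/F)` acts on
`R = B ^ Gal(L/F)`; the invariants of its inertia group at `q ∩ R` are étale over `A` after
inverting one element outside `q` (by `S0271`).
-/

set_option autoImplicit false
set_option linter.unusedSectionVars false
set_option linter.unusedVariables false
set_option linter.style.haveILetI false

universe u

namespace Groth.Agent.Lib.T2H7.InertiaLevel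

open Groth.Agent.Lib.T2H7.InertiaLimit

variable {A K L : Type u} [CommRing A] [Field K] [Field L] [Algebra A K] [Algebra K L]
  [Algebra A L] [IsScalarTower A K L]

/-- the Galois group acts `A`-linearly -/
instance smulCommClass : SMulCommClass (L ≃ₐ[K] L) A L := ⟨fun σ a x => by
  change σ (a • x) = a • σ x
  rw [Algebra.smul_def, Algebra.smul_def, map_mul, IsScalarTower.algebraMap_apply A K L,
    σ.commutes]⟩

variable [IsGalois K L]

section level

variable (A) (F : FiniteGaloisIntermediateField K L)

/-- `Gal(L/F)` -/
abbrev N : Subgroup (L ≃ₐ[K] L) := F.toIntermediateField.fixingSubgroup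

/-- the finite quotient `Gal(F/K)` of the Galois group -/
abbrev Gam : Type u := (L ≃ₐ[K] L) ⧸ N F

instance : Finite (Gam F) :=
  Subgroup.quotient_finite_of_isOpen _ (F.toIntermediateField.fixingSubgroup_isOpen)

/-- the integral closure of `A` in `F`, as a subring of `B` -/
abbrev R : Subring (integralClosure A L) := FixedPoints.subring (integralClosure A L) (N F)

theorem coe_mk_smul (σ : L ≃ₐ[K] L) (r : R A F) :
    (((QuotientGroup.mk σ : Gam F) • r : R A F) : integralClosure A L) =
      σ • (r : integralClosure A L) := rfl

/-- elements of `B` inside `F` lie in `R` -/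
def toR (b : integralClosure A L) (hb : (b : L) ∈ F.toIntermediateField) : R A F :=
  ⟨b, fun ν => Subtype.ext ((IntermediateField.mem_fixingSubgroup_iff _ _).1 ν.2 _ hb)⟩

variable (q : Ideal (integralClosure A L))

/-- the prime of `R` under `q` -/
abbrev qR : Ideal (R A F) := q.comap (R A F).subtype

variable {A F}

theorem mem_V_of_mem_inertia {σ : L ≃ₐ[K] L}
    (h : (QuotientGroup.mk σ : Gam F) ∈ (qR A F q).inertia (Gam F)) : σ ∈ V q F := by
  intro b hb
  have h1 := h (toR A F b hb)
  exact ⟨_, h1, rfl⟩

theorem mem_inertia_of_forall {σ : L ≃ₐ[K] L}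
    (h : ∀ b : integralClosure A L, ∃ c ∈ q, (c : L) = σ b - b) :
    (QuotientGroup.mk σ : Gam F) ∈ (qR A F q).inertia (Gam F) := by
  intro r
  obtain ⟨c, hc, hcr⟩ := h r.1
  have : c = σ • (r : integralClosure A L) - r := Subtype.ext hcr
  change σ • (r : integralClosure A L) - r ∈ q
  rwa [← this]

end level

section invariants

variable (A) [IsDomain A] [IsIntegrallyClosed A] [IsFractionRing A K]
  (F : FiniteGaloisIntermediateField K L)

/-- `A` maps to the invariants of the whole group -/
def toInv : A →+* FixedPoints.subring (R A F) (Gam F) where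
  toFun a := ⟨⟨algebraMap A (integralClosure A L) a, fun ν => smul_algebraMap _ _⟩, fun γ => by
    obtain ⟨σ, rfl⟩ := QuotientGroup.mk_surjective γ
    apply Subtype.ext
    rw [coe_mk_smul]
    exact smul_algebraMap _ _⟩
  map_one' := by
    apply Subtype.ext; apply Subtype.ext
    exact map_one _
  map_mul' a b := by
    apply Subtype.ext; apply Subtype.ext
    exact map_mul _ a b
  map_zero' := by
    apply Subtype.ext; apply Subtype.ext
    exact map_zero _
  map_add' a b := by
    apply Subtype.ext; apply Subtype.ext
    exact map_add _ a b

theorem coe_toInv (a : A) : (((toInv A F a : FixedPoints.subring (R A F) (Gam F)) : R A F) :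
    integralClosure A L) = algebraMap A (integralClosure A L) a := rfl

theorem toInv_bijective : Function.Bijective (toInv A F) := by
  have hinj : Function.Injective (algebraMap A L) := by
    rw [IsScalarTower.algebraMap_eq A K L]
    exact (algebraMap K L).injective.comp (IsFractionRing.injective A K)
  constructor
  · intro a b hab
    apply hinj
    have := congrArg (fun x : FixedPoints.subring (R A F) (Gam F) =>
      (((x : R A F) : integralClosure A L) : L)) hab
    exact this
  · intro x
    have hfix : ∀ σ : L ≃ₐ[K] L, σ (((x : R A F) : integralClosure A L) : L) =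
        (((x : R A F) : integralClosure A L) : L) := by
      intro σ
      have h1 := x.2 (QuotientGroup.mk σ : Gam F)
      have h2 := congrArg (fun y : R A F => ((y : integralClosure A L) : L)) h1
      exact h2
    obtain ⟨k, hk⟩ := (InfiniteGalois.mem_range_algebraMap_iff_fixed (k := K) _).2 hfix
    have hint : IsIntegral A k := by
      have h1 : IsIntegral A (algebraMap K L k) := by
        rw [hk]
        exact ((x : R A F) : integralClosure A L).2
      exact (isIntegral_algebraMap_iff (algebraMap K L).injective).1 h1
    obtain ⟨a, ha⟩ := IsIntegrallyClosed.isIntegral_iff.1 hint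
    refine ⟨a, ?_⟩
    apply Subtype.ext; apply Subtype.ext; apply Subtype.ext
    change algebraMap A L a = _
    rw [IsScalarTower.algebraMap_apply A K L, ha, hk]

end invariants

section data

variable [IsDomain A] [IsIntegrallyClosed A] [IsFractionRing A K]
  (q : Ideal (integralClosure A L)) [q.IsPrime] (I : Subgroup (L ≃ₐ[K] L))
  (hI : ∀ σ : L ≃ₐ[K] L, σ ∈ I ↔ ∀ b : integralClosure A L, ∃ c ∈ q, (c : L) = σ b - b)
  (F : FiniteGaloisIntermediateField K L)

include hI in
/-- the data of the finite level `F`: a ring `CR` (the inertia invariants at level `F`) with an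
injective map to the inertia invariants, étale over `A` after inverting `g ∉ q`, containing all
elements of `F` fixed by `V q F`. -/
theorem exists_level_data :
    ∃ (CR : Type u) (_ : CommRing CR) (_ : Algebra A CR)
      (ι : CR →ₐ[A] (integralClosure A L ⊓
        (IntermediateField.fixedField I).toSubalgebra.restrictScalars A : Subalgebra A L))
      (g : CR),
      Function.Injective ι ∧ (Subalgebra.inclusion inf_le_left (ι g)) ∉ q ∧
      Algebra.Etale A (Localization.Away g) ∧
      ∀ z : (integralClosure A L ⊓
          (IntermediateField.fixedField I).toSubalgebra.restrictScalars A : Subalgebra A L),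
        (z : L) ∈ F.toIntermediateField → (∀ σ ∈ V q F, σ (z : L) = z) → z ∈ ι.range := by
  obtain ⟨g, hg, het⟩ := Groth.Agent.S0271.result (Gam F) (R A F) (qR A F q)
  letI algInv : Algebra A (FixedPoints.subring (R A F) (Gam F)) := (toInv A F).toAlgebra
  letI algCR : Algebra A (FixedPoints.subring (R A F) ((qR A F q).inertia (Gam F))) :=
    ((algebraMap (FixedPoints.subring (R A F) (Gam F))
      (FixedPoints.subring (R A F) ((qR A F q).inertia (Gam F)))).comp (toInv A F)).toAlgebra
  haveI : IsScalarTower A (FixedPoints.subring (R A F) (Gam F))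
      (FixedPoints.subring (R A F) ((qR A F q).inertia (Gam F))) :=
    IsScalarTower.of_algebraMap_eq (fun _ => rfl)
  have hfix : ∀ x : FixedPoints.subring (R A F) ((qR A F q).inertia (Gam F)),
      (((x : R A F) : integralClosure A L) : L) ∈
        (integralClosure A L ⊓
          (IntermediateField.fixedField I).toSubalgebra.restrictScalars A : Subalgebra A L) := by
    intro x
    refine Algebra.mem_inf.2 ⟨((x : R A F) : integralClosure A L).2, ?_⟩
    rw [Subalgebra.mem_restrictScalars, IntermediateField.mem_toSubalgebra,
      IntermediateField.mem_fixedField_iff]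
    intro σ hσ
    have h1 : (QuotientGroup.mk σ : Gam F) ∈ (qR A F q).inertia (Gam F) :=
      mem_inertia_of_forall q ((hI σ).1 hσ)
    have h2 := x.2 ⟨_, h1⟩
    have h3 := congrArg (fun y : R A F => ((y : integralClosure A L) : L)) h2
    exact h3
  let ι : FixedPoints.subring (R A F) ((qR A F q).inertia (Gam F)) →ₐ[A]
      (integralClosure A L ⊓
        (IntermediateField.fixedField I).toSubalgebra.restrictScalars A : Subalgebra A L) :=
    { toFun := fun x => ⟨_, hfix x⟩
      map_one' := Subtype.ext rfl
      map_mul' := fun _ _ => Subtype.ext rfl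
      map_zero' := Subtype.ext rfl
      map_add' := fun _ _ => Subtype.ext rfl
      commutes' := fun a => Subtype.ext rfl }
  refine ⟨_, inferInstance, algCR, ι, g, ?_, ?_, ?_, ?_⟩
  · intro x y hxy
    apply Subtype.ext; apply Subtype.ext; apply Subtype.ext
    exact congrArg (fun z : (integralClosure A L ⊓
      (IntermediateField.fixedField I).toSubalgebra.restrictScalars A : Subalgebra A L) =>
        (z : L)) hxy
  · intro h
    apply hg
    change ((g : R A F) : integralClosure A L) ∈ q
    convert h using 1
    exact Subtype.ext rfl
  · haveI : Algebra.Etale A (FixedPoints.subring (R A F) (Gam F)) :=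
      Algebra.Etale.of_equiv (AlgEquiv.ofBijective (Algebra.ofId A _) (toInv_bijective A F))
    haveI : IsScalarTower A (FixedPoints.subring (R A F) (Gam F)) (Localization.Away g) := by
      refine IsScalarTower.of_algebraMap_eq (fun a => ?_)
      rw [IsScalarTower.algebraMap_apply A
        (FixedPoints.subring (R A F) ((qR A F q).inertia (Gam F))) (Localization.Away g),
        IsScalarTower.algebraMap_apply (FixedPoints.subring (R A F) (Gam F))
        (FixedPoints.subring (R A F) ((qR A F q).inertia (Gam F))) (Localization.Away g)]
      rfl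
    exact Algebra.Etale.comp A (FixedPoints.subring (R A F) (Gam F)) (Localization.Away g)
  · intro z hz hzV
    have hzB : (z : L) ∈ integralClosure A L := (Algebra.mem_inf.1 z.2).1
    refine ⟨⟨toR A F ⟨z, hzB⟩ hz, ?_⟩, Subtype.ext rfl⟩
    intro γ
    obtain ⟨σ, hσ⟩ := QuotientGroup.mk_surjective γ.1
    have hmem : (QuotientGroup.mk σ : Gam F) ∈ (qR A F q).inertia (Gam F) := by
      rw [hσ]; exact γ.2
    have h1 := hzV σ (mem_V_of_mem_inertia q hmem)
    change γ.1 • toR A F ⟨z, hzB⟩ hz = _
    rw [← hσ]
    apply Subtype.ext; apply Subtype.ext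
    exact h1

end data

end Groth.Agent.Lib.T2H7.InertiaLevel
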