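import Mathlib

/-!
Helper library (helper7): a subring of an integrally closed domain which is closed under exact
division is integrally closed.
-/

set_option autoImplicit false
set_option linter.unusedSectionVars false
set_option linter.unusedVariables false
set_option linter.style.haveILetI false
universe u

namespace Groth.Agent.Lib.T2H7.IntClosedSub

/-- a subring `E` of an integrally closed domain `R` such that `b * s = a`, `a b ∈ E`, `b ≠ 0`
implies `s ∈ E`, is integrally closed. -/
theorem isIntegrallyClosed_of_div_mem {R : Type*} [CommRing R] [IsDomain R] [IsIntegrallyClosed R]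
    {S : Type*} [SetLike S R] [SubringClass S R] (E : S)
    (hdiv : ∀ a b s : R, a ∈ E → b ∈ E → b ≠ 0 → b * s = a → s ∈ E) :
    IsIntegrallyClosed ↥E := by
  set g : ↥E →+* FractionRing R :=
    (algebraMap R (FractionRing R)).comp (SubringClass.subtype E) with hg
  have hginj : Function.Injective g :=
    (IsFractionRing.injective R (FractionRing R)).comp Subtype.val_injective
  let ιK : FractionRing ↥E →+* FractionRing R := IsFractionRing.lift hginj
  have hι : ∀ r, ιK (algebraMap _ _ r) = g r := fun r => IsFractionRing.lift_algebraMap hginj r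
  rw [isIntegrallyClosed_iff (FractionRing ↥E)]
  intro t ht
  have hint : IsIntegral R (ιK t) := by
    obtain ⟨p, hp, hpt⟩ := ht
    refine ⟨p.map (SubringClass.subtype E), hp.map _, ?_⟩
    rw [Polynomial.eval₂_map]
    have h1 := congrArg ιK hpt
    rw [map_zero, Polynomial.hom_eval₂] at h1
    have h2 : ιK.comp (algebraMap ↥E (FractionRing ↥E)) =
        (algebraMap R (FractionRing R)).comp (SubringClass.subtype E) := by
      ext r
      exact hι r
    rw [h2] at h1
    exact h1
  obtain ⟨s, hs⟩ := IsIntegrallyClosed.algebraMap_eq_of_integral hint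
  obtain ⟨a', b', hb', hab⟩ := IsFractionRing.div_surjective (A := ↥E) t
  have hb0 : b' ≠ 0 := nonZeroDivisors.ne_zero hb'
  have hb0' : (b' : R) ≠ 0 := fun h0 => hb0 (Subtype.ext h0)
  have hgb0 : g b' ≠ 0 := fun h0 => hb0 (hginj (by rw [h0, map_zero]))
  have hιt : ιK t = g a' / g b' := by
    rw [← hab, map_div₀, hι, hι]
  have key1 : (b' : R) * s = (a' : R) := by
    apply IsFractionRing.injective R (FractionRing R)
    rw [map_mul, hs, hιt]
    change g b' * _ = g a'
    rw [mul_div_cancel₀ _ hgb0]
  have hsE : s ∈ E := hdiv _ _ _ a'.2 b'.2 hb0' key1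
  refine ⟨⟨s, hsE⟩, ?_⟩
  apply ιK.injective
  rw [hι]
  change algebraMap R (FractionRing R) s = _
  exact hs

end Groth.Agent.Lib.T2H7.IntClosedSub
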