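import Mathlib
import Groth.Agent.Lib.Helper3FlatDescE
import Groth.Agent.S6883

set_option autoImplicit false

universe u

namespace Groth.Agent.Lib.T2H7.IntFlatDesc

open TensorProduct MvPolynomial Groth.Agent.Lib.Helper3.FlatLoc Groth.Agent.Lib.Helper3.FlatDesc
  Groth.Agent.Lib.Helper3.FlatOpen

attribute [local instance] MvPolynomial.algebraMvPolynomial

/-- An element integral over `R` is integral over any subalgebra of `R` containing the coefficients
of some monic equation. -/
theorem isIntegral_subalgebra {Λ R S : Type*} [CommRing Λ] [CommRing R] [CommRing S] [Algebra Λ R]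
    [Algebra R S] (R' : Subalgebra Λ R) (s : S) (p : Polynomial R) (hp : p.Monic)
    (hps : Polynomial.eval₂ (algebraMap R S) s p = 0) (hc : ∀ i, p.coeff i ∈ R') :
    IsIntegral R' s := by
  have hl : p ∈ Polynomial.lifts (algebraMap R' R) := by
    rw [Polynomial.lifts_iff_coeff_lifts]
    intro i
    exact ⟨⟨p.coeff i, hc i⟩, rfl⟩
  obtain ⟨q, hq, -, hqm⟩ := Polynomial.lifts_and_natDegree_eq_and_monic hl hp
  refine ⟨q, hqm, ?_⟩
  rw [← hq, Polynomial.eval₂_map] at hps
  exact hps

set_option maxSynthPendingDepth 3 in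
/-- Descent of flatness for a finitely presented module over a polynomial ring along an injective
integral ring map. -/
theorem flat_of_integral_injective (R S : Type u) [CommRing R] [CommRing S] [Algebra R S]
    [Algebra.IsIntegral R S] (hinj : Function.Injective (algebraMap R S)) (n : ℕ)
    (M : Type u) [AddCommGroup M] [Module (MvPolynomial (Fin n) R) M] [Module R M]
    [IsScalarTower R (MvPolynomial (Fin n) R) M]
    [Module.FinitePresentation (MvPolynomial (Fin n) R) M]
    [Module.Flat S (S ⊗[R] M)] : Module.Flat R M := by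
  classical
  obtain ⟨k, m, Λ, hΛ, w, ⟨e⟩⟩ := exists_model_equiv (R := R) (n := n) (M := M)
  have : Algebra.FiniteType ℤ Λ := (Subalgebra.fg_iff_finiteType Λ).mp hΛ
  have : IsNoetherianRing Λ := Algebra.FiniteType.isNoetherianRing ℤ Λ
  obtain ⟨eS⟩ := nonempty_tensor_equiv_model (T := S) w e
  have hflatS : Module.Flat S ((Fin k → MvPolynomial (Fin n) S) ⧸
      KT w (MvPolynomial (Fin n) S)) := Module.Flat.of_linearEquiv eS.symm
  obtain ⟨A, hAfg, -, hAflat⟩ := exists_fg_subalgebra_flat_global (R := S) w hflatS ∅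
  obtain ⟨t, ht⟩ := hAfg
  -- monic equations for the generators
  have hint : ∀ s : S, ∃ p : Polynomial R, p.Monic ∧ Polynomial.eval₂ (algebraMap R S) s p = 0 :=
    fun s => Algebra.IsIntegral.isIntegral (R := R) s
  choose P hPm hPs using hint
  let c : Finset R := t.biUnion fun s => (P s).coeffs
  let R' : Subalgebra Λ R := Algebra.adjoin Λ (c : Set R)
  have hcoeff : ∀ s ∈ t, ∀ i, (P s).coeff i ∈ R' := by
    intro s hs i
    by_cases h0 : (P s).coeff i = 0
    · rw [h0]; exact zero_mem _
    · refine Algebra.subset_adjoin ?_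
      exact Finset.mem_biUnion.mpr ⟨s, hs, Polynomial.coeff_mem_coeffs h0⟩
  have hR'fg : R'.FG := Subalgebra.fg_adjoin_finset c
  have : Algebra.FiniteType Λ R' := (Subalgebra.fg_iff_finiteType R').mp hR'fg
  have : IsNoetherianRing R' := Algebra.FiniteType.isNoetherianRing Λ R'
  let S' : Subalgebra R' S := Algebra.adjoin R' (t : Set S)
  have hintS : ∀ s ∈ (t : Set S), IsIntegral R' s := fun s hs =>
    isIntegral_subalgebra R' s (P s) (hPm s) (hPs s) (hcoeff s hs)
  have hfgS : (Subalgebra.toSubmodule S').FG := fg_adjoin_of_finite t.finite_toSet hintS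
  have hfin : Module.Finite R' S' := Module.Finite.iff_fg.mpr hfgS
  have : IsNoetherianRing S' := IsNoetherianRing.of_finite R' S'
  have hinj' : Function.Injective (algebraMap R' S') := by
    intro x y hxy
    have h1 : algebraMap R S (x : R) = algebraMap R S (y : R) := congrArg Subtype.val hxy
    exact Subtype.ext (hinj h1)
  -- the model over `S'` is flat
  have hAle : ∀ a : S, a ∈ A → a ∈ S' := by
    intro a ha
    rw [← ht] at ha
    refine Algebra.adjoin_induction (p := fun a _ => a ∈ S') ?_ ?_ ?_ ?_ ha
    · intro x hx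
      exact Algebra.subset_adjoin hx
    · intro r
      have : algebraMap Λ S r = algebraMap R' S (algebraMap Λ R' r) := rfl
      rw [this]
      exact S'.algebraMap_mem _
    · intro x y _ _ hx hy
      exact add_mem hx hy
    · intro x y _ _ hx hy
      exact mul_mem hx hy
  let ψ : A →ₐ[Λ] S' :=
    { toFun := fun a => ⟨a.1, hAle a.1 a.2⟩
      map_one' := rfl
      map_mul' := fun _ _ => rfl
      map_zero' := rfl
      map_add' := fun _ _ => rfl
      commutes' := fun _ => rfl }
  have hflatS' : Module.Flat S' ((Fin k → MvPolynomial (Fin n) S') ⧸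
      KT w (MvPolynomial (Fin n) S')) := flat_model_of_algHom w ψ hAflat
  obtain ⟨eS'⟩ := nonempty_tensor_equiv_model (Λ := Λ) (A₀ := R') (T := S') w
    (LinearEquiv.refl (MvPolynomial (Fin n) R') ((Fin k → MvPolynomial (Fin n) R') ⧸
      KT w (MvPolynomial (Fin n) R')))
  have hflat2 : Module.Flat S' (S' ⊗[R'] ((Fin k → MvPolynomial (Fin n) R') ⧸
      KT w (MvPolynomial (Fin n) R'))) := Module.Flat.of_linearEquiv eS'
  have hflatR' : Module.Flat R' ((Fin k → MvPolynomial (Fin n) R') ⧸
      KT w (MvPolynomial (Fin n) R')) :=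
    Groth.Agent.S6883.result R' S' hinj' _
  have hflatR : Module.Flat R ((Fin k → MvPolynomial (Fin n) R) ⧸
      KT w (MvPolynomial (Fin n) R)) := flat_model_of_algHom w R'.val hflatR'
  exact Module.Flat.of_linearEquiv (e.symm.restrictScalars R)

end Groth.Agent.Lib.T2H7.IntFlatDesc
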