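import Mathlib
import Groth.Prelude.Def_W4bk4grossh1223Act

/-!
# T2H7InvModFG: invariants of a module over an algebra with compatible rational actions,
via the trivial square-zero extension
-/

set_option autoImplicit false
set_option linter.style.haveILetI false
set_option linter.unusedSectionVars false
set_option linter.unusedVariables false
universe u

open CategoryTheory MonObj AlgebraicGeometry
open scoped TensorProduct

namespace Groth.Agent.Lib.T2H7.InvModFG

/-- the opposite action of a commutative ring on a module -/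
@[reducible] def opModule (A : Type u) [CommRing A] (M : Type u) [AddCommGroup M] [Module A M] :
    Module Aᵐᵒᵖ M :=
  Module.compHom M ((RingHom.id A).fromOpposite (fun x y => mul_comm x y))

attribute [local instance] opModule

theorem isCentralScalar (A : Type u) [CommRing A] (M : Type u) [AddCommGroup M] [Module A M] :
    IsCentralScalar A M := ⟨fun a m => rfl⟩

attribute [local instance] isCentralScalar

variable {k : Type u} [Field k] {G : Over (Spec (CommRingCat.of k))} [GrpObj G]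
  {A : Type u} [CommRing A] [Algebra k A]
  {M : Type u} [AddCommGroup M] [Module A M] [Module k M] [IsScalarTower k A M]

/-- `B ⊗ (A ⊕ M) ≃ (B ⊗ A) × (B ⊗ M)` -/
noncomputable def eqv (k : Type u) [Field k] (A : Type u) [CommRing A] [Algebra k A]
    (M : Type u) [AddCommGroup M] [Module A M] [Module k M] [IsScalarTower k A M]
    (B : Type u) [CommRing B] [Algebra k B] :
    (B ⊗[k] TrivSqZeroExt A M) ≃ₗ[B] (B ⊗[k] A) × (B ⊗[k] M) :=
  TensorProduct.prodRight k B B A M

theorem eqv_tmul (B : Type u) [CommRing B] [Algebra k B] (b : B) (x : TrivSqZeroExt A M) :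
    eqv k A M B (b ⊗ₜ[k] x) = (b ⊗ₜ[k] x.fst, b ⊗ₜ[k] x.snd) := rfl

theorem eqv_symm_tmul (B : Type u) [CommRing B] [Algebra k B] (b : B) (a : A) (m : M) :
    (eqv k A M B).symm (b ⊗ₜ[k] a, b ⊗ₜ[k] m) = b ⊗ₜ[k] (TrivSqZeroExt.inl a + TrivSqZeroExt.inr m) := by
  rw [LinearEquiv.symm_apply_eq, eqv_tmul]
  simp

theorem eqv_Wmap {B B' : Type u} [CommRing B] [Algebra k B] [CommRing B'] [Algebra k B']
    (φ : B →ₐ[k] B') (x : B ⊗[k] TrivSqZeroExt A M) :
    eqv k A M B' (VecGrp.Wmap φ x) =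
      (VecGrp.Wmap φ (eqv k A M B x).1, VecGrp.Wmap φ (eqv k A M B x).2) := by
  induction x using TensorProduct.induction_on with
  | zero => simp only [map_zero, Prod.fst_zero, Prod.snd_zero]; rfl
  | add x y hx hy => simp only [map_add, hx, hy, Prod.fst_add, Prod.snd_add, Prod.mk_add_mk]
  | tmul b z => rfl

theorem Wmap_eqv_symm {B B' : Type u} [CommRing B] [Algebra k B] [CommRing B'] [Algebra k B']
    (φ : B →ₐ[k] B') (p : B ⊗[k] A) (q : B ⊗[k] M) :
    VecGrp.Wmap φ ((eqv k A M B).symm (p, q)) =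
      (eqv k A M B').symm (VecGrp.Wmap φ p, VecGrp.Wmap φ q) := by
  rw [LinearEquiv.eq_symm_apply, eqv_Wmap, LinearEquiv.apply_symm_apply]

/-- the direct sum of two rational modules, on the trivial square-zero extension -/
noncomputable def sqGMod (ρA : VecGrp.GMod G A) (ρM : VecGrp.GMod G M) :
    VecGrp.GMod G (TrivSqZeroExt A M) where
  ρ B _ _ :=
    { toFun := fun g => (eqv k A M B).trans (((ρA.ρ B g).prodCongr (ρM.ρ B g)).trans (eqv k A M B).symm)
      map_one' := by
        ext x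
        simp
      map_mul' := fun g g' => by
        ext x
        simp }
  naturality φ g x := by
    change VecGrp.Wmap φ ((eqv k A M _).symm (ρA.ρ _ g (eqv k A M _ x).1, ρM.ρ _ g (eqv k A M _ x).2)) =
      (eqv k A M _).symm (ρA.ρ _ (VecGrp.ptMap φ ≫ g) (eqv k A M _ (VecGrp.Wmap φ x)).1,
        ρM.ρ _ (VecGrp.ptMap φ ≫ g) (eqv k A M _ (VecGrp.Wmap φ x)).2)
    rw [Wmap_eqv_symm, ρA.naturality, ρM.naturality, eqv_Wmap]

theorem sqGMod_apply (ρA : VecGrp.GMod G A) (ρM : VecGrp.GMod G M) (B : Type u) [CommRing B]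
    [Algebra k B] (g : VecGrp.pt k B ⟶ G) (x : B ⊗[k] TrivSqZeroExt A M) :
    (sqGMod ρA ρM).ρ B g x =
      (eqv k A M B).symm (ρA.ρ B g (eqv k A M B x).1, ρM.ρ B g (eqv k A M B x).2) := rfl

theorem smulW_tmul (B : Type u) [CommRing B] [Algebra k B] (b b' : B) (a : A) (m : M) :
    VecGrp.GMod.smulW k A M B (b ⊗ₜ[k] a) (b' ⊗ₜ[k] m) = (b * b') ⊗ₜ[k] (a • m) := by
  simp [VecGrp.GMod.smulW]

theorem eqv_mul (B : Type u) [CommRing B] [Algebra k B] (x y : B ⊗[k] TrivSqZeroExt A M) :
    eqv k A M B (x * y) = ((eqv k A M B x).1 * (eqv k A M B y).1,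
      VecGrp.GMod.smulW k A M B (eqv k A M B x).1 (eqv k A M B y).2 +
        VecGrp.GMod.smulW k A M B (eqv k A M B y).1 (eqv k A M B x).2) := by
  induction x using TensorProduct.induction_on with
  | zero => simp; rfl
  | add x x' hx hx' =>
    simp only [add_mul, map_add, hx, hx', Prod.fst_add, Prod.snd_add, Prod.mk_add_mk,
      LinearMap.add_apply]
    congr 1
    abel
  | tmul b z =>
    induction y using TensorProduct.induction_on with
    | zero => simp; rfl
    | add y y' hy hy' =>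
      simp only [mul_add, map_add, hy, hy', Prod.fst_add, Prod.snd_add, Prod.mk_add_mk,
        LinearMap.add_apply]
      congr 1
      abel
    | tmul b' z' =>
      rw [Algebra.TensorProduct.tmul_mul_tmul, eqv_tmul, eqv_tmul, eqv_tmul]
      simp only [TrivSqZeroExt.fst_mul, TrivSqZeroExt.snd_mul, smulW_tmul,
        Algebra.TensorProduct.tmul_mul_tmul, TensorProduct.tmul_add, op_smul_eq_smul]
      rw [mul_comm b' b]

theorem eqv_one (B : Type u) [CommRing B] [Algebra k B] :
    eqv k A M B (1 : B ⊗[k] TrivSqZeroExt A M) = (1, 0) := by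
  rw [Algebra.TensorProduct.one_def, eqv_tmul]
  simp only [TrivSqZeroExt.fst_one, TrivSqZeroExt.snd_one, TensorProduct.tmul_zero]
  rfl

theorem sqGMod_isMult (ρA : VecGrp.GMod G A) (hρ : ρA.IsMult) (ρM : VecGrp.GMod G M)
    (hc : VecGrp.GMod.IsCompat ρA ρM) : (sqGMod ρA ρM).IsMult := by
  intro B _ _ g
  constructor
  · intro x y
    apply (eqv k A M B).injective
    rw [eqv_mul, sqGMod_apply, sqGMod_apply, sqGMod_apply, LinearEquiv.apply_symm_apply,
      LinearEquiv.apply_symm_apply, LinearEquiv.apply_symm_apply, eqv_mul]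
    simp only [map_add, (hρ B g).1, hc B g]
  · apply (eqv k A M B).injective
    rw [sqGMod_apply, LinearEquiv.apply_symm_apply, eqv_one]
    simp only [map_zero]
    rw [(hρ B g).2]

theorem finiteType_sq [Algebra.FiniteType k A] [Module.Finite A M] :
    Algebra.FiniteType k (TrivSqZeroExt A M) := by
  have h1 : Module.Finite A (TrivSqZeroExt A M) := inferInstanceAs (Module.Finite A (A × M))
  have h2 : Algebra.FiniteType A (TrivSqZeroExt A M) := inferInstance
  exact Algebra.FiniteType.trans (inferInstance : Algebra.FiniteType k A) h2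

theorem mem_fixedUnder_sq (ρA : VecGrp.GMod G A) (ρM : VecGrp.GMod G M) {H : Over (Spec (CommRingCat.of k))}
    [GrpObj H] (i : H ⟶ G) (x : TrivSqZeroExt A M) :
    x ∈ (sqGMod ρA ρM).fixedUnder i ↔ x.fst ∈ ρA.fixedUnder i ∧ x.snd ∈ ρM.fixedUnder i := by
  constructor
  · intro hx
    constructor
    · intro B _ _ h
      have := congrArg (fun t => (eqv k A M B t).1) (hx B h)
      simpa only [sqGMod_apply, LinearEquiv.apply_symm_apply, eqv_tmul] using this
    · intro B _ _ h
      have := congrArg (fun t => (eqv k A M B t).2) (hx B h)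
      simpa only [sqGMod_apply, LinearEquiv.apply_symm_apply, eqv_tmul] using this
  · rintro ⟨h1, h2⟩ B _ _ h
    apply (eqv k A M B).injective
    rw [sqGMod_apply, LinearEquiv.apply_symm_apply, eqv_tmul, h1 B h, h2 B h]

theorem snd_mem_span_of_mem_adjoin (S' : Subalgebra k A) (s : Set (TrivSqZeroExt A M))
    (hs : ∀ x ∈ s, x.fst ∈ S') (x : TrivSqZeroExt A M) (hx : x ∈ Algebra.adjoin k s) :
    x.fst ∈ S' ∧ x.snd ∈ Submodule.span S' (TrivSqZeroExt.snd '' s) := by
  induction hx using Algebra.adjoin_induction with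
  | mem x hx => exact ⟨hs x hx, Submodule.subset_span ⟨x, hx, rfl⟩⟩
  | algebraMap c =>
    constructor
    · rw [TrivSqZeroExt.algebraMap_eq_inl', TrivSqZeroExt.fst_inl]
      exact S'.algebraMap_mem c
    · rw [TrivSqZeroExt.algebraMap_eq_inl', TrivSqZeroExt.snd_inl]
      exact Submodule.zero_mem _
  | add x y _ _ hx hy => exact ⟨S'.add_mem hx.1 hy.1, Submodule.add_mem _ hx.2 hy.2⟩
  | mul x y _ _ hx hy =>
    constructor
    · rw [TrivSqZeroExt.fst_mul]
      exact S'.mul_mem hx.1 hy.1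
    · rw [TrivSqZeroExt.snd_mul, op_smul_eq_smul]
      apply Submodule.add_mem
      · exact Submodule.smul_mem _ (⟨x.fst, hx.1⟩ : S') hy.2
      · exact Submodule.smul_mem _ (⟨y.fst, hy.1⟩ : S') hx.2

theorem exists_finset_fixedUnder [Algebra.FiniteType k A] [Module.Finite A M]
    (hG : VecGrp.IsReductiveGrp k G) (thmA : VecGrp.ReductiveInvariantsFG k)
    (ρA : VecGrp.GMod G A) (hρ : ρA.IsMult) (ρM : VecGrp.GMod G M)
    (hc : VecGrp.GMod.IsCompat ρA ρM) :
    ∃ s : Finset M, (↑s : Set M) ⊆ ρM.fixedUnder (𝟙 G) ∧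
      ρM.fixedUnder (𝟙 G) ≤
        (Submodule.span ↥(ρA.fixedSubalgebra hρ (𝟙 G)) (↑s : Set M)).restrictScalars k := by
  classical
  obtain ⟨s, hs1, hs2⟩ := thmA G hG (TrivSqZeroExt A M) (sqGMod ρA ρM)
    (sqGMod_isMult ρA hρ ρM hc) finiteType_sq
  refine ⟨s.image TrivSqZeroExt.snd, ?_, ?_⟩
  · intro m hm
    rw [Finset.coe_image] at hm
    obtain ⟨x, hx, rfl⟩ := hm
    exact ((mem_fixedUnder_sq ρA ρM (𝟙 G) x).mp (hs1 hx)).2
  · intro m hm
    have h1 : TrivSqZeroExt.inr m ∈ (sqGMod ρA ρM).fixedUnder (𝟙 G) := by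
      rw [mem_fixedUnder_sq]
      refine ⟨?_, ?_⟩
      · rw [TrivSqZeroExt.fst_inr]
        exact Submodule.zero_mem _
      · rw [TrivSqZeroExt.snd_inr]
        exact hm
    have h2 := hs2 h1
    have h3 := snd_mem_span_of_mem_adjoin (ρA.fixedSubalgebra hρ (𝟙 G)) (↑s : Set (TrivSqZeroExt A M))
      (fun x hx => ((mem_fixedUnder_sq ρA ρM (𝟙 G) x).mp (hs1 hx)).1) _ h2
    rw [Finset.coe_image]
    have h4 := h3.2
    rw [TrivSqZeroExt.snd_inr] at h4
    exact h4

end Groth.Agent.Lib.T2H7.InvModFG
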