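import Groth.Agent.Lib.T2H7IrrSplit

/-!
A Zariski-locally split torus over an irreducible base is split.
-/

set_option autoImplicit false
set_option linter.unusedSectionVars false
set_option linter.unusedVariables false
set_option linter.style.haveILetI false
universe u
open CategoryTheory CategoryTheory.Limits MonoidalCategory CartesianMonoidalCategory MonObj GrpObj
  AlgebraicGeometry

namespace Groth.Agent.Lib.T2H7.IrrSplitB

open Groth.Agent.Lib.T2H7.OverGlue Groth.Agent.Lib.T2H7.GrpIsoBC Groth.Agent.Lib.T2H7.ToriMono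
  Groth.Agent.Lib.T2H7.MtModel Groth.Agent.Lib.T2H7.DiagHomA Groth.Agent.Lib.T2H7.DiagHomB
  Groth.Agent.Lib.T2H7.DiagHomE Groth.Agent.Lib.T2H7.DiagDS Groth.Agent.Lib.T2H3.MultGa
  Groth.Agent.Lib.Helper27.GaGm

section Top

variable {S : Scheme.{u}} [IrreducibleSpace ↥S]

theorem generic_mem (W : S.Opens) (hW : (W : Set S).Nonempty) : genericPoint ↥S ∈ W := by
  have h := (genericPoint_spec ↥S).mem_open_set_iff W.2
  rw [Set.univ_inter] at h
  exact h.2 hW

theorem connectedSpace_opens (W : S.Opens) (hW : genericPoint ↥S ∈ W) :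
    ConnectedSpace ↥(W : Scheme.{u}) := by
  haveI : Nonempty ↥(W : Scheme.{u}) := ⟨⟨genericPoint ↥S, hW⟩⟩
  haveI : IrreducibleSpace ↥(W : Scheme.{u}) := W.ι.isOpenEmbedding.irreducibleSpace
  infer_instance

/-- the generic field point of `S`. -/
noncomputable abbrev gpt (S : Scheme.{u}) [IrreducibleSpace ↥S] :
    Spec (CommRingCat.of (S.residueField (genericPoint ↥S))) ⟶ S :=
  S.fromSpecResidueField (genericPoint ↥S)

theorem exists_lift (W : S.Opens) (hW : genericPoint ↥S ∈ W) :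
    ∃ a : Spec (CommRingCat.of (S.residueField (genericPoint ↥S))) ⟶ (W : Scheme.{u}),
      a ≫ W.ι = gpt S := by
  refine ⟨IsOpenImmersion.lift W.ι (gpt S) ?_, IsOpenImmersion.lift_fac _ _ _⟩
  rw [Scheme.Opens.range_ι]
  rintro _ ⟨z, rfl⟩
  have : (gpt S) z = genericPoint ↥S := Scheme.fromSpecResidueField_apply _ _
  rw [this]
  exact hW

end Top

section Rank

variable {S : Scheme.{u}} [IrreducibleSpace ↥S] {T₁ : Over S} [GrpObj T₁]

theorem rank_unique {U U' : S.Opens} (hU : genericPoint ↥S ∈ U) (hU' : genericPoint ↥S ∈ U')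
    {r r' : ℕ} (h : Red.IsSplitTorusWith (Fin r → ℤ) (Red.bc U.ι T₁))
    (h' : Red.IsSplitTorusWith (Fin r' → ℤ) (Red.bc U'.ι T₁)) : r = r' := by
  obtain ⟨a, ha⟩ := exists_lift U hU
  obtain ⟨a', ha'⟩ := exists_lift U' hU'
  obtain ⟨e⟩ := split_of_comp a U.ι ha T₁ _ h
  obtain ⟨e'⟩ := split_of_comp a' U'.ι ha' T₁ _ h'
  exact rank_eq_of_grpIso (R := S.residueField (genericPoint ↥S)) ⟨e.symm ≪≫ e'⟩

end Rank

section Norm

variable {S : Scheme.{u}} {Ω : Type u} [Field Ω] (t : Spec (CommRingCat.of Ω) ⟶ S)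
  (M : Type) [AddCommGroup M]

/-- every automorphism of the fibre of `D_S(M)` at a field point is induced by a global
automorphism of `D_S(M)`. -/
theorem exists_global (A : Red.bc t (Red.DS S M) ⟶ Red.bc t (Red.DS S M)) [IsMonHom A]
    [IsIso A] :
    ∃ δ : Red.DS S M ⟶ Red.DS S M, IsMonHom δ ∧ IsIso δ ∧ (Over.pullback t).map δ = A := by
  obtain ⟨A', hA'⟩ : ∃ A' : Red.DS (Spec (CommRingCat.of Ω)) M ⟶
      Red.DS (Spec (CommRingCat.of Ω)) M, A' = (cIso t M).inv ≫ A ≫ (cIso t M).hom := ⟨_, rfl⟩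
  haveI : IsMonHom A' := by rw [hA']; infer_instance
  haveI : IsIso A' := by rw [hA']; infer_instance
  obtain ⟨ψ, hψ⟩ := exists_addHom Groth.Agent.Lib.T2H7.QuotSplit.field_hconn A'
  have hbij := Groth.Agent.Lib.T2H7.MtLocus.bij_of_iso ψ A' hψ
  obtain ⟨δ, hδmon, hδ⟩ := exists_dsHom (T := S) ψ
  have hiso : IsIso δ := isIso_dsHom (AddEquiv.ofBijective ψ hbij) δ (fun m => hδ m)
  refine ⟨δ, hδmon, hiso, ?_⟩
  have h1 : (cIso t M).inv ≫ (Over.pullback t).map δ ≫ (cIso t M).hom = A' :=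
    ds_ext' fun m => by rw [dsFn_bc t ψ δ hδ m, hψ m]
  rw [hA'] at h1
  have h2 := congrArg (fun k => (cIso t M).hom ≫ k ≫ (cIso t M).inv) h1
  simpa using h2

end Norm

section Main

variable {S : Scheme.{u}} [IrreducibleSpace ↥S] {T₁ : Over S} [GrpObj T₁]

theorem exists_charts (hT₁ : ∀ s : ↥S, ∃ U : S.Opens, s ∈ U ∧ ∃ r : ℕ,
      Red.IsSplitTorusWith (Fin r → ℤ) (Red.bc U.ι T₁)) :
    ∃ r : ℕ, ∀ s : ↥S, ∃ U : S.Opens, s ∈ U ∧
      ∃ f : Red.bc U.ι T₁ ≅ Red.bc U.ι (Red.DS S (Fin r → ℤ)), IsMonHom f.hom := by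
  obtain ⟨U₀, hη₀, r, hr⟩ := hT₁ (genericPoint ↥S)
  refine ⟨r, fun s => ?_⟩
  obtain ⟨U, hsU, r', hr'⟩ := hT₁ s
  have hηU : genericPoint ↥S ∈ U := generic_mem U ⟨s, hsU⟩
  have hrr : r' = r := rank_unique hηU hη₀ hr' hr
  subst hrr
  obtain ⟨e, he⟩ := (nonempty_grpIso_iff _ _).1 hr'
  haveI := he
  refine ⟨U, hsU, e ≪≫ (cIso U.ι _).symm, ?_⟩
  show IsMonHom (e.hom ≫ (cIso U.ι _).inv)
  infer_instance

/-- normalised charts: all of them induce the same trivialisation of the generic fibre. -/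
theorem exists_normalised (hT₁ : ∀ s : ↥S, ∃ U : S.Opens, s ∈ U ∧ ∃ r : ℕ,
      Red.IsSplitTorusWith (Fin r → ℤ) (Red.bc U.ι T₁)) :
    ∃ (r : ℕ) (F₀ : Red.bc (gpt S) T₁ ⟶ Red.bc (gpt S) (Red.DS S (Fin r → ℤ))),
      ∀ s : ↥S, ∃ U : S.Opens, s ∈ U ∧
      ∃ f : Red.bc U.ι T₁ ⟶ Red.bc U.ι (Red.DS S (Fin r → ℤ)), IsMonHom f ∧ IsIso f ∧
        ∀ (a : Spec (CommRingCat.of (S.residueField (genericPoint ↥S))) ⟶ (U : Scheme.{u}))
          (ha : a ≫ U.ι = gpt S), tw U.ι a ha f = F₀ := by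
  obtain ⟨r, hloc⟩ := exists_charts hT₁
  obtain ⟨U₀, hη₀, f₀, hf₀⟩ := hloc (genericPoint ↥S)
  obtain ⟨a₀, ha₀⟩ := exists_lift U₀ hη₀
  haveI := hf₀
  refine ⟨r, tw U₀.ι a₀ ha₀ f₀.hom, fun s => ?_⟩
  obtain ⟨U, hsU, f, hf⟩ := hloc s
  haveI := hf
  have hηU : genericPoint ↥S ∈ U := generic_mem U ⟨s, hsU⟩
  obtain ⟨a, ha⟩ := exists_lift U hηU
  haveI : IsMonHom (tw U.ι a ha f.hom) := by unfold tw; infer_instance
  haveI : IsIso (tw U.ι a ha f.hom) := by unfold tw; infer_instance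
  haveI : IsMonHom (tw U₀.ι a₀ ha₀ f₀.hom) := by unfold tw; infer_instance
  haveI : IsIso (tw U₀.ι a₀ ha₀ f₀.hom) := by unfold tw; infer_instance
  haveI : IsMonHom (asIso (tw U.ι a ha f.hom)).hom := ‹IsMonHom (tw U.ι a ha f.hom)›
  haveI : IsMonHom (inv (tw U.ι a ha f.hom)) :=
    inferInstanceAs (IsMonHom (asIso (tw U.ι a ha f.hom)).inv)
  obtain ⟨δ, hδmon, hδiso, hδ⟩ := exists_global (gpt S) (Fin r → ℤ)
    (inv (tw U.ι a ha f.hom) ≫ tw U₀.ι a₀ ha₀ f₀.hom)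
  haveI := hδmon
  haveI := hδiso
  refine ⟨U, hsU, f.hom ≫ (Over.pullback U.ι).map δ, inferInstance, inferInstance, ?_⟩
  intro a' ha'
  have haa : a' = a := by
    rw [← cancel_mono U.ι, ha, ha']
  subst haa
  rw [tw_comp_map, hδ, IsIso.hom_inv_id_assoc]

/-- **A Zariski-locally split torus over an irreducible base is split.** -/
theorem split_of_locally_split (hT₁ : ∀ s : ↥S, ∃ U : S.Opens, s ∈ U ∧ ∃ r : ℕ,
      Red.IsSplitTorusWith (Fin r → ℤ) (Red.bc U.ι T₁)) :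
    ∃ r : ℕ, Red.IsSplitTorusWith (Fin r → ℤ) T₁ := by
  obtain ⟨r, F₀, hloc⟩ := exists_normalised hT₁
  choose U hsU f hfmon hfiso hnorm using hloc
  refine ⟨r, ?_⟩
  have hU : TopologicalSpace.IsOpenCover U := by
    apply TopologicalSpace.IsOpenCover.mk
    rw [eq_top_iff]
    intro x _
    exact TopologicalSpace.Opens.mem_iSup.2 ⟨x, hsU x⟩
  have hη : ∀ s, genericPoint ↥S ∈ U s := fun s => generic_mem (U s) ⟨s, hsU s⟩
  haveI : AddGroup.FG (Fin r → ℤ) := Module.Finite.iff_addGroup_fg.mp inferInstance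
  have hB : SGA3x.IsMultTypeFT (Red.DS S (Fin r → ℤ)) :=
    Groth.Agent.Lib.T2H7.QuotSplit.isMultTypeFT_DS S _
  have hresmon : ∀ (k : ↥S) (W : S.Opens) (hle : W ≤ U k),
      IsMonHom (res hle (f k)) ∧ IsIso (res hle (f k)) := by
    intro k W hle
    haveI := hfmon k
    haveI := hfiso k
    constructor
    · unfold res; infer_instance
    · unfold res; infer_instance
  have hres : ∀ i j, res (inf_le_left : U i ⊓ U j ≤ U i) (f i) =
      res (inf_le_right : U i ⊓ U j ≤ U j) (f j) := by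
    intro i j
    have hηW : genericPoint ↥S ∈ U i ⊓ U j := ⟨hη i, hη j⟩
    haveI := connectedSpace_opens _ hηW
    obtain ⟨b, hb⟩ := exists_lift _ hηW
    have key : ∀ (k : ↥S) (hle : U i ⊓ U j ≤ U k),
        tw (U i ⊓ U j).ι b hb (res hle (f k)) = F₀ := by
      intro k hle
      rw [res_eq_tw, tw_tw (U k).ι b (S.homOfLE hle) (S.homOfLE_ι hle) hb
        (by rw [Category.assoc, S.homOfLE_ι, hb])]
      exact hnorm k _ _
    have hmap : (Over.pullback b).map (res inf_le_left (f i)) =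
        (Over.pullback b).map (res inf_le_right (f j)) := by
      rw [map_eq_tw _ b hb, map_eq_tw _ b hb, key, key]
    obtain ⟨h1m, h1i⟩ := hresmon i _ (inf_le_left : U i ⊓ U j ≤ U i)
    obtain ⟨h2m, h2i⟩ := hresmon j _ (inf_le_right : U i ⊓ U j ≤ U j)
    haveI := h1m
    haveI := h1i
    haveI := h2m
    haveI := h2i
    haveI : IsMonHom (asIso (res (inf_le_left : U i ⊓ U j ≤ U i) (f i))).hom := h1m
    haveI : IsMonHom (inv (res (inf_le_left : U i ⊓ U j ≤ U i) (f i))) :=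
      inferInstanceAs (IsMonHom (asIso (res (inf_le_left : U i ⊓ U j ≤ U i) (f i))).inv)
    have hBW := Groth.Agent.Lib.T2H7.QtBc.isMultTypeFT_bc (U i ⊓ U j).ι hB
    have h3 := hom_eq_of_point hBW hBW
      (inv (res (inf_le_left : U i ⊓ U j ≤ U i) (f i)) ≫
        res (inf_le_right : U i ⊓ U j ≤ U j) (f j)) (𝟙 _) b (by
        rw [Functor.map_comp, Functor.map_inv, ← hmap, IsIso.inv_hom_id,
          CategoryTheory.Functor.map_id])
    have h4 := congrArg (fun k => res (inf_le_left : U i ⊓ U j ≤ U i) (f i) ≫ k) h3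
    simpa using h4.symm
  obtain ⟨g, hg⟩ := glue_opens U hU f hres
  haveI : IsIso g := by
    refine OverDesc.isIso_of_openCover (S.openCoverOfIsOpenCover U hU) g ?_
    intro (i : ↥S)
    show IsIso ((Over.pullback (U i).ι).map g)
    rw [hg i]
    exact hfiso i
  haveI : IsMonHom g := by
    apply isMonHom_of_points
    refine EqDesc.eq_of_openCover (S.openCoverOfIsOpenCover U hU) _ _ ?_
    intro (i : ↥S)
    show (Over.pullback (U i).ι).map ((fst T₁ T₁ * snd T₁ T₁) ≫ g) =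
      (Over.pullback (U i).ι).map ((fst T₁ T₁ ≫ g) * (snd T₁ T₁ ≫ g))
    haveI := hfmon i
    rw [Functor.map_comp, Functor.map_mul, Functor.map_mul, Functor.map_comp, Functor.map_comp,
      hg i]
    have := MonObj.mul_comp ((Over.pullback (U i).ι).map (fst T₁ T₁)) ((Over.pullback (U i).ι).map (snd T₁ T₁)) (f i)
    exact this
  exact ⟨Grp.mkIso' (asIso g)⟩

end Main

end Groth.Agent.Lib.T2H7.IrrSplitB
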