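import Mathlib
import Groth.Prelude.Def_AlgSp
import Groth.Agent.Lib.T2H1JShriek
import Groth.Agent.S9869
import Groth.Agent.S9927

/-!
# `j_!` for `g : S ⟶ S'` on algebraic spaces: presentations and points (helper7)

For an algebraic space `F` over `S` with a presentation `(U, R, p)`, the map
`sh g p : h_{U/S'} ⟶ j_! F` is again (part of) a presentation; we deduce the description of the
`T`-points of `j_! F` lying over the canonical point of `h_S`.
-/

set_option autoImplicit false
set_option linter.unusedSectionVars false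
set_option linter.unusedVariables false
set_option linter.style.haveILetI false
universe u
open CategoryTheory CategoryTheory.Limits AlgebraicGeometry Opposite

namespace Groth.Agent.Lib.T2H7.JShA

open Groth.Agent.Lib.T2H1.JInv
open Groth.Agent.S13210 (yEquiv yEquiv_comp yEquiv_symm_comp isPullback_of_yon)
open Groth.Agent.Lib.T2H1.RepIso

variable {S S' : Scheme.{u}} (g : S ⟶ S')

/-- the data of a presentation of a sheaf by schemes. -/
structure Pres (F : AlgSp.Sp S) where
  U : Over S
  R : Over S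
  p : (AlgSp.yon S).obj U ⟶ F
  s : R ⟶ U
  t : R ⟶ U
  he : AlgSp.RepWith @Etale p
  hs : AlgSp.RepWith @Surjective p
  sq : IsPullback ((AlgSp.yon S).map t) ((AlgSp.yon S).map s) p p

/-- every algebraic space has a presentation. -/
theorem nonempty_pres (F : AlgSp.Space S) : Nonempty (Pres F.obj) := by
  obtain ⟨U, p, he, hs⟩ := F.property.atlas
  have sq0 := he.rep.isPullback p
  obtain ⟨t, ht⟩ := (AlgSp.yon S).map_surjective (he.rep.fst p)
  exact ⟨⟨U, he.rep.pullback p, p, he.rep.snd p, t, he, hs, by rw [ht]; exact sq0⟩⟩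

variable {g}

/-- `j_!` of a coequalizer presentation is a coequalizer presentation. -/
noncomputable def isColimit_sh {F : AlgSp.Sp S} {R U : Over S} (p : (AlgSp.yon S).obj U ⟶ F) (s t : R ⟶ U)
    (w : (AlgSp.yon S).map t ≫ p = (AlgSp.yon S).map s ≫ p)
    (hc : IsColimit (Cofork.ofπ p w))
    (w' : QuotSh.repMap Scheme.fppfPrecoverage ((Over.map g).map s) ≫
        ((QuotSh.repIsoUliftYoneda Scheme.fppfPrecoverage ((Over.map g).obj U)).hom ≫ sh g p) =
      QuotSh.repMap Scheme.fppfPrecoverage ((Over.map g).map t) ≫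
        ((QuotSh.repIsoUliftYoneda Scheme.fppfPrecoverage ((Over.map g).obj U)).hom ≫ sh g p)) :
    IsColimit (Cofork.ofπ
      ((QuotSh.repIsoUliftYoneda Scheme.fppfPrecoverage ((Over.map g).obj U)).hom ≫ sh g p) w') := by
  have hcond : ∀ (c : Cofork (QuotSh.repMap Scheme.fppfPrecoverage ((Over.map g).map s))
      (QuotSh.repMap Scheme.fppfPrecoverage ((Over.map g).map t))),
      (AlgSp.yon S).map t ≫ (tr g U c.pt).symm
        ((QuotSh.repIsoUliftYoneda Scheme.fppfPrecoverage ((Over.map g).obj U)).inv ≫ c.π) =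
      (AlgSp.yon S).map s ≫ (tr g U c.pt).symm
        ((QuotSh.repIsoUliftYoneda Scheme.fppfPrecoverage ((Over.map g).obj U)).inv ≫ c.π) := by
    intro c
    apply (tr g R c.pt).injective
    rw [tr_map_comp, tr_map_comp, Equiv.apply_symm_apply, ← Category.assoc, ← Category.assoc,
      ← repIso_inv_naturality, ← repIso_inv_naturality, Category.assoc, Category.assoc,
      c.condition]
  refine Cofork.IsColimit.mk _
    (fun c => ((jadj g).homEquiv _ _).symm (hc.desc (Cofork.ofπ _ (hcond c)))) ?_ ?_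
  · intro c
    have h1 : p ≫ hc.desc (Cofork.ofπ _ (hcond c)) = _ :=
      Cofork.IsColimit.π_desc hc
    change (_ ≫ sh g p) ≫ _ = c.π
    rw [Category.assoc, sh_comp, Equiv.apply_symm_apply, h1]
    change _ ≫ (tr g U c.pt) ((tr g U c.pt).symm _) = _
    rw [Equiv.apply_symm_apply, Iso.hom_inv_id_assoc]
  · intro c m hm
    apply ((jadj g).homEquiv _ _).injective
    rw [Equiv.apply_symm_apply]
    apply Cofork.IsColimit.hom_ext hc
    have h1 : p ≫ hc.desc (Cofork.ofπ _ (hcond c)) = _ :=
      Cofork.IsColimit.π_desc hc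
    change p ≫ _ = p ≫ _
    rw [h1]
    apply (tr g U c.pt).injective
    change _ = (tr g U c.pt) ((tr g U c.pt).symm _)
    rw [Equiv.apply_symm_apply, ← sh_comp]
    have hm' : ((QuotSh.repIsoUliftYoneda Scheme.fppfPrecoverage ((Over.map g).obj U)).hom ≫
        sh g p) ≫ m = c.π := hm
    rw [← hm', Category.assoc, Iso.inv_hom_id_assoc]

/-- **presentation transfer**: if `(U, R, p)` presents the algebraic space `F` over `S`, then
`sh g p : h_{U/S'} ⟶ j_! F` is representable étale surjective with kernel pair `R/S'`. -/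
theorem pres_sh {F : AlgSp.Sp S} (hF : AlgSp.IsAlgSpace F) (P : Pres F) :
    AlgSp.RepWith @Etale (sh g P.p) ∧ AlgSp.RepWith @Surjective (sh g P.p) ∧
      IsPullback ((AlgSp.yon S').map ((Over.map g).map P.t))
        ((AlgSp.yon S').map ((Over.map g).map P.s)) (sh g P.p) (sh g P.p) := by
  obtain ⟨hRel, ⟨hc⟩⟩ := Groth.Agent.S9872.result S F hF P.p P.he P.hs P.s P.t P.sq
  have hRel' := isEtaleEqvRel_map g hRel
  have hq := Groth.Agent.S9868.result S' ((Over.map g).map P.s) ((Over.map g).map P.t) hRel'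
  have hpres := Groth.Agent.S9869.result S' ((Over.map g).map P.s) ((Over.map g).map P.t) hRel' hq
  have w' : QuotSh.repMap Scheme.fppfPrecoverage ((Over.map g).map P.s) ≫
        ((QuotSh.repIsoUliftYoneda Scheme.fppfPrecoverage ((Over.map g).obj P.U)).hom ≫ sh g P.p) =
      QuotSh.repMap Scheme.fppfPrecoverage ((Over.map g).map P.t) ≫
        ((QuotSh.repIsoUliftYoneda Scheme.fppfPrecoverage ((Over.map g).obj P.U)).hom ≫ sh g P.p) := by
    rw [← Category.assoc, repIso_hom_naturality, Category.assoc, map_sh, ← Category.assoc,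
      repIso_hom_naturality, Category.assoc, map_sh, P.sq.w]
  have hc' := isColimit_sh P.p P.s P.t P.sq.w hc w'
  let θ : QuotSh.quot Scheme.fppfPrecoverage ((Over.map g).map P.s) ((Over.map g).map P.t) ≅
      (jsh g).obj F := IsColimit.coconePointUniqueUpToIso (colimit.isColimit _) hc'
  have hθ : QuotSh.quotπ Scheme.fppfPrecoverage ((Over.map g).map P.s) ((Over.map g).map P.t) ≫
      θ.hom = (QuotSh.repIsoUliftYoneda Scheme.fppfPrecoverage ((Over.map g).obj P.U)).hom ≫
        sh g P.p :=
    IsColimit.comp_coconePointUniqueUpToIso_hom (colimit.isColimit _) hc' WalkingParallelPair.one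
  have hsh : sh g P.p = ((QuotSh.repIsoUliftYoneda Scheme.fppfPrecoverage ((Over.map g).obj P.U)).inv ≫
      QuotSh.quotπ Scheme.fppfPrecoverage ((Over.map g).map P.s) ((Over.map g).map P.t)) ≫ θ.hom := by
    rw [Category.assoc, hθ, Iso.inv_hom_id_assoc]
  refine ⟨?_, ?_, ?_⟩
  · rw [hsh]
    exact ((AlgSp.RepWith (S := S') @Etale).cancel_right_of_respectsIso _ θ.hom).2 hpres.etale
  · rw [hsh]
    exact ((AlgSp.RepWith (S := S') @Surjective).cancel_right_of_respectsIso _ θ.hom).2
      hpres.surjective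
  · rw [hsh]
    exact IsPullback.of_iso hpres.isPullback (Iso.refl _) (Iso.refl _) (Iso.refl _) θ
      (by simp) (by simp) (by simp) (by simp)

variable (g)

/-- the canonical point `T/S' ⟶ S/S'`. -/
def can (T : Over S) : (Over.map g).obj T ⟶ Over.mk g := Over.homMk T.hom (by simp)

lemma map_can {T1 T : Over S} (c : T1 ⟶ T) : (Over.map g).map c ≫ can g T = can g T1 := by
  ext
  simp [can]

noncomputable def sec (F : AlgSp.Sp S) : F ⟶ (jinv g).obj ((AlgSp.yon S').obj (Over.mk g)) :=
  ⟨{ app := fun T => TypeCat.ofHom fun _ => (ULift.up (can g T.unop))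
     naturality := fun T T' c => by
       ext x
       exact congrArg ULift.up (map_can g c.unop).symm }⟩

lemma tr_comp_sec {T : Over S} {F : AlgSp.Sp S} (a : (AlgSp.yon S).obj T ⟶ F) :
    tr g T _ (a ≫ sec g F) = (AlgSp.yon S').map (can g T) := by
  apply (yEquiv _ _).injective
  simp only [tr, Equiv.trans_apply]
  rw [yEquiv_comp]
  erw [(AlgSp.J S').uliftYonedaEquiv_uliftYoneda_map]

/-- the structure map `j_! F ⟶ h_S`. -/
noncomputable def π (F : AlgSp.Sp S) : (jsh g).obj F ⟶ (AlgSp.yon S').obj (Over.mk g) :=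
  ((jadj g).homEquiv F _).symm (sec g F)

lemma sh_π {T : Over S} {F : AlgSp.Sp S} (a : (AlgSp.yon S).obj T ⟶ F) :
    sh g a ≫ π g F = (AlgSp.yon S').map (can g T) := by
  rw [sh_comp]
  unfold π
  rw [Equiv.apply_symm_apply, tr_comp_sec]

lemma sec_nat {F G : AlgSp.Sp S} (m : F ⟶ G) : m ≫ sec g G = sec g F := by
  apply Sheaf.hom_ext
  ext T x
  rfl

lemma map_π {F G : AlgSp.Sp S} (m : F ⟶ G) : (jsh g).map m ≫ π g G = π g F := by
  apply ((jadj g).homEquiv _ _).injective
  rw [Adjunction.homEquiv_naturality_left]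
  unfold π
  rw [Equiv.apply_symm_apply, Equiv.apply_symm_apply, sec_nat]

theorem epi_yon_map {A B : Over S} (q : A ⟶ B) (he : Etale q.left) (hs : Surjective q.left) :
    Epi ((AlgSp.yon S).map q) :=
  Groth.Agent.S9927.epi_of_repWith _ ((AlgSp.repWith_yon_map_iff @Etale q).2 he)
    ((AlgSp.repWith_yon_map_iff @Surjective q).2 hs)

/-- **injectivity of `sh`** on points of an algebraic space. -/
theorem sh_injective {F : AlgSp.Sp S} (hF : AlgSp.IsAlgSpace F) {T : Over S}
    (x y : (AlgSp.yon S).obj T ⟶ F) (h : sh g x = sh g y) : x = y := by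
  obtain ⟨P⟩ := nonempty_pres ⟨F, hF⟩
  obtain ⟨he', hs', sq'⟩ := pres_sh (g := g) hF P
  -- charts of `x` and `y`
  have sqx := P.he.rep.isPullback x
  have sqy := P.he.rep.isPullback y
  set Px := P.he.rep.pullback x
  set Py := P.he.rep.pullback y
  set qx : Px ⟶ T := P.he.rep.snd x
  set qy : Py ⟶ T := P.he.rep.snd y
  obtain ⟨ux, hux⟩ := (AlgSp.yon S).map_surjective (P.he.rep.fst x)
  obtain ⟨uy, huy⟩ := (AlgSp.yon S).map_surjective (P.he.rep.fst y)
  have hqxe : Etale qx.left := P.he.2 x _ qx sqx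
  have hqxs : Surjective qx.left := P.hs.2 x _ qx sqx
  have hqye : Etale qy.left := P.he.2 y _ qy sqy
  have hqys : Surjective qy.left := P.hs.2 y _ qy sqy
  let Q := pullback qx qy
  let q : Q ⟶ T := pullback.fst qx qy ≫ qx
  have sqQ : IsPullback (pullback.fst qx qy).left (pullback.snd qx qy).left qx.left qy.left :=
    (IsPullback.of_hasPullback qx qy).map (Over.forget S)
  have hqe : Etale q.left := by
    haveI : Etale (pullback.fst qx qy).left :=
      MorphismProperty.of_isPullback (P := @Etale) sqQ.flip hqye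
    rw [Over.comp_left]
    infer_instance
  have hqs : Surjective q.left := by
    haveI : Surjective (pullback.fst qx qy).left :=
      MorphismProperty.of_isPullback (P := @Surjective) sqQ.flip hqys
    rw [Over.comp_left]
    infer_instance
  let ux' : Q ⟶ P.U := pullback.fst qx qy ≫ ux
  let uy' : Q ⟶ P.U := pullback.snd qx qy ≫ uy
  have h1 : (AlgSp.yon S).map ux' ≫ P.p = (AlgSp.yon S).map q ≫ x := by
    rw [Functor.map_comp, Functor.map_comp, Category.assoc, Category.assoc, hux, sqx.w]
  have h2 : (AlgSp.yon S).map uy' ≫ P.p = (AlgSp.yon S).map q ≫ y := by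
    have : q = pullback.snd qx qy ≫ qy := pullback.condition
    rw [this, Functor.map_comp, Functor.map_comp, Category.assoc, Category.assoc, huy, sqy.w]
  have hcond : (AlgSp.yon S').map ((Over.map g).map ux') ≫ sh g P.p =
      (AlgSp.yon S').map ((Over.map g).map uy') ≫ sh g P.p := by
    rw [map_sh, map_sh, h1, h2, ← map_sh, ← map_sh, h]
  obtain ⟨r', hr'⟩ := (AlgSp.yon S').map_surjective (sq'.lift _ _ hcond)
  have hr1 : r' ≫ (Over.map g).map P.t = (Over.map g).map ux' := by
    apply (AlgSp.yon S').map_injective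
    rw [Functor.map_comp, hr', sq'.lift_fst]
  have hr2 : r' ≫ (Over.map g).map P.s = (Over.map g).map uy' := by
    apply (AlgSp.yon S').map_injective
    rw [Functor.map_comp, hr', sq'.lift_snd]
  have hr1' : r'.left ≫ P.t.left = ux'.left := congrArg (fun k => k.left) hr1
  have hr2' : r'.left ≫ P.s.left = uy'.left := congrArg (fun k => k.left) hr2
  let r : Q ⟶ P.R := Over.homMk r'.left (by
    rw [← Over.w P.t, ← Category.assoc, hr1']
    exact Over.w ux')
  have e1 : r ≫ P.t = ux' := by ext; exact hr1'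
  have e2 : r ≫ P.s = uy' := by ext; exact hr2'
  haveI : Epi ((AlgSp.yon S).map q) := epi_yon_map q hqe hqs
  rw [← cancel_epi ((AlgSp.yon S).map q), ← h1, ← h2, ← e1, ← e2, Functor.map_comp,
    Functor.map_comp, Category.assoc, Category.assoc, P.sq.w]
/-- **surjectivity of `sh`** onto the points of `j_! F` over the canonical point of `h_S`. -/
theorem sh_surjective {F : AlgSp.Sp S} (hF : AlgSp.IsAlgSpace F) {T : Over S}
    (ξ : (AlgSp.yon S').obj ((Over.map g).obj T) ⟶ (jsh g).obj F)
    (hξ : ξ ≫ π g F = (AlgSp.yon S').map (can g T)) :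
    ∃ x : (AlgSp.yon S).obj T ⟶ F, sh g x = ξ := by
  obtain ⟨P⟩ := nonempty_pres ⟨F, hF⟩
  obtain ⟨he', hs', sq'⟩ := pres_sh (g := g) hF P
  have sqξ := he'.rep.isPullback ξ
  set Q' := he'.rep.pullback ξ
  set q' : Q' ⟶ (Over.map g).obj T := he'.rep.snd ξ
  obtain ⟨v', hv'⟩ := (AlgSp.yon S').map_surjective (he'.rep.fst ξ)
  have hq'e : Etale q'.left := he'.2 ξ _ q' sqξ
  have hq's : Surjective q'.left := hs'.2 ξ _ q' sqξ
  let Q : Over S := Over.mk (q'.left ≫ T.hom)
  let q : Q ⟶ T := Over.homMk q'.left rfl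
  let e : (Over.map g).obj Q ⟶ Q' := Over.homMk (𝟙 _) (by
    have := Over.w q'
    simp only [Over.map_obj_hom] at this
    simp [Q, this])
  have heq' : e ≫ q' = (Over.map g).map q := by
    ext
    simp [e, q]
  let v'' : (Over.map g).obj Q ⟶ (Over.map g).obj P.U := e ≫ v'
  have hv''1 : (AlgSp.yon S').map v'' ≫ sh g P.p = (AlgSp.yon S').map ((Over.map g).map q) ≫ ξ := by
    rw [← heq', Functor.map_comp, Functor.map_comp, Category.assoc, Category.assoc, hv', sqξ.w]
  have hv''2 : v'' ≫ can g P.U = can g Q := by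
    apply (AlgSp.yon S').map_injective
    rw [Functor.map_comp, ← sh_π g P.p, ← Category.assoc, hv''1, Category.assoc, hξ,
      ← Functor.map_comp, map_can]
  have hv''3 : v''.left ≫ P.U.hom = Q.hom := congrArg (fun k => k.left) hv''2
  let v : Q ⟶ P.U := Over.homMk v''.left hv''3
  have hv : (Over.map g).map v = v'' := by
    ext
    rfl
  obtain ⟨xQ, hxQ⟩ : ∃ xQ : (AlgSp.yon S).obj Q ⟶ F,
      sh g xQ = (AlgSp.yon S').map ((Over.map g).map q) ≫ ξ :=
    ⟨(AlgSp.yon S).map v ≫ P.p, by rw [← map_sh, hv, hv''1]⟩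
  -- descent along `q`
  have hqe : Etale q.left := hq'e
  have hqs : Surjective q.left := hq's
  have sqK : IsPullback ((AlgSp.yon S).map (pullback.fst q q)) ((AlgSp.yon S).map (pullback.snd q q))
      ((AlgSp.yon S).map q) ((AlgSp.yon S).map q) :=
    (IsPullback.of_hasPullback q q).map (AlgSp.yon S)
  obtain ⟨-, ⟨hc⟩⟩ := Groth.Agent.S9872.result S ((AlgSp.yon S).obj T) (AlgSp.IsAlgSpace.yon_obj T)
    ((AlgSp.yon S).map q) ((AlgSp.repWith_yon_map_iff @Etale q).2 hqe)
    ((AlgSp.repWith_yon_map_iff @Surjective q).2 hqs) (pullback.snd q q) (pullback.fst q q) sqK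
  have hcond : (AlgSp.yon S).map (pullback.fst q q) ≫ xQ = (AlgSp.yon S).map (pullback.snd q q) ≫ xQ := by
    apply sh_injective g hF
    rw [← map_sh, ← map_sh, hxQ, ← Category.assoc, ← Category.assoc, ← Functor.map_comp,
      ← Functor.map_comp, ← Functor.map_comp, ← Functor.map_comp, pullback.condition]
  let x : (AlgSp.yon S).obj T ⟶ F := hc.desc (Cofork.ofπ xQ hcond)
  have hx : (AlgSp.yon S).map q ≫ x = xQ := Cofork.IsColimit.π_desc hc
  refine ⟨x, ?_⟩
  haveI : Epi ((AlgSp.yon S').map ((Over.map g).map q)) := epi_yon_map _ hq'e hq's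
  rw [← cancel_epi ((AlgSp.yon S').map ((Over.map g).map q)), map_sh, hx, hxQ]

end Groth.Agent.Lib.T2H7.JShA
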