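import Mathlib
import Groth.Prelude.Def_AlgSp
import Groth.Agent.Lib.T2H7JShA
import Groth.Agent.S9874

/-!
# `j_!` induces an equivalence `Space S ≌ Over h_S` (helper7)

`Φ g : AlgSp.Space S ⥤ Over (hS g)`, `F ↦ (j_! F ⟶ h_S)`, is fully faithful and essentially
surjective.  Key step: `isPullback_unit`, an algebraic space `F` over `S` is the fibre of
`j⁻¹ j_! F ⟶ j⁻¹ h_S` over the canonical section.
-/

set_option autoImplicit false
set_option linter.unusedSectionVars false
set_option linter.unusedVariables false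
set_option linter.style.haveILetI false
universe u
open CategoryTheory CategoryTheory.Limits AlgebraicGeometry Opposite
namespace Groth.Agent.Lib.T2H7.JShB
open Groth.Agent.Lib.T2H1.JInv Groth.Agent.Lib.T2H7.JShA
open Groth.Agent.S13210 (yEquiv yEquiv_comp yEquiv_symm_comp isPullback_of_yon)
variable {S S' : Scheme.{u}} (g : S ⟶ S')

/-- the terminal sheaf, as `h_S`. -/
noncomputable abbrev T1 (S : Scheme.{u}) : AlgSp.Sp S := (AlgSp.yon S).obj (Over.mk (𝟙 S))

/-- the map to the terminal sheaf. -/
noncomputable def toT (F : AlgSp.Sp S) : F ⟶ T1 S :=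
  ⟨{ app := fun T => TypeCat.ofHom fun _ => (ULift.up (Over.homMk T.unop.hom (by simp)))
     naturality := fun T T' c => by
       ext x
       refine congrArg ULift.up (Over.OverMorphism.ext ?_)
       exact (Over.w c.unop).symm }⟩

/-- morphisms of fppf sheaves are determined by their action on points. -/
lemma hom_ext_pts {F G : AlgSp.Sp S} (m m' : F ⟶ G)
    (h : ∀ (T : Over S) (a : (AlgSp.yon S).obj T ⟶ F), a ≫ m = a ≫ m') : m = m' := by
  apply Sheaf.hom_ext
  ext T x
  obtain ⟨T⟩ := T
  have h1 := yEquiv_comp ((yEquiv T F).symm x) m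
  have h2 := yEquiv_comp ((yEquiv T F).symm x) m'
  rw [Equiv.apply_symm_apply] at h1 h2
  rw [h T] at h1
  exact h1.symm.trans h2

lemma toT_unique {F : AlgSp.Sp S} (a b : F ⟶ T1 S) : a = b := by
  apply Sheaf.hom_ext
  ext T x
  have : Subsingleton ((T1 S).obj.obj T) := by
    constructor
    rintro ⟨p⟩ ⟨q⟩
    refine congrArg ULift.up (Over.OverMorphism.ext ?_)
    have hp := Over.w p
    have hq := Over.w q
    simp only [Over.mk_hom] at hp hq
    rw [← Category.comp_id (Over.Hom.left p), ← Category.comp_id (Over.Hom.left q)]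
    exact hp.trans hq.symm
  exact Subsingleton.elim _ _

/-- a morphism of fppf sheaves which is bijective on points is an isomorphism. -/
lemma isIso_of_pts_bijective {A B : AlgSp.Sp S} (m : A ⟶ B)
    (h : ∀ T : Over S, Function.Bijective (fun a : (AlgSp.yon S).obj T ⟶ A => a ≫ m)) : IsIso m := by
  have : IsIso ((sheafToPresheaf _ _).map m) := by
    rw [NatTrans.isIso_iff_isIso_app]
    intro T
    obtain ⟨T⟩ := T
    rw [isIso_iff_bijective]
    have hb := h T
    constructor
    · intro x y hxy
      apply (yEquiv T A).symm.injective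
      apply hb.1
      change (yEquiv T A).symm x ≫ m = (yEquiv T A).symm y ≫ m
      rw [yEquiv_symm_comp, yEquiv_symm_comp]
      exact congrArg _ hxy
    · intro z
      obtain ⟨a, ha⟩ := hb.2 ((yEquiv T B).symm z)
      refine ⟨yEquiv T A a, ?_⟩
      have := yEquiv_comp a m
      change a ≫ m = _ at ha
      rw [ha, Equiv.apply_symm_apply] at this
      exact this.symm
  exact isIso_of_reflects_iso m (sheafToPresheaf _ _)

lemma sh_map {T : Over S} {F G : AlgSp.Sp S} (a : (AlgSp.yon S).obj T ⟶ F) (m : F ⟶ G) :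
    sh g (a ≫ m) = sh g a ≫ (jsh g).map m := by
  unfold sh
  rw [← tr_comp_map, Category.assoc, Category.assoc]
  congr 2
  exact ((jadj g).unit.naturality m)

lemma tr_unit {T : Over S} {F : AlgSp.Sp S} (a : (AlgSp.yon S).obj T ⟶ F) :
    tr g T _ (a ≫ (jadj g).unit.app F) = sh g a := rfl

lemma unit_map_π (F : AlgSp.Sp S) :
    (jadj g).unit.app F ≫ (jinv g).map (π g F) = sec g F := by
  have := (jadj g).homEquiv_unit (X := F) (f := π g F)
  rw [← this]
  unfold π
  rw [Equiv.apply_symm_apply]

/-- **the unit square**: an algebraic space `F` over `S` is the fibre of `j⁻¹ j_! F ⟶ j⁻¹ h_S`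
over the canonical section. -/
theorem isPullback_unit {F : AlgSp.Sp S} (hF : AlgSp.IsAlgSpace F) :
    IsPullback ((jadj g).unit.app F) (toT F) ((jinv g).map (π g F)) (sec g (T1 S)) := by
  have w : (jadj g).unit.app F ≫ (jinv g).map (π g F) = toT F ≫ sec g (T1 S) := by
    rw [unit_map_π, sec_nat]
  refine isPullback_of_yon w ?_
  intro T b c hbc
  have hξ : tr g T _ b ≫ π g F = (AlgSp.yon S').map (can g T) := by
    rw [← tr_comp_map, hbc, tr_comp_sec]
  obtain ⟨x, hx⟩ := sh_surjective g hF (tr g T _ b) hξ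
  refine ⟨x, ⟨?_, toT_unique _ _⟩, ?_⟩
  · apply (tr g T _).injective
    rw [tr_unit, hx]
  · rintro a ⟨ha, -⟩
    apply sh_injective g hF
    rw [hx, ← ha, tr_unit]

/-- `h_S` as an algebraic space over `S'`. -/
noncomputable abbrev hS : AlgSp.Space S' := (AlgSp.ofScheme S').obj (Over.mk g)

/-- `j_! F` as an algebraic space over `S'`. -/
noncomputable abbrev jshSp (F : AlgSp.Space S) : AlgSp.Space S' :=
  ⟨(jsh g).obj F.obj, isAlgSpace_jsh g F⟩

/-- the functor `F ↦ (j_! F ⟶ h_S)`. -/
noncomputable def Φ : AlgSp.Space S ⥤ Over (hS g) where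
  obj F := Over.mk (ObjectProperty.homMk (π g F.obj) : jshSp g F ⟶ hS g)
  map {F G} m := Over.homMk (ObjectProperty.homMk ((jsh g).map m.hom) : jshSp g F ⟶ jshSp g G) (by
    apply ObjectProperty.hom_ext
    exact map_π g m.hom)
  map_id F := by
    apply Over.OverMorphism.ext
    apply ObjectProperty.hom_ext
    exact (jsh g).map_id F.obj
  map_comp m n := by
    apply Over.OverMorphism.ext
    apply ObjectProperty.hom_ext
    exact (jsh g).map_comp m.hom n.hom

instance : (Φ g).Faithful where
  map_injective {F G} m m' h := by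
    have h1 : (jsh g).map m.hom = (jsh g).map m'.hom :=
      congrArg (fun k => k.left.hom) h
    apply ObjectProperty.hom_ext
    apply (isPullback_unit g G.property).hom_ext
    · have e1 := (jadj g).unit.naturality m.hom
      have e2 := (jadj g).unit.naturality m'.hom
      simp only [Functor.id_map, Functor.comp_map] at e1 e2
      rw [e1, e2, h1]
    · exact toT_unique _ _

instance : (Φ g).Full where
  map_surjective {F G} k := by
    obtain ⟨k0, hk0⟩ : ∃ k0 : (jsh g).obj F.obj ⟶ (jsh g).obj G.obj, k0 = k.left.hom := ⟨_, rfl⟩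
    have hk : k0 ≫ π g G.obj = π g F.obj := by
      rw [hk0]
      exact congrArg (fun m => m.hom) (Over.w k)
    have hcond : ((jadj g).unit.app F.obj ≫ (jinv g).map k0) ≫ (jinv g).map (π g G.obj) =
        toT F.obj ≫ sec g (T1 S) := by
      rw [Category.assoc, ← Functor.map_comp, hk, unit_map_π, sec_nat]
    let m : F.obj ⟶ G.obj := (isPullback_unit g G.property).lift _ _ hcond
    have hm : m ≫ (jadj g).unit.app G.obj = (jadj g).unit.app F.obj ≫ (jinv g).map k0 :=
      (isPullback_unit g G.property).lift_fst _ _ hcond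
    have hmk : (jsh g).map m = k0 := by
      apply ((jadj g).homEquiv _ _).injective
      rw [Adjunction.homEquiv_unit, Adjunction.homEquiv_unit, ← hm]
      exact ((jadj g).unit.naturality m).symm
    refine ⟨ObjectProperty.homMk m, ?_⟩
    apply Over.OverMorphism.ext
    apply ObjectProperty.hom_ext
    exact hmk.trans hk0

/-- a scheme over `S'` with a map to `S` over `S'` comes from a scheme over `S`. -/
lemma exists_lift_obj (T' : Over S') (φ : T' ⟶ Over.mk g) :
    ∃ (T : Over S) (e : (Over.map g).obj T ≅ T'), e.hom ≫ φ = can g T := by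
  refine ⟨Over.mk φ.left, Over.isoMk (Iso.refl _) ?_, ?_⟩
  · have := Over.w φ
    simp only [Over.mk_hom] at this
    simp [this]
  · ext
    simp [can]

/-- `sh` followed by a map `m : j_! F ⟶ G'` is the transpose of the adjunct. -/
lemma sh_comp' {T : Over S} {F : AlgSp.Sp S} (a : (AlgSp.yon S).obj T ⟶ F) {G' : AlgSp.Sp S'}
    (n : F ⟶ (jinv g).obj G') :
    sh g a ≫ ((jadj g).homEquiv F G').symm n = tr g T G' (a ≫ n) := by
  rw [sh_comp, Equiv.apply_symm_apply]

instance : (Φ g).EssSurj where
  mem_essImage Y := by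
    obtain ⟨ϖ, hϖ⟩ : ∃ ϖ : Y.left.obj ⟶ (AlgSp.yon S').obj (Over.mk g), ϖ = Y.hom.hom := ⟨_, rfl⟩
    let A : AlgSp.Sp S := (jinv g).obj Y.left.obj
    let a : A ⟶ (jinv g).obj ((AlgSp.yon S').obj (Over.mk g)) := (jinv g).map ϖ
    let Fo : AlgSp.Sp S := pullback a (sec g (T1 S))
    have hFo : AlgSp.IsAlgSpace Fo :=
      Groth.Agent.S9874.result S ((jinv g).obj ((AlgSp.yon S').obj (Over.mk g)))
        (isAlgSpace_jinv g (hS g)).diag ⟨A, isAlgSpace_jinv g Y.left⟩
        ⟨T1 S, AlgSp.IsAlgSpace.yon_obj _⟩ a (sec g (T1 S)) Fo (pullback.fst _ _)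
        (pullback.snd _ _) (IsPullback.of_hasPullback _ _)
    let ε : (jsh g).obj Fo ⟶ Y.left.obj :=
      ((jadj g).homEquiv _ _).symm (pullback.fst a (sec g (T1 S)))
    have hshε : ∀ {T : Over S} (x : (AlgSp.yon S).obj T ⟶ Fo),
        sh g x ≫ ε = tr g T _ (x ≫ pullback.fst a (sec g (T1 S))) := fun x => sh_comp' g x _
    have hεϖ : ε ≫ ϖ = π g Fo := by
      apply ((jadj g).homEquiv _ _).injective
      rw [Adjunction.homEquiv_naturality_right]
      unfold π
      rw [Equiv.apply_symm_apply, Equiv.apply_symm_apply]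
      exact pullback.condition.trans (sec_nat g _)
    have hε : IsIso ε := by
      refine isIso_of_pts_bijective ε fun T' => ⟨?_, ?_⟩
      · intro ξ₁ ξ₂ h12
        have h12' : ξ₁ ≫ ε = ξ₂ ≫ ε := h12
        obtain ⟨T, e, he⟩ := exists_lift_obj g T' ((AlgSp.yon S').preimage (ξ₁ ≫ π g Fo))
        have hπ1 : ((AlgSp.yon S').map e.hom ≫ ξ₁) ≫ π g Fo = (AlgSp.yon S').map (can g T) := by
          rw [← he, Functor.map_comp, Functor.map_preimage, Category.assoc]
        have hπ2 : ((AlgSp.yon S').map e.hom ≫ ξ₂) ≫ π g Fo = (AlgSp.yon S').map (can g T) := by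
          rw [← hπ1, Category.assoc, Category.assoc, ← hεϖ, ← Category.assoc ξ₂, ← h12',
            Category.assoc]
        obtain ⟨x₁, hx₁⟩ := sh_surjective g hFo _ hπ1
        obtain ⟨x₂, hx₂⟩ := sh_surjective g hFo _ hπ2
        have hx : x₁ = x₂ := by
          apply pullback.hom_ext
          · apply (tr g T _).injective
            rw [← hshε, ← hshε, hx₁, hx₂, Category.assoc, Category.assoc, h12']
          · exact toT_unique _ _
        have hcan : (AlgSp.yon S').map e.hom ≫ ξ₁ = (AlgSp.yon S').map e.hom ≫ ξ₂ := by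
          rw [← hx₁, ← hx₂, hx]
        haveI : IsIso ((AlgSp.yon S').map e.hom) := inferInstance
        exact (cancel_epi _).1 hcan
      · intro ζ
        obtain ⟨T, e, he⟩ := exists_lift_obj g T' ((AlgSp.yon S').preimage (ζ ≫ ϖ))
        let b : (AlgSp.yon S).obj T ⟶ A := (tr g T _).symm ((AlgSp.yon S').map e.hom ≫ ζ)
        have hcond : b ≫ a = toT _ ≫ sec g (T1 S) := by
          apply (tr g T _).injective
          rw [tr_comp_map, tr_comp_sec, Equiv.apply_symm_apply, ← he, Functor.map_comp,
            Functor.map_preimage, Category.assoc]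
        let x : (AlgSp.yon S).obj T ⟶ Fo := pullback.lift b (toT _) hcond
        refine ⟨(AlgSp.yon S').map e.inv ≫ sh g x, ?_⟩
        change ((AlgSp.yon S').map e.inv ≫ sh g x) ≫ ε = ζ
        rw [Category.assoc, hshε, pullback.lift_fst, Equiv.apply_symm_apply, ← Category.assoc,
          ← Functor.map_comp, e.inv_hom_id, CategoryTheory.Functor.map_id, Category.id_comp]
    let F : AlgSp.Space S := ⟨Fo, hFo⟩
    let θ : jshSp g F ≅ Y.left := ObjectProperty.isoMk _ (asIso ε)
    refine ⟨F, ⟨Over.isoMk θ ?_⟩⟩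
    apply ObjectProperty.hom_ext
    have h := hεϖ
    rw [hϖ] at h
    exact h

end Groth.Agent.Lib.T2H7.JShB
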