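import Mathlib
import Groth.Prelude.Def_AlgSp
import Groth.Agent.Lib.T2H7JShB
import Groth.Agent.S9875

/-!
# `j_!` and representable properties (helper7)

`j_!` preserves the fibre products `h_T ×_F h_{T₀}` (`F` an algebraic space over `S`), and a map
`h_T ⟶ F` has a property `P` in the representable sense iff `j_!` of it does.
-/

set_option autoImplicit false
set_option linter.unusedSectionVars false
set_option linter.unusedVariables false
set_option linter.style.haveILetI false
universe u
open CategoryTheory CategoryTheory.Limits AlgebraicGeometry Opposite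
namespace Groth.Agent.Lib.T2H7.JShC
open Groth.Agent.Lib.T2H1.JInv Groth.Agent.Lib.T2H7.JShA Groth.Agent.Lib.T2H7.JShB
variable {S S' : Scheme.{u}} (g : S ⟶ S')

instance : (Φ g).IsEquivalence := { }

instance : HasPullbacks (AlgSp.Space S') := (Groth.Agent.S9875.result S').1
instance : PreservesLimitsOfShape WalkingCospan (ObjectProperty.ι (AlgSp.IsAlgSpace (S := S'))) :=
  (Groth.Agent.S9875.result S').2

lemma shIso_hom_map {T : Over S} {F : AlgSp.Sp S} (a : (AlgSp.yon S).obj T ⟶ F) :
    (shIso g T).hom ≫ (jsh g).map a = sh g a := by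
  change sh g (𝟙 _) ≫ _ = _
  rw [← sh_map, Category.id_comp]

lemma map_shIso_hom {T1 T : Over S} (c : T1 ⟶ T) :
    (AlgSp.yon S').map ((Over.map g).map c) ≫ (shIso g T).hom = sh g ((AlgSp.yon S).map c) := by
  change _ ≫ sh g (𝟙 _) = _
  rw [map_sh, Category.comp_id]

/-- `j_!` preserves pullback squares of algebraic spaces over `S`. -/
theorem isPullback_jsh_map {A B C D : AlgSp.Space S} {f : A.obj ⟶ B.obj} {k : A.obj ⟶ C.obj}
    {h : B.obj ⟶ D.obj} {i : C.obj ⟶ D.obj} (sq : IsPullback f k h i) :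
    IsPullback ((jsh g).map f) ((jsh g).map k) ((jsh g).map h) ((jsh g).map i) := by
  have sq1 : IsPullback (ObjectProperty.homMk f : A ⟶ B) (ObjectProperty.homMk k : A ⟶ C)
      (ObjectProperty.homMk h : B ⟶ D) (ObjectProperty.homMk i : C ⟶ D) :=
    IsPullback.of_map (ObjectProperty.ι (AlgSp.IsAlgSpace (S := S)))
      (ObjectProperty.hom_ext _ sq.w) sq
  exact sq1.map (Φ g ⋙ Over.forget (hS g) ⋙ ObjectProperty.ι (AlgSp.IsAlgSpace (S := S')))

/-- the representable form of the previous statement. -/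
theorem isPullback_sh {F : AlgSp.Space S} {T T0 V : Over S} (f : (AlgSp.yon S).obj T ⟶ F.obj)
    (a0 : (AlgSp.yon S).obj T0 ⟶ F.obj) (fstm : V ⟶ T) (snd : V ⟶ T0)
    (sq : IsPullback ((AlgSp.yon S).map fstm) ((AlgSp.yon S).map snd) f a0) :
    IsPullback ((AlgSp.yon S').map ((Over.map g).map fstm) ≫ (shIso g T).hom)
      ((AlgSp.yon S').map ((Over.map g).map snd)) ((jsh g).map f) (sh g a0) := by
  have sq2 : IsPullback (P := (jsh g).obj ((AlgSp.yon S).obj V)) (X := (jsh g).obj ((AlgSp.yon S).obj T))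
      (Y := (jsh g).obj ((AlgSp.yon S).obj T0)) (Z := (jsh g).obj F.obj)
      ((jsh g).map ((AlgSp.yon S).map fstm)) ((jsh g).map ((AlgSp.yon S).map snd))
      ((jsh g).map f) ((jsh g).map a0) :=
    isPullback_jsh_map g (A := (AlgSp.ofScheme S).obj V) (B := (AlgSp.ofScheme S).obj T)
      (C := (AlgSp.ofScheme S).obj T0) (D := F) sq
  have c1 : (jsh g).map ((AlgSp.yon S).map fstm) ≫ (Iso.refl ((jsh g).obj ((AlgSp.yon S).obj T))).hom =
      (shIso g V).symm.hom ≫ ((AlgSp.yon S').map ((Over.map g).map fstm) ≫ (shIso g T).hom) := by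
    rw [Iso.refl_hom, Category.comp_id, Iso.symm_hom, Iso.eq_inv_comp, shIso_hom_map, map_shIso_hom]
  have c2 : (jsh g).map ((AlgSp.yon S).map snd) ≫ (shIso g T0).symm.hom =
      (shIso g V).symm.hom ≫ (AlgSp.yon S').map ((Over.map g).map snd) := by
    rw [Iso.symm_hom, Iso.symm_hom, Iso.eq_inv_comp, ← Category.assoc, Iso.comp_inv_eq,
      shIso_hom_map, map_shIso_hom]
  have c3 : (jsh g).map f ≫ (Iso.refl ((jsh g).obj F.obj)).hom =
      (Iso.refl ((jsh g).obj ((AlgSp.yon S).obj T))).hom ≫ (jsh g).map f := by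
    rw [Iso.refl_hom, Iso.refl_hom, Category.comp_id, Category.id_comp]
  have c4 : (jsh g).map a0 ≫ (Iso.refl ((jsh g).obj F.obj)).hom = (shIso g T0).symm.hom ≫ sh g a0 := by
    rw [Iso.refl_hom, Category.comp_id, Iso.symm_hom, Iso.eq_inv_comp, shIso_hom_map]
  exact IsPullback.of_iso sq2 (shIso g V).symm (Iso.refl _) (shIso g T0).symm (Iso.refl _) c1 c2 c3 c4

/-- **`j_!` and representable properties**: for an algebraic space `F` over `S` and
`f : h_T ⟶ F`, the map `j_! f` has `P` in the representable sense iff `f` does. -/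
theorem repWith_jsh_map_iff (F : AlgSp.Space S) (T : Over S) (f : (AlgSp.yon S).obj T ⟶ F.obj)
    (P : MorphismProperty Scheme.{u}) [P.IsStableUnderBaseChange] :
    AlgSp.RepWith (S := S') P ((jsh g).map f) ↔ AlgSp.RepWith P f := by
  have hrep : AlgSp.Representable f := F.property.representable_from_yon f
  constructor
  · intro h'
    refine ⟨hrep, fun U V a fst snd sq => ?_⟩
    obtain ⟨fstm, rfl⟩ := (AlgSp.yon S).map_surjective fst
    exact h'.2 (sh g a) _ ((Over.map g).map snd) (isPullback_sh g f a fstm snd sq)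
  · intro h
    refine MorphismProperty.relative.of_exists fun T'' a' => ?_
    obtain ⟨T0, e, he⟩ := exists_lift_obj g T'' ((AlgSp.yon S').preimage (a' ≫ π g F.obj))
    have hπ : ((AlgSp.yon S').map e.hom ≫ a') ≫ π g F.obj = (AlgSp.yon S').map (can g T0) := by
      rw [← he, Functor.map_comp, Functor.map_preimage, Category.assoc]
    obtain ⟨a0, ha0⟩ := sh_surjective g F.property _ hπ
    have sq := hrep.isPullback a0
    obtain ⟨fstm, hfstm⟩ := (AlgSp.yon S).map_surjective (hrep.fst a0)
    rw [← hfstm] at sq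
    have sq' := isPullback_sh g f a0 fstm (hrep.snd a0) sq
    have hP : P (hrep.snd a0).left := h.2 a0 _ (hrep.snd a0) (hfstm ▸ sq)
    refine ⟨(Over.map g).obj (hrep.pullback a0),
      (AlgSp.yon S').map ((Over.map g).map fstm) ≫ (shIso g T).hom,
      (Over.map g).map (hrep.snd a0) ≫ e.hom, ?_, ?_⟩
    · rw [ha0] at sq'
      rw [Functor.map_comp]
      have sq2 : IsPullback ((AlgSp.yon S').map e.hom ≫ a') ((AlgSp.yon S').map e.hom)
          (𝟙 ((jsh g).obj F.obj)) a' := IsPullback.of_vert_isIso ⟨by rw [Category.comp_id]⟩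
      have sq3 := sq'.paste_vert sq2
      rw [Category.comp_id] at sq3
      exact sq3
    · change P (((Over.map g).map (hrep.snd a0)).left ≫ e.hom.left)
      have : IsIso e.hom.left := inferInstanceAs (IsIso ((Over.forget S').map e.hom))
      exact (P.cancel_right_of_respectsIso _ _).2 hP

end Groth.Agent.Lib.T2H7.JShC
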