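import Mathlib
import Groth.Prelude.Def_KRR
import Groth.Agent.Lib.Helper1Sky9
import Groth.Agent.Lib.Helper1Sky4
import Groth.Agent.Lib.Helper17K0Serre2
import Groth.Agent.Lib.Helper17K0a

/-!
Pull-back on `K₀` of finite locally free modules, and its transport to models.
-/

set_option autoImplicit false
universe v u

open CategoryTheory CategoryTheory.Limits AlgebraicGeometry

namespace Groth.Agent.Lib.T2H7.KPull

open KZero KRR Groth.Agent.Lib.Helper1.Sky Groth.Agent.Lib.Helper17.K0a
  Groth.Agent.Lib.Helper17.K0Serre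

variable {X Y : Scheme.{u}} (f : X ⟶ Y)

/-- The pull-back `f^* : Kvb Y → Kvb X`. -/
noncomputable def pullKvb : SGA6.Kvb Y →+ SGA6.Kvb X :=
  QuotientAddGroup.lift (relSub (vbP Y))
    (FreeAbelianGroup.lift (fun E : Subtype (vbP Y) =>
      cl X ((Scheme.Modules.pullback f).obj E.1)))
    (by
      rw [relSub, AddSubgroup.closure_le]
      rintro x ⟨S, h₁, h₂, h₃, hS, rfl⟩
      rw [SetLike.mem_coe, AddMonoidHom.mem_ker, map_sub, map_sub, FreeAbelianGroup.lift_apply_of,
        FreeAbelianGroup.lift_apply_of, FreeAbelianGroup.lift_apply_of]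
      have hS' := shortExact_map_pullback f S hS (isFlat_of_isFinLocFree' S.X₃ h₃)
      have h := clSub_shortExact (vbP X) (S.map (Scheme.Modules.pullback f)) hS'
        (isFinLocFree_pullback f _ h₁) (isFinLocFree_pullback f _ h₂)
        (isFinLocFree_pullback f _ h₃)
      change cl X ((Scheme.Modules.pullback f).obj S.X₂) -
        cl X ((Scheme.Modules.pullback f).obj S.X₁) -
        cl X ((Scheme.Modules.pullback f).obj S.X₃) = 0
      have h' : cl X ((Scheme.Modules.pullback f).obj S.X₂) =
        cl X ((Scheme.Modules.pullback f).obj S.X₁) +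
        cl X ((Scheme.Modules.pullback f).obj S.X₃) := h
      rw [h']
      abel)

theorem pullKvb_cl (E : Y.Modules) (hE : FlatMod.IsFinLocFree E) :
    pullKvb f (cl Y E) = cl X ((Scheme.Modules.pullback f).obj E) := by
  have h : cl Y E = QuotientAddGroup.mk (FreeAbelianGroup.of ⟨E, hE⟩) :=
    clSub_of_prop (vbP Y) hE
  rw [h]
  unfold pullKvb
  rw [QuotientAddGroup.lift_mk, FreeAbelianGroup.lift_apply_of]

/-- Existence and uniqueness of the pull-back on models. -/
theorem existsUnique_isPull {KX : Type v} [CommRing KX] (φX : SGA6.Kvb X →+ KX)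
    {KY : Type v} [CommRing KY] (φY : SGA6.Kvb Y →+ KY) (hφY : Function.Bijective φY) :
    ∃! g : KY →+ KX, KRR.IsPull f φY φX g := by
  let eY : SGA6.Kvb Y ≃+ KY := AddEquiv.ofBijective φY hφY
  refine ⟨(φX.comp (pullKvb f)).comp eY.symm.toAddMonoidHom, ?_, ?_⟩
  · intro E hE
    have h1 : eY.symm (φY (cl Y E)) = cl Y E := eY.symm_apply_apply (cl Y E)
    change φX (pullKvb f (eY.symm (φY (cl Y E)))) = _
    rw [h1, pullKvb_cl f E hE]
  · intro g hg
    have h1 : g.comp φY = φX.comp (pullKvb f) := by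
      apply K0sub_hom_ext
      intro E hE
      change g (φY (cl Y E)) = φX (pullKvb f (cl Y E))
      rw [hg E hE, pullKvb_cl f E hE]
    ext y
    obtain ⟨x, rfl⟩ := hφY.2 y
    have h2 : eY.symm (φY x) = x := eY.symm_apply_apply x
    change g (φY x) = φX (pullKvb f (eY.symm (φY x)))
    rw [h2]
    exact DFunLike.congr_fun h1 x

end Groth.Agent.Lib.T2H7.KPull
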