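import Mathlib
import Groth.Agent.Lib.T2H7KRegM
import Groth.Agent.S9253
import Groth.Agent.S9269

/-!
# "Local complete intersection" as a local property of ring homomorphisms (helper7)

`Q f` says that the ring map `f` is a local complete intersection (`LCI.IsLCI`).  It is stable
under composition, holds for localizations at an element, is local on the target and the source
(`Q_propertyIsLocal`).  Also: surjections with Koszul-regular kernel (`isLCI_of_surjective`,
`isKoszulRegularIdeal_ker_of_isLCI`).
-/

set_option autoImplicit false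

namespace Groth.Agent.Lib.T2H7.KRegN
open Groth.Agent.Lib.T2H7.KRegK Groth.Agent.Lib.T2H7.KRegL Groth.Agent.Lib.T2H7.KRegM

universe u

/-- the ring hom property "local complete intersection" -/
def Q {R S : Type u} [CommRing R] [CommRing S] (f : R →+* S) : Prop :=
  @LCI.IsLCI R _ S _ f.toAlgebra

theorem Q_algebraMap_iff {R S : Type u} [CommRing R] [CommRing S] [Algebra R S] :
    Q (algebraMap R S) ↔ LCI.IsLCI R S := by
  unfold Q
  rw [toAlgebra_algebraMap]

theorem Q_comp : RingHom.StableUnderComposition Q := by
  intro R S T _ _ _ f g hf hg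
  let _ := f.toAlgebra
  let _ := g.toAlgebra
  let _ := (g.comp f).toAlgebra
  have : IsScalarTower R S T := IsScalarTower.of_algebraMap_eq' rfl
  exact isLCI_comp (R := R) (S := S) (T := T) hf hg

theorem Q_holdsForLocalizationAway : RingHom.HoldsForLocalizationAway Q := by
  intro R S _ _ _ r _
  rw [Q_algebraMap_iff]
  have := Algebra.IsStandardSmooth.localization_away (R := R) (S := S) r
  exact isLCI_of_isStandardSmooth

theorem Q_ofLocalizationSpanTarget : RingHom.OfLocalizationSpanTarget Q := by
  rw [RingHom.ofLocalizationSpanTarget_iff_finite]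
  intro R S _ _ f s hs h
  let _ := f.toAlgebra
  obtain ⟨m, ⟨e⟩⟩ : ∃ m, Nonempty (↥s ≃ Fin m) := ⟨_, ⟨s.equivFin⟩⟩
  let g : Fin m → S := fun j => (e.symm j : S)
  have hg : Ideal.span (Set.range g) = ⊤ := by
    have : Set.range g = (s : Set S) := by
      ext x
      constructor
      · rintro ⟨j, rfl⟩
        exact (e.symm j).2
      · intro hx
        exact ⟨e ⟨x, hx⟩, by simp [g]⟩
    rw [this]
    exact hs
  refine Groth.Agent.S9253.result R S m g hg (fun j => ?_)
  have h1 := h (e.symm j)
  unfold Q at h1
  convert h1 using 1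
  apply Algebra.algebra_ext
  intro x
  rfl

theorem Q_localizationAwayPreserves : RingHom.LocalizationAwayPreserves Q := by
  intro R S _ _ f r R' S' _ _ _ _ _ _ hf
  let _ := f.toAlgebra
  let _ := (IsLocalization.Away.map R' S' f r).toAlgebra
  let _ := ((algebraMap S S').comp f).toAlgebra
  have t1 : IsScalarTower R S S' := IsScalarTower.of_algebraMap_eq' rfl
  have t2 : IsScalarTower R R' S' := IsScalarTower.of_algebraMap_eq' (by
    show (algebraMap S S').comp f = (IsLocalization.Away.map R' S' f r).comp (algebraMap R R')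
    exact (IsLocalization.map_comp _).symm)
  have h1 : LCI.IsLCI S S' := Q_algebraMap_iff.mp (Q_holdsForLocalizationAway S' (f r))
  have h2 : LCI.IsLCI R S' := isLCI_comp (R := R) (S := S) (T := S') hf h1
  exact isLCI_of_isLocalization (R := R) (R' := R') (T := S') (Submonoid.powers r) h2

theorem Q_stableUnderCompositionWithLocalizationAway :
    RingHom.StableUnderCompositionWithLocalizationAway Q :=
  Q_comp.stableUnderCompositionWithLocalizationAway Q_holdsForLocalizationAway

theorem Q_propertyIsLocal : RingHom.PropertyIsLocal Q where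
  localizationAwayPreserves := Q_localizationAwayPreserves
  ofLocalizationSpanTarget := Q_ofLocalizationSpanTarget
  ofLocalizationSpan := Q_ofLocalizationSpanTarget.ofLocalizationSpan
    Q_stableUnderCompositionWithLocalizationAway.left
  StableUnderCompositionWithLocalizationAwayTarget :=
    Q_stableUnderCompositionWithLocalizationAway.right

theorem Q_respectsIso : RingHom.RespectsIso Q := Q_propertyIsLocal.respectsIso

section Surj
variable {A B : Type u} [CommRing A] [CommRing B] [Algebra A B]

/-- the structure map of an algebra as an algebra map from the polynomial ring in no variables -/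
noncomputable def pres0 : MvPolynomial (Fin 0) A →ₐ[A] B := MvPolynomial.aeval Fin.elim0

lemma pres0_apply (p : MvPolynomial (Fin 0) A) :
    pres0 (B := B) p = algebraMap A B (MvPolynomial.isEmptyRingEquiv A (Fin 0) p) := by
  obtain ⟨a, rfl⟩ : ∃ a, p = MvPolynomial.C a := by
    refine ⟨MvPolynomial.isEmptyRingEquiv A (Fin 0) p, ?_⟩
    rw [← MvPolynomial.isEmptyRingEquiv_symm_apply (R := A) (σ := Fin 0),
      RingEquiv.symm_apply_apply]
  unfold pres0
  rw [MvPolynomial.aeval_C]
  congr 1
  rw [← MvPolynomial.isEmptyRingEquiv_symm_apply (R := A) (σ := Fin 0),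
    RingEquiv.apply_symm_apply]

lemma ker_pres0 : RingHom.ker (pres0 (A := A) (B := B)).toRingHom =
    (RingHom.ker (algebraMap A B)).comap (MvPolynomial.isEmptyRingEquiv A (Fin 0) : _ →+* A) := by
  ext p
  rw [RingHom.mem_ker, Ideal.mem_comap, RingHom.mem_ker]
  show pres0 (B := B) p = 0 ↔ _
  rw [pres0_apply]
  rfl

/-- a surjection with Koszul-regular kernel is a local complete intersection -/
theorem isLCI_of_surjective (hs : Function.Surjective (algebraMap A B))
    (h : LCI.IsKoszulRegularIdeal (RingHom.ker (algebraMap A B))) : LCI.IsLCI A B := by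
  have hs' : Function.Surjective (pres0 (A := A) (B := B)) := by
    intro b
    obtain ⟨a, rfl⟩ := hs b
    exact ⟨MvPolynomial.C a, by unfold pres0; rw [MvPolynomial.aeval_C]⟩
  refine ⟨Algebra.FiniteType.of_surjective (pres0 (A := A) (B := B)) hs', 0, pres0, hs', ?_⟩
  rw [ker_pres0]
  exact Groth.Agent.Lib.T2H7.KRegI.isKoszulRegularIdeal_comap_of_bijective _
    (MvPolynomial.isEmptyRingEquiv A (Fin 0)).bijective _ h

/-- the kernel of a surjective local complete intersection map is Koszul-regular -/
theorem isKoszulRegularIdeal_ker_of_isLCI (hs : Function.Surjective (algebraMap A B))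
    (h : LCI.IsLCI A B) : LCI.IsKoszulRegularIdeal (RingHom.ker (algebraMap A B)) := by
  obtain ⟨ft, n, φ, hφ, hI⟩ := h
  have hs' : Function.Surjective (pres0 (A := A) (B := B)) := by
    intro b
    obtain ⟨a, rfl⟩ := hs b
    exact ⟨MvPolynomial.C a, by unfold pres0; rw [MvPolynomial.aeval_C]⟩
  have h0 := Groth.Agent.S9269.result A B n 0 φ hφ pres0 hs' hI
  rw [ker_pres0] at h0
  have h1 := Groth.Agent.Lib.T2H7.KRegI.isKoszulRegularIdeal_comap_of_bijective
    ((MvPolynomial.isEmptyRingEquiv A (Fin 0)).symm : A →+* MvPolynomial (Fin 0) A)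
    (MvPolynomial.isEmptyRingEquiv A (Fin 0)).symm.bijective _ h0
  rw [Ideal.comap_comap] at h1
  convert h1 using 1
  have : ((MvPolynomial.isEmptyRingEquiv A (Fin 0) : _ →+* A).comp
      ((MvPolynomial.isEmptyRingEquiv A (Fin 0)).symm : A →+* MvPolynomial (Fin 0) A)) =
        RingHom.id A := by
    ext a
    simp
  rw [this, Ideal.comap_id]

end Surj

end Groth.Agent.Lib.T2H7.KRegN
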