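import Mathlib
import Groth.Agent.Lib.T2H7KRegN
import Groth.Agent.Lib.T2H7KRegJ
import Groth.Agent.Lib.T2H7KRegC
import Groth.Agent.Lib.T2H7KRegD

/-!
# Cancelling a smooth map from a local complete intersection (helper7)

* `pres_data`: the relations of a submersive presentation form a Koszul-regular sequence.
* `isKoszulRegularIdeal_ker_section`: the kernel of a section of a standard smooth algebra is a
  Koszul-regular ideal.
* `isLCI_of_isPushout_flat`: flat base change of local complete intersection algebras.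
* `Q_of_comp_isStandardSmooth`: if `f` is standard smooth and `g ∘ f` is a local complete
  intersection then so is `g`.
-/

set_option autoImplicit false

namespace Groth.Agent.Lib.T2H7.KRegO
open MvPolynomial
open Groth.Agent.Lib.T2H7.KRegK Groth.Agent.Lib.T2H7.KRegL Groth.Agent.Lib.T2H7.KRegM
open Groth.Agent.Lib.T2H7.KRegN Groth.Agent.Lib.T2H7.KRegJ
open scoped TensorProduct

universe u

section Rel
variable {A B : Type u} [CommRing A] [CommRing B] [Algebra A B]

/-- data extracted from a submersive presentation -/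
theorem pres_data {n c : ℕ} (Pres : Algebra.SubmersivePresentation A B (Fin n) (Fin c)) :
    Function.Surjective (algebraMap Pres.Ring B) ∧
    RingHom.ker (algebraMap Pres.Ring B) = Ideal.ofList (List.ofFn Pres.relation) ∧
    LCI.IsKoszulRegularSeq (MvPolynomial (Fin n) A) (List.ofFn Pres.relation) ∧
    IsUnit (algebraMap Pres.Ring B
      (Matrix.of fun j i => pderiv (Pres.map i) (Pres.relation j)).det) := by
  classical
  have hsurj := Pres.algebraMap_surjective
  have hker : RingHom.ker (algebraMap Pres.Ring B) = Ideal.span (Set.range Pres.relation) :=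
    Pres.span_range_relation_eq_ker.symm
  have h2 : Pres.jacobiMatrix = Matrix.of fun i j => pderiv (Pres.map i) (Pres.relation j) := by
    ext i j
    rw [Pres.jacobiMatrix_apply]
    rfl
  have hunit : IsUnit (algebraMap Pres.Ring B
      (Matrix.of fun i j => pderiv (Pres.map i) (Pres.relation j)).det) := by
    have h1 := Pres.jacobian_isUnit
    rw [Pres.jacobian_eq_jacobiMatrix_det, h2] at h1
    exact h1
  let e : (MvPolynomial (Fin n) A ⧸ RingHom.ker (algebraMap Pres.Ring B)) ≃+* B :=
    RingHom.quotientKerEquivOfSurjective (f := algebraMap Pres.Ring B) hsurj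
  have hdet : IsUnit (Ideal.Quotient.mk (RingHom.ker (algebraMap Pres.Ring B))
      (Matrix.of fun i j => pderiv (Pres.map i) (Pres.relation j)).det) := by
    have h3 := hunit.map e.symm
    convert h3 using 1
    rw [RingEquiv.eq_symm_apply]
    rfl
  rw [hker] at hdet
  have hrel := isRelGCI_of_jacobian Pres.relation Pres.map hdet
  have hseq := isKoszulRegularSeq_of_isRelGCI Pres.relation hrel
  refine ⟨hsurj, ?_, hseq, ?_⟩
  · rw [hker, Groth.Agent.Lib.T2H7.SyntC.ofList_ofFn]
  · have : (Matrix.of fun j i => pderiv (Pres.map i) (Pres.relation j)) =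
        (Matrix.of fun i j => pderiv (Pres.map i) (Pres.relation j)).transpose := by
      ext j i
      rfl
    rw [this, Matrix.det_transpose]
    exact hunit

end Rel

section Section
variable {C D : Type u} [CommRing C] [CommRing D] [Algebra C D]

open Groth.Agent.Lib.T2H7.KRegC in
/-- the kernel of evaluation at a point of a polynomial ring is a Koszul-regular ideal -/
theorem isKoszulRegularIdeal_ker_aeval {n : ℕ} (c : Fin n → C) :
    LCI.IsKoszulRegularIdeal (RingHom.ker (MvPolynomial.aeval c :
      MvPolynomial (Fin n) C →ₐ[C] C).toRingHom) := by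
  let a : Fin 0 → Fin n := Fin.elim0
  let b : Fin n → Fin n := id
  let v : Fin n → MvPolynomial (Fin 0) C := fun j => MvPolynomial.C (c j)
  have hva : ∀ i, v (a i) = X i := fun i => i.elim0
  have hcov : ∀ s, (∃ i, a i = s) ∨ (∃ j, b j = s) := fun s => Or.inr ⟨s, rfl⟩
  have hab : ∀ i j, a i ≠ b j := fun i => i.elim0
  have hb : Function.Injective b := Function.injective_id
  have h1 := ker_ret (A := C) (a := a) (b := b) (v := v) hva hcov
  have h2 := isKoszulRegularSeq_wv (A := C) (a := a) (b := b) (v := v) hab hb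
  have h3 : (MvPolynomial.aeval c : MvPolynomial (Fin n) C →ₐ[C] C) =
      (MvPolynomial.isEmptyAlgEquiv C (Fin 0)).toAlgHom.comp (ret C v) := by
    apply MvPolynomial.algHom_ext
    intro j
    unfold ret
    rw [AlgHom.comp_apply, aeval_X, aeval_X]
    show c j = MvPolynomial.isEmptyAlgEquiv C (Fin 0) (MvPolynomial.C (c j))
    rw [← MvPolynomial.isEmptyAlgEquiv_symm_apply (R := C) (σ := Fin 0), AlgEquiv.apply_symm_apply]
  have h4 : RingHom.ker (MvPolynomial.aeval c : MvPolynomial (Fin n) C →ₐ[C] C).toRingHom =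
      RingHom.ker (ret C v).toRingHom := by
    rw [h3]
    ext p
    rw [RingHom.mem_ker, RingHom.mem_ker]
    show (MvPolynomial.isEmptyAlgEquiv C (Fin 0)) (ret C v p) = 0 ↔ ret C v p = 0
    exact (MvPolynomial.isEmptyAlgEquiv C (Fin 0)).map_eq_zero_iff
  rw [h4, h1]
  exact isKoszulRegularIdeal_ofList _ h2

/-- the kernel of a section of an algebra with a submersive presentation is Koszul-regular -/
theorem isKoszulRegularIdeal_ker_section {n c : ℕ}
    (Pres : Algebra.SubmersivePresentation C D (Fin n) (Fin c)) (σ : D →ₐ[C] C) :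
    LCI.IsKoszulRegularIdeal (RingHom.ker σ.toRingHom) := by
  classical
  obtain ⟨hsurj, hker, hseq, hunit⟩ := pres_data Pres
  let π : MvPolynomial (Fin n) C →+* D := algebraMap Pres.Ring D
  refine Groth.Agent.Lib.T2H7.KRegD.isKoszulRegularIdeal_of_comap π hsurj Pres.relation hker hseq
    (fun i => (pderiv (Pres.map i) : Derivation C (MvPolynomial (Fin n) C) (MvPolynomial (Fin n) C)))
    (RingHom.ker σ.toRingHom) ?_ ?_
  · intro 𝔔 h𝔔 hle hmem
    obtain ⟨u, hu⟩ := hunit.exists_right_inv
    obtain ⟨u', rfl⟩ := hsurj u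
    set Δ := (Matrix.of fun j i => pderiv (Pres.map i) (Pres.relation j)).det with hΔ
    have h1 : Δ * u' - 1 ∈ RingHom.ker π := by
      rw [RingHom.mem_ker, map_sub, map_mul, map_one]
      show algebraMap Pres.Ring D Δ * algebraMap Pres.Ring D u' - 1 = 0
      rw [hu, sub_self]
    have h2 : RingHom.ker π ≤ 𝔔 := by
      refine le_trans ?_ hle
      intro x hx
      rw [Ideal.mem_comap, (RingHom.mem_ker).mp hx]
      exact Ideal.zero_mem _
    have h3 : (1 : MvPolynomial (Fin n) C) ∈ 𝔔 := by
      have : (1 : MvPolynomial (Fin n) C) = Δ * u' - (Δ * u' - 1) := by ring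
      rw [this]
      exact 𝔔.sub_mem (𝔔.mul_mem_right _ hmem) (h2 h1)
    exact h𝔔.ne_top (Ideal.eq_top_of_isUnit_mem _ h3 isUnit_one)
  · have h5 : (RingHom.ker σ.toRingHom).comap π =
        RingHom.ker (MvPolynomial.aeval (fun j => σ (Pres.val j)) :
          MvPolynomial (Fin n) C →ₐ[C] C).toRingHom := by
      have h6 : (MvPolynomial.aeval (fun j => σ (Pres.val j)) : MvPolynomial (Fin n) C →ₐ[C] C) =
          σ.comp (MvPolynomial.aeval Pres.val) := by
        apply MvPolynomial.algHom_ext
        intro j
        rw [AlgHom.comp_apply, aeval_X, aeval_X]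
      ext p
      rw [Ideal.mem_comap, RingHom.mem_ker, RingHom.mem_ker, h6]
      show σ (algebraMap Pres.Ring D p) = 0 ↔ σ (MvPolynomial.aeval Pres.val p) = 0
      rw [Pres.algebraMap_apply]
    rw [h5]
    exact isKoszulRegularIdeal_ker_aeval _

end Section

section BaseChange
variable {R R' C C' : Type u} [CommRing R] [CommRing R'] [CommRing C] [CommRing C']
  [Algebra R R'] [Algebra R C] [Algebra R' C'] [Algebra C C'] [Algebra R C']
  [IsScalarTower R R' C'] [IsScalarTower R C C']

attribute [local instance] MvPolynomial.algebraMvPolynomial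

/-- flat base change of local complete intersection algebras -/
theorem isLCI_of_isPushout_flat [Algebra.IsPushout R R' C C'] [Module.Flat R R']
    (h : LCI.IsLCI R C) : LCI.IsLCI R' C' := by
  obtain ⟨-, n, φ, hφ, hI⟩ := h
  let ε : R' ⊗[R] C ≃ₐ[R'] C' := Algebra.IsPushout.equiv R R' C C'
  let β : MvPolynomial (Fin n) R' →ₐ[R'] C' := ε.toAlgHom.comp (βT R R' n φ)
  have hβ : Function.Surjective β := ε.surjective.comp (βT_surjective R R' n hφ)
  have hkerβ : RingHom.ker β.toRingHom =
      (RingHom.ker φ.toRingHom).map (MvPolynomial.map (algebraMap R R')) := by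
    rw [← ker_βT R R' n hφ]
    ext x
    rw [RingHom.mem_ker, RingHom.mem_ker]
    show ε (βT R R' n φ x) = 0 ↔ βT R R' n φ x = 0
    exact ε.map_eq_zero_iff
  have hflat : Module.Flat (MvPolynomial (Fin n) R) (MvPolynomial (Fin n) R') :=
    flat_mvPolynomial n
  refine ⟨Algebra.FiniteType.of_surjective β hβ, n, β, hβ, ?_⟩
  rw [hkerβ]
  exact isKoszulRegularIdeal_map_of_flat _ hI

end BaseChange

section Cancel

attribute [local instance] Algebra.TensorProduct.rightAlgebra

/-- if `f : A → B` is standard smooth and `g ∘ f` is a local complete intersection, then so is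
`g : B → C` -/
theorem Q_of_comp_isStandardSmooth {A B C : Type u} [CommRing A] [CommRing B] [CommRing C]
    (f : A →+* B) (g : B →+* C) (hf : f.IsStandardSmooth) (h : Q (g.comp f)) : Q g := by
  classical
  let _ := f.toAlgebra
  let _ := (g.comp f).toAlgebra
  have hstd : Algebra.IsStandardSmooth A B := hf
  have hflat : Module.Flat A B := inferInstance
  have hD : LCI.IsLCI B (C ⊗[A] B) :=
    isLCI_of_isPushout_flat (R := A) (R' := B) (C := C) (C' := C ⊗[A] B) h
  have hD' : Q (algebraMap B (C ⊗[A] B)) := Q_algebraMap_iff.mpr hD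
  let gA : B →ₐ[A] C := { g with commutes' := fun a => rfl }
  let σ : C ⊗[A] B →ₐ[C] C := Algebra.TensorProduct.lift (AlgHom.id C C) gA
    (fun _ _ => Commute.all _ _)
  have hstdD : Algebra.IsStandardSmooth C (C ⊗[A] B) := inferInstance
  obtain ⟨ι, τ, hτ, hι, ⟨Pres⟩⟩ := hstdD.out
  let _ := Fintype.ofFinite ι
  let _ := Fintype.ofFinite τ
  have hσker := isKoszulRegularIdeal_ker_section
    (Pres.reindex (Fintype.equivFin ι).symm (Fintype.equivFin τ).symm) σ
  have hσsurj : Function.Surjective σ := fun x => ⟨x ⊗ₜ 1, by simp [σ]⟩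
  have hσQ : Q σ.toRingHom :=
    @isLCI_of_surjective (C ⊗[A] B) C _ _ σ.toRingHom.toAlgebra hσsurj hσker
  have hcomp := Q_comp _ _ hD' hσQ
  have hg : σ.toRingHom.comp (algebraMap B (C ⊗[A] B)) = g := by
    ext b
    show σ (1 ⊗ₜ b) = g b
    simp [σ, gA]
  rw [hg] at hcomp
  exact hcomp

end Cancel

end Groth.Agent.Lib.T2H7.KRegO
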