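import Mathlib

set_option autoImplicit false

universe u

namespace Groth.Agent.Lib.T2H7.Kempf

open scoped RealInnerProductSpace

section MinFun

variable {E : Type*} [AddCommGroup E] [Module ℝ E]

/-- The minimum of a nonempty finite set of linear functionals. -/
noncomputable abbrev mn (S : Finset (Module.Dual ℝ E)) (hS : S.Nonempty) (v : E) : ℝ :=
  S.inf' hS (fun f => f v)

variable (S : Finset (Module.Dual ℝ E)) (hS : S.Nonempty)

theorem mn_le {f : Module.Dual ℝ E} (hf : f ∈ S) (v : E) : mn S hS v ≤ f v :=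
  Finset.inf'_le (fun f => f v) hf

theorem le_mn_iff (a : ℝ) (v : E) : a ≤ mn S hS v ↔ ∀ f ∈ S, a ≤ f v :=
  Finset.le_inf'_iff hS _

theorem exists_mn_eq (v : E) : ∃ f ∈ S, mn S hS v = f v :=
  Finset.exists_mem_eq_inf' hS _

theorem mn_zero : mn S hS 0 = 0 := by
  obtain ⟨f, hf, h⟩ := exists_mn_eq S hS (0 : E)
  rw [h, map_zero]

theorem mn_smul {t : ℝ} (ht : 0 ≤ t) (v : E) : mn S hS (t • v) = t * mn S hS v := by
  apply le_antisymm
  · obtain ⟨f, hf, h⟩ := exists_mn_eq S hS v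
    rw [h]
    calc mn S hS (t • v) ≤ f (t • v) := mn_le S hS hf _
      _ = t * f v := by rw [map_smul, smul_eq_mul]
  · rw [le_mn_iff]
    intro f hf
    rw [map_smul, smul_eq_mul]
    exact mul_le_mul_of_nonneg_left (mn_le S hS hf v) ht

theorem mn_add_le (v w : E) : mn S hS v + mn S hS w ≤ mn S hS (v + w) := by
  rw [le_mn_iff]
  intro f hf
  rw [map_add]
  exact add_le_add (mn_le S hS hf v) (mn_le S hS hf w)

end MinFun

section Rational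

/-- A `ℚ`-linear retraction of `ℚ ⊆ ℝ`. -/
theorem exists_ratProj : ∃ π : ℝ →ₗ[ℚ] ℚ, ∀ q : ℚ, π (q : ℝ) = q := by
  obtain ⟨g, hg⟩ := LinearMap.exists_leftInverse_of_injective (Algebra.linearMap ℚ ℝ)
    (LinearMap.ker_eq_bot.mpr (algebraMap ℚ ℝ).injective)
  refine ⟨g, fun q => ?_⟩
  have := DFunLike.congr_fun hg q
  simpa using this

variable {E : Type*} [NormedAddCommGroup E] [InnerProductSpace ℝ E]

/-- A vector in the real span of a family with rational Gram matrix, having rational inner products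
with the family, is a rational combination of the family. -/
theorem exists_rat_coeffs {ι : Type*} [Fintype ι] (w : ι → E)
    (hw : ∀ i j, ∃ q : ℚ, ⟪w i, w j⟫ = (q : ℝ)) (v : E)
    (hv : v ∈ Submodule.span ℝ (Set.range w)) (hvw : ∀ j, ∃ q : ℚ, ⟪v, w j⟫ = (q : ℝ)) :
    ∃ c : ι → ℚ, v = ∑ i, (c i : ℝ) • w i := by
  classical
  obtain ⟨π, hπ⟩ := exists_ratProj
  obtain ⟨t, ht⟩ := (Submodule.mem_span_range_iff_exists_fun ℝ).mp hv
  choose Q hQ using hw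
  choose qv hqv using hvw
  refine ⟨fun i => π (t i), ?_⟩
  have h1 : ∀ j, ⟪∑ i, ((π (t i) : ℚ) : ℝ) • w i, w j⟫ = ⟪v, w j⟫ := by
    intro j
    rw [sum_inner]
    simp_rw [real_inner_smul_left, hQ]
    have h2 : (∑ i, ((π (t i) : ℚ) : ℝ) * (Q i j : ℝ)) = ((∑ i, π (t i) * Q i j : ℚ) : ℝ) := by
      push_cast
      rfl
    have h3 : (∑ i, π (t i) * Q i j : ℚ) = π (∑ i, t i * (Q i j : ℝ)) := by
      rw [map_sum]
      refine Finset.sum_congr rfl fun i _ => ?_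
      have h : t i * (Q i j : ℝ) = (Q i j) • t i := by rw [Rat.smul_def, mul_comm]
      rw [h, map_smul, smul_eq_mul, mul_comm]
    have h4 : ∑ i, t i * (Q i j : ℝ) = (qv j : ℝ) := by
      rw [← hqv j, ← ht, sum_inner]
      simp_rw [real_inner_smul_left, hQ]
    rw [h2, h3, h4, hπ, hqv j]
  have h5 : v - ∑ i, ((π (t i) : ℚ) : ℝ) • w i ∈ Submodule.span ℝ (Set.range w) :=
    Submodule.sub_mem _ hv (Submodule.sum_mem _ fun i _ =>
      Submodule.smul_mem _ _ (Submodule.subset_span ⟨i, rfl⟩))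
  have h6 : ∀ x ∈ Submodule.span ℝ (Set.range w),
      ⟪v - ∑ i, ((π (t i) : ℚ) : ℝ) • w i, x⟫ = 0 := by
    intro x hx
    induction hx using Submodule.span_induction with
    | mem x hx =>
      obtain ⟨j, rfl⟩ := hx
      rw [inner_sub_left, h1 j, sub_self]
    | zero => exact inner_zero_right _
    | add x y _ _ hx hy => rw [inner_add_right, hx, hy, add_zero]
    | smul a x _ hx => rw [real_inner_smul_right, hx, mul_zero]
  have h7 := h6 _ h5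
  rw [inner_self_eq_zero, sub_eq_zero] at h7
  exact h7

theorem exists_common_denominator {ι : Type*} [Fintype ι] (c : ι → ℚ) :
    ∃ N : ℕ, 0 < N ∧ ∀ j, ∃ z : ℤ, (N : ℚ) * c j = z := by
  classical
  refine ⟨∏ j, (c j).den, Finset.prod_pos fun j _ => (c j).den_pos, fun j => ?_⟩
  refine ⟨(∏ i ∈ Finset.univ.erase j, ((c i).den : ℤ)) * (c j).num, ?_⟩
  rw [← Finset.mul_prod_erase Finset.univ _ (Finset.mem_univ j)]
  push_cast
  have h := Rat.mul_den_eq_num (c j)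
  calc ((c j).den : ℚ) * (∏ i ∈ Finset.univ.erase j, ((c i).den : ℚ)) * c j
      = (∏ i ∈ Finset.univ.erase j, ((c i).den : ℚ)) * (c j * (c j).den) := by ring
    _ = (∏ i ∈ Finset.univ.erase j, ((c i).den : ℚ)) * (c j).num := by rw [h]

end Rational

section Optim

variable {E : Type*} [NormedAddCommGroup E] [InnerProductSpace ℝ E] [FiniteDimensional ℝ E]

theorem continuous_mn (S : Finset (Module.Dual ℝ E)) (hS : S.Nonempty) :
    Continuous (fun v : E => mn S hS v) :=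
  Continuous.finset_inf'_apply hS fun f _ => LinearMap.continuous_of_finiteDimensional f

variable (F G : Finset (Module.Dual ℝ E)) (hF : F.Nonempty) (hG : G.Nonempty)

omit [FiniteDimensional ℝ E] in
theorem mn_normalize (S : Finset (Module.Dual ℝ E)) (hS : S.Nonempty) (v : E) :
    mn S hS (‖v‖⁻¹ • v) = mn S hS v / ‖v‖ := by
  rw [mn_smul S hS (inv_nonneg.mpr (norm_nonneg v)), div_eq_inv_mul]

theorem exists_unit_maximizer (hpos : ∃ v : E, 0 ≤ mn F hF v ∧ 0 < mn G hG v) :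
    ∃ u₀ : E, ‖u₀‖ = 1 ∧ 0 ≤ mn F hF u₀ ∧ 0 < mn G hG u₀ ∧
      (∀ v : E, v ≠ 0 → 0 ≤ mn F hF v → mn G hG v / ‖v‖ ≤ mn G hG u₀) ∧
      (∀ v : E, v ≠ 0 → 0 ≤ mn F hF v → mn G hG v / ‖v‖ = mn G hG u₀ → v = ‖v‖ • u₀) := by
  have hK : IsCompact (Metric.sphere (0 : E) 1 ∩ {v | 0 ≤ mn F hF v}) :=
    (isCompact_sphere 0 1).inter_right (isClosed_le continuous_const (continuous_mn F hF))
  have hnorm : ∀ v : E, v ≠ 0 → 0 ≤ mn F hF v →
      ‖v‖⁻¹ • v ∈ Metric.sphere (0 : E) 1 ∩ {v | 0 ≤ mn F hF v} := by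
    intro v hv hFv
    constructor
    · rw [mem_sphere_zero_iff_norm, norm_smul, norm_inv, norm_norm,
        inv_mul_cancel₀ (norm_ne_zero_iff.mpr hv)]
    · change 0 ≤ mn F hF (‖v‖⁻¹ • v)
      rw [mn_normalize]
      exact div_nonneg hFv (norm_nonneg v)
  obtain ⟨v₁, hFv₁, hGv₁⟩ := hpos
  have hv₁ : v₁ ≠ 0 := by
    rintro rfl
    rw [mn_zero] at hGv₁
    exact lt_irrefl _ hGv₁
  obtain ⟨u₀, hu₀K, hmax⟩ := hK.exists_isMaxOn ⟨_, hnorm v₁ hv₁ hFv₁⟩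
    (continuous_mn G hG).continuousOn
  have hu₀n : ‖u₀‖ = 1 := mem_sphere_zero_iff_norm.mp hu₀K.1
  have hle : ∀ v : E, v ≠ 0 → 0 ≤ mn F hF v → mn G hG v / ‖v‖ ≤ mn G hG u₀ := by
    intro v hv hFv
    rw [← mn_normalize]
    exact hmax (hnorm v hv hFv)
  have hMpos : 0 < mn G hG u₀ :=
    lt_of_lt_of_le (div_pos hGv₁ (norm_pos_iff.mpr hv₁)) (hle v₁ hv₁ hFv₁)
  refine ⟨u₀, hu₀n, hu₀K.2, hMpos, hle, ?_⟩
  intro v hv hFv hvM
  have hu := hnorm v hv hFv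
  have hun : ‖‖v‖⁻¹ • v‖ = 1 := mem_sphere_zero_iff_norm.mp hu.1
  have huM : mn G hG (‖v‖⁻¹ • v) = mn G hG u₀ := by rw [mn_normalize, hvM]
  have key : ‖v‖⁻¹ • v = u₀ := by
    by_contra hne
    have hray : ¬ SameRay ℝ (‖v‖⁻¹ • v) u₀ := by
      rw [sameRay_iff_of_norm_eq (hun.trans hu₀n.symm)]
      exact hne
    have hlt : ‖‖v‖⁻¹ • v + u₀‖ < 2 := by
      have := norm_add_lt_of_not_sameRay hray
      rw [hun, hu₀n] at this
      linarith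
    have hGw : 2 * mn G hG u₀ ≤ mn G hG (‖v‖⁻¹ • v + u₀) := by
      have := mn_add_le G hG (‖v‖⁻¹ • v) u₀
      rw [huM] at this
      linarith
    have hFw : 0 ≤ mn F hF (‖v‖⁻¹ • v + u₀) :=
      le_trans (add_nonneg hu.2 hu₀K.2) (mn_add_le F hF _ _)
    have hw : ‖v‖⁻¹ • v + u₀ ≠ 0 := by
      intro h0
      rw [h0, mn_zero] at hGw
      linarith
    have h1 := hle _ hw hFw
    rw [div_le_iff₀ (norm_pos_iff.mpr hw)] at h1
    nlinarith [norm_nonneg (‖v‖⁻¹ • v + u₀)]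
  rw [← key, smul_smul, mul_inv_cancel₀ (norm_ne_zero_iff.mpr hv), one_smul]

end Optim

section Active

variable {E : Type*} [NormedAddCommGroup E] [InnerProductSpace ℝ E]

/-- First-order optimality: the minimal-norm point of a polyhedron is orthogonal to the directions
killed by all active constraints. -/
theorem inner_eq_zero_of_active (T : Finset (Module.Dual ℝ E × ℝ)) (v : E)
    (hfeas : ∀ p ∈ T, p.2 ≤ p.1 v)
    (hmin : ∀ v' : E, (∀ p ∈ T, p.2 ≤ p.1 v') → ‖v‖ ≤ ‖v'‖)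
    (d : E) (hd : ∀ p ∈ T, p.1 v = p.2 → p.1 d = 0) : ⟪v, d⟫ = 0 := by
  have hev : ∀ᶠ t : ℝ in nhds 0, ∀ p ∈ T, p.2 ≤ p.1 (v + t • d) := by
    rw [Filter.eventually_all_finset]
    intro p hp
    by_cases hact : p.1 v = p.2
    · filter_upwards with t
      rw [map_add, map_smul, hd p hp hact, smul_zero, add_zero, hact]
    · have hlt : p.2 < p.1 v := lt_of_le_of_ne (hfeas p hp) (Ne.symm hact)
      have hcont : Continuous fun t : ℝ => p.1 (v + t • d) := by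
        have h : (fun t : ℝ => p.1 (v + t • d)) = fun t => p.1 v + t * p.1 d := by
          ext t
          simp
        rw [h]
        fun_prop
      have h0 : p.2 < (fun t : ℝ => p.1 (v + t • d)) 0 := by simpa using hlt
      exact (hcont.continuousAt.eventually (lt_mem_nhds h0)).mono fun t ht => le_of_lt ht
  have hmin' : IsLocalMin (fun t : ℝ => ‖v + t • d‖ ^ 2) 0 := by
    filter_upwards [hev] with t ht
    simp only [zero_smul, add_zero]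
    exact pow_le_pow_left₀ (norm_nonneg _) (hmin _ ht) 2
  have hderiv : HasDerivAt (fun t : ℝ => ‖v + t • d‖ ^ 2) (2 * ⟪v + (0 : ℝ) • d, d⟫) 0 := by
    have h1 : HasDerivAt (fun t : ℝ => v + t • d) d 0 := by
      simpa using ((hasDerivAt_id (0 : ℝ)).smul_const d).const_add v
    exact h1.norm_sq
  have h2 := hmin'.hasDerivAt_eq_zero hderiv
  simpa using h2

variable [CompleteSpace E]

/-- The Riesz vector of a linear functional. -/
noncomputable def riesz [FiniteDimensional ℝ E] (ℓ : Module.Dual ℝ E) : E :=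
  (InnerProductSpace.toDual ℝ E).symm (LinearMap.toContinuousLinearMap ℓ)

theorem inner_riesz [FiniteDimensional ℝ E] (ℓ : Module.Dual ℝ E) (x : E) :
    ⟪riesz ℓ, x⟫ = ℓ x := by
  unfold riesz
  rw [InnerProductSpace.toDual_symm_apply]
  rfl

theorem mem_span_riesz [FiniteDimensional ℝ E] (T T₀ : Finset (Module.Dual ℝ E × ℝ)) (v : E)
    (hT₀ : ∀ p, p ∈ T₀ ↔ p ∈ T ∧ p.1 v = p.2)
    (hfeas : ∀ p ∈ T, p.2 ≤ p.1 v)
    (hmin : ∀ v' : E, (∀ p ∈ T, p.2 ≤ p.1 v') → ‖v‖ ≤ ‖v'‖) :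
    v ∈ Submodule.span ℝ (Set.range fun p : T₀ => riesz p.1.1) := by
  rw [← Submodule.orthogonal_orthogonal (Submodule.span ℝ
    (Set.range fun p : T₀ => riesz p.1.1)), Submodule.mem_orthogonal]
  intro d hd
  rw [real_inner_comm]
  apply inner_eq_zero_of_active T v hfeas hmin d
  intro p hp hact
  have h := (Submodule.mem_orthogonal _ d).mp hd (riesz p.1)
    (Submodule.subset_span ⟨⟨p, (hT₀ p).mpr ⟨hp, hact⟩⟩, rfl⟩)
  rwa [inner_riesz] at h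

end Active

section Lattice

variable {E : Type*} [NormedAddCommGroup E] [InnerProductSpace ℝ E] [FiniteDimensional ℝ E]
  [CompleteSpace E]

omit [FiniteDimensional ℝ E] [CompleteSpace E] in
/-- Rational combinations of a family are closed under rational combinations. -/
theorem ratComb_sum {ι κ : Type*} [Fintype ι] [Fintype κ] (w : ι → E) (r : κ → E)
    (hr : ∀ k, ∃ c : ι → ℚ, r k = ∑ i, (c i : ℝ) • w i) (a : κ → ℚ) :
    ∃ c : ι → ℚ, ∑ k, (a k : ℝ) • r k = ∑ i, (c i : ℝ) • w i := by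
  choose C hC using hr
  refine ⟨fun i => ∑ k, a k * C k i, ?_⟩
  simp_rw [hC, Finset.smul_sum, smul_smul]
  rw [Finset.sum_comm]
  refine Finset.sum_congr rfl fun i _ => ?_
  rw [← Finset.sum_smul]
  congr 1
  push_cast
  rfl

omit [FiniteDimensional ℝ E] [CompleteSpace E] in
/-- A rational combination of lattice vectors has a positive integer multiple in the lattice. -/
theorem exists_nat_smul_mem_of_ratComb (L : Submodule ℤ E) {ι : Type*} [Fintype ι] (w : ι → E)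
    (hwL : ∀ i, w i ∈ L) (c : ι → ℚ) :
    ∃ N : ℕ, 0 < N ∧ (N : ℝ) • (∑ i, (c i : ℝ) • w i) ∈ L := by
  obtain ⟨N, hN, hz⟩ := exists_common_denominator c
  choose z hz using hz
  refine ⟨N, hN, ?_⟩
  rw [Finset.smul_sum]
  refine Submodule.sum_mem _ fun i _ => ?_
  rw [smul_smul]
  have h : ((N : ℝ) * (c i : ℝ)) = ((z i : ℤ) : ℝ) := by
    have := congrArg (fun q : ℚ => (q : ℝ)) (hz i)
    simpa using this
  rw [h, Int.cast_smul_eq_zsmul]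
  exact Submodule.smul_mem _ _ (hwL i)

/-- **Rationality of the closest point**: the minimal-norm point of a polyhedron defined by
lattice-integral functionals and rational bounds has a positive integer multiple in the lattice. -/
theorem exists_nat_smul_mem (L : Submodule ℤ E) {ι : Type*} [Fintype ι] (w : ι → E)
    (hwL : ∀ i, w i ∈ L) (hspan : Submodule.span ℝ (Set.range w) = ⊤)
    (hint : ∀ x ∈ L, ∀ y ∈ L, ∃ n : ℤ, ⟪x, y⟫ = (n : ℝ))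
    (T : Finset (Module.Dual ℝ E × ℝ))
    (hT : ∀ p ∈ T, (∀ x ∈ L, ∃ n : ℤ, p.1 x = (n : ℝ)) ∧ ∃ q : ℚ, p.2 = (q : ℝ))
    (v : E) (hfeas : ∀ p ∈ T, p.2 ≤ p.1 v)
    (hmin : ∀ v' : E, (∀ p ∈ T, p.2 ≤ p.1 v') → ‖v‖ ≤ ‖v'‖) :
    ∃ N : ℕ, 0 < N ∧ (N : ℝ) • v ∈ L := by
  classical
  have hw : ∀ i j, ∃ q : ℚ, ⟪w i, w j⟫ = (q : ℝ) := by
    intro i j
    obtain ⟨n, hn⟩ := hint _ (hwL i) _ (hwL j)
    exact ⟨n, by rw [hn]; simp⟩
  -- Riesz vectors are rational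
  have h1 : ∀ p ∈ T, ∃ c : ι → ℚ, riesz p.1 = ∑ i, (c i : ℝ) • w i := by
    intro p hp
    refine exists_rat_coeffs w hw (riesz p.1) (by rw [hspan]; trivial) fun j => ?_
    obtain ⟨n, hn⟩ := (hT p hp).1 _ (hwL j)
    exact ⟨n, by rw [inner_riesz, hn]; simp⟩
  -- integral functionals are rational on rational vectors
  have h2 : ∀ p ∈ T, ∀ c : ι → ℚ, ∃ q : ℚ, p.1 (∑ i, (c i : ℝ) • w i) = (q : ℝ) := by
    intro p hp c
    have hz : ∀ i, ∃ n : ℤ, p.1 (w i) = (n : ℝ) := fun i => (hT p hp).1 _ (hwL i)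
    choose z hz using hz
    refine ⟨∑ i, c i * z i, ?_⟩
    rw [map_sum]
    push_cast
    refine Finset.sum_congr rfl fun i _ => ?_
    rw [map_smul, smul_eq_mul, hz]
  let T₀ : Finset (Module.Dual ℝ E × ℝ) := T.filter fun p => p.1 v = p.2
  have hT₀ : ∀ p, p ∈ T₀ ↔ p ∈ T ∧ p.1 v = p.2 := fun p => Finset.mem_filter
  have h3 := mem_span_riesz T T₀ v hT₀ hfeas hmin
  have hr : ∀ k : T₀, ∃ c : ι → ℚ, riesz k.1.1 = ∑ i, (c i : ℝ) • w i :=
    fun k => h1 k.1 ((hT₀ k.1).mp k.2).1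
  have h4 : ∀ k l : T₀, ∃ q : ℚ, ⟪riesz k.1.1, riesz l.1.1⟫ = (q : ℝ) := by
    intro k l
    obtain ⟨c, hc⟩ := hr l
    rw [inner_riesz, hc]
    exact h2 k.1 ((hT₀ k.1).mp k.2).1 c
  have h5 : ∀ l : T₀, ∃ q : ℚ, ⟪v, riesz l.1.1⟫ = (q : ℝ) := by
    intro l
    obtain ⟨q, hq⟩ := (hT l.1 ((hT₀ l.1).mp l.2).1).2
    exact ⟨q, by rw [real_inner_comm, inner_riesz, ((hT₀ l.1).mp l.2).2, hq]⟩
  obtain ⟨a, ha⟩ := exists_rat_coeffs (fun k : T₀ => riesz k.1.1) h4 v h3 h5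
  obtain ⟨c, hc⟩ := ratComb_sum w (fun k : T₀ => riesz k.1.1) hr a
  rw [ha, hc]
  exact exists_nat_smul_mem_of_ratComb L w hwL c

end Lattice

section Generator

variable {E : Type*} [NormedAddCommGroup E] [InnerProductSpace ℝ E]

/-- Lattice points on a ray (with integral norm squares) are the multiples of a smallest one. -/
theorem exists_generator (L : Submodule ℤ E)
    (hint : ∀ x ∈ L, ∀ y ∈ L, ∃ n : ℤ, ⟪x, y⟫ = (n : ℝ)) (u₀ : E) (hu₀ : ‖u₀‖ = 1)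
    (t₁ : ℝ) (ht₁ : 0 < t₁) (hx₁ : t₁ • u₀ ∈ L) :
    ∃ t₀ : ℝ, 0 < t₀ ∧ t₀ • u₀ ∈ L ∧ ∀ t : ℝ, 0 < t → t • u₀ ∈ L → ∃ n : ℤ, t = n * t₀ := by
  have hsq : ∀ t : ℝ, t • u₀ ∈ L → ∃ k : ℕ, t ^ 2 = (k : ℝ) := by
    intro t ht
    obtain ⟨k, hk⟩ := hint _ ht _ ht
    rw [real_inner_smul_left, real_inner_smul_right, real_inner_self_eq_norm_sq, hu₀] at hk
    have hk0 : (0 : ℝ) ≤ (k : ℝ) := by
      rw [← hk]
      nlinarith [sq_nonneg t]
    have hk0' : 0 ≤ k := by exact_mod_cast hk0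
    refine ⟨k.toNat, ?_⟩
    have h1 : ((k.toNat : ℤ) : ℝ) = (k : ℝ) := by rw [Int.toNat_of_nonneg hk0']
    rw [← Int.cast_natCast, h1, ← hk]
    ring
  let S : Set ℕ := {k | ∃ t : ℝ, 0 < t ∧ t • u₀ ∈ L ∧ t ^ 2 = (k : ℝ)}
  have hSne : S.Nonempty := by
    obtain ⟨k, hk⟩ := hsq t₁ hx₁
    exact ⟨k, t₁, ht₁, hx₁, hk⟩
  obtain ⟨t₀, ht₀, ht₀L, ht₀sq⟩ := Nat.sInf_mem hSne
  refine ⟨t₀, ht₀, ht₀L, ?_⟩
  intro t ht htL
  refine ⟨⌊t / t₀⌋, ?_⟩
  have hfl1 : (⌊t / t₀⌋ : ℝ) ≤ t / t₀ := Int.floor_le _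
  have hfl2 : t / t₀ < ⌊t / t₀⌋ + 1 := Int.lt_floor_add_one _
  rw [le_div_iff₀ ht₀] at hfl1
  rw [div_lt_iff₀ ht₀] at hfl2
  by_contra hne
  have hrpos : 0 < t - ⌊t / t₀⌋ * t₀ := by
    rcases lt_or_eq_of_le hfl1 with h | h
    · linarith
    · exact absurd h.symm hne
  have hrlt : t - ⌊t / t₀⌋ * t₀ < t₀ := by linarith
  have hrL : (t - ⌊t / t₀⌋ * t₀) • u₀ ∈ L := by
    have h : (t - ⌊t / t₀⌋ * t₀) • u₀ = t • u₀ - ⌊t / t₀⌋ • (t₀ • u₀) := by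
      rw [sub_smul, mul_smul, Int.cast_smul_eq_zsmul]
    rw [h]
    exact Submodule.sub_mem _ htL (Submodule.smul_mem _ _ ht₀L)
  obtain ⟨k, hk⟩ := hsq _ hrL
  have hkS : k ∈ S := ⟨_, hrpos, hrL, hk⟩
  have hle : sInf S ≤ k := Nat.sInf_le hkS
  have hle' : ((sInf S : ℕ) : ℝ) ≤ (k : ℝ) := by exact_mod_cast hle
  rw [← ht₀sq, ← hk] at hle'
  nlinarith

end Generator

section Main

theorem kempf (E : Type u) [NormedAddCommGroup E] [InnerProductSpace ℝ E] [FiniteDimensional ℝ E]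
    (L : Submodule ℤ E) [DiscreteTopology L] [IsZLattice ℝ L]
    (hint : ∀ x ∈ L, ∀ y ∈ L, ∃ n : ℤ, ⟪x, y⟫ = (n : ℝ))
    (F G : Finset (Module.Dual ℝ E)) (hF : F.Nonempty) (hG : G.Nonempty)
    (hFi : ∀ f ∈ F, ∀ x ∈ L, ∃ n : ℤ, f x = (n : ℝ))
    (hGi : ∀ g ∈ G, ∀ x ∈ L, ∃ n : ℤ, g x = (n : ℝ))
    (hpos : ∃ v : E, 0 ≤ mn F hF v ∧ 0 < mn G hG v) :
    ∃ M : ℝ, IsGreatest ((fun v => mn G hG v / ‖v‖) '' {v : E | v ≠ 0 ∧ 0 ≤ mn F hF v}) M ∧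
      ∃! v₀ : E, v₀ ∈ L ∧ v₀ ≠ 0 ∧ 0 ≤ mn F hF v₀ ∧ mn G hG v₀ / ‖v₀‖ = M ∧
        ∀ v ∈ L, v ≠ 0 → 0 ≤ mn F hF v → mn G hG v / ‖v‖ = M → ∃ n : ℤ, v = n • v₀ := by
  classical
  have hcomp : CompleteSpace E := FiniteDimensional.complete ℝ E
  obtain ⟨u₀, hu₀n, hFu₀, hMpos, hle, huniq⟩ := exists_unit_maximizer F G hF hG hpos
  have hu₀ne : u₀ ≠ 0 := by
    intro h
    rw [h, norm_zero] at hu₀n
    exact zero_ne_one hu₀n
  refine ⟨mn G hG u₀, ⟨⟨u₀, ⟨hu₀ne, hFu₀⟩, by simp [hu₀n]⟩, ?_⟩, ?_⟩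
  · rintro _ ⟨v, ⟨hv, hFv⟩, rfl⟩
    exact hle v hv hFv
  -- rationality
  have hMne : mn G hG u₀ ≠ 0 := ne_of_gt hMpos
  have hMinv : 0 ≤ (mn G hG u₀)⁻¹ := inv_nonneg.mpr hMpos.le
  let T : Finset (Module.Dual ℝ E × ℝ) :=
    G.image (fun g => (g, (1 : ℝ))) ∪ F.image (fun f => (f, (0 : ℝ)))
  have hTmem : ∀ p, p ∈ T ↔ (p.1 ∈ G ∧ p.2 = 1) ∨ (p.1 ∈ F ∧ p.2 = 0) := by
    intro p
    simp only [T, Finset.mem_union, Finset.mem_image]
    constructor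
    · rintro (⟨g, hg, rfl⟩ | ⟨f, hf, rfl⟩)
      · exact Or.inl ⟨hg, rfl⟩
      · exact Or.inr ⟨hf, rfl⟩
    · rintro (⟨hg, h1⟩ | ⟨hf, h0⟩)
      · exact Or.inl ⟨p.1, hg, Prod.ext rfl h1.symm⟩
      · exact Or.inr ⟨p.1, hf, Prod.ext rfl h0.symm⟩
  have hT : ∀ p ∈ T, (∀ x ∈ L, ∃ n : ℤ, p.1 x = (n : ℝ)) ∧ ∃ q : ℚ, p.2 = (q : ℝ) := by
    intro p hp
    rcases (hTmem p).mp hp with ⟨hg, h1⟩ | ⟨hf, h0⟩
    · exact ⟨hGi _ hg, 1, by rw [h1]; simp⟩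
    · exact ⟨hFi _ hf, 0, by rw [h0]; simp⟩
  have hfeasiff : ∀ v : E, (∀ p ∈ T, p.2 ≤ p.1 v) ↔ (1 ≤ mn G hG v ∧ 0 ≤ mn F hF v) := by
    intro v
    rw [le_mn_iff, le_mn_iff]
    constructor
    · intro h
      exact ⟨fun g hg => h (g, 1) ((hTmem _).mpr (Or.inl ⟨hg, rfl⟩)),
        fun f hf => h (f, 0) ((hTmem _).mpr (Or.inr ⟨hf, rfl⟩))⟩
    · rintro ⟨h1, h0⟩ p hp
      rcases (hTmem p).mp hp with ⟨hg, h⟩ | ⟨hf, h⟩
      · rw [h]
        exact h1 _ hg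
      · rw [h]
        exact h0 _ hf
  have hvs_G : mn G hG ((mn G hG u₀)⁻¹ • u₀) = 1 := by
    rw [mn_smul G hG hMinv, inv_mul_cancel₀ hMne]
  have hvs_F : 0 ≤ mn F hF ((mn G hG u₀)⁻¹ • u₀) := by
    rw [mn_smul F hF hMinv]
    exact mul_nonneg hMinv hFu₀
  have hfeas : ∀ p ∈ T, p.2 ≤ p.1 ((mn G hG u₀)⁻¹ • u₀) :=
    (hfeasiff _).mpr ⟨hvs_G.ge, hvs_F⟩
  have hmin : ∀ v' : E, (∀ p ∈ T, p.2 ≤ p.1 v') → ‖(mn G hG u₀)⁻¹ • u₀‖ ≤ ‖v'‖ := by
    intro v' hv'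
    obtain ⟨h1, h0⟩ := (hfeasiff v').mp hv'
    have hv'ne : v' ≠ 0 := by
      rintro rfl
      rw [mn_zero] at h1
      linarith
    have h2 := hle v' hv'ne h0
    rw [div_le_iff₀ (norm_pos_iff.mpr hv'ne)] at h2
    rw [norm_smul, hu₀n, mul_one, Real.norm_of_nonneg hMinv, inv_le_iff_one_le_mul₀' hMpos]
    linarith
  -- lattice basis
  have hfin : Module.Finite ℤ L := ZLattice.module_finite ℝ L
  have hfree : Module.Free ℤ L := ZLattice.module_free ℝ L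
  obtain ⟨N, hN, hNL⟩ := exists_nat_smul_mem L
    (fun i => ((Module.Free.chooseBasis ℤ L).ofZLatticeBasis ℝ L) i)
    (fun i => by
      rw [Module.Basis.ofZLatticeBasis_apply]
      exact ((Module.Free.chooseBasis ℤ L) i).2)
    ((Module.Free.chooseBasis ℤ L).ofZLatticeBasis ℝ L).span_eq hint T hT
    ((mn G hG u₀)⁻¹ • u₀) hfeas hmin
  rw [smul_smul] at hNL
  have ht₁ : 0 < (N : ℝ) * (mn G hG u₀)⁻¹ :=
    mul_pos (by exact_mod_cast hN) (inv_pos.mpr hMpos)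
  obtain ⟨t₀, ht₀, ht₀L, hgen⟩ := exists_generator L hint u₀ hu₀n _ ht₁ hNL
  have hnorm_t : ∀ t : ℝ, 0 < t → ‖t • u₀‖ = t := fun t ht => by
    rw [norm_smul, hu₀n, mul_one, Real.norm_of_nonneg ht.le]
  have hmax_t : ∀ t : ℝ, 0 < t → (t • u₀ ≠ 0 ∧ 0 ≤ mn F hF (t • u₀) ∧
      mn G hG (t • u₀) / ‖t • u₀‖ = mn G hG u₀) := by
    intro t ht
    refine ⟨smul_ne_zero ht.ne' hu₀ne, ?_, ?_⟩
    · rw [mn_smul F hF ht.le]
      exact mul_nonneg ht.le hFu₀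
    · rw [mn_smul G hG ht.le, hnorm_t t ht, mul_div_assoc, mul_comm, div_mul_cancel₀]
      exact ht.ne'
  have hall : ∀ v ∈ L, v ≠ 0 → 0 ≤ mn F hF v → mn G hG v / ‖v‖ = mn G hG u₀ →
      ∃ n : ℤ, v = n • (t₀ • u₀) := by
    intro v hvL hv hFv hvM
    have h1 := huniq v hv hFv hvM
    have h2 : ‖v‖ • u₀ ∈ L := by
      rw [← h1]
      exact hvL
    obtain ⟨n, hn⟩ := hgen ‖v‖ (norm_pos_iff.mpr hv) h2
    refine ⟨n, ?_⟩
    calc v = ‖v‖ • u₀ := h1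
      _ = ((n : ℝ) * t₀) • u₀ := by rw [hn]
      _ = n • (t₀ • u₀) := by rw [mul_smul, Int.cast_smul_eq_zsmul]
  refine ⟨t₀ • u₀, ⟨ht₀L, (hmax_t t₀ ht₀).1, (hmax_t t₀ ht₀).2.1, (hmax_t t₀ ht₀).2.2, hall⟩, ?_⟩
  rintro y ⟨hyL, hyne, hFy, hyM, hyall⟩
  obtain ⟨n, hn⟩ := hall y hyL hyne hFy hyM
  obtain ⟨m, hm⟩ := hyall (t₀ • u₀) ht₀L (hmax_t t₀ ht₀).1 (hmax_t t₀ ht₀).2.1 (hmax_t t₀ ht₀).2.2
  have hy1 := huniq y hyne hFy hyM
  have hypos : 0 < ‖y‖ := norm_pos_iff.mpr hyne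
  have hs : ‖y‖ = n * t₀ := by
    apply smul_left_injective ℝ hu₀ne
    change ‖y‖ • u₀ = ((n : ℝ) * t₀) • u₀
    rw [← hy1, mul_smul, Int.cast_smul_eq_zsmul]
    exact hn
  have ht : t₀ = m * ‖y‖ := by
    apply smul_left_injective ℝ hu₀ne
    change t₀ • u₀ = ((m : ℝ) * ‖y‖) • u₀
    rw [mul_smul, ← hy1, Int.cast_smul_eq_zsmul]
    exact hm
  have hmn : (m : ℝ) * n = 1 := by
    have h3 : t₀ = ((m : ℝ) * n) * t₀ := by
      calc t₀ = m * ‖y‖ := ht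
        _ = m * (n * t₀) := by rw [hs]
        _ = ((m : ℝ) * n) * t₀ := by ring
    have h4 : ((m : ℝ) * n - 1) * t₀ = 0 := by linarith
    rcases mul_eq_zero.mp h4 with h5 | h5
    · linarith
    · exact absurd h5 ht₀.ne'
  have hmn' : m * n = 1 := by exact_mod_cast hmn
  have hn1 : n = 1 := by
    rcases Int.eq_one_or_neg_one_of_mul_eq_one' hmn' with ⟨-, h⟩ | ⟨-, h⟩
    · exact h
    · exfalso
      rw [h] at hs
      simp at hs
      linarith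
  rw [hn, hn1, one_smul]

end Main

end Groth.Agent.Lib.T2H7.Kempf
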