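import Mathlib
import Groth.Agent.Lib.T2H7KerPairGrpd

/-!
# helper7: quotient by a finite locally free equivalence relation (fppf version of
`exists_iso_yon_of_finite_etale`)
-/

set_option autoImplicit false
set_option linter.unusedSectionVars false
set_option linter.unusedVariables false
set_option linter.style.haveILetI false
universe u
open CategoryTheory CategoryTheory.Limits AlgebraicGeometry Opposite
open Grpd AlgSp

namespace Groth.Agent.Lib.T2H7.KerPairGrpd

open Groth.Agent.Lib.Helper9 in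
/-- **Quotient by a finite locally free equivalence relation with orbits in affine opens.**  If
`a : h_U ⟶ X` is representable finite, flat, locally of finite presentation and surjective and every fibre of `|U| ⟶ |X|` is
contained in an affine open of `U`, then `X` is (representable by) a scheme. -/
theorem exists_iso_yon_of_finLocFree {S : Scheme.{u}} {X : AlgSp.Sp S} {U : Over S}
    (a : (AlgSp.yon S).obj U ⟶ X)
    (hf : AlgSp.RepWith @IsFinite a) (hfl : AlgSp.RepWith @Flat a)
    (hfp : AlgSp.RepWith @LocallyOfFinitePresentation a)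
    (hs : AlgSp.RepWith @Surjective a)
    (hb : ∀ u : ↥U.left, ∃ V : U.left.Opens, IsAffineOpen V ∧
      {u' : ↥U.left | AlgSp.Points.ofPt a u' = AlgSp.Points.ofPt a u} ⊆ (V : Set ↥U.left)) :
    ∃ Y : Over S, Nonempty ((AlgSp.yon S).obj Y ≅ X) := by
  obtain ⟨R, s, t', sq⟩ := hf.1 a
  obtain ⟨t, rfl⟩ := (AlgSp.yon S).map_surjective t'
  have hsfin : IsFinite s.left := hf.2 a _ s sq
  have hsfl : Flat s.left := hfl.2 a _ s sq
  have hsfp : LocallyOfFinitePresentation s.left := hfp.2 a _ s sq
  let G := grpd sq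
  have ha : Mor2.IsFinLocFree G.s := by
    change Mor2.IsFinLocFree s.left
    exact ⟨hsfin, hsfl, hsfp⟩
  have key : ∀ x : ↥U.left, ∃ V : U.left.Opens, IsAffineOpen V ∧
      t.left '' (s.left ⁻¹' ({x} : Set ↥U.left)) ⊆ (V : Set ↥U.left) := by
    intro x
    obtain ⟨V, hV, hsub⟩ := hb x
    refine ⟨V, hV, ?_⟩
    have h1 := Groth.Agent.S10176.preimage_ofPt_image sq.flip ({x} : Set ↥U.left)
    rw [← h1]
    rintro y ⟨x', hx', hy⟩
    rw [Set.mem_singleton_iff] at hx'
    subst hx'
    exact hsub hy.symm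
  have hb' : ∀ x : G.U, ∃ V : G.U.Opens, IsAffineOpen V ∧
      G.t.base '' (G.s.base ⁻¹' {x}) ⊆ (V : Set G.U) := key
  obtain ⟨Y, p, w, ⟨hc⟩, -, hsurj, -, -, -, -⟩ := Groth.Agent.S4085.result S G ha hb'
  haveI : Mono G.j := mono_j sq
  obtain ⟨hpb, hflf⟩ := Groth.Agent.S4086.result S G ha hb' Y p w hc
  -- structure map of `Y`
  have hcond : G.t ≫ U.hom = G.s ≫ U.hom := (Over.w t).trans (Over.w s).symm
  let pY : Y ⟶ S := Cofork.IsColimit.desc hc U.hom hcond
  have hpY : p ≫ pY = U.hom := Cofork.IsColimit.π_desc hc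
  let Y' : Over S := Over.mk pY
  let p' : U ⟶ Y' := Over.homMk p hpY
  have sqO : IsPullback t s p' p' :=
    IsPullback.of_map (Over.forget S) (by ext1; exact w) hpb
  have sqY : IsPullback ((AlgSp.yon S).map t) ((AlgSp.yon S).map s) ((AlgSp.yon S).map p')
      ((AlgSp.yon S).map p') := sqO.map (AlgSp.yon S)
  have hflat : Flat p'.left := hflf.2.1
  have hlfp : LocallyOfFinitePresentation p'.left := hflf.2.2
  have hsj : Surjective p'.left := hsurj
  have hepi : Epi ((AlgSp.yon S).map p') := by
    haveI := Groth.Agent.S9885.isLocallySurjective_of_repWith ((AlgSp.yon S).map p')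
      ((AlgSp.repWith_yon_map_iff @Flat p').2 hflat)
      ((AlgSp.repWith_yon_map_iff @LocallyOfFinitePresentation p').2 hlfp)
      ((AlgSp.repWith_yon_map_iff @Surjective p').2 hsj)
    exact (Sheaf.isLocallySurjective_iff_epi _).1 inferInstance
  have hepia : Epi a := by
    haveI := Groth.Agent.S9885.isLocallySurjective_of_repWith a hfl hfp hs
    exact (Sheaf.isLocallySurjective_iff_epi _).1 inferInstance
  obtain ⟨σ, hσ, -⟩ := existsUnique_desc_of_kernelPair ((AlgSp.yon S).map p') hepi
    ((AlgSp.yon S).map t) ((AlgSp.yon S).map s) sqY a sq.w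
  haveI : IsIso σ := isIso_of_kernelPair ((AlgSp.yon S).map p') a σ hσ.symm hepi hepia
    ((AlgSp.yon S).map t) ((AlgSp.yon S).map s) sqY.w sq
  exact ⟨Y', ⟨asIso σ⟩⟩


end Groth.Agent.Lib.T2H7.KerPairGrpd
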