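import Mathlib
import Groth.Agent.Lib.T2H7KRegL

/-!
# Composition of local complete intersection morphisms (affine-local form)

If every affine chart of `f : X ⟶ Y` and of `g : Y ⟶ Z` is a local complete
intersection ring map, then so is every affine chart of `f ≫ g`.  The proof
covers an affine open of `X` by basic opens which map into affine opens of
`Y` lying over the target chart, uses composition of LCI algebras there and
the fact that being LCI is local on the source (for basic open covers).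
-/

set_option autoImplicit false

namespace Groth.Agent.Lib.T2H7.LCIComp
open AlgebraicGeometry CategoryTheory Limits
open Groth.Agent.Lib.T2H7.KRegL

universe u

theorem lci_comp {X Y Z : Scheme.{u}} (f : X ⟶ Y) (g : Y ⟶ Z)
    (hf : (∀ (U : X.Opens) (V : Y.Opens) (hU : IsAffineOpen U) (hV : IsAffineOpen V) (hUV : U ≤ f ⁻¹ᵁ V),
        letI := (f.appLE V U hUV).hom.toAlgebra
        LCI.IsLCI Γ(Y, V) Γ(X, U)))
    (hg : (∀ (U : Y.Opens) (V : Z.Opens) (hU : IsAffineOpen U) (hV : IsAffineOpen V) (hUV : U ≤ g ⁻¹ᵁ V),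
        letI := (g.appLE V U hUV).hom.toAlgebra
        LCI.IsLCI Γ(Z, V) Γ(Y, U))) :
    (∀ (U : X.Opens) (V : Z.Opens) (hU : IsAffineOpen U) (hV : IsAffineOpen V) (hUV : U ≤ (f ≫ g) ⁻¹ᵁ V),
        letI := ((f ≫ g).appLE V U hUV).hom.toAlgebra
        LCI.IsLCI Γ(Z, V) Γ(X, U)) := by
  intro U V hU hV hUV
  -- the good sections
  let s : Set Γ(X, U) := {t | ∃ W : Y.Opens, IsAffineOpen W ∧ W ≤ g ⁻¹ᵁ V ∧
    X.basicOpen t ≤ f ⁻¹ᵁ W}
  have hcover : ⨆ t : s, X.basicOpen (t : Γ(X, U)) = U := by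
    apply le_antisymm
    · exact iSup_le fun t => X.basicOpen_le _
    · intro x hx
      have hy : f x ∈ g ⁻¹ᵁ V := hUV hx
      obtain ⟨_, ⟨W, hW : IsAffineOpen W, rfl⟩, hyW, hWle⟩ :=
        Y.isBasis_affineOpens.exists_subset_of_mem_open hy (g ⁻¹ᵁ V).isOpen
      obtain ⟨t, htle, hxt⟩ := hU.exists_basicOpen_le (V := f ⁻¹ᵁ W) ⟨x, hyW⟩ hx
      rw [TopologicalSpace.Opens.mem_iSup]
      exact ⟨⟨t, W, hW, hWle, htle⟩, hxt⟩
  have hspan : Ideal.span s = ⊤ := hU.iSup_basicOpen_eq_self_iff.mp hcover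
  obtain ⟨s', hs's, hs'span⟩ := (Ideal.span_eq_top_iff_finite s).mp hspan
  let m := s'.card
  let eq : Fin m ≃ ↥s' := s'.equivFin.symm
  let t : Fin m → Γ(X, U) := fun j => (eq j : Γ(X, U))
  have htspan : Ideal.span (Set.range t) = ⊤ := by
    have : Set.range t = (s' : Set Γ(X, U)) := by
      ext y
      constructor
      · rintro ⟨j, rfl⟩; exact (eq j).2
      · intro hy; exact ⟨eq.symm ⟨y, hy⟩, by simp [t]⟩
    rw [this]; exact hs'span
  have hts : ∀ j, t j ∈ s := fun j => hs's (eq j).2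
  let algRS : Algebra Γ(Z, V) Γ(X, U) := ((f ≫ g).appLE V U hUV).hom.toAlgebra
  have hle : ∀ j, X.basicOpen (t j) ≤ (f ≫ g) ⁻¹ᵁ V := fun j => le_trans (X.basicOpen_le _) hUV
  let algRT : ∀ j, Algebra Γ(Z, V) Γ(X, X.basicOpen (t j)) :=
    fun j => ((f ≫ g).appLE V (X.basicOpen (t j)) (hle j)).hom.toAlgebra
  have tow : ∀ j, IsScalarTower Γ(Z, V) Γ(X, U) Γ(X, X.basicOpen (t j)) := fun j =>
    IsScalarTower.of_algebraMap_eq' (by
      show ((f ≫ g).appLE V (X.basicOpen (t j)) (hle j)).hom =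
        (X.presheaf.map (homOfLE (X.basicOpen_le (t j))).op).hom.comp
          ((f ≫ g).appLE V U hUV).hom
      rw [← CommRingCat.hom_comp, Scheme.Hom.appLE_map])
  have hloc : ∀ j, IsLocalization.Away (t j) Γ(X, X.basicOpen (t j)) :=
    fun j => hU.isLocalization_basicOpen (t j)
  show LCI.IsLCI Γ(Z, V) Γ(X, U)
  refine isLCI_of_away_cover m t htspan (fun j => Γ(X, X.basicOpen (t j))) (fun j => ?_)
  obtain ⟨W, hW, hWle, htW⟩ := hts j
  have hDaff : IsAffineOpen (X.basicOpen (t j)) := hU.basicOpen (t j)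
  let algRW : Algebra Γ(Z, V) Γ(Y, W) := (g.appLE V W hWle).hom.toAlgebra
  let algWT : Algebra Γ(Y, W) Γ(X, X.basicOpen (t j)) :=
    (f.appLE W (X.basicOpen (t j)) htW).hom.toAlgebra
  have tow2 : IsScalarTower Γ(Z, V) Γ(Y, W) Γ(X, X.basicOpen (t j)) :=
    IsScalarTower.of_algebraMap_eq' (by
      show ((f ≫ g).appLE V (X.basicOpen (t j)) (hle j)).hom =
        (f.appLE W (X.basicOpen (t j)) htW).hom.comp (g.appLE V W hWle).hom
      rw [← CommRingCat.hom_comp, Scheme.Hom.appLE_comp_appLE])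
  exact isLCI_comp (hg W V hW hV hWle) (hf (X.basicOpen (t j)) W hDaff hW htW)

end Groth.Agent.Lib.T2H7.LCIComp
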