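import Mathlib
import Groth.Agent.Lib.T2H7KRegJ
import Groth.Agent.Lib.Helper2QCoh

/-!
# Local complete intersection morphisms descend along fpqc base change (helper7)

`lci_descent`: the affine-local formulation.
-/

set_option autoImplicit false

namespace Groth.Agent.Lib.T2H7.LCIDesc
open AlgebraicGeometry CategoryTheory Limits
open Groth.Agent.Lib.T2H7.KRegJ

universe u

instance locallyOfFiniteType_descendsAlong :
    MorphismProperty.DescendsAlong (@LocallyOfFiniteType)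
      (@Surjective ⊓ @Flat ⊓ @QuasiCompact) :=
  HasRingHomProperty.descendsAlong_flat (P := @LocallyOfFiniteType)
    RingHom.FiniteType.codescendsAlong_faithfullyFlat

theorem lci_descent {X S X' S' : Scheme.{u}} (f : X ⟶ S) (f' : X' ⟶ S') (g' : X' ⟶ X) (g : S' ⟶ S)
    [Flat g] [Surjective g] [QuasiCompact g] (hc : IsPullback g' f' f g)
    (hf' : (∀ (U : X'.Opens) (V : S'.Opens) (hU : IsAffineOpen U) (hV : IsAffineOpen V) (hUV : U ≤ f' ⁻¹ᵁ V),
        letI := (f'.appLE V U hUV).hom.toAlgebra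
        LCI.IsLCI Γ(S', V) Γ(X', U))) :
    (∀ (U : X.Opens) (V : S.Opens) (hU : IsAffineOpen U) (hV : IsAffineOpen V) (hUV : U ≤ f ⁻¹ᵁ V),
        letI := (f.appLE V U hUV).hom.toAlgebra
        LCI.IsLCI Γ(S, V) Γ(X, U)) := by
  intro U V hU hV hUV
  -- finite type
  have hlft' : LocallyOfFiniteType f' := by
    rw [HasRingHomProperty.iff_appLE (P := @LocallyOfFiniteType)]
    intro V' U' e
    exact (hf' U'.1 V'.1 U'.2 V'.2 e).1
  have hlft : LocallyOfFiniteType f :=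
    MorphismProperty.of_isPullback_of_descendsAlong (P := @LocallyOfFiniteType)
      (Q := @Surjective ⊓ @Flat ⊓ @QuasiCompact) hc.flip
      ⟨⟨inferInstance, inferInstance⟩, inferInstance⟩ hlft'
  have hft := (HasRingHomProperty.iff_appLE (P := @LocallyOfFiniteType)).mp hlft ⟨V, hV⟩ ⟨U, hU⟩ hUV
  -- a finite affine cover of the preimage of `V`
  have hcomp : IsCompact (X := S') (g ⁻¹ᵁ V) :=
    QuasiCompact.isCompact_preimage (f := g) _ V.isOpen hV.isCompact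
  obtain ⟨s, hs, hcov⟩ := isCompact_iff_finite_and_eq_biUnion_affineOpens.mp hcomp
  have := hs.to_subtype
  obtain ⟨m, ⟨e⟩⟩ := Finite.exists_equiv_fin ↥s
  let V' : Fin m → S'.Opens := fun j => ((e.symm j).1 : S'.Opens)
  have hV' : ∀ j, IsAffineOpen (V' j) := fun j => (e.symm j).1.2
  have hV'le : ∀ j, V' j ≤ g ⁻¹ᵁ V := fun j => by
    rw [hcov]
    exact le_iSup₂_of_le (e.symm j).1 (e.symm j).2 le_rfl
  let U' : Fin m → X'.Opens := fun j => g' ⁻¹ᵁ U ⊓ f' ⁻¹ᵁ (V' j)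
  have hU' : ∀ j, IsAffineOpen (U' j) := fun j => by
    have : IsAffine (U : Scheme.{u}) := hU
    have : IsAffine (V : Scheme.{u}) := hV
    have : IsAffine (V' j : Scheme.{u}) := hV' j
    exact .of_isIso (Scheme.Hom.isPullback_resLE hc (hV'le j) hUV rfl).isoPullback.hom
  have hU'le : ∀ j, U' j ≤ f' ⁻¹ᵁ (V' j) := fun j => inf_le_right
  have hU'le' : ∀ j, U' j ≤ g' ⁻¹ᵁ U := fun j => inf_le_left
  have hpush : ∀ j, IsPushout (f.appLE V U hUV) (g.appLE V (V' j) (hV'le j))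
      (g'.appLE U (U' j) (hU'le' j)) (f'.appLE (V' j) (U' j) (hU'le j)) := fun j => by
    have := isIso_pushoutSection_of_isAffineOpen hc (hV'le j) hUV (UY := U' j) rfl hV (hV' j) hU
    exact (isIso_pushoutSection_iff hc (hV'le j) hUV rfl).mp this
  let algRC : Algebra Γ(S, V) Γ(X, U) := (f.appLE V U hUV).hom.toAlgebra
  let algRR' : ∀ j, Algebra Γ(S, V) Γ(S', V' j) := fun j => (g.appLE V (V' j) (hV'le j)).hom.toAlgebra
  let algR'C' : ∀ j, Algebra Γ(S', V' j) Γ(X', U' j) :=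
    fun j => (f'.appLE (V' j) (U' j) (hU'le j)).hom.toAlgebra
  let algCC' : ∀ j, Algebra Γ(X, U) Γ(X', U' j) :=
    fun j => (g'.appLE U (U' j) (hU'le' j)).hom.toAlgebra
  let algRC' : ∀ j, Algebra Γ(S, V) Γ(X', U' j) :=
    fun j => ((f'.appLE (V' j) (U' j) (hU'le j)).hom.comp
      (g.appLE V (V' j) (hV'le j)).hom).toAlgebra
  have tow1 : ∀ j, IsScalarTower Γ(S, V) Γ(S', V' j) Γ(X', U' j) :=
    fun j => IsScalarTower.of_algebraMap_eq' rfl
  have tow2 : ∀ j, IsScalarTower Γ(S, V) Γ(X, U) Γ(X', U' j) := fun j =>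
    IsScalarTower.of_algebraMap_eq fun x => by
      have := congr($((hpush j).w).hom x)
      exact this.symm
  have hpo : ∀ j, Algebra.IsPushout Γ(S, V) Γ(S', V' j) Γ(X, U) Γ(X', U' j) := fun j =>
    (CommRingCat.isPushout_iff_isPushout.mp (hpush j)).symm
  have hflat : ∀ j, Module.Flat Γ(S, V) Γ(S', V' j) := fun j => g.flat_appLE hV (hV' j) (hV'le j)
  show LCI.IsLCI Γ(S, V) Γ(X, U)
  refine isLCI_of_family hft (fun j => Γ(S', V' j)) (fun j => Γ(X', U' j)) ?_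
    (fun j => hf' (U' j) (V' j) (hU' j) (hV' j) (hU'le j))
  intro 𝔭 h𝔭
  let x : S := hV.fromSpec ⟨𝔭, h𝔭⟩
  have hxV : x ∈ V := Groth.Agent.Lib.Helper2.QCoh.fromSpec_mem hV ⟨𝔭, h𝔭⟩
  obtain ⟨s', hs'⟩ := g.surjective x
  have hs'mem : s' ∈ g ⁻¹ᵁ V := by
    show g s' ∈ V
    rw [hs']; exact hxV
  rw [hcov] at hs'mem
  simp only [TopologicalSpace.Opens.mem_iSup] at hs'mem
  obtain ⟨W, hW, hs'W⟩ := hs'mem
  let j : Fin m := e ⟨W, hW⟩
  have hj : V' j = (W : S'.Opens) := by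
    show ((e.symm (e ⟨W, hW⟩)).1 : S'.Opens) = W
    rw [Equiv.symm_apply_apply]
  have hs'j : s' ∈ V' j := by rw [hj]; exact hs'W
  refine ⟨j, ((hV' j).primeIdealOf ⟨s', hs'j⟩).asIdeal, inferInstance, ?_⟩
  have h1 := IsAffineOpen.comap_primeIdealOf_appLE (f := g) V hV (V' j) (hV' j) (hV'le j) hs'j
  have h2 : hV.primeIdealOf ⟨g s', (hV'le j) hs'j⟩ = ⟨𝔭, h𝔭⟩ := by
    have := Groth.Agent.Lib.Helper2.QCoh.primeIdealOf_fromSpec hV ⟨𝔭, h𝔭⟩
    convert this using 2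
    exact Subtype.ext hs'
  rw [h2] at h1
  exact congrArg PrimeSpectrum.asIdeal h1

end Groth.Agent.Lib.T2H7.LCIDesc
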