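import Mathlib
import Groth.Agent.Lib.T2H7KRegK
import Groth.Agent.Lib.T2H7KRegI
import Groth.Agent.Lib.T2H9RegImmBC
import Groth.Agent.Lib.Helper5RegImm2
import Groth.Agent.Lib.Helper5RegImmComp
import Groth.Agent.Lib.Helper2QCoh

/-!
# Koszul-regular immersions and Koszul-regular ideals; fpqc descent (helper7)

* `isKoszulRegularIdeal_ker_of_isRegularImmersion`: the ideal of a Koszul-regular immersion on
  an affine chart on which it is a closed immersion is a Koszul-regular ideal.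
* `isRegularImmersionAt_of_isKoszulRegularIdeal`: the converse, pointwise on the chart.
* `koszul_descent`: being a Koszul-regular immersion descends along flat, surjective,
  quasi-compact base change.
-/

set_option autoImplicit false

namespace Groth.Agent.Lib.T2H7.RegImmDesc
open AlgebraicGeometry CategoryTheory Limits
open Groth.Agent.Lib.T2H7.KRegK Groth.Agent.Lib.T2H7.KRegI Groth.Agent.Lib.T2H7.KRegB
open Groth.Agent.Lib.T2H9.RegImmBC

universe u

/-- transport of a Koszul-regular generating list along an isomorphism of algebras -/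
theorem transport {C T T' : Type u} [CommRing C] [CommRing T] [CommRing T'] [Algebra C T]
    [Algebra C T'] (e : T ≃ₐ[C] T') (I : Ideal C) (rs : List T)
    (h : LCI.IsKoszulRegularSeq T rs) (hI : I.map (algebraMap C T) = Ideal.ofList rs) :
    LCI.IsKoszulRegularSeq T' (rs.map (e : T →+* T')) ∧
      I.map (algebraMap C T') = Ideal.ofList (rs.map (e : T →+* T')) := by
  refine ⟨kreg_map_of_bijective (e : T →+* T') e.bijective rs h, ?_⟩
  have h1 : algebraMap C T' = (e : T →+* T').comp (algebraMap C T) := by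
    ext c
    exact (e.commutes c).symm
  rw [h1, ← Ideal.map_map, hI, Ideal.map_ofList]

variable {Z X : Scheme.{u}} (i : Z ⟶ X)

theorem isPullback_id : IsPullback i (𝟙 Z) (𝟙 X) i := IsPullback.of_id_snd

theorem id_appLE {U V : X.Opens} (h : V ≤ U) (e : V ≤ (𝟙 X) ⁻¹ᵁ U) :
    (𝟙 X : X ⟶ X).appLE U V e = X.presheaf.map (homOfLE h).op := by
  unfold Scheme.Hom.appLE
  rw [Scheme.Hom.id_app]
  exact Category.id_comp _

theorem isClosedImmersion_restrict_of_le {U V : X.Opens} (h : V ≤ U)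
    [IsClosedImmersion (i ∣_ U)] : IsClosedImmersion (i ∣_ V) :=
  isClosedImmersion_morphismRestrict_of_isPullback (isPullback_id i) U V h

theorem ker_app_of_le {U V : X.Opens} (hU : IsAffineOpen U) (hV : IsAffineOpen V) (h : V ≤ U)
    [IsClosedImmersion (i ∣_ U)] :
    RingHom.ker (i.app V).hom =
      (RingHom.ker (i.app U).hom).map (X.presheaf.map (homOfLE h).op).hom := by
  have := ker_app_eq (isPullback_id i) hU hV (show V ≤ (𝟙 X) ⁻¹ᵁ U from h)
  rw [this, id_appLE h]


theorem ker_le_primeIdealOf {V : X.Opens} (hV : IsAffineOpen V) (z : Z) (hz : i z ∈ V) :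
    RingHom.ker (i.app V).hom ≤ (hV.primeIdealOf ⟨i z, hz⟩).asIdeal := by
  intro a ha
  by_contra hna
  have h1 : i z ∈ X.basicOpen a :=
    (Groth.Agent.Lib.Helper2.mem_basicOpen_iff_notMem_primeIdealOf hV _ hz a).mpr hna
  have h2 : z ∈ i ⁻¹ᵁ (X.basicOpen a) := h1
  rw [Scheme.preimage_basicOpen, (RingHom.mem_ker).mp ha, Scheme.basicOpen_zero] at h2
  exact h2

theorem exists_point {V : X.Opens} (hV : IsAffineOpen V) [IsClosedImmersion (i ∣_ V)]
    (𝔮 : PrimeSpectrum Γ(X, V)) (h : RingHom.ker (i.app V).hom ≤ 𝔮.asIdeal) :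
    ∃ z : Z, i z = hV.fromSpec 𝔮 := by
  have hV' : IsAffineOpen (i ⁻¹ᵁ V) := isAffineOpen_preimage_of_restrict i hV
  have hsurj := app_surjective_of_restrict i hV
  have hprime : (𝔮.asIdeal.map (i.app V).hom).IsPrime :=
    Ideal.map_isPrime_of_surjective hsurj h
  have hcomap : (𝔮.asIdeal.map (i.app V).hom).comap (i.app V).hom = 𝔮.asIdeal := by
    rw [Ideal.comap_map_of_surjective _ hsurj]
    apply le_antisymm
    · apply sup_le le_rfl
      intro x hx
      rw [Ideal.mem_comap] at hx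
      apply h
      rw [RingHom.mem_ker]
      simpa using hx
    · exact le_sup_left
  let 𝔮' : PrimeSpectrum Γ(Z, i ⁻¹ᵁ V) := ⟨_, hprime⟩
  refine ⟨hV'.fromSpec 𝔮', ?_⟩
  have hsq := IsAffineOpen.SpecMap_appLE_fromSpec i hV hV' le_rfl
  have h1 : i (hV'.fromSpec 𝔮') = hV.fromSpec (Spec.map (i.appLE V (i ⁻¹ᵁ V) le_rfl) 𝔮') := by
    rw [← Scheme.Hom.comp_apply, ← Scheme.Hom.comp_apply, hsq]
  rw [h1]
  congr 1
  apply PrimeSpectrum.ext
  rw [← Scheme.Hom.app_eq_appLE]
  exact hcomap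


/-- scheme to ring: the ideal of a Koszul-regular immersion on an affine chart on which it is a
closed immersion is a Koszul-regular ideal -/
theorem isKoszulRegularIdeal_ker_of_isRegularImmersion
    (hi : RegImm.IsRegularImmersion .koszul i)
    {V : X.Opens} (hV : IsAffineOpen V) [IsClosedImmersion (i ∣_ V)] :
    LCI.IsKoszulRegularIdeal (RingHom.ker (i.app V).hom) := by
  intro 𝔮 h𝔮
  obtain ⟨z, hz⟩ := exists_point i hV 𝔮 h𝔮
  obtain ⟨W, hzW, hclW, rs, hseq, hker⟩ := hi.2 z
  have hxV : i z ∈ V := by rw [hz]; exact Groth.Agent.Lib.Helper2.QCoh.fromSpec_mem hV 𝔮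
  obtain ⟨f, g, hfg, hxf⟩ := exists_basicOpen_le_affine_inter hV W.2 (i z) ⟨hxV, hzW⟩
  have hD : IsAffineOpen (X.basicOpen f) := hV.basicOpen f
  have hDV : X.basicOpen f ≤ V := X.basicOpen_le f
  have hDW : X.basicOpen f ≤ W.1 := hfg ▸ X.basicOpen_le g
  have hflat := Groth.Agent.Lib.Helper5.RegImmComp.flat_map_of_le W.2 hD hDW
  have hseq' : LCI.IsKoszulRegularSeq Γ(X, X.basicOpen f)
      (rs.map (X.presheaf.map (homOfLE hDW).op).hom) :=
    isKoszulRegularSeq_map_of_flat _ hflat rs hseq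
  have hkerD : RingHom.ker (i.app (X.basicOpen f)).hom =
      Ideal.ofList (rs.map (X.presheaf.map (homOfLE hDW).op).hom) := by
    rw [ker_app_of_le i W.2 hD hDW, hker, Ideal.map_ofList]
  have hkerD' := ker_app_of_le i hV hD hDV
  have hloc : IsLocalization.Away f Γ(X, X.basicOpen f) := hV.isLocalization_basicOpen f
  let e : Γ(X, X.basicOpen f) ≃ₐ[Γ(X, V)] Localization.Away f :=
    IsLocalization.algEquiv (Submonoid.powers f) _ _
  have key := transport e (RingHom.ker (i.app V).hom) _ hseq' (by rw [← hkerD, hkerD']; rfl)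
  refine ⟨f, ?_, _, key.1, key.2⟩
  have := (Groth.Agent.Lib.Helper2.QCoh.mem_basicOpen_fromSpec_iff hV 𝔮 f).mp (hz ▸ hxf)
  exact this

/-- ring to scheme: if the ideal of `i` on an affine chart (on which `i` is a closed immersion)
is a Koszul-regular ideal, then `i` is a Koszul-regular immersion at every point of the chart -/
theorem isRegularImmersionAt_of_isKoszulRegularIdeal {U : X.Opens} (hU : IsAffineOpen U)
    [IsClosedImmersion (i ∣_ U)] (h : LCI.IsKoszulRegularIdeal (RingHom.ker (i.app U).hom))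
    (z : Z) (hz : i z ∈ U) : RegImm.IsRegularImmersionAt .koszul i z := by
  obtain ⟨g, hg, l, hl, hmap⟩ := h (hU.primeIdealOf ⟨i z, hz⟩) (ker_le_primeIdealOf i hU z hz)
  have hD : IsAffineOpen (X.basicOpen g) := hU.basicOpen g
  have hDU : X.basicOpen g ≤ U := X.basicOpen_le g
  have hzD : i z ∈ X.basicOpen g :=
    (Groth.Agent.Lib.Helper2.mem_basicOpen_iff_notMem_primeIdealOf hU _ hz g).mpr hg
  have hcl : IsClosedImmersion (i ∣_ X.basicOpen g) := isClosedImmersion_restrict_of_le i hDU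
  have hloc : IsLocalization.Away g Γ(X, X.basicOpen g) := hU.isLocalization_basicOpen g
  let e : Localization.Away g ≃ₐ[Γ(X, U)] Γ(X, X.basicOpen g) :=
    IsLocalization.algEquiv (Submonoid.powers g) _ _
  have key := transport e (RingHom.ker (i.app U).hom) l hl hmap
  refine ⟨⟨X.basicOpen g, hD⟩, hzD, hcl, l.map (e : Localization.Away g →+* Γ(X, X.basicOpen g)),
    key.1, ?_⟩
  rw [ker_app_of_le i hU hD hDU]
  exact key.2

/-- being a Koszul-regular immersion descends along flat, surjective, quasi-compact base change -/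
theorem koszul_descent {X Y X' Y' : Scheme.{u}} (i : Y ⟶ X) [IsImmersion i]
    (g : X' ⟶ X) [Flat g] [Surjective g] [QuasiCompact g]
    (i' : Y' ⟶ X') (g' : Y' ⟶ Y) (hsq : IsPullback g' i' i g)
    (hi' : RegImm.IsRegularImmersion .koszul i') : RegImm.IsRegularImmersion .koszul i := by
  refine ⟨inferInstance, fun z => ?_⟩
  have hzc : i z ∈ i.coborderRange := subset_coborder ⟨z, rfl⟩
  obtain ⟨U, hU, hzU, hle⟩ :=
    TopologicalSpace.Opens.isBasis_iff_nbhd.mp X.isBasis_affineOpens hzc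
  have hcl : IsClosedImmersion (i ∣_ U) :=
    Groth.Agent.Lib.Helper5.RegImm.isClosedImmersion_morphismRestrict_of_le_coborderRange i U hle
  refine isRegularImmersionAt_of_isKoszulRegularIdeal i hU ?_ z hzU
  -- a finite affine cover of the preimage of `U`
  have hcomp : IsCompact (X := X') (g ⁻¹ᵁ U) :=
    QuasiCompact.isCompact_preimage (f := g) _ U.isOpen hU.isCompact
  obtain ⟨s, hs, hcov⟩ := isCompact_iff_finite_and_eq_biUnion_affineOpens.mp hcomp
  have := hs.to_subtype
  obtain ⟨m, ⟨e⟩⟩ := Finite.exists_equiv_fin ↥s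
  let V' : Fin m → X'.Opens := fun j => ((e.symm j).1 : X'.Opens)
  have hV' : ∀ j, IsAffineOpen (V' j) := fun j => (e.symm j).1.2
  have hV'le : ∀ j, V' j ≤ g ⁻¹ᵁ U := fun j => by
    rw [hcov]
    exact le_iSup₂_of_le (e.symm j).1 (e.symm j).2 le_rfl
  let alg : ∀ j, Algebra Γ(X, U) Γ(X', V' j) :=
    fun j => (g.appLE U (V' j) (hV'le j)).hom.toAlgebra
  have hflat : ∀ j, Module.Flat Γ(X, U) Γ(X', V' j) :=
    fun j => g.flat_appLE hU (hV' j) (hV'le j)
  refine isKoszulRegularIdeal_of_family (fun j => Γ(X', V' j)) ?_ _ ?_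
  · intro 𝔭 h𝔭
    let x : X := hU.fromSpec ⟨𝔭, h𝔭⟩
    have hxU : x ∈ U := Groth.Agent.Lib.Helper2.QCoh.fromSpec_mem hU ⟨𝔭, h𝔭⟩
    obtain ⟨s', hs'⟩ := g.surjective x
    have hs'mem : s' ∈ g ⁻¹ᵁ U := by
      show g s' ∈ U
      rw [hs']; exact hxU
    rw [hcov] at hs'mem
    simp only [TopologicalSpace.Opens.mem_iSup] at hs'mem
    obtain ⟨W, hW, hs'W⟩ := hs'mem
    let j : Fin m := e ⟨W, hW⟩
    have hj : V' j = (W : X'.Opens) := by
      show ((e.symm (e ⟨W, hW⟩)).1 : X'.Opens) = W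
      rw [Equiv.symm_apply_apply]
    have hs'j : s' ∈ V' j := by rw [hj]; exact hs'W
    refine ⟨j, ((hV' j).primeIdealOf ⟨s', hs'j⟩).asIdeal, inferInstance, ?_⟩
    have h1 := IsAffineOpen.comap_primeIdealOf_appLE (f := g) U hU (V' j) (hV' j) (hV'le j) hs'j
    have h2 : hU.primeIdealOf ⟨g s', (hV'le j) hs'j⟩ = ⟨𝔭, h𝔭⟩ := by
      have := Groth.Agent.Lib.Helper2.QCoh.primeIdealOf_fromSpec hU ⟨𝔭, h𝔭⟩
      convert this using 2
      exact Subtype.ext hs'
    rw [h2] at h1
    exact congrArg PrimeSpectrum.asIdeal h1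
  · intro j
    have hclj : IsClosedImmersion (i' ∣_ V' j) :=
      isClosedImmersion_morphismRestrict_of_isPullback hsq.flip U (V' j) (hV'le j)
    have key := isKoszulRegularIdeal_ker_of_isRegularImmersion i' hi' (hV' j)
    rw [ker_app_eq hsq.flip hU (hV' j) (hV'le j)] at key
    exact key

end Groth.Agent.Lib.T2H7.RegImmDesc
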