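import Mathlib
import Groth.Agent.Lib.T2H7KRegN
import Groth.Agent.Lib.T2H7RegImmDesc
import Groth.Prelude.Def_RegImm

/-!
# Local complete intersection morphisms: affine-local form versus factorisation form (helper7)

`Plci` is the morphism property attached to the local ring hom property `KRegN.Q`
(`LCI.IsLCI` on all pairs of affine opens).  Smooth morphisms and Koszul-regular immersions are
`Plci`, and `forall_isKoszulAt_iff_plci`: a morphism is Koszul at every point
(`Synt.IsKoszulAt`, factorisation form) iff it is `Plci`.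
-/

set_option autoImplicit false

namespace Groth.Agent.Lib.T2H7.LCIMor
open AlgebraicGeometry CategoryTheory Limits
open Groth.Agent.Lib.T2H7.KRegN Groth.Agent.Lib.T2H7.KRegM Groth.Agent.Lib.T2H7.RegImmDesc
open Groth.Agent.Lib.T2H9.RegImmBC

universe u

/-- the affine-local form of local complete intersection morphisms -/
def Plci : MorphismProperty Scheme.{u} := affineLocally @Q

instance : HasRingHomProperty Plci @Q := ⟨Q_propertyIsLocal, rfl⟩

theorem plci_iff {X S : Scheme.{u}} (f : X ⟶ S) :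
    Plci f ↔ (∀ (U : X.Opens) (V : S.Opens) (hU : IsAffineOpen U) (hV : IsAffineOpen V)
      (hUV : U ≤ f ⁻¹ᵁ V),
        letI := (f.appLE V U hUV).hom.toAlgebra
        LCI.IsLCI Γ(S, V) Γ(X, U)) := by
  rw [HasRingHomProperty.iff_appLE (P := Plci)]
  constructor
  · intro h U V hU hV hUV
    exact h ⟨V, hV⟩ ⟨U, hU⟩ hUV
  · intro h V U e
    exact h U.1 V.1 U.2 V.2 e

instance : Plci.IsStableUnderComposition :=
  HasRingHomProperty.stableUnderComposition Q_comp

theorem Q_of_isStandardSmooth {R S : Type u} [CommRing R] [CommRing S] (f : R →+* S)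
    (h : f.IsStandardSmooth) : Q f :=
  @isLCI_of_isStandardSmooth R S _ _ f.toAlgebra h

theorem Q_of_smooth {R S : Type u} [CommRing R] [CommRing S] (f : R →+* S)
    (h : f.Smooth) : Q f := by
  rw [RingHom.smooth_iff_locally_isStandardSmooth] at h
  obtain ⟨s, hs, hst⟩ := h
  exact Q_ofLocalizationSpanTarget _ s hs (fun r => Q_of_isStandardSmooth _ (hst r r.2))

theorem plci_of_smooth {X S : Scheme.{u}} (f : X ⟶ S) [Smooth f] : Plci f := by
  rw [HasRingHomProperty.iff_appLE (P := Plci)]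
  intro V U e
  exact Q_of_smooth _ (f.smooth_appLE V.2 U.2 e)

/-- a Koszul-regular immersion is a local complete intersection morphism -/
theorem plci_of_koszulRegularImmersion {Z X : Scheme.{u}} (i : Z ⟶ X)
    (hi : RegImm.IsRegularImmersion .koszul i) : Plci i := by
  rw [HasRingHomProperty.iff_exists_appLE (P := Plci)
    Q_stableUnderCompositionWithLocalizationAway.left]
  intro z
  obtain ⟨U, hzU, hcl, rs, hrs, hker⟩ := hi.2 z
  have hV : IsAffineOpen (i ⁻¹ᵁ U.1) := isAffineOpen_preimage_of_restrict i U.2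
  refine ⟨U, ⟨i ⁻¹ᵁ U.1, hV⟩, hzU, le_rfl, ?_⟩
  have hsurj := app_surjective_of_restrict i U.2
  have h2 : (i.appLE U.1 (i ⁻¹ᵁ U.1) le_rfl).hom = (i.app U.1).hom := by
    rw [Scheme.Hom.appLE_eq_app]
  show Q (i.appLE U.1 (i ⁻¹ᵁ U.1) le_rfl).hom
  rw [h2]
  let _ := (i.app U.1).hom.toAlgebra
  refine isLCI_of_surjective (A := Γ(X, U.1)) (B := Γ(Z, i ⁻¹ᵁ U.1)) hsurj ?_
  show LCI.IsKoszulRegularIdeal (RingHom.ker (i.app U.1).hom)
  rw [hker]
  exact isKoszulRegularIdeal_ofList _ hrs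

/-- factorisation form implies affine-local form -/
theorem plci_of_forall_isKoszulAt {X Y : Scheme.{u}} (f : X ⟶ Y)
    (hf : ∀ x : X, Synt.IsKoszulAt f x) : Plci f := by
  choose U P i π hxU hft hi hπ hfac using hf
  refine IsZariskiLocalAtSource.of_iSup_eq_top (P := Plci.{u}) U ?_ fun x => ?_
  · rw [eq_top_iff]
    rintro x -
    exact TopologicalSpace.Opens.mem_iSup.2 ⟨x, hxU x⟩
  · rw [← hfac x]
    have := hπ x
    exact MorphismProperty.comp_mem _ _ _ (plci_of_koszulRegularImmersion (i x) (hi x))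
      (plci_of_smooth (π x))

/-- affine-local form implies factorisation form -/
theorem isKoszulAt_of_plci {X S : Scheme.{u}} (f : X ⟶ S) (hf : Plci f) (x : X) :
    Synt.IsKoszulAt f x := by
  obtain ⟨V, hV, hfxV⟩ : ∃ V : S.Opens, IsAffineOpen V ∧ f x ∈ V := by
    obtain ⟨V, hV, h, -⟩ := TopologicalSpace.Opens.isBasis_iff_nbhd.mp S.isBasis_affineOpens
      (TopologicalSpace.Opens.mem_top (f x))
    exact ⟨V, hV, h⟩
  obtain ⟨U, hU, hxU, e⟩ : ∃ U : X.Opens, IsAffineOpen U ∧ x ∈ U ∧ U ≤ f ⁻¹ᵁ V := by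
    obtain ⟨U, hU, h, e⟩ := TopologicalSpace.Opens.isBasis_iff_nbhd.mp X.isBasis_affineOpens
      (show x ∈ f ⁻¹ᵁ V from hfxV)
    exact ⟨U, hU, h, e⟩
  have hQ := HasRingHomProperty.appLE Plci f hf ⟨V, hV⟩ ⟨U, hU⟩ e
  let _ := (f.appLE V U e).hom.toAlgebra
  obtain ⟨ft, n, φ, hφ, hI⟩ := hQ
  let Pn : CommRingCat.{u} := CommRingCat.of (MvPolynomial (Fin n) Γ(S, V))
  let c : Γ(S, V) ⟶ Pn := CommRingCat.ofHom (MvPolynomial.C)
  let φc : Pn ⟶ Γ(X, U) := CommRingCat.ofHom φ.toRingHom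
  have hcφ : c ≫ φc = f.appLE V U e := by
    ext r
    exact φ.commutes r
  let i : (U : Scheme.{u}) ⟶ Spec Pn := hU.isoSpec.hom ≫ Spec.map φc
  let π : Spec Pn ⟶ S := Spec.map c ≫ hV.fromSpec
  have hfac : i ≫ π = U.ι ≫ f := by
    show (hU.isoSpec.hom ≫ Spec.map φc) ≫ Spec.map c ≫ hV.fromSpec = U.ι ≫ f
    rw [Category.assoc, ← Spec.map_comp_assoc, hcφ, IsAffineOpen.SpecMap_appLE_fromSpec f hV hU e,
      IsAffineOpen.isoSpec_hom_fromSpec_assoc]
  have hsm : Smooth π := by
    have h1 : Smooth (Spec.map c) := by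
      rw [HasRingHomProperty.Spec_iff (P := @Smooth)]
      show (algebraMap Γ(S, V) (MvPolynomial (Fin n) Γ(S, V))).Smooth
      rw [RingHom.smooth_algebraMap]
      exact ⟨inferInstance, inferInstance⟩
    infer_instance
  have hcl : IsClosedImmersion i := by
    have : IsClosedImmersion (Spec.map φc) := IsClosedImmersion.spec_of_surjective φc hφ
    infer_instance
  have hker : RingHom.ker (i.app ⊤).hom =
      (RingHom.ker φ.toRingHom).comap (Scheme.ΓSpecIso Pn).hom.hom := by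
    have h1 : i.app ⊤ = (Spec.map φc).app ⊤ ≫ hU.isoSpec.hom.app _ := Scheme.Hom.comp_app _ _ _
    have h2 : (Spec.map φc).appTop ≫ (Scheme.ΓSpecIso Γ(X, U)).hom =
        (Scheme.ΓSpecIso Pn).hom ≫ φc := Scheme.ΓSpecIso_naturality φc
    have inj1 : Function.Injective (hU.isoSpec.hom.app ((Spec.map φc) ⁻¹ᵁ ⊤)).hom :=
      (ConcreteCategory.bijective_of_isIso (hU.isoSpec.hom.app ((Spec.map φc) ⁻¹ᵁ ⊤))).1
    have inj2 : Function.Injective (Scheme.ΓSpecIso Γ(X, U)).hom.hom :=
      (ConcreteCategory.bijective_of_isIso (Scheme.ΓSpecIso Γ(X, U)).hom).1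
    ext a
    rw [RingHom.mem_ker, Ideal.mem_comap, RingHom.mem_ker]
    have e1 : (i.app ⊤).hom a = (hU.isoSpec.hom.app ((Spec.map φc) ⁻¹ᵁ ⊤)).hom
        (((Spec.map φc).app ⊤).hom a) := by
      rw [h1]; rfl
    have e2 : (Scheme.ΓSpecIso Γ(X, U)).hom.hom (((Spec.map φc).app ⊤).hom a) =
        φ.toRingHom ((Scheme.ΓSpecIso Pn).hom.hom a) := by
      have := congrArg (fun ψ => ψ.hom a) h2
      exact this
    rw [e1, ← e2]
    constructor
    · intro h
      have h' := inj1 (h.trans (map_zero _).symm)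
      rw [h']
      exact map_zero _
    · intro h
      have h' := inj2 (h.trans (map_zero _).symm)
      rw [h']
      exact map_zero _
  have hreg : RegImm.IsRegularImmersion .koszul i := by
    refine ⟨inferInstance, fun z => ?_⟩
    have hcl' : IsClosedImmersion (i ∣_ (⊤ : (Spec Pn).Opens)) :=
      IsZariskiLocalAtTarget.restrict hcl ⊤
    refine isRegularImmersionAt_of_isKoszulRegularIdeal i (isAffineOpen_top (Spec Pn)) ?_ z trivial
    rw [hker]
    exact Groth.Agent.Lib.T2H7.KRegI.isKoszulRegularIdeal_comap_of_bijective _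
      (ConcreteCategory.bijective_of_isIso (Scheme.ΓSpecIso Pn).hom) _ hI
  have hlft : LocallyOfFiniteType (U.ι ≫ f) := by
    rw [← hfac]
    infer_instance
  exact ⟨U, Spec Pn, i, π, hxU, hlft, hreg, hsm, hfac⟩

/-- the factorisation form and the affine-local form of local complete intersection morphisms
agree -/
theorem forall_isKoszulAt_iff_plci {X S : Scheme.{u}} (f : X ⟶ S) :
    (∀ x : X, Synt.IsKoszulAt f x) ↔ Plci f :=
  ⟨plci_of_forall_isKoszulAt f, fun h x => isKoszulAt_of_plci f h x⟩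

theorem isKoszulAt_comp {X Y Z : Scheme.{u}} (f : X ⟶ Y) (g : Y ⟶ Z)
    (hf : ∀ x : X, Synt.IsKoszulAt f x) (hg : ∀ y : Y, Synt.IsKoszulAt g y) :
    ∀ x : X, Synt.IsKoszulAt (f ≫ g) x := by
  rw [forall_isKoszulAt_iff_plci] at hf hg ⊢
  exact MorphismProperty.comp_mem _ _ _ hf hg

end Groth.Agent.Lib.T2H7.LCIMor
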