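import Mathlib
import Groth.Agent.Lib.T2H7LCIMor
import Groth.Agent.Lib.T2H7KRegO
import Groth.Agent.Lib.Helper5RegImm2

/-!
# Local complete intersection morphisms and smooth morphisms (helper7)

* `plci_of_comp_smooth`: if `f ≫ g` is a local complete intersection morphism and `g` is smooth
  then `f` is a local complete intersection morphism.
* `koszulRegularImmersion_of_plci`: an immersion which is a local complete intersection morphism
  is a Koszul-regular immersion.
* `koszulRegular_of_two_immersions`.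
-/

set_option autoImplicit false

namespace Groth.Agent.Lib.T2H7.LCIMorB
open AlgebraicGeometry CategoryTheory Limits
open Groth.Agent.Lib.T2H7.KRegN Groth.Agent.Lib.T2H7.KRegM Groth.Agent.Lib.T2H7.KRegO
open Groth.Agent.Lib.T2H7.RegImmDesc Groth.Agent.Lib.T2H7.LCIMor
open Groth.Agent.Lib.T2H9.RegImmBC

universe u

/-- cancelling a smooth morphism from a local complete intersection morphism -/
theorem plci_of_comp_smooth {X Y S : Scheme.{u}} (f : X ⟶ Y) (g : Y ⟶ S) [Smooth g]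
    (h : Plci (f ≫ g)) : Plci f := by
  rw [HasRingHomProperty.iff_exists_appLE (P := Plci)
    Q_stableUnderCompositionWithLocalizationAway.left]
  intro x
  obtain ⟨W, hW, V, hV, hyV, e, hstd⟩ := Smooth.exists_isStandardSmooth g (f x)
  obtain ⟨U, hU, hxU, eU⟩ : ∃ U : X.Opens, IsAffineOpen U ∧ x ∈ U ∧ U ≤ f ⁻¹ᵁ V := by
    obtain ⟨U, hU, h1, h2⟩ := TopologicalSpace.Opens.isBasis_iff_nbhd.mp X.isBasis_affineOpens
      (show x ∈ f ⁻¹ᵁ V from hyV)
    exact ⟨U, hU, h1, h2⟩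
  refine ⟨⟨V, hV⟩, ⟨U, hU⟩, hxU, eU, ?_⟩
  have eUW : U ≤ (f ≫ g) ⁻¹ᵁ W := by
    rw [Scheme.Hom.comp_preimage]
    exact eU.trans (f.preimage_mono e)
  have hQ := HasRingHomProperty.appLE Plci (f ≫ g) h ⟨W, hW⟩ ⟨U, hU⟩ eUW
  have hcomp : (f ≫ g).appLE W U eUW = g.appLE W V e ≫ f.appLE V U eU :=
    (Scheme.Hom.appLE_comp_appLE f g W V U e eU).symm
  rw [hcomp] at hQ
  exact Q_of_comp_isStandardSmooth _ _ hstd hQ

/-- an immersion which is a local complete intersection morphism is a Koszul-regular immersion -/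
theorem koszulRegularImmersion_of_plci {Z X : Scheme.{u}} (i : Z ⟶ X) [IsImmersion i]
    (h : Plci i) : RegImm.IsRegularImmersion .koszul i := by
  refine ⟨inferInstance, fun z => ?_⟩
  have hzc : i z ∈ i.coborderRange := subset_coborder ⟨z, rfl⟩
  obtain ⟨U, hU, hzU, hle⟩ : ∃ U : X.Opens, IsAffineOpen U ∧ i z ∈ U ∧ U ≤ i.coborderRange := by
    obtain ⟨U, hU, h1, h2⟩ :=
      TopologicalSpace.Opens.isBasis_iff_nbhd.mp X.isBasis_affineOpens hzc
    exact ⟨U, hU, h1, h2⟩
  have hcl : IsClosedImmersion (i ∣_ U) :=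
    Groth.Agent.Lib.Helper5.RegImm.isClosedImmersion_morphismRestrict_of_le_coborderRange i U hle
  refine isRegularImmersionAt_of_isKoszulRegularIdeal i hU ?_ z hzU
  have hV : IsAffineOpen (i ⁻¹ᵁ U) := isAffineOpen_preimage_of_restrict i hU
  have hsurj := app_surjective_of_restrict i hU
  have hQ := HasRingHomProperty.appLE Plci i h ⟨U, hU⟩ ⟨i ⁻¹ᵁ U, hV⟩ le_rfl
  have h2 : (i.appLE U (i ⁻¹ᵁ U) le_rfl).hom = (i.app U).hom := by
    rw [Scheme.Hom.appLE_eq_app]
  change Q (i.appLE U (i ⁻¹ᵁ U) le_rfl).hom at hQ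
  rw [h2] at hQ
  let _ := (i.app U).hom.toAlgebra
  exact isKoszulRegularIdeal_ker_of_isLCI (A := Γ(X, U)) (B := Γ(Z, i ⁻¹ᵁ U)) hsurj hQ

/-- two immersions of an open part of `U` into smooth `S`-schemes are Koszul-regular together -/
theorem koszulRegular_of_two_immersions {S U P P' : Scheme.{u}} (q : U ⟶ S)
    (p : P ⟶ S) (p' : P' ⟶ S) [Smooth p] [Smooth p'] (i : U ⟶ P) (i' : U ⟶ P')
    [IsImmersion i'] (hi : i ≫ p = q) (hi' : i' ≫ p' = q) (V : U.Opens)
    (h : RegImm.IsRegularImmersion .koszul (V.ι ≫ i)) :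
    RegImm.IsRegularImmersion .koszul (V.ι ≫ i') := by
  have h1 := plci_of_koszulRegularImmersion _ h
  have h2 : Plci ((V.ι ≫ i) ≫ p) := MorphismProperty.comp_mem _ _ _ h1 (plci_of_smooth p)
  have h3 : (V.ι ≫ i) ≫ p = (V.ι ≫ i') ≫ p' := by
    rw [Category.assoc, Category.assoc, hi, hi']
  rw [h3] at h2
  exact koszulRegularImmersion_of_plci (V.ι ≫ i') (plci_of_comp_smooth _ p' h2)

end Groth.Agent.Lib.T2H7.LCIMorB
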