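import Mathlib
import Groth.Agent.Lib.T2H7LCIMorB
import Groth.Agent.Lib.T2H7LCIDesc
import Groth.Agent.Lib.Helper12LocPGen
import Groth.Agent.S9947
import Groth.Prelude.Def_AlgSpMor6

/-!
# Local complete intersection morphisms of algebraic spaces (helper7)

* `lci_eq_plci`: the prelude's `AlgSp.lci` (Koszul at every point) is the affine-local `Plci`.
* `plci_descendsAlong_fpqc`, `plci_descendsAlong_fppf`: descent of `Plci` along flat covers of the
  target.
* `etale_of_repEtale`, `isLCIMor_of_regImm`, `isLCIMor_yon_map_iff`, `isLCIMor_of_comp_smooth`,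
  `isLCIMor_precomp_isEtaleMor`, `regImm_of_lci_immersion_into_smooth`.
-/

set_option autoImplicit false

namespace Groth.Agent.Lib.T2H7.LCISp
open AlgebraicGeometry CategoryTheory Limits
open Groth.Agent.Lib.T2H7.LCIMor Groth.Agent.Lib.T2H7.LCIMorB Groth.Agent.Lib.T2H7.LCIDesc

universe u

/-- the prelude's factorisation form of lci morphisms of schemes is the affine-local one -/
theorem lci_eq_plci : (AlgSp.lci : MorphismProperty Scheme.{u}) = Plci := by
  ext X Y f
  exact forall_isKoszulAt_iff_plci f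

instance plci_descendsAlong_fpqc :
    MorphismProperty.DescendsAlong (Plci.{u}) (@Surjective ⊓ @Flat ⊓ @QuasiCompact) where
  of_isPullback {A X Y Z fst snd f g} h hf hfst := by
    have := hf.1.1
    have := hf.1.2
    have := hf.2
    rw [plci_iff] at hfst ⊢
    exact lci_descent g fst snd f h.flip hfst

instance plci_descendsAlong_fppf :
    MorphismProperty.DescendsAlong (Plci.{u})
      (@Surjective ⊓ @Flat ⊓ @LocallyOfFinitePresentation) := inferInstance

theorem plci_of_etale {A B : Scheme.{u}} (g : A ⟶ B) (hg : Etale g) : Plci g :=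
  plci_of_smooth g

theorem plci_cancel_etale {A B C : Scheme.{u}} (m : A ⟶ B) (k : B ⟶ C) (hk : Etale k)
    (h : Plci (m ≫ k)) : Plci m :=
  plci_of_comp_smooth m k h

variable {S : Scheme.{u}}

theorem locP_cancel_repEtale (P : MorphismProperty Scheme.{u}) {A B C : AlgSp.Sp S} (h : A ⟶ B)
    (j : B ⟶ C) (hj : AlgSp.RepWith @Etale j) (hhj : AlgSp.LocP P (h ≫ j)) : AlgSp.LocP P h := by
  intro U V a b k ha hb hcomm
  exact hhj a (b ≫ j) k ha ((AlgSp.RepWith @Etale).comp_mem _ _ hb hj)
    (by rw [← Category.assoc, hcomm, Category.assoc])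

/-- a morphism of schemes between two representable etale charts of a sheaf is etale -/
theorem etale_of_repEtale {U W : Over S} {X : AlgSp.Sp S} (a : (AlgSp.yon S).obj U ⟶ X)
    (p : (AlgSp.yon S).obj W ⟶ X) (μ : U ⟶ W) (ha : AlgSp.RepWith @Etale a)
    (hp : AlgSp.RepWith @Etale p) (h : (AlgSp.yon S).map μ ≫ p = a) : Etale μ.left := by
  have h1 : AlgSp.LocP @Etale ((AlgSp.yon S).map μ ≫ p) := by
    rw [h]
    exact Groth.Agent.S9947.locP_of_repWith_etale @Etale (fun g hg => hg) a ha
  exact AlgSp.locP_yon_map (locP_cancel_repEtale @Etale _ p hp h1)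

/-- S10665 -/
theorem isLCIMor_of_regImm {X Y : AlgSp.Sp S} (i : X ⟶ Y)
    (hi : AlgSp.IsRegImmMor RegImm.Kind.koszul i) : AlgSp.IsLCIMor i := by
  intro U V a b h ha hb hcomm
  have hr : AlgSp.Representable i := hi.1
  have sq : IsPullback (hr.fst b) ((AlgSp.yon S).map (hr.snd b)) i b := hr.isPullback b
  have hsnd : RegImm.IsRegularImmersion .koszul (hr.snd b).left := hi.2 b _ _ hb sq
  obtain ⟨μ, hμ⟩ := (AlgSp.yon S).map_surjective (sq.lift a ((AlgSp.yon S).map h) hcomm)
  have h1 : (AlgSp.yon S).map μ ≫ hr.fst b = a := by rw [hμ]; exact sq.lift_fst _ _ _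
  have h2 : μ ≫ hr.snd b = h := (AlgSp.yon S).map_injective (by
    rw [Functor.map_comp, hμ]; exact sq.lift_snd _ _ _)
  have hfst : AlgSp.RepWith @Etale (hr.fst b) :=
    MorphismProperty.of_isPullback (P := AlgSp.RepWith @Etale) sq.flip hb
  have hμe : Etale μ.left := etale_of_repEtale a _ μ ha hfst h1
  show AlgSp.lci h.left
  rw [lci_eq_plci, ← h2, Over.comp_left]
  exact Plci.comp_mem _ _ (plci_of_smooth μ.left) (plci_of_koszulRegularImmersion _ hsnd)

/-- S17308 core -/
theorem isLCIMor_yon_map_iff {A B : Over S} (m : A ⟶ B) :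
    AlgSp.IsLCIMor ((AlgSp.yon S).map m) ↔ ∀ x : ↥A.left, Synt.IsKoszulAt m.left x := by
  constructor
  · intro h
    exact AlgSp.locP_yon_map h
  · intro h
    have h' : AlgSp.lci m.left := h
    rw [lci_eq_plci] at h'
    show AlgSp.LocP AlgSp.lci _
    rw [lci_eq_plci]
    exact Groth.Agent.Lib.Helper12.LocPGen.locP_yon_map_of Plci
      (fun g hg => plci_of_etale g hg) (fun u k hk h => plci_cancel_etale u k hk h) m h'

/-- S10666 core: cancel a smooth morphism on the right -/
theorem isLCIMor_of_comp_smooth {X Y Z : AlgSp.Sp S} (hZ : AlgSp.IsAlgSpace Z) (f : X ⟶ Y)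
    (q : Y ⟶ Z) (hq : AlgSp.LocP @Smooth q) (hp : AlgSp.IsLCIMor (f ≫ q)) :
    AlgSp.IsLCIMor f := by
  intro U V a b h ha hb hcomm
  obtain ⟨T, c, hce, hcs⟩ := hZ.atlas
  obtain ⟨V', π, κ', sqV⟩ := hce.1 (b ≫ q)
  obtain ⟨κ, rfl⟩ := (AlgSp.yon S).map_surjective κ'
  have hπe : Etale π.left := hce.2 _ _ π sqV
  have hπs : Surjective π.left := hcs.2 _ _ π sqV
  have hπb : AlgSp.RepWith @Etale ((AlgSp.yon S).map π ≫ b) :=
    (AlgSp.RepWith @Etale).comp_mem _ _ ((AlgSp.repWith_yon_map_iff _ _).2 hπe) hb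
  have hκ : Smooth κ.left := hq ((AlgSp.yon S).map π ≫ b) c κ hπb hce (by
    rw [Category.assoc]; exact sqV.w.symm)
  have hfe : Etale (pullback.fst h π).left := by
    have hsq : IsPullback (pullback.fst h π).left (pullback.snd h π).left h.left π.left :=
      (IsPullback.of_hasPullback h π).map (Over.forget S)
    exact MorphismProperty.of_isPullback (P := @Etale) hsq.flip hπe
  have ha' : AlgSp.RepWith @Etale ((AlgSp.yon S).map (pullback.fst h π) ≫ a) :=
    (AlgSp.RepWith @Etale).comp_mem _ _ ((AlgSp.repWith_yon_map_iff _ _).2 hfe) ha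
  have hlci : AlgSp.lci (pullback.snd h π ≫ κ).left :=
    hp ((AlgSp.yon S).map (pullback.fst h π) ≫ a) c (pullback.snd h π ≫ κ) ha' hce (by
      rw [Category.assoc, ← Category.assoc a, hcomm, Category.assoc, ← Category.assoc,
        ← Functor.map_comp, pullback.condition, Functor.map_comp, Category.assoc, sqV.w.symm,
        Functor.map_comp, Category.assoc])
  rw [lci_eq_plci, Over.comp_left] at hlci
  have h1 : Plci (pullback.snd h π).left := plci_of_comp_smooth _ κ.left hlci
  have hsq : IsPullback (pullback.fst h π).left (pullback.snd h π).left h.left π.left :=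
    (IsPullback.of_hasPullback h π).map (Over.forget S)
  have hπQ : (@Surjective ⊓ @Flat ⊓ @LocallyOfFinitePresentation : MorphismProperty Scheme.{u})
      π.left := ⟨⟨inferInstance, inferInstance⟩, inferInstance⟩
  show AlgSp.lci h.left
  rw [lci_eq_plci]
  exact MorphismProperty.of_isPullback_of_descendsAlong (P := Plci)
      (Q := @Surjective ⊓ @Flat ⊓ @LocallyOfFinitePresentation) hsq.flip hπQ h1

/-- precomposing an lci morphism with an etale morphism of sheaves -/
theorem isLCIMor_precomp_isEtaleMor {U X Y : AlgSp.Sp S} (e : U ⟶ X) (f : X ⟶ Y)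
    (he : AlgSp.IsEtaleMor e) (hf : AlgSp.IsLCIMor f) : AlgSp.IsLCIMor (e ≫ f) := by
  intro A C a c h ha hc hcomm
  exact hf (a ≫ e) c h (he a ha) hc (by rw [Category.assoc]; exact hcomm)

/-- S10664 core -/
theorem regImm_of_lci_immersion_into_smooth {X Y P U : AlgSp.Sp S} (hY : AlgSp.IsAlgSpace Y)
    (f : X ⟶ Y) (g : P ⟶ Y) (e : U ⟶ X) (i : U ⟶ P)
    (hc : i ≫ g = e ≫ f) (hf : AlgSp.IsLCIMor f) (hg : AlgSp.LocP @Smooth g)
    (he : AlgSp.IsEtaleMor e) (hi : AlgSp.RepWith @IsImmersion i) :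
    AlgSp.IsRegImmMor RegImm.Kind.koszul i := by
  have hlci : AlgSp.IsLCIMor i :=
    isLCIMor_of_comp_smooth hY i g hg (by rw [hc]; exact isLCIMor_precomp_isEtaleMor e f he hf)
  refine ⟨hi.1, ?_⟩
  intro V W b fst snd hb sq
  have himm : IsImmersion snd.left := hi.2 b fst snd sq
  have hfst : AlgSp.RepWith @Etale fst :=
    MorphismProperty.of_isPullback (P := AlgSp.RepWith @Etale) sq.flip hb
  have h1 : AlgSp.lci snd.left := hlci fst b snd hfst hb sq.w
  rw [lci_eq_plci] at h1
  exact koszulRegularImmersion_of_plci snd.left h1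

end Groth.Agent.Lib.T2H7.LCISp
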