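import Mathlib
import Groth.Agent.Lib.T2H7LCISp

/-!
# Source descent of lci morphisms, part A (helper7)

`exists_opens_plci`, `exists_opens_plci'`: if the base change of `i : Y ⟶ P` along a flat, locally
finitely presented `p : P' ⟶ P` becomes lci over `Z` (with `P ⟶ Z` and `P' ⟶ Z` smooth), then
`i ≫ π` is lci over the open image of `p`.
-/

set_option autoImplicit false

namespace Groth.Agent.Lib.T2H7.SrcDescA
open AlgebraicGeometry CategoryTheory Limits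
open Groth.Agent.Lib.T2H7.LCIMor Groth.Agent.Lib.T2H7.LCIMorB Groth.Agent.Lib.T2H7.LCISp

universe u

/-- open immersions are local complete intersection morphisms -/
theorem plci_of_isOpenImmersion {X Y : Scheme.{u}} (j : X ⟶ Y) [IsOpenImmersion j] : Plci j :=
  plci_of_smooth j

/-- Key descent lemma: if the base change of `i` along a flat, locally finitely presented `p`
becomes lci over `Z` (with `P' ⟶ Z` smooth), then `i ≫ π` is lci over the open image of `p`. -/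
theorem exists_opens_plci {Y P Z P' Y' : Scheme.{u}} (i : Y ⟶ P) (π : P ⟶ Z) [Smooth π]
    (p : P' ⟶ P) [Flat p] [LocallyOfFinitePresentation p] [Smooth (p ≫ π)]
    (q : Y' ⟶ Y) (i' : Y' ⟶ P') (sq : IsPullback q i' i p) (h : Plci (q ≫ i ≫ π)) :
    ∃ W : P.Opens, Set.range p ⊆ (W : Set P) ∧ Plci ((i ⁻¹ᵁ W).ι ≫ i ≫ π) := by
  have h1 : Plci i' := by
    refine plci_of_comp_smooth i' (p ≫ π) ?_
    rw [← sq.w_assoc]
    exact h
  let W : P.Opens := ⟨Set.range p, p.isOpenMap.isOpen_range⟩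
  refine ⟨W, le_rfl, ?_⟩
  -- factor `p` through `W`
  let p₀ : P' ⟶ W := IsOpenImmersion.lift W.ι p (by simp [W])
  have hp₀ : p₀ ≫ W.ι = p := IsOpenImmersion.lift_fac _ _ _
  have hfl : Flat p₀ := MorphismProperty.of_postcomp (W := @Flat) (W' := @IsOpenImmersion) p₀ W.ι
    inferInstance (by rw [hp₀]; infer_instance)
  have hfp : LocallyOfFinitePresentation p₀ :=
    MorphismProperty.of_postcomp (W := @LocallyOfFinitePresentation) (W' := @IsOpenImmersion)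
      p₀ W.ι inferInstance (by rw [hp₀]; infer_instance)
  have hsurj : Surjective p₀ := by
    refine ⟨fun w => ?_⟩
    obtain ⟨x, hx⟩ : W.ι w ∈ Set.range p := w.2
    refine ⟨x, ?_⟩
    apply W.ι.isOpenEmbedding.injective
    rw [← Scheme.Hom.comp_apply, hp₀]
    exact hx
  -- the restriction of `i` over `W`
  have sqW : IsPullback (i ⁻¹ᵁ W).ι (i ∣_ W) i W.ι := (isPullback_morphismRestrict i W).flip
  have hw : q ≫ i = (i' ≫ p₀) ≫ W.ι := by rw [Category.assoc, hp₀, sq.w]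
  let r : Y' ⟶ (i ⁻¹ᵁ W).toScheme := sqW.lift q (i' ≫ p₀) hw
  have hr1 : r ≫ (i ⁻¹ᵁ W).ι = q := sqW.lift_fst _ _ _
  have hr2 : r ≫ (i ∣_ W) = i' ≫ p₀ := sqW.lift_snd _ _ _
  have left : IsPullback r i' (i ∣_ W) p₀ := by
    refine IsPullback.of_right ?_ hr2 sqW
    rw [hr1, hp₀]
    exact sq
  have h2 : Plci (i ∣_ W) :=
    MorphismProperty.of_isPullback_of_descendsAlong (P := Plci)
      (Q := @Surjective ⊓ @Flat ⊓ @LocallyOfFinitePresentation) left.flip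
      ⟨⟨hsurj, hfl⟩, hfp⟩ h1
  have h3 : (i ⁻¹ᵁ W).ι ≫ i ≫ π = (i ∣_ W) ≫ (W.ι ≫ π) := by
    rw [← Category.assoc, sqW.w, Category.assoc]
  rw [h3]
  exact Plci.comp_mem _ _ h2 (plci_of_smooth (W.ι ≫ π))

/-- open version of `exists_opens_plci` -/
theorem exists_opens_plci' {Y P Z P' Y' : Scheme.{u}} (i : Y ⟶ P) (π : P ⟶ Z) [Smooth π]
    (p : P' ⟶ P) [Flat p] [LocallyOfFinitePresentation p] [Smooth (p ≫ π)]
    (q : Y' ⟶ Y) (i' : Y' ⟶ P') (sq : IsPullback q i' i p) (W' : P'.Opens)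
    (h : Plci ((i' ⁻¹ᵁ W').ι ≫ q ≫ i ≫ π)) :
    ∃ W : P.Opens, p '' (W' : Set P') ⊆ (W : Set P) ∧ Plci ((i ⁻¹ᵁ W).ι ≫ i ≫ π) := by
  have sqW' : IsPullback (i' ⁻¹ᵁ W').ι (i' ∣_ W') i' W'.ι := (isPullback_morphismRestrict i' W').flip
  have sq₁ : IsPullback ((i' ⁻¹ᵁ W').ι ≫ q) (i' ∣_ W') i (W'.ι ≫ p) := sqW'.paste_horiz sq
  have : Smooth ((W'.ι ≫ p) ≫ π) := by rw [Category.assoc]; infer_instance
  obtain ⟨W, hW, hP⟩ := exists_opens_plci i π (W'.ι ≫ p) ((i' ⁻¹ᵁ W').ι ≫ q) (i' ∣_ W') sq₁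
    (by rw [Category.assoc]; exact h)
  refine ⟨W, ?_, hP⟩
  rintro _ ⟨x, hx, rfl⟩
  apply hW
  exact ⟨⟨x, hx⟩, by simp⟩

end Groth.Agent.Lib.T2H7.SrcDescA
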