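import Mathlib
import Groth.Agent.Lib.T2H7SrcDescA
import Groth.Agent.Lib.T2H7SrcDescB

/-!
# Source descent of lci morphisms, part C (helper7)

`exists_opens_plci_affine`: the affine form of `SrcDescA.exists_opens_plci'`, for a pushout square
of rings.
-/

set_option autoImplicit false

namespace Groth.Agent.Lib.T2H7.SrcDescC
open AlgebraicGeometry CategoryTheory Limits CommRingCat
open Groth.Agent.Lib.T2H7.LCIMor Groth.Agent.Lib.T2H7.LCIMorB Groth.Agent.Lib.T2H7.LCISp
open Groth.Agent.Lib.T2H7.SrcDescA Groth.Agent.Lib.T2H7.SrcDescB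
open scoped TensorProduct

universe u

/-- affine form of the descent lemma -/
theorem exists_opens_plci_affine {C R B R' T : Type u} [CommRing C] [CommRing R] [CommRing B]
    [CommRing R'] [CommRing T]
    (c : C →+* R) (b : R →+* B) (r : R →+* R') (inl : B →+* T) (inr : R' →+* T)
    (hpo : IsPushout (ofHom b) (ofHom r) (ofHom inl) (ofHom inr))
    (hc : c.Smooth) (hrf : r.Flat) (hrp : r.FinitePresentation) (hcr : (r.comp c).Smooth)
    (W' : (Spec (.of R')).Opens)
    (h : Plci (((Spec.map (ofHom inr)) ⁻¹ᵁ W').ι ≫ Spec.map (ofHom (inl.comp (b.comp c))))) :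
    ∃ W : (Spec (.of B)).Opens,
      (Spec.map (ofHom inl)) '' (((Spec.map (ofHom inr)) ⁻¹ᵁ W' : (Spec (.of T)).Opens) : Set _)
        ⊆ (W : Set _) ∧
      Plci (W.ι ≫ Spec.map (ofHom (b.comp c))) := by
  have hπ : Smooth (Spec.map (ofHom c)) := (HasRingHomProperty.Spec_iff (P := @Smooth)).mpr hc
  have hp1 : Flat (Spec.map (ofHom r)) := (HasRingHomProperty.Spec_iff (P := @Flat)).mpr hrf
  have hp2 : LocallyOfFinitePresentation (Spec.map (ofHom r)) :=
    (HasRingHomProperty.Spec_iff (P := @LocallyOfFinitePresentation)).mpr hrp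
  have hp3 : Smooth (Spec.map (ofHom r) ≫ Spec.map (ofHom c)) := by
    rw [← Spec.map_comp, ← ofHom_comp]
    exact (HasRingHomProperty.Spec_iff (P := @Smooth)).mpr hcr
  have sq : IsPullback (Spec.map (ofHom inl)) (Spec.map (ofHom inr)) (Spec.map (ofHom b))
      (Spec.map (ofHom r)) := isPullback_SpecMap_of_isPushout _ _ _ _ hpo
  have h' : Plci (((Spec.map (ofHom inr)) ⁻¹ᵁ W').ι ≫ Spec.map (ofHom inl) ≫
      Spec.map (ofHom b) ≫ Spec.map (ofHom c)) := by
    rw [← Spec.map_comp, ← Spec.map_comp, ← ofHom_comp, ← ofHom_comp]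
    exact h
  obtain ⟨WP, hWP, hP⟩ := exists_opens_plci' (Spec.map (ofHom b)) (Spec.map (ofHom c))
    (Spec.map (ofHom r)) (Spec.map (ofHom inl)) (Spec.map (ofHom inr)) sq W' h'
  refine ⟨(Spec.map (ofHom b)) ⁻¹ᵁ WP, ?_, ?_⟩
  · rintro _ ⟨y, hy, rfl⟩
    show (Spec.map (ofHom b)) ((Spec.map (ofHom inl)) y) ∈ WP
    rw [← Scheme.Hom.comp_apply, sq.w, Scheme.Hom.comp_apply]
    exact hWP ⟨_, hy, rfl⟩
  · rw [← Spec.map_comp, ← ofHom_comp] at hP
    exact hP

end Groth.Agent.Lib.T2H7.SrcDescC
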