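import Mathlib
import Groth.Agent.Lib.T2H7SrcDescC

/-!
# Source descent of lci morphisms, part D (helper7)

`etale_step`: descent along a standard etale algebra; `poly_step`: descent along a polynomial
algebra.
-/

set_option autoImplicit false

namespace Groth.Agent.Lib.T2H7.SrcDescD
open AlgebraicGeometry CategoryTheory Limits CommRingCat
open Groth.Agent.Lib.T2H7.LCIMor Groth.Agent.Lib.T2H7.LCIMorB Groth.Agent.Lib.T2H7.LCISp
open Groth.Agent.Lib.T2H7.SrcDescA Groth.Agent.Lib.T2H7.SrcDescB Groth.Agent.Lib.T2H7.SrcDescC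
open scoped TensorProduct

universe u

/-- the etale step -/
theorem etale_step {C B A : Type u} [CommRing C] [CommRing B] [CommRing A] [Algebra C B]
    [Algebra B A] [Algebra C A] [IsScalarTower C B A]
    [Algebra.FiniteType C B] [Algebra.IsStandardEtale B A]
    (h : Plci (Spec.map (ofHom (algebraMap C A)))) :
    ∃ W : (Spec (.of B)).Opens,
      Set.range (Spec.map (ofHom (algebraMap B A))) ⊆ (W : Set _) ∧
      Plci (W.ι ≫ Spec.map (ofHom (algebraMap C B))) := by
  obtain ⟨n, f, hf⟩ := Algebra.FiniteType.iff_quotient_mvPolynomial''.mp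
    (inferInstance : Algebra.FiniteType C B)
  let R := MvPolynomial (Fin n) C
  let _ : Algebra R B := f.toRingHom.toAlgebra
  have hs : Function.Surjective (algebraMap R B) := hf
  obtain ⟨P', ⟨e⟩⟩ := exists_lift_standardEtale (R := R) (B := B) (A := A) hs
  let inr : P'.Ring →+* A :=
    (e.symm : B ⊗[R] P'.Ring →+* A).comp Algebra.TensorProduct.includeRight.toRingHom
  have hpo : IsPushout (ofHom (algebraMap R B)) (ofHom (algebraMap R P'.Ring))
      (ofHom (algebraMap B A)) (ofHom inr) := by
    refine IsPushout.of_iso (isPushout_tensorProduct R B P'.Ring) (Iso.refl _) (Iso.refl _)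
      (Iso.refl _) (e.symm.toRingEquiv.toCommRingCatIso) (by simp) (by simp) ?_ ?_
    · ext x
      show e.symm (x ⊗ₜ[R] 1) = (algebraMap B A) x
      have h1 : (x ⊗ₜ[R] (1 : P'.Ring)) = algebraMap B (B ⊗[R] P'.Ring) x :=
        (Algebra.TensorProduct.algebraMap_apply (R := R) (S := B) (A := B) (B := P'.Ring) x).symm
      rw [h1, e.symm.commutes]
    · ext x
      simp [inr]
  have hsm : Algebra.Smooth C R :=
    ⟨inferInstanceAs (Algebra.FormallySmooth C (MvPolynomial (Fin n) C)),
      inferInstanceAs (Algebra.FinitePresentation C (MvPolynomial (Fin n) C))⟩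
  have hc : (algebraMap C R).Smooth := RingHom.smooth_algebraMap.mpr hsm
  have hrf : (algebraMap R P'.Ring).Flat := RingHom.flat_algebraMap_iff.mpr inferInstance
  have hrp : (algebraMap R P'.Ring).FinitePresentation :=
    RingHom.finitePresentation_algebraMap.mpr inferInstance
  have hrs : (algebraMap R P'.Ring).Smooth := RingHom.smooth_algebraMap.mpr inferInstance
  have hcr : ((algebraMap R P'.Ring).comp (algebraMap C R)).Smooth := hc.comp hrs
  have hcomp : (algebraMap B A).comp ((algebraMap R B).comp (algebraMap C R)) = algebraMap C A := by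
    ext x
    have h1 : (algebraMap R B) ((algebraMap C R) x) = algebraMap C B x := f.commutes x
    simp only [RingHom.comp_apply]
    rw [h1, ← IsScalarTower.algebraMap_apply C B A]
  obtain ⟨W, hW, hP⟩ := exists_opens_plci_affine (algebraMap C R) (algebraMap R B)
    (algebraMap R P'.Ring) (algebraMap B A) inr hpo hc hrf hrp hcr ⊤ (by
      rw [hcomp]
      exact Plci.comp_mem _ _ (plci_of_isOpenImmersion _) h)
  have hcb : (algebraMap R B).comp (algebraMap C R) = algebraMap C B := by
    ext x
    exact f.commutes x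
  rw [hcb] at hP
  refine ⟨W, ?_, hP⟩
  rintro _ ⟨y, rfl⟩
  exact hW ⟨y, trivial, rfl⟩

attribute [local instance] MvPolynomial.algebraMvPolynomial

/-- the polynomial step -/
theorem poly_step {C B : Type u} [CommRing C] [CommRing B] [Algebra C B]
    [Algebra.FiniteType C B] (m : ℕ)
    (W' : (Spec (.of (MvPolynomial (Fin m) B))).Opens)
    (h : Plci (W'.ι ≫ Spec.map (ofHom ((algebraMap B (MvPolynomial (Fin m) B)).comp
      (algebraMap C B))))) :
    ∃ W : (Spec (.of B)).Opens,
      (Spec.map (ofHom (algebraMap B (MvPolynomial (Fin m) B)))) '' (W' : Set _) ⊆ (W : Set _) ∧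
      Plci (W.ι ≫ Spec.map (ofHom (algebraMap C B))) := by
  obtain ⟨n, f, hf⟩ := Algebra.FiniteType.iff_quotient_mvPolynomial''.mp
    (inferInstance : Algebra.FiniteType C B)
  let R := MvPolynomial (Fin n) C
  let _ : Algebra R B := f.toRingHom.toAlgebra
  have hs : Function.Surjective (algebraMap R B) := hf
  let R' := MvPolynomial (Fin m) R
  let T := MvPolynomial (Fin m) B
  have hpo : IsPushout (ofHom (algebraMap R B)) (ofHom (algebraMap R R'))
      (ofHom (algebraMap B T)) (ofHom (algebraMap R' T)) :=
    isPushout_of_isPushout R B R' T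
  have hsm : Algebra.Smooth C R :=
    ⟨inferInstanceAs (Algebra.FormallySmooth C (MvPolynomial (Fin n) C)),
      inferInstanceAs (Algebra.FinitePresentation C (MvPolynomial (Fin n) C))⟩
  have hsm' : Algebra.Smooth R R' :=
    ⟨inferInstanceAs (Algebra.FormallySmooth R (MvPolynomial (Fin m) R)),
      inferInstanceAs (Algebra.FinitePresentation R (MvPolynomial (Fin m) R))⟩
  have hc : (algebraMap C R).Smooth := RingHom.smooth_algebraMap.mpr hsm
  have hrf : (algebraMap R R').Flat := RingHom.flat_algebraMap_iff.mpr inferInstance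
  have hrp : (algebraMap R R').FinitePresentation :=
    RingHom.finitePresentation_algebraMap.mpr inferInstance
  have hrs : (algebraMap R R').Smooth := RingHom.smooth_algebraMap.mpr hsm'
  have hcr : ((algebraMap R R').comp (algebraMap C R)).Smooth := hc.comp hrs
  have hcb : (algebraMap R B).comp (algebraMap C R) = algebraMap C B := by
    ext x
    exact f.commutes x
  have hsurj : Function.Surjective (algebraMap R' T) := by
    rw [MvPolynomial.algebraMap_def]
    exact MvPolynomial.map_surjective _ hs
  have hcl : IsClosedImmersion (Spec.map (ofHom (algebraMap R' T))) :=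
    IsClosedImmersion.spec_of_surjective _ hsurj
  obtain ⟨t, ht, hpre⟩ := (Spec.map (ofHom (algebraMap R' T))).isEmbedding.isInducing.isOpen_iff.mp
    W'.isOpen
  let WR : (Spec (.of R')).Opens := ⟨t, ht⟩
  have hWR : (Spec.map (ofHom (algebraMap R' T))) ⁻¹ᵁ WR = W' :=
    TopologicalSpace.Opens.ext hpre
  obtain ⟨W, hW, hP⟩ := exists_opens_plci_affine (algebraMap C R) (algebraMap R B)
    (algebraMap R R') (algebraMap B T) (algebraMap R' T) hpo hc hrf hrp hcr WR (by
      rw [hWR, hcb]
      exact h)
  rw [hcb] at hP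
  rw [hWR] at hW
  exact ⟨W, hW, hP⟩

end Groth.Agent.Lib.T2H7.SrcDescD
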