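import Mathlib
import Groth.Agent.Lib.T2H7SrcDescD
import Groth.Agent.Lib.Helper12SmoothSrc2

/-!
# Source descent of lci morphisms, part E (helper7)

* `main_ring`: if `C → B → A₁` with `B → A₁` smooth and `C → A₁` lci, then `C → B_b` is lci for some
  `b` outside the contraction of any given prime of `A₁`.
* `Q_of_smooth_surjective`, `plci_of_smooth_cover_source`: lci morphisms descend along smooth
  covers of the source.
-/

set_option autoImplicit false

namespace Groth.Agent.Lib.T2H7.SrcDescE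
open AlgebraicGeometry CategoryTheory Limits CommRingCat
open Groth.Agent.Lib.T2H7.LCIMor Groth.Agent.Lib.T2H7.LCIMorB Groth.Agent.Lib.T2H7.LCISp
open Groth.Agent.Lib.T2H7.SrcDescA Groth.Agent.Lib.T2H7.SrcDescD Groth.Agent.Lib.T2H7.KRegN
open scoped TensorProduct

universe u

theorem plci_spec_iff {R S : Type u} [CommRing R] [CommRing S] (φ : R →+* S) :
    Plci (Spec.map (ofHom φ)) ↔ Q φ :=
  HasRingHomProperty.Spec_iff (P := Plci)

/-- ring-level source descent along a smooth map, near a point in the image -/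
theorem main_ring {C B A₁ : Type u} [CommRing C] [CommRing B] [CommRing A₁] [Algebra C B]
    [Algebra B A₁] [Algebra C A₁] [IsScalarTower C B A₁]
    [Algebra.FiniteType C B] [Algebra.Smooth B A₁] (h : LCI.IsLCI C A₁) (𝔭 : Ideal A₁)
    [𝔭.IsPrime] :
    ∃ b : B, b ∉ 𝔭.comap (algebraMap B A₁) ∧ LCI.IsLCI C (Localization.Away b) := by
  have : Algebra.FinitePresentation B A₁ := Algebra.Smooth.finitePresentation
  obtain ⟨f, hf, n, alg, htow, hstd⟩ :=
    Algebra.IsSmoothAt.exists_isStandardEtale_mvPolynomial (R := B) (S := A₁) (p := 𝔭)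
  let A := Localization.Away f
  let Bt := MvPolynomial (Fin n) B
  have htowC : IsScalarTower C Bt A := by
    refine IsScalarTower.of_algebraMap_eq' ?_
    rw [IsScalarTower.algebraMap_eq C A₁ A, IsScalarTower.algebraMap_eq C B A₁,
      ← RingHom.comp_assoc, ← IsScalarTower.algebraMap_eq B A₁ A,
      IsScalarTower.algebraMap_eq B Bt A, RingHom.comp_assoc,
      ← IsScalarTower.algebraMap_eq C B Bt]
  have hft : Algebra.FiniteType C Bt := Algebra.FiniteType.trans (S := B) inferInstance inferInstance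
  -- `C → A` is lci
  have hQ1 : Q (algebraMap C A₁) := Q_algebraMap_iff.mpr h
  have hQ2 : Q (algebraMap A₁ A) := Q_holdsForLocalizationAway (R := A₁) (S := A) f
  have hQ : Q (algebraMap C A) := by
    rw [IsScalarTower.algebraMap_eq C A₁ A]
    exact Q_comp _ _ hQ1 hQ2
  have h' : Plci (Spec.map (ofHom (algebraMap C A))) := (plci_spec_iff _).mpr hQ
  obtain ⟨W', hW', hP'⟩ := etale_step (C := C) (B := Bt) (A := A) h'
  obtain ⟨W, hW, hP⟩ := poly_step (C := C) (B := B) n W' (by
    rw [← IsScalarTower.algebraMap_eq C B Bt]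
    exact hP')
  -- the prime of `A` above `𝔭`
  have hdisj : Disjoint (Submonoid.powers f : Set A₁) (𝔭 : Set A₁) :=
    (Ideal.disjoint_powers_iff_notMem_of_isPrime f).mpr hf
  have hprime : (𝔭.map (algebraMap A₁ A)).IsPrime :=
    IsLocalization.isPrime_of_isPrime_disjoint (Submonoid.powers f) A 𝔭 inferInstance hdisj
  have hcomap : (𝔭.map (algebraMap A₁ A)).comap (algebraMap A₁ A) = 𝔭 :=
    IsLocalization.under_map_of_isPrime_disjoint (Submonoid.powers f) A inferInstance hdisj
  let x' : Spec (.of A) := ⟨𝔭.map (algebraMap A₁ A), hprime⟩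
  let 𝔮 : Spec (.of B) := ⟨𝔭.comap (algebraMap B A₁), inferInstance⟩
  have hx1 : (Spec.map (ofHom (algebraMap Bt A))) x' ∈ (W' : Set _) := hW' ⟨x', rfl⟩
  have hx2 : (Spec.map (ofHom (algebraMap B Bt))) ((Spec.map (ofHom (algebraMap Bt A))) x') ∈
      (W : Set _) := hW ⟨_, hx1, rfl⟩
  have hx3 : (Spec.map (ofHom (algebraMap B Bt))) ((Spec.map (ofHom (algebraMap Bt A))) x') = 𝔮 := by
    rw [Spec.map_apply, Spec.map_apply]
    apply PrimeSpectrum.ext
    show ((𝔭.map (algebraMap A₁ A)).comap (algebraMap Bt A)).comap (algebraMap B Bt) =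
      𝔭.comap (algebraMap B A₁)
    rw [Ideal.comap_comap, ← IsScalarTower.algebraMap_eq B Bt A,
      IsScalarTower.algebraMap_eq B A₁ A, ← Ideal.comap_comap, hcomap]
  rw [hx3] at hx2
  obtain ⟨_, ⟨b, rfl⟩, hqb, hbW⟩ :=
    PrimeSpectrum.isTopologicalBasis_basic_opens.exists_subset_of_mem_open hx2 W.isOpen
  refine ⟨b, hqb, ?_⟩
  let Bb := Localization.Away b
  let j : Spec (.of Bb) ⟶ Spec (.of B) := Spec.map (ofHom (algebraMap B Bb))
  have hjo : IsOpenImmersion j := inferInstance
  have hrange : Set.range j ⊆ Set.range W.ι := by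
    rw [Scheme.Opens.range_ι]
    rintro _ ⟨y, rfl⟩
    apply hbW
    have : (PrimeSpectrum.comap (algebraMap B Bb)) y ∈ Set.range (PrimeSpectrum.comap (algebraMap B Bb)) :=
      ⟨y, rfl⟩
    rw [PrimeSpectrum.localization_away_comap_range Bb b] at this
    exact this
  let l : Spec (.of Bb) ⟶ W := IsOpenImmersion.lift W.ι j hrange
  have hl : l ≫ W.ι = j := IsOpenImmersion.lift_fac _ _ _
  have hPl : Plci l := by
    refine plci_cancel_etale l W.ι inferInstance ?_
    rw [hl]
    exact plci_of_isOpenImmersion j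
  have h1 : Plci (l ≫ W.ι ≫ Spec.map (ofHom (algebraMap C B))) := Plci.comp_mem _ _ hPl hP
  rw [← Category.assoc, hl] at h1
  have h2 : j ≫ Spec.map (ofHom (algebraMap C B)) = Spec.map (ofHom (algebraMap C Bb)) := by
    rw [← Spec.map_comp, ← ofHom_comp, ← IsScalarTower.algebraMap_eq C B Bb]
  rw [h2, plci_spec_iff] at h1
  exact Q_algebraMap_iff.mp h1

/-- ring-level descent of `Q` along a smooth cover of the source -/
theorem Q_of_smooth_surjective {R A B : Type u} [CommRing R] [CommRing A] [CommRing B]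
    (φ : R →+* A) (ψ : A →+* B) (hψ : ψ.Smooth)
    (hs : Function.Surjective (PrimeSpectrum.comap ψ)) (h : Q (ψ.comp φ)) : Q φ := by
  algebraize [φ, ψ, ψ.comp φ]
  have hsm : Algebra.Smooth A B := hψ
  have hlci : LCI.IsLCI R B := h
  have hftB : Algebra.FiniteType R B := hlci.1
  have hftA : Algebra.FiniteType R A :=
    Groth.Agent.Lib.Helper12.SmoothSrc2.finiteType_of_smooth_of_surjective (R := R) (A := A)
      (B := B) hs
  let s : Set A := {b | LCI.IsLCI R (Localization.Away b)}
  have hspan : Ideal.span s = ⊤ := by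
    by_contra hne
    obtain ⟨𝔪, h𝔪, hle⟩ := Ideal.exists_le_maximal _ hne
    obtain ⟨𝔭, h𝔭⟩ := hs ⟨𝔪, h𝔪.isPrime⟩
    have := 𝔭.isPrime
    obtain ⟨b, hb, hbl⟩ := main_ring (C := R) (B := A) (A₁ := B) hlci 𝔭.asIdeal
    have hbm : b ∈ 𝔪 := hle (Ideal.subset_span hbl)
    apply hb
    have h1 : (PrimeSpectrum.comap ψ 𝔭).asIdeal = 𝔪 := congrArg PrimeSpectrum.asIdeal h𝔭
    show b ∈ Ideal.comap (algebraMap A B) 𝔭.asIdeal
    rw [← h1] at hbm
    exact hbm
  refine Q_ofLocalizationSpanTarget φ s hspan ?_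
  rintro ⟨b, hb⟩
  have h2 : (algebraMap A (Localization.Away b)).comp φ = algebraMap R (Localization.Away b) :=
    (IsScalarTower.algebraMap_eq R A (Localization.Away b)).symm
  show Q ((algebraMap A (Localization.Away b)).comp φ)
  rw [h2]
  exact Q_algebraMap_iff.mpr hb

/-- local complete intersection morphisms descend along smooth covers of the source -/
theorem plci_of_smooth_cover_source {X' X Y : Scheme.{u}} (f : X' ⟶ X) (g : X ⟶ Y) [Smooth f]
    [Surjective f] (h : Plci (f ≫ g)) : Plci g :=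
  Groth.Agent.Lib.Helper12.SmoothSrc2.of_smooth_cover_source (P := Plci) (Q := @Q)
    Q_stableUnderCompositionWithLocalizationAway.left
    (fun φ ψ hψ hs hc => Q_of_smooth_surjective φ ψ hψ hs hc) f g h

end Groth.Agent.Lib.T2H7.SrcDescE
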