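import Mathlib
import Groth.Agent.Lib.T2H7SrcDescE
import Groth.Agent.Lib.T2H9RegImmBC
import Groth.Agent.Lib.Helper12LocPGen

/-!
# lci morphisms of algebraic spaces, part B (helper7)

* `plci_of_isPullback_flat`: flat base change of lci morphisms of schemes.
* `plci_hsrc`, `locP_flat_baseChange`, `isLCIMor_comp`, `isLCIMor_flat_baseChange`.
-/

set_option autoImplicit false

namespace Groth.Agent.Lib.T2H7.LCISpB
open AlgebraicGeometry CategoryTheory Limits
open Groth.Agent.Lib.T2H7.LCIMor Groth.Agent.Lib.T2H7.LCIMorB Groth.Agent.Lib.T2H7.LCISp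
open Groth.Agent.Lib.T2H7.SrcDescA Groth.Agent.Lib.T2H7.SrcDescE

universe u

/-- flat base change of local complete intersection morphisms -/
theorem plci_of_isPullback_flat {X S X' S' : Scheme.{u}} {f : X ⟶ S} {g : S' ⟶ S} [Flat g]
    {g' : X' ⟶ X} {f' : X' ⟶ S'} (sq : IsPullback g' f' f g) (h : Plci f) : Plci f' := by
  have hk : ∀ x : X, Synt.IsKoszulAt f x := (forall_isKoszulAt_iff_plci f).mpr h
  choose U P i π hxU hft hi hπ hfac using hk
  refine IsZariskiLocalAtSource.of_iSup_eq_top (P := Plci.{u}) (fun x : X => g' ⁻¹ᵁ U x) ?_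
    fun x => ?_
  · rw [eq_top_iff]
    rintro x' -
    exact TopologicalSpace.Opens.mem_iSup.2 ⟨g' x', hxU (g' x')⟩
  · have s1 : IsPullback (g' ∣_ U x) (g' ⁻¹ᵁ U x).ι (U x).ι g' := isPullback_morphismRestrict g' (U x)
    have big : IsPullback (g' ∣_ U x) ((g' ⁻¹ᵁ U x).ι ≫ f') ((U x).ι ≫ f) g := s1.paste_vert sq
    rw [← hfac x] at big
    have := hπ x
    have bot : IsPullback (pullback.fst (π x) g) (pullback.snd (π x) g) (π x) g :=
      IsPullback.of_hasPullback _ _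
    let i' : (g' ⁻¹ᵁ U x).toScheme ⟶ pullback (π x) g :=
      bot.lift ((g' ∣_ U x) ≫ i x) ((g' ⁻¹ᵁ U x).ι ≫ f') (by rw [Category.assoc]; exact big.w)
    have hi'1 : i' ≫ pullback.fst (π x) g = (g' ∣_ U x) ≫ i x := bot.lift_fst _ _ _
    have hi'2 : i' ≫ pullback.snd (π x) g = (g' ⁻¹ᵁ U x).ι ≫ f' := bot.lift_snd _ _ _
    have top : IsPullback (g' ∣_ U x) i' (i x) (pullback.fst (π x) g) := by
      refine IsPullback.of_bot ?_ hi'1.symm bot
      rw [hi'2]
      exact big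
    have hreg : RegImm.IsRegularImmersion .koszul i' :=
      Groth.Agent.Lib.T2H9.RegImmBC.isRegularImmersion_of_isPullback top.flip .koszul (hi x)
    rw [← hi'2]
    exact Plci.comp_mem _ _ (plci_of_koszulRegularImmersion i' hreg)
      (plci_of_smooth (pullback.snd (π x) g))

theorem plci_hsrc {A B C : Scheme.{u}} (e : A ⟶ B) (k : B ⟶ C) [Etale e] [Surjective e]
    (h : Plci (e ≫ k)) : Plci k :=
  plci_of_smooth_cover_source e k h

variable {S : Scheme.{u}}

/-- `LocP P` is stable under flat base change, for `P` stable under flat base change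
(adapted from helper12's `locP_baseChange`). -/
lemma locP_flat_baseChange (P : MorphismProperty Scheme.{u})
    [P.IsStableUnderComposition]
    (hbc : ∀ {A B A' B' : Scheme.{u}} {f : A ⟶ B} {g : B' ⟶ B} {g' : A' ⟶ A} {f' : A' ⟶ B'},
      IsPullback g' f' f g → Flat g → P f → P f')
    (hEt : ∀ {A B : Scheme.{u}} (g : A ⟶ B), Etale g → P g)
    (hsrc : ∀ {A B C : Scheme.{u}} (e : A ⟶ B) (k : B ⟶ C) [Etale e] [Surjective e],
      P (e ≫ k) → P k)
    (hcancel : ∀ {A B C : Scheme.{u}} (u : A ⟶ B) (k : B ⟶ C), Etale k → P (u ≫ k) → P u)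
    [P.DescendsAlong (@Surjective ⊓ @Flat ⊓ @LocallyOfFinitePresentation)]
    {X Y X' Y' : AlgSp.Sp S} (hX : AlgSp.IsAlgSpace X) (hY : AlgSp.IsAlgSpace Y)
    (hY' : AlgSp.IsAlgSpace Y') {f : X ⟶ Y} {g : Y' ⟶ Y} {fst : X' ⟶ X} {f' : X' ⟶ Y'}
    (sq : IsPullback fst f' f g) (hg : AlgSp.LocP @Flat g) (hf : AlgSp.LocP P f) :
    AlgSp.LocP P f' := by
  obtain ⟨V, q, hqe, hqs⟩ := hY.atlas
  obtain ⟨V0, b0, hb0e, hb0s⟩ := hY'.atlas
  obtain ⟨V'', π, κ', sqV⟩ := hqe.1 (b0 ≫ g)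
  obtain ⟨κ, rfl⟩ := (AlgSp.yon S).map_surjective κ'
  have : Etale π.left := hqe.2 _ _ π sqV
  have : Surjective π.left := hqs.2 _ _ π sqV
  have hpe : AlgSp.RepWith @Etale ((AlgSp.yon S).map π ≫ b0) :=
    (AlgSp.RepWith @Etale).comp_mem _ _ ((AlgSp.repWith_yon_map_iff _ _).2 inferInstance) hb0e
  have hps : AlgSp.RepWith @Surjective ((AlgSp.yon S).map π ≫ b0) :=
    (AlgSp.RepWith @Surjective).comp_mem _ _ ((AlgSp.repWith_yon_map_iff _ _).2 inferInstance) hb0s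
  have hκfl : Flat κ.left := hg ((AlgSp.yon S).map π ≫ b0) q κ hpe hqe (by
    rw [Category.assoc]; exact sqV.w.symm)
  refine Groth.Agent.Lib.Helper12.LocPGen.locP_of_target_cover' P hcancel f' V'' ((AlgSp.yon S).map π ≫ b0) hpe hps
    (pullback.fst f' ((AlgSp.yon S).map π ≫ b0)) (pullback.snd f' ((AlgSp.yon S).map π ≫ b0))
    (IsPullback.of_hasPullback _ _) ?_
  -- the chart of `X ×_Y V`
  have hXV : AlgSp.IsAlgSpace (pullback f q) :=
    Groth.Agent.S9874.isAlgSpace_of_isPullback hY.diag hX (AlgSp.IsAlgSpace.yon_obj V)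
      (IsPullback.of_hasPullback f q)
  obtain ⟨U, u, hue, hus⟩ := hXV.atlas
  obtain ⟨h, hh⟩ := (AlgSp.yon S).map_surjective (u ≫ pullback.snd f q)
  have hpr1 : AlgSp.RepWith @Etale (pullback.fst f q) :=
    MorphismProperty.of_isPullback (P := AlgSp.RepWith @Etale)
      (IsPullback.of_hasPullback f q).flip hqe
  have hPh : P h.left := hf (u ≫ pullback.fst f q) q h
    ((AlgSp.RepWith @Etale).comp_mem _ _ hue hpr1) hqe
    (by rw [Category.assoc, pullback.condition, ← Category.assoc, ← hh])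
  -- the map `Q ⟶ X ×_Y V`
  have hw : (pullback.fst f' ((AlgSp.yon S).map π ≫ b0) ≫ fst) ≫ f =
      (pullback.snd f' ((AlgSp.yon S).map π ≫ b0) ≫ (AlgSp.yon S).map κ) ≫ q := by
    rw [Category.assoc, sq.w, ← Category.assoc, pullback.condition, Category.assoc, Category.assoc,
      Category.assoc, sqV.w]
  obtain ⟨ρ, hρ⟩ : ∃ ρ : pullback f' ((AlgSp.yon S).map π ≫ b0) ⟶ pullback f q,
      ρ = pullback.lift (pullback.fst f' ((AlgSp.yon S).map π ≫ b0) ≫ fst)
        (pullback.snd f' ((AlgSp.yon S).map π ≫ b0) ≫ (AlgSp.yon S).map κ) hw := ⟨_, rfl⟩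
  have hρ1 : ρ ≫ pullback.fst f q = pullback.fst f' ((AlgSp.yon S).map π ≫ b0) ≫ fst := by
    rw [hρ, pullback.lift_fst]
  have hρ2 : ρ ≫ pullback.snd f q =
      pullback.snd f' ((AlgSp.yon S).map π ≫ b0) ≫ (AlgSp.yon S).map κ := by
    rw [hρ, pullback.lift_snd]
  have big : IsPullback (pullback.fst f' ((AlgSp.yon S).map π ≫ b0) ≫ fst)
      (pullback.snd f' ((AlgSp.yon S).map π ≫ b0)) f (((AlgSp.yon S).map π ≫ b0) ≫ g) :=
    (IsPullback.of_hasPullback f' ((AlgSp.yon S).map π ≫ b0)).paste_horiz sq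
  have sqρ : IsPullback ρ (pullback.snd f' ((AlgSp.yon S).map π ≫ b0)) (pullback.snd f q)
      ((AlgSp.yon S).map κ) := by
    refine IsPullback.of_right ?_ hρ2 (IsPullback.of_hasPullback f q)
    rw [hρ1, sqV.w, ← Category.assoc]
    exact big
  -- the chart of `Q`
  have sqκ : IsPullback ((AlgSp.yon S).map (pullback.fst h κ))
      ((AlgSp.yon S).map (pullback.snd h κ)) ((AlgSp.yon S).map h) ((AlgSp.yon S).map κ) :=
    (IsPullback.of_hasPullback h κ).map (AlgSp.yon S)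
  have hw' : ((AlgSp.yon S).map (pullback.fst h κ) ≫ u) ≫ pullback.snd f q =
      (AlgSp.yon S).map (pullback.snd h κ) ≫ (AlgSp.yon S).map κ := by
    rw [Category.assoc, ← hh, sqκ.w]
  obtain ⟨φ, hφ⟩ : ∃ φ : (AlgSp.yon S).obj (pullback h κ) ⟶
      pullback f' ((AlgSp.yon S).map π ≫ b0),
      φ = sqρ.lift ((AlgSp.yon S).map (pullback.fst h κ) ≫ u)
        ((AlgSp.yon S).map (pullback.snd h κ)) hw' := ⟨_, rfl⟩
  have hφ1 : φ ≫ ρ = (AlgSp.yon S).map (pullback.fst h κ) ≫ u := by rw [hφ, sqρ.lift_fst]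
  have hφ2 : φ ≫ pullback.snd f' ((AlgSp.yon S).map π ≫ b0) =
      (AlgSp.yon S).map (pullback.snd h κ) := by rw [hφ, sqρ.lift_snd]
  have left : IsPullback φ ((AlgSp.yon S).map (pullback.fst h κ)) ρ u := by
    refine IsPullback.of_right ?_ hφ1 sqρ.flip
    rw [hφ2, ← hh]
    exact sqκ.flip
  have hφe : AlgSp.RepWith @Etale φ :=
    MorphismProperty.of_isPullback (P := AlgSp.RepWith @Etale) left.flip hue
  have hφs : AlgSp.RepWith @Surjective φ :=
    MorphismProperty.of_isPullback (P := AlgSp.RepWith @Surjective) left.flip hus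
  refine Groth.Agent.S9950.locP_of_source_cover P hsrc _ φ hφe hφs ?_
  rw [hφ2]
  refine Groth.Agent.Lib.Helper12.LocPGen.locP_yon_map_of P hEt hcancel _ ?_
  exact hbc ((IsPullback.of_hasPullback h κ).map (Over.forget S)) hκfl hPh


/-- composition of lci morphisms of algebraic spaces -/
theorem isLCIMor_comp {X Y Z : AlgSp.Sp S} (hY : AlgSp.IsAlgSpace Y) (hZ : AlgSp.IsAlgSpace Z)
    (f : X ⟶ Y) (g : Y ⟶ Z) (hf : AlgSp.IsLCIMor f) (hg : AlgSp.IsLCIMor g) :
    AlgSp.IsLCIMor (f ≫ g) := by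
  unfold AlgSp.IsLCIMor at hf hg ⊢
  rw [lci_eq_plci] at hf hg ⊢
  exact Groth.Agent.Lib.Helper12.LocPGen.locP_comp Plci (fun e k _ _ h => plci_hsrc e k h)
    hY hZ f g hf hg

/-- flat base change of lci morphisms of algebraic spaces -/
theorem isLCIMor_flat_baseChange {X Y X' Y' : AlgSp.Sp S} (hX : AlgSp.IsAlgSpace X)
    (hY : AlgSp.IsAlgSpace Y) (hY' : AlgSp.IsAlgSpace Y') {f : X ⟶ Y} {g : Y' ⟶ Y}
    {fst : X' ⟶ X} {f' : X' ⟶ Y'} (sq : IsPullback fst f' f g) (hg : AlgSp.LocP @Flat g)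
    (hf : AlgSp.IsLCIMor f) : AlgSp.IsLCIMor f' := by
  unfold AlgSp.IsLCIMor at hf ⊢
  rw [lci_eq_plci] at hf ⊢
  exact locP_flat_baseChange Plci (fun sq' hfl h => by
      have := hfl
      exact plci_of_isPullback_flat sq' h)
    (fun g hg => plci_of_etale g hg) (fun e k _ _ h => plci_hsrc e k h)
    (fun u k hk h => plci_cancel_etale u k hk h) hX hY hY' sq hg hf

end Groth.Agent.Lib.T2H7.LCISpB
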