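import Mathlib
import Groth.Agent.Lib.T2H7LCISpB
import Groth.Agent.Lib.Helper12BaseLocal

/-!
# lci morphisms of algebraic spaces, part C (helper7)

`plci_chart_baseChange`: base change of a chart of `f` along a map which lifts through a flat map
to a space over which `f` becomes lci.
-/

set_option autoImplicit false

namespace Groth.Agent.Lib.T2H7.LCISpC
open AlgebraicGeometry CategoryTheory Limits
open Groth.Agent.Lib.T2H7.LCIMor Groth.Agent.Lib.T2H7.LCIMorB Groth.Agent.Lib.T2H7.LCISp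
open Groth.Agent.Lib.T2H7.LCISpB
open Groth.Agent.Lib.Helper12.BaseLocal

universe u

variable {S : Scheme.{u}}

/-- the base change of a chart of `f` along `c : W ⟶ V` is lci as soon as `h_W ⟶ h_V ⟶ Y` lifts
through a flat map `l` to a space `Y'` over which the base change of `f` is lci. -/
theorem plci_chart_baseChange {X Y X' Y' : AlgSp.Sp S} (hX : AlgSp.IsAlgSpace X)
    (hY : AlgSp.IsAlgSpace Y) (hX' : AlgSp.IsAlgSpace X') (hY' : AlgSp.IsAlgSpace Y')
    (f : X ⟶ Y) (g : Y' ⟶ Y) (p : X' ⟶ Y') (q : X' ⟶ X) (sq : IsPullback q p f g)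
    (H : AlgSp.IsLCIMor p)
    {U V W : Over S} (a : (AlgSp.yon S).obj U ⟶ X) (b : (AlgSp.yon S).obj V ⟶ Y) (hh : U ⟶ V)
    (ha : AlgSp.RepWith @Etale a) (hb : AlgSp.RepWith @Etale b)
    (hcomm : a ≫ f = (AlgSp.yon S).map hh ≫ b)
    (c : W ⟶ V) (l : (AlgSp.yon S).obj W ⟶ Y') (hl : l ≫ g = (AlgSp.yon S).map c ≫ b)
    (hlf : AlgSp.LocP @Flat l) :
    Plci (pullback.snd hh c).left := by
  have hφ := repWith_etale_lift hX hY f a b hh ha hb hcomm
  obtain ⟨φ, hφdef⟩ : ∃ φ : (AlgSp.yon S).obj U ⟶ pullback f b,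
      φ = pullback.lift a ((AlgSp.yon S).map hh) hcomm := ⟨_, rfl⟩
  rw [← hφdef] at hφ
  have hφ2 : φ ≫ pullback.snd f b = (AlgSp.yon S).map hh := by rw [hφdef, pullback.lift_snd]
  have hLoc : AlgSp.IsLCIMor (pullback.snd p l) :=
    isLCIMor_flat_baseChange hX' hY' (AlgSp.IsAlgSpace.yon_obj W)
      (IsPullback.of_hasPullback p l) hlf H
  have big1 : IsPullback (pullback.fst p l ≫ q) (pullback.snd p l) f (l ≫ g) :=
    (IsPullback.of_hasPullback p l).paste_horiz sq
  rw [hl] at big1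
  have hwμ : (pullback.fst p l ≫ q) ≫ f =
      (pullback.snd p l ≫ (AlgSp.yon S).map c) ≫ b := by
    rw [Category.assoc _ _ b]; exact big1.w
  obtain ⟨μ, hμ⟩ : ∃ μ : pullback p l ⟶ pullback f b,
      μ = pullback.lift _ _ hwμ := ⟨_, rfl⟩
  have hμ1 : μ ≫ pullback.fst f b = pullback.fst p l ≫ q := by rw [hμ, pullback.lift_fst]
  have hμ2 : μ ≫ pullback.snd f b = pullback.snd p l ≫ (AlgSp.yon S).map c := by
    rw [hμ, pullback.lift_snd]
  have sqM : IsPullback μ (pullback.snd p l) (pullback.snd f b)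
      ((AlgSp.yon S).map c) := by
    refine IsPullback.of_right ?_ hμ2 (IsPullback.of_hasPullback f b)
    rw [hμ1]
    exact big1
  have hwα : ((AlgSp.yon S).map (pullback.fst hh c) ≫ φ) ≫ pullback.snd f b =
      (AlgSp.yon S).map (pullback.snd hh c) ≫ (AlgSp.yon S).map c := by
    rw [Category.assoc, hφ2, ← Functor.map_comp, ← Functor.map_comp, pullback.condition]
  obtain ⟨α, hα⟩ : ∃ α : (AlgSp.yon S).obj (pullback hh c) ⟶ pullback p l,
      α = sqM.lift _ _ hwα := ⟨_, rfl⟩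
  have hα1 : α ≫ μ = (AlgSp.yon S).map (pullback.fst hh c) ≫ φ := by
    rw [hα, sqM.lift_fst]
  have hα2 : α ≫ pullback.snd p l = (AlgSp.yon S).map (pullback.snd hh c) := by
    rw [hα, sqM.lift_snd]
  have sqα : IsPullback α ((AlgSp.yon S).map (pullback.fst hh c)) μ φ := by
    refine IsPullback.of_right ?_ hα1 sqM.flip
    rw [hα2, hφ2]
    exact ((IsPullback.of_hasPullback hh c).map (AlgSp.yon S)).flip
  have hαe : AlgSp.RepWith @Etale α :=
    MorphismProperty.of_isPullback (P := AlgSp.RepWith @Etale) sqα.flip hφ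
  have := hLoc α (𝟙 _) (pullback.snd hh c) hαe (AlgSp.repWith_id _ _)
    (by rw [hα2, Category.comp_id])
  rw [← lci_eq_plci]
  exact this

end Groth.Agent.Lib.T2H7.LCISpC
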