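import Mathlib
import Groth.Agent.Lib.T2H7LCISpC
import Groth.Agent.Lib.Helper12TopDescent2

/-!
# lci morphisms of algebraic spaces, part D (helper7)

* `exists_finset_affineOpens`, `exists_affine_etale_of_finset`, `exists_etale_refinement`:
  refinement of the lifts in an fpqc covering by etale lifts from affine schemes.
* `isLCIMor_of_fpqcCover_base`: fpqc descent on the base for lci morphisms of algebraic spaces.
-/

set_option autoImplicit false

namespace Groth.Agent.Lib.T2H7.LCISpD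
open AlgebraicGeometry CategoryTheory Limits
open Groth.Agent.Lib.T2H7.LCIMor Groth.Agent.Lib.T2H7.LCIMorB Groth.Agent.Lib.T2H7.LCISp
open Groth.Agent.Lib.T2H7.LCISpB Groth.Agent.Lib.T2H7.LCISpC
open Groth.Agent.Lib.Helper12.BaseLocal

universe u

/-- finitely many affine opens of `T` suffice to cover a quasi-compact `W` through an open
surjection `M ⟶ W` -/
theorem exists_finset_affineOpens {M T W : Scheme.{u}} (pr : M ⟶ W) (τ : M ⟶ T)
    (hopen : IsOpenMap pr) (hsurj : Function.Surjective pr) [CompactSpace W] :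
    ∃ s : Finset T.affineOpens, ∀ w : W, ∃ A ∈ s, ∃ m : M, τ m ∈ A.1 ∧ pr m = w := by
  let Uo : T.affineOpens → Set W := fun A => pr '' (τ ⁻¹' (A.1 : Set T))
  have hUo : ∀ A, IsOpen (Uo A) := fun A => hopen _ (A.1.isOpen.preimage τ.continuous)
  have hcov : (Set.univ : Set W) ⊆ ⋃ A, Uo A := by
    intro w _
    obtain ⟨m, rfl⟩ := hsurj w
    obtain ⟨A, hA, hmA, -⟩ := TopologicalSpace.Opens.isBasis_iff_nbhd.mp T.isBasis_affineOpens
      (TopologicalSpace.Opens.mem_top (τ m))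
    exact Set.mem_iUnion.2 ⟨⟨A, hA⟩, ⟨m, hmA, rfl⟩⟩
  obtain ⟨s, hs⟩ := isCompact_univ.elim_finite_subcover Uo hUo hcov
  refine ⟨s, fun w => ?_⟩
  obtain ⟨A, hA, m, hm, rfl⟩ : ∃ A ∈ s, w ∈ Uo A := by
    simpa using hs (Set.mem_univ w)
  exact ⟨A, hA, m, hm, rfl⟩

/-- the disjoint union of finitely many affine opens -/
theorem exists_affine_etale_of_finset {T : Scheme.{u}} (s : Finset T.affineOpens) :
    ∃ (O : Scheme.{u}) (o : O ⟶ T), IsAffine O ∧ Etale o ∧
      ∀ A ∈ s, ∀ x : T, x ∈ A.1 → ∃ y : O, o y = x := by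
  let F : ↥s → Scheme.{u} := fun A => (A.1.1 : Scheme.{u})
  have hF : ∀ A, IsAffine (F A) := fun A => A.1.2
  refine ⟨∐ F, Sigma.desc (fun A => A.1.1.ι), inferInstance, ?_, ?_⟩
  · exact IsZariskiLocalAtSource.sigmaDesc (P := @Etale) (fun A => inferInstance)
  · intro A hA x hx
    refine ⟨(Sigma.ι F ⟨A, hA⟩) ⟨x, hx⟩, ?_⟩
    rw [← Scheme.Hom.comp_apply, Sigma.ι_desc]
    rfl

variable {S : Scheme.{u}}

/-- refinement of a lift through a flat map by an etale lift from an affine scheme -/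
theorem exists_etale_refinement {Yi Y : AlgSp.Sp S} (hYi : AlgSp.IsAlgSpace Yi)
    (hY : AlgSp.IsAlgSpace Y) (g : Yi ⟶ Y) (hg : AlgSp.LocP @Flat g) {Z W : Over S}
    (β : (AlgSp.yon S).obj Z ⟶ Y) (hβ : AlgSp.RepWith @Etale β) [CompactSpace W.left]
    (c : W ⟶ Z) (l : (AlgSp.yon S).obj W ⟶ Yi) (hl : l ≫ g = (AlgSp.yon S).map c ≫ β) :
    ∃ (O : Over S) (d : O ⟶ Z) (l' : (AlgSp.yon S).obj O ⟶ Yi), IsAffine O.left ∧ Flat d.left ∧
      AlgSp.RepWith @Etale l' ∧ l' ≫ g = (AlgSp.yon S).map d ≫ β ∧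
      ∀ w : W.left, ∃ x : O.left, d.left x = c.left w := by
  have hE : AlgSp.IsAlgSpace (pullback g β) :=
    Groth.Agent.S9874.isAlgSpace_of_isPullback hY.diag hYi (AlgSp.IsAlgSpace.yon_obj Z)
      (IsPullback.of_hasPullback g β)
  obtain ⟨T, t, hte, hts⟩ := hE.atlas
  obtain ⟨M, pr, τ', sqM⟩ := hte.1 (pullback.lift l ((AlgSp.yon S).map c) hl)
  obtain ⟨τ₀, rfl⟩ := (AlgSp.yon S).map_surjective τ'
  have hpre : Etale pr.left := hte.2 _ _ pr sqM
  have hprs : Surjective pr.left := hts.2 _ _ pr sqM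
  obtain ⟨dT, hdT⟩ := (AlgSp.yon S).map_surjective (t ≫ pullback.snd g β)
  have hτd : τ₀ ≫ dT = pr ≫ c := by
    apply (AlgSp.yon S).map_injective
    rw [Functor.map_comp, Functor.map_comp, hdT, ← Category.assoc, sqM.w, Category.assoc,
      pullback.lift_snd]
  obtain ⟨s, hs⟩ := exists_finset_affineOpens pr.left τ₀.left pr.left.isOpenMap
    pr.left.surjective
  obtain ⟨O₀, o, hOa, hoe, ho⟩ := exists_affine_etale_of_finset s
  let O : Over S := Over.mk (o ≫ T.hom)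
  let o' : O ⟶ T := Over.homMk o rfl
  have ho'e : AlgSp.RepWith @Etale ((AlgSp.yon S).map o') :=
    (AlgSp.repWith_yon_map_iff _ _).2 hoe
  have ha : AlgSp.RepWith @Etale ((AlgSp.yon S).map o' ≫ t) :=
    (AlgSp.RepWith @Etale).comp_mem _ _ ho'e hte
  have hfst : AlgSp.RepWith @Etale (pullback.fst g β) :=
    MorphismProperty.of_isPullback (P := AlgSp.RepWith @Etale)
      (IsPullback.of_hasPullback g β).flip hβ
  have hsndfl : AlgSp.LocP @Flat (pullback.snd g β) :=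
    Groth.Agent.Lib.Helper12.TopDescent.locP_flat_baseChange hYi hY (AlgSp.IsAlgSpace.yon_obj Z)
      (IsPullback.of_hasPullback g β) hg
  refine ⟨O, o' ≫ dT, ((AlgSp.yon S).map o' ≫ t) ≫ pullback.fst g β, hOa, ?_, ?_, ?_, ?_⟩
  · exact hsndfl ((AlgSp.yon S).map o' ≫ t) (𝟙 _) (o' ≫ dT) ha (AlgSp.repWith_id _ Z) (by
      rw [Category.comp_id, Functor.map_comp, hdT, Category.assoc])
  · exact (AlgSp.RepWith @Etale).comp_mem _ _ ha hfst
  · rw [Category.assoc, pullback.condition, Functor.map_comp, hdT, Category.assoc,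
      Category.assoc, Category.assoc]
  · intro w
    obtain ⟨A, hA, m, hmA, hmw⟩ := hs w
    obtain ⟨y, hy⟩ := ho A hA (τ₀.left m) hmA
    refine ⟨y, ?_⟩
    show (o ≫ dT.left) y = c.left w
    rw [Scheme.Hom.comp_apply, hy, ← Scheme.Hom.comp_apply, ← Over.comp_left, hτd, Over.comp_left,
      Scheme.Hom.comp_apply, hmw]

/-- lci morphisms of algebraic spaces: fpqc descent on the base -/
theorem isLCIMor_of_fpqcCover_base {ι : Type u} {Y : AlgSp.Sp S} (Yi : ι → AlgSp.Sp S)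
    (g : ∀ i, Yi i ⟶ Y) (hY : AlgSp.IsAlgSpace Y) (hYi : ∀ i, AlgSp.IsAlgSpace (Yi i))
    (hcov : AlgSp.IsFpqcCover Yi g) {X : AlgSp.Sp S} (f : X ⟶ Y) (hX : AlgSp.IsAlgSpace X)
    (Xi : ι → AlgSp.Sp S) (p : ∀ i, Xi i ⟶ Yi i) (q : ∀ i, Xi i ⟶ X)
    (hXi : ∀ i, AlgSp.IsAlgSpace (Xi i)) (sq : ∀ i, IsPullback (q i) (p i) f (g i))
    (H : ∀ i, AlgSp.IsLCIMor (p i)) : AlgSp.IsLCIMor f := by
  intro U V a b hh ha hb hcomm
  show AlgSp.lci hh.left
  rw [lci_eq_plci]
  rw [IsZariskiLocalAtTarget.iff_of_openCover (P := Plci) V.left.affineCover]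
  intro k
  obtain ⟨ζ, hζ⟩ : ∃ ζ : V.left.affineCover.X k ⟶ V.left, ζ = V.left.affineCover.f k := ⟨_, rfl⟩
  show Plci (pullback.snd hh.left (V.left.affineCover.f k))
  rw [← hζ]
  have hζo : IsOpenImmersion ζ := by rw [hζ]; infer_instance
  let Zo : Over S := Over.mk (ζ ≫ V.hom)
  let ζ' : Zo ⟶ V := Over.homMk ζ rfl
  have hZa : IsAffine Zo.left := by
    show IsAffine (V.left.affineCover.X k)
    infer_instance
  have hβ : AlgSp.RepWith @Etale ((AlgSp.yon S).map ζ' ≫ b) :=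
    (AlgSp.RepWith @Etale).comp_mem _ _
      ((AlgSp.repWith_yon_map_iff _ _).2 (show Etale ζ from inferInstance)) hb
  obtain ⟨m, W', c, hW'a, hcfl, hcs, hl⟩ := hcov.2 Zo hZa ((AlgSp.yon S).map ζ' ≫ b)
  choose i l hl using hl
  have href : ∀ j, ∃ (O : Over S) (d : O ⟶ Zo) (l' : (AlgSp.yon S).obj O ⟶ Yi (i j)),
      IsAffine O.left ∧ Flat d.left ∧ AlgSp.RepWith @Etale l' ∧
      l' ≫ g (i j) = (AlgSp.yon S).map d ≫ ((AlgSp.yon S).map ζ' ≫ b) ∧
      ∀ w : (W' j).left, ∃ x : O.left, d.left x = (c j).left w := fun j => by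
    have : IsAffine (W' j).left := hW'a j
    exact exists_etale_refinement (hYi (i j)) hY (g (i j)) (hcov.1 (i j))
      ((AlgSp.yon S).map ζ' ≫ b) hβ (c j) (l j) (hl j)
  choose O d l' hOa hdfl hl'e hl'c hds using href
  have : IsAffine (V.left.affineCover.X k) := hZa
  refine of_standard_fpqc Plci (pullback.snd hh.left ζ) (fun j => (O j).left)
    (fun j => (d j).left) hOa hdfl (fun z => ?_) (fun j => ?_)
  · obtain ⟨j, w, hw⟩ := hcs z
    obtain ⟨x, hx⟩ := hds j w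
    exact ⟨j, x, hx.trans hw⟩
  -- the scheme `N = U ×_V O j`
  have hsqN : IsPullback (pullback.fst hh (d j ≫ ζ')).left (pullback.snd hh (d j ≫ ζ')).left
      hh.left ((d j).left ≫ ζ) :=
    (IsPullback.of_hasPullback hh (d j ≫ ζ')).map (Over.forget S)
  have hwN : (pullback.fst hh (d j ≫ ζ')).left ≫ hh.left =
      ((pullback.snd hh (d j ≫ ζ')).left ≫ (d j).left) ≫ ζ := by
    rw [Category.assoc]; exact hsqN.w
  refine ⟨(pullback hh (d j ≫ ζ')).left,
    pullback.lift (pullback.fst hh (d j ≫ ζ')).left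
      ((pullback.snd hh (d j ≫ ζ')).left ≫ (d j).left) hwN,
    (pullback.snd hh (d j ≫ ζ')).left, ?_, ?_⟩
  · refine IsPullback.of_right ?_ (pullback.lift_snd _ _ _) (IsPullback.of_hasPullback hh.left ζ)
    rw [pullback.lift_fst]
    exact hsqN
  have hlf : AlgSp.LocP @Flat (l' j) :=
    Groth.Agent.S9947.locP_of_repWith_etale @Flat
      (fun g hg => by have := hg; infer_instance) (l' j) (hl'e j)
  exact plci_chart_baseChange hX hY (hXi (i j)) (hYi (i j)) f (g (i j)) (p (i j)) (q (i j))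
    (sq (i j)) (H (i j)) a b hh ha hb hcomm (d j ≫ ζ') (l' j)
    (by rw [hl'c j, Functor.map_comp, Category.assoc]) hlf

end Groth.Agent.Lib.T2H7.LCISpD
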