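import Mathlib
import Groth.Agent.Lib.T2H7LCISpD
import Groth.Agent.Lib.Helper15GoodComp
import Groth.Agent.S10567
import Groth.Agent.S10580

/-!
# lci morphisms of algebraic spaces and stacks (helper7)

* `plci_isLocalAtSource_smooth`, `isLocalOnBase_fpqc_lci`, `isSmoothLocalST_lci`: the property
  `AlgSp.IsLCIMor` is smooth local on the source-and-target.
* `locQ_of_iso`, `locQ_lci_of_comp_smooth`.
-/

set_option autoImplicit false
set_option backward.isDefEq.respectTransparency false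
set_option backward.isDefEq.respectTransparency.types false

namespace Groth.Agent.Lib.T2H7.LCISt
open AlgebraicGeometry CategoryTheory Limits
open Groth.Agent.Lib.T2H7.LCIMor Groth.Agent.Lib.T2H7.LCIMorB Groth.Agent.Lib.T2H7.LCISp
open Groth.Agent.Lib.T2H7.LCISpB Groth.Agent.Lib.T2H7.LCISpD Groth.Agent.Lib.T2H7.SrcDescE
open Groth.Agent.Lib.Helper17 Groth.Agent.Lib.Helper15LocQ Groth.Agent.Lib.Helper15LocQEngine
  Groth.Agent.Lib.Helper15LocQProps Groth.Agent.Lib.Helper15GoodComp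
  Groth.Agent.Lib.Helper15DiagDescent

universe u

instance plci_isLocalAtSource_smooth :
    MorphismProperty.IsLocalAtSource (Plci.{u}) (Scheme.precoverage @Smooth) :=
  Groth.Agent.Lib.Helper12.SmSrcLocal.isLocalAtSource_smooth_of_single _
    (fun e k he hk => by
      have := he
      exact Plci.comp_mem _ _ (plci_of_smooth e) hk)
    (fun e k he hs h => by
      have := he
      have := hs
      exact plci_of_smooth_cover_source e k h)

variable {S : Scheme.{u}}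

theorem isLCIMor_eq : (AlgSp.IsLCIMor : MorphismProperty (AlgSp.Sp S)) = AlgSp.LocP Plci := by
  unfold AlgSp.IsLCIMor
  rw [lci_eq_plci]

theorem isLocalOnBase_fpqc_lci :
    AlgSp.IsLocalOnBase (AlgSp.IsFpqcCover (S := S)) AlgSp.IsLCIMor := by
  intro ι Y Yi g hY hYi hcov X f hX Xi p q hXi sq
  constructor
  · intro hf i
    exact isLCIMor_flat_baseChange hX hY (hYi i) (sq i) (hcov.1 i) hf
  · intro H
    exact isLCIMor_of_fpqcCover_base Yi g hY hYi hcov f hX Xi p q hXi sq H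

theorem isSmoothLocalST_lci : AlgSp.IsSmoothLocalST (AlgSp.IsLCIMor (S := S)) := by
  refine Groth.Agent.S10567.result _ ?_
    (isLocalOnBase_sm_of_fppf _ (isLocalOnBase_fppf_of_fpqc _ isLocalOnBase_fpqc_lci)) ?_
  · rw [isLCIMor_eq]
    exact (Groth.Agent.S10580.result S Plci).2.2.1 inferInstance
  · intro X Y Z f g hf hg
    refine isLCIMor_comp Y.property Z.property f.hom g.hom hf ?_
    rw [isLCIMor_eq]
    exact Groth.Agent.Lib.Helper15PtsTop.locP_mono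
      (fun _ _ k hk => by have : Smooth k := hk; exact plci_of_smooth k) hg

section St

variable {𝒳 𝒴 𝒵 : AlgSt.Cat S}

/-- `LocQ` is invariant under 2-isomorphism -/
theorem locQ_of_iso (P : MorphismProperty (AlgSp.Sp S)) {f f' : 𝒳 ⥤ᵇ 𝒴} (e : f ≅ f')
    (h : AlgSt.LocQ P f') : AlgSt.LocQ P f := by
  obtain ⟨U, V, x, y, k, α, hx₁, hx₂, hy₁, hP⟩ := h
  exact ⟨U, V, x, y, k, whiskerLeftIso x e ≪≫ α, hx₁, hx₂, hy₁, hP⟩

/-- S19901 core -/
theorem locQ_lci_of_comp_smooth (h𝒳 : AlgSt.IsAlgStack Scheme.fppfPrecoverage 𝒳)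
    (h𝒴 : AlgSt.IsAlgStack Scheme.fppfPrecoverage 𝒴)
    (h𝒵 : AlgSt.IsAlgStack Scheme.fppfPrecoverage 𝒵) (f : 𝒳 ⥤ᵇ 𝒴) (q : 𝒴 ⥤ᵇ 𝒵)
    (hq : AlgSt.LocQ (AlgSp.LocP @Smooth) q)
    (hfq : AlgSt.LocQ AlgSp.IsLCIMor (BasedFunctor.comp f q)) :
    AlgSt.LocQ AlgSp.IsLCIMor f := by
  obtain ⟨U, V, W, x, y, z, h, k, α, β, hx₁, hx₂, hy₁, hy₂, hz₁, hz₂, hα₁, hα₂, hβ₁, hβ₂, hγ⟩ :=
    exists_good_squares h𝒳 h𝒴 h𝒵 f q
  have hP : AlgSp.IsLCIMor ((AlgSp.yon S).map (h ≫ k)) :=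
    (locQ_iff_forall_good _ isSmoothLocalST_lci h𝒳 h𝒵 (BasedFunctor.comp f q)).1 hfq U W x z
      (h ≫ k) _ hx₁ hz₁ hγ
  have hk : AlgSp.LocP @Smooth ((AlgSp.yon S).map k) :=
    (locQ_iff_forall_good _ isSmoothLocalST_smooth h𝒴 h𝒵 q).1 hq V W y z k β hy₁ hz₁ hβ₁
  have hks : Smooth k.left := AlgSp.locP_yon_map hk
  have h1 : AlgSp.lci (h ≫ k).left := AlgSp.locP_yon_map hP
  rw [lci_eq_plci, Over.comp_left] at h1
  have h2 : Plci h.left := plci_of_comp_smooth h.left k.left h1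
  refine ⟨U, V, x, y, h, α, hx₁, hx₂, hy₁, ?_⟩
  rw [isLCIMor_yon_map_iff]
  exact (forall_isKoszulAt_iff_plci _).mpr h2

end St

end Groth.Agent.Lib.T2H7.LCISt
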