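import Groth.Prelude.Def_LambdaSp
import Mathlib
import Groth.Agent.Lib.Helper4Lambda
import Groth.Agent.Lib.Helper4LambdaUniv3
import Groth.Agent.Lib.Helper4LambdaAdamsFil

/-!
# The model λ-ring `ℤ[z_i]` with the `z_i` (and all monomials) of rank one (helper7)

`λ_t(∑ n_μ z^μ) = ∏ (1 + z^μ t)^{n_μ}`.  Its Adams operations are `z_i ↦ z_i^k`, so it is a
special λ-ring.
-/

set_option autoImplicit false
universe u

noncomputable section

namespace Groth.Agent.Lib.T2H7.LModel

open MvPolynomial Finset LambdaRing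
open Groth.Agent.Lib.Helper4 Groth.Agent.Lib.Helper4.LUniv

variable (σ : Type*)

/-- the model ring -/
abbrev MM (σ : Type*) : Type _ := MvPolynomial σ ℤ

/-- the constant coefficient on units -/
def ccHom : (PowerSeries (MM σ))ˣ →* (MM σ)ˣ :=
  Units.map ((PowerSeries.constantCoeff (R := MM σ)) : PowerSeries (MM σ) →* MM σ)

/-- the group of series with constant coefficient one -/
def G1 : Subgroup (PowerSeries (MM σ))ˣ := (ccHom σ).ker

variable {σ}

theorem constantCoeff_of_mem_G1 (f : G1 σ) :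
    PowerSeries.constantCoeff ((f : (PowerSeries (MM σ))ˣ) : PowerSeries (MM σ)) = 1 := by
  have h : ccHom σ (f : (PowerSeries (MM σ))ˣ) = 1 := MonoidHom.mem_ker.mp f.2
  have h2 := congrArg Units.val h
  exact h2

/-- the unit `1 + m t` -/
def lineUnit (m : MM σ) : G1 σ :=
  ⟨(PowerSeries.isUnit_iff_constantCoeff.mpr (by simp) :
      IsUnit (1 + PowerSeries.C m * PowerSeries.X : PowerSeries (MM σ))).unit, by
    refine MonoidHom.mem_ker.mpr ?_
    apply Units.ext
    simp [ccHom]⟩

theorem lineUnit_val (m : MM σ) :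
    (((lineUnit m : G1 σ) : (PowerSeries (MM σ))ˣ) : PowerSeries (MM σ)) =
      1 + PowerSeries.C m * PowerSeries.X := rfl

/-- the additive map `p ↦ λ_t(p)` -/
def LSadd : MM σ →+ Additive (G1 σ) :=
  (Finsupp.liftAddHom (fun μ : σ →₀ ℕ =>
    zmultiplesHom (Additive (G1 σ)) (Additive.ofMul (lineUnit (monomial μ (1 : ℤ)))))).comp
    (AddMonoidAlgebra.coeffAddEquiv (R := ℤ) (M := σ →₀ ℕ)).toAddMonoidHom

/-- the series `λ_t(p)` -/
def lser (p : MM σ) : PowerSeries (MM σ) :=
  (((LSadd p).toMul : G1 σ) : (PowerSeries (MM σ))ˣ)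

theorem lser_add (p q : MM σ) : lser (p + q) = lser p * lser q := by
  rw [lser, map_add]
  rfl

theorem constantCoeff_lser (p : MM σ) : PowerSeries.constantCoeff (lser p) = 1 :=
  constantCoeff_of_mem_G1 _

theorem LSadd_single (μ : σ →₀ ℕ) (n : ℤ) :
    LSadd (AddMonoidAlgebra.single μ n : MM σ) =
      n • Additive.ofMul (lineUnit (monomial μ (1 : ℤ))) := by
  rw [LSadd, AddMonoidHom.comp_apply]
  change Finsupp.liftAddHom _ (Finsupp.single μ n) = _
  rw [Finsupp.liftAddHom_apply_single]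
  rfl

theorem lser_monomial_one (μ : σ →₀ ℕ) :
    lser (monomial μ (1 : ℤ)) = 1 + PowerSeries.C (monomial μ (1 : ℤ)) * PowerSeries.X := by
  rw [lser, ← single_eq_monomial, LSadd_single, one_smul]
  rfl

/-- the coefficient of `t` as a homomorphism -/
def c1Add : Additive (G1 σ) →+ MM σ where
  toFun f := PowerSeries.coeff 1
    (((Additive.toMul f : G1 σ) : (PowerSeries (MM σ))ˣ) : PowerSeries (MM σ))
  map_zero' := by simp
  map_add' f g := by
    have hf := constantCoeff_of_mem_G1 (Additive.toMul f)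
    have hg := constantCoeff_of_mem_G1 (Additive.toMul g)
    rw [← PowerSeries.coeff_zero_eq_constantCoeff_apply] at hf hg
    change PowerSeries.coeff 1 (((Additive.toMul f : G1 σ) : (PowerSeries (MM σ))ˣ).val *
      ((Additive.toMul g : G1 σ) : (PowerSeries (MM σ))ˣ).val) = _
    rw [PowerSeries.coeff_mul, Finset.Nat.sum_antidiagonal_eq_sum_range_succ_mk,
      Finset.sum_range_succ, Finset.sum_range_one]
    simp only [Nat.sub_zero, Nat.sub_self]
    rw [hf, hg, one_mul, mul_one, add_comm]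

theorem coeff_one_lser (p : MM σ) : PowerSeries.coeff 1 (lser p) = p := by
  have h : (c1Add (σ := σ)).comp LSadd = AddMonoidHom.id (MM σ) := by
    apply AddMonoidAlgebra.addMonoidHom_ext
    intro μ n
    rw [AddMonoidHom.comp_apply, LSadd_single, map_zsmul]
    change n • PowerSeries.coeff 1 (1 + PowerSeries.C (monomial μ (1 : ℤ)) * PowerSeries.X) = _
    rw [map_add, PowerSeries.coeff_one, if_neg one_ne_zero, zero_add, PowerSeries.coeff_C_mul,
      PowerSeries.coeff_one_X, mul_one, AddMonoidHom.id_apply, single_eq_monomial,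
      smul_monomial, smul_eq_mul, mul_one]
  exact DFunLike.congr_fun h p

/-- the λ-operations of the model -/
@[reducible] def modelOps (σ : Type*) : LambdaOps (MM σ) where
  lam n p := PowerSeries.coeff n (lser p)
  lam_zero p := by
    rw [PowerSeries.coeff_zero_eq_constantCoeff_apply, constantCoeff_lser]
  lam_one p := coeff_one_lser p
  lam_add k p q := by
    rw [lser_add, PowerSeries.coeff_mul, Finset.Nat.sum_antidiagonal_eq_sum_range_succ_mk]

attribute [local instance] modelOps

theorem lamSeries_eq_lser (p : MM σ) : lamSeries p = lser p := by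
  refine PowerSeries.ext fun n => ?_
  rw [coeff_lamSeries]
  rfl

theorem lam_monomial_one (μ : σ →₀ ℕ) (j : ℕ) (hj : 2 ≤ j) :
    LambdaOps.lam j (monomial μ (1 : ℤ) : MM σ) = 0 := by
  change PowerSeries.coeff j (lser (monomial μ (1 : ℤ))) = 0
  rw [lser_monomial_one, map_add, PowerSeries.coeff_one, if_neg (by omega),
    PowerSeries.coeff_C_mul, PowerSeries.coeff_X, if_neg (by omega), mul_zero, add_zero]

theorem lam_one_eq_zero (j : ℕ) (hj : 2 ≤ j) : LambdaOps.lam j (1 : MM σ) = 0 := by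
  rw [one_def]
  exact lam_monomial_one 0 j hj

theorem lam_X (i : σ) (j : ℕ) (hj : 2 ≤ j) : LambdaOps.lam j (X i : MM σ) = 0 :=
  lam_monomial_one _ j hj

/-! ### Adams operations -/

/-- `z_i ↦ z_i^k` -/
def psi (k : ℕ) : MM σ →ₐ[ℤ] MM σ := aeval (fun i => (X i : MM σ) ^ k)

theorem psi_monomial_one (k : ℕ) (μ : σ →₀ ℕ) :
    psi k (monomial μ (1 : ℤ)) = (monomial μ (1 : ℤ) : MM σ) ^ k := by
  induction μ using Finsupp.induction_linear with
  | zero => rw [← one_def, map_one, one_pow]
  | add μ ν hμ hν =>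
    have : (monomial (μ + ν) (1 : ℤ) : MM σ) = monomial μ 1 * monomial ν 1 := by
      rw [monomial_mul, mul_one]
    rw [this, map_mul, hμ, hν, mul_pow]
  | single i n =>
    rw [← X_pow_eq_monomial, map_pow, psi, aeval_X, ← pow_mul, ← pow_mul, mul_comm]

theorem adamsOp_monomial_one (μ : σ →₀ ℕ) (n : ℕ) :
    adamsOp (n + 1) (monomial μ (1 : ℤ) : MM σ) = (monomial μ (1 : ℤ) : MM σ) ^ (n + 1) := by
  set m : MM σ := monomial μ (1 : ℤ) with hm
  induction n with
  | zero =>
    have h := NR_lam_adamsOp m 0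
    simp only [Finset.range_one, Finset.sum_singleton, pow_zero, one_mul, Nat.sub_self,
      LambdaOps.lam_zero, mul_one, Nat.cast_zero, zero_add, LambdaOps.lam_one] at h
    rw [← h, pow_one]
  | succ n ih =>
    have h := NR_lam_adamsOp m (n + 1)
    beta_reduce at h
    rw [lam_monomial_one μ (n + 1 + 1) (by omega), zero_mul, Finset.sum_range_succ,
      Finset.sum_range_succ] at h
    have h0 : ∑ k ∈ range n, ((-1 : MM σ) ^ k * adamsOp (k + 1) m) * LambdaOps.lam (n + 1 - k) m = 0 := by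
      refine sum_eq_zero fun k hk => ?_
      rw [mem_range] at hk
      rw [lam_monomial_one μ (n + 1 - k) (by omega), mul_zero]
    rw [h0, zero_add, Nat.sub_self, LambdaOps.lam_zero, mul_one,
      show n + 1 - n = 1 by omega, LambdaOps.lam_one, ih] at h
    have h2 : (-1 : MM σ) ^ (n + 1) * ((-1 : MM σ) ^ (n + 1)) = 1 := by
      rw [← mul_pow]
      norm_num
    have h3 : adamsOp (n + 1 + 1) m = m ^ (n + 1) * m := by
      have h4 : (-1 : MM σ) ^ (n + 1) * adamsOp (n + 1 + 1) m =
          (-1 : MM σ) ^ (n + 1) * (m ^ (n + 1) * m) := by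
        linear_combination (-1 : MM σ) * h
      calc adamsOp (n + 1 + 1) m = ((-1 : MM σ) ^ (n + 1) * (-1 : MM σ) ^ (n + 1)) * adamsOp (n + 1 + 1) m := by
            rw [h2, one_mul]
        _ = (-1 : MM σ) ^ (n + 1) * ((-1 : MM σ) ^ (n + 1) * adamsOp (n + 1 + 1) m) := by ring
        _ = (-1 : MM σ) ^ (n + 1) * ((-1 : MM σ) ^ (n + 1) * (m ^ (n + 1) * m)) := by rw [h4]
        _ = m ^ (n + 1) * m := by rw [← mul_assoc, h2, one_mul]
    rw [h3, ← pow_succ]

theorem adamsOp_eq_psi (k : ℕ) (hk : 1 ≤ k) (p : MM σ) : adamsOp k p = psi k p := by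
  obtain ⟨n, rfl⟩ : ∃ n, k = n + 1 := ⟨k - 1, by omega⟩
  let f : MM σ →+ MM σ :=
    { toFun := adamsOp (n + 1)
      map_zero' := adamsOp_zero_arg _
      map_add' := adamsOp_add _ }
  have h : f = AddMonoidHomClass.toAddMonoidHom (psi (σ := σ) (n + 1)) := by
    apply AddMonoidAlgebra.addMonoidHom_ext
    intro μ c
    have hs : (AddMonoidAlgebra.single μ c : MM σ) = c • (monomial μ (1 : ℤ) : MM σ) := by
      rw [single_eq_monomial, smul_monomial, smul_eq_mul, mul_one]
    rw [hs, map_zsmul, map_zsmul]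
    congr 1
    change adamsOp (n + 1) (monomial μ (1 : ℤ) : MM σ) = psi (n + 1) (monomial μ (1 : ℤ))
    rw [adamsOp_monomial_one, psi_monomial_one]
  exact DFunLike.congr_fun h p

/-- the model is a special λ-ring -/
theorem isSpecial_model : IsSpecial (MM σ) := by
  refine isSpecial_of_adamsOp' natCancel_of_isAddTorsionFree ?_ ?_ ?_
  · intro k hk
    rw [adamsOp_eq_psi k hk, map_one]
  · intro k hk x y
    rw [adamsOp_eq_psi k hk, adamsOp_eq_psi k hk, adamsOp_eq_psi k hk, map_mul]
  · intro k k' hk hk' x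
    rw [adamsOp_eq_psi k hk, adamsOp_eq_psi k' hk', adamsOp_eq_psi (k * k') (Nat.mul_pos hk hk')]
    rw [psi, psi, psi, ← AlgHom.comp_apply]
    congr 1
    apply MvPolynomial.algHom_ext
    intro i
    rw [AlgHom.comp_apply, aeval_X, map_pow, aeval_X, aeval_X, ← pow_mul, mul_comm]

end Groth.Agent.Lib.T2H7.LModel
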