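import Groth.Agent.Lib.T2H7LModel
import Groth.Agent.Lib.T2H7LTerm
import Groth.Agent.Lib.Helper4GammaFil
import Groth.Agent.Lib.T2H7ChC

/-!
# The augmentation filtration of the model λ-ring (helper7)

`Iw w` is the `w`-th power of the augmentation ideal `(z_i - 1)` of `ℤ[z_i]`, described through the
shift `z_i ↦ z_i + 1`.  It is stable under the Adams, `λ`- and `γ`-operations, `ψ^k` acts on
`Iw w / Iw (w+1)` as `k^w`, `γ^j` maps `Iw 1` into `Iw j`, and `γ^m` acts on `Iw m / Iw (m+1)` as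
`(-1)^(m-1) (m-1)!`.
-/

set_option autoImplicit false
universe u

noncomputable section

namespace Groth.Agent.Lib.T2H7.LModelFil

open MvPolynomial Finset LambdaRing
open Groth.Agent.Lib.Helper4 Groth.Agent.Lib.Helper4.LUniv Groth.Agent.Lib.T2H7.LModel

variable {σ : Type*}

attribute [local instance] modelOps

/-- the shift `z_i ↦ z_i + 1` -/
def tauS : MM σ →ₐ[ℤ] MM σ := aeval (fun i => (X i : MM σ) + 1)

/-- the powers of the augmentation ideal -/
def Iw (w : ℕ) : Ideal (MM σ) := Ideal.comap (tauS (σ := σ)) (idealOfVars σ ℤ ^ w)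

theorem mem_Iw {w : ℕ} {q : MM σ} : q ∈ Iw w ↔ tauS q ∈ idealOfVars σ ℤ ^ w := Iff.rfl

theorem Iw_anti {a b : ℕ} (h : a ≤ b) : (Iw b : Ideal (MM σ)) ≤ Iw a :=
  Ideal.comap_mono (Ideal.pow_le_pow_right h)

theorem Iw_mul {a b : ℕ} {p q : MM σ} (hp : p ∈ Iw a) (hq : q ∈ Iw b) : p * q ∈ Iw (a + b) := by
  rw [mem_Iw, map_mul, pow_add]
  exact Ideal.mul_mem_mul hp hq

theorem mem_Iw_zero (q : MM σ) : q ∈ Iw 0 := by
  rw [mem_Iw, pow_zero, Ideal.one_eq_top]
  trivial

theorem Iw_natCast_mul {w : ℕ} {n : ℕ} (hn : n ≠ 0) {q : MM σ} (h : (n : MM σ) * q ∈ Iw w) :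
    q ∈ Iw w := by
  rw [mem_Iw, mem_pow_idealOfVars_iff'] at *
  intro x hx
  have h1 := h x hx
  rw [map_mul, map_natCast] at h1
  have h2 : ((n : ℕ) : MM σ) = C ((n : ℕ) : ℤ) := by simp
  rw [h2, coeff_C_mul] at h1
  rcases mul_eq_zero.mp h1 with h3 | h3
  · exact absurd h3 (by exact_mod_cast hn)
  · exact h3

/-! ### the Adams operations after the shift -/

/-- `ψ^k` after the shift -/
def psiS (k : ℕ) : MM σ →ₐ[ℤ] MM σ := aeval (fun i => ((X i : MM σ) + 1) ^ k - 1)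

theorem tauS_psi (k : ℕ) (p : MM σ) : tauS (psi k p) = psiS k (tauS p) := by
  rw [← AlgHom.comp_apply, ← AlgHom.comp_apply]
  congr 1
  apply MvPolynomial.algHom_ext
  intro i
  simp [psi, tauS, psiS]

theorem X_mem_J (i : σ) : (X i : MM σ) ∈ idealOfVars σ ℤ := Ideal.subset_span ⟨i, rfl⟩

theorem psiS_X_mem (k : ℕ) (i : σ) : psiS k (X i : MM σ) ∈ idealOfVars σ ℤ := by
  rw [psiS, aeval_X, ← geom_sum_mul, add_sub_cancel_right]
  exact Ideal.mul_mem_left _ _ (X_mem_J i)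

theorem psiS_sub_mem (k : ℕ) (q : MM σ) : psiS k q - q ∈ idealOfVars σ ℤ := by
  induction q using MvPolynomial.induction_on with
  | C c =>
    rw [← algebraMap_eq, AlgHom.commutes, sub_self]
    exact Ideal.zero_mem _
  | add p q hp hq =>
    rw [map_add, add_sub_add_comm]
    exact Ideal.add_mem _ hp hq
  | mul_X p i hp =>
    rw [map_mul]
    have : psiS k p * psiS k (X i) - p * X i =
        (psiS k p - p) * psiS k (X i) + p * (psiS k (X i) - X i) := by ring
    rw [this]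
    exact Ideal.add_mem _ (Ideal.mul_mem_left _ _ (psiS_X_mem k i))
      (Ideal.mul_mem_left _ _ (Ideal.sub_mem _ (psiS_X_mem k i) (X_mem_J i)))

theorem psiS_mem_J (k : ℕ) {q : MM σ} (hq : q ∈ idealOfVars σ ℤ) : psiS k q ∈ idealOfVars σ ℤ := by
  have := Ideal.add_mem _ (psiS_sub_mem k q) hq
  rwa [sub_add_cancel] at this

theorem psiS_mem_pow (k w : ℕ) {q : MM σ} (hq : q ∈ idealOfVars σ ℤ ^ w) :
    psiS k q ∈ idealOfVars σ ℤ ^ w := by
  have h1 : Ideal.map (psiS (σ := σ) k) (idealOfVars σ ℤ) ≤ idealOfVars σ ℤ :=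
    Ideal.map_le_iff_le_comap.mpr fun q hq => psiS_mem_J k hq
  have h2 := Ideal.mem_map_of_mem (psiS (σ := σ) k) hq
  rw [Ideal.map_pow] at h2
  exact Ideal.pow_right_mono h1 w h2

theorem one_add_pow_sub_mem (k : ℕ) (i : σ) :
    ((X i : MM σ) + 1) ^ k - 1 - (k : MM σ) * X i ∈ idealOfVars σ ℤ ^ 2 := by
  induction k with
  | zero => simp
  | succ k ih =>
    have : ((X i : MM σ) + 1) ^ (k + 1) - 1 - ((k + 1 : ℕ) : MM σ) * X i =
        (X i + 1) * ((X i + 1) ^ k - 1 - (k : MM σ) * X i) + (k : MM σ) * X i ^ 2 := by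
      push_cast
      ring
    rw [this]
    exact Ideal.add_mem _ (Ideal.mul_mem_left _ _ ih)
      (Ideal.mul_mem_left _ _ (Ideal.pow_mem_pow (X_mem_J i) 2))

theorem psiS_sub_mul_mem (k : ℕ) {b : MM σ} (hb : b ∈ idealOfVars σ ℤ) :
    psiS k b - (k : MM σ) * b ∈ idealOfVars σ ℤ ^ 2 := by
  induction hb using Submodule.span_induction with
  | mem b hb =>
    obtain ⟨i, rfl⟩ := hb
    rw [psiS, aeval_X]
    exact one_add_pow_sub_mem k i
  | zero => simp
  | add x y _ _ hx hy =>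
    rw [map_add, mul_add, add_sub_add_comm]
    exact Ideal.add_mem _ hx hy
  | smul c x hx ih =>
    rw [smul_eq_mul, map_mul]
    have : psiS k c * psiS k x - (k : MM σ) * (c * x) =
        psiS k c * (psiS k x - (k : MM σ) * x) + (psiS k c - c) * ((k : MM σ) * x) := by ring
    rw [this]
    refine Ideal.add_mem _ (Ideal.mul_mem_left _ _ ih) ?_
    rw [pow_two]
    exact Ideal.mul_mem_mul (psiS_sub_mem k c) (Ideal.mul_mem_left _ _ hx)

theorem psiS_sub_pow_mul_mem (k w : ℕ) {q : MM σ} (hq : q ∈ idealOfVars σ ℤ ^ w) :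
    psiS k q - (k : MM σ) ^ w * q ∈ idealOfVars σ ℤ ^ (w + 1) := by
  induction w generalizing q with
  | zero =>
    rw [pow_zero, one_mul, zero_add, pow_one]
    exact psiS_sub_mem k q
  | succ w ih =>
    rw [pow_succ] at hq
    refine Submodule.mul_induction_on hq ?_ ?_
    · intro a ha b hb
      rw [map_mul]
      have : psiS k a * psiS k b - (k : MM σ) ^ (w + 1) * (a * b) =
          (psiS k a - (k : MM σ) ^ w * a) * psiS k b +
            (k : MM σ) ^ w * (a * (psiS k b - (k : MM σ) * b)) := by ring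
      rw [this]
      refine Ideal.add_mem _ ?_ (Ideal.mul_mem_left _ _ ?_)
      · rw [pow_succ (idealOfVars σ ℤ) (w + 1)]
        exact Ideal.mul_mem_mul (ih ha) (psiS_mem_J k hb)
      · rw [show w + 1 + 1 = w + 2 by ring, pow_add]
        exact Ideal.mul_mem_mul ha (psiS_sub_mul_mem k hb)
    · intro x y hx hy
      rw [map_add, mul_add, add_sub_add_comm]
      exact Ideal.add_mem _ hx hy

theorem psi_mem_Iw (k w : ℕ) {q : MM σ} (hq : q ∈ Iw w) : psi k q ∈ Iw w := by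
  rw [mem_Iw, tauS_psi]
  exact psiS_mem_pow k w hq

theorem psi_sub_pow_mul_mem (k w : ℕ) {q : MM σ} (hq : q ∈ Iw w) :
    psi k q - (k : MM σ) ^ w * q ∈ Iw (w + 1) := by
  rw [mem_Iw, map_sub, map_mul, map_pow, map_natCast, tauS_psi]
  exact psiS_sub_pow_mul_mem k w hq

/-! ### stability under `λ` and `γ` -/

theorem newton_model (q : MM σ) (n : ℕ) :
    LambdaOps.lam (n + 1) q * ((n : MM σ) + 1) =
      ∑ k ∈ range (n + 1), ((-1) ^ k * psi (k + 1) q) * LambdaOps.lam (n - k) q := by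
  have h := NR_lam_adamsOp q n
  beta_reduce at h
  rw [h]
  refine sum_congr rfl fun k _ => ?_
  rw [adamsOp_eq_psi (k + 1) (Nat.succ_pos k)]

theorem lam_mem_Iw (w : ℕ) {q : MM σ} (hq : q ∈ Iw w) (j : ℕ) (hj : 1 ≤ j) :
    LambdaOps.lam j q ∈ Iw w := by
  obtain ⟨n, rfl⟩ : ∃ n, j = n + 1 := ⟨j - 1, by omega⟩
  have h := newton_model q n
  have h2 : ((n + 1 : ℕ) : MM σ) * LambdaOps.lam (n + 1) q ∈ Iw w := by
    have : ((n + 1 : ℕ) : MM σ) * LambdaOps.lam (n + 1) q =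
        LambdaOps.lam (n + 1) q * ((n : MM σ) + 1) := by push_cast; ring
    rw [this, h]
    refine Ideal.sum_mem _ fun k _ => ?_
    exact Ideal.mul_mem_right _ _ (Ideal.mul_mem_left _ _ (psi_mem_Iw (k + 1) w hq))
  exact Iw_natCast_mul (Nat.succ_ne_zero n) h2

theorem gamma_mem_Iw (w : ℕ) {q : MM σ} (hq : q ∈ Iw w) (j : ℕ) (hj : 1 ≤ j) :
    gamma j q ∈ Iw w := by
  obtain ⟨n, rfl⟩ : ∃ n, j = n + 1 := ⟨j - 1, by omega⟩
  rw [Groth.Agent.Lib.T2H7.LTerm.gamma_succ_eq]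
  exact Ideal.sum_mem _ fun i _ => Ideal.mul_mem_left _ _ (lam_mem_Iw w hq (i + 1) (Nat.succ_pos i))

/-! ### the leading terms -/

theorem succ_mul_lam_sub_mem (m : ℕ) (hm : 1 ≤ m) {q : MM σ} (hq : q ∈ Iw m) (n : ℕ) :
    ((n + 1 : ℕ) : MM σ) * LambdaOps.lam (n + 1) q -
      ((-1) ^ n * ((n + 1 : ℕ) : MM σ) ^ m) * q ∈ Iw (m + 1) := by
  have h := newton_model q n
  rw [Finset.sum_range_succ, Nat.sub_self, LambdaOps.lam_zero, mul_one] at h
  have e : ((n + 1 : ℕ) : MM σ) * LambdaOps.lam (n + 1) q - ((-1) ^ n * ((n + 1 : ℕ) : MM σ) ^ m) * q =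
      (∑ k ∈ range n, ((-1) ^ k * psi (k + 1) q) * LambdaOps.lam (n - k) q) +
        (-1) ^ n * (psi (n + 1) q - ((n + 1 : ℕ) : MM σ) ^ m * q) := by
    have : ((n + 1 : ℕ) : MM σ) * LambdaOps.lam (n + 1) q =
        LambdaOps.lam (n + 1) q * ((n : MM σ) + 1) := by push_cast; ring
    rw [this, h]
    ring
  rw [e]
  refine Ideal.add_mem _ (Ideal.sum_mem _ fun k hk => ?_)
    (Ideal.mul_mem_left _ _ (psi_sub_pow_mul_mem (n + 1) m hq))
  rw [mem_range] at hk
  have h1 : psi (k + 1) q ∈ Iw m := psi_mem_Iw (k + 1) m hq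
  have h2 : LambdaOps.lam (n - k) q ∈ Iw m := lam_mem_Iw m hq (n - k) (by omega)
  have h3 := Iw_mul h1 h2
  rw [mul_assoc]
  exact Ideal.mul_mem_left _ _ (Iw_anti (by omega) h3)

open Groth.Agent.Lib.T2H7.ChC in
theorem sum_choose_succ_pow (n : ℕ) :
    ∑ i ∈ range (n + 1), ((n + 1).choose (i + 1) : ℤ) * (-1) ^ i * ((i + 1 : ℕ) : ℤ) ^ (n + 1) =
      ((n + 1 : ℕ) : ℤ) * ((-1) ^ n * (n.factorial : ℤ)) := by
  have h := Acoef_self (n + 1)
  rw [Acoef, Finset.sum_range_succ'] at h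
  simp only [Nat.choose_zero_right, Nat.cast_one, one_mul, Nat.cast_zero, ne_eq,
    Nat.add_eq_zero_iff, one_ne_zero, and_false, not_false_eq_true, zero_pow, mul_zero,
    add_zero] at h
  have h2 : ∑ i ∈ range (n + 1), ((n + 1).choose (i + 1) : ℤ) * (-1) ^ i * ((i + 1 : ℕ) : ℤ) ^ (n + 1) =
      ∑ i ∈ range (n + 1), ((n + 1).choose (i + 1) : ℤ) * (-1) ^ (i + 1 + 1) * ((i + 1 : ℕ) : ℤ) ^ (n + 1) := by
    refine sum_congr rfl fun i _ => ?_
    rw [pow_succ, pow_succ]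
    ring
  rw [h2, h, Nat.factorial_succ]
  push_cast
  ring

theorem gamma_sub_mem (m : ℕ) (hm : 1 ≤ m) {q : MM σ} (hq : q ∈ Iw m) :
    gamma m q - ((-1) ^ (m - 1) * ((m - 1).factorial : MM σ)) * q ∈ Iw (m + 1) := by
  obtain ⟨n, rfl⟩ : ∃ n, m = n + 1 := ⟨m - 1, by omega⟩
  apply Iw_natCast_mul (Nat.succ_ne_zero n)
  rw [Nat.add_sub_cancel]
  have key : ((n + 1 : ℕ) : MM σ) * (gamma (n + 1) q - ((-1) ^ n * (n.factorial : MM σ)) * q) =
      ∑ i ∈ range (n + 1), ((n + 1).choose (i + 1) : MM σ) *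
        (((i + 1 : ℕ) : MM σ) * LambdaOps.lam (i + 1) q -
          ((-1) ^ i * ((i + 1 : ℕ) : MM σ) ^ (n + 1)) * q) := by
    have hA : ((n + 1 : ℕ) : MM σ) * gamma (n + 1) q =
        ∑ i ∈ range (n + 1), ((n + 1).choose (i + 1) : MM σ) *
          (((i + 1 : ℕ) : MM σ) * LambdaOps.lam (i + 1) q) := by
      rw [Groth.Agent.Lib.T2H7.LTerm.gamma_succ_eq, Finset.mul_sum]
      refine sum_congr rfl fun i _ => ?_
      have hc : ((n + 1 : ℕ) : MM σ) * (n.choose i : MM σ) =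
          ((n + 1).choose (i + 1) : MM σ) * ((i + 1 : ℕ) : MM σ) := by
        exact_mod_cast congrArg (Nat.cast : ℕ → MM σ) (Nat.add_one_mul_choose_eq n i)
      linear_combination (LambdaOps.lam (i + 1) q) * hc
    have hB : ((n + 1 : ℕ) : MM σ) * (((-1) ^ n * (n.factorial : MM σ)) * q) =
        ∑ i ∈ range (n + 1), ((n + 1).choose (i + 1) : MM σ) *
          (((-1) ^ i * ((i + 1 : ℕ) : MM σ) ^ (n + 1)) * q) := by
      have hsum := congrArg (Int.cast : ℤ → MM σ) (sum_choose_succ_pow n)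
      rw [Int.cast_sum] at hsum
      have h3 : ∑ i ∈ range (n + 1), ((n + 1).choose (i + 1) : MM σ) *
          (((-1) ^ i * ((i + 1 : ℕ) : MM σ) ^ (n + 1)) * q) =
          (∑ i ∈ range (n + 1), ((((n + 1).choose (i + 1) : ℤ) * (-1) ^ i *
            ((i + 1 : ℕ) : ℤ) ^ (n + 1) : ℤ) : MM σ)) * q := by
        rw [Finset.sum_mul]
        refine sum_congr rfl fun i _ => ?_
        push_cast
        ring
      rw [h3, hsum]
      push_cast
      ring
    rw [mul_sub, hA, hB, ← Finset.sum_sub_distrib]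
    exact sum_congr rfl fun i _ => (mul_sub _ _ _).symm
  rw [Nat.succ_eq_add_one, key]
  exact Ideal.sum_mem _ fun i _ =>
    Ideal.mul_mem_left _ _ (succ_mul_lam_sub_mem (n + 1) hm hq i)

/-! ### `γ^j` maps the augmentation ideal into its `j`-th power -/

/-- the augmentation -/
def augM : MM σ →ₐ[ℤ] ℤ := aeval (fun _ => (1 : ℤ))

theorem mem_Iw_one_iff {q : MM σ} : q ∈ Iw 1 ↔ augM q = 0 := by
  have h1 : augM q = constantCoeff (tauS q) := by
    induction q using MvPolynomial.induction_on with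
    | C c => simp [augM, tauS]
    | add p q hp hq => rw [map_add, map_add, map_add, hp, hq]
    | mul_X p i hp =>
      rw [map_mul, map_mul, map_mul, hp]
      simp [augM, tauS]
  rw [mem_Iw, mem_pow_idealOfVars_iff', h1, constantCoeff_eq]
  constructor
  · intro h
    exact h 0 (by simp)
  · intro h x hx
    have : x = 0 := by
      rw [Nat.lt_one_iff] at hx
      exact (Finsupp.degree_eq_zero_iff x).mp hx
    rw [this]
    exact h

theorem monomial_sub_one_mem (μ : σ →₀ ℕ) : (monomial μ (1 : ℤ) : MM σ) - 1 ∈ Iw 1 := by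
  rw [mem_Iw_one_iff, map_sub, map_one augM, sub_eq_zero, augM, aeval_monomial]
  simp

/-- the set of monomials -/
def monoSet (σ : Type*) : Set (MM σ) := {m | ∃ μ : σ →₀ ℕ, m = monomial μ (1 : ℤ)}

theorem closure_monoSet : AddSubgroup.closure (monoSet σ) = ⊤ := by
  rw [eq_top_iff]
  intro p hp
  clear hp
  induction p using MvPolynomial.induction_on' with
  | monomial μ c =>
    have : (monomial μ c : MM σ) = c • (monomial μ (1 : ℤ) : MM σ) := by
      rw [smul_monomial, smul_eq_mul, mul_one]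
    rw [this]
    exact AddSubgroup.zsmul_mem _ (AddSubgroup.subset_closure (show _ ∈ monoSet σ from ⟨μ, rfl⟩)) c
  | add p q hp hq => exact AddSubgroup.add_mem _ hp hq

theorem gamma_monomial_sub_one_mem (μ : σ →₀ ℕ) (k : ℕ) :
    gamma k ((monomial μ (1 : ℤ) : MM σ) - 1) ∈ Iw k := by
  have h := gammaSeries_sub_one (K := MM σ) (fun j hj => lam_one_eq_zero j hj)
    (monomial μ (1 : ℤ) : MM σ) (fun j hj => lam_monomial_one μ j hj)
  have h2 := congrArg (PowerSeries.coeff k) h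
  rw [coeff_gammaSeries] at h2
  rw [h2]
  rcases k with _ | _ | k
  · exact mem_Iw_zero _
  · simp only [zero_add, map_add, PowerSeries.coeff_one, one_ne_zero, if_false,
      PowerSeries.coeff_C_mul, PowerSeries.coeff_one_X, mul_one]
    exact monomial_sub_one_mem μ
  · rw [map_add, PowerSeries.coeff_one, if_neg (by omega), PowerSeries.coeff_C_mul,
      PowerSeries.coeff_X, if_neg (by omega), mul_zero, add_zero]
    exact Ideal.zero_mem _

open Groth.Agent.Lib.Helper4.GFil in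
theorem gamma_mem_Iw_of_mem_one {u : MM σ} (hu : u ∈ Iw 1) (j : ℕ) : gamma j u ∈ Iw j := by
  have h := gamma_mem (augM (σ := σ)) (monoSet σ) closure_monoSet u (mem_Iw_one_iff.mp hu) j
  have hle : M (augM (σ := σ)) (monoSet σ) j ≤ (Iw j : Ideal (MM σ)).restrictScalars ℤ := by
    apply Submodule.span_le.mpr
    rintro y ⟨l, hl, hn, rfl⟩
    refine Iw_anti hn ?_
    clear hn
    induction l with
    | nil => exact mem_Iw_zero _
    | cons p l ih =>
      simp only [List.map_cons, List.prod_cons, List.sum_cons]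
      refine Iw_mul ?_ (ih fun q hq => hl q (List.mem_cons_of_mem _ hq))
      obtain ⟨μ, hμ⟩ := hl p (by simp)
      rw [hμ]
      have : (algebraMap ℤ (MM σ)) (augM (monomial μ (1 : ℤ) : MM σ)) = 1 := by
        rw [augM, aeval_monomial]
        simp
      rw [this]
      exact gamma_monomial_sub_one_mem μ p.1
  exact hle h

end Groth.Agent.Lib.T2H7.LModelFil
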