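import Groth.Agent.Lib.T2H7LModelFil
import Mathlib

/-!
# The transfer principle for universal `γ`-identities

A polynomial `F` in the universal variables `G_{s,k}` (standing for `γ^{k+1}(x_s)`) whose value in
every model ring `ℤ[z_{s,a}]`, at the generic elements `x_s = ∑_a (z_{s,a} - 1)`, lies in the
`w`-th power of the augmentation ideal, has only monomials of weight at least `w`.  Hence its value
in any ring lies in any ideal containing the values of all monomials of weight at least `w`.
-/

set_option autoImplicit false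

noncomputable section

namespace Groth.Agent.Lib.T2H7.LTransfer

open MvPolynomial Finset LambdaRing
open Groth.Agent.Lib.Helper4 Groth.Agent.Lib.T2H7.LModel Groth.Agent.Lib.T2H7.LModelFil
open Groth.Agent.Lib.T2H7.LTerm

attribute [local instance] modelOps

/-! ### elementary symmetric functions are onto over the complex numbers -/

theorem exists_fin_enum {α : Type*} (s : Multiset α) (N : ℕ) (hs : Multiset.card s = N) :
    ∃ z : Fin N → α, (Finset.univ : Finset (Fin N)).val.map z = s := by
  have hl : s.toList.length = N := by rw [Multiset.length_toList, hs]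
  subst hl
  refine ⟨fun i => s.toList.get i, ?_⟩
  rw [Fin.univ_val_map, List.ofFn_get, Multiset.coe_toList]

theorem exists_esymm_eq (N : ℕ) (g : Fin N → ℂ) :
    ∃ z : Fin N → ℂ, ∀ k : Fin N, aeval z (esymm (Fin N) ℤ ((k : ℕ) + 1)) = g k := by
  classical
  let f : Fin N → ℂ := fun i => (-1) ^ (N - (i : ℕ)) * g (Fin.rev i)
  let q : Polynomial ℂ := ∑ i : Fin N, Polynomial.C (f i) * Polynomial.X ^ (i : ℕ)
  have hq : q.degree < N := Polynomial.degree_sum_fin_lt f
  let p : Polynomial ℂ := Polynomial.X ^ N + q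
  have hmon : p.Monic := Polynomial.monic_X_pow_add hq
  have hdeg : p.natDegree = N := by
    have h1 : q.degree < (Polynomial.X ^ N : Polynomial ℂ).degree := by
      rw [Polynomial.degree_X_pow]; exact hq
    have h2 := Polynomial.natDegree_add_eq_left_of_degree_lt h1
    rw [Polynomial.natDegree_X_pow] at h2
    exact h2
  have hsp : p.Splits := IsAlgClosed.splits p
  have hcard : Multiset.card p.roots = N := (Polynomial.splits_iff_card_roots.mp hsp).trans hdeg
  obtain ⟨z, hz⟩ := exists_fin_enum p.roots N hcard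
  refine ⟨z, fun k => ?_⟩
  rw [aeval_esymm_eq_multiset_esymm, hz]
  have hi : ((Fin.rev k : Fin N) : ℕ) = N - ((k : ℕ) + 1) := Fin.val_rev k
  have hkN : (k : ℕ) < N := k.2
  have hk : ((Fin.rev k : Fin N) : ℕ) ≤ p.natDegree := by rw [hdeg, hi]; omega
  have h1 := Polynomial.coeff_eq_esymm_roots_of_splits hsp hk
  rw [hmon.leadingCoeff, one_mul, hdeg] at h1
  have h2 : N - ((Fin.rev k : Fin N) : ℕ) = (k : ℕ) + 1 := by rw [hi]; omega
  rw [h2] at h1
  have h3 : p.coeff ((Fin.rev k : Fin N) : ℕ) = (-1) ^ ((k : ℕ) + 1) * g k := by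
    have hX : (Polynomial.X ^ N : Polynomial ℂ).coeff ((Fin.rev k : Fin N) : ℕ) = 0 := by
      rw [Polynomial.coeff_X_pow, if_neg]
      rw [hi]; omega
    have hqc : q.coeff ((Fin.rev k : Fin N) : ℕ) = f (Fin.rev k) := by
      simp only [q, Polynomial.finsetSum_coeff, Polynomial.coeff_C_mul_X_pow]
      rw [Finset.sum_eq_single (Fin.rev k)]
      · rw [if_pos rfl]
      · intro b _ hb
        rw [if_neg]
        intro h
        exact hb (Fin.ext h.symm)
      · intro h
        exact absurd (Finset.mem_univ _) h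
    rw [Polynomial.coeff_add, hX, zero_add, hqc]
    simp only [f]
    rw [h2, Fin.rev_rev]
  rw [h3] at h1
  have hs : ((-1 : ℂ) ^ ((k : ℕ) + 1)) ≠ 0 := pow_ne_zero _ (by norm_num)
  exact (mul_left_cancel₀ hs h1).symm

/-! ### independence of the elementary symmetric functions of several families -/

variable (r N : ℕ)

/-- the elementary symmetric functions of the `r` families of `N` variables -/
def WW : Fin r × Fin N → MvPolynomial (Fin r × Fin N) ℤ :=
  fun p => rename (Prod.mk p.1) (esymm (Fin N) ℤ ((p.2 : ℕ) + 1))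

theorem aeval_WW_eq_zero (F : MvPolynomial (Fin r × Fin N) ℤ) (hF : aeval (WW r N) F = 0) :
    F = 0 := by
  apply MvPolynomial.map_injective (Int.castRingHom ℂ) Int.cast_injective
  rw [map_zero]
  apply MvPolynomial.funext
  intro g
  rw [map_zero]
  have hz : ∀ s : Fin r, ∃ z : Fin N → ℂ, ∀ k : Fin N,
      aeval z (esymm (Fin N) ℤ ((k : ℕ) + 1)) = g (s, k) :=
    fun s => exists_esymm_eq N (fun k => g (s, k))
  choose z hz using hz
  have h1 : eval g (map (Int.castRingHom ℂ) F) = aeval g F := by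
    rw [eval_map, aeval_def, algebraMap_int_eq]
  rw [h1]
  have h2 : (aeval g F : ℂ) =
      aeval (fun p : Fin r × Fin N => z p.1 p.2) (aeval (WW r N) F) := by
    have h3 := map_aeval_int
      ((aeval (fun p : Fin r × Fin N => z p.1 p.2) :
        MvPolynomial (Fin r × Fin N) ℤ →ₐ[ℤ] ℂ) : MvPolynomial (Fin r × Fin N) ℤ →+* ℂ)
      (WW r N) F
    rw [RingHom.coe_coe] at h3
    have hg : g = fun i => aeval (fun p : Fin r × Fin N => z p.1 p.2) (WW r N i) := by
      funext p
      rw [WW, aeval_rename]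
      exact (hz p.1 p.2).symm
    exact (congrArg (fun g' : Fin r × Fin N → ℂ => (aeval g' F : ℂ)) hg).trans h3.symm
  rw [h2, hF, map_zero]

/-! ### the model -/

/-- the weight of the universal variables -/
def wtG : Fin r × ℕ → ℕ := fun p => p.2 + 1

/-- the generic elements of the model -/
def xN (s : Fin r) : MM (Fin r × Fin N) :=
  ∑ a : Fin N, (X (s, a) : MM (Fin r × Fin N)) - (N : MM (Fin r × Fin N))

theorem gamma_xN (s : Fin r) (k : ℕ) :
    gamma k (xN r N s) = ∑ S ∈ (univ : Finset (Fin N)).powersetCard k,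
      ∏ a ∈ S, ((X (s, a) : MM (Fin r × Fin N)) - 1) :=
  gamma_sum_sub_card (fun j hj => LModel.lam_one_eq_zero j hj) N (fun a => X (s, a))
    (fun a j hj => LModel.lam_X (s, a) j hj) k

theorem tauS_gamma_xN (s : Fin r) (k : ℕ) :
    tauS (gamma k (xN r N s)) = rename (Prod.mk s) (esymm (Fin N) ℤ k) := by
  rw [gamma_xN, map_sum, esymm, map_sum]
  refine sum_congr rfl fun S _ => ?_
  rw [map_prod, map_prod]
  refine prod_congr rfl fun a _ => ?_
  rw [map_sub, map_one, rename_X, tauS, aeval_X, add_sub_cancel_right]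

theorem xN_mem (s : Fin r) : xN r N s ∈ Iw 1 := by
  rw [mem_Iw_one_iff]
  simp [xN, augM]

/-- the values of the universal variables in the shifted model -/
def EG (p : Fin r × ℕ) : MvPolynomial (Fin r × Fin N) ℤ :=
  rename (Prod.mk p.1) (esymm (Fin N) ℤ (p.2 + 1))

/-- the evaluation of the universal ring in the shifted model -/
def EN : Op r →ₐ[ℤ] MvPolynomial (Fin r × Fin N) ℤ := aeval (EG r N)

theorem tauS_evG (F : Op r) : tauS (evG (xN r N) F) = EN r N F := by
  have h : (tauS.comp (evG (xN r N)) : Op r →ₐ[ℤ] MvPolynomial (Fin r × Fin N) ℤ) = EN r N := by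
    apply MvPolynomial.algHom_ext
    rintro ⟨s, k⟩
    have h1 : EN r N (X (s, k)) = rename (Prod.mk s) (esymm (Fin N) ℤ (k + 1)) := by
      rw [EN, aeval_X]; rfl
    rw [h1, AlgHom.comp_apply]
    exact (congrArg tauS (evG_X (xN r N) s k)).trans (tauS_gamma_xN r N s (k + 1))
  exact DFunLike.congr_fun h F

theorem EN_eq_zero_imp (F : Op r) (hv : ∀ p ∈ F.vars, p.2 < N) (h : EN r N F = 0) : F = 0 := by
  let ι : Fin r × Fin N → Fin r × ℕ := fun p => (p.1, (p.2 : ℕ))
  have hι : Function.Injective ι := by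
    intro p q hpq
    simp only [ι, Prod.mk.injEq] at hpq
    exact Prod.ext hpq.1 (Fin.ext hpq.2)
  obtain ⟨F₀, rfl⟩ := exists_rename_eq_of_vars_subset_range F ι hι (by
    intro p hp
    exact ⟨(p.1, ⟨p.2, hv p (by exact_mod_cast hp)⟩), rfl⟩)
  have h2 : aeval (WW r N) F₀ = 0 := by
    rw [← h, EN, aeval_rename]
    rfl
  rw [aeval_WW_eq_zero r N F₀ h2, map_zero]

theorem EN_monomial_isHomogeneous (μ : Fin r × ℕ →₀ ℕ) (c : ℤ) :
    (EN r N (monomial μ c)).IsHomogeneous (Finsupp.weight (wtG r) μ) := by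
  refine SymPoly.isHomogeneous_aeval_of_isWeightedHomogeneous (wtG r) (EG r N) (fun p => ?_)
    (isWeightedHomogeneous_monomial (wtG r) μ c rfl)
  exact (SymPoly.esymm_isHomogeneous (Fin N) ℤ (p.2 + 1)).rename_isHomogeneous

theorem mem_pow_of_isHomogeneous {σ : Type*} {p : MvPolynomial σ ℤ} {d w : ℕ}
    (hp : p.IsHomogeneous d) (hw : w ≤ d) : p ∈ idealOfVars σ ℤ ^ w := by
  rw [mem_pow_idealOfVars_iff']
  intro x hx
  exact hp.coeff_eq_zero (by omega)

/-! ### the transfer principle -/

/-- a universal polynomial whose values in all models lie in the `w`-th power of the augmentation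
ideal has only monomials of weight at least `w` -/
theorem weight_le_of_mem_Iw (F : Op r) (w : ℕ)
    (h : ∀ N : ℕ, evG (xN r N) F ∈ Iw w) :
    ∀ μ ∈ F.support, w ≤ Finsupp.weight (wtG r) μ := by
  classical
  by_contra hcon
  simp only [not_forall, not_le] at hcon
  obtain ⟨μ₀, hμ₀, hlt⟩ := hcon
  set N := F.vars.sup (fun p => p.2) + 1 with hN
  have hvars : ∀ p ∈ F.vars, p.2 < N := fun p hp =>
    Nat.lt_succ_of_le (Finset.le_sup (f := fun p : Fin r × ℕ => p.2) hp)
  set Slo := F.support.filter (fun μ => Finsupp.weight (wtG r) μ < w) with hSlo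
  set Flo : Op r := ∑ μ ∈ Slo, monomial μ (coeff μ F) with hFlo
  set Fhi : Op r := ∑ μ ∈ F.support.filter (fun μ => ¬ Finsupp.weight (wtG r) μ < w),
    monomial μ (coeff μ F) with hFhi
  have hsplit : Flo + Fhi = F := by
    rw [hFlo, hFhi, hSlo, Finset.sum_filter_add_sum_filter_not, support_sum_monomial_coeff]
  have hEN : EN r N F ∈ idealOfVars (Fin r × Fin N) ℤ ^ w := by
    rw [← tauS_evG]; exact h N
  have hhi : EN r N Fhi ∈ idealOfVars (Fin r × Fin N) ℤ ^ w := by
    rw [hFhi, map_sum]
    refine Ideal.sum_mem _ fun μ hμ => ?_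
    rw [mem_filter, not_lt] at hμ
    exact mem_pow_of_isHomogeneous (EN_monomial_isHomogeneous r N μ _) hμ.2
  have hlo : EN r N Flo ∈ idealOfVars (Fin r × Fin N) ℤ ^ w := by
    have h1 : EN r N Flo = EN r N F - EN r N Fhi := by
      rw [← hsplit, map_add, add_sub_cancel_right]
    rw [h1]; exact Ideal.sub_mem _ hEN hhi
  have hzero : EN r N Flo = 0 := by
    ext ν
    rw [coeff_zero]
    by_cases hν : Finsupp.degree ν < w
    · exact (mem_pow_idealOfVars_iff' w _).mp hlo ν hν
    · rw [hFlo, map_sum, coeff_sum]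
      refine Finset.sum_eq_zero fun μ hμ => ?_
      rw [hSlo, mem_filter] at hμ
      exact (EN_monomial_isHomogeneous r N μ _).coeff_eq_zero (by omega)
  have hFlo0 : Flo = 0 := by
    apply EN_eq_zero_imp r N Flo ?_ hzero
    intro p hp
    apply hvars
    rw [mem_vars_iff_mem_support] at hp ⊢
    obtain ⟨d, hd, hpd⟩ := hp
    refine ⟨d, ?_, hpd⟩
    by_contra hdF
    apply (mem_support_iff.mp hd)
    rw [hFlo, coeff_sum]
    refine Finset.sum_eq_zero fun μ hμ => ?_
    rw [coeff_monomial]
    split_ifs with heq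
    · subst heq
      exact absurd (mem_filter.mp hμ).1 hdF
    · rfl
  have h5 : coeff μ₀ Flo = coeff μ₀ F := by
    rw [hFlo, coeff_sum, Finset.sum_eq_single μ₀]
    · rw [coeff_monomial, if_pos rfl]
    · intro b _ hb
      rw [coeff_monomial, if_neg hb]
    · intro hn
      exact absurd (mem_filter.mpr ⟨hμ₀, hlt⟩) hn
  rw [hFlo0, coeff_zero] at h5
  exact (mem_support_iff.mp hμ₀) h5.symm

/-- **transfer**: the value of such a polynomial lies in every ideal containing the values of the
monomials of weight at least `w` -/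
theorem evG_mem_of_model (F : Op r) (w : ℕ) (h : ∀ N : ℕ, evG (xN r N) F ∈ Iw w)
    {A : Type*} [CommRing A] [LambdaOps A] (x : Fin r → A) (J : Ideal A)
    (hJ : ∀ μ : Fin r × ℕ →₀ ℕ, w ≤ Finsupp.weight (wtG r) μ → evG x (monomial μ 1) ∈ J) :
    evG x F ∈ J := by
  rw [← support_sum_monomial_coeff F, map_sum]
  refine Ideal.sum_mem _ fun μ hμ => ?_
  have h1 : (monomial μ (coeff μ F) : Op r) = C (coeff μ F) * monomial μ 1 := by
    rw [C_mul_monomial, mul_one]
  rw [h1, map_mul]
  exact Ideal.mul_mem_left _ _ (hJ μ (weight_le_of_mem_Iw r F w h μ hμ))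

/-! ### the two identities that are transferred -/

theorem evG_C {A : Type*} [CommRing A] [LambdaOps A] (x : Fin r → A) (c : ℤ) :
    evG x (C c : Op r) = (c : A) := by
  rw [evG, aeval_C]
  exact eq_intCast (algebraMap ℤ A) c

theorem gprod_mem (l : List (ℕ × Fin r)) :
    (LT.gprod l).eval (xN r N) ∈ Iw (l.map Prod.fst).sum := by
  rw [LT.eval_gprod]
  induction l with
  | nil =>
    simp only [List.map_nil, List.prod_nil, List.sum_nil]
    exact mem_Iw_zero _
  | cons p l ih =>
    simp only [List.map_cons, List.prod_cons, List.sum_cons]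
    exact Iw_mul (gamma_mem_Iw_of_mem_one (xN_mem r N p.2) p.1) ih

/-- `γ^j` of a product of `γ`'s of weight `a` lies in any ideal containing the monomials of weight at
least `a` -/
theorem gamma_gprod_mem {A : Type*} [CommRing A] [LambdaOps A] (hA : IsSpecial A) (x : Fin r → A)
    (J : Ideal A) (l : List (ℕ × Fin r)) (j : ℕ) (hj : 1 ≤ j)
    (hJ : ∀ μ : Fin r × ℕ →₀ ℕ, (l.map Prod.fst).sum ≤ Finsupp.weight (wtG r) μ →
      evG x (monomial μ 1) ∈ J) :
    gamma j ((l.map fun p => gamma p.1 (x p.2)).prod) ∈ J := by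
  have h := evG_mem_of_model r ((LT.gam j (LT.gprod l)).U 1) (l.map Prod.fst).sum (fun N => by
    rw [evG_U_one (xN r N) isSpecial_model, LT.eval_gam]
    exact gamma_mem_Iw _ (gprod_mem r N l) j hj) x J hJ
  rwa [evG_U_one x hA, LT.eval_gam, LT.eval_gprod] at h

/-- the congruence `γ^m(g) ≡ (-1)^(m-1) (m-1)! g` for a product `g` of `γ`'s of weight at least `m` -/
theorem gamma_sub_gprod_mem {A : Type*} [CommRing A] [LambdaOps A] (hA : IsSpecial A)
    (x : Fin r → A) (J : Ideal A) (l : List (ℕ × Fin r)) (m : ℕ) (hm : 1 ≤ m)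
    (hl : m ≤ (l.map Prod.fst).sum)
    (hJ : ∀ μ : Fin r × ℕ →₀ ℕ, m + 1 ≤ Finsupp.weight (wtG r) μ → evG x (monomial μ 1) ∈ J) :
    gamma m ((l.map fun p => gamma p.1 (x p.2)).prod) -
      ((-1) ^ (m - 1) * ((m - 1).factorial : A)) * (l.map fun p => gamma p.1 (x p.2)).prod ∈ J := by
  have h := evG_mem_of_model r
    ((LT.gam m (LT.gprod l)).U 1 - C ((-1) ^ (m - 1) * ((m - 1).factorial : ℤ)) * (LT.gprod l).U 1)
    (m + 1) (fun N => by
      rw [map_sub, map_mul, evG_C, evG_U_one (xN r N) isSpecial_model,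
        evG_U_one (xN r N) isSpecial_model, LT.eval_gam]
      have h1 := gamma_sub_mem m hm (Iw_anti hl (gprod_mem r N l))
      push_cast
      exact h1) x J hJ
  rw [map_sub, map_mul, evG_C, evG_U_one x hA, evG_U_one x hA, LT.eval_gam, LT.eval_gprod] at h
  push_cast at h
  exact h

end Groth.Agent.Lib.T2H7.LTransfer
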