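import Groth.Agent.Lib.T2H7LTransfer
import Mathlib

/-!
# Transfer with a truncated variable and division

The first universal variable `n` is subject to `γ^k n = 0` for `k > d`; its model has exactly `d`
line elements.  A universal polynomial whose model values are divisible by `γ^d n` is divisible by
the corresponding universal variable, and the weights of the quotient are read off in the model.
-/

set_option autoImplicit false

noncomputable section

namespace Groth.Agent.Lib.T2H7.LTransferT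

open MvPolynomial Finset LambdaRing
open Groth.Agent.Lib.Helper4 Groth.Agent.Lib.T2H7.LModel Groth.Agent.Lib.T2H7.LModelFil
open Groth.Agent.Lib.T2H7.LTerm Groth.Agent.Lib.T2H7.LTransfer

attribute [local instance] modelOps

/-! ### weights of the monomials, abstractly -/

theorem weight_le_of_E_mem {r : ℕ} {σ : Type*} (E : Op r →ₐ[ℤ] MvPolynomial σ ℤ)
    (hE : ∀ p : Fin r × ℕ, (E (X p)).IsHomogeneous (p.2 + 1))
    (V : Set (Fin r × ℕ))
    (hinj : ∀ R : Op r, (∀ p ∈ R.vars, p ∈ V) → E R = 0 → R = 0)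
    (F : Op r) (hF : ∀ p ∈ F.vars, p ∈ V) (w : ℕ) (h : E F ∈ idealOfVars σ ℤ ^ w) :
    ∀ μ ∈ F.support, w ≤ Finsupp.weight (wtG r) μ := by
  classical
  have hEq : E = aeval (fun p => E (X p)) := by
    apply MvPolynomial.algHom_ext
    intro p
    rw [aeval_X]
  have hmono : ∀ (μ : Fin r × ℕ →₀ ℕ) (c : ℤ),
      (E (monomial μ c)).IsHomogeneous (Finsupp.weight (wtG r) μ) := by
    intro μ c
    rw [DFunLike.congr_fun hEq (monomial μ c)]
    exact SymPoly.isHomogeneous_aeval_of_isWeightedHomogeneous (wtG r) (fun p => E (X p)) hE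
      (isWeightedHomogeneous_monomial (wtG r) μ c rfl)
  by_contra hcon
  simp only [not_forall, not_le] at hcon
  obtain ⟨μ₀, hμ₀, hlt⟩ := hcon
  set Slo := F.support.filter (fun μ => Finsupp.weight (wtG r) μ < w) with hSlo
  set Flo : Op r := ∑ μ ∈ Slo, monomial μ (coeff μ F) with hFlo
  set Fhi : Op r := ∑ μ ∈ F.support.filter (fun μ => ¬ Finsupp.weight (wtG r) μ < w),
    monomial μ (coeff μ F) with hFhi
  have hsplit : Flo + Fhi = F := by
    rw [hFlo, hFhi, hSlo, Finset.sum_filter_add_sum_filter_not, support_sum_monomial_coeff]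
  have hhi : E Fhi ∈ idealOfVars σ ℤ ^ w := by
    rw [hFhi, map_sum]
    refine Ideal.sum_mem _ fun μ hμ => ?_
    rw [mem_filter, not_lt] at hμ
    exact mem_pow_of_isHomogeneous (hmono μ _) hμ.2
  have hlo : E Flo ∈ idealOfVars σ ℤ ^ w := by
    have h1 : E Flo = E F - E Fhi := by
      rw [← hsplit, map_add, add_sub_cancel_right]
    rw [h1]; exact Ideal.sub_mem _ h hhi
  have hzero : E Flo = 0 := by
    ext ν
    rw [coeff_zero]
    by_cases hν : Finsupp.degree ν < w
    · exact (mem_pow_idealOfVars_iff' w _).mp hlo ν hν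
    · rw [hFlo, map_sum, coeff_sum]
      refine Finset.sum_eq_zero fun μ hμ => ?_
      rw [hSlo, mem_filter] at hμ
      exact (hmono μ _).coeff_eq_zero (by omega)
  have hFlo0 : Flo = 0 := by
    apply hinj Flo ?_ hzero
    intro p hp
    apply hF
    rw [mem_vars_iff_mem_support] at hp ⊢
    obtain ⟨d, hd, hpd⟩ := hp
    refine ⟨d, ?_, hpd⟩
    by_contra hdF
    apply (mem_support_iff.mp hd)
    rw [hFlo, coeff_sum]
    refine Finset.sum_eq_zero fun μ hμ => ?_
    rw [coeff_monomial]
    split_ifs with heq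
    · subst heq
      exact absurd (mem_filter.mp hμ).1 hdF
    · rfl
  have h5 : coeff μ₀ Flo = coeff μ₀ F := by
    rw [hFlo, coeff_sum, Finset.sum_eq_single μ₀]
    · rw [coeff_monomial, if_pos rfl]
    · intro b _ hb
      rw [coeff_monomial, if_neg hb]
    · intro hn
      exact absurd (mem_filter.mpr ⟨hμ₀, hlt⟩) hn
  rw [hFlo0, coeff_zero] at h5
  exact (mem_support_iff.mp hμ₀) h5.symm

/-! ### the model with a truncated first variable -/

theorem tauS_gamma_family {σ : Type*} {m : ℕ} (f : Fin m → σ) (k : ℕ) :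
    tauS (gamma k (∑ a : Fin m, (X (f a) : MM σ) - (m : MM σ))) =
      rename f (esymm (Fin m) ℤ k) := by
  rw [gamma_sum_sub_card (fun j hj => LModel.lam_one_eq_zero j hj) m (fun a => X (f a))
    (fun a j hj => LModel.lam_X (f a) j hj) k, map_sum, esymm, map_sum]
  refine sum_congr rfl fun S _ => ?_
  rw [map_prod, map_prod]
  refine prod_congr rfl fun a _ => ?_
  rw [map_sub, map_one, rename_X, tauS, aeval_X, add_sub_cancel_right]

theorem family_mem_Iw_one {σ : Type*} {m : ℕ} (f : Fin m → σ) :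
    (∑ a : Fin m, (X (f a) : MM σ) - (m : MM σ)) ∈ Iw 1 := by
  rw [mem_Iw_one_iff]
  simp [augM]

variable (d r N : ℕ)

/-- the variables of the model: `d` for the first element, `N` for each of the others -/
abbrev SigT : Type := Fin d ⊕ (Fin r × Fin N)

/-- the generic elements of the model -/
def xT : Fin (r + 1) → MM (SigT d r N) :=
  Fin.cases (∑ a : Fin d, (X (Sum.inl a) : MM (SigT d r N)) - (d : MM (SigT d r N)))
    (fun s => ∑ a : Fin N, (X (Sum.inr (s, a)) : MM (SigT d r N)) - (N : MM (SigT d r N)))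

/-- the values of the universal variables in the shifted model -/
def EGT (p : Fin (r + 1) × ℕ) : MvPolynomial (SigT d r N) ℤ :=
  Fin.cases (motive := fun _ => MvPolynomial (SigT d r N) ℤ)
    (rename Sum.inl (esymm (Fin d) ℤ (p.2 + 1)))
    (fun s => rename (fun a => Sum.inr (s, a)) (esymm (Fin N) ℤ (p.2 + 1))) p.1

/-- the evaluation of the universal ring in the shifted model -/
def ENT : Op (r + 1) →ₐ[ℤ] MvPolynomial (SigT d r N) ℤ := aeval (EGT d r N)

theorem EGT_zero (k : ℕ) : EGT d r N (0, k) = rename Sum.inl (esymm (Fin d) ℤ (k + 1)) := rfl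

theorem EGT_succ (s : Fin r) (k : ℕ) :
    EGT d r N (s.succ, k) = rename (fun a => Sum.inr (s, a)) (esymm (Fin N) ℤ (k + 1)) := rfl

theorem ENT_X (p : Fin (r + 1) × ℕ) : ENT d r N (X p) = EGT d r N p := by
  rw [ENT, aeval_X]

theorem xT_mem (s : Fin (r + 1)) : xT d r N s ∈ Iw 1 := by
  refine Fin.cases ?_ (fun s => ?_) s
  · exact family_mem_Iw_one _
  · exact family_mem_Iw_one _

theorem tauS_evG_T (F : Op (r + 1)) : tauS (evG (xT d r N) F) = ENT d r N F := by
  have h : (tauS.comp (evG (xT d r N)) : Op (r + 1) →ₐ[ℤ] MvPolynomial (SigT d r N) ℤ) =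
      ENT d r N := by
    apply MvPolynomial.algHom_ext
    rintro ⟨s, k⟩
    rw [ENT_X, AlgHom.comp_apply]
    refine (congrArg tauS (evG_X (xT d r N) s k)).trans ?_
    refine Fin.cases ?_ (fun s => ?_) s
    · exact tauS_gamma_family _ _
    · exact tauS_gamma_family _ _
  exact DFunLike.congr_fun h F

theorem EGT_isHomogeneous (p : Fin (r + 1) × ℕ) : (EGT d r N p).IsHomogeneous (p.2 + 1) := by
  obtain ⟨s, k⟩ := p
  refine Fin.cases ?_ (fun s => ?_) s
  · exact (SymPoly.esymm_isHomogeneous (Fin d) ℤ (k + 1)).rename_isHomogeneous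
  · exact (SymPoly.esymm_isHomogeneous (Fin N) ℤ (k + 1)).rename_isHomogeneous

/-- the variables that the model sees faithfully -/
def VT : Set (Fin (r + 1) × ℕ) := {p | (p.1 = 0 → p.2 < d) ∧ (p.1 ≠ 0 → p.2 < N)}

/-! ### complex points -/

theorem exists_point (g : Fin (r + 1) × ℕ → ℂ) :
    ∃ z : SigT d r N → ℂ, ∀ p ∈ VT d r N, aeval z (EGT d r N p) = g p := by
  obtain ⟨z0, hz0⟩ := exists_esymm_eq d (fun k => g (0, (k : ℕ)))
  have hzs : ∀ s : Fin r, ∃ z : Fin N → ℂ, ∀ k : Fin N,
      aeval z (esymm (Fin N) ℤ ((k : ℕ) + 1)) = g (s.succ, (k : ℕ)) :=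
    fun s => exists_esymm_eq N (fun k => g (s.succ, (k : ℕ)))
  choose zs hzs using hzs
  refine ⟨Sum.elim z0 (fun q => zs q.1 q.2), ?_⟩
  rintro ⟨s, k⟩ hp
  refine Fin.cases (motive := fun s => (s, k) ∈ VT d r N →
    aeval (Sum.elim z0 (fun q => zs q.1 q.2)) (EGT d r N (s, k)) = g (s, k)) ?_ (fun s => ?_) s hp
  · intro hp
    have hk : k < d := hp.1 rfl
    rw [EGT_zero, aeval_rename]
    exact hz0 ⟨k, hk⟩
  · intro hp
    have hk : k < N := hp.2 (Fin.succ_ne_zero s)
    rw [EGT_succ, aeval_rename]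
    exact hzs s ⟨k, hk⟩

theorem aeval_eq_of_point (g : Fin (r + 1) × ℕ → ℂ) (z : SigT d r N → ℂ)
    (hz : ∀ p ∈ VT d r N, aeval z (EGT d r N p) = g p) (R : Op (r + 1))
    (hR : ∀ p ∈ R.vars, p ∈ VT d r N) :
    (aeval g R : ℂ) = aeval z (ENT d r N R) := by
  have h := hom_congr_vars
    (f₁ := ((aeval g : Op (r + 1) →ₐ[ℤ] ℂ) : Op (r + 1) →+* ℂ))
    (f₂ := ((aeval z : MvPolynomial (SigT d r N) ℤ →ₐ[ℤ] ℂ) :
      MvPolynomial (SigT d r N) ℤ →+* ℂ).comp
        ((ENT d r N : Op (r + 1) →ₐ[ℤ] MvPolynomial (SigT d r N) ℤ) :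
          Op (r + 1) →+* MvPolynomial (SigT d r N) ℤ))
    (p₁ := R) (p₂ := R) (RingHom.ext_int _ _) ?_ rfl
  · exact h
  · intro p hp _
    simp only [RingHom.coe_coe, RingHom.coe_comp, Function.comp_apply, aeval_X, ENT_X]
    exact (hz p (hR p hp)).symm

theorem eq_zero_of_aeval_eq_zero (R : Op (r + 1)) (h : ∀ g : Fin (r + 1) × ℕ → ℂ, aeval g R = 0) :
    R = 0 := by
  apply MvPolynomial.map_injective (Int.castRingHom ℂ) Int.cast_injective
  rw [map_zero]
  apply MvPolynomial.funext
  intro g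
  rw [map_zero, eval_map, ← algebraMap_int_eq, ← aeval_def]
  exact h g

theorem ENT_eq_zero_imp (R : Op (r + 1)) (hR : ∀ p ∈ R.vars, p ∈ VT d r N)
    (h : ENT d r N R = 0) : R = 0 := by
  apply eq_zero_of_aeval_eq_zero
  intro g
  obtain ⟨z, hz⟩ := exists_point d r N g
  rw [aeval_eq_of_point d r N g z hz R hR, h, map_zero]

/-- divisibility by the universal variable standing for `γ^d n` -/
theorem X_dvd_of_ENT (hd : 1 ≤ d) (Fb : Op (r + 1)) (hFb : ∀ p ∈ Fb.vars, p ∈ VT d r N)
    (H : MvPolynomial (SigT d r N) ℤ) (hH : ENT d r N Fb = EGT d r N (0, d - 1) * H) :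
    ∃ Q : Op (r + 1), Fb = X (0, d - 1) * Q ∧ ∀ p ∈ Q.vars, p ∈ VT d r N := by
  classical
  set Q := Fb.divMonomial (Finsupp.single ((0 : Fin (r + 1)), d - 1) 1) with hQ
  set R := Fb.modMonomial (Finsupp.single ((0 : Fin (r + 1)), d - 1) 1) with hRdef
  have hsum : X (0, d - 1) * Q + R = Fb := divMonomial_add_modMonomial_single Fb _
  have hRvars : ∀ p ∈ R.vars, p ∈ Fb.vars ∧ p ≠ (0, d - 1) := by
    intro p hp
    rw [mem_vars_iff_mem_support] at hp
    obtain ⟨m, hm, hpm⟩ := hp
    have hnle : ¬ Finsupp.single ((0 : Fin (r + 1)), d - 1) 1 ≤ m := by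
      intro hle
      rw [mem_support_iff, hRdef, coeff_modMonomial_of_le Fb hle] at hm
      exact hm rfl
    have hc : coeff m R = coeff m Fb := coeff_modMonomial_of_not_le Fb hnle
    constructor
    · rw [mem_vars_iff_mem_support]
      refine ⟨m, ?_, hpm⟩
      rw [mem_support_iff, ← hc]
      exact mem_support_iff.mp hm
    · rintro rfl
      apply hnle
      rw [Finsupp.single_le_iff]
      exact Nat.one_le_iff_ne_zero.mpr (Finsupp.mem_support_iff.mp hpm)
  have hR0 : R = 0 := by
    apply eq_zero_of_aeval_eq_zero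
    intro g
    set g' := Function.update g ((0 : Fin (r + 1)), d - 1) 0 with hg'
    have h1 : (aeval g R : ℂ) = aeval g' R := by
      refine hom_congr_vars
        (f₁ := ((aeval g : Op (r + 1) →ₐ[ℤ] ℂ) : Op (r + 1) →+* ℂ))
        (f₂ := ((aeval g' : Op (r + 1) →ₐ[ℤ] ℂ) : Op (r + 1) →+* ℂ))
        (p₁ := R) (p₂ := R) (RingHom.ext_int _ _) ?_ rfl
      intro p hp _
      simp only [RingHom.coe_coe, aeval_X]
      rw [hg', Function.update_of_ne (hRvars p hp).2]
    obtain ⟨z, hz⟩ := exists_point d r N g'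
    have h0 : ((0 : Fin (r + 1)), d - 1) ∈ VT d r N :=
      ⟨fun _ => by simp only; omega, fun h => absurd rfl h⟩
    have h2 : ENT d r N R = EGT d r N (0, d - 1) * (H - ENT d r N Q) := by
      have h3 : ENT d r N R = ENT d r N Fb - ENT d r N (X (0, d - 1) * Q) := by
        rw [← hsum, map_add, add_sub_cancel_left]
      rw [h3, hH, map_mul, ENT_X]
      ring
    rw [h1, aeval_eq_of_point d r N g' z hz R (fun p hp => hFb p (hRvars p hp).1), h2, map_mul,
      hz _ h0, hg', Function.update_self, zero_mul]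
  refine ⟨Q, ?_, ?_⟩
  · rw [← hsum, hR0, add_zero]
  · intro p hp
    apply hFb
    rw [mem_vars_iff_mem_support] at hp ⊢
    obtain ⟨m, hm, hpm⟩ := hp
    refine ⟨Finsupp.single ((0 : Fin (r + 1)), d - 1) 1 + m, ?_, ?_⟩
    · rw [mem_support_iff, ← coeff_divMonomial]
      exact mem_support_iff.mp hm
    · rw [Finsupp.mem_support_iff, Finsupp.add_apply]
      have := Finsupp.mem_support_iff.mp hpm
      omega


/-! ### truncation of the first variable -/

/-- the truncation of the first variable: the universal `γ^(k+1) n` with `k ≥ d` are sent to `0` -/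
def truncT : Op (r + 1) →ₐ[ℤ] Op (r + 1) :=
  aeval (fun p : Fin (r + 1) × ℕ => if p.1 = 0 ∧ d ≤ p.2 then (0 : Op (r + 1)) else X p)

theorem evG_truncT {A : Type*} [CommRing A] [LambdaOps A] (x : Fin (r + 1) → A)
    (hx0 : ∀ k, d < k → gamma k (x 0) = 0) (F : Op (r + 1)) :
    evG x (truncT d r F) = evG x F := by
  have h : (evG x).comp (truncT d r) = evG x := by
    apply MvPolynomial.algHom_ext
    rintro ⟨s, k⟩
    rw [AlgHom.comp_apply, truncT, aeval_X]
    split_ifs with hc
    · obtain ⟨hs, hk⟩ := hc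
      simp only at hs hk
      subst hs
      rw [map_zero, evG_X, hx0 _ (by omega)]
    · rfl
  exact DFunLike.congr_fun h F

theorem EGT_zero_eq_zero (k : ℕ) (hk : d ≤ k) : EGT d r N (0, k) = 0 := by
  rw [EGT_zero, esymm, Finset.powersetCard_eq_empty.mpr
    (by rw [Finset.card_univ, Fintype.card_fin]; omega), Finset.sum_empty, map_zero]

theorem ENT_truncT (F : Op (r + 1)) : ENT d r N (truncT d r F) = ENT d r N F := by
  have h : (ENT d r N).comp (truncT d r) = ENT d r N := by
    apply MvPolynomial.algHom_ext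
    rintro ⟨s, k⟩
    rw [AlgHom.comp_apply, truncT, aeval_X]
    split_ifs with hc
    · obtain ⟨hs, hk⟩ := hc
      simp only at hs hk
      subst hs
      rw [map_zero, ENT_X, EGT_zero_eq_zero d r N k hk]
    · rfl
  exact DFunLike.congr_fun h F

theorem vars_truncT (F : Op (r + 1)) (hF : ∀ p ∈ F.vars, p.2 < N) :
    ∀ p ∈ (truncT d r F).vars, p ∈ VT d r N := by
  classical
  intro p hp
  rw [truncT, aeval_eq_bind₁] at hp
  have h := vars_bind₁ _ F hp
  rw [Finset.mem_biUnion] at h
  obtain ⟨q, hq, hpq⟩ := h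
  split_ifs at hpq with hc
  · rw [vars_0] at hpq
    exact absurd hpq (Finset.notMem_empty _)
  · rw [vars_X, Finset.mem_singleton] at hpq
    subst hpq
    refine ⟨fun h0 => ?_, fun _ => hF p hq⟩
    by_contra hlt
    exact hc ⟨h0, not_lt.mp hlt⟩

/-! ### division by a monomial and the powers of the ideal of the variables -/

theorem mem_pow_of_X_mul_mem {σ : Type*} (i : σ) (P : MvPolynomial σ ℤ) (w : ℕ)
    (h : X i * P ∈ idealOfVars σ ℤ ^ (w + 1)) : P ∈ idealOfVars σ ℤ ^ w := by
  rw [mem_pow_idealOfVars_iff'] at h ⊢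
  intro ν hν
  rw [← coeff_X_mul ν i P]
  apply h
  rw [map_add, Finsupp.degree_single]
  omega

theorem mem_pow_of_prod_X_mul_mem {σ ι : Type*} (S : Finset ι) (f : ι → σ)
    (P : MvPolynomial σ ℤ) (w : ℕ)
    (h : (∏ a ∈ S, X (f a)) * P ∈ idealOfVars σ ℤ ^ w) :
    P ∈ idealOfVars σ ℤ ^ (w - S.card) := by
  classical
  induction S using Finset.induction_on generalizing w with
  | empty =>
    rw [Finset.prod_empty, one_mul] at h
    rwa [Finset.card_empty, Nat.sub_zero]
  | insert a S ha ih =>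
    rw [Finset.prod_insert ha, mul_assoc] at h
    rw [Finset.card_insert_of_notMem ha]
    rcases w with _ | w
    · rw [Nat.zero_sub, pow_zero, Ideal.one_eq_top]
      trivial
    · have h1 := mem_pow_of_X_mul_mem (f a) _ w h
      have h2 := ih w h1
      rwa [Nat.succ_sub_succ]

theorem EGT_top (hd : 1 ≤ d) : EGT d r N (0, d - 1) = ∏ a : Fin d, X (Sum.inl a) := by
  have h1 : (univ : Finset (Fin d)).powersetCard d = {univ} := by
    have h := Finset.powersetCard_self (univ : Finset (Fin d))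
    rwa [Finset.card_univ, Fintype.card_fin] at h
  rw [EGT_zero, Nat.sub_add_cancel hd, esymm, h1, Finset.sum_singleton, map_prod]
  refine prod_congr rfl fun a _ => ?_
  rw [rename_X]

/-! ### transfer with division -/

/-- **transfer with division**: a universal polynomial whose values in the models lie in the `W`-th
power of the augmentation ideal and are divisible by `γ^d n` takes, in any ring where the first
element `n` has `γ^k n = 0` for `k > d`, a value of the form `γ^d n * q` with `q` in any ideal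
containing the values of the monomials of weight at least `W - d`. -/
theorem evG_quot_mem (hd : 1 ≤ d) (F : Op (r + 1)) (W : ℕ)
    (hmodel : ∀ N : ℕ, (∃ H, evG (xT d r N) F = gamma d (xT d r N 0) * H) ∧
      evG (xT d r N) F ∈ Iw W)
    {A : Type*} [CommRing A] [LambdaOps A] (x : Fin (r + 1) → A)
    (hx0 : ∀ k, d < k → gamma k (x 0) = 0) (J : Ideal A)
    (hJ : ∀ μ : Fin (r + 1) × ℕ →₀ ℕ, W - d ≤ Finsupp.weight (wtG (r + 1)) μ →
      evG x (monomial μ 1) ∈ J) :
    ∃ q ∈ J, evG x F = gamma d (x 0) * q := by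
  classical
  set N := F.vars.sup (fun p => p.2) + 1 with hN
  have hvars : ∀ p ∈ F.vars, p.2 < N := fun p hp =>
    Nat.lt_succ_of_le (Finset.le_sup (f := fun p : Fin (r + 1) × ℕ => p.2) hp)
  obtain ⟨⟨H, hH⟩, hW⟩ := hmodel N
  have hFbvars := vars_truncT d r N F hvars
  have htop : tauS (gamma d (xT d r N 0)) = EGT d r N (0, d - 1) := by
    rw [EGT_zero, Nat.sub_add_cancel hd]
    exact tauS_gamma_family _ _
  have h1 : ENT d r N (truncT d r F) = EGT d r N (0, d - 1) * tauS H := by
    rw [ENT_truncT, ← tauS_evG_T, hH, map_mul, htop]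
  obtain ⟨Q, hQ, hQvars⟩ := X_dvd_of_ENT d r N hd (truncT d r F) hFbvars (tauS H) h1
  have h2 : ENT d r N Q ∈ idealOfVars (SigT d r N) ℤ ^ (W - d) := by
    have h3 : ENT d r N (truncT d r F) ∈ idealOfVars (SigT d r N) ℤ ^ W := by
      rw [ENT_truncT, ← tauS_evG_T]
      exact hW
    rw [hQ, map_mul, ENT_X, EGT_top d r N hd] at h3
    have h4 := mem_pow_of_prod_X_mul_mem univ (fun a : Fin d => (Sum.inl a : SigT d r N)) _ W h3
    rwa [Finset.card_univ, Fintype.card_fin] at h4
  have h4 := weight_le_of_E_mem (ENT d r N)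
    (fun p => by rw [ENT_X]; exact EGT_isHomogeneous d r N p) (VT d r N)
    (fun R hR h => ENT_eq_zero_imp d r N R hR h) Q hQvars (W - d) h2
  refine ⟨evG x Q, ?_, ?_⟩
  · rw [← support_sum_monomial_coeff Q, map_sum]
    refine Ideal.sum_mem _ fun μ hμ => ?_
    have h5 : (monomial μ (coeff μ Q) : Op (r + 1)) = C (coeff μ Q) * monomial μ 1 := by
      rw [C_mul_monomial, mul_one]
    rw [h5, map_mul]
    exact Ideal.mul_mem_left _ _ (hJ μ (h4 μ hμ))
  · rw [← evG_truncT d r x hx0 F, hQ, map_mul, evG_X, Nat.sub_add_cancel hd]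

/-! ### the model: vanishing of the higher `λ` of the first element and weights of products -/

theorem lam_family_eq_zero {σ : Type*} {m : ℕ} (f : Fin m → σ) (k : ℕ) (hk : m < k) :
    LambdaOps.lam k (∑ a : Fin m, (X (f a) : MM σ)) = 0 := by
  classical
  rw [← coeff_lamSeries, lamSeries_sum,
    prod_congr rfl (fun a _ => lamSeries_of_lam_eq_zero (X (f a) : MM σ)
      (fun j hj => LModel.lam_X (f a) j hj)),
    coeff_prod_one_add_C_mul_X,
    Finset.powersetCard_eq_empty.mpr (by rw [Finset.card_univ, Fintype.card_fin]; exact hk),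
    Finset.sum_empty]

theorem xT_zero : xT d r N 0 =
    ∑ a : Fin d, (X (Sum.inl a) : MM (SigT d r N)) - (d : MM (SigT d r N)) := rfl

theorem gprod_mem_T (l : List (ℕ × Fin (r + 1))) :
    (LT.gprod l).eval (xT d r N) ∈ Iw (l.map Prod.fst).sum := by
  rw [LT.eval_gprod]
  induction l with
  | nil =>
    simp only [List.map_nil, List.prod_nil, List.sum_nil]
    exact mem_Iw_zero _
  | cons p l ih =>
    simp only [List.map_cons, List.prod_cons, List.sum_cons]
    exact Iw_mul (gamma_mem_Iw_of_mem_one (xT_mem d r N p.2) p.1) ih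

end Groth.Agent.Lib.T2H7.LTransferT
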