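import Groth.Agent.Lib.Helper4LambdaInv
import Groth.Agent.S3290

/-!
# λ-rings: the determinant and `Gr¹` (T2H7)

For a λ-ring `K` with positive structure `P`:
* `sum_gamma_eq_lam_top`: `Σ_{i ≤ m} γ^i(e - m) = λ^m(e)` for positive `e` of augmentation `m`;
* `lam_top_sub_mem`: `λ^m(e) - 1 - (e - m) ∈ F²`;
* `detHom`: the homomorphism `det : (K,+) → Kˣ`, `det(e - f) = λ^top(e) / λ^top(f)`;
* `detHom_eq_one_of_mem`: `det` kills `F²` (under the splitting property).
-/

universe u

namespace Groth.Agent.Lib.T2H7.LamDet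
open PowerSeries LambdaRing Finset Groth.Agent.Lib.Helper4

section Top
variable {K : Type u} [CommRing K] [LambdaOps K]

/-- the natural-number augmentation of an element -/
def rk (P : PosStructure K) (e : K) : ℕ := (P.aug e).toNat

/-- `det e = λ^{ε e}(e)` -/
def top (P : PosStructure K) (e : K) : K := LambdaOps.lam (rk P e) e

theorem rk_cast (P : PosStructure K) {e : K} (he : e ∈ P.pos) : ((rk P e : ℕ) : ℤ) = P.aug e :=
  Int.toNat_of_nonneg (P.aug_pos e he).le

theorem rk_add (P : PosStructure K) {e f : K} (he : e ∈ P.pos) (hf : f ∈ P.pos) :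
    rk P (e + f) = rk P e + rk P f := by
  have h1 := rk_cast P he
  have h2 := rk_cast P hf
  have h3 := rk_cast P (P.add_mem e f he hf)
  rw [map_add] at h3
  omega

theorem sum_gamma_eq_lam_top (P : PosStructure K) (e : K) (he : e ∈ P.pos) :
    ∑ i ∈ range (rk P e + 1), gamma i (e - (rk P e : K)) = top P e := by
  have h := congrArg (Polynomial.eval (1 : K)) (Groth.Agent.S3290.result K P e he)
  simp only [Polynomial.eval_finsetSum, Polynomial.eval_mul, Polynomial.eval_C,
    Polynomial.eval_pow, Polynomial.eval_X, one_pow, mul_one, Polynomial.eval_sub,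
    Polynomial.eval_one, sub_self] at h
  rw [show (P.aug e).toNat = rk P e from rfl] at h
  rw [h, sum_range_succ]
  rw [Nat.sub_self, pow_zero, mul_one]
  have : ∑ x ∈ range (rk P e), LambdaOps.lam x e * 0 ^ (rk P e - x) = 0 := by
    apply sum_eq_zero
    intro i hi
    rw [mem_range] at hi
    rw [zero_pow (by omega), mul_zero]
  rw [this, zero_add]; rfl

theorem lam_top_sub_mem (P : PosStructure K) (e : K) (he : e ∈ P.pos) :
    (e - (rk P e : K)) - (top P e - 1) ∈ gammaFiltration P 2 := by
  have haug : P.aug (e - (rk P e : K)) = 0 := by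
    rw [map_sub, map_natCast, rk_cast P he, sub_self]
  have hpos : 1 ≤ rk P e := by
    have := P.aug_pos e he
    have := rk_cast P he
    omega
  have h := sum_gamma_eq_lam_top P e he
  obtain ⟨m, hm⟩ : ∃ m, rk P e = m + 1 := ⟨rk P e - 1, by omega⟩
  rw [hm, sum_range_succ', sum_range_succ', gamma_zero', ← hm] at h
  rw [show gamma (0 + 1) (e - (rk P e : K)) = e - (rk P e : K) from gamma_one _] at h
  have h2 : (e - (rk P e : K)) - (top P e - 1) =
      -∑ i ∈ range m, gamma (i + 1 + 1) (e - (rk P e : K)) := by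
    rw [← h]; ring
  rw [h2]
  apply AddSubgroup.neg_mem
  apply AddSubgroup.sum_mem
  intro i _
  exact gammaFiltration_anti P (by omega) (gamma_mem_gammaFiltration P _ _ haug)

end Top

section Gr1
variable {K : Type u} [CommRing K] [LambdaOps K]

/-- `x` is congruent to `u - 1` modulo `F²` for some line element `u`. -/
def Cl (P : PosStructure K) (x : K) : Prop :=
  ∃ u : K, P.IsLine u ∧ x - (u - 1) ∈ gammaFiltration P 2

theorem line_sub_one_mem (P : PosStructure K) {u : K} (hu : P.IsLine u) :
    u - 1 ∈ gammaFiltration P 1 := by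
  apply mem_gammaFiltration_one
  rw [map_sub, hu.2, map_one, sub_self]

theorem cl_zero (P : PosStructure K) : Cl P 0 :=
  ⟨1, isLine_one P, by rw [sub_self, sub_zero]; exact AddSubgroup.zero_mem _⟩

theorem cl_of_mem (P : PosStructure K) {x : K} (hx : x ∈ gammaFiltration P 2) : Cl P x :=
  ⟨1, isLine_one P, by rw [sub_self, sub_zero]; exact hx⟩

theorem cl_add (P : PosStructure K) {x y : K} (hx : Cl P x) (hy : Cl P y) : Cl P (x + y) := by
  obtain ⟨u, hu, hxu⟩ := hx
  obtain ⟨v, hv, hyv⟩ := hy
  refine ⟨u * v, isLine_mul P hu hv, ?_⟩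
  have h : x + y - (u * v - 1) = (x - (u - 1)) + (y - (v - 1)) - (u - 1) * (v - 1) := by ring
  rw [h]
  exact AddSubgroup.sub_mem _ (AddSubgroup.add_mem _ hxu hyv)
    (mul_mem_gammaFiltration P 1 1 _ _ (line_sub_one_mem P hu) (line_sub_one_mem P hv))

theorem cl_neg (P : PosStructure K)
    (hLinv : ∀ w : K, P.IsLine w → ∃ w' : K, P.IsLine w' ∧ w * w' = 1)
    {x : K} (hx : Cl P x) : Cl P (-x) := by
  obtain ⟨u, hu, hxu⟩ := hx
  obtain ⟨u', hu', huu'⟩ := hLinv u hu
  refine ⟨u', hu', ?_⟩
  have h : -x - (u' - 1) = -(x - (u - 1)) + (u - 1) * (u' - 1) := by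
    have : (u - 1) * (u' - 1) = u * u' - u - u' + 1 := by ring
    rw [this, huu']; ring
  rw [h]
  exact AddSubgroup.add_mem _ (AddSubgroup.neg_mem _ hxu)
    (mul_mem_gammaFiltration P 1 1 _ _ (line_sub_one_mem P hu) (line_sub_one_mem P hu'))

theorem isLine_top {P : PosStructure K} (hK : HasSplitting K P)
    (hdet : ∀ e : K, e ∈ P.pos → LambdaOps.lam (P.aug e).toNat e ∈ P.pos)
    {e : K} (he : e ∈ P.pos) : P.IsLine (top P e) := by
  refine ⟨hdet e he, ?_⟩
  rw [top, aug_lam_eq_choose hK e he, rk, Nat.choose_self, Nat.cast_one]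

theorem cl_pos_sub {P : PosStructure K} (hK : HasSplitting K P)
    (hdet : ∀ e : K, e ∈ P.pos → LambdaOps.lam (P.aug e).toNat e ∈ P.pos)
    {e : K} (he : e ∈ P.pos) : Cl P (e - (rk P e : K)) :=
  ⟨top P e, isLine_top hK hdet he, lam_top_sub_mem P e he⟩

theorem cl_of_aug_eq_zero {P : PosStructure K} (hK : HasSplitting K P)
    (hLinv : ∀ w : K, P.IsLine w → ∃ w' : K, P.IsLine w' ∧ w * w' = 1)
    (hdet : ∀ e : K, e ∈ P.pos → LambdaOps.lam (P.aug e).toNat e ∈ P.pos)
    {x : K} (hx : P.aug x = 0) : Cl P x := by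
  obtain ⟨e, f, he, hf, rfl⟩ := P.exists_sub x
  have hrk : rk P e = rk P f := by
    have h1 := rk_cast P he
    have h2 := rk_cast P hf
    rw [map_sub] at hx
    omega
  have h : e - f = (e - (rk P e : K)) + -(f - (rk P f : K)) := by rw [hrk]; ring
  rw [h]
  exact cl_add P (cl_pos_sub hK hdet he) (cl_neg P hLinv (cl_pos_sub hK hdet hf))

theorem list_prod_eq_one_of_sum_eq_zero (l : List (ℕ × K)) (h : (l.map Prod.fst).sum = 0) :
    (l.map fun p => gamma p.1 p.2).prod = 1 := by
  induction l with
  | nil => simp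
  | cons p l ih =>
    rw [List.map_cons, List.sum_cons] at h
    rw [List.map_cons, List.prod_cons, ih (by omega)]
    have : p.1 = 0 := by omega
    rw [this, gamma_zero', mul_one]

theorem list_prod_of_sum_eq_one (P : PosStructure K) (l : List (ℕ × K))
    (hl : ∀ p ∈ l, P.aug p.2 = 0) (h : (l.map Prod.fst).sum = 1) :
    P.aug (l.map fun p => gamma p.1 p.2).prod = 0 := by
  induction l with
  | nil => simp at h
  | cons p l ih =>
    rw [List.map_cons, List.sum_cons] at h
    rw [List.map_cons, List.prod_cons]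
    rcases Nat.eq_zero_or_pos p.1 with h0 | h0
    · rw [h0, gamma_zero', one_mul]
      exact ih (fun q hq => hl q (List.mem_cons_of_mem _ hq)) (by omega)
    · have h1 : p.1 = 1 := by omega
      rw [list_prod_eq_one_of_sum_eq_zero l (by omega), mul_one, h1, gamma_one]
      exact hl p List.mem_cons_self

/-- Surjectivity of `L → Gr¹ K`. -/
theorem cl_of_mem_gammaFiltration_one {P : PosStructure K} (hK : HasSplitting K P)
    (hLinv : ∀ w : K, P.IsLine w → ∃ w' : K, P.IsLine w' ∧ w * w' = 1)
    (hdet : ∀ e : K, e ∈ P.pos → LambdaOps.lam (P.aug e).toNat e ∈ P.pos)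
    {x : K} (hx : x ∈ gammaFiltration P 1) : Cl P x := by
  rw [gammaFiltration_of_ne_zero P one_ne_zero] at hx
  induction hx using AddSubgroup.closure_induction with
  | mem y hy =>
    obtain ⟨l, hl, hln, rfl⟩ := hy
    rcases Nat.lt_or_ge 1 (l.map Prod.fst).sum with h2 | h2
    · exact cl_of_mem P (gammaGen_subset_gammaFiltration P 2 ⟨l, hl, h2, rfl⟩)
    · exact cl_of_aug_eq_zero hK hLinv hdet (list_prod_of_sum_eq_one P l hl (by omega))
  | zero => exact cl_zero P
  | add x y _ _ hx hy => exact cl_add P hx hy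
  | neg x _ hx => exact cl_neg P hLinv hx

end Gr1

section Det
variable {K : Type u} [CommRing K] [LambdaOps K]

theorem top_add (P : PosStructure K) {e f : K} (he : e ∈ P.pos) (hf : f ∈ P.pos) :
    top P (e + f) = top P e * top P f := by
  rw [top, rk_add P he hf, LambdaOps.lam_add, top, top]
  rw [sum_eq_single (rk P e)]
  · rw [Nat.add_sub_cancel_left]
  · intro i hi hne
    rw [mem_range] at hi
    rcases Nat.lt_or_gt_of_ne hne with h | h
    · rw [lam_eq_zero_of_pos P f hf (rk P e + rk P f - i) (by unfold rk at *; omega), mul_zero]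
    · rw [lam_eq_zero_of_pos P e he i h, zero_mul]
  · intro h
    exact absurd (mem_range.2 (by omega)) h

theorem isUnit_top (P : PosStructure K) {e : K} (he : e ∈ P.pos) : IsUnit (top P e) :=
  P.isUnit_lam e he

theorem top_of_isLine (P : PosStructure K) {u : K} (hu : P.IsLine u) : top P u = u := by
  rw [top, rk, hu.2]
  exact LambdaOps.lam_one u

theorem exists_det (P : PosStructure K) (x : K) :
    ∃ d : Kˣ, ∀ e f : K, e ∈ P.pos → f ∈ P.pos → x = e - f → (d : K) * top P f = top P e := by
  obtain ⟨e₀, f₀, he₀, hf₀, hx₀⟩ := P.exists_sub x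
  refine ⟨(isUnit_top P he₀).unit * ((isUnit_top P hf₀).unit)⁻¹, ?_⟩
  intro e f he hf hx
  have h1 : e₀ + f = e + f₀ := by
    have : e₀ - f₀ = e - f := by rw [← hx₀, hx]
    linear_combination this
  have h2 : top P e₀ * top P f = top P e * top P f₀ := by
    rw [← top_add P he₀ hf, ← top_add P he hf₀, h1]
  have h3 : (((isUnit_top P hf₀).unit)⁻¹ : Kˣ) * top P f₀ = (1 : K) := by
    have := Units.inv_mul (isUnit_top P hf₀).unit
    rwa [IsUnit.unit_spec] at this
  rw [Units.val_mul, IsUnit.unit_spec]
  calc top P e₀ * (((isUnit_top P hf₀).unit)⁻¹ : Kˣ) * top P f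
      = (((isUnit_top P hf₀).unit)⁻¹ : Kˣ) * (top P e₀ * top P f) := by ring
    _ = top P e * ((((isUnit_top P hf₀).unit)⁻¹ : Kˣ) * top P f₀) := by rw [h2]; ring
    _ = top P e := by rw [h3, mul_one]

/-- the determinant `det : K → Kˣ`, `det (e - f) = λ^top e / λ^top f` -/
noncomputable def det (P : PosStructure K) (x : K) : Kˣ := Classical.choose (exists_det P x)

theorem det_spec (P : PosStructure K) {x e f : K} (he : e ∈ P.pos) (hf : f ∈ P.pos)
    (hx : x = e - f) : (det P x : K) * top P f = top P e :=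
  Classical.choose_spec (exists_det P x) e f he hf hx

theorem det_add (P : PosStructure K) (x y : K) : det P (x + y) = det P x * det P y := by
  obtain ⟨e, f, he, hf, hx⟩ := P.exists_sub x
  obtain ⟨e', f', he', hf', hy⟩ := P.exists_sub y
  have h1 := det_spec P he hf hx
  have h2 := det_spec P he' hf' hy
  have h3 := det_spec P (P.add_mem e e' he he') (P.add_mem f f' hf hf')
    (show x + y = (e + e') - (f + f') by rw [hx, hy]; ring)
  rw [top_add P he he', top_add P hf hf'] at h3
  apply Units.ext
  rw [Units.val_mul]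
  have hu : IsUnit (top P f * top P f') := (isUnit_top P hf).mul (isUnit_top P hf')
  apply hu.mul_left_inj.1
  rw [h3, ← h1, ← h2]; ring

theorem det_zero (P : PosStructure K) : det P 0 = 1 := by
  have := det_add P 0 0
  rw [add_zero] at this
  exact (mul_eq_left.1 this.symm)

theorem det_neg (P : PosStructure K) (x : K) : det P (-x) = (det P x)⁻¹ := by
  have := det_add P (-x) x
  rw [neg_add_cancel, det_zero] at this
  exact eq_inv_of_mul_eq_one_left this.symm

theorem det_sub (P : PosStructure K) (x y : K) : det P (x - y) = det P x * (det P y)⁻¹ := by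
  rw [sub_eq_add_neg, det_add, det_neg]

theorem one_mem_pos (P : PosStructure K) : (1 : K) ∈ P.pos := by
  have := P.natCast_mem 1 one_pos
  rwa [Nat.cast_one] at this

theorem det_of_pos (P : PosStructure K) {e : K} (he : e ∈ P.pos) : (det P e : K) = top P e := by
  have h := det_spec P (P.add_mem e 1 he (one_mem_pos P)) (one_mem_pos P)
    (show e = (e + 1) - 1 by ring)
  rw [top_add P he (one_mem_pos P)] at h
  exact (isUnit_top P (one_mem_pos P)).mul_left_inj.1 h

theorem det_of_isLine (P : PosStructure K) {u : K} (hu : P.IsLine u) : (det P u : K) = u := by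
  rw [det_of_pos P hu.1, top_of_isLine P hu]

/-- the kernel of `det` as an additive subgroup -/
noncomputable def detKer (P : PosStructure K) : AddSubgroup K where
  carrier := {x | det P x = 1}
  zero_mem' := det_zero P
  add_mem' := by
    intro a b ha hb
    change det P (a + b) = 1
    rw [det_add, show det P a = 1 from ha, show det P b = 1 from hb, one_mul]
  neg_mem' := by
    intro a ha
    change det P (-a) = 1
    rw [det_neg, show det P a = 1 from ha, inv_one]

theorem mem_detKer (P : PosStructure K) (x : K) : x ∈ detKer P ↔ det P x = 1 := Iff.rfl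

theorem det_triple (P : PosStructure K) {a b c : K} (ha : P.IsLine a) (hb : P.IsLine b)
    (hc : P.IsLine c) : c * ((a - 1) * (b - 1)) ∈ detKer P := by
  rw [mem_detKer]
  have habc := isLine_mul P (isLine_mul P ha hb) hc
  have hac := isLine_mul P ha hc
  have hbc := isLine_mul P hb hc
  have h := det_spec P (P.add_mem _ _ habc.1 hc.1) (P.add_mem _ _ hac.1 hbc.1)
    (show c * ((a - 1) * (b - 1)) = (a * b * c + c) - (a * c + b * c) by ring)
  rw [top_add P habc.1 hc.1, top_add P hac.1 hbc.1, top_of_isLine P habc, top_of_isLine P hc,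
    top_of_isLine P hac, top_of_isLine P hbc] at h
  have hu : IsUnit (a * c * (b * c)) := by
    rw [← top_of_isLine P hac, ← top_of_isLine P hbc]
    exact (isUnit_top P hac.1).mul (isUnit_top P hbc.1)
  apply Units.ext
  rw [Units.val_one]
  apply hu.mul_left_inj.1
  rw [h]; ring

end Det

section DetExt
variable {K L : Type u} [CommRing K] [LambdaOps K] [CommRing L] [LambdaOps L]

theorem map_top {P : PosStructure K} {P' : PosStructure L} {f : K →+* L}
    (hf : IsExtension P P' f) (e : K) : f (top P e) = top P' (f e) := by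
  rw [top, top, hf.isLambdaHom, rk, rk, hf.aug_comp]

theorem map_det {P : PosStructure K} {P' : PosStructure L} {f : K →+* L}
    (hf : IsExtension P P' f) (x : K) : f (det P x : K) = (det P' (f x) : L) := by
  obtain ⟨e, e', he, he', hx⟩ := P.exists_sub x
  have h1 := congrArg f (det_spec P he he' hx)
  rw [map_mul, map_top hf, map_top hf] at h1
  have h2 := det_spec P' (hf.pos_subset e he) (hf.pos_subset e' he')
    (show f x = f e - f e' by rw [hx, map_sub])
  exact (isUnit_top P' (hf.pos_subset e' he')).mul_left_inj.1 (h1.trans h2.symm)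

end DetExt

section Good
variable {K : Type u} [CommRing K] [LambdaOps K]

/-- the ℤ-span of the line elements -/
def SS (P : PosStructure K) : Submodule ℤ K := Submodule.span ℤ {u | P.IsLine u}

/-- the ℤ-span of the `a - 1`, `a` a line element -/
def MM (P : PosStructure K) : Submodule ℤ K := Submodule.span ℤ {x | ∃ a, P.IsLine a ∧ x = a - 1}

/-- `N r = S · M^r` -/
def NN (P : PosStructure K) (r : ℕ) : Submodule ℤ K := SS P * MM P ^ r

theorem mem_SS_iff (P : PosStructure K) (x : K) : x ∈ SS P ↔ x ∈ lineSpan P := by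
  rw [SS, lineSpan, ← Submodule.span_int_eq_addSubgroupClosure]
  rfl

theorem SS_mul_SS (P : PosStructure K) : SS P * SS P ≤ SS P := by
  rw [Submodule.mul_le]
  intro x hx y hy
  rw [mem_SS_iff] at hx hy ⊢
  exact mul_mem_lineSpan P hx hy

theorem one_mem_SS (P : PosStructure K) : (1 : K) ∈ SS P :=
  Submodule.subset_span (isLine_one P)

theorem MM_le_SS (P : PosStructure K) : MM P ≤ SS P := by
  rw [MM, Submodule.span_le]
  rintro x ⟨a, ha, rfl⟩
  exact Submodule.sub_mem _ (Submodule.subset_span ha) (one_mem_SS P)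

theorem NN_zero (P : PosStructure K) : NN P 0 = SS P := by
  rw [NN, pow_zero, mul_one]

theorem NN_mul (P : PosStructure K) (i j : ℕ) : NN P i * NN P j ≤ NN P (i + j) := by
  have : NN P i * NN P j = (SS P * SS P) * MM P ^ (i + j) := by
    rw [NN, NN, pow_add]; ring
  rw [this, NN]
  exact mul_le_mul_left (SS_mul_SS P) _

theorem NN_le_SS (P : PosStructure K) (k : ℕ) : NN P k ≤ SS P := by
  induction k with
  | zero => rw [NN_zero]
  | succ k ih =>
    have : NN P (k + 1) = NN P k * MM P := by rw [NN, NN, pow_succ, mul_assoc]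
    rw [this]
    exact (mul_le_mul' ih (MM_le_SS P)).trans (SS_mul_SS P)

theorem NN_anti (P : PosStructure K) {m n : ℕ} (h : m ≤ n) : NN P n ≤ NN P m := by
  obtain ⟨k, rfl⟩ := Nat.exists_eq_add_of_le h
  have : NN P (m + k) = NN P k * MM P ^ m := by
    rw [NN, NN, pow_add]; ring
  rw [this, NN]
  exact mul_le_mul_left (NN_le_SS P k) _

theorem NN_mul_mem (P : PosStructure K) {i j : ℕ} {a b : K} (ha : a ∈ NN P i) (hb : b ∈ NN P j) :
    a * b ∈ NN P (i + j) :=
  NN_mul P i j (Submodule.mul_mem_mul ha hb)

theorem one_mem_NN (P : PosStructure K) : (1 : K) ∈ NN P 0 := by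
  rw [NN_zero]; exact one_mem_SS P

theorem line_sub_one_mem_MM (P : PosStructure K) {a : K} (ha : P.IsLine a) : a - 1 ∈ MM P :=
  Submodule.subset_span ⟨a, ha, rfl⟩

theorem pow_mem_NN (P : PosStructure K) {x : K} (hx : x ∈ MM P) (r : ℕ) : x ^ r ∈ NN P r := by
  have := Submodule.mul_mem_mul (one_mem_SS P) (Submodule.pow_mem_pow (MM P) hx r)
  rwa [one_mul] at this

/-- series whose `i`-th coefficient lies in `N i` -/
def Good (P : PosStructure K) (f : K⟦X⟧) : Prop := ∀ i, coeff i f ∈ NN P i

theorem good_one (P : PosStructure K) : Good P (1 : K⟦X⟧) := by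
  intro i
  rw [coeff_one]
  split_ifs with h
  · subst h; exact one_mem_NN P
  · exact Submodule.zero_mem _

theorem good_mul (P : PosStructure K) {f g : K⟦X⟧} (hf : Good P f) (hg : Good P g) :
    Good P (f * g) := by
  intro i
  rw [coeff_mul]
  apply Submodule.sum_mem
  rintro ⟨p, q⟩ hpq
  have hpq' : p + q = i := by simpa using hpq
  rw [← hpq']
  exact NN_mul_mem P (hf p) (hg q)

theorem good_inv (P : PosStructure K) {f g : K⟦X⟧} (hf : Good P f) (hf0 : coeff 0 f = 1)
    (h : g * f = 1) : Good P g := by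
  intro i
  induction i using Nat.strong_induction_on with
  | _ i ih =>
    have hc := congrArg (coeff i) h
    rw [coeff_mul, Finset.Nat.sum_antidiagonal_eq_sum_range_succ_mk, Finset.sum_range_succ,
      Nat.sub_self, hf0, mul_one] at hc
    have : coeff i g = coeff i (1 : K⟦X⟧) - ∑ p ∈ range i, coeff p g * coeff (i - p) f := by
      rw [← hc]; ring
    rw [this]
    apply Submodule.sub_mem
    · exact good_one P i
    · apply Submodule.sum_mem
      intro p hp
      rw [Finset.mem_range] at hp
      have := NN_mul_mem P (ih p hp) (hf (i - p))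
      rwa [Nat.add_sub_cancel' hp.le] at this

theorem good_line (P : PosStructure K) {a : K} (ha : P.IsLine a) :
    Good P (gammaSeries (a - 1)) := by
  rw [gammaSeries_sub_one (lam_one_eq_zero P) a (lam_eq_zero_of_isLine P a ha)]
  intro i
  rw [map_add, coeff_one, coeff_C_mul, coeff_X]
  rcases i with _ | _ | i
  · simp only [if_true, Nat.zero_ne_one, if_false, mul_zero, add_zero]
    exact one_mem_NN P
  · simp only [Nat.succ_ne_zero, if_false, zero_add, if_true, mul_one]
    have := pow_mem_NN P (line_sub_one_mem_MM P ha) 1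
    rwa [pow_one] at this
  · have h1 : i + 1 + 1 ≠ 0 := by omega
    have h2 : i + 1 + 1 ≠ 1 := by omega
    simp only [h1, h2, if_false, mul_zero, add_zero]
    exact Submodule.zero_mem _

/-- `γ_t(x - ε x)` is a good series for `x` in the span of the line elements. -/
theorem good_gammaSeries (P : PosStructure K) {x : K} (hx : x ∈ lineSpan P) :
    Good P (gammaSeries (x - (P.aug x : K))) := by
  induction hx using AddSubgroup.closure_induction with
  | mem a ha =>
    have : a - (P.aug a : K) = a - 1 := by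
      rw [show P.aug a = 1 from ha.2, Int.cast_one]
    rw [this]
    exact good_line P ha
  | zero =>
    rw [map_zero, Int.cast_zero, sub_zero, gammaSeries_zero]
    exact good_one P
  | add a b _ _ ha hb =>
    have : a + b - (P.aug (a + b) : K) = (a - (P.aug a : K)) + (b - (P.aug b : K)) := by
      rw [map_add, Int.cast_add]; ring
    rw [this, gammaSeries_add]
    exact good_mul P ha hb
  | neg a _ ha =>
    have : -a - (P.aug (-a) : K) = -(a - (P.aug a : K)) := by
      rw [map_neg, Int.cast_neg]; ring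
    rw [this]
    refine good_inv P ha ?_ (gammaSeries_neg_mul _)
    rw [coeff_gammaSeries, gamma_zero']

theorem gamma_mem_NN (P : PosStructure K) {x : K} (hx : x ∈ lineSpan P) (h0 : P.aug x = 0)
    (i : ℕ) : gamma i x ∈ NN P i := by
  have := good_gammaSeries P hx i
  rwa [coeff_gammaSeries, h0, Int.cast_zero, sub_zero] at this

theorem prod_mem_NN (P : PosStructure K) (l : List (ℕ × K)) (hl : ∀ p ∈ l, P.aug p.2 = 0)
    (hl' : ∀ p ∈ l, p.2 ∈ lineSpan P) :
    (l.map fun p => gamma p.1 p.2).prod ∈ NN P (l.map Prod.fst).sum := by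
  induction l with
  | nil => simpa using one_mem_NN P
  | cons p l ih =>
    simp only [List.map_cons, List.prod_cons, List.sum_cons]
    exact NN_mul_mem P (gamma_mem_NN P (hl' p (by simp)) (hl p (by simp)) p.1)
      (ih (fun q hq => hl q (List.mem_cons_of_mem _ hq))
        (fun q hq => hl' q (List.mem_cons_of_mem _ hq)))

theorem NN_two_le_detKer (P : PosStructure K) :
    NN P 2 ≤ AddSubgroup.toIntSubmodule (detKer P) := by
  rw [NN, SS, MM, pow_two, Submodule.span_mul_span, Submodule.span_mul_span, Submodule.span_le]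
  rintro z ⟨c, hc, y, ⟨x₁, ⟨a, ha, rfl⟩, x₂, ⟨b, hb, rfl⟩, rfl⟩, rfl⟩
  exact det_triple P ha hb hc

end Good

section Main
variable {K : Type u} [CommRing K] [LambdaOps K]

theorem map_list_gamma_prod {L : Type u} [CommRing L] [LambdaOps L] {f : K →+* L}
    (hf : IsLambdaHom f) (l : List (ℕ × K)) :
    f (l.map fun p => gamma p.1 p.2).prod =
      ((l.map fun p => (p.1, f p.2)).map fun p => gamma p.1 p.2).prod := by
  induction l with
  | nil => simp
  | cons p l ih =>
    simp only [List.map_cons, List.prod_cons, map_mul, ih, map_gamma hf]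

/-- `det` kills the generators of `F²`. -/
theorem det_gen_eq_one {P : PosStructure K} (hK : HasSplitting K P) (l : List (ℕ × K))
    (hl : ∀ p ∈ l, P.aug p.2 = 0) (hn : 2 ≤ (l.map Prod.fst).sum) :
    det P (l.map fun p => gamma p.1 p.2).prod = 1 := by
  obtain ⟨L, f, hf, -, hsplit⟩ := exists_extension_lineSpan hK (l.map Prod.snd)
  set l' : List (ℕ × L.carrier) := l.map fun p => (p.1, f p.2) with hl'
  have hsum : (l'.map Prod.fst).sum = (l.map Prod.fst).sum := by
    rw [hl', List.map_map]; rfl
  have h1 : (l'.map fun p => gamma p.1 p.2).prod ∈ NN L.posStr (l'.map Prod.fst).sum := by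
    apply prod_mem_NN
    · intro p hp
      obtain ⟨q, hq, rfl⟩ := List.mem_map.1 hp
      change L.posStr.aug (f q.2) = 0
      rw [hf.aug_comp, hl q hq]
    · intro p hp
      obtain ⟨q, hq, rfl⟩ := List.mem_map.1 hp
      exact hsplit q.2 (List.mem_map.2 ⟨q, hq, rfl⟩)
  have h2 : det L.posStr (f (l.map fun p => gamma p.1 p.2).prod) = 1 := by
    rw [map_list_gamma_prod hf.isLambdaHom]
    exact NN_two_le_detKer L.posStr (NN_anti L.posStr (by rw [hsum]; exact hn) h1)
  apply Units.ext
  apply hf.injective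
  rw [map_det hf, h2, Units.val_one, Units.val_one, map_one]

/-- `det` kills `F²`. -/
theorem det_eq_one_of_mem {P : PosStructure K} (hK : HasSplitting K P) {z : K}
    (hz : z ∈ gammaFiltration P 2) : det P z = 1 := by
  rw [gammaFiltration_of_ne_zero P two_ne_zero] at hz
  induction hz using AddSubgroup.closure_induction with
  | mem y hy =>
    obtain ⟨l, hl, hln, rfl⟩ := hy
    exact det_gen_eq_one hK l hl hln
  | zero => exact det_zero P
  | add x y _ _ hx hy => rw [det_add, hx, hy, one_mul]
  | neg x _ hx => rw [det_neg, hx, inv_one]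

/-- Injectivity of `L → Gr¹ K`. -/
theorem line_eq_of_sub_mem {P : PosStructure K} (hK : HasSplitting K P) {u v : K}
    (hu : P.IsLine u) (hv : P.IsLine v) (h : u - v ∈ gammaFiltration P 2) : u = v := by
  have h1 := det_eq_one_of_mem hK h
  rw [det_sub, mul_inv_eq_one] at h1
  rw [← det_of_isLine P hu, ← det_of_isLine P hv, h1]

end Main

end Groth.Agent.Lib.T2H7.LamDet
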