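import Groth.Agent.Lib.T2H7LamDet
import Groth.Agent.Lib.Helper4LambdaAdamsFil
import Groth.Prelude.Def_KRR

/-!
# λ-rings: the γ-filtration of an elementary extension (T2H7)

Setting: an extension `f : K → K'` of λ-rings with positive structure, a line element `ℓ` of `K'`
generating `K'` over `K`, `w = 1 - ℓ`, and elements `c i ∈ F^i K`, `c 0 = 1`, with
`Σ_{i ≤ r+1} f (c i) w^(r+1-i) = 0`.  Then `F^k K' = Σ_{i ≤ r} f (F^(k-i) K) w^i`.
-/

universe u

set_option linter.unusedSectionVars false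

namespace Groth.Agent.Lib.T2H7.LamElem
open PowerSeries LambdaRing Finset Groth.Agent.Lib.Helper4

section Fil
variable {A : Type*} [CommRing A]

/-- a multiplicative decreasing family of additive subgroups -/
structure IsMulFil (R : ℕ → AddSubgroup A) : Prop where
  one_mem : (1 : A) ∈ R 0
  mul_mem : ∀ {i j : ℕ} {a b : A}, a ∈ R i → b ∈ R j → a * b ∈ R (i + j)
  anti : ∀ {i j : ℕ}, i ≤ j → R j ≤ R i

/-- series whose `i`-th coefficient lies in `R i` -/
def GoodF (R : ℕ → AddSubgroup A) (p : A⟦X⟧) : Prop := ∀ i, coeff i p ∈ R i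

variable {R : ℕ → AddSubgroup A}

theorem goodF_one (hR : IsMulFil R) : GoodF R (1 : A⟦X⟧) := by
  intro i
  rw [coeff_one]
  split_ifs with h
  · subst h; exact hR.one_mem
  · exact AddSubgroup.zero_mem _

theorem goodF_zero : GoodF R (0 : A⟦X⟧) := by
  intro i
  rw [map_zero]; exact AddSubgroup.zero_mem _

theorem goodF_add {p q : A⟦X⟧} (hp : GoodF R p) (hq : GoodF R q) : GoodF R (p + q) := by
  intro i
  rw [map_add]; exact AddSubgroup.add_mem _ (hp i) (hq i)

theorem goodF_sum {ι : Type*} (s : Finset ι) (p : ι → A⟦X⟧) (hp : ∀ i ∈ s, GoodF R (p i)) :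
    GoodF R (∑ i ∈ s, p i) := by
  intro i
  rw [map_sum]; exact AddSubgroup.sum_mem _ fun j hj => hp j hj i

theorem goodF_mul (hR : IsMulFil R) {p q : A⟦X⟧} (hp : GoodF R p) (hq : GoodF R q) :
    GoodF R (p * q) := by
  intro i
  rw [coeff_mul]
  apply AddSubgroup.sum_mem
  rintro ⟨a, b⟩ hab
  have hab' : a + b = i := by simpa using hab
  rw [← hab']
  exact hR.mul_mem (hp a) (hq b)

theorem goodF_pow (hR : IsMulFil R) {p : A⟦X⟧} (hp : GoodF R p) (n : ℕ) : GoodF R (p ^ n) := by
  induction n with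
  | zero => rw [pow_zero]; exact goodF_one hR
  | succ n ih => rw [pow_succ]; exact goodF_mul hR ih hp

theorem goodF_inv (hR : IsMulFil R) {p q : A⟦X⟧} (hp : GoodF R p) (hp0 : coeff 0 p = 1)
    (h : q * p = 1) : GoodF R q := by
  intro i
  induction i using Nat.strong_induction_on with
  | _ i ih =>
    have hc := congrArg (coeff i) h
    rw [coeff_mul, Finset.Nat.sum_antidiagonal_eq_sum_range_succ_mk, Finset.sum_range_succ,
      Nat.sub_self, hp0, mul_one] at hc
    have : coeff i q = coeff i (1 : A⟦X⟧) - ∑ a ∈ range i, coeff a q * coeff (i - a) p := by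
      rw [← hc]; ring
    rw [this]
    apply AddSubgroup.sub_mem
    · exact goodF_one hR i
    · apply AddSubgroup.sum_mem
      intro a ha
      rw [Finset.mem_range] at ha
      have := hR.mul_mem (ih a ha) (hp (i - a))
      rwa [Nat.add_sub_cancel' ha.le] at this

theorem goodF_C_mul_X_pow_mul (hR : IsMulFil R) {a : A} {k : ℕ} (ha : a ∈ R k) {q : A⟦X⟧}
    (hq : GoodF R q) : GoodF R (C a * (X ^ k * q)) := by
  intro i
  rw [coeff_C_mul, coeff_X_pow_mul']
  split_ifs with h
  · have := hR.mul_mem ha (hq (i - k))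
    rwa [Nat.add_sub_cancel' h] at this
  · rw [mul_zero]; exact AddSubgroup.zero_mem _

theorem goodF_one_add_C_mul_X (hR : IsMulFil R) {a : A} (ha : a ∈ R 1) :
    GoodF R (1 + C a * X) := by
  intro i
  rw [map_add, coeff_one, coeff_C_mul, coeff_X]
  rcases i with _ | _ | i
  · simp only [if_true, Nat.zero_ne_one, if_false, mul_zero, add_zero]
    exact hR.one_mem
  · simp only [Nat.succ_ne_zero, if_false, zero_add, if_true, mul_one]
    exact ha
  · have h1 : i + 1 + 1 ≠ 0 := by omega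
    have h2 : i + 1 + 1 ≠ 1 := by omega
    simp only [h1, h2, if_false, mul_zero, add_zero]
    exact AddSubgroup.zero_mem _

theorem goodF_C (hR : IsMulFil R) {a : A} (ha : a ∈ R 0) : GoodF R (C a) := by
  have := goodF_C_mul_X_pow_mul hR ha (goodF_one hR)
  rwa [pow_zero, one_mul, mul_one] at this

end Fil

section RR
variable {K K' : Type u} [CommRing K] [LambdaOps K] [CommRing K'] [LambdaOps K']

/-- `RR k = Σ_{i ≤ r} f (F^(k-i) K) w^i` -/
def RR (P : PosStructure K) (f : K →+* K') (w : K') (r k : ℕ) : AddSubgroup K' :=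
  ⨆ i ∈ Finset.range (r + 1), AddSubgroup.map
    ((AddMonoidHom.mulRight (w ^ i)).comp f.toAddMonoidHom) (gammaFiltration P (k - i))

variable {P : PosStructure K} {f : K →+* K'} {w : K'} {r : ℕ}

theorem mem_RR {k i : ℕ} (hi : i ≤ r) {y : K} (hy : y ∈ gammaFiltration P (k - i)) :
    f y * w ^ i ∈ RR P f w r k := by
  have h1 : f y * w ^ i ∈ AddSubgroup.map
      ((AddMonoidHom.mulRight (w ^ i)).comp f.toAddMonoidHom) (gammaFiltration P (k - i)) :=
    ⟨y, hy, rfl⟩
  have h2 : AddSubgroup.map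
      ((AddMonoidHom.mulRight (w ^ i)).comp f.toAddMonoidHom) (gammaFiltration P (k - i)) ≤
      RR P f w r k :=
    le_iSup₂_of_le i (Finset.mem_range.2 (by omega)) le_rfl
  exact h2 h1

theorem RR_le {k : ℕ} {S : AddSubgroup K'}
    (h : ∀ i ≤ r, ∀ y ∈ gammaFiltration P (k - i), f y * w ^ i ∈ S) : RR P f w r k ≤ S := by
  apply iSup₂_le
  intro i hi
  rw [Finset.mem_range] at hi
  rintro x ⟨y, hy, rfl⟩
  exact h i (by omega) y hy

theorem RR_anti {k k' : ℕ} (hk : k ≤ k') : RR P f w r k' ≤ RR P f w r k :=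
  RR_le fun i hi y hy => mem_RR hi (gammaFiltration_anti P (by omega) hy)

theorem one_mem_RR : (1 : K') ∈ RR P f w r 0 := by
  have := mem_RR (P := P) (f := f) (w := w) (r := r) (k := 0) (i := 0) (Nat.zero_le r)
    (y := 1) (by rw [gammaFiltration_zero]; trivial)
  rwa [map_one, pow_zero, mul_one] at this

theorem fmul_mem_RR {k j : ℕ} {y : K} (hy : y ∈ gammaFiltration P j) {x : K'}
    (hx : x ∈ RR P f w r k) : f y * x ∈ RR P f w r (k + j) := by
  have : RR P f w r k ≤ AddSubgroup.comap (AddMonoidHom.mulLeft (f y)) (RR P f w r (k + j)) := by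
    apply RR_le
    intro i hi y' hy'
    change f y * (f y' * w ^ i) ∈ RR P f w r (k + j)
    rw [← mul_assoc, ← map_mul]
    apply mem_RR hi
    exact gammaFiltration_anti P (by omega) (mul_mem_gammaFiltration P j (k - i) y y' hy hy')
  exact this hx

/-- the standing relation -/
def Rel (P : PosStructure K) (f : K →+* K') (w : K') (r : ℕ) (c : ℕ → K) : Prop :=
  c 0 = 1 ∧ (∀ i, c i ∈ gammaFiltration P i) ∧
    ∑ i ∈ Finset.range (r + 2), f (c i) * w ^ (r + 1 - i) = 0

theorem pow_top_eq {c : ℕ → K} (hc : Rel P f w r c) :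
    w ^ (r + 1) = -∑ i ∈ Finset.range (r + 1), f (c (i + 1)) * w ^ (r - i) := by
  obtain ⟨h0, -, hrel⟩ := hc
  rw [Finset.sum_range_succ', h0, map_one, one_mul, Nat.sub_zero] at hrel
  have : ∑ i ∈ Finset.range (r + 1), f (c (i + 1)) * w ^ (r + 1 - (i + 1)) =
      ∑ i ∈ Finset.range (r + 1), f (c (i + 1)) * w ^ (r - i) := by
    refine Finset.sum_congr rfl fun i _ => ?_
    congr 2
    omega
  rw [this] at hrel
  linear_combination hrel

theorem wmul_mem_RR {c : ℕ → K} (hc : Rel P f w r c) {k : ℕ} {x : K'}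
    (hx : x ∈ RR P f w r k) : x * w ∈ RR P f w r (k + 1) := by
  have : RR P f w r k ≤ AddSubgroup.comap (AddMonoidHom.mulRight w) (RR P f w r (k + 1)) := by
    apply RR_le
    intro i hi y hy
    change f y * w ^ i * w ∈ RR P f w r (k + 1)
    rw [mul_assoc, ← pow_succ]
    rcases Nat.lt_or_ge i r with hlt | hge
    · apply mem_RR (by omega)
      exact gammaFiltration_anti P (by omega) hy
    · have hir : i = r := by omega
      subst hir
      rw [pow_top_eq hc, mul_neg, Finset.mul_sum]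
      apply AddSubgroup.neg_mem
      apply AddSubgroup.sum_mem
      intro j hj
      rw [Finset.mem_range] at hj
      rw [← mul_assoc, ← map_mul]
      apply mem_RR (by omega)
      exact gammaFiltration_anti P (by omega)
        (mul_mem_gammaFiltration P (k - i) (j + 1) y (c (j + 1)) hy (hc.2.1 (j + 1)))
  exact this hx

theorem wpow_mem_RR {c : ℕ → K} (hc : Rel P f w r c) (n : ℕ) : w ^ n ∈ RR P f w r n := by
  induction n with
  | zero => rw [pow_zero]; exact one_mem_RR
  | succ n ih => rw [pow_succ]; exact wmul_mem_RR hc ih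

theorem mul_wpow_mem_RR {c : ℕ → K} (hc : Rel P f w r c) {k : ℕ} {x : K'}
    (hx : x ∈ RR P f w r k) (n : ℕ) : x * w ^ n ∈ RR P f w r (k + n) := by
  induction n with
  | zero => rw [pow_zero, mul_one]; exact hx
  | succ n ih => rw [pow_succ, ← mul_assoc, ← add_assoc]; exact wmul_mem_RR hc ih

theorem mul_mem_RR {c : ℕ → K} (hc : Rel P f w r c) {a b : ℕ} {x y : K'}
    (hx : x ∈ RR P f w r a) (hy : y ∈ RR P f w r b) : x * y ∈ RR P f w r (a + b) := by
  have : RR P f w r b ≤ AddSubgroup.comap (AddMonoidHom.mulLeft x) (RR P f w r (a + b)) := by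
    apply RR_le
    intro i hi y' hy'
    change x * (f y' * w ^ i) ∈ RR P f w r (a + b)
    have h1 : f y' * x ∈ RR P f w r (a + (b - i)) := fmul_mem_RR hy' hx
    have h2 := mul_wpow_mem_RR hc h1 i
    have h3 : x * (f y' * w ^ i) = f y' * x * w ^ i := by ring
    rw [h3]
    exact RR_anti (by omega) h2
  exact this hy

theorem isMulFil_RR {c : ℕ → K} (hc : Rel P f w r c) : IsMulFil (RR P f w r) where
  one_mem := one_mem_RR
  mul_mem := fun hx hy => mul_mem_RR hc hx hy
  anti := fun h => RR_anti h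

end RR

section Twist
open Groth.Agent.Lib.T2H7.LamDet
variable {L : Type u} [CommRing L] [LambdaOps L]

/-- the twisting formula for sums of line elements -/
theorem gammaSeries_sum_lines_mul (PL : PosStructure L) {n : ℕ} (v : Fin n → L)
    (hv : ∀ i, PL.IsLine (v i)) {U : L} (hU : PL.IsLine U) :
    gammaSeries ((∑ i, v i) * U - (n : L)) =
      ∑ k ∈ range (n + 1), C (gamma k (∑ i, v i - (n : L))) *
        ((C U * X) ^ k * (1 + C (U - 1) * X) ^ (n - k)) := by
  classical
  have h1 := lam_one_eq_zero PL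
  have hlin : ∀ i, PL.IsLine (v i * U) := fun i => isLine_mul PL (hv i) hU
  have h : (∑ i, v i) * U - (n : L) = ∑ i : Fin n, (v i * U - 1) := by
    rw [sum_sub_distrib, sum_mul]; simp
  rw [h, gammaSeries_sum,
    prod_congr rfl (fun i _ => gammaSeries_sub_one h1 (v i * U)
      (lam_eq_zero_of_isLine PL _ (hlin i)))]
  have h2 : ∀ i : Fin n, (1 + C (v i * U - 1) * X : L⟦X⟧) =
      C (v i - 1) * (C U * X) + (1 + C (U - 1) * X) := by
    intro i
    have : v i * U - 1 = (v i - 1) * U + (U - 1) := by ring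
    rw [this, map_add, map_mul]; ring
  rw [prod_congr rfl (fun i _ => h2 i), prod_add, sum_powerset, card_univ, Fintype.card_fin]
  refine sum_congr rfl fun k _ => ?_
  rw [gamma_sum_sub_card h1 n v (fun i j hj => lam_eq_zero_of_isLine PL _ (hv i) j hj) k,
    map_sum, sum_mul]
  refine sum_congr rfl fun t ht => ?_
  rw [mem_powersetCard] at ht
  rw [prod_mul_distrib, prod_const, prod_const, ht.2, card_sdiff_of_subset ht.1, ht.2, card_univ,
    Fintype.card_fin, ← map_prod]
  ring

theorem map_gammaSeries {K' : Type u} [CommRing K'] [LambdaOps K'] {g : K' →+* L}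
    (hg : IsLambdaHom g) (y : K') :
    PowerSeries.map g (gammaSeries y) = gammaSeries (g y) := by
  ext k
  rw [coeff_map, coeff_gammaSeries, coeff_gammaSeries, map_gamma hg]

/-- the twisting formula for a positive element and a line element -/
theorem gammaSeries_pos_mul_line {K' : Type u} [CommRing K'] [LambdaOps K'] {P' : PosStructure K'}
    (hsplit : HasSplitting K' P') {x : K'} (hx : x ∈ P'.pos) {u : K'} (hu : P'.IsLine u) :
    gammaSeries (x * u - (rk P' x : K')) =
      ∑ k ∈ range (rk P' x + 1), C (gamma k (x - (rk P' x : K'))) *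
        ((C u * X) ^ k * (1 + C (u - 1) * X) ^ (rk P' x - k)) := by
  obtain ⟨L, g, hg, -, s, hs, hsum⟩ := exists_extension_multiset hsplit x hx
  obtain ⟨n, v, hv, hvsum, hn⟩ := exists_fin_of_multiset L.posStr s hs
  have hrk : rk P' x = n := by
    have h1 : L.posStr.aug (g x) = (n : ℤ) := by
      rw [← hsum, aug_multiset_sum_lines _ s hs, hn]
    rw [hg.aug_comp] at h1
    rw [rk, h1, Int.toNat_natCast]
  rw [hrk]
  apply PowerSeries.map_injective g hg.injective
  have hgx : g x = ∑ i, v i := by rw [hvsum, hsum]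
  rw [map_gammaSeries hg.isLambdaHom, map_sub, map_mul, map_natCast, hgx,
    gammaSeries_sum_lines_mul L.posStr v hv (isExtension_isLine hg hu), map_sum]
  refine sum_congr rfl fun k _ => ?_
  have h1 : g (gamma k (x - (n : K'))) = gamma k (∑ i, v i - (n : L.carrier)) := by
    rw [map_gamma hg.isLambdaHom, map_sub, map_natCast, hgx]
  have h2 : g (u - 1) = g u - 1 := by rw [map_sub, map_one]
  simp only [map_mul, map_pow, map_add, map_one, PowerSeries.map_C, PowerSeries.map_X, h1, h2]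

end Twist

section Main
open Groth.Agent.Lib.T2H7.LamDet
variable {K K' : Type u} [CommRing K] [LambdaOps K] [CommRing K'] [LambdaOps K']
variable {P : PosStructure K} {P' : PosStructure K'} {f : K →+* K'}

theorem map_mem_gammaFiltration (hf : IsExtension P P' f) {j : ℕ} {y : K}
    (hy : y ∈ gammaFiltration P j) : f y ∈ gammaFiltration P' j := by
  by_cases hj : j = 0
  · subst hj; rw [gammaFiltration_zero]; trivial
  rw [gammaFiltration_of_ne_zero P hj] at hy
  rw [gammaFiltration_of_ne_zero P' hj]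
  induction hy using AddSubgroup.closure_induction with
  | mem y hy =>
    obtain ⟨l, hl, hln, rfl⟩ := hy
    apply AddSubgroup.subset_closure
    refine ⟨l.map fun p => (p.1, f p.2), ?_, ?_, map_list_gamma_prod hf.isLambdaHom l⟩
    · intro p hp
      obtain ⟨q, hq, rfl⟩ := List.mem_map.1 hp
      change P'.aug (f q.2) = 0
      rw [hf.aug_comp, hl q hq]
    · rw [List.map_map]; exact hln
  | zero => rw [map_zero]; exact AddSubgroup.zero_mem _
  | add x y _ _ hx hy => rw [map_add]; exact AddSubgroup.add_mem _ hx hy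
  | neg x _ hx => rw [map_neg]; exact AddSubgroup.neg_mem _ hx

variable {ℓ : K'} {r : ℕ} {c : ℕ → K}

theorem aug_one_sub_line (hℓ : P'.IsLine ℓ) : P'.aug (1 - ℓ) = 0 := by
  rw [map_sub, map_one, hℓ.2, sub_self]

theorem RR_le_gammaFiltration (hf : IsExtension P P' f) (hℓ : P'.IsLine ℓ) (k : ℕ) :
    RR P f (1 - ℓ) r k ≤ gammaFiltration P' k := by
  apply RR_le
  intro i _ y hy
  have h1 := map_mem_gammaFiltration hf hy
  have h2 := pow_mem_gammaFiltration P' (mem_gammaFiltration_one P' _ (aug_one_sub_line hℓ)) i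
  rw [one_mul] at h2
  exact gammaFiltration_anti P' (by omega) (mul_mem_gammaFiltration P' _ _ _ _ h1 h2)

theorem line_mem_RR (hc : Rel P f (1 - ℓ) r c) : ℓ ∈ RR P f (1 - ℓ) r 0 := by
  have h1 : (1 - ℓ) ∈ RR P f (1 - ℓ) r 0 := by
    have := wpow_mem_RR hc 1
    rw [pow_one] at this
    exact RR_anti (Nat.zero_le 1) this
  have h2 := AddSubgroup.sub_mem _ (one_mem_RR (P := P) (f := f) (w := 1 - ℓ) (r := r)) h1
  rwa [sub_sub_cancel] at h2

theorem line_pow_mem_RR (hc : Rel P f (1 - ℓ) r c) (i : ℕ) : ℓ ^ i ∈ RR P f (1 - ℓ) r 0 := by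
  induction i with
  | zero => rw [pow_zero]; exact one_mem_RR
  | succ i ih =>
    have h := mul_mem_RR hc (a := 0) (b := 0) ih (line_mem_RR hc)
    rw [add_zero] at h
    rw [pow_succ]; exact h

theorem RR_zero_eq_top (hc : Rel P f (1 - ℓ) r c)
    (hgen : ∀ x : K', ∃ p : Polynomial K, x = Polynomial.eval₂ f ℓ p) :
    RR P f (1 - ℓ) r 0 = ⊤ := by
  rw [eq_top_iff]
  intro x _
  obtain ⟨p, rfl⟩ := hgen x
  rw [Polynomial.eval₂_eq_sum, Polynomial.sum]
  apply AddSubgroup.sum_mem
  intro i _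
  have h0 : p.coeff i ∈ gammaFiltration P 0 := by rw [gammaFiltration_zero]; trivial
  have h := fmul_mem_RR (k := 0) (j := 0) h0 (line_pow_mem_RR hc i)
  rw [add_zero] at h
  exact h

theorem line_pow_sub_one_mem_RR (hc : Rel P f (1 - ℓ) r c) (i : ℕ) :
    ℓ ^ i - 1 ∈ RR P f (1 - ℓ) r 1 := by
  rw [← geom_sum_mul]
  have h1 : ∑ j ∈ range i, ℓ ^ j ∈ RR P f (1 - ℓ) r 0 :=
    AddSubgroup.sum_mem _ fun j _ => line_pow_mem_RR hc j
  have h2 : ℓ - 1 ∈ RR P f (1 - ℓ) r 1 := by
    have := wpow_mem_RR hc 1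
    rw [pow_one] at this
    have h3 : ℓ - 1 = -(1 - ℓ) := by ring
    rw [h3]
    exact AddSubgroup.neg_mem _ this
  have h := mul_mem_RR hc (a := 0) (b := 1) h1 h2
  rw [zero_add] at h
  exact h

/-- `x` has a good centred γ-series -/
def QQ (P : PosStructure K) (P' : PosStructure K') (f : K →+* K') (ℓ : K') (r : ℕ) (x : K') : Prop :=
  GoodF (RR P f (1 - ℓ) r) (gammaSeries (x - (P'.aug x : K')))

theorem QQ_zero (hc : Rel P f (1 - ℓ) r c) : QQ P P' f ℓ r 0 := by
  unfold QQ
  rw [map_zero, Int.cast_zero, sub_zero, gammaSeries_zero]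
  exact goodF_one (isMulFil_RR hc)

theorem QQ_add (hc : Rel P f (1 - ℓ) r c) {x y : K'} (hx : QQ P P' f ℓ r x)
    (hy : QQ P P' f ℓ r y) : QQ P P' f ℓ r (x + y) := by
  unfold QQ at *
  have : x + y - (P'.aug (x + y) : K') = (x - (P'.aug x : K')) + (y - (P'.aug y : K')) := by
    rw [map_add, Int.cast_add]; ring
  rw [this, gammaSeries_add]
  exact goodF_mul (isMulFil_RR hc) hx hy

theorem QQ_neg (hc : Rel P f (1 - ℓ) r c) {x : K'} (hx : QQ P P' f ℓ r x) :
    QQ P P' f ℓ r (-x) := by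
  unfold QQ at *
  have : -x - (P'.aug (-x) : K') = -(x - (P'.aug x : K')) := by
    rw [map_neg, Int.cast_neg]; ring
  rw [this]
  refine goodF_inv (isMulFil_RR hc) hx ?_ (gammaSeries_neg_mul _)
  rw [coeff_gammaSeries, gamma_zero']

theorem QQ_sum (hc : Rel P f (1 - ℓ) r c) {ι : Type*} (s : Finset ι) (x : ι → K')
    (hx : ∀ i ∈ s, QQ P P' f ℓ r (x i)) : QQ P P' f ℓ r (∑ i ∈ s, x i) := by
  classical
  induction s using Finset.induction_on with
  | empty => rw [sum_empty]; exact QQ_zero hc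
  | insert a s ha ih =>
    rw [sum_insert ha]
    exact QQ_add hc (hx a (mem_insert_self a s)) (ih fun i hi => hx i (mem_insert_of_mem hi))

theorem QQ_pos_mul_line (hf : IsExtension P P' f) (hc : Rel P f (1 - ℓ) r c)
    (hsplit : HasSplitting K' P') (hR0 : RR P f (1 - ℓ) r 0 = ⊤) {e₁ : K} (he₁ : e₁ ∈ P.pos)
    {u : K'} (hu : P'.IsLine u) (hu1 : u - 1 ∈ RR P f (1 - ℓ) r 1) :
    QQ P P' f ℓ r (f e₁ * u) := by
  unfold QQ
  have hR := isMulFil_RR hc
  have hpos : f e₁ ∈ P'.pos := hf.pos_subset e₁ he₁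
  have hrk : rk P' (f e₁) = rk P e₁ := by rw [rk, rk, hf.aug_comp]
  have haug : (P'.aug (f e₁ * u) : K') = (rk P' (f e₁) : K') := by
    rw [map_mul, hu.2, mul_one, ← rk_cast P' hpos, Int.cast_natCast]
  rw [haug, gammaSeries_pos_mul_line hsplit hpos hu]
  apply goodF_sum
  intro k _
  have h1 : gamma k (f e₁ - (rk P' (f e₁) : K')) = f (gamma k (e₁ - (rk P e₁ : K))) := by
    rw [map_gamma hf.isLambdaHom, map_sub, map_natCast, hrk]
  have h2 : gamma k (e₁ - (rk P e₁ : K)) ∈ gammaFiltration P k := by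
    apply gamma_mem_gammaFiltration
    rw [map_sub, map_natCast, rk_cast P he₁, sub_self]
  have h3 : f (gamma k (e₁ - (rk P e₁ : K))) ∈ RR P f (1 - ℓ) r k := by
    have := mem_RR (P := P) (f := f) (w := 1 - ℓ) (r := r) (k := k) (i := 0) (Nat.zero_le r) h2
    rwa [pow_zero, mul_one] at this
  have h4 : C (gamma k (f e₁ - (rk P' (f e₁) : K'))) *
      ((C u * X) ^ k * (1 + C (u - 1) * X) ^ (rk P' (f e₁) - k)) =
      C (f (gamma k (e₁ - (rk P e₁ : K)))) *
        (X ^ k * (C (u ^ k) * (1 + C (u - 1) * X) ^ (rk P' (f e₁) - k))) := by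
    rw [h1, mul_pow, map_pow]; ring
  rw [h4]
  apply goodF_C_mul_X_pow_mul hR h3
  apply goodF_mul hR
  · apply goodF_C hR
    rw [hR0]; trivial
  · exact goodF_pow hR (goodF_one_add_C_mul_X hR hu1) _

theorem QQ_all (hf : IsExtension P P' f) (hℓ : P'.IsLine ℓ) (hc : Rel P f (1 - ℓ) r c)
    (hsplit : HasSplitting K' P')
    (hgen : ∀ x : K', ∃ p : Polynomial K, x = Polynomial.eval₂ f ℓ p) (x : K') :
    QQ P P' f ℓ r x := by
  have hR0 := RR_zero_eq_top hc hgen
  obtain ⟨p, rfl⟩ := hgen x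
  rw [Polynomial.eval₂_eq_sum, Polynomial.sum]
  apply QQ_sum hc
  intro i _
  obtain ⟨e₁, e₂, he₁, he₂, ha⟩ := P.exists_sub (p.coeff i)
  have : f (p.coeff i) * ℓ ^ i = f e₁ * ℓ ^ i + -(f e₂ * ℓ ^ i) := by
    rw [ha, map_sub]; ring
  rw [this]
  have hline : P'.IsLine (ℓ ^ i) := isLine_pow P' hℓ i
  exact QQ_add hc (QQ_pos_mul_line hf hc hsplit hR0 he₁ hline (line_pow_sub_one_mem_RR hc i))
    (QQ_neg hc (QQ_pos_mul_line hf hc hsplit hR0 he₂ hline (line_pow_sub_one_mem_RR hc i)))

theorem gamma_mem_RR (hf : IsExtension P P' f) (hℓ : P'.IsLine ℓ) (hc : Rel P f (1 - ℓ) r c)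
    (hsplit : HasSplitting K' P')
    (hgen : ∀ x : K', ∃ p : Polynomial K, x = Polynomial.eval₂ f ℓ p) {x : K'}
    (hx : P'.aug x = 0) (i : ℕ) : gamma i x ∈ RR P f (1 - ℓ) r i := by
  have := QQ_all hf hℓ hc hsplit hgen x i
  rwa [coeff_gammaSeries, hx, Int.cast_zero, sub_zero] at this

theorem list_prod_mem_RR (hf : IsExtension P P' f) (hℓ : P'.IsLine ℓ)
    (hc : Rel P f (1 - ℓ) r c) (hsplit : HasSplitting K' P')
    (hgen : ∀ x : K', ∃ p : Polynomial K, x = Polynomial.eval₂ f ℓ p)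
    (l : List (ℕ × K')) (hl : ∀ p ∈ l, P'.aug p.2 = 0) :
    (l.map fun p => gamma p.1 p.2).prod ∈ RR P f (1 - ℓ) r (l.map Prod.fst).sum := by
  induction l with
  | nil => simpa using one_mem_RR
  | cons p l ih =>
    simp only [List.map_cons, List.prod_cons, List.sum_cons]
    exact mul_mem_RR hc (gamma_mem_RR hf hℓ hc hsplit hgen (hl p (by simp)) p.1)
      (ih fun q hq => hl q (List.mem_cons_of_mem _ hq))

/-- The γ-filtration of an elementary extension. -/
theorem gammaFiltration_eq_RR (hf : IsExtension P P' f) (hℓ : P'.IsLine ℓ)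
    (hc : Rel P f (1 - ℓ) r c) (hsplit : HasSplitting K' P')
    (hgen : ∀ x : K', ∃ p : Polynomial K, x = Polynomial.eval₂ f ℓ p) (k : ℕ) :
    gammaFiltration P' k = RR P f (1 - ℓ) r k := by
  apply le_antisymm _ (RR_le_gammaFiltration hf hℓ k)
  by_cases hk : k = 0
  · subst hk
    rw [RR_zero_eq_top hc hgen]
    exact le_top
  rw [gammaFiltration_of_ne_zero P' hk, AddSubgroup.closure_le]
  rintro y ⟨l, hl, hln, rfl⟩
  exact RR_anti hln (list_prod_mem_RR hf hℓ hc hsplit hgen l hl)

end Main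

section Adjoin
open Groth.Agent.Lib.T2H7.LamDet
variable {K : Type u} [CommRing K] [LambdaOps K]

theorem neg_one_pow_mul_mem {A : Type*} [Ring A] (S : AddSubgroup A) {y : A} (hy : y ∈ S)
    (i : ℕ) : (-1 : A) ^ i * y ∈ S := by
  rcases neg_one_pow_eq_or A i with h | h
  · rw [h, one_mul]; exact hy
  · rw [h, neg_one_mul]; exact AddSubgroup.neg_mem _ hy

theorem RR_neg {K' : Type u} [CommRing K'] [LambdaOps K'] (P : PosStructure K) (f : K →+* K') (w : K')
    (r k : ℕ) : RR P f (-w) r k = RR P f w r k := by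
  have key : ∀ w : K', RR P f (-w) r k ≤ RR P f w r k := by
    intro w
    apply RR_le
    intro i hi y hy
    have : f y * (-w) ^ i = f ((-1) ^ i * y) * w ^ i := by
      rw [neg_pow, map_mul, map_pow, map_neg, map_one]; ring
    rw [this]
    exact mem_RR hi (neg_one_pow_mul_mem _ hy i)
  apply le_antisymm (key w)
  have := key (-w)
  rwa [neg_neg] at this

theorem adjoinRoot_gen (q : Polynomial K) (x : AdjoinRoot q) :
    ∃ p : Polynomial K, x = Polynomial.eval₂ (AdjoinRoot.of q) (AdjoinRoot.root q) p := by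
  obtain ⟨p, rfl⟩ := AdjoinRoot.mk_surjective x
  refine ⟨p, ?_⟩
  rw [← AdjoinRoot.aeval_eq, Polynomial.aeval_def, AdjoinRoot.algebraMap_eq]

theorem eval₂_extPoly {B : Type*} [CommRing B] (P : PosStructure K) (e : K) (g : K →+* B)
    (x : B) : Polynomial.eval₂ g x (KRR.extPoly P e) =
      ∑ i ∈ range (rk P e + 1), (-1 : B) ^ i * g (LambdaOps.lam i e) * x ^ (rk P e - i) := by
  unfold KRR.extPoly
  rw [Polynomial.eval₂_finsetSum]
  refine sum_congr rfl fun i _ => ?_
  rw [Polynomial.eval₂_mul, Polynomial.eval₂_C, Polynomial.eval₂_pow, Polynomial.eval₂_X, map_mul,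
    map_pow, map_neg, map_one]
  rfl

/-- the relation satisfied by `1 - ℓ` in the elementary extension -/
theorem rel_of_root {B : Type*} [CommRing B] (P : PosStructure K) (e : K) (he : e ∈ P.pos)
    (g : K →+* B) (x : B) (hx : Polynomial.eval₂ g x (KRR.extPoly P e) = 0) :
    ∑ i ∈ range (rk P e + 1), g (gamma i (e - (rk P e : K))) * (1 - x) ^ (rk P e - i) = 0 := by
  have h := congrArg (Polynomial.eval₂ g (1 - x)) (Groth.Agent.S3290.result K P e he)
  rw [show (P.aug e).toNat = rk P e from rfl] at h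
  rw [Polynomial.eval₂_finsetSum, Polynomial.eval₂_finsetSum] at h
  have hL : ∀ i ∈ range (rk P e + 1),
      Polynomial.eval₂ g (1 - x) (Polynomial.C (gamma i (e - (rk P e : K))) *
        Polynomial.X ^ (rk P e - i)) =
      g (gamma i (e - (rk P e : K))) * (1 - x) ^ (rk P e - i) := by
    intro i _
    rw [Polynomial.eval₂_mul, Polynomial.eval₂_C, Polynomial.eval₂_pow, Polynomial.eval₂_X]
  have hR : ∀ i ∈ range (rk P e + 1),
      Polynomial.eval₂ g (1 - x) (Polynomial.C (LambdaOps.lam i e) *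
        (Polynomial.X - 1) ^ (rk P e - i)) =
      (-1 : B) ^ (rk P e) * ((-1 : B) ^ i * g (LambdaOps.lam i e) * x ^ (rk P e - i)) := by
    intro i hi
    rw [mem_range] at hi
    rw [Polynomial.eval₂_mul, Polynomial.eval₂_C, Polynomial.eval₂_pow, Polynomial.eval₂_sub,
      Polynomial.eval₂_X, Polynomial.eval₂_one]
    have h1 : (1 - x - 1 : B) = -x := by ring
    have h2 : (-1 : B) ^ (rk P e - i) = (-1) ^ (rk P e) * (-1) ^ i := by
      have : rk P e + i = (rk P e - i) + 2 * i := by omega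
      rw [← pow_add, this, pow_add, pow_mul]; simp
    rw [h1, neg_pow, h2]; ring
  rw [sum_congr rfl hL, sum_congr rfl hR, ← mul_sum, ← eval₂_extPoly, hx, mul_zero] at h
  exact h

/-- **The γ-filtration of the elementary extension `K_e = K[T]/(p_e)`.** -/
theorem gammaFiltration_adjoinRoot (P : PosStructure K) (e : K) (he : e ∈ P.pos) (r : ℕ)
    (hr : P.aug e = r + 1) [LambdaOps (AdjoinRoot (KRR.extPoly P e))]
    (Pe : PosStructure (AdjoinRoot (KRR.extPoly P e)))
    (hext : IsExtension P Pe (AdjoinRoot.of (KRR.extPoly P e)))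
    (hline : Pe.IsLine (AdjoinRoot.root (KRR.extPoly P e)))
    (hsplit : HasSplitting (AdjoinRoot (KRR.extPoly P e)) Pe) (k : ℕ) :
    gammaFiltration Pe k =
      ⨆ i ∈ Finset.range (r + 1), AddSubgroup.map
        ((AddMonoidHom.mulRight ((AdjoinRoot.root (KRR.extPoly P e) - 1) ^ i)).comp
          (AdjoinRoot.of (KRR.extPoly P e)).toAddMonoidHom)
        (gammaFiltration P (k - i)) := by
  have hrk : rk P e = r + 1 := by
    rw [rk, hr]; exact Int.toNat_natCast (r + 1)
  have hc : Rel P (AdjoinRoot.of (KRR.extPoly P e)) (1 - AdjoinRoot.root (KRR.extPoly P e)) r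
      (fun i => gamma i (e - (rk P e : K))) := by
    refine ⟨gamma_zero' _, fun i => ?_, ?_⟩
    · apply gamma_mem_gammaFiltration
      rw [map_sub, map_natCast, rk_cast P he, sub_self]
    · have := rel_of_root P e he (AdjoinRoot.of (KRR.extPoly P e))
        (AdjoinRoot.root (KRR.extPoly P e)) (AdjoinRoot.eval₂_root _)
      rw [hrk] at this
      rw [hrk]
      exact this
  have h := gammaFiltration_eq_RR hext hline hc hsplit (adjoinRoot_gen _) k
  rw [h, ← RR_neg, neg_sub]
  rfl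

end Adjoin

end Groth.Agent.Lib.T2H7.LamElem
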