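import Mathlib

set_option autoImplicit false
set_option linter.unusedSectionVars false
set_option linter.unusedVariables false
set_option linter.style.haveILetI false
universe u
open Cardinal

namespace Groth.Agent.Lib.T2H7.LargeField

/-- a field extension of cardinality smaller than an algebraically closed field embeds in it. -/
theorem exists_algHom_of_card_lt (F L k : Type u) [Field F] [Field L] [Field k] [Algebra F L]
    [Algebra F k] [IsAlgClosed k] (h : #L < #k) : Nonempty (L →ₐ[F] k) := by
  obtain ⟨s, hs⟩ := exists_isTranscendenceBasis F L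
  obtain ⟨t, ht⟩ := exists_isTranscendenceBasis F k
  have hst : #s ≤ #t := by
    by_cases hk : ℵ₀ < #k
    · have h1 : #k ≤ max (max #F #t) ℵ₀ :=
        IsAlgClosed.cardinal_le_max_transcendence_basis' (R := F) (K' := k)
          (v' := ((↑) : t → k)) ht
      have hF : #F < #k :=
        (Cardinal.mk_le_of_injective (algebraMap F L).injective).trans_lt h
      have h2 : #k ≤ #t := by
        by_contra hcon
        rw [not_le] at hcon
        exact absurd h1 (not_le.mpr (max_lt (max_lt hF hcon) hk))
      exact ((Cardinal.mk_set_le s).trans h.le).trans h2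
    · rw [not_lt] at hk
      have hL : #L < ℵ₀ := h.trans_le hk
      haveI : Finite L := Cardinal.lt_aleph0_iff_finite.mp hL
      haveI : Module.Finite F L := Module.Finite.of_finite
      have hempty : IsEmpty s := by
        constructor
        intro x
        have h1 : Transcendental F (x : L) := hs.1.transcendental x
        exact h1 (Algebra.IsAlgebraic.isAlgebraic _)
      rw [Cardinal.mk_eq_zero_iff.mpr hempty]
      exact zero_le
  obtain ⟨j⟩ : Nonempty (s ↪ t) := Cardinal.le_def _ _ |>.mp hst
  have hindep : AlgebraicIndependent F (fun i : s => ((j i : t) : k)) :=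
    ht.1.comp j j.injective
  let g₀ : FractionRing (MvPolynomial s F) →ₐ[F] k :=
    IsFractionRing.liftAlgHom (g := MvPolynomial.aeval (fun i : s => ((j i : t) : k)))
      (algebraicIndependent_iff_injective_aeval.1 hindep)
  let E := IntermediateField.adjoin F (Set.range ((↑) : s → L))
  let g₁ : E →ₐ[F] k := g₀.comp hs.1.aevalEquivField.symm.toAlgHom
  letI : Algebra E k := g₁.toRingHom.toAlgebra
  haveI : IsScalarTower F E k := IsScalarTower.of_algebraMap_eq (fun x => (g₁.commutes x).symm)
  haveI : Algebra.IsAlgebraic E L := hs.isAlgebraic_field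
  exact ⟨(IsAlgClosed.lift : L →ₐ[E] k).restrictScalars F⟩

/-- a finite extension of a field smaller than an infinite field is smaller than it. -/
theorem card_lt_of_finite (F L k : Type u) [Field F] [Field L] [Field k] [Algebra F L]
    [Module.Finite F L] [Infinite k] (h : #F < #k) : #L < #k := by
  have h1 : #L ≤ max #F ℵ₀ := Algebra.IsAlgebraic.cardinalMk_le_max F L
  by_cases hk : ℵ₀ < #k
  · exact h1.trans_lt (max_lt h hk)
  · rw [not_lt] at hk
    have hF : #F < ℵ₀ := h.trans_le hk
    haveI : Finite F := Cardinal.lt_aleph0_iff_finite.mp hF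
    haveI : Finite L := Module.finite_of_finite F
    exact (Cardinal.lt_aleph0_iff_finite.mpr inferInstance).trans_le (Cardinal.aleph0_le_mk k)

end Groth.Agent.Lib.T2H7.LargeField
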