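import Mathlib

/-!
# Colength of ideals along products (helper7, team 2)

* `colen I` : the length of `A ⧸ I` as an `A`-module;
* `colen_mul_le` : `colen (J ⊔ (ab)) ≤ colen (J ⊔ (a)) + colen (J ⊔ (b))`;
* `add_le_colen_mul` : the reverse inequality when `a` is a nonzerodivisor modulo `J`.
-/

set_option autoImplicit false
universe u v

namespace Groth.Agent.Lib.T2H7.LenMul

variable {A : Type u} [CommRing A]

/-- The colength of an ideal. -/
noncomputable def colen (I : Ideal A) : ℕ∞ := Module.length A (A ⧸ I)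

/-- `a` is a nonzerodivisor modulo `I`. -/
def RegMod (I : Ideal A) (a : A) : Prop := ∀ y, a * y ∈ I → y ∈ I

section

variable (J : Ideal A) (a b : A)

theorem le01 : J ⊔ Ideal.span {a * b} ≤ J ⊔ Ideal.span {a} := by
  refine sup_le le_sup_left ?_
  rw [Ideal.span_singleton_le_iff_mem]
  exact Ideal.mem_sup_right (Ideal.mul_mem_right _ _ (Ideal.mem_span_singleton_self a))

theorem le20 : J ⊔ Ideal.span {b} ≤
    Submodule.comap (LinearMap.mulLeft A a) (J ⊔ Ideal.span {a * b}) := by
  refine sup_le ?_ ?_
  · intro x hx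
    exact Ideal.mem_sup_left (Ideal.mul_mem_left _ _ hx)
  · rw [Ideal.span_le]
    intro x hx
    rw [Set.mem_singleton_iff] at hx
    subst hx
    exact Ideal.mem_sup_right (Ideal.mem_span_singleton_self _)

/-- The projection `A/(J,ab) → A/(J,a)`. -/
noncomputable def gMap : (A ⧸ (J ⊔ Ideal.span {a * b})) →ₗ[A] (A ⧸ (J ⊔ Ideal.span {a})) :=
  Submodule.mapQ _ _ LinearMap.id (by simpa using le01 J a b)

/-- Multiplication by `a`, `A/(J,b) → A/(J,ab)`. -/
noncomputable def hMap : (A ⧸ (J ⊔ Ideal.span {b})) →ₗ[A] (A ⧸ (J ⊔ Ideal.span {a * b})) :=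
  Submodule.mapQ _ _ (LinearMap.mulLeft A a) (le20 J a b)

theorem gMap_surjective : Function.Surjective (gMap J a b) := by
  intro y
  obtain ⟨y, rfl⟩ := Submodule.Quotient.mk_surjective _ y
  exact ⟨Submodule.Quotient.mk y, rfl⟩

theorem ker_gMap_le_range_hMap : LinearMap.ker (gMap J a b) ≤ LinearMap.range (hMap J a b) := by
  intro x hx
  obtain ⟨y, rfl⟩ := Submodule.Quotient.mk_surjective _ x
  have hy : y ∈ J ⊔ Ideal.span {a} := by
    have h2 : (Submodule.Quotient.mk y : A ⧸ (J ⊔ Ideal.span {a})) = 0 := hx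
    exact (Submodule.Quotient.mk_eq_zero _).mp h2
  obtain ⟨j, hj, z, hz, rfl⟩ := Submodule.mem_sup.mp hy
  obtain ⟨c, rfl⟩ := Ideal.mem_span_singleton'.mp hz
  refine ⟨Submodule.Quotient.mk c, ?_⟩
  show Submodule.Quotient.mk (a * c) = Submodule.Quotient.mk (j + c * a)
  rw [Submodule.Quotient.eq]
  have : a * c - (j + c * a) = -j := by ring
  rw [this]
  exact neg_mem (Ideal.mem_sup_left hj)

theorem range_hMap_le_ker_gMap : LinearMap.range (hMap J a b) ≤ LinearMap.ker (gMap J a b) := by
  rintro _ ⟨x, rfl⟩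
  obtain ⟨y, rfl⟩ := Submodule.Quotient.mk_surjective _ x
  rw [LinearMap.mem_ker]
  show (Submodule.Quotient.mk (a * y) : A ⧸ (J ⊔ Ideal.span {a})) = 0
  rw [Submodule.Quotient.mk_eq_zero]
  exact Ideal.mem_sup_right (Ideal.mul_mem_right _ _ (Ideal.mem_span_singleton_self a))

theorem hMap_injective (ha : RegMod J a) : Function.Injective (hMap J a b) := by
  rw [← LinearMap.ker_eq_bot, LinearMap.ker_eq_bot']
  intro x hx
  obtain ⟨y, rfl⟩ := Submodule.Quotient.mk_surjective _ x
  have h1 : (Submodule.Quotient.mk (a * y) : A ⧸ (J ⊔ Ideal.span {a * b})) = 0 := hx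
  rw [Submodule.Quotient.mk_eq_zero] at h1
  obtain ⟨j, hj, z, hz, hjz⟩ := Submodule.mem_sup.mp h1
  obtain ⟨c, rfl⟩ := Ideal.mem_span_singleton'.mp hz
  have h2 : a * (y - c * b) ∈ J := by
    have : a * (y - c * b) = j := by
      rw [mul_sub, ← hjz]; ring
    rw [this]; exact hj
  have h3 := ha _ h2
  rw [Submodule.Quotient.mk_eq_zero]
  have : y = (y - c * b) + c * b := by ring
  rw [this]
  exact add_mem (Ideal.mem_sup_left h3)
    (Ideal.mem_sup_right (Ideal.mul_mem_left _ _ (Ideal.mem_span_singleton_self b)))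

theorem colen_eq_ker_add :
    colen (J ⊔ Ideal.span {a * b}) =
      Module.length A (LinearMap.ker (gMap J a b)) + colen (J ⊔ Ideal.span {a}) :=
  Module.length_eq_add_of_exact (LinearMap.ker (gMap J a b)).subtype (gMap J a b)
    (Submodule.subtype_injective _) (gMap_surjective J a b)
    (LinearMap.exact_subtype_ker_map (gMap J a b))

/-- Subadditivity of the colength along a product. -/
theorem colen_mul_le :
    colen (J ⊔ Ideal.span {a * b}) ≤ colen (J ⊔ Ideal.span {a}) + colen (J ⊔ Ideal.span {b}) := by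
  have hK := ker_gMap_le_range_hMap J a b
  have e2 : Module.length A (LinearMap.ker (gMap J a b)) ≤
      Module.length A (LinearMap.range (hMap J a b)) :=
    Module.length_le_of_injective (Submodule.inclusion hK) (Submodule.inclusion_injective hK)
  have e3 : Module.length A (LinearMap.range (hMap J a b)) ≤ colen (J ⊔ Ideal.span {b}) :=
    Module.length_le_of_surjective (hMap J a b).rangeRestrict (hMap J a b).surjective_rangeRestrict
  rw [colen_eq_ker_add, add_comm]
  exact add_le_add le_rfl (e2.trans e3)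

/-- Superadditivity of the colength along a product with a regular factor. -/
theorem add_le_colen_mul (ha : RegMod J a) :
    colen (J ⊔ Ideal.span {a}) + colen (J ⊔ Ideal.span {b}) ≤ colen (J ⊔ Ideal.span {a * b}) := by
  have hrange := range_hMap_le_ker_gMap J a b
  have hinj := hMap_injective J a b ha
  have e2 : Module.length A (LinearMap.range (hMap J a b)) ≤
      Module.length A (LinearMap.ker (gMap J a b)) :=
    Module.length_le_of_injective (Submodule.inclusion hrange)
      (Submodule.inclusion_injective hrange)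
  have e3 : colen (J ⊔ Ideal.span {b}) ≤ Module.length A (LinearMap.range (hMap J a b)) := by
    refine Module.length_le_of_injective (hMap J a b).rangeRestrict ?_
    intro x y hxy
    apply hinj
    exact congrArg Subtype.val hxy
  rw [colen_eq_ker_add, add_comm]
  exact add_le_add (e3.trans e2) le_rfl

theorem colen_mul_eq (ha : RegMod J a) :
    colen (J ⊔ Ideal.span {a * b}) = colen (J ⊔ Ideal.span {a}) + colen (J ⊔ Ideal.span {b}) :=
  le_antisymm (colen_mul_le J a b) (add_le_colen_mul J a b ha)

end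

end Groth.Agent.Lib.T2H7.LenMul
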