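import Mathlib
import Groth.Agent.Lib.T2H7LfpLimC

/-!
# Limit preservation for morphisms of algebraic spaces locally of finite presentation, IV (helper7)

The injectivity half for systems of quasi-compact schemes with affine transition maps.
-/

set_option autoImplicit false
set_option linter.unusedSectionVars false
set_option linter.unusedVariables false
set_option linter.style.haveILetI false
universe u
open CategoryTheory CategoryTheory.Limits AlgebraicGeometry Opposite
open AlgSp

namespace Groth.Agent.Lib.T2H7.LfpLimD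

open Groth.Agent.Lib.T2H7.LfpSurj Groth.Agent.Lib.T2H7.LfpLimA Groth.Agent.Lib.T2H7.LfpLimB
  Groth.Agent.Lib.T2H7.BcSys

variable {S : Scheme.{u}}

/-- a quasi-compact scheme has an affine étale surjective chart. -/
theorem exists_affine_zariski_chart (T : Over S) [CompactSpace T.left] :
    ∃ (V : Over S) (q : V ⟶ T), IsAffine V.left ∧ Etale q.left ∧ Surjective q.left := by
  haveI : Etale (𝟙 T.left) := inferInstance
  haveI : Surjective (𝟙 T.left) := inferInstance
  obtain ⟨V₀, v, hV₀, hve, hvpe, hvps⟩ := exists_affine_refinement (𝟙 T.left)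
  rw [Category.comp_id] at hvpe hvps
  exact ⟨Over.mk (v ≫ T.hom), Over.homMk v rfl, hV₀, hvpe, hvps⟩

/-- the base change of an affine scheme along an affine morphism, over `S`, is affine. -/
theorem isAffine_pullback_left_of_isAffineHom {A B C : Over S} (f : A ⟶ C) (g : B ⟶ C)
    (hf : IsAffineHom f.left) (hB : IsAffine B.left) : IsAffine (pullback f g).left := by
  haveI := hf
  haveI := hB
  have e : (pullback f g).left ≅ pullback f.left g.left :=
    PreservesPullback.iso (Over.forget S) f g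
  haveI : IsAffine (pullback f.left g.left) := isAffine_of_isAffineHom (pullback.snd f.left g.left)
  exact .of_isIso e.hom

section

variable {I : Type u} [SmallCategory I] [IsCofiltered I] (D : I ⥤ Over S) (c : Cone D)

attribute [local instance] IsCofiltered.isConnected in
/-- **the injectivity half for a system of quasi-compact schemes with affine transition maps**. -/
theorem injLim_qc {X Y : AlgSp.Sp S} (f : X ⟶ Y) (hinj : InjLim f)
    (hc : IsLimit ((Over.forget S).mapCone c)) (hqc : ∀ i, CompactSpace (D.obj i).left)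
    (haff : ∀ {i j : I} (φ : i ⟶ j), IsAffineHom (D.map φ).left)
    (i : I) (x₁ x₂ : (AlgSp.yon S).obj (D.obj i) ⟶ X) (h12 : x₁ ≫ f = x₂ ≫ f)
    (hπ : (AlgSp.yon S).map (c.π.app i) ≫ x₁ = (AlgSp.yon S).map (c.π.app i) ≫ x₂) :
    ∃ (j : I) (φ : j ⟶ i),
      (AlgSp.yon S).map (D.map φ) ≫ x₁ = (AlgSp.yon S).map (D.map φ) ≫ x₂ := by
  haveI := hqc i
  obtain ⟨V, qV, hV, hqe, hqs⟩ := exists_affine_zariski_chart (D.obj i)
  let D' : Over i ⥤ Over S := Over.forget i ⋙ D
  let c' : Cone D' := c.whisker (Over.forget i)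
  have hc' : IsLimit ((Over.forget S).mapCone c') :=
    (Functor.Initial.isLimitWhiskerEquiv (Over.forget i) ((Over.forget S).mapCone c)).symm hc
  have hcO : IsLimit c' := isLimitOfReflects (Over.forget S) hc'
  let t : D' ⟶ (Functor.const (Over i)).obj (D.obj i) :=
    { app := fun k => D.map k.hom
      naturality := fun k l φ => by
        simp only [Functor.const_obj_obj, Functor.const_obj_map, Category.comp_id]
        show D.map φ.left ≫ D.map l.hom = D.map k.hom
        rw [← D.map_comp, Over.w φ] }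
  have hg : ∀ k, c'.π.app k ≫ t.app k = c.π.app i := fun k => c.w k.hom
  let Vs : Over i ⥤ Over S := Bs D' t qV
  let Vc : Cone Vs := Bc D' t qV c' (c.π.app i) hg
  have hVc : IsLimit Vc := isLimitBc D' t qV c' (c.π.app i) hg hcO
  have hVaff : ∀ k, IsAffine (Vs.obj k).left :=
    fun k => isAffine_pullback_left_of_isAffineHom _ _ (haff k.hom) hV
  have hVcS : IsLimit ((Over.forget S).mapCone Vc) := isLimitOfPreserves (Over.forget S) hVc
  have hVcaff : IsAffine Vc.pt.left := by
    haveI : ∀ k, IsAffine ((Vs ⋙ Over.forget S).obj k) := hVaff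
    exact Scheme.isAffine_of_isLimit _ hVcS
  let k₀ : Over i := Over.mk (𝟙 i)
  have ht₀ : t.app k₀ = 𝟙 (D.obj i) := D.map_id i
  let x₁' : (AlgSp.yon S).obj (D'.obj k₀) ⟶ X := x₁
  let x₂' : (AlgSp.yon S).obj (D'.obj k₀) ⟶ X := x₂
  have h12' : x₁' ≫ f = x₂' ≫ f := h12
  have hπ' : (AlgSp.yon S).map (c'.π.app k₀) ≫ x₁' = (AlgSp.yon S).map (c'.π.app k₀) ≫ x₂' := hπ
  let y₁ : (AlgSp.yon S).obj (Vs.obj k₀) ⟶ X := (AlgSp.yon S).map (p1 D' t qV k₀) ≫ x₁'
  let y₂ : (AlgSp.yon S).obj (Vs.obj k₀) ⟶ X := (AlgSp.yon S).map (p1 D' t qV k₀) ≫ x₂'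
  have hy12 : y₁ ≫ f = y₂ ≫ f := by
    show ((AlgSp.yon S).map (p1 D' t qV k₀) ≫ x₁') ≫ f =
      ((AlgSp.yon S).map (p1 D' t qV k₀) ≫ x₂') ≫ f
    rw [Category.assoc, Category.assoc, h12']
  have hyπ : (AlgSp.yon S).map (Vc.π.app k₀) ≫ y₁ = (AlgSp.yon S).map (Vc.π.app k₀) ≫ y₂ := by
    show (AlgSp.yon S).map (Vc.π.app k₀) ≫ (AlgSp.yon S).map (p1 D' t qV k₀) ≫ x₁' =
      (AlgSp.yon S).map (Vc.π.app k₀) ≫ (AlgSp.yon S).map (p1 D' t qV k₀) ≫ x₂'
    rw [← Category.assoc, ← Functor.map_comp, ← Category.assoc, ← Functor.map_comp, π_p1,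
      Functor.map_comp, Category.assoc, Category.assoc, hπ']
  obtain ⟨k, φ, hφ⟩ := hinj Vs Vc hVcS hVaff hVcaff k₀ y₁ y₂ hy12 hyπ
  refine ⟨k.left, k.hom, ?_⟩
  have hp1e : Etale (p1 D' t qV k).left := etale_of_isPullback_over (isPullback_p D' t qV k) hqe
  have hp1s : Surjective (p1 D' t qV k).left :=
    surjective_of_isPullback_over (isPullback_p D' t qV k) hqs
  haveI : Epi ((AlgSp.yon S).map (p1 D' t qV k)) := epi_yon_map _ hp1e hp1s
  let dk : D'.obj k ⟶ D'.obj k₀ := D.map k.hom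
  have e1 : Vs.map φ ≫ p1 D' t qV k₀ = p1 D' t qV k ≫ dk := by
    rw [map_p1]
    show p1 D' t qV k ≫ D.map φ.left = p1 D' t qV k ≫ D.map k.hom
    have : φ.left = k.hom := by
      have := Over.w φ
      simpa [k₀] using this
    rw [this]
  have hφ' : (AlgSp.yon S).map (Vs.map φ) ≫ (AlgSp.yon S).map (p1 D' t qV k₀) ≫ x₁' =
      (AlgSp.yon S).map (Vs.map φ) ≫ (AlgSp.yon S).map (p1 D' t qV k₀) ≫ x₂' := hφ
  rw [← Category.assoc, ← Functor.map_comp, e1, ← Category.assoc, ← Functor.map_comp, e1,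
    Functor.map_comp, Category.assoc, Category.assoc] at hφ'
  exact (cancel_epi ((AlgSp.yon S).map (p1 D' t qV k))).1 hφ'

end

end Groth.Agent.Lib.T2H7.LfpLimD
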