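import Mathlib
import Groth.Agent.Lib.T2H7LfpLimD
import Groth.Agent.Lib.T2H7StageAffC
import Groth.Agent.Lib.T2H1Gpd2
import Groth.Agent.Lib.Helper15QcRep
import Groth.Agent.Lib.T2H7LimDescA

/-!
# Limit preservation for morphisms of algebraic spaces locally of finite presentation, V (helper7)

Limits of quasi-compact and quasi-separated algebraic spaces with affine transition maps as test
objects.
-/

set_option autoImplicit false
set_option linter.unusedSectionVars false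
set_option linter.unusedVariables false
set_option linter.style.haveILetI false
universe u
open CategoryTheory CategoryTheory.Limits AlgebraicGeometry Opposite
open AlgSp

namespace Groth.Agent.Lib.T2H7.LfpLimE

open Groth.Agent.Lib.T2H7.LfpSurj Groth.Agent.Lib.T2H7.LfpLimA Groth.Agent.Lib.T2H7.LfpLimB
  Groth.Agent.Lib.T2H7.LfpLimD Groth.Agent.Lib.T2H7.EvClosed Groth.Agent.Lib.T2H7.StageAffC

variable {S : Scheme.{u}}

section

variable {I : Type u} [SmallCategory I] [IsCofiltered I] (D : I ⥤ AlgSp.Sp S)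
  (hD : ∀ i, AlgSp.IsAlgSpace (D.obj i))
  (hDa : ∀ (i j : I) (φ : i ⟶ j), AlgSp.IsAffineMor (D.map φ))
  (hqc : ∀ i, AlgSp.IsQuasiCompactSp (D.obj i))
  (c : Cone D) (hc : IsLimit c)

include hD hDa hqc hc in
/-- the injectivity half for limits of quasi-compact algebraic spaces. -/
theorem inj_spaces {X Y : AlgSp.Sp S} (f : X ⟶ Y) (hinj : InjLim f) (i : I) (x x' : D.obj i ⟶ X)
    (h12 : x ≫ f = x' ≫ f) (hπ : c.π.app i ≫ x = c.π.app i ≫ x') :
    ∃ (k : I) (φ : k ⟶ i), D.map φ ≫ x = D.map φ ≫ x' := by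
  obtain ⟨cd⟩ := nonempty_chartData D hD hDa c hc i (hqc i)
  let k₀ : Over i := Over.mk (𝟙 i)
  let x₁ : (AlgSp.yon S).obj (cd.E.obj k₀) ⟶ X := cd.pj k₀ ≫ x
  let x₂ : (AlgSp.yon S).obj (cd.E.obj k₀) ⟶ X := cd.pj k₀ ≫ x'
  have h12' : x₁ ≫ f = x₂ ≫ f := by
    show (cd.pj k₀ ≫ x) ≫ f = (cd.pj k₀ ≫ x') ≫ f
    rw [Category.assoc, Category.assoc, h12]
  have hπ' : (AlgSp.yon S).map (cd.cW.π.app k₀) ≫ x₁ = (AlgSp.yon S).map (cd.cW.π.app k₀) ≫ x₂ := by
    show (AlgSp.yon S).map (cd.cW.π.app k₀) ≫ cd.pj k₀ ≫ x =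
      (AlgSp.yon S).map (cd.cW.π.app k₀) ≫ cd.pj k₀ ≫ x'
    have e : ∀ (w : D.obj i ⟶ X), (AlgSp.yon S).map (cd.cW.π.app k₀) ≫ cd.pj k₀ ≫ w =
        cd.fstW ≫ c.π.app i ≫ w := fun w => by
      rw [← Category.assoc, ← cd.hfst k₀, Category.assoc]
      rfl
    rw [e, e, hπ]
  obtain ⟨k, φ, hφ⟩ := hinj cd.E cd.cW cd.hcW cd.haffj cd.hWaff k₀ x₁ x₂ h12' hπ'
  refine ⟨k.left, φ.left, ?_⟩
  haveI : Epi (cd.pj k) :=
    Groth.Agent.S9927.epi_of_repWith _ (cd.repWith_etale_pj k) (cd.repWith_surjective_pj k)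
  have hφ' : (AlgSp.yon S).map (cd.E.map φ) ≫ cd.pj k₀ ≫ x =
      (AlgSp.yon S).map (cd.E.map φ) ≫ cd.pj k₀ ≫ x' := hφ
  rw [← Category.assoc, cd.hE2 φ, ← Category.assoc, cd.hE2 φ, Category.assoc, Category.assoc]
    at hφ'
  exact (cancel_epi (cd.pj k)).1 hφ'

end

section

variable [QuasiSeparatedSpace S] {I : Type u} [SmallCategory I] [IsCofiltered I]
  (D : I ⥤ AlgSp.Sp S)
  (hD : ∀ i, AlgSp.IsAlgSpace (D.obj i))
  (hDa : ∀ (i j : I) (φ : i ⟶ j), AlgSp.IsAffineMor (D.map φ))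
  (hqc : ∀ i, AlgSp.IsQuasiCompactSp (D.obj i)) (hqs : ∀ i, AlgSp.IsQuasiSeparatedSp (D.obj i))
  (c : Cone D) (hc : IsLimit c)

include hD hDa hqc hqs hc in
/-- the surjectivity half for limits of quasi-compact and quasi-separated algebraic spaces. -/
theorem surj_spaces {X Y : AlgSp.Sp S} (f : X ⟶ Y) (hsurj : SurjLim f) (hinj : InjLim f) (i : I)
    (y : D.obj i ⟶ Y) (x : c.pt ⟶ X) (hxy : x ≫ f = c.π.app i ≫ y) :
    ∃ (k : I) (φ : k ⟶ i) (x' : D.obj k ⟶ X), x' ≫ f = D.map φ ≫ y ∧ c.π.app k ≫ x' = x := by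
  have hDr : ∀ (i j : I) (φ : i ⟶ j), AlgSp.RepWith @IsAffineHom (D.map φ) := fun i j φ =>
    repWith_of_isAffineMor _ (hDa i j φ)
  obtain ⟨cd⟩ := nonempty_chartData D hD hDa c hc i (hqc i)
  obtain ⟨E', s, t, cW', σ, τ, hker, ⟨hcW'⟩, hσ, hτ, hστ, hcomp, haffE'⟩ :=
    exists_kerPair_system hDr hc (hqs i) cd
  let k₀ : Over i := Over.mk (𝟙 i)
  -- descend the point on the chart
  let xW : (AlgSp.yon S).obj cd.cW.pt ⟶ X := cd.fstW ≫ x
  let y₀ : (AlgSp.yon S).obj (cd.E.obj k₀) ⟶ Y := cd.pj k₀ ≫ y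
  have hxy₀ : xW ≫ f = (AlgSp.yon S).map (cd.cW.π.app k₀) ≫ y₀ := by
    show (cd.fstW ≫ x) ≫ f = (AlgSp.yon S).map (cd.cW.π.app k₀) ≫ cd.pj k₀ ≫ y
    rw [Category.assoc, hxy, ← Category.assoc (cd.fstW), ← Category.assoc ((AlgSp.yon S).map _),
      ← cd.hfst k₀]
    rfl
  obtain ⟨k, φ, xk, hxk1, hxk2⟩ := hsurj cd.E cd.cW cd.hcW cd.haffj cd.hWaff xW k₀ y₀ hxy₀
  have hxk2' : xk ≫ f = cd.pj k ≫ D.map φ.left ≫ y := by
    rw [hxk2]
    show (AlgSp.yon S).map (cd.E.map φ) ≫ cd.pj k₀ ≫ y = _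
    rw [← Category.assoc, cd.hE2 φ, Category.assoc]
  -- the two pullbacks to the kernel pair agree at a later stage
  let x₁ : (AlgSp.yon S).obj (E'.obj k) ⟶ X := (AlgSp.yon S).map (s.app k) ≫ xk
  let x₂ : (AlgSp.yon S).obj (E'.obj k) ⟶ X := (AlgSp.yon S).map (t.app k) ≫ xk
  have h12 : x₁ ≫ f = x₂ ≫ f := by
    show ((AlgSp.yon S).map (s.app k) ≫ xk) ≫ f = ((AlgSp.yon S).map (t.app k) ≫ xk) ≫ f
    rw [Category.assoc, Category.assoc, hxk2', ← Category.assoc, (hker k).w, Category.assoc]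
  have hπ : (AlgSp.yon S).map (cW'.π.app k) ≫ x₁ = (AlgSp.yon S).map (cW'.π.app k) ≫ x₂ := by
    show (AlgSp.yon S).map (cW'.π.app k) ≫ (AlgSp.yon S).map (s.app k) ≫ xk =
      (AlgSp.yon S).map (cW'.π.app k) ≫ (AlgSp.yon S).map (t.app k) ≫ xk
    rw [← Category.assoc, ← Functor.map_comp, hσ k, ← Category.assoc ((AlgSp.yon S).map _),
      ← Functor.map_comp, hτ k, Functor.map_comp, Category.assoc, hxk1, Functor.map_comp,
      Category.assoc, hxk1]
    show (AlgSp.yon S).map σ ≫ cd.fstW ≫ x = (AlgSp.yon S).map τ ≫ cd.fstW ≫ x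
    rw [← Category.assoc, hστ, Category.assoc]
  obtain ⟨l, ψ, hψ⟩ := injLim_qc E' cW' f hinj hcW' hcomp (fun φ => haffE' φ) k x₁ x₂ h12 hπ
  -- descend to the stage `l`
  let xl : (AlgSp.yon S).obj (cd.E.obj l) ⟶ X := (AlgSp.yon S).map (cd.E.map ψ) ≫ xk
  have hcoeq : (AlgSp.yon S).map (s.app l) ≫ xl = (AlgSp.yon S).map (t.app l) ≫ xl := by
    show (AlgSp.yon S).map (s.app l) ≫ (AlgSp.yon S).map (cd.E.map ψ) ≫ xk =
      (AlgSp.yon S).map (t.app l) ≫ (AlgSp.yon S).map (cd.E.map ψ) ≫ xk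
    rw [← Category.assoc, ← Functor.map_comp, ← s.naturality ψ, ← Category.assoc ((AlgSp.yon S).map _),
      ← Functor.map_comp, ← t.naturality ψ, Functor.map_comp, Category.assoc, Functor.map_comp,
      Category.assoc]
    exact hψ
  haveI : Epi (cd.pj l) :=
    Groth.Agent.S9927.epi_of_repWith _ (cd.repWith_etale_pj l) (cd.repWith_surjective_pj l)
  obtain ⟨m, hm⟩ := exists_desc_of_kernelPair (cd.pj l) (s.app l) (t.app l) (hker l) xl hcoeq
  have hl : ψ.left ≫ φ.left = l.hom := by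
    have h1 := Over.w ψ
    have h2 : φ.left = k.hom := by
      have := Over.w φ
      simpa [k₀] using this
    rw [h2, h1]
  refine ⟨l.left, l.hom, m, ?_, ?_⟩
  · rw [← cancel_epi (cd.pj l), ← Category.assoc, hm]
    show ((AlgSp.yon S).map (cd.E.map ψ) ≫ xk) ≫ f = _
    rw [Category.assoc, hxk2', ← Category.assoc, cd.hE2 ψ, Category.assoc, ← Category.assoc (D.map _),
      ← D.map_comp, hl]
  · haveI : Epi cd.fstW :=
      Groth.Agent.S9927.epi_of_repWith _ cd.repWith_etale_fstW cd.repWith_surjective_fstW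
    rw [← cancel_epi cd.fstW, ← Category.assoc, cd.hfst l, Category.assoc, hm]
    show (AlgSp.yon S).map (cd.cW.π.app l) ≫ (AlgSp.yon S).map (cd.E.map ψ) ≫ xk = _
    rw [← Category.assoc, ← Functor.map_comp, cd.cW.w, hxk1]

end

attribute [local instance] IsCofiltered.isConnected in
/-- **a morphism of algebraic spaces is locally of finite presentation iff it is limit preserving
on limits of quasi-compact and quasi-separated algebraic spaces with affine transition maps**. -/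
theorem locP_lfp_iff_qcqs [QuasiSeparatedSpace S] {X Y : AlgSp.Space S} (f : X ⟶ Y) :
    AlgSp.LocP @LocallyOfFinitePresentation f.hom ↔
      ∀ ⦃I : Type u⦄ [SmallCategory I] [IsCofiltered I] (D : I ⥤ AlgSp.Sp S),
        (∀ i, AlgSp.IsAlgSpace (D.obj i)) → (∀ (i j : I) (φ : i ⟶ j), AlgSp.IsAffineMor (D.map φ)) →
        (∀ i, AlgSp.IsQuasiCompactSp (D.obj i)) → (∀ i, AlgSp.IsQuasiSeparatedSp (D.obj i)) →
        ∀ (c : Cone D) (_ : IsLimit c),
          IsPullback (colimMap (Functor.whiskerLeft D.op (yoneda.map f.hom)))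
            (colimit.desc (D.op ⋙ yoneda.obj X.obj) ((yoneda.obj X.obj).mapCocone c.op))
            (colimit.desc (D.op ⋙ yoneda.obj Y.obj) ((yoneda.obj Y.obj).mapCocone c.op))
            ((yoneda.map f.hom).app (Opposite.op c.pt)) := by
  constructor
  · intro hf I _ _ D hD hDa hqc hqs c hc
    have hsurj : SurjLim f.hom := surjLim_of_locP_lfp f hf
    have hinj : InjLim f.hom := injLim_of_locP_lft f (fun U V a b h ha hb e => by
      haveI : LocallyOfFinitePresentation h.left := hf a b h ha hb e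
      exact (inferInstance : LocallyOfFiniteType h.left))
    rw [Groth.Agent.S10067.isPullback_colim_iff]
    swap
    · intro j x
      exact Category.assoc (c.π.app j.unop) x f.hom
    constructor
    · rintro ⟨i⟩ y x hx
      obtain ⟨k, φ, x', h1, h2⟩ := surj_spaces D hD hDa hqc hqs c hc f.hom hsurj hinj i y x hx
      exact ⟨op k, φ.op, x', h1, h2⟩
    · rintro ⟨i⟩ x x' h12 hπ
      obtain ⟨k, φ, hφ⟩ := inj_spaces D hD hDa hqc c hc f.hom hinj i x x' h12 hπ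
      exact ⟨op k, φ.op, hφ⟩
  · intro h
    refine locP_lfp_of_surjLim f.hom ?_
    intro I _ _ D₀ c₀ hc₀ hD₀ hpt x i y hxy
    have hlim : IsLimit ((AlgSp.yon S).mapCone c₀) :=
      isLimitOfPreserves (AlgSp.yon S) (isLimitOfReflects (Over.forget S) hc₀)
    have hp := h (D₀ ⋙ AlgSp.yon S) (fun i => AlgSp.IsAlgSpace.yon_obj _)
      (fun i j φ => by
        haveI := hD₀ i
        haveI := hD₀ j
        haveI : IsAffineHom (D₀.map φ).left := inferInstance
        exact Groth.Agent.Lib.T2H1.Gpd2.isAffineMor_yon_map (D₀.map φ))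
      (fun i => Groth.Agent.Lib.Helper15QcRep.isQuasiCompactSp_yon _ (hD₀ i))
      (fun i => Groth.Agent.Lib.T2H7.LimDescA.isQuasiSeparatedSp_yon _ (hD₀ i))
      ((AlgSp.yon S).mapCone c₀) hlim
    rw [Groth.Agent.S10067.isPullback_colim_iff] at hp
    swap
    · intro j x
      exact Category.assoc ((AlgSp.yon S).map (c₀.π.app j.unop)) x f.hom
    obtain ⟨k, φ, x', h1, h2⟩ := hp.1 (op i) y x hxy
    exact ⟨k.unop, φ.unop, x', h2, h1⟩

end Groth.Agent.Lib.T2H7.LfpLimE
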