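import Mathlib
import Groth.Prelude.Def_W4c1bouilletffgsL3
import Groth.Agent.Lib.Helper5RLR
import Groth.Agent.Lib.Helper5RLR2
import Groth.Agent.Lib.Helper6SmReg
import Groth.Agent.Lib.Helper28FGDim

/-!
# A smooth rational point of the moduli space of based three-dimensional Lie algebras
(helper7, team 2)

General part: for a rational point `pt` of affine `n`-space over a field `k` with maximal ideal `m`,
polynomials vanishing at `pt` with linearly independent gradients at `pt` are linearly independent
in the cotangent space of the local ring at `m`; hence the quotient of that local ring by them is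
regular of dimension `n - r`.

Special part: the point `(0,1,0,0,0,t,0,0,0)` of `Spec (D / J)`.
-/

set_option autoImplicit false
universe u

namespace Groth.Agent.Lib.T2H7.Lie3Pt

open MvPolynomial IsLocalRing

section Point

variable {k : Type u} [Field k] {n : ℕ} (pt : Fin n → k)

/-- The `j`-th partial derivative at the point. -/
noncomputable def dAt (j : Fin n) (f : MvPolynomial (Fin n) k) : k := eval pt (pderiv j f)

theorem dAt_mul (j : Fin n) (f g : MvPolynomial (Fin n) k) :
    dAt pt j (f * g) = eval pt f * dAt pt j g + eval pt g * dAt pt j f := by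
  unfold dAt
  rw [Derivation.leibniz, map_add, smul_eq_mul, smul_eq_mul, map_mul, map_mul]

theorem dAt_add (j : Fin n) (f g : MvPolynomial (Fin n) k) :
    dAt pt j (f + g) = dAt pt j f + dAt pt j g := by
  unfold dAt
  rw [map_add, map_add]

theorem dAt_zero (j : Fin n) : dAt pt j (0 : MvPolynomial (Fin n) k) = 0 := by
  unfold dAt
  rw [map_zero, map_zero]

theorem dAt_sum {ι : Type*} (s : Finset ι) (j : Fin n) (f : ι → MvPolynomial (Fin n) k) :
    dAt pt j (∑ i ∈ s, f i) = ∑ i ∈ s, dAt pt j (f i) := by
  unfold dAt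
  rw [map_sum, map_sum]

theorem dAt_C_mul (j : Fin n) (c : k) (f : MvPolynomial (Fin n) k) :
    dAt pt j (C c * f) = c * dAt pt j f := by
  rw [dAt_mul]
  unfold dAt
  rw [pderiv_C, map_zero, mul_zero, add_zero, eval_C]

variable (m : Ideal (MvPolynomial (Fin n) k)) (hmem : ∀ f, f ∈ m ↔ eval pt f = 0)

include hmem in
theorem dAt_eq_zero_of_mem_sq (j : Fin n) {y : MvPolynomial (Fin n) k} (hy : y ∈ m ^ 2) :
    dAt pt j y = 0 := by
  rw [pow_two] at hy
  refine Submodule.mul_induction_on hy ?_ ?_
  · intro a ha b hb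
    rw [dAt_mul, (hmem a).mp ha, (hmem b).mp hb, zero_mul, zero_mul, add_zero]
  · intro x y hx hy
    rw [dAt_add, hx, hy, add_zero]

variable [hm : m.IsPrime]

theorem algebraMap_mem_maximalIdeal {f : MvPolynomial (Fin n) k} (hf : f ∈ m) :
    algebraMap (MvPolynomial (Fin n) k) (Localization.AtPrime m) f ∈
      maximalIdeal (Localization.AtPrime m) := by
  rw [← Localization.AtPrime.map_eq_maximalIdeal]
  exact Ideal.mem_map_of_mem _ hf

include hmem in
theorem exists_residue_eq (c : ResidueField (Localization.AtPrime m)) :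
    ∃ ν : k, c = residue (Localization.AtPrime m)
      (algebraMap (MvPolynomial (Fin n) k) (Localization.AtPrime m) (C ν)) := by
  obtain ⟨ρ, rfl⟩ := residue_surjective c
  obtain ⟨a, s, rfl⟩ := IsLocalization.exists_mk'_eq m.primeCompl ρ
  have hs : eval pt (s : MvPolynomial (Fin n) k) ≠ 0 := fun h => s.2 ((hmem _).mpr h)
  refine ⟨eval pt a / eval pt (s : MvPolynomial (Fin n) k), ?_⟩
  rw [← sub_eq_zero, ← map_sub, IsLocalRing.residue_eq_zero_iff]
  have hu : IsUnit (algebraMap (MvPolynomial (Fin n) k) (Localization.AtPrime m) s) :=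
    IsLocalization.map_units _ s
  rw [← Ideal.unit_mul_mem_iff_mem _ hu, mul_sub, IsLocalization.mk'_spec', ← map_mul, ← map_sub]
  apply algebraMap_mem_maximalIdeal
  rw [hmem, map_sub, map_mul, eval_C]
  field_simp
  ring

include hmem in
/-- Polynomials vanishing at the point with independent gradients are independent in the cotangent
space of the local ring. -/
theorem linearIndependent_toCotangent {r : ℕ} (f : Fin r → MvPolynomial (Fin n) k)
    (hf : ∀ i, f i ∈ m) (hgrad : LinearIndependent k (fun i => fun j => dAt pt j (f i))) :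
    LinearIndependent (ResidueField (Localization.AtPrime m))
      (fun i => (maximalIdeal (Localization.AtPrime m)).toCotangent
        ⟨algebraMap (MvPolynomial (Fin n) k) (Localization.AtPrime m) (f i),
          algebraMap_mem_maximalIdeal m (hf i)⟩) := by
  classical
  rw [Fintype.linearIndependent_iff]
  intro c hc
  choose ν hν using fun i => exists_residue_eq pt m hmem (c i)
  set w : MvPolynomial (Fin n) k := ∑ i, C (ν i) * f i with hw
  have hwm : w ∈ m := m.sum_mem (fun i _ => m.mul_mem_left _ (hf i))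
  have h1 : ∑ i, c i • (maximalIdeal (Localization.AtPrime m)).toCotangent
        ⟨algebraMap (MvPolynomial (Fin n) k) (Localization.AtPrime m) (f i),
          algebraMap_mem_maximalIdeal m (hf i)⟩ =
      (maximalIdeal (Localization.AtPrime m)).toCotangent
        ⟨algebraMap (MvPolynomial (Fin n) k) (Localization.AtPrime m) w,
          algebraMap_mem_maximalIdeal m hwm⟩ := by
    have h2 : (⟨algebraMap (MvPolynomial (Fin n) k) (Localization.AtPrime m) w,
        algebraMap_mem_maximalIdeal m hwm⟩ : maximalIdeal (Localization.AtPrime m)) =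
        ∑ i, (algebraMap (MvPolynomial (Fin n) k) (Localization.AtPrime m) (C (ν i))) •
          (⟨algebraMap (MvPolynomial (Fin n) k) (Localization.AtPrime m) (f i),
            algebraMap_mem_maximalIdeal m (hf i)⟩ : maximalIdeal (Localization.AtPrime m)) := by
      apply Subtype.ext
      show algebraMap (MvPolynomial (Fin n) k) (Localization.AtPrime m) w = _
      rw [hw, map_sum]
      simp only [map_mul, AddSubmonoidClass.coe_finsetSum, SetLike.val_smul, smul_eq_mul]
    rw [h2, map_sum]
    refine Finset.sum_congr rfl (fun i _ => ?_)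
    rw [map_smul, hν i]
    rfl
  rw [h1, Ideal.toCotangent_eq_zero] at hc
  have hc' : algebraMap (MvPolynomial (Fin n) k) (Localization.AtPrime m) w ∈
      maximalIdeal (Localization.AtPrime m) ^ 2 := hc
  rw [← Localization.AtPrime.map_eq_maximalIdeal, ← Ideal.map_pow,
    IsLocalization.mem_map_algebraMap_iff m.primeCompl] at hc'
  obtain ⟨⟨⟨y, hy⟩, ⟨u, hu⟩⟩, h3⟩ := hc'
  simp only at h3
  rw [← map_mul] at h3
  have hinj : Function.Injective
      (algebraMap (MvPolynomial (Fin n) k) (Localization.AtPrime m)) :=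
    IsLocalization.injective _ (Ideal.primeCompl_le_nonZeroDivisors m)
  have h4 : w * u = y := hinj h3
  have hu0 : eval pt u ≠ 0 := fun h => hu ((hmem _).mpr h)
  have h5 : ∀ j, dAt pt j w = 0 := by
    intro j
    have := dAt_eq_zero_of_mem_sq pt m hmem j hy
    rw [← h4, dAt_mul, (hmem w).mp hwm, zero_mul, zero_add] at this
    exact (mul_eq_zero.mp this).resolve_left hu0
  have h6 : ∑ i, ν i • (fun j => dAt pt j (f i)) = 0 := by
    funext j
    have := h5 j
    rw [hw, dAt_sum] at this
    simp only [dAt_C_mul] at this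
    simp only [Finset.sum_apply, Pi.smul_apply, smul_eq_mul, Pi.zero_apply]
    exact this
  intro i
  have := Fintype.linearIndependent_iff.mp hgrad ν h6 i
  rw [hν i, this, map_zero, map_zero, map_zero]

end Point

section Regular

variable {k : Type u} [Field k] {n : ℕ} (pt : Fin n → k)
variable (m : Ideal (MvPolynomial (Fin n) k)) (hmem : ∀ f, f ∈ m ↔ eval pt f = 0)

include hmem in
theorem isMaximal_of_hmem : m.IsMaximal := by
  have h : m = RingHom.ker (eval pt : MvPolynomial (Fin n) k →+* k) := by
    ext f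
    rw [hmem, RingHom.mem_ker]
  rw [h]
  exact RingHom.ker_isMaximal_of_surjective _ (fun a => ⟨C a, eval_C a⟩)

variable [hm : m.IsPrime]

include hmem in
/-- The quotient of the local ring at a rational point by polynomials with independent gradients is
regular of the expected dimension. -/
theorem regular_quotient {r : ℕ} (f : Fin r → MvPolynomial (Fin n) k)
    (hf : ∀ i, f i ∈ m) (hgrad : LinearIndependent k (fun i => fun j => dAt pt j (f i)))
    (I : Ideal (MvPolynomial (Fin n) k))
    (hI : I.map (algebraMap (MvPolynomial (Fin n) k) (Localization.AtPrime m)) =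
      Ideal.span (Set.range fun i =>
        algebraMap (MvPolynomial (Fin n) k) (Localization.AtPrime m) (f i))) :
    IsRegularLocalRing (Localization.AtPrime m ⧸
        I.map (algebraMap (MvPolynomial (Fin n) k) (Localization.AtPrime m))) ∧
      ringKrullDim (Localization.AtPrime m ⧸
        I.map (algebraMap (MvPolynomial (Fin n) k) (Localization.AtPrime m))) + r = n := by
  have hmax : m.IsMaximal := isMaximal_of_hmem pt m hmem
  have hsm : Algebra.IsSmoothAt k m := inferInstance
  have hR : IsRegularLocalRing (Localization.AtPrime m) :=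
    Groth.Agent.Lib.Helper6.SmReg.isRegularLocalRing_of_isSmoothAt (R := k)
      (S := MvPolynomial (Fin n) k) m
  have hdim : ringKrullDim (Localization.AtPrime m) = n := by
    rw [IsLocalization.AtPrime.ringKrullDim_eq_height m (Localization.AtPrime m),
      Groth.Agent.Lib.Helper28.height_eq_of_isMaximal_mvPolynomial_fin k n m hmax]
    rfl
  set x : Fin r → maximalIdeal (Localization.AtPrime m) := fun i =>
    ⟨algebraMap (MvPolynomial (Fin n) k) (Localization.AtPrime m) (f i),
      algebraMap_mem_maximalIdeal m (hf i)⟩ with hx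
  have hli := linearIndependent_toCotangent pt m hmem f hf hgrad
  have hJ : I.map (algebraMap (MvPolynomial (Fin n) k) (Localization.AtPrime m)) =
      Ideal.span (Set.range fun i => (x i : Localization.AtPrime m)) := hI
  have hne : I.map (algebraMap (MvPolynomial (Fin n) k) (Localization.AtPrime m)) ≠ ⊤ := by
    intro h
    have hle : I.map (algebraMap (MvPolynomial (Fin n) k) (Localization.AtPrime m)) ≤
        maximalIdeal (Localization.AtPrime m) := by
      rw [hJ, Ideal.span_le]
      rintro _ ⟨i, rfl⟩
      exact (x i).2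
    rw [h] at hle
    exact (IsLocalRing.maximalIdeal.isMaximal (Localization.AtPrime m)).ne_top (top_le_iff.mp hle)
  have hloc : IsLocalRing (Localization.AtPrime m ⧸
      I.map (algebraMap (MvPolynomial (Fin n) k) (Localization.AtPrime m))) :=
    Groth.Agent.Lib.Helper5.isLocalRing_quotient hne
  have := Groth.Agent.Lib.Helper5.isRegularLocalRing_quotient_of_linearIndependent' x hli _ hJ
  rw [hdim] at this
  exact this

end Regular

section LocQuot

/-- The localization of `R/I` at a prime `q` is `R_p / I R_p`, `p` the preimage of `q`. -/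
theorem nonempty_ringEquiv_localization_quotient {R : Type u} [CommRing R] (I : Ideal R)
    (q : Ideal (R ⧸ I)) [q.IsPrime] :
    Nonempty (Localization.AtPrime q ≃+*
      (Localization.AtPrime (q.comap (Ideal.Quotient.mk I)) ⧸
        I.map (algebraMap R (Localization.AtPrime (q.comap (Ideal.Quotient.mk I)))))) := by
  have hM : Algebra.algebraMapSubmonoid (R ⧸ I) (q.comap (Ideal.Quotient.mk I)).primeCompl =
      q.primeCompl := by
    ext y
    constructor
    · rintro ⟨x, hx, rfl⟩
      exact hx
    · intro hy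
      obtain ⟨x, rfl⟩ := Ideal.Quotient.mk_surjective y
      exact ⟨x, hy, rfl⟩
  have hloc : IsLocalization (Algebra.algebraMapSubmonoid (R ⧸ I)
      (q.comap (Ideal.Quotient.mk I)).primeCompl)
      (Localization.AtPrime (q.comap (Ideal.Quotient.mk I)) ⧸
        I.map (algebraMap R (Localization.AtPrime (q.comap (Ideal.Quotient.mk I))))) :=
    inferInstance
  rw [hM] at hloc
  exact ⟨(IsLocalization.algEquiv q.primeCompl (Localization.AtPrime q)
      (Localization.AtPrime (q.comap (Ideal.Quotient.mk I)) ⧸
        I.map (algebraMap R (Localization.AtPrime (q.comap (Ideal.Quotient.mk I)))))).toRingEquiv⟩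

end LocQuot

section EvalKer

variable {k : Type u} [CommRing k] {σ : Type*} (pt : σ → k)

/-- `f - f(pt)` lies in the ideal generated by the `X j - pt j`. -/
theorem sub_C_eval_mem (f : MvPolynomial σ k) :
    f - C (eval pt f) ∈ Ideal.span (Set.range fun j : σ => (X j - C (pt j) : MvPolynomial σ k)) := by
  induction f using MvPolynomial.induction_on with
  | C a => rw [eval_C, sub_self]; exact zero_mem _
  | add p q hp hq =>
    rw [map_add, map_add]
    have : p + q - (C (eval pt p) + C (eval pt q)) =
        (p - C (eval pt p)) + (q - C (eval pt q)) := by ring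
    rw [this]
    exact add_mem hp hq
  | mul_X p j hp =>
    rw [map_mul, eval_X, map_mul]
    have : p * X j - C (eval pt p) * C (pt j) =
        (p - C (eval pt p)) * X j + C (eval pt p) * (X j - C (pt j)) := by ring
    rw [this]
    exact add_mem (Ideal.mul_mem_right _ _ hp)
      (Ideal.mul_mem_left _ _ (Ideal.subset_span ⟨j, rfl⟩))

end EvalKer

section Lie3

open Lie3Mod

variable (k : Type u) [Field k] (t : k)

/-- The point `(0,1,0,0,0,t,0,0,0)`. -/
def pt : Fin 9 → k := ![0, 1, 0, 0, 0, t, 0, 0, 0]

theorem eval_Q1 : eval (pt k t) (Q1 k) = 0 := by simp [Q1, pt]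
theorem eval_Q2 : eval (pt k t) (Q2 k) = 0 := by simp [Q2, pt]
theorem eval_Q3 : eval (pt k t) (Q3 k) = 0 := by simp [Q3, pt]
theorem eval_detM : eval (pt k t) (detM k) = 0 := by simp [detM, pt]

/-- The second row of `adj M · Q = det M · L`. -/
theorem adj_relation :
    (X 4 * X 2 - X 1 * X 5) * Q1 k + (X 7 * X 2 + X 5 * X 8) * Q2 k -
      (X 7 * X 1 + X 4 * X 8) * Q3 k = detM k * L2 k := by
  simp only [Q1, Q2, Q3, detM, L2]
  ring

variable (m : Ideal (MvPolynomial (Fin 9) k)) (hmem : ∀ f, f ∈ m ↔ eval (pt k t) f = 0)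

include hmem in
theorem gens_mem : Q1 k ∈ m ∧ Q2 k ∈ m ∧ Q3 k ∈ m ∧ detM k ∈ m :=
  ⟨(hmem _).mpr (eval_Q1 k t), (hmem _).mpr (eval_Q2 k t), (hmem _).mpr (eval_Q3 k t),
    (hmem _).mpr (eval_detM k t)⟩

theorem grad_caseA (ht : t ≠ -1) :
    LinearIndependent k (fun i : Fin 3 => fun j => dAt (pt k t) j (![Q1 k, Q2 k, Q3 k] i)) := by
  rw [Fintype.linearIndependent_iff]
  intro g hg
  have h6 := congrFun hg 6
  have h3 := congrFun hg 3
  have h8 := congrFun hg 8
  simp [Fin.sum_univ_three, dAt, Q1, Q2, Q3, pt, pderiv_X] at h6 h3 h8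
  have ht' : 1 + t ≠ 0 := by
    intro h
    apply ht
    linear_combination h
  have hg0 : g 0 = 0 := by
    rcases h6 with h | h
    · exact h
    · exfalso
      apply ht'
      linear_combination -h
  intro i
  fin_cases i
  · exact hg0
  · simpa using h3
  · simpa using h8

theorem grad_caseB (ht : t ≠ 0) :
    LinearIndependent k (fun i : Fin 3 => fun j => dAt (pt k t) j (![Q2 k, Q3 k, detM k] i)) := by
  rw [Fintype.linearIndependent_iff]
  intro g hg
  have h6 := congrFun hg 6
  have h3 := congrFun hg 3
  have h8 := congrFun hg 8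
  simp [Fin.sum_univ_three, dAt, Q2, Q3, detM, pt, pderiv_X] at h6 h3 h8
  intro i
  fin_cases i
  · simpa using h3
  · simpa using h8
  · simpa [ht] using h6

end Lie3

section Lie3Main

open Lie3Mod

variable (k : Type u) [Field k] (t : k)
variable (m : Ideal (MvPolynomial (Fin 9) k)) (hmem : ∀ f, f ∈ m ↔ eval (pt k t) f = 0)
variable [hm : m.IsPrime]

include hmem in
theorem map_idJ_caseA (ht : t ≠ -1) :
    (idJ k).map (algebraMap (MvPolynomial (Fin 9) k) (Localization.AtPrime m)) =
      Ideal.span (Set.range fun i : Fin 3 =>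
        algebraMap (MvPolynomial (Fin 9) k) (Localization.AtPrime m) (![Q1 k, Q2 k, Q3 k] i)) := by
  have hL2 : L2 k ∉ m := by
    rw [hmem]
    simp only [L2, pt, map_add, eval_X]
    intro h
    apply ht
    simp at h
    linear_combination h
  have hu : IsUnit (algebraMap (MvPolynomial (Fin 9) k) (Localization.AtPrime m) (L2 k)) :=
    IsLocalization.map_units (Localization.AtPrime m) (⟨L2 k, hL2⟩ : m.primeCompl)
  unfold idJ
  rw [Ideal.map_span]
  apply le_antisymm
  · rw [Ideal.span_le]
    rintro _ ⟨x, hx, rfl⟩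
    simp only [Set.mem_insert_iff, Set.mem_singleton_iff] at hx
    rcases hx with rfl | rfl | rfl | rfl
    · exact Ideal.subset_span ⟨0, rfl⟩
    · exact Ideal.subset_span ⟨1, rfl⟩
    · exact Ideal.subset_span ⟨2, rfl⟩
    · rw [SetLike.mem_coe, ← Ideal.unit_mul_mem_iff_mem _ hu, ← map_mul, mul_comm,
        ← adj_relation, map_sub, map_add, map_mul, map_mul, map_mul]
      exact Ideal.sub_mem _ (Ideal.add_mem _
        (Ideal.mul_mem_left _ _ (Ideal.subset_span ⟨0, rfl⟩))
        (Ideal.mul_mem_left _ _ (Ideal.subset_span ⟨1, rfl⟩)))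
        (Ideal.mul_mem_left _ _ (Ideal.subset_span ⟨2, rfl⟩))
  · rw [Ideal.span_le]
    rintro _ ⟨i, rfl⟩
    apply Ideal.subset_span
    fin_cases i
    · exact ⟨Q1 k, by simp, rfl⟩
    · exact ⟨Q2 k, by simp, rfl⟩
    · exact ⟨Q3 k, by simp, rfl⟩

include hmem in
theorem map_idJ_caseB (ht : t ≠ 0) :
    (idJ k).map (algebraMap (MvPolynomial (Fin 9) k) (Localization.AtPrime m)) =
      Ideal.span (Set.range fun i : Fin 3 =>
        algebraMap (MvPolynomial (Fin 9) k) (Localization.AtPrime m)
          (![Q2 k, Q3 k, detM k] i)) := by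
  have hU : (X 4 * X 2 - X 1 * X 5 : MvPolynomial (Fin 9) k) ∉ m := by
    rw [hmem]
    simp [pt, ht]
  have hu : IsUnit (algebraMap (MvPolynomial (Fin 9) k) (Localization.AtPrime m)
      (X 4 * X 2 - X 1 * X 5)) :=
    IsLocalization.map_units (Localization.AtPrime m)
      (⟨X 4 * X 2 - X 1 * X 5, hU⟩ : m.primeCompl)
  have hrel : (X 4 * X 2 - X 1 * X 5) * Q1 k =
      L2 k * detM k - (X 7 * X 2 + X 5 * X 8) * Q2 k + (X 7 * X 1 + X 4 * X 8) * Q3 k := by
    rw [mul_comm (L2 k), ← adj_relation]
    ring
  unfold idJ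
  rw [Ideal.map_span]
  apply le_antisymm
  · rw [Ideal.span_le]
    rintro _ ⟨x, hx, rfl⟩
    simp only [Set.mem_insert_iff, Set.mem_singleton_iff] at hx
    rcases hx with rfl | rfl | rfl | rfl
    · rw [SetLike.mem_coe, ← Ideal.unit_mul_mem_iff_mem _ hu, ← map_mul, hrel, map_add, map_sub,
        map_mul, map_mul, map_mul]
      exact Ideal.add_mem _ (Ideal.sub_mem _
        (Ideal.mul_mem_left _ _ (Ideal.subset_span ⟨2, rfl⟩))
        (Ideal.mul_mem_left _ _ (Ideal.subset_span ⟨0, rfl⟩)))
        (Ideal.mul_mem_left _ _ (Ideal.subset_span ⟨1, rfl⟩))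
    · exact Ideal.subset_span ⟨0, rfl⟩
    · exact Ideal.subset_span ⟨1, rfl⟩
    · exact Ideal.subset_span ⟨2, rfl⟩
  · rw [Ideal.span_le]
    rintro _ ⟨i, rfl⟩
    apply Ideal.subset_span
    fin_cases i
    · exact ⟨Q2 k, by simp, rfl⟩
    · exact ⟨Q3 k, by simp, rfl⟩
    · exact ⟨detM k, by simp, rfl⟩

include hmem in
/-- The local ring of `D / J` at the point is regular of dimension six (quotient form). -/
theorem regular_quotient_idJ :
    IsRegularLocalRing (Localization.AtPrime m ⧸
        (idJ k).map (algebraMap (MvPolynomial (Fin 9) k) (Localization.AtPrime m))) ∧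
      ringKrullDim (Localization.AtPrime m ⧸
        (idJ k).map (algebraMap (MvPolynomial (Fin 9) k) (Localization.AtPrime m))) + (3 : ℕ) =
          (9 : ℕ) := by
  obtain ⟨h1, h2, h3, h4⟩ := gens_mem k t m hmem
  by_cases ht : t = -1
  · have ht0 : t ≠ 0 := by
      rw [ht]
      exact neg_ne_zero.mpr one_ne_zero
    refine regular_quotient (pt k t) m hmem ![Q2 k, Q3 k, detM k] ?_ (grad_caseB k t ht0) (idJ k)
      (map_idJ_caseB k t m hmem ht0)
    intro i
    fin_cases i
    · exact h2
    · exact h3
    · exact h4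
  · refine regular_quotient (pt k t) m hmem ![Q1 k, Q2 k, Q3 k] ?_ (grad_caseA k t ht) (idJ k)
      (map_idJ_caseA k t m hmem ht)
    intro i
    fin_cases i
    · exact h1
    · exact h2
    · exact h3

end Lie3Main

section Final

open Lie3Mod

variable (k : Type u) [Field k] (t : k)

theorem X_sub_C_mem (j : Fin 9) :
    (X j - C (pt k t j) : MvPolynomial (Fin 9) k) ∈
      Ideal.span ({X 0, X 1 - 1, X 2, X 3, X 4, X 5 - C t, X 6, X 7, X 8} :
        Set (MvPolynomial (Fin 9) k)) := by
  apply Ideal.subset_span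
  fin_cases j <;> simp [pt]

theorem main (P : Ideal (D k ⧸ idJ k)) [P.IsPrime]
    (hP : P = Ideal.map (Ideal.Quotient.mk (idJ k))
      (Ideal.span ({X 0, X 1 - 1, X 2, X 3, X 4, X 5 - C t, X 6, X 7, X 8} : Set (D k)))) :
    IsRegularLocalRing (Localization.AtPrime P) ∧ ringKrullDim (Localization.AtPrime P) = 6 := by
  set m0 : Ideal (D k) :=
    Ideal.span ({X 0, X 1 - 1, X 2, X 3, X 4, X 5 - C t, X 6, X 7, X 8} : Set (D k)) with hm0
  set m : Ideal (D k) := P.comap (Ideal.Quotient.mk (idJ k)) with hmdef
  have hm : m.IsPrime := Ideal.comap_isPrime _ _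
  have hm0K : ∀ f ∈ m0, eval (pt k t) f = 0 := by
    intro f hf
    have hle : m0 ≤ RingHom.ker (eval (pt k t) : D k →+* k) := by
      rw [hm0, Ideal.span_le]
      intro x hx
      simp only [Set.mem_insert_iff, Set.mem_singleton_iff] at hx
      rw [SetLike.mem_coe, RingHom.mem_ker]
      rcases hx with rfl | rfl | rfl | rfl | rfl | rfl | rfl | rfl | rfl <;> simp [pt]
    exact (RingHom.mem_ker).mp (hle hf)
  have hJK : ∀ f ∈ idJ k, eval (pt k t) f = 0 := by
    intro f hf
    have hle : idJ k ≤ RingHom.ker (eval (pt k t) : D k →+* k) := by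
      unfold idJ
      rw [Ideal.span_le]
      intro x hx
      simp only [Set.mem_insert_iff, Set.mem_singleton_iff] at hx
      rw [SetLike.mem_coe, RingHom.mem_ker]
      rcases hx with rfl | rfl | rfl | rfl
      · exact eval_Q1 k t
      · exact eval_Q2 k t
      · exact eval_Q3 k t
      · exact eval_detM k t
    exact (RingHom.mem_ker).mp (hle hf)
  have hmem : ∀ f, f ∈ m ↔ eval (pt k t) f = 0 := by
    intro f
    rw [hmdef, Ideal.mem_comap, hP, ← Ideal.mem_comap,
      Ideal.comap_map_of_surjective _ Ideal.Quotient.mk_surjective, ← RingHom.ker_eq_comap_bot,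
      Ideal.mk_ker]
    constructor
    · intro hf
      obtain ⟨a, ha, b, hb, rfl⟩ := Submodule.mem_sup.mp hf
      rw [map_add, hm0K a ha, hJK b hb, add_zero]
    · intro hf
      apply Ideal.mem_sup_left
      have h1 := sub_C_eval_mem (pt k t) f
      rw [hf, map_zero, sub_zero] at h1
      have hle : Ideal.span (Set.range fun j : Fin 9 => (X j - C (pt k t j) : D k)) ≤ m0 := by
        rw [Ideal.span_le]
        rintro _ ⟨j, rfl⟩
        exact X_sub_C_mem k t j
      exact hle h1
  obtain ⟨hreg, hdim⟩ := regular_quotient_idJ k t m hmem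
  obtain ⟨e⟩ := nonempty_ringEquiv_localization_quotient (idJ k) P
  have hregP : IsRegularLocalRing (Localization.AtPrime P) :=
    IsRegularLocalRing.of_ringEquiv e.symm
  refine ⟨hregP, ?_⟩
  rw [ringKrullDim_eq_of_ringEquiv e]
  obtain ⟨d, hd⟩ := Groth.Agent.Lib.Helper5.exists_nat_ringKrullDim_eq
    (Localization.AtPrime m ⧸
      (idJ k).map (algebraMap (MvPolynomial (Fin 9) k) (Localization.AtPrime m)))
  rw [hd] at hdim ⊢
  have : d + 3 = 9 := by exact_mod_cast hdim
  have hd6 : d = 6 := by omega
  rw [hd6]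
  rfl

end Final

end Groth.Agent.Lib.T2H7.Lie3Pt
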