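import Mathlib
import Groth.Agent.Lib.T2H1LimAffine2
import Groth.Agent.S10448
import Groth.Agent.S10175
import Groth.Agent.S10176

/-!
# The topology of the space of points of a cofiltered limit of algebraic spaces with affine
transition maps is induced from the stages (helper7)
-/

set_option autoImplicit false
set_option linter.unusedSectionVars false
set_option linter.unusedVariables false
set_option linter.style.haveILetI false
universe u
open CategoryTheory CategoryTheory.Limits AlgebraicGeometry Topology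
open AlgSp

namespace Groth.Agent.Lib.T2H7.LimTop

variable {S : Scheme.{u}}

section

variable {I : Type u} [SmallCategory I] [IsCofiltered I] (D : I ⥤ AlgSp.Sp S)
  (hD : ∀ i, AlgSp.IsAlgSpace (D.obj i))
  (hDa : ∀ (i j : I) (φ : i ⟶ j), AlgSp.IsAffineMor (D.map φ))
  (c : Cone D) (hc : IsLimit c)

include hD hDa hc in
/-- every open neighbourhood of a point of the limit contains the preimage of an open
neighbourhood of its image in some stage. -/
theorem exists_open_stage (W : Set (AlgSp.Points c.pt)) (hW : IsOpen W)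
    (x : AlgSp.Points c.pt) (hx : x ∈ W) :
    ∃ (k : I) (Wk : Set (AlgSp.Points (D.obj k))), IsOpen Wk ∧
      AlgSp.Points.map (c.π.app k) x ∈ Wk ∧ AlgSp.Points.map (c.π.app k) ⁻¹' Wk ⊆ W := by
  obtain ⟨i₀⟩ := IsCofiltered.nonempty (C := I)
  obtain ⟨V, b, v, hb, hV, hv⟩ := Groth.Agent.S10448.exists_affine_etale_nbhd
    (⟨D.obj i₀, hD i₀⟩ : AlgSp.Space S) (AlgSp.Points.map (c.π.app i₀) x)
  obtain ⟨E, ιj, pj, cW, fstW, sqj, haffj, ⟨hlim⟩, haffW, sqW, hcompat, hE1, hE2⟩ :=
    Groth.Agent.Lib.T2H1.LimAffine.exists_limit_data D hDa c hc i₀ hV b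
  let j0 : Over i₀ := Over.mk (𝟙 i₀)
  -- the stage squares
  have hπι : ∀ j : Over i₀, cW.π.app j ≫ ιj j = cW.π.app j0 ≫ ιj j0 := by
    intro j
    let tj : j ⟶ j0 := Over.homMk j.hom
    rw [← hE1 tj, ← Category.assoc, cW.w]
  have sqS : ∀ j : Over i₀, IsPullback fstW ((AlgSp.yon S).map (cW.π.app j))
      (c.π.app j.left) (pj j) := by
    intro j
    have hbig : IsPullback fstW ((AlgSp.yon S).map (cW.π.app j) ≫ (AlgSp.yon S).map (ιj j))
        (c.π.app j.left ≫ D.map j.hom) b := by
      rw [← Functor.map_comp, hπι j, c.w]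
      exact sqW
    exact IsPullback.of_bot hbig (hcompat j) (sqj j)
  -- a point of the chart of the limit over `x`
  obtain ⟨p, hp1, hp2⟩ := Groth.Agent.S10175.exists_point_of_isPullback sqW.flip
    (AlgSp.Points.ofScheme V v) x (by rw [← AlgSp.Points.ofPt_eq_map_ofScheme, hv])
  obtain ⟨w, rfl⟩ := (AlgSp.Points.schemeHomeo cW.pt).surjective p
  have hwx : AlgSp.Points.ofPt fstW w = x := by
    rw [AlgSp.Points.ofPt_eq_map_ofScheme]; exact hp2
  -- the open preimage in the chart
  let W' : cW.pt.left.Opens :=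
    ⟨AlgSp.Points.ofPt fstW ⁻¹' W, hW.preimage (AlgSp.Points.continuous_ofPt fstW)⟩
  have hwW' : w ∈ W' := by
    change AlgSp.Points.ofPt fstW w ∈ W
    rw [hwx]; exact hx
  haveI : ∀ j, IsAffine ((E ⋙ Over.forget S).obj j) := fun j => haffj j
  haveI : ∀ {j k : Over i₀} (f : j ⟶ k), IsAffineHom ((E ⋙ Over.forget S).map f) :=
    fun f => inferInstance
  obtain ⟨_, ⟨j, Vj, hVj, rfl⟩, hwVj, hVjW⟩ :=
    (TopologicalSpace.Opens.isBasis_iff_nbhd.1
      (isBasis_preimage_isAffineOpen (E ⋙ Over.forget S) ((Over.forget S).mapCone cW) hlim))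
      hwW'
  -- the open image in the stage
  have hpje : AlgSp.RepWith @Etale (pj j) :=
    MorphismProperty.of_isPullback (P := AlgSp.RepWith @Etale) (sqj j).flip hb
  refine ⟨j.left, AlgSp.Points.ofPt (pj j) '' Vj.carrier,
    Groth.Agent.S10176.isOpenMap_ofPt (pj j) hpje _ Vj.isOpen, ?_, ?_⟩
  · refine ⟨(cW.π.app j).left w, hwVj, ?_⟩
    rw [← Groth.Agent.S10176.ofPt_map_comp, ← hcompat j, ← hwx]
    rfl
  · rintro x' ⟨v', hv', hx'⟩
    obtain ⟨p', hp'1, hp'2⟩ := Groth.Agent.S10175.exists_point_of_isPullback (sqS j).flip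
      (AlgSp.Points.ofScheme (E.obj j) v') x'
      (by rw [← AlgSp.Points.ofPt_eq_map_ofScheme]; exact hx')
    obtain ⟨w', rfl⟩ := (AlgSp.Points.schemeHomeo cW.pt).surjective p'
    have hw'1 : (cW.π.app j).left w' = v' := by
      apply (AlgSp.Points.schemeHomeo (E.obj j)).injective
      rw [← AlgSp.Points.map_yon_map_apply]
      exact hp'1
    have hw'W : w' ∈ W' := hVjW (by
      change (cW.π.app j).left w' ∈ Vj
      rw [hw'1]; exact hv')
    have : AlgSp.Points.ofPt fstW w' = x' := by
      rw [AlgSp.Points.ofPt_eq_map_ofScheme]; exact hp'2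
    rw [← this]
    exact hw'W

include hD hDa hc in
/-- the topology of the points of the limit is induced from the stages. -/
theorem topologicalSpace_eq_iInf_induced :
    AlgSp.Points.topologicalSpace c.pt =
      ⨅ i, TopologicalSpace.induced (AlgSp.Points.map (c.π.app i))
        (AlgSp.Points.topologicalSpace (D.obj i)) := by
  apply le_antisymm
  · exact le_iInf fun i =>
      continuous_iff_le_induced.1 (AlgSp.Points.continuous_map (c.π.app i))
  · intro W hW
    rw [@isOpen_iff_forall_mem_open _ (⨅ i, TopologicalSpace.induced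
      (AlgSp.Points.map (c.π.app i)) (AlgSp.Points.topologicalSpace (D.obj i)))]
    intro x hx
    obtain ⟨k, Wk, hWk, hxk, hsub⟩ := exists_open_stage D hD hDa c hc W hW x hx
    refine ⟨AlgSp.Points.map (c.π.app k) ⁻¹' Wk, hsub, ?_, hxk⟩
    have h1 : IsOpen[TopologicalSpace.induced (AlgSp.Points.map (c.π.app k))
        (AlgSp.Points.topologicalSpace (D.obj k))] (AlgSp.Points.map (c.π.app k) ⁻¹' Wk) :=
      isOpen_induced hWk
    exact (iInf_le (fun i => TopologicalSpace.induced (AlgSp.Points.map (c.π.app i))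
      (AlgSp.Points.topologicalSpace (D.obj i))) k) _ h1

end

end Groth.Agent.Lib.T2H7.LimTop
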