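import Mathlib
import Groth.Agent.Lib.T2H7LimTop
import Groth.Agent.Lib.T2H1LimAffine2
import Groth.Agent.Lib.T2H7EvIsoB
import Groth.Agent.Lib.T2H7EvMonoBase
import Groth.Agent.Lib.T2H7AffQcqs
import Groth.Agent.S10193
import Groth.Agent.S9928

/-!
# Closures of points in a cofiltered limit of algebraic spaces with affine transition maps
(helper7)
-/

set_option autoImplicit false
set_option linter.unusedSectionVars false
set_option linter.unusedVariables false
set_option linter.style.haveILetI false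
universe u
open CategoryTheory CategoryTheory.Limits AlgebraicGeometry Topology
open AlgSp

namespace Groth.Agent.Lib.T2H7.LimClosure

variable {S : Scheme.{u}}

section

variable {I : Type u} [SmallCategory I] [IsCofiltered I] (D : I ⥤ AlgSp.Sp S)
  (hD : ∀ i, AlgSp.IsAlgSpace (D.obj i))
  (hDa : ∀ (i j : I) (φ : i ⟶ j), AlgSp.IsAffineMor (D.map φ))
  (c : Cone D) (hc : IsLimit c)

include hD hDa hc in
/-- the closure of a point of the limit is cut out by the closures of its images. -/
theorem closure_singleton_eq (x : AlgSp.Points c.pt) :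
    closure {x} = {x' | ∀ i, AlgSp.Points.map (c.π.app i) x' ∈
      closure {AlgSp.Points.map (c.π.app i) x}} := by
  ext x'
  constructor
  · intro hx' i
    have h := map_mem_closure (AlgSp.Points.continuous_map (c.π.app i)) hx'
      (t := {AlgSp.Points.map (c.π.app i) x}) (fun y hy => by
        rw [Set.mem_singleton_iff] at hy
        rw [hy]; exact Set.mem_singleton _)
    exact h
  · intro hx'
    rw [mem_closure_iff]
    intro W hW hx'W
    obtain ⟨k, Wk, hWk, hxk, hsub⟩ :=
      Groth.Agent.Lib.T2H7.LimTop.exists_open_stage D hD hDa c hc W hW x' hx'W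
    obtain ⟨y, hyW, hy⟩ := mem_closure_iff.1 (hx' k) Wk hWk hxk
    rw [Set.mem_singleton_iff] at hy
    subst hy
    exact ⟨x, hsub hyW, Set.mem_singleton _⟩

include hD hDa hc in
/-- the reduced induced structure on the closure of a point of the limit is the limit of the
reduced induced structures on the closures of its images. -/
theorem nonempty_isLimit_redInduced (x : AlgSp.Points c.pt)
    (Z : AlgSp.Space S) (zι : Z.obj ⟶ c.pt) (hZ : AlgSp.IsRedInduced (closure {x}) zι)
    (DZ : I ⥤ AlgSp.Sp S) (hDZ : ∀ i, AlgSp.IsAlgSpace (DZ.obj i)) (ι : DZ ⟶ D)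
    (hι : ∀ i, AlgSp.IsRedInduced (closure {AlgSp.Points.map (c.π.app i) x}) (ι.app i))
    (ξ : (Functor.const I).obj Z.obj ⟶ DZ) (hξ : ∀ i, ξ.app i ≫ ι.app i = zι ≫ c.π.app i) :
    Nonempty (IsLimit (Cone.mk Z.obj ξ)) := by
  have hptalg : AlgSp.IsAlgSpace c.pt :=
    Groth.Agent.Lib.T2H1.LimAffine.isAlgSpace_pt D hDa c hc hD
  have hmonoι : ∀ i, Mono (ι.app i) := fun i =>
    Groth.Agent.S9928.mono_of_repWith @IsClosedImmersion
      (fun X Y g hg => by haveI : IsClosedImmersion g := hg; infer_instance) (ι.app i) (hι i).1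
  haveI : Mono zι :=
    Groth.Agent.S9928.mono_of_repWith @IsClosedImmersion
      (fun X Y g hg => by haveI : IsClosedImmersion g := hg; infer_instance) zι hZ.1
  -- the transition maps of the closed subspaces are affine
  have hDZa : ∀ (i j : I) (φ : i ⟶ j), AlgSp.IsAffineMor (DZ.map φ) := by
    intro i j φ
    haveI := hmonoι j
    have hcomp : AlgSp.IsAffineMor (ι.app i ≫ D.map φ) :=
      Groth.Agent.Lib.T2H7.EvMonoBase.isAffineMor_comp _ _
        (Groth.Agent.Lib.T2H7.EvIsoB.isAffineMor_of_closedImmersion _ (hι i).1) (hDa i j φ)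
    have sq : IsPullback (𝟙 (DZ.obj i)) (DZ.map φ) (ι.app i ≫ D.map φ) (ι.app j) :=
      IsPullback.of_horiz_isIso_mono ⟨by rw [Category.id_comp]; exact (ι.naturality φ).symm⟩
    exact Groth.Agent.Lib.T2H7.AffQcqs.isAffineMor_of_isPullback sq hcomp
  -- the limit of the closed subspaces
  let cZ : Cone DZ := limit.cone DZ
  have hcZ : IsLimit cZ := limit.isLimit DZ
  have hZ'alg : AlgSp.IsAlgSpace cZ.pt :=
    Groth.Agent.Lib.T2H1.LimAffine.isAlgSpace_pt DZ hDZa cZ hcZ hDZ
  have hZ'red : AlgSp.IsReducedSp cZ.pt :=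
    Groth.Agent.Lib.T2H1.LimAffine.isReducedSp_pt DZ hDZa cZ hcZ (fun i => (hι i).2.2)
  -- the map to the limit
  let coneX : Cone D :=
    { pt := cZ.pt
      π :=
        { app := fun i => cZ.π.app i ≫ ι.app i
          naturality := fun i j φ => by
            change 𝟙 _ ≫ cZ.π.app j ≫ ι.app j = (cZ.π.app i ≫ ι.app i) ≫ D.map φ
            rw [Category.id_comp, Category.assoc, ← ι.naturality φ, ← Category.assoc, cZ.w] } }
  let f : cZ.pt ⟶ c.pt := hc.lift coneX
  have hf : ∀ i, f ≫ c.π.app i = cZ.π.app i ≫ ι.app i := fun i => hc.fac coneX i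
  -- it factors through `Z`
  have hrange : Set.range (AlgSp.Points.map f) ⊆ Set.range (AlgSp.Points.map zι) := by
    rintro _ ⟨z', rfl⟩
    rw [hZ.2.1, closure_singleton_eq D hD hDa c hc x]
    intro i
    rw [← (hι i).2.1, ← AlgSp.Points.map_comp, hf i, AlgSp.Points.map_comp]
    exact ⟨_, rfl⟩
  obtain ⟨g', hg'⟩ := (Groth.Agent.S10193.result (X := ⟨c.pt, hptalg⟩) (Y := ⟨cZ.pt, hZ'alg⟩)
    (Z := Z) (ObjectProperty.homMk zι) hZ.1 hZ'red (ObjectProperty.homMk f)).2 hrange
  let g : cZ.pt ⟶ Z.obj := g'.hom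
  have hg : g ≫ zι = f := congrArg (fun m => m.hom) hg'
  -- the map from `Z`
  let h : Z.obj ⟶ cZ.pt := hcZ.lift (Cone.mk Z.obj ξ)
  have hh : ∀ i, h ≫ cZ.π.app i = ξ.app i := fun i => hcZ.fac (Cone.mk Z.obj ξ) i
  have hhf : h ≫ f = zι := by
    apply hc.hom_ext
    intro i
    rw [Category.assoc, hf i, ← Category.assoc, hh i, hξ i]
  have hhg : h ≫ g = 𝟙 Z.obj := by
    rw [← cancel_mono zι, Category.assoc, hg, hhf, Category.id_comp]
  have hgh : g ≫ h = 𝟙 cZ.pt := by
    apply hcZ.hom_ext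
    intro i
    haveI := hmonoι i
    have e1 : (g ≫ h) ≫ cZ.π.app i = g ≫ ξ.app i := by rw [Category.assoc, hh i]
    rw [← cancel_mono (ι.app i), e1, Category.assoc, hξ i, ← Category.assoc, hg, hf i,
      Category.id_comp]
  -- conclude
  let e : Cone.mk Z.obj ξ ≅ cZ :=
    Cone.ext ⟨h, g, hhg, hgh⟩ (fun i => (hh i).symm)
  exact ⟨IsLimit.ofIsoLimit hcZ e.symm⟩

end

end Groth.Agent.Lib.T2H7.LimClosure
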