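import Mathlib
import Groth.Agent.Lib.T2H7LimDescRep
import Groth.Agent.S9187
import Groth.Agent.S10540
import Groth.Agent.S10267

/-!
# Descending finiteness of representable morphisms of algebraic spaces through limits (helper7)
-/

set_option autoImplicit false
set_option linter.unusedSectionVars false
set_option linter.unusedVariables false
set_option linter.style.haveILetI false
universe u
open CategoryTheory CategoryTheory.Limits AlgebraicGeometry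
open AlgSp

namespace Groth.Agent.Lib.T2H7.LimDescFin

open Groth.Agent.Lib.T2H7.LimDescRep

variable {S : Scheme.{u}}

/-- finite morphisms descend through limits of affine schemes. -/
theorem schemeDescentQ_isFinite : SchemeDescentQ (@IsFinite.{u}) := by
  intro J _ _ Ds cs hcs haff j₀ X₀ f₀ hX₀c hX₀s hlft X f qX hX hf
  haveI := haff
  haveI := hX₀c
  haveI := hX₀s
  haveI := hlft
  haveI : IsFinite f := hf
  haveI : ∀ (i j : J) (f : i ⟶ j), IsAffineHom (Ds.map f) := fun i j f => inferInstance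
  have hY : IsPullback (cs.π.app j₀) (𝟙 cs.pt) (𝟙 (Ds.obj j₀)) (cs.π.app j₀) :=
    IsPullback.id_vert (cs.π.app j₀)
  obtain ⟨j, ψ, Xj, Yj, fj, gj, pY, pX, sqY, sqX, hPj⟩ :=
    Groth.Agent.S9187.result Ds cs hcs j₀ f₀ (𝟙 _) f (𝟙 _) (cs.π.app j₀) qX hY hX
  haveI : IsIso gj := sqY.isIso_snd_of_isIso
  refine ⟨j, ψ, Xj, fj ≫ gj, pX, ?_,
    (MorphismProperty.cancel_right_of_respectsIso @IsFinite fj gj).2 hPj⟩
  have := sqX.paste_vert sqY
  rwa [Category.comp_id] at this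

/-- `RepWith @IsFinite` is fpqc local on the base. -/
theorem isLocalOnBase_repWith_isFinite :
    AlgSp.IsLocalOnBase (AlgSp.IsFpqcCover (S := S)) (AlgSp.RepWith @IsFinite) := by
  intro ι Y Yi g hY hYi hcov X f hX Xi p q hXi hsq
  have h := Groth.Agent.S10540.result S Yi g hY hYi hcov f hX Xi p q hXi hsq
  have e1 : AlgSp.IsFiniteMor f ↔ AlgSp.RepWith @IsFinite f :=
    (Groth.Agent.S10267.result (X := ⟨X, hX⟩) (Y := ⟨Y, hY⟩) (ObjectProperty.homMk f)).2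
  have e2 : ∀ i, AlgSp.IsFiniteMor (p i) ↔ AlgSp.RepWith @IsFinite (p i) := fun i =>
    (Groth.Agent.S10267.result (X := ⟨Xi i, hXi i⟩) (Y := ⟨Yi i, hYi i⟩)
      (ObjectProperty.homMk (p i))).2
  rw [← e1, h]
  exact forall_congr' e2

section

variable {I : Type u} [SmallCategory I] [IsCofiltered I]

theorem descend_finite_of_representable [QuasiSeparatedSpace S]
    (D : I ⥤ AlgSp.Sp S) (hD : ∀ i, AlgSp.IsAlgSpace (D.obj i))
    (hDa : ∀ (i j : I) (φ : i ⟶ j), AlgSp.IsAffineMor (D.map φ))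
    (c : Cone D) (hc : IsLimit c) (i₀ : I)
    (X₀ Y₀ : AlgSp.Space S) (f₀ : X₀.obj ⟶ Y₀.obj) (b₀ : Y₀.obj ⟶ D.obj i₀)
    (hXqc : AlgSp.IsQuasiCompactSp X₀.obj) (hXqs : AlgSp.IsQuasiSeparatedSp X₀.obj)
    (hYqc : AlgSp.IsQuasiCompactSp Y₀.obj) (hYqs : AlgSp.IsQuasiSeparatedSp Y₀.obj)
    (X Y : AlgSp.Sp S) (f : X ⟶ Y) (pY : Y ⟶ Y₀.obj) (qY : Y ⟶ c.pt)
    (hY : IsPullback pY qY b₀ (c.π.app i₀)) (pX : X ⟶ X₀.obj) (hX : IsPullback pX f f₀ pY)
    (hf : AlgSp.RepWith @IsFinite f) (hlft : AlgSp.RepWith @LocallyOfFiniteType f₀) :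
    ∃ (i : I) (φ : i ⟶ i₀), ∀ (Xi Yi : AlgSp.Sp S) (fi : Xi ⟶ Yi) (pYi : Yi ⟶ Y₀.obj)
      (qYi : Yi ⟶ D.obj i) (_ : IsPullback pYi qYi b₀ (D.map φ)) (pXi : Xi ⟶ X₀.obj)
      (_ : IsPullback pXi fi f₀ pYi), AlgSp.RepWith @IsFinite fi :=
  descend_repWith @IsFinite schemeDescentQ_isFinite
    isLocalOnBase_repWith_isFinite D hD hDa c hc i₀ X₀ Y₀ f₀ b₀ hXqc hXqs hYqc hYqs X Y f pY qY hY
    pX hX hf hlft

end

end Groth.Agent.Lib.T2H7.LimDescFin
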