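import Mathlib
import Groth.Agent.Lib.T2H7LimTop
import Groth.Agent.Lib.T2H1LimAffine
import Groth.Agent.Lib.T2H1FibreNoeth
import Groth.Agent.S10338
import Groth.Agent.S10351

/-!
# The points of a cofiltered limit of decent algebraic spaces with affine transition maps
(helper7)
-/

set_option autoImplicit false
set_option linter.unusedSectionVars false
set_option linter.unusedVariables false
set_option linter.style.haveILetI false
universe u
open CategoryTheory CategoryTheory.Limits AlgebraicGeometry Topology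
open AlgSp

namespace Groth.Agent.Lib.T2H7.LimPts

variable {S : Scheme.{u}}

section

variable {I : Type u} [SmallCategory I] [IsCofiltered I] (D : I ⥤ AlgSp.Sp S)
  (hD : ∀ i, AlgSp.IsAlgSpace (D.obj i))
  (hDa : ∀ (i j : I) (φ : i ⟶ j), AlgSp.IsAffineMor (D.map φ))
  (c : Cone D) (hc : IsLimit c)

include hD hDa hc in
/-- the projections separate the points of a limit of decent spaces. -/
theorem eq_of_forall_map_eq (hdec : ∀ i, AlgSp.IsDecent (D.obj i))
    (x x' : AlgSp.Points c.pt)
    (h : ∀ i, AlgSp.Points.map (c.π.app i) x = AlgSp.Points.map (c.π.app i) x') : x = x' := by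
  obtain ⟨i₀⟩ := IsCofiltered.nonempty (C := I)
  have hptalg : AlgSp.IsAlgSpace c.pt :=
    Groth.Agent.Lib.T2H1.LimAffine.isAlgSpace_pt D hDa c hc hD
  let Xs : AlgSp.Space S := ⟨c.pt, hptalg⟩
  have hrep : AlgSp.Representable (c.π.app i₀) :=
    (Groth.Agent.Lib.T2H1.LimAffine.repWith_π D hDa c hc i₀).1
  have hXdec : AlgSp.IsDecent c.pt :=
    Groth.Agent.S10351.result (X := Xs) (Y := ⟨D.obj i₀, hD i₀⟩)
      (ObjectProperty.homMk (c.π.app i₀)) hrep (hdec i₀)
  haveI : T0Space (AlgSp.Points c.pt) := Groth.Agent.S10338.result Xs hXdec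
  apply Inseparable.eq
  rw [inseparable_iff_forall_isOpen]
  intro W hW
  constructor
  · intro hx
    obtain ⟨k, Wk, hWk, hxk, hsub⟩ :=
      Groth.Agent.Lib.T2H7.LimTop.exists_open_stage D hD hDa c hc W hW x hx
    exact hsub (by rw [Set.mem_preimage, ← h k]; exact hxk)
  · intro hx
    obtain ⟨k, Wk, hWk, hxk, hsub⟩ :=
      Groth.Agent.Lib.T2H7.LimTop.exists_open_stage D hD hDa c hc W hW x' hx
    exact hsub (by rw [Set.mem_preimage, h k]; exact hxk)

include hD hc in
/-- every compatible family of points of the stages of a limit of decent spaces comes from a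
point of the limit. -/
theorem exists_point_of_compatible (hdec : ∀ i, AlgSp.IsDecent (D.obj i))
    (s : ∀ i, AlgSp.Points (D.obj i))
    (hs : ∀ (i j : I) (φ : i ⟶ j), AlgSp.Points.map (D.map φ) (s i) = s j) :
    ∃ x : AlgSp.Points c.pt, ∀ i, AlgSp.Points.map (c.π.app i) x = s i := by
  obtain ⟨i₀⟩ := IsCofiltered.nonempty (C := I)
  -- monomorphic representatives
  choose p hp hmono hqc using fun i => hdec i (s i)
  haveI : ∀ i, Mono (p i).toHom := hmono
  -- the transition maps of the representatives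
  have hfac : ∀ {i j : I} (φ : i ⟶ j), ∃ g : (p i).pt ⟶ (p j).pt,
      (AlgSp.yon S).map g ≫ (p j).toHom = (p i).toHom ≫ D.map φ := by
    intro i j φ
    obtain ⟨g, hg⟩ := Groth.Agent.Lib.T2H1.FibreNoeth.exists_factor_of_mono (hD j)
      ((p i).map (D.map φ)) (p j) (by
        rw [hp j, ← AlgSp.Points.map_mk, hp i, hs i j φ]) (hmono j)
    exact ⟨g, by rw [← AlgSp.FieldPt.toHom_map]; exact hg⟩
  choose g hg using @hfac
  have huniq : ∀ {j : I} {T : Over S} (a a' : T ⟶ (p j).pt),
      (AlgSp.yon S).map a ≫ (p j).toHom = (AlgSp.yon S).map a' ≫ (p j).toHom → a = a' := by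
    intro j T a a' h
    apply (AlgSp.yon S).map_injective
    exact (cancel_mono (p j).toHom).1 h
  let P : I ⥤ Over S :=
    { obj := fun i => (p i).pt
      map := fun φ => g φ
      map_id := fun i => huniq _ _ (by
        rw [hg, D.map_id, Category.comp_id, CategoryTheory.Functor.map_id, Category.id_comp])
      map_comp := fun {i j k} φ ψ => huniq _ _ (by
        rw [hg, D.map_comp, (AlgSp.yon S).map_comp, Category.assoc, hg ψ,
          ← Category.assoc ((AlgSp.yon S).map (g φ)), hg φ, Category.assoc]) }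
  have hPaff : ∀ i, IsAffine ((P ⋙ Over.forget S).obj i) := fun i =>
    inferInstanceAs (IsAffine (Spec (CommRingCat.of (p i).K)))
  obtain ⟨cF, ⟨hF⟩, -⟩ := Groth.Agent.Lib.T2H1.LimAffine.exists_affine_limit
    (P ⋙ Over.forget S) hPaff
  haveI : ∀ i, IsAffine ((P ⋙ Over.forget S).obj i) := hPaff
  haveI : ∀ {i j : I} (f : i ⟶ j), IsAffineHom ((P ⋙ Over.forget S).map f) :=
    fun f => inferInstance
  haveI : ∀ i, Nonempty ((P ⋙ Over.forget S).obj i) := fun i =>
    inferInstanceAs (Nonempty (Spec (CommRingCat.of (p i).K)))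
  haveI : ∀ i, CompactSpace ((P ⋙ Over.forget S).obj i) := fun i => inferInstance
  obtain ⟨z⟩ := Scheme.nonempty_of_isLimit (P ⋙ Over.forget S) cF hF
  -- the limit as a scheme over `S`
  have hstr : ∀ i, cF.π.app i ≫ (P.obj i).hom = cF.π.app i₀ ≫ (P.obj i₀).hom := by
    intro i
    obtain ⟨k, a, b, -⟩ : ∃ (k : I) (a : k ⟶ i) (b : k ⟶ i₀), True :=
      ⟨IsCofiltered.min i i₀, IsCofiltered.minToLeft i i₀, IsCofiltered.minToRight i i₀, trivial⟩
    have e1 : cF.π.app i = cF.π.app k ≫ (P.map a).left := (cF.w a).symm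
    have e2 : cF.π.app i₀ = cF.π.app k ≫ (P.map b).left := (cF.w b).symm
    have h1 : (P.map a).left ≫ (P.obj i).hom = (P.obj k).hom := Over.w (P.map a)
    have h2 : (P.map b).left ≫ (P.obj i₀).hom = (P.obj k).hom := Over.w (P.map b)
    rw [e1, e2]
    exact (Category.assoc _ _ _).trans ((congrArg (cF.π.app k ≫ ·) h1).trans
      ((congrArg (cF.π.app k ≫ ·) h2).symm.trans (Category.assoc _ _ _).symm))
  let T : Over S := Over.mk (cF.π.app i₀ ≫ (P.obj i₀).hom)
  let t : ∀ i, T ⟶ P.obj i := fun i => Over.homMk (cF.π.app i) (hstr i)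
  have ht : ∀ {i j : I} (φ : i ⟶ j), t i ≫ P.map φ = t j := by
    intro i j φ
    ext
    exact cF.w φ
  let cone : Cone D :=
    { pt := (AlgSp.yon S).obj T
      π :=
        { app := fun i => (AlgSp.yon S).map (t i) ≫ (p i).toHom
          naturality := fun i j φ => by
            change 𝟙 _ ≫ (AlgSp.yon S).map (t j) ≫ (p j).toHom =
              ((AlgSp.yon S).map (t i) ≫ (p i).toHom) ≫ D.map φ
            rw [Category.id_comp, Category.assoc, ← hg φ, ← Category.assoc, ← Functor.map_comp]
            change _ = (AlgSp.yon S).map (t i ≫ P.map φ) ≫ _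
            rw [ht φ] } }
  let lam : (AlgSp.yon S).obj T ⟶ c.pt := hc.lift cone
  have hlam : ∀ i, lam ≫ c.π.app i = (AlgSp.yon S).map (t i) ≫ (p i).toHom := fun i =>
    hc.fac cone i
  refine ⟨AlgSp.Points.ofPt lam z, fun i => ?_⟩
  rw [AlgSp.Points.map_ofPt, hlam i, Groth.Agent.S10176.ofPt_map_comp, AlgSp.Points.ofPt_toHom,
    hp i]

end

end Groth.Agent.Lib.T2H7.LimPts
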