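import Groth.Agent.Lib.Helper25ComodSS
import Groth.Agent.Lib.Helper25ComodInv
import Groth.Agent.Lib.Helper25Coeff
import Mathlib.LinearAlgebra.Projection

/-!
# Copy of part of Helper25Reynolds / Helper25IntegralBC (existence of a total integral for a linearly
reductive bialgebra) in a separate namespace, so that it can be imported together with Helper25Tame
(the original files clash with it on one declaration name).  (helper7)
-/

set_option autoImplicit false
set_option linter.unusedSectionVars false
set_option linter.unusedVariables false
universe u v w w'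

namespace Groth.Agent.Lib.T2H7.ReynoldsCopy

open TensorProduct HopfRep Module Groth.Agent.Lib.Helper25

section SumSS

variable {k : Type u} [Field k] {A : Type v} [AddCommGroup A] [Module k A] [Coalgebra k A]
variable {V : Type w} [AddCommGroup V] [Module k V] [Comod k A V]

/-- A subcomodule which is semisimple for its induced comodule structure is a semisimple module
over the dual algebra (as a submodule). -/
theorem isSemisimpleModule_toDualSub (U : Submodule k V) (hU : IsSubcomod (k := k) (A := A) U)
    (h : @IsSemisimpleComod k A _ _ _ _ U _ _ (subComod U hU)) :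
    (letI := dualModule k A V; IsSemisimpleModule (DualAlg k A) (toDualSub U hU)) := by
  letI := dualModule k A V
  letI := subComod U hU
  letI := dualModule k A U
  haveI : IsSemisimpleModule (DualAlg k A) U := isSemisimpleComod_iff.mp h
  let e : (toDualSub U hU) ≃ₗ[DualAlg k A] U :=
    { toFun := fun x => ⟨x.1, x.2⟩
      invFun := fun x => ⟨x.1, x.2⟩
      left_inv := fun _ => rfl
      right_inv := fun _ => rfl
      map_add' := fun _ _ => rfl
      map_smul' := fun φ x => by
        apply Subtype.ext
        exact (map_T_of_isComodHom (isComodHom_subtype U hU) φ.ofConv ⟨x.1, x.2⟩).symm }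
  exact IsSemisimpleModule.congr e

/-- A comodule all of whose finitely generated subcomodules are semisimple is semisimple. -/
theorem isSemisimpleComod_of_forall_fg
    (h : ∀ (U : Submodule k V) (hU : IsSubcomod (k := k) (A := A) U), U.FG →
      @IsSemisimpleComod k A _ _ _ _ U _ _ (subComod U hU)) :
    IsSemisimpleComod k A V := by
  letI := dualModule k A V
  rw [isSemisimpleComod_iff]
  refine isSemisimpleModule_of_isSemisimpleModule_submodule'
    (p := fun v : V => toDualSub (gen k A v) (isSubcomod_gen v))
    (fun v => isSemisimpleModule_toDualSub _ _ (h _ (isSubcomod_gen v) (fg_gen v))) ?_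
  rw [eq_top_iff]
  intro v _
  exact Submodule.mem_iSup_of_mem v (self_mem_gen (k := k) (A := A) v)

end SumSS

section Reductive

variable {k : Type u} [Field k] {A : Type v} [CommRing A] [Bialgebra k A]

/-- For a linearly reductive bialgebra every comodule (in the universe of `A`), of any dimension,
is semisimple. -/
theorem isSemisimpleComod_of_isLinearlyReductive (hG : IsLinearlyReductive k A)
    (V : Type v) [AddCommGroup V] [Module k V] [Comod k A V] : IsSemisimpleComod k A V := by
  apply isSemisimpleComod_of_forall_fg
  intro U hU hfg
  letI := subComod U hU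
  exact hG U (Module.Finite.iff_fg.mpr hfg)

end Reductive

section Reynolds

variable {k : Type u} [Field k] {A : Type v} [Ring A] [Bialgebra k A]
variable {V : Type w} [AddCommGroup V] [Module k V] [Comod k A V]

theorem isSubcomod_fixedPts : IsSubcomod (k := k) (A := A) (fixedPts k A V) := by
  rw [isSubcomod_iff]
  intro φ v hv
  rw [T_of_mem_fixedPts hv]
  exact Submodule.smul_mem _ _ hv


/-- Existence of a Reynolds operator on a semisimple comodule. -/
theorem exists_reynolds (hss : IsSemisimpleComod k A V) :
    ∃ E : V →ₗ[k] V, Hoch.IsComodHom A E ∧ E ∘ₗ E = E ∧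
      ∀ x : V, E x = x ↔ x ∈ fixedPts k A V := by
  obtain ⟨W, hW, hc⟩ := hss _ (isSubcomod_fixedPts (k := k) (A := A) (V := V))
  refine ⟨(fixedPts k A V).projection W hc, ?_, ?_, ?_⟩
  · rw [isComodHom_iff]
    intro φ v
    set E := (fixedPts k A V).projection W hc
    have h1 : E v ∈ fixedPts k A V := Submodule.projection_apply_mem hc v
    have h2 : v - E v ∈ W := Submodule.sub_projection_mem hc v
    have h3 : T φ v = T φ (E v) + T φ (v - E v) := by rw [← map_add]; congr 1; abel
    rw [h3, map_add,
      Submodule.projection_apply_of_mem_left hc
        (T_mem_of_isSubcomod (isSubcomod_fixedPts (k := k) (A := A) (V := V)) φ h1),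
      Submodule.projection_apply_of_mem_right hc (T_mem_of_isSubcomod hW φ h2), add_zero]
  · exact (Submodule.isIdempotentElem_projection hc).eq
  · intro x
    exact Submodule.projection_eq_self_iff hc x


end Reynolds

section IntegralIff

variable {k : Type u} [Field k] {A : Type v} [CommRing A] [Bialgebra k A]

/-- The comodule-map condition for a functional `A → k` in slice form. -/
theorem isComodHom_trivial_iff (α : A →ₗ[k] k) :
    @Hoch.IsComodHom k _ A _ _ _ A _ _ _ k _ _ (Comod.trivial k A k) α ↔
      ∀ x : A, lslice α (CoalgebraStruct.comul (R := k) x) = α x • (1 : A) := by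
  letI := Comod.trivial k A k
  constructor
  · intro hα x
    have h := LinearMap.congr_fun hα x
    change (α x) ⊗ₜ[k] (1 : A) = α.rTensor A (CoalgebraStruct.comul (R := k) x) at h
    rw [lslice, LinearMap.comp_apply, ← h]
    simp
  · intro h
    apply LinearMap.ext
    intro x
    change (α x) ⊗ₜ[k] (1 : A) = α.rTensor A (CoalgebraStruct.comul (R := k) x)
    apply (TensorProduct.lid k A).injective
    have := h x
    rw [lslice, LinearMap.comp_apply] at this
    rw [LinearEquiv.coe_coe] at this
    rw [this]
    simp

/-- A linearly reductive bialgebra has a total integral. -/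
theorem exists_integral_of_isLinearlyReductive (hG : IsLinearlyReductive k A) :
    ∃ α : A →ₗ[k] k, (∀ x : A, lslice α (CoalgebraStruct.comul (R := k) x) = α x • (1 : A)) ∧
      α 1 = 1 := by
  have hss : IsSemisimpleComod k A A := isSemisimpleComod_of_isLinearlyReductive hG A
  obtain ⟨E, hE, hEE, hEx⟩ := exists_reynolds hss
  have hEfix : ∀ x, E x ∈ fixedPts k A A :=
    fun x => (hEx _).mp (LinearMap.congr_fun hEE x)
  -- fixed vectors of the regular comodule are scalars
  have hfix : ∀ a : A, a ∈ fixedPts k A A →
      a = CoalgebraStruct.counit (R := k) (A := A) a • (1 : A) := by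
    intro a ha
    have h1 : CoalgebraStruct.comul (R := k) (A := A) a = a ⊗ₜ[k] (1 : A) := ha
    have h2 := Coalgebra.rTensor_counit_comul (R := k) a
    rw [h1, LinearMap.rTensor_tmul] at h2
    have h3 := congrArg (TensorProduct.lid k A) h2
    simpa using h3.symm
  refine ⟨CoalgebraStruct.counit (R := k) (A := A) ∘ₗ E, ?_, ?_⟩
  · intro x
    have h1 := isComodHom_apply hE x
    change CoalgebraStruct.comul (R := k) (A := A) (E x) =
      E.rTensor A (CoalgebraStruct.comul (R := k) (A := A) x) at h1
    have h2 : lslice (CoalgebraStruct.counit (R := k) (A := A))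
        (CoalgebraStruct.comul (R := k) (A := A) (E x)) = E x := by
      have := Coalgebra.rTensor_counit_comul (R := k) (E x)
      have h3 := congrArg (TensorProduct.lid k A) this
      simpa [lslice] using h3
    rw [h1, lslice_rTensor] at h2
    rw [h2, LinearMap.comp_apply]
    exact hfix _ (hEfix x)
  · rw [LinearMap.comp_apply]
    have h1 : E 1 = 1 := (hEx 1).mpr (by
      rw [mem_fixedPts_iff]
      change CoalgebraStruct.comul (R := k) (A := A) 1 = _
      rw [Bialgebra.comul_one, Algebra.TensorProduct.one_def])
    rw [h1, Bialgebra.counit_one]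

end IntegralIff

end Groth.Agent.Lib.T2H7.ReynoldsCopy
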