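import Mathlib
import Groth.Agent.Lib.T2H7CatQuotTame
import Groth.Agent.Lib.T2H7QuotUniq
import Groth.Agent.Lib.T2H7ReynoldsCopy
import Groth.Prelude.Def_CoactBr
import Groth.Prelude.Def_RedSub

/-!
# The quotient of an affine group by a linearly reductive subgroup is affine (helper7)
-/

set_option autoImplicit false
set_option linter.unusedSectionVars false
set_option linter.unusedVariables false
set_option linter.style.haveILetI false
universe u
open CategoryTheory CategoryTheory.Limits MonoidalCategory CartesianMonoidalCategory MonObj GrpObj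
  AlgebraicGeometry TensorProduct

namespace Groth.Agent.Lib.T2H7.LinRedQuot

open HopfRep Groth.Agent.Lib.Helper25

section Alg

variable {k : Type u} [CommRing k] {AG AH : Type u} [CommRing AG] [HopfAlgebra k AG]
  [CommRing AH] [HopfAlgebra k AH] (ψ : AG →ₐc[k] AH)

/-- `AG` as a right `AH`-comodule through `(id ⊗ ψ) ∘ Δ` (right translation by the subgroup). -/
@[reducible] noncomputable def comodRes : HopfRep.Comod k AH AG :=
  comodAlongCoalg ψ.toCoalgHom (Comod.regular k AG)

theorem comodRes_coact (x : AG) :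
    (comodRes ψ).coact x =
      (ψ.toCoalgHom : AG →ₗ[k] AH).lTensor AG (CoalgebraStruct.comul (R := k) x) := rfl

theorem comodRes_coact_eq (x : AG) :
    (comodRes ψ).coact x =
      Algebra.TensorProduct.map (AlgHom.id k AG) (ψ : AG →ₐ[k] AH)
        (Bialgebra.comulAlgHom k AG x) := by
  rw [comodRes_coact]
  change _ = Algebra.TensorProduct.map (AlgHom.id k AG) (ψ : AG →ₐ[k] AH)
    (CoalgebraStruct.comul (R := k) x)
  generalize (CoalgebraStruct.comul (R := k) x : AG ⊗[k] AG) = z
  induction z using TensorProduct.induction_on with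
  | zero => simp
  | add x y hx hy => simp only [map_add, hx, hy]
  | tmul a b => rfl

theorem isCoactAlg_comodRes : @GLin.IsCoactAlg k _ AH _ _ AG _ _ (comodRes ψ) := by
  letI := comodRes ψ
  constructor
  · change (comodRes ψ).coact 1 = 1
    rw [comodRes_coact_eq, map_one, map_one]
  · intro f g
    change (comodRes ψ).coact (f * g) = (comodRes ψ).coact f * (comodRes ψ).coact g
    rw [comodRes_coact_eq, comodRes_coact_eq, comodRes_coact_eq, map_mul, map_mul]

end Alg

section Integral

variable {k : Type u} [Field k] {AG AH : Type u} [CommRing AG] [HopfAlgebra k AG]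
  [CommRing AH] [HopfAlgebra k AH] (ψ : AG →ₐc[k] AH)

theorem exists_totalIntegral (hH : IsLinearlyReductive k AH) :
    ∃ α : AH →ₗ[k] AG,
      @Hoch.IsComodHom k _ AH _ _ _ AH _ _ _ AG _ _ (comodRes ψ) α ∧ α 1 = 1 := by
  letI := comodRes ψ
  obtain ⟨α₀, hα₀, h1⟩ := Groth.Agent.Lib.T2H7.ReynoldsCopy.exists_integral_of_isLinearlyReductive hH
  refine ⟨Algebra.linearMap k AG ∘ₗ α₀, ?_, ?_⟩
  · apply LinearMap.ext
    intro x
    have hz : ∀ z : AH ⊗[k] AH, (Algebra.linearMap k AG ∘ₗ α₀).rTensor AH z =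
        (1 : AG) ⊗ₜ[k] lslice α₀ z := by
      intro z
      induction z using TensorProduct.induction_on with
      | zero => simp
      | add x y hx hy => simp only [map_add, hx, hy, TensorProduct.tmul_add]
      | tmul a b =>
        rw [LinearMap.rTensor_tmul, lslice_tmul, LinearMap.comp_apply, Algebra.linearMap_apply,
          Algebra.algebraMap_eq_smul_one, TensorProduct.smul_tmul]
    change (comodRes ψ).coact ((Algebra.linearMap k AG ∘ₗ α₀) x) =
      (Algebra.linearMap k AG ∘ₗ α₀).rTensor AH (CoalgebraStruct.comul (R := k) x)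
    rw [hz, hα₀, comodRes_coact_eq, LinearMap.comp_apply, Algebra.linearMap_apply,
      AlgHom.commutes, AlgHom.commutes, Algebra.algebraMap_eq_smul_one,
      Algebra.TensorProduct.one_def, TensorProduct.tmul_smul]
  · rw [LinearMap.comp_apply, h1, Algebra.linearMap_apply, map_one]

end Integral

section SchemeLevel

variable {k : Type u} [Field k] {AG AH : Type u} [CommRing AG] [HopfAlgebra k AG]
  [CommRing AH] [HopfAlgebra k AH] (ψ : AG →ₐc[k] AH)

noncomputable local instance braidedAlgSpecOf' (R : Type u) [CommRing R] :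
    (algSpec (CommRingCat.of R)).Braided :=
  braidedAlgSpec

open Opposite in
theorem whisker_mul_eq_ract :
    (CoactBr.sp k AG ◁ CoactBr.pt (ψ : AG →ₐ[k] AH)) ≫ μ[CoactBr.sp k AG] =
      @CoactBr.ract k AH AG _ _ _ _ _ (comodRes ψ) (isCoactAlg_comodRes ψ) := by
  letI := comodRes ψ
  haveI := isCoactAlg_comodRes ψ
  show ((algSpec (CommRingCat.of k)).obj (op (.of k AG)) ◁
      (algSpec (CommRingCat.of k)).map (CommAlgCat.ofHom (ψ : AG →ₐ[k] AH)).op) ≫
      (Functor.LaxMonoidal.μ (algSpec (CommRingCat.of k)) (op (.of k AG)) (op (.of k AG)) ≫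
        (algSpec (CommRingCat.of k)).map (CommAlgCat.ofHom (Bialgebra.comulAlgHom k AG)).op) =
    Functor.LaxMonoidal.μ (algSpec (CommRingCat.of k)) (op (.of k AG)) (op (.of k AH)) ≫
      (algSpec (CommRingCat.of k)).map (CoactBr.coactHom k AH AG).op
  rw [Functor.LaxMonoidal.μ_natural_right_assoc, ← Functor.map_comp]
  congr 2

open Groth.Agent.Lib.T2H7.CatQuotTame in
/-- abstract form: a scheme receiving an invariant epimorphism from `Spec B` through which the
quotient map `Spec B → Spec B^A` factors is isomorphic to `Spec B^A`. -/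
theorem isAffine_of_factor {k : Type u} [CommRing k] {A : Type u} [CommRing A] [HopfAlgebra k A]
    [Module.Flat k A] {B : Type u} [CommRing B] [Algebra k B] [HopfRep.Comod k A B]
    [GLin.IsCoactAlg k A B]
    (htame : ∃ α : A →ₗ[k] B, Hoch.IsComodHom A α ∧ α 1 = 1)
    (Qs : Scheme.{u}) (ql : Spec (CommRingCat.of B) ⟶ Qs) [Epi ql]
    (hψ : Spec.map (CommRingCat.ofHom (GLin.coactAlgHom k A B).toRingHom) ≫ ql =
      Spec.map (CommRingCat.ofHom
        (Algebra.TensorProduct.includeLeftRingHom : B →+* B ⊗[k] A)) ≫ ql)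
    (fl : Qs ⟶ Spec (CommRingCat.of (GLin.invariants k A B)))
    (hfl : ql ≫ fl = Spec.map (CommRingCat.ofHom (algebraMap (GLin.invariants k A B) B))) :
    IsAffine Qs := by
  obtain ⟨χ, hχ, -⟩ := existsUnique_desc_tame k A B htame Qs ql hψ
  have h0 : Spec.map (CommRingCat.ofHom (GLin.coactAlgHom k A B).toRingHom) ≫
        Spec.map (CommRingCat.ofHom (algebraMap (GLin.invariants k A B) B)) =
      Spec.map (CommRingCat.ofHom
        (Algebra.TensorProduct.includeLeftRingHom : B →+* B ⊗[k] A)) ≫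
        Spec.map (CommRingCat.ofHom (algebraMap (GLin.invariants k A B) B)) := by
    rw [← hfl, ← Category.assoc, hψ, Category.assoc]
  have h1 : fl ≫ χ = 𝟙 Qs := by
    rw [← cancel_epi ql, ← Category.assoc, hfl, hχ, Category.comp_id]
  have h2 : χ ≫ fl = 𝟙 _ := by
    obtain ⟨χ', -, huniq⟩ := existsUnique_desc_tame k A B htame _ _ h0
    have e1 := huniq (χ ≫ fl) (by
      show _ ≫ (χ ≫ fl) = _
      rw [← Category.assoc, hχ, hfl])
    have e2 := huniq (𝟙 _) (by
      show _ ≫ 𝟙 _ = _
      rw [Category.comp_id])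
    rw [e1, e2]
  haveI : IsIso fl := ⟨χ, h1, h2⟩
  exact IsAffine.of_isIso fl

open Groth.Agent.Lib.T2H7.QuotUniq in
/-- The fppf quotient of an affine algebraic group by a linearly reductive closed subgroup is
affine. -/
theorem isAffine_quotient (hH : IsLinearlyReductive k AH)
    [IsMonHom (CoactBr.pt (ψ : AG →ₐ[k] AH))]
    (Q : Over (Spec (CommRingCat.of k))) (q : CoactBr.sp k AG ⟶ Q)
    (hq : RedSub.IsQuotient (CoactBr.pt (ψ : AG →ₐ[k] AH)) q) :
    IsAffine Q.left := by
  letI := comodRes ψ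
  haveI := isCoactAlg_comodRes ψ
  have htame : ∃ α : AH →ₗ[k] AG, Hoch.IsComodHom AH α ∧ α 1 = 1 := exists_totalIntegral ψ hH
  have hw : fst (CoactBr.sp k AG) (CoactBr.sp k AH) ≫ q = CoactBr.ract k AH AG ≫ q := by
    rw [← whisker_mul_eq_ract ψ]
    exact hq.2.2.2.w
  -- clean names
  obtain ⟨ql, hql⟩ : ∃ ql : Spec (CommRingCat.of AG) ⟶ Q.left, ql = q.left := ⟨_, rfl⟩
  obtain ⟨pf, hpf⟩ : ∃ pf : pullback (Spec.map (CommRingCat.ofHom (algebraMap k AG)))
      (Spec.map (CommRingCat.ofHom (algebraMap k AH))) ⟶ Spec (CommRingCat.of AG),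
      pf = (fst (CoactBr.sp k AG) (CoactBr.sp k AH)).left := ⟨_, rfl⟩
  obtain ⟨ra, hra⟩ : ∃ ra : pullback (Spec.map (CommRingCat.ofHom (algebraMap k AG)))
      (Spec.map (CommRingCat.ofHom (algebraMap k AH))) ⟶ Spec (CommRingCat.of AG),
      ra = (CoactBr.ract k AH AG).left := ⟨_, rfl⟩
  have hpf' : pf = (pullbackSpecIso k AG AH).hom ≫ Spec.map (CommRingCat.ofHom
        (Algebra.TensorProduct.includeLeftRingHom : AG →+* AG ⊗[k] AH)) := by
    rw [pullbackSpecIso_hom_fst, hpf]
    rfl
  have hra' : ra = (pullbackSpecIso k AG AH).hom ≫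
      Spec.map (CommRingCat.ofHom (GLin.coactAlgHom k AH AG).toRingHom) := by
    rw [hra]
    exact CoactBr.ract_left k AH AG
  have hwl : pf ≫ ql = ra ≫ ql := by
    rw [hpf, hra, hql]
    exact congrArg CommaMorphism.left hw
  have hψ : Spec.map (CommRingCat.ofHom (GLin.coactAlgHom k AH AG).toRingHom) ≫ ql =
      Spec.map (CommRingCat.ofHom
        (Algebra.TensorProduct.includeLeftRingHom : AG →+* AG ⊗[k] AH)) ≫ ql := by
    rw [hpf', hra', Category.assoc, Category.assoc] at hwl
    exact ((cancel_epi _).mp hwl).symm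
  -- the map to `Spec` of the invariants
  let g : CoactBr.sp k AG ⟶ CoactBr.sp k (GLin.invariants k AH AG) :=
    CoactBr.pt (GLin.invariants k AH AG).val
  obtain ⟨gl, hgl⟩ : ∃ gl : Spec (CommRingCat.of AG) ⟶
      Spec (CommRingCat.of (GLin.invariants k AH AG)), gl = g.left := ⟨_, rfl⟩
  have hgl' : gl = Spec.map (CommRingCat.ofHom
      (algebraMap (GLin.invariants k AH AG) AG)) := by
    rw [hgl]
    rfl
  have h0 : ra ≫ gl = pf ≫ gl := by
    rw [hpf', hra', hgl', Category.assoc, Category.assoc, ← Spec.map_comp, ← Spec.map_comp]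
    congr 2
    ext c
    exact c.2
  have hg : fst (CoactBr.sp k AG) (CoactBr.sp k AH) ≫ g =
      ((CoactBr.sp k AG ◁ CoactBr.pt (ψ : AG →ₐ[k] AH)) ≫ μ[CoactBr.sp k AG]) ≫ g := by
    rw [whisker_mul_eq_ract ψ]
    apply Over.OverMorphism.ext
    rw [hpf, hra, hgl] at h0
    exact h0.symm
  obtain ⟨f, hf⟩ := exists_desc (CoactBr.pt (ψ : AG →ₐ[k] AH)) q hq g hg
  obtain ⟨fl, hfl⟩ : ∃ fl : Q.left ⟶ Spec (CommRingCat.of (GLin.invariants k AH AG)),
      fl = f.left := ⟨_, rfl⟩
  have hqf : ql ≫ fl = Spec.map (CommRingCat.ofHom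
      (algebraMap (GLin.invariants k AH AG) AG)) := by
    rw [← hgl', hgl, hql, hfl]
    exact congrArg CommaMorphism.left hf
  haveI := hq.1
  haveI := hq.2.1
  haveI := hq.2.2.1
  haveI : Epi ql := by
    rw [hql]
    have : EffectiveEpi q.left := inferInstance
    exact epi_of_effectiveEpi q.left
  exact isAffine_of_factor htame Q.left ql hψ fl hqf

end SchemeLevel

end Groth.Agent.Lib.T2H7.LinRedQuot
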