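import Mathlib

/-!
# The truncated logarithm polynomial and `(1+X)^j` (helper7)

`L_d = Σ_{n ≤ d} (-1)^n X^{n+1}/(n+1)` satisfies `L_d((1+X)^j - 1) ≡ j L_d` modulo `X^{d+1}`.
-/

set_option autoImplicit false

noncomputable section

namespace Groth.Agent.Lib.T2H7.LogPoly

open Polynomial Finset

/-- The truncated logarithm `Σ_{n ≤ d} (-1)^n X^{n+1}/(n+1)`. -/
def logP (d : ℕ) : ℚ[X] := ∑ n ∈ range (d + 1), C ((-1 : ℚ) ^ n / ((n : ℚ) + 1)) * X ^ (n + 1)

/-- `(1+X)^j - 1`. -/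
def qP (j : ℕ) : ℚ[X] := (1 + X) ^ j - 1

theorem derivative_logP (d : ℕ) :
    derivative (logP d) = ∑ n ∈ range (d + 1), (-X : ℚ[X]) ^ n := by
  rw [logP, derivative_sum]
  refine sum_congr rfl fun n _ => ?_
  rw [derivative_C_mul_X_pow]
  have hn : ((n : ℚ) + 1) ≠ 0 := by positivity
  have hc : ((-1 : ℚ) ^ n / ((n : ℚ) + 1) * ((n + 1 : ℕ) : ℚ)) = (-1 : ℚ) ^ n := by
    push_cast
    field_simp
  rw [hc, Nat.add_sub_cancel, neg_pow (X : ℚ[X]) n, C_pow, C_neg, C_1]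

theorem one_add_mul_derivative_logP (d : ℕ) :
    (1 + X) * derivative (logP d) = 1 - (-X : ℚ[X]) ^ (d + 1) := by
  rw [derivative_logP]
  have h := mul_neg_geom_sum (-X : ℚ[X]) (d + 1)
  rw [sub_neg_eq_add] at h
  rw [← h]

theorem X_dvd_qP (j : ℕ) : (X : ℚ[X]) ∣ qP j := by
  rw [qP, Polynomial.X_dvd_iff]
  simp [coeff_zero_eq_eval_zero]

theorem key (d j : ℕ) :
    (X : ℚ[X]) ^ (d + 1) ∣ (logP d).comp (qP j) - C (j : ℚ) * logP d := by
  set R := (logP d).comp (qP j) - C (j : ℚ) * logP d with hR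
  set A := derivative (logP d) with hA
  have hA1 : (1 + X) * A = 1 - (-X : ℚ[X]) ^ (d + 1) := one_add_mul_derivative_logP d
  have hA2 : (1 + qP j) * A.comp (qP j) = 1 - (-(qP j)) ^ (d + 1) := by
    have := congrArg (fun p : ℚ[X] => p.comp (qP j)) hA1
    simpa using this
  have hq1 : 1 + qP j = (1 + X) ^ j := by rw [qP]; ring
  have hDq : derivative (qP j) = C (j : ℚ) * (1 + X) ^ (j - 1) := by
    rw [qP, derivative_sub, derivative_one, sub_zero, derivative_pow, derivative_add,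
      derivative_one, derivative_X]
    simp
  have hDR : derivative R = A.comp (qP j) * derivative (qP j) - C (j : ℚ) * A := by
    rw [hR, derivative_sub, derivative_comp, derivative_C_mul, mul_comm]
  -- `(1+X)^j * R' = j (1+X)^(j-1) * ((-X)^(d+1) - (-q)^(d+1))`
  have hmain : (1 + X) ^ j * derivative R =
      C (j : ℚ) * (1 + X) ^ (j - 1) * ((-X : ℚ[X]) ^ (d + 1) - (-(qP j)) ^ (d + 1)) := by
    rcases j with _ | j
    · simp [hDR, hDq]
    · rw [hDR, hDq]
      simp only [Nat.add_sub_cancel]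
      have hq1' : (1 + qP (j + 1)) = (1 + X) * (1 + X) ^ j := by rw [hq1]; ring
      have e1 : (1 + X : ℚ[X]) ^ (j + 1) = (1 + X) * (1 + X) ^ j := by ring
      rw [hq1'] at hA2
      rw [e1]
      linear_combination (C ((j + 1 : ℕ) : ℚ) * (1 + X) ^ j) * hA2 -
        (C ((j + 1 : ℕ) : ℚ) * (1 + X) ^ j) * hA1
  have hdvd1 : (X : ℚ[X]) ^ (d + 1) ∣ (1 + X) ^ j * derivative R := by
    rw [hmain]
    apply Dvd.dvd.mul_left
    apply dvd_sub
    · rw [neg_pow]; exact Dvd.intro_left _ rfl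
    · rw [neg_pow]
      exact Dvd.dvd.mul_left (pow_dvd_pow_of_dvd (X_dvd_qP j) (d + 1)) _
  have hcop : IsCoprime ((X : ℚ[X]) ^ (d + 1)) ((1 + X) ^ j) := by
    apply IsCoprime.pow
    exact ⟨-1, 1, by ring⟩
  have hdvd2 : (X : ℚ[X]) ^ (d + 1) ∣ derivative R := hcop.dvd_of_dvd_mul_left hdvd1
  rw [Polynomial.X_pow_dvd_iff] at hdvd2 ⊢
  intro k hk
  rcases k with _ | k
  · rw [hR, coeff_zero_eq_eval_zero, eval_sub, eval_comp, eval_mul, eval_C]
    have h0 : eval 0 (qP j) = 0 := by simp [qP]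
    have h1 : eval 0 (logP d) = 0 := by
      rw [logP, eval_finsetSum]
      exact sum_eq_zero fun n _ => by simp
    rw [h0, h1, mul_zero, sub_zero]
  · have := hdvd2 k (by omega)
    rw [coeff_derivative] at this
    have hk0 : ((k : ℚ) + 1) ≠ 0 := by positivity
    exact (mul_eq_zero.mp this).resolve_right hk0

end Groth.Agent.Lib.T2H7.LogPoly
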