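import Mathlib
import Groth.Agent.Lib.T2H7FinLocus
import Groth.Agent.Lib.T2H7FinLocusB
import Groth.Agent.Lib.T2H7KerPairGrpd
import Groth.Agent.Lib.T2H1IrrFlat2
import Groth.Agent.Lib.Helper4GenFinite3
import Groth.Agent.Lib.Helper12OpenSub
import Groth.Agent.Lib.Helper12OpenSub2
import Groth.Agent.S2080
import Groth.Agent.S10176
import Groth.Agent.S10177
import Groth.Agent.S10197
import Groth.Agent.S10265
import Groth.Agent.S10509

/-!
# helper7: algebraic spaces locally quasi-finite over a field

`exists_iso_yon_artinian`: an algebraic space locally quasi-finite over a field `k` is a scheme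
whose points are open, with affine open neighbourhoods which are spectra of Artinian local rings
finite over `k`.
-/

set_option autoImplicit false
set_option linter.unusedSectionVars false
set_option linter.unusedVariables false
set_option linter.style.haveILetI false
universe u
open CategoryTheory CategoryTheory.Limits AlgebraicGeometry Opposite
open AlgSp

namespace Groth.Agent.Lib.T2H7.LqfField

variable {k : Type u} [Field k]

/-- a scheme locally quasi-finite over a field is discrete. -/
theorem discreteTopology_of_lqf {W : Scheme.{u}} (g : W ⟶ Spec (CommRingCat.of k))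
    [LocallyQuasiFinite g] : DiscreteTopology W := by
  haveI : Unique ↥(Spec (CommRingCat.of k)) := inferInstanceAs (Unique (PrimeSpectrum k))
  rw [← isDiscrete_univ_iff]
  have h := g.isDiscrete_preimage_singleton (default : ↥(Spec (CommRingCat.of k)))
  have e : g ⁻¹' {(default : ↥(Spec (CommRingCat.of k)))} = Set.univ := by
    ext w
    simp only [Set.mem_preimage, Set.mem_singleton_iff, Set.mem_univ, iff_true]
    exact Subsingleton.elim _ _
  rwa [e] at h

/-- a morphism from an affine scheme to the spectrum of a field which is locally of finite type and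
has a finite source is finite. -/
theorem isFinite_of_finite {V : Scheme.{u}} [IsAffine V] (g : V ⟶ Spec (CommRingCat.of k))
    [LocallyOfFiniteType g] [Finite V] : IsFinite g := by
  haveI : Unique ↥(Spec (CommRingCat.of k)) := inferInstanceAs (Unique (PrimeSpectrum k))
  haveI : IrreducibleSpace ↥(Spec (CommRingCat.of k)) :=
    inferInstanceAs (IrreducibleSpace (PrimeSpectrum k))
  haveI : QuasiCompact g := quasiCompact_of_compactSpace _
  let η : ↥(Spec (CommRingCat.of k)) := default
  have hη : closure ({η} : Set ↥(Spec (CommRingCat.of k))) ∈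
      irreducibleComponents ↥(Spec (CommRingCat.of k)) := by
    rw [irreducibleComponents_eq_singleton]
    have : closure ({η} : Set ↥(Spec (CommRingCat.of k))) = Set.univ := by
      ext z
      simp only [Set.mem_univ, iff_true]
      rw [Subsingleton.elim z η]
      exact subset_closure rfl
    rw [this]
    rfl
  obtain ⟨V', -, hηV', hfin⟩ := (Groth.Agent.S2080.result g η hη).1 (Set.toFinite _)
  have hV' : V' = ⊤ := by
    ext z
    simp only [TopologicalSpace.Opens.coe_top, Set.mem_univ, iff_true]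
    rw [Subsingleton.elim z η]
    exact hηV'
  rw [hV'] at hfin
  exact (IsZariskiLocalAtTarget.iff_of_iSup_eq_top (P := @IsFinite) (f := g)
    (fun _ : Unit => (⊤ : (Spec (CommRingCat.of k)).Opens)) (by simp)).2 (fun _ => hfin)

variable (X : AlgSp.Space (Spec (CommRingCat.of k)))
  (p : X.obj ⟶ (AlgSp.yon (Spec (CommRingCat.of k))).obj (Over.mk (𝟙 _)))

/-- etale charts of a space locally quasi-finite over a field are locally quasi-finite and locally
of finite type over the field. -/
theorem chart_lqf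
    (hp : AlgSp.LocP (@LocallyQuasiFinite ⊓ @LocallyOfFiniteType : MorphismProperty Scheme.{u}) p)
    {W : Over (Spec (CommRingCat.of k))}
    (a : (AlgSp.yon (Spec (CommRingCat.of k))).obj W ⟶ X.obj) (ha : AlgSp.RepWith @Etale a) :
    LocallyQuasiFinite W.hom ∧ LocallyOfFiniteType W.hom := by
  obtain ⟨h, hh⟩ := (AlgSp.yon (Spec (CommRingCat.of k))).map_surjective (a ≫ p)
  have h1 := hp a (𝟙 _) h ha (AlgSp.repWith_id _ _) (by rw [hh, Category.comp_id])
  have e : h.left = W.hom := by
    have := Over.w h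
    simpa using this
  rw [e] at h1
  exact h1

theorem exists_iso_yon_artinian
    (hp : AlgSp.LocP (@LocallyQuasiFinite ⊓ @LocallyOfFiniteType : MorphismProperty Scheme.{u}) p) :
    ∃ (U : Over (Spec (CommRingCat.of k)))
      (_ : (AlgSp.yon (Spec (CommRingCat.of k))).obj U ≅ X.obj), DiscreteTopology ↥U.left ∧
      IsLocallyNoetherian U.left ∧ ∀ u : ↥U.left, ∃ V : U.left.Opens,
        u ∈ V ∧ IsAffineOpen V ∧ IsArtinianRing ↥Γ(U.left, V) ∧ IsLocalRing ↥Γ(U.left, V) ∧
          IsFinite (V.ι ≫ U.hom) := by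
  classical
  let S := Spec (CommRingCat.of k)
  obtain ⟨W, hWrep, hWmax⟩ := Groth.Agent.S10197.aux X
  have hall : ∀ x : AlgSp.Points X.obj, x ∈ (W : Set (AlgSp.Points X.obj)) := by
    intro x
    obtain ⟨W₀, a₀, he₀, hs₀⟩ := X.property.atlas
    obtain ⟨w₀, hw₀⟩ := Groth.Agent.S10177.surjective_ofPt a₀ hs₀ x
    obtain ⟨hlqf₀, hlft₀⟩ := chart_lqf X p hp a₀ he₀
    haveI := hlqf₀
    haveI : DiscreteTopology ↥W₀.left := discreteTopology_of_lqf W₀.hom
    obtain ⟨_, ⟨A₀, hA, rfl⟩, hw₀A, hAsub⟩ :=
      W₀.left.isBasis_affineOpens.exists_subset_of_mem_open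
        (show w₀ ∈ ({w₀} : Set ↥W₀.left) from rfl) (isOpen_discrete _)
    let A : W₀.left.Opens := A₀
    let U : Over S := Over.mk (A.ι ≫ W₀.hom)
    let ιA : U ⟶ W₀ := Over.homMk A.ι rfl
    haveI hUaff : IsAffine U.left := hA
    let q : (AlgSp.yon S).obj U ⟶ X.obj := (AlgSp.yon S).map ιA ≫ a₀
    have het : AlgSp.RepWith @Etale q :=
      (AlgSp.RepWith @Etale).comp_mem _ _
        ((AlgSp.repWith_yon_map_iff @Etale ιA).2 (inferInstanceAs (Etale A.ι))) he₀
    have hUsub : ∀ u u' : ↥U.left, u = u' := by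
      intro u u'
      apply Subtype.ext
      have h1 : u.1 ∈ ({w₀} : Set ↥W₀.left) := hAsub u.2
      have h2 : u'.1 ∈ ({w₀} : Set ↥W₀.left) := hAsub u'.2
      rw [Set.mem_singleton_iff] at h1 h2
      rw [h1, h2]
    haveI : Subsingleton ↥U.left := ⟨hUsub⟩
    obtain ⟨hlqfU, hlftU⟩ := chart_lqf X p hp q het
    haveI := hlqfU
    -- the kernel pair
    obtain ⟨R, s, t', sq⟩ := het.1 q
    obtain ⟨t, rfl⟩ := (AlgSp.yon S).map_surjective t'
    haveI hset : Etale s.left := het.2 q _ s sq
    have hc : t.left ≫ U.hom = s.left ≫ U.hom := (Over.w t).trans (Over.w s).symm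
    let m : R.left ⟶ pullback U.hom U.hom := pullback.lift t.left s.left hc
    have hm1 : m ≫ pullback.fst U.hom U.hom = t.left := pullback.lift_fst _ _ _
    have hm2 : m ≫ pullback.snd U.hom U.hom = s.left := pullback.lift_snd _ _ _
    haveI : Mono m := ⟨fun α β h =>
      Groth.Agent.Lib.T2H7.KerPairGrpd.hom_ext_left sq α β
        (by rw [← hm1, ← Category.assoc, h, Category.assoc])
        (by rw [← hm2, ← Category.assoc, h, Category.assoc])⟩
    haveI : IsSeparated s.left := by
      rw [← hm2]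
      infer_instance
    haveI : QuasiCompact U.hom := quasiCompact_of_compactSpace _
    haveI : Finite ↥(pullback U.hom U.hom) := by
      have h1 : ((pullback.fst U.hom U.hom) ⁻¹' {(⟨w₀, hw₀A⟩ : ↥U.left)}).Finite :=
        Scheme.Hom.finite_preimage_singleton (pullback.fst U.hom U.hom) _
      have h2 : (pullback.fst U.hom U.hom) ⁻¹' {(⟨w₀, hw₀A⟩ : ↥U.left)} = Set.univ := by
        ext z
        simp only [Set.mem_preimage, Set.mem_univ, iff_true]
        exact Subsingleton.elim _ _
      rw [h2] at h1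
      exact Set.finite_univ_iff.1 h1
    haveI : Finite ↥R.left := Finite.of_injective _ m.injective
    haveI : QuasiCompact s.left := quasiCompact_of_compactSpace _
    haveI : LocallyQuasiFinite s.left := Groth.Agent.S10265.locallyQuasiFinite_of_unramified _
    -- the finite locus
    let 𝒱 := {V : U.left.Opens // IsFinite (s.left ∣_ V)}
    let Wf : U.left.Opens := ⨆ V : 𝒱, V.1
    have hWfin : IsFinite (s.left ∣_ Wf) :=
      Groth.Agent.Lib.Helper4.GenFinite.isFinite_morphismRestrict_iSup s.left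
        (fun V : 𝒱 => V.1) (fun V => V.2)
    have hgenW : ∀ η : ↥U.left, η ∈ Wf := by
      intro η
      have hη : closure ({η} : Set ↥U.left) ∈ irreducibleComponents ↥U.left := by
        obtain ⟨η', hη', hs⟩ := Groth.Agent.Lib.T2H7.FinLocus.exists_generic_specializes η
        rwa [Subsingleton.elim η η']
      obtain ⟨V, -, hηV, hVfin⟩ := (Groth.Agent.S2080.result s.left η hη).1
        (Scheme.Hom.finite_preimage_singleton s.left η)
      exact TopologicalSpace.Opens.mem_iSup.2 ⟨⟨V, hVfin⟩, hηV⟩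
    have hrep := Groth.Agent.Lib.T2H7.FinLocusB.isRepresentable_image_of_finite q het sq Wf hWfin
    have hNopen : IsOpen (AlgSp.Points.ofPt q '' (Wf : Set ↥U.left)) :=
      Groth.Agent.S10176.isOpenMap_ofPt q het _ Wf.2
    have hle := hWmax ⟨_, hNopen⟩ hrep
    apply hle
    refine ⟨⟨w₀, hw₀A⟩, hgenW _, ?_⟩
    exact (Groth.Agent.S10509.ofPt_yon_map_comp ιA a₀ _).trans hw₀
  have hid : AlgSp.RepWith @IsOpenImmersion (𝟙 X.obj) := (AlgSp.RepWith @IsOpenImmersion).id_mem _
  have hrange : Set.range (AlgSp.Points.map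
      (Groth.Agent.Lib.Helper12.OpenSub.incl X.obj (W : Set (AlgSp.Points X.obj)))) =
      Set.range (AlgSp.Points.map (𝟙 X.obj)) := by
    rw [Groth.Agent.Lib.Helper12.OpenSub.range_map_incl]
    ext x
    constructor
    · intro _
      exact ⟨x, AlgSp.Points.map_id x⟩
    · intro _
      exact hall x
  obtain ⟨e, -⟩ := Groth.Agent.Lib.Helper12.OpenSub.iso_of_range_eq
    (Groth.Agent.Lib.Helper12.OpenSub.incl X.obj (W : Set (AlgSp.Points X.obj)))
    (Groth.Agent.Lib.Helper12.OpenSub.repWith_incl W.2) (𝟙 X.obj) hid hrange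
  obtain ⟨U, ⟨r⟩⟩ := hWrep
  let E : (AlgSp.yon S).obj U ≅ X.obj := AlgSp.isoOfRepresentableBy r ≪≫ e
  have hEe : AlgSp.RepWith @Etale E.hom := MorphismProperty.of_isIso _ E.hom
  obtain ⟨hlqfU, hlftU⟩ := chart_lqf X p hp E.hom hEe
  haveI := hlqfU
  haveI := hlftU
  haveI hdisc : DiscreteTopology ↥U.left := discreteTopology_of_lqf U.hom
  haveI hLN : IsLocallyNoetherian U.left := LocallyOfFiniteType.isLocallyNoetherian U.hom
  haveI : IsLocallyArtinian U.left :=
    IsLocallyArtinian.of_isLocallyNoetherian_of_discreteTopology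
  refine ⟨U, E, hdisc, hLN, fun u => ?_⟩
  obtain ⟨_, ⟨V₀, hV, rfl⟩, huV, hVsub⟩ :=
    U.left.isBasis_affineOpens.exists_subset_of_mem_open
      (show u ∈ ({u} : Set ↥U.left) from rfl) (isOpen_discrete _)
  let V : U.left.Opens := V₀
  have hVaff : IsAffineOpen V := hV
  haveI : IsAffine (V : Scheme.{u}) := hVaff
  haveI : Subsingleton ↥(V : Scheme.{u}) := ⟨fun a b => by
    apply Subtype.ext
    have h1 : a.1 ∈ ({u} : Set ↥U.left) := hVsub a.2
    have h2 : b.1 ∈ ({u} : Set ↥U.left) := hVsub b.2
    rw [Set.mem_singleton_iff] at h1 h2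
    rw [h1, h2]⟩
  haveI : Finite ↥(V : Scheme.{u}) := Finite.of_subsingleton
  refine ⟨V, huV, hVaff, IsLocallyArtinian.isArtinianRing_presheaf_obj ⟨V, hVaff⟩, ?_,
    isFinite_of_finite (V.ι ≫ U.hom)⟩
  -- the ring of sections is local
  let φ := hVaff.isoSpec.hom.homeomorph
  haveI : Subsingleton (PrimeSpectrum ↥Γ(U.left, V)) := φ.symm.injective.subsingleton
  haveI : Subsingleton (MaximalSpectrum ↥Γ(U.left, V)) :=
    ⟨fun a b => MaximalSpectrum.toPrimeSpectrum_injective (Subsingleton.elim _ _)⟩
  haveI : Nonempty (MaximalSpectrum ↥Γ(U.left, V)) := by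
    let P : PrimeSpectrum ↥Γ(U.left, V) := φ ⟨u, huV⟩
    obtain ⟨M, hM, -⟩ := Ideal.exists_le_maximal P.asIdeal P.isPrime.ne_top
    exact ⟨⟨M, hM⟩⟩
  exact IsLocalRing.of_singleton_maximalSpectrum

end Groth.Agent.Lib.T2H7.LqfField
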