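import Groth.Agent.Lib.T2H7QtBcC

/-!
Maximal split subtori of a group of multiplicative type.
-/

set_option autoImplicit false
set_option linter.unusedSectionVars false
set_option linter.unusedVariables false
set_option linter.style.haveILetI false
universe u
open CategoryTheory CategoryTheory.Limits MonoidalCategory CartesianMonoidalCategory MonObj GrpObj
  AlgebraicGeometry

namespace Groth.Agent.Lib.T2H7.MaxSplit

open Groth.Agent.Lib.T2H3.MultGa Groth.Agent.Lib.Helper27.GaGm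
  Groth.Agent.Lib.T2H7.DiagDS Groth.Agent.Lib.T2H7.DiagHomA Groth.Agent.Lib.T2H7.DiagHomB
  Groth.Agent.Lib.T2H7.DiagHomE
  Groth.Agent.Lib.T2H7.GrpIsoBC Groth.Agent.Lib.T2H7.ToriMono Groth.Agent.Lib.T2H7.MtModel
  Groth.Agent.Lib.T2H7.MtLocus Groth.Agent.Lib.T2H7.QuotSplit Groth.Agent.Lib.T2H7.QtBc

section Basic

variable {S : Scheme.{u}}

theorem isMonHom_one' {G H : Over S} [GrpObj G] [GrpObj H] : IsMonHom (1 : G ⟶ H) := by
  rw [Hom.one_def]
  infer_instance

/-- every morphism out of `D_S(M)` with `M` trivial is a monomorphism. -/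
theorem mono_of_subsingleton {M : Type} [AddCommGroup M] [Subsingleton M] {G : Over S}
    (j : Red.DS S M ⟶ G) : Mono j := by
  refine ⟨fun {Y} x y _ => ?_⟩
  apply ds_ext'
  intro m
  have hm : m = 0 := Subsingleton.elim _ _
  rw [hm, sg_zero, dsFn_one, dsFn_one]

theorem exists_max (P : ℕ → Prop) (h0 : P 0) (n : ℕ) (hb : ∀ r, P r → r ≤ n) :
    ∃ r, P r ∧ ∀ r', P r' → r' ≤ r := by
  classical
  refine ⟨Nat.findGreatest P n, Nat.findGreatest_spec (Nat.zero_le n) h0, ?_⟩
  intro r' hr'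
  exact Nat.le_findGreatest (hb r' hr') hr'

end Basic

section Rank

variable {S : Scheme.{u}} {G : Over S} [GrpObj G]

/-- a split subtorus has rank at most the number of generators of the character group of a
fibre. -/
theorem rank_le_of_point {Ω : Type u} [Field Ω] (t : Spec (CommRingCat.of Ω) ⟶ S) {N : Type}
    [AddCommGroup N] (eΩ : Red.bc t G ≅ Red.DS (Spec (CommRingCat.of Ω)) N) [IsMonHom eΩ.hom]
    (n : ℕ) (f : (Fin n → ℤ) →+ N) (hf : Function.Surjective f) {T : Over S} [GrpObj T]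
    (j : T ⟶ G) [IsMonHom j] [Mono j] (r : ℕ) (hT : Red.IsSplitTorusWith (Fin r → ℤ) T) :
    r ≤ n := by
  obtain ⟨e, hemon⟩ := (nonempty_grpIso_iff _ _).1 hT
  haveI := hemon
  haveI : (Over.pullback t).PreservesMonomorphisms :=
    Functor.preservesMonomorphisms_of_adjunction (Over.mapPullbackAdj t)
  obtain ⟨w, hw⟩ : ∃ w : Red.DS (Spec (CommRingCat.of Ω)) (Fin r → ℤ) ⟶
      Red.DS (Spec (CommRingCat.of Ω)) N,
      w = (cIso t (Fin r → ℤ)).inv ≫ (Over.pullback t).map (e.inv ≫ j) ≫ eΩ.hom := ⟨_, rfl⟩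
  haveI : IsMonHom w := by rw [hw]; infer_instance
  haveI : Mono w := by rw [hw]; infer_instance
  obtain ⟨ψ, hψ⟩ := exists_addHom (field_hconn (Ω := Ω)) w
  have hsurj : Function.Surjective ψ := surj_of_mono ψ w hψ
  exact le_of_surj (ψ.comp f) (hsurj.comp hf)

/-- the character group of a fibre is finitely generated. -/
theorem exists_field_point_fg (hH : SGA3x.IsMultTypeFT G) [Nonempty S] :
    ∃ (Ω : Type u) (_ : Field Ω) (t : Spec (CommRingCat.of Ω) ⟶ S) (N : Type)
      (_ : AddCommGroup N) (eΩ : Red.bc t G ≅ Red.DS (Spec (CommRingCat.of Ω)) N),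
      IsMonHom eΩ.hom ∧ AddGroup.FG N := by
  obtain ⟨S₁, f₁, hfl, hsj, hcov, hloc⟩ := hH
  obtain ⟨s₀⟩ := ‹Nonempty S›
  obtain ⟨s₁, hs₁⟩ := hsj.surj s₀
  obtain ⟨U, hU, N, instN, hfg, he⟩ := hloc s₁
  obtain ⟨g, hg⟩ : ∃ g : U.toScheme ⟶ S, g = U.ι ≫ f₁ := ⟨_, rfl⟩
  let z : U.toScheme := ⟨s₁, hU⟩
  have hsplit : Red.IsSplitTorusWith N (Red.bc (U.toScheme.fromSpecResidueField z ≫ g) G) := by
    refine split_of_comp (U.toScheme.fromSpecResidueField z) g rfl G N ?_
    rw [hg]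
    exact he
  obtain ⟨eΩ, heΩ⟩ := (nonempty_grpIso_iff _ _).1 hsplit
  exact ⟨↑(U.toScheme.residueField z), inferInstance, U.toScheme.fromSpecResidueField z ≫ g,
    N, instN, eΩ, heΩ, hfg⟩

theorem exists_fin_surj (N : Type) [AddCommGroup N] [AddGroup.FG N] :
    ∃ (n : ℕ) (f : (Fin n → ℤ) →+ N), Function.Surjective f := by
  haveI : Module.Finite ℤ N := Module.Finite.iff_addGroup_fg.mpr inferInstance
  obtain ⟨n, f, hf⟩ := Module.Finite.exists_fin' ℤ N
  exact ⟨n, f.toAddMonoidHom, hf⟩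

end Rank


section Main

variable {S : Scheme.{u}} {G : Over S} [GrpObj G]

theorem split_bc {S' : Scheme.{u}} (p : S' ⟶ S) {T : Over S} [GrpObj T] {M : Type}
    [AddCommGroup M] (hT : Red.IsSplitTorusWith M T) : Red.IsSplitTorusWith M (Red.bc p T) := by
  obtain ⟨e₁⟩ := grpIso_bc p hT
  obtain ⟨e₂⟩ := bc_DS_grpIso p M
  exact ⟨e₁ ≪≫ e₂⟩

/-- a morphism through a monomorphic homomorphism is a homomorphism. -/
theorem isMonHom_of_mono_fac {T T' : Over S} [GrpObj T] [GrpObj T'] (j : T ⟶ G) [IsMonHom j]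
    (j' : T' ⟶ G) [IsMonHom j'] [Mono j'] (g : T ⟶ T') (hg : g ≫ j' = j) : IsMonHom g := by
  refine ⟨?_, ?_⟩
  · rw [← cancel_mono j', Category.assoc, hg, IsMonHom.one_hom j, IsMonHom.one_hom j']
  · rw [← cancel_mono j', Category.assoc, hg, IsMonHom.mul_hom j, Category.assoc,
      IsMonHom.mul_hom j', ← Category.assoc, tensorHom_comp_tensorHom, hg]

theorem isIso_of_split_same_rank {T T' : Over S} [GrpObj T] [GrpObj T'] (g : T ⟶ T')
    [IsMonHom g] [Mono g] (r : ℕ) (hT : Red.IsSplitTorusWith (Fin r → ℤ) T)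
    (hT' : Red.IsSplitTorusWith (Fin r → ℤ) T') : IsIso g := by
  refine OverDesc.isIso_of_openCover S.affineCover g fun i => ?_
  exact isIso_bc_of_split g _ (S.affineCover.f i) r (split_bc _ hT) (split_bc _ hT')

/-- **A group of multiplicative type has a maximal split subtorus.** -/
theorem exists_maximal_split (hG : SGA3x.IsMultTypeFT G) :
    ∃ (T : Over S) (_ : GrpObj T) (j : T ⟶ G) (r : ℕ), IsMonHom j ∧ Mono j ∧
      Red.IsSplitTorusWith (Fin r → ℤ) T ∧
      ∀ (T' : Over S) [GrpObj T'] (j' : T' ⟶ G) [IsMonHom j'] [Mono j'] (r' : ℕ) (g : T ⟶ T'),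
        Red.IsSplitTorusWith (Fin r' → ℤ) T' → g ≫ j' = j → IsIso g := by
  by_cases hS : Nonempty S
  · haveI := hS
    obtain ⟨Ω, instΩ, t, N, instN, eΩ, heΩ, hfg⟩ := exists_field_point_fg hG
    haveI := heΩ
    haveI := hfg
    obtain ⟨n, f, hf⟩ := exists_fin_surj N
    obtain ⟨P, hP⟩ : ∃ P : ℕ → Prop, P = fun r => ∃ (T : Over S) (_ : GrpObj T) (j : T ⟶ G),
        IsMonHom j ∧ Mono j ∧ Red.IsSplitTorusWith (Fin r → ℤ) T := ⟨_, rfl⟩
    have h0 : P 0 := by
      rw [hP]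
      exact ⟨Red.DS S (Fin 0 → ℤ), inferInstance, 1, isMonHom_one', mono_of_subsingleton _,
        ⟨Iso.refl _⟩⟩
    have hb : ∀ r, P r → r ≤ n := by
      intro r hr
      rw [hP] at hr
      obtain ⟨T, instT, j, hjm, hjmono, hT⟩ := hr
      exact rank_le_of_point t eΩ n f hf j r hT
    obtain ⟨r, hPr, hmax⟩ := exists_max P h0 n hb
    rw [hP] at hPr
    obtain ⟨T, instT, j, hjm, hjmono, hT⟩ := hPr
    refine ⟨T, instT, j, r, hjm, hjmono, hT, ?_⟩
    intro T' _ j' _ _ r' g hT' hg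
    have hr'r : r' ≤ r := hmax r' (by
      rw [hP]
      exact ⟨T', inferInstance, j', inferInstance, inferInstance, hT'⟩)
    haveI : Mono g := mono_of_mono_fac hg
    haveI : IsMonHom g := isMonHom_of_mono_fac j j' g hg
    -- the rank of `T` is at most the rank of `T'`
    have hrr' : r ≤ r' := by
      obtain ⟨s⟩ := hS
      obtain ⟨e', he'⟩ := (nonempty_grpIso_iff _ _).1
        (split_bc (S.fromSpecResidueField s) hT')
      haveI := he'
      exact rank_le_of_point (Ω := ↑(S.residueField s)) (S.fromSpecResidueField s) e' r'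
        (AddMonoidHom.id _) Function.surjective_id g r hT
    have hrr : r' = r := le_antisymm hr'r hrr'
    subst hrr
    exact isIso_of_split_same_rank g r' hT hT'
  · refine ⟨Red.DS S (Fin 0 → ℤ), inferInstance, 1, 0, isMonHom_one', mono_of_subsingleton _,
      ⟨Iso.refl _⟩, ?_⟩
    intro T' _ j' _ _ r' g hT' hg
    refine OverDesc.isIso_of_openCover S.affineCover g fun i => ?_
    exact absurd ⟨(i : S)⟩ hS

end Main

end Groth.Agent.Lib.T2H7.MaxSplit
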