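import Groth.Agent.Lib.T2H7ImgGlob

/-!
Power maps on group objects, and kernel ideal sheaves along flat jointly surjective families.
(Preparation for the maximal torus of a group of multiplicative type.)
-/

set_option autoImplicit false
set_option linter.unusedSectionVars false
set_option linter.unusedVariables false
set_option linter.style.haveILetI false
universe u
open CategoryTheory CategoryTheory.Limits MonoidalCategory CartesianMonoidalCategory MonObj GrpObj
  AlgebraicGeometry

namespace Groth.Agent.Lib.T2H7.MaxTorA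

open Groth.Agent.Lib.T2H7.DiagHomA Groth.Agent.Lib.T2H7.DiagHomB Groth.Agent.Lib.T2H3.MultGa
  Groth.Agent.Lib.Helper27.GaGm Groth.Agent.Lib.T2H7.SchImg

section Pw

variable {S : Scheme.{u}}

/-- the `n`-th power map of a group object. -/
noncomputable def pw (H : Over S) [GrpObj H] (n : ℕ) : H ⟶ H := (𝟙 H) ^ n

theorem pw_comp_hom {R H : Over S} [GrpObj R] [GrpObj H] (j : R ⟶ H) [IsMonHom j] (n : ℕ) :
    pw R n ≫ j = j ≫ pw H n := by
  unfold pw
  rw [MonObj.pow_comp, MonObj.comp_pow, Category.id_comp, Category.comp_id]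

theorem comp_pw {X H : Over S} [GrpObj H] (x : X ⟶ H) (n : ℕ) : x ≫ pw H n = x ^ n := by
  unfold pw
  rw [MonObj.comp_pow, Category.comp_id]

theorem map_pw {S' : Scheme.{u}} (g : S' ⟶ S) (H : Over S) [GrpObj H] (n : ℕ) :
    (Over.pullback g).map (pw H n) = pw (Red.bc g H) n := by
  unfold pw
  induction n with
  | zero => rw [pow_zero, pow_zero, Functor.map_one]
  | succ n ih => rw [pow_succ, pow_succ, Functor.map_mul, ih, CategoryTheory.Functor.map_id]

theorem pw_conj {H D : Over S} [GrpObj H] [GrpObj D] (e : H ≅ D) [IsMonHom e.hom] (n : ℕ) :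
    pw H n = e.hom ≫ pw D n ≫ e.inv := by
  rw [← Category.assoc, ← pw_comp_hom, Category.assoc, Iso.hom_inv_id, Category.comp_id]

theorem dsFn_pw (T : Scheme.{u}) (M : Type) [AddCommGroup M] (n : ℕ) (m : M) :
    dsFn (pw (Red.DS T M) n) (sg m) = chr T (n • m) := by
  unfold pw
  induction n with
  | zero => rw [pow_zero, dsFn_one_sg, zero_smul, chr_zero]
  | succ n ih =>
    rw [pow_succ, dsFn_mul_sg, ih, succ_nsmul, chr_add]
    rfl

end Pw

section Family

variable {X₀ H₀ : Scheme.{u}}

/-- kernel ideal sheaves can be tested on a flat jointly surjective family. -/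
theorem le_ker_of_flat_family (K : H₀.IdealSheafData) (x : X₀ ⟶ H₀) {J : Type u}
    (W : J → Scheme.{u}) (p : ∀ a, W a ⟶ X₀) [∀ a, Flat (p a)]
    (hsurj : ∀ z : X₀, ∃ (a : J) (w : W a), (p a) w = z)
    (h : ∀ a, K ≤ (p a ≫ x).ker) : K ≤ x.ker := by
  haveI hfl : Flat (Sigma.desc p) :=
    IsZariskiLocalAtSource.sigmaDesc (P := @Flat) (fun a => inferInstance)
  haveI hsj : Surjective (Sigma.desc p) := by
    refine ⟨fun z => ?_⟩
    obtain ⟨a, w, hw⟩ := hsurj z
    refine ⟨(Sigma.ι W a) w, ?_⟩
    rw [← Scheme.Hom.comp_apply, Sigma.ι_desc, hw]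
  haveI : IsSchemeTheoreticallyDominant (Sigma.desc p) := isSchDom_of_flat_surjective _
  rw [← ker_comp_of_isSchDom (Sigma.desc p) x]
  have hl : ∀ a, ∃ l : W a ⟶ K.subscheme, l ≫ K.subschemeι = p a ≫ x := fun a =>
    ⟨IsClosedImmersion.lift K.subschemeι (p a ≫ x)
      (by rw [Scheme.IdealSheafData.ker_subschemeι]; exact h a),
      IsClosedImmersion.lift_fac _ _ _⟩
  choose l hl using hl
  have hfac : Sigma.desc p ≫ x = Sigma.desc l ≫ K.subschemeι := by
    apply Sigma.hom_ext
    intro a
    rw [← Category.assoc, Sigma.ι_desc, ← Category.assoc, Sigma.ι_desc, hl]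
  rw [hfac]
  calc K = K.subschemeι.ker := (Scheme.IdealSheafData.ker_subschemeι K).symm
    _ ≤ _ := Scheme.Hom.le_ker_comp _ _

/-- the same, for the family obtained by pulling back a flat jointly surjective family on the
base. -/
theorem le_ker_of_base_family {S₁ : Scheme.{u}} (X : Over S₁) (K : H₀.IdealSheafData)
    (x : X.left ⟶ H₀) {J : Type u} (Y : J → Scheme.{u}) (g : ∀ a, Y a ⟶ S₁) [∀ a, Flat (g a)]
    (hsurj : ∀ s : S₁, ∃ (a : J) (y : Y a), (g a) y = s)
    (h : ∀ a, K ≤ (pullback.fst X.hom (g a) ≫ x).ker) : K ≤ x.ker := by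
  refine le_ker_of_flat_family K x (fun a => pullback X.hom (g a))
    (fun a => pullback.fst X.hom (g a)) (fun z => ?_) h
  obtain ⟨a, y, hy⟩ := hsurj (X.hom z)
  obtain ⟨w, hw, -⟩ := Scheme.Pullback.exists_preimage_pullback z y hy.symm
  exact ⟨a, w, hw⟩

end Family

section Factor

variable {S : Scheme.{u}} {E G X : Over S}

/-- factoring through a closed immersion in `Over S` in terms of kernel ideal sheaves. -/
theorem factors_iff_ker_le (c : E ⟶ G) [IsClosedImmersion c.left] (x : X ⟶ G) :
    (∃ x' : X ⟶ E, x' ≫ c = x) ↔ c.left.ker ≤ x.left.ker := by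
  constructor
  · rintro ⟨x', rfl⟩
    rw [Over.comp_left]
    exact Scheme.Hom.le_ker_comp _ _
  · intro h
    refine ⟨Over.homMk (IsClosedImmersion.lift c.left x.left h) ?_, ?_⟩
    · rw [← Over.w c, ← Category.assoc, IsClosedImmersion.lift_fac, Over.w]
    · ext : 1
      exact IsClosedImmersion.lift_fac c.left x.left h

end Factor

section Charts

variable {S S' : Scheme.{u}} (f : S' ⟶ S) [Flat f] [Surjective f] (U : S' → S'.Opens)
  (hU : ∀ s', s' ∈ U s')

include hU in
/-- kernel ideal sheaves can be tested on the charts `U s' ⟶ S' ⟶ S`. -/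
theorem le_ker_of_charts {H₀ : Scheme.{u}} (X : Over S) (K : H₀.IdealSheafData)
    (x : X.left ⟶ H₀)
    (h : ∀ s' : S', K ≤ (pullback.fst X.hom ((U s').ι ≫ f) ≫ x).ker) : K ≤ x.ker := by
  refine le_ker_of_base_family X K x (fun s' : S' => ((U s' : S'.Opens) : Scheme.{u}))
    (fun s' => (U s').ι ≫ f) (fun s => ?_) h
  obtain ⟨s', hs'⟩ := f.surjective s
  refine ⟨s', ⟨s', hU s'⟩, ?_⟩
  rw [Scheme.Hom.comp_apply]
  exact hs'

variable {E G X : Over S}

/-- a factorisation through a closed immersion after base change gives an inequality of kernels. -/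
theorem ker_le_of_bc_factor {Y : Scheme.{u}} (g : Y ⟶ S) (c : E ⟶ G) (x : X ⟶ G)
    (x' : Red.bc g X ⟶ Red.bc g E)
    (hx' : x' ≫ (Over.pullback g).map c = (Over.pullback g).map x) :
    c.left.ker ≤ (pullback.fst X.hom g ≫ x.left).ker := by
  have h1 : pullback.fst X.hom g ≫ x.left =
      (x'.left ≫ pullback.fst E.hom g) ≫ c.left := by
    rw [← ActBC.pullback_map_left_fst g x, ← hx', Over.comp_left, Category.assoc,
      ActBC.pullback_map_left_fst g c, Category.assoc]
  rw [h1]
  exact Scheme.Hom.le_ker_comp _ _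

include hU in
/-- **factoring through a closed immersion can be tested on charts.** -/
theorem factors_of_charts (c : E ⟶ G) [IsClosedImmersion c.left] (x : X ⟶ G)
    (h : ∀ s' : S', ∃ x' : Red.bc ((U s').ι ≫ f) X ⟶ Red.bc ((U s').ι ≫ f) E,
      x' ≫ (Over.pullback ((U s').ι ≫ f)).map c = (Over.pullback ((U s').ι ≫ f)).map x) :
    ∃ x' : X ⟶ E, x' ≫ c = x := by
  rw [factors_iff_ker_le]
  refine le_ker_of_charts f U hU X _ _ (fun s' => ?_)
  obtain ⟨x', hx'⟩ := h s'
  exact ker_le_of_bc_factor _ c x x' hx'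

end Charts

section LiftBC

variable {S S₁ : Scheme.{u}} (g : S₁ ⟶ S) {E G : Over S}

/-- lifting a point of a base change through the base change of a closed immersion. -/
theorem exists_lift_bc (c : E ⟶ G) [IsClosedImmersion c.left] {R : Over S₁}
    (j : R ⟶ Red.bc g G) (h : c.left.ker ≤ (j.left ≫ pullback.fst G.hom g).ker) :
    ∃ f : R ⟶ Red.bc g E, f ≫ (Over.pullback g).map c = j := by
  obtain ⟨y', hy'⟩ : ∃ y' : R.left ⟶ E.left, y' ≫ c.left = j.left ≫ pullback.fst G.hom g :=
    ⟨IsClosedImmersion.lift c.left _ h, IsClosedImmersion.lift_fac _ _ _⟩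
  have hjw : j.left ≫ pullback.snd G.hom g = R.hom := Over.w j
  have hw : y' ≫ E.hom = R.hom ≫ g := by
    rw [← Over.w c, ← Category.assoc, hy', Category.assoc, pullback.condition, ← Category.assoc,
      hjw]
  refine ⟨Over.homMk (pullback.lift y' R.hom hw) (pullback.lift_snd _ _ _), ?_⟩
  apply Over.OverMorphism.ext
  apply pullback.hom_ext
  · rw [Over.comp_left, Category.assoc, ActBC.pullback_map_left_fst g c]
    change pullback.lift y' R.hom hw ≫ pullback.fst E.hom g ≫ c.left = _
    rw [← Category.assoc, pullback.lift_fst, hy']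
  · have h1 := Over.w (Over.homMk (pullback.lift y' R.hom hw) (pullback.lift_snd _ _ _) ≫
      (Over.pullback g).map c)
    exact h1.trans hjw.symm

end LiftBC

section MaxTor

variable {S : Scheme.{u}} (H : Over S) [GrpObj H]

/-- the ideal sheaf of the intersection of the scheme-theoretic images of the power maps. -/
noncomputable def torIdeal : H.left.IdealSheafData := ⨆ n : ℕ, (pw H (n + 1)).left.ker

/-- the intersection of the images of the power maps. -/
noncomputable def torObj : Over S := Over.mk ((torIdeal H).subschemeι ≫ H.hom)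

/-- its inclusion. -/
noncomputable def torInc : torObj H ⟶ H := Over.homMk (torIdeal H).subschemeι rfl

instance : IsClosedImmersion (torInc H).left :=
  inferInstanceAs (IsClosedImmersion (torIdeal H).subschemeι)

instance : Mono (torInc H) := by
  haveI : Mono (torInc H).left := inferInstance
  exact Over.mono_of_mono_left _

theorem ker_torInc : (torInc H).left.ker = torIdeal H :=
  Scheme.IdealSheafData.ker_subschemeι _

variable {H}

theorem factors_torInc_iff {X : Over S} (x : X ⟶ H) :
    (∃ x' : X ⟶ torObj H, x' ≫ torInc H = x) ↔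
      ∀ n : ℕ, (pw H (n + 1)).left.ker ≤ x.left.ker := by
  rw [factors_iff_ker_le, ker_torInc, torIdeal, iSup_le_iff]

/-- **every homomorphism from a group whose power maps are scheme-theoretically dominant factors
through `torObj`**, after any base change. -/
theorem exists_factor_bc {S₁ : Scheme.{u}} (g : S₁ ⟶ S) {R : Over S₁} [GrpObj R]
    (j : R ⟶ Red.bc g H) [IsMonHom j]
    (hdom : ∀ n : ℕ, IsSchemeTheoreticallyDominant (pw R (n + 1)).left) :
    ∃ f : R ⟶ Red.bc g (torObj H), f ≫ (Over.pullback g).map (torInc H) = j := by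
  refine exists_lift_bc g (torInc H) j ?_
  rw [ker_torInc, torIdeal, iSup_le_iff]
  intro n
  haveI := hdom n
  have hcomm : (pw R (n + 1)).left ≫ (j.left ≫ pullback.fst H.hom g) =
      (j.left ≫ pullback.fst H.hom g) ≫ (pw H (n + 1)).left := by
    have h1 : pw R (n + 1) ≫ j = j ≫ (Over.pullback g).map (pw H (n + 1)) := by
      rw [map_pw, pw_comp_hom]
    have h2 := congrArg (fun k => k.left ≫ pullback.fst H.hom g) h1
    simp only [Over.comp_left, Category.assoc] at h2
    rw [ActBC.pullback_map_left_fst g (pw H (n + 1))] at h2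
    exact h2
  rw [← ker_comp_of_isSchDom (pw R (n + 1)).left (j.left ≫ pullback.fst H.hom g), hcomm]
  exact Scheme.Hom.le_ker_comp _ _

end MaxTor

end Groth.Agent.Lib.T2H7.MaxTorA
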