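import Groth.Agent.Lib.T2H7MaxTorA

/-!
Local structure of the intersection of the images of the power maps of a group of multiplicative
type: over a chart where the group is `D(M)`, it is `D(M / torsion)`.
-/

set_option autoImplicit false
set_option linter.unusedSectionVars false
set_option linter.unusedVariables false
set_option linter.style.haveILetI false
universe u
open CategoryTheory CategoryTheory.Limits MonoidalCategory CartesianMonoidalCategory MonObj GrpObj
  AlgebraicGeometry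

namespace Groth.Agent.Lib.T2H7.MaxTorB

open Groth.Agent.Lib.T2H7.DiagHomA Groth.Agent.Lib.T2H7.DiagHomB Groth.Agent.Lib.T2H3.MultGa
  Groth.Agent.Lib.Helper27.GaGm Groth.Agent.Lib.T2H7.SchImg Groth.Agent.Lib.T2H7.MaxTorA
  Groth.Agent.Lib.T2H7.MtModel Groth.Agent.Lib.T2H7.MtLocus Groth.Agent.Lib.T2H7.ImgLoc
  Groth.Agent.Lib.T2H7.ImgGlob

section Alg

variable (M : Type) [AddCommGroup M]

/-- `M` modulo torsion. -/
abbrev Mbar : Type := M ⧸ Submodule.torsion ℤ M

/-- the projection onto `M` modulo torsion. -/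
noncomputable def pibar : M →+ Mbar M := (Submodule.mkQ (Submodule.torsion ℤ M)).toAddMonoidHom

theorem pibar_surjective : Function.Surjective (pibar M) := Submodule.mkQ_surjective _

variable {M}

theorem pibar_eq_zero_iff (m : M) : pibar M m = 0 ↔ m ∈ Submodule.torsion ℤ M :=
  Submodule.Quotient.mk_eq_zero _

theorem mem_torsion_of_nsmul {n : ℕ} (hn : 0 < n) {m : M} (h : n • m = 0) :
    m ∈ Submodule.torsion ℤ M := by
  rw [Submodule.mem_torsion_iff]
  refine ⟨⟨(n : ℤ), mem_nonZeroDivisors_of_ne_zero (by exact_mod_cast hn.ne')⟩, ?_⟩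
  show (n : ℤ) • m = 0
  rw [natCast_zsmul, h]

variable (M)

/-- the `n`-torsion subgroup. -/
abbrev Kn (n : ℕ) : AddSubgroup M := (nsmulAddMonoidHom n : M →+ M).ker

variable {M}

theorem mem_Kn {n : ℕ} {m : M} : m ∈ Kn M n ↔ n • m = 0 := AddMonoidHom.mem_ker

variable (M)

/-- `M → M / M[n]`. -/
noncomputable def piN (n : ℕ) : M →+ M ⧸ Kn M n := QuotientAddGroup.mk' _

theorem piN_surjective (n : ℕ) : Function.Surjective (piN M n) := QuotientAddGroup.mk'_surjective _

/-- `M / M[n] → M`, induced by multiplication by `n`. -/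
noncomputable def nuN (n : ℕ) : M ⧸ Kn M n →+ M :=
  QuotientAddGroup.kerLift (nsmulAddMonoidHom n : M →+ M)

theorem nuN_piN (n : ℕ) (m : M) : nuN M n (piN M n m) = n • m := rfl

theorem nuN_injective (n : ℕ) : Function.Injective (nuN M n) :=
  QuotientAddGroup.kerLift_injective _

/-- `M / M[n] → M / torsion` for `n > 0`. -/
noncomputable def rhoN (n : ℕ) (hn : 0 < n) : M ⧸ Kn M n →+ Mbar M :=
  QuotientAddGroup.lift (Kn M n) (pibar M) (fun m hm => by
    rw [AddMonoidHom.mem_ker, pibar_eq_zero_iff]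
    exact mem_torsion_of_nsmul hn (mem_Kn.1 hm))

theorem rhoN_piN (n : ℕ) (hn : 0 < n) (m : M) : rhoN M n hn (piN M n m) = pibar M m := rfl

/-- an exponent of the torsion subgroup. -/
theorem exists_exponent [AddGroup.FG M] :
    ∃ N : ℕ, 0 < N ∧ ∀ m ∈ Submodule.torsion ℤ M, N • m = 0 := by
  haveI : Module.Finite ℤ M := Module.Finite.iff_addGroup_fg.mpr ‹AddGroup.FG M›
  haveI : IsNoetherian ℤ M := isNoetherian_of_isNoetherianRing_of_finite ℤ M
  haveI : Module.Finite ℤ ↥(Submodule.torsion ℤ M) :=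
    Module.Finite.iff_fg.mpr (IsNoetherian.noetherian _)
  haveI : Finite ↥(Submodule.torsion ℤ M) :=
    Module.finite_of_fg_torsion _ Submodule.torsion_isTorsion
  refine ⟨Nat.card ↥(Submodule.torsion ℤ M), Nat.card_pos, fun m hm => ?_⟩
  have h := card_nsmul_eq_zero' (x := (⟨m, hm⟩ : ↥(Submodule.torsion ℤ M)))
  exact congrArg Subtype.val h

/-- `M / torsion → M`, induced by multiplication by an exponent of the torsion. -/
noncomputable def nubar (N : ℕ) (hN : ∀ m ∈ Submodule.torsion ℤ M, N • m = 0) : Mbar M →+ M :=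
  (Submodule.liftQ (Submodule.torsion ℤ M) (LinearMap.lsmul ℤ M (N : ℤ)) (fun m hm =>
    LinearMap.mem_ker.2 (by
      rw [LinearMap.lsmul_apply, natCast_zsmul]
      exact hN m hm))).toAddMonoidHom

theorem nubar_pibar (N : ℕ) (hN : ∀ m ∈ Submodule.torsion ℤ M, N • m = 0) (m : M) :
    nubar M N hN (pibar M m) = N • m := by
  have h : nubar M N hN (pibar M m) = (LinearMap.lsmul ℤ M (N : ℤ)) m := rfl
  rw [h, LinearMap.lsmul_apply, natCast_zsmul]

theorem nubar_injective (N : ℕ) (hN0 : 0 < N) (hN : ∀ m ∈ Submodule.torsion ℤ M, N • m = 0) :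
    Function.Injective (nubar M N hN) := by
  rw [injective_iff_map_eq_zero]
  intro x hx
  obtain ⟨m, rfl⟩ := pibar_surjective M x
  rw [nubar_pibar] at hx
  rw [pibar_eq_zero_iff]
  exact mem_torsion_of_nsmul hN0 hx

theorem exists_equiv_fin [AddGroup.FG M] : ∃ r : ℕ, Nonempty (Mbar M ≃+ (Fin r → ℤ)) := by
  haveI : Module.Finite ℤ M := Module.Finite.iff_addGroup_fg.mpr ‹AddGroup.FG M›
  obtain ⟨r, b⟩ := Module.basisOfFiniteTypeTorsionFree' (R := ℤ) (M := Mbar M)
  exact ⟨r, ⟨b.equivFun.toAddEquiv⟩⟩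

theorem fg_Mbar [AddGroup.FG M] : AddGroup.FG (Mbar M) := by
  haveI : Module.Finite ℤ M := Module.Finite.iff_addGroup_fg.mpr ‹AddGroup.FG M›
  exact Module.Finite.iff_addGroup_fg.mp inferInstance

end Alg

section DSLevel

variable {T : Scheme.{u}} {M N : Type} [AddCommGroup M] [AddCommGroup N]

/-- `D(ψ)` is a closed immersion when `ψ` is surjective (any base). -/
theorem closedImm_of_surj (ψ : M →+ N) (hψ : Function.Surjective ψ)
    (δ : Red.DS T N ⟶ Red.DS T M) (hδ : ∀ m, dsFn δ (sg m) = chr T (ψ m)) :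
    IsClosedImmersion δ.left := by
  obtain ⟨δ₀, -, hδ₀⟩ := exists_dsHom (T := Spec (CommRingCat.of (ULift.{u} ℤ))) ψ
  have h0 : IsClosedImmersion δ₀.left := isClosedImmersion_of_surj ψ hψ δ₀ hδ₀
  obtain ⟨p, hp⟩ : ∃ p : T ⟶ Spec (CommRingCat.of (ULift.{u} ℤ)),
      p = specULiftZIsTerminal.from T := ⟨_, rfl⟩
  have h1 := OverDescP.bc (@IsClosedImmersion) p δ₀ h0
  have e : δ = (cIso p N).inv ≫ (Over.pullback p).map δ₀ ≫ (cIso p M).hom := by
    apply ds_ext'
    intro m
    rw [hδ, dsFn_bc p ψ δ₀ hδ₀ m]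
  rw [e, Over.comp_left, Over.comp_left]
  haveI : IsIso (cIso p N).inv.left := inferInstanceAs (IsIso ((Over.forget _).map (cIso p N).inv))
  haveI : IsIso (cIso p M).hom.left := inferInstanceAs (IsIso ((Over.forget _).map (cIso p M).hom))
  rw [MorphismProperty.cancel_left_of_respectsIso (P := @IsClosedImmersion),
    MorphismProperty.cancel_right_of_respectsIso (P := @IsClosedImmersion)]
  exact h1

/-- a closed immersion in `Over T` is a monomorphism. -/
theorem mono_of_closedImm {A B : Over T} (c : A ⟶ B) (h : IsClosedImmersion c.left) : Mono c := by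
  haveI : Mono c.left := inferInstance
  exact Over.mono_of_mono_left c

end DSLevel

section Img

variable {S : Scheme.{u}} {P G : Over S}

theorem ker_imgInc (m : P ⟶ G) : (imgInc m).left.ker = m.left.ker :=
  Scheme.IdealSheafData.ker_subschemeι _

end Img

section Key

variable {S : Scheme.{u}} (H : Over S) [GrpObj H]

/-- the image of the `n`-th power map over a chart. -/
theorem exists_img_chart (n : ℕ) [QuasiCompact (pw H n).left] {Y : Scheme.{u}} (g : Y ⟶ S)
    [Flat g] (M : Type) [AddCommGroup M] (e : Red.bc g H ≅ Red.DS Y M) [IsMonHom e.hom]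
    {A : Type} [AddCommGroup A] (π : M →+ A) (hπ : Function.Surjective π) (ν : A →+ M)
    (hν : Function.Injective ν) (hνπ : ∀ m, ν (π m) = n • m)
    (c : Red.DS Y A ⟶ Red.DS Y M) (hc : ∀ m, dsFn c (sg m) = chr Y (π m)) :
    ∃ θ : Red.bc g (imgObj (pw H n)) ≅ Red.DS Y A,
      θ.hom ≫ c ≫ e.inv = (Over.pullback g).map (imgInc (pw H n)) := by
  obtain ⟨q, -, hq⟩ := exists_dsHom (T := Y) ν
  have hfac : q ≫ c = pw (Red.DS Y M) n := by
    apply ds_ext'
    intro m
    rw [dsFn_comp_of_chr q c π hc m, hq, hνπ, dsFn_pw]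
  have hqc : (e.hom ≫ q) ≫ c ≫ e.inv = (Over.pullback g).map (pw H n) := by
    rw [map_pw, pw_conj e n, Category.assoc, ← Category.assoc q, hfac]
  haveI : IsIso e.hom.left := inferInstanceAs (IsIso ((Over.forget _).map e.hom))
  haveI : IsIso e.inv.left := inferInstanceAs (IsIso ((Over.forget _).map e.inv))
  haveI : IsClosedImmersion c.left := closedImm_of_surj π hπ c hc
  haveI : IsClosedImmersion (c ≫ e.inv).left := by
    rw [Over.comp_left]
    infer_instance
  have hff := ff_of_inj ν hν q hq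
  haveI : Flat q.left := hff.1
  haveI : Surjective q.left := hff.2
  haveI : IsSchemeTheoreticallyDominant (e.hom ≫ q).left := by
    rw [Over.comp_left]
    haveI : Flat (e.hom.left ≫ q.left) := inferInstance
    haveI : Surjective (e.hom.left ≫ q.left) := inferInstance
    exact isSchDom_of_flat_surjective _
  exact exists_local_iso (pw H n) g (e.hom ≫ q) (c ≫ e.inv) hqc

/-- **Key lemma**: over a chart where `H ≅ D(M)`, `torObj H` is `D(M / torsion)`. -/
theorem key (hqc : ∀ n, QuasiCompact (pw H n).left) {Y : Scheme.{u}} (g : Y ⟶ S) [Flat g]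
    (M : Type) [AddCommGroup M] [AddGroup.FG M] (e : Red.bc g H ≅ Red.DS Y M) [IsMonHom e.hom]
    (c₀ : Red.DS Y (Mbar M) ⟶ Red.DS Y M) (hc₀ : ∀ m, dsFn c₀ (sg m) = chr Y (pibar M m)) :
    ∃ θ : Red.bc g (torObj H) ≅ Red.DS Y (Mbar M),
      θ.hom ≫ c₀ ≫ e.inv = (Over.pullback g).map (torInc H) := by
  obtain ⟨N, hN0, hN⟩ := exists_exponent M
  haveI := hqc N
  obtain ⟨θN, hθN⟩ := exists_img_chart H N g M e (pibar M) (pibar_surjective M) (nubar M N hN)
    (nubar_injective M N hN0 hN) (nubar_pibar M N hN) c₀ hc₀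
  have hc₀cl : IsClosedImmersion c₀.left :=
    closedImm_of_surj (pibar M) (pibar_surjective M) c₀ hc₀
  haveI : Mono c₀ := mono_of_closedImm c₀ hc₀cl
  haveI : Mono (c₀ ≫ e.inv) := mono_comp _ _
  obtain ⟨tN, htN⟩ : ∃ tN : torObj H ⟶ imgObj (pw H N), tN ≫ imgInc (pw H N) = torInc H := by
    rw [factors_iff_ker_le, ker_imgInc, ker_torInc]
    have h := le_iSup (fun n : ℕ => (pw H (n + 1)).left.ker) (N - 1)
    simp only [Nat.sub_add_cancel hN0] at h
    exact h
  obtain ⟨α, hα⟩ : ∃ α : Red.bc g (torObj H) ⟶ Red.DS Y (Mbar M),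
      α = (Over.pullback g).map tN ≫ θN.hom := ⟨_, rfl⟩
  have hαc : α ≫ c₀ ≫ e.inv = (Over.pullback g).map (torInc H) := by
    rw [hα, Category.assoc, hθN, ← Functor.map_comp, htN]
  obtain ⟨β, hβ⟩ : ∃ β : Red.DS Y (Mbar M) ⟶ Red.bc g (torObj H),
      β ≫ (Over.pullback g).map (torInc H) = c₀ ≫ e.inv := by
    refine exists_lift_bc g (torInc H) (c₀ ≫ e.inv) ?_
    rw [ker_torInc]
    refine iSup_le fun n => ?_
    haveI := hqc (n + 1)
    obtain ⟨cn, -, hcn⟩ := exists_dsHom (T := Y) (piN M (n + 1))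
    obtain ⟨θn, hθn⟩ := exists_img_chart H (n + 1) g M e (piN M (n + 1))
      (piN_surjective M (n + 1)) (nuN M (n + 1)) (nuN_injective M (n + 1)) (nuN_piN M (n + 1))
      cn hcn
    obtain ⟨lam, -, hlam⟩ := exists_dsHom (T := Y) (rhoN M (n + 1) (Nat.succ_pos n))
    have hc : c₀ = lam ≫ cn := by
      apply ds_ext'
      intro m
      rw [hc₀, dsFn_comp_of_chr lam cn (piN M (n + 1)) hcn m, hlam, rhoN_piN]
    have hfac : (lam ≫ θn.inv) ≫ (Over.pullback g).map (imgInc (pw H (n + 1))) =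
        c₀ ≫ e.inv := by
      rw [← hθn, Category.assoc, Iso.inv_hom_id_assoc, hc, Category.assoc]
    have h1 : (c₀ ≫ e.inv).left ≫ pullback.fst H.hom g =
        ((lam ≫ θn.inv).left ≫ pullback.fst (imgObj (pw H (n + 1))).hom g) ≫
          (imgInc (pw H (n + 1))).left := by
      rw [← hfac, Over.comp_left, Category.assoc, ActBC.pullback_map_left_fst g (imgInc _),
        Category.assoc]
    rw [h1, ← ker_imgInc]
    exact Scheme.Hom.le_ker_comp _ _
  haveI : Mono ((Over.pullback g).map (torInc H)) := inferInstance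
  refine ⟨⟨α, β, ?_, ?_⟩, hαc⟩
  · rw [← cancel_mono ((Over.pullback g).map (torInc H)), Category.assoc, hβ, hαc,
      Category.id_comp]
  · rw [← cancel_mono (c₀ ≫ e.inv), Category.assoc, hαc, hβ, Category.id_comp]

end Key

end Groth.Agent.Lib.T2H7.MaxTorB
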