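import Mathlib

/-!
# The spectrum of the quotient by a directed union of ideals is the limit of the spectra of the
quotients (helper7)
-/

set_option autoImplicit false
set_option linter.unusedSectionVars false
set_option linter.unusedVariables false
set_option linter.style.haveILetI false
universe u
open CategoryTheory CategoryTheory.Limits AlgebraicGeometry

namespace Groth.Agent.Lib.T2H7.QuotLim

variable (A : CommRingCat.{u})

/-- the closed subscheme of `Spec A` cut out by an ideal, as a scheme over `Spec A`. -/
noncomputable def quotOver (a : Ideal A) : Over (Spec A) :=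
  Over.mk (Spec.map (CommRingCat.ofHom (Ideal.Quotient.mk a)))

instance (a : Ideal A) : IsClosedImmersion (quotOver A a).hom :=
  IsClosedImmersion.spec_of_surjective _ Ideal.Quotient.mk_surjective

instance (a : Ideal A) : IsAffine (quotOver A a).left :=
  inferInstanceAs (IsAffine (Spec _))

variable {A}

theorem quotOver_hom_ext {a : Ideal A} {T : Over (Spec A)} (f g : T ⟶ quotOver A a) : f = g := by
  ext1
  rw [← cancel_mono (quotOver A a).hom, Over.w f, Over.w g]

/-- the inclusion of closed subschemes for an inclusion of ideals. -/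
noncomputable def quotOverMap {a b : Ideal A} (h : b ≤ a) : quotOver A a ⟶ quotOver A b :=
  Over.homMk (Spec.map (CommRingCat.ofHom (Ideal.Quotient.factor h))) (by
    show Spec.map _ ≫ Spec.map _ = Spec.map _
    rw [← Spec.map_comp, ← CommRingCat.ofHom_comp, Ideal.Quotient.factor_comp_mk])

theorem isClosedImmersion_quotOverMap {a b : Ideal A} (h : b ≤ a) :
    IsClosedImmersion (quotOverMap h).left :=
  IsClosedImmersion.spec_of_surjective
    (CommRingCat.ofHom (Ideal.Quotient.factor h)) (Ideal.Quotient.factor_surjective h)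

/-- the ring map classifying the structure morphism of a scheme over `Spec A`. -/
noncomputable def phi (T : Over (Spec A)) : A ⟶ Γ(T.left, ⊤) :=
  (Scheme.ΓSpecIso A).inv ≫ T.hom.appTop

theorem hom_eq (T : Over (Spec A)) : T.hom = T.left.toSpecΓ ≫ Spec.map (phi T) := by
  have h1 := Scheme.toSpecΓ_naturality T.hom
  have h2 := toSpecΓ_SpecMap_ΓSpecIso_inv A
  calc T.hom = T.hom ≫ (Spec A).toSpecΓ ≫ Spec.map (Scheme.ΓSpecIso A).inv := by
        rw [h2]
        exact (Category.comp_id _).symm
    _ = T.left.toSpecΓ ≫ Spec.map T.hom.appTop ≫ Spec.map (Scheme.ΓSpecIso A).inv := by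
        rw [← Category.assoc, h1, Category.assoc]
    _ = T.left.toSpecΓ ≫ Spec.map (phi T) := by
        rw [← Spec.map_comp]
        rfl

theorem exists_hom_quotOver (T : Over (Spec A)) (J : Ideal A) (hJ : ∀ x ∈ J, phi T x = 0) :
    Nonempty (T ⟶ quotOver A J) := by
  let ψ : A ⧸ J →+* Γ(T.left, ⊤) := Ideal.Quotient.lift J (phi T).hom hJ
  have hψ : CommRingCat.ofHom (Ideal.Quotient.mk J) ≫ CommRingCat.ofHom ψ = phi T := by
    ext x
    exact Ideal.Quotient.lift_mk J (phi T).hom hJ
  refine ⟨Over.homMk (T.left.toSpecΓ ≫ Spec.map (CommRingCat.ofHom ψ)) ?_⟩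
  show (T.left.toSpecΓ ≫ Spec.map (CommRingCat.ofHom ψ)) ≫
    Spec.map (CommRingCat.ofHom (Ideal.Quotient.mk J)) = T.hom
  rw [Category.assoc, ← Spec.map_comp, hψ, ← hom_eq]

theorem phi_eq_zero_of_hom (T : Over (Spec A)) (a : Ideal A) (m : T ⟶ quotOver A a) :
    ∀ x ∈ a, phi T x = 0 := by
  intro x hx
  have hw : m.left ≫ Spec.map (CommRingCat.ofHom (Ideal.Quotient.mk a)) = T.hom := Over.w m
  have h1 : phi T = CommRingCat.ofHom (Ideal.Quotient.mk a) ≫
      (Scheme.ΓSpecIso (CommRingCat.of (A ⧸ a))).inv ≫ m.left.appTop := by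
    unfold phi
    rw [← hw, Scheme.Hom.comp_appTop, ← Category.assoc, ← Category.assoc]
    congr 1
    exact (Scheme.ΓSpecIso_inv_naturality _).symm
  rw [h1]
  show ((Scheme.ΓSpecIso (CommRingCat.of (A ⧸ a))).inv ≫ m.left.appTop)
    (Ideal.Quotient.mk a x) = 0
  rw [Ideal.Quotient.eq_zero_iff_mem.2 hx, map_zero]

section chain

variable (c : Set (Ideal A))

/-- the system of closed subschemes attached to a set of ideals, ordered by reverse inclusion. -/
noncomputable def quotSys : (↥c)ᵒᵈ ⥤ Over (Spec A) where
  obj a := quotOver A (OrderDual.ofDual a).1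
  map {a b} h := quotOverMap (show (OrderDual.ofDual b).1 ≤ (OrderDual.ofDual a).1 from
    Subtype.coe_le_coe.2 (OrderDual.ofDual_le_ofDual.2 (leOfHom h)))
  map_id a := quotOver_hom_ext _ _
  map_comp f g := quotOver_hom_ext _ _

/-- the cone over the system with vertex the closed subscheme of the supremum. -/
noncomputable def quotCone : Cone (quotSys c) where
  pt := quotOver A (sSup c)
  π :=
    { app := fun a => quotOverMap (le_sSup (OrderDual.ofDual a).2)
      naturality := fun a b h => quotOver_hom_ext _ _ }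

/-- the cone is a limit cone, for a nonempty chain of ideals. -/
noncomputable def isLimitQuotCone (hne : c.Nonempty) (hc : IsChain (· ≤ ·) c) :
    IsLimit (quotCone c) := by
  have hdir : DirectedOn (· ≤ ·) c := hc.directedOn
  have hex : ∀ s : Cone (quotSys c), Nonempty (s.pt ⟶ quotOver A (sSup c)) := by
    intro s
    refine exists_hom_quotOver s.pt (sSup c) (fun x hx => ?_)
    obtain ⟨a, hac, hxa⟩ := (Submodule.mem_sSup_of_directed hne hdir).1 hx
    exact phi_eq_zero_of_hom s.pt a (s.π.app (OrderDual.toDual ⟨a, hac⟩)) x hxa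
  exact
    { lift := fun s => (hex s).some
      fac := fun s a => quotOver_hom_ext _ _
      uniq := fun s m hm => quotOver_hom_ext _ _ }

end chain

end Groth.Agent.Lib.T2H7.QuotLim
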