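import Mathlib
import Groth.Agent.Lib.T2H7StageAffE
import Groth.Agent.Lib.T2H7EvSep
import Groth.Agent.Lib.T2H7EvSepAbs
import Groth.Agent.Lib.Helper12LargestOpen
import Groth.Agent.S10184
import Groth.Agent.S10185

/-!
# A limit which is an affine scheme over an affine open of a quasi-separated base (helper7)
-/

set_option autoImplicit false
set_option linter.unusedSectionVars false
set_option linter.unusedVariables false
set_option linter.style.haveILetI false
universe u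
open CategoryTheory CategoryTheory.Limits AlgebraicGeometry
open AlgSp

namespace Groth.Agent.Lib.T2H7.StageAffG

open Groth.Agent.Lib.T2H7.BcSys

variable {S : Scheme.{u}}

/-- the source of a representable quasi-compact morphism to a quasi-compact sheaf is
quasi-compact. -/
theorem isQuasiCompactSp_of_repWith_quasiCompact {F' F : AlgSp.Sp S} (h : F' ⟶ F)
    (hh : AlgSp.RepWith @QuasiCompact h) (hF : AlgSp.IsQuasiCompactSp F) :
    AlgSp.IsQuasiCompactSp F' := by
  obtain ⟨A, p, hpe, hps, hA⟩ := hF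
  obtain ⟨A', k, yA, sq⟩ := hh.1 p
  haveI : QuasiCompact k.left := hh.2 _ _ k sq
  haveI : CompactSpace A.left := hA
  refine ⟨A', yA, ?_, ?_, QuasiCompact.compactSpace_of_compactSpace k.left⟩
  · exact MorphismProperty.of_isPullback (P := AlgSp.RepWith @Etale) sq.flip hpe
  · exact MorphismProperty.of_isPullback (P := AlgSp.RepWith @Surjective) sq.flip hps

/-- an algebraic space with a monomorphism to a quasi-separated algebraic space is
quasi-separated. -/
theorem isQuasiSeparatedSp_of_mono [QuasiSeparatedSpace S] (Y : AlgSp.Space S)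
    (hYqs : AlgSp.IsQuasiSeparatedSp Y.obj) {A : AlgSp.Sp S} (hA : AlgSp.IsAlgSpace A)
    (j : A ⟶ Y.obj) [Mono j] : AlgSp.IsQuasiSeparatedSp A := by
  refine Groth.Agent.S10184.result (⟨A, hA⟩ : AlgSp.Space S) ?_
  intro U V P a b fst snd hU hV sq
  haveI := hU
  haveI := hV
  exact Groth.Agent.S10185.result Y hYqs U V P (a ≫ j) (b ≫ j) fst snd
    (Groth.Agent.Lib.T2H7.EvSep.isPullback_comp_mono sq _)

section

variable {I : Type u} [SmallCategory I] [IsCofiltered I]

/-- **a limit which is an affine scheme mapping into an affine open of the quasi-separated base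
has affine stages.** -/
theorem eventually_affine_of_factors [QuasiSeparatedSpace S] (D : I ⥤ AlgSp.Sp S) (c : Cone D)
    (hD : ∀ i, AlgSp.IsAlgSpace (D.obj i))
    (hDa : ∀ (i j : I) (φ : i ⟶ j), AlgSp.IsAffineMor (D.map φ)) (hc : IsLimit c)
    (hqc : ∀ i, AlgSp.IsQuasiCompactSp (D.obj i)) (hqs : ∀ i, AlgSp.IsQuasiSeparatedSp (D.obj i))
    (T : Over S) (hT : IsAffine T.left) (e : (AlgSp.yon S).obj T ≅ c.pt)
    (Sa : Over S) (hSa : IsAffine Sa.left) [IsOpenImmersion Sa.hom] (σ : T ⟶ Sa) :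
    ∃ i₀ : I, ∀ (i : I) (_ : i ⟶ i₀), ∃ W : Over S, IsAffine W.left ∧
      Nonempty (D.obj i ≅ (AlgSp.yon S).obj W) := by
  haveI := hSa
  let yS : AlgSp.Sp S := (AlgSp.yon S).obj (Over.mk (𝟙 S))
  have hterm : IsTerminal yS := Groth.Agent.Lib.T2H7.EvSepAbs.isTerminalYonBase
  let sa : Sa ⟶ Over.mk (𝟙 S) := Over.homMk Sa.hom
  haveI : IsOpenImmersion sa.left := inferInstanceAs (IsOpenImmersion Sa.hom)
  haveI : QuasiCompact sa.left := inferInstanceAs (QuasiCompact Sa.hom)
  let v : (AlgSp.yon S).obj Sa ⟶ yS := (AlgSp.yon S).map sa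
  have hvo : AlgSp.RepWith @IsOpenImmersion v := (AlgSp.repWith_yon_map_iff _ _).2 inferInstance
  have hvq : AlgSp.RepWith @QuasiCompact v := (AlgSp.repWith_yon_map_iff _ _).2 inferInstance
  haveI hvm : Mono v := Groth.Agent.Lib.Helper12.LargestOpen.mono_of_open v hvo
  let t : D ⟶ (Functor.const I).obj yS :=
    { app := fun i => hterm.from _
      naturality := fun i j φ => hterm.hom_ext _ _ }
  let g : c.pt ⟶ yS := hterm.from _
  have hg : ∀ i, c.π.app i ≫ t.app i = g := fun i => hterm.hom_ext _ _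
  let D' : I ⥤ AlgSp.Sp S := Bs D t v
  let c' : Cone D' := Bc D t v c g hg
  have hc' : IsLimit c' := isLimitBc D t v c g hg hc
  have hySalg : AlgSp.IsAlgSpace yS := AlgSp.IsAlgSpace.yon_obj _
  have hSaalg : AlgSp.IsAlgSpace ((AlgSp.yon S).obj Sa) := AlgSp.IsAlgSpace.yon_obj Sa
  have hD' : ∀ i, AlgSp.IsAlgSpace (D'.obj i) := fun i =>
    Groth.Agent.S9874.isAlgSpace_of_isPullback hySalg.diag (hD i) hSaalg (isPullback_p D t v i)
  have hDa' : ∀ (i j : I) (φ : i ⟶ j), AlgSp.IsAffineMor (D'.map φ) := fun i j φ =>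
    Groth.Agent.Lib.T2H7.AffQcqs.isAffineMor_of_isPullback (isPullback_map D t v φ).flip
      (hDa i j φ)
  have hp1q : ∀ i, AlgSp.RepWith @QuasiCompact (p1 D t v i) := fun i =>
    MorphismProperty.of_isPullback (P := AlgSp.RepWith @QuasiCompact) (isPullback_p D t v i).flip
      hvq
  have hp1o : ∀ i, AlgSp.RepWith @IsOpenImmersion (p1 D t v i) := fun i =>
    MorphismProperty.of_isPullback (P := AlgSp.RepWith @IsOpenImmersion)
      (isPullback_p D t v i).flip hvo
  have hqc' : ∀ i, AlgSp.IsQuasiCompactSp (D'.obj i) := fun i =>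
    isQuasiCompactSp_of_repWith_quasiCompact (p1 D t v i) (hp1q i) (hqc i)
  have hqs' : ∀ i, AlgSp.IsQuasiSeparatedSp (D'.obj i) := fun i => by
    haveI : Mono (p1 D t v i) := Groth.Agent.Lib.Helper12.LargestOpen.mono_of_open _ (hp1o i)
    exact isQuasiSeparatedSp_of_mono ⟨D.obj i, hD i⟩ (hqs i) (hD' i) (p1 D t v i)
  let t' : D' ⟶ (Functor.const I).obj ((AlgSp.yon S).obj Sa) :=
    { app := fun i => p2 D t v i
      naturality := fun i j φ => by
        simp only [Functor.const_obj_obj, Functor.const_obj_map, Category.comp_id]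
        exact map_p2 D t v φ }
  -- the limit of the new system is still `T`
  have h0 : IsPullback (𝟙 ((AlgSp.yon S).obj T)) ((AlgSp.yon S).map σ)
      ((AlgSp.yon S).map σ ≫ v) v :=
    Groth.Agent.Lib.Helper12.LargestOpen.isPullback_id_of_mono _ v
  have h1 : IsPullback e.hom ((AlgSp.yon S).map σ) g v :=
    h0.of_iso (Iso.refl _) e (Iso.refl _) (Iso.refl _) (by simp) (by simp)
      (hterm.hom_ext _ _) (by simp)
  let e' : (AlgSp.yon S).obj T ≅ c'.pt := h1.isoPullback
  have he'1 : e'.hom ≫ q1 D t v c g hg = e.hom := h1.isoPullback_hom_fst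
  obtain ⟨i₁, H₁⟩ := Groth.Agent.Lib.T2H7.StageAffD.eventually_affine_stage D' c' hD' hDa' hc'
    hqc' hqs' Sa hSa t' T hT e'
  -- the open subspaces `D' i` of `D i` are eventually everything
  haveI hq1iso : IsIso (q1 D t v c g hg) := by
    have e1 : q1 D t v c g hg = e'.inv ≫ e.hom := by rw [← he'1, e'.inv_hom_id_assoc]
    rw [e1]
    infer_instance
  have hp1lfp : AlgSp.LocP @LocallyOfFinitePresentation (p1 D t v i₁) := by
    have hpe : AlgSp.RepWith @Etale (p1 D t v i₁) :=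
      Groth.Agent.Lib.Helper12.OpenSub.repWith_mono
        (fun _ _ g hg => by haveI : IsOpenImmersion g := hg; infer_instance) (hp1o i₁)
    have h := (Groth.Agent.S9948.result @Etale (.inr (.inr (.inr (.inr (.inl rfl)))))
      (X := ⟨D'.obj i₁, hD' i₁⟩) (Y := ⟨D.obj i₁, hD i₁⟩)
      (ObjectProperty.homMk (p1 D t v i₁)) hpe.1).2 hpe
    intro U V a b h' ha hb comm
    have := h a b h' ha hb comm
    infer_instance
  have hYsq : IsPullback (c.π.app i₁) (𝟙 c.pt) (𝟙 (D.obj i₁)) (c.π.app i₁) :=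
    IsPullback.id_vert _
  obtain ⟨i₂, φ₂, H₂⟩ := Groth.Agent.S10021.result S D hD hDa c hc i₁ (hqc i₁) (hqs i₁)
    ⟨D'.obj i₁, hD' i₁⟩ ⟨D.obj i₁, hD i₁⟩ (p1 D t v i₁) (𝟙 _) (hqc' i₁) (hqs' i₁) (hqc i₁)
    (hqs i₁) c'.pt c.pt (q1 D t v c g hg) (c.π.app i₁) (𝟙 _) hYsq (c'.π.app i₁)
    (isPullback_π D t v c g hg i₁) hp1lfp
  have hYi : IsPullback (D.map φ₂) (𝟙 (D.obj i₂)) (𝟙 (D.obj i₁)) (D.map φ₂) :=
    IsPullback.id_vert _
  haveI hiso₂ : IsIso (p1 D t v i₂) :=
    H₂ _ _ (p1 D t v i₂) (D.map φ₂) (𝟙 _) hYi (D'.map φ₂) (isPullback_map D t v φ₂)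
  obtain ⟨W, hW, ⟨q⟩⟩ := H₁ i₂ φ₂
  have hi₂ : D.obj i₂ ≅ (AlgSp.yon S).obj W := (asIso (p1 D t v i₂)).symm ≪≫ q
  exact ⟨i₂, fun i φ => Groth.Agent.Lib.T2H7.StageAffD.exists_affine_of_isAffineMor (D.map φ)
    (hDa i i₂ φ) hW hi₂⟩

end

end Groth.Agent.Lib.T2H7.StageAffG
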