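import Mathlib
import Groth.Agent.Lib.T2H7StageAffG
import Groth.Agent.Lib.T2H7QcOpen

/-!
# Points of a limit which is a scheme have affine open neighbourhoods in a stage (helper7)
-/

set_option autoImplicit false
set_option linter.unusedSectionVars false
set_option linter.unusedVariables false
set_option linter.style.haveILetI false
universe u
open CategoryTheory CategoryTheory.Limits AlgebraicGeometry
open AlgSp

namespace Groth.Agent.Lib.T2H7.StageAffH

open Groth.Agent.Lib.T2H7.BcSys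

variable {S : Scheme.{u}}

/-- an affine open neighbourhood of a point of a scheme over `S` mapping into an affine open of
`S`. -/
theorem exists_affine_nbhd_over (T : Over S) (x : T.left) :
    ∃ (Tx Sa : Over S) (ιx : Tx ⟶ T) (σ : Tx ⟶ Sa), IsAffine Tx.left ∧ IsAffine Sa.left ∧
      IsOpenImmersion Sa.hom ∧ IsOpenImmersion ιx.left ∧ x ∈ Set.range ιx.left := by
  obtain ⟨a, y, hy⟩ := S.affineCover.exists_eq (T.hom x)
  let Sa : Over S := Over.mk (S.affineCover.f a)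
  let Ua : T.left.Opens := T.hom ⁻¹ᵁ (S.affineCover.f a).opensRange
  have hxUa : x ∈ Ua := ⟨y, hy⟩
  obtain ⟨V', hV', hxV', hVU'⟩ :=
    (TopologicalSpace.Opens.isBasis_iff_nbhd.mp T.left.isBasis_affineOpens) hxUa
  let V : T.left.Opens := V'
  have hV : IsAffineOpen V := hV'
  have hxV : x ∈ V := hxV'
  have hVU : V ≤ Ua := hVU'
  let Tx : Over S := Over.mk (V.ι ≫ T.hom)
  let ιx : Tx ⟶ T := Over.homMk V.ι rfl
  have hrange : Set.range (V.ι ≫ T.hom) ⊆ Set.range (S.affineCover.f a) := by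
    rintro _ ⟨z, rfl⟩
    have hz : V.ι z ∈ Ua := hVU (by simp)
    rw [Scheme.Hom.comp_apply]
    exact hz
  let σl : Tx.left ⟶ Sa.left := IsOpenImmersion.lift (S.affineCover.f a) (V.ι ≫ T.hom) hrange
  have hσl : σl ≫ S.affineCover.f a = V.ι ≫ T.hom := IsOpenImmersion.lift_fac _ _ _
  let σ : Tx ⟶ Sa := Over.homMk σl hσl
  refine ⟨Tx, Sa, ιx, σ, hV, ?_, ?_, ?_, ?_⟩
  · exact inferInstanceAs (IsAffine (S.affineCover.X a))
  · exact inferInstanceAs (IsOpenImmersion (S.affineCover.f a))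
  · exact inferInstanceAs (IsOpenImmersion V.ι)
  · exact ⟨⟨x, hxV⟩, rfl⟩

section

variable {I : Type u} [SmallCategory I] [IsCofiltered I]

/-- **every point of a limit which is a scheme has an affine open neighbourhood coming from an
affine open subscheme of a stage**. -/
theorem exists_affine_open_stage [QuasiSeparatedSpace S] (D : I ⥤ AlgSp.Sp S) (c : Cone D)
    (hD : ∀ i, AlgSp.IsAlgSpace (D.obj i))
    (hDa : ∀ (i j : I) (φ : i ⟶ j), AlgSp.IsAffineMor (D.map φ)) (hc : IsLimit c)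
    (hqc : ∀ i, AlgSp.IsQuasiCompactSp (D.obj i)) (hqs : ∀ i, AlgSp.IsQuasiSeparatedSp (D.obj i))
    (T : Over S) (e : (AlgSp.yon S).obj T ≅ c.pt) (x : T.left) :
    ∃ (i : I) (W : Over S) (w : (AlgSp.yon S).obj W ⟶ D.obj i), IsAffine W.left ∧
      AlgSp.RepWith @IsOpenImmersion w ∧
      AlgSp.Points.map (c.π.app i) (AlgSp.Points.map e.hom (AlgSp.Points.schemeHomeo T x)) ∈
        Set.range (AlgSp.Points.map w) := by
  obtain ⟨Tx, Sa, ιx, σ, hTx, hSa, hSao, hιx, x', hx'⟩ := exists_affine_nbhd_over T x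
  haveI := hSao
  haveI := hιx
  -- the open subspace of the limit
  let jx : (AlgSp.yon S).obj Tx ⟶ c.pt := (AlgSp.yon S).map ιx ≫ e.hom
  have hjx : AlgSp.RepWith @IsOpenImmersion jx :=
    (MorphismProperty.cancel_right_of_respectsIso (AlgSp.RepWith @IsOpenImmersion) _ e.hom).2
      ((AlgSp.repWith_yon_map_iff _ _).2 inferInstance)
  obtain ⟨i, Ui, ji, q, hji, hUiqc, sq⟩ :=
    Groth.Agent.Lib.T2H7.QcOpen.exists_qc_open_stage D hD hDa c hc hqc hqs _ jx hjx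
      (Groth.Agent.Lib.Helper15QcRep.isQuasiCompactSp_yon Tx hTx)
  have hUialg : AlgSp.IsAlgSpace Ui :=
    Groth.Agent.Lib.T2H7.QcOpen.isAlgSpace_of_representable (hD i) ji hji.1
  haveI hjim : Mono ji := Groth.Agent.Lib.Helper12.LargestOpen.mono_of_open ji hji
  have hUiqs : AlgSp.IsQuasiSeparatedSp Ui :=
    Groth.Agent.Lib.T2H7.StageAffG.isQuasiSeparatedSp_of_mono ⟨D.obj i, hD i⟩ (hqs i) hUialg ji
  -- the system of base changes of the open subspace
  let D' : Over i ⥤ AlgSp.Sp S := Over.forget i ⋙ D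
  let t₀ : D' ⟶ (Functor.const (Over i)).obj (D.obj i) :=
    { app := fun j => D.map j.hom
      naturality := fun j k ψ => by
        simp only [Functor.const_obj_obj, Functor.const_obj_map, Category.comp_id]
        show D.map ψ.left ≫ D.map k.hom = D.map j.hom
        rw [← D.map_comp, Over.w ψ] }
  let c₀ : Cone D' := c.whisker (Over.forget i)
  have hc₀ : IsLimit c₀ := (Functor.Initial.isLimitWhiskerEquiv (Over.forget i) c).symm hc
  have hg₀ : ∀ j : Over i, c₀.π.app j ≫ t₀.app j = c.π.app i := fun j => c.w j.hom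
  let Us : Over i ⥤ AlgSp.Sp S := Bs D' t₀ ji
  let cU : Cone Us := Bc D' t₀ ji c₀ (c.π.app i) hg₀
  have hcU : IsLimit cU := isLimitBc D' t₀ ji c₀ (c.π.app i) hg₀ hc₀
  have hUsalg : ∀ j, AlgSp.IsAlgSpace (Us.obj j) := fun j =>
    Groth.Agent.S9874.isAlgSpace_of_isPullback (hD i).diag (hD j.left) hUialg
      (isPullback_p D' t₀ ji j)
  have hUsa : ∀ (j k : Over i) (ψ : j ⟶ k), AlgSp.IsAffineMor (Us.map ψ) := fun j k ψ =>
    Groth.Agent.Lib.T2H7.AffQcqs.isAffineMor_of_isPullback (isPullback_map D' t₀ ji ψ).flip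
      (hDa _ _ ψ.left)
  have hp2a : ∀ j, AlgSp.IsAffineMor (p2 D' t₀ ji j) := fun j =>
    Groth.Agent.Lib.T2H7.AffQcqs.isAffineMor_of_isPullback (isPullback_p D' t₀ ji j)
      (hDa _ _ j.hom)
  have hUsqc : ∀ j, AlgSp.IsQuasiCompactSp (Us.obj j) := fun j =>
    Groth.Agent.Lib.T2H7.AffQcqs.isQuasiCompactSp_of_isAffineMor ⟨Us.obj j, hUsalg j⟩
      ⟨Ui, hUialg⟩ _ (hp2a j) hUiqc
  have hUsqs : ∀ j, AlgSp.IsQuasiSeparatedSp (Us.obj j) := fun j =>
    Groth.Agent.Lib.T2H7.AffQcqs.isQuasiSeparatedSp_of_isAffineMor ⟨Us.obj j, hUsalg j⟩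
      ⟨Ui, hUialg⟩ _ (hp2a j) hUiqs
  let e' : (AlgSp.yon S).obj Tx ≅ cU.pt := sq.isoPullback
  have he'1 : e'.hom ≫ q1 D' t₀ ji c₀ (c.π.app i) hg₀ = jx := sq.isoPullback_hom_fst
  obtain ⟨j₀, H⟩ := Groth.Agent.Lib.T2H7.StageAffG.eventually_affine_of_factors Us cU hUsalg hUsa
    hcU hUsqc hUsqs Tx hTx e' Sa hSa σ
  obtain ⟨W, hW, ⟨qW⟩⟩ := H j₀ (𝟙 _)
  let w : (AlgSp.yon S).obj W ⟶ D.obj j₀.left := qW.inv ≫ p1 D' t₀ ji j₀
  have hp1o : AlgSp.RepWith @IsOpenImmersion (p1 D' t₀ ji j₀) :=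
    MorphismProperty.of_isPullback (P := AlgSp.RepWith @IsOpenImmersion)
      (isPullback_p D' t₀ ji j₀).flip hji
  have hw : AlgSp.RepWith @IsOpenImmersion w :=
    (MorphismProperty.cancel_left_of_respectsIso (AlgSp.RepWith @IsOpenImmersion) qW.inv _).2 hp1o
  refine ⟨j₀.left, W, w, hW, hw, ?_⟩
  -- the point
  let z₀ : AlgSp.Points ((AlgSp.yon S).obj Tx) := AlgSp.Points.schemeHomeo Tx x'
  have hy : AlgSp.Points.map e.hom (AlgSp.Points.schemeHomeo T x) = AlgSp.Points.map jx z₀ := by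
    show _ = AlgSp.Points.map ((AlgSp.yon S).map ιx ≫ e.hom) z₀
    rw [AlgSp.Points.map_comp, AlgSp.Points.map_yon_map_apply, hx']
  let z : AlgSp.Points (Us.obj j₀) := AlgSp.Points.map (e'.hom ≫ cU.π.app j₀) z₀
  refine ⟨AlgSp.Points.map qW.hom z, ?_⟩
  rw [hy, ← AlgSp.Points.map_comp, ← AlgSp.Points.map_comp, ← AlgSp.Points.map_comp]
  congr 1
  show (e'.hom ≫ cU.π.app j₀) ≫ qW.hom ≫ qW.inv ≫ p1 D' t₀ ji j₀ = jx ≫ c.π.app j₀.left
  rw [qW.hom_inv_id_assoc, Category.assoc, π_p1 D' t₀ ji c₀ (c.π.app i) hg₀ j₀, ← Category.assoc,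
    he'1]
  rfl

end

end Groth.Agent.Lib.T2H7.StageAffH
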