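import Mathlib
import Groth.Agent.Lib.T2H7StageAffH
import Groth.Agent.Lib.Helper12ZarGlue2
import Groth.Agent.S10532
import Groth.Agent.S10174

/-!
# A limit which is a scheme has a stage which is a scheme (helper7)
-/

set_option autoImplicit false
set_option linter.unusedSectionVars false
set_option linter.unusedVariables false
set_option linter.style.haveILetI false
universe u
open CategoryTheory CategoryTheory.Limits AlgebraicGeometry
open AlgSp

namespace Groth.Agent.Lib.T2H7.StageAffI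

open Groth.Agent.Lib.Helper12

variable {S : Scheme.{u}}

section

variable {I : Type u} [SmallCategory I] [IsCofiltered I]

/-- **if a limit of quasi-compact and quasi-separated algebraic spaces with affine transition
maps is a scheme, then so is some stage**. -/
theorem exists_scheme_stage [QuasiSeparatedSpace S] (D : I ⥤ AlgSp.Sp S) (c : Cone D)
    (hD : ∀ i, AlgSp.IsAlgSpace (D.obj i))
    (hDa : ∀ (i j : I) (φ : i ⟶ j), AlgSp.IsAffineMor (D.map φ)) (hc : IsLimit c)
    (hqc : ∀ i, AlgSp.IsQuasiCompactSp (D.obj i)) (hqs : ∀ i, AlgSp.IsQuasiSeparatedSp (D.obj i))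
    (T : Over S) (e : (AlgSp.yon S).obj T ≅ c.pt) :
    ∃ (i : I) (W : Over S), Nonempty (D.obj i ≅ (AlgSp.yon S).obj W) := by
  classical
  have hptalg : AlgSp.IsAlgSpace c.pt :=
    Groth.Agent.Lib.T2H1.LimAffine.isAlgSpace_pt D hDa c hc hD
  obtain ⟨i₁⟩ := IsCofiltered.nonempty (C := I)
  have hptqc : AlgSp.IsQuasiCompactSp c.pt :=
    Groth.Agent.Lib.T2H7.AffQcqs.isQuasiCompactSp_of_isAffineMor ⟨c.pt, hptalg⟩
      ⟨D.obj i₁, hD i₁⟩ (c.π.app i₁)
      (Groth.Agent.Lib.T2H1.LimAffine.isAffineMor_π D hDa c hc i₁) (hqc i₁)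
  haveI : CompactSpace (AlgSp.Points c.pt) :=
    (Groth.Agent.S10174.result (⟨c.pt, hptalg⟩ : AlgSp.Space S)).1 hptqc
  have H : ∀ y : AlgSp.Points c.pt, ∃ (i : I) (W : Over S)
      (w : (AlgSp.yon S).obj W ⟶ D.obj i), IsAffine W.left ∧ AlgSp.RepWith @IsOpenImmersion w ∧
      AlgSp.Points.map (c.π.app i) y ∈ Set.range (AlgSp.Points.map w) := by
    intro y
    let x : T.left := (AlgSp.Points.schemeHomeo T).symm (AlgSp.Points.map e.inv y)
    have hx : AlgSp.Points.map e.hom (AlgSp.Points.schemeHomeo T x) = y := by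
      show AlgSp.Points.map e.hom
        (AlgSp.Points.schemeHomeo T ((AlgSp.Points.schemeHomeo T).symm _)) = y
      rw [Homeomorph.apply_symm_apply, ← AlgSp.Points.map_comp, e.inv_hom_id,
        AlgSp.Points.map_id]
    obtain ⟨i, W, w, hW, hw, hmem⟩ :=
      Groth.Agent.Lib.T2H7.StageAffH.exists_affine_open_stage D c hD hDa hc hqc hqs T e x
    rw [hx] at hmem
    exact ⟨i, W, w, hW, hw, hmem⟩
  choose iy Wy wy hWy hwy hmemy using H
  let O : AlgSp.Points c.pt → Set (AlgSp.Points c.pt) := fun y =>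
    AlgSp.Points.map (c.π.app (iy y)) ⁻¹' Set.range (AlgSp.Points.map (wy y))
  have hOopen : ∀ y, IsOpen (O y) := fun y =>
    (OpenSub.isOpen_range_of_open _ (hwy y)).preimage (AlgSp.Points.continuous_map _)
  obtain ⟨s, hs⟩ := isCompact_univ.elim_finite_subcover O hOopen
    (fun y _ => Set.mem_iUnion.2 ⟨y, hmemy y⟩)
  -- enumerate the finite subcover
  let yk : ULift.{u} (Fin s.card) → AlgSp.Points c.pt := fun k =>
    ((Finset.equivFin s).symm k.down).1
  have hcover : ∀ p : AlgSp.Points c.pt, ∃ k, p ∈ O (yk k) := by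
    intro p
    have h1 := hs (Set.mem_univ p)
    simp only [Set.mem_iUnion] at h1
    obtain ⟨y, hy, hp⟩ := h1
    refine ⟨⟨Finset.equivFin s ⟨y, hy⟩⟩, ?_⟩
    show p ∈ O ((Finset.equivFin s).symm (Finset.equivFin s ⟨y, hy⟩)).1
    rw [Equiv.symm_apply_apply]
    exact hp
  -- a common stage
  obtain ⟨i₀, hi₀⟩ := IsCofiltered.inf_objs_exists
    (Finset.univ.image (fun k : ULift.{u} (Fin s.card) => iy (yk k)))
  let φ : ∀ k : ULift.{u} (Fin s.card), i₀ ⟶ iy (yk k) := fun k =>
    (hi₀ (Finset.mem_image_of_mem _ (Finset.mem_univ k))).some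
  choose W' ι' fst' sq' hW' using fun k : ULift.{u} (Fin s.card) =>
    hDa _ _ (φ k) (hWy (yk k)) (wy (yk k))
  have hfst'o : ∀ k, AlgSp.RepWith @IsOpenImmersion (fst' k) := fun k =>
    MorphismProperty.of_isPullback (P := AlgSp.RepWith @IsOpenImmersion) (sq' k).flip
      (hwy (yk k))
  have hrange' : ∀ k, Set.range (AlgSp.Points.map (fst' k)) =
      AlgSp.Points.map (D.map (φ k)) ⁻¹' Set.range (AlgSp.Points.map (wy (yk k))) := fun k =>
    OpenSub.range_map_fst_of_isPullback (sq' k)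
  let O₀ : Set (AlgSp.Points (D.obj i₀)) := ⋃ k, Set.range (AlgSp.Points.map (fst' k))
  have hO₀open : IsOpen O₀ := isOpen_iUnion fun k => OpenSub.isOpen_range_of_open _ (hfst'o k)
  have hO₀c : IsCompact O₀ := isCompact_iUnion fun k => by
    haveI : IsAffine (W' k).left := hW' k
    haveI : CompactSpace (AlgSp.Points ((AlgSp.yon S).obj (W' k))) :=
      (AlgSp.Points.schemeHomeo (W' k)).compactSpace
    exact isCompact_range (AlgSp.Points.continuous_map _)
  -- the union of the affine opens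
  let G : AlgSp.Sp S := OpenSub.obj (D.obj i₀) O₀
  let incl : G ⟶ D.obj i₀ := OpenSub.incl (D.obj i₀) O₀
  have hincl : AlgSp.RepWith @IsOpenImmersion incl := OpenSub.repWith_incl hO₀open
  have hrincl : Set.range (AlgSp.Points.map incl) = O₀ := OpenSub.range_map_incl O₀
  have hGalg : AlgSp.IsAlgSpace G := OpenSub.isAlgSpace_obj (hD i₀) hO₀open
  have hGqc : AlgSp.IsQuasiCompactSp G :=
    Groth.Agent.Lib.T2H7.QcOpen.isQuasiCompactSp_openSub (hD i₀) hO₀open hO₀c
  have hGqs : AlgSp.IsQuasiSeparatedSp G :=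
    Groth.Agent.Lib.T2H7.EvSep.isQuasiSeparatedSp_openSub ⟨D.obj i₀, hD i₀⟩ (hqs i₀) hO₀open
  -- the union is a scheme
  have hfac : ∀ k, ∃ k' : (AlgSp.yon S).obj (W' k) ⟶ G, k' ≫ incl = fst' k ∧
      AlgSp.RepWith @IsOpenImmersion k' := fun k =>
    LargestOpen.factor_open incl hincl (fst' k) (hfst'o k) (by
      rw [hrincl]
      exact Set.subset_iUnion (fun k => Set.range (AlgSp.Points.map (fst' k))) k)
  choose f' hf'1 hf'o using hfac
  have hinj : Function.Injective (AlgSp.Points.map incl) :=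
    LargestOpen.injective_map_of_open incl hincl
  have hjs : ZarGlue.JointlySurjective hf'o := by
    intro T₀ g t
    have h1 : AlgSp.Points.map incl (AlgSp.Points.ofPt g t) ∈ O₀ := by
      rw [← hrincl]
      exact ⟨_, rfl⟩
    obtain ⟨k, z, hz⟩ := Set.mem_iUnion.1 h1
    refine ⟨k, ZarGlue.mem_range_of_mem_range_map (f' k) g _ _ ((hf'o k).rep.isPullback g) t
      ⟨z, ?_⟩⟩
    apply hinj
    rw [← AlgSp.Points.map_comp, hf'1 k, hz]
  obtain ⟨WG, eG, -, -, -⟩ := ZarGlue.exists_iso hf'o hjs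
  -- the base change of the union to the limit is everything
  have sqX : IsPullback (pullback.fst incl (c.π.app i₀)) (pullback.snd incl (c.π.app i₀)) incl
      (c.π.app i₀) := IsPullback.of_hasPullback _ _
  have hsndo : AlgSp.RepWith @IsOpenImmersion (pullback.snd incl (c.π.app i₀)) :=
    MorphismProperty.of_isPullback (P := AlgSp.RepWith @IsOpenImmersion) sqX hincl
  have hsnds : Function.Surjective (AlgSp.Points.map (pullback.snd incl (c.π.app i₀))) := by
    intro p
    have hr := OpenSub.range_map_fst_of_isPullback sqX.flip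
    have hp : p ∈ Set.range (AlgSp.Points.map (pullback.snd incl (c.π.app i₀))) := by
      rw [hr, hrincl]
      obtain ⟨k, hk⟩ := hcover p
      refine Set.mem_iUnion.2 ⟨k, ?_⟩
      rw [hrange' k]
      show AlgSp.Points.map (D.map (φ k)) (AlgSp.Points.map (c.π.app i₀) p) ∈
        Set.range (AlgSp.Points.map (wy (yk k)))
      rw [← AlgSp.Points.map_comp, c.w]
      exact hk
    exact hp
  haveI : IsIso (pullback.snd incl (c.π.app i₀)) :=
    Groth.Agent.S10532.isIso_of_open_of_surjective _ hsndo hsnds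
  have hincllfp : AlgSp.LocP @LocallyOfFinitePresentation incl := by
    have hpe : AlgSp.RepWith @Etale incl :=
      OpenSub.repWith_mono (fun _ _ g hg => by haveI : IsOpenImmersion g := hg; infer_instance)
        hincl
    have h := (Groth.Agent.S9948.result @Etale (.inr (.inr (.inr (.inr (.inl rfl)))))
      (X := ⟨G, hGalg⟩) (Y := ⟨D.obj i₀, hD i₀⟩) (ObjectProperty.homMk incl) hpe.1).2 hpe
    intro U V a b h' ha hb comm
    have := h a b h' ha hb comm
    infer_instance
  obtain ⟨i₂, φ₂, H₂⟩ := Groth.Agent.S10021.result S D hD hDa c hc i₀ (hqc i₀) (hqs i₀)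
    ⟨G, hGalg⟩ ⟨D.obj i₀, hD i₀⟩ incl (𝟙 _) hGqc hGqs (hqc i₀) (hqs i₀) _ c.pt
    (pullback.snd incl (c.π.app i₀)) (c.π.app i₀) (𝟙 _) (IsPullback.id_vert _)
    (pullback.fst incl (c.π.app i₀)) sqX hincllfp
  have sqi : IsPullback (pullback.fst incl (D.map φ₂)) (pullback.snd incl (D.map φ₂)) incl
      (D.map φ₂) := IsPullback.of_hasPullback _ _
  haveI : IsIso (pullback.snd incl (D.map φ₂)) :=
    H₂ _ _ _ (D.map φ₂) (𝟙 _) (IsPullback.id_vert _) _ sqi
  -- the stage `i₂` is a scheme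
  have hrep : AlgSp.Representable (D.map φ₂) :=
    (Groth.Agent.Lib.T2H7.StageAffC.repWith_of_isAffineMor _ (hDa _ _ φ₂)).1
  obtain ⟨W₂, b, a, sq₂⟩ := hrep (eG.hom ≫ incl)
  have sq₃ : IsPullback (pullback.snd incl (D.map φ₂)) (pullback.fst incl (D.map φ₂) ≫ eG.inv)
      (D.map φ₂) (eG.hom ≫ incl) :=
    sqi.flip.of_iso (Iso.refl _) (Iso.refl _) eG.symm (Iso.refl _) (by simp) (by simp) (by simp)
      (by simp)
  have ha : a = (sq₂.isoIsPullback _ _ sq₃).hom ≫ pullback.snd incl (D.map φ₂) :=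
    (IsPullback.isoIsPullback_hom_fst _ _ sq₂ sq₃).symm
  haveI : IsIso a := by
    rw [ha]
    infer_instance
  exact ⟨i₂, W₂, ⟨(asIso a).symm⟩⟩

end

end Groth.Agent.Lib.T2H7.StageAffI
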