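import Mathlib
import Groth.Agent.Lib.T2H7QuotLim
import Groth.Agent.Lib.T2H7BcSys
import Groth.Agent.Lib.T2H7AffQcqs
import Groth.Agent.Lib.T2H7EvIsoB
import Groth.Agent.Lib.T2H7EvSepAbs
import Groth.Agent.Lib.Helper15QcRep
import Groth.Agent.Lib.T2H7LimDescA
import Groth.Agent.S10007
import Groth.Agent.S9919
import Groth.Agent.S9874

/-!
# A minimal closed subscheme of an affine base over which a space is not a scheme (helper7)
-/

set_option autoImplicit false
set_option linter.unusedSectionVars false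
set_option linter.unusedVariables false
set_option linter.style.haveILetI false
universe u
open CategoryTheory CategoryTheory.Limits AlgebraicGeometry
open AlgSp

namespace Groth.Agent.Lib.T2H7.MinNonSch

open Groth.Agent.Lib.T2H7.QuotLim Groth.Agent.Lib.T2H7.BcSys

variable {A : CommRingCat.{u}}

/-- the structure map of the closed subscheme of an ideal to the terminal scheme over `Spec A`. -/
noncomputable def sa (a : Ideal A) : quotOver A a ⟶ Over.mk (𝟙 (Spec A)) :=
  Over.homMk (Spec.map (CommRingCat.ofHom (Ideal.Quotient.mk a)))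

variable (X : AlgSp.Space (Spec A))
  (q : X.obj ⟶ (AlgSp.yon (Spec A)).obj (Over.mk (𝟙 (Spec A))))

/-- the base change of `X` to the closed subscheme of the ideal `a` is not a scheme. -/
def NS (a : Ideal A) : Prop :=
  ∀ (P : AlgSp.Sp (Spec A)) (fst : P ⟶ X.obj)
    (snd : P ⟶ (AlgSp.yon (Spec A)).obj (quotOver A a)),
    IsPullback fst snd q ((AlgSp.yon (Spec A)).map (sa a)) → ¬ P.obj.IsRepresentable

theorem isRepresentable_of_iso {F G : AlgSp.Sp (Spec A)} (e : F ≅ G) (h : F.obj.IsRepresentable) :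
    G.obj.IsRepresentable :=
  @CategoryTheory.isRepresentable_of_natIso _ _ F.obj _ ((sheafToPresheaf _ _).mapIso e) h

/-- the quasi-separatedness of a space over the terminal sheaf. -/
theorem isQuasiSeparatedSp_of_isQuasiSeparatedMor {S : Scheme.{u}} {T F : AlgSp.Sp S}
    (hT : IsTerminal T) (f : F ⟶ T) (h : AlgSp.IsQuasiSeparatedMor f) :
    AlgSp.IsQuasiSeparatedSp F := by
  obtain ⟨e, he⟩ := Groth.Agent.Lib.T2H7.EvSepAbs.exists_iso_diag_of_isTerminal hT f
  change AlgSp.RepWith @QuasiCompact (Limits.diag F)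
  rw [← he]
  exact ((AlgSp.RepWith @QuasiCompact).cancel_right_of_respectsIso _ e.hom).2 h

attribute [local instance] IsCofiltered.isConnected in
/-- **if the base changes of `X` to the closed subschemes of a nonempty chain of ideals are not
schemes, neither is the base change to the closed subscheme of the union.** -/
theorem ns_sSup (hqc : AlgSp.IsQuasiCompactMor q) (hqs : AlgSp.IsQuasiSeparatedMor q)
    (c : Set (Ideal A)) (hne : c.Nonempty) (hchain : IsChain (· ≤ ·) c)
    (hc : ∀ a ∈ c, NS X q a) : NS X q (sSup c) := by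
  intro P fst snd sq hrep
  let S : Scheme.{u} := Spec A
  let yS : AlgSp.Sp S := (AlgSp.yon S).obj (Over.mk (𝟙 S))
  have hterm : IsTerminal yS := Groth.Agent.Lib.T2H7.EvSepAbs.isTerminalYonBase
  have hySalg : AlgSp.IsAlgSpace yS := AlgSp.IsAlgSpace.yon_obj _
  have hySaff : IsAffine (Over.mk (𝟙 S)).left := inferInstanceAs (IsAffine (Spec A))
  -- `X` is quasi-compact and quasi-separated
  have hXqc : AlgSp.IsQuasiCompactSp X.obj :=
    Groth.Agent.S9919.isQuasiCompactSp_of_isQuasiCompactMor hySalg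
      (Groth.Agent.Lib.Helper15QcRep.isQuasiCompactSp_yon _ hySaff) q hqc
  have hXqs : AlgSp.IsQuasiSeparatedSp X.obj :=
    isQuasiSeparatedSp_of_isQuasiSeparatedMor hterm q hqs
  -- the index category
  haveI : Nonempty (↥c)ᵒᵈ := ⟨OrderDual.toDual ⟨hne.some, hne.some_mem⟩⟩
  haveI : IsDirected (↥c)ᵒᵈ (· ≥ ·) := ⟨fun a b => by
    rcases hchain.total (OrderDual.ofDual a).2 (OrderDual.ofDual b).2 with h | h
    · exact ⟨b, h, le_rfl⟩
    · exact ⟨a, le_rfl, h⟩⟩
  haveI : IsCofiltered (↥c)ᵒᵈ := inferInstance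
  -- the system of closed subschemes
  let Dy : (↥c)ᵒᵈ ⥤ AlgSp.Sp S := quotSys c ⋙ AlgSp.yon S
  let cy : Cone Dy := (AlgSp.yon S).mapCone (quotCone c)
  have hcy : IsLimit cy := isLimitOfPreserves (AlgSp.yon S) (isLimitQuotCone c hne hchain)
  let t : Dy ⟶ (Functor.const (↥c)ᵒᵈ).obj yS :=
    { app := fun a => (AlgSp.yon S).map (sa (OrderDual.ofDual a).1)
      naturality := fun a b h => hterm.hom_ext _ _ }
  let g : cy.pt ⟶ yS := (AlgSp.yon S).map (sa (sSup c))
  have hg : ∀ a, cy.π.app a ≫ t.app a = g := fun a => hterm.hom_ext _ _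
  let D' : (↥c)ᵒᵈ ⥤ AlgSp.Sp S := Bs Dy t q
  let c' : Cone D' := Bc Dy t q cy g hg
  have hc' : IsLimit c' := isLimitBc Dy t q cy g hg hcy
  have hD' : ∀ a, AlgSp.IsAlgSpace (D'.obj a) := fun a =>
    Groth.Agent.S9874.isAlgSpace_of_isPullback hySalg.diag (AlgSp.IsAlgSpace.yon_obj _)
      X.property (isPullback_p Dy t q a)
  have htcl : ∀ a, AlgSp.RepWith @IsClosedImmersion (t.app a) := fun a =>
    (AlgSp.repWith_yon_map_iff _ _).2
      (inferInstanceAs (IsClosedImmersion (quotOver A (OrderDual.ofDual a).1).hom))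
  have hp2cl : ∀ a, AlgSp.RepWith @IsClosedImmersion (p2 Dy t q a) := fun a =>
    MorphismProperty.of_isPullback (P := AlgSp.RepWith @IsClosedImmersion) (isPullback_p Dy t q a)
      (htcl a)
  have hp2a : ∀ a, AlgSp.IsAffineMor (p2 Dy t q a) := fun a =>
    Groth.Agent.Lib.T2H7.EvIsoB.isAffineMor_of_closedImmersion _ (hp2cl a)
  have hqc' : ∀ a, AlgSp.IsQuasiCompactSp (D'.obj a) := fun a =>
    Groth.Agent.Lib.T2H7.AffQcqs.isQuasiCompactSp_of_isAffineMor ⟨D'.obj a, hD' a⟩ X _ (hp2a a)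
      hXqc
  have hqs' : ∀ a, AlgSp.IsQuasiSeparatedSp (D'.obj a) := fun a =>
    Groth.Agent.Lib.T2H7.AffQcqs.isQuasiSeparatedSp_of_isAffineMor ⟨D'.obj a, hD' a⟩ X _ (hp2a a)
      hXqs
  have hDycl : ∀ (a b : (↥c)ᵒᵈ) (h : a ⟶ b), AlgSp.RepWith @IsClosedImmersion (Dy.map h) :=
    fun a b h => (AlgSp.repWith_yon_map_iff _ _).2 (isClosedImmersion_quotOverMap _)
  have hDa' : ∀ (a b : (↥c)ᵒᵈ) (h : a ⟶ b), AlgSp.IsAffineMor (D'.map h) := fun a b h =>
    Groth.Agent.Lib.T2H7.AffQcqs.isAffineMor_of_isPullback (isPullback_map Dy t q h).flip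
      (Groth.Agent.Lib.T2H7.EvIsoB.isAffineMor_of_closedImmersion _ (hDycl a b h))
  -- the limit is `P`
  let e : P ≅ c'.pt := sq.flip.isoPullback
  have hrep' : c'.pt.obj.IsRepresentable := isRepresentable_of_iso e hrep
  obtain ⟨a, ha⟩ := Groth.Agent.S10007.result S D' hD' hDa' hqc' hqs' c' hc' hrep'
  exact hc (OrderDual.ofDual a).1 (OrderDual.ofDual a).2 (D'.obj a) (p2 Dy t q a) (p1 Dy t q a)
    (isPullback_p Dy t q a).flip ha

/-- the closed subscheme of the zero ideal is everything. -/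
theorem isIso_yon_sa_bot : IsIso ((AlgSp.yon (Spec A)).map (sa (⊥ : Ideal A))) := by
  have h0 : IsIso (CommRingCat.ofHom (Ideal.Quotient.mk (⊥ : Ideal A))) := by
    have : CommRingCat.ofHom (Ideal.Quotient.mk (⊥ : Ideal A)) =
        ((RingEquiv.quotientBot A).symm.toCommRingCatIso).hom := by
      ext x
      rfl
    rw [this]
    infer_instance
  have h1 : IsIso (Spec.map (CommRingCat.ofHom (Ideal.Quotient.mk (⊥ : Ideal A)))) :=
    inferInstance
  have h2 : IsIso ((Over.forget (Spec A)).map (sa (⊥ : Ideal A))) := h1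
  haveI : IsIso (sa (⊥ : Ideal A)) := isIso_of_reflects_iso _ (Over.forget (Spec A))
  infer_instance

theorem ns_bot (hX : ¬ X.obj.obj.IsRepresentable) : NS X q ⊥ := by
  intro P fst snd sq hrep
  haveI := isIso_yon_sa_bot (A := A)
  haveI : IsIso fst := sq.isIso_fst_of_isIso
  exact hX (isRepresentable_of_iso (asIso fst) hrep)

/-- **a space over an affine base which is not a scheme: there is an ideal maximal with respect
to the property that the base change to its closed subscheme is not a scheme.** -/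
theorem exists_maximal_ns (hqc : AlgSp.IsQuasiCompactMor q) (hqs : AlgSp.IsQuasiSeparatedMor q)
    (hX : ¬ X.obj.obj.IsRepresentable) :
    ∃ I : Ideal A, NS X q I ∧ ∀ I' : Ideal A, I < I' →
      ∀ (P : AlgSp.Sp (Spec A)) (fst : P ⟶ X.obj)
        (snd : P ⟶ (AlgSp.yon (Spec A)).obj (quotOver A I')),
        IsPullback fst snd q ((AlgSp.yon (Spec A)).map (sa I')) → P.obj.IsRepresentable := by
  obtain ⟨m, -, hm⟩ := zorn_le_nonempty₀ {a : Ideal A | NS X q a}
    (fun c hcs hchain y hy => ⟨sSup c, ns_sSup X q hqc hqs c ⟨y, hy⟩ hchain (fun a ha => hcs ha),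
      fun z hz => le_sSup hz⟩) ⊥ (ns_bot X q hX)
  refine ⟨m, hm.prop, fun I' hI' P fst snd sq => ?_⟩
  by_contra hP
  have hNS : NS X q I' := fun P' fst' snd' sq' hrep' =>
    hP (isRepresentable_of_iso (sq'.isoIsPullback _ _ sq) hrep')
  exact absurd (hm.le_of_ge hNS hI'.le) (not_le_of_gt hI')

end Groth.Agent.Lib.T2H7.MinNonSch
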