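import Mathlib
import Groth.Agent.Lib.T2H7AffQcqs
import Groth.Agent.Lib.T2H7EvIsoB
import Groth.Agent.Lib.T2H7AffSep
import Groth.Agent.Lib.T2H1LimAffine
import Groth.Agent.S10007
import Groth.Agent.S10180
import Groth.Agent.S9927
import Groth.Agent.S9928
import Groth.Agent.S9944
import Groth.Agent.Lib.Helper9QuotSh
import Groth.Agent.Lib.T2H7QcOpen
import Groth.Agent.Lib.T2H1Gpd2

/-!
# A minimal closed subspace which is not a scheme (helper7)
-/

set_option autoImplicit false
set_option linter.unusedSectionVars false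
set_option linter.unusedVariables false
set_option linter.style.haveILetI false
universe u
open CategoryTheory CategoryTheory.Limits AlgebraicGeometry Opposite
open AlgSp

namespace Groth.Agent.Lib.T2H7.MinNonSchB

variable {S : Scheme.{u}}

/-- lifting a map of sheaves through a monomorphism, sectionwise. -/
theorem exists_lift_of_sections {F G H : AlgSp.Sp S} (w : G ⟶ H) [Mono w] (f : F ⟶ H)
    (h : ∀ (T : (Over S)ᵒᵖ) (x : F.obj.obj T), ∃ z : G.obj.obj T, w.hom.app T z = f.hom.app T x) :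
    ∃ l : F ⟶ G, l ≫ w = f := by
  have hm : Mono w.hom := (Sheaf.Hom.mono_iff_presheaf_mono _ _ w).1 inferInstance
  have hinj : ∀ T : (Over S)ᵒᵖ, Function.Injective (w.hom.app T) := fun T =>
    (mono_iff_injective _).1 ((NatTrans.mono_iff_mono_app w.hom).1 hm T)
  let l : F.obj ⟶ G.obj :=
    { app := fun T => TypeCat.ofHom (fun x => (h T x).choose)
      naturality := fun T T' φ => by
        ext x
        apply hinj T'
        show w.hom.app T' ((h T' (F.obj.map φ x)).choose) = w.hom.app T' (G.obj.map φ (h T x).choose)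
        rw [(h T' (F.obj.map φ x)).choose_spec, NatTrans.naturality_apply w.hom φ,
          (h T x).choose_spec, NatTrans.naturality_apply f.hom φ] }
  refine ⟨⟨l⟩, ?_⟩
  ext T x
  exact (h T x).choose_spec


section sup

variable {T : Over S} {ι : Type u} (W : ι → Over S) (snd : ∀ a, W a ⟶ T)

/-- the supremum of the ideal sheaves of a family of morphisms to `T`. -/
noncomputable def supIdeal : T.left.IdealSheafData := ⨆ a, (snd a).left.ker

/-- the closed subscheme cut out by the supremum. -/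
noncomputable def supSub : Over S := Over.mk ((supIdeal W snd).subschemeι ≫ T.hom)

noncomputable def supι : supSub W snd ⟶ T := Over.homMk (supIdeal W snd).subschemeι rfl

instance : IsClosedImmersion (supι W snd).left :=
  inferInstanceAs (IsClosedImmersion (supIdeal W snd).subschemeι)

theorem ker_supι : (supι W snd).left.ker = supIdeal W snd :=
  Scheme.IdealSheafData.ker_subschemeι _

instance : Mono (supι W snd) := by
  haveI : Mono ((Over.forget S).map (supι W snd)) :=
    inferInstanceAs (Mono (supι W snd).left)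
  exact (Over.forget S).mono_of_mono_map inferInstance

theorem exists_lift_sup {T' : Over S} (h : T' ⟶ T)
    (hf : ∀ a, ∃ l : T' ⟶ W a, l ≫ snd a = h) : ∃ l : T' ⟶ supSub W snd, l ≫ supι W snd = h := by
  have hle : (supι W snd).left.ker ≤ h.left.ker := by
    rw [ker_supι]
    refine iSup_le (fun a => ?_)
    obtain ⟨l, hl⟩ := hf a
    rw [← hl, Over.comp_left]
    exact Scheme.Hom.le_ker_comp _ _
  refine ⟨Over.homMk (IsClosedImmersion.lift (supι W snd).left h.left hle) ?_, ?_⟩
  · show IsClosedImmersion.lift (supι W snd).left h.left hle ≫ (supι W snd).left ≫ T.hom = T'.hom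
    rw [IsClosedImmersion.lift_fac_assoc]
    exact Over.w h
  · ext1
    exact IsClosedImmersion.lift_fac _ _ _

variable [∀ a, IsClosedImmersion (snd a).left]

theorem exists_toW (a : ι) : ∃ k : supSub W snd ⟶ W a, k ≫ snd a = supι W snd := by
  have hle : (snd a).left.ker ≤ (supι W snd).left.ker := by
    rw [ker_supι]
    exact le_iSup (fun a => (snd a).left.ker) a
  refine ⟨Over.homMk (IsClosedImmersion.lift (snd a).left (supι W snd).left hle) ?_, ?_⟩
  · have h1 : (snd a).left ≫ T.hom = (W a).hom := Over.w (snd a)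
    rw [← h1, IsClosedImmersion.lift_fac_assoc]
    exact Over.w (supι W snd)
  · ext1
    exact IsClosedImmersion.lift_fac _ _ _

end sup


theorem isPullback_of_exists_unique' {E : Type*} [Category E] {P X Y Z : E} {fst : P ⟶ X}
    {snd : P ⟶ Y} {f : X ⟶ Z}
    {g : Y ⟶ Z} (w : fst ≫ f = snd ≫ g)
    (hex : ∀ {W : E} (a : W ⟶ X) (b : W ⟶ Y), a ≫ f = b ≫ g →
      ∃ l : W ⟶ P, l ≫ fst = a ∧ l ≫ snd = b)
    (huniq : ∀ {W : E} (l l' : W ⟶ P), l ≫ fst = l' ≫ fst → l ≫ snd = l' ≫ snd → l = l') :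
    IsPullback fst snd f g :=
  IsPullback.of_isLimit' ⟨w⟩ (PullbackCone.IsLimit.mk _
    (fun s => (hex s.fst s.snd s.condition).choose)
    (fun s => (hex s.fst s.snd s.condition).choose_spec.1)
    (fun s => (hex s.fst s.snd s.condition).choose_spec.2)
    (fun s m h₁ h₂ => huniq _ _
      (h₁.trans (hex s.fst s.snd s.condition).choose_spec.1.symm)
      (h₂.trans (hex s.fst s.snd s.condition).choose_spec.2.symm)))

theorem yon_map_app_down {W T : Over S} (snd : W ⟶ T) (T' : (Over S)ᵒᵖ)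
    (z : ((AlgSp.yon S).obj W).obj.obj T') :
    (((AlgSp.yon S).map snd).hom.app T' z).down = z.down ≫ snd := rfl

section limit

variable {K : Type u} [SmallCategory K] [IsCofiltered K]

/-- **the limit of a cofiltered system of closed subspaces is a closed subspace.** -/
theorem repWith_closedImmersion_limit (D : K ⥤ AlgSp.Sp S) (X : AlgSp.Sp S)
    (t : D ⟶ (Functor.const K).obj X)
    (ht : ∀ a, AlgSp.RepWith @IsClosedImmersion (t.app a)) (hm : ∀ a, Mono (t.app a))
    (c : Cone D) (hc : IsLimit c) (g : c.pt ⟶ X) (hg : ∀ a, c.π.app a ≫ t.app a = g) :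
    AlgSp.RepWith @IsClosedImmersion g := by
  haveI : MorphismProperty.RespectsIso @IsClosedImmersion.{u} := inferInstance
  haveI : (MorphismProperty.inverseImage @IsClosedImmersion.{u} (Over.forget S)).RespectsIso :=
    MorphismProperty.RespectsIso.inverseImage _ _
  have tnat : ∀ {a b : K} (φ : a ⟶ b), D.map φ ≫ t.app b = t.app a := fun φ =>
    (t.naturality φ).trans (Category.comp_id _)
  obtain ⟨a₀⟩ := IsCofiltered.nonempty (C := K)
  refine MorphismProperty.relative.of_exists (fun T y => ?_)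
  choose W snd fst sq using fun a => (ht a).1 y
  haveI hcl : ∀ a, IsClosedImmersion (snd a).left := fun a => (ht a).2 y (fst a) (snd a) (sq a)
  choose k hk using exists_toW W snd
  have hkey : ∀ a, ((AlgSp.yon S).map (k a) ≫ fst a) ≫ t.app a =
      (AlgSp.yon S).map (supι W snd) ≫ y := fun a => by
    rw [Category.assoc, (sq a).w, ← Category.assoc, ← Functor.map_comp, hk a]
  let s : Cone D :=
    { pt := (AlgSp.yon S).obj (supSub W snd)
      π :=
        { app := fun a => (AlgSp.yon S).map (k a) ≫ fst a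
          naturality := fun a b φ => by
            haveI := hm b
            simp only [Functor.const_obj_obj, Functor.const_obj_map, Category.id_comp]
            rw [← cancel_mono (t.app b), hkey b, Category.assoc, Category.assoc, tnat φ,
              ← Category.assoc, hkey a] } }
  haveI : Mono ((AlgSp.yon S).map (supι W snd)) := inferInstance
  refine ⟨supSub W snd, hc.lift s, supι W snd, ?_,
    (inferInstance : IsClosedImmersion (supι W snd).left)⟩
  refine isPullback_of_exists_unique' ?_ ?_ ?_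
  · rw [← hg a₀, ← Category.assoc, hc.fac s a₀]
    exact hkey a₀
  · intro F x y' hxy
    have hza : ∀ a, ∃ z : F ⟶ (AlgSp.yon S).obj (W a), z ≫ (AlgSp.yon S).map (snd a) = y' :=
      fun a => ⟨(sq a).lift (x ≫ c.π.app a) y' (by rw [Category.assoc, hg a, hxy]),
        (sq a).lift_snd _ _ _⟩
    obtain ⟨l, hl⟩ := exists_lift_of_sections ((AlgSp.yon S).map (supι W snd)) y'
      (fun T' x' => by
        obtain ⟨l', hl'⟩ := exists_lift_sup W snd (y'.hom.app T' x').down (fun a => by
          obtain ⟨z, hz⟩ := hza a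
          refine ⟨(z.hom.app T' x').down, ?_⟩
          rw [← hz]
          rfl)
        refine ⟨⟨l'⟩, ?_⟩
        apply ULift.ext
        rw [yon_map_app_down]
        exact hl')
    refine ⟨l, ?_, hl⟩
    refine hc.hom_ext (fun a => ?_)
    haveI := hm a
    rw [Category.assoc, hc.fac s a, ← cancel_mono (t.app a)]
    show (l ≫ (AlgSp.yon S).map (k a) ≫ fst a) ≫ t.app a = (x ≫ c.π.app a) ≫ t.app a
    rw [Category.assoc, hkey a, ← Category.assoc, hl, Category.assoc, hg a, hxy]
  · intro F l l' _ h2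
    exact (cancel_mono ((AlgSp.yon S).map (supι W snd))).1 h2

end limit


section chart

open Groth.Agent.Lib.Helper9

variable {X : AlgSp.Sp S} {U : Over S} (p : (AlgSp.yon S).obj U ⟶ X)

/-- the ideal sheaf on the chart `U` of a closed subspace of `X`. -/
def HasIdeal {Z : AlgSp.Sp S} (i : Z ⟶ X) (J : U.left.IdealSheafData) : Prop :=
  ∃ (W : Over S) (snd : W ⟶ U) (fst : (AlgSp.yon S).obj W ⟶ Z),
    IsPullback fst ((AlgSp.yon S).map snd) i p ∧ IsClosedImmersion snd.left ∧ snd.left.ker = J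

theorem exists_hasIdeal {Z : AlgSp.Sp S} (i : Z ⟶ X)
    (hi : AlgSp.RepWith @IsClosedImmersion i) : ∃ J, HasIdeal p i J := by
  obtain ⟨W, snd, fst, sq⟩ := hi.1 p
  exact ⟨snd.left.ker, W, snd, fst, sq, hi.2 p fst snd sq, rfl⟩

theorem hasIdeal_id : HasIdeal p (𝟙 X) ⊥ := by
  refine ⟨U, 𝟙 U, p, ?_, ?_, ?_⟩
  · rw [(AlgSp.yon S).map_id]
    exact IsPullback.of_vert_isIso ⟨by simp⟩
  · exact inferInstanceAs (IsClosedImmersion (𝟙 U.left))
  · exact Scheme.Hom.ker_eq_bot_of_isIso (𝟙 U.left)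

theorem hasIdeal_le {Z Z' : AlgSp.Sp S} {i : Z ⟶ X} {i' : Z' ⟶ X}
    {J J' : U.left.IdealSheafData} (h : HasIdeal p i J) (h' : HasIdeal p i' J') (m : Z ⟶ Z')
    (hm : m ≫ i' = i) : J' ≤ J := by
  obtain ⟨W, snd, fst, sq, hcl, rfl⟩ := h
  obtain ⟨W', snd', fst', sq', hcl', rfl⟩ := h'
  let l : (AlgSp.yon S).obj W ⟶ (AlgSp.yon S).obj W' :=
    sq'.lift (fst ≫ m) ((AlgSp.yon S).map snd) (by rw [Category.assoc, hm, sq.w])
  have hl : l ≫ (AlgSp.yon S).map snd' = (AlgSp.yon S).map snd := sq'.lift_snd _ _ _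
  let k : W ⟶ W' := (AlgSp.yon S).preimage l
  have hk : k ≫ snd' = snd := by
    apply (AlgSp.yon S).map_injective
    rw [Functor.map_comp, Functor.map_preimage, hl]
  rw [← hk, Over.comp_left]
  exact Scheme.Hom.le_ker_comp _ _

theorem exists_hom_of_le [Epi p] {Z Z' : AlgSp.Sp S} {i : Z ⟶ X} {i' : Z' ⟶ X} [Mono i']
    {J J' : U.left.IdealSheafData} (h : HasIdeal p i J) (h' : HasIdeal p i' J') (hle : J' ≤ J) :
    ∃ m : Z ⟶ Z', m ≫ i' = i := by
  obtain ⟨W, snd, fst, sq, hcl, rfl⟩ := h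
  obtain ⟨W', snd', fst', sq', hcl', rfl⟩ := h'
  haveI := hcl
  haveI := hcl'
  haveI : Epi fst := ToposLike.epi_of_isPullback sq inferInstance
  let k : W ⟶ W' := Over.homMk (IsClosedImmersion.lift snd'.left snd.left hle) (by
    have h1 : snd'.left ≫ U.hom = W'.hom := Over.w snd'
    rw [← h1, IsClosedImmersion.lift_fac_assoc]
    exact Over.w snd)
  have hk : k ≫ snd' = snd := by
    ext1
    exact IsClosedImmersion.lift_fac _ _ _
  obtain ⟨g, hg⟩ : ∃ g : (AlgSp.yon S).obj W ⟶ Z', g ≫ i' = fst ≫ i :=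
    ⟨(AlgSp.yon S).map k ≫ fst', by
      rw [Category.assoc, sq'.w, ← Category.assoc, ← Functor.map_comp, hk, sq.w]⟩
  obtain ⟨m, hm⟩ := ToposLike.exists_desc_of_epi fst inferInstance g (fun F a₁ a₂ ha => by
    rw [← cancel_mono i', Category.assoc, Category.assoc, hg, ← Category.assoc, ha,
      Category.assoc])
  refine ⟨m, ?_⟩
  rw [← cancel_epi fst, ← Category.assoc, hm, hg]

end chart


section zorn

variable (X : AlgSp.Space S) {U : Over S} (p : (AlgSp.yon S).obj U ⟶ X.obj)

/-- the chart ideals of the closed subspaces of `X` which are not schemes. -/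
def NSIdeals : Set U.left.IdealSheafData :=
  {J | ∃ (Z : AlgSp.Sp S) (i : Z ⟶ X.obj), AlgSp.RepWith @IsClosedImmersion i ∧
    ¬ Z.obj.IsRepresentable ∧ HasIdeal p i J}

theorem mono_of_closedImmersion {Z : AlgSp.Sp S} (i : Z ⟶ X.obj)
    (hi : AlgSp.RepWith @IsClosedImmersion i) : Mono i := by
  have hZ : AlgSp.IsAlgSpace Z :=
    Groth.Agent.Lib.T2H7.QcOpen.isAlgSpace_of_representable X.property i hi.1
  have himm : AlgSp.RepWith @IsImmersion i :=
    ⟨hi.1, fun _ _ g fst snd sq => by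
      have h1 : IsClosedImmersion snd.left := hi.2 g fst snd sq
      exact (inferInstance : IsImmersion snd.left)⟩
  exact Groth.Agent.S9928.result (X := ⟨Z, hZ⟩) (Y := X) (ObjectProperty.homMk i) himm

attribute [local instance] IsCofiltered.isConnected in
theorem exists_upper_bound [QuasiSeparatedSpace S] [Epi p]
    (hXqc : AlgSp.IsQuasiCompactSp X.obj) (hXqs : AlgSp.IsQuasiSeparatedSp X.obj)
    (C : Set U.left.IdealSheafData) (hC : C ⊆ NSIdeals X p) (hchain : IsChain (· ≤ ·) C)
    (hne : C.Nonempty) : ∃ ub ∈ NSIdeals X p, ∀ J ∈ C, J ≤ ub := by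
  choose Z i hcl hns hid using fun a : ↥C => hC a.2
  haveI hmono : ∀ a, Mono (i a) := fun a => mono_of_closedImmersion X (i a) (hcl a)
  have hZalg : ∀ a, AlgSp.IsAlgSpace (Z a) := fun a =>
    Groth.Agent.Lib.T2H7.QcOpen.isAlgSpace_of_representable X.property (i a) (hcl a).1
  -- the index category
  haveI : Nonempty (↥C)ᵒᵈ := ⟨OrderDual.toDual ⟨hne.some, hne.some_mem⟩⟩
  haveI : IsDirected (↥C)ᵒᵈ (· ≥ ·) := ⟨fun a b => by
    rcases hchain.total (OrderDual.ofDual a).2 (OrderDual.ofDual b).2 with h | h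
    · exact ⟨b, h, le_rfl⟩
    · exact ⟨a, le_rfl, h⟩⟩
  haveI : IsCofiltered (↥C)ᵒᵈ := inferInstance
  have hex : ∀ {a b : (↥C)ᵒᵈ} (h : a ⟶ b), ∃ m : Z (OrderDual.ofDual a) ⟶ Z (OrderDual.ofDual b),
      m ≫ i (OrderDual.ofDual b) = i (OrderDual.ofDual a) := fun {a b} h =>
    exists_hom_of_le p (hid (OrderDual.ofDual a)) (hid (OrderDual.ofDual b))
      (show (OrderDual.ofDual b).1 ≤ (OrderDual.ofDual a).1 from
        Subtype.coe_le_coe.2 (OrderDual.ofDual_le_ofDual.2 (leOfHom h)))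
  let D : (↥C)ᵒᵈ ⥤ AlgSp.Sp S :=
    { obj := fun a => Z (OrderDual.ofDual a)
      map := fun {a b} h => (hex h).choose
      map_id := fun a => by
        rw [← cancel_mono (i (OrderDual.ofDual a)), (hex (𝟙 a)).choose_spec, Category.id_comp]
      map_comp := fun {a b c} f g => by
        rw [← cancel_mono (i (OrderDual.ofDual c)), (hex (f ≫ g)).choose_spec, Category.assoc,
          (hex g).choose_spec, (hex f).choose_spec] }
  let t : D ⟶ (Functor.const (↥C)ᵒᵈ).obj X.obj :=
    { app := fun a => i (OrderDual.ofDual a)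
      naturality := fun a b h => by
        simp only [Functor.const_obj_obj, Functor.const_obj_map, Category.comp_id]
        exact (hex h).choose_spec }
  have tnat : ∀ {a b : (↥C)ᵒᵈ} (h : a ⟶ b), D.map h ≫ t.app b = t.app a := fun h =>
    (hex h).choose_spec
  let c : Cone D := limit.cone D
  have hc : IsLimit c := limit.isLimit D
  let a₀ : (↥C)ᵒᵈ := OrderDual.toDual ⟨hne.some, hne.some_mem⟩
  let g : c.pt ⟶ X.obj := c.π.app a₀ ≫ t.app a₀
  have hg : ∀ a, c.π.app a ≫ t.app a = g := fun a => by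
    let m := IsCofiltered.min a a₀
    have h1 : c.π.app a ≫ t.app a = c.π.app m ≫ t.app m := by
      rw [← c.w (IsCofiltered.minToLeft a a₀), Category.assoc, tnat]
    have h2 : c.π.app a₀ ≫ t.app a₀ = c.π.app m ≫ t.app m := by
      rw [← c.w (IsCofiltered.minToRight a a₀), Category.assoc, tnat]
    rw [h1]
    exact h2.symm
  have hgcl : AlgSp.RepWith @IsClosedImmersion g :=
    repWith_closedImmersion_limit D X.obj t (fun a => hcl _) (fun a => hmono _) c hc g hg
  -- the limit is not a scheme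
  have haff : ∀ a, AlgSp.IsAffineMor (t.app a) := fun a =>
    Groth.Agent.Lib.T2H7.EvIsoB.isAffineMor_of_closedImmersion _ (hcl _)
  have hD : ∀ a, AlgSp.IsAlgSpace (D.obj a) := fun a => hZalg _
  have hqc : ∀ a, AlgSp.IsQuasiCompactSp (D.obj a) := fun a =>
    Groth.Agent.Lib.T2H7.AffQcqs.isQuasiCompactSp_of_isAffineMor ⟨D.obj a, hD a⟩ X _ (haff a) hXqc
  have hqs : ∀ a, AlgSp.IsQuasiSeparatedSp (D.obj a) := fun a =>
    Groth.Agent.Lib.T2H7.AffQcqs.isQuasiSeparatedSp_of_isAffineMor ⟨D.obj a, hD a⟩ X _ (haff a)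
      hXqs
  have hDa : ∀ (a b : (↥C)ᵒᵈ) (h : a ⟶ b), AlgSp.IsAffineMor (D.map h) := fun a b h => by
    refine Groth.Agent.S9944.isAffineMor_of_diagonal (D.map h) (t.app b) ?_ ?_
    · rw [tnat h]
      exact haff a
    · exact Groth.Agent.S9944.isAffineMor_of_isClosedImmersion _
        (Groth.Agent.Lib.T2H7.AffSep.isSeparatedMor_of_isAffineMor (hD b).diag (t.app b) (haff b))
  have hnrep : ¬ c.pt.obj.IsRepresentable := fun hrep => by
    obtain ⟨a, ha⟩ := Groth.Agent.S10007.result S D hD hDa hqc hqs c hc hrep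
    exact hns _ ha
  obtain ⟨ub, hub⟩ := exists_hasIdeal p g hgcl
  refine ⟨ub, ⟨c.pt, g, hgcl, hnrep, hub⟩, fun J hJ => ?_⟩
  exact hasIdeal_le p hub (hid ⟨J, hJ⟩) (c.π.app (OrderDual.toDual ⟨J, hJ⟩))
    (hg (OrderDual.toDual ⟨J, hJ⟩))

end zorn


/-- **a quasi-compact quasi-separated algebraic space which is not a scheme has a closed subspace
which is not a scheme all of whose proper closed subspaces are schemes.** -/
theorem exists_minimal [QuasiSeparatedSpace S] (X : AlgSp.Space S)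
    (hXqc : AlgSp.IsQuasiCompactSp X.obj) (hXqs : AlgSp.IsQuasiSeparatedSp X.obj)
    (hX : ¬ X.obj.obj.IsRepresentable) :
    ∃ (Z : AlgSp.Space S) (i : Z ⟶ X), AlgSp.RepWith @IsClosedImmersion i.hom ∧
      ¬ Z.obj.obj.IsRepresentable ∧
      ∀ (Z' : AlgSp.Space S) (i' : Z' ⟶ Z), AlgSp.RepWith @IsClosedImmersion i'.hom →
        ¬ IsIso i' → Z'.obj.obj.IsRepresentable := by
  obtain ⟨U, p, hU, hpe, hps⟩ := (Groth.Agent.S10180.result X).1 hXqc
  haveI : Epi p := Groth.Agent.S9927.epi_of_repWith p hpe hps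
  have h0 : (⊥ : U.left.IdealSheafData) ∈ NSIdeals X p :=
    ⟨X.obj, 𝟙 _, (AlgSp.RepWith @IsClosedImmersion).id_mem _, hX, hasIdeal_id p⟩
  obtain ⟨m, -, hm⟩ := zorn_le_nonempty₀ (NSIdeals X p)
    (fun C hCs hchain y hy => exists_upper_bound X p hXqc hXqs C hCs hchain ⟨y, hy⟩) ⊥ h0
  obtain ⟨Z, i, hcl, hns, hid⟩ := hm.prop
  have hZalg : AlgSp.IsAlgSpace Z :=
    Groth.Agent.Lib.T2H7.QcOpen.isAlgSpace_of_representable X.property i hcl.1
  refine ⟨⟨Z, hZalg⟩, ObjectProperty.homMk i, hcl, hns, fun Z' i' hcl' hniso => ?_⟩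
  by_contra hZ'
  have hcomp : AlgSp.RepWith @IsClosedImmersion (i'.hom ≫ i) :=
    (AlgSp.RepWith @IsClosedImmersion).comp_mem _ _ hcl' hcl
  obtain ⟨J', hJ'⟩ := exists_hasIdeal p (i'.hom ≫ i) hcomp
  have hJ'mem : J' ∈ NSIdeals X p := ⟨Z'.obj, _, hcomp, hZ', hJ'⟩
  have hle : m ≤ J' := hasIdeal_le p hJ' hid i'.hom rfl
  have hge : J' ≤ m := hm.le_of_ge hJ'mem hle
  haveI : Mono i := mono_of_closedImmersion X i hcl
  haveI : Mono (i'.hom ≫ i) := mono_of_closedImmersion X _ hcomp
  obtain ⟨n, hn⟩ := exists_hom_of_le p hid hJ' hge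
  have h1 : n ≫ i'.hom = 𝟙 Z := by
    rw [← cancel_mono i, Category.assoc, hn, Category.id_comp]
  have h2 : i'.hom ≫ n = 𝟙 Z'.obj := by
    rw [← cancel_mono (i'.hom ≫ i), Category.assoc, hn, Category.id_comp]
  apply hniso
  refine ⟨ObjectProperty.homMk n, ?_, ?_⟩
  · ext1
    exact h2
  · ext1
    exact h1

end Groth.Agent.Lib.T2H7.MinNonSchB
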