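import Mathlib

/-!
# Representability can be checked on affine test schemes (helper7)

Let `F : (Over S)ᵒᵖ ⥤ Type u` be a presheaf which is separated for affine open covers, `W` an
`S`-scheme and `ξ ∈ F(W)`.  If `a ↦ a^* ξ` is bijective `Hom_S(T, W) → F(T)` for all affine `T`,
then it is bijective for all `T`, so that `W` represents `F`.
-/

set_option autoImplicit false
set_option linter.unusedSectionVars false
set_option linter.unusedVariables false
universe u
open CategoryTheory CategoryTheory.Limits AlgebraicGeometry Opposite

namespace Groth.Agent.Lib.T2H7.RepAffine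

variable {S : Scheme.{u}}

/-- The inclusion of a member of the standard affine cover, as a morphism over `S`. -/
noncomputable def coverIncl (T : Over S) (i : T.left.affineCover.I₀) :
    Over.mk (T.left.affineCover.f i ≫ T.hom) ⟶ T :=
  Over.homMk (T.left.affineCover.f i) rfl

variable (F : (Over S)ᵒᵖ ⥤ Type u) (W : Over S) (ξ : F.obj (op W))

theorem injective_of_affine
    (haff : ∀ T : Over S, IsAffine T.left → Function.Injective (fun a : T ⟶ W => F.map a.op ξ))
    (T : Over S) : Function.Injective (fun a : T ⟶ W => F.map a.op ξ) := by
  intro a b hab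
  dsimp only at hab
  ext1
  refine Scheme.Cover.hom_ext T.left.affineCover _ _ fun i => ?_
  have h1 : coverIncl T i ≫ a = coverIncl T i ≫ b := by
    apply haff _ (inferInstanceAs (IsAffine (T.left.affineCover.X i)))
    dsimp only
    rw [op_comp, F.map_comp, op_comp, F.map_comp]
    simp only [types_comp_apply, hab]
  exact congrArg (fun φ => φ.left) h1

theorem bijective_of_affine
    (hsep : ∀ (T : Over S) (x y : F.obj (op T)),
      (∀ i, F.map (coverIncl T i).op x = F.map (coverIncl T i).op y) → x = y)
    (haff : ∀ T : Over S, IsAffine T.left → Function.Bijective (fun a : T ⟶ W => F.map a.op ξ))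
    (T : Over S) : Function.Bijective (fun a : T ⟶ W => F.map a.op ξ) := by
  have hinj := injective_of_affine F W ξ (fun T hT => (haff T hT).1)
  refine ⟨hinj T, fun η => ?_⟩
  -- local classifying maps
  have hloc : ∀ i, ∃ a : Over.mk (T.left.affineCover.f i ≫ T.hom) ⟶ W,
      F.map a.op ξ = F.map (coverIncl T i).op η := fun i =>
    (haff _ (inferInstanceAs (IsAffine (T.left.affineCover.X i)))).2 _
  choose a ha using hloc
  have hcompat : ∀ i j, pullback.fst (T.left.affineCover.f i) (T.left.affineCover.f j) ≫
      (a i).left = pullback.snd _ _ ≫ (a j).left := by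
    intro i j
    let P : Over S := Over.mk (pullback.fst (T.left.affineCover.f i) (T.left.affineCover.f j) ≫
      T.left.affineCover.f i ≫ T.hom)
    let p₁ : P ⟶ Over.mk (T.left.affineCover.f i ≫ T.hom) := Over.homMk (pullback.fst _ _) rfl
    let p₂ : P ⟶ Over.mk (T.left.affineCover.f j ≫ T.hom) := Over.homMk (pullback.snd _ _)
      (by simp [P, pullback.condition_assoc])
    have hp : p₁ ≫ coverIncl T i = p₂ ≫ coverIncl T j := by
      ext1
      simp [p₁, p₂, coverIncl, pullback.condition]
    have h1 : p₁ ≫ a i = p₂ ≫ a j := by
      apply hinj P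
      dsimp only
      rw [op_comp, F.map_comp, op_comp, F.map_comp]
      simp only [types_comp_apply, ha]
      rw [← types_comp_apply (F.map (coverIncl T i).op) (F.map p₁.op),
        ← types_comp_apply (F.map (coverIncl T j).op) (F.map p₂.op), ← F.map_comp, ← F.map_comp,
        ← op_comp, ← op_comp, hp]
    exact congrArg (fun φ => φ.left) h1
  have hglue : ∀ i, T.left.affineCover.f i ≫
      T.left.affineCover.glueMorphisms (fun i => (a i).left) hcompat = (a i).left :=
    fun i => Scheme.Cover.ι_glueMorphisms _ _ _ i
  have hw : T.left.affineCover.glueMorphisms (fun i => (a i).left) hcompat ≫ W.hom = T.hom := by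
    refine Scheme.Cover.hom_ext T.left.affineCover _ _ fun i => ?_
    rw [← Category.assoc, hglue]
    exact Over.w (a i)
  refine ⟨Over.homMk _ hw, ?_⟩
  dsimp only
  apply hsep
  intro i
  have h2 : coverIncl T i ≫ Over.homMk _ hw = a i := by
    ext1
    simp only [Over.comp_left, Over.homMk_left, coverIncl]
    exact hglue i
  rw [← types_comp_apply (F.map (Over.homMk _ hw).op) (F.map (coverIncl T i).op), ← F.map_comp,
    ← op_comp, h2, ha]

/-- The representability structure obtained from a universal element. -/
noncomputable def representableBy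
    (h : ∀ T : Over S, Function.Bijective (fun a : T ⟶ W => F.map a.op ξ)) :
    F.RepresentableBy W where
  homEquiv {T} := Equiv.ofBijective _ (h T)
  homEquiv_comp f g := by
    simp only [Equiv.ofBijective_apply, op_comp, F.map_comp, types_comp_apply]

end Groth.Agent.Lib.T2H7.RepAffine
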