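import Mathlib

/-!
# Weil restriction of algebras along a finite free algebra (helper7)

For a commutative ring `R`, an `R`-algebra `A` and an `R`-algebra `B` which is free with a finite
basis, we construct an `R`-algebra `C` with a universal `R`-algebra map `ev : A → C ⊗[R] B`:
every `R`-algebra map `A → R' ⊗[R] B` is induced by a unique `R`-algebra map `C → R'`.
-/

set_option autoImplicit false
set_option linter.unusedSectionVars false
set_option linter.unusedVariables false
universe u
open TensorProduct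

namespace Groth.Agent.Lib.T2H7.WeilAlg

variable {R A B : Type u} [CommRing R] [CommRing A] [CommRing B] [Algebra R A] [Algebra R B]
variable {κ : Type u} [Fintype κ] [DecidableEq κ] (b : Module.Basis κ R B)

section Repr

variable (D E : Type u) [CommRing D] [CommRing E] [Algebra R D] [Algebra R E]

theorem repr_map (w : D →ₐ[R] E) (x : D ⊗[R] B) (i : κ) :
    (Algebra.TensorProduct.basis E b).repr (Algebra.TensorProduct.map w (AlgHom.id R B) x) i =
      w ((Algebra.TensorProduct.basis D b).repr x i) := by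
  induction x using TensorProduct.induction_on with
  | zero => simp
  | tmul d m =>
    simp only [Algebra.TensorProduct.map_tmul, AlgHom.coe_id, id_eq,
      Algebra.TensorProduct.basis_repr_tmul, Finsupp.smul_apply, Finsupp.mapRange_apply,
      smul_eq_mul, map_mul, AlgHom.commutes]
  | add x y hx hy => simp only [map_add, Finsupp.add_apply, hx, hy]

theorem expand (x : D ⊗[R] B) :
    x = ∑ i, (Algebra.TensorProduct.basis D b).repr x i ⊗ₜ[R] b i := by
  conv_lhs => rw [← (Algebra.TensorProduct.basis D b).sum_repr x]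
  refine Finset.sum_congr rfl fun i _ => ?_
  exact Algebra.TensorProduct.basis_repr_symm_apply' b _ i

theorem repr_sum_tmul (c : κ → D) (j : κ) :
    (Algebra.TensorProduct.basis D b).repr (∑ i, c i ⊗ₜ[R] b i) j = c j := by
  rw [map_sum, Finset.sum_apply']
  simp only [Algebra.TensorProduct.basis_repr_tmul, Module.Basis.repr_self, Finsupp.smul_apply,
    Finsupp.mapRange_apply, smul_eq_mul]
  rw [Finset.sum_eq_single j]
  · simp
  · intro i _ hij
    simp [hij]
  · intro h; exact absurd (Finset.mem_univ j) h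

theorem ext_repr {x y : D ⊗[R] B}
    (h : ∀ i, (Algebra.TensorProduct.basis D b).repr x i =
      (Algebra.TensorProduct.basis D b).repr y i) : x = y := by
  apply (Algebra.TensorProduct.basis D b).repr.injective
  ext i
  exact h i

end Repr

variable {σ : Type u} (π : MvPolynomial σ R →ₐ[R] A)

/-- the generic point: `X_s ↦ ∑ i, X_(s,i) ⊗ b_i`. -/
noncomputable def ev₀ : MvPolynomial σ R →ₐ[R] MvPolynomial (σ × κ) R ⊗[R] B :=
  MvPolynomial.aeval fun s => ∑ i, MvPolynomial.X (s, i) ⊗ₜ[R] b i

/-- the ideal of relations. -/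
noncomputable def relIdeal : Ideal (MvPolynomial (σ × κ) R) :=
  Ideal.span {c | ∃ p ∈ RingHom.ker π.toRingHom, ∃ i,
    c = (Algebra.TensorProduct.basis (MvPolynomial (σ × κ) R) b).repr (ev₀ b p) i}

/-- the representing algebra. -/
def Rep : Type u := MvPolynomial (σ × κ) R ⧸ relIdeal b π

noncomputable instance : CommRing (Rep b π) :=
  inferInstanceAs (CommRing (MvPolynomial (σ × κ) R ⧸ relIdeal b π))

noncomputable instance : Algebra R (Rep b π) :=
  inferInstanceAs (Algebra R (MvPolynomial (σ × κ) R ⧸ relIdeal b π))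

/-- the quotient map. -/
noncomputable def mkRep : MvPolynomial (σ × κ) R →ₐ[R] Rep b π :=
  Ideal.Quotient.mkₐ R (relIdeal b π)

theorem mkRep_surjective : Function.Surjective (mkRep b π) :=
  Ideal.Quotient.mkₐ_surjective R _

theorem mkRep_eq_zero {c : MvPolynomial (σ × κ) R} (hc : c ∈ relIdeal b π) : mkRep b π c = 0 :=
  Ideal.Quotient.eq_zero_iff_mem.mpr hc

/-- descending maps to the quotient. -/
noncomputable def liftRep {R' : Type u} [CommRing R'] [Algebra R R']
    (w : MvPolynomial (σ × κ) R →ₐ[R] R') (hw : ∀ c ∈ relIdeal b π, w c = 0) : Rep b π →ₐ[R] R' :=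
  Ideal.Quotient.liftₐ (relIdeal b π) w hw

theorem liftRep_comp {R' : Type u} [CommRing R'] [Algebra R R']
    (w : MvPolynomial (σ × κ) R →ₐ[R] R') (hw : ∀ c ∈ relIdeal b π, w c = 0) :
    (liftRep b π w hw).comp (mkRep b π) = w := by
  ext x
  rfl

noncomputable def ev₁ : MvPolynomial σ R →ₐ[R] Rep b π ⊗[R] B :=
  (Algebra.TensorProduct.map (mkRep b π) (AlgHom.id R B)).comp (ev₀ b)

theorem ev₁_ker : RingHom.ker π.toRingHom ≤ RingHom.ker (ev₁ b π).toRingHom := by
  intro p hp
  rw [RingHom.mem_ker]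
  apply ext_repr b
  intro i
  have h := repr_map b (MvPolynomial (σ × κ) R) (Rep b π) (mkRep b π) (ev₀ b p) i
  change (Algebra.TensorProduct.basis (Rep b π) b).repr
    ((Algebra.TensorProduct.map (mkRep b π) (AlgHom.id R B)) (ev₀ b p)) i = _
  rw [h, map_zero, Finsupp.zero_apply]
  exact mkRep_eq_zero b π (Ideal.subset_span ⟨p, hp, i, rfl⟩)

variable (hπ : Function.Surjective π)

/-- the universal map. -/
noncomputable def ev : A →ₐ[R] Rep b π ⊗[R] B :=
  AlgHom.liftOfSurjective π hπ (ev₁ b π) (ev₁_ker b π)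

theorem ev_comp : (ev b π hπ).comp π = ev₁ b π := AlgHom.liftOfSurjective_comp _ _ _ _

/-- the polynomial-level classifying map of `ψ`. -/
noncomputable def cls₀ (R' : Type u) [CommRing R'] [Algebra R R'] (ψ : A →ₐ[R] R' ⊗[R] B) :
    MvPolynomial (σ × κ) R →ₐ[R] R' :=
  MvPolynomial.aeval fun q : σ × κ =>
    (Algebra.TensorProduct.basis R' b).repr (ψ (π (MvPolynomial.X q.1))) q.2

theorem map_cls₀_ev₀ (R' : Type u) [CommRing R'] [Algebra R R'] (ψ : A →ₐ[R] R' ⊗[R] B) :
    (Algebra.TensorProduct.map (cls₀ b π R' ψ) (AlgHom.id R B)).comp (ev₀ b) = ψ.comp π := by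
  apply MvPolynomial.algHom_ext
  intro s
  simp only [AlgHom.comp_apply, ev₀, MvPolynomial.aeval_X, map_sum,
    Algebra.TensorProduct.map_tmul, AlgHom.coe_id, id_eq, cls₀]
  exact (expand b R' _).symm

theorem cls₀_relIdeal (R' : Type u) [CommRing R'] [Algebra R R'] (ψ : A →ₐ[R] R' ⊗[R] B) :
    ∀ c ∈ relIdeal b π, cls₀ b π R' ψ c = 0 := by
  intro c hc
  have hle : relIdeal b π ≤ RingHom.ker (cls₀ b π R' ψ).toRingHom := by
    unfold relIdeal
    rw [Ideal.span_le]
    rintro _ ⟨p, hp, i, rfl⟩
    have h := repr_map b (MvPolynomial (σ × κ) R) R' (cls₀ b π R' ψ) (ev₀ b p) i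
    have h2 := DFunLike.congr_fun (map_cls₀_ev₀ b π R' ψ) p
    simp only [AlgHom.comp_apply] at h2
    rw [h2] at h
    have hp' : π p = 0 := hp
    rw [hp', map_zero, map_zero, Finsupp.zero_apply] at h
    exact h.symm
  exact hle hc

theorem existsUnique_cls (R' : Type u) [CommRing R'] [Algebra R R'] (ψ : A →ₐ[R] R' ⊗[R] B) :
    ∃! v : Rep b π →ₐ[R] R',
      (Algebra.TensorProduct.map v (AlgHom.id R B)).comp (ev b π hπ) = ψ := by
  refine ⟨liftRep b π (cls₀ b π R' ψ) (cls₀_relIdeal b π R' ψ), ?_, ?_⟩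
  · have hsurj : Function.Surjective π := hπ
    apply (AlgHom.cancel_right hsurj).mp
    rw [AlgHom.comp_assoc, ev_comp, ev₁, ← AlgHom.comp_assoc, ← map_cls₀_ev₀ b π R' ψ]
    congr 1
    rw [← Algebra.TensorProduct.map_comp, liftRep_comp, AlgHom.comp_id]
  · intro v hv
    have hv' : v.comp (mkRep b π) = cls₀ b π R' ψ := by
      apply MvPolynomial.algHom_ext
      rintro ⟨s, j⟩
      have h1 := DFunLike.congr_fun hv (π (MvPolynomial.X s))
      have h2 := DFunLike.congr_fun (ev_comp b π hπ) (MvPolynomial.X s)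
      simp only [AlgHom.comp_apply] at h1 h2
      rw [h2] at h1
      simp only [ev₁, ev₀, AlgHom.comp_apply, MvPolynomial.aeval_X, map_sum,
        Algebra.TensorProduct.map_tmul, AlgHom.coe_id, id_eq] at h1
      have h3 := congrArg (fun x => (Algebra.TensorProduct.basis R' b).repr x j) h1
      simp only [repr_sum_tmul] at h3
      simp only [AlgHom.comp_apply, cls₀, MvPolynomial.aeval_X]
      exact h3
    apply (AlgHom.cancel_right (mkRep_surjective b π)).mp
    rw [hv', liftRep_comp]

/-- **Weil restriction of algebras** along a finite free algebra. -/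
theorem exists_weilAlgebra (R A B : Type u) [CommRing R] [CommRing A] [CommRing B] [Algebra R A]
    [Algebra R B] [Module.Free R B] [Module.Finite R B] :
    ∃ (C : Type u) (_ : CommRing C) (_ : Algebra R C) (ev : A →ₐ[R] C ⊗[R] B),
      ∀ (R' : Type u) [CommRing R'] [Algebra R R'] (ψ : A →ₐ[R] R' ⊗[R] B),
        ∃! v : C →ₐ[R] R', (Algebra.TensorProduct.map v (AlgHom.id R B)).comp ev = ψ := by
  classical
  let b := Module.Free.chooseBasis R B
  have hπ : Function.Surjective (MvPolynomial.aeval (R := R) (id : A → A)) := fun a =>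
    ⟨MvPolynomial.X a, by simp⟩
  exact ⟨Rep b (MvPolynomial.aeval (R := R) (id : A → A)), inferInstance, inferInstance,
    ev b _ hπ, fun R' _ _ ψ => existsUnique_cls b _ hπ R' ψ⟩

end Groth.Agent.Lib.T2H7.WeilAlg
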