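import Mathlib
import Groth.Prelude.Def_Flatn
import Groth.Agent.Lib.T2H7RepAffine
import Groth.Agent.Lib.T2H7WeilAlg

/-!
# `Mor_S(Z, X)` for `Z` finite free over an affine base and `X` affine (helper7)
-/

set_option autoImplicit false
set_option linter.unusedSectionVars false
set_option linter.unusedVariables false
set_option linter.style.haveILetI false
universe u
open CategoryTheory CategoryTheory.Limits AlgebraicGeometry Opposite TensorProduct

namespace Groth.Agent.Lib.T2H7.MorSAffine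

open Groth.Agent.Lib.T2H7.RepAffine Groth.Agent.Lib.T2H7.WeilAlg



/-- The universal property of the Weil restriction algebra, in `CommRingCat` form. -/
theorem exists_weil_commRingCat {R A B : CommRingCat.{u}} (φA : R ⟶ A) (φB : R ⟶ B)
    (hfin : letI := φB.hom.toAlgebra; Module.Finite R B)
    (hfree : letI := φB.hom.toAlgebra; Module.Free R B) :
    ∃ (C : CommRingCat.{u}) (φC : R ⟶ C) (PC : CommRingCat.{u}) (iC : C ⟶ PC) (iB : B ⟶ PC)
      (_ : IsPushout φC φB iC iB) (ev : A ⟶ PC), φA ≫ ev = φB ≫ iB ∧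
      ∀ (R' : CommRingCat.{u}) (φ' : R ⟶ R') (P' : CommRingCat.{u}) (i' : R' ⟶ P') (iB' : B ⟶ P')
        (_ : IsPushout φ' φB i' iB') (ψ : A ⟶ P'), φA ≫ ψ = φB ≫ iB' →
        ∃! v : C ⟶ R', φC ≫ v = φ' ∧
          ∀ (d : PC ⟶ P'), iC ≫ d = v ≫ i' → iB ≫ d = iB' → ev ≫ d = ψ := by
  letI algA : Algebra R A := φA.hom.toAlgebra
  letI algB : Algebra R B := φB.hom.toAlgebra
  haveI : Module.Finite R B := hfin
  haveI : Module.Free R B := hfree
  obtain ⟨C, instC, algC, ev, huniv⟩ := exists_weilAlgebra R A B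
  have hPC := CommRingCat.isPushout_tensorProduct R C B
  refine ⟨CommRingCat.of C, CommRingCat.ofHom (algebraMap R C), CommRingCat.of (C ⊗[R] B), _, _,
    hPC, CommRingCat.ofHom ev.toRingHom, ?_, ?_⟩
  · ext r
    simp only [CommRingCat.hom_comp, CommRingCat.hom_ofHom, RingHom.coe_comp, Function.comp_apply]
    have h1 : ev (algebraMap R A r) = algebraMap R (C ⊗[R] B) r := ev.commutes r
    have h2 : (Algebra.TensorProduct.includeRight : B →ₐ[R] C ⊗[R] B) (algebraMap R B r) =
      algebraMap R (C ⊗[R] B) r := AlgHom.commutes _ r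
    exact h1.trans h2.symm
  · intro R' φ' P' i' iB' h' ψ hψ
    letI algR' : Algebra R R' := φ'.hom.toAlgebra
    have hTP := CommRingCat.isPushout_tensorProduct R R' B
    let e : CommRingCat.of (R' ⊗[R] B) ≅ P' := hTP.isoIsPushout _ _ h'
    have he1 : CommRingCat.ofHom (Algebra.TensorProduct.includeLeftRingHom : R' →+* R' ⊗[R] B) ≫
        e.hom = i' := hTP.inl_isoIsPushout_hom _ _ h'
    have he2 : CommRingCat.ofHom (Algebra.TensorProduct.includeRight : B →ₐ[R] R' ⊗[R] B).toRingHom ≫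
        e.hom = iB' := hTP.inr_isoIsPushout_hom _ _ h'
    have he3 : iB' ≫ e.inv =
        CommRingCat.ofHom (Algebra.TensorProduct.includeRight : B →ₐ[R] R' ⊗[R] B).toRingHom :=
      hTP.inr_isoIsPushout_inv _ _ h'
    let ψ' : A →ₐ[R] R' ⊗[R] B :=
      { toRingHom := (ψ ≫ e.inv).hom
        commutes' := fun r => by
          have h1 : (ψ ≫ e.inv).hom (φA.hom r) = (φB ≫ iB' ≫ e.inv).hom r := by
            rw [← Category.assoc, ← hψ]; rfl
          rw [he3] at h1
          exact h1.trans (AlgHom.commutes (Algebra.TensorProduct.includeRight :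
            B →ₐ[R] R' ⊗[R] B) r) }
    obtain ⟨v, hv, hvuniq⟩ := huniv R' ψ'
    -- the map on pushouts induced by an algebra map
    have key : ∀ (w : C →ₐ[R] R') (d : CommRingCat.of (C ⊗[R] B) ⟶ P'),
        CommRingCat.ofHom (Algebra.TensorProduct.includeLeftRingHom : C →+* C ⊗[R] B) ≫ d =
          CommRingCat.ofHom w.toRingHom ≫ i' →
        CommRingCat.ofHom (Algebra.TensorProduct.includeRight : B →ₐ[R] C ⊗[R] B).toRingHom ≫ d =
          iB' →
        d = CommRingCat.ofHom (Algebra.TensorProduct.map w (AlgHom.id R B)).toRingHom ≫ e.hom := by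
      intro w d hd1 hd2
      apply hPC.hom_ext
      · rw [hd1, ← he1, ← Category.assoc, ← Category.assoc]
        congr 1
      · rw [hd2, ← he2, ← Category.assoc]
        congr 1
        ext c
        simp
    refine ⟨CommRingCat.ofHom v.toRingHom, ⟨?_, ?_⟩, ?_⟩
    · ext r
      exact v.commutes r
    · intro d hd1 hd2
      rw [key v d hd1 hd2, ← Category.assoc]
      have : CommRingCat.ofHom ev.toRingHom ≫
          CommRingCat.ofHom (Algebra.TensorProduct.map v (AlgHom.id R B)).toRingHom =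
          ψ ≫ e.inv := by
        ext a
        exact DFunLike.congr_fun hv a
      rw [this, Category.assoc, e.inv_hom_id, Category.comp_id]
    · rintro v₁ ⟨hv₁, hd⟩
      let v₁' : C →ₐ[R] R' :=
        { toRingHom := v₁.hom
          commutes' := fun r => by
            have := congrArg (fun φ => φ.hom r) hv₁
            exact this }
      have hv₁' : CommRingCat.ofHom v₁'.toRingHom = v₁ := rfl
      have h1 := hd (CommRingCat.ofHom (Algebra.TensorProduct.map v₁' (AlgHom.id R B)).toRingHom ≫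
        e.hom) (by
          rw [← Category.assoc, hv₁'.symm, ← he1, ← Category.assoc]
          congr 1) (by
          rw [← Category.assoc, ← he2]
          congr 1
          ext c
          simp)
      have h2 : (Algebra.TensorProduct.map v₁' (AlgHom.id R B)).comp ev = ψ' := by
        ext a
        have := congrArg (fun φ => (φ ≫ e.inv).hom a) h1
        simp only [Category.assoc, e.hom_inv_id, Category.comp_id] at this
        exact this
      rw [← hv₁', hvuniq v₁' h2]



theorem isoSpec_inv_appTop (Y : Scheme.{u}) [IsAffine Y] :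
    Y.isoSpec.inv.appTop = (Scheme.ΓSpecIso Γ(Y, ⊤)).inv := by
  have h : Y.isoSpec.hom.appTop ≫ Y.isoSpec.inv.appTop = 𝟙 _ := by
    rw [← Scheme.Hom.comp_appTop, Iso.inv_hom_id]; rfl
  rw [Scheme.isoSpec_hom, Scheme.toSpecΓ_appTop] at h
  rw [← cancel_epi (Scheme.ΓSpecIso Γ(Y, ⊤)).hom, h, Iso.hom_inv_id]

/-- The morphism into an affine scheme attached to a ring map on global sections. -/
noncomputable def homOfΓ {T Y : Scheme.{u}} [IsAffine Y] (φ : Γ(Y, ⊤) ⟶ Γ(T, ⊤)) : T ⟶ Y :=
  T.toSpecΓ ≫ Spec.map φ ≫ Y.isoSpec.inv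

theorem homOfΓ_appTop {T Y : Scheme.{u}} [IsAffine Y] (φ : Γ(Y, ⊤) ⟶ Γ(T, ⊤)) :
    (homOfΓ φ).appTop = φ := by
  unfold homOfΓ
  rw [Scheme.Hom.comp_appTop, Scheme.Hom.comp_appTop, isoSpec_inv_appTop, Scheme.toSpecΓ_appTop,
    Category.assoc, ← Scheme.ΓSpecIso_inv_naturality_assoc, Iso.inv_hom_id, Category.comp_id]

/-- morphisms to `Spec C` from ring maps -/
noncomputable def homOfSpec {T : Scheme.{u}} {C : CommRingCat.{u}} (v : C ⟶ Γ(T, ⊤)) :
    T ⟶ Spec C :=
  T.toSpecΓ ≫ Spec.map v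

theorem homOfSpec_appTop {T : Scheme.{u}} {C : CommRingCat.{u}} (v : C ⟶ Γ(T, ⊤)) :
    (Scheme.ΓSpecIso C).inv ≫ (homOfSpec v).appTop = v := by
  unfold homOfSpec
  rw [Scheme.Hom.comp_appTop, Scheme.toSpecΓ_appTop, ← Scheme.ΓSpecIso_inv_naturality_assoc,
    Iso.inv_hom_id, Category.comp_id]




variable {Z X S : Scheme.{u}} (g : Z ⟶ S) (f : X ⟶ S)

set_option backward.isDefEq.respectTransparency false in
theorem pullback_map_left {T T' : Over S} (φ : T' ⟶ T) :
    ((Over.map g).map ((Over.pullback g).map φ)).left =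
      pullback.map T'.hom g T.hom g φ.left (𝟙 Z) (𝟙 S) (by simp) (by simp) := by
  apply pullback.hom_ext <;> simp

theorem morS_sep (T : Over S) (x y : (Flatn.morS g f).obj (op T))
    (h : ∀ i, (Flatn.morS g f).map (coverIncl T i).op x =
      (Flatn.morS g f).map (coverIncl T i).op y) : x = y := by
  apply Over.OverMorphism.ext
  refine Scheme.Cover.hom_ext (Scheme.Pullback.openCoverOfLeft T.left.affineCover T.hom g) _ _
    fun i => ?_
  have h1 := congrArg (fun φ => φ.left) (h i)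
  simp only [Flatn.morS_map, Over.comp_left, pullback_map_left] at h1
  exact h1


section Main

variable {Z X S : Scheme.{u}} [IsAffine Z] [IsAffine X] [IsAffine S] (g : Z ⟶ S) (f : X ⟶ S)

theorem exists_bijective_affine
    (hfin : letI := g.appTop.hom.toAlgebra; Module.Finite Γ(S, ⊤) Γ(Z, ⊤))
    (hfree : letI := g.appTop.hom.toAlgebra; Module.Free Γ(S, ⊤) Γ(Z, ⊤)) :
    ∃ (W : Over S) (ξ : (Flatn.morS g f).obj (op W)), IsAffine W.left ∧
      ∀ T : Over S, IsAffine T.left →
        Function.Bijective (fun a : T ⟶ W => (Flatn.morS g f).map a.op ξ) := by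
  obtain ⟨C, φC, PC, iC, iB, hPC, ev, hev, huniv⟩ :=
    exists_weil_commRingCat f.appTop g.appTop hfin hfree
  -- the representing object
  obtain ⟨wh, hwh⟩ : ∃ wh : Spec C ⟶ S, wh = Spec.map φC ≫ S.isoSpec.inv := ⟨_, rfl⟩
  have hWtop : wh.appTop = φC ≫ (Scheme.ΓSpecIso C).inv := by
    rw [hwh, Scheme.Hom.comp_appTop, isoSpec_inv_appTop, ← Scheme.ΓSpecIso_inv_naturality]
  have hPOW := isPushout_appTop_of_isPullback (IsPullback.of_hasPullback wh g)
  have hdW : φC ≫ (Scheme.ΓSpecIso C).inv ≫ (pullback.fst wh g).appTop =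
      g.appTop ≫ (pullback.snd wh g).appTop := by
    rw [← Category.assoc, ← hWtop]; exact hPOW.w
  obtain ⟨dW, hdW1, hdW2⟩ : ∃ dW : PC ⟶ Γ(pullback wh g, ⊤),
      iC ≫ dW = (Scheme.ΓSpecIso C).inv ≫ (pullback.fst wh g).appTop ∧
      iB ≫ dW = (pullback.snd wh g).appTop :=
    ⟨hPC.desc _ _ hdW, hPC.inl_desc _ _ _, hPC.inr_desc _ _ _⟩
  have hξl : (homOfΓ (ev ≫ dW) : pullback wh g ⟶ X) ≫ f = pullback.snd wh g ≫ g := by
    apply ext_of_isAffine (Y := S)
    rw [Scheme.Hom.comp_appTop, Scheme.Hom.comp_appTop, homOfΓ_appTop, ← Category.assoc, hev,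
      Category.assoc, hdW2]
  obtain ⟨ξ, hξ⟩ : ∃ ξ : (Flatn.morS g f).obj (op (Over.mk wh)),
      ξ.left = (homOfΓ (ev ≫ dW) : pullback wh g ⟶ X) :=
    ⟨Over.homMk (homOfΓ (ev ≫ dW) : pullback wh g ⟶ X) (by simpa using hξl), rfl⟩
  refine ⟨Over.mk wh, ξ, inferInstanceAs (IsAffine (Spec C)), ?_⟩
  intro T hT
  haveI : IsAffine T.left := hT
  have hPOT := isPushout_appTop_of_isPullback (IsPullback.of_hasPullback T.hom g)
  -- the key computation
  have key : ∀ a : T ⟶ Over.mk wh,
      φC ≫ (Scheme.ΓSpecIso C).inv ≫ a.left.appTop = T.hom.appTop ∧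
      ∃ da : PC ⟶ Γ(pullback T.hom g, ⊤),
        iC ≫ da = ((Scheme.ΓSpecIso C).inv ≫ a.left.appTop) ≫ (pullback.fst T.hom g).appTop ∧
        iB ≫ da = (pullback.snd T.hom g).appTop ∧
        ((Flatn.morS g f).map a.op ξ).left.appTop = ev ≫ da := by
    intro a
    have hw : a.left ≫ wh = T.hom := Over.w a
    refine ⟨?_, dW ≫ (pullback.map T.hom g wh g a.left (𝟙 Z) (𝟙 S)
      (by rw [Category.comp_id, hw]) (by simp)).appTop, ?_, ?_, ?_⟩
    · rw [← Category.assoc, ← hWtop, ← Scheme.Hom.comp_appTop, hw]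
    · rw [← Category.assoc, hdW1, Category.assoc, Category.assoc, ← Scheme.Hom.comp_appTop,
        ← Scheme.Hom.comp_appTop, pullback.lift_fst]
    · rw [← Category.assoc, hdW2, ← Scheme.Hom.comp_appTop, pullback.lift_snd, Category.comp_id]
    · have e := homOfΓ_appTop (Y := X) (T := pullback wh g) (ev ≫ dW)
      rw [Flatn.morS_map, Over.comp_left, pullback_map_left, Scheme.Hom.comp_appTop, hξ]
      erw [e]
      rw [Category.assoc]
      rfl
  constructor
  · -- injectivity
    intro a a' haa'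
    dsimp only at haa'
    obtain ⟨h1, da, hda1, hda2, hda3⟩ := key a
    obtain ⟨h1', da', hda1', hda2', hda3'⟩ := key a'
    have hψ : f.appTop ≫ (ev ≫ da) = g.appTop ≫ (pullback.snd T.hom g).appTop := by
      rw [← Category.assoc, hev, Category.assoc, hda2]
    obtain ⟨v, -, hvuniq⟩ := huniv _ T.hom.appTop _ _ _ hPOT (ev ≫ da) hψ
    have e1 := hvuniq ((Scheme.ΓSpecIso C).inv ≫ a.left.appTop) ⟨h1, fun d hd1 hd2 => by
      rw [hPC.hom_ext (hd1.trans hda1.symm) (hd2.trans hda2.symm)]⟩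
    have e2 := hvuniq ((Scheme.ΓSpecIso C).inv ≫ a'.left.appTop) ⟨h1', fun d hd1 hd2 => by
      rw [hPC.hom_ext (hd1.trans hda1'.symm) (hd2.trans hda2'.symm), ← hda3', ← haa', hda3]⟩
    have e3 : a.left.appTop = a'.left.appTop := by
      rw [← cancel_epi (Scheme.ΓSpecIso C).inv, e1, e2]
    apply Over.OverMorphism.ext
    exact ext_of_isAffine (Y := Spec C) e3
  · -- surjectivity
    intro η
    have hη : η.left ≫ f = pullback.snd T.hom g ≫ g := by simpa using Over.w η
    have hψ : f.appTop ≫ η.left.appTop = g.appTop ≫ (pullback.snd T.hom g).appTop := by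
      rw [← Scheme.Hom.comp_appTop, hη, Scheme.Hom.comp_appTop]
    obtain ⟨v, ⟨hv1, hv2⟩, -⟩ := huniv _ T.hom.appTop _ _ _ hPOT η.left.appTop hψ
    have hva : (Scheme.ΓSpecIso C).inv ≫ (homOfSpec v : T.left ⟶ Spec C).appTop = v :=
      homOfSpec_appTop v
    have hw : (homOfSpec v : T.left ⟶ Spec C) ≫ wh = T.hom := by
      apply ext_of_isAffine
      rw [Scheme.Hom.comp_appTop, hWtop, Category.assoc, hva, hv1]
    obtain ⟨a, ha⟩ : ∃ a : T ⟶ Over.mk wh, a.left = (homOfSpec v : T.left ⟶ Spec C) :=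
      ⟨Over.homMk (homOfSpec v) hw, rfl⟩
    refine ⟨a, ?_⟩
    dsimp only
    obtain ⟨h1, da, hda1, hda2, hda3⟩ := key a
    apply Over.OverMorphism.ext
    apply ext_of_isAffine (Y := X)
    rw [hda3]
    apply hv2
    · rw [hda1, ha, hva]
    · exact hda2

end Main

end Groth.Agent.Lib.T2H7.MorSAffine
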