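import Mathlib
import Groth.Prelude.Def_Flatn
import Groth.Agent.Lib.T2H7MorSAffine

/-!
# Transfer of `Mor_S(Z, X)` along a monomorphism of bases (helper7)

For a monomorphism `ι : S' ⟶ S` and cartesian squares `Z' = Z ×_S S'`, `X' = X ×_S S'`, the sections of
`Mor_{S'}(Z', X')` over `τ : T ⟶ S'` are the sections of `Mor_S(Z, X)` over `τ ≫ ι`.
-/

set_option autoImplicit false
set_option linter.unusedSectionVars false
set_option linter.unusedVariables false
set_option linter.style.haveILetI false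

universe u

open CategoryTheory CategoryTheory.Limits AlgebraicGeometry Opposite

namespace Groth.Agent.Lib.T2H7.MorSTransfer

open Groth.Agent.Lib.T2H7.MorSAffine

variable {S S' Z Z' X X' : Scheme.{u}} {g : Z ⟶ S} {f : X ⟶ S} {ι : S' ⟶ S}
  {g' : Z' ⟶ S'} {jZ : Z' ⟶ Z} (sqZ : IsPullback jZ g' g ι)
  {f' : X' ⟶ S'} {jX : X' ⟶ X} (sqX : IsPullback jX f' f ι)

section Kappa

variable (T : Over S) (τ : T.left ⟶ S') (hτ : τ ≫ ι = T.hom)

/-- `T ×_S Z ⟶ T ×_{S'} Z'`. -/
noncomputable def kappa : pullback T.hom g ⟶ pullback τ g' :=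
  pullback.lift (pullback.fst T.hom g)
    (sqZ.lift (pullback.snd T.hom g) (pullback.fst T.hom g ≫ τ)
      (by rw [Category.assoc, hτ, pullback.condition]))
    (by rw [sqZ.lift_snd])

/-- `T ×_{S'} Z' ⟶ T ×_S Z`. -/
noncomputable def kappaInv : pullback τ g' ⟶ pullback T.hom g :=
  pullback.lift (pullback.fst τ g') (pullback.snd τ g' ≫ jZ)
    (by rw [← hτ, ← Category.assoc, pullback.condition, Category.assoc, Category.assoc, sqZ.w])

@[reassoc (attr := simp)]
theorem kappa_fst : kappa sqZ T τ hτ ≫ pullback.fst τ g' = pullback.fst T.hom g :=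
  pullback.lift_fst _ _ _

@[reassoc (attr := simp)]
theorem kappa_snd_jZ : kappa sqZ T τ hτ ≫ pullback.snd τ g' ≫ jZ = pullback.snd T.hom g := by
  unfold kappa
  rw [pullback.lift_snd_assoc, sqZ.lift_fst]

@[reassoc (attr := simp)]
theorem kappa_snd_g' :
    kappa sqZ T τ hτ ≫ pullback.snd τ g' ≫ g' = pullback.fst T.hom g ≫ τ := by
  unfold kappa
  rw [pullback.lift_snd_assoc, sqZ.lift_snd]

@[reassoc (attr := simp)]
theorem kappaInv_fst : kappaInv sqZ T τ hτ ≫ pullback.fst T.hom g = pullback.fst τ g' :=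
  pullback.lift_fst _ _ _

@[reassoc (attr := simp)]
theorem kappaInv_snd : kappaInv sqZ T τ hτ ≫ pullback.snd T.hom g = pullback.snd τ g' ≫ jZ :=
  pullback.lift_snd _ _ _

@[reassoc (attr := simp)]
theorem kappa_kappaInv : kappa sqZ T τ hτ ≫ kappaInv sqZ T τ hτ = 𝟙 _ := by
  apply pullback.hom_ext
  · simp
  · simp

@[reassoc (attr := simp)]
theorem kappaInv_kappa : kappaInv sqZ T τ hτ ≫ kappa sqZ T τ hτ = 𝟙 _ := by
  apply pullback.hom_ext
  · simp
  · apply sqZ.hom_ext
    · simp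
    · simp [pullback.condition]

end Kappa

section Theta

variable (T : Over S) (τ : T.left ⟶ S') (hτ : τ ≫ ι = T.hom)

/-- the transfer map on sections. -/
noncomputable def theta (b' : (Flatn.morS g' f').obj (op (Over.mk τ))) :
    (Flatn.morS g f).obj (op T) :=
  Over.homMk (kappa sqZ T τ hτ ≫ b'.left ≫ jX) (by
    have hb : b'.left ≫ f' = pullback.snd τ g' ≫ g' := Over.w b'
    change (kappa sqZ T τ hτ ≫ b'.left ≫ jX) ≫ f = pullback.snd T.hom g ≫ g
    rw [Category.assoc, Category.assoc, sqX.w, reassoc_of% hb, kappa_snd_g'_assoc, hτ,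
      pullback.condition])

theorem theta_left (b' : (Flatn.morS g' f').obj (op (Over.mk τ))) :
    (theta sqZ sqX T τ hτ b').left = kappa sqZ T τ hτ ≫ b'.left ≫ jX := rfl

/-- the inverse transfer map on sections. -/
noncomputable def thetaInv (b : (Flatn.morS g f).obj (op T)) :
    (Flatn.morS g' f').obj (op (Over.mk τ)) :=
  Over.homMk (sqX.lift (kappaInv sqZ T τ hτ ≫ b.left) (pullback.fst τ g' ≫ τ) (by
      have hb : b.left ≫ f = pullback.snd T.hom g ≫ g := Over.w b
      rw [Category.assoc, hb, kappaInv_snd_assoc, Category.assoc, hτ, sqZ.w,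
        ← pullback.condition_assoc, hτ])) (by
    change sqX.lift _ _ _ ≫ f' = pullback.snd τ g' ≫ g'
    rw [sqX.lift_snd, pullback.condition])

theorem thetaInv_left_jX (b : (Flatn.morS g f).obj (op T)) :
    (thetaInv sqZ sqX T τ hτ b).left ≫ jX = kappaInv sqZ T τ hτ ≫ b.left :=
  sqX.lift_fst _ _ _

theorem theta_thetaInv (b : (Flatn.morS g f).obj (op T)) :
    theta sqZ sqX T τ hτ (thetaInv sqZ sqX T τ hτ b) = b := by
  apply Over.OverMorphism.ext
  rw [theta_left, thetaInv_left_jX, kappa_kappaInv_assoc]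

theorem thetaInv_theta (b' : (Flatn.morS g' f').obj (op (Over.mk τ))) :
    thetaInv sqZ sqX T τ hτ (theta sqZ sqX T τ hτ b') = b' := by
  apply Over.OverMorphism.ext
  apply sqX.hom_ext
  · rw [thetaInv_left_jX, theta_left, kappaInv_kappa_assoc]
  · have hb : b'.left ≫ f' = pullback.snd τ g' ≫ g' := Over.w b'
    have h2 : (thetaInv sqZ sqX T τ hτ (theta sqZ sqX T τ hτ b')).left ≫ f' =
        pullback.snd τ g' ≫ g' := Over.w _
    rw [h2, hb]

theorem theta_bijective : Function.Bijective (theta sqZ sqX T τ hτ) :=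
  ⟨fun a b h => by
    rw [← thetaInv_theta sqZ sqX T τ hτ a, h, thetaInv_theta],
   fun b => ⟨_, theta_thetaInv sqZ sqX T τ hτ b⟩⟩

end Theta

section Natural

variable {T₁ T₂ : Over S} (h : T₁ ⟶ T₂) (τ₁ : T₁.left ⟶ S') (hτ₁ : τ₁ ≫ ι = T₁.hom)
  (τ₂ : T₂.left ⟶ S') (hτ₂ : τ₂ ≫ ι = T₂.hom) (e : h.left ≫ τ₂ = τ₁)

/-- the morphism over `S'` underlying `h`. -/
noncomputable def overHom : (Over.mk τ₁ : Over S') ⟶ Over.mk τ₂ :=
  Over.homMk h.left e

set_option backward.isDefEq.respectTransparency false in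
theorem theta_natural (b' : (Flatn.morS g' f').obj (op (Over.mk τ₂))) :
    theta sqZ sqX T₁ τ₁ hτ₁ ((Flatn.morS g' f').map (overHom h τ₁ τ₂ e).op b') =
      (Flatn.morS g f).map h.op (theta sqZ sqX T₂ τ₂ hτ₂ b') := by
  apply Over.OverMorphism.ext
  rw [theta_left, Flatn.morS_map, Flatn.morS_map, Over.comp_left, Over.comp_left, theta_left,
    pullback_map_left, pullback_map_left]
  simp only [← Category.assoc]
  congr 2
  apply pullback.hom_ext
  · simp [overHom]
  · apply sqZ.hom_ext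
    · simp [overHom]
    · simp [overHom, ← e]

end Natural

end Groth.Agent.Lib.T2H7.MorSTransfer
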