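import Mathlib
import Groth.Prelude.Def_Flatn
import Groth.Prelude.Def_AlgSp
import Groth.Agent.S13210
import Groth.Agent.Lib.Helper12ZarGlue
import Groth.Agent.Lib.Helper18FinFlat1
import Groth.Agent.Lib.T2H7MorSTransfer

/-!
# `Mor_S(Z, X)` is representable for `Z` finite locally free and `X` affine over any base (helper7)

The local pieces over good affine opens of `S` (where the sections of `Z` are finite free) come from
`T2H7MorSAffine`, transferred along the open immersion by `T2H7MorSTransfer`; they are glued with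
the Zariski gluing of `Helper12ZarGlue`.
-/

set_option autoImplicit false
set_option linter.unusedSectionVars false
set_option linter.unusedVariables false
set_option linter.style.haveILetI false

universe u

open CategoryTheory CategoryTheory.Limits AlgebraicGeometry Opposite

namespace Groth.Agent.Lib.T2H7.MorSGlue

open Groth.Agent.S13210 Groth.Agent.Lib.T2H7.MorSAffine Groth.Agent.Lib.T2H7.MorSTransfer
  Groth.Agent.Lib.T2H7.RepAffine

/-- finite and free, as a property of ring homomorphisms. -/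
def QFF {R T : Type u} [CommRing R] [CommRing T] (φ : R →+* T) : Prop :=
  letI := φ.toAlgebra
  Module.Finite R T ∧ Module.Free R T

theorem QFF_respectsIso : RingHom.RespectsIso @QFF := by
  constructor
  · intro R T T' _ _ _ φ e h
    letI := φ.toAlgebra
    letI := (e.toRingHom.comp φ).toAlgebra
    obtain ⟨h1, h2⟩ : Module.Finite R T ∧ Module.Free R T := h
    let E : T ≃ₗ[R] T' :=
      { e.toAddEquiv with
        map_smul' := fun r t => by
          simp [Algebra.smul_def, RingHom.algebraMap_toAlgebra] }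
    exact ⟨Module.Finite.equiv E, Module.Free.of_equiv E⟩
  · intro R' R T _ _ _ φ e h
    letI := φ.toAlgebra
    obtain ⟨h1, h2⟩ : Module.Finite R T ∧ Module.Free R T := h
    letI := (φ.comp e.toRingHom).toAlgebra
    refine ⟨Module.Finite.of_equiv_equiv e.symm (RingEquiv.refl T) ?_, ?_⟩
    · ext x
      simp [RingHom.algebraMap_toAlgebra]
    · let e' : R ≃+* R' := e.symm
      haveI : RingHomInvPair (e' : R →+* R') (e'.symm : R' →+* R) :=
        RingHomInvPair.of_ringEquiv e'
      haveI : RingHomInvPair (e'.symm : R' →+* R) (e' : R →+* R') :=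
        RingHomInvPair.of_ringEquiv_symm e'
      let E : T ≃ₛₗ[(e' : R →+* R')] T :=
        { AddEquiv.refl T with
          map_smul' := fun r t => by
            simp [Algebra.smul_def, RingHom.algebraMap_toAlgebra, e'] }
      exact (Module.Free.iff_of_equiv E).1 h2

variable {Z X S : Scheme.{u}} (g : Z ⟶ S) (f : X ⟶ S)

/-- the base change functor `T ↦ T ×_S Z` on schemes over `S`. -/
noncomputable abbrev bc : Over S ⥤ Over S := Over.pullback g ⋙ Over.map g

instance : (bc g).IsContinuous (AlgSp.J S) (AlgSp.J S) :=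
  Functor.isContinuous_comp (Over.pullback g) (Over.map g) (Scheme.fppfTopology.over S)
    (Scheme.fppfTopology.over Z) (Scheme.fppfTopology.over S)

/-- `Mor_S(Z, X)` as an fppf sheaf. -/
noncomputable def Fmor : AlgSp.Sp S :=
  ⟨(bc g).op ⋙ ((AlgSp.yon S).obj (Over.mk f)).obj,
    (bc g).op_comp_isSheaf (AlgSp.J S) (AlgSp.J S) ((AlgSp.yon S).obj (Over.mk f))⟩

theorem Fmor_map {T T' : Over S} (x : T' ⟶ T) (ξ : (Flatn.morS g f).obj (op T)) :
    (Fmor g f).obj.map x.op ⟨ξ⟩ = ⟨(Flatn.morS g f).map x.op ξ⟩ := rfl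

/-- around every point of the base of a finite locally free morphism there is an affine open over
which the sections are finite free. -/
theorem exists_affineOpen_QFF (hg : Mor2.IsFinLocFree g) (s : S) :
    ∃ V : S.affineOpens, s ∈ V.1 ∧ QFF (g.app V.1).hom := by
  haveI : IsFinite g := hg.1
  haveI : ((Scheme.Modules.pushforward g).obj (Coh.structureModule Z)).IsQuasicoherent :=
    Groth.Agent.Lib.Helper23.QCohLocal.isQuasicoherent_pushforward g _
  obtain ⟨U, n, hsU, ⟨e⟩⟩ := Groth.Agent.Helper18FinFlat.pushforward_isFinLocFree g hg s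
  obtain ⟨W, hW, hsW, ⟨b⟩⟩ :=
    Groth.Agent.Helper18FittSh.exists_affine_basis_of_restrict_iso_freeMod _ U.ι e ⟨s, hsU⟩
  refine ⟨⟨W, hW⟩, hsW, ?_⟩
  letI : Algebra Γ(S, W) Γ(Z, g ⁻¹ᵁ W) := (g.app W).hom.toAlgebra
  let b' : Module.Basis (Fin n) Γ(S, W) Γ(Z, g ⁻¹ᵁ W) :=
    b.map (Groth.Agent.Helper18FinFlat.pushEquiv g W)
  exact ⟨Module.Finite.of_basis b', Module.Free.of_basis b'⟩

section Local

variable [IsAffineHom g] [IsAffineHom f] (V : S.affineOpens)

set_option backward.isDefEq.respectTransparency false in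
/-- the local piece: over a good affine open `V` of `S` the functor of relative morphisms restricted
to schemes over `V` is representable by a scheme affine over `V`. -/
theorem exists_local (hV : QFF (g.app V.1).hom) :
    ∃ (W : Over S) (w : W ⟶ Over.mk V.1.ι) (ξ : (Flatn.morS g f).obj (op W)), IsAffine W.left ∧
      ∀ (T : Over S) (φ : (Flatn.morS g f).obj (op T)) (τ : T ⟶ Over.mk V.1.ι),
        ∃! x : T ⟶ W, (Flatn.morS g f).map x.op ξ = φ ∧ x ≫ w = τ := by
  haveI : IsAffine (V.1 : Scheme.{u}) := V.2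
  haveI : IsAffine ((g ⁻¹ᵁ V.1 : Z.Opens) : Scheme.{u}) := V.2.preimage g
  haveI : IsAffine ((f ⁻¹ᵁ V.1 : X.Opens) : Scheme.{u}) := V.2.preimage f
  have hQ : QFF ((g ∣_ V.1).appTop).hom :=
    (Groth.Agent.Helper18FinFlat.appTop_restrict_iff g QFF_respectsIso V.1).2 hV
  obtain ⟨W', ξ', hW', hbij'⟩ := exists_bijective_affine (g ∣_ V.1) (f ∣_ V.1) hQ.1 hQ.2
  have hbij := bijective_of_affine _ W' ξ' (morS_sep (g ∣_ V.1) (f ∣_ V.1)) hbij'
  have sqZ : IsPullback (g ⁻¹ᵁ V.1).ι (g ∣_ V.1) g V.1.ι := (isPullback_morphismRestrict g V.1).flip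
  have sqX : IsPullback (f ⁻¹ᵁ V.1).ι (f ∣_ V.1) f V.1.ι := (isPullback_morphismRestrict f V.1).flip
  let W : Over S := Over.mk (W'.hom ≫ V.1.ι)
  let w : W ⟶ Over.mk V.1.ι := Over.homMk W'.hom rfl
  let ξ : (Flatn.morS g f).obj (op W) := theta sqZ sqX W W'.hom rfl ξ'
  refine ⟨W, w, ξ, hW', fun T φ τ => ?_⟩
  have hτ : τ.left ≫ V.1.ι = T.hom := Over.w τ
  -- key formula
  have key : ∀ x'' : (Over.mk τ.left : Over (V.1 : Scheme.{u})) ⟶ W',
      (Flatn.morS g f).map (Over.homMk (U := T) (V := W) x''.left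
          (by change x''.left ≫ W'.hom ≫ V.1.ι = T.hom
              rw [← Category.assoc, Over.w x'']; exact hτ)).op ξ =
        theta sqZ sqX T τ.left hτ ((Flatn.morS (g ∣_ V.1) (f ∣_ V.1)).map x''.op ξ') := by
    intro x''
    exact (theta_natural sqZ sqX (Over.homMk (U := T) (V := W) x''.left
          (by change x''.left ≫ W'.hom ≫ V.1.ι = T.hom
              rw [← Category.assoc, Over.w x'']; exact hτ)) τ.left hτ W'.hom rfl
          (Over.w x'') ξ').symm
  obtain ⟨x'', hx''⟩ := (hbij (Over.mk τ.left)).2 (thetaInv sqZ sqX T τ.left hτ φ)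
  have hx2 : (Flatn.morS (g ∣_ V.1) (f ∣_ V.1)).map x''.op ξ' = thetaInv sqZ sqX T τ.left hτ φ := hx''
  have hsub : ∀ a b : T ⟶ Over.mk V.1.ι, a = b := by
    intro a b
    apply Over.OverMorphism.ext
    rw [← cancel_mono V.1.ι]
    exact (Over.w a).trans (Over.w b).symm
  refine ⟨Over.homMk (U := T) (V := W) x''.left
          (by change x''.left ≫ W'.hom ≫ V.1.ι = T.hom
              rw [← Category.assoc, Over.w x'']; exact hτ), ⟨?_, hsub _ _⟩, ?_⟩
  · rw [key x'', hx2, theta_thetaInv]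
  · rintro y ⟨hy, -⟩
    have hyw : y.left ≫ W'.hom = τ.left := by
      rw [← cancel_mono V.1.ι, Category.assoc, hτ]
      exact Over.w y
    let y'' : (Over.mk τ.left : Over (V.1 : Scheme.{u})) ⟶ W' := Over.homMk y.left hyw
    have h1 := key y''
    have h2 : (Over.homMk (U := T) (V := W) y''.left
          (by change y''.left ≫ W'.hom ≫ V.1.ι = T.hom
              rw [← Category.assoc, Over.w y'']; exact hτ)) = y := by
      apply Over.OverMorphism.ext
      rfl
    rw [h2, hy] at h1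
    have h3 : (Flatn.morS (g ∣_ V.1) (f ∣_ V.1)).map y''.op ξ' =
        (Flatn.morS (g ∣_ V.1) (f ∣_ V.1)).map x''.op ξ' := by
      apply (theta_bijective sqZ sqX T τ.left hτ).1
      rw [← h1, hx2, theta_thetaInv]
    have h4 : y'' = x'' := (hbij (Over.mk τ.left)).1 h3
    apply Over.OverMorphism.ext
    have := congrArg (fun m => m.left) h4
    exact this

end Local

section Glue

open Groth.Agent.Lib.Helper12.ZarGlue

instance subsingleton_hom_terminal (T : Over S) : Subsingleton (T ⟶ Over.mk (𝟙 S)) :=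
  ⟨fun a b => by
    apply Over.OverMorphism.ext
    have ha : a.left = T.hom := by simpa using Over.w a
    have hb : b.left = T.hom := by simpa using Over.w b
    rw [ha, hb]⟩

theorem hom_terminal_ext {A : AlgSp.Sp S} (x y : A ⟶ (AlgSp.yon S).obj (Over.mk (𝟙 S))) :
    x = y := by
  ext T a
  apply ULift.ext
  exact Subsingleton.elim (α := (T.unop ⟶ Over.mk (𝟙 S))) _ _

/-- the structure map to the terminal sheaf. -/
noncomputable def toTerminal : Fmor g f ⟶ (AlgSp.yon S).obj (Over.mk (𝟙 S)) :=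
  ⟨{ app := fun T => TypeCat.ofHom (fun _ => ⟨Over.homMk T.unop.hom (Category.comp_id _)⟩)
     naturality := fun T T' h => by
       ext x
       apply ULift.ext
       exact Subsingleton.elim (α := (T'.unop ⟶ Over.mk (𝟙 S))) _ _ }⟩

theorem yEquiv_down_eq {T : Over S} (b : (AlgSp.yon S).obj T ⟶ Fmor g f)
    (φ : (Flatn.morS g f).obj (op T)) :
    b = (yEquiv T (Fmor g f)).symm ⟨φ⟩ ↔ (yEquiv T (Fmor g f) b).down = φ := by
  constructor
  · rintro rfl
    rw [Equiv.apply_symm_apply]
  · intro h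
    apply (yEquiv T (Fmor g f)).injective
    rw [Equiv.apply_symm_apply]
    apply ULift.ext
    exact h

theorem map_comp_symm {T W : Over S} (x : T ⟶ W) (ξ : (Flatn.morS g f).obj (op W)) :
    (AlgSp.yon S).map x ≫ (yEquiv W (Fmor g f)).symm ⟨ξ⟩ =
      (yEquiv T (Fmor g f)).symm ⟨(Flatn.morS g f).map x.op ξ⟩ := by
  rw [← Fmor_map, Groth.Agent.Lib.Helper12.OpenSub.yEquiv_symm_map]

/-- the local squares are cartesian. -/
theorem isPullback_local {W Ti : Over S} (w : W ⟶ Ti) (j : Ti ⟶ Over.mk (𝟙 S))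
    (ξ : (Flatn.morS g f).obj (op W))
    (h : ∀ (T : Over S) (φ : (Flatn.morS g f).obj (op T)) (τ : T ⟶ Ti),
        ∃! x : T ⟶ W, (Flatn.morS g f).map x.op ξ = φ ∧ x ≫ w = τ) :
    IsPullback ((yEquiv W (Fmor g f)).symm ⟨ξ⟩) ((AlgSp.yon S).map w) (toTerminal g f)
      ((AlgSp.yon S).map j ≫ 𝟙 _) := by
  refine isPullback_of_yon (hom_terminal_ext _ _) (fun T b c _ => ?_)
  obtain ⟨τ, rfl⟩ := (AlgSp.yon S).map_surjective c
  obtain ⟨x, ⟨hx1, hx2⟩, hxu⟩ := h T (yEquiv T (Fmor g f) b).down τ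
  refine ⟨(AlgSp.yon S).map x, ⟨?_, ?_⟩, ?_⟩
  · rw [map_comp_symm, hx1]
    exact ((yEquiv_down_eq g f b _).2 rfl).symm
  · rw [← Functor.map_comp, hx2]
  · rintro a' ⟨ha1, ha2⟩
    obtain ⟨x', rfl⟩ := (AlgSp.yon S).map_surjective a'
    congr 1
    apply hxu
    refine ⟨?_, ?_⟩
    · rw [map_comp_symm] at ha1
      exact ((yEquiv_down_eq g f b _).1 ha1.symm).symm
    · rw [← Functor.map_comp] at ha2
      exact (AlgSp.yon S).map_injective ha2

/-- **Representability of `Mor_S(Z, X)`** for `Z` finite locally free and `X` affine over `S`. -/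
theorem exists_representable (hg : Mor2.IsFinLocFree g) [IsAffineHom f] :
    ∃ W₀ : Over S, IsAffineHom W₀.hom ∧ Nonempty ((Flatn.morS g f).RepresentableBy W₀) := by
  haveI : IsFinite g := hg.1
  choose V hsV hVQ using exists_affineOpen_QFF g hg
  choose W w ξ hWaff hW using fun s => exists_local g f (V s) (hVQ s)
  let Ti : S → Over S := fun s => Over.mk (V s).1.ι
  let j : ∀ s, Ti s ⟶ Over.mk (𝟙 S) := fun s => Over.homMk (V s).1.ι (Category.comp_id _)
  haveI : ∀ s, IsOpenImmersion (j s).left := fun s =>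
    inferInstanceAs (IsOpenImmersion (V s).1.ι)
  have hj : ∀ t : (Over.mk (𝟙 S)).left, ∃ s, t ∈ Set.range (j s).left := fun t => by
    refine ⟨t, ?_⟩
    change t ∈ Set.range (V t).1.ι
    rw [Scheme.Opens.range_ι]
    exact hsV t
  have sq := fun s => isPullback_local g f (w s) (j s) (ξ s) (hW s)
  obtain ⟨W₀, w₀, a₀, sq₀, hk⟩ := exists_rep_of_openCover (toTerminal g f) (𝟙 _) Ti j W
    w (fun s => (yEquiv (W s) (Fmor g f)).symm ⟨ξ s⟩) sq hj
  choose k hk1 hk2 using hk
  have haff : IsAffineHom w₀.left := by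
    refine property_of_openCover @IsAffineHom w₀ Ti j hj W w k hk1 (fun s => ?_)
    haveI : IsAffine (W s).left := hWaff s
    haveI : IsAffine (Ti s).left := (V s).2
    infer_instance
  have hW₀ : W₀.hom = w₀.left := by
    have := Over.w w₀
    simpa using this.symm
  haveI : IsIso a₀ := sq₀.isIso_fst_of_isIso
  refine ⟨W₀, hW₀ ▸ haff, ⟨?_⟩⟩
  refine Groth.Agent.Lib.T2H7.RepAffine.representableBy (Flatn.morS g f) W₀
    (yEquiv W₀ (Fmor g f) a₀).down (fun T => ?_)
  have e : ∀ x : T ⟶ W₀, (Flatn.morS g f).map x.op (yEquiv W₀ (Fmor g f) a₀).down =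
      (yEquiv T (Fmor g f) ((AlgSp.yon S).map x ≫ a₀)).down := by
    intro x
    rw [← map_yEquiv]
    rfl
  constructor
  · intro x y hxy
    dsimp only at hxy
    rw [e, e] at hxy
    have h1 : yEquiv T (Fmor g f) ((AlgSp.yon S).map x ≫ a₀) =
        yEquiv T (Fmor g f) ((AlgSp.yon S).map y ≫ a₀) := ULift.ext _ _ hxy
    have h2 := (yEquiv T (Fmor g f)).injective h1
    rw [cancel_mono] at h2
    exact (AlgSp.yon S).map_injective h2
  · intro φ
    obtain ⟨x, hx⟩ := (AlgSp.yon S).map_surjective ((yEquiv T (Fmor g f)).symm ⟨φ⟩ ≫ inv a₀)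
    refine ⟨x, ?_⟩
    dsimp only
    rw [e, hx, Category.assoc, IsIso.inv_hom_id, Category.comp_id, Equiv.apply_symm_apply]

end Glue

end Groth.Agent.Lib.T2H7.MorSGlue
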