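import Mathlib
import Groth.Prelude.Def_Flatn
import Groth.Prelude.Def_AlgSp
import Groth.Agent.S13210
import Groth.Agent.Lib.Helper12ZarGlue
import Groth.Agent.Lib.T2H7MorSGlue

/-!
# The open subfunctors `Mor_S(Z, U) ⊆ Mor_S(Z, X)` for `Z` finite over `S` and `U ⊆ X` open (helper7)

For a section `ξ : T ×_S Z ⟶ X` the locus of `T` over which `ξ` factors through `U` is the open
complement of the image (under the closed map `T ×_S Z ⟶ T`) of `ξ ⁻¹ (X ∖ U)`.
-/

set_option autoImplicit false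
set_option linter.unusedSectionVars false
set_option linter.unusedVariables false
set_option linter.style.haveILetI false

universe u

open CategoryTheory CategoryTheory.Limits AlgebraicGeometry Opposite

namespace Groth.Agent.Lib.T2H7.MorSOpen

open Groth.Agent.S13210 Groth.Agent.Lib.T2H7.MorSAffine Groth.Agent.Lib.T2H7.MorSGlue

/-- a universal element of a presheaf on `Over S`. -/
def IsUniv {S : Scheme.{u}} (F : (Over S)ᵒᵖ ⥤ Type u) (W : Over S) (ξ : F.obj (op W)) : Prop :=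
  ∀ T : Over S, Function.Bijective (fun a : T ⟶ W => F.map a.op ξ)

theorem isUniv_of_representableBy {S : Scheme.{u}} {F : (Over S)ᵒᵖ ⥤ Type u} {W : Over S}
    (r : F.RepresentableBy W) : IsUniv F W (r.homEquiv (𝟙 W)) := by
  intro T
  have h : (fun a : T ⟶ W => F.map a.op (r.homEquiv (𝟙 W))) = r.homEquiv := by
    funext a
    exact (r.homEquiv_eq a).symm
  rw [h]
  exact r.homEquiv.bijective

variable {Z X S : Scheme.{u}} (g : Z ⟶ S) (f : X ⟶ S)

section Locus

variable (U : X.Opens)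

/-- the inclusion of `U` into `X`, over `S`. -/
noncomputable def inclU : (Over.mk (U.ι ≫ f) : Over S) ⟶ Over.mk f := Over.homMk U.ι rfl

instance : Mono (inclU f U) := by
  haveI : Mono (inclU f U).left := inferInstanceAs (Mono U.ι)
  exact Over.mono_of_mono_left _

variable {g f}

/-- the underlying morphism of a section. -/
noncomputable def sec {f : X ⟶ S} {T : Over S} (ξ : (Flatn.morS g f).obj (op T)) :
    pullback T.hom g ⟶ X := ξ.left

theorem sec_map {f : X ⟶ S} {T T' : Over S} (c : T' ⟶ T) (ξ : (Flatn.morS g f).obj (op T)) :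
    sec ((Flatn.morS g f).map c.op ξ) =
      pullback.map T'.hom g T.hom g c.left (𝟙 Z) (𝟙 S) (by simp) (by simp) ≫ sec ξ := by
  unfold sec
  rw [Flatn.morS_map, Over.comp_left, pullback_map_left]

theorem sec_comp_inclU {T : Over S} (φ : (Flatn.morS g (U.ι ≫ f)).obj (op T)) :
    sec (g := g) (f := f) (φ ≫ inclU f U) = sec φ ≫ U.ι := rfl

theorem isPullback_map {T T' : Over S} (c : T' ⟶ T) :
    IsPullback (pullback.map T'.hom g T.hom g c.left (𝟙 Z) (𝟙 S) (by simp) (by simp))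
      (pullback.fst T'.hom g) (pullback.fst T.hom g) c.left := by
  refine IsPullback.of_right (h₁₂ := pullback.snd T.hom g) (h₂₂ := T.hom) (v₁₃ := g) ?_ ?_
    (IsPullback.of_hasPullback T.hom g).flip
  · have h1 : pullback.map T'.hom g T.hom g c.left (𝟙 Z) (𝟙 S) (by simp) (by simp) ≫
        pullback.snd T.hom g = pullback.snd T'.hom g := by
      rw [pullback.lift_snd, Category.comp_id]
    have h2 : c.left ≫ T.hom = T'.hom := Over.w c
    rw [h1, h2]
    exact (IsPullback.of_hasPullback T'.hom g).flip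
  · rw [pullback.lift_fst]

variable [IsFinite g] (T : Over S) (ξ : (Flatn.morS g f).obj (op T))

/-- the open locus of `T` over which `ξ` factors through `U`. -/
noncomputable def locus : T.left.Opens :=
  ⟨(pullback.fst T.hom g '' (sec ξ ⁻¹' ((U : Set X)ᶜ)))ᶜ, by
    rw [isOpen_compl_iff]
    exact (pullback.fst T.hom g).isClosedMap _
      ((U.2.isClosed_compl).preimage (sec ξ).continuous)⟩

theorem mem_locus (t : T.left) : t ∈ locus U T ξ ↔
    ∀ y : ↥(pullback T.hom g), pullback.fst T.hom g y = t → sec ξ y ∈ U := by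
  change t ∈ (pullback.fst T.hom g '' (sec ξ ⁻¹' ((U : Set X)ᶜ)))ᶜ ↔ _
  rw [Set.mem_compl_iff, Set.mem_image]
  constructor
  · intro h y hy
    by_contra hyU
    exact h ⟨y, hyU, hy⟩
  · rintro h ⟨y, hyU, hy⟩
    exact hyU (h y hy)

variable {U T ξ}

theorem mem_locus_of_factor {T'' : Over S} (c : T'' ⟶ T)
    (φ : (Flatn.morS g (U.ι ≫ f)).obj (op T''))
    (h : φ ≫ inclU f U = (Flatn.morS g f).map c.op ξ) (t'' : T''.left) :
    c.left t'' ∈ locus U T ξ := by
  rw [mem_locus]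
  intro y hy
  obtain ⟨y'', hy1, hy2⟩ := Groth.Agent.Lib.Helper12.exists_preimage_of_isPullback
    (isPullback_map (g := g) c) y t'' hy
  have h1 := congrArg (fun m => sec m) h
  simp only [sec_comp_inclU, sec_map] at h1
  have h2 := congrArg (fun m : pullback T''.hom g ⟶ X => m y'') h1
  simp only [Scheme.Hom.comp_apply] at h2
  rw [hy1] at h2
  rw [← h2]
  exact (sec φ y'').2

theorem exists_factor {T'' : Over S} (c : T'' ⟶ T)
    (h : ∀ t'' : T''.left, c.left t'' ∈ locus U T ξ) :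
    ∃ φ : (Flatn.morS g (U.ι ≫ f)).obj (op T''),
      φ ≫ inclU f U = (Flatn.morS g f).map c.op ξ := by
  have hrange : Set.range (sec ((Flatn.morS g f).map c.op ξ)) ⊆ Set.range U.ι := by
    rintro _ ⟨y'', rfl⟩
    rw [Scheme.Opens.range_ι, sec_map, Scheme.Hom.comp_apply]
    refine (mem_locus U T ξ _).1 (h (pullback.fst T''.hom g y'')) _ ?_
    rw [← Scheme.Hom.comp_apply, ← Scheme.Hom.comp_apply, pullback.lift_fst]
  refine ⟨Over.homMk (IsOpenImmersion.lift U.ι (sec ((Flatn.morS g f).map c.op ξ)) hrange) ?_, ?_⟩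
  · change IsOpenImmersion.lift U.ι _ hrange ≫ U.ι ≫ f = _
    rw [← Category.assoc, IsOpenImmersion.lift_fac]
    exact Over.w ((Flatn.morS g f).map c.op ξ)
  · apply Over.OverMorphism.ext
    exact IsOpenImmersion.lift_fac _ _ _

theorem map_comp_inclU {T T' : Over S} (x : T' ⟶ T)
    (φ : (Flatn.morS g (U.ι ≫ f)).obj (op T)) :
    (Flatn.morS g (U.ι ≫ f)).map x.op φ ≫ inclU f U =
      (Flatn.morS g f).map x.op (φ ≫ inclU f U) := by
  rw [Flatn.morS_map, Flatn.morS_map, Category.assoc]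

theorem map_map {f : X ⟶ S} {T T' T'' : Over S} (x : T'' ⟶ T') (i : T' ⟶ T)
    (ξ : (Flatn.morS g f).obj (op T)) :
    (Flatn.morS g f).map x.op ((Flatn.morS g f).map i.op ξ) =
      (Flatn.morS g f).map (x ≫ i).op ξ := by
  rw [op_comp, Functor.map_comp]
  rfl

variable (U T ξ)

/-- the open locus with its universal property. -/
theorem exists_open_locus :
    ∃ (T' : Over S) (i : T' ⟶ T) (ξ' : (Flatn.morS g (U.ι ≫ f)).obj (op T')),
      IsOpenImmersion i.left ∧ Set.range i.left = (locus U T ξ : Set T.left) ∧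
      ξ' ≫ inclU f U = (Flatn.morS g f).map i.op ξ ∧
      ∀ (T'' : Over S) (c : T'' ⟶ T) (φ : (Flatn.morS g (U.ι ≫ f)).obj (op T'')),
        φ ≫ inclU f U = (Flatn.morS g f).map c.op ξ →
        ∃! x : T'' ⟶ T', x ≫ i = c ∧ (Flatn.morS g (U.ι ≫ f)).map x.op ξ' = φ := by
  let L := locus U T ξ
  let T' : Over S := Over.mk (L.ι ≫ T.hom)
  let i : T' ⟶ T := Over.homMk L.ι rfl
  have hi : ∀ t' : T'.left, i.left t' ∈ locus U T ξ := fun t' => t'.2
  obtain ⟨ξ', hξ'⟩ := exists_factor i hi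
  refine ⟨T', i, ξ', inferInstanceAs (IsOpenImmersion L.ι), Scheme.Opens.range_ι L, hξ', ?_⟩
  intro T'' c φ hφ
  have hc := mem_locus_of_factor c φ hφ
  have hrange : Set.range c.left ⊆ Set.range L.ι := by
    rintro _ ⟨t'', rfl⟩
    rw [Scheme.Opens.range_ι]
    exact hc t''
  let xl := IsOpenImmersion.lift L.ι c.left hrange
  have hxl : xl ≫ L.ι = c.left := IsOpenImmersion.lift_fac _ _ _
  let x : T'' ⟶ T' := Over.homMk xl (by
    change xl ≫ L.ι ≫ T.hom = T''.hom
    rw [← Category.assoc, hxl]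
    exact Over.w c)
  have hx : x ≫ i = c := Over.OverMorphism.ext hxl
  haveI : Mono i := by
    haveI : Mono i.left := inferInstanceAs (Mono L.ι)
    exact Over.mono_of_mono_left _
  refine ⟨x, ⟨hx, ?_⟩, fun y hy => ?_⟩
  · have h1 : (Flatn.morS g (U.ι ≫ f)).map x.op ξ' ≫ inclU f U = φ ≫ inclU f U := by
      rw [hφ, map_comp_inclU, hξ', map_map, hx]
    exact (cancel_mono (inclU f U)).1 h1
  · rw [← cancel_mono i, hx]
    exact hy.1

end Locus

section Sheaf

variable (U : X.Opens)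

/-- the inclusion `Mor_S(Z, U) ⟶ Mor_S(Z, X)` of sheaves. -/
noncomputable def inclF : Fmor g (U.ι ≫ f) ⟶ Fmor g f :=
  ⟨Functor.whiskerLeft (bc g).op ((AlgSp.yon S).map (inclU f U)).hom⟩

theorem symm_comp_inclF {T : Over S} (φ : (Flatn.morS g (U.ι ≫ f)).obj (op T)) :
    (yEquiv T (Fmor g (U.ι ≫ f))).symm ⟨φ⟩ ≫ inclF g f U =
      (yEquiv T (Fmor g f)).symm ⟨φ ≫ inclU f U⟩ := by
  rw [yEquiv_symm_comp]
  rfl

/-- sections of the sheaf as sections of the functor. -/
theorem eq_symm_down {f : X ⟶ S} {T : Over S} (a : (AlgSp.yon S).obj T ⟶ Fmor g f) :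
    a = (yEquiv T (Fmor g f)).symm ⟨(yEquiv T (Fmor g f) a).down⟩ :=
  (yEquiv_down_eq g f a _).2 rfl

theorem symm_injective {f : X ⟶ S} {T : Over S} {φ ψ : (Flatn.morS g f).obj (op T)}
    (h : (yEquiv T (Fmor g f)).symm ⟨φ⟩ = (yEquiv T (Fmor g f)).symm ⟨ψ⟩) : φ = ψ :=
  congrArg ULift.down ((yEquiv T (Fmor g f)).symm.injective h)

variable [IsFinite g]

/-- the explicit cartesian square over the open locus. -/
theorem exists_isPullback (W : Over S) (ξU : (Flatn.morS g (U.ι ≫ f)).obj (op W))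
    (hW : IsUniv (Flatn.morS g (U.ι ≫ f)) W ξU) (T : Over S)
    (a : (AlgSp.yon S).obj T ⟶ Fmor g f) :
    ∃ (T' : Over S) (x : T' ⟶ W) (i : T' ⟶ T),
      IsPullback ((AlgSp.yon S).map x) ((AlgSp.yon S).map i)
        ((yEquiv W (Fmor g f)).symm ⟨ξU ≫ inclU f U⟩) a ∧ IsOpenImmersion i.left ∧
      Set.range i.left = (locus U T (yEquiv T (Fmor g f) a).down : Set T.left) := by
  obtain ⟨T', i, ξ', hi, hr, hξ', huniv⟩ := exists_open_locus U T (yEquiv T (Fmor g f) a).down
  obtain ⟨x, hx⟩ := (hW T').2 ξ'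
  have hx' : (Flatn.morS g (U.ι ≫ f)).map x.op ξU = ξ' := hx
  refine ⟨T', x, i, ?_, hi, hr⟩
  have hw : (AlgSp.yon S).map x ≫ (yEquiv W (Fmor g f)).symm ⟨ξU ≫ inclU f U⟩ =
      (AlgSp.yon S).map i ≫ a := by
    conv_rhs => rw [eq_symm_down g a]
    rw [map_comp_symm, map_comp_symm, ← map_comp_inclU, hx', hξ']
  refine isPullback_of_yon hw (fun T'' b c hbc => ?_)
  obtain ⟨x'', rfl⟩ := (AlgSp.yon S).map_surjective b
  obtain ⟨c', rfl⟩ := (AlgSp.yon S).map_surjective c
  have hbc' : (Flatn.morS g (U.ι ≫ f)).map x''.op ξU ≫ inclU f U =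
      (Flatn.morS g f).map c'.op (yEquiv T (Fmor g f) a).down := by
    apply symm_injective g
    rw [map_comp_inclU, ← map_comp_symm, ← map_comp_symm, hbc, ← eq_symm_down g a]
  obtain ⟨y, ⟨hy1, hy2⟩, hyu⟩ := huniv T'' c' _ hbc'
  refine ⟨(AlgSp.yon S).map y, ⟨?_, ?_⟩, ?_⟩
  · rw [← Functor.map_comp]
    congr 1
    apply (hW T'').1
    change (Flatn.morS g (U.ι ≫ f)).map (y ≫ x).op ξU = (Flatn.morS g (U.ι ≫ f)).map x''.op ξU
    rw [← map_map, hx', hy2]
  · rw [← Functor.map_comp, hy1]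
  · rintro a' ⟨ha1, ha2⟩
    obtain ⟨y', rfl⟩ := (AlgSp.yon S).map_surjective a'
    congr 1
    apply hyu
    rw [← Functor.map_comp] at ha1 ha2
    have h1 := (AlgSp.yon S).map_injective ha1
    have h2 := (AlgSp.yon S).map_injective ha2
    refine ⟨h2, ?_⟩
    rw [← hx', map_map, h1]

/-- **the open subfunctor**: if `(W, ξU)` is universal for `Mor_S(Z, U)`, the induced map
`h_W ⟶ Mor_S(Z, X)` is representable by open immersions. -/
theorem repWith_of_isUniv (W : Over S) (ξU : (Flatn.morS g (U.ι ≫ f)).obj (op W))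
    (hW : IsUniv (Flatn.morS g (U.ι ≫ f)) W ξU) :
    AlgSp.RepWith @IsOpenImmersion ((yEquiv W (Fmor g f)).symm ⟨ξU ≫ inclU f U⟩) := by
  haveI : ((@IsOpenImmersion).inverseImage (Over.forget S)).RespectsIso :=
    MorphismProperty.RespectsIso.inverseImage _ _
  refine MorphismProperty.relative.of_exists (fun T a => ?_)
  obtain ⟨T', x, i, sq, hi, -⟩ := exists_isPullback g f U W ξU hW T a
  exact ⟨T', (AlgSp.yon S).map x, i, sq, hi⟩

/-- the chosen representing open contains the open locus. -/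
theorem mem_range_snd (W : Over S) (ξU : (Flatn.morS g (U.ι ≫ f)).obj (op W))
    (hW : IsUniv (Flatn.morS g (U.ι ≫ f)) W ξU)
    (hf : AlgSp.RepWith @IsOpenImmersion ((yEquiv W (Fmor g f)).symm ⟨ξU ≫ inclU f U⟩))
    {T : Over S} (a : (AlgSp.yon S).obj T ⟶ Fmor g f) (t : T.left)
    (ht : t ∈ locus U T (yEquiv T (Fmor g f) a).down) :
    t ∈ Set.range (hf.rep.snd a).left := by
  obtain ⟨T', x, i, sq, hi, hr⟩ := exists_isPullback g f U W ξU hW T a
  have sq1 := hf.rep.isPullback a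
  have ht' : t ∈ Set.range i.left := by
    rw [hr]
    exact ht
  obtain ⟨t', rfl⟩ := ht'
  obtain ⟨e, he⟩ := (AlgSp.yon S).map_surjective
    (sq1.lift ((AlgSp.yon S).map x) ((AlgSp.yon S).map i) sq.w)
  have h1 : e ≫ hf.rep.snd a = i := by
    apply (AlgSp.yon S).map_injective
    rw [Functor.map_comp, he, sq1.lift_snd]
  refine ⟨e.left t', ?_⟩
  rw [← h1]
  rfl

end Sheaf

section Stage1

open Groth.Agent.Lib.Helper12.ZarGlue

/-- an isomorphism from a representable sheaf gives a universal element. -/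
theorem isUniv_of_isIso {W₀ : Over S} (a₀ : (AlgSp.yon S).obj W₀ ⟶ Fmor g f) [IsIso a₀] :
    IsUniv (Flatn.morS g f) W₀ (yEquiv W₀ (Fmor g f) a₀).down := by
  intro T
  have e : ∀ x : T ⟶ W₀, (Flatn.morS g f).map x.op (yEquiv W₀ (Fmor g f) a₀).down =
      (yEquiv T (Fmor g f) ((AlgSp.yon S).map x ≫ a₀)).down := by
    intro x
    rw [← map_yEquiv]
    rfl
  constructor
  · intro x y hxy
    dsimp only at hxy
    rw [e, e] at hxy
    have h1 : yEquiv T (Fmor g f) ((AlgSp.yon S).map x ≫ a₀) =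
        yEquiv T (Fmor g f) ((AlgSp.yon S).map y ≫ a₀) := ULift.ext _ _ hxy
    have h2 := (yEquiv T (Fmor g f)).injective h1
    rw [cancel_mono] at h2
    exact (AlgSp.yon S).map_injective h2
  · intro φ
    obtain ⟨x, hx⟩ := (AlgSp.yon S).map_surjective ((yEquiv T (Fmor g f)).symm ⟨φ⟩ ≫ inv a₀)
    refine ⟨x, ?_⟩
    dsimp only
    rw [e, hx, Category.assoc, IsIso.inv_hom_id, Category.comp_id, Equiv.apply_symm_apply]

variable [IsFinite g]

/-- **Stage 1**: `Mor_S(Z, X)` is representable as soon as `Mor_S(Z, U)` is so for a family of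
opens `U` of `X` such that every section factors locally through a member of the family. -/
theorem exists_isUniv_of_cover {ι : Type u} (Uf : ι → X.Opens) (W : ι → Over S)
    (ξU : ∀ i, (Flatn.morS g ((Uf i).ι ≫ f)).obj (op (W i)))
    (hW : ∀ i, IsUniv (Flatn.morS g ((Uf i).ι ≫ f)) (W i) (ξU i))
    (hcov : ∀ (T : Over S) (ξ : (Flatn.morS g f).obj (op T)) (t : T.left),
      ∃ i, t ∈ locus (Uf i) T ξ) :
    ∃ (W₀ : Over S) (ξ₀ : (Flatn.morS g f).obj (op W₀)), IsUniv (Flatn.morS g f) W₀ ξ₀ := by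
  have hf := fun i => repWith_of_isUniv g f (Uf i) (W i) (ξU i) (hW i)
  have hs : JointlySurjective hf := fun T a t => by
    obtain ⟨i, hi⟩ := hcov T (yEquiv T (Fmor g f) a).down t
    exact ⟨i, mem_range_snd g f (Uf i) (W i) (ξU i) (hW i) (hf i) a t hi⟩
  obtain ⟨W₀, e, k, hk, -⟩ := exists_iso hf hs
  exact ⟨W₀, _, isUniv_of_isIso g f e.hom⟩

/-- the covering condition follows from the (AF) condition. -/
theorem exists_mem_locus_of_AF
    (hAF : ∀ (s : S) (d : ℕ) (x : Fin d → ↥X), (∀ k, f (x k) = s) →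
      ∃ U : X.Opens, IsAffineOpen U ∧ ∀ k, x k ∈ U)
    (T : Over S) (ξ : (Flatn.morS g f).obj (op T)) (t : T.left) :
    ∃ U : X.affineOpens, t ∈ locus U.1 T ξ := by
  have hfin : ((pullback.fst T.hom g) ⁻¹' {t}).Finite :=
    (pullback.fst T.hom g).finite_preimage_singleton t
  obtain ⟨d, e, he⟩ := hfin.fin_embedding
  have hw : sec ξ ≫ f = pullback.fst T.hom g ≫ T.hom := by
    have h1 : sec ξ ≫ f = pullback.snd T.hom g ≫ g := Over.w ξ
    rw [h1, pullback.condition]
  obtain ⟨U, hU, hxU⟩ := hAF (T.hom t) d (fun k => sec ξ (e k)) (fun k => by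
    have h1 : pullback.fst T.hom g (e k) = t := by
      have : (e k) ∈ (pullback.fst T.hom g) ⁻¹' {t} := by
        rw [← he]
        exact Set.mem_range_self k
      exact this
    rw [← Scheme.Hom.comp_apply, hw, Scheme.Hom.comp_apply, h1])
  refine ⟨⟨U, hU⟩, ?_⟩
  rw [mem_locus]
  intro y hy
  have hy' : y ∈ Set.range e := by
    rw [he]
    exact hy
  obtain ⟨k, rfl⟩ := hy'
  exact hxU k

end Stage1

end Groth.Agent.Lib.T2H7.MorSOpen
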