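import Mathlib
import Groth.Prelude.Def_Flatn
import Groth.Prelude.Def_AlgSp
import Groth.Agent.Lib.T2H7MorSOpen
import Groth.Agent.Lib.Helper20SymProd

/-!
# `Mor_S(Z, X)` is representable for `Z` finite locally free and `X` with the (AF) property (helper7)

Stage 1 (`T2H7MorSOpen`) glues the open subfunctors `Mor_S(Z, U)`, `U ⊆ X` affine open, over an
affine base; stage 2 glues over an affine open cover of the base.
-/

set_option autoImplicit false
set_option linter.unusedSectionVars false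
set_option linter.unusedVariables false
set_option linter.style.haveILetI false

universe u

open CategoryTheory CategoryTheory.Limits AlgebraicGeometry Opposite

namespace Groth.Agent.Lib.T2H7.MorSAF

open Groth.Agent.S13210 Groth.Agent.Lib.T2H7.MorSAffine Groth.Agent.Lib.T2H7.MorSGlue
  Groth.Agent.Lib.T2H7.MorSTransfer Groth.Agent.Lib.T2H7.MorSOpen

variable {Z X S : Scheme.{u}} (g : Z ⟶ S) (f : X ⟶ S)

section Local

variable (V : S.Opens)

set_option backward.isDefEq.respectTransparency false in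
/-- the local piece over an open `V` of `S` obtained from a universal element over `V`. -/
theorem exists_local_of_isUniv (W' : Over (V : Scheme.{u}))
    (ξ' : (Flatn.morS (g ∣_ V) (f ∣_ V)).obj (op W'))
    (hbij : IsUniv (Flatn.morS (g ∣_ V) (f ∣_ V)) W' ξ') :
    ∃ (W : Over S) (w : W ⟶ Over.mk V.ι) (ξ : (Flatn.morS g f).obj (op W)),
      ∀ (T : Over S) (φ : (Flatn.morS g f).obj (op T)) (τ : T ⟶ Over.mk V.ι),
        ∃! x : T ⟶ W, (Flatn.morS g f).map x.op ξ = φ ∧ x ≫ w = τ := by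
  have sqZ : IsPullback (g ⁻¹ᵁ V).ι (g ∣_ V) g V.ι := (isPullback_morphismRestrict g V).flip
  have sqX : IsPullback (f ⁻¹ᵁ V).ι (f ∣_ V) f V.ι := (isPullback_morphismRestrict f V).flip
  let W : Over S := Over.mk (W'.hom ≫ V.ι)
  let w : W ⟶ Over.mk V.ι := Over.homMk W'.hom rfl
  let ξ : (Flatn.morS g f).obj (op W) := theta sqZ sqX W W'.hom rfl ξ'
  refine ⟨W, w, ξ, fun T φ τ => ?_⟩
  have hτ : τ.left ≫ V.ι = T.hom := Over.w τ
  -- key formula
  have key : ∀ x'' : (Over.mk τ.left : Over (V : Scheme.{u})) ⟶ W',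
      (Flatn.morS g f).map (Over.homMk (U := T) (V := W) x''.left
          (by change x''.left ≫ W'.hom ≫ V.ι = T.hom
              rw [← Category.assoc, Over.w x'']; exact hτ)).op ξ =
        theta sqZ sqX T τ.left hτ ((Flatn.morS (g ∣_ V) (f ∣_ V)).map x''.op ξ') := by
    intro x''
    exact (theta_natural sqZ sqX (Over.homMk (U := T) (V := W) x''.left
          (by change x''.left ≫ W'.hom ≫ V.ι = T.hom
              rw [← Category.assoc, Over.w x'']; exact hτ)) τ.left hτ W'.hom rfl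
          (Over.w x'') ξ').symm
  obtain ⟨x'', hx''⟩ := (hbij (Over.mk τ.left)).2 (thetaInv sqZ sqX T τ.left hτ φ)
  have hx2 : (Flatn.morS (g ∣_ V) (f ∣_ V)).map x''.op ξ' = thetaInv sqZ sqX T τ.left hτ φ := hx''
  have hsub : ∀ a b : T ⟶ Over.mk V.ι, a = b := by
    intro a b
    apply Over.OverMorphism.ext
    rw [← cancel_mono V.ι]
    exact (Over.w a).trans (Over.w b).symm
  refine ⟨Over.homMk (U := T) (V := W) x''.left
          (by change x''.left ≫ W'.hom ≫ V.ι = T.hom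
              rw [← Category.assoc, Over.w x'']; exact hτ), ⟨?_, hsub _ _⟩, ?_⟩
  · rw [key x'', hx2, theta_thetaInv]
  · rintro y ⟨hy, -⟩
    have hyw : y.left ≫ W'.hom = τ.left := by
      rw [← cancel_mono V.ι, Category.assoc, hτ]
      exact Over.w y
    let y'' : (Over.mk τ.left : Over (V : Scheme.{u})) ⟶ W' := Over.homMk y.left hyw
    have h1 := key y''
    have h2 : (Over.homMk (U := T) (V := W) y''.left
          (by change y''.left ≫ W'.hom ≫ V.ι = T.hom
              rw [← Category.assoc, Over.w y'']; exact hτ)) = y := by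
      apply Over.OverMorphism.ext
      rfl
    rw [h2, hy] at h1
    have h3 : (Flatn.morS (g ∣_ V) (f ∣_ V)).map y''.op ξ' =
        (Flatn.morS (g ∣_ V) (f ∣_ V)).map x''.op ξ' := by
      apply (theta_bijective sqZ sqX T τ.left hτ).1
      rw [← h1, hx2, theta_thetaInv]
    have h4 : y'' = x'' := (hbij (Over.mk τ.left)).1 h3
    apply Over.OverMorphism.ext
    have := congrArg (fun m => m.left) h4
    exact this

end Local

section Glue

open Groth.Agent.Lib.Helper12.ZarGlue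

/-- **Stage 2**: representability of `Mor_S(Z, X)` is local on the base. -/
theorem exists_isUniv_of_local
    (hloc : ∀ s : S, ∃ V : S.Opens, s ∈ V ∧ ∃ (W' : Over (V : Scheme.{u}))
      (ξ' : (Flatn.morS (g ∣_ V) (f ∣_ V)).obj (op W')),
      IsUniv (Flatn.morS (g ∣_ V) (f ∣_ V)) W' ξ') :
    ∃ (W₀ : Over S) (ξ₀ : (Flatn.morS g f).obj (op W₀)), IsUniv (Flatn.morS g f) W₀ ξ₀ := by
  choose V hsV W' ξ' hU using hloc
  choose W w ξ hW using fun s => exists_local_of_isUniv g f (V s) (W' s) (ξ' s) (hU s)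
  let Ti : S → Over S := fun s => Over.mk (V s).ι
  let j : ∀ s, Ti s ⟶ Over.mk (𝟙 S) := fun s => Over.homMk (V s).ι (Category.comp_id _)
  haveI : ∀ s, IsOpenImmersion (j s).left := fun s =>
    inferInstanceAs (IsOpenImmersion (V s).ι)
  have hj : ∀ t : (Over.mk (𝟙 S)).left, ∃ s, t ∈ Set.range (j s).left := fun t => by
    refine ⟨t, ?_⟩
    change t ∈ Set.range (V t).ι
    rw [Scheme.Opens.range_ι]
    exact hsV t
  have sq := fun s => isPullback_local g f (w s) (j s) (ξ s) (hW s)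
  obtain ⟨W₀, w₀, a₀, sq₀, hk⟩ := exists_rep_of_openCover (toTerminal g f) (𝟙 _) Ti j W
    w (fun s => (yEquiv (W s) (Fmor g f)).symm ⟨ξ s⟩) sq hj
  haveI : IsIso a₀ := sq₀.isIso_fst_of_isIso
  exact ⟨W₀, _, isUniv_of_isIso g f a₀⟩

end Glue

section AF

/-- the (AF) property is inherited by the restriction over an open of the base. -/
theorem AF_restrict
    (hAF : ∀ (s : S) (d : ℕ) (x : Fin d → ↥X), (∀ k, f (x k) = s) →
      ∃ U : X.Opens, IsAffineOpen U ∧ ∀ k, x k ∈ U) (V : S.Opens) :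
    ∀ (s : ↥(V : Scheme.{u})) (d : ℕ) (x : Fin d → ↥((f ⁻¹ᵁ V : X.Opens) : Scheme.{u})),
      (∀ k, (f ∣_ V) (x k) = s) →
      ∃ U : ((f ⁻¹ᵁ V : X.Opens) : Scheme.{u}).Opens, IsAffineOpen U ∧ ∀ k, x k ∈ U := by
  intro s d x hx
  classical
  have h1 : ∀ k, f ((f ⁻¹ᵁ V).ι (x k)) = V.ι s := by
    intro k
    rw [← hx k, ← Scheme.Hom.comp_apply, ← Scheme.Hom.comp_apply, morphismRestrict_ι]
  obtain ⟨U₀, hU₀, hxU₀⟩ := hAF (V.ι s) d (fun k => (f ⁻¹ᵁ V).ι (x k)) h1
  obtain ⟨U, hU, -, hle, hxU⟩ := Groth.Agent.Lib.Helper20.exists_affine_finite hU₀ (f ⁻¹ᵁ V)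
    (Finset.univ.image (fun k => (f ⁻¹ᵁ V).ι (x k))) (by
      intro t ht
      rw [Finset.mem_image] at ht
      obtain ⟨k, -, rfl⟩ := ht
      exact ⟨hxU₀ k, (x k).2⟩)
  refine ⟨(f ⁻¹ᵁ V).ι ⁻¹ᵁ U, hU.preimage_of_isOpenImmersion _ (by
    rw [Scheme.Opens.opensRange_ι]
    exact hle), fun k => ?_⟩
  exact hxU _ (Finset.mem_image_of_mem _ (Finset.mem_univ k))

/-- **Representability of `Mor_S(Z, X)`** for `Z` finite locally free over `S` and `X` such that
finite sets of points in a fibre lie in an affine open. -/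
theorem exists_isUniv_of_AF (hg : Mor2.IsFinLocFree g)
    (hAF : ∀ (s : S) (d : ℕ) (x : Fin d → ↥X), (∀ k, f (x k) = s) →
      ∃ U : X.Opens, IsAffineOpen U ∧ ∀ k, x k ∈ U) :
    ∃ (W₀ : Over S) (ξ₀ : (Flatn.morS g f).obj (op W₀)), IsUniv (Flatn.morS g f) W₀ ξ₀ := by
  refine exists_isUniv_of_local g f (fun s => ?_)
  obtain ⟨V, (hV : IsAffineOpen V), hsV, -⟩ :=
    (TopologicalSpace.Opens.isBasis_iff_nbhd.mp S.isBasis_affineOpens) (TopologicalSpace.Opens.mem_top s)
  refine ⟨V, hsV, ?_⟩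
  haveI : IsAffine (V : Scheme.{u}) := hV
  haveI : IsFinite g := hg.1
  haveI : Flat g := hg.2.1
  haveI : LocallyOfFinitePresentation g := hg.2.2
  have hg' : Mor2.IsFinLocFree (g ∣_ V) := ⟨inferInstance, inferInstance, inferInstance⟩
  haveI : IsFinite (g ∣_ V) := hg'.1
  have hAF' := AF_restrict f hAF V
  have hrep : ∀ U : ((f ⁻¹ᵁ V : X.Opens) : Scheme.{u}).affineOpens,
      ∃ (W : Over (V : Scheme.{u}))
        (ξU : (Flatn.morS (g ∣_ V) (U.1.ι ≫ f ∣_ V)).obj (op W)),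
        IsUniv (Flatn.morS (g ∣_ V) (U.1.ι ≫ f ∣_ V)) W ξU := by
    intro U
    haveI : IsAffine (U.1 : Scheme.{u}) := U.2
    haveI : IsAffineHom (U.1.ι ≫ f ∣_ V) := inferInstance
    obtain ⟨W, -, ⟨r⟩⟩ := MorSGlue.exists_representable (g ∣_ V) (U.1.ι ≫ f ∣_ V) hg'
    exact ⟨W, _, isUniv_of_representableBy r⟩
  choose W ξU hW using hrep
  have hcov : ∀ (T : Over (V : Scheme.{u})) (ξ : (Flatn.morS (g ∣_ V) (f ∣_ V)).obj (op T))
      (t : T.left), ∃ U : ((f ⁻¹ᵁ V : X.Opens) : Scheme.{u}).affineOpens, t ∈ locus U.1 T ξ :=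
    fun T ξ t => exists_mem_locus_of_AF (g ∣_ V) (f ∣_ V) hAF' T ξ t
  exact exists_isUniv_of_cover (ι := ((f ⁻¹ᵁ V : X.Opens) : Scheme.{u}).affineOpens) (g ∣_ V)
    (f ∣_ V) (fun U => U.1) W ξU hW hcov

end AF

end Groth.Agent.Lib.T2H7.MorSAF
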