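import Groth.Agent.Lib.T2H7MtLocus

/-!
Monomorphy and isomorphy of `D(ψ)` in terms of `ψ`.
-/

set_option autoImplicit false
set_option linter.unusedSectionVars false
set_option linter.unusedVariables false
set_option linter.style.haveILetI false
universe u
open CategoryTheory CategoryTheory.Limits MonoidalCategory CartesianMonoidalCategory MonObj GrpObj
  AlgebraicGeometry

namespace Groth.Agent.Lib.T2H7.MtLocus

open Groth.Agent.Lib.T2H3.MultGa Groth.Agent.Lib.Helper27.GaGm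
  Groth.Agent.Lib.T2H7.DiagDS Groth.Agent.Lib.T2H7.DiagHomA Groth.Agent.Lib.T2H7.DiagHomB
  Groth.Agent.Lib.T2H7.DiagHomC Groth.Agent.Lib.T2H7.DiagHomD Groth.Agent.Lib.T2H7.DiagHomE
  Groth.Agent.Lib.T2H7.GrpIsoBC Groth.Agent.Lib.T2H7.ToriMono Groth.Agent.Lib.T2H7.MtModel

variable {M N : Type} [AddCommGroup M] [AddCommGroup N]

/-- `D(ψ)` is a monomorphism when `ψ` is surjective. -/
theorem mono_of_surj {T : Scheme.{u}} (ψ : M →+ N) (hψ : Function.Surjective ψ)
    (δ : Red.DS T N ⟶ Red.DS T M) (hδ : ∀ m, dsFn δ (sg m) = chr T (ψ m)) : Mono δ := by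
  refine ⟨fun {Y} x y hxy => ?_⟩
  apply ds_ext'
  intro n
  obtain ⟨m, rfl⟩ := hψ n
  rw [← dsFn_comp_of_chr x δ ψ hδ m, ← dsFn_comp_of_chr y δ ψ hδ m, hxy]

theorem isMonHom_of_chr {T : Scheme.{u}} (ψ : M →+ N)
    (δ : Red.DS T N ⟶ Red.DS T M) (hδ : ∀ m, dsFn δ (sg m) = chr T (ψ m)) : IsMonHom δ := by
  obtain ⟨δ', hmon, hδ'⟩ := exists_dsHom (T := T) ψ
  have : δ = δ' := ds_ext' (fun m => by rw [hδ, hδ'])
  rw [this]
  exact hmon

variable {R : Type u} [CommRing R]

/-- over a nonzero ring, `ψ` is surjective when `D(ψ)` is a monomorphism. -/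
theorem surj_of_mono [Nontrivial R] (ψ : M →+ N)
    (δ : Red.DS (Spec (CommRingCat.of R)) N ⟶ Red.DS (Spec (CommRingCat.of R)) M)
    (hδ : ∀ m, dsFn δ (sg m) = chr (Spec (CommRingCat.of R)) (ψ m)) [Mono δ] :
    Function.Surjective ψ := by
  haveI : IsMonHom δ := isMonHom_of_chr ψ δ hδ
  obtain ⟨a, haiso, hamon, ha1⟩ := exists_iso R N
  haveI := haiso
  haveI := hamon
  obtain ⟨p, hp⟩ := Ideal.exists_maximal R
  haveI : p.IsPrime := hp.isPrime
  intro n
  have hgl : ∀ m, IsGroupLikeElem R (sN (R := R) (ψ m)) := fun m =>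
    MonoidAlgebra.isGroupLikeElem_single_one _
  have hc : ∀ m, dsFn (a ≫ δ) (sg m) = toG (sN (R := R) (ψ m)) := fun m =>
    (dsFn_comp_of_chr a δ ψ hδ m).trans (ha1 _)
  have hψ : ∀ m, (sN (R := R) (ψ m)).coeff (Multiplicative.ofAdd (ψ m)) ∉ p := by
    intro m
    unfold sN
    rw [MonoidAlgebra.coeff_single, Finsupp.single_eq_same]
    exact fun h => hp.ne_top ((Ideal.eq_top_iff_one _).2 h)
  have h0 := eq_zero_of_mono a ha1 δ (fun m => sN (ψ m)) hgl hc p ψ hψ
    (QuotientAddGroup.mk' ψ.range)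
    (fun m => (QuotientAddGroup.eq_zero_iff _).2 ⟨m, rfl⟩) n
  exact (QuotientAddGroup.eq_zero_iff _).1 h0

/-- over a field, `ψ` is bijective when `D(ψ)` is an isomorphism. -/
theorem bij_of_iso {k : Type u} [Field k] (ψ : M →+ N)
    (δ : Red.DS (Spec (CommRingCat.of k)) N ⟶ Red.DS (Spec (CommRingCat.of k)) M)
    (hδ : ∀ m, dsFn δ (sg m) = chr (Spec (CommRingCat.of k)) (ψ m)) [IsIso δ] :
    Function.Bijective ψ := by
  haveI : IsMonHom δ := isMonHom_of_chr ψ δ hδ
  refine ⟨?_, surj_of_mono ψ δ hδ⟩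
  haveI : IsMonHom (asIso δ).hom := ‹IsMonHom δ›
  haveI : IsMonHom (inv δ) := inferInstanceAs (IsMonHom (asIso δ).inv)
  have hconn : ∀ e : k, IsIdempotentElem e → e = 0 ∨ e = 1 := by
    intro e he
    have h : e * (e - 1) = 0 := by
      have : e * e = e := he
      rw [mul_sub, this, _root_.mul_one, sub_self]
    rcases mul_eq_zero.1 h with h | h
    · exact Or.inl h
    · exact Or.inr (sub_eq_zero.1 h)
  obtain ⟨ψ', hψ'⟩ := exists_addHom hconn (inv δ)
  have hcomp : ∀ m, ψ' (ψ m) = m := by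
    intro m
    apply chr_injective k
    have h1 := dsFn_comp_of_chr (inv δ) δ ψ hδ m
    rw [IsIso.inv_hom_id] at h1
    rw [← hψ', ← h1]
    rfl
  exact Function.LeftInverse.injective hcomp

section Main

variable {S : Scheme.{u}} (G H : Over S) [GrpObj G] [GrpObj H]

/-- **S5275.** -/
theorem locus_iso (hG : SGA3x.IsMultTypeFT G) (hH : SGA3x.IsMultTypeFT H) (u : G ⟶ H)
    [IsMonHom u] :
    ∃ U : S.Opens, IsClosed (U : Set S) ∧
      (∀ s : S, s ∈ U ↔ IsIso ((Over.pullback (S.fromSpecResidueField s)).map u).left) ∧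
      IsIso ((Over.pullback U.ι).map u).left := by
  refine locus (MorphismProperty.isomorphisms Scheme.{u})
    (fun {A B} _ _ ψ => Function.Bijective ψ) ?_ ?_ u hG hH
  · intro T A B _ _ ψ δ hδ hQ
    haveI := isIso_dsHom (AddEquiv.ofBijective ψ hQ) δ hδ
    exact inferInstanceAs (IsIso ((Over.forget _).map δ))
  · intro k _ A B _ _ ψ δ hδ hP
    haveI : IsIso δ := Groth.Agent.Lib.T2H7.OverDesc.isIso_of_isIso_left δ hP
    exact bij_of_iso ψ δ hδ

instance : (MorphismProperty.monomorphisms Scheme.{u}).DescendsAlong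
    (@Surjective ⊓ @Flat ⊓ @QuasiCompact) := by
  rw [← MorphismProperty.diagonal_isomorphisms]
  infer_instance

/-- **S5274.** -/
theorem locus_mono (hG : SGA3x.IsMultTypeFT G) (hH : SGA3x.IsMultTypeFT H) (u : G ⟶ H)
    [IsMonHom u] :
    ∃ U : S.Opens, IsClosed (U : Set S) ∧
      (∀ s : S, s ∈ U ↔ Mono ((Over.pullback (S.fromSpecResidueField s)).map u).left) ∧
      Mono ((Over.pullback U.ι).map u).left := by
  refine locus (MorphismProperty.monomorphisms Scheme.{u})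
    (fun {A B} _ _ ψ => Function.Surjective ψ) ?_ ?_ u hG hH
  · intro T A B _ _ ψ δ hδ hQ
    haveI := mono_of_surj ψ hQ δ hδ
    exact (inferInstance : Mono δ.left)
  · intro k _ A B _ _ ψ δ hδ hP
    haveI : Mono δ.left := hP
    haveI : Mono δ := Over.mono_of_mono_left δ
    exact surj_of_mono ψ δ hδ

end Main

end Groth.Agent.Lib.T2H7.MtLocus
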