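import Groth.Prelude.Def_ActBC
import Mathlib.AlgebraicGeometry.Morphisms.FlatDescent

/-!
Descent of "being an isomorphism" for morphisms of `Over S` along Zariski covers, along a single
flat surjective quasi-compact morphism, and compatibility with iterated base change.
-/

set_option autoImplicit false
set_option linter.unusedSectionVars false
set_option linter.unusedVariables false
set_option linter.style.haveILetI false
universe u
open CategoryTheory CategoryTheory.Limits AlgebraicGeometry

namespace Groth.Agent.Lib.T2H7.OverDesc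

variable {S Z : Scheme.{u}} {A B : Over S}

/-- The defining cartesian square of the base change of a morphism. -/
theorem isPullback_map (k : Z ⟶ S) (φ : A ⟶ B) :
    IsPullback ((Over.pullback k).map φ).left (pullback.fst A.hom k) (pullback.fst B.hom k)
      φ.left := by
  have hbig : IsPullback (pullback.fst A.hom k) (pullback.snd A.hom k) A.hom k :=
    IsPullback.of_hasPullback _ _
  have hbot : IsPullback (pullback.fst B.hom k) (pullback.snd B.hom k) B.hom k :=
    IsPullback.of_hasPullback _ _
  have h1 : ((Over.pullback k).map φ).left ≫ pullback.fst B.hom k =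
      pullback.fst A.hom k ≫ φ.left := ActBC.pullback_map_left_fst k φ
  have h2 : ((Over.pullback k).map φ).left ≫ pullback.snd B.hom k = pullback.snd A.hom k :=
    Over.w ((Over.pullback k).map φ)
  -- paste: the outer rectangle is the pullback square of `A`
  refine IsPullback.of_right ?_ h1 hbot.flip
  rw [h2, Over.w φ]
  exact hbig.flip

theorem isIso_of_isIso_left (φ : A ⟶ B) (h : IsIso φ.left) : IsIso φ := by
  haveI : IsIso ((Over.forget _).map φ) := h
  exact isIso_of_reflects_iso φ (Over.forget _)

/-- fpqc descent of isomorphisms in `Over S`. -/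
theorem isIso_of_fpqc (k : Z ⟶ S) [Flat k] [Surjective k] [QuasiCompact k] (φ : A ⟶ B)
    (h : IsIso ((Over.pullback k).map φ)) : IsIso φ := by
  apply isIso_of_isIso_left
  have hsq := isPullback_map k φ
  have hQ : (@Surjective ⊓ @Flat ⊓ @QuasiCompact : MorphismProperty Scheme.{u})
      (pullback.fst B.hom k) :=
    ⟨⟨inferInstance, inferInstance⟩, inferInstance⟩
  have hP : MorphismProperty.isomorphisms Scheme.{u} ((Over.pullback k).map φ).left := by
    haveI := h
    exact inferInstanceAs (IsIso ((Over.forget _).map ((Over.pullback k).map φ)))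
  exact MorphismProperty.of_isPullback_of_descendsAlong
    (P := MorphismProperty.isomorphisms Scheme.{u}) hsq hQ hP

/-- Zariski descent of isomorphisms in `Over S`. -/
theorem isIso_of_openCover (𝒰 : S.OpenCover) (φ : A ⟶ B)
    (h : ∀ i, IsIso ((Over.pullback (𝒰.f i)).map φ)) : IsIso φ := by
  apply isIso_of_isIso_left
  show MorphismProperty.isomorphisms Scheme.{u} φ.left
  rw [IsZariskiLocalAtTarget.iff_of_openCover (P := MorphismProperty.isomorphisms Scheme.{u})
    (𝒰.pullback₁ B.hom)]
  intro (i : 𝒰.I₀)
  have hsq := isPullback_map (𝒰.f i) φ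
  have hP : MorphismProperty.isomorphisms Scheme.{u} ((Over.pullback (𝒰.f i)).map φ).left := by
    haveI := h i
    exact inferInstanceAs (IsIso ((Over.forget _).map ((Over.pullback (𝒰.f i)).map φ)))
  have hsq' : IsPullback (pullback.fst A.hom (𝒰.f i)) ((Over.pullback (𝒰.f i)).map φ).left φ.left
      (pullback.fst B.hom (𝒰.f i)) := hsq.flip
  show MorphismProperty.isomorphisms Scheme.{u} (pullback.snd φ.left (pullback.fst B.hom (𝒰.f i)))
  have : pullback.snd φ.left (pullback.fst B.hom (𝒰.f i)) =
      hsq'.isoPullback.inv ≫ ((Over.pullback (𝒰.f i)).map φ).left :=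
    hsq'.isoPullback_inv_snd.symm
  rw [this]
  haveI : IsIso ((Over.pullback (𝒰.f i)).map φ).left := hP
  exact inferInstanceAs (IsIso (_ ≫ _))

/-- Pointwise form of Zariski descent. -/
theorem isIso_of_forall_exists (φ : A ⟶ B)
    (h : ∀ x : S, ∃ (U : Scheme.{u}) (j : U ⟶ S), IsOpenImmersion j ∧ x ∈ Set.range j ∧
      IsIso ((Over.pullback j).map φ)) : IsIso φ := by
  choose U j hj hx hiso using h
  let 𝒰 : S.OpenCover := Scheme.Cover.mkOfCovers S U j (fun x => by
    obtain ⟨y, hy⟩ := hx x
    exact ⟨x, y, hy⟩) hj
  exact isIso_of_openCover 𝒰 φ hiso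

/-- Compatibility with iterated base change. -/
theorem isIso_bc_comp_iff {S' S'' : Scheme.{u}} (p : S'' ⟶ S') (q : S' ⟶ S) {d : S'' ⟶ S}
    (hd : p ≫ q = d) (φ : A ⟶ B) :
    IsIso ((Over.pullback p).map ((Over.pullback q).map φ)) ↔ IsIso ((Over.pullback d).map φ) := by
  have hnat := ActBC.bcCompIso_hom_naturality p q hd φ
  constructor
  · intro h
    have : (Over.pullback d).map φ = (ActBC.bcCompIso p q A hd).inv ≫
        (Over.pullback p).map ((Over.pullback q).map φ) ≫ (ActBC.bcCompIso p q B hd).hom := by
      rw [hnat, Iso.inv_hom_id_assoc]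
    rw [this]
    infer_instance
  · intro h
    have : (Over.pullback p).map ((Over.pullback q).map φ) = (ActBC.bcCompIso p q A hd).hom ≫
        (Over.pullback d).map φ ≫ (ActBC.bcCompIso p q B hd).inv := by
      rw [← Category.assoc, ← hnat, Category.assoc, Iso.hom_inv_id, Category.comp_id]
    rw [this]
    infer_instance

end Groth.Agent.Lib.T2H7.OverDesc
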