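import Groth.Agent.Lib.T2H7DiagHomE
import Groth.Agent.Lib.T2H7GrpIsoBC
import Groth.Agent.Lib.T2H7OverDesc

set_option autoImplicit false
set_option linter.unusedSectionVars false
set_option linter.unusedVariables false
set_option linter.style.haveILetI false
universe u
open CategoryTheory CategoryTheory.Limits MonoidalCategory CartesianMonoidalCategory MonObj GrpObj
  AlgebraicGeometry

namespace Groth.Agent.Lib.T2H7.ToriMono

open Groth.Agent.Lib.T2H3.MultGa Groth.Agent.Lib.Helper27.GaGm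
  Groth.Agent.Lib.T2H7.DiagDS Groth.Agent.Lib.T2H7.DiagHomA Groth.Agent.Lib.T2H7.DiagHomB
  Groth.Agent.Lib.T2H7.DiagHomC Groth.Agent.Lib.T2H7.DiagHomD Groth.Agent.Lib.T2H7.DiagHomE
  Groth.Agent.Lib.T2H7.GrpIsoBC

variable {S S' S'' : Scheme.{u}}

/-- base change of `D_S(M)` is `D_{S'}(M)`. -/
theorem bc_DS_grpIso (p : S' ⟶ S) (M : Type) [AddCommGroup M] :
    Nonempty (Grp.mk (Red.bc p (Red.DS S M)) ≅ Grp.mk (Red.DS S' M)) := by
  have hd : p ≫ (Limits.IsTerminal.from specULiftZIsTerminal S) =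
      Limits.IsTerminal.from specULiftZIsTerminal S' := specULiftZIsTerminal.hom_ext _ _
  refine (nonempty_grpIso_iff _ _).2
    ⟨ActBC.bcCompIso p _ (Red.diag (ULift.{u} ℤ) M) hd, ?_⟩
  infer_instance

/-- a splitting over `S'` gives a splitting over any `S''` mapping to `S'`. -/
theorem split_of_comp (p : S'' ⟶ S') (q : S' ⟶ S) {d : S'' ⟶ S} (hd : p ≫ q = d)
    (T : Over S) [GrpObj T] (M : Type) [AddCommGroup M]
    (h : Red.IsSplitTorusWith M (Red.bc q T)) : Red.IsSplitTorusWith M (Red.bc d T) := by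
  obtain ⟨e1, he1⟩ := (nonempty_grpIso_iff _ _).1 (grpIso_bc p h)
  obtain ⟨e2, he2⟩ := (nonempty_grpIso_iff _ _).1 (bc_DS_grpIso p M)
  refine (nonempty_grpIso_iff _ _).2 ⟨(ActBC.bcCompIso p q T hd).symm ≪≫ e1 ≪≫ e2, ?_⟩
  show IsMonHom ((ActBC.bcCompIso p q T hd).inv ≫ e1.hom ≫ e2.hom)
  infer_instance

variable {R : Type u} [CommRing R] {M N : Type} [AddCommGroup M] [AddCommGroup N]

/-- a monomorphism `D(N) ⟶ D(M)` over a nonzero ring induces a surjection `M → N`. -/
theorem exists_surj_of_mono [Nontrivial R]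
    (φ : Red.DS (Spec (CommRingCat.of R)) N ⟶ Red.DS (Spec (CommRingCat.of R)) M) [IsMonHom φ]
    [Mono φ] : ∃ ψ : M →+ N, Function.Surjective ψ := by
  obtain ⟨a, haiso, hamon, ha1⟩ := exists_iso R N
  haveI := haiso
  haveI := hamon
  obtain ⟨c, hgl, hc0, hcadd, hc⟩ := exists_family a φ
  obtain ⟨p, hp⟩ := Ideal.exists_maximal R
  haveI : p.IsPrime := hp.isPrime
  obtain ⟨ψ, hψ⟩ := exists_addHom_prime c hgl hcadd p
  refine ⟨ψ, ?_⟩
  intro n
  have h0 := eq_zero_of_mono a ha1 φ c hgl hc p ψ hψ (QuotientAddGroup.mk' ψ.range)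
    (fun m => (QuotientAddGroup.eq_zero_iff _).2 ⟨m, rfl⟩) n
  exact (QuotientAddGroup.eq_zero_iff _).1 h0

theorem le_of_surj {a b : ℕ} (ψ : (Fin a → ℤ) →+ (Fin b → ℤ)) (h : Function.Surjective ψ) :
    b ≤ a := by
  have := LinearMap.finrank_le_finrank_of_surjective (f := ψ.toIntLinearMap) h
  simpa using this

/-- the rank of a split torus over a nonzero ring is well defined. -/
theorem rank_eq_of_grpIso [Nontrivial R] {a b : ℕ}
    (h : Nonempty (Grp.mk (Red.DS (Spec (CommRingCat.of R)) (Fin a → ℤ)) ≅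
      Grp.mk (Red.DS (Spec (CommRingCat.of R)) (Fin b → ℤ)))) : a = b := by
  obtain ⟨e, he⟩ := (nonempty_grpIso_iff _ _).1 h
  haveI := he
  obtain ⟨ψ, hψ⟩ := exists_surj_of_mono (R := R) e.hom
  obtain ⟨ψ', hψ'⟩ := exists_surj_of_mono (R := R) e.inv
  exact le_antisymm (le_of_surj ψ hψ) (le_of_surj ψ' hψ')

/-- the rank of a splitting over `Z` is the rank of the geometric fibre. -/
theorem rank_eq_geomFibre {S Z : Scheme.{u}} (g : Z ⟶ S) (z : Z) (T : Over S) [GrpObj T]
    {a b : ℕ} (h₁ : Red.IsSplitTorusWith (Fin a → ℤ) (Red.bc g T))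
    (h₂ : Red.IsSplitTorusWith (Fin b → ℤ) (Red.geomFibre (g z) T)) : a = b := by
  let φ : S.residueField (g z) →+* Z.residueField z := (g.residueFieldMap z).hom
  letI : Algebra (S.residueField (g z)) (AlgebraicClosure (Z.residueField z)) :=
    ((algebraMap (Z.residueField z) (AlgebraicClosure (Z.residueField z))).comp φ).toAlgebra
  let emb : AlgebraicClosure (S.residueField (g z)) →ₐ[S.residueField (g z)]
      AlgebraicClosure (Z.residueField z) := IsAlgClosed.lift
  letI : Algebra (AlgebraicClosure (S.residueField (g z)))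
      (AlgebraicClosure (Z.residueField z)) := emb.toRingHom.toAlgebra
  have hcomm : Spec.map (CommRingCat.ofHom (algebraMap (AlgebraicClosure (S.residueField (g z)))
      (AlgebraicClosure (Z.residueField z)))) ≫ Red.geomPt (g z) = Red.geomPt z ≫ g := by
    unfold Red.geomPt
    rw [Category.assoc, ← Scheme.Hom.SpecMap_residueFieldMap_fromSpecResidueField,
      ← Spec.map_comp_assoc, ← Spec.map_comp_assoc]
    congr 2
    ext x
    exact emb.commutes x
  have h₁' := split_of_comp (Red.geomPt z) g rfl T _ h₁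
  have h₂' := split_of_comp _ (Red.geomPt (g z)) hcomm T _ h₂
  obtain ⟨e₁⟩ := h₁'
  obtain ⟨e₂⟩ := h₂'
  exact rank_eq_of_grpIso (R := AlgebraicClosure (Z.residueField z)) ⟨e₁.symm ≪≫ e₂⟩

/-- **Affine split case.** -/
theorem isIso_bc_of_split {S : Scheme.{u}} {T T' : Over S} [GrpObj T] [GrpObj T'] (f : T ⟶ T')
    [IsMonHom f] [Mono f] (R : Type u) [CommRing R] (g : Spec (CommRingCat.of R) ⟶ S) (r : ℕ)
    (h₁ : Red.IsSplitTorusWith (Fin r → ℤ) (Red.bc g T))
    (h₂ : Red.IsSplitTorusWith (Fin r → ℤ) (Red.bc g T')) :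
    IsIso ((Over.pullback g).map f) := by
  obtain ⟨e₁, he₁⟩ := (nonempty_grpIso_iff _ _).1 h₁
  obtain ⟨e₂, he₂⟩ := (nonempty_grpIso_iff _ _).1 h₂
  haveI := he₁
  haveI := he₂
  obtain ⟨φ', hφ'⟩ : ∃ φ' : Red.DS (Spec (CommRingCat.of R)) (Fin r → ℤ) ⟶
      Red.DS (Spec (CommRingCat.of R)) (Fin r → ℤ),
      φ' = e₁.inv ≫ (Over.pullback g).map f ≫ e₂.hom := ⟨_, rfl⟩
  haveI : IsMonHom φ' := by rw [hφ']; infer_instance
  haveI : Mono ((Over.pullback g).map f) := inferInstance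
  haveI : Mono φ' := by rw [hφ']; infer_instance
  have hiso : IsIso φ' := isIso_of_mono (R := R) (M := Fin r → ℤ) (N := Fin r → ℤ)
    (fun ψ hψ => OrzechProperty.injective_of_surjective_endomorphism ψ.toIntLinearMap hψ) φ'
  have : (Over.pullback g).map f = e₁.hom ≫ φ' ≫ e₂.inv := by
    rw [hφ']; simp
  rw [this]
  infer_instance

end Groth.Agent.Lib.T2H7.ToriMono
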