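import Groth.Agent.Lib.T2H7DiagHomE
import Groth.Agent.Lib.T2H7GrpIsoBC
import Groth.Agent.Lib.T2H7OverDesc
import Groth.Agent.Lib.T2H7ToriMono

set_option autoImplicit false
set_option linter.unusedSectionVars false
set_option linter.unusedVariables false
set_option linter.style.haveILetI false
universe u
open CategoryTheory CategoryTheory.Limits MonoidalCategory CartesianMonoidalCategory MonObj GrpObj
  AlgebraicGeometry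

namespace Groth.Agent.Lib.T2H7.ToriMono
open Groth.Agent.Lib.T2H7.GrpIsoBC

/-- a quasi-compact open of a flat `S₁ ⟶ S` with image an affine open gives an fpqc covering of
that affine open. -/
theorem cover_piece {S S₁ X : Scheme.{u}} (j : X ⟶ S) [IsOpenImmersion j] [IsAffine X]
    (f₁ : S₁ ⟶ S) [Flat f₁] (W₁ : S₁.Opens) (hc : IsCompact (W₁ : Set S₁))
    (hi : f₁.base '' (W₁ : Set S₁) = (j.opensRange : Set S)) :
    ∃ p₁ : W₁.toScheme ⟶ X, p₁ ≫ j = W₁.ι ≫ f₁ ∧ Flat p₁ ∧ Surjective p₁ ∧ QuasiCompact p₁ := by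
  have hr : Set.range (W₁.ι ≫ f₁) ⊆ Set.range j := by
    rintro _ ⟨w, rfl⟩
    have : f₁ (W₁.ι w) ∈ f₁.base '' (W₁ : Set S₁) := ⟨W₁.ι w, w.2, rfl⟩
    rw [hi] at this
    exact this
  refine ⟨IsOpenImmersion.lift j (W₁.ι ≫ f₁) hr, IsOpenImmersion.lift_fac _ _ _, ?_, ?_, ?_⟩
  · apply MorphismProperty.of_postcomp (W := @Flat) (W' := @IsOpenImmersion) _ j inferInstance
    rw [IsOpenImmersion.lift_fac]
    infer_instance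
  · refine ⟨fun x => ?_⟩
    have hx : j x ∈ (j.opensRange : Set S) := ⟨x, rfl⟩
    rw [← hi] at hx
    obtain ⟨w, hw, hwx⟩ := hx
    refine ⟨⟨w, hw⟩, ?_⟩
    apply j.isOpenEmbedding.injective
    have := congrArg (fun k => k (⟨w, hw⟩ : W₁.toScheme)) (IsOpenImmersion.lift_fac j (W₁.ι ≫ f₁) hr)
    simp only [Scheme.Hom.comp_apply] at this
    rw [this]
    exact hwx
  · rw [HasAffineProperty.iff_of_isAffine (P := @QuasiCompact)]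
    exact isCompact_iff_compactSpace.1 hc

theorem local_split {S S₁ Z : Scheme.{u}} (f₁ : S₁ ⟶ S) (T : Over S) [GrpObj T]
    (hloc : ∀ s' : S₁, ∃ U : S₁.Opens, s' ∈ U ∧ ∃ r : ℕ,
      Red.IsSplitTorusWith (Fin r → ℤ) (Red.bc (U.ι ≫ f₁) T))
    (k : Z ⟶ S) (h : Z ⟶ S₁) (hk : h ≫ f₁ = k) (z : Z) :
    ∃ O : Z.Opens, z ∈ O ∧ ∃ r : ℕ, ∀ (Y : Scheme.{u}) (y : Y ⟶ Z),
      Set.range y ⊆ (O : Set Z) → Red.IsSplitTorusWith (Fin r → ℤ) (Red.bc (y ≫ k) T) := by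
  obtain ⟨U, hzU, r, hs⟩ := hloc (h z)
  refine ⟨h ⁻¹ᵁ U, hzU, r, ?_⟩
  intro Y y hy
  have hr : Set.range (y ≫ h) ⊆ Set.range U.ι := by
    rintro _ ⟨w, rfl⟩
    rw [Scheme.Opens.range_ι]
    exact hy ⟨w, rfl⟩
  refine split_of_comp (IsOpenImmersion.lift U.ι (y ≫ h) hr) (U.ι ≫ f₁) ?_ T _ hs
  rw [← Category.assoc, IsOpenImmersion.lift_fac, Category.assoc, hk]

open Groth.Agent.Lib.T2H7.OverDesc in
/-- **S16611.** -/
theorem main {S : Scheme.{u}} {T T' : Over S} [GrpObj T] [GrpObj T']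
    (hT : Red.IsTorus T) (hT' : Red.IsTorus T') (f : T ⟶ T') [IsMonHom f] [Mono f]
    (hrk : ∀ s : ↥S, ∃ r : ℕ, Red.IsSplitTorusWith (Fin r → ℤ) (Red.geomFibre s T) ∧
      Red.IsSplitTorusWith (Fin r → ℤ) (Red.geomFibre s T')) : IsIso f := by
  obtain ⟨S₁, f₁, hfl₁, hsj₁, hcov₁, hloc₁⟩ := hT
  obtain ⟨S₂, f₂, hfl₂, hsj₂, hcov₂, hloc₂⟩ := hT'
  apply isIso_of_openCover S.affineCover f
  intro i
  obtain ⟨j, hj⟩ : ∃ j : S.affineCover.X i ⟶ S, j = S.affineCover.f i := ⟨_, rfl⟩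
  rw [← hj]
  haveI : IsOpenImmersion j := by rw [hj]; infer_instance
  haveI : IsAffine (S.affineCover.X i) := inferInstanceAs (IsAffine (Spec _))
  have hV : IsAffineOpen j.opensRange := isAffineOpen_opensRange j
  obtain ⟨W₁, hW₁c, hW₁i⟩ := hcov₁ _ hV
  obtain ⟨W₂, hW₂c, hW₂i⟩ := hcov₂ _ hV
  obtain ⟨p₁, hp₁, hp₁f, hp₁s, hp₁q⟩ := cover_piece j f₁ W₁ hW₁c hW₁i
  obtain ⟨p₂, hp₂, hp₂f, hp₂s, hp₂q⟩ := cover_piece j f₂ W₂ hW₂c hW₂i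
  obtain ⟨k₀, hk₀⟩ : ∃ k₀ : pullback p₁ p₂ ⟶ S.affineCover.X i, k₀ = pullback.fst p₁ p₂ ≫ p₁ :=
    ⟨_, rfl⟩
  haveI : Flat k₀ := by rw [hk₀]; infer_instance
  haveI : Surjective k₀ := by rw [hk₀]; infer_instance
  haveI : QuasiCompact k₀ := by rw [hk₀]; infer_instance
  apply isIso_of_fpqc k₀
  rw [isIso_bc_comp_iff k₀ j rfl f]
  apply isIso_of_forall_exists
  intro z
  have hk₁ : (pullback.fst p₁ p₂ ≫ W₁.ι) ≫ f₁ = k₀ ≫ j := by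
    rw [hk₀, Category.assoc, Category.assoc, hp₁]
  have hk₂ : (pullback.snd p₁ p₂ ≫ W₂.ι) ≫ f₂ = k₀ ≫ j := by
    rw [hk₀, pullback.condition, Category.assoc, Category.assoc, hp₂]
  obtain ⟨O₁, hzO₁, r₁, hs₁⟩ := local_split f₁ T hloc₁ (k₀ ≫ j) _ hk₁ z
  obtain ⟨O₂, hzO₂, r₂, hs₂⟩ := local_split f₂ T' hloc₂ (k₀ ≫ j) _ hk₂ z
  obtain ⟨_, ⟨Z₀, hZ₀, rfl⟩, hzZ₀, hZ₀O⟩ :=
    (pullback p₁ p₂).isBasis_affineOpens.exists_subset_of_mem_open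
      (show z ∈ ((O₁ ⊓ O₂ : (pullback p₁ p₂).Opens) : Set _) from ⟨hzO₁, hzO₂⟩) (O₁ ⊓ O₂).2
  have hZ₀' : IsAffineOpen Z₀ := hZ₀
  refine ⟨Spec Γ(pullback p₁ p₂, Z₀), hZ₀'.fromSpec, inferInstance, ?_, ?_⟩
  · rw [hZ₀'.range_fromSpec]
    exact hzZ₀
  · rw [isIso_bc_comp_iff hZ₀'.fromSpec (k₀ ≫ j) rfl f]
    have hrange₁ : Set.range hZ₀'.fromSpec ⊆ (O₁ : Set _) := by
      rw [hZ₀'.range_fromSpec]
      exact fun x hx => (hZ₀O hx).1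
    have hrange₂ : Set.range hZ₀'.fromSpec ⊆ (O₂ : Set _) := by
      rw [hZ₀'.range_fromSpec]
      exact fun x hx => (hZ₀O hx).2
    have hT₁ := hs₁ _ hZ₀'.fromSpec hrange₁
    have hT₂ := hs₂ _ hZ₀'.fromSpec hrange₂
    obtain ⟨y, hy⟩ : ∃ y, hZ₀'.fromSpec y = z := by
      have : z ∈ Set.range hZ₀'.fromSpec := by
        rw [hZ₀'.range_fromSpec]
        exact hzZ₀
      exact this
    obtain ⟨r, hr, hr'⟩ := hrk ((hZ₀'.fromSpec ≫ k₀ ≫ j) y)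
    have e₁ : r₁ = r := rank_eq_geomFibre (hZ₀'.fromSpec ≫ k₀ ≫ j) y T hT₁ hr
    have e₂ : r₂ = r := rank_eq_geomFibre (hZ₀'.fromSpec ≫ k₀ ≫ j) y T' hT₂ hr'
    rw [e₁] at hT₁
    rw [e₂] at hT₂
    exact isIso_bc_of_split f (↑Γ(pullback p₁ p₂, Z₀)) (hZ₀'.fromSpec ≫ k₀ ≫ j) r hT₁ hT₂

end Groth.Agent.Lib.T2H7.ToriMono
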