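import Groth.Agent.Lib.T2H7OverDesc
import Groth.Agent.Lib.T2H7ToriMonoB

/-!
Descent of equalities of morphisms in `Over S` along the kind of flat coverings occurring in the
definition of groups of multiplicative type.
-/

set_option autoImplicit false
set_option linter.unusedSectionVars false
set_option linter.unusedVariables false
set_option linter.style.haveILetI false
universe u
open CategoryTheory CategoryTheory.Limits AlgebraicGeometry

namespace Groth.Agent.Lib.T2H7.EqDesc

variable {S Z : Scheme.{u}} {A B : Over S}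

/-- the two morphisms become equal after base change along `q`. -/
def E (a b : A ⟶ B) (q : Z ⟶ S) : Prop := (Over.pullback q).map a = (Over.pullback q).map b

theorem E.precomp {a b : A ⟶ B} {q : Z ⟶ S} (h : E a b q) {Z' : Scheme.{u}} (r : Z' ⟶ Z)
    {d : Z' ⟶ S} (hd : r ≫ q = d) : E a b d := by
  unfold E at h ⊢
  have ha := ActBC.bcCompIso_hom_naturality r q hd a
  have hb := ActBC.bcCompIso_hom_naturality r q hd b
  rw [h] at ha
  have : (ActBC.bcCompIso r q A hd).hom ≫ (Over.pullback d).map a =
      (ActBC.bcCompIso r q A hd).hom ≫ (Over.pullback d).map b := ha.symm.trans hb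
  exact (cancel_epi _).1 this

theorem E.of_faithful {a b : A ⟶ B} {q : Z ⟶ S} {Z' : Scheme.{u}} (r : Z' ⟶ Z)
    [(Over.pullback r).Faithful] {d : Z' ⟶ S} (hd : r ≫ q = d) (h : E a b d) : E a b q := by
  unfold E at h ⊢
  have ha := ActBC.bcCompIso_hom_naturality r q hd a
  have hb := ActBC.bcCompIso_hom_naturality r q hd b
  rw [h, ← hb] at ha
  exact (Over.pullback r).map_injective ((cancel_mono _).1 ha)

/-- Zariski descent of equalities. -/
theorem eq_of_openCover (𝒰 : S.OpenCover) (a b : A ⟶ B) (h : ∀ i, E a b (𝒰.f i)) : a = b := by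
  ext : 1
  refine Scheme.Cover.hom_ext (𝒰.pullback₁ A.hom) _ _ ?_
  intro (i : 𝒰.I₀)
  show pullback.fst A.hom (𝒰.f i) ≫ a.left = pullback.fst A.hom (𝒰.f i) ≫ b.left
  rw [← ActBC.pullback_map_left_fst, ← ActBC.pullback_map_left_fst, h i]

theorem E.of_openCover {a b : A ⟶ B} {q : Z ⟶ S} (𝒰 : Z.OpenCover)
    (h : ∀ i, E a b (𝒰.f i ≫ q)) : E a b q :=
  eq_of_openCover 𝒰 _ _ fun i => by
    have ha := ActBC.bcCompIso_hom_naturality (𝒰.f i) q rfl a
    have hb := ActBC.bcCompIso_hom_naturality (𝒰.f i) q rfl b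
    have hi : (Over.pullback (𝒰.f i ≫ q)).map a = (Over.pullback (𝒰.f i ≫ q)).map b := h i
    rw [hi, ← hb] at ha
    exact (cancel_mono _).1 ha

/-- **Descent of equalities** along a flat covering with the quasi-compactness condition, the
equality being known locally on the covering. -/
theorem eq_of_cover {S' : Scheme.{u}} (a b : A ⟶ B) (f : S' ⟶ S) [Flat f]
    (hcov : ∀ V : S.Opens, IsAffineOpen V → ∃ W : S'.Opens, IsCompact (W : Set S') ∧
      f.base '' (W : Set S') = (V : Set S))
    (h : ∀ s' : S', ∃ U : S'.Opens, s' ∈ U ∧ E a b (U.ι ≫ f)) : a = b := by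
  -- the equality holds after base change to `S'`
  have hf : E a b f := by
    choose U hU hE using h
    have hcover : TopologicalSpace.IsOpenCover U := by
      apply TopologicalSpace.IsOpenCover.mk
      ext x
      simp only [TopologicalSpace.Opens.coe_iSup, Set.mem_iUnion, SetLike.mem_coe,
        TopologicalSpace.Opens.coe_top, Set.mem_univ, iff_true]
      exact ⟨x, hU x⟩
    exact E.of_openCover (S'.openCoverOfIsOpenCover U hcover) fun i => hE i
  apply eq_of_openCover S.affineCover a b
  intro i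
  obtain ⟨j, hj⟩ : ∃ j : S.affineCover.X i ⟶ S, j = S.affineCover.f i := ⟨_, rfl⟩
  rw [← hj]
  haveI : IsOpenImmersion j := by rw [hj]; infer_instance
  haveI : IsAffine (S.affineCover.X i) := inferInstanceAs (IsAffine (Spec _))
  have hV : IsAffineOpen j.opensRange := isAffineOpen_opensRange j
  obtain ⟨W₁, hW₁c, hW₁i⟩ := hcov _ hV
  obtain ⟨p₁, hp₁, hp₁f, hp₁s, hp₁q⟩ := ToriMono.cover_piece j f W₁ hW₁c hW₁i
  exact E.of_faithful p₁ hp₁ (hf.precomp W₁.ι rfl)

end Groth.Agent.Lib.T2H7.EqDesc
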