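import Groth.Agent.Lib.T2H7MtLocusB
import Groth.Agent.Lib.T2H7RigidE

/-!
The locus theorem for homomorphisms of groups of multiplicative type, for an abstract predicate
on base changes (stable under base change, descending along fpqc coverings and Zariski-local).
-/

set_option autoImplicit false
set_option linter.unusedSectionVars false
set_option linter.unusedVariables false
set_option linter.style.haveILetI false
universe u
open CategoryTheory CategoryTheory.Limits MonoidalCategory CartesianMonoidalCategory MonObj GrpObj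
  AlgebraicGeometry

namespace Groth.Agent.Lib.T2H7.MtLocusG

open Groth.Agent.Lib.T2H3.MultGa Groth.Agent.Lib.Helper27.GaGm
  Groth.Agent.Lib.T2H7.DiagDS Groth.Agent.Lib.T2H7.DiagHomA Groth.Agent.Lib.T2H7.DiagHomB
  Groth.Agent.Lib.T2H7.GrpIsoBC Groth.Agent.Lib.T2H7.ToriMono Groth.Agent.Lib.T2H7.MtModel
  Groth.Agent.Lib.T2H7.MtLocus

section Locus

variable {S : Scheme.{u}} {G H : Over S} [GrpObj G] [GrpObj H] (u : G ⟶ H)
  (Pr : ∀ {Z : Scheme.{u}}, (Z ⟶ S) → Prop)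
  (a1 : ∀ {Z Z' : Scheme.{u}} (g : Z ⟶ S) (p : Z' ⟶ Z), Pr g → Pr (p ≫ g))
  (a2 : ∀ {Z Z' : Scheme.{u}} (g : Z ⟶ S) (p : Z' ⟶ Z), Flat p → Surjective p → QuasiCompact p →
    Pr (p ≫ g) → Pr g)
  (a3 : ∀ {Z : Scheme.{u}} (g : Z ⟶ S), (∀ x : Z, ∃ (U : Scheme.{u}) (j : U ⟶ Z),
    IsOpenImmersion j ∧ x ∈ Set.range j ∧ Pr (j ≫ g)) → Pr g)
  (Q : ∀ {A B : Type} [AddCommGroup A] [AddCommGroup B], (B →+ A) → Prop)
  (H1 : ∀ {Z : Scheme.{u}} (g : Z ⟶ S) {A B : Type} [AddCommGroup A] [AddCommGroup B]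
    (ψ : B →+ A), IsModel u g ψ → Q ψ → Pr g)
  (H2 : ∀ (k : Type u) [Field k] (g : Spec (CommRingCat.of k) ⟶ S) {A B : Type}
    [AddCommGroup A] [AddCommGroup B] (ψ : B →+ A), IsModel u g ψ → Pr g → Q ψ)

include a1 a2 H1 H2 in
theorem mem_iff_of_isModel {Z : Scheme.{u}} (g : Z ⟶ S) {A B : Type} [AddCommGroup A]
    [AddCommGroup B] (ψ : B →+ A) (hmod : IsModel u g ψ) (z : Z) :
    Pr (S.fromSpecResidueField (g z)) ↔ Q ψ := by
  obtain ⟨hfl, hsj, hqc⟩ := field_fpqc (K := ↑(S.residueField (g z))) (L := ↑(Z.residueField z))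
    (g.residueFieldMap z).hom
  have e : Spec.map (g.residueFieldMap z) ≫ S.fromSpecResidueField (g z) =
      Z.fromSpecResidueField z ≫ g := Scheme.Hom.SpecMap_residueFieldMap_fromSpecResidueField g z
  constructor
  · intro h
    have h1 := a1 _ (Spec.map (g.residueFieldMap z)) h
    rw [e] at h1
    exact H2 (↑(Z.residueField z)) (Z.fromSpecResidueField z ≫ g) ψ
      (hmod.comp (Z.fromSpecResidueField z) rfl) h1
  · intro hQ
    have h0 : Pr g := H1 g ψ hmod hQ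
    have h1 := a1 g (Z.fromSpecResidueField z) h0
    rw [← e] at h1
    exact a2 _ (Spec.map (g.residueFieldMap z)) hfl hsj hqc h1

include a1 a2 a3 H1 H2 in
/-- **The locus theorem, abstract form.** -/
theorem locus (hG : SGA3x.IsMultTypeFT G) (hH : SGA3x.IsMultTypeFT H) [IsMonHom u] :
    ∃ U : S.Opens, IsClosed (U : Set S) ∧
      (∀ s : S, s ∈ U ↔ Pr (S.fromSpecResidueField s)) ∧ Pr U.ι := by
  obtain ⟨Us, hUs⟩ : ∃ Us : Set S, Us = {s | Pr (S.fromSpecResidueField s)} := ⟨_, rfl⟩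
  -- clopen on every chart
  have hchart : ∀ i : S.affineCover.I₀, IsClopen ((S.affineCover.f i) ⁻¹' Us) := by
    intro i
    haveI : IsAffine (S.affineCover.X i) := inferInstanceAs (IsAffine (Spec _))
    obtain ⟨Z, k₀, hfl, hsj, hqc, hmods⟩ := exists_local_models hG hH u (S.affineCover.f i)
    haveI := hfl
    haveI := hsj
    haveI := hqc
    have hV : IsClopen (k₀ ⁻¹' ((S.affineCover.f i) ⁻¹' Us)) := by
      apply isClopen_of_locally_const
      intro z
      obtain ⟨R, instR, y, hy, hz, A, B, instA, instB, ψ, hmod⟩ := hmods z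
      haveI := hy
      refine ⟨Set.range y, y.isOpenEmbedding.isOpen_range, hz, Q ψ, ?_⟩
      rintro _ ⟨w, rfl⟩
      have := mem_iff_of_isModel u Pr a1 a2 Q H1 H2 (y ≫ k₀ ≫ S.affineCover.f i) ψ hmod w
      rw [← this, hUs]
      rfl
    have hq := Flat.isQuotientMap_of_surjective k₀
    exact ⟨(hq.isClosed_preimage).1 hV.1, (hq.isOpen_preimage).1 hV.2⟩
  have hopen : IsOpen Us := isOpen_of_cover S.affineCover Us (fun i => (hchart i).2)
  have hclosed : IsClosed Us := by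
    rw [← isOpen_compl_iff]
    refine isOpen_of_cover S.affineCover _ (fun i => ?_)
    rw [Set.preimage_compl, isOpen_compl_iff]
    exact (hchart i).1
  refine ⟨⟨Us, hopen⟩, hclosed, fun s => by show s ∈ Us ↔ _; rw [hUs]; rfl, ?_⟩
  -- the property over `U`
  obtain ⟨U, hU⟩ : ∃ U : S.Opens, U = ⟨Us, hopen⟩ := ⟨_, rfl⟩
  rw [← hU]
  apply a3
  intro x
  obtain ⟨_, ⟨Xa, hXa, rfl⟩, hxXa, -⟩ :=
    (U.toScheme).isBasis_affineOpens.exists_subset_of_mem_open
      (show x ∈ ((⊤ : U.toScheme.Opens) : Set _) from trivial) (⊤ : U.toScheme.Opens).2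
  have hXb : IsAffineOpen Xa := hXa
  refine ⟨Spec Γ(U.toScheme, Xa), hXb.fromSpec, inferInstance, ?_, ?_⟩
  · rw [hXb.range_fromSpec]
    exact hxXa
  obtain ⟨j, hj⟩ : ∃ j : Spec Γ(U.toScheme, Xa) ⟶ S, j = hXb.fromSpec ≫ U.ι := ⟨_, rfl⟩
  rw [← hj]
  haveI : IsOpenImmersion j := by rw [hj]; infer_instance
  obtain ⟨Z, k₀, hfl, hsj, hqc, hmods⟩ := exists_local_models hG hH u j
  apply a2 j k₀ hfl hsj hqc
  apply a3
  intro z
  obtain ⟨R, instR, y, hy, hz, A, B, instA, instB, ψ, hmod⟩ := hmods z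
  refine ⟨_, y, hy, hz, ?_⟩
  obtain ⟨w, hw⟩ := hz
  have hmem : (y ≫ k₀ ≫ j) w ∈ Us := by
    have h1 : (y ≫ k₀ ≫ j) w = U.ι ((y ≫ k₀ ≫ hXb.fromSpec) w) := by
      rw [hj]
      simp only [Scheme.Hom.comp_apply]
    rw [h1]
    have hUs' : (U : Set S) = Us := by rw [hU]; rfl
    have h2 : U.ι ((y ≫ k₀ ≫ hXb.fromSpec) w) ∈ (U : Set S) :=
      ((y ≫ k₀ ≫ hXb.fromSpec) w).2
    rw [hUs'] at h2
    exact h2
  rw [hUs] at hmem
  have hQ : Q ψ := (mem_iff_of_isModel u Pr a1 a2 Q H1 H2 (y ≫ k₀ ≫ j) ψ hmod w).1 hmem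
  exact H1 _ ψ hmod hQ

end Locus

section Trivial

variable {S : Scheme.{u}} {G H : Over S} [GrpObj G] [GrpObj H] (u : G ⟶ H)

/-- a morphism through the terminal object which preserves units is trivial. -/
theorem eq_one_of_factor {T : Scheme.{u}} {A B : Over T} [GrpObj A] [GrpObj B] (F : A ⟶ B)
    [IsMonHom F] (c : 𝟙_ (Over T) ⟶ B) (h : F = toUnit A ≫ c) : F = 1 := by
  have h1 : η[A] ≫ F = η[B] := IsMonHom.one_hom F
  rw [h, ← Category.assoc] at h1
  have h2 : η[A] ≫ toUnit A = 𝟙 _ := toUnit_unique _ _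
  rw [h2, Category.id_comp] at h1
  rw [h, h1, Hom.one_def]

theorem triv_of_isModel [IsMonHom u] {Z : Scheme.{u}} (g : Z ⟶ S) {A B : Type} [AddCommGroup A]
    [AddCommGroup B] (ψ : B →+ A) (hmod : IsModel u g ψ) (hψ : ψ = 0) :
    (Over.pullback g).map u = 1 := by
  obtain ⟨eG, eH, δ, hδ, he⟩ := hmod
  have hδ1 : δ = 1 := by
    apply ds_ext'
    intro m
    rw [hδ, hψ, AddMonoidHom.zero_apply, chr_zero, dsFn_one_sg]
  refine eq_one_of_factor _ (η[Red.DS Z B] ≫ eH.inv) ?_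
  rw [he, hδ1, Hom.one_def, Category.assoc, ← Category.assoc]
  congr 1
  exact toUnit_unique _ _

theorem eq_zero_of_isModel {k : Type u} [Field k] (g : Spec (CommRingCat.of k) ⟶ S) {A B : Type}
    [AddCommGroup A] [AddCommGroup B] (ψ : B →+ A) (hmod : IsModel u g ψ)
    (h1 : (Over.pullback g).map u = 1) : ψ = 0 := by
  obtain ⟨eG, eH, δ, hδ, he⟩ := hmod
  haveI : IsMonHom δ := isMonHom_of_chr ψ δ hδ
  have hδ' : δ = eG.inv ≫ (Over.pullback g).map u ≫ eH.hom := by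
    rw [he]
    simp
  have hδ1 : δ = 1 := by
    refine eq_one_of_factor δ (η[Red.bc g H] ≫ eH.hom) ?_
    rw [hδ', h1, Hom.one_def, Category.assoc, ← Category.assoc]
    congr 1
    exact toUnit_unique _ _
  refine AddMonoidHom.ext fun m => ?_
  have h2 := hδ m
  rw [hδ1, dsFn_one_sg, ← chr_zero (T := Spec (CommRingCat.of k)) (M := A)] at h2
  exact (chr_injective k h2).symm

/-- **The trivial locus** of a homomorphism between groups of multiplicative type is open and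
closed, and the homomorphism is trivial over it. -/
theorem locus_trivial [IsMonHom u] (hG : SGA3x.IsMultTypeFT G) (hH : SGA3x.IsMultTypeFT H) :
    ∃ U : S.Opens, IsClosed (U : Set S) ∧
      (∀ s : S, s ∈ U ↔ (Over.pullback (S.fromSpecResidueField s)).map u = 1) ∧
      (Over.pullback U.ι).map u = 1 := by
  have hE : ∀ {Z : Scheme.{u}} (g : Z ⟶ S), EqDesc.E u 1 g ↔ (Over.pullback g).map u = 1 := by
    intro Z g
    unfold EqDesc.E
    rw [Functor.map_one]
  obtain ⟨U, hUc, hU1, hU2⟩ := locus u (fun {Z} g => EqDesc.E u 1 g)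
    (fun g p h => h.precomp p rfl)
    (fun g p hfl hsj hqc h => by
      haveI := hfl
      haveI := hsj
      haveI := hqc
      exact EqDesc.E.of_faithful p rfl h)
    (fun {Z} g h => by
      choose U j hj hx hE' using h
      let 𝒰 : Z.OpenCover := Scheme.Cover.mkOfCovers Z U j (fun x => by
        obtain ⟨y, hy⟩ := hx x
        exact ⟨x, y, hy⟩) hj
      exact EqDesc.E.of_openCover 𝒰 hE')
    (fun {A B} _ _ ψ => ψ = 0)
    (fun {Z} g {A B} _ _ ψ hmod hψ => (hE g).2 (triv_of_isModel u g ψ hmod hψ))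
    (fun k _ g {A B} _ _ ψ hmod h => eq_zero_of_isModel u g ψ hmod ((hE g).1 h))
    hG hH
  exact ⟨U, hUc, fun s => (hU1 s).trans (hE _), (hE _).1 hU2⟩

end Trivial

end Groth.Agent.Lib.T2H7.MtLocusG
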