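import Groth.Agent.Lib.T2H7MtLocusC

/-!
The locus theorem for a homomorphism `u : G ⟶ H` whose source is of multiplicative type of
arbitrary type (fpqc-locally diagonalisable, no finiteness) and whose target is of multiplicative
type and of finite type.
-/

set_option autoImplicit false
set_option linter.unusedSectionVars false
set_option linter.unusedVariables false
set_option linter.style.haveILetI false
universe u
open CategoryTheory CategoryTheory.Limits MonoidalCategory CartesianMonoidalCategory MonObj GrpObj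
  AlgebraicGeometry

namespace Groth.Agent.Lib.T2H7.MtLocusH

open Groth.Agent.Lib.T2H3.MultGa Groth.Agent.Lib.Helper27.GaGm
  Groth.Agent.Lib.T2H7.DiagDS Groth.Agent.Lib.T2H7.DiagHomA Groth.Agent.Lib.T2H7.DiagHomB
  Groth.Agent.Lib.T2H7.GrpIsoBC Groth.Agent.Lib.T2H7.ToriMono Groth.Agent.Lib.T2H7.MtModel
  Groth.Agent.Lib.T2H7.MtLocus

theorem local_split'' {S S₁ Z : Scheme.{u}} (f₁ : S₁ ⟶ S) (T : Over S) [GrpObj T]
    (hloc : ∀ s' : S₁, ∃ U : S₁.Opens, s' ∈ U ∧ ∃ (M : Type) (_ : AddCommGroup M),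
      Nonempty (Grp.mk (Red.bc (U.ι ≫ f₁) T) ≅ Grp.mk (Red.DS (U : Scheme.{u}) M)))
    (k : Z ⟶ S) (h : Z ⟶ S₁) (hk : h ≫ f₁ = k) (z : Z) :
    ∃ O : Z.Opens, z ∈ O ∧ ∃ (M : Type) (_ : AddCommGroup M),
      ∀ (Y : Scheme.{u}) (y : Y ⟶ Z), Set.range y ⊆ (O : Set Z) →
        Nonempty (Grp.mk (Red.bc (y ≫ k) T) ≅ Grp.mk (Red.DS Y M)) := by
  obtain ⟨U, hzU, M, instM, hs⟩ := hloc (h z)
  refine ⟨h ⁻¹ᵁ U, hzU, M, instM, ?_⟩
  intro Y y hy
  have hr : Set.range (y ≫ h) ⊆ Set.range U.ι := by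
    rintro _ ⟨w, rfl⟩
    rw [Scheme.Opens.range_ι]
    exact hy ⟨w, rfl⟩
  refine split_of_comp (IsOpenImmersion.lift U.ι (y ≫ h) hr) (U.ι ≫ f₁) ?_ T _ hs
  rw [← Category.assoc, IsOpenImmersion.lift_fac, Category.assoc, hk]

/-- **Local structure theorem**, source of arbitrary type. -/
theorem exists_local_models' {S : Scheme.{u}} {G H : Over S} [GrpObj G] [GrpObj H]
    (hG : TwC.Locally S TwC.Topology.fpqc (fun S' g => ∃ (M : Type) (_ : AddCommGroup M),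
      Nonempty (Grp.mk (Red.bc g G) ≅ Grp.mk (Red.DS S' M))))
    (hH : SGA3x.IsMultTypeFT H) (u : G ⟶ H) [IsMonHom u]
    {X : Scheme.{u}} (j : X ⟶ S) [IsOpenImmersion j] [IsAffine X] :
    ∃ (Z : Scheme.{u}) (k₀ : Z ⟶ X), Flat k₀ ∧ Surjective k₀ ∧ QuasiCompact k₀ ∧
      ∀ z : Z, ∃ (R : Type u) (_ : CommRing R) (y : Spec (CommRingCat.of R) ⟶ Z),
        IsOpenImmersion y ∧ z ∈ Set.range y ∧
        ∃ (A B : Type) (_ : AddCommGroup A) (_ : AddCommGroup B) (ψ : B →+ A),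
          IsModel u (y ≫ k₀ ≫ j) ψ := by
  obtain ⟨S₁, f₁, hfl₁, hsj₁, hcov₁, hloc₁⟩ := hG
  obtain ⟨S₂, f₂, hfl₂, hsj₂, hcov₂, hloc₂⟩ := hH
  have hV : IsAffineOpen j.opensRange := isAffineOpen_opensRange j
  obtain ⟨W₁, hW₁c, hW₁i⟩ := hcov₁ _ hV
  obtain ⟨W₂, hW₂c, hW₂i⟩ := hcov₂ _ hV
  obtain ⟨p₁, hp₁, hp₁f, hp₁s, hp₁q⟩ := cover_piece j f₁ W₁ hW₁c hW₁i
  obtain ⟨p₂, hp₂, hp₂f, hp₂s, hp₂q⟩ := cover_piece j f₂ W₂ hW₂c hW₂i
  obtain ⟨k₀, hk₀⟩ : ∃ k₀ : pullback p₁ p₂ ⟶ X, k₀ = pullback.fst p₁ p₂ ≫ p₁ := ⟨_, rfl⟩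
  refine ⟨pullback p₁ p₂, k₀, by rw [hk₀]; infer_instance, by rw [hk₀]; infer_instance,
    by rw [hk₀]; infer_instance, ?_⟩
  intro z
  have hk₁ : (pullback.fst p₁ p₂ ≫ W₁.ι) ≫ f₁ = k₀ ≫ j := by
    rw [hk₀, Category.assoc, Category.assoc, hp₁]
  have hk₂ : (pullback.snd p₁ p₂ ≫ W₂.ι) ≫ f₂ = k₀ ≫ j := by
    rw [hk₀, pullback.condition, Category.assoc, Category.assoc, hp₂]
  obtain ⟨O₁, hzO₁, A, instA, hs₁⟩ := local_split'' f₁ G hloc₁ (k₀ ≫ j) _ hk₁ z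
  obtain ⟨O₂, hzO₂, B, instB, hB, hs₂⟩ := local_split' f₂ H hloc₂ (k₀ ≫ j) _ hk₂ z
  obtain ⟨_, ⟨Z₀, hZ₀, rfl⟩, hzZ₀, hZ₀O⟩ :=
    (pullback p₁ p₂).isBasis_affineOpens.exists_subset_of_mem_open
      (show z ∈ ((O₁ ⊓ O₂ : (pullback p₁ p₂).Opens) : Set _) from ⟨hzO₁, hzO₂⟩) (O₁ ⊓ O₂).2
  have hZ₀' : IsAffineOpen Z₀ := hZ₀
  have hrange₁ : Set.range hZ₀'.fromSpec ⊆ (O₁ : Set _) := by
    rw [hZ₀'.range_fromSpec]
    exact fun x hx => (hZ₀O hx).1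
  have hrange₂ : Set.range hZ₀'.fromSpec ⊆ (O₂ : Set _) := by
    rw [hZ₀'.range_fromSpec]
    exact fun x hx => (hZ₀O hx).2
  obtain ⟨eG, heG⟩ := (nonempty_grpIso_iff _ _).1 (hs₁ _ hZ₀'.fromSpec hrange₁)
  obtain ⟨eH, heH⟩ := (nonempty_grpIso_iff _ _).1 (hs₂ _ hZ₀'.fromSpec hrange₂)
  obtain ⟨y₀, hy₀⟩ : ∃ y, hZ₀'.fromSpec y = z := by
    have : z ∈ Set.range hZ₀'.fromSpec := by
      rw [hZ₀'.range_fromSpec]
      exact hzZ₀
    exact this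
  haveI := heG
  haveI := heH
  haveI := hB
  obtain ⟨r, hr, ψ, hmod⟩ := exists_model_at_prime (R := ↑Γ(pullback p₁ p₂, Z₀)) u
    (hZ₀'.fromSpec ≫ k₀ ≫ j) eG eH y₀
  refine ⟨Localization.Away r, inferInstance,
    Spec.map (CommRingCat.ofHom (algebraMap _ (Localization.Away r))) ≫ hZ₀'.fromSpec,
    inferInstance, ?_, A, B, instA, instB, ψ, ?_⟩
  · obtain ⟨w, hw⟩ := mem_range_away r y₀ hr
    refine ⟨w, ?_⟩
    rw [Scheme.Hom.comp_apply, hw, hy₀]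
  · rw [Category.assoc]
    exact hmod

section Locus

variable (P : MorphismProperty Scheme.{u}) [P.RespectsIso] [P.IsStableUnderBaseChange]
  [IsZariskiLocalAtTarget P] [P.DescendsAlong (@Surjective ⊓ @Flat ⊓ @QuasiCompact)]
  (Q : ∀ {A B : Type} [AddCommGroup A] [AddCommGroup B], (B →+ A) → Prop)
  (H1 : ∀ (T : Scheme.{u}) {A B : Type} [AddCommGroup A] [AddCommGroup B] (ψ : B →+ A)
    (δ : Red.DS T A ⟶ Red.DS T B), (∀ m, dsFn δ (sg m) = chr T (ψ m)) → Q ψ → P δ.left)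
  (H2 : ∀ (k : Type u) [Field k] {A B : Type} [AddCommGroup A] [AddCommGroup B] (ψ : B →+ A)
    (δ : Red.DS (Spec (CommRingCat.of k)) A ⟶ Red.DS (Spec (CommRingCat.of k)) B),
    (∀ m, dsFn δ (sg m) = chr (Spec (CommRingCat.of k)) (ψ m)) → P δ.left → Q ψ)

variable {S : Scheme.{u}} {G H : Over S} [GrpObj G] [GrpObj H] (u : G ⟶ H)

include H1 H2 in
/-- **The locus theorem**, source of arbitrary type. -/
theorem locus' (hG : TwC.Locally S TwC.Topology.fpqc (fun S' g => ∃ (M : Type)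
      (_ : AddCommGroup M), Nonempty (Grp.mk (Red.bc g G) ≅ Grp.mk (Red.DS S' M))))
    (hH : SGA3x.IsMultTypeFT H) [IsMonHom u] :
    ∃ U : S.Opens, IsClosed (U : Set S) ∧
      (∀ s : S, s ∈ U ↔ P ((Over.pullback (S.fromSpecResidueField s)).map u).left) ∧
      P ((Over.pullback U.ι).map u).left := by
  obtain ⟨Us, hUs⟩ : ∃ Us : Set S,
      Us = {s | P ((Over.pullback (S.fromSpecResidueField s)).map u).left} := ⟨_, rfl⟩
  -- clopen on every chart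
  have hchart : ∀ i : S.affineCover.I₀, IsClopen ((S.affineCover.f i) ⁻¹' Us) := by
    intro i
    haveI : IsAffine (S.affineCover.X i) := inferInstanceAs (IsAffine (Spec _))
    obtain ⟨Z, k₀, hfl, hsj, hqc, hmods⟩ := exists_local_models' hG hH u (S.affineCover.f i)
    haveI := hfl
    haveI := hsj
    haveI := hqc
    have hV : IsClopen (k₀ ⁻¹' ((S.affineCover.f i) ⁻¹' Us)) := by
      apply isClopen_of_locally_const
      intro z
      obtain ⟨R, instR, y, hy, hz, A, B, instA, instB, ψ, hmod⟩ := hmods z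
      haveI := hy
      refine ⟨Set.range y, y.isOpenEmbedding.isOpen_range, hz, Q ψ, ?_⟩
      rintro _ ⟨w, rfl⟩
      have := mem_iff_of_isModel P Q H1 H2 u (y ≫ k₀ ≫ S.affineCover.f i) ψ hmod w
      rw [← this, hUs]
      rfl
    have hq := Flat.isQuotientMap_of_surjective k₀
    exact ⟨(hq.isClosed_preimage).1 hV.1, (hq.isOpen_preimage).1 hV.2⟩
  have hopen : IsOpen Us := isOpen_of_cover S.affineCover Us (fun i => (hchart i).2)
  have hclosed : IsClosed Us := by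
    rw [← isOpen_compl_iff]
    refine isOpen_of_cover S.affineCover _ (fun i => ?_)
    rw [Set.preimage_compl, isOpen_compl_iff]
    exact (hchart i).1
  refine ⟨⟨Us, hopen⟩, hclosed, fun s => by show s ∈ Us ↔ _; rw [hUs]; rfl, ?_⟩
  -- the property over `U`
  obtain ⟨U, hU⟩ : ∃ U : S.Opens, U = ⟨Us, hopen⟩ := ⟨_, rfl⟩
  rw [← hU]
  apply OverDescP.of_forall_exists P
  intro x
  obtain ⟨_, ⟨Xa, hXa, rfl⟩, hxXa, -⟩ :=
    (U.toScheme).isBasis_affineOpens.exists_subset_of_mem_open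
      (show x ∈ ((⊤ : U.toScheme.Opens) : Set _) from trivial) (⊤ : U.toScheme.Opens).2
  have hXb : IsAffineOpen Xa := hXa
  refine ⟨Spec Γ(U.toScheme, Xa), hXb.fromSpec, inferInstance, ?_, ?_⟩
  · rw [hXb.range_fromSpec]
    exact hxXa
  rw [OverDescP.bc_comp_iff P hXb.fromSpec U.ι rfl u]
  obtain ⟨j, hj⟩ : ∃ j : Spec Γ(U.toScheme, Xa) ⟶ S, j = hXb.fromSpec ≫ U.ι := ⟨_, rfl⟩
  rw [← hj]
  haveI : IsOpenImmersion j := by rw [hj]; infer_instance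
  obtain ⟨Z, k₀, hfl, hsj, hqc, hmods⟩ := exists_local_models' hG hH u j
  haveI := hfl
  haveI := hsj
  haveI := hqc
  apply OverDescP.of_fpqc P k₀
  rw [OverDescP.bc_comp_iff P k₀ j rfl u]
  apply OverDescP.of_forall_exists P
  intro z
  obtain ⟨R, instR, y, hy, hz, A, B, instA, instB, ψ, hmod⟩ := hmods z
  refine ⟨_, y, hy, hz, ?_⟩
  rw [OverDescP.bc_comp_iff P y (k₀ ≫ j) rfl u]
  obtain ⟨w, hw⟩ := hz
  have hmem : (y ≫ k₀ ≫ j) w ∈ Us := by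
    have h1 : (y ≫ k₀ ≫ j) w = U.ι ((y ≫ k₀ ≫ hXb.fromSpec) w) := by
      rw [hj]
      simp only [Scheme.Hom.comp_apply]
    rw [h1]
    have hUs' : (U : Set S) = Us := by rw [hU]; rfl
    have h2 : U.ι ((y ≫ k₀ ≫ hXb.fromSpec) w) ∈ (U : Set S) :=
      ((y ≫ k₀ ≫ hXb.fromSpec) w).2
    rw [hUs'] at h2
    exact h2
  rw [hUs] at hmem
  have hQ : Q ψ := (mem_iff_of_isModel P Q H1 H2 u (y ≫ k₀ ≫ j) ψ hmod w).1 hmem
  exact hmod.prop P (fun δ hδ => H1 _ ψ δ hδ hQ)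

end Locus

/-- **S19140.** -/
theorem locus_ff' {S : Scheme.{u}} (G H : Over S) [GrpObj G] [GrpObj H]
    (hG : TwC.Locally S TwC.Topology.fpqc (fun S' g => ∃ (M : Type) (_ : AddCommGroup M),
      Nonempty (Grp.mk (Red.bc g G) ≅ Grp.mk (Red.DS S' M))))
    (hH : SGA3x.IsMultTypeFT H) (u : G ⟶ H) [IsMonHom u] :
    ∃ U : S.Opens, IsClosed (U : Set S) ∧
      (∀ s : S, s ∈ U ↔ (Flat ((Over.pullback (S.fromSpecResidueField s)).map u).left ∧
        Surjective ((Over.pullback (S.fromSpecResidueField s)).map u).left)) ∧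
      (Flat ((Over.pullback U.ι).map u).left ∧ Surjective ((Over.pullback U.ι).map u).left) := by
  refine locus' (@Flat ⊓ @Surjective : MorphismProperty Scheme.{u})
    (fun {A B} _ _ ψ => Function.Injective ψ) ?_ ?_ u hG hH
  · intro T A B _ _ ψ δ hδ hQ
    exact ff_of_inj ψ hQ δ hδ
  · intro k _ A B _ _ ψ δ hδ hP
    exact inj_of_ff ψ δ hδ hP

end Groth.Agent.Lib.T2H7.MtLocusH
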