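import Groth.Agent.Lib.T2H7OverDesc

/-!
Descent of a property `P` of the underlying scheme morphism of a morphism of `Over S`, along Zariski
covers and flat surjective quasi-compact morphisms, and compatibility with iterated base change.
-/

set_option autoImplicit false
set_option linter.unusedSectionVars false
set_option linter.unusedVariables false
set_option linter.style.haveILetI false
universe u
open CategoryTheory CategoryTheory.Limits AlgebraicGeometry

namespace Groth.Agent.Lib.T2H7.OverDescP

open Groth.Agent.Lib.T2H7.OverDesc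

variable (P : MorphismProperty Scheme.{u})
variable {S Z : Scheme.{u}} {A B : Over S}

/-- stability under base change. -/
theorem bc [P.IsStableUnderBaseChange] (k : Z ⟶ S) (φ : A ⟶ B) (h : P φ.left) :
    P ((Over.pullback k).map φ).left :=
  P.of_isPullback (isPullback_map k φ).flip h

/-- fpqc descent. -/
theorem of_fpqc [P.DescendsAlong (@Surjective ⊓ @Flat ⊓ @QuasiCompact)]
    (k : Z ⟶ S) [Flat k] [Surjective k] [QuasiCompact k] (φ : A ⟶ B)
    (h : P ((Over.pullback k).map φ).left) : P φ.left := by
  have hQ : (@Surjective ⊓ @Flat ⊓ @QuasiCompact : MorphismProperty Scheme.{u})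
      (pullback.fst B.hom k) :=
    ⟨⟨inferInstance, inferInstance⟩, inferInstance⟩
  exact MorphismProperty.of_isPullback_of_descendsAlong (P := P) (isPullback_map k φ) hQ h

/-- Zariski descent. -/
theorem of_openCover [IsZariskiLocalAtTarget P] (𝒰 : S.OpenCover) (φ : A ⟶ B)
    (h : ∀ i, P ((Over.pullback (𝒰.f i)).map φ).left) : P φ.left := by
  rw [IsZariskiLocalAtTarget.iff_of_openCover (P := P) (𝒰.pullback₁ B.hom)]
  intro (i : 𝒰.I₀)
  have hsq' : IsPullback (pullback.fst A.hom (𝒰.f i)) ((Over.pullback (𝒰.f i)).map φ).left φ.left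
      (pullback.fst B.hom (𝒰.f i)) := (isPullback_map (𝒰.f i) φ).flip
  show P (pullback.snd φ.left (pullback.fst B.hom (𝒰.f i)))
  have : pullback.snd φ.left (pullback.fst B.hom (𝒰.f i)) =
      hsq'.isoPullback.inv ≫ ((Over.pullback (𝒰.f i)).map φ).left :=
    hsq'.isoPullback_inv_snd.symm
  rw [this, P.cancel_left_of_respectsIso]
  exact h i

/-- Pointwise form of Zariski descent. -/
theorem of_forall_exists [IsZariskiLocalAtTarget P] (φ : A ⟶ B)
    (h : ∀ x : S, ∃ (U : Scheme.{u}) (j : U ⟶ S), IsOpenImmersion j ∧ x ∈ Set.range j ∧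
      P ((Over.pullback j).map φ).left) : P φ.left := by
  choose U j hj hx hP using h
  let 𝒰 : S.OpenCover := Scheme.Cover.mkOfCovers S U j (fun x => by
    obtain ⟨y, hy⟩ := hx x
    exact ⟨x, y, hy⟩) hj
  exact of_openCover P 𝒰 φ hP

/-- Compatibility with iterated base change. -/
theorem bc_comp_iff [P.RespectsIso] {S' S'' : Scheme.{u}} (p : S'' ⟶ S') (q : S' ⟶ S)
    {d : S'' ⟶ S} (hd : p ≫ q = d) (φ : A ⟶ B) :
    P ((Over.pullback p).map ((Over.pullback q).map φ)).left ↔
      P ((Over.pullback d).map φ).left := by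
  have hnat := congrArg (fun k => k.left) (ActBC.bcCompIso_hom_naturality p q hd φ)
  simp only [Over.comp_left] at hnat
  haveI : IsIso (ActBC.bcCompIso p q A hd).hom.left :=
    inferInstanceAs (IsIso ((Over.forget _).map (ActBC.bcCompIso p q A hd).hom))
  haveI : IsIso (ActBC.bcCompIso p q B hd).hom.left :=
    inferInstanceAs (IsIso ((Over.forget _).map (ActBC.bcCompIso p q B hd).hom))
  rw [← P.cancel_right_of_respectsIso _ (ActBC.bcCompIso p q B hd).hom.left, hnat,
    P.cancel_left_of_respectsIso]

end Groth.Agent.Lib.T2H7.OverDescP
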