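import Groth.Agent.Lib.T2H7ToriMonoB
import Groth.Agent.Lib.T2H7OverDescP

/-!
Local models of homomorphisms between groups of multiplicative type: `u` becomes, after a base
change `g`, the homomorphism `D(ψ) : D(A) ⟶ D(B)` attached to `ψ : B →+ A`.
-/

set_option autoImplicit false
set_option linter.unusedSectionVars false
set_option linter.unusedVariables false
set_option linter.style.haveILetI false
universe u
open CategoryTheory CategoryTheory.Limits MonoidalCategory CartesianMonoidalCategory MonObj GrpObj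
  AlgebraicGeometry

namespace Groth.Agent.Lib.T2H7.MtModel

open Groth.Agent.Lib.T2H3.MultGa Groth.Agent.Lib.Helper27.GaGm
  Groth.Agent.Lib.T2H7.DiagDS Groth.Agent.Lib.T2H7.DiagHomA Groth.Agent.Lib.T2H7.DiagHomB
  Groth.Agent.Lib.T2H7.GrpIsoBC

section Transport

variable {T T' : Scheme.{u}} (p : T' ⟶ T) (M N : Type) [AddCommGroup M] [AddCommGroup N]

/-- the canonical identification of the base change of `D_T(M)` with `D_{T'}(M)`. -/
noncomputable def cIso : Red.bc p (Red.DS T M) ≅ Red.DS T' M :=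
  ActBC.bcCompIso p _ (Red.diag (ULift.{u} ℤ) M) (specULiftZIsTerminal.hom_ext _ _)

instance : IsMonHom (cIso p M).hom := by
  unfold cIso
  infer_instance

theorem dsFn_cIso (m : M) :
    dsFn (cIso p M).hom (sg m) = (pullback.fst (Red.DS T M).hom p).appTop (chr T m) := by
  unfold chr
  rw [dsFn_eq, dsFn_eq, ← fn_comp]
  congr 1
  unfold dsPt cIso
  have h := ActBC.bcCompIso_hom_left_fst p (specULiftZIsTerminal.from T)
    (Red.diag (ULift.{u} ℤ) M)
    (specULiftZIsTerminal.hom_ext _ _ : p ≫ _ = specULiftZIsTerminal.from T')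
  refine h.trans ?_
  congr 1

variable {M N}

/-- the base change of `D_T(ψ)` is `D_{T'}(ψ)`. -/
theorem dsFn_bc (ψ : M →+ N) (δ : Red.DS T N ⟶ Red.DS T M)
    (hδ : ∀ m, dsFn δ (sg m) = chr T (ψ m)) (m : M) :
    dsFn ((cIso p N).inv ≫ (Over.pullback p).map δ ≫ (cIso p M).hom) (sg m) = chr T' (ψ m) := by
  rw [← Category.assoc, dsFn_comp, dsFn_cIso, Over.comp_left, Scheme.Hom.comp_appTop]
  show (cIso p N).inv.left.appTop (((Over.pullback p).map δ).left.appTop
    ((pullback.fst (Red.DS T M).hom p).appTop (chr T m))) = _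
  have h1 : ((Over.pullback p).map δ).left.appTop
      ((pullback.fst (Red.DS T M).hom p).appTop (chr T m)) =
      (pullback.fst (Red.DS T N).hom p).appTop (chr T (ψ m)) := by
    have := ActBC.pullback_map_left_fst p δ
    have h2 := congrArg (fun k => k.appTop (chr T m)) this
    simp only [Scheme.Hom.comp_appTop] at h2
    rw [← hδ m, dsFn_sg]
    exact h2
  rw [h1, ← dsFn_cIso, ← dsFn_comp, Iso.inv_hom_id]
  rfl

end Transport

section Model

variable {S : Scheme.{u}} {G H : Over S} [GrpObj G] [GrpObj H] (u : G ⟶ H)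

/-- `u` is modelled, after the base change `g`, by `D(ψ)`. -/
def IsModel {Z : Scheme.{u}} (g : Z ⟶ S) {A B : Type} [AddCommGroup A] [AddCommGroup B]
    (ψ : B →+ A) : Prop :=
  ∃ (eG : Red.bc g G ≅ Red.DS Z A) (eH : Red.bc g H ≅ Red.DS Z B)
    (δ : Red.DS Z A ⟶ Red.DS Z B),
    (∀ m, dsFn δ (sg m) = chr Z (ψ m)) ∧ (Over.pullback g).map u = eG.hom ≫ δ ≫ eH.inv

variable {u}

theorem isModel_comp {Z Z' : Scheme.{u}} (g : Z ⟶ S) (p : Z' ⟶ Z) {d : Z' ⟶ S}
    (hd : p ≫ g = d) {A B : Type} [AddCommGroup A] [AddCommGroup B] (ψ : B →+ A)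
    (eG : Red.bc g G ≅ Red.DS Z A) (eH : Red.bc g H ≅ Red.DS Z B)
    (δ : Red.DS Z A ⟶ Red.DS Z B) (hδ : ∀ m, dsFn δ (sg m) = chr Z (ψ m))
    (hp : (Over.pullback p).map (eG.inv ≫ (Over.pullback g).map u ≫ eH.hom) =
      (Over.pullback p).map δ) : IsModel u d ψ := by
  refine ⟨(ActBC.bcCompIso p g G hd).symm ≪≫ (Over.pullback p).mapIso eG ≪≫ cIso p A,
    (ActBC.bcCompIso p g H hd).symm ≪≫ (Over.pullback p).mapIso eH ≪≫ cIso p B,
    (cIso p A).inv ≫ (Over.pullback p).map δ ≫ (cIso p B).hom, dsFn_bc p ψ δ hδ, ?_⟩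
  have hnat := ActBC.bcCompIso_hom_naturality p g hd u
  have h1 : (Over.pullback d).map u = (ActBC.bcCompIso p g G hd).inv ≫
      (Over.pullback p).map ((Over.pullback g).map u) ≫ (ActBC.bcCompIso p g H hd).hom := by
    rw [hnat, Iso.inv_hom_id_assoc]
  rw [h1, ← hp]
  simp only [Iso.trans_hom, Iso.trans_inv, Iso.symm_hom, Iso.symm_inv, Functor.mapIso_hom,
    Functor.mapIso_inv, Functor.map_comp, Category.assoc, Iso.hom_inv_id_assoc,
    Iso.inv_hom_id_assoc]
  have e1 : (Over.pullback p).map eH.hom ≫ (Over.pullback p).map eH.inv = 𝟙 _ := by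
    rw [← CategoryTheory.Functor.map_comp, Iso.hom_inv_id, CategoryTheory.Functor.map_id]
  have e2 : (Over.pullback p).map eG.hom ≫ (Over.pullback p).map eG.inv = 𝟙 _ := by
    rw [← CategoryTheory.Functor.map_comp, Iso.hom_inv_id, CategoryTheory.Functor.map_id]
  rw [reassoc_of% e2, reassoc_of% e1]

theorem IsModel.comp {Z Z' : Scheme.{u}} {g : Z ⟶ S} {A B : Type} [AddCommGroup A]
    [AddCommGroup B] {ψ : B →+ A} (h : IsModel u g ψ) (p : Z' ⟶ Z) {d : Z' ⟶ S}
    (hd : p ≫ g = d) : IsModel u d ψ := by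
  obtain ⟨eG, eH, δ, hδ, he⟩ := h
  refine isModel_comp g p hd ψ eG eH δ hδ ?_
  rw [he]
  simp

theorem IsModel.prop {Z : Scheme.{u}} {g : Z ⟶ S} {A B : Type} [AddCommGroup A]
    [AddCommGroup B] {ψ : B →+ A} (h : IsModel u g ψ) (P : MorphismProperty Scheme.{u})
    [P.RespectsIso]
    (hP : ∀ δ : Red.DS Z A ⟶ Red.DS Z B, (∀ m, dsFn δ (sg m) = chr Z (ψ m)) → P δ.left) :
    P ((Over.pullback g).map u).left := by
  obtain ⟨eG, eH, δ, hδ, he⟩ := h
  rw [he, Over.comp_left, Over.comp_left]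
  haveI : IsIso eG.hom.left := inferInstanceAs (IsIso ((Over.forget _).map eG.hom))
  haveI : IsIso eH.inv.left := inferInstanceAs (IsIso ((Over.forget _).map eH.inv))
  rw [P.cancel_left_of_respectsIso, P.cancel_right_of_respectsIso]
  exact hP δ hδ

theorem IsModel.of_prop {Z : Scheme.{u}} {g : Z ⟶ S} {A B : Type} [AddCommGroup A]
    [AddCommGroup B] {ψ : B →+ A} (h : IsModel u g ψ) (P : MorphismProperty Scheme.{u})
    [P.RespectsIso] (hP : P ((Over.pullback g).map u).left) :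
    ∃ δ : Red.DS Z A ⟶ Red.DS Z B, (∀ m, dsFn δ (sg m) = chr Z (ψ m)) ∧ P δ.left := by
  obtain ⟨eG, eH, δ, hδ, he⟩ := h
  refine ⟨δ, hδ, ?_⟩
  rw [he, Over.comp_left, Over.comp_left] at hP
  haveI : IsIso eG.hom.left := inferInstanceAs (IsIso ((Over.forget _).map eG.hom))
  haveI : IsIso eH.inv.left := inferInstanceAs (IsIso ((Over.forget _).map eH.inv))
  rwa [P.cancel_left_of_respectsIso, P.cancel_right_of_respectsIso] at hP

end Model

end Groth.Agent.Lib.T2H7.MtModel
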