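import Groth.Agent.Lib.T2H7MtModel

/-!
Local models of homomorphisms between split groups of multiplicative type over an affine base:
Zariski-locally around every prime the homomorphism is `D(ψ)`.
-/

set_option autoImplicit false
set_option linter.unusedSectionVars false
set_option linter.unusedVariables false
set_option linter.style.haveILetI false
universe u
open CategoryTheory CategoryTheory.Limits MonoidalCategory CartesianMonoidalCategory MonObj GrpObj
  AlgebraicGeometry

namespace Groth.Agent.Lib.T2H7.MtModel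

open Groth.Agent.Lib.T2H3.MultGa Groth.Agent.Lib.Helper27.GaGm
  Groth.Agent.Lib.T2H7.DiagDS Groth.Agent.Lib.T2H7.DiagHomA Groth.Agent.Lib.T2H7.DiagHomB
  Groth.Agent.Lib.T2H7.DiagHomC Groth.Agent.Lib.T2H7.DiagHomD Groth.Agent.Lib.T2H7.DiagHomE
  Groth.Agent.Lib.T2H7.GrpIsoBC

variable {R : Type u} [CommRing R] {M N : Type} [AddCommGroup M] [AddCommGroup N]

/-- two homomorphisms which agree on all points over the locus where `g` is invertible have the
same base change to `Spec R[1/g]`. -/
theorem bc_eq_of_agree (g : R)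
    (φ δ : Red.DS (Spec (CommRingCat.of R)) N ⟶ Red.DS (Spec (CommRingCat.of R)) M)
    (hagree : ∀ (Y : Over (Spec (CommRingCat.of R))), IsUnit (Y.hom.appTop (toG g)) →
      ∀ x : Y ⟶ Red.DS (Spec (CommRingCat.of R)) N, x ≫ φ = x ≫ δ) :
    (Over.pullback (Spec.map (CommRingCat.ofHom (algebraMap R (Localization.Away g))))).map φ =
      (Over.pullback (Spec.map (CommRingCat.ofHom (algebraMap R (Localization.Away g))))).map δ := by
  obtain ⟨i, hi⟩ : ∃ i : Spec (CommRingCat.of (Localization.Away g)) ⟶ Spec (CommRingCat.of R),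
      i = Spec.map (CommRingCat.ofHom (algebraMap R (Localization.Away g))) := ⟨_, rfl⟩
  rw [← hi]
  let Y : Over (Spec (CommRingCat.of R)) :=
    Over.mk (pullback.snd (Red.DS (Spec (CommRingCat.of R)) N).hom i ≫ i)
  let xx : Y ⟶ Red.DS (Spec (CommRingCat.of R)) N :=
    Over.homMk (pullback.fst (Red.DS (Spec (CommRingCat.of R)) N).hom i) pullback.condition
  have hY : IsUnit (Y.hom.appTop (toG g)) := by
    show IsUnit ((pullback.snd (Red.DS (Spec (CommRingCat.of R)) N).hom i ≫ i).appTop (toG g))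
    rw [Scheme.Hom.comp_appTop]
    show IsUnit ((pullback.snd (Red.DS (Spec (CommRingCat.of R)) N).hom i).appTop
      (i.appTop (toG g)))
    apply IsUnit.map
    have h1 : i.appTop (toG g) = toG (algebraMap R (Localization.Away g) g) := by
      rw [hi]
      unfold toG
      have := Scheme.ΓSpecIso_inv_naturality (CommRingCat.ofHom (algebraMap R (Localization.Away g)))
      exact (congrArg (fun k => k.hom g) this).symm
    rw [h1]
    unfold toG
    apply IsUnit.map
    exact IsLocalization.Away.algebraMap_isUnit g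
  have h := congrArg (fun k => k.left) (hagree Y hY xx)
  simp only [Over.comp_left] at h
  have h' : pullback.fst (Red.DS (Spec (CommRingCat.of R)) N).hom i ≫ φ.left =
      pullback.fst (Red.DS (Spec (CommRingCat.of R)) N).hom i ≫ δ.left := h
  ext
  apply pullback.hom_ext
  · rw [ActBC.pullback_map_left_fst, ActBC.pullback_map_left_fst, h']
  · exact (Over.w _).trans (Over.w _).symm

/-- **Local model at a prime.** -/
theorem exists_model_at_prime {S : Scheme.{u}} {G H : Over S} [GrpObj G] [GrpObj H] (u : G ⟶ H)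
    [IsMonHom u] (g₀ : Spec (CommRingCat.of R) ⟶ S) {A B : Type} [AddCommGroup A]
    [AddCommGroup B] [AddGroup.FG B]
    (eG : Red.bc g₀ G ≅ Red.DS (Spec (CommRingCat.of R)) A) [IsMonHom eG.hom]
    (eH : Red.bc g₀ H ≅ Red.DS (Spec (CommRingCat.of R)) B) [IsMonHom eH.hom]
    (x : Spec (CommRingCat.of R)) :
    ∃ r : R, r ∉ x.asIdeal ∧ ∃ ψ : B →+ A,
      IsModel u (Spec.map (CommRingCat.ofHom (algebraMap R (Localization.Away r))) ≫ g₀) ψ := by
  obtain ⟨φ, hφ⟩ : ∃ φ : Red.DS (Spec (CommRingCat.of R)) A ⟶ Red.DS (Spec (CommRingCat.of R)) B,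
      φ = eG.inv ≫ (Over.pullback g₀).map u ≫ eH.hom := ⟨_, rfl⟩
  haveI : IsMonHom φ := by rw [hφ]; infer_instance
  obtain ⟨a, haiso, hamon, ha1⟩ := exists_iso R A
  haveI := haiso
  haveI := hamon
  obtain ⟨c, hgl, hc0, hcadd, hc⟩ := exists_family a φ
  haveI : x.asIdeal.IsPrime := x.isPrime
  obtain ⟨ψ, hψ⟩ := exists_addHom_prime c hgl hcadd x.asIdeal
  obtain ⟨g, hgp, hgg, hg⟩ := exists_idem_smul c hgl hc0 hcadd x.asIdeal ψ hψ
  obtain ⟨δ, hδmon, hδ⟩ := exists_dsHom (T := Spec (CommRingCat.of R)) ψ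
  refine ⟨g, hgp, ψ, isModel_comp g₀ _ rfl ψ eG eH δ hδ ?_⟩
  rw [← hφ]
  exact bc_eq_of_agree g φ δ
    (fun Y hY xx => comp_eq_of_isUnit a ha1 φ δ c hc ψ hδ g hg Y hY xx)

end Groth.Agent.Lib.T2H7.MtModel
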