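import Groth.Agent.Lib.T2H7MtModelB

/-!
Local structure of a homomorphism between groups of multiplicative type and of finite type: over
every affine open there is an fpqc covering on which the homomorphism is Zariski-locally `D(ψ)`.
-/

set_option autoImplicit false
set_option linter.unusedSectionVars false
set_option linter.unusedVariables false
set_option linter.style.haveILetI false
universe u
open CategoryTheory CategoryTheory.Limits MonoidalCategory CartesianMonoidalCategory MonObj GrpObj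
  AlgebraicGeometry

namespace Groth.Agent.Lib.T2H7.MtModel

open Groth.Agent.Lib.T2H3.MultGa Groth.Agent.Lib.Helper27.GaGm
  Groth.Agent.Lib.T2H7.DiagDS Groth.Agent.Lib.T2H7.DiagHomA Groth.Agent.Lib.T2H7.DiagHomB
  Groth.Agent.Lib.T2H7.GrpIsoBC Groth.Agent.Lib.T2H7.ToriMono

theorem local_split' {S S₁ Z : Scheme.{u}} (f₁ : S₁ ⟶ S) (T : Over S) [GrpObj T]
    (hloc : ∀ s' : S₁, ∃ U : S₁.Opens, s' ∈ U ∧ ∃ (M : Type) (_ : AddCommGroup M), AddGroup.FG M ∧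
      Nonempty (Grp.mk (Red.bc (U.ι ≫ f₁) T) ≅ Grp.mk (Red.DS (U : Scheme.{u}) M)))
    (k : Z ⟶ S) (h : Z ⟶ S₁) (hk : h ≫ f₁ = k) (z : Z) :
    ∃ O : Z.Opens, z ∈ O ∧ ∃ (M : Type) (_ : AddCommGroup M), AddGroup.FG M ∧
      ∀ (Y : Scheme.{u}) (y : Y ⟶ Z), Set.range y ⊆ (O : Set Z) →
        Nonempty (Grp.mk (Red.bc (y ≫ k) T) ≅ Grp.mk (Red.DS Y M)) := by
  obtain ⟨U, hzU, M, instM, hFG, hs⟩ := hloc (h z)
  refine ⟨h ⁻¹ᵁ U, hzU, M, instM, hFG, ?_⟩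
  intro Y y hy
  have hr : Set.range (y ≫ h) ⊆ Set.range U.ι := by
    rintro _ ⟨w, rfl⟩
    rw [Scheme.Opens.range_ι]
    exact hy ⟨w, rfl⟩
  refine split_of_comp (IsOpenImmersion.lift U.ι (y ≫ h) hr) (U.ι ≫ f₁) ?_ T _ hs
  rw [← Category.assoc, IsOpenImmersion.lift_fac, Category.assoc, hk]

theorem mem_range_away {R : Type u} [CommRing R] (r : R) (x : Spec (CommRingCat.of R))
    (hx : r ∉ x.asIdeal) :
    x ∈ Set.range (Spec.map (CommRingCat.ofHom (algebraMap R (Localization.Away r)))) := by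
  have h := PrimeSpectrum.localization_away_comap_range (Localization.Away r) r
  have hx' : x ∈ (PrimeSpectrum.basicOpen r : Set (PrimeSpectrum R)) := hx
  rw [← h] at hx'
  exact hx'

/-- **Local structure theorem.** -/
theorem exists_local_models {S : Scheme.{u}} {G H : Over S} [GrpObj G] [GrpObj H]
    (hG : SGA3x.IsMultTypeFT G) (hH : SGA3x.IsMultTypeFT H) (u : G ⟶ H) [IsMonHom u]
    {X : Scheme.{u}} (j : X ⟶ S) [IsOpenImmersion j] [IsAffine X] :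
    ∃ (Z : Scheme.{u}) (k₀ : Z ⟶ X), Flat k₀ ∧ Surjective k₀ ∧ QuasiCompact k₀ ∧
      ∀ z : Z, ∃ (R : Type u) (_ : CommRing R) (y : Spec (CommRingCat.of R) ⟶ Z),
        IsOpenImmersion y ∧ z ∈ Set.range y ∧
        ∃ (A B : Type) (_ : AddCommGroup A) (_ : AddCommGroup B) (ψ : B →+ A),
          IsModel u (y ≫ k₀ ≫ j) ψ := by
  obtain ⟨S₁, f₁, hfl₁, hsj₁, hcov₁, hloc₁⟩ := hG
  obtain ⟨S₂, f₂, hfl₂, hsj₂, hcov₂, hloc₂⟩ := hH
  have hV : IsAffineOpen j.opensRange := isAffineOpen_opensRange j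
  obtain ⟨W₁, hW₁c, hW₁i⟩ := hcov₁ _ hV
  obtain ⟨W₂, hW₂c, hW₂i⟩ := hcov₂ _ hV
  obtain ⟨p₁, hp₁, hp₁f, hp₁s, hp₁q⟩ := cover_piece j f₁ W₁ hW₁c hW₁i
  obtain ⟨p₂, hp₂, hp₂f, hp₂s, hp₂q⟩ := cover_piece j f₂ W₂ hW₂c hW₂i
  obtain ⟨k₀, hk₀⟩ : ∃ k₀ : pullback p₁ p₂ ⟶ X, k₀ = pullback.fst p₁ p₂ ≫ p₁ := ⟨_, rfl⟩
  refine ⟨pullback p₁ p₂, k₀, by rw [hk₀]; infer_instance, by rw [hk₀]; infer_instance,
    by rw [hk₀]; infer_instance, ?_⟩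
  intro z
  have hk₁ : (pullback.fst p₁ p₂ ≫ W₁.ι) ≫ f₁ = k₀ ≫ j := by
    rw [hk₀, Category.assoc, Category.assoc, hp₁]
  have hk₂ : (pullback.snd p₁ p₂ ≫ W₂.ι) ≫ f₂ = k₀ ≫ j := by
    rw [hk₀, pullback.condition, Category.assoc, Category.assoc, hp₂]
  obtain ⟨O₁, hzO₁, A, instA, hA, hs₁⟩ := local_split' f₁ G hloc₁ (k₀ ≫ j) _ hk₁ z
  obtain ⟨O₂, hzO₂, B, instB, hB, hs₂⟩ := local_split' f₂ H hloc₂ (k₀ ≫ j) _ hk₂ z
  obtain ⟨_, ⟨Z₀, hZ₀, rfl⟩, hzZ₀, hZ₀O⟩ :=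
    (pullback p₁ p₂).isBasis_affineOpens.exists_subset_of_mem_open
      (show z ∈ ((O₁ ⊓ O₂ : (pullback p₁ p₂).Opens) : Set _) from ⟨hzO₁, hzO₂⟩) (O₁ ⊓ O₂).2
  have hZ₀' : IsAffineOpen Z₀ := hZ₀
  have hrange₁ : Set.range hZ₀'.fromSpec ⊆ (O₁ : Set _) := by
    rw [hZ₀'.range_fromSpec]
    exact fun x hx => (hZ₀O hx).1
  have hrange₂ : Set.range hZ₀'.fromSpec ⊆ (O₂ : Set _) := by
    rw [hZ₀'.range_fromSpec]
    exact fun x hx => (hZ₀O hx).2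
  obtain ⟨eG, heG⟩ := (nonempty_grpIso_iff _ _).1 (hs₁ _ hZ₀'.fromSpec hrange₁)
  obtain ⟨eH, heH⟩ := (nonempty_grpIso_iff _ _).1 (hs₂ _ hZ₀'.fromSpec hrange₂)
  obtain ⟨y₀, hy₀⟩ : ∃ y, hZ₀'.fromSpec y = z := by
    have : z ∈ Set.range hZ₀'.fromSpec := by
      rw [hZ₀'.range_fromSpec]
      exact hzZ₀
    exact this
  haveI := heG
  haveI := heH
  haveI := hB
  obtain ⟨r, hr, ψ, hmod⟩ := exists_model_at_prime (R := ↑Γ(pullback p₁ p₂, Z₀)) u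
    (hZ₀'.fromSpec ≫ k₀ ≫ j) eG eH y₀
  refine ⟨Localization.Away r, inferInstance,
    Spec.map (CommRingCat.ofHom (algebraMap _ (Localization.Away r))) ≫ hZ₀'.fromSpec,
    inferInstance, ?_, A, B, instA, instB, ψ, ?_⟩
  · obtain ⟨w, hw⟩ := mem_range_away r y₀ hr
    refine ⟨w, ?_⟩
    rw [Scheme.Hom.comp_apply, hw, hy₀]
  · rw [Category.assoc]
    exact hmod

end Groth.Agent.Lib.T2H7.MtModel
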