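import Mathlib

/-!
Algebra core for: an action of a diagonalisable group which is trivial modulo a nilpotent ideal is
trivial.  A "coaction" `ρ : A → A[G]` which is counital, coassociative and congruent to the trivial
coaction modulo a nilpotent ideal coming from the base is the trivial coaction.
-/

set_option autoImplicit false
set_option linter.unusedSectionVars false
set_option linter.unusedVariables false
set_option linter.style.haveILetI false
universe u v

namespace Groth.Agent.Lib.T2H7.MultActAlg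

open MonoidAlgebra

variable {A : Type u} [CommRing A] {G : Type v} [CommGroup G]

/-- the diagonal `A[G] → A[G × G]`. -/
noncomputable def δ : MonoidAlgebra A G →+* MonoidAlgebra A (G × G) :=
  mapDomainRingHom A (MonoidHom.prod (MonoidHom.id G) (MonoidHom.id G))

/-- the inclusions `A[G] → A[G × G]`. -/
noncomputable def ι₁ : MonoidAlgebra A G →+* MonoidAlgebra A (G × G) :=
  mapDomainRingHom A (MonoidHom.inl G G)

noncomputable def ι₂ : MonoidAlgebra A G →+* MonoidAlgebra A (G × G) :=
  mapDomainRingHom A (MonoidHom.inr G G)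

/-- the monoid hom `g ↦ (g, 1)` into `A[G × G]`. -/
noncomputable def ofL : G →* MonoidAlgebra A (G × G) :=
  (MonoidAlgebra.of A (G × G)).comp (MonoidHom.inl G G)

/-- the extension of a ring hom `A → C` and a monoid hom `G → C` to `A[G]`. -/
noncomputable def ext {C : Type*} [CommRing C] (ζ : A →+* C) (χ : G →* C) :
    MonoidAlgebra A G →+* C :=
  liftNCRingHom ζ χ (fun _ _ => Commute.all _ _)

@[simp] theorem ext_single {C : Type*} [CommRing C] (ζ : A →+* C) (χ : G →* C) (g : G) (a : A) :
    ext ζ χ (single g a) = ζ a * χ g := liftNCRingHom_single _ _ _ _ _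

/-- the "twisted" map `γ_ρ : A[G] → A[G × G]`, `a·g ↦ ι₂(ρ a)·(g,1)`. -/
noncomputable def γ (ρ : A →+* MonoidAlgebra A G) : MonoidAlgebra A G →+* MonoidAlgebra A (G × G) :=
  ext (ι₂.comp ρ) ofL

/-- the augmentation. -/
noncomputable def aug : MonoidAlgebra A G →+* A := ext (RingHom.id A) 1

theorem coeff_δ_self (f : MonoidAlgebra A G) (g : G) : (δ f).coeff (g, g) = f.coeff g := by
  have hd : Function.Injective (MonoidHom.prod (MonoidHom.id G) (MonoidHom.id G)) := by
    intro x y hxy
    exact congrArg Prod.fst hxy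
  unfold δ
  rw [mapDomainRingHom_apply, coeff_mapDomain]
  exact Finsupp.mapDomain_apply hd f.coeff g

theorem coeff_δ_ne (f : MonoidAlgebra A G) {g h : G} (hgh : g ≠ h) : (δ f).coeff (g, h) = 0 := by
  unfold δ
  rw [mapDomainRingHom_apply, coeff_mapDomain]
  apply Finsupp.mapDomain_of_notMem_range
  rintro ⟨x, hx⟩
  exact hgh ((congrArg Prod.fst hx).symm.trans (congrArg Prod.snd hx))

theorem coeff_ι₂_one (f : MonoidAlgebra A G) (h : G) : (ι₂ f).coeff (1, h) = f.coeff h := by
  have h2 : Function.Injective (MonoidHom.inr G G) := fun x y hxy => congrArg Prod.snd hxy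
  unfold ι₂
  rw [mapDomainRingHom_apply, coeff_mapDomain]
  exact Finsupp.mapDomain_apply h2 f.coeff h

theorem coeff_ι₂_ne (f : MonoidAlgebra A G) {g : G} (hg : g ≠ 1) (h : G) :
    (ι₂ f).coeff (g, h) = 0 := by
  unfold ι₂
  rw [mapDomainRingHom_apply, coeff_mapDomain]
  apply Finsupp.mapDomain_of_notMem_range
  rintro ⟨x, hx⟩
  exact hg (congrArg Prod.fst hx).symm

theorem coeff_γ (ρ : A →+* MonoidAlgebra A G) (f : MonoidAlgebra A G) (g h : G) :
    (γ ρ f).coeff (g, h) = (ρ (f.coeff g)).coeff h := by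
  classical
  induction f using MonoidAlgebra.induction_linear with
  | zero => simp
  | add x y hx hy =>
    rw [map_add, coeff_add, Finsupp.add_apply, hx, hy, coeff_add, Finsupp.add_apply, map_add,
      coeff_add, Finsupp.add_apply]
  | single m r =>
    unfold γ
    rw [ext_single]
    show ((ι₂.comp ρ) r * single (m, 1) 1).coeff (g, h) = _
    rw [coeff_mul_single_apply, _root_.mul_one, RingHom.comp_apply, Prod.inv_mk, Prod.mk_mul_mk,
      inv_one, _root_.mul_one, coeff_single, Finsupp.single_apply]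
    by_cases hgm : m = g
    · subst hgm
      rw [if_pos rfl, mul_inv_cancel, coeff_ι₂_one]
    · rw [if_neg hgm, coeff_ι₂_ne, map_zero, coeff_zero, Finsupp.zero_apply]
      intro h1
      exact hgm (mul_inv_eq_one.1 h1).symm

/-- **Algebra core.** A counital coassociative coaction of `A[G]` on `A` (over `R'`) which is
trivial modulo a nilpotent ideal of `R'` is trivial. -/
theorem coaction_trivial {R' : Type*} [CommRing R'] (st : R' →+* A) (𝔦 : Ideal R')
    (h𝔦 : IsNilpotent 𝔦) (ρ : A →+* MonoidAlgebra A G)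
    (Hst : ∀ r, ρ (st r) = single 1 (st r))
    (Hunit : ∀ a, aug (ρ a) = a)
    (Hassoc : ∀ a, δ (ρ a) = γ ρ (ρ a))
    (Htriv : ∀ (a : A) (g : G), g ≠ 1 → (ρ a).coeff g ∈ Ideal.map st 𝔦) (a : A) :
    ρ a = single 1 a := by
  classical
  have hlin : ∀ (r : R') (a : A) (g : G),
      (ρ (st r * a)).coeff g = st r * (ρ a).coeff g := by
    intro r a g
    rw [map_mul, Hst, coeff_single_one_mul]
  have hidem : ∀ (a : A) (g : G), (ρ ((ρ a).coeff g)).coeff g = (ρ a).coeff g := by
    intro a g
    have h1 := congrArg (fun z => z.coeff (g, g)) (Hassoc a)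
    simp only [coeff_δ_self, coeff_γ] at h1
    exact h1.symm
  have hpow : ∀ (g : G), g ≠ 1 → ∀ (k : ℕ) (a : A),
      (ρ a).coeff g ∈ (Ideal.map st 𝔦) ^ k := by
    intro g hg k
    induction k with
    | zero =>
      intro a
      rw [pow_zero, Ideal.one_eq_top]
      trivial
    | succ k ih =>
      intro a
      rw [← hidem a g]
      have hb : (ρ a).coeff g ∈ Ideal.map st (𝔦 ^ k) := by
        rw [Ideal.map_pow]
        exact ih a
      have hQ : ∀ b ∈ Ideal.map st (𝔦 ^ k), ∀ c : A,
          (ρ (c * b)).coeff g ∈ (Ideal.map st 𝔦) ^ (k + 1) := by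
        intro b hb
        refine Submodule.span_induction ?_ ?_ ?_ ?_ hb
        · rintro _ ⟨r, hr, rfl⟩ c
          rw [mul_comm, hlin, pow_succ]
          refine Ideal.mul_mem_mul ?_ (Htriv c g hg)
          rw [← Ideal.map_pow]
          exact Ideal.mem_map_of_mem _ hr
        · intro c
          simp
        · intro b₁ b₂ _ _ h₁ h₂ c
          rw [mul_add, map_add, coeff_add, Finsupp.add_apply]
          exact Ideal.add_mem _ (h₁ c) (h₂ c)
        · intro c' b _ h c
          rw [smul_eq_mul, ← mul_assoc]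
          exact h (c * c')
      have := hQ _ hb 1
      rwa [one_mul] at this
  have hzero : ∀ (g : G), g ≠ 1 → (ρ a).coeff g = 0 := by
    intro g hg
    obtain ⟨N, hN⟩ := h𝔦
    have h1 := hpow g hg N a
    rw [← Ideal.map_pow, hN, Ideal.zero_eq_bot, Ideal.map_bot] at h1
    exact h1
  have hρ : ρ a = single 1 ((ρ a).coeff 1) := by
    apply coeff_injective
    ext g
    rw [coeff_single, Finsupp.single_apply]
    by_cases hg : g = 1
    · subst hg
      rw [if_pos rfl]
    · rw [if_neg (Ne.symm hg), hzero g hg]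
  have h2 := Hunit a
  rw [hρ] at h2
  unfold aug at h2
  rw [ext_single, RingHom.id_apply, MonoidHom.one_apply, mul_one] at h2
  rw [hρ, h2]

theorem coeff_mem_of_mem_map (𝔫 : Ideal A) (f : MonoidAlgebra A G)
    (hf : f ∈ Ideal.map (singleOneRingHom : A →+* MonoidAlgebra A G) 𝔫) (g : G) :
    f.coeff g ∈ 𝔫 := by
  have hQ : ∀ (c : MonoidAlgebra A G) (g : G), (c * f).coeff g ∈ 𝔫 := by
    refine Submodule.span_induction ?_ ?_ ?_ ?_ hf
    · rintro _ ⟨n, hn, rfl⟩ c g
      show (c * single 1 n).coeff g ∈ 𝔫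
      rw [coeff_mul_single_one]
      exact Ideal.mul_mem_left _ _ hn
    · intro c g
      simp
    · intro b₁ b₂ _ _ h₁ h₂ c g
      rw [mul_add, coeff_add, Finsupp.add_apply]
      exact Ideal.add_mem _ (h₁ c g) (h₂ c g)
    · intro c' b _ h c g
      rw [smul_eq_mul, ← mul_assoc]
      exact h (c * c') g
  have := hQ 1 g
  rwa [one_mul] at this

theorem coeff_mem_of_sub_mem {R' : Type*} [CommRing R'] (st : R' →+* A) (𝔦 : Ideal R')
    (f : MonoidAlgebra A G) (a : A)
    (h : f - single 1 a ∈ Ideal.map ((singleOneRingHom : A →+* MonoidAlgebra A G).comp st) 𝔦)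
    (g : G) (hg : g ≠ 1) : f.coeff g ∈ Ideal.map st 𝔦 := by
  classical
  rw [← Ideal.map_map] at h
  have h1 := coeff_mem_of_mem_map _ _ h g
  rw [coeff_sub, Finsupp.sub_apply, coeff_single, Finsupp.single_apply, if_neg (Ne.symm hg),
    sub_zero] at h1
  exact h1

end Groth.Agent.Lib.T2H7.MultActAlg
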