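import Mathlib

/-!
Rigidity modulo a square-zero ideal: an endomorphism `Φ` of an `S`-scheme `T` which is the
identity modulo a square-zero ideal `J` of the (affine) base and fixes a point `σe : Y ⟶ T` fixes
every point `σ : Y ⟶ T` congruent to `σe` modulo `J`.
-/

set_option autoImplicit false
set_option linter.unusedSectionVars false
set_option linter.unusedVariables false
set_option linter.style.haveILetI false
universe u
open CategoryTheory CategoryTheory.Limits AlgebraicGeometry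

namespace Groth.Agent.Lib.T2H7.SqZeroRigid

section Alg

theorem alg_rigid {R A B : Type*} [CommRing R] [CommRing A] [CommRing B] (J : Ideal R)
    (hJ : J * J = ⊥) (a : R →+* A) (ε γ : A →+* B) (φ : A →+* A)
    (hγa : γ.comp a = ε.comp a) (H0 : ∀ x, ε (φ x) = ε x)
    (H1 : ∀ x, φ x - x ∈ Ideal.map a J)
    (H2 : ∀ x, γ x - ε x ∈ Ideal.map (ε.comp a) J) (x : A) : γ (φ x) = γ x := by
  have hzero : ∀ (c : A) (j : R), j ∈ J → (γ c - ε c) * (ε.comp a) j = 0 := by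
    intro c j hj
    have h1 : (γ c - ε c) * (ε.comp a) j ∈ Ideal.map (ε.comp a) J * Ideal.map (ε.comp a) J :=
      Ideal.mul_mem_mul (H2 c) (Ideal.mem_map_of_mem _ hj)
    rw [← Ideal.map_mul, hJ, Ideal.map_bot] at h1
    exact h1
  have key : ∀ d ∈ Ideal.map a J, ∀ c : A, γ (c * d) = ε (c * d) := by
    intro d hd
    refine Submodule.span_induction ?_ ?_ ?_ ?_ hd
    · rintro _ ⟨j, hj, rfl⟩ c
      have h2 : γ (a j) = ε (a j) := RingHom.congr_fun hγa j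
      rw [map_mul, map_mul, h2, ← sub_eq_zero, ← sub_mul]
      exact hzero c j hj
    · intro c
      simp
    · intro d₁ d₂ _ _ h₁ h₂ c
      rw [mul_add, map_add, map_add, h₁ c, h₂ c]
    · intro c' d _ h c
      rw [smul_eq_mul, ← mul_assoc]
      exact h (c * c')
  have h3 := key _ (H1 x) 1
  rw [one_mul, map_sub, map_sub, H0, sub_self, sub_eq_zero] at h3
  exact h3

end Alg

section Sch

theorem eq_of_appLE_eq {X Y : Scheme.{u}} (f g : X ⟶ Y) (U : Y.Opens) (hU : IsAffineOpen U)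
    (V : X.Opens) (ef : V ≤ f ⁻¹ᵁ U) (eg : V ≤ g ⁻¹ᵁ U)
    (h : f.appLE U V ef = g.appLE U V eg) : V.ι ≫ f = V.ι ≫ g := by
  haveI : IsAffine U.toScheme := hU
  rw [← Scheme.Hom.resLE_comp_ι f ef, ← Scheme.Hom.resLE_comp_ι g eg]
  congr 1
  apply ext_of_isAffine
  show (f.resLE U V ef).app ⊤ = (g.resLE U V eg).app ⊤
  rw [Scheme.Hom.resLE_app_top, Scheme.Hom.resLE_app_top, h]

variable {R : Type u} [CommRing R] (J : Ideal R)

/-- The closed immersion `Spec (R/J) ⟶ Spec R`. -/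
noncomputable abbrev s₀ : Spec (CommRingCat.of (R ⧸ J)) ⟶ Spec (CommRingCat.of R) :=
  Spec.map (CommRingCat.ofHom (Ideal.Quotient.mk J))

theorem surjective_s₀ (hJ : J * J = ⊥) : Surjective (s₀ J) := by
  have hle : J ≤ nilradical R := by
    intro j hj
    refine ⟨2, ?_⟩
    have h2 : j * j ∈ J * J := Ideal.mul_mem_mul hj hj
    rw [hJ] at h2
    rw [pow_two]
    exact (Submodule.mem_bot R).1 h2
  constructor
  intro p
  obtain ⟨q, hq⟩ := (PrimeSpectrum.comap_quotientMk_bijective_of_le_nilradical hle).2 p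
  exact ⟨q, hq⟩

/-- The ring map `R → Γ(Z, U)` for a scheme `Z` over `Spec R`. -/
noncomputable def toSec {Z : Scheme.{u}} (z : Z ⟶ Spec (CommRingCat.of R)) (U : Z.Opens) :
    R →+* Γ(Z, U) :=
  ((Scheme.ΓSpecIso (CommRingCat.of R)).inv ≫ z.appLE ⊤ U le_top).hom

theorem toSec_comp {Z Z' : Scheme.{u}} (z : Z ⟶ Spec (CommRingCat.of R)) (f : Z' ⟶ Z)
    (U : Z.Opens) (V : Z'.Opens) (e : V ≤ f ⁻¹ᵁ U) :
    (f.appLE U V e).hom.comp (toSec z U) = toSec (f ≫ z) V := by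
  unfold toSec
  rw [← CommRingCat.hom_comp, Category.assoc, Scheme.Hom.appLE_comp_appLE]

/-- A section over an affine open which vanishes modulo `J` lies in `J · Γ(Z, U)`. -/
theorem mem_map_of_restrict_eq_zero {Z : Scheme.{u}} (z : Z ⟶ Spec (CommRingCat.of R))
    (U : Z.Opens) (hU : IsAffineOpen U) (x : Γ(Z, U))
    (hx : ((pullback.fst z (s₀ J)).appLE U ((pullback.fst z (s₀ J)) ⁻¹ᵁ U) le_rfl).hom x = 0) :
    x ∈ Ideal.map (toSec z U) J := by
  have H : IsPullback (pullback.fst z (s₀ J)) (pullback.snd z (s₀ J)) z (s₀ J) :=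
    IsPullback.of_hasPullback z (s₀ J)
  have hUST : (⊤ : (Spec (CommRingCat.of (R ⧸ J))).Opens) ≤ (s₀ J) ⁻¹ᵁ ⊤ := le_top
  have hUSX : U ≤ z ⁻¹ᵁ ⊤ := le_top
  have hiso := isIso_pushoutSection_of_isAffineOpen H hUST hUSX
    (UY := (pullback.fst z (s₀ J)) ⁻¹ᵁ U ⊓ (pullback.snd z (s₀ J)) ⁻¹ᵁ ⊤) rfl
    (isAffineOpen_top _) (isAffineOpen_top _) hU
  have hPO := (isIso_pushoutSection_iff H hUST hUSX rfl).1 hiso
  let Q : CommRingCat.{u} := CommRingCat.of (Γ(Z, U) ⧸ Ideal.map (toSec z U) J)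
  let inl' : Γ(Z, U) ⟶ Q := CommRingCat.ofHom (Ideal.Quotient.mk _)
  let lft : R ⧸ J →+* Γ(Z, U) ⧸ Ideal.map (toSec z U) J :=
    Ideal.Quotient.lift J ((Ideal.Quotient.mk _).comp (toSec z U)) (by
      intro j hj
      rw [RingHom.comp_apply, Ideal.Quotient.eq_zero_iff_mem]
      exact Ideal.mem_map_of_mem _ hj)
  let inr' : Γ(Spec (CommRingCat.of (R ⧸ J)), ⊤) ⟶ Q :=
    (Scheme.ΓSpecIso (CommRingCat.of (R ⧸ J))).hom ≫ CommRingCat.ofHom lft
  have hcompat : z.appLE ⊤ U hUSX ≫ inl' = (s₀ J).appLE ⊤ ⊤ hUST ≫ inr' := by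
    rw [← cancel_epi (Scheme.ΓSpecIso (CommRingCat.of R)).inv]
    have h1 : (s₀ J).appLE ⊤ ⊤ hUST = (s₀ J).appTop := by
      simp [Scheme.Hom.appLE]
    rw [h1]
    have h2 : (s₀ J).appTop ≫ (Scheme.ΓSpecIso (CommRingCat.of (R ⧸ J))).hom =
        (Scheme.ΓSpecIso (CommRingCat.of R)).hom ≫ CommRingCat.ofHom (Ideal.Quotient.mk J) :=
      Scheme.ΓSpecIso_naturality _
    show _ = (Scheme.ΓSpecIso (CommRingCat.of R)).inv ≫ (s₀ J).appTop ≫
      (Scheme.ΓSpecIso (CommRingCat.of (R ⧸ J))).hom ≫ CommRingCat.ofHom lft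
    rw [reassoc_of% h2, Iso.inv_hom_id_assoc]
    ext r
    rfl
  have hdesc := hPO.inl_desc inl' inr' hcompat
  have h3 : ((pullback.fst z (s₀ J)).appLE U
      ((pullback.fst z (s₀ J)) ⁻¹ᵁ U ⊓ (pullback.snd z (s₀ J)) ⁻¹ᵁ ⊤) (by simp)).hom x = 0 := by
    have h4 := Scheme.Hom.appLE_map (pullback.fst z (s₀ J)) (U := U)
      (V := (pullback.fst z (s₀ J)) ⁻¹ᵁ U) le_rfl
      (homOfLE (inf_le_left : (pullback.fst z (s₀ J)) ⁻¹ᵁ U ⊓
        (pullback.snd z (s₀ J)) ⁻¹ᵁ ⊤ ≤ (pullback.fst z (s₀ J)) ⁻¹ᵁ U)).op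
    rw [← h4, CommRingCat.comp_apply, hx, map_zero]
  have h5 : inl'.hom x = 0 := by
    rw [← hdesc, CommRingCat.comp_apply, h3, map_zero]
  exact Ideal.Quotient.eq_zero_iff_mem.1 h5

theorem appLE_congr_hom {X Y : Scheme.{u}} {f g : X ⟶ Y} (h : f = g) (U : Y.Opens) (V : X.Opens)
    (ef : V ≤ f ⁻¹ᵁ U) (eg : V ≤ g ⁻¹ᵁ U) : f.appLE U V ef = g.appLE U V eg := by
  subst h
  rfl

/-- Rigidity modulo a square-zero ideal. -/
theorem rigid (hJ : J * J = ⊥) {T Y : Scheme.{u}}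
    (t : T ⟶ Spec (CommRingCat.of R)) (y : Y ⟶ Spec (CommRingCat.of R)) (Φ : T ⟶ T)
    (σe σ : Y ⟶ T) (hσe : σe ≫ t = y) (hσ : σ ≫ t = y)
    (ha : pullback.fst t (s₀ J) ≫ Φ = pullback.fst t (s₀ J))
    (hb : σe ≫ Φ = σe)
    (hc : pullback.fst y (s₀ J) ≫ σ = pullback.fst y (s₀ J) ≫ σe) :
    σ ≫ Φ = σ := by
  haveI := surjective_s₀ J hJ
  have hιT : Surjective (pullback.fst t (s₀ J)) :=
    MorphismProperty.pullback_fst (P := @Surjective) _ _ inferInstance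
  have hιY : Surjective (pullback.fst y (s₀ J)) :=
    MorphismProperty.pullback_fst (P := @Surjective) _ _ inferInstance
  have hΦbase : ∀ x : T, Φ x = x := by
    intro x
    obtain ⟨x', rfl⟩ := hιT.surj x
    rw [← Scheme.Hom.comp_apply, ha]
  have hσbase : ∀ x : Y, σ x = σe x := by
    intro x
    obtain ⟨x', rfl⟩ := hιY.surj x
    rw [← Scheme.Hom.comp_apply, ← Scheme.Hom.comp_apply, hc]
  apply Scheme.hom_ext_of_forall
  intro y₀
  obtain ⟨U, hU, hy₀U, -⟩ := exists_isAffineOpen_mem_and_subset (x := σe y₀)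
    (U := (⊤ : T.Opens)) trivial
  obtain ⟨V, hV, hy₀V, hVU⟩ := exists_isAffineOpen_mem_and_subset (x := y₀)
    (U := σe ⁻¹ᵁ U) hy₀U
  refine ⟨V, hy₀V, ?_⟩
  have eΦ : U ≤ Φ ⁻¹ᵁ U := fun x hx => by
    show Φ x ∈ U
    rw [hΦbase]
    exact hx
  have eσe : V ≤ σe ⁻¹ᵁ U := hVU
  have eσ : V ≤ σ ⁻¹ᵁ U := fun x hx => by
    show σ x ∈ U
    rw [hσbase]
    exact hVU hx
  have eσΦ : V ≤ (σ ≫ Φ) ⁻¹ᵁ U := fun x hx => by
    show (σ ≫ Φ) x ∈ U
    rw [Scheme.Hom.comp_apply, hΦbase]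
    exact eσ hx
  refine eq_of_appLE_eq (σ ≫ Φ) σ U hU V eσΦ eσ ?_
  have hcomp : (σ ≫ Φ).appLE U V eσΦ = Φ.appLE U U eΦ ≫ σ.appLE U V eσ := by
    rw [Scheme.Hom.appLE_comp_appLE]
  rw [hcomp]
  ext x
  rw [CommRingCat.comp_apply]
  have ha' : toSec y V = (σe.appLE U V eσe).hom.comp (toSec t U) := by
    rw [toSec_comp, hσe]
  refine alg_rigid J hJ (toSec t U) (σe.appLE U V eσe).hom (σ.appLE U V eσ).hom
    (Φ.appLE U U eΦ).hom ?_ ?_ ?_ ?_ x
  · rw [toSec_comp, toSec_comp, hσ, hσe]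
  · intro x
    have h1 : Φ.appLE U U eΦ ≫ σe.appLE U V eσe = σe.appLE U V eσe := by
      rw [Scheme.Hom.appLE_comp_appLE]
      exact appLE_congr_hom hb U V _ _
    exact congr_arg (fun m => m.hom x) h1
  · intro x
    refine mem_map_of_restrict_eq_zero J t U hU _ ?_
    have h1 : Φ.appLE U U eΦ ≫ (pullback.fst t (s₀ J)).appLE U
        ((pullback.fst t (s₀ J)) ⁻¹ᵁ U) le_rfl =
        (pullback.fst t (s₀ J)).appLE U ((pullback.fst t (s₀ J)) ⁻¹ᵁ U) le_rfl := by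
      rw [Scheme.Hom.appLE_comp_appLE]
      exact appLE_congr_hom ha U _ _ _
    rw [map_sub, sub_eq_zero]
    exact congr_arg (fun m => m.hom x) h1
  · intro x
    rw [← ha']
    refine mem_map_of_restrict_eq_zero J y V hV _ ?_
    have h1 : σ.appLE U V eσ ≫ (pullback.fst y (s₀ J)).appLE V
        ((pullback.fst y (s₀ J)) ⁻¹ᵁ V) le_rfl =
        σe.appLE U V eσe ≫ (pullback.fst y (s₀ J)).appLE V
        ((pullback.fst y (s₀ J)) ⁻¹ᵁ V) le_rfl := by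
      rw [Scheme.Hom.appLE_comp_appLE, Scheme.Hom.appLE_comp_appLE]
      exact appLE_congr_hom hc U _ _ _
    rw [map_sub, sub_eq_zero]
    exact congr_arg (fun m => m.hom x) h1

end Sch

end Groth.Agent.Lib.T2H7.SqZeroRigid
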