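import Groth.Agent.Lib.T2H7MultActCore
import Groth.Agent.Lib.T2H7SqZeroRigid
import Groth.Agent.Lib.Helper12Act
import Groth.Prelude.Def_TwC
import Groth.Prelude.Def_AlgGrp

/-!
An action (on points) of a group of multiplicative type which is trivial modulo a locally nilpotent
ideal is trivial.
-/

set_option autoImplicit false
set_option linter.unusedSectionVars false
set_option linter.unusedVariables false
set_option linter.style.haveILetI false
universe u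
open CategoryTheory CategoryTheory.Limits MonoidalCategory CartesianMonoidalCategory MonObj GrpObj
  AlgebraicGeometry

namespace Groth.Agent.Lib.T2H7.MultActMain

open Groth.Agent.Lib.T2H7.MultActCore Groth.Agent.Lib.T2H7.MultActKer
  Groth.Agent.Lib.Helper27.GaGm

section FlatCover

/-- a jointly surjective family of flat morphisms is jointly epimorphic. -/
theorem eq_of_flat_cover {E X : Scheme.{u}} (f₁ f₂ : E ⟶ X)
    (h : ∀ e : E, ∃ (W : Scheme.{u}) (q : W ⟶ E) (_ : Flat q) (w : W),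
      q w = e ∧ q ≫ f₁ = q ≫ f₂) : f₁ = f₂ := by
  have hpt : ∀ e : E, f₁ e = f₂ e := by
    intro e
    obtain ⟨W, q, _, w, rfl, hq⟩ := h e
    rw [← Scheme.Hom.comp_apply, ← Scheme.Hom.comp_apply, hq]
  refine Scheme.hom_ext_of_forall _ _ (fun e => ?_)
  obtain ⟨U, hU, heU, -⟩ := exists_isAffineOpen_mem_and_subset (x := f₁ e) (U := ⊤) trivial
  let V : E.Opens := f₁ ⁻¹ᵁ U ⊓ f₂ ⁻¹ᵁ U
  have heV : e ∈ V := by
    refine ⟨heU, ?_⟩
    show f₂ e ∈ U
    rw [← hpt]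
    exact heU
  refine ⟨V, heV, ?_⟩
  have ef : V ≤ f₁ ⁻¹ᵁ U := inf_le_left
  have eg : V ≤ f₂ ⁻¹ᵁ U := inf_le_right
  apply Groth.Agent.Lib.T2H7.SqZeroRigid.eq_of_appLE_eq f₁ f₂ U hU V ef eg
  refine CommRingCat.hom_ext (RingHom.ext fun s => ?_)
  apply TopCat.Presheaf.section_ext E.sheaf V
  intro x hx
  obtain ⟨W, q, hqf, w, rfl, hq⟩ := h x
  apply Groth.Agent.Lib.T2H3.GenericTorsor.stalkMap_injective_of_flat q w
  refine (Scheme.Hom.germ_stalkMap_apply q V w hx _).trans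
    (Eq.trans ?_ (Scheme.Hom.germ_stalkMap_apply q V w hx _).symm)
  congr 1
  have h1 : f₁.appLE U V ef ≫ q.app V = f₂.appLE U V eg ≫ q.app V := by
    rw [Scheme.Hom.app_eq_appLE, Scheme.Hom.appLE_comp_appLE, Scheme.Hom.appLE_comp_appLE]
    exact Groth.Agent.Lib.T2H7.SqZeroRigid.appLE_congr_hom hq U _ _ _
  exact congrArg (fun m => m.hom s) h1

end FlatCover

section BaseChange

variable {S S₀ U : Scheme.{u}} (i₀ : S₀ ⟶ S) [IsClosedImmersion i₀] (g : U ⟶ S)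

/-- base change of a locally nilpotent closed immersion. -/
theorem locNilp_baseChange
    (hnil : ∀ x : S, ∃ V : S.affineOpens, x ∈ (V : S.Opens) ∧ IsNilpotent (i₀.ker.ideal V)) :
    LocNilp (pullback.fst g i₀) := by
  intro t
  obtain ⟨V', htV', N, hN⟩ := hnil (g t)
  have htV : t ∈ g ⁻¹ᵁ (V' : S.Opens) := htV'
  obtain ⟨V, hV, htV₂, hVV'⟩ := exists_isAffineOpen_mem_and_subset htV
  have e : V ≤ g ⁻¹ᵁ (V' : S.Opens) := hVV'
  refine ⟨V, hV, htV₂, N, ?_⟩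
  rw [Scheme.Hom.ker_apply] at hN
  have hle : RingHom.ker ((pullback.fst g i₀).app V).hom ≤
      Ideal.map (g.appLE V' V e).hom (RingHom.ker (i₀.app V').hom) := by
    intro x hx
    refine mem_map_ker_of_restrict_eq_zero i₀ g V' V'.2 V hV e x ?_
    rw [Scheme.Hom.appLE_eq_app]
    exact hx
  have h2 : (RingHom.ker ((pullback.fst g i₀).app V).hom) ^ N ≤
      (Ideal.map (g.appLE V' V e).hom (RingHom.ker (i₀.app V').hom)) ^ N :=
    Ideal.pow_right_mono hle N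
  rw [← Ideal.map_pow, hN, Ideal.zero_eq_bot, Ideal.map_bot] at h2
  exact le_bot_iff.1 h2

end BaseChange

section Local

variable {S U : Scheme.{u}} (g : U ⟶ S) (G X : Over S) [GrpObj G]

/-- the adjunction bijection for `X` (no group structure needed). -/
noncomputable def adjE (Y : Over U) : (Y ⟶ Red.bc g X) ≃ ((Over.map g).obj Y ⟶ X) :=
  ((Over.mapPullbackAdj g).homEquiv Y X).symm

theorem adjE_nat {Y₁ Y₂ : Over U} (h : Y₂ ⟶ Y₁) (z : Y₁ ⟶ Red.bc g X) :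
    adjE g X Y₂ (h ≫ z) = (Over.map g).map h ≫ adjE g X Y₁ z :=
  Adjunction.homEquiv_naturality_left_symm _ h z

theorem adjE_symm_nat {Y₁ Y₂ : Over U} (h : Y₂ ⟶ Y₁) (w : (Over.map g).obj Y₁ ⟶ X) :
    (adjE g X Y₂).symm ((Over.map g).map h ≫ w) = h ≫ (adjE g X Y₁).symm w :=
  Adjunction.homEquiv_naturality_left _ h w

theorem adjEquiv_nat {Y₁ Y₂ : Over U} (h : Y₂ ⟶ Y₁) (z : Y₁ ⟶ Red.bc g G) :
    adjEquiv g G Y₂ (h ≫ z) = (Over.map g).map h ≫ adjEquiv g G Y₁ z :=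
  Adjunction.homEquiv_naturality_left_symm _ h z

theorem adjEquiv_one (Y : Over U) : adjEquiv g G Y 1 = 1 := by
  have h1 := adjEquiv_mul g G Y 1 1
  rw [_root_.one_mul (1 : Y ⟶ Red.bc g G)] at h1
  exact (mul_eq_left (a := adjEquiv g G Y 1)).1 h1.symm

variable (actS : ∀ (Y : Over S), (Y ⟶ G) → (Y ⟶ X) → (Y ⟶ X))
  (natS : ∀ {Y₁ Y₂ : Over S} (h : Y₂ ⟶ Y₁) (κ : Y₁ ⟶ G) (x : Y₁ ⟶ X),
      h ≫ actS Y₁ κ x = actS Y₂ (h ≫ κ) (h ≫ x))
  (oneS : ∀ (Y : Over S) (x : Y ⟶ X), actS Y 1 x = x)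
  (mulS : ∀ (Y : Over S) (κ₁ κ₂ : Y ⟶ G) (x : Y ⟶ X),
      actS Y (κ₁ * κ₂) x = actS Y κ₁ (actS Y κ₂ x))
  {M : Type} [AddCommGroup M] (ψ : Red.DS U M ⟶ Red.bc g G) [IsMonHom ψ]

/-- the action of `D_U(M)` on `X_U` on points. -/
noncomputable def actU (Y : Over U) (χ : Y ⟶ Red.DS U M) (z : Y ⟶ Red.bc g X) : Y ⟶ Red.bc g X :=
  (adjE g X Y).symm (actS ((Over.map g).obj Y) (adjEquiv g G Y (χ ≫ ψ)) (adjE g X Y z))

include natS in
theorem actU_nat {Y₁ Y₂ : Over U} (h : Y₂ ⟶ Y₁) (χ : Y₁ ⟶ Red.DS U M) (z : Y₁ ⟶ Red.bc g X) :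
    h ≫ actU g G X actS ψ Y₁ χ z = actU g G X actS ψ Y₂ (h ≫ χ) (h ≫ z) := by
  unfold actU
  rw [← adjE_symm_nat, natS, Category.assoc, adjEquiv_nat g G h (χ ≫ ψ), adjE_nat]

include oneS in
theorem actU_one (Y : Over U) (z : Y ⟶ Red.bc g X) : actU g G X actS ψ Y 1 z = z := by
  unfold actU
  rw [MonObj.one_comp, adjEquiv_one, oneS, Equiv.symm_apply_apply]

include mulS in
theorem actU_mul (Y : Over U) (χ₁ χ₂ : Y ⟶ Red.DS U M) (z : Y ⟶ Red.bc g X) :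
    actU g G X actS ψ Y (χ₁ * χ₂) z =
      actU g G X actS ψ Y χ₁ (actU g G X actS ψ Y χ₂ z) := by
  unfold actU
  rw [MonObj.mul_comp, adjEquiv_mul, mulS, Equiv.apply_symm_apply]

end Local

section Thm

variable {S S₀ : Scheme.{u}} (i₀ : S₀ ⟶ S) [IsClosedImmersion i₀]
  (hnil : ∀ x : S, ∃ V : S.affineOpens, x ∈ (V : S.Opens) ∧ IsNilpotent (i₀.ker.ideal V))
  (G X : Over S) [GrpObj G]
  (actS : ∀ (Y : Over S), (Y ⟶ G) → (Y ⟶ X) → (Y ⟶ X))
  (natS : ∀ {Y₁ Y₂ : Over S} (h : Y₂ ⟶ Y₁) (κ : Y₁ ⟶ G) (x : Y₁ ⟶ X),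
      h ≫ actS Y₁ κ x = actS Y₂ (h ≫ κ) (h ≫ x))
  (oneS : ∀ (Y : Over S) (x : Y ⟶ X), actS Y 1 x = x)
  (mulS : ∀ (Y : Over S) (κ₁ κ₂ : Y ⟶ G) (x : Y ⟶ X),
      actS Y (κ₁ * κ₂) x = actS Y κ₁ (actS Y κ₂ x))
  (h0 : ∀ (Y : Over S) (p : Y ⟶ Over.mk i₀) (κ : Y ⟶ G) (x : Y ⟶ X), actS Y κ x = x)

include hnil natS oneS mulS h0 in
/-- triviality of the action on points over a member of the cover which splits `G`. -/
theorem local_trivial {U : Scheme.{u}} (g : U ⟶ S) {M : Type} [AddCommGroup M]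
    (ψ : Red.DS U M ⟶ Red.bc g G) [IsMonHom ψ] [IsIso ψ]
    (Y : Over U) (κ : (Over.map g).obj Y ⟶ G) (x : (Over.map g).obj Y ⟶ X) :
    actS ((Over.map g).obj Y) κ x = x := by
  have hLN := locNilp_baseChange i₀ g hnil
  have htriv : ∀ (Y : Over U) (p : Y.left ⟶ pullback g i₀), p ≫ pullback.fst g i₀ = Y.hom →
      ∀ (χ : Y ⟶ Red.DS U M) (z : Y ⟶ Red.bc g X), actU g G X actS ψ Y χ z = z := by
    intro Y p hp χ z
    have hp' : (p ≫ pullback.snd g i₀) ≫ (Over.mk i₀).hom = ((Over.map g).obj Y).hom := by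
      show (p ≫ pullback.snd g i₀) ≫ i₀ = Y.hom ≫ g
      rw [Category.assoc, ← pullback.condition, ← Category.assoc, hp]
    unfold actU
    rw [h0 ((Over.map g).obj Y) (Over.homMk (p ≫ pullback.snd g i₀) hp') _ _,
      Equiv.symm_apply_apply]
  have key := MultActCore.general (pullback.fst g i₀) (Z := Red.bc g X) (actU g G X actS ψ)
    (fun h χ z => actU_nat g G X actS natS ψ h χ z)
    (fun Y z => actU_one g G X actS oneS ψ Y z)
    (fun Y χ₁ χ₂ z => actU_mul g G X actS mulS ψ Y χ₁ χ₂ z)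
    htriv hLN Y ((adjEquiv g G Y).symm κ ≫ inv ψ) ((adjE g X Y).symm x)
  unfold actU at key
  rw [Category.assoc, IsIso.inv_hom_id, Category.comp_id, Equiv.apply_symm_apply,
    Equiv.apply_symm_apply] at key
  exact (adjE g X Y).symm.injective key

include hnil natS oneS mulS h0 in
/-- **Main theorem** (point form): an action on points of a group of multiplicative type which is
trivial over the locally nilpotent closed subscheme is trivial. -/
theorem main (hG : TwC.Locally S TwC.Topology.fpqc (fun S' f => ∃ (M : Type) (_ : AddCommGroup M),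
      Nonempty (Grp.mk (Red.bc f G) ≅ Grp.mk (Red.DS S' M))))
    (Y : Over S) (κ : Y ⟶ G) (x : Y ⟶ X) : actS Y κ x = x := by
  obtain ⟨S', f, hflat, hsurj, -, hloc⟩ := hG
  apply Over.OverMorphism.ext
  apply eq_of_flat_cover
  intro y
  obtain ⟨s', hs'⟩ := hsurj.surj (Y.hom y)
  obtain ⟨U, hsU, M, instM, ⟨θ⟩⟩ := hloc s'
  let g : (U : Scheme.{u}) ⟶ S := U.ι ≫ f
  haveI : Flat g := inferInstanceAs (Flat (U.ι ≫ f))
  obtain ⟨w, hw1, hw2⟩ := Scheme.Pullback.exists_preimage_pullback (f := Y.hom) (g := g) y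
    ⟨s', hsU⟩ hs'.symm
  refine ⟨pullback Y.hom g, pullback.fst Y.hom g, inferInstance, w, hw1, ?_⟩
  let ψ : Red.DS (U : Scheme.{u}) M ⟶ Red.bc g G := θ.inv.hom.hom
  haveI : IsMonHom ψ := inferInstanceAs (IsMonHom θ.inv.hom.hom)
  haveI hiso : IsIso ψ := ⟨θ.hom.hom.hom, by
    change θ.inv.hom.hom ≫ θ.hom.hom.hom = _
    rw [← Grp.comp_hom_hom, θ.inv_hom_id]; rfl, by
    change θ.hom.hom.hom ≫ θ.inv.hom.hom = _
    rw [← Grp.comp_hom_hom, θ.hom_inv_id]; rfl⟩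
  let YW : Over (U : Scheme.{u}) := Over.mk (pullback.snd Y.hom g)
  let qq : (Over.map g).obj YW ⟶ Y := Over.homMk (pullback.fst Y.hom g) pullback.condition
  have h1 := local_trivial i₀ hnil G X actS natS oneS mulS h0 g ψ YW (qq ≫ κ) (qq ≫ x)
  rw [← natS] at h1
  exact congrArg (fun m => m.left) h1

end Thm

end Groth.Agent.Lib.T2H7.MultActMain
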