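import Mathlib
import Groth.Prelude.Def_RegImm
import Groth.Prelude.Def_SheafNL
import Groth.Agent.Lib.T2H7NLb
import Groth.Agent.S2189
import Groth.Agent.Lib.Helper1GlDim
import Groth.Agent.Lib.T2H9KoszulH1
import Groth.Agent.Lib.T2H7KRegI
import Groth.Agent.Lib.T2H7SyntH
import Groth.Agent.Lib.T2H9SyntMor

/-!
# Vasconcelos' criterion over polynomial rings over a field (T2 helper7)

* `isKoszulRegularIdeal_of_flat_cotangent`: Noetherian ring of finite global dimension, ideal with
  flat conormal module is Koszul-regular.
* `isLCIOver_of_flat_cotangent`: over a field, a finite presentation with flat conormal module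
  gives a local complete intersection.
-/

set_option autoImplicit false

universe u

open CategoryTheory CategoryTheory.Limits TensorProduct

namespace Groth.Agent.Lib.T2H7.NLe

section Vasc

variable {P : Type u} [CommRing P] [IsNoetherianRing P]

/-- Vasconcelos: in a Noetherian ring of finite global dimension an ideal with flat conormal
module is Koszul-regular -/
theorem isKoszulRegularIdeal_of_flat_cotangent (J : Ideal P) (d : ℕ)
    (hgl : ∀ (M : Type u) [AddCommGroup M] [Module P M],
      HasProjectiveDimensionLT (ModuleCat.of P M) (d + 1))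
    (hfl : Module.Flat (P ⧸ J) J.Cotangent) : LCI.IsKoszulRegularIdeal J := by
  have hfinP : Module.Finite P J.Cotangent :=
    Module.Finite.of_surjective J.toCotangent J.toCotangent_surjective
  have hfin : Module.Finite (P ⧸ J) J.Cotangent :=
    Module.Finite.of_restrictScalars_finite P (P ⧸ J) J.Cotangent
  have hfp : Module.FinitePresentation (P ⧸ J) J.Cotangent :=
    Module.finitePresentation_of_finite (P ⧸ J) J.Cotangent
  have hproj : Module.Projective (P ⧸ J) J.Cotangent :=
    Module.Flat.projective_of_finitePresentation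
  intro 𝔭 h𝔭
  obtain ⟨g, hg, rs, hreg, hof⟩ := Groth.Agent.S2189.result J (d + 1) (hgl J) 𝔭.asIdeal h𝔭
  refine ⟨g, hg, rs, ?_, hof.symm⟩
  exact Groth.Agent.Lib.T2H9.KoszulH1.isKoszulRegularSeq_of_isWeaklyRegular rs
    hreg.toIsWeaklyRegular

end Vasc

section Poly

variable {κ : Type u} [Field κ] {ι : Type u} [Finite ι]

/-- polynomial rings over a field have finite global dimension -/
theorem gldim_mvPolynomial (M : Type u) [AddCommGroup M] [Module (MvPolynomial ι κ) M] :
    HasProjectiveDimensionLT (ModuleCat.of (MvPolynomial ι κ) M) (Nat.card ι + 1) := by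
  have hreg : IsRegularRing (MvPolynomial ι κ) := inferInstance
  apply Groth.Agent.Lib.Helper1.GlDim.gldim_of_regular
  · intro p
    exact IsRegularRing.isRegularLocalRing_localization p.asIdeal
  · rw [MvPolynomial.ringKrullDim_of_isNoetherianRing, ringKrullDim_eq_zero_of_field, zero_add]

/-- over a field, a presentation with flat conormal module has Koszul-regular kernel -/
theorem isKoszulRegularIdeal_ker_of_flat_cotangent {T : Type u} [CommRing T] [Algebra κ T]
    (G : Algebra.Generators κ T ι) (hfl : Module.Flat T G.toExtension.Cotangent) :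
    LCI.IsKoszulRegularIdeal G.toExtension.ker := by
  rw [Groth.Agent.Lib.T2H7.NLb.flat_cotangent_iff] at hfl
  have hN : IsNoetherianRing (MvPolynomial ι κ) := inferInstance
  have hN' : IsNoetherianRing G.toExtension.Ring := hN
  exact @isKoszulRegularIdeal_of_flat_cotangent G.toExtension.Ring _ hN' G.toExtension.ker
    (Nat.card ι) (fun M i1 i2 => @gldim_mvPolynomial κ _ ι _ M i1 i2) hfl

end Poly

section LCIOver

open Groth.Agent.Lib.T2H7.KRegB

variable {κ : Type u} [Field κ] {T : Type u} [CommRing T] [Algebra κ T]

/-- a quotient of a polynomial ring over a field by a Koszul-regular ideal is a local complete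
intersection over the field -/
theorem isLCIOver_of_kreg_ker {n : ℕ} (ψ : MvPolynomial (Fin n) κ →ₐ[κ] T)
    (hψ : Function.Surjective ψ)
    (hK : LCI.IsKoszulRegularIdeal (RingHom.ker ψ.toRingHom)) : Synt.IsLCIOver κ T := by
  have hft : Algebra.FiniteType κ T := Algebra.FiniteType.of_surjective ψ hψ
  refine Groth.Agent.Lib.T2H9.SyntMor.isLCIOver_of_forall_isCI κ T ?_
  intro 𝔮 h𝔮
  have hJQ : RingHom.ker ψ.toRingHom ≤ 𝔮.comap ψ.toRingHom := by
    rw [RingHom.ker_eq_comap_bot]
    exact Ideal.comap_mono bot_le
  rw [isKoszulRegularIdeal_iff] at hK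
  exact Groth.Agent.Lib.T2H7.SyntH.isCI_atPrime_of_kRegAt ψ hψ 𝔮 (hK _ inferInstance hJQ)

/-- over a field, an algebra with a finite presentation whose conormal module is flat is a local
complete intersection -/
theorem isLCIOver_of_flat_cotangent {ι : Type u} [Finite ι] (G : Algebra.Generators κ T ι)
    (hfl : Module.Flat T G.toExtension.Cotangent) : Synt.IsLCIOver κ T := by
  have hK := isKoszulRegularIdeal_ker_of_flat_cotangent G hfl
  let e : ι ≃ Fin (Nat.card ι) := Finite.equivFin ι
  let θ : MvPolynomial (Fin (Nat.card ι)) κ ≃ₐ[κ] MvPolynomial ι κ :=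
    MvPolynomial.renameEquiv κ e.symm
  let ψ : MvPolynomial (Fin (Nat.card ι)) κ →ₐ[κ] T :=
    (IsScalarTower.toAlgHom κ G.toExtension.Ring T).comp θ.toAlgHom
  have hψ : Function.Surjective ψ := by
    intro t
    obtain ⟨v, hv⟩ := G.algebraMap_surjective t
    refine ⟨θ.symm v, ?_⟩
    show algebraMap G.toExtension.Ring T (θ (θ.symm v)) = t
    rw [AlgEquiv.apply_symm_apply]
    exact hv
  refine isLCIOver_of_kreg_ker ψ hψ ?_
  have hker : RingHom.ker ψ.toRingHom = G.toExtension.ker.comap θ.toRingEquiv.toRingHom := by
    ext v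
    rfl
  rw [hker]
  exact Groth.Agent.Lib.T2H7.KRegI.isKoszulRegularIdeal_comap_of_bijective _
    θ.toRingEquiv.bijective _ hK

end LCIOver

end Groth.Agent.Lib.T2H7.NLe
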