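import Mathlib
import Groth.Prelude.Def_RegImm
import Groth.Prelude.Def_SheafNL
import Groth.Agent.Lib.T2H7NLc
import Groth.Agent.Lib.T2H7NLe
import Groth.Agent.Lib.T2H7SyntG

/-!
# Tor-amplitude of the naive cotangent complex in [-1,0] forces lci (flat f.p. case) (T2 helper7)

* `flat_cotangent_of_hasTorAmp`, `flat_cotangent_baseChange`, `isLCI_of_hasTorAmp`.
-/

set_option autoImplicit false

universe u

open CategoryTheory CategoryTheory.Limits TensorProduct

attribute [local instance] HasDerivedCategory.standard

namespace Groth.Agent.Lib.T2H7.NLd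

section Iso

variable {A B : Type u} [CommRing A] [CommRing B] [Algebra A B]

theorem nonempty_toD_cx_iso' {ι : Type u} (G : Algebra.Generators A B ι) :
    Nonempty (DRing.toD (NLCx.cx G.toExtension) ≅ LCI.NL A B) := by
  let g : (Algebra.Generators.self A B).Hom G := Algebra.Generators.defaultHom _ _
  let g' : G.Hom (Algebra.Generators.self A B) := Algebra.Generators.defaultHom _ _
  let e := Groth.Agent.Lib.T2H2.NLBC.mapHomotopyEquiv g'.toExtensionHom g.toExtensionHom
  have hq : QuasiIso e.hom := inferInstance
  have hi : IsIso (DerivedCategory.Q.map e.hom) :=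
    (DerivedCategory.isIso_Q_map_iff_quasiIso _ e.hom).mpr hq
  exact ⟨@asIso _ _ _ _ _ hi⟩

theorem flat_cotangent_of_hasTorAmp {ι : Type u} (G : Algebra.Generators A B ι)
    (h : DRing.HasTorAmplitudeIn B (-1) 0 (LCI.NL A B)) :
    Module.Flat B G.toExtension.Cotangent := by
  obtain ⟨e⟩ := nonempty_toD_cx_iso' G
  have h' : DRing.HasTorAmplitudeIn B (-1) 0 (DRing.toD (NLCx.cx G.toExtension)) :=
    Groth.Agent.Lib.Helper1.Tor.hasTorAmp_of_iso e.symm h
  have hE : ∀ i : ℤ, i ≠ -1 → i ≠ 0 → IsZero ((NLCx.cx G.toExtension).X i) := fun i h1 h0 =>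
    HomologicalComplex.isZero_double_X _ _ i h1 h0
  have h0 : Module.Flat B ((NLCx.cx G.toExtension).X 0) :=
    Module.Flat.of_linearEquiv
      (HomologicalComplex.doubleXIso₁ (ModuleCat.ofHom G.toExtension.cotangentComplex)
        (show (ComplexShape.up ℤ).Rel (-1) 0 by simp) (by decide)).toLinearEquiv
  have h1 : Module.Flat B ((NLCx.cx G.toExtension).X (-1)) :=
    Groth.Agent.Lib.T2H2.NLBC4.flat_neg_one_of_hasTorAmp (NLCx.cx G.toExtension) hE h0 h'
  let e0 : ((NLCx.cx G.toExtension).X (-1)) ≃ₗ[B] G.toExtension.Cotangent :=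
    (HomologicalComplex.doubleXIso₀ (ModuleCat.ofHom G.toExtension.cotangentComplex)
      (show (ComplexShape.up ℤ).Rel (-1) 0 by simp)).toLinearEquiv
  exact @Module.Flat.of_linearEquiv B ((NLCx.cx G.toExtension).X (-1)) G.toExtension.Cotangent
    _ _ _ _ _ h1 e0.symm

end Iso

section Fibre

attribute [local instance] Algebra.TensorProduct.rightAlgebra

variable {A B : Type u} [CommRing A] [CommRing B] [Algebra A B]

/-- flatness of the conormal module of a presentation of a flat algebra passes to base changes -/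
theorem flat_cotangent_baseChange [Module.Flat A B] {ι : Type u} (G : Algebra.Generators A B ι)
    (hfl : Module.Flat B G.toExtension.Cotangent) (κ : Type u) [CommRing κ] [Algebra A κ] :
    Module.Flat (κ ⊗[A] B) (G.baseChange (T := κ)).toExtension.Cotangent := by
  have hb := Groth.Agent.Lib.T2H2.NLBC3.sameVarsHom_liftBaseChange_cotangent_bijective'
    (R := A) (S := B) (R' := κ) (S' := κ ⊗[A] B) G (G.baseChange (T := κ)) (fun i => rfl)
  let e := LinearEquiv.ofBijective _ hb
  exact Module.Flat.of_linearEquiv e.symm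

/-- a flat finitely presented algebra whose naive cotangent complex has tor-amplitude in
`[-1, 0]` is a local complete intersection -/
theorem isLCI_of_hasTorAmp [Module.Flat A B] [Algebra.FinitePresentation A B]
    (h : DRing.HasTorAmplitudeIn B (-1) 0 (LCI.NL A B)) : LCI.IsLCI A B := by
  have hft : Algebra.FiniteType A B := inferInstance
  obtain ⟨n, f, hf⟩ := Algebra.FiniteType.iff_quotient_mvPolynomial''.mp hft
  let G : Algebra.Generators A B (ULift.{u} (Fin n)) :=
    Algebra.Generators.ofSurjective (fun i => f (MvPolynomial.X i.down)) (by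
      intro b
      obtain ⟨v, rfl⟩ := hf b
      refine ⟨MvPolynomial.rename (Equiv.ulift.symm) v, ?_⟩
      rw [MvPolynomial.aeval_rename]
      have : MvPolynomial.aeval ((fun i : ULift.{u} (Fin n) => f (MvPolynomial.X i.down)) ∘
          Equiv.ulift.symm) = f := by
        apply MvPolynomial.algHom_ext
        intro i
        rw [MvPolynomial.aeval_X]
        rfl
      rw [this])
  have hfl := flat_cotangent_of_hasTorAmp G h
  apply Groth.Agent.Lib.T2H7.SyntG.isLCI_of_isSyntomic B
  refine ⟨inferInstance, inferInstance, fun p => ?_⟩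
  have hfl' := flat_cotangent_baseChange G hfl p.asIdeal.ResidueField
  exact Groth.Agent.Lib.T2H7.NLe.isLCIOver_of_flat_cotangent
    (G.baseChange (T := p.asIdeal.ResidueField)) hfl'

end Fibre

end Groth.Agent.Lib.T2H7.NLd
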