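import Mathlib
import Groth.Agent.Lib.T2H7PolyTorA
import Groth.Agent.Lib.T2H7PdFibB
import Groth.Agent.Lib.Helper13TorBC3
import Groth.Agent.Lib.Helper13TorMore
import Groth.Prelude.Def_DRing2

/-!
# Tor dimension over polynomial rings (helper7)

`Tor-dim_{A[x_1, …, x_n]} M ≤ Tor-dim_A M + n`.
-/

set_option autoImplicit false
universe u
open CategoryTheory CategoryTheory.Limits TensorProduct Polynomial

namespace Groth.Agent.Lib.T2H7.PolyTorB

open Groth.Agent.Lib.T2H7.PolyTorA Groth.Agent.Lib.T2H7.PdFibB Groth.Agent.Helper13TorBC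
  Groth.Agent.Helper13Tor

/-- Tor against extended modules, computed over the base (flat base change). -/
theorem isZero_tor_extended (A A' : Type u) [CommRing A] [CommRing A'] [Algebra A A']
    [Module.Flat A A'] (M : Type u) [AddCommGroup M] [Module A' M] [Module A M]
    [IsScalarTower A A' M] (N : Type u) [AddCommGroup N] [Module A N] (j : ℕ)
    (h : Subsingleton (DRing.Tor A j M N)) :
    IsZero (((Tor (ModuleCat.{u} A') j).obj (ModuleCat.of A' M)).obj
      (ModuleCat.of A' (A' ⊗[A] N))) := by
  obtain ⟨i⟩ := nonempty_restrict_tor_iso_left (A := A) A' M (ModuleCat.of A N) j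
  have hz : IsZero (((Tor (ModuleCat.{u} A) j).obj (ModuleCat.of A M)).obj (ModuleCat.of A N)) :=
    ModuleCat.isZero_of_subsingleton _
  have hz' := hz.of_iso i
  have hs0 := ModuleCat.subsingleton_of_isZero hz'
  have hs : Subsingleton (((Tor (ModuleCat.{u} A') j).obj (ModuleCat.of A' M)).obj
      ((E A A').obj (ModuleCat.of A N))) := hs0
  have hz'' : IsZero (((Tor (ModuleCat.{u} A') j).obj (ModuleCat.of A' M)).obj
      ((E A A').obj (ModuleCat.of A N))) := ModuleCat.isZero_of_subsingleton _
  exact hz''.of_iso (((Tor (ModuleCat.{u} A') j).obj (ModuleCat.of A' M)).mapIso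
    (Groth.Agent.S2380.bridge A A' (ModuleCat.of A N)).toModuleIso.symm)

/-- One variable: the tor dimension goes up by at most one. -/
theorem hasTorDimLE_polynomial (P : Type u) [CommRing P] (M : Type u) [AddCommGroup M]
    [Module P[X] M] [Module P M] [IsScalarTower P P[X] M] (d : ℕ)
    (h : DRing.HasTorDimLE P d M) : DRing.HasTorDimLE P[X] (d + 1) M := by
  intro N _ _ p hp
  let _ : Module P N := Module.compHom N (algebraMap P P[X])
  have : IsScalarTower P P[X] N := IsScalarTower.of_algebraMap_smul (fun _ _ => rfl)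
  have hE : ∀ j, d < j → IsZero (((Tor (ModuleCat.{u} P[X]) j).obj (ModuleCat.of P[X] M)).obj
      (ModuleCat.of P[X] (P[X] ⊗[P] N))) := fun j hj =>
    isZero_tor_extended P P[X] M N j (h N j hj)
  obtain ⟨n, rfl⟩ : ∃ n, p = n + 1 := ⟨p - 1, by omega⟩
  have hS := mkSC_shortExact (delta P N) (pi P N) (delta_injective P N) (pi_surjective P N)
    (exact_delta_pi P N)
  exact ModuleCat.subsingleton_of_isZero
    (isZero_tor₂_X₃ (ModuleCat.of P[X] M) _ hS n (hE (n + 1) (by omega)) (hE n (by omega)))

/-- Tor dimension is invariant under a ring isomorphism. -/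
theorem hasTorDimLE_of_bijective (Q Q' : Type u) [CommRing Q] [CommRing Q'] [Algebra Q Q']
    (hb : Function.Bijective (algebraMap Q Q')) (M : Type u) [AddCommGroup M] [Module Q' M]
    [Module Q M] [IsScalarTower Q Q' M] (d : ℕ) (h : DRing.HasTorDimLE Q d M) :
    DRing.HasTorDimLE Q' d M := by
  have : Module.Flat Q Q' :=
    Module.Flat.of_linearEquiv (LinearEquiv.ofBijective (Algebra.linearMap Q Q') hb).symm
  intro N _ _ p hp
  let _ : Module Q N := Module.compHom N (algebraMap Q Q')
  have : IsScalarTower Q Q' N := IsScalarTower.of_algebraMap_smul (fun _ _ => rfl)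
  have hz := isZero_tor_extended Q Q' M N p (h N p hp)
  -- `Q' ⊗[Q] N ≃ N`
  let π : Q' ⊗[Q] N →ₗ[Q'] N := (LinearMap.id : N →ₗ[Q] N).liftBaseChange Q'
  have hπ : ∀ z : Q' ⊗[Q] N, z = (1 : Q') ⊗ₜ[Q] π z := by
    intro z
    induction z using TensorProduct.induction_on with
    | zero => simp
    | tmul q n =>
      obtain ⟨a, rfl⟩ := hb.2 q
      simp only [π, LinearMap.liftBaseChange_tmul, LinearMap.id_coe, id_eq, algebraMap_smul]
      rw [← TensorProduct.smul_tmul, Algebra.smul_def, mul_one]
    | add a b ha hb' =>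
      rw [map_add, TensorProduct.tmul_add, ← ha, ← hb']
  have hinj : Function.Injective π := by
    rw [injective_iff_map_eq_zero]
    intro z hz
    rw [hπ z, hz, TensorProduct.tmul_zero]
  have hsurj : Function.Surjective π := fun n => ⟨1 ⊗ₜ n, by simp [π]⟩
  let e : Q' ⊗[Q] N ≃ₗ[Q'] N := LinearEquiv.ofBijective π ⟨hinj, hsurj⟩
  exact ModuleCat.subsingleton_of_isZero
    (hz.of_iso (((Tor (ModuleCat.{u} Q') p).obj (ModuleCat.of Q' M)).mapIso e.toModuleIso.symm))

/-- Several variables: the tor dimension goes up by at most the number of variables. -/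
theorem hasTorDimLE_mvPolynomial (A : Type u) [CommRing A] : ∀ (n : ℕ) (M : Type u)
    [AddCommGroup M] [Module (MvPolynomial (Fin n) A) M] [Module A M]
    [IsScalarTower A (MvPolynomial (Fin n) A) M] (d : ℕ),
    DRing.HasTorDimLE A d M → DRing.HasTorDimLE (MvPolynomial (Fin n) A) (d + n) M := by
  intro n
  induction n with
  | zero =>
    intro M _ _ _ _ d h
    refine hasTorDimLE_of_bijective A (MvPolynomial (Fin 0) A) ?_ M d h
    have : (algebraMap A (MvPolynomial (Fin 0) A) : A → MvPolynomial (Fin 0) A) =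
        (MvPolynomial.isEmptyAlgEquiv A (Fin 0)).symm := by
      funext a
      exact ((MvPolynomial.isEmptyAlgEquiv A (Fin 0)).symm.commutes a).symm
    rw [this]
    exact (MvPolynomial.isEmptyAlgEquiv A (Fin 0)).symm.bijective
  | succ n ih =>
    intro M _ _ _ _ d h
    let e : MvPolynomial (Fin (n + 1)) A ≃ₐ[A] (MvPolynomial (Fin n) A)[X] :=
      MvPolynomial.finSuccEquiv A n
    let _ : Module (MvPolynomial (Fin n) A)[X] M :=
      Module.compHom M (e.symm : (MvPolynomial (Fin n) A)[X] →+* MvPolynomial (Fin (n + 1)) A)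
    let _ : Module (MvPolynomial (Fin n) A) M :=
      Module.compHom M (algebraMap (MvPolynomial (Fin n) A) (MvPolynomial (Fin n) A)[X])
    have t1 : IsScalarTower (MvPolynomial (Fin n) A) (MvPolynomial (Fin n) A)[X] M :=
      IsScalarTower.of_algebraMap_smul (fun _ _ => rfl)
    have t2 : IsScalarTower A (MvPolynomial (Fin n) A) M := by
      refine IsScalarTower.of_algebraMap_smul (fun a m => ?_)
      show e.symm (algebraMap (MvPolynomial (Fin n) A) (MvPolynomial (Fin n) A)[X]
        (algebraMap A (MvPolynomial (Fin n) A) a)) • m = a • m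
      rw [← IsScalarTower.algebraMap_apply, e.symm.commutes, algebraMap_smul]
    have h1 : DRing.HasTorDimLE (MvPolynomial (Fin n) A) (d + n) M := ih M d h
    have h2 : DRing.HasTorDimLE (MvPolynomial (Fin n) A)[X] (d + n + 1) M :=
      hasTorDimLE_polynomial (MvPolynomial (Fin n) A) M (d + n) h1
    let _ : Algebra (MvPolynomial (Fin n) A)[X] (MvPolynomial (Fin (n + 1)) A) :=
      (e.symm : (MvPolynomial (Fin n) A)[X] →+* MvPolynomial (Fin (n + 1)) A).toAlgebra
    have t3 : IsScalarTower (MvPolynomial (Fin n) A)[X] (MvPolynomial (Fin (n + 1)) A) M :=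
      IsScalarTower.of_algebraMap_smul (fun _ _ => rfl)
    exact hasTorDimLE_of_bijective (MvPolynomial (Fin n) A)[X] (MvPolynomial (Fin (n + 1)) A)
      e.symm.bijective M _ h2

end Groth.Agent.Lib.T2H7.PolyTorB
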