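import Mathlib
import Groth.Prelude.Def_RegImm
import Groth.Prelude.Def_SheafNL
import Groth.Agent.Lib.T2H7NLc
import Groth.Agent.Lib.T2H7NLe
import Groth.Agent.Lib.T2H7PolyTorB
import Groth.Agent.Lib.T2H7FtdOpen
import Groth.Agent.Lib.Helper14TorSyz

/-!
# Tor-amplitude of the naive cotangent complex and lci, Noetherian finite tor dimension case
(T2 helper7)

* `hasPDLT_of_hasTorDimLE`: finite module over a Noetherian ring, tor dimension bounds projective
  dimension.
* `isKoszulRegularIdeal_of_flat_cotangent'`: Vasconcelos' criterion with finite projective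
  dimension of the ideal.
* `isLCI_of_hasTorAmp_of_finiteTorDim`.
-/

set_option autoImplicit false

universe u

open CategoryTheory CategoryTheory.Limits TensorProduct

attribute [local instance] HasDerivedCategory.standard

namespace Groth.Agent.Lib.T2H7.NLf

section Pd

variable {R : Type u} [CommRing R] [IsNoetherianRing R]

/-- over a Noetherian ring a finite module of tor dimension `≤ e` has projective dimension `≤ e` -/
theorem hasPDLT_of_hasTorDimLE : ∀ (e : ℕ) (M : Type u) [AddCommGroup M] [Module R M]
    [Module.Finite R M], DRing.HasTorDimLE R e M →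
    HasProjectiveDimensionLT (ModuleCat.of R M) (e + 1) := by
  intro e
  induction e with
  | zero =>
    intro M _ _ _ h
    have hfl : Module.Flat R M := (Groth.Agent.Lib.Helper1.TorDim.hasTorDimLE_zero_iff_flat M).1 h
    have hfp : Module.FinitePresentation R M := Module.finitePresentation_of_finite R M
    have hproj : Module.Projective R M := Module.Flat.projective_of_finitePresentation
    exact projective_iff_hasProjectiveDimensionLT_one.1
      ((IsProjective.iff_projective M).1 hproj)
  | succ e ih =>
    intro M _ _ _ h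
    obtain ⟨n, π, hπ⟩ := Module.Finite.exists_fin' R M
    have hK := Groth.Agent.Lib.Helper14.TorSyz.hasTorDimLE_ker (LinearMap.ker π).subtype π
      (Submodule.injective_subtype _) hπ (LinearMap.exact_subtype_ker_map π) e h
    have hKfin : Module.Finite R (LinearMap.ker π) := inferInstance
    have hpdK := ih (LinearMap.ker π) hK
    let S : ShortComplex (ModuleCat.{u} R) :=
      ShortComplex.mk (ModuleCat.ofHom (LinearMap.ker π).subtype) (ModuleCat.ofHom π)
        (by ext x; exact x.2)
    have hS : S.ShortExact := ModuleCat.shortComplex_shortExact S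
      (LinearMap.exact_subtype_ker_map π) (Submodule.injective_subtype _) hπ
    exact (hS.hasProjectiveDimensionLT_X₃_iff e
      ((IsProjective.iff_projective (Fin n → R)).1 inferInstance)).2 hpdK

end Pd

section Vasc

variable {P : Type u} [CommRing P] [IsNoetherianRing P]

/-- Vasconcelos: an ideal of finite projective dimension with flat conormal module in a
Noetherian ring is Koszul-regular -/
theorem isKoszulRegularIdeal_of_flat_cotangent' (J : Ideal P) (m : ℕ)
    (hpd : HasProjectiveDimensionLT (ModuleCat.of P J) m)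
    (hfl : Module.Flat (P ⧸ J) J.Cotangent) : LCI.IsKoszulRegularIdeal J := by
  have hfinP : Module.Finite P J.Cotangent :=
    Module.Finite.of_surjective J.toCotangent J.toCotangent_surjective
  have hfin : Module.Finite (P ⧸ J) J.Cotangent :=
    Module.Finite.of_restrictScalars_finite P (P ⧸ J) J.Cotangent
  have hfp : Module.FinitePresentation (P ⧸ J) J.Cotangent :=
    Module.finitePresentation_of_finite (P ⧸ J) J.Cotangent
  have hproj : Module.Projective (P ⧸ J) J.Cotangent :=
    Module.Flat.projective_of_finitePresentation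
  intro 𝔭 h𝔭
  obtain ⟨g, hg, rs, hreg, hof⟩ := Groth.Agent.S2189.result J m hpd 𝔭.asIdeal h𝔭
  refine ⟨g, hg, rs, ?_, hof.symm⟩
  exact Groth.Agent.Lib.T2H9.KoszulH1.isKoszulRegularSeq_of_isWeaklyRegular rs
    hreg.toIsWeaklyRegular

/-- the ideal has finite projective dimension when the quotient has finite tor dimension -/
theorem hasPDLT_ideal_of_hasTorDimLE (J : Ideal P) (e : ℕ) (h : DRing.HasTorDimLE P e (P ⧸ J)) :
    HasProjectiveDimensionLT (ModuleCat.of P J) (e + 1) := by
  have h1 := hasPDLT_of_hasTorDimLE e (P ⧸ J) h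
  let S : ShortComplex (ModuleCat.{u} P) :=
    ShortComplex.mk (ModuleCat.ofHom J.subtype) (ModuleCat.ofHom J.mkQ)
      (by ext x; exact (Submodule.Quotient.mk_eq_zero J).2 x.2)
  have hex : Function.Exact J.subtype J.mkQ := by
    intro x
    constructor
    · intro hx
      exact ⟨⟨x, (Submodule.Quotient.mk_eq_zero J).1 hx⟩, rfl⟩
    · rintro ⟨y, rfl⟩
      exact (Submodule.Quotient.mk_eq_zero J).2 y.2
  have hS : S.ShortExact := ModuleCat.shortComplex_shortExact S hex
    (Submodule.injective_subtype _) (Submodule.mkQ_surjective _)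
  have h2 : HasProjectiveDimensionLT S.X₂ (e + 1) := by
    have : Projective S.X₂ := (IsProjective.iff_projective P).1 inferInstance
    infer_instance
  have h3 : HasProjectiveDimensionLT S.X₃ (e + 1 + 1) :=
    hasProjectiveDimensionLT_of_ge _ (e + 1) (e + 1 + 1) (Nat.le_succ _)
  exact hS.hasProjectiveDimensionLT_X₁ (e + 1) h2 h3

end Vasc

section Main

variable {A B : Type u} [CommRing A] [CommRing B] [Algebra A B]

/-- tor-amplitude in `[-1,0]` of the naive cotangent complex forces the conormal module of any
presentation to be flat (index type in `Type`) -/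
theorem flat_cotangent_of_hasTorAmp₀ {ι : Type} (G : Algebra.Generators A B ι)
    (h : DRing.HasTorAmplitudeIn B (-1) 0 (LCI.NL A B)) :
    Module.Flat B G.toExtension.Cotangent := by
  obtain ⟨e⟩ := Groth.Agent.Lib.T2H7.NLc.nonempty_toD_cx_iso G
  have h' : DRing.HasTorAmplitudeIn B (-1) 0 (DRing.toD (NLCx.cx G.toExtension)) :=
    Groth.Agent.Lib.Helper1.Tor.hasTorAmp_of_iso e.symm h
  have hE : ∀ i : ℤ, i ≠ -1 → i ≠ 0 → IsZero ((NLCx.cx G.toExtension).X i) := fun i h1 h0 =>
    HomologicalComplex.isZero_double_X _ _ i h1 h0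
  have h0 : Module.Flat B ((NLCx.cx G.toExtension).X 0) :=
    Module.Flat.of_linearEquiv
      (HomologicalComplex.doubleXIso₁ (ModuleCat.ofHom G.toExtension.cotangentComplex)
        (show (ComplexShape.up ℤ).Rel (-1) 0 by simp) (by decide)).toLinearEquiv
  have h1 : Module.Flat B ((NLCx.cx G.toExtension).X (-1)) :=
    Groth.Agent.Lib.T2H2.NLBC4.flat_neg_one_of_hasTorAmp (NLCx.cx G.toExtension) hE h0 h'
  let e0 : ((NLCx.cx G.toExtension).X (-1)) ≃ₗ[B] G.toExtension.Cotangent :=
    (HomologicalComplex.doubleXIso₀ (ModuleCat.ofHom G.toExtension.cotangentComplex)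
      (show (ComplexShape.up ℤ).Rel (-1) 0 by simp)).toLinearEquiv
  exact @Module.Flat.of_linearEquiv B ((NLCx.cx G.toExtension).X (-1)) G.toExtension.Cotangent
    _ _ _ _ _ h1 e0.symm

/-- a finite type algebra of finite tor dimension over a Noetherian ring whose naive cotangent
complex has tor-amplitude in `[-1, 0]` is a local complete intersection -/
theorem isLCI_of_hasTorAmp_of_finiteTorDim [IsNoetherianRing A] [Algebra.FiniteType A B]
    (hB : DRing.HasFiniteTorDim A B)
    (h : DRing.HasTorAmplitudeIn B (-1) 0 (LCI.NL A B)) : LCI.IsLCI A B := by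
  have hft : Algebra.FiniteType A B := inferInstance
  obtain ⟨n, f, hf⟩ := Algebra.FiniteType.iff_quotient_mvPolynomial''.mp hft
  refine ⟨hft, n, f, hf, ?_⟩
  have hfl := flat_cotangent_of_hasTorAmp₀ (Groth.Agent.Lib.T2H7.NLc.gensOf f hf) h
  rw [Groth.Agent.Lib.T2H7.NLb.flat_cotangent_iff] at hfl
  have hfl' : Module.Flat (MvPolynomial (Fin n) A ⧸ RingHom.ker f.toRingHom)
      (RingHom.ker f.toRingHom).Cotangent := by
    rw [Groth.Agent.Lib.T2H7.NLc.gensOf_ker] at hfl
    exact hfl
  obtain ⟨d, hd⟩ := hB
  let e : (MvPolynomial (Fin n) A ⧸ RingHom.ker f.toRingHom) ≃ₐ[A] B :=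
    Ideal.quotientKerAlgEquivOfSurjective hf
  have hd' : DRing.HasTorDimLE A d (MvPolynomial (Fin n) A ⧸ RingHom.ker f.toRingHom) :=
    Groth.Agent.Lib.T2H7.FtdOpen.hasTorDimLE_of_linearEquiv e.symm.toLinearEquiv d hd
  have hd'' := Groth.Agent.Lib.T2H7.PolyTorB.hasTorDimLE_mvPolynomial A n
    (MvPolynomial (Fin n) A ⧸ RingHom.ker f.toRingHom) d hd'
  exact isKoszulRegularIdeal_of_flat_cotangent' _ _
    (hasPDLT_ideal_of_hasTorDimLE _ _ hd'') hfl'

end Main

end Groth.Agent.Lib.T2H7.NLf
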