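import Mathlib
import Groth.Prelude.Def_RegImm
import Groth.Agent.Lib.T2H7NLg
import Groth.Agent.Lib.T2H7SyntG

/-!
# Conormal modules of presentations of syntomic algebras are finite projective (T2 helper7)

* `isKoszulRegularIdeal_ker_of_isSyntomic`: any finite polynomial presentation of a syntomic
  algebra has Koszul-regular kernel.
* `finite_projective_cotangent`: its conormal module is finite projective.
* `finite_projective_localizedModule_cotangent_quot`: for `S = R[x]/I` and `g` with `S_g`
  syntomic, `(I/I²)_g` is finite projective over `S_g`.
-/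

set_option autoImplicit false

universe u

open TensorProduct

namespace Groth.Agent.Lib.T2H7.NLh

section Synt

variable {R S : Type u} [CommRing R] [CommRing S] [Algebra R S]

/-- the kernel of any finite polynomial presentation of a syntomic algebra is Koszul-regular -/
theorem isKoszulRegularIdeal_ker_of_isSyntomic (h : Synt.IsSyntomic R S) {m : ℕ}
    (f : MvPolynomial (Fin m) R →ₐ[R] S) (hf : Function.Surjective f) :
    LCI.IsKoszulRegularIdeal (RingHom.ker f.toRingHom) := by
  obtain ⟨hflat, hfp, hfib⟩ := h
  have hfg : (RingHom.ker f.toRingHom).FG := Algebra.FinitePresentation.ker_fG_of_surjective f hf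
  let e : (MvPolynomial (Fin m) R ⧸ RingHom.ker f.toRingHom) ≃ₐ[R] S :=
    Ideal.quotientKerAlgEquivOfSurjective hf
  have hflat' : Module.Flat R (MvPolynomial (Fin m) R ⧸ RingHom.ker f.toRingHom) :=
    Module.Flat.of_linearEquiv e.toLinearEquiv
  have hsyn : Synt.IsSyntomic R (MvPolynomial (Fin m) R ⧸ RingHom.ker f.toRingHom) :=
    Groth.Agent.Lib.T2H9.SyntComp.isSyntomic_of_algEquiv R S
      (MvPolynomial (Fin m) R ⧸ RingHom.ker f.toRingHom) e.symm ⟨hflat, hfp, hfib⟩
  exact Groth.Agent.Lib.T2H7.SyntG.isKoszulRegularIdeal_of_flat_of_fibres _ hfg hflat' hsyn.2.2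

/-- the conormal module of a presentation of a syntomic algebra in finitely many variables
(indexed by `Fin m`) is finite projective -/
theorem finite_projective_cotangent_fin (h : Synt.IsSyntomic R S) {m : ℕ}
    (Q : Algebra.Generators R S (Fin m)) :
    Module.Finite S Q.toExtension.Cotangent ∧ Module.Projective S Q.toExtension.Cotangent := by
  let f : MvPolynomial (Fin m) R →ₐ[R] S := IsScalarTower.toAlgHom R Q.toExtension.Ring S
  have hf : Function.Surjective f := Q.algebraMap_surjective
  have hK := isKoszulRegularIdeal_ker_of_isSyntomic h f hf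
  have hker : Q.toExtension.ker = RingHom.ker f.toRingHom := rfl
  constructor
  · apply Algebra.Extension.Cotangent.finite
    rw [hker]
    exact Groth.Agent.Lib.T2H7.SyntH.fg_of_isKoszulRegularIdeal _ hK
  · apply Groth.Agent.Lib.T2H7.NLg.projective_cotangent_of_ker
    apply Groth.Agent.Lib.T2H7.NLg.projective_cotangent_of_isKoszulRegularIdeal
    rw [hker]
    exact hK

/-- the conormal module of a presentation of a syntomic algebra in finitely many variables is
finite projective -/
theorem finite_projective_cotangent (h : Synt.IsSyntomic R S) {ι : Type} [Finite ι]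
    (Q : Algebra.Generators R S ι) :
    Module.Finite S Q.toExtension.Cotangent ∧ Module.Projective S Q.toExtension.Cotangent := by
  let e' : Fin (Nat.card ι) ≃ ι := (Finite.equivFin ι).symm
  let Q' : Algebra.Generators R S (Fin (Nat.card ι)) := Q.reindex e'
  obtain ⟨hfin, hproj⟩ := finite_projective_cotangent_fin h Q'
  let φ : Q.Hom Q' := ⟨fun i => MvPolynomial.X (e'.symm i), fun i => by
    rw [MvPolynomial.aeval_X]
    show Q.val (e' (e'.symm i)) = _
    rw [Equiv.apply_symm_apply]
    rfl⟩
  let ψ : Q'.Hom Q := ⟨fun j => MvPolynomial.X (e' j), fun j => by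
    rw [MvPolynomial.aeval_X]
    rfl⟩
  have hcomp : ψ.comp φ = Algebra.Generators.Hom.id Q := by
    ext i : 2
    show MvPolynomial.aeval ψ.val (φ.val i) = MvPolynomial.X i
    show MvPolynomial.aeval ψ.val (MvPolynomial.X (e'.symm i)) = MvPolynomial.X i
    rw [MvPolynomial.aeval_X]
    show MvPolynomial.X (e' (e'.symm i)) = MvPolynomial.X i
    rw [Equiv.apply_symm_apply]
  have hid : (Algebra.Extension.Cotangent.map ψ.toExtensionHom).comp
      (Algebra.Extension.Cotangent.map φ.toExtensionHom) = LinearMap.id := by
    have h1 := Algebra.Extension.Cotangent.map_comp (f := φ.toExtensionHom) (g := ψ.toExtensionHom)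
    rw [← Algebra.Generators.Hom.toExtensionHom_comp, hcomp,
      Algebra.Generators.Hom.toExtensionHom_id, Algebra.Extension.Cotangent.map_id] at h1
    rw [h1]
    rfl
  constructor
  · refine Module.Finite.of_surjective (Algebra.Extension.Cotangent.map ψ.toExtensionHom) ?_
    intro x
    exact ⟨Algebra.Extension.Cotangent.map φ.toExtensionHom x, LinearMap.congr_fun hid x⟩
  · exact Module.Projective.of_split (Algebra.Extension.Cotangent.map φ.toExtensionHom)
      (Algebra.Extension.Cotangent.map ψ.toExtensionHom) hid

end Synt

section Away

variable {R S : Type u} [CommRing R] [CommRing S] [Algebra R S]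

/-- the base change to a syntomic principal localization of the conormal module of a finite
presentation is finite projective -/
theorem finite_projective_tensor_cotangent {n : ℕ} (P : Algebra.Generators R S (Fin n)) (g : S)
    (T : Type u) [CommRing T] [Algebra R T] [Algebra S T] [IsScalarTower R S T]
    [IsLocalization.Away g T] (hT : Synt.IsSyntomic R T) :
    Module.Finite T (T ⊗[S] P.toExtension.Cotangent) ∧
      Module.Projective T (T ⊗[S] P.toExtension.Cotangent) := by
  obtain ⟨hfin, hproj⟩ := finite_projective_cotangent hT
    ((Algebra.Generators.localizationAway T g).comp P)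
  obtain ⟨x, hx⟩ := Algebra.Generators.Cotangent.surjective_map_ofComp
    (Algebra.Generators.localizationAway T g) P (Algebra.Generators.cMulXSubOneCotangent T g)
  let e := Algebra.Generators.cotangentCompLocalizationAwayEquiv g P hx
  let i : T ⊗[S] P.toExtension.Cotangent →ₗ[T]
      ((Algebra.Generators.localizationAway T g).comp P).toExtension.Cotangent :=
    e.symm.toLinearMap ∘ₗ LinearMap.inl T _ _
  let s : ((Algebra.Generators.localizationAway T g).comp P).toExtension.Cotangent →ₗ[T]
      T ⊗[S] P.toExtension.Cotangent :=
    LinearMap.fst T _ _ ∘ₗ e.toLinearMap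
  have hsi : s.comp i = LinearMap.id := by
    apply LinearMap.ext
    intro a
    show (e (e.symm (a, 0))).1 = a
    rw [LinearEquiv.apply_symm_apply]
  constructor
  · refine Module.Finite.of_surjective s ?_
    intro a
    exact ⟨i a, LinearMap.congr_fun hsi a⟩
  · exact Module.Projective.of_split i s hsi

/-- the localization of the conormal module of a finite presentation at an element with
syntomic principal localization is finite projective -/
theorem finite_projective_localizedModule_cotangent {n : ℕ} (P : Algebra.Generators R S (Fin n))
    (g : S) (hg : Synt.IsSyntomic R (Localization.Away g)) :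
    Module.Finite (Localization.Away g)
        (LocalizedModule (Submonoid.powers g) P.toExtension.Cotangent) ∧
      Module.Projective (Localization.Away g)
        (LocalizedModule (Submonoid.powers g) P.toExtension.Cotangent) := by
  obtain ⟨hfin, hproj⟩ := finite_projective_tensor_cotangent P g (Localization.Away g) hg
  have hbc : IsBaseChange (Localization.Away g)
      (LocalizedModule.mkLinearMap (Submonoid.powers g) P.toExtension.Cotangent) :=
    IsLocalizedModule.isBaseChange (Submonoid.powers g) (Localization.Away g) _
  exact ⟨Module.Finite.equiv hbc.equiv, Module.Projective.of_equiv' hbc.equiv⟩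

end Away

section Quot

variable {C : Type u} [CommRing C]

lemma nonempty_cotangent_equiv_of_eq (J K : Ideal C) (h : J = K) :
    Nonempty (J.Cotangent ≃ₗ[C] K.Cotangent) := by
  subst h
  exact ⟨LinearEquiv.refl _ _⟩

variable (R : Type u) [CommRing R] (n : ℕ) (I : Ideal (MvPolynomial (Fin n) R))

/-- the conormal module of an ideal of a polynomial ring agrees with that of the naive
presentation of the quotient -/
theorem nonempty_cotangent_equiv_naive :
    Nonempty (I.Cotangent ≃ₗ[MvPolynomial (Fin n) R ⧸ I]
      (Algebra.Generators.naive (R := R) (I := I)).toExtension.Cotangent) := by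
  have hker : (Algebra.Generators.naive (R := R) (I := I)).toExtension.ker = I := by
    have h0 : RingHom.ker (Ideal.Quotient.mk I) = I := Ideal.mk_ker
    exact h0
  obtain ⟨e₁⟩ := nonempty_cotangent_equiv_of_eq _ _ hker
  let e₂ := (Algebra.Generators.naive (R := R) (I := I)).toExtension.cotangentEquivCotangentKer
  let e₃ : I.Cotangent ≃ₗ[MvPolynomial (Fin n) R]
      (Algebra.Generators.naive (R := R) (I := I)).toExtension.Cotangent :=
    (e₂.trans e₁).symm
  exact ⟨LinearEquiv.extendScalarsOfSurjective Ideal.Quotient.mk_surjective e₃⟩

/-- the statement for the quotient of a polynomial ring -/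
theorem finite_projective_localizedModule_cotangent_quot
    (g : MvPolynomial (Fin n) R ⧸ I) (hg : Synt.IsSyntomic R (Localization.Away g)) :
    Module.Finite (Localization.Away g) (LocalizedModule (Submonoid.powers g) I.Cotangent) ∧
      Module.Projective (Localization.Away g)
        (LocalizedModule (Submonoid.powers g) I.Cotangent) := by
  obtain ⟨hfin, hproj⟩ := finite_projective_localizedModule_cotangent
    (Algebra.Generators.naive (R := R) (I := I)) g hg
  obtain ⟨e⟩ := nonempty_cotangent_equiv_naive R n I
  let e' := IsLocalizedModule.mapEquiv (Submonoid.powers g)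
    (LocalizedModule.mkLinearMap (Submonoid.powers g) I.Cotangent)
    (LocalizedModule.mkLinearMap (Submonoid.powers g)
      (Algebra.Generators.naive (R := R) (I := I)).toExtension.Cotangent)
    (Localization.Away g) e
  exact ⟨Module.Finite.equiv e'.symm, Module.Projective.of_equiv' e'.symm⟩

end Quot

end Groth.Agent.Lib.T2H7.NLh
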