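import Groth.Agent.Lib.Helper25OrbitLC
import Groth.Agent.Lib.Helper11KPts
import Groth.Agent.Lib.Helper12Act
import Groth.Agent.Lib.Helper12Cart
import Groth.Prelude.Def_W4c6nonredquotmfGoodQuot
import Mathlib
set_option autoImplicit false
set_option linter.unusedSectionVars false
set_option linter.unusedVariables false
set_option linter.style.haveILetI false
universe u
open CategoryTheory MonoidalCategory CartesianMonoidalCategory MonObj GrpObj AlgebraicGeometry Limits

namespace Groth.Agent.Lib.T2H7.NRQ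

section KPts

variable {k : Type u} [Field k]

/-- the underlying point of a `k`-point -/
noncomputable def pt {X : Over (Spec (CommRingCat.of k))}
    (x : 𝟙_ (Over (Spec (CommRingCat.of k))) ⟶ X) : ↥X.left :=
  x.left.base (IsLocalRing.closedPoint k)

variable {X Y : Over (Spec (CommRingCat.of k))}

theorem left_apply (x : 𝟙_ (Over (Spec (CommRingCat.of k))) ⟶ X)
    (t : ↥(Spec (CommRingCat.of k))) : x.left.base t = pt x := by
  unfold pt
  congr 1
  exact Subsingleton.elim (α := ↥(Spec (CommRingCat.of k))) _ _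

theorem pt_comp (x : 𝟙_ (Over (Spec (CommRingCat.of k))) ⟶ X) (f : X ⟶ Y) :
    pt (x ≫ f) = f.left.base (pt x) := rfl

theorem left_comp_hom (x : 𝟙_ (Over (Spec (CommRingCat.of k))) ⟶ X) :
    x.left ≫ X.hom = 𝟙 (Spec (CommRingCat.of k)) := Over.w x

theorem isClosedImmersion_left (x : 𝟙_ (Over (Spec (CommRingCat.of k))) ⟶ X) :
    IsClosedImmersion x.left :=
  isClosedImmersion_of_comp_eq_id X.hom x.left (left_comp_hom x)

theorem range_left (x : 𝟙_ (Over (Spec (CommRingCat.of k))) ⟶ X) :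
    Set.range x.left.base = {pt x} := by
  ext z
  constructor
  · rintro ⟨t, rfl⟩
    exact left_apply x t
  · rintro rfl
    exact ⟨_, rfl⟩

theorem isClosed_singleton_pt (x : 𝟙_ (Over (Spec (CommRingCat.of k))) ⟶ X) :
    IsClosed ({pt x} : Set X.left) := by
  haveI := isClosedImmersion_left x
  rw [← range_left]
  exact x.left.isClosedEmbedding.isClosed_range

theorem eq_of_pt_eq (x y : 𝟙_ (Over (Spec (CommRingCat.of k))) ⟶ X) (h : pt x = pt y) : x = y := by
  haveI := isClosedImmersion_left y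
  haveI : IsReduced (𝟙_ (Over (Spec (CommRingCat.of k)))).left :=
    inferInstanceAs (IsReduced (Spec (CommRingCat.of k)))
  obtain ⟨l, hl⟩ := Groth.Agent.Lib.Helper11KPts.exists_lift_closedImmersion x.left y.left (by
    show Set.range x.left.base ⊆ Set.range y.left.base
    rw [range_left, range_left, h])
  have hl1 : l = 𝟙 _ := by
    have := congrArg (· ≫ X.hom) hl
    simp only [Category.assoc, left_comp_hom] at this
    simpa using this
  apply Over.OverMorphism.ext
  rw [← hl, hl1, Category.id_comp]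

theorem exists_pt_mem [IsAlgClosed k] [LocallyOfFiniteType X.hom] (Z : Set X.left)
    (hZ : IsLocallyClosed Z) (hne : Z.Nonempty) :
    ∃ x : 𝟙_ (Over (Spec (CommRingCat.of k))) ⟶ X, pt x ∈ Z := by
  haveI hJ : JacobsonSpace ↥X.left := LocallyOfFiniteType.jacobsonSpace X.hom
  obtain ⟨z, hz1, hz2⟩ := nonempty_inter_closedPoints hne hZ
  have hz3 : IsClosed ({z} : Set X.left) := hz2
  refine ⟨Over.homMk (pointOfClosedPoint X.hom z hz3) (pointOfClosedPoint_comp X.hom z hz3), ?_⟩
  have : pt (Over.homMk (pointOfClosedPoint X.hom z hz3) (pointOfClosedPoint_comp X.hom z hz3) :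
      𝟙_ (Over (Spec (CommRingCat.of k))) ⟶ X) = z := pointOfClosedPoint_apply X.hom z hz3 _
  rw [this]
  exact hz1

end KPts


section Act

open Groth.Agent.Lib.Helper25.OrbitLC Groth.Agent.Lib.Helper25.TopGrp Groth.Agent.Lib.Helper12

variable {k : Type u} [Field k]
variable {G X Y : Over (Spec (CommRingCat.of k))} [GrpObj G] (a : AlgGrp.Action G X)

theorem trans_id : Groth.Agent.Lib.Helper25.OrbitLC.trans a (𝟙 G) = a.act := by
  unfold Groth.Agent.Lib.Helper25.OrbitLC.trans
  rw [Category.comp_id, lift_fst_snd, Category.id_comp]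

theorem isInvariantSet_orbit (x : 𝟙_ (Over (Spec (CommRingCat.of k))) ⟶ X) :
    NRQuot.IsInvariantSet a (Set.range (a.orbitMap x).left.base) := by
  intro p hp
  have := trans_mem_range a x (𝟙 G) p hp
  rwa [trans_id] at this

theorem isInvariantSet_closure_orbit (x : 𝟙_ (Over (Spec (CommRingCat.of k))) ⟶ X) :
    NRQuot.IsInvariantSet a (closure (Set.range (a.orbitMap x).left.base)) := by
  intro p hp
  have := trans_mem_closure_range a x (𝟙 G) p hp
  rwa [trans_id] at this

theorem pt_mem_orbit (x : 𝟙_ (Over (Spec (CommRingCat.of k))) ⟶ X) :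
    pt x ∈ Set.range (a.orbitMap x).left.base := by
  refine ⟨pt η[G], ?_⟩
  have h : η[G] ≫ a.orbitMap x = x := by
    rw [comp_orbitMap, toUnit_unique (toUnit _) (𝟙 _), Category.id_comp]
    exact act_one a x
  have h2 : pt x = pt (η[G] ≫ a.orbitMap x) := by rw [h]
  rw [h2]
  rfl

theorem IsInvariantSet.snd_mem {W : Set ↥X.left} (hW : NRQuot.IsInvariantSet a W)
    (p : ↥(G ⊗ X).left) (hp : a.act.left.base p ∈ W) : (snd G X).left.base p ∈ W := by
  have h := lift_inv_act_act a
  have h2 : (snd G X).left.base p =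
      a.act.left.base ((lift (fst G X)⁻¹ a.act).left.base p) := by
    rw [← h]; rfl
  rw [h2]
  apply hW
  have h3 : (snd G X).left.base ((lift (fst G X)⁻¹ a.act).left.base p) = a.act.left.base p := by
    change ((lift (fst G X)⁻¹ a.act) ≫ snd G X).left.base p = _
    rw [lift_snd]
  rw [h3]
  exact hp

theorem orbit_subset_of_isInvariantSet {W : Set ↥X.left} (hW : NRQuot.IsInvariantSet a W)
    (x : 𝟙_ (Over (Spec (CommRingCat.of k))) ⟶ X) (hx : pt x ∈ W) :
    Set.range (a.orbitMap x).left.base ⊆ W := by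
  rintro _ ⟨g, rfl⟩
  unfold AlgGrp.Action.orbitMap
  change a.act.left.base ((lift (𝟙 G) (toUnit G ≫ x)).left.base g) ∈ W
  apply hW
  have h3 : (snd G X).left.base ((lift (𝟙 G) (toUnit G ≫ x)).left.base g) = pt x := by
    change ((lift (𝟙 G) (toUnit G ≫ x)) ≫ snd G X).left.base g = _
    rw [lift_snd]
    exact left_apply x _
  rw [h3]
  exact hx

theorem orbitMap_comp_of_isInvariant (φ : X ⟶ Y) (hφ : GIT.IsInvariant a φ)
    (x : 𝟙_ (Over (Spec (CommRingCat.of k))) ⟶ X) :
    a.orbitMap x ≫ φ = toUnit G ≫ x ≫ φ := by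
  unfold AlgGrp.Action.orbitMap
  rw [Category.assoc, hφ, ← Category.assoc, lift_snd, Category.assoc]

theorem orbit_subset_fibre (φ : X ⟶ Y) (hφ : GIT.IsInvariant a φ)
    (x : 𝟙_ (Over (Spec (CommRingCat.of k))) ⟶ X) :
    Set.range (a.orbitMap x).left.base ⊆ φ.left.base ⁻¹' {pt (x ≫ φ)} := by
  rintro _ ⟨g, rfl⟩
  change (a.orbitMap x ≫ φ).left.base g = _
  rw [orbitMap_comp_of_isInvariant a φ hφ]
  exact left_apply (x ≫ φ) _

theorem closure_orbit_subset_fibre (φ : X ⟶ Y) (hφ : GIT.IsInvariant a φ)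
    (x : 𝟙_ (Over (Spec (CommRingCat.of k))) ⟶ X) :
    closure (Set.range (a.orbitMap x).left.base) ⊆ φ.left.base ⁻¹' {pt (x ≫ φ)} :=
  closure_minimal (orbit_subset_fibre a φ hφ x)
    ((isClosed_singleton_pt (x ≫ φ)).preimage φ.left.base.hom.continuous)

end Act


section Good

open Groth.Agent.Lib.Helper25.OrbitLC Groth.Agent.Lib.Helper25.TopGrp Groth.Agent.Lib.Helper12

variable {k : Type u} [Field k]
variable {G X Y : Over (Spec (CommRingCat.of k))} [GrpObj G] {a : AlgGrp.Action G X} {φ : X ⟶ Y}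

theorem closure_orbit_inter_nonempty_iff (h : NRQuot.IsGoodQuot a φ)
    (x₁ x₂ : 𝟙_ (Over (Spec (CommRingCat.of k))) ⟶ X) :
    (closure (Set.range (a.orbitMap x₁).left.base) ∩
      closure (Set.range (a.orbitMap x₂).left.base)).Nonempty ↔ x₁ ≫ φ = x₂ ≫ φ := by
  constructor
  · rintro ⟨p, hp1, hp2⟩
    apply eq_of_pt_eq
    have e1 := closure_orbit_subset_fibre a φ h.inv x₁ hp1
    have e2 := closure_orbit_subset_fibre a φ h.inv x₂ hp2
    simp only [Set.mem_preimage, Set.mem_singleton_iff] at e1 e2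
    rw [← e1, ← e2]
  · intro hy
    let W : ULift.{u} Bool → Set ↥X.left := fun i =>
      if i.down then closure (Set.range (a.orbitMap x₁).left.base)
      else closure (Set.range (a.orbitMap x₂).left.base)
    have hWc : ∀ i, IsClosed (W i) := by
      rintro ⟨_ | _⟩ <;> exact isClosed_closure
    have hWi : ∀ i, NRQuot.IsInvariantSet a (W i) := by
      rintro ⟨_ | _⟩
      · exact isInvariantSet_closure_orbit a x₂
      · exact isInvariantSet_closure_orbit a x₁
    have hint := h.inter (ULift.{u} Bool) W hWc hWi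
    have hmem : pt (x₁ ≫ φ) ∈ ⋂ i, φ.left.base '' (W i) := by
      rw [Set.mem_iInter]
      rintro ⟨_ | _⟩
      · rw [hy]
        exact ⟨pt x₂, subset_closure (pt_mem_orbit a x₂), rfl⟩
      · exact ⟨pt x₁, subset_closure (pt_mem_orbit a x₁), rfl⟩
    rw [← hint] at hmem
    obtain ⟨p, hp, -⟩ := hmem
    rw [Set.mem_iInter] at hp
    exact ⟨p, hp ⟨true⟩, hp ⟨false⟩⟩

end Good


section Pts

open Groth.Agent.Lib.Helper25.OrbitLC Groth.Agent.Lib.Helper25.TopGrp Groth.Agent.Lib.Helper12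

variable {k : Type u} [Field k] [IsAlgClosed k]
variable {G X Y : Over (Spec (CommRingCat.of k))} [GrpObj G] (a : AlgGrp.Action G X)

theorem comp_orbitMap_unit (g : 𝟙_ (Over (Spec (CommRingCat.of k))) ⟶ G)
    (x : 𝟙_ (Over (Spec (CommRingCat.of k))) ⟶ X) :
    g ≫ a.orbitMap x = lift g x ≫ a.act := by
  rw [comp_orbitMap, toUnit_unique (toUnit _) (𝟙 _), Category.id_comp]

/-- a `k`-point in the orbit of `x` is a translate of `x` by a `k`-point of `G` -/
theorem exists_act_eq_of_pt_mem_orbit [LocallyOfFiniteType G.hom]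
    (x x₀ : 𝟙_ (Over (Spec (CommRingCat.of k))) ⟶ X)
    (h : pt x₀ ∈ Set.range (a.orbitMap x).left.base) :
    ∃ g : 𝟙_ (Over (Spec (CommRingCat.of k))) ⟶ G, lift g x ≫ a.act = x₀ := by
  have hcl : IsClosed ((a.orbitMap x).left.base ⁻¹' {pt x₀}) :=
    (isClosed_singleton_pt x₀).preimage (a.orbitMap x).left.base.hom.continuous
  obtain ⟨g₀, hg₀⟩ := h
  obtain ⟨g, hg⟩ := exists_pt_mem (X := G) _ hcl.isLocallyClosed ⟨g₀, hg₀⟩
  refine ⟨g, ?_⟩
  rw [← comp_orbitMap_unit]
  apply eq_of_pt_eq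
  exact hg

theorem exists_act_eq_of_orbits_meet [LocallyOfFiniteType G.hom] [LocallyOfFiniteType X.hom]
    (x₁ x₂ : 𝟙_ (Over (Spec (CommRingCat.of k))) ⟶ X)
    (hlc : IsLocallyClosed (Set.range (a.orbitMap x₁).left.base ∩
      Set.range (a.orbitMap x₂).left.base))
    (hne : (Set.range (a.orbitMap x₁).left.base ∩ Set.range (a.orbitMap x₂).left.base).Nonempty) :
    ∃ g : 𝟙_ (Over (Spec (CommRingCat.of k))) ⟶ G, lift g x₁ ≫ a.act = x₂ := by
  obtain ⟨x₀, hx₀⟩ := exists_pt_mem (X := X) _ hlc hne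
  obtain ⟨g₁, hg₁⟩ := exists_act_eq_of_pt_mem_orbit a x₁ x₀ hx₀.1
  obtain ⟨g₂, hg₂⟩ := exists_act_eq_of_pt_mem_orbit a x₂ x₀ hx₀.2
  refine ⟨g₂⁻¹ * g₁, ?_⟩
  rw [act_mul, hg₁, ← hg₂, ← act_mul, inv_mul_cancel, act_one]

end Pts

end Groth.Agent.Lib.T2H7.NRQ
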