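import Groth.Agent.Lib.T2H7NRQ
set_option autoImplicit false
set_option linter.unusedSectionVars false
set_option linter.unusedVariables false
set_option linter.style.haveILetI false
universe u
open CategoryTheory MonoidalCategory CartesianMonoidalCategory MonObj GrpObj AlgebraicGeometry Limits
open TopologicalSpace

namespace Groth.Agent.Lib.T2H7.NRQB

open Groth.Agent.Lib.T2H7.NRQ

section Top

variable {α : Type*} [TopologicalSpace α]

/-- minimal closed sets with a property inside a closed subset of a Noetherian subspace -/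
theorem exists_minimal_closed (N : Set α) [NoetherianSpace ↥N] (P : Set α → Prop)
    (F : Set α) (hFN : F ⊆ N) (hFc : IsClosed F) (hPF : P F) :
    ∃ M : Set α, M ⊆ F ∧ IsClosed M ∧ P M ∧
      ∀ M' : Set α, M' ⊆ M → IsClosed M' → P M' → M' = M := by
  let 𝒮 : Set (Closeds ↥N) :=
    {Z | ∃ M : Set α, M ⊆ F ∧ IsClosed M ∧ P M ∧ (Z : Set ↥N) = Subtype.val ⁻¹' M}
  have hne : 𝒮.Nonempty :=
    ⟨⟨Subtype.val ⁻¹' F, hFc.preimage continuous_subtype_val⟩, F, subset_rfl, hFc, hPF, rfl⟩
  obtain ⟨Z, ⟨M, hMF, hMc, hPM, hZM⟩, hmin⟩ :=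
    (wellFounded_lt (α := Closeds ↥N)).has_min 𝒮 hne
  refine ⟨M, hMF, hMc, hPM, fun M' hM'M hM'c hPM' => ?_⟩
  let Z' : Closeds ↥N := ⟨Subtype.val ⁻¹' M', hM'c.preimage continuous_subtype_val⟩
  have hZ' : Z' ∈ 𝒮 := ⟨M', hM'M.trans hMF, hM'c, hPM', rfl⟩
  have hle : Z' ≤ Z := by
    intro z hz
    have : z ∈ (Z : Set ↥N) := by rw [hZM]; exact hM'M hz
    exact this
  have hnlt := hmin Z' hZ'
  have heq : Z' = Z := by
    by_contra hne'
    exact hnlt (lt_of_le_of_ne hle hne')
  apply Set.Subset.antisymm hM'M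
  intro m hm
  have hmN : m ∈ N := hFN (hMF hm)
  have : (⟨m, hmN⟩ : ↥N) ∈ (Z : Set ↥N) := by rw [hZM]; exact hm
  rw [← heq] at this
  exact this

end Top


section Orb

open Groth.Agent.Lib.Helper25.OrbitLC Groth.Agent.Lib.Helper25.TopGrp Groth.Agent.Lib.Helper12

variable {k : Type u} [Field k]
variable {G X Y : Over (Spec (CommRingCat.of k))} [GrpObj G] (a : AlgGrp.Action G X)

/-- orbits of rational points are locally closed (no quasi-compactness of `X` needed) -/
theorem isLocallyClosed_orbit [CompactSpace G.left] [LocallyOfFiniteType G.hom]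
    [LocallyOfFiniteType X.hom] (x : 𝟙_ (Over (Spec (CommRingCat.of k))) ⟶ X) :
    IsLocallyClosed (Set.range (a.orbitMap x).left.base) := by
  have hXn : IsLocallyNoetherian X.left := LocallyOfFiniteType.isLocallyNoetherian X.hom
  have hqs : QuasiSeparatedSpace ↥X.left := inferInstance
  have hqc : QuasiCompact (a.orbitMap x).left := inferInstance
  have hoft : LocallyOfFiniteType (a.orbitMap x).left := by
    have : LocallyOfFiniteType ((a.orbitMap x).left ≫ X.hom) := by
      rw [Over.w]; infer_instance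
    exact locallyOfFiniteType_of_comp (a.orbitMap x).left X.hom
  have hcons : Topology.IsConstructible (Set.range (a.orbitMap x).left) := by
    have h1 : Topology.IsLocallyConstructible (Set.range (a.orbitMap x).left) := by
      rw [← Set.image_univ]
      exact (a.orbitMap x).left.isLocallyConstructible_image Topology.IsLocallyConstructible.univ
    exact h1.isConstructible_of_subset_of_isCompact subset_rfl
      (isCompact_range (a.orbitMap x).left.continuous)
  have hne : (Set.range (a.orbitMap x).left).Nonempty := ⟨_, pt_mem_orbit a x⟩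
  obtain ⟨V, hV, hVne, hVsub⟩ := (IsFinLC.of_isConstructible hcons).exists_isOpen hne
  exact isLocallyClosed_range_orbitMap_of_exists_isOpen a x
    (fun s s' => Subsingleton.elim _ _) V hV hVne hVsub

/-- the boundary of an orbit is a closed invariant set -/
theorem isClosed_closure_diff_orbit [CompactSpace G.left] [LocallyOfFiniteType G.hom]
    [LocallyOfFiniteType X.hom] (x : 𝟙_ (Over (Spec (CommRingCat.of k))) ⟶ X) :
    IsClosed (closure (Set.range (a.orbitMap x).left.base) \ Set.range (a.orbitMap x).left.base) := by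
  have h := (isLocallyClosed_orbit a x).isOpen_coborder
  rw [coborder] at h
  exact isOpen_compl_iff.mp h

theorem isInvariantSet_closure_diff_orbit (x : 𝟙_ (Over (Spec (CommRingCat.of k))) ⟶ X) :
    NRQuot.IsInvariantSet a
      (closure (Set.range (a.orbitMap x).left.base) \ Set.range (a.orbitMap x).left.base) := by
  intro p hp
  refine ⟨isInvariantSet_closure_orbit a x p hp.1, fun hq => hp.2 ?_⟩
  exact IsInvariantSet.snd_mem a (isInvariantSet_orbit a x) p hq

end Orb


section Main

open Groth.Agent.Lib.Helper25.OrbitLC Groth.Agent.Lib.Helper25.TopGrp Groth.Agent.Lib.Helper12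

variable {k : Type u} [Field k]
variable {G X Y : Over (Spec (CommRingCat.of k))} [GrpObj G] {a : AlgGrp.Action G X} {φ : X ⟶ Y}

theorem surjective_of_isGoodQuot (h : NRQuot.IsGoodQuot a φ) : Function.Surjective φ.left.base := by
  have h1 := h.inter PEmpty (fun i => i.elim) (fun i => i.elim) (fun i => i.elim)
  simp only [Set.iInter_of_empty, Set.image_univ] at h1
  exact Set.range_eq_univ.mp h1

theorem isInvariantSet_preimage (h : GIT.IsInvariant a φ) (s : Set ↥Y.left) :
    NRQuot.IsInvariantSet a (φ.left.base ⁻¹' s) := by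
  intro p hp
  simp only [Set.mem_preimage] at hp ⊢
  have h2 := h.left
  have h3 : (a.act.left ≫ φ.left).base p = ((snd G X).left ≫ φ.left).base p := by rw [h2]
  simp only [Scheme.Hom.comp_base, TopCat.comp_app] at h3
  rw [h3]
  exact hp

theorem exists_closed_orbit [IsAlgClosed k] [IsAffine G.left] [LocallyOfFiniteType G.hom]
    [LocallyOfFiniteType X.hom] (h : NRQuot.IsGoodQuot a φ)
    (y : 𝟙_ (Over (Spec (CommRingCat.of k))) ⟶ Y) :
    ∃ x : 𝟙_ (Over (Spec (CommRingCat.of k))) ⟶ X, x ≫ φ = y ∧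
      IsClosed (Set.range (a.orbitMap x).left.base) := by
  haveI := h.affine
  haveI hXn : IsLocallyNoetherian X.left := LocallyOfFiniteType.isLocallyNoetherian X.hom
  obtain ⟨_, ⟨V, hV, rfl⟩, hyV, -⟩ := Y.left.isBasis_affineOpens.exists_subset_of_mem_open
    (Set.mem_univ (pt y)) isOpen_univ
  replace hV : IsAffineOpen V := hV
  have hX' : IsAffineOpen (φ.left ⁻¹ᵁ V) := hV.preimage φ.left
  haveI : IsNoetherianRing Γ(X.left, φ.left ⁻¹ᵁ V) :=
    IsLocallyNoetherian.component_noetherian ⟨φ.left ⁻¹ᵁ V, hX'⟩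
  haveI hN : NoetherianSpace ↥((φ.left ⁻¹ᵁ V : X.left.Opens) : Set ↥X.left) :=
    noetherianSpace_of_isAffineOpen (φ.left ⁻¹ᵁ V) hX'
  -- the fibre
  have hFc : IsClosed (φ.left.base ⁻¹' {pt y}) :=
    (isClosed_singleton_pt y).preimage φ.left.base.hom.continuous
  have hFN : φ.left.base ⁻¹' {pt y} ⊆ ((φ.left ⁻¹ᵁ V : X.left.Opens) : Set ↥X.left) := by
    intro z hz
    simp only [Set.mem_preimage, Set.mem_singleton_iff] at hz
    show φ.left.base z ∈ V
    rw [hz]; exact hyV
  have hFi : NRQuot.IsInvariantSet a (φ.left.base ⁻¹' {pt y}) := isInvariantSet_preimage h.inv _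
  have hFne : (φ.left.base ⁻¹' {pt y}).Nonempty := by
    obtain ⟨z, hz⟩ := surjective_of_isGoodQuot h (pt y)
    exact ⟨z, hz⟩
  obtain ⟨M, hMF, hMc, ⟨hMi, hMne⟩, hMmin⟩ := exists_minimal_closed
    ((φ.left ⁻¹ᵁ V : X.left.Opens) : Set ↥X.left)
    (fun M => NRQuot.IsInvariantSet a M ∧ M.Nonempty) _ hFN hFc ⟨hFi, hFne⟩
  obtain ⟨x, hxM⟩ := exists_pt_mem (X := X) M hMc.isLocallyClosed hMne
  have hOM : Set.range (a.orbitMap x).left.base ⊆ M := orbit_subset_of_isInvariantSet a hMi x hxM
  have hCM : closure (Set.range (a.orbitMap x).left.base) ⊆ M := closure_minimal hOM hMc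
  haveI : CompactSpace ↥G.left := inferInstance
  have hD : closure (Set.range (a.orbitMap x).left.base) \ Set.range (a.orbitMap x).left.base = ∅ := by
    by_contra hne
    have hDne : (closure (Set.range (a.orbitMap x).left.base) \
        Set.range (a.orbitMap x).left.base).Nonempty := Set.nonempty_iff_ne_empty.mpr hne
    have := hMmin _ (Set.sdiff_subset.trans hCM) (isClosed_closure_diff_orbit a x)
      ⟨isInvariantSet_closure_diff_orbit a x, hDne⟩
    rw [← this] at hxM
    exact hxM.2 (pt_mem_orbit a x)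
  refine ⟨x, ?_, ?_⟩
  · apply eq_of_pt_eq
    exact hMF hxM
  · have : closure (Set.range (a.orbitMap x).left.base) ⊆ Set.range (a.orbitMap x).left.base :=
      Set.sdiff_eq_empty.mp hD
    exact closure_subset_iff_isClosed.mp this

theorem exists_unique_closed_orbit [IsAlgClosed k] [IsAffine G.left] [LocallyOfFiniteType G.hom]
    [LocallyOfFiniteType X.hom] (h : NRQuot.IsGoodQuot a φ)
    (y : 𝟙_ (Over (Spec (CommRingCat.of k))) ⟶ Y) :
    ∃ x : 𝟙_ (Over (Spec (CommRingCat.of k))) ⟶ X, x ≫ φ = y ∧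
      IsClosed (Set.range (a.orbitMap x).left.base) ∧
      ∀ x' : 𝟙_ (Over (Spec (CommRingCat.of k))) ⟶ X, x' ≫ φ = y →
        IsClosed (Set.range (a.orbitMap x').left.base) →
        ∃ g : 𝟙_ (Over (Spec (CommRingCat.of k))) ⟶ G, lift g x ≫ a.act = x' := by
  obtain ⟨x, hxy, hxc⟩ := exists_closed_orbit h y
  refine ⟨x, hxy, hxc, fun x' hx'y hx'c => ?_⟩
  have hne := (closure_orbit_inter_nonempty_iff h x x').mpr (hxy.trans hx'y.symm)
  rw [hxc.closure_eq, hx'c.closure_eq] at hne
  exact exists_act_eq_of_orbits_meet a x x' (hxc.inter hx'c).isLocallyClosed hne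

end Main

end Groth.Agent.Lib.T2H7.NRQB
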