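import Mathlib
import Groth.Prelude.Def_AutSch
import Groth.Agent.S5322
import Groth.Agent.Lib.Helper12TorsorDescent
import Groth.Agent.Lib.Helper25IdComp

/-!
Helper library (helper7): the neutral components of the fibres of a group scheme are contained in `V · V`
for every open neighbourhood `V` of the unit section; quasi-compactness consequences.
-/

set_option autoImplicit false
set_option linter.unusedSectionVars false
set_option linter.unusedVariables false
set_option linter.style.haveILetI false
universe u
open CategoryTheory CategoryTheory.Limits AlgebraicGeometry TopologicalSpace Opposite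
open MonoidalCategory CartesianMonoidalCategory MonObj

namespace Groth.Agent.Lib.T2H7.NeutralQC

open Groth.Agent.Lib.Helper25.IdComp Groth.Agent.Lib.Helper25.TopGrp

section bc

variable {S S' : Scheme.{u}} (f : S' ⟶ S) (G : Over S) [GrpObj G]

/-- the projection from the base change. -/
noncomputable abbrev q : (Red.bc f G).left ⟶ G.left := pullback.fst G.hom f

theorem map_left_fst {A B : Over S} (φ : A ⟶ B) :
    ((Over.pullback f).map φ).left ≫ pullback.fst B.hom f = pullback.fst A.hom f ≫ φ.left :=
  (Groth.Agent.Lib.Helper12.TorsorDescent.isPullback_pullback_map f φ).w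

/-- the comparison `G' × G' ⟶ G × G`. -/
noncomputable def cmp : (Red.bc f G ⊗ Red.bc f G).left ⟶ (G ⊗ G).left :=
  (Functor.LaxMonoidal.μ (Over.pullback f) G G).left ≫ pullback.fst (G ⊗ G).hom f

theorem cmp_fst : cmp f G ≫ (fst G G).left = (fst (Red.bc f G) (Red.bc f G)).left ≫ q f G := by
  unfold cmp
  rw [Category.assoc, ← map_left_fst, ← Category.assoc, ← Over.comp_left, Functor.Monoidal.μ_fst]

theorem cmp_snd : cmp f G ≫ (snd G G).left = (snd (Red.bc f G) (Red.bc f G)).left ≫ q f G := by
  unfold cmp
  rw [Category.assoc, ← map_left_fst, ← Category.assoc, ← Over.comp_left, Functor.Monoidal.μ_snd]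

theorem cmp_mul : cmp f G ≫ μ[G].left = μ[Red.bc f G].left ≫ q f G := by
  have h1 : μ[Red.bc f G] = Functor.LaxMonoidal.μ (Over.pullback f) G G ≫ (Over.pullback f).map μ[G] :=
    rfl
  unfold cmp
  rw [Category.assoc, ← map_left_fst, ← Category.assoc, ← Over.comp_left, ← h1]

theorem unit_q : η[Red.bc f G].left ≫ q f G = f ≫ η[G].left := by
  have h1 : η[Red.bc f G] = Functor.LaxMonoidal.ε (Over.pullback f) ≫ (Over.pullback f).map η[G] := rfl
  rw [h1, Over.comp_left, Category.assoc]
  simp only [Over.pullback_map_left]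
  rw [pullback.lift_fst]
  have h2 := Over.w (Functor.LaxMonoidal.ε (Over.pullback f))
  have h3 : (Functor.LaxMonoidal.ε (Over.pullback f)).left ≫
      pullback.fst (𝟙_ (Over S)).hom f = f := by
    have hc := pullback.condition (f := (𝟙_ (Over S)).hom) (g := f)
    have h4 : pullback.fst (𝟙_ (Over S)).hom f = pullback.snd (𝟙_ (Over S)).hom f ≫ f := by
      rw [← hc]
      exact (Category.comp_id _).symm
    rw [h4, ← Category.assoc]
    have h5 : (Functor.LaxMonoidal.ε (Over.pullback f)).left ≫
        pullback.snd (𝟙_ (Over S)).hom f = 𝟙 _ := h2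
    rw [h5, Category.id_comp]
  rw [← Category.assoc, h3]

end bc

section main

variable {S : Scheme.{u}} (G : Over S) [GrpObj G]

/-- pointwise product of subsets of a group scheme over any base. -/
def pm (A B : Set G.left) : Set G.left :=
  μ[G].left '' ((fst G G).left ⁻¹' A ∩ (snd G G).left ⁻¹' B)

/-- the neutral components of the fibres lie in `W · W` for any open neighbourhood `W` of the unit
section. -/
theorem neutralSet_subset_pm (W : Set G.left) (hW : IsOpen W) (hη : Set.range η[G].left ⊆ W) :
    SGA3x.neutralSet G ⊆ pm G W W := by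
  intro x hx
  set s : S := G.hom x with hs
  let K := S.residueField s
  let Ω := AlgebraicClosure K
  let f : Spec (CommRingCat.of Ω) ⟶ S :=
    Spec.map (CommRingCat.ofHom (algebraMap K Ω)) ≫ S.fromSpecResidueField s
  obtain ⟨pt'⟩ : Nonempty (Spec (CommRingCat.of Ω)) := inferInstance
  have hpt : f pt' = s := by
    rw [Scheme.Hom.comp_apply]
    exact Scheme.fromSpecResidueField_apply s _
  obtain ⟨x', hx'1, -⟩ := Scheme.Pullback.exists_preimage_pullback (f := G.hom) (g := f) x pt'
    (by rw [hpt])
  have h1 : x' ∈ SGA3x.neutralSet (Red.bc f G) := by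
    rw [Groth.Agent.S5322.result S _ f G]
    change pullback.fst G.hom f x' ∈ SGA3x.neutralSet G
    rw [hx'1]
    exact hx
  rw [AutSch.neutralSet_eq_connectedComponent] at h1
  have h2 : x' ∈ idComp (Red.bc f G) := by
    rw [← connectedComponent_ePt]
    exact h1
  set W' : Set (Red.bc f G).left := (q f G) ⁻¹' W with hW'def
  have hW' : IsOpen W' := hW.preimage (q f G).continuous
  have heW' : ePt (Red.bc f G) ∈ W' := by
    change q f G (η[Red.bc f G].left _) ∈ W
    rw [← Scheme.Hom.comp_apply, unit_q, Scheme.Hom.comp_apply]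
    exact hη ⟨_, rfl⟩
  obtain ⟨w', ⟨⟨hw1, -⟩, ⟨hw2, -⟩⟩, hw3⟩ :=
    idComp_subset_pmul_inter W' hW' ⟨_, heW', ePt_mem_idComp _⟩ h2
  refine ⟨cmp f G w', ⟨?_, ?_⟩, ?_⟩
  · change (cmp f G ≫ (fst G G).left) w' ∈ W
    rw [cmp_fst]
    exact hw1
  · change (cmp f G ≫ (snd G G).left) w' ∈ W
    rw [cmp_snd]
    exact hw2
  · change (cmp f G ≫ μ[G].left) w' = x
    rw [cmp_mul, Scheme.Hom.comp_apply, hw3]
    exact hx'1

/-- over a quasi-compact quasi-separated base some quasi-compact open contains the neutral components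
of the fibres. -/
theorem exists_isCompact_opens_neutralSet [CompactSpace S] [QuasiSeparatedSpace S] :
    ∃ U : G.left.Opens, IsCompact (U : Set G.left) ∧ SGA3x.neutralSet G ⊆ U := by
  haveI : CompactSpace (𝟙_ (Over S)).left := inferInstanceAs (CompactSpace S)
  have hc : IsCompact (Set.range η[G].left) := isCompact_range η[G].left.continuous
  obtain ⟨V, hVc, hηV, -⟩ := exists_isCompact_opens_between (Set.range η[G].left) Set.univ hc
    isOpen_univ (Set.subset_univ _)
  have hK : IsCompact (pm G (V : Set G.left) (V : Set G.left)) :=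
    (isCompact_fst_preimage_inter_snd_preimage (G := G) V V hVc hVc).image μ[G].left.continuous
  obtain ⟨U, hUc, hKU, -⟩ := exists_isCompact_opens_between _ Set.univ hK isOpen_univ
    (Set.subset_univ _)
  exact ⟨U, hUc, (neutralSet_subset_pm G V V.isOpen hηV).trans hKU⟩

end main

section conn

variable {S : Scheme.{u}} (G : Over S) [GrpObj G]

theorem neutralSet_eq_univ (hconn : ∀ s : S, _root_.IsConnected (G.hom.base ⁻¹' {s})) :
    SGA3x.neutralSet G = Set.univ := by
  apply Set.eq_univ_of_forall
  intro x
  simp only [SGA3x.neutralSet, Set.mem_iUnion]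
  refine ⟨G.hom x, ?_⟩
  have hmem : η[G].left.base (G.hom x) ∈ G.hom.base ⁻¹' {(𝟙_ (Over S)).hom.base (G.hom x)} := by
    change G.hom (η[G].left (G.hom x)) = (𝟙_ (Over S)).hom (G.hom x)
    rw [← Scheme.Hom.comp_apply, Over.w η[G]]
  rw [(hconn _).isPreconnected.connectedComponentIn hmem]
  rfl

/-- a group scheme with connected fibres is quasi-compact over the base. -/
theorem quasiCompact_of_connected_fibres
    (hconn : ∀ s : S, _root_.IsConnected (G.hom.base ⁻¹' {s})) : QuasiCompact G.hom := by
  rw [quasiCompact_iff_forall_isAffineOpen]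
  intro S₀ hS₀
  let f : (S₀ : Scheme.{u}) ⟶ S := S₀.ι
  haveI : IsAffine (S₀ : Scheme.{u}) := hS₀
  obtain ⟨U₀, hU₀c, hU₀⟩ := exists_isCompact_opens_neutralSet (Red.bc f G)
  rw [Groth.Agent.S5322.result S _ f G, neutralSet_eq_univ G hconn, Set.preimage_univ] at hU₀
  have huniv : IsCompact (Set.univ : Set (Red.bc f G).left) := by
    have : (U₀ : Set (Red.bc f G).left) = Set.univ := Set.eq_univ_of_univ_subset hU₀
    rw [← this]
    exact hU₀c
  have hr : (G.hom ⁻¹ᵁ S₀ : Set G.left) = Set.range (pullback.fst G.hom f) := by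
    rw [Scheme.Pullback.range_fst, Scheme.Opens.range_ι]
    rfl
  rw [hr, ← Set.image_univ]
  exact huniv.image (pullback.fst G.hom f).continuous

end conn

end Groth.Agent.Lib.T2H7.NeutralQC
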