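import Mathlib

/-!
An associative composition law `P : X ⊗ X ⟶ X` in a cartesian monoidal category whose two shear
maps are isomorphisms and which admits a "unit section" is the multiplication of a group object.
-/

set_option autoImplicit false
set_option linter.unusedSectionVars false
set_option linter.unusedVariables false
set_option linter.style.haveILetI false
universe v u
open CategoryTheory MonoidalCategory CartesianMonoidalCategory Opposite

namespace Groth.Agent.Lib.T2H7.NilGrpLawA

variable {C : Type u} [Category.{v} C] [CartesianMonoidalCategory C] {X : C} (P : X ⊗ X ⟶ X)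

/-- the composition law on points. -/
def mul {T : C} (x y : T ⟶ X) : T ⟶ X := lift x y ≫ P

theorem comp_mul {T T' : C} (t : T' ⟶ T) (x y : T ⟶ X) :
    t ≫ mul P x y = mul P (t ≫ x) (t ≫ y) := by
  unfold mul
  rw [← Category.assoc, comp_lift]

theorem mul_assoc (hassoc : (P ▷ X) ≫ P = (α_ X X X).hom ≫ (X ◁ P) ≫ P) {T : C}
    (x y w : T ⟶ X) : mul P (mul P x y) w = mul P x (mul P y w) := by
  unfold mul
  have h1 : lift (lift x y ≫ P) w = lift (lift x y) w ≫ (P ▷ X) := by
    apply CartesianMonoidalCategory.hom_ext <;> simp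
  have h2 : lift (lift x y) w ≫ (α_ X X X).hom ≫ (X ◁ P) = lift x (lift y w ≫ P) := by
    apply CartesianMonoidalCategory.hom_ext <;> simp
  rw [h1, Category.assoc, hassoc, ← h2]
  simp only [Category.assoc]

/-- the two shear maps. -/
def shearL : X ⊗ X ⟶ X ⊗ X := lift (fst X X) P
def shearR : X ⊗ X ⟶ X ⊗ X := lift P (snd X X)

theorem lift_shearL {T : C} (x y : T ⟶ X) : lift x y ≫ shearL P = lift x (mul P x y) := by
  unfold shearL mul
  rw [comp_lift, lift_fst]

theorem lift_shearR {T : C} (x y : T ⟶ X) : lift x y ≫ shearR P = lift (mul P x y) y := by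
  unfold shearR mul
  rw [comp_lift, lift_snd]

section Iso

variable [IsIso (shearL P)] [IsIso (shearR P)]

/-- the solution `y` of `x y = w`. -/
noncomputable def sol {T : C} (x w : T ⟶ X) : T ⟶ X := lift x w ≫ inv (shearL P) ≫ snd X X

/-- the solution `v` of `v x = w`. -/
noncomputable def solL {T : C} (x w : T ⟶ X) : T ⟶ X := lift w x ≫ inv (shearR P) ≫ fst X X

theorem mul_sol {T : C} (x w : T ⟶ X) : mul P x (sol P x w) = w := by
  obtain ⟨q, hq⟩ : ∃ q : T ⟶ X ⊗ X, q = lift x w ≫ inv (shearL P) := ⟨_, rfl⟩
  have hq1 : q ≫ shearL P = lift x w := by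
    rw [hq, Category.assoc, IsIso.inv_hom_id, Category.comp_id]
  have hq2 : lift (q ≫ fst X X) (q ≫ snd X X) = q := by
    apply CartesianMonoidalCategory.hom_ext <;> simp
  rw [← hq2, lift_shearL] at hq1
  have h1 : q ≫ fst X X = x := by
    have := congrArg (fun k => k ≫ fst X X) hq1
    simpa only [lift_fst] using this
  have h2 : mul P (q ≫ fst X X) (q ≫ snd X X) = w := by
    have := congrArg (fun k => k ≫ snd X X) hq1
    simpa only [lift_snd] using this
  rw [h1] at h2
  have h3 : sol P x w = q ≫ snd X X := by
    unfold sol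
    rw [hq, Category.assoc]
  rw [h3]
  exact h2

theorem solL_mul {T : C} (x w : T ⟶ X) : mul P (solL P x w) x = w := by
  obtain ⟨q, hq⟩ : ∃ q : T ⟶ X ⊗ X, q = lift w x ≫ inv (shearR P) := ⟨_, rfl⟩
  have hq1 : q ≫ shearR P = lift w x := by
    rw [hq, Category.assoc, IsIso.inv_hom_id, Category.comp_id]
  have hq2 : lift (q ≫ fst X X) (q ≫ snd X X) = q := by
    apply CartesianMonoidalCategory.hom_ext <;> simp
  rw [← hq2, lift_shearR] at hq1
  have h1 : q ≫ snd X X = x := by
    have := congrArg (fun k => k ≫ snd X X) hq1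
    simpa only [lift_snd] using this
  have h2 : mul P (q ≫ fst X X) (q ≫ snd X X) = w := by
    have := congrArg (fun k => k ≫ fst X X) hq1
    simpa only [lift_fst] using this
  rw [h1] at h2
  have h3 : solL P x w = q ≫ fst X X := by
    unfold solL
    rw [hq, Category.assoc]
  rw [h3]
  exact h2

theorem left_cancel {T : C} (x y y' : T ⟶ X) (h : mul P x y = mul P x y') : y = y' := by
  have h1 : lift x y ≫ shearL P = lift x y' ≫ shearL P := by
    rw [lift_shearL, lift_shearL, h]
  have h2 := (cancel_mono (shearL P)).1 h1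
  have := congrArg (fun k => k ≫ snd X X) h2
  simpa only [lift_snd] using this

theorem comp_sol {T T' : C} (t : T' ⟶ T) (x w : T ⟶ X) :
    t ≫ sol P x w = sol P (t ≫ x) (t ≫ w) := by
  unfold sol
  rw [← Category.assoc, comp_lift]

variable (hassoc : (P ▷ X) ≫ P = (α_ X X X).hom ≫ (X ◁ P) ≫ P)

include hassoc in
/-- the right unit of `x` does not depend on `x`. -/
theorem sol_self_const {T : C} (x x' : T ⟶ X) : sol P x x = sol P x' x' := by
  apply left_cancel P x'
  rw [mul_sol]
  have hv := solL_mul P x x'
  calc mul P x' (sol P x x) = mul P (mul P (solL P x x') x) (sol P x x) := by rw [hv]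
    _ = mul P (solL P x x') (mul P x (sol P x x)) := mul_assoc P hassoc _ _ _
    _ = mul P (solL P x x') x := by rw [mul_sol]
    _ = x' := hv

/-- the candidate unit, as an endomorphism of `X`. -/
noncomputable def ε : X ⟶ X := sol P (𝟙 X) (𝟙 X)

theorem sol_self_eq {T : C} (x : T ⟶ X) : sol P x x = x ≫ ε P := by
  unfold ε
  rw [comp_sol, Category.comp_id]

include hassoc in
theorem fst_ε : fst X X ≫ ε P = snd X X ≫ ε P := by
  rw [← sol_self_eq, ← sol_self_eq]
  exact sol_self_const P hassoc _ _

section Unit

variable (e : 𝟙_ C ⟶ X) (he : toUnit X ≫ e = ε P)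

/-- the unit on `T`-points. -/
def one (T : C) : T ⟶ X := toUnit T ≫ e

include he in
theorem sol_self_eq_one {T : C} (x : T ⟶ X) : sol P x x = one e T := by
  rw [sol_self_eq, ← he, ← Category.assoc]
  unfold one
  rw [toUnit_unique (x ≫ toUnit X) (toUnit T)]

include he in
theorem mul_one {T : C} (x : T ⟶ X) : mul P x (one e T) = x := by
  rw [← sol_self_eq_one P e he x, mul_sol]

/-- the inverse on points. -/
noncomputable def invp {T : C} (x : T ⟶ X) : T ⟶ X := sol P x (one e T)

theorem mul_invp {T : C} (x : T ⟶ X) : mul P x (invp P e x) = one e T := mul_sol P x _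

include hassoc he in
/-- the group structure on `T`-points. -/
noncomputable def grp (T : C) : Group (T ⟶ X) :=
  letI : Mul (T ⟶ X) := ⟨mul P⟩
  letI : Inv (T ⟶ X) := ⟨invp P e⟩
  letI : One (T ⟶ X) := ⟨one e T⟩
  Group.ofRightAxioms (fun a b c => mul_assoc P hassoc a b c) (fun a => mul_one P e he a)
    (fun a => mul_invp P e a)

theorem grp_mul (T : C) (x y : T ⟶ X) :
    (grp P hassoc e he T).mul x y = mul P x y := rfl

/-- the presheaf of groups of points. -/
noncomputable def ptsFunctor : Cᵒᵖ ⥤ GrpCat.{v} where
  obj T := @GrpCat.of (T.unop ⟶ X) (grp P hassoc e he T.unop)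
  map {T T'} t :=
    letI := grp P hassoc e he T.unop
    letI := grp P hassoc e he T'.unop
    GrpCat.ofHom (MonoidHom.mk' (fun x : T.unop ⟶ X => t.unop ≫ x)
      (fun x y => comp_mul P t.unop x y))
  map_id T := by
    letI := grp P hassoc e he T.unop
    apply GrpCat.hom_ext
    apply MonoidHom.ext
    intro x
    exact Category.id_comp x
  map_comp {T T' T''} t t' := by
    letI := grp P hassoc e he T.unop
    letI := grp P hassoc e he T'.unop
    letI := grp P hassoc e he T''.unop
    apply GrpCat.hom_ext
    apply MonoidHom.ext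
    intro x
    exact Category.assoc t'.unop t.unop x

/-- `X` represents the presheaf of points. -/
noncomputable def repr : (ptsFunctor P hassoc e he ⋙ forget GrpCat).RepresentableBy X where
  homEquiv := Equiv.refl _
  homEquiv_comp _ _ := rfl

/-- the resulting group object structure. -/
noncomputable def grpObj : GrpObj X :=
  GrpObj.ofRepresentableBy X (ptsFunctor P hassoc e he) (repr P hassoc e he)

theorem grpObj_mul : (grpObj P hassoc e he).mul = P := by
  show mul P (fst X X) (snd X X) = P
  unfold mul
  rw [lift_fst_snd, Category.id_comp]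

end Unit

end Iso

end Groth.Agent.Lib.T2H7.NilGrpLawA
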