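import Groth.Agent.Lib.T2H7NilGrpLawA
import Groth.Agent.Lib.T2H7FlatNilIso

/-!
An associative composition law on a flat `S`-scheme which is a group law modulo a locally nilpotent
ideal is a group law.
-/

set_option autoImplicit false
set_option linter.unusedSectionVars false
set_option linter.unusedVariables false
set_option linter.style.haveILetI false
universe u
open CategoryTheory CategoryTheory.Limits MonoidalCategory CartesianMonoidalCategory MonObj GrpObj
  AlgebraicGeometry

namespace Groth.Agent.Lib.T2H7.NilGrpLawB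

open Groth.Agent.Lib.T2H7.NilGrpLawA Groth.Agent.Lib.T2H7.MultActCore

section Abstract

variable {C : Type*} [Category C] [CartesianMonoidalCategory C]

/-- the shear maps of a group object are isomorphisms. -/
theorem isIso_shearL_grp (G : C) [GrpObj G] : IsIso (shearL μ[G]) := by
  refine ⟨lift (fst G G) ((fst G G)⁻¹ * snd G G), ?_, ?_⟩
  · apply CartesianMonoidalCategory.hom_ext
    · unfold shearL
      rw [Category.assoc, lift_fst, lift_fst, Category.id_comp]
    · unfold shearL
      rw [Category.assoc, lift_snd, MonObj.comp_mul, GrpObj.comp_inv, lift_fst, lift_snd,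
        MonObj.mul_eq_mul, inv_mul_cancel_left, Category.id_comp]
  · apply CartesianMonoidalCategory.hom_ext
    · unfold shearL
      rw [Category.assoc, lift_fst, lift_fst, Category.id_comp]
    · unfold shearL
      rw [Category.assoc, lift_snd, MonObj.mul_eq_mul, MonObj.comp_mul, lift_fst, lift_snd,
        mul_inv_cancel_left, Category.id_comp]

theorem isIso_shearR_grp (G : C) [GrpObj G] : IsIso (shearR μ[G]) := by
  refine ⟨lift (fst G G * (snd G G)⁻¹) (snd G G), ?_, ?_⟩
  · apply CartesianMonoidalCategory.hom_ext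
    · unfold shearR
      rw [Category.assoc, lift_fst, MonObj.comp_mul, GrpObj.comp_inv, lift_fst, lift_snd,
        MonObj.mul_eq_mul, mul_inv_cancel_right, Category.id_comp]
    · unfold shearR
      rw [Category.assoc, lift_snd, lift_snd, Category.id_comp]
  · apply CartesianMonoidalCategory.hom_ext
    · unfold shearR
      rw [Category.assoc, lift_fst, MonObj.mul_eq_mul, MonObj.comp_mul, lift_fst, lift_snd,
        inv_mul_cancel_right, Category.id_comp]
    · unfold shearR
      rw [Category.assoc, lift_snd, lift_snd, Category.id_comp]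

end Abstract

section Functor

variable {C D : Type*} [Category C] [CartesianMonoidalCategory C] [Category D]
  [CartesianMonoidalCategory D] (F : C ⥤ D) [F.Monoidal] {X : C} (P : X ⊗ X ⟶ X)


theorem map_jointly_mono {W : D} (a b : W ⟶ F.obj (X ⊗ X))
    (h1 : a ≫ F.map (fst X X) = b ≫ F.map (fst X X))
    (h2 : a ≫ F.map (snd X X) = b ≫ F.map (snd X X)) : a = b := by
  have hδ : IsIso (Functor.LaxMonoidal.μ F X X) := inferInstance
  have e1 : CategoryTheory.inv (Functor.LaxMonoidal.μ F X X) ≫ fst (F.obj X) (F.obj X) = F.map (fst X X) := by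
    rw [IsIso.inv_comp_eq, Functor.Monoidal.μ_fst]
  have e2 : CategoryTheory.inv (Functor.LaxMonoidal.μ F X X) ≫ snd (F.obj X) (F.obj X) = F.map (snd X X) := by
    rw [IsIso.inv_comp_eq, Functor.Monoidal.μ_snd]
  apply (cancel_mono (CategoryTheory.inv (Functor.LaxMonoidal.μ F X X))).1
  apply CartesianMonoidalCategory.hom_ext
  · rw [Category.assoc, Category.assoc, e1, h1]
  · rw [Category.assoc, Category.assoc, e2, h2]

theorem μ_map_shearL : Functor.LaxMonoidal.μ F X X ≫ F.map (shearL P) = shearL (Functor.LaxMonoidal.μ F X X ≫ F.map P) ≫ Functor.LaxMonoidal.μ F X X := by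
  apply map_jointly_mono F
  · rw [Category.assoc, ← F.map_comp, Category.assoc, Functor.Monoidal.μ_fst]
    unfold shearL
    rw [lift_fst, lift_fst, Functor.Monoidal.μ_fst]
  · rw [Category.assoc, ← F.map_comp, Category.assoc, Functor.Monoidal.μ_snd]
    unfold shearL
    rw [lift_snd, lift_snd]

theorem μ_map_shearR : Functor.LaxMonoidal.μ F X X ≫ F.map (shearR P) = shearR (Functor.LaxMonoidal.μ F X X ≫ F.map P) ≫ Functor.LaxMonoidal.μ F X X := by
  apply map_jointly_mono F
  · rw [Category.assoc, ← F.map_comp, Category.assoc, Functor.Monoidal.μ_fst]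
    unfold shearR
    rw [lift_fst, lift_fst]
  · rw [Category.assoc, ← F.map_comp, Category.assoc, Functor.Monoidal.μ_snd]
    unfold shearR
    rw [lift_snd, lift_snd, Functor.Monoidal.μ_snd]

theorem isIso_map_shearL (h : IsIso (shearL (Functor.LaxMonoidal.μ F X X ≫ F.map P))) : IsIso (F.map (shearL P)) := by
  have h1 : F.map (shearL P) = CategoryTheory.inv (Functor.LaxMonoidal.μ F X X) ≫ shearL (Functor.LaxMonoidal.μ F X X ≫ F.map P) ≫ Functor.LaxMonoidal.μ F X X := by
    rw [← μ_map_shearL, IsIso.inv_hom_id_assoc]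
  rw [h1]
  infer_instance

theorem isIso_map_shearR (h : IsIso (shearR (Functor.LaxMonoidal.μ F X X ≫ F.map P))) : IsIso (F.map (shearR P)) := by
  have h1 : F.map (shearR P) = CategoryTheory.inv (Functor.LaxMonoidal.μ F X X) ≫ shearR (Functor.LaxMonoidal.μ F X X ≫ F.map P) ≫ Functor.LaxMonoidal.μ F X X := by
    rw [← μ_map_shearR, IsIso.inv_hom_id_assoc]
  rw [h1]
  infer_instance

end Functor

section Descent

variable {S : Scheme.{u}}

/-- descent of the unit section along the effective epimorphism `X ⟶ S`. -/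
theorem exists_unit_section (X : Over S) [EffectiveEpi X.hom] (ε' : X ⟶ X)
    (h : fst X X ≫ ε' = snd X X ≫ ε') : ∃ e : 𝟙_ (Over S) ⟶ X, toUnit X ≫ e = ε' := by
  have hcompat : ∀ {W : Scheme.{u}} (g₁ g₂ : W ⟶ X.left), g₁ ≫ X.hom = g₂ ≫ X.hom →
      g₁ ≫ ε'.left = g₂ ≫ ε'.left := by
    intro W g₁ g₂ hg
    have h1 : (fst X X).left ≫ ε'.left = (snd X X).left ≫ ε'.left :=
      congrArg (fun k => k.left) h
    rw [Over.fst_left, Over.snd_left] at h1
    have h2 := congrArg (fun k => pullback.lift g₁ g₂ hg ≫ k) h1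
    simp only [pullback.lift_fst_assoc, pullback.lift_snd_assoc] at h2
    exact h2
  let d : S ⟶ X.left := EffectiveEpi.desc X.hom ε'.left hcompat
  have hd : X.hom ≫ d = ε'.left := EffectiveEpi.fac X.hom ε'.left hcompat
  have hepi : Epi X.hom := inferInstance
  have hd2 : d ≫ X.hom = 𝟙 S := by
    rw [← cancel_epi X.hom, ← Category.assoc, hd, Over.w ε', Category.comp_id]
  refine ⟨Over.homMk d (by simpa using hd2), ?_⟩
  apply Over.OverMorphism.ext
  show X.hom ≫ d = ε'.left
  exact hd

end Descent

section Main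

variable {S S₀ : Scheme.{u}} (i₀ : S₀ ⟶ S) [IsClosedImmersion i₀]

/-- **Main theorem.** -/
theorem main (hnil : LocNilp i₀) (X : Over S) [Flat X.hom]
    (hX : QuasiCompact X.hom ∨ LocallyOfFinitePresentation X.hom) (P : X ⊗ X ⟶ X)
    (hassoc : (P ▷ X) ≫ P = (α_ X X X).hom ≫ (X ◁ P) ≫ P)
    (h0 : ∃ _ : GrpObj ((Over.pullback i₀).obj X),
      μ[(Over.pullback i₀).obj X] =
        Functor.LaxMonoidal.μ (Over.pullback i₀) X X ≫ (Over.pullback i₀).map P) :
    ∃ _ : GrpObj X, μ[X] = P := by
  obtain ⟨G₀, hμ⟩ := h0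
  have hflat2 : Flat (X ⊗ X).hom := by
    rw [Over.tensorObj_hom]
    infer_instance
  have hL : IsIso (shearL P) := by
    apply Groth.Agent.Lib.T2H7.FlatNilIso.isIso_over i₀ hnil hflat2
    apply isIso_map_shearL (Over.pullback i₀) P
    rw [← hμ]
    exact isIso_shearL_grp _
  have hR : IsIso (shearR P) := by
    apply Groth.Agent.Lib.T2H7.FlatNilIso.isIso_over i₀ hnil hflat2
    apply isIso_map_shearR (Over.pullback i₀) P
    rw [← hμ]
    exact isIso_shearR_grp _
  have hsurj : Surjective X.hom := by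
    have hs₀ := surjective_of_locNilp i₀ hnil
    constructor
    intro s
    obtain ⟨s₀, rfl⟩ := hs₀.surj s
    have hw : (η[(Over.pullback i₀).obj X]).left ≫ pullback.snd X.hom i₀ = 𝟙 S₀ :=
      Over.w (η[(Over.pullback i₀).obj X])
    refine ⟨(pullback.fst X.hom i₀) ((η[(Over.pullback i₀).obj X]).left s₀), ?_⟩
    rw [← Scheme.Hom.comp_apply, ← Scheme.Hom.comp_apply, pullback.condition, ← Category.assoc,
      hw]
    simp
  haveI : EffectiveEpi X.hom := by
    rcases hX with h | h <;> infer_instance
  haveI := hL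
  haveI := hR
  obtain ⟨e, he⟩ := exists_unit_section X (ε P) (fst_ε P hassoc)
  exact ⟨grpObj P hassoc e he, grpObj_mul P hassoc e he⟩

end Main

end Groth.Agent.Lib.T2H7.NilGrpLawB
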