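import Mathlib
import Groth.Prelude.Def_W4c2arithlefschetzNode
import Groth.Agent.Lib.Helper22NodeAlg

/-!
Structure of the formal double point `B[[x,y]]/(xy - a)`: the two branch maps to `(B/a)[[T]]`,
their kernels, primality of `t` and `e`, the domain property.
-/

set_option autoImplicit false
universe u

open MvPowerSeries

namespace Groth.Agent.Lib.T2H7.NodeAlg

variable {B : Type u} [CommRing B]

/-- The other index in `Fin 2`. -/
def other (i : Fin 2) : Fin 2 := if i = 0 then 1 else 0

theorem other_ne (i : Fin 2) : other i ≠ i := by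
  fin_cases i <;> simp [other]

theorem eq_single_of_other_eq_zero (i : Fin 2) (m : Fin 2 →₀ ℕ) (h : m (other i) = 0) :
    m = Finsupp.single i (m i) := by
  ext k
  fin_cases i <;> fin_cases k <;> simp_all [other]

/-- Setting the other variable to zero: `B[[x,y]] → B[[T]]`, keeping the variable `i`. -/
noncomputable def slice (i : Fin 2) : MvPowerSeries (Fin 2) B →+* PowerSeries B where
  toFun f := PowerSeries.mk fun n => coeff (Finsupp.single i n) f
  map_one' := by
    ext n
    classical
    rw [PowerSeries.coeff_mk, coeff_one, PowerSeries.coeff_one]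
    by_cases hn : n = 0
    · subst hn; simp
    · simp [hn]
  map_mul' f g := by
    classical
    ext n
    rw [PowerSeries.coeff_mk, PowerSeries.coeff_mul, coeff_mul, Finsupp.antidiagonal_single,
      Finset.sum_map]
    refine Finset.sum_congr rfl fun p _ => ?_
    simp [PowerSeries.coeff_mk]
  map_zero' := by
    ext n
    simp
  map_add' f g := by
    ext n
    simp

theorem coeff_slice (i : Fin 2) (f : MvPowerSeries (Fin 2) B) (n : ℕ) :
    PowerSeries.coeff n (slice i f) = coeff (Finsupp.single i n) f := by
  simp [slice]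

theorem slice_X_self (i : Fin 2) : slice i (X i : MvPowerSeries (Fin 2) B) = PowerSeries.X := by
  classical
  ext n
  rw [coeff_slice, coeff_X, PowerSeries.coeff_X]
  by_cases hn : n = 1
  · subst hn; simp
  · have : Finsupp.single i n ≠ Finsupp.single i 1 := by
      intro h
      apply hn
      have := congrArg (fun m => m i) h
      simpa using this
    simp [hn, this]

theorem slice_X_other (i : Fin 2) : slice i (X (other i) : MvPowerSeries (Fin 2) B) = 0 := by
  classical
  ext n
  rw [coeff_slice, coeff_X, map_zero]
  have : Finsupp.single i n ≠ Finsupp.single (other i) 1 := by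
    intro h
    have := congrArg (fun m => m (other i)) h
    simp [other_ne] at this
  simp [this]

theorem slice_C (i : Fin 2) (b : B) : slice i (C b : MvPowerSeries (Fin 2) B) = PowerSeries.C b := by
  classical
  ext n
  rw [coeff_slice, coeff_C, PowerSeries.coeff_C]
  by_cases hn : n = 0
  · subst hn; simp
  · have : Finsupp.single i n ≠ 0 := by
      intro h
      apply hn
      have := congrArg (fun m => m i) h
      simpa using this
    simp [hn, this]

/-- A power series all of whose "pure `i`" coefficients vanish is divisible by the other variable. -/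
theorem X_other_dvd_of_slice_eq_zero (i : Fin 2) (f : MvPowerSeries (Fin 2) B)
    (h : slice i f = 0) : X (other i) ∣ f := by
  rw [X_dvd_iff]
  intro m hm
  rw [eq_single_of_other_eq_zero i m hm, ← coeff_slice, h, map_zero]

/-- The inclusion (as a function) of power series in one variable as power series in the
variable `i` only. -/
noncomputable def incl (i : Fin 2) (p : PowerSeries B) : MvPowerSeries (Fin 2) B :=
  fun m => if m (other i) = 0 then PowerSeries.coeff (m i) p else 0

theorem coeff_incl (i : Fin 2) (p : PowerSeries B) (m : Fin 2 →₀ ℕ) :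
    coeff m (incl i p) = if m (other i) = 0 then PowerSeries.coeff (m i) p else 0 := rfl

theorem slice_incl (i : Fin 2) (p : PowerSeries B) : slice i (incl i p) = p := by
  ext n
  rw [coeff_slice, coeff_incl]
  simp [other_ne]

theorem incl_C_mul (i : Fin 2) (b : B) (p : PowerSeries B) :
    incl i (PowerSeries.C b * p) = C b * incl i p := by
  ext m
  rw [coeff_C_mul, coeff_incl, coeff_incl]
  split_ifs
  · rw [PowerSeries.coeff_C_mul]
  · rw [mul_zero]

/-- Every power series in two variables is its pure-`i` part plus a multiple of the other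
variable. -/
theorem exists_eq_X_other_mul_add_incl (i : Fin 2) (f : MvPowerSeries (Fin 2) B) :
    ∃ f₁ : MvPowerSeries (Fin 2) B, f = X (other i) * f₁ + incl i (slice i f) := by
  have h : slice i (f - incl i (slice i f)) = 0 := by
    rw [map_sub, slice_incl, sub_self]
  obtain ⟨f₁, hf₁⟩ := X_other_dvd_of_slice_eq_zero i _ h
  exact ⟨f₁, by rw [← hf₁]; ring⟩

/-- If all pure-`i` coefficients of `f` lie in `(a)`, then `f ∈ (X_{other i}, C a)`. -/
theorem mem_span_X_other_C_of_coeff_mem (i : Fin 2) (a : B) (f : MvPowerSeries (Fin 2) B)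
    (h : ∀ n, coeff (Finsupp.single i n) f ∈ Ideal.span ({a} : Set B)) :
    f ∈ Ideal.span ({X (other i), C a} : Set (MvPowerSeries (Fin 2) B)) := by
  obtain ⟨f₁, hf₁⟩ := exists_eq_X_other_mul_add_incl i f
  have h' : ∀ n, ∃ c, c * a = coeff (Finsupp.single i n) f := fun n =>
    Ideal.mem_span_singleton'.mp (h n)
  choose q hq using h'
  have hs : slice i f = PowerSeries.C a * PowerSeries.mk q := by
    ext n
    rw [coeff_slice, PowerSeries.coeff_C_mul, PowerSeries.coeff_mk, ← hq n, mul_comm]
  rw [hf₁, hs, incl_C_mul]
  refine Ideal.add_mem _ (Ideal.mul_mem_right _ _ (Ideal.subset_span (by simp)))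
    (Ideal.mul_mem_right _ _ (Ideal.subset_span (by simp)))

theorem X_zero_mul_X_one (i : Fin 2) :
    (X 0 * X 1 : MvPowerSeries (Fin 2) B) = X i * X (other i) := by
  fin_cases i
  · rfl
  · exact mul_comm _ _

/-- The branch map `B[[x,y]]/(xy - a) → (B/a)[[T]]` keeping the variable `i` and killing the
other one. -/
noncomputable def branch (a : B) (i : Fin 2) :
    ArLef.NodeAlg B a →+* PowerSeries (B ⧸ Ideal.span ({a} : Set B)) :=
  Ideal.Quotient.lift _
    ((PowerSeries.map (Ideal.Quotient.mk (Ideal.span ({a} : Set B)))).comp (slice i)) (by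
      intro f hf
      rw [Ideal.mem_span_singleton'] at hf
      obtain ⟨c, rfl⟩ := hf
      have h1 : slice i (X 0 * X 1 : MvPowerSeries (Fin 2) B) = 0 := by
        rw [X_zero_mul_X_one i, map_mul, slice_X_other, mul_zero]
      have h2 : PowerSeries.map (Ideal.Quotient.mk (Ideal.span ({a} : Set B))) (PowerSeries.C a) = 0 := by
        rw [PowerSeries.map_C]
        have : (Ideal.Quotient.mk (Ideal.span ({a} : Set B))) a = 0 :=
          Ideal.Quotient.eq_zero_iff_mem.mpr (Ideal.mem_span_singleton_self a)
        rw [this, map_zero]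
      rw [RingHom.comp_apply, map_mul, map_sub, h1, slice_C, map_mul, map_sub, map_zero, h2,
        sub_zero, mul_zero])

theorem branch_mk (a : B) (i : Fin 2) (f : MvPowerSeries (Fin 2) B) :
    branch a i (Ideal.Quotient.mk _ f) =
      PowerSeries.map (Ideal.Quotient.mk (Ideal.span ({a} : Set B))) (slice i f) := by
  unfold branch
  rw [Ideal.Quotient.lift_mk, RingHom.comp_apply]

/-- The class of the variable `i` in the node algebra (`var a 0 = t`, `var a 1 = e`). -/
noncomputable abbrev var (a : B) (i : Fin 2) : ArLef.NodeAlg B a :=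
  Ideal.Quotient.mk _ (X i)

theorem var_zero (a : B) : var a 0 = ArLef.NodeAlg.t a := rfl
theorem var_one (a : B) : var a 1 = ArLef.NodeAlg.e a := rfl

theorem algebraMap_eq_mk_C (a b : B) :
    algebraMap B (ArLef.NodeAlg B a) b = Ideal.Quotient.mk _ (C b) := rfl

theorem var_mul_var_other (a : B) (i : Fin 2) :
    var a i * var a (other i) = algebraMap B (ArLef.NodeAlg B a) a := by
  have h := Groth.Agent.Lib.Helper22.nodeAlg_t_mul_e a
  fin_cases i
  · exact h
  · rw [mul_comm]; exact h

theorem branch_var_self (a : B) (i : Fin 2) : branch a i (var a i) = PowerSeries.X := by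
  rw [var, branch_mk, slice_X_self, PowerSeries.map_X]

theorem branch_var_other (a : B) (i : Fin 2) : branch a i (var a (other i)) = 0 := by
  rw [var, branch_mk, slice_X_other, map_zero]

theorem branch_algebraMap (a : B) (i : Fin 2) (b : B) :
    branch a i (algebraMap B (ArLef.NodeAlg B a) b) =
      PowerSeries.C (Ideal.Quotient.mk (Ideal.span ({a} : Set B)) b) := by
  rw [algebraMap_eq_mk_C, branch_mk, slice_C, PowerSeries.map_C]

theorem branch_surjective (a : B) (i : Fin 2) : Function.Surjective (branch a i) := by
  intro p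
  have h : ∀ n, ∃ b : B, Ideal.Quotient.mk (Ideal.span ({a} : Set B)) b = PowerSeries.coeff n p :=
    fun n => Ideal.Quotient.mk_surjective _
  choose q hq using h
  refine ⟨Ideal.Quotient.mk _ (incl i (PowerSeries.mk q)), ?_⟩
  rw [branch_mk, slice_incl]
  ext n
  rw [PowerSeries.coeff_map, PowerSeries.coeff_mk, hq]

theorem ker_branch (a : B) (i : Fin 2) :
    RingHom.ker (branch a i) = Ideal.span ({var a (other i)} : Set (ArLef.NodeAlg B a)) := by
  apply le_antisymm
  · intro x hx
    obtain ⟨f, rfl⟩ := Ideal.Quotient.mk_surjective x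
    rw [RingHom.mem_ker, branch_mk] at hx
    have h : ∀ n, coeff (Finsupp.single i n) f ∈ Ideal.span ({a} : Set B) := by
      intro n
      have := congrArg (PowerSeries.coeff n) hx
      rw [PowerSeries.coeff_map, coeff_slice, map_zero] at this
      exact Ideal.Quotient.eq_zero_iff_mem.mp this
    have hf := mem_span_X_other_C_of_coeff_mem i a f h
    rw [Ideal.mem_span_pair] at hf
    obtain ⟨u, v, huv⟩ := hf
    rw [← huv, map_add, map_mul, map_mul, ← algebraMap_eq_mk_C, ← var_mul_var_other a i]
    refine Ideal.add_mem _ (Ideal.mul_mem_left _ _ (Ideal.mem_span_singleton_self _)) ?_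
    rw [← mul_assoc]
    exact Ideal.mul_mem_left _ _ (Ideal.mem_span_singleton_self _)
  · rw [Ideal.span_singleton_le_iff_mem, RingHom.mem_ker]
    exact branch_var_other a i

theorem branch_eq_zero_iff (a : B) (i : Fin 2) (x : ArLef.NodeAlg B a) :
    branch a i x = 0 ↔ var a (other i) ∣ x := by
  rw [← RingHom.mem_ker, ker_branch, Ideal.mem_span_singleton]

theorem other_other (i : Fin 2) : other (other i) = i := by
  fin_cases i <;> rfl

/-- A Noetherian local ring with a prime element which is a non-zero-divisor has no zero divisors. -/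
theorem noZeroDivisors_of_prime_regular {R : Type u} [CommRing R] [IsNoetherianRing R]
    [IsLocalRing R] (p : R) (hp : Prime p) (hreg : ∀ x : R, p * x = 0 → x = 0) :
    NoZeroDivisors R := by
  have hpow : ∀ (n : ℕ) (x : R), p ^ n * x = 0 → x = 0 := by
    intro n
    induction n with
    | zero => intro x hx; simpa using hx
    | succ n ih =>
      intro x hx
      apply ih
      apply hreg
      rw [← mul_assoc, ← pow_succ']
      exact hx
  have hne : Ideal.span ({p} : Set R) ≠ ⊤ := by
    rw [Ne, Ideal.span_singleton_eq_top]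
    exact hp.not_unit
  have hkrull := Ideal.iInf_pow_eq_bot_of_isLocalRing (Ideal.span ({p} : Set R)) hne
  have key : ∀ x : R, x ≠ 0 → ∃ (n : ℕ) (x' : R), x = p ^ n * x' ∧ ¬ p ∣ x' := by
    intro x hx
    have h1 : ∃ n, x ∉ Ideal.span ({p} : Set R) ^ n := by
      by_contra hcon
      push_neg at hcon
      apply hx
      have : x ∈ ⨅ i, Ideal.span ({p} : Set R) ^ i := by
        rw [Ideal.mem_iInf]
        exact hcon
      rw [hkrull] at this
      exact this
    classical
    have hfind := Nat.find_spec h1
    have hmin := fun m => Nat.find_min h1 (m := m)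
    set n := Nat.find h1 with hn
    have hn0 : n ≠ 0 := by
      intro h0
      rw [h0, pow_zero] at hfind
      exact hfind (by simp)
    obtain ⟨m, hm⟩ := Nat.exists_eq_succ_of_ne_zero hn0
    have hmem : x ∈ Ideal.span ({p} : Set R) ^ m := by
      by_contra hcon
      exact hmin m (by omega) hcon
    rw [Ideal.span_singleton_pow, Ideal.mem_span_singleton] at hmem
    obtain ⟨x', hx'⟩ := hmem
    refine ⟨m, x', hx', ?_⟩
    rintro ⟨y, hy⟩
    apply hfind
    rw [hm, Ideal.span_singleton_pow, Ideal.mem_span_singleton]
    exact ⟨y, by rw [hx', hy, pow_succ]; ring⟩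
  refine ⟨fun {x y} hxy => ?_⟩
  by_contra hcon
  push_neg at hcon
  obtain ⟨n, x', hx, hx'⟩ := key x hcon.1
  obtain ⟨m, y', hy, hy'⟩ := key y hcon.2
  have h0 : p ^ (n + m) * (x' * y') = 0 := by
    rw [← hxy, hx, hy, pow_add]; ring
  have h1 := hpow _ _ h0
  have h2 : p ∣ x' * y' := by rw [h1]; exact dvd_zero p
  rcases hp.dvd_or_dvd h2 with h | h
  · exact hx' h
  · exact hy' h

section DVR

variable [IsDomain B] [IsDiscreteValuationRing B] (π : B) (hπ : Irreducible π)

include hπ

theorem span_isMaximal : (Ideal.span ({π} : Set B)).IsMaximal := by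
  rw [← hπ.maximalIdeal_eq]
  exact IsLocalRing.maximalIdeal.isMaximal B

theorem nontrivial_nodeAlg : Nontrivial (ArLef.NodeAlg B π) := by
  haveI := span_isMaximal π hπ
  exact (branch π 0).domain_nontrivial

theorem isLocalRing_nodeAlg : IsLocalRing (ArLef.NodeAlg B π) := by
  haveI := nontrivial_nodeAlg π hπ
  exact IsLocalRing.of_surjective' (Ideal.Quotient.mk _) Ideal.Quotient.mk_surjective

theorem var_regular (i : Fin 2) (x : ArLef.NodeAlg B π) (hx : var π i * x = 0) : x = 0 := by
  apply Groth.Agent.Lib.Helper22.nodeAlg_pi_regular π hπ.ne_zero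
  rw [← var_mul_var_other π i, mul_comm (var π i), mul_assoc, hx, mul_zero]

theorem var_ne_zero (i : Fin 2) : var π i ≠ 0 := by
  haveI := span_isMaximal π hπ
  intro h
  have := branch_var_self π i
  rw [h, map_zero] at this
  exact PowerSeries.X_ne_zero this.symm

theorem var_prime (i : Fin 2) : Prime (var π i) := by
  haveI := span_isMaximal π hπ
  rw [← Ideal.span_singleton_prime (var_ne_zero π hπ i)]
  have h := ker_branch π (other i)
  rw [other_other] at h
  rw [← h]
  exact RingHom.ker_isPrime _

theorem noZeroDivisors_nodeAlg : NoZeroDivisors (ArLef.NodeAlg B π) := by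
  haveI := isLocalRing_nodeAlg π hπ
  exact noZeroDivisors_of_prime_regular (var π 0) (var_prime π hπ 0) (var_regular π hπ 0)

theorem isDomain_nodeAlg : IsDomain (ArLef.NodeAlg B π) := by
  haveI := nontrivial_nodeAlg π hπ
  haveI := noZeroDivisors_nodeAlg π hπ
  exact NoZeroDivisors.to_isDomain _

end DVR

end Groth.Agent.Lib.T2H7.NodeAlg
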