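import Mathlib
import Groth.Agent.Lib.T2H7NodeAlg

/-!
Fixed-point ideals of automorphisms of Noetherian local rings are generated by the values on
topological generators; application to the node algebra and to power series rings.
-/

set_option autoImplicit false
set_option linter.style.haveILetI false
universe u

namespace Groth.Agent.Lib.T2H7.NodeAlg

section General

variable {A : Type u} [CommRing A]

/-- Krull intersection in a quotient: in a Noetherian local ring, an element lying in
`J + m^n` for all `n` lies in `J`. -/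
theorem mem_of_forall_mem_sup_pow [IsNoetherianRing A] [IsLocalRing A] (J : Ideal A) (y : A)
    (h : ∀ n : ℕ, y ∈ J ⊔ IsLocalRing.maximalIdeal A ^ n) : y ∈ J := by
  have hne : IsLocalRing.maximalIdeal A ≠ ⊤ := Ideal.IsPrime.ne_top inferInstance
  have hk := Ideal.iInf_pow_smul_eq_bot_of_isLocalRing (M := A ⧸ J) (IsLocalRing.maximalIdeal A) hne
  have hy : (Submodule.Quotient.mk y : A ⧸ J) ∈
      ⨅ i, IsLocalRing.maximalIdeal A ^ i • (⊤ : Submodule A (A ⧸ J)) := by
    rw [Submodule.mem_iInf]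
    intro n
    obtain ⟨j, hj, z, hz, rfl⟩ := Submodule.mem_sup.mp (h n)
    have h1 : (Submodule.Quotient.mk (j + z) : A ⧸ J) = z • (Submodule.Quotient.mk (1 : A) : A ⧸ J) := by
      rw [← Submodule.Quotient.mk_smul, smul_eq_mul, mul_one, Submodule.Quotient.mk_add,
        (Submodule.Quotient.mk_eq_zero J).mpr hj, zero_add]
    rw [h1]
    exact Submodule.smul_mem_smul hz Submodule.mem_top
  rw [hk] at hy
  exact (Submodule.Quotient.mk_eq_zero J).mp hy

/-- The subring of elements moved by `σ` only by an element of `J`. -/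
def fixSubring (σ : A ≃+* A) (J : Ideal A) : Subring A where
  carrier := {r | σ r - r ∈ J}
  mul_mem' := by
    intro a b ha hb
    simp only [Set.mem_setOf_eq] at ha hb ⊢
    have : σ (a * b) - a * b = σ a * (σ b - b) + (σ a - a) * b := by rw [map_mul]; ring
    rw [this]
    exact J.add_mem (J.mul_mem_left _ hb) (J.mul_mem_right _ ha)
  one_mem' := by simp
  add_mem' := by
    intro a b ha hb
    simp only [Set.mem_setOf_eq] at ha hb ⊢
    have : σ (a + b) - (a + b) = (σ a - a) + (σ b - b) := by rw [map_add]; ring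
    rw [this]
    exact J.add_mem ha hb
  zero_mem' := by simp
  neg_mem' := by
    intro a ha
    simp only [Set.mem_setOf_eq] at ha ⊢
    have : σ (-a) - -a = -(σ a - a) := by rw [map_neg]; ring
    rw [this]
    exact J.neg_mem ha

theorem mem_fixSubring (σ : A ≃+* A) (J : Ideal A) (r : A) :
    r ∈ fixSubring σ J ↔ σ r - r ∈ J := Iff.rfl

theorem ringEquiv_mem_maximalIdeal_pow [IsLocalRing A] (σ : A ≃+* A) (n : ℕ) (x : A)
    (hx : x ∈ IsLocalRing.maximalIdeal A ^ n) : σ x ∈ IsLocalRing.maximalIdeal A ^ n := by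
  have h1 : Ideal.map σ (IsLocalRing.maximalIdeal A) ≤ IsLocalRing.maximalIdeal A := by
    rw [Ideal.map_le_iff_le_comap]
    intro y hy
    rw [Ideal.mem_comap, IsLocalRing.mem_maximalIdeal, mem_nonunits_iff] at *
    rwa [MulEquiv.isUnit_map]
  have h2 : σ x ∈ Ideal.map σ (IsLocalRing.maximalIdeal A ^ n) := Ideal.mem_map_of_mem _ hx
  rw [Ideal.map_pow] at h2
  exact Ideal.pow_right_mono h1 n h2

/-- If a subring on which `σ` is the identity modulo `J` is dense for an adic topology
finer than the `m`-adic one, then `σ` is the identity modulo `J` everywhere. -/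
theorem fix_sub_mem_of_dense [IsNoetherianRing A] [IsLocalRing A] (σ : A ≃+* A) (J M : Ideal A)
    (hM : M ≤ IsLocalRing.maximalIdeal A) (S : Subring A) (hS : ∀ s ∈ S, σ s - s ∈ J)
    (hdense : ∀ (x : A) (n : ℕ), ∃ s ∈ S, x - s ∈ M ^ n) (x : A) : σ x - x ∈ J := by
  apply mem_of_forall_mem_sup_pow
  intro n
  obtain ⟨s, hs, hxs⟩ := hdense x n
  have h1 : x - s ∈ IsLocalRing.maximalIdeal A ^ n := Ideal.pow_right_mono hM n hxs
  have h2 := ringEquiv_mem_maximalIdeal_pow σ n _ h1
  have : σ x - x = (σ s - s) + (σ (x - s) - (x - s)) := by rw [map_sub]; ring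
  rw [this]
  exact Submodule.add_mem_sup (hS s hs) (Ideal.sub_mem _ h2 h1)

/-- Density of the subalgebra generated by generators of an ideal `M` such that `A = B + M`. -/
theorem dense_adjoin {B : Type u} [CommRing B] [Algebra B A] (G : Set A)
    (hG : ∀ x : A, ∃ b : B, x - algebraMap B A b ∈ Ideal.span G) (x : A) (n : ℕ) :
    ∃ s ∈ Algebra.adjoin B G, x - s ∈ Ideal.span G ^ n := by
  have Q : ∀ n : ℕ, ∀ y ∈ Ideal.span G ^ n, ∃ s ∈ Algebra.adjoin B G, y - s ∈ Ideal.span G ^ (n + 1) := by
    intro n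
    induction n with
    | zero =>
      intro y _
      obtain ⟨b, hb⟩ := hG y
      exact ⟨algebraMap B A b, Subalgebra.algebraMap_mem _ b, by rwa [zero_add, pow_one]⟩
    | succ n ih =>
      intro y hy
      rw [pow_succ] at hy
      refine Submodule.mul_induction_on hy ?_ ?_
      · intro u hu m hm
        revert u
        refine Submodule.span_induction (p := fun m _ => ∀ u ∈ Ideal.span G ^ n,
          ∃ s ∈ Algebra.adjoin B G, u * m - s ∈ Ideal.span G ^ (n + 1 + 1)) ?_ ?_ ?_ ?_ hm
        · intro g hg u hu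
          obtain ⟨s, hs, hus⟩ := ih u hu
          refine ⟨s * g, Subalgebra.mul_mem _ hs (Algebra.subset_adjoin hg), ?_⟩
          have : u * g - s * g = (u - s) * g := by ring
          rw [this, pow_succ (Ideal.span G) (n + 1)]
          exact Ideal.mul_mem_mul hus (Ideal.subset_span hg)
        · intro u _
          exact ⟨0, Subalgebra.zero_mem _, by simp⟩
        · intro m₁ m₂ _ _ h₁ h₂ u hu
          obtain ⟨s₁, hs₁, h₁'⟩ := h₁ u hu
          obtain ⟨s₂, hs₂, h₂'⟩ := h₂ u hu
          refine ⟨s₁ + s₂, Subalgebra.add_mem _ hs₁ hs₂, ?_⟩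
          have : u * (m₁ + m₂) - (s₁ + s₂) = (u * m₁ - s₁) + (u * m₂ - s₂) := by ring
          rw [this]
          exact Ideal.add_mem _ h₁' h₂'
        · intro a m _ h u hu
          obtain ⟨s, hs, h'⟩ := h (a * u) (Ideal.mul_mem_left _ _ hu)
          refine ⟨s, hs, ?_⟩
          have : u * a • m - s = a * u * m - s := by rw [smul_eq_mul]; ring
          rw [this]
          exact h'
      · intro y₁ y₂ h₁ h₂
        obtain ⟨s₁, hs₁, h₁'⟩ := h₁
        obtain ⟨s₂, hs₂, h₂'⟩ := h₂
        refine ⟨s₁ + s₂, Subalgebra.add_mem _ hs₁ hs₂, ?_⟩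
        have : y₁ + y₂ - (s₁ + s₂) = (y₁ - s₁) + (y₂ - s₂) := by ring
        rw [this]
        exact Ideal.add_mem _ h₁' h₂'
  induction n with
  | zero => exact ⟨0, Subalgebra.zero_mem _, by simp⟩
  | succ n ih =>
    obtain ⟨s, hs, hxs⟩ := ih
    obtain ⟨s', hs', h'⟩ := Q n _ hxs
    refine ⟨s + s', Subalgebra.add_mem _ hs hs', ?_⟩
    have : x - (s + s') = x - s - s' := by ring
    rw [this]
    exact h'

end General

section Node

open MvPowerSeries

variable {B : Type u} [CommRing B]

theorem span_var_eq (a : B) :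
    Ideal.span ({var a 0, var a 1} : Set (ArLef.NodeAlg B a)) =
      Ideal.span ({ArLef.NodeAlg.t a, ArLef.NodeAlg.e a} : Set (ArLef.NodeAlg B a)) := rfl

/-- Every element of the node algebra is congruent to a constant modulo `(t, e)`. -/
theorem exists_sub_algebraMap_mem (a : B) (x : ArLef.NodeAlg B a) :
    ∃ b : B, x - algebraMap B (ArLef.NodeAlg B a) b ∈
      Ideal.span ({ArLef.NodeAlg.t a, ArLef.NodeAlg.e a} : Set (ArLef.NodeAlg B a)) := by
  obtain ⟨f, rfl⟩ := Ideal.Quotient.mk_surjective x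
  refine ⟨constantCoeff f, ?_⟩
  set y := Ideal.Quotient.mk _ f - algebraMap B (ArLef.NodeAlg B a) (constantCoeff f) with hy
  have h0 : PowerSeries.constantCoeff (branch a 0 y) = 0 := by
    rw [hy, map_sub, branch_mk, branch_algebraMap, map_sub, PowerSeries.constantCoeff_C,
      ← PowerSeries.coeff_zero_eq_constantCoeff_apply, PowerSeries.coeff_map, coeff_slice,
      Finsupp.single_zero, coeff_zero_eq_constantCoeff_apply, sub_self]
  obtain ⟨q, hq⟩ := PowerSeries.X_dvd_iff.mpr h0
  obtain ⟨q', rfl⟩ := branch_surjective a 0 q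
  have h1 : branch a 0 (y - var a 0 * q') = 0 := by
    rw [map_sub, map_mul, branch_var_self, hq, sub_self]
  rw [branch_eq_zero_iff] at h1
  obtain ⟨r, hr⟩ := h1
  have : y = q' * ArLef.NodeAlg.t a + r * ArLef.NodeAlg.e a := by
    have h2 : y = var a 0 * q' + var a (other 0) * r := by rw [← hr]; ring
    rw [h2]
    show var a 0 * q' + var a 1 * r = q' * var a 0 + r * var a 1
    ring
  rw [this]
  exact Ideal.mem_span_pair.mpr ⟨q', r, rfl⟩

/-- Polynomials in `t`, `e` over `B` are dense in the node algebra for the `(t, e)`-adic topology. -/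
theorem dense_adjoin_nodeAlg (a : B) (x : ArLef.NodeAlg B a) (n : ℕ) :
    ∃ s ∈ Algebra.adjoin B ({ArLef.NodeAlg.t a, ArLef.NodeAlg.e a} : Set (ArLef.NodeAlg B a)),
      x - s ∈ Ideal.span ({ArLef.NodeAlg.t a, ArLef.NodeAlg.e a} : Set (ArLef.NodeAlg B a)) ^ n :=
  dense_adjoin _ (exists_sub_algebraMap_mem a) x n

section DVR

variable [IsDomain B] [IsDiscreteValuationRing B] (π : B) (hπ : Irreducible π)

include hπ

theorem not_isUnit_var (i : Fin 2) : ¬ IsUnit (var π i) := (var_prime π hπ i).not_isUnit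

theorem span_t_e_le_maximalIdeal :
    haveI := isLocalRing_nodeAlg π hπ
    Ideal.span ({ArLef.NodeAlg.t π, ArLef.NodeAlg.e π} : Set (ArLef.NodeAlg B π)) ≤
      IsLocalRing.maximalIdeal (ArLef.NodeAlg B π) := by
  haveI := isLocalRing_nodeAlg π hπ
  rw [Ideal.span_le]
  intro x hx
  rcases hx with rfl | rfl
  · exact (IsLocalRing.mem_maximalIdeal _).mpr (not_isUnit_var π hπ 0)
  · exact (IsLocalRing.mem_maximalIdeal _).mpr (not_isUnit_var π hπ 1)

/-- An automorphism of the node algebra which is the identity modulo `J` on `B`, `t` and `e` is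
the identity modulo `J`. -/
theorem fix_sub_mem_nodeAlg (σ : ArLef.NodeAlg B π ≃+* ArLef.NodeAlg B π)
    (J : Ideal (ArLef.NodeAlg B π))
    (hB : ∀ b : B, σ (algebraMap B (ArLef.NodeAlg B π) b) - algebraMap B (ArLef.NodeAlg B π) b ∈ J)
    (ht : σ (ArLef.NodeAlg.t π) - ArLef.NodeAlg.t π ∈ J)
    (he : σ (ArLef.NodeAlg.e π) - ArLef.NodeAlg.e π ∈ J) (x : ArLef.NodeAlg B π) :
    σ x - x ∈ J := by
  haveI := isLocalRing_nodeAlg π hπ
  have hS : ∀ s ∈ (Algebra.adjoin B ({ArLef.NodeAlg.t π, ArLef.NodeAlg.e π} :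
      Set (ArLef.NodeAlg B π))).toSubring, σ s - s ∈ J := by
    intro s hs
    rw [Subalgebra.mem_toSubring] at hs
    rw [← mem_fixSubring]
    refine Algebra.adjoin_induction (p := fun s _ => s ∈ fixSubring σ J) ?_ ?_ ?_ ?_ hs
    · intro y hy
      rcases hy with rfl | rfl
      · exact ht
      · exact he
    · intro b
      exact hB b
    · intro y z _ _ hy hz
      exact Subring.add_mem _ hy hz
    · intro y z _ _ hy hz
      exact Subring.mul_mem _ hy hz
  refine fix_sub_mem_of_dense σ J _ (span_t_e_le_maximalIdeal π hπ) _ hS ?_ x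
  intro y n
  obtain ⟨s, hs, h⟩ := dense_adjoin_nodeAlg π y n
  exact ⟨s, hs, h⟩

/-- The fixed-point ideal of an automorphism of the node algebra is contained in any ideal
containing the displacements of `B`, `t`, `e`. -/
theorem fixIdeal_le_nodeAlg (σ : ArLef.NodeAlg B π ≃+* ArLef.NodeAlg B π)
    (J : Ideal (ArLef.NodeAlg B π))
    (hB : ∀ b : B, σ (algebraMap B (ArLef.NodeAlg B π) b) - algebraMap B (ArLef.NodeAlg B π) b ∈ J)
    (ht : σ (ArLef.NodeAlg.t π) - ArLef.NodeAlg.t π ∈ J)
    (he : σ (ArLef.NodeAlg.e π) - ArLef.NodeAlg.e π ∈ J) :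
    ArLef.fixIdeal σ ≤ J := by
  unfold ArLef.fixIdeal
  rw [Ideal.span_le]
  rintro _ ⟨r, rfl⟩
  exact fix_sub_mem_nodeAlg π hπ σ J hB ht he r

end DVR

end Node

end Groth.Agent.Lib.T2H7.NodeAlg
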