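import Mathlib
import Groth.Agent.S15315
import Groth.Agent.Lib.T2H7NodeAlg2

/-!
Intersection numbers `length (A / (a, b))` and their bilinearity; application to the node algebra.
-/

set_option autoImplicit false
set_option linter.style.haveILetI false
universe u

namespace Groth.Agent.Lib.T2H7.NodeAlg

section General

variable {A : Type u} [CommRing A]

/-- The local intersection number of `a` and `b`: the length of `A/(a, b)`. -/
noncomputable def iN (a b : A) : ℕ∞ := Module.length A (A ⧸ Ideal.span ({a, b} : Set A))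

theorem iN_def (a b : A) : iN a b = Module.length A (A ⧸ Ideal.span ({a, b} : Set A)) := rfl

theorem length_quot_congr {I J : Ideal A} (h : I = J) :
    Module.length A (A ⧸ I) = Module.length A (A ⧸ J) := by subst h; rfl

theorem iN_congr {a b a' b' : A} (h : Ideal.span ({a, b} : Set A) = Ideal.span {a', b'}) :
    iN a b = iN a' b' := length_quot_congr h

theorem iN_comm (a b : A) : iN a b = iN b a := iN_congr (by rw [Set.pair_comm])

theorem span_pair_eq_of_sub_mem {a a' b : A} (h : a - a' ∈ Ideal.span ({b} : Set A)) :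
    Ideal.span ({a, b} : Set A) = Ideal.span {a', b} := by
  obtain ⟨c, hc⟩ := Ideal.mem_span_singleton'.mp h
  apply le_antisymm
  · rw [Ideal.span_le]
    intro x hx
    rcases hx with rfl | rfl
    · have : x = 1 * a' + c * b := by rw [hc]; ring
      rw [this]
      exact Ideal.mem_span_pair.mpr ⟨1, c, rfl⟩
    · exact Ideal.subset_span (by simp)
  · rw [Ideal.span_le]
    intro x hx
    rcases hx with rfl | rfl
    · have : x = 1 * a + (-c) * b := by rw [neg_mul, hc]; ring
      rw [this]
      exact Ideal.mem_span_pair.mpr ⟨1, -c, rfl⟩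
    · exact Ideal.subset_span (by simp)

/-- `iN a b` only depends on `a` modulo `b`. -/
theorem iN_congr_left {a a' b : A} (h : a - a' ∈ Ideal.span ({b} : Set A)) : iN a b = iN a' b :=
  iN_congr (span_pair_eq_of_sub_mem h)

theorem span_pair_unit_mul {a b : A} (u : Aˣ) :
    Ideal.span ({(u : A) * a, b} : Set A) = Ideal.span {a, b} := by
  apply le_antisymm
  · rw [Ideal.span_le]
    intro x hx
    rcases hx with rfl | rfl
    · exact Ideal.mul_mem_left _ _ (Ideal.subset_span (by simp))
    · exact Ideal.subset_span (by simp)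
  · rw [Ideal.span_le]
    intro x hx
    rcases hx with rfl | rfl
    · have : x = ((u⁻¹ : Aˣ) : A) * ((u : A) * x) := by
        rw [← mul_assoc, Units.inv_mul, one_mul]
      rw [this]
      exact Ideal.mul_mem_left _ _ (Ideal.subset_span (by simp))
    · exact Ideal.subset_span (by simp)

theorem iN_unit_mul_left (u : Aˣ) (a b : A) : iN ((u : A) * a) b = iN a b :=
  iN_congr (span_pair_unit_mul u)

theorem iN_isUnit_left {a : A} (ha : IsUnit a) (b : A) : iN a b = 0 := by
  have h : Ideal.span ({a, b} : Set A) = ⊤ :=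
    Ideal.eq_top_of_isUnit_mem _ (Ideal.subset_span (by simp)) ha
  rw [iN_def, h]
  rw [Module.length_eq_zero_iff]
  exact Submodule.Quotient.subsingleton_iff.mpr rfl

/-- Additivity of the intersection number in the first variable. -/
theorem iN_mul_left [IsNoetherianRing A] (a g b : A)
    (ha : IsSMulRegular (A ⧸ Ideal.span ({b} : Set A)) a) :
    iN (a * g) b = iN a b + iN g b := by
  have h := Groth.Agent.S15315.result A a b (Ideal.span {g}) ha
  have h1 : Ideal.span ({a} : Set A) * Ideal.span {g} ⊔ Ideal.span {b} = Ideal.span {a * g, b} := by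
    rw [Ideal.span_singleton_mul_span_singleton, ← Ideal.span_union, Set.singleton_union]
  have h2 : Ideal.span ({g} : Set A) ⊔ Ideal.span {b} = Ideal.span {g, b} := by
    rw [← Ideal.span_union, Set.singleton_union]
  rw [h1, h2] at h
  exact h

theorem iN_pow_left [IsNoetherianRing A] (a b : A)
    (ha : IsSMulRegular (A ⧸ Ideal.span ({b} : Set A)) a) (n : ℕ) :
    iN (a ^ n) b = n * iN a b := by
  induction n with
  | zero => rw [pow_zero, iN_isUnit_left isUnit_one]; simp
  | succ n ih =>
    rw [pow_succ', iN_mul_left a _ b ha, ih]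
    push_cast
    ring

/-- In a domain, a prime element not dividing `b` is a non-zero-divisor modulo `b`. -/
theorem isSMulRegular_of_prime_not_dvd [IsDomain A] {p b : A} (hp : Prime p) (h : ¬ p ∣ b) :
    IsSMulRegular (A ⧸ Ideal.span ({b} : Set A)) p := by
  intro x y hxy
  obtain ⟨x', rfl⟩ := Ideal.Quotient.mk_surjective x
  obtain ⟨y', rfl⟩ := Ideal.Quotient.mk_surjective y
  have h1 : (Ideal.Quotient.mk (Ideal.span ({b} : Set A))) (p * (x' - y')) = 0 := by
    have h2 : ∀ z : A, p • (Ideal.Quotient.mk (Ideal.span ({b} : Set A))) z =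
        (Ideal.Quotient.mk (Ideal.span ({b} : Set A))) (p * z) := fun z => rfl
    have h3 : p • (Ideal.Quotient.mk (Ideal.span ({b} : Set A))) x' =
        p • (Ideal.Quotient.mk (Ideal.span ({b} : Set A))) y' := hxy
    rw [mul_sub, map_sub, ← h2, ← h2, h3, sub_self]
  rw [Ideal.Quotient.eq_zero_iff_mem, Ideal.mem_span_singleton] at h1
  obtain ⟨z, hz⟩ := h1
  have h4 : p ∣ b * z := ⟨x' - y', hz.symm⟩
  rcases hp.dvd_or_dvd h4 with h5 | h5
  · exact absurd h5 h
  · obtain ⟨z', rfl⟩ := h5
    have h6 : p * (x' - y') = p * (b * z') := by rw [hz]; ring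
    have h7 := mul_left_cancel₀ hp.ne_zero h6
    rw [← sub_eq_zero, ← map_sub, Ideal.Quotient.eq_zero_iff_mem, Ideal.mem_span_singleton]
    exact ⟨z', h7⟩

end General

section Node

variable {B : Type u} [CommRing B] [IsDomain B] [IsDiscreteValuationRing B] (π : B)
  (hπ : Irreducible π)

include hπ

theorem maximalIdeal_nodeAlg :
    haveI := isLocalRing_nodeAlg π hπ
    IsLocalRing.maximalIdeal (ArLef.NodeAlg B π) =
      Ideal.span ({ArLef.NodeAlg.t π, ArLef.NodeAlg.e π} : Set (ArLef.NodeAlg B π)) := by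
  haveI := isLocalRing_nodeAlg π hπ
  apply le_antisymm
  · intro x hx
    obtain ⟨b, hb⟩ := exists_sub_algebraMap_mem π x
    have hb' := span_t_e_le_maximalIdeal π hπ hb
    have h1 : algebraMap B (ArLef.NodeAlg B π) b ∈ IsLocalRing.maximalIdeal (ArLef.NodeAlg B π) := by
      have : algebraMap B (ArLef.NodeAlg B π) b = x - (x - algebraMap B (ArLef.NodeAlg B π) b) := by
        ring
      rw [this]
      exact Ideal.sub_mem _ hx hb'
    have h2 : ¬ IsUnit b := by
      intro hu
      exact (IsLocalRing.mem_maximalIdeal _).mp h1 (hu.map _)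
    have h3 : b ∈ IsLocalRing.maximalIdeal B := (IsLocalRing.mem_maximalIdeal _).mpr h2
    rw [hπ.maximalIdeal_eq, Ideal.mem_span_singleton'] at h3
    obtain ⟨c, rfl⟩ := h3
    have h4 : algebraMap B (ArLef.NodeAlg B π) (c * π) ∈
        Ideal.span ({ArLef.NodeAlg.t π, ArLef.NodeAlg.e π} : Set (ArLef.NodeAlg B π)) := by
      rw [map_mul, ← Groth.Agent.Lib.Helper22.nodeAlg_t_mul_e π, ← mul_assoc]
      exact Ideal.mul_mem_left _ _ (Ideal.subset_span (by simp))
    have : x = (x - algebraMap B (ArLef.NodeAlg B π) (c * π)) +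
        algebraMap B (ArLef.NodeAlg B π) (c * π) := by ring
    rw [this]
    exact Ideal.add_mem _ hb h4
  · exact span_t_e_le_maximalIdeal π hπ

theorem iN_t_e : iN (ArLef.NodeAlg.t π) (ArLef.NodeAlg.e π) = 1 := by
  haveI := isLocalRing_nodeAlg π hπ
  rw [iN_def, Module.length_eq_one_iff, isSimpleModule_iff_isCoatom, ← maximalIdeal_nodeAlg π hπ,
    ← Ideal.isMaximal_def]
  exact IsLocalRing.maximalIdeal.isMaximal _

theorem not_t_dvd_e : ¬ ArLef.NodeAlg.t π ∣ ArLef.NodeAlg.e π := by
  haveI := span_isMaximal π hπ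
  intro h
  have h3 : branch π 1 (ArLef.NodeAlg.e π) = 0 := (branch_eq_zero_iff π 1 _).mpr h
  have h4 : branch π 1 (ArLef.NodeAlg.e π) = PowerSeries.X := branch_var_self π 1
  rw [h4] at h3
  exact PowerSeries.X_ne_zero h3

theorem not_e_dvd_t : ¬ ArLef.NodeAlg.e π ∣ ArLef.NodeAlg.t π := by
  haveI := span_isMaximal π hπ
  intro h
  have h3 : branch π 0 (ArLef.NodeAlg.t π) = 0 := (branch_eq_zero_iff π 0 _).mpr h
  have h4 : branch π 0 (ArLef.NodeAlg.t π) = PowerSeries.X := branch_var_self π 0
  rw [h4] at h3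
  exact PowerSeries.X_ne_zero h3

theorem isNoetherianRing_nodeAlg : IsNoetherianRing (ArLef.NodeAlg B π) :=
  Ideal.Quotient.isNoetherianRing _

end Node

end Groth.Agent.Lib.T2H7.NodeAlg
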