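import Mathlib
import Groth.Agent.Lib.T2H7NodeAlg3

/-!
Automorphisms of the node algebra stabilising both branches: the fixed-point ideal, and colon ideals.
-/

set_option autoImplicit false
set_option linter.style.haveILetI false
universe u

namespace Groth.Agent.Lib.T2H7.NodeAlg

section General

variable {A : Type u} [CommRing A]

theorem colon_span_pair_mul [IsDomain A] {D : A} (hD : D ≠ 0) (x y : A) :
    (Ideal.span ({D * x, D * y} : Set A)).colon ({D} : Set A) = Ideal.span {x, y} := by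
  ext r
  rw [Submodule.mem_colon_singleton, smul_eq_mul, Ideal.mem_span_pair, Ideal.mem_span_pair]
  constructor
  · rintro ⟨p, q, h⟩
    refine ⟨p, q, ?_⟩
    apply mul_left_cancel₀ hD
    linear_combination h
  · rintro ⟨p, q, h⟩
    refine ⟨p, q, ?_⟩
    linear_combination D * h

end General

section Node

variable {B : Type u} [CommRing B] [IsDomain B] [IsDiscreteValuationRing B] (π : B)
  (hπ : Irreducible π)

include hπ

/-- If `σ` stabilises both branches, `σ t = α t`, `σ e = β e`, and `σ π = π + γ π^(j'+1)`, then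
`(α - 1) + (β - 1) + (α - 1)(β - 1) = γ π^j'` and the fixed-point ideal is generated by
`(α - 1) t` and `(β - 1) e`. -/
theorem stab_fix (j' : ℕ) (γ : B) (hγ : IsUnit γ)
    (σ : ArLef.NodeAlg B π ≃+* ArLef.NodeAlg B π)
    (hσB : ∀ b : B, σ (algebraMap B (ArLef.NodeAlg B π) b) - algebraMap B (ArLef.NodeAlg B π) b ∈
      Ideal.span ({algebraMap B (ArLef.NodeAlg B π) (π ^ (j' + 1))} : Set (ArLef.NodeAlg B π)))
    (hσπ : σ (algebraMap B (ArLef.NodeAlg B π) π) =
      algebraMap B (ArLef.NodeAlg B π) (π + γ * π ^ (j' + 1)))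
    (α β : (ArLef.NodeAlg B π)ˣ)
    (ht : σ (ArLef.NodeAlg.t π) = (α : ArLef.NodeAlg B π) * ArLef.NodeAlg.t π)
    (he : σ (ArLef.NodeAlg.e π) = (β : ArLef.NodeAlg B π) * ArLef.NodeAlg.e π) :
    (((α : ArLef.NodeAlg B π) - 1) + ((β : ArLef.NodeAlg B π) - 1) +
        ((α : ArLef.NodeAlg B π) - 1) * ((β : ArLef.NodeAlg B π) - 1) =
      algebraMap B (ArLef.NodeAlg B π) γ * (algebraMap B (ArLef.NodeAlg B π) π) ^ j') ∧
    ArLef.fixIdeal σ = Ideal.span ({((α : ArLef.NodeAlg B π) - 1) * ArLef.NodeAlg.t π,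
      ((β : ArLef.NodeAlg B π) - 1) * ArLef.NodeAlg.e π} : Set (ArLef.NodeAlg B π)) := by
  haveI := isDomain_nodeAlg π hπ
  have hpt : Prime (ArLef.NodeAlg.t π) := var_prime π hπ 0
  have hpe : Prime (ArLef.NodeAlg.e π) := var_prime π hπ 1
  have hte : ArLef.NodeAlg.t π * ArLef.NodeAlg.e π = algebraMap B (ArLef.NodeAlg B π) π :=
    Groth.Agent.Lib.Helper22.nodeAlg_t_mul_e π
  set t := ArLef.NodeAlg.t π with ht_def
  set e := ArLef.NodeAlg.e π with he_def
  set P := algebraMap B (ArLef.NodeAlg B π) π with hP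
  set G := algebraMap B (ArLef.NodeAlg B π) γ with hG
  have hGu : IsUnit G := hγ.map _
  have hP0 : P ≠ 0 := by rw [← hte]; exact mul_ne_zero hpt.ne_zero hpe.ne_zero
  have hαβ : (α : ArLef.NodeAlg B π) * β = 1 + G * P ^ j' := by
    have h1 : σ t * σ e = P + G * P ^ (j' + 1) := by
      rw [← map_mul, hte, hσπ, map_add, map_mul, map_pow]
    rw [ht, he] at h1
    have h2 : P * ((α : ArLef.NodeAlg B π) * β) = P * (1 + G * P ^ j') := by
      rw [← hte] at h1 ⊢
      linear_combination h1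
    exact mul_left_cancel₀ hP0 h2
  set a := (α : ArLef.NodeAlg B π) - 1 with ha
  set b := (β : ArLef.NodeAlg B π) - 1 with hb
  have habG : a + b + a * b = G * P ^ j' := by
    rw [ha, hb]; linear_combination hαβ
  refine ⟨habG, ?_⟩
  set J := Ideal.span ({a * t, b * e} : Set (ArLef.NodeAlg B π)) with hJ
  have hatJ : a * t ∈ J := Ideal.subset_span (by simp)
  have hbeJ : b * e ∈ J := Ideal.subset_span (by simp)
  have hPj : P ^ (j' + 1) ∈ J := by
    have h1 : G * P ^ (j' + 1) ∈ J := by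
      have : G * P ^ (j' + 1) = e * (a * t) + t * (b * e) + (a * t) * (b * e) := by
        rw [pow_succ, ← mul_assoc, ← habG, ← hte]; ring
      rw [this]
      exact Ideal.add_mem _ (Ideal.add_mem _ (Ideal.mul_mem_left _ _ hatJ)
        (Ideal.mul_mem_left _ _ hbeJ)) (Ideal.mul_mem_left _ _ hbeJ)
    obtain ⟨G', hG'⟩ := hGu
    have : P ^ (j' + 1) =
        ((G'⁻¹ : (ArLef.NodeAlg B π)ˣ) : ArLef.NodeAlg B π) * (G * P ^ (j' + 1)) := by
      rw [← hG', ← mul_assoc, Units.inv_mul, one_mul]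
    rw [this]
    exact Ideal.mul_mem_left _ _ h1
  apply le_antisymm
  · apply fixIdeal_le_nodeAlg π hπ
    · intro b0
      have h1 := hσB b0
      rw [map_pow] at h1
      exact (Ideal.span_singleton_le_iff_mem _).mpr hPj h1
    · show σ t - t ∈ J
      have : σ t - t = a * t := by rw [ht, ha]; ring
      rw [this]; exact hatJ
    · show σ e - e ∈ J
      have : σ e - e = b * e := by rw [he, hb]; ring
      rw [this]; exact hbeJ
  · have h1 : σ t - t ∈ ArLef.fixIdeal σ := Ideal.subset_span ⟨t, rfl⟩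
    have h2 : σ e - e ∈ ArLef.fixIdeal σ := Ideal.subset_span ⟨e, rfl⟩
    have h3 : σ t - t = a * t := by rw [ht, ha]; ring
    have h4 : σ e - e = b * e := by rw [he, hb]; ring
    rw [h3] at h1
    rw [h4] at h2
    rw [hJ, Ideal.span_le]
    intro y hy
    rcases hy with rfl | rfl
    · exact h1
    · exact h2

end Node

end Groth.Agent.Lib.T2H7.NodeAlg
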