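import Mathlib
import Groth.Agent.Lib.T2H7NodeAlg4

/-!
The node algebra `k[[t, e]]/(te)` over a field, and a length formula for sums and intersections.
-/

set_option autoImplicit false
set_option linter.style.haveILetI false
universe u

namespace Groth.Agent.Lib.T2H7.NodeField

open Groth.Agent.Lib.T2H7.NodeAlg

section General

variable {R : Type u} [CommRing R] {M : Type u} [AddCommGroup M] [Module R M]

/-- `length M/(N₁ ⊓ N₂) + length M/(N₁ ⊔ N₂) = length M/N₁ + length M/N₂`. -/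
theorem length_quot_inf_add_sup (N₁ N₂ : Submodule R M) :
    Module.length R (M ⧸ (N₁ ⊓ N₂)) + Module.length R (M ⧸ (N₁ ⊔ N₂)) =
      Module.length R (M ⧸ N₁) + Module.length R (M ⧸ N₂) := by
  let f : (M ⧸ (N₁ ⊓ N₂)) →ₗ[R] (M ⧸ N₁) × (M ⧸ N₂) :=
    Submodule.liftQ (N₁ ⊓ N₂) (LinearMap.prod N₁.mkQ N₂.mkQ) (by
      intro x hx
      rw [LinearMap.mem_ker]
      have h0 : (LinearMap.prod N₁.mkQ N₂.mkQ) x = (N₁.mkQ x, N₂.mkQ x) := rfl
      rw [h0, Prod.mk_eq_zero, Submodule.mkQ_apply, Submodule.mkQ_apply,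
        Submodule.Quotient.mk_eq_zero, Submodule.Quotient.mk_eq_zero]
      exact ⟨hx.1, hx.2⟩)
  let g : (M ⧸ N₁) × (M ⧸ N₂) →ₗ[R] (M ⧸ (N₁ ⊔ N₂)) :=
    LinearMap.coprod (Submodule.mapQ N₁ (N₁ ⊔ N₂) LinearMap.id (by
        rw [Submodule.comap_id]; exact le_sup_left))
      (-(Submodule.mapQ N₂ (N₁ ⊔ N₂) LinearMap.id (by
        rw [Submodule.comap_id]; exact le_sup_right)))
  have hf : Function.Injective f := by
    rw [← LinearMap.ker_eq_bot, LinearMap.ker_eq_bot']
    intro x hx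
    obtain ⟨x', rfl⟩ := Submodule.Quotient.mk_surjective _ x
    have h1 : f (Submodule.Quotient.mk x') = (Submodule.Quotient.mk x', Submodule.Quotient.mk x') :=
      rfl
    rw [h1, Prod.mk_eq_zero, Submodule.Quotient.mk_eq_zero, Submodule.Quotient.mk_eq_zero] at hx
    rw [Submodule.Quotient.mk_eq_zero]
    exact ⟨hx.1, hx.2⟩
  have hg : Function.Surjective g := by
    intro y
    obtain ⟨y', rfl⟩ := Submodule.Quotient.mk_surjective _ y
    refine ⟨(Submodule.Quotient.mk y', 0), ?_⟩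
    change Submodule.Quotient.mk y' + (-(0 : M ⧸ (N₁ ⊔ N₂))) = _
    rw [neg_zero, add_zero]
  have hgval : ∀ y z : M, g (Submodule.Quotient.mk y, Submodule.Quotient.mk z) =
      Submodule.Quotient.mk (y - z) := by
    intro y z
    change Submodule.Quotient.mk y + (-(Submodule.Quotient.mk z : M ⧸ (N₁ ⊔ N₂))) = _
    rw [← sub_eq_add_neg, ← Submodule.Quotient.mk_sub]
  have hex : Function.Exact f g := by
    intro p
    constructor
    · intro hp
      obtain ⟨y, z⟩ := p
      obtain ⟨y', rfl⟩ := Submodule.Quotient.mk_surjective _ y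
      obtain ⟨z', rfl⟩ := Submodule.Quotient.mk_surjective _ z
      rw [hgval, Submodule.Quotient.mk_eq_zero, Submodule.mem_sup] at hp
      obtain ⟨n1, hn1, n2, hn2, h12⟩ := hp
      refine ⟨Submodule.Quotient.mk (y' - n1), ?_⟩
      have h1 : f (Submodule.Quotient.mk (y' - n1)) =
          (Submodule.Quotient.mk (y' - n1), Submodule.Quotient.mk (y' - n1)) := rfl
      rw [h1, Prod.mk.injEq]
      constructor
      · rw [Submodule.Quotient.eq]
        have : y' - n1 - y' = -n1 := by abel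
        rw [this]; exact neg_mem hn1
      · rw [Submodule.Quotient.eq]
        have : y' - n1 - z' = n2 := by
          have h0 : y' - n1 - z' = (y' - z') - n1 := by abel
          rw [h0, ← h12]; abel
        rw [this]; exact hn2
    · rintro ⟨x, rfl⟩
      obtain ⟨x', rfl⟩ := Submodule.Quotient.mk_surjective _ x
      have h1 : f (Submodule.Quotient.mk x') =
          (Submodule.Quotient.mk x', Submodule.Quotient.mk x') := rfl
      rw [h1, hgval, sub_self, Submodule.Quotient.mk_zero]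
  have h := Module.length_eq_add_of_exact f g hf hg hex
  rw [Module.length_prod] at h
  exact h.symm

end General

section Field

variable (k : Type u) [Field k]

theorem span_zero_isPrime : (Ideal.span ({(0 : k)} : Set k)).IsPrime := by
  have : Ideal.span ({(0 : k)} : Set k) = ⊥ := by
    rw [Ideal.span_singleton_eq_bot]
  rw [this]
  exact Ideal.isPrime_bot

theorem nontrivial_nodeField : Nontrivial (ArLef.NodeAlg k 0) := by
  haveI := span_zero_isPrime k
  exact (branch (0 : k) 0).domain_nontrivial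

theorem isLocalRing_nodeField : IsLocalRing (ArLef.NodeAlg k 0) := by
  haveI := nontrivial_nodeField k
  exact IsLocalRing.of_surjective' (Ideal.Quotient.mk _) Ideal.Quotient.mk_surjective

theorem t_mul_e : ArLef.NodeAlg.t (0 : k) * ArLef.NodeAlg.e (0 : k) = 0 := by
  rw [Groth.Agent.Lib.Helper22.nodeAlg_t_mul_e (0 : k), map_zero]

theorem not_isUnit_var (i : Fin 2) : ¬ IsUnit (var (0 : k) i) := by
  haveI := span_zero_isPrime k
  intro h
  have h1 := h.map (branch (0 : k) i)
  rw [branch_var_self] at h1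
  exact PowerSeries.X_prime.not_isUnit h1

theorem span_t_e_le_maximalIdeal :
    haveI := isLocalRing_nodeField k
    Ideal.span ({ArLef.NodeAlg.t (0 : k), ArLef.NodeAlg.e (0 : k)} : Set (ArLef.NodeAlg k 0)) ≤
      IsLocalRing.maximalIdeal (ArLef.NodeAlg k 0) := by
  haveI := isLocalRing_nodeField k
  rw [Ideal.span_le]
  intro x hx
  rcases hx with rfl | rfl
  · exact (IsLocalRing.mem_maximalIdeal _).mpr (not_isUnit_var k 0)
  · exact (IsLocalRing.mem_maximalIdeal _).mpr (not_isUnit_var k 1)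

theorem maximalIdeal_nodeField :
    haveI := isLocalRing_nodeField k
    IsLocalRing.maximalIdeal (ArLef.NodeAlg k 0) =
      Ideal.span ({ArLef.NodeAlg.t (0 : k), ArLef.NodeAlg.e (0 : k)} :
        Set (ArLef.NodeAlg k 0)) := by
  haveI := isLocalRing_nodeField k
  apply le_antisymm
  · intro x hx
    obtain ⟨b, hb⟩ := exists_sub_algebraMap_mem (0 : k) x
    have hb' := span_t_e_le_maximalIdeal k hb
    have h1 : algebraMap k (ArLef.NodeAlg k 0) b ∈ IsLocalRing.maximalIdeal (ArLef.NodeAlg k 0) := by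
      have : algebraMap k (ArLef.NodeAlg k 0) b = x - (x - algebraMap k (ArLef.NodeAlg k 0) b) := by
        ring
      rw [this]
      exact Ideal.sub_mem _ hx hb'
    have h2 : ¬ IsUnit b := by
      intro hu
      exact (IsLocalRing.mem_maximalIdeal _).mp h1 (hu.map _)
    have h3 : b = 0 := by
      by_contra hne
      exact h2 (isUnit_iff_ne_zero.mpr hne)
    subst h3
    have h4 : x - algebraMap k (ArLef.NodeAlg k 0) 0 = x := by
      rw [RingHom.map_zero (algebraMap k (ArLef.NodeAlg k 0))]; exact sub_zero x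
    exact h4 ▸ hb
  · exact span_t_e_le_maximalIdeal k

theorem length_quot_span_t_e :
    Module.length (ArLef.NodeAlg k 0) (ArLef.NodeAlg k 0 ⧸
      Ideal.span ({ArLef.NodeAlg.t (0 : k), ArLef.NodeAlg.e (0 : k)} :
        Set (ArLef.NodeAlg k 0))) = 1 := by
  haveI := isLocalRing_nodeField k
  rw [Module.length_eq_one_iff, isSimpleModule_iff_isCoatom, ← maximalIdeal_nodeField k,
    ← Ideal.isMaximal_def]
  exact IsLocalRing.maximalIdeal.isMaximal _

/-- In `k[[t, e]]/(te)` the ideals `(t)` and `(e)` meet in zero. -/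
theorem eq_zero_of_t_dvd_of_e_dvd (x : ArLef.NodeAlg k 0)
    (h1 : ArLef.NodeAlg.t (0 : k) ∣ x) (h2 : ArLef.NodeAlg.e (0 : k) ∣ x) : x = 0 := by
  haveI := span_zero_isPrime k
  obtain ⟨y, rfl⟩ := h1
  have h3 : branch (0 : k) 0 (ArLef.NodeAlg.t (0 : k) * y) = 0 := by
    rw [branch_eq_zero_iff]; exact h2
  rw [map_mul] at h3
  have h4 : branch (0 : k) 0 (ArLef.NodeAlg.t (0 : k)) = PowerSeries.X := branch_var_self (0 : k) 0
  rw [h4] at h3
  have h5 : branch (0 : k) 0 y = 0 := by
    rcases mul_eq_zero.mp h3 with h | h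
    · exact absurd h PowerSeries.X_ne_zero
    · exact h
  rw [branch_eq_zero_iff] at h5
  obtain ⟨z, rfl⟩ := h5
  have : var (0 : k) (other 0) = ArLef.NodeAlg.e (0 : k) := rfl
  rw [this, ← mul_assoc, t_mul_e, zero_mul]

theorem fix_sub_mem_nodeField (σ : ArLef.NodeAlg k 0 ≃+* ArLef.NodeAlg k 0)
    (J : Ideal (ArLef.NodeAlg k 0))
    (hB : ∀ b : k, σ (algebraMap k (ArLef.NodeAlg k 0) b) - algebraMap k (ArLef.NodeAlg k 0) b ∈ J)
    (ht : σ (ArLef.NodeAlg.t (0 : k)) - ArLef.NodeAlg.t (0 : k) ∈ J)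
    (he : σ (ArLef.NodeAlg.e (0 : k)) - ArLef.NodeAlg.e (0 : k) ∈ J) (x : ArLef.NodeAlg k 0) :
    σ x - x ∈ J := by
  haveI := isLocalRing_nodeField k
  have hS : ∀ s ∈ (Algebra.adjoin k ({ArLef.NodeAlg.t (0 : k), ArLef.NodeAlg.e (0 : k)} :
      Set (ArLef.NodeAlg k 0))).toSubring, σ s - s ∈ J := by
    intro s hs
    rw [Subalgebra.mem_toSubring] at hs
    rw [← mem_fixSubring]
    refine Algebra.adjoin_induction (p := fun s _ => s ∈ fixSubring σ J) ?_ ?_ ?_ ?_ hs
    · intro y hy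
      rcases hy with rfl | rfl
      · exact ht
      · exact he
    · intro b
      exact hB b
    · intro y z _ _ hy hz
      exact Subring.add_mem _ hy hz
    · intro y z _ _ hy hz
      exact Subring.mul_mem _ hy hz
  refine fix_sub_mem_of_dense σ J _ (span_t_e_le_maximalIdeal k) _ hS ?_ x
  intro y n
  obtain ⟨s, hs, h⟩ := dense_adjoin_nodeAlg (0 : k) y n
  exact ⟨s, hs, h⟩

theorem fixIdeal_le_nodeField (σ : ArLef.NodeAlg k 0 ≃+* ArLef.NodeAlg k 0)
    (J : Ideal (ArLef.NodeAlg k 0))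
    (hB : ∀ b : k, σ (algebraMap k (ArLef.NodeAlg k 0) b) - algebraMap k (ArLef.NodeAlg k 0) b ∈ J)
    (ht : σ (ArLef.NodeAlg.t (0 : k)) - ArLef.NodeAlg.t (0 : k) ∈ J)
    (he : σ (ArLef.NodeAlg.e (0 : k)) - ArLef.NodeAlg.e (0 : k) ∈ J) :
    ArLef.fixIdeal σ ≤ J := by
  unfold ArLef.fixIdeal
  rw [Ideal.span_le]
  rintro _ ⟨r, rfl⟩
  exact fix_sub_mem_nodeField k σ J hB ht he r

end Field

end Groth.Agent.Lib.T2H7.NodeField
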