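import Mathlib
import Groth.Prelude.Def_Pi1
import Groth.Agent.Lib.T2H9NormFF
import Groth.Agent.Lib.Helper11SmInt

/-!
Helper library (helper7): normality descends along a surjective morphism `f` with `O_Y ≅ f_* O_X` from a normal
integral scheme.
-/

set_option autoImplicit false
set_option linter.unusedSectionVars false
set_option linter.unusedVariables false
set_option linter.style.haveILetI false
universe u
open CategoryTheory CategoryTheory.Limits AlgebraicGeometry TopologicalSpace Opposite

namespace Groth.Agent.Lib.T2H7.NormalPush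

/-- sections of a normal integral scheme over a nonempty open form an integrally closed domain. -/
theorem isIntegrallyClosed_sections {Z : Scheme.{u}} [IsIntegral Z] (hZ : Pi1.IsNormalScheme Z)
    (W : Z.Opens) [Nonempty W] : IsIntegrallyClosed Γ(Z, W) := by
  haveI : IsDomain Γ(Z, W) := IsIntegral.component_integral W
  set gm : Γ(Z, W) →+* Z.functionField := (Z.germToFunctionField W).hom with hgm
  have hgminj : Function.Injective gm := Z.germToFunctionField_injective W
  let ιK : FractionRing Γ(Z, W) →+* Z.functionField := IsFractionRing.lift hgminj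
  have hι : ∀ r, ιK (algebraMap _ _ r) = gm r := fun r => IsFractionRing.lift_algebraMap hgminj r
  rw [isIntegrallyClosed_iff (FractionRing Γ(Z, W))]
  intro t ht
  have hint : gm.IsIntegralElem (ιK t) := by
    obtain ⟨p, hp, hpt⟩ := ht
    refine ⟨p, hp, ?_⟩
    have h1 := congrArg ιK hpt
    rw [map_zero, Polynomial.hom_eval₂] at h1
    have h2 : ιK.comp (algebraMap Γ(Z, W) (FractionRing Γ(Z, W))) = gm := by
      ext r
      exact hι r
    rw [h2] at h1
    exact h1
  obtain ⟨s, hs⟩ := Groth.Agent.Lib.T2H9.NormFF.exists_section_of_isIntegralElem hZ W (ιK t) hint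
  refine ⟨s, ?_⟩
  apply ιK.injective
  rw [hι, ← hs]

/-- if sections over an affine open neighbourhood of `y` form an integrally closed domain, the stalk
at `y` is an integrally closed domain. -/
theorem stalk_normal_of_sections {Y : Scheme.{u}} (y : Y) (U : Y.Opens) (hU : IsAffineOpen U)
    (hyU : y ∈ U) [IsDomain Γ(Y, U)] [IsIntegrallyClosed Γ(Y, U)] :
    IsDomain (Y.presheaf.stalk y) ∧ IsIntegrallyClosed (Y.presheaf.stalk y) := by
  letI := TopCat.Presheaf.algebra_section_stalk Y.presheaf ⟨y, hyU⟩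
  haveI hloc := hU.isLocalization_stalk ⟨y, hyU⟩
  haveI := (hU.primeIdealOf ⟨y, hyU⟩).isPrime
  have hle : (hU.primeIdealOf ⟨y, hyU⟩).asIdeal.primeCompl ≤ nonZeroDivisors Γ(Y, U) :=
    Ideal.primeCompl_le_nonZeroDivisors _
  exact ⟨IsLocalization.isDomain_of_le_nonZeroDivisors (Y.presheaf.stalk y) hle,
    isIntegrallyClosed_of_isLocalization (Y.presheaf.stalk y)
      (hU.primeIdealOf ⟨y, hyU⟩).asIdeal.primeCompl hle⟩

/-- normality descends along a surjective `f : X ⟶ Y` with `O_Y ≅ f_* O_X`, `X` integral. -/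
theorem isNormalScheme_of_bijective_app {X Y : Scheme.{u}} [IsIntegral X]
    (hX : Pi1.IsNormalScheme X) (f : X ⟶ Y) [Surjective f]
    (hf : ∀ V : Y.Opens, Function.Bijective (f.app V).hom) : Pi1.IsNormalScheme Y := by
  intro y
  obtain ⟨_, ⟨U, hU, rfl⟩, hyU, -⟩ := Y.isBasis_affineOpens.exists_subset_of_mem_open
    (Set.mem_univ y) isOpen_univ
  replace hU : IsAffineOpen U := hU
  obtain ⟨x, hx⟩ := f.surjective y
  haveI : Nonempty (f ⁻¹ᵁ U) := ⟨⟨x, by change f x ∈ U; rw [hx]; exact hyU⟩⟩
  haveI : IsDomain Γ(X, f ⁻¹ᵁ U) := IsIntegral.component_integral _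
  haveI := isIntegrallyClosed_sections hX (f ⁻¹ᵁ U)
  let e : Γ(Y, U) ≃+* Γ(X, f ⁻¹ᵁ U) := RingEquiv.ofBijective (f.app U).hom (hf U)
  haveI : IsDomain Γ(Y, U) := e.toMulEquiv.isDomain_iff.mpr inferInstance
  haveI : IsIntegrallyClosed Γ(Y, U) := IsIntegrallyClosed.of_equiv e.symm
  exact stalk_normal_of_sections y U hU hyU

/-- a scheme whose ring of global functions is a domain is connected. -/
theorem connectedSpace_of_isDomain (Z : Scheme.{u}) [IsDomain Γ(Z, ⊤)] : ConnectedSpace Z := by
  rw [connectedSpace_iff_clopen]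
  constructor
  · by_contra hne
    rw [not_nonempty_iff] at hne
    have h1 : (⊤ : Z.Opens) = ⊥ := by
      ext z
      exact (hne.false z).elim
    have : Subsingleton Γ(Z, ⊤) := by
      rw [h1]
      infer_instance
    exact (one_ne_zero (α := Γ(Z, ⊤))) (Subsingleton.elim _ _)
  · intro s hs
    let A : Z.Opens := ⟨s, hs.isOpen⟩
    let B : Z.Opens := ⟨sᶜ, hs.compl.isOpen⟩
    let U : Bool → Z.Opens := fun b => if b then A else B
    let sf : ∀ b : Bool, Γ(Z, U b) := fun b => if b then 1 else 0
    have hAB : A ⊓ B = ⊥ := by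
      ext z
      simp only [A, B, Opens.coe_inf, Opens.coe_mk, Set.inter_compl_self, Opens.coe_bot]
    have hBA : B ⊓ A = ⊥ := by rw [inf_comm, hAB]
    have hcompat : TopCat.Presheaf.IsCompatible Z.presheaf U sf := by
      intro i j
      cases i <;> cases j
      · rfl
      · haveI : Subsingleton Γ(Z, U false ⊓ U true) := by
          change Subsingleton Γ(Z, B ⊓ A)
          rw [hBA]; infer_instance
        exact Subsingleton.elim _ _
      · haveI : Subsingleton Γ(Z, U true ⊓ U false) := by
          change Subsingleton Γ(Z, A ⊓ B)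
          rw [hAB]; infer_instance
        exact Subsingleton.elim _ _
      · rfl
    have hcover : (⊤ : Z.Opens) ≤ iSup U := by
      intro z _
      rw [Opens.mem_iSup]
      by_cases hz : z ∈ s
      · exact ⟨true, hz⟩
      · exact ⟨false, hz⟩
    obtain ⟨e', he, -⟩ := Z.sheaf.existsUnique_gluing' U ⊤ (fun b => homOfLE le_top) hcover sf hcompat
    obtain ⟨e, hee'⟩ : ∃ e : Γ(Z, ⊤), e = e' := ⟨e', rfl⟩
    subst hee'
    have heA : (Z.presheaf.map (homOfLE (le_top : A ≤ ⊤)).op).hom e = 1 := he true
    have heB : (Z.presheaf.map (homOfLE (le_top : B ≤ ⊤)).op).hom e = 0 := he false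
    have hprod : e * (1 - e) = 0 := by
      refine TopCat.Sheaf.eq_of_locally_eq' Z.sheaf U ⊤ (fun b => homOfLE le_top) hcover
        (e * (1 - e) : Γ(Z, ⊤)) (0 : Γ(Z, ⊤)) ?_
      intro b
      cases b
      · change (Z.presheaf.map (homOfLE (le_top : B ≤ ⊤)).op).hom (e * (1 - e)) =
          (Z.presheaf.map (homOfLE (le_top : B ≤ ⊤)).op).hom 0
        rw [map_mul, heB, zero_mul, map_zero]
      · change (Z.presheaf.map (homOfLE (le_top : A ≤ ⊤)).op).hom (e * (1 - e)) =
          (Z.presheaf.map (homOfLE (le_top : A ≤ ⊤)).op).hom 0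
        rw [map_mul, map_sub, map_one, heA, sub_self, mul_zero, map_zero]
    rcases mul_eq_zero.mp hprod with h0 | h1
    · left
      rw [h0, map_zero] at heA
      have hA : A = ⊥ := by
        rw [← Z.basicOpen_one (U := A), ← heA, Z.basicOpen_zero]
      have : (A : Set Z) = ∅ := by rw [hA]; rfl
      exact this
    · right
      have h1' : e = 1 := (sub_eq_zero.mp h1).symm
      rw [h1', map_one] at heB
      have hB : B = ⊥ := by
        rw [← Z.basicOpen_one (U := B), heB, Z.basicOpen_zero]
      have : (B : Set Z) = ∅ := by rw [hB]; rfl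
      exact Set.compl_empty_iff.mp this

/-- variant of `isNormalScheme_of_bijective_app` with `Y` integral instead of `f` surjective. -/
theorem isNormalScheme_of_bijective_app' {X Y : Scheme.{u}} [IsIntegral X] [IsIntegral Y]
    (hX : Pi1.IsNormalScheme X) (f : X ⟶ Y)
    (hf : ∀ V : Y.Opens, Function.Bijective (f.app V).hom) : Pi1.IsNormalScheme Y := by
  intro y
  obtain ⟨_, ⟨U, hU, rfl⟩, hyU, -⟩ := Y.isBasis_affineOpens.exists_subset_of_mem_open
    (Set.mem_univ y) isOpen_univ
  replace hU : IsAffineOpen U := hU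
  haveI : Nonempty U := ⟨⟨y, hyU⟩⟩
  haveI : IsDomain Γ(Y, U) := IsIntegral.component_integral _
  let e : Γ(Y, U) ≃+* Γ(X, f ⁻¹ᵁ U) := RingEquiv.ofBijective (f.app U).hom (hf U)
  haveI : Nonempty (f ⁻¹ᵁ U) := by
    by_contra hne
    rw [not_nonempty_iff] at hne
    have h1 : f ⁻¹ᵁ U = ⊥ := by
      ext z
      simp only [Opens.coe_bot, Set.mem_empty_iff_false, iff_false]
      exact fun hz => hne.false ⟨z, hz⟩
    have : Subsingleton Γ(X, f ⁻¹ᵁ U) := by
      rw [h1]
      infer_instance
    have : Subsingleton Γ(Y, U) := e.injective.subsingleton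
    exact (one_ne_zero (α := Γ(Y, U))) (Subsingleton.elim _ _)
  haveI := isIntegrallyClosed_sections hX (f ⁻¹ᵁ U)
  haveI : IsIntegrallyClosed Γ(Y, U) := IsIntegrallyClosed.of_equiv e.symm
  exact stalk_normal_of_sections y U hU hyU

/-- a Noetherian scheme with domain stalks whose ring of global functions is a domain is integral. -/
theorem isIntegral_of_isDomain_of_stalks (Z : Scheme.{u}) [IsNoetherian Z] [IsDomain Γ(Z, ⊤)]
    (hZ : ∀ z : Z, IsDomain (Z.presheaf.stalk z)) : IsIntegral Z := by
  haveI := connectedSpace_of_isDomain Z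
  exact Groth.Agent.Lib.Helper11SmInt.isIntegral_of_connected_of_isDomain_stalk hZ

end Groth.Agent.Lib.T2H7.NormalPush
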