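import Groth.Agent.Lib.T2H7ObsTFAE
import Groth.Agent.Lib.Helper25ChevalleyTriv
import Groth.Prelude.Def_GmPts

/-!
# T2H7ObsChar: subgroups without characters are observable
-/

set_option autoImplicit false
set_option linter.style.haveILetI false
set_option linter.unusedSectionVars false
set_option linter.unusedVariables false
universe u

open CategoryTheory MonoidalCategory CartesianMonoidalCategory MonObj GrpObj AlgebraicGeometry
open scoped TensorProduct

namespace Groth.Agent.Lib.T2H7.ObsChar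

open Groth.Agent.Lib.Helper25 Groth.Agent.Lib.Helper25.DensePts Groth.Agent.Lib.Helper25.SurjPts
open Groth.Agent.Lib.Helper25.GModComod Groth.Agent.Lib.T2H7.ObsPts Groth.Agent.Lib.T2H7.ObsFin
open Groth.Agent.Lib.T2H7.ObsHull Groth.Agent.Lib.T2H7.ObsTFAE

variable {k : Type u} [Field k]
  {G : Over (Spec (CommRingCat.of k))} [GrpObj G] [IsAffine G.left]
  {H : Over (Spec (CommRingCat.of k))} [GrpObj H] [IsAffine H.left]

attribute [local instance] instHopfΓ

section Restr

variable (i : H ⟶ G) [IsMonHom i]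

/-- restriction of functions along a homomorphism, as a bialgebra map -/
noncomputable def resHom : Γ(G.left, ⊤) →ₐc[k] Γ(H.left, ⊤) := φΓ k H G i

attribute [local instance] instOver instAlgΓ in
theorem resHom_apply (f : Γ(G.left, ⊤)) : resHom i f = i.left.appTop f := by
  have h1 := spec_map_ψΓ k H G i
  have h2 : H.left.isoSpec.inv ≫ i.left ≫ G.left.isoSpec.hom = Spec.map i.left.appTop := by
    rw [← Scheme.isoSpec_inv_naturality_assoc, Iso.inv_hom_id, Category.comp_id]
  rw [h2] at h1
  have h3 := Spec.map_injective h1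
  change (ψΓ k H G i).unop.hom f = _
  exact congrArg (fun t : Γ(G.left, ⊤) ⟶ Γ(H.left, ⊤) => t.hom f) h3

theorem resHom_surjective [IsClosedImmersion i.left] : Function.Surjective (resHom i) := by
  intro b
  obtain ⟨a, ha⟩ := (IsClosedImmersion.isAffine_surjective_of_isAffine i.left).2 b
  exact ⟨a, by rw [resHom_apply]; exact ha⟩

theorem evA_comp_hom {B : Type u} [CommRing B] [Algebra k B] (h : VecGrp.pt k B ⟶ H) :
    evA (h ≫ i) = (evA h).comp (resHom i : Γ(G.left, ⊤) →ₐ[k] Γ(H.left, ⊤)) := by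
  ext f
  rw [AlgHom.comp_apply, evA_apply, evA_apply, left_appTop_comp_apply]
  congr 2
  exact (resHom_apply i f).symm

end Restr

section GroupLike

/-- a morphism of group objects preserving the multiplication preserves the unit -/
theorem isMonHom_of_mul' {C : Type*} [Category C] [CartesianMonoidalCategory C] {M N : C}
    [GrpObj M] [GrpObj N] (t : M ⟶ N)
    (h1 : (fst M M * snd M M) ≫ t = (fst M M ≫ t) * (snd M M ≫ t)) : IsMonHom t where
  one_hom := by
    have h2 := congrArg (fun a => lift η[M] η[M] ≫ a) h1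
    simp only [MonObj.comp_mul, ← Category.assoc, lift_fst, lift_snd] at h2
    rw [MonObj.one_eq_one, _root_.mul_one] at h2
    rw [MonObj.one_eq_one, MonObj.one_eq_one]
    exact left_eq_mul.mp h2
  mul_hom := by
    rw [MonObj.mul_eq_mul M, h1, Hom.mul_def]
    congr 1
    ext <;> simp

/-- the values of a group-like function multiply -/
theorem evA_groupLike_mul {χ : Γ(H.left, ⊤)} (hχ : IsGroupLikeElem k χ) {B : Type u}
    [CommRing B] [Algebra k B] (x y : VecGrp.pt k B ⟶ H) :
    evA (x * y) χ = evA x χ * evA y χ := by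
  rw [evA_mul_apply, hχ.comul_eq_tmul_self, pm_tmul]

/-- a group-like function is the coordinate of a character -/
theorem exists_character_of_groupLike {χ : Γ(H.left, ⊤)} (hχ : IsGroupLikeElem k χ) :
    ∃ t : H ⟶ Red.Gm (Spec (CommRingCat.of k)), IsMonHom t ∧ Red.gmFn t = χ := by
  obtain ⟨v, hv⟩ := hχ.isUnit
  refine ⟨GmPts.ptOfUnit v, ?_, by rw [GmPts.gmFn_ptOfUnit, hv]⟩
  apply isMonHom_of_mul'
  apply GmPts.gmFn_injective
  change Red.gmFn _ = Red.gmFn _
  rw [GmPts.gmFn_mul, GmPts.gmFn_comp, GmPts.gmFn_comp, GmPts.gmFn_comp, GmPts.gmFn_ptOfUnit, hv]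
  have hP : IsAffine (H ⊗ H).left := by
    change IsAffine (Limits.pullback H.hom H.hom)
    infer_instance
  obtain ⟨B, _, _, z, hz⟩ := exists_univ_pt (H ⊗ H)
  apply hz
  change z.left.appTop _ = z.left.appTop _
  rw [map_mul, ← left_appTop_comp_apply, ← left_appTop_comp_apply, ← left_appTop_comp_apply]
  apply (ConcreteCategory.bijective_of_isIso (Scheme.ΓSpecIso (CommRingCat.of B)).hom).1
  rw [map_mul, ← evA_apply, ← evA_apply, ← evA_apply, MonObj.comp_mul, evA_groupLike_mul hχ]

/-- if all characters are trivial, the only group-like function is `1` -/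
theorem groupLike_eq_one
    (hchar : ∀ (t : H ⟶ Red.Gm (Spec (CommRingCat.of k))), IsMonHom t → t = 1)
    {χ : Γ(H.left, ⊤)} (hχ : IsGroupLikeElem k χ) : χ = 1 := by
  obtain ⟨t, ht, rfl⟩ := exists_character_of_groupLike hχ
  rw [hchar t ht, GmPts.gmFn_one]

end GroupLike

section Main

variable [IsAlgClosed k]

open HopfRep

/-- **A closed subgroup without non-trivial characters is observable.** -/
theorem observable_of_no_characters [Smooth G.hom] [Smooth H.hom] (i : H ⟶ G) [IsMonHom i]
    [IsClosedImmersion i.left]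
    (hchar : ∀ (t : H ⟶ Red.Gm (Spec (CommRingCat.of k))), IsMonHom t → t = 1) :
    AGF.IsObservableIn k i := by
  haveI hft : Algebra.FiniteType k Γ(G.left, ⊤) := finiteType_Γ (k := k) (G := G)
  have hocc : ∀ χ : Γ(H.left, ⊤), IsGroupLikeElem k χ →
      (∃ (V : Type u) (_ : AddCommGroup V) (_ : Module k V)
        (_ : HopfRep.Comod k Γ(G.left, ⊤) V) (_ : Module.Finite k V) (v : V),
          v ≠ 0 ∧ LinearMap.lTensor V (resHom i).toLinearMap
            (HopfRep.Comod.coact (k := k) (A := Γ(G.left, ⊤)) v) = v ⊗ₜ[k] χ) →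
      ∃ m : ℕ, 0 < m ∧ ∃ ψ : Γ(H.left, ⊤), IsGroupLikeElem k ψ ∧ ψ * χ ^ m = 1 ∧
        ∃ (V : Type u) (_ : AddCommGroup V) (_ : Module k V)
          (_ : HopfRep.Comod k Γ(G.left, ⊤) V) (_ : Module.Finite k V) (v : V),
          v ≠ 0 ∧ LinearMap.lTensor V (resHom i).toLinearMap
            (HopfRep.Comod.coact (k := k) (A := Γ(G.left, ⊤)) v) = v ⊗ₜ[k] ψ := by
    intro χ hχ hocc
    have h1 : χ = 1 := groupLike_eq_one hchar hχ
    subst h1
    exact ⟨1, one_pos, 1, hχ, by simp, hocc⟩
  obtain ⟨V, _, _, cV, _, v, hv0, hrep, htriv⟩ :=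
    exists_line_trivial_character k Γ(G.left, ⊤) Γ(H.left, ⊤) (resHom i) (resHom_surjective i) hocc
  apply observable_of_stab i (gmodOfCoact cV.coact cV.coassoc cV.counit_comp) v
  intro g
  rw [gmodOfCoact_pt_fixed_iff]
  constructor
  · intro hfix
    have hstab : SGA3.StabilizesLine k Γ(G.left, ⊤) v k (evA g) := by
      refine ⟨1, ?_⟩
      apply (TensorProduct.rid k V).injective
      rw [TensorProduct.rid_tmul, one_smul]
      exact hfix
    have hker := (hrep k (evA g)).mpr hstab
    have hle : RingHom.ker (resHom i : Γ(G.left, ⊤) →ₐ[k] Γ(H.left, ⊤)).toRingHom ≤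
        RingHom.ker (evA g).toRingHom := fun a ha => hker a ha
    refine ⟨ptA (AlgHom.liftOfSurjective (resHom i : Γ(G.left, ⊤) →ₐ[k] Γ(H.left, ⊤))
      (resHom_surjective i) (evA g) hle), ?_⟩
    apply evA_injective
    rw [evA_comp_hom, evA_ptA, AlgHom.liftOfSurjective_comp]
  · rintro ⟨h, rfl⟩
    rw [actPt, evA_comp_hom]
    have h2 : ((evA h).comp (resHom i : Γ(G.left, ⊤) →ₐ[k] Γ(H.left, ⊤))).toLinearMap.lTensor V
        (cV.coact v) = (evA h).toLinearMap.lTensor V
          ((resHom i).toLinearMap.lTensor V (cV.coact v)) := by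
      rw [← LinearMap.lTensor_comp_apply]
      rfl
    rw [h2]
    have h3 : (resHom i).toLinearMap.lTensor V (cV.coact v) = v ⊗ₜ[k] (1 : Γ(H.left, ⊤)) := htriv
    rw [h3, LinearMap.lTensor_tmul, AlgHom.toLinearMap_apply, map_one, TensorProduct.rid_tmul,
      one_smul]

end Main

end Groth.Agent.Lib.T2H7.ObsChar
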