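import Groth.Agent.Lib.T2H7ObsFrac
import Groth.Agent.Lib.T2H7GrossTransfer

/-!
# T2H7ObsCodim: the orbit in `Spec k[G]^H` is open with complement of codimension at least two

* `two_le_height_of_saturated`: a converse of Hartogs' extension: if `R ⊆ A` are Noetherian, `J`
  is an ideal of `R` generating the unit ideal of `A`, and `R` is saturated in `A` with respect to
  non-zero-divisors, every prime of `R` over `J` has height at least two.
* `isOpen_range_and_two_le_height`: for a closed subgroup `H ⊆ G` with `k[G]^H` finitely generated,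
  the image of `G → Spec k[G]^H` is open and the points outside it have height at least two.
-/

set_option autoImplicit false
set_option linter.style.haveILetI false
set_option linter.unusedSectionVars false
set_option linter.unusedVariables false
universe u

namespace Groth.Agent.Lib.T2H7.ObsCodim

theorem two_le_height_of_saturated {R A : Type u} [CommRing R] [CommRing A] [Algebra R A]
    [IsNoetherianRing R] [IsNoetherianRing A]
    (hinj : Function.Injective (algebraMap R A))
    (J : Ideal R) (hJ : J.map (algebraMap R A) = ⊤)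
    (hsat : ∀ (a : R) (c : A), algebraMap R A a ∈ nonZeroDivisors A →
      (∃ b : R, algebraMap R A b = algebraMap R A a * c) → ∃ c' : R, algebraMap R A c' = c)
    (p : Ideal R) [hp : p.IsPrime] (hJp : J ≤ p) : 2 ≤ p.height := by
  classical
  -- a nonzerodivisor of `A` in `J`
  obtain ⟨a, haJ, haA⟩ : ∃ a ∈ J, algebraMap R A a ∈ nonZeroDivisors A := by
    by_contra hcon
    push Not at hcon
    have hfin := associatedPrimes.finite A A
    have hsub : (J : Set R) ⊆ ⋃ q ∈ (hfin.toFinset : Set (Ideal A)),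
        ((q.comap (algebraMap R A) : Ideal R) : Set R) := by
      intro a ha
      have h1 := hcon a ha
      have h2 : algebraMap R A a ∈ (nonZeroDivisors A : Set A)ᶜ := h1
      rw [← biUnion_associatedPrimes_eq_compl_nonZeroDivisors A] at h2
      simp only [Set.mem_iUnion] at h2 ⊢
      obtain ⟨q, hq, hqa⟩ := h2
      exact ⟨q, by simpa using hq, hqa⟩
    rw [Ideal.subset_union_prime (⊥ : Ideal A) ⊥ (fun q hq _ _ => by
      have : q ∈ associatedPrimes A A := by simpa using hq
      have := this.isPrime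
      infer_instance)] at hsub
    obtain ⟨q, hq, hJq⟩ := hsub
    have hq' : q ∈ associatedPrimes A A := by simpa using hq
    have h3 : J.map (algebraMap R A) ≤ q := Ideal.map_le_iff_le_comap.mpr hJq
    rw [hJ] at h3
    exact hq'.isPrime.ne_top (top_le_iff.mp h3)
  have haR : a ∈ nonZeroDivisors R := by
    rw [mem_nonZeroDivisors_iff_right]
    intro x hx
    apply hinj
    rw [map_zero]
    have := congrArg (algebraMap R A) hx
    rw [map_mul, map_zero] at this
    exact (mem_nonZeroDivisors_iff_right.mp haA) _ this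
  -- the key divisibility
  have key : ∀ b : R, (∀ a' ∈ J, a' * b ∈ Ideal.span {a}) → b ∈ Ideal.span {a} := by
    intro b hb
    let K : Ideal A := Submodule.comap (LinearMap.mulRight A (algebraMap R A b))
      (Ideal.span {algebraMap R A a})
    have hK : J.map (algebraMap R A) ≤ K := by
      rw [Ideal.map_le_iff_le_comap]
      intro a' ha'
      change algebraMap R A a' * algebraMap R A b ∈ Ideal.span {algebraMap R A a}
      obtain ⟨e, he⟩ := Ideal.mem_span_singleton'.mp (hb a' ha')
      rw [← map_mul, ← he, map_mul]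
      exact Ideal.mul_mem_left _ _ (Ideal.mem_span_singleton_self _)
    rw [hJ] at hK
    have h1 : (1 : A) ∈ K := hK Submodule.mem_top
    have h2 : 1 * algebraMap R A b ∈ Ideal.span {algebraMap R A a} := h1
    rw [one_mul, Ideal.mem_span_singleton'] at h2
    obtain ⟨c, hc⟩ := h2
    obtain ⟨c', hc'⟩ := hsat a c haA ⟨b, by rw [← hc, mul_comm]⟩
    rw [Ideal.mem_span_singleton']
    refine ⟨c', hinj ?_⟩
    rw [map_mul, hc', hc]
  have hap : a ∈ p := hJp haJ
  obtain ⟨q, hq, hqp⟩ := Ideal.exists_minimalPrimes_le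
    (show Ideal.span {a} ≤ p from (Ideal.span_singleton_le_iff_mem _).mpr hap)
  have hqprime : q.IsPrime := hq.1.1
  rcases eq_or_lt_of_le hqp with heq | hlt
  · exfalso
    have h1 : (Module.annihilator R (R ⧸ Ideal.span {a})).minimalPrimes ⊆
        associatedPrimes R (R ⧸ Ideal.span {a}) :=
      Module.associatedPrimes.minimalPrimes_annihilator_subset_associatedPrimes R _
    rw [Ideal.annihilator_quotient] at h1
    have h2 := h1 hq
    rw [AssociatedPrimes.mem_iff, isAssociatedPrime_iff] at h2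
    obtain ⟨_, x, hx⟩ := h2
    obtain ⟨b, rfl⟩ := Ideal.Quotient.mk_surjective x
    have h3 : b ∈ Ideal.span {a} := key b (fun a' ha' => by
      have h4 : a' ∈ q := by rw [heq]; exact hJp ha'
      rw [hx, Submodule.mem_colon_singleton] at h4
      have h5 : Ideal.Quotient.mk (Ideal.span {a}) (a' * b) = 0 := by
        rw [map_mul]
        exact (Submodule.mem_bot R).mp h4
      exact Ideal.Quotient.eq_zero_iff_mem.mp h5)
    have h6 : (1 : R) ∈ q := by
      rw [hx, Submodule.mem_colon_singleton, one_smul, Submodule.mem_bot]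
      exact Ideal.Quotient.eq_zero_iff_mem.mpr h3
    exact hqprime.ne_top ((Ideal.eq_top_iff_one q).mpr h6)
  · have h1 : 1 ≤ q.height := by
      rw [Order.one_le_iff_ne_zero, Ne, Ideal.height_eq_zero_iff]
      intro hmin
      exact notMem_nonZeroDivisors_of_mem_mem_minimalPrimes
        (hq.1.2 (Ideal.mem_span_singleton_self a)) hmin haR
    have h2 := Ideal.height_add_one_le_of_lt_of_isPrime hlt
    calc (2 : ℕ∞) = 1 + 1 := by norm_num
      _ ≤ q.height + 1 := by gcongr
      _ ≤ p.height := h2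

open CategoryTheory MonoidalCategory CartesianMonoidalCategory MonObj GrpObj AlgebraicGeometry
open scoped TensorProduct

/-- the image of `X → Spec R` for an affine scheme `X` and a ring map `R → Γ(X)` is the image of
the map of prime spectra -/
theorem range_toSpecΓ_comp (X : Scheme.{u}) [IsAffine X] {R : CommRingCat.{u}} (φ : R ⟶ Γ(X, ⊤)) :
    Set.range ⇑(X.toSpecΓ ≫ Spec.map φ).base = Set.range (PrimeSpectrum.comap φ.hom) := by
  have hsurj : Function.Surjective ⇑X.toSpecΓ.base :=
    (Scheme.Hom.homeomorph X.toSpecΓ).surjective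
  ext y
  constructor
  · rintro ⟨x, rfl⟩
    exact ⟨X.toSpecΓ.base x, rfl⟩
  · rintro ⟨z, rfl⟩
    obtain ⟨x, rfl⟩ := hsurj z
    exact ⟨x, rfl⟩

open Groth.Agent.Lib.Helper25 Groth.Agent.Lib.Helper25.DensePts Groth.Agent.Lib.Helper25.SurjPts
open Groth.Agent.Lib.Helper25.GModComod Groth.Agent.Lib.T2H7.ObsPts Groth.Agent.Lib.T2H7.ObsFin
open Groth.Agent.Lib.T2H7.ObsHull Groth.Agent.Lib.T2H7.ObsTFAE Groth.Agent.Lib.T2H7.ObsChar
open Groth.Agent.Lib.T2H7.ObsOpen Groth.Agent.Lib.T2H7.ObsCrit Groth.Agent.Lib.T2H7.ObsQuot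
open Groth.Agent.Lib.T2H7.ObsFrac Groth.Agent.Lib.T2H7.GrossTransfer

variable {k : Type u} [Field k]
  {G : Over (Spec (CommRingCat.of k))} [GrpObj G] [IsAffine G.left]
  {H : Over (Spec (CommRingCat.of k))} [GrpObj H] [IsAffine H.left]

attribute [local instance] instHopfΓ

theorem isRTransInv_algebraMap (i : H ⟶ G) (c : k) :
    AGF.IsRTransInv i (algebraMap k Γ(G.left, ⊤) c) := by
  apply isRTransInv_of_evA
  intro B _ _ x y
  rw [AlgHom.commutes, AlgHom.commutes]

/-- the ring of right invariant functions, as an algebra over the base field -/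
noncomputable def rinvAlg (i : H ⟶ G) : Subalgebra k Γ(G.left, ⊤) :=
  { (AGF.rTransInv i).toSubsemiring with
    algebraMap_mem' := fun c => isRTransInv_algebraMap i c }

theorem mem_rinvAlg_iff (i : H ⟶ G) (f : Γ(G.left, ⊤)) :
    f ∈ rinvAlg i ↔ AGF.IsRTransInv i f := Iff.rfl

theorem fg_rinvAlg (i : H ⟶ G) (hfg : AGF.SubringFGOver k G (AGF.rTransInv i)) :
    (rinvAlg i).FG := by
  classical
  obtain ⟨s, hs, hle⟩ := hfg
  refine ⟨s, ?_⟩
  apply le_antisymm
  · apply Algebra.adjoin_le
    intro t ht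
    exact hs ht
  · intro t ht
    have h2 := hle ht
    rw [range_const_eq, ← Algebra.adjoin_eq_ring_closure] at h2
    exact h2

/-- the identification of the two incarnations of the ring of invariants -/
noncomputable def rinvEquiv (i : H ⟶ G) : ↥(AGF.rTransInv i) ≃+* ↥(rinvAlg i) where
  toFun x := ⟨x.1, x.2⟩
  invFun x := ⟨x.1, x.2⟩
  left_inv x := rfl
  right_inv x := rfl
  map_mul' x y := rfl
  map_add' x y := rfl

theorem subtype_eq_comp (i : H ⟶ G) :
    (AGF.rTransInv i).subtype =
      (algebraMap ↥(rinvAlg i) Γ(G.left, ⊤)).comp (rinvEquiv i : ↥(AGF.rTransInv i) →+* ↥(rinvAlg i)) :=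
  rfl

variable [IsAlgClosed k]

theorem isOpenMap_comap_rinvAlg [Smooth G.hom] (i : H ⟶ G) (hfg : (rinvAlg i).FG) :
    IsOpenMap (PrimeSpectrum.comap (algebraMap ↥(rinvAlg i) Γ(G.left, ⊤))) := by
  have hR : _root_.IsReduced Γ(G.left, ⊤) := isReduced_Γ (k := k)
  have hFT : Algebra.FiniteType k Γ(G.left, ⊤) := finiteType_Γ (k := k) (G := G)
  apply isOpenMap_comap_of_transitive (rinvAlg i) hfg
  intro x y
  refine ⟨lTrEquiv (ptA y * (ptA x)⁻¹), fun r hr => ?_, fun r hr => ?_, ?_⟩
  · rw [lTrEquiv_apply]; exact isRTransInv_lTr i r hr _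
  · rw [lTrEquiv_symm_apply]; exact isRTransInv_lTr i r hr _
  · ext f
    rw [AlgHom.comp_apply]
    change y f = x (lTrEquiv (ptA y * (ptA x)⁻¹) f)
    rw [lTrEquiv_apply]
    have h0 : x (lTr (ptA y * (ptA x)⁻¹) f) = evA (ptA x) (lTr (ptA y * (ptA x)⁻¹) f) := by
      rw [evA_ptA]
    rw [h0, ← evA_mul_rat', inv_mul_cancel_right, evA_ptA]

theorem isOpenMap_comap_subtype [Smooth G.hom] (i : H ⟶ G)
    (hfg : AGF.SubringFGOver k G (AGF.rTransInv i)) :
    IsOpenMap (PrimeSpectrum.comap (AGF.rTransInv i).subtype) := by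
  have h1 := isOpenMap_comap_rinvAlg i (fg_rinvAlg i hfg)
  have h2 : IsOpenMap (PrimeSpectrum.comap
      (rinvEquiv i : ↥(AGF.rTransInv i) →+* ↥(rinvAlg i))) :=
    (PrimeSpectrum.isHomeomorph_comap_of_bijective (rinvEquiv i).bijective).isOpenMap
  have h3 : PrimeSpectrum.comap (AGF.rTransInv i).subtype =
      PrimeSpectrum.comap (rinvEquiv i : ↥(AGF.rTransInv i) →+* ↥(rinvAlg i)) ∘
        PrimeSpectrum.comap (algebraMap ↥(rinvAlg i) Γ(G.left, ⊤)) := by
    rw [subtype_eq_comp]
    rfl
  rw [h3]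
  exact h2.comp h1

/-- the ring of invariants is saturated in the ring of all functions -/
theorem isRTransInv_of_mul [Smooth G.hom] [Smooth H.hom] (i : H ⟶ G) (a c : Γ(G.left, ⊤))
    (ha : AGF.IsRTransInv i a) (hac : AGF.IsRTransInv i (a * c))
    (hnz : a ∈ nonZeroDivisors Γ(G.left, ⊤)) : AGF.IsRTransInv i c := by
  have hR : _root_.IsReduced Γ(G.left, ⊤) := isReduced_Γ (k := k)
  have hka : IsAffine (VecGrp.pt k k).left := isAffine_pt
  apply isRTransInv_of_pts
  intro x y
  have h1 : rTr (y ≫ i) a = a := (isRTransInv_pt_iff _ _).mp (isRTransInv_comp i y a ha)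
  have h2 : rTr (y ≫ i) (a * c) = a * c :=
    (isRTransInv_pt_iff _ _).mp (isRTransInv_comp i y (a * c) hac)
  rw [rTr_mul, h1] at h2
  have h3 : rTr (y ≫ i) c = c := by
    have h4 : a * (rTr (y ≫ i) c - c) = 0 := by rw [mul_sub, h2, sub_self]
    have h5 := (mem_nonZeroDivisors_iff.mp hnz).1 _ h4
    exact sub_eq_zero.mp h5
  rw [evA_mul_rat, h3]

/-- **The orbit is open and its complement has codimension at least two.** -/
theorem isOpen_range_and_two_le_height [Smooth G.hom] [Smooth H.hom] (i : H ⟶ G)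
    (hfg : AGF.SubringFGOver k G (AGF.rTransInv i)) :
    IsOpen (Set.range (PrimeSpectrum.comap (AGF.rTransInv i).subtype)) ∧
      ∀ x : PrimeSpectrum ↥(AGF.rTransInv i),
        x ∉ Set.range (PrimeSpectrum.comap (AGF.rTransInv i).subtype) →
          (2 : ℕ∞) ≤ x.asIdeal.height := by
  have hopen : IsOpen (Set.range (PrimeSpectrum.comap (AGF.rTransInv i).subtype)) :=
    (isOpenMap_comap_subtype i hfg).isOpen_range
  refine ⟨hopen, fun x hx => ?_⟩
  have hFT : Algebra.FiniteType k Γ(G.left, ⊤) := finiteType_Γ (k := k) (G := G)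
  have hNA : IsNoetherianRing Γ(G.left, ⊤) := isNoetherianRing_Γ (k := k) (G := G)
  have hNR₁ : IsNoetherianRing ↥(rinvAlg i) := by
    have : Algebra.FiniteType k ↥(rinvAlg i) :=
      (Subalgebra.fg_iff_finiteType _).mp (fg_rinvAlg i hfg)
    exact Algebra.FiniteType.isNoetherianRing k _
  have hNR : IsNoetherianRing ↥(AGF.rTransInv i) :=
    isNoetherianRing_of_ringEquiv ↥(rinvAlg i) (rinvEquiv i).symm
  letI : Algebra ↥(AGF.rTransInv i) Γ(G.left, ⊤) := (AGF.rTransInv i).subtype.toAlgebra
  set F := PrimeSpectrum.comap (AGF.rTransInv i).subtype with hF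
  set J : Ideal ↥(AGF.rTransInv i) := PrimeSpectrum.vanishingIdeal (Set.range F)ᶜ with hJdef
  have hZ : PrimeSpectrum.zeroLocus (J : Set ↥(AGF.rTransInv i)) = (Set.range F)ᶜ := by
    rw [hJdef, PrimeSpectrum.zeroLocus_vanishingIdeal_eq_closure]
    exact hopen.isClosed_compl.closure_eq
  have hJx : J ≤ x.asIdeal := by
    intro f hf
    exact (PrimeSpectrum.mem_vanishingIdeal _ _).mp hf x hx
  have hJtop : J.map (algebraMap ↥(AGF.rTransInv i) Γ(G.left, ⊤)) = ⊤ := by
    by_contra hne
    obtain ⟨m, hm, hle⟩ := Ideal.exists_le_maximal _ hne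
    let P : PrimeSpectrum Γ(G.left, ⊤) := ⟨m, hm.isPrime⟩
    have h1 : F P ∈ PrimeSpectrum.zeroLocus (J : Set ↥(AGF.rTransInv i)) := by
      intro f hf
      exact hle (Ideal.mem_map_of_mem _ hf)
    rw [hZ] at h1
    exact h1 ⟨P, rfl⟩
  exact two_le_height_of_saturated (R := ↥(AGF.rTransInv i)) (A := Γ(G.left, ⊤))
    Subtype.val_injective J hJtop
    (fun a c ha ⟨b, hb⟩ =>
      ⟨⟨c, isRTransInv_of_mul i a.1 c a.2 (by
        have : (b : Γ(G.left, ⊤)) = (a : Γ(G.left, ⊤)) * c := hb
        rw [← this]; exact b.2) ha⟩, rfl⟩)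
    x.asIdeal hJx

end Groth.Agent.Lib.T2H7.ObsCodim
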