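import Groth.Agent.Lib.T2H7ObsOpen
import Groth.Agent.Lib.T2H7ObsChar

/-!
# T2H7ObsCrit: the character criterion for observable subgroups

* `comul_of_semi`, `semi_of_comul`: Hopf algebra form of semi-invariance under right translation.
* `exists_semi_inv`: for an observable subgroup, a nonzero semi-invariant function of weight `ψ`
  gives a nonzero semi-invariant function of weight `ψ⁻¹`.
-/

set_option autoImplicit false
set_option linter.style.haveILetI false
set_option linter.unusedSectionVars false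
set_option linter.unusedVariables false
universe u

open CategoryTheory MonoidalCategory CartesianMonoidalCategory MonObj GrpObj AlgebraicGeometry
open scoped TensorProduct

namespace Groth.Agent.Lib.T2H7.ObsCrit

open Groth.Agent.Lib.Helper25 Groth.Agent.Lib.Helper25.DensePts Groth.Agent.Lib.Helper25.SurjPts
open Groth.Agent.Lib.Helper25.GModComod Groth.Agent.Lib.T2H7.ObsPts Groth.Agent.Lib.T2H7.ObsFin
open Groth.Agent.Lib.T2H7.ObsHull Groth.Agent.Lib.T2H7.ObsTFAE Groth.Agent.Lib.T2H7.ObsChar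
open Groth.Agent.Lib.T2H7.ObsOpen

variable {k : Type u} [Field k]
  {G : Over (Spec (CommRingCat.of k))} [GrpObj G] [IsAffine G.left]
  {H : Over (Spec (CommRingCat.of k))} [GrpObj H] [IsAffine H.left]

attribute [local instance] instHopfΓ

section Semi

variable (i : H ⟶ G) [IsMonHom i]

theorem pm_comp_right {B : Type u} [CommRing B] [Algebra k B] (a : Γ(G.left, ⊤) →ₐ[k] B)
    (b : Γ(H.left, ⊤) →ₐ[k] B) (w : Γ(G.left, ⊤) ⊗[k] Γ(G.left, ⊤)) :
    pm a (b.comp (resHom i : Γ(G.left, ⊤) →ₐ[k] Γ(H.left, ⊤))) w =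
      Algebra.TensorProduct.lmul' k (S := B) (Algebra.TensorProduct.map a b
        (Algebra.TensorProduct.map (AlgHom.id k Γ(G.left, ⊤))
          (resHom i : Γ(G.left, ⊤) →ₐ[k] Γ(H.left, ⊤)) w)) := by
  induction w using TensorProduct.induction_on with
  | zero => simp
  | add x y hx hy => simp only [map_add, hx, hy]
  | tmul x y =>
    rw [pm_tmul, Algebra.TensorProduct.map_tmul, Algebra.TensorProduct.map_tmul,
      Algebra.TensorProduct.lmul'_apply_tmul]
    rfl

/-- Hopf algebra form of semi-invariance: from the coaction to points -/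
theorem semi_of_comul (f : Γ(G.left, ⊤)) (ψ : Γ(H.left, ⊤))
    (h : Algebra.TensorProduct.map (AlgHom.id k Γ(G.left, ⊤))
      (resHom i : Γ(G.left, ⊤) →ₐ[k] Γ(H.left, ⊤)) (CoalgebraStruct.comul (R := k) f) =
      f ⊗ₜ[k] ψ) {B : Type u} [CommRing B] [Algebra k B]
    (x : VecGrp.pt k B ⟶ G) (y : VecGrp.pt k B ⟶ H) :
    evA (x * (y ≫ i)) f = evA x f * evA y ψ := by
  rw [evA_mul_apply, evA_comp_hom, pm_comp_right, h, Algebra.TensorProduct.map_tmul,
    Algebra.TensorProduct.lmul'_apply_tmul]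

/-- Hopf algebra form of semi-invariance: from points to the coaction -/
theorem comul_of_semi (f : Γ(G.left, ⊤)) (ψ : Γ(H.left, ⊤))
    (h : ∀ (B : Type u) [CommRing B] [Algebra k B] (x : VecGrp.pt k B ⟶ G)
      (y : VecGrp.pt k B ⟶ H), evA (x * (y ≫ i)) f = evA x f * evA y ψ) :
    Algebra.TensorProduct.map (AlgHom.id k Γ(G.left, ⊤))
      (resHom i : Γ(G.left, ⊤) →ₐ[k] Γ(H.left, ⊤)) (CoalgebraStruct.comul (R := k) f) =
      f ⊗ₜ[k] ψ := by
  have h1 := h _
    (ptA (Algebra.TensorProduct.includeLeft :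
      Γ(G.left, ⊤) →ₐ[k] Γ(G.left, ⊤) ⊗[k] Γ(H.left, ⊤)))
    (ptA (Algebra.TensorProduct.includeRight :
      Γ(H.left, ⊤) →ₐ[k] Γ(G.left, ⊤) ⊗[k] Γ(H.left, ⊤)))
  rw [evA_mul_apply, evA_comp_hom, evA_ptA, evA_ptA, pm_comp_right] at h1
  have h2 : ∀ w : Γ(G.left, ⊤) ⊗[k] Γ(H.left, ⊤),
      Algebra.TensorProduct.lmul' k (S := Γ(G.left, ⊤) ⊗[k] Γ(H.left, ⊤))
        (Algebra.TensorProduct.map
          (Algebra.TensorProduct.includeLeft :
            Γ(G.left, ⊤) →ₐ[k] Γ(G.left, ⊤) ⊗[k] Γ(H.left, ⊤))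
          (Algebra.TensorProduct.includeRight :
            Γ(H.left, ⊤) →ₐ[k] Γ(G.left, ⊤) ⊗[k] Γ(H.left, ⊤)) w) = w := by
    intro w
    induction w using TensorProduct.induction_on with
    | zero => simp
    | add x y hx hy => simp only [map_add, hx, hy]
    | tmul x y =>
      rw [Algebra.TensorProduct.map_tmul, Algebra.TensorProduct.lmul'_apply_tmul,
        Algebra.TensorProduct.includeLeft_apply, Algebra.TensorProduct.includeRight_apply,
        Algebra.TensorProduct.tmul_mul_tmul, _root_.mul_one, _root_.one_mul]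
  rw [h2] at h1
  rw [h1, Algebra.TensorProduct.includeLeft_apply, Algebra.TensorProduct.includeRight_apply,
    Algebra.TensorProduct.tmul_mul_tmul, _root_.mul_one, _root_.one_mul]

end Semi

section KL

variable [IsAlgClosed k]

theorem rTr_mul [_root_.IsReduced Γ(G.left, ⊤)] (g : VecGrp.pt k k ⟶ G) (a b : Γ(G.left, ⊤)) :
    rTr g (a * b) = rTr g a * rTr g b := by
  rw [← sub_eq_zero]
  apply eq_zero_of_forall_evA
  intro x
  rw [map_sub, sub_eq_zero, map_mul, ← evA_mul_rat, ← evA_mul_rat, ← evA_mul_rat, map_mul]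

/-- **Inverse weights**: for an observable subgroup, a nonzero semi-invariant function of weight
`ψ` yields a nonzero semi-invariant function of the inverse weight. -/
theorem exists_semi_inv [Smooth G.hom] (i : H ⟶ G) [IsMonHom i]
    (hobs : AGF.IsObservableIn k i) (f : Γ(G.left, ⊤)) (ψ ψ' : Γ(H.left, ⊤)) (hψ : ψ' * ψ = 1)
    (hf : f ≠ 0)
    (hsemi : Algebra.TensorProduct.map (AlgHom.id k Γ(G.left, ⊤))
      (resHom i : Γ(G.left, ⊤) →ₐ[k] Γ(H.left, ⊤)) (CoalgebraStruct.comul (R := k) f) =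
      f ⊗ₜ[k] ψ) :
    ∃ c' : Γ(G.left, ⊤), c' ≠ 0 ∧
      Algebra.TensorProduct.map (AlgHom.id k Γ(G.left, ⊤))
        (resHom i : Γ(G.left, ⊤) →ₐ[k] Γ(H.left, ⊤)) (CoalgebraStruct.comul (R := k) c') =
        c' ⊗ₜ[k] ψ' := by
  have hR : _root_.IsReduced Γ(G.left, ⊤) := isReduced_Γ (k := k)
  obtain ⟨g, hg⟩ : ∃ g : VecGrp.pt k k ⟶ G, evA g f ≠ 0 := by
    by_contra hcon
    push Not at hcon
    exact hf (eq_zero_of_forall_evA f hcon)
  have hstab : ∀ (h : VecGrp.pt k k ⟶ H), ∀ b ∈ Ideal.span {f}, rTr (h ≫ i) b ∈ Ideal.span {f} := by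
    intro h b hb
    obtain ⟨b', rfl⟩ := Ideal.mem_span_singleton'.mp hb
    rw [rTr_mul]
    have h1 : rTr (h ≫ i) f = algebraMap k Γ(G.left, ⊤) (evA h ψ) * f := by
      rw [← sub_eq_zero]
      apply eq_zero_of_forall_evA
      intro x
      rw [map_sub, sub_eq_zero, ← evA_mul_rat, semi_of_comul i f ψ hsemi, map_mul,
        AlgHom.commutes, _root_.mul_comm]
      rfl
    rw [h1]
    exact Ideal.mul_mem_left _ _ (Ideal.mul_mem_left _ _ (Ideal.mem_span_singleton_self f))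
  obtain ⟨a, ha1, ha2, ha3⟩ := exists_invariant_of_stable_ideal i hobs (Ideal.span {f}) hstab g
    ⟨f, Ideal.mem_span_singleton_self f, hg⟩
  obtain ⟨N, hN⟩ := ha2
  obtain ⟨c, hc⟩ := Ideal.mem_span_singleton'.mp hN
  refine ⟨c * a ^ N, ?_, ?_⟩
  · intro h0
    have h1 := congrArg (evA g) h0
    rw [map_mul, map_pow, map_zero] at h1
    have h2 : evA g c ≠ 0 := by
      intro h3
      have h4 := congrArg (evA g) hc
      rw [map_mul, h3, MulZeroClass.zero_mul, map_pow] at h4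
      exact pow_ne_zero N ha3 h4.symm
    exact (mul_ne_zero h2 (pow_ne_zero N ha3)) h1
  · apply comul_of_semi
    intro B _ _ x y
    have e1 : evA (x * (y ≫ i)) a = evA x a := evA_of_isRTransInv i a ha1 x y
    have e2 : evA (x * (y ≫ i)) f = evA x f * evA y ψ := semi_of_comul i f ψ hsemi x y
    have e3 : evA (x * (y ≫ i)) c * evA (x * (y ≫ i)) f = evA (x * (y ≫ i)) a ^ N := by
      rw [← map_mul, hc, map_pow]
    have e4 : evA x c * evA x f = evA x a ^ N := by
      rw [← map_mul, hc, map_pow]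
    have e5 : evA y ψ' * evA y ψ = 1 := by rw [← map_mul, hψ, map_one]
    rw [map_mul, map_mul, map_pow, map_pow, e1]
    rw [e1, e2] at e3
    calc evA (x * (y ≫ i)) c * evA x a ^ N
        = evA (x * (y ≫ i)) c * (evA x c * evA x f) := by rw [e4]
      _ = evA x c * (evA (x * (y ≫ i)) c * (evA x f * evA y ψ)) * evA y ψ' := by
          have : evA (x * (y ≫ i)) c * (evA x c * evA x f) =
              evA x c * (evA (x * (y ≫ i)) c * (evA x f * (evA y ψ' * evA y ψ))) := by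
            rw [e5]; ring
          rw [this]; ring
      _ = evA x c * evA x a ^ N * evA y ψ' := by rw [e3]

end KL

section Bridge

variable (i : H ⟶ G) [IsMonHom i]

theorem rid_lTensor_smul {V : Type u} [AddCommGroup V] [Module k V] {B : Type u} [CommRing B]
    [Algebra k B] (φ : V →ₗ[k] k) (t : B) (w : B ⊗[k] V) :
    TensorProduct.rid k B (φ.lTensor B (t • w)) = t * TensorProduct.rid k B (φ.lTensor B w) := by
  induction w using TensorProduct.induction_on with
  | zero => simp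
  | add x y hx hy => rw [smul_add, map_add, map_add, hx, hy, map_add, map_add, mul_add]
  | tmul b v =>
    rw [TensorProduct.smul_tmul', LinearMap.lTensor_tmul, LinearMap.lTensor_tmul,
      TensorProduct.rid_tmul, TensorProduct.rid_tmul, smul_eq_mul, mul_smul_comm]

/-- a semi-invariant vector of a `G`-module gives a semi-invariant function -/
theorem exists_semi_fun_of_vec {V : Type u} [AddCommGroup V] [Module k V]
    (ρ : VecGrp.GMod G V) (v : V) (hv : v ≠ 0) (ψ : Γ(H.left, ⊤))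
    (hsemi : ∀ (B : Type u) [CommRing B] [Algebra k B] (y : VecGrp.pt k B ⟶ H),
      ρ.ρ B (y ≫ i) ((1 : B) ⊗ₜ[k] v) = evA y ψ • ((1 : B) ⊗ₜ[k] v)) :
    ∃ f : Γ(G.left, ⊤), f ≠ 0 ∧
      Algebra.TensorProduct.map (AlgHom.id k Γ(G.left, ⊤))
        (resHom i : Γ(G.left, ⊤) →ₐ[k] Γ(H.left, ⊤)) (CoalgebraStruct.comul (R := k) f) =
        f ⊗ₜ[k] ψ := by
  obtain ⟨φ, hφ⟩ : ∃ φ : V →ₗ[k] k, φ v ≠ 0 := by
    by_contra hcon
    push Not at hcon
    exact hv ((Module.forall_dual_apply_eq_zero_iff k v).mp hcon)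
  refine ⟨coeff ρ v φ, ?_, ?_⟩
  · intro h0
    have h1 := congrArg (evA (1 : VecGrp.pt k k ⟶ G)) h0
    rw [evA_coeff, map_one, map_zero] at h1
    apply hφ
    have h2 : TensorProduct.rid k k (φ.lTensor k ((1 : k) ⊗ₜ[k] v)) = φ v := by
      rw [LinearMap.lTensor_tmul, TensorProduct.rid_tmul, smul_eq_mul, _root_.mul_one]
    rw [← h2]
    exact h1
  · apply comul_of_semi
    intro B _ _ x y
    rw [evA_coeff, evA_coeff, map_mul]
    change TensorProduct.rid k B (φ.lTensor B (ρ.ρ B x (ρ.ρ B (y ≫ i) ((1 : B) ⊗ₜ[k] v)))) = _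
    rw [hsemi B y, map_smul, rid_lTensor_smul, _root_.mul_comm]

/-- a semi-invariant function gives a semi-invariant vector in a finite-dimensional `G`-module -/
theorem exists_semi_vec_of_fun (c' : Γ(G.left, ⊤)) (hc : c' ≠ 0) (ψ' : Γ(H.left, ⊤))
    (hsemi : Algebra.TensorProduct.map (AlgHom.id k Γ(G.left, ⊤))
      (resHom i : Γ(G.left, ⊤) →ₐ[k] Γ(H.left, ⊤)) (CoalgebraStruct.comul (R := k) c') =
      c' ⊗ₜ[k] ψ') :
    ∃ (V : Type u) (_ : AddCommGroup V) (_ : Module k V) (_ : Module.Finite k V)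
      (ρ : VecGrp.GMod G V) (v : V), v ≠ 0 ∧
      ∀ (B : Type u) [CommRing B] [Algebra k B] (y : VecGrp.pt k B ⟶ H),
        ρ.ρ B (y ≫ i) ((1 : B) ⊗ₜ[k] v) = evA y ψ' • ((1 : B) ⊗ₜ[k] v) := by
  obtain ⟨U, hUfg, hUsub, hmem⟩ :=
    exists_fg_subcomod_mem (k := k) (A := Γ(G.left, ⊤)) (V := Γ(G.left, ⊤)) c'
  let cU : HopfRep.Comod k Γ(G.left, ⊤) U := subComod U hUsub
  have hfin : Module.Finite k U := Module.Finite.iff_fg.mpr hUfg
  refine ⟨U, inferInstance, inferInstance, hfin,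
    gmodOfCoact cU.coact cU.coassoc cU.counit_comp, ⟨c', hmem⟩, ?_, ?_⟩
  · intro h0
    exact hc (congrArg Subtype.val h0)
  · intro B _ _ y
    rw [gmodOfCoact_one_tmul, evA_comp_hom]
    have h1 : ((evA y).comp (resHom i : Γ(G.left, ⊤) →ₐ[k] Γ(H.left, ⊤))).toLinearMap =
        (evA y).toLinearMap ∘ₗ (resHom i : Γ(G.left, ⊤) →ₐ[k] Γ(H.left, ⊤)).toLinearMap := rfl
    rw [h1, LinearMap.lTensor_comp_apply]
    have h2 : (resHom i : Γ(G.left, ⊤) →ₐ[k] Γ(H.left, ⊤)).toLinearMap.lTensor U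
        (cU.coact ⟨c', hmem⟩) = (⟨c', hmem⟩ : U) ⊗ₜ[k] ψ' := by
      have hinj : Function.Injective (U.subtype.rTensor Γ(H.left, ⊤)) :=
        Module.Flat.rTensor_preserves_injective_linearMap _ U.subtype_injective
      apply hinj
      rw [← LinearMap.comp_apply, LinearMap.rTensor_comp_lTensor, ← LinearMap.lTensor_comp_rTensor,
        LinearMap.comp_apply]
      have h3 : U.subtype.rTensor Γ(G.left, ⊤) (cU.coact ⟨c', hmem⟩) =
          CoalgebraStruct.comul (R := k) c' := rTensor_subtype_subCoact U hUsub ⟨c', hmem⟩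
      have h4 : ∀ w : Γ(G.left, ⊤) ⊗[k] Γ(G.left, ⊤),
          (resHom i : Γ(G.left, ⊤) →ₐ[k] Γ(H.left, ⊤)).toLinearMap.lTensor Γ(G.left, ⊤) w =
            Algebra.TensorProduct.map (AlgHom.id k Γ(G.left, ⊤))
              (resHom i : Γ(G.left, ⊤) →ₐ[k] Γ(H.left, ⊤)) w := by
        intro w
        induction w using TensorProduct.induction_on with
        | zero => simp
        | add a b ha hb => simp only [map_add, ha, hb]
        | tmul a b => rfl
      rw [h3, h4, hsemi, LinearMap.rTensor_tmul]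
      rfl
    rw [h2, LinearMap.lTensor_tmul, TensorProduct.comm_tmul, TensorProduct.smul_tmul',
      smul_eq_mul, _root_.mul_one]
    rfl

end Bridge

section Main

theorem chiVal_eq_evA {B : Type u} [CommRing B] [Algebra k B]
    (χ : H ⟶ Red.Gm (Spec (CommRingCat.of k))) (y : VecGrp.pt k B ⟶ H) :
    VecGrp.chiVal χ y = evA y (Red.gmFn χ) := by
  rw [VecGrp.chiVal, GmPts.gmFn_comp, evA_apply]

variable [IsAlgClosed k]

/-- **Observable subgroups: inverse characters occur.** -/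
theorem semi_inv_of_observable [Smooth G.hom] (i : H ⟶ G) [IsMonHom i]
    (hobs : AGF.IsObservableIn k i) (χ : H ⟶ Red.Gm (Spec (CommRingCat.of k)))
    (hocc : ∃ (V : Type u) (_ : AddCommGroup V) (_ : Module k V) (_ : Module.Finite k V)
      (ρ : VecGrp.GMod G V) (v : V), v ≠ 0 ∧
      ∀ (B : Type u) [CommRing B] [Algebra k B] (h : VecGrp.pt k B ⟶ H),
        ρ.ρ B (h ≫ i) ((1 : B) ⊗ₜ[k] v) = VecGrp.chiVal χ h • ((1 : B) ⊗ₜ[k] v)) :
    ∃ (V : Type u) (_ : AddCommGroup V) (_ : Module k V) (_ : Module.Finite k V)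
      (ρ : VecGrp.GMod G V) (v : V), v ≠ 0 ∧
      ∀ (B : Type u) [CommRing B] [Algebra k B] (h : VecGrp.pt k B ⟶ H),
        ρ.ρ B (h ≫ i) ((1 : B) ⊗ₜ[k] v) = VecGrp.chiVal χ⁻¹ h • ((1 : B) ⊗ₜ[k] v) := by
  obtain ⟨V, _, _, _, ρ, v, hv, hsemi⟩ := hocc
  obtain ⟨f, hf, hfsemi⟩ := exists_semi_fun_of_vec i ρ v hv (Red.gmFn χ)
    (fun B _ _ y => by rw [hsemi B y, chiVal_eq_evA])
  obtain ⟨c', hc', hc'semi⟩ := exists_semi_inv i hobs f (Red.gmFn χ) (Red.gmFn χ⁻¹)
    (GmPts.gmFn_inv χ) hf hfsemi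
  obtain ⟨V', i1, i2, i3, ρ', v', hv', hsemi'⟩ := exists_semi_vec_of_fun i c' hc' _ hc'semi
  refine ⟨V', i1, i2, i3, ρ', v', hv', fun B _ _ h => ?_⟩
  rw [hsemi' B h, chiVal_eq_evA]

open HopfRep in
/-- **Character criterion**: a closed subgroup is observable as soon as every character occurring
on a semi-invariant vector of a finite-dimensional `G`-module has its inverse occurring too. -/
theorem observable_of_semi_inv [Smooth G.hom] [Smooth H.hom] (i : H ⟶ G) [IsMonHom i]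
    [IsClosedImmersion i.left]
    (hchar : ∀ (χ : H ⟶ Red.Gm (Spec (CommRingCat.of k))), IsMonHom χ →
      (∃ (V : Type u) (_ : AddCommGroup V) (_ : Module k V) (_ : Module.Finite k V)
        (ρ : VecGrp.GMod G V) (v : V), v ≠ 0 ∧
        ∀ (B : Type u) [CommRing B] [Algebra k B] (h : VecGrp.pt k B ⟶ H),
          ρ.ρ B (h ≫ i) ((1 : B) ⊗ₜ[k] v) = VecGrp.chiVal χ h • ((1 : B) ⊗ₜ[k] v)) →
      (∃ (V : Type u) (_ : AddCommGroup V) (_ : Module k V) (_ : Module.Finite k V)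
        (ρ : VecGrp.GMod G V) (v : V), v ≠ 0 ∧
        ∀ (B : Type u) [CommRing B] [Algebra k B] (h : VecGrp.pt k B ⟶ H),
          ρ.ρ B (h ≫ i) ((1 : B) ⊗ₜ[k] v) = VecGrp.chiVal χ⁻¹ h • ((1 : B) ⊗ₜ[k] v))) :
    AGF.IsObservableIn k i := by
  haveI hft : Algebra.FiniteType k Γ(G.left, ⊤) := finiteType_Γ (k := k) (G := G)
  have hocc : ∀ χ : Γ(H.left, ⊤), IsGroupLikeElem k χ →
      (∃ (V : Type u) (_ : AddCommGroup V) (_ : Module k V)
        (_ : HopfRep.Comod k Γ(G.left, ⊤) V) (_ : Module.Finite k V) (v : V),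
          v ≠ 0 ∧ LinearMap.lTensor V (resHom i).toLinearMap
            (HopfRep.Comod.coact (k := k) (A := Γ(G.left, ⊤)) v) = v ⊗ₜ[k] χ) →
      ∃ m : ℕ, 0 < m ∧ ∃ ψ : Γ(H.left, ⊤), IsGroupLikeElem k ψ ∧ ψ * χ ^ m = 1 ∧
        ∃ (V : Type u) (_ : AddCommGroup V) (_ : Module k V)
          (_ : HopfRep.Comod k Γ(G.left, ⊤) V) (_ : Module.Finite k V) (v : V),
          v ≠ 0 ∧ LinearMap.lTensor V (resHom i).toLinearMap
            (HopfRep.Comod.coact (k := k) (A := Γ(G.left, ⊤)) v) = v ⊗ₜ[k] ψ := by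
    intro χ hχ ⟨V, _, _, cV, hfin, v, hv, hcoact⟩
    obtain ⟨t, ht, rfl⟩ := exists_character_of_groupLike hχ
    obtain ⟨V', _, _, hfin', ρ', v', hv', hsemi'⟩ := hchar t ht
      ⟨V, inferInstance, inferInstance, hfin, gmodOfCoact cV.coact cV.coassoc cV.counit_comp, v, hv,
        fun B _ _ h => by
          rw [gmodOfCoact_one_tmul, evA_comp_hom, chiVal_eq_evA]
          have h1 : ((evA h).comp (resHom i : Γ(G.left, ⊤) →ₐ[k] Γ(H.left, ⊤))).toLinearMap =
              (evA h).toLinearMap ∘ₗ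
                (resHom i : Γ(G.left, ⊤) →ₐ[k] Γ(H.left, ⊤)).toLinearMap := rfl
          rw [h1, LinearMap.lTensor_comp_apply]
          have h2 : (resHom i : Γ(G.left, ⊤) →ₐ[k] Γ(H.left, ⊤)).toLinearMap.lTensor V
              (cV.coact v) = v ⊗ₜ[k] Red.gmFn t := hcoact
          rw [h2, LinearMap.lTensor_tmul, TensorProduct.comm_tmul, TensorProduct.smul_tmul',
            smul_eq_mul, _root_.mul_one]
          rfl⟩
    refine ⟨1, one_pos, Red.gmFn t⁻¹, ?_, ?_, ?_⟩
    · exact IsGroupLikeElem.of_mul_eq_one (by rw [_root_.mul_comm]; exact GmPts.gmFn_inv t)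
        (GmPts.gmFn_inv t) hχ
    · rw [pow_one]; exact GmPts.gmFn_inv t
    · refine ⟨V', inferInstance, inferInstance,
        ⟨coact ρ', coact_coassoc ρ', coact_counit ρ'⟩, hfin', v', hv', ?_⟩
      change LinearMap.lTensor V' (resHom i).toLinearMap (coact ρ' v') = _
      have h1 := hsemi' Γ(H.left, ⊤) (ptA (AlgHom.id k Γ(H.left, ⊤)))
      rw [rho_one_tmul_eq, evA_comp_hom, evA_ptA, chiVal_eq_evA, evA_ptA,
        TensorProduct.smul_tmul', smul_eq_mul, _root_.mul_one] at h1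
      have h2 := congrArg (TensorProduct.comm k V' Γ(H.left, ⊤)).symm h1
      rw [LinearEquiv.symm_apply_apply, TensorProduct.comm_symm_tmul] at h2
      exact h2
  obtain ⟨V, _, _, cV, _, v, hv0, hrep, htriv⟩ :=
    exists_line_trivial_character k Γ(G.left, ⊤) Γ(H.left, ⊤) (resHom i) (resHom_surjective i) hocc
  apply observable_of_stab i (gmodOfCoact cV.coact cV.coassoc cV.counit_comp) v
  intro g
  rw [gmodOfCoact_pt_fixed_iff]
  constructor
  · intro hfix
    have hstab : SGA3.StabilizesLine k Γ(G.left, ⊤) v k (evA g) := by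
      refine ⟨1, ?_⟩
      apply (TensorProduct.rid k V).injective
      rw [TensorProduct.rid_tmul, one_smul]
      exact hfix
    have hker := (hrep k (evA g)).mpr hstab
    have hle : RingHom.ker (resHom i : Γ(G.left, ⊤) →ₐ[k] Γ(H.left, ⊤)).toRingHom ≤
        RingHom.ker (evA g).toRingHom := fun a ha => hker a ha
    refine ⟨ptA (AlgHom.liftOfSurjective (resHom i : Γ(G.left, ⊤) →ₐ[k] Γ(H.left, ⊤))
      (resHom_surjective i) (evA g) hle), ?_⟩
    apply evA_injective
    rw [evA_comp_hom, evA_ptA, AlgHom.liftOfSurjective_comp]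
  · rintro ⟨h, rfl⟩
    rw [actPt, evA_comp_hom]
    have h2 : ((evA h).comp (resHom i : Γ(G.left, ⊤) →ₐ[k] Γ(H.left, ⊤))).toLinearMap.lTensor V
        (cV.coact v) = (evA h).toLinearMap.lTensor V
          ((resHom i).toLinearMap.lTensor V (cV.coact v)) := by
      rw [← LinearMap.lTensor_comp_apply]
      rfl
    rw [h2]
    have h3 : (resHom i).toLinearMap.lTensor V (cV.coact v) = v ⊗ₜ[k] (1 : Γ(H.left, ⊤)) := htriv
    rw [h3, LinearMap.lTensor_tmul, AlgHom.toLinearMap_apply, map_one, TensorProduct.rid_tmul,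
      one_smul]

end Main

end Groth.Agent.Lib.T2H7.ObsCrit
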