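import Groth.Agent.Lib.T2H7ObsInd
import Groth.Agent.Lib.T2H7GLnSch
import Groth.Agent.Lib.Helper25ComodMat

/-!
# T2H7ObsEpi: epimorphic subgroups — invariant functions, invariant vectors and homomorphisms
to smooth affine groups
-/

set_option autoImplicit false
set_option linter.style.haveILetI false
set_option linter.unusedSectionVars false
set_option linter.unusedVariables false
universe u

open CategoryTheory AlgebraicGeometry
open scoped TensorProduct

namespace Groth.Agent.Lib.T2H7.ObsEpi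

section Core

open Groth.Agent.Lib.Helper25 HopfRep Module Groth.Agent.Lib.T2H7.GLnSch

variable {k : Type u} [Field k] {A : Type u} [CommRing A] [HopfAlgebra k A]
  {AH : Type u} [CommRing AH] [Algebra k AH] (res : A →ₐ[k] AH)
  {E : Type u} [AddCommGroup E] [Module k E] [Comod k A E]

theorem mapMatrix_reindex_fromBlocks {J : Type} [Fintype J] [DecidableEq J] {m : ℕ}
    (e : J ⊕ Unit ≃ Fin m) (a : Matrix J J A) (B : Matrix J Unit A) :
    res.mapMatrix (Matrix.reindex e e (Matrix.fromBlocks a B (0 : Matrix Unit J A)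
      (1 : Matrix Unit Unit A))) =
    Matrix.reindex e e (Matrix.fromBlocks (a.map res) (B.map res) (0 : Matrix Unit J AH)
      (1 : Matrix Unit Unit AH)) := by
  ext i j
  simp only [AlgHom.mapMatrix_apply, Matrix.map_apply, Matrix.reindex_apply,
    Matrix.submatrix_apply]
  rcases e.symm i with i' | i' <;> rcases e.symm j with j' | j' <;>
    simp

/-- a vector of a comodule whose coaction becomes trivial after restriction along `res` gives two
comatrices with the same restriction, whose equality forces the coaction on the vector to be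
trivial -/
theorem exists_comatrices (v : E)
    (hv : res.toLinearMap.lTensor E (Comod.coact (k := k) (A := A) v) = v ⊗ₜ[k] (1 : AH)) :
    ∃ (m : ℕ) (a₁ a₂ : Matrix (Fin m) (Fin m) A), IsComatrix (k := k) a₁ ∧
      IsComatrix (k := k) a₂ ∧ res.mapMatrix a₁ = res.mapMatrix a₂ ∧
      (a₁ = a₂ → Comod.coact (k := k) (A := A) v = v ⊗ₜ[k] (1 : A)) := by
  classical
  obtain ⟨U, hUfg, hUsub, hvU⟩ := exists_fg_subcomod_mem (k := k) (A := A) v
  letI := subComod U hUsub
  haveI : Module.Finite k U := Module.Finite.iff_fg.mpr hUfg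
  let b := Module.finBasis k U
  have ha := isComatrix_comatrix (A := A) b
  let a : Matrix (Fin (finrank k U)) (Fin (finrank k U)) A := comatrix (A := A) b
  let vU : U := ⟨v, hvU⟩
  let c : Fin (finrank k U) → k := fun j => b.repr vU j
  -- coordinates of the coaction
  have h1 : Comod.coact (k := k) (A := A) vU = ∑ i, b i ⊗ₜ[k] (a * colA A c) i () := by
    rw [coact_eq_sum b vU]
    refine Finset.sum_congr rfl (fun i _ => ?_)
    congr 1
    rw [Matrix.mul_apply]
    refine Finset.sum_congr rfl (fun j _ => ?_)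
    rw [Algebra.smul_def, mul_comm]
    rfl
  have h2 : (vU ⊗ₜ[k] (1 : A) : U ⊗[k] A) = ∑ i, b i ⊗ₜ[k] (colA A c) i () := by
    conv_lhs => rw [← b.sum_repr vU]
    rw [TensorProduct.sum_tmul]
    refine Finset.sum_congr rfl (fun i _ => ?_)
    rw [TensorProduct.smul_tmul, Algebra.smul_def, mul_one]
    rfl
  have h2' : (vU ⊗ₜ[k] (1 : AH) : U ⊗[k] AH) = ∑ i, b i ⊗ₜ[k] res ((colA A c) i ()) := by
    conv_lhs => rw [← b.sum_repr vU]
    rw [TensorProduct.sum_tmul]
    refine Finset.sum_congr rfl (fun i _ => ?_)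
    rw [TensorProduct.smul_tmul, Algebra.smul_def, mul_one]
    change _ = b i ⊗ₜ[k] res (algebraMap k A (c i))
    rw [AlgHom.commutes]
  -- the restricted coaction is trivial
  have h3 : res.toLinearMap.lTensor U (Comod.coact (k := k) (A := A) vU) = vU ⊗ₜ[k] (1 : AH) := by
    apply Module.Flat.rTensor_preserves_injective_linearMap (M := AH) U.subtype
      U.subtype_injective
    rw [← LinearMap.comp_apply, LinearMap.rTensor_comp_lTensor, ← LinearMap.lTensor_comp_rTensor,
      LinearMap.comp_apply]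
    have h4 : U.subtype.rTensor A (Comod.coact (k := k) (A := A) vU) =
        Comod.coact (k := k) (A := A) v := rTensor_subtype_subCoact U hUsub vU
    rw [h4, hv]
    rfl
  have h5 : ∀ i, res ((a * colA A c) i ()) = res ((colA A c) i ()) := by
    have h6 : ∑ i, b i ⊗ₜ[k] res ((a * colA A c) i ()) =
        ∑ i, b i ⊗ₜ[k] res ((colA A c) i ()) := by
      rw [← h2', ← h3, h1, map_sum]
      rfl
    exact congrFun (sum_tmul_injective b h6)
  let e := Fintype.equivFin (Fin (finrank k U) ⊕ Unit)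
  refine ⟨_, Matrix.reindex e e (Matrix.fromBlocks a 0 0 1),
    Matrix.reindex e e (Matrix.fromBlocks a (colA A c - a * colA A c) 0 1),
    isComatrix_reindex e (isComatrix_fromBlocks ha),
    isComatrix_reindex e (isComatrix_affine ha c), ?_, ?_⟩
  · rw [mapMatrix_reindex_fromBlocks, mapMatrix_reindex_fromBlocks]
    congr 2
    ext i j
    simp only [Matrix.map_apply, Matrix.sub_apply, map_sub, Matrix.zero_apply, map_zero]
    rw [h5 i, sub_self]
  · intro h
    have h7 := (Matrix.reindex e e).injective h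
    rw [Matrix.fromBlocks_inj] at h7
    have h8 : a * colA A c = colA A c := (sub_eq_zero.mp h7.2.1.symm).symm
    have h9 : Comod.coact (k := k) (A := A) vU = vU ⊗ₜ[k] (1 : A) := by
      rw [h1, h2, h8]
    have h4 : U.subtype.rTensor A (Comod.coact (k := k) (A := A) vU) =
        Comod.coact (k := k) (A := A) v := rTensor_subtype_subCoact U hUsub vU
    rw [← h4, h9]
    rfl

end Core

open MonoidalCategory CartesianMonoidalCategory MonObj GrpObj

open Groth.Agent.Lib.Helper25 Groth.Agent.Lib.Helper25.DensePts Groth.Agent.Lib.Helper25.SurjPts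
open Groth.Agent.Lib.Helper25.GModComod Groth.Agent.Lib.T2H7.ObsPts Groth.Agent.Lib.T2H7.ObsFin
open Groth.Agent.Lib.T2H7.ObsHull Groth.Agent.Lib.T2H7.ObsTFAE Groth.Agent.Lib.T2H7.ObsChar
open Groth.Agent.Lib.T2H7.ObsQuot Groth.Agent.Lib.T2H7.ObsInd Groth.Agent.Lib.T2H7.GLnSch

variable {k : Type u} [Field k]
  {G : Over (Spec (CommRingCat.of k))} [GrpObj G] [IsAffine G.left]
  {H : Over (Spec (CommRingCat.of k))} [GrpObj H] [IsAffine H.left]

attribute [local instance] instHopfΓ

attribute [local instance] instOver instAlgΓ in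
/-- the structure map of the algebra of functions in terms of the structure morphism -/
theorem algebraMap_eq_hom_appTop (c : k) :
    algebraMap k Γ(G.left, ⊤) c =
      G.hom.appTop ((Scheme.ΓSpecIso (CommRingCat.of k)).inv c) := by
  have h1 := hom_eq k G
  have h2 : G.hom.appTop = (Spec.map (CommRingCat.ofHom (algebraMap k Γ(G.left, ⊤)))).appTop ≫
      G.left.isoSpec.hom.appTop := by
    rw [h1]
    rfl
  rw [h2]
  change _ = G.left.isoSpec.hom.appTop ((Spec.map (CommRingCat.ofHom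
    (algebraMap k Γ(G.left, ⊤)))).appTop ((Scheme.ΓSpecIso (CommRingCat.of k)).inv c))
  have h3 := Scheme.ΓSpecIso_inv_naturality (CommRingCat.ofHom (algebraMap k Γ(G.left, ⊤)))
  have h4 := congrArg (fun t => t.hom c) h3
  simp only [CommRingCat.hom_comp, RingHom.comp_apply] at h4
  rw [← h4]
  have h5 : G.left.isoSpec.hom.appTop = (Scheme.ΓSpecIso Γ(G.left, ⊤)).hom := by
    rw [Scheme.isoSpec_hom, Scheme.toSpecΓ_appTop]
  rw [h5]
  change _ = ((Scheme.ΓSpecIso Γ(G.left, ⊤)).inv ≫ (Scheme.ΓSpecIso Γ(G.left, ⊤)).hom).hom _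
  rw [Iso.inv_hom_id]
  rfl

/-- the regular representation of `G` on its algebra of functions, by right translation -/
noncomputable def regGMod : VecGrp.GMod G Γ(G.left, ⊤) :=
  gmodOfCoact (CoalgebraStruct.comul (R := k) (A := Γ(G.left, ⊤))) Coalgebra.coassoc
    Coalgebra.lTensor_counit_comp_comul

theorem lTensor_eq_map (i : H ⟶ G) [IsMonHom i] (w : Γ(G.left, ⊤) ⊗[k] Γ(G.left, ⊤)) :
    (resHom i : Γ(G.left, ⊤) →ₐ[k] Γ(H.left, ⊤)).toLinearMap.lTensor Γ(G.left, ⊤) w =
      Algebra.TensorProduct.map (AlgHom.id k Γ(G.left, ⊤))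
        (resHom i : Γ(G.left, ⊤) →ₐ[k] Γ(H.left, ⊤)) w := by
  induction w using TensorProduct.induction_on with
  | zero => simp
  | add x y hx hy => simp only [map_add, hx, hy]
  | tmul a b => rfl

/-- a right invariant function is a fixed vector of the regular representation -/
theorem mem_fixedUnder_regGMod (i : H ⟶ G) [IsMonHom i] (f : Γ(G.left, ⊤))
    (hf : AGF.IsRTransInv i f) : f ∈ (regGMod (G := G)).fixedUnder i := by
  intro B _ _ h
  rw [regGMod, gmodOfCoact_one_tmul, evA_comp_hom]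
  have h1 : ((evA h).comp (resHom i : Γ(G.left, ⊤) →ₐ[k] Γ(H.left, ⊤))).toLinearMap =
      (evA h).toLinearMap ∘ₗ (resHom i : Γ(G.left, ⊤) →ₐ[k] Γ(H.left, ⊤)).toLinearMap := rfl
  rw [h1, LinearMap.lTensor_comp_apply, lTensor_eq_map, comul_of_isRTransInv i f hf,
    LinearMap.lTensor_tmul, TensorProduct.comm_tmul]
  simp

/-- a fixed vector of the regular representation is a constant function -/
theorem const_of_mem_fixedUnder_regGMod (f : Γ(G.left, ⊤))
    (hf : f ∈ (regGMod (G := G)).fixedUnder (𝟙 G)) :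
    ∃ c : k, f = G.hom.appTop ((Scheme.ΓSpecIso (CommRingCat.of k)).inv c) := by
  have h1 := hf Γ(G.left, ⊤) (ptA (AlgHom.id k Γ(G.left, ⊤)))
  rw [Category.comp_id, regGMod, gmodOfCoact_one_tmul, evA_ptA] at h1
  have h2 : (AlgHom.id k Γ(G.left, ⊤)).toLinearMap = LinearMap.id := rfl
  rw [h2, LinearMap.lTensor_id, LinearMap.id_apply] at h1
  have h3 : CoalgebraStruct.comul (R := k) f = f ⊗ₜ[k] (1 : Γ(G.left, ⊤)) := by
    apply (TensorProduct.comm k Γ(G.left, ⊤) Γ(G.left, ⊤)).injective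
    rw [h1, TensorProduct.comm_tmul]
  have h4 := Coalgebra.rTensor_counit_comul (R := k) f
  rw [h3, LinearMap.rTensor_tmul] at h4
  have h5 := congrArg (TensorProduct.lid k Γ(G.left, ⊤)) h4
  rw [TensorProduct.lid_tmul, TensorProduct.lid_tmul, one_smul] at h5
  refine ⟨CoalgebraStruct.counit (R := k) f, ?_⟩
  rw [← algebraMap_eq_hom_appTop, Algebra.algebraMap_eq_smul_one]
  exact h5.symm

/-- the value of a constant function at a point -/
theorem evA_const {B : Type u} [CommRing B] [Algebra k B] (z : VecGrp.pt k B ⟶ G) (c : k) :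
    evA z (G.hom.appTop ((Scheme.ΓSpecIso (CommRingCat.of k)).inv c)) = algebraMap k B c := by
  rw [← algebraMap_eq_hom_appTop]
  exact (evA z).commutes c

/-- if the right invariant functions are constant, homomorphisms to affine groups are determined
by their restriction to the subgroup -/
theorem hom_ext_of_const [IsAlgClosed k] (i : H ⟶ G) [IsMonHom i]
    (hb : ∀ f : Γ(G.left, ⊤), AGF.IsRTransInv i f →
      ∃ c : k, f = G.hom.appTop ((Scheme.ΓSpecIso (CommRingCat.of k)).inv c))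
    (G' : Over (Spec (CommRingCat.of k))) [GrpObj G'] [IsAffine G'.left]
    (r s : G ⟶ G') [IsMonHom r] [IsMonHom s] (hrs : i ≫ r = i ≫ s) : r = s := by
  have key : ∀ {B : Type u} [CommRing B] [Algebra k B] (x : VecGrp.pt k B ⟶ G)
      (y : VecGrp.pt k B ⟶ H), (x * (y ≫ i)) ≫ (r * s⁻¹) = x ≫ (r * s⁻¹) := by
    intro B _ _ x y
    have h1 : (y ≫ i) ≫ r = (y ≫ i) ≫ s := by
      rw [Category.assoc, Category.assoc, hrs]
    rw [MonObj.comp_mul, MonObj.comp_mul, GrpObj.comp_inv, GrpObj.comp_inv, MonObj.mul_comp,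
      MonObj.mul_comp, h1, _root_.mul_inv_rev, _root_.mul_assoc, mul_inv_cancel_left]
  have hconst : ∀ f' : Γ(G'.left, ⊤), ∃ c : k, (r * s⁻¹).left.appTop f' =
      G.hom.appTop ((Scheme.ΓSpecIso (CommRingCat.of k)).inv c) := by
    intro f'
    apply hb
    apply isRTransInv_of_evA
    intro B _ _ x y
    rw [evA_appTop, evA_appTop, key]
  obtain ⟨B, _, _, z, hz⟩ := exists_univ_pt G
  have h2 : z ≫ (r * s⁻¹) = 1 := by
    apply evA_injective
    ext f'
    obtain ⟨c, hc⟩ := hconst f'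
    have h3 : (1 : VecGrp.pt k B ⟶ G) ≫ (r * s⁻¹) = 1 := by
      rw [MonObj.comp_mul, GrpObj.comp_inv, MonObj.one_comp, MonObj.one_comp, inv_one,
        _root_.mul_one]
    rw [← evA_appTop, hc, evA_const, ← h3, ← evA_appTop, hc, evA_const]
  have h4 : z ≫ r = z ≫ s := by
    rw [MonObj.comp_mul, GrpObj.comp_inv, mul_inv_eq_one] at h2
    exact h2
  apply Over.OverMorphism.ext
  apply ext_of_isAffine
  have h5 := congrArg (fun t => t.left.appTop) h4
  simp only [Over.comp_left, Scheme.Hom.comp_appTop] at h5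
  ext a
  apply hz
  exact congrArg (fun t => t.hom a) h5


section Geom

theorem isMonHom_eΓ_hom : IsMonHom (eΓ k G).hom :=
  isMonHom_of_mul' _ (comp_eΓ_mul k G (fst G G) (snd G G))

/-- two homomorphisms to the spectrum of a Hopf algebra agree on the subgroup as soon as the
comorphisms agree after restriction -/
theorem comp_gsMap_eq (i : H ⟶ G) [IsMonHom i] {A' : Type u} [CommRing A'] [HopfAlgebra k A']
    (ψ ψ' : A' →ₐc[k] Γ(G.left, ⊤))
    (h : (resHom i : Γ(G.left, ⊤) →ₐ[k] Γ(H.left, ⊤)).comp (ψ : A' →ₐ[k] Γ(G.left, ⊤)) =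
      (resHom i : Γ(G.left, ⊤) →ₐ[k] Γ(H.left, ⊤)).comp (ψ' : A' →ₐ[k] Γ(G.left, ⊤))) :
    i ≫ (eΓ k G).hom ≫ gsMap ψ = i ≫ (eΓ k G).hom ≫ gsMap ψ' := by
  obtain ⟨B, _, _, z, hz⟩ := exists_univ_pt H
  have h1 : z ≫ i ≫ (eΓ k G).hom ≫ gsMap ψ = z ≫ i ≫ (eΓ k G).hom ≫ gsMap ψ' := by
    rw [← ptOf_algOf (z ≫ i ≫ (eΓ k G).hom ≫ gsMap ψ),
      ← ptOf_algOf (z ≫ i ≫ (eΓ k G).hom ≫ gsMap ψ')]
    congr 1
    have e1 : ∀ χ : A' →ₐc[k] Γ(G.left, ⊤), z ≫ i ≫ (eΓ k G).hom ≫ gsMap χ =
        ((z ≫ i) ≫ (eΓ k G).hom) ≫ gsMap χ := by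
      intro χ
      simp only [Category.assoc]
    rw [e1, e1, algOf_comp_gsMap, algOf_comp_gsMap]
    change (evA (z ≫ i)).comp _ = (evA (z ≫ i)).comp _
    rw [evA_comp_hom, AlgHom.comp_assoc, AlgHom.comp_assoc, h]
  apply Over.OverMorphism.ext
  apply ext_of_isAffine
  have h5 := congrArg (fun t => t.left.appTop) h1
  simp only [Over.comp_left, Scheme.Hom.comp_appTop] at h5
  ext a
  apply hz
  exact congrArg (fun t => t.hom a) h5

/-- if homomorphisms to smooth affine groups are determined by their restriction to the subgroup,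
then comatrices are determined by their restriction to the subgroup -/
theorem comatrix_ext_of_hom_ext (i : H ⟶ G) [IsMonHom i]
    (he : ∀ (G' : Over (Spec (CommRingCat.of k))) [GrpObj G'] [IsAffine G'.left] [Smooth G'.hom]
      (r s : G ⟶ G') [IsMonHom r] [IsMonHom s], i ≫ r = i ≫ s → r = s)
    {m : ℕ} {a₁ a₂ : Matrix (Fin m) (Fin m) Γ(G.left, ⊤)} (h₁ : IsComatrix (k := k) a₁)
    (h₂ : IsComatrix (k := k) a₂)
    (h : (resHom i : Γ(G.left, ⊤) →ₐ[k] Γ(H.left, ⊤)).mapMatrix a₁ =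
      (resHom i : Γ(G.left, ⊤) →ₐ[k] Γ(H.left, ⊤)).mapMatrix a₂) : a₁ = a₂ := by
  have := isMonHom_eΓ_hom (k := k) (G := G)
  have := smooth_GS_GLn (k := k) m
  have h3 : (resHom i : Γ(G.left, ⊤) →ₐ[k] Γ(H.left, ⊤)).comp
      (glnHom h₁ : CoordGrp.GLn m k →ₐ[k] Γ(G.left, ⊤)) =
      (resHom i : Γ(G.left, ⊤) →ₐ[k] Γ(H.left, ⊤)).comp
      (glnHom h₂ : CoordGrp.GLn m k →ₐ[k] Γ(G.left, ⊤)) := by
    apply algHom_ext_X
    intro p q
    rw [AlgHom.comp_apply, AlgHom.comp_apply]
    change resHom i (glnHom h₁ (CoordGrp.GLn.X p q)) = resHom i (glnHom h₂ (CoordGrp.GLn.X p q))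
    rw [glnHom_X, glnHom_X]
    exact congrFun (congrFun h p) q
  have h4 := he (GS k (CoordGrp.GLn m k)) ((eΓ k G).hom ≫ gsMap (glnHom h₁))
    ((eΓ k G).hom ≫ gsMap (glnHom h₂)) (comp_gsMap_eq i _ _ h3)
  have h5 : gsMap (glnHom h₁) = gsMap (glnHom h₂) := (Iso.cancel_iso_hom_left _ _ _).mp h4
  have h6 := gsMap_injective h5
  ext p q
  rw [← glnHom_X h₁ p q, ← glnHom_X h₂ p q, h6]

end Geom

section Fixed

variable {E : Type u} [AddCommGroup E] [Module k E]

/-- if homomorphisms to smooth affine groups are determined by their restriction to the subgroup,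
the vectors fixed by the subgroup are fixed by the whole group -/
theorem fixedUnder_eq_of_hom_ext (i : H ⟶ G) [IsMonHom i]
    (he : ∀ (G' : Over (Spec (CommRingCat.of k))) [GrpObj G'] [IsAffine G'.left] [Smooth G'.hom]
      (r s : G ⟶ G') [IsMonHom r] [IsMonHom s], i ≫ r = i ≫ s → r = s)
    (ρ : VecGrp.GMod G E) : ρ.fixedUnder i = ρ.fixedUnder (𝟙 G) := by
  apply le_antisymm
  · intro v hv
    letI cE : HopfRep.Comod k Γ(G.left, ⊤) E := ⟨coact ρ, coact_coassoc ρ, coact_counit ρ⟩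
    have hv1 := hv Γ(H.left, ⊤) (ptA (AlgHom.id k Γ(H.left, ⊤)))
    rw [rho_one_tmul_eq, evA_comp_hom, evA_ptA] at hv1
    have hv2 : (resHom i : Γ(G.left, ⊤) →ₐ[k] Γ(H.left, ⊤)).toLinearMap.lTensor E
        (HopfRep.Comod.coact (k := k) (A := Γ(G.left, ⊤)) v) = v ⊗ₜ[k] (1 : Γ(H.left, ⊤)) := by
      apply (TensorProduct.comm k E Γ(H.left, ⊤)).injective
      rw [TensorProduct.comm_tmul]
      exact hv1
    obtain ⟨m, a₁, a₂, h₁, h₂, h12, hfin⟩ := exists_comatrices
      (resHom i : Γ(G.left, ⊤) →ₐ[k] Γ(H.left, ⊤)) v hv2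
    have h3 : coact ρ v = v ⊗ₜ[k] (1 : Γ(G.left, ⊤)) :=
      hfin (comatrix_ext_of_hom_ext i he h₁ h₂ h12)
    intro B _ _ g
    rw [rho_one_tmul_eq, h3, LinearMap.lTensor_tmul, TensorProduct.comm_tmul]
    simp
  · intro v hv B _ _ h
    have h1 := hv B (h ≫ i)
    rw [Category.comp_id] at h1
    exact h1

end Fixed

end Groth.Agent.Lib.T2H7.ObsEpi
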