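import Groth.Agent.Lib.T2H7ObsQuot
import Groth.Agent.Lib.T2H7ObsChar
import Groth.Prelude.Def_Hoch

/-!
# T2H7ObsInd: modules of an open and closed subgroup extend (induction by extension by zero)
-/

set_option autoImplicit false
set_option linter.style.haveILetI false
set_option linter.unusedSectionVars false
set_option linter.unusedVariables false
universe u

open CategoryTheory MonoidalCategory CartesianMonoidalCategory MonObj GrpObj AlgebraicGeometry
open scoped TensorProduct

namespace Groth.Agent.Lib.T2H7.ObsInd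

section Alg

variable {k : Type u} [Field k] {A C : Type u} [CommRing A] [CommRing C] [Bialgebra k A]
  [Bialgebra k C] (r : A →ₐc[k] C) (hr : Function.Surjective r) (e : A)

/-- extension by zero of a function on the subgroup -/
noncomputable def ext0 : C →ₗ[k] A :=
  (LinearMap.mulLeft k e) ∘ₗ
    (Classical.choose ((r : A →ₗ[k] C).exists_rightInverse_of_surjective
      (LinearMap.range_eq_top.mpr hr)))

theorem ext0_res (hek : ∀ a, r a = 0 → e * a = 0) (a : A) : ext0 r hr e (r a) = e * a := by
  have hg := Classical.choose_spec ((r : A →ₗ[k] C).exists_rightInverse_of_surjective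
    (LinearMap.range_eq_top.mpr hr))
  set g := Classical.choose ((r : A →ₗ[k] C).exists_rightInverse_of_surjective
    (LinearMap.range_eq_top.mpr hr)) with hgdef
  have h1 : r (g (r a)) = r a := LinearMap.congr_fun hg (r a)
  have h2 : r (g (r a) - a) = 0 := by rw [map_sub, h1, sub_self]
  have h3 := hek _ h2
  rw [mul_sub, sub_eq_zero] at h3
  change e * g (r a) = e * a
  exact h3

theorem counit_ext0 (he1 : r e = 1) (hek : ∀ a, r a = 0 → e * a = 0) (c : C) :
    CoalgebraStruct.counit (R := k) (ext0 r hr e c) = CoalgebraStruct.counit (R := k) c := by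
  obtain ⟨a, rfl⟩ := hr c
  rw [ext0_res r hr e hek, Bialgebra.counit_mul, ← CoalgHomClass.counit_comp_apply r e,
    ← CoalgHomClass.counit_comp_apply r a, he1, Bialgebra.counit_one, _root_.one_mul]

theorem rTensor_ext0_map (hek : ∀ a, r a = 0 → e * a = 0) (w : A ⊗[k] A) :
    (ext0 r hr e).rTensor C (TensorProduct.map (r : A →ₗ[k] C) (r : A →ₗ[k] C) w) =
      (e ⊗ₜ[k] (1 : C)) * Algebra.TensorProduct.map (AlgHom.id k A) (r : A →ₐ[k] C) w := by
  induction w using TensorProduct.induction_on with
  | zero => simp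
  | add x y hx hy => simp only [map_add, hx, hy, mul_add]
  | tmul a b =>
    rw [TensorProduct.map_tmul, LinearMap.rTensor_tmul, Algebra.TensorProduct.map_tmul,
      Algebra.TensorProduct.tmul_mul_tmul, _root_.one_mul]
    change ext0 r hr e (r a) ⊗ₜ[k] r b = _
    rw [ext0_res r hr e hek]
    rfl

/-- the fundamental identity of extension by zero -/
theorem lTensor_comul_ext0 (hek : ∀ a, r a = 0 → e * a = 0)
    (hE : Algebra.TensorProduct.map (AlgHom.id k A) (r : A →ₐ[k] C)
      (CoalgebraStruct.comul (R := k) e) = e ⊗ₜ[k] (1 : C)) (c : C) :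
    (r : A →ₗ[k] C).lTensor A (CoalgebraStruct.comul (R := k) (ext0 r hr e c)) =
      (ext0 r hr e).rTensor C (CoalgebraStruct.comul (R := k) c) := by
  obtain ⟨a, rfl⟩ := hr c
  have h1 : CoalgebraStruct.comul (R := k) (r a) =
      TensorProduct.map (r : A →ₗ[k] C) (r : A →ₗ[k] C) (CoalgebraStruct.comul (R := k) a) :=
    (CoalgHomClass.map_comp_comul_apply r a).symm
  rw [h1, rTensor_ext0_map r hr e hek, ext0_res r hr e hek, Bialgebra.comul_mul]
  have h2 : ∀ w : A ⊗[k] A, (r : A →ₗ[k] C).lTensor A w =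
      Algebra.TensorProduct.map (AlgHom.id k A) (r : A →ₐ[k] C) w := by
    intro w
    induction w using TensorProduct.induction_on with
    | zero => simp
    | add x y hx hy => simp only [map_add, hx, hy]
    | tmul a b => rfl
  rw [h2, map_mul, hE]

theorem lTensor_comm_lTensor {k : Type u} [Field k] {X Y P B : Type u} [AddCommGroup X] [Module k X]
    [AddCommGroup Y] [Module k Y] [AddCommGroup P] [Module k P] [AddCommGroup B] [Module k B]
    (f : X →ₗ[k] Y) (g : P →ₗ[k] B) (w : X ⊗[k] P) :
    f.lTensor B (TensorProduct.comm k X B (g.lTensor X w)) =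
      TensorProduct.comm k Y B (g.lTensor Y (f.rTensor P w)) := by
  induction w using TensorProduct.induction_on with
  | zero => simp
  | add x y hx hy => simp only [map_add, hx, hy]
  | tmul x p => rfl

end Alg

section Comod

variable {k : Type u} [Field k] {A C : Type u} [CommRing A] [CommRing C] [Bialgebra k A]
  [Bialgebra k C] (r : A →ₐc[k] C) (hr : Function.Surjective r) (e : A)
  {V : Type u} [AddCommGroup V] [Module k V] (δ : V →ₗ[k] V ⊗[k] C)

/-- the embedding of a comodule of the subgroup into the induced comodule -/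
noncomputable def emb : V →ₗ[k] V ⊗[k] A := (ext0 r hr e).lTensor V ∘ₗ δ

theorem lTensor_counit_emb (he1 : r e = 1) (hek : ∀ a, r a = 0 → e * a = 0)
    (hcu : (CoalgebraStruct.counit (R := k) (A := C)).lTensor V ∘ₗ δ =
      (TensorProduct.mk k V k).flip 1) (v : V) :
    (CoalgebraStruct.counit (R := k) (A := A)).lTensor V (emb r hr e δ v) = v ⊗ₜ[k] (1 : k) := by
  rw [emb, LinearMap.comp_apply, ← LinearMap.lTensor_comp_apply]
  have h : (CoalgebraStruct.counit (R := k) (A := A)) ∘ₗ ext0 r hr e =
      CoalgebraStruct.counit (R := k) (A := C) := LinearMap.ext (counit_ext0 r hr e he1 hek)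
  rw [h]
  exact LinearMap.congr_fun hcu v

theorem emb_injective (he1 : r e = 1) (hek : ∀ a, r a = 0 → e * a = 0)
    (hcu : (CoalgebraStruct.counit (R := k) (A := C)).lTensor V ∘ₗ δ =
      (TensorProduct.mk k V k).flip 1) : Function.Injective (emb r hr e δ) := by
  intro v v' h
  have h1 := lTensor_counit_emb r hr e δ he1 hek hcu v
  have h2 := lTensor_counit_emb r hr e δ he1 hek hcu v'
  rw [h, h2] at h1
  have h3 := congrArg (TensorProduct.rid k V) h1
  rw [TensorProduct.rid_tmul, TensorProduct.rid_tmul, one_smul, one_smul] at h3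
  exact h3.symm

theorem lTensor_assoc_symm (v : V) (z : A ⊗[k] A) :
    (r : A →ₗ[k] C).lTensor (V ⊗[k] A) ((TensorProduct.assoc k V A A).symm (v ⊗ₜ[k] z)) =
      (TensorProduct.assoc k V A C).symm (v ⊗ₜ[k] (r : A →ₗ[k] C).lTensor A z) := by
  induction z using TensorProduct.induction_on with
  | zero => simp
  | add x y hx hy => simp only [TensorProduct.tmul_add, map_add, hx, hy]
  | tmul a b => rfl

theorem lemmaX (hek : ∀ a, r a = 0 → e * a = 0)
    (hE : Algebra.TensorProduct.map (AlgHom.id k A) (r : A →ₐ[k] C)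
      (CoalgebraStruct.comul (R := k) e) = e ⊗ₜ[k] (1 : C)) (w : V ⊗[k] C) :
    (r : A →ₗ[k] C).lTensor (V ⊗[k] A) (Hoch.Ind.coactAux k A V ((ext0 r hr e).lTensor V w)) =
      (TensorProduct.assoc k V A C).symm (((ext0 r hr e).rTensor C).lTensor V
        ((CoalgebraStruct.comul (R := k) (A := C)).lTensor V w)) := by
  induction w using TensorProduct.induction_on with
  | zero => simp
  | add x y hx hy => simp only [map_add, hx, hy]
  | tmul v c =>
    rw [LinearMap.lTensor_tmul, Hoch.Ind.coactAux_tmul, lTensor_assoc_symm,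
      LinearMap.lTensor_tmul, LinearMap.lTensor_tmul]
    congr 2
    exact lTensor_comul_ext0 r hr e hek hE c

theorem lemmaY (u : (V ⊗[k] C) ⊗[k] C) :
    (TensorProduct.assoc k V A C).symm (((ext0 r hr e).rTensor C).lTensor V
      (TensorProduct.assoc k V C C u)) = ((ext0 r hr e).lTensor V).rTensor C u := by
  induction u using TensorProduct.induction_on with
  | zero => simp
  | add x y hx hy => simp only [map_add, hx, hy]
  | tmul w c' =>
    induction w using TensorProduct.induction_on with
    | zero => simp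
    | add x y hx hy => simp only [TensorProduct.add_tmul, map_add, hx, hy]
    | tmul v c => rfl

/-- the embedding intertwines the coaction of the subgroup with the restriction of the coaction
of the induced comodule -/
theorem emb_key (hek : ∀ a, r a = 0 → e * a = 0)
    (hE : Algebra.TensorProduct.map (AlgHom.id k A) (r : A →ₐ[k] C)
      (CoalgebraStruct.comul (R := k) e) = e ⊗ₜ[k] (1 : C))
    (hco : (TensorProduct.assoc k V C C).toLinearMap ∘ₗ δ.rTensor C ∘ₗ δ =
      (CoalgebraStruct.comul (R := k) (A := C)).lTensor V ∘ₗ δ) (v : V) :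
    (emb r hr e δ).rTensor C (δ v) =
      (r : A →ₗ[k] C).lTensor (V ⊗[k] A) (Hoch.Ind.coactAux k A V (emb r hr e δ v)) := by
  have h1 : (CoalgebraStruct.comul (R := k) (A := C)).lTensor V (δ v) =
      TensorProduct.assoc k V C C (δ.rTensor C (δ v)) := (LinearMap.congr_fun hco v).symm
  rw [emb, LinearMap.comp_apply, lemmaX r hr e hek hE, h1, lemmaY, ← LinearMap.rTensor_comp_apply]

end Comod

open Groth.Agent.Lib.Helper25 in
/-- the induced comodule structure on `V ⊗ A` -/
@[reducible] noncomputable def indComod (k : Type u) [Field k] (A : Type u) [CommRing A]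
    [Bialgebra k A] (V : Type u) [AddCommGroup V] [Module k V] :
    HopfRep.Comod k A (V ⊗[k] A) := Hoch.Ind.comod k A V

open Groth.Agent.Lib.Helper25 in
theorem indComod_coact (k : Type u) [Field k] (A : Type u) [CommRing A]
    [Bialgebra k A] (V : Type u) [AddCommGroup V] [Module k V] (w : V ⊗[k] A) :
    (indComod k A V).coact w = Hoch.Ind.coactAux k A V w := rfl

section Comod2

variable {k : Type u} [Field k] {A C : Type u} [CommRing A] [CommRing C] [Bialgebra k A]
  [Bialgebra k C] (r : A →ₐc[k] C) (hr : Function.Surjective r) (e : A)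
  {V : Type u} [AddCommGroup V] [Module k V] (δ : V →ₗ[k] V ⊗[k] C)

attribute [local instance] indComod

open HopfRep Groth.Agent.Lib.Helper25 in
/-- the intertwining property on pure tensors, abstractly -/
theorem extends_aux (hek : ∀ a, r a = 0 → e * a = 0)
    (hE : Algebra.TensorProduct.map (AlgHom.id k A) (r : A →ₐ[k] C)
      (CoalgebraStruct.comul (R := k) e) = e ⊗ₜ[k] (1 : C))
    (hco : (TensorProduct.assoc k V C C).toLinearMap ∘ₗ δ.rTensor C ∘ₗ δ =
      (CoalgebraStruct.comul (R := k) (A := C)).lTensor V ∘ₗ δ)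
    (U' : Submodule k (V ⊗[k] A)) (hsub : IsSubcomod (k := k) (A := A) U')
    (φ : V →ₗ[k] U') (hφ : U'.subtype ∘ₗ φ = emb r hr e δ)
    {B : Type u} [AddCommGroup B] [Module k B] (g : C →ₗ[k] B) (g' : A →ₗ[k] B)
    (hg : g' = g ∘ₗ (r : A →ₗ[k] C)) (v : V) :
    φ.lTensor B ((TensorProduct.comm k V B) (g.lTensor V (δ v))) =
      (TensorProduct.comm k U' B) (g'.lTensor U' ((subComod U' hsub).coact (φ v))) := by
  apply Module.Flat.lTensor_preserves_injective_linearMap (M := B) U'.subtype
    U'.subtype_injective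
  rw [← LinearMap.lTensor_comp_apply, lTensor_comm_lTensor, lTensor_comm_lTensor]
  have h2 : U'.subtype.rTensor A ((subComod U' hsub).coact (φ v)) =
      Hoch.Ind.coactAux k A V (emb r hr e δ v) := by
    rw [← hφ]
    exact rTensor_subtype_subCoact U' hsub (φ v)
  rw [hφ, h2, emb_key r hr e δ hek hE hco v, hg]
  generalize Hoch.Ind.coactAux k A V (emb r hr e δ v) = w
  refine congrArg (TensorProduct.comm k _ B) ?_
  induction w using TensorProduct.induction_on with
  | zero => simp
  | add x y hx hy => simp only [map_add, hx, hy]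
  | tmul x a => rfl

end Comod2

section Grp

open Groth.Agent.Lib.Helper25 Groth.Agent.Lib.Helper25.DensePts Groth.Agent.Lib.Helper25.SurjPts
open Groth.Agent.Lib.Helper25.GModComod Groth.Agent.Lib.T2H7.ObsPts Groth.Agent.Lib.T2H7.ObsFin
open Groth.Agent.Lib.T2H7.ObsHull Groth.Agent.Lib.T2H7.ObsTFAE Groth.Agent.Lib.T2H7.ObsChar
open Groth.Agent.Lib.T2H7.ObsQuot

variable {k : Type u} [Field k]
  {G : Over (Spec (CommRingCat.of k))} [GrpObj G] [IsAffine G.left]
  {H : Over (Spec (CommRingCat.of k))} [GrpObj H] [IsAffine H.left]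

attribute [local instance] instHopfΓ

/-- the idempotent cutting out an open and closed subgroup -/
theorem exists_idem (i : H ⟶ G) [IsMonHom i] [IsClosedImmersion i.left]
    [IsOpenImmersion i.left] :
    ∃ e : Γ(G.left, ⊤), e * e = e ∧ resHom i e = 1 ∧ ∀ a, resHom i a = 0 → e * a = 0 := by
  have hsurj : Function.Surjective i.left.appTop.hom :=
    (IsClosedImmersion.isAffine_surjective_of_isAffine i.left).2
  have h2 : H.left.isoSpec.inv ≫ i.left ≫ G.left.isoSpec.hom = Spec.map i.left.appTop := by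
    rw [← Scheme.isoSpec_inv_naturality_assoc, Iso.inv_hom_id, Category.comp_id]
  have hoi : IsOpenImmersion (Spec.map i.left.appTop) := by
    rw [← h2]
    infer_instance
  obtain ⟨e₀, he₀, hker⟩ := (isOpenImmersion_SpecMap_iff_of_surjective _ hsurj).mp hoi
  have h0 : i.left.appTop.hom e₀ = 0 := by
    have : e₀ ∈ RingHom.ker i.left.appTop.hom := by
      rw [hker]
      exact Ideal.mem_span_singleton_self e₀
    exact this
  refine ⟨1 - e₀, he₀.one_sub, ?_, ?_⟩
  · rw [map_sub, map_one, resHom_apply]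
    change 1 - i.left.appTop.hom e₀ = 1
    rw [h0, sub_zero]
  · intro a ha
    rw [resHom_apply] at ha
    have : a ∈ RingHom.ker i.left.appTop.hom := ha
    rw [hker, Ideal.mem_span_singleton'] at this
    obtain ⟨b, rfl⟩ := this
    have h3 : e₀ * e₀ = e₀ := he₀
    calc (1 - e₀) * (b * e₀) = b * (e₀ - e₀ * e₀) := by ring
      _ = 0 := by rw [h3, sub_self, mul_zero]

/-- the Hopf algebra form of right invariance -/
theorem comul_of_isRTransInv (i : H ⟶ G) [IsMonHom i] (f : Γ(G.left, ⊤))
    (hf : AGF.IsRTransInv i f) :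
    Algebra.TensorProduct.map (AlgHom.id k Γ(G.left, ⊤))
      (resHom i : Γ(G.left, ⊤) →ₐ[k] Γ(H.left, ⊤)) (CoalgebraStruct.comul (R := k) f) =
      f ⊗ₜ[k] (1 : Γ(H.left, ⊤)) := by
  have h1 := evA_of_isRTransInv i f hf
    (ptA (Algebra.TensorProduct.includeLeft :
      Γ(G.left, ⊤) →ₐ[k] Γ(G.left, ⊤) ⊗[k] Γ(H.left, ⊤)))
    (ptA (Algebra.TensorProduct.includeRight :
      Γ(H.left, ⊤) →ₐ[k] Γ(G.left, ⊤) ⊗[k] Γ(H.left, ⊤)))
  rw [evA_mul_apply, evA_comp_hom, evA_ptA, evA_ptA] at h1
  have h2 : pm (Algebra.TensorProduct.includeLeft :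
        Γ(G.left, ⊤) →ₐ[k] Γ(G.left, ⊤) ⊗[k] Γ(H.left, ⊤))
      ((Algebra.TensorProduct.includeRight :
        Γ(H.left, ⊤) →ₐ[k] Γ(G.left, ⊤) ⊗[k] Γ(H.left, ⊤)).comp
        (resHom i : Γ(G.left, ⊤) →ₐ[k] Γ(H.left, ⊤))) =
      Algebra.TensorProduct.map (AlgHom.id k Γ(G.left, ⊤))
        (resHom i : Γ(G.left, ⊤) →ₐ[k] Γ(H.left, ⊤)) := by
    apply Algebra.TensorProduct.ext'
    intro a b
    rw [pm_tmul, Algebra.TensorProduct.map_tmul, AlgHom.comp_apply,
      Algebra.TensorProduct.includeLeft_apply, Algebra.TensorProduct.includeRight_apply,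
      Algebra.TensorProduct.tmul_mul_tmul, _root_.mul_one, _root_.one_mul]
    rfl
  rw [h2] at h1
  exact h1

/-- a point at which the idempotent takes the value one lies in the subgroup -/
theorem exists_factor_of_evA (i : H ⟶ G) [IsMonHom i] [IsClosedImmersion i.left]
    (e : Γ(G.left, ⊤)) (hek : ∀ a, resHom i a = 0 → e * a = 0)
    {B : Type u} [CommRing B] [Algebra k B] (z : VecGrp.pt k B ⟶ G) (hz : evA z e = 1) :
    ∃ h : VecGrp.pt k B ⟶ H, h ≫ i = z := by
  have hker : ∀ a ∈ RingHom.ker (resHom i : Γ(G.left, ⊤) →ₐ[k] Γ(H.left, ⊤)), evA z a = 0 := by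
    intro a ha
    have h1 := hek a ha
    have h2 := congrArg (evA z) h1
    rw [map_mul, hz, _root_.one_mul, map_zero] at h2
    exact h2
  let ψ : Γ(H.left, ⊤) →ₐ[k] B :=
    (Ideal.Quotient.liftₐ (RingHom.ker (resHom i : Γ(G.left, ⊤) →ₐ[k] Γ(H.left, ⊤)))
      (evA z) hker).comp
      (Ideal.quotientKerAlgEquivOfSurjective
        (f := (resHom i : Γ(G.left, ⊤) →ₐ[k] Γ(H.left, ⊤))) (resHom_surjective i)).symm.toAlgHom
  have hψ : ψ.comp (resHom i : Γ(G.left, ⊤) →ₐ[k] Γ(H.left, ⊤)) = evA z := by
    ext a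
    change (Ideal.Quotient.liftₐ _ (evA z) hker) ((Ideal.quotientKerAlgEquivOfSurjective
      (f := (resHom i : Γ(G.left, ⊤) →ₐ[k] Γ(H.left, ⊤))) (resHom_surjective i)).symm
      ((resHom i : Γ(G.left, ⊤) →ₐ[k] Γ(H.left, ⊤)) a)) = _
    have h3 : (Ideal.quotientKerAlgEquivOfSurjective
      (f := (resHom i : Γ(G.left, ⊤) →ₐ[k] Γ(H.left, ⊤))) (resHom_surjective i)).symm
      ((resHom i : Γ(G.left, ⊤) →ₐ[k] Γ(H.left, ⊤)) a) = Ideal.Quotient.mk _ a := by
      rw [AlgEquiv.symm_apply_eq]
      rfl
    rw [h3]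
    rfl
  refine ⟨ptA ψ, ?_⟩
  apply evA_injective
  rw [evA_comp_hom, evA_ptA, hψ]

/-- the idempotent of an open and closed subgroup is invariant under right translation by the
subgroup -/
theorem isRTransInv_idem [IsAlgClosed k] [Smooth G.hom] [Smooth H.hom] (i : H ⟶ G) [IsMonHom i]
    [IsClosedImmersion i.left] (e : Γ(G.left, ⊤)) (hid : e * e = e) (he1 : resHom i e = 1)
    (hek : ∀ a, resHom i a = 0 → e * a = 0) : AGF.IsRTransInv i e := by
  apply isRTransInv_of_pts
  intro x y
  have h01 : ∀ z : VecGrp.pt k k ⟶ G, evA z e = 0 ∨ evA z e = 1 := by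
    intro z
    have h1 : evA z e * evA z e = evA z e := by rw [← map_mul, hid]
    rcases eq_or_ne (evA z e) 0 with h | h
    · exact Or.inl h
    · exact Or.inr (mul_left_cancel₀ h (by rw [h1, _root_.mul_one]))
  have hH : ∀ h : VecGrp.pt k k ⟶ H, evA (h ≫ i) e = 1 := by
    intro h
    rw [evA_comp_hom, AlgHom.comp_apply]
    change evA h (resHom i e) = 1
    rw [he1, map_one]
  have hiff : evA (x * (y ≫ i)) e = 1 ↔ evA x e = 1 := by
    constructor
    · intro h
      obtain ⟨h', hh'⟩ := exists_factor_of_evA i e hek _ h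
      have h2 : x = (h' * y⁻¹) ≫ i := by
        rw [MonObj.mul_comp, hh', _root_.mul_assoc, ← MonObj.mul_comp, mul_inv_cancel,
          MonObj.one_comp, _root_.mul_one]
      rw [h2]
      exact hH _
    · intro h
      obtain ⟨h', hh'⟩ := exists_factor_of_evA i e hek _ h
      rw [← hh', ← MonObj.mul_comp]
      exact hH _
  rcases h01 (x * (y ≫ i)) with h | h <;> rcases h01 x with h' | h'
  · rw [h, h']
  · exact absurd (hiff.mpr h') (by rw [h]; exact zero_ne_one)
  · exact absurd (hiff.mp h) (by rw [h']; exact zero_ne_one)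
  · rw [h, h']

attribute [local instance] indComod

open HopfRep in
/-- modules of an open and closed subgroup extend to the whole group -/
theorem extendsAlong_of_open [IsAlgClosed k] [Smooth G.hom] [Smooth H.hom] (i : H ⟶ G)
    [IsMonHom i] [IsClosedImmersion i.left] [IsOpenImmersion i.left]
    {V : Type u} [AddCommGroup V] [Module k V] [Module.Finite k V] (σ : VecGrp.GMod H V) :
    σ.ExtendsAlong i := by
  classical
  obtain ⟨e, hid, he1, hek⟩ := exists_idem i
  have hE := comul_of_isRTransInv i e (isRTransInv_idem i e hid he1 hek)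
  have hr := resHom_surjective i
  obtain ⟨U', hfg, hsub, hle⟩ := exists_fg_subcomod_ge (k := k) (A := Γ(G.left, ⊤))
    (V := V ⊗[k] Γ(G.left, ⊤)) (LinearMap.range (emb (resHom i) hr e (coact σ))) (by
      rw [LinearMap.range_eq_map]
      exact Submodule.FG.map _ Module.Finite.fg_top)
  have : Module.Finite k U' := Module.Finite.iff_fg.mpr hfg
  refine ⟨U', inferInstance, inferInstance, inferInstance,
    gmodOfCoact (subComod U' hsub).coact (subComod U' hsub).coassoc (subComod U' hsub).counit_comp,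
    LinearMap.codRestrict U' (emb (resHom i) hr e (coact σ)) (fun v => hle ⟨v, rfl⟩), ?_, ?_⟩
  · intro v v' h
    apply emb_injective (resHom i) hr e (coact σ) he1 hek (coact_counit σ)
    exact congrArg Subtype.val h
  · intro B _ _ h x
    have hpure : ∀ v : V, (LinearMap.baseChange B (LinearMap.codRestrict U'
          (emb (resHom i) hr e (coact σ)) (fun v => hle ⟨v, rfl⟩)))
          (σ.ρ B h ((1 : B) ⊗ₜ[k] v)) =
        (gmodOfCoact (subComod U' hsub).coact (subComod U' hsub).coassoc
          (subComod U' hsub).counit_comp).ρ B (h ≫ i)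
          ((1 : B) ⊗ₜ[k] (LinearMap.codRestrict U'
          (emb (resHom i) hr e (coact σ)) (fun v => hle ⟨v, rfl⟩) v)) := by
      intro v
      refine (congrArg (LinearMap.baseChange B _) (rho_one_tmul_eq σ h v)).trans ?_
      refine Eq.trans ?_ (gmodOfCoact_one_tmul (subComod U' hsub).coact
        (subComod U' hsub).coassoc (subComod U' hsub).counit_comp (h ≫ i) _).symm
      exact extends_aux (resHom i) hr e (coact σ) hek hE (coact_coassoc σ) U' hsub _ rfl
        (evA h).toLinearMap (evA (h ≫ i)).toLinearMap (by rw [evA_comp_hom]; rfl) v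
    have hF : (LinearMap.baseChange B (LinearMap.codRestrict U'
          (emb (resHom i) hr e (coact σ)) (fun v => hle ⟨v, rfl⟩))) ∘ₗ (σ.ρ B h).toLinearMap =
        ((gmodOfCoact (subComod U' hsub).coact (subComod U' hsub).coassoc
          (subComod U' hsub).counit_comp).ρ B (h ≫ i)).toLinearMap ∘ₗ
          (LinearMap.baseChange B (LinearMap.codRestrict U'
          (emb (resHom i) hr e (coact σ)) (fun v => hle ⟨v, rfl⟩))) := by
      ext v
      exact hpure v
    exact LinearMap.congr_fun hF x

end Grp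

end Groth.Agent.Lib.T2H7.ObsInd
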