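import Groth.Agent.Lib.T2H7ObsCrit
import Groth.Agent.Lib.T2H7ObsInd
import Groth.Agent.Lib.Helper25ChevalleyTriv

/-!
# T2H7ObsExt: modules of an observable subgroup extend

For an observable closed subgroup `H` of a linear algebraic group `G`, every finite-dimensional
rational `H`-module embeds `H`-equivariantly in a finite-dimensional rational `G`-module.

* `minor_eq`, `minor_snoc`: minors of a matrix with a vanishing block.
* `exists_quot_embedding`: for an `A`-comodule `W` and a subspace `K` stable under a quotient Hopf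
  algebra `C`, the `C`-comodule `W / K` embeds in an `A`-comodule (twisting by the inverse of the
  determinant character of `K`).
* `exists_comod_embedding`: every finite-dimensional `C`-comodule embeds in an `A`-comodule.
* `extendsAlong_of_observable`: the group scheme statement.
-/

set_option autoImplicit false
set_option linter.style.haveILetI false
set_option linter.unusedSectionVars false
set_option linter.unusedVariables false
universe u v w w'

namespace Groth.Agent.Lib.T2H7.ObsExt

open TensorProduct HopfRep Module Matrix Groth.Agent.Lib.Helper25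
open Groth.Agent.Lib.T2H7.ObsInd

section Minor

variable {k : Type u} [CommRing k] {A : Type u} [CommRing A] [Algebra k A]
variable {ι : Type w} [DecidableEq ι] {d : ℕ}

/-- a minor on rows `I'` and columns `c` of a matrix whose columns `c` are supported in rows `c` -/
theorem minor_eq (a : Matrix ι ι A) (c : Fin d → ι) (hc : Function.Injective c)
    (hvan : ∀ i, i ∉ Set.range c → ∀ m, a i (c m) = 0) (I' : Fin d → ι) :
    (Matrix.of fun l m => a (I' l) (c m)).det =
      altVec k c I' • (Matrix.of fun l m => a (c l) (c m)).det := by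
  have hmul : (Matrix.of fun l m => a (I' l) (c m)) =
      (Matrix.of fun l m => if I' l = c m then (1 : k) else 0).map (algebraMap k A) *
        (Matrix.of fun l m => a (c l) (c m)) := by
    ext l m
    simp only [Matrix.of_apply, Matrix.mul_apply, Matrix.map_apply]
    by_cases hr : I' l ∈ Set.range c
    · obtain ⟨l₀, hl₀⟩ := hr
      rw [Finset.sum_eq_single l₀]
      · rw [if_pos hl₀.symm, map_one, one_mul, hl₀]
      · intro l' _ hl'
        rw [if_neg, map_zero, zero_mul]
        intro h'
        exact hl' (hc (h'.symm.trans hl₀.symm))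
      · intro h'
        exact absurd (Finset.mem_univ _) h'
    · rw [hvan _ hr m]
      symm
      apply Finset.sum_eq_zero
      intro l' _
      rw [if_neg, map_zero, zero_mul]
      intro h'
      exact hr ⟨l', h'.symm⟩
  have hdm : ((Matrix.of fun l m => if I' l = c m then (1 : k) else 0).map
      (algebraMap k A)).det = algebraMap k A (altVec k c I') :=
    (RingHom.map_det (algebraMap k A) _).symm
  rw [hmul, Matrix.det_mul, hdm, Algebra.smul_def]

/-- expansion of `altVec` of an extended column set along the last column -/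
theorem altVec_snoc (c : Fin d → ι) (i : ι) (I : Fin (d + 1) → ι) :
    altVec k (Fin.snoc c i : Fin (d + 1) → ι) I =
      ∑ l : Fin (d + 1), (-1) ^ ((l : ℕ) + d) * (if I l = i then (1 : k) else 0) *
        altVec k c (fun l' => I (l.succAbove l')) := by
  unfold altVec
  rw [Matrix.det_succ_column _ (Fin.last d)]
  refine Finset.sum_congr rfl (fun l _ => ?_)
  congr 1
  · simp only [Matrix.of_apply, Fin.snoc_last, Fin.val_last]
  · congr 1
    ext l' m
    simp only [Matrix.submatrix_apply, Matrix.of_apply, Fin.succAbove_last, Fin.snoc_castSucc]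

/-- expansion of a minor on an extended column set -/
theorem minor_snoc (a : Matrix ι ι A) (c : Fin d → ι) (hc : Function.Injective c)
    (hvan : ∀ i, i ∉ Set.range c → ∀ m, a i (c m) = 0) [Fintype ι] (j : ι)
    (I : Fin (d + 1) → ι) :
    (Matrix.of fun l m => a (I l) ((Fin.snoc c j : Fin (d + 1) → ι) m)).det =
      ∑ i, altVec k (Fin.snoc c i : Fin (d + 1) → ι) I •
        (a i j * (Matrix.of fun l m => a (c l) (c m)).det) := by
  rw [Matrix.det_succ_column _ (Fin.last d)]
  have h1 : ∀ l : Fin (d + 1),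
      ((Matrix.of fun l m => a (I l) ((Fin.snoc c j : Fin (d + 1) → ι) m)).submatrix
        l.succAbove (Fin.last d).succAbove).det =
      altVec k c (fun l' => I (l.succAbove l')) • (Matrix.of fun l m => a (c l) (c m)).det := by
    intro l
    rw [← minor_eq a c hc hvan]
    congr 1
    ext l' m
    simp only [Matrix.submatrix_apply, Matrix.of_apply, Fin.succAbove_last, Fin.snoc_castSucc]
  simp only [h1, Matrix.of_apply, Fin.snoc_last, Fin.val_last]
  simp only [altVec_snoc, Finset.sum_smul]
  rw [Finset.sum_comm]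
  refine Finset.sum_congr rfl (fun l _ => ?_)
  rw [Finset.sum_eq_single (I l)]
  · rw [if_pos rfl, mul_one]
    simp only [Algebra.smul_def, map_mul, map_pow, map_neg, map_one]
    ring
  · intro i _ hi
    rw [if_neg (Ne.symm hi), mul_zero, zero_mul, zero_smul]
  · intro h
    exact absurd (Finset.mem_univ _) h

theorem altVec_snoc_of_mem (c : Fin d → ι) (i : ι) (hi : i ∈ Set.range c) :
    altVec k (Fin.snoc c i : Fin (d + 1) → ι) = 0 := by
  obtain ⟨m₀, rfl⟩ := hi
  funext I
  unfold altVec
  apply Matrix.det_zero_of_column_eq (i := Fin.castSucc m₀) (j := Fin.last d)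
    (Fin.castSucc_lt_last m₀).ne
  intro l
  simp only [Matrix.of_apply, Fin.snoc_castSucc, Fin.snoc_last]

theorem snoc_injective (c : Fin d → ι) (hc : Function.Injective c) (i : ι)
    (hi : i ∉ Set.range c) : Function.Injective (Fin.snoc c i : Fin (d + 1) → ι) := by
  intro l l' h
  induction l using Fin.lastCases with
  | last =>
    induction l' using Fin.lastCases with
    | last => rfl
    | cast l' =>
      rw [Fin.snoc_last, Fin.snoc_castSucc] at h
      exact absurd ⟨l', h.symm⟩ hi
  | cast l =>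
    induction l' using Fin.lastCases with
    | last =>
      rw [Fin.snoc_last, Fin.snoc_castSucc] at h
      exact absurd ⟨l, h⟩ hi
    | cast l' =>
      rw [Fin.snoc_castSucc, Fin.snoc_castSucc] at h
      rw [hc h]

theorem altVec_snoc_snoc (c : Fin d → ι) (hc : Function.Injective c) (i i₀ : ι)
    (hi : i ∉ Set.range c) (hi₀ : i₀ ∉ Set.range c) :
    altVec k (Fin.snoc c i : Fin (d + 1) → ι) (Fin.snoc c i₀ : Fin (d + 1) → ι) =
      if i = i₀ then 1 else 0 := by
  by_cases h : i = i₀
  · subst h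
    rw [if_pos rfl, altVec_self _ (snoc_injective c hc i hi)]
  · rw [if_neg h]
    unfold altVec
    apply Matrix.det_eq_zero_of_row_eq_zero (Fin.last d)
    intro m
    simp only [Matrix.of_apply, Fin.snoc_last]
    rw [if_neg]
    intro h'
    induction m using Fin.lastCases with
    | last =>
      rw [Fin.snoc_last] at h'
      exact h h'.symm
    | cast m =>
      rw [Fin.snoc_castSucc] at h'
      exact hi₀ ⟨m, h'.symm⟩

end Minor

section LemmaB

variable {k : Type u} [CommRing k] {A C : Type u} [CommRing A] [HopfAlgebra k A] [CommRing C]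
  [Algebra k C]
variable {ι : Type w} [Fintype ι] [DecidableEq ι] {κ : Type w'} [Fintype κ] [DecidableEq κ] {d : ℕ}

/-- the coordinate vectors of `(x_j ∧ k_1 ∧ ⋯ ∧ k_d) ⊗ c'` -/
noncomputable def thetaVec (c : Fin d → ι) (lam : κ → k) (j : ι) : (Fin (d + 1) → ι) × κ → k :=
  kronVec (altVec k (Fin.snoc c j : Fin (d + 1) → ι)) lam

theorem pi_coeffOf_thetaVec (π : A →ₐ[k] C) (P : Matrix ι ι A) (c : Fin d → ι)
    (Q : Matrix κ κ A) (lam : κ → k) (ψ' : C) (hc : Function.Injective c)
    (hvan : ∀ i, i ∉ Set.range c → ∀ m, π (P i (c m)) = 0)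
    (hlam : LineStab Q lam π ψ')
    (hψ : ψ' * (Matrix.of fun l m => π (P (c l) (c m))).det = 1) (j : ι)
    (I : (Fin (d + 1) → ι) × κ) :
    π (coeffOf (kronMat (tpowMat P (d + 1)) Q) (thetaVec c lam j) I) =
      ∑ i, thetaVec c lam i I • π (P i j) := by
  have h1 : coeffOf (tpowMat P (d + 1)) (altVec k (Fin.snoc c j : Fin (d + 1) → ι)) I.1 =
      (Matrix.of fun l m => P (I.1 l) ((Fin.snoc c j : Fin (d + 1) → ι) m)).det :=
    sum_altVec_tpowMat P _ I.1
  have h2 : π (Matrix.of fun l m => P (I.1 l) ((Fin.snoc c j : Fin (d + 1) → ι) m)).det =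
      (Matrix.of fun l m => (P.map π) (I.1 l) ((Fin.snoc c j : Fin (d + 1) → ι) m)).det := by
    rw [AlgHom.map_det]
    rfl
  have h3 := minor_snoc (k := k) (P.map π) c hc (fun i hi m => hvan i hi m) j I.1
  rw [thetaVec, coeffOf_kron, map_mul, hlam I.2, h1, h2, h3, Finset.sum_mul]
  refine Finset.sum_congr rfl (fun i _ => ?_)
  have h4 : (Matrix.of fun l m => π (P (c l) (c m))).det * ψ' = 1 := by
    rw [mul_comm]; exact hψ
  simp only [Matrix.map_apply]
  rw [smul_mul_smul_comm, mul_assoc, h4, mul_one]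
  rfl

/-- the top exterior power of the stable subspace: its matrix coefficient is semi-invariant -/
theorem lineStab_altVec (π : A →ₐ[k] C) (P : Matrix ι ι A) (c : Fin d → ι)
    (hc : Function.Injective c)
    (hvan : ∀ i, i ∉ Set.range c → ∀ m, π (P i (c m)) = 0) :
    LineStab (tpowMat P d) (altVec k c) π (Matrix.of fun l m => π (P (c l) (c m))).det := by
  intro I'
  have h1 : coeffOf (tpowMat P d) (altVec k c) I' = (Matrix.of fun l m => P (I' l) (c m)).det :=
    sum_altVec_tpowMat P c I'
  have h2 : π (Matrix.of fun l m => P (I' l) (c m)).det =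
      (Matrix.of fun l m => (P.map π) (I' l) (c m)).det := by
    rw [AlgHom.map_det]
    rfl
  rw [h1, h2, minor_eq (k := k) (P.map π) c hc (fun i hi m => hvan i hi m) I']
  rfl

theorem lTensor_comul_det (π : A →ₐ[k] C) {P : Matrix ι ι A} (hP : IsComatrix (k := k) P)
    (c : Fin d → ι) (hc : Function.Injective c)
    (hvan : ∀ i, i ∉ Set.range c → ∀ m, π (P i (c m)) = 0) :
    π.toLinearMap.lTensor A (CoalgebraStruct.comul (R := k)
      (Matrix.of fun l m => P (c l) (c m)).det) =
      (Matrix.of fun l m => P (c l) (c m)).det ⊗ₜ[k]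
        (Matrix.of fun l m => π (P (c l) (c m))).det := by
  have h1 : (Matrix.of fun l m => P (c l) (c m)).det = coeffOf (tpowMat P d) (altVec k c) c :=
    (sum_altVec_tpowMat P c c).symm
  have hLS := lineStab_altVec π P c hc hvan
  conv_lhs => rw [h1, comul_coeffOf (isComatrix_tpowMat hP d), map_sum]
  have h3 : ∀ I : Fin d → ι, π.toLinearMap.lTensor A (tpowMat P d c I ⊗ₜ[k]
      coeffOf (tpowMat P d) (altVec k c) I) =
      (altVec k c I • tpowMat P d c I) ⊗ₜ[k] (Matrix.of fun l m => π (P (c l) (c m))).det := by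
    intro I
    rw [LinearMap.lTensor_tmul, AlgHom.toLinearMap_apply, hLS I, TensorProduct.tmul_smul,
      TensorProduct.smul_tmul']
  rw [Finset.sum_congr rfl (fun I _ => h3 I), ← TensorProduct.sum_tmul]
  congr 1
  exact sum_altVec_tpowMat P c c

end LemmaB

section StageB

variable {k : Type u} [Field k] {A C : Type u} [CommRing A] [HopfAlgebra k A] [CommRing C]
  [Algebra k C]
variable {W : Type v} [AddCommGroup W] [Module k W] [Module.Finite k W] [Comod k A W]

/-- coordinates outside a subspace vanish on the image of `K ⊗ C` -/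
theorem lslice_rTensor_subtype (K : Submodule k W) (φ : W →ₗ[k] k) (hφ : ∀ w ∈ K, φ w = 0)
    (z : K ⊗[k] C) : lslice φ (K.subtype.rTensor C z) = 0 := by
  induction z using TensorProduct.induction_on with
  | zero => simp
  | add x y hx hy => rw [map_add, map_add, hx, hy, add_zero]
  | tmul w c =>
    rw [LinearMap.rTensor_tmul, lslice_tmul, Submodule.subtype_apply, hφ w w.2, zero_smul]

/-- **Quotients by stable subspaces embed**: for a finite-dimensional `A`-comodule `W` and a
subspace `K` stable under the quotient Hopf algebra `C`, the `C`-comodule `W / K` embeds in an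
`A`-comodule, provided the inverse of the determinant character of `K` occurs in an
`A`-comodule. -/
theorem exists_quot_embedding (π : A →ₐ[k] C) (K : Submodule k W)
    (hK : ∀ w ∈ K, π.toLinearMap.lTensor W (Comod.coact (k := k) (A := A) w) ∈
      LinearMap.range (K.subtype.rTensor C))
    (htw : ∀ (f : A) (χ₀ : C), IsUnit χ₀ → π f = χ₀ →
      π.toLinearMap.lTensor A (CoalgebraStruct.comul (R := k) f) = f ⊗ₜ[k] χ₀ →
      ∃ (r : ℕ) (Q : Matrix (Fin r) (Fin r) A) (lam : Fin r → k) (ψ' : C),
        IsComatrix (k := k) Q ∧ lam ≠ 0 ∧ LineStab Q lam π ψ' ∧ ψ' * χ₀ = 1) :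
    ∃ (T : Type) (_ : Fintype T) (_ : DecidableEq T) (R : Matrix T T A)
      (hR : IsComatrix (k := k) R) (θ : W →ₗ[k] (T → k)),
      LinearMap.ker θ = K ∧
      ∀ w, θ.rTensor C (π.toLinearMap.lTensor W (Comod.coact (k := k) (A := A) w)) =
        π.toLinearMap.lTensor (T → k)
          ((comodOfComatrix (Pi.basisFun k T) R hR).coact (θ w)) := by
  classical
  obtain ⟨d, m, x, hxK, hxr⟩ := exists_adapted_basis K
  set c : Fin d → Fin d ⊕ Fin m := Sum.inl with hcdef
  have hc : Function.Injective c := Sum.inl_injective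
  have hrange : ∀ i : Fin d ⊕ Fin m, i ∉ Set.range c → ∃ i', i = Sum.inr i' := by
    intro i hi
    rcases i with l | i'
    · exact absurd ⟨l, rfl⟩ hi
    · exact ⟨i', rfl⟩
  have hinr : ∀ i' : Fin m, Sum.inr i' ∉ Set.range c := by
    rintro i' ⟨l, hl⟩
    exact Sum.inl_ne_inr hl
  set P : Matrix (Fin d ⊕ Fin m) (Fin d ⊕ Fin m) A := comatrix (A := A) x with hPdef
  have hP : IsComatrix (k := k) P := isComatrix_comatrix x
  -- membership in `K`
  have hmemK : ∀ w : W, w ∈ K ↔ ∀ i', x.repr w (Sum.inr i') = 0 := by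
    intro w
    constructor
    · intro hw i'
      exact hxr w hw i'
    · intro hw
      rw [← x.sum_repr w, Fintype.sum_sum_type]
      apply K.add_mem
      · exact K.sum_mem (fun l _ => K.smul_mem _ (hxK l))
      · apply K.sum_mem
        intro i' _
        rw [hw i', zero_smul]
        exact K.zero_mem
  -- the stable subspace gives a vanishing block
  have hvan : ∀ i, i ∉ Set.range c → ∀ l, π (P i (c l)) = 0 := by
    intro i hi l
    obtain ⟨i', rfl⟩ := hrange i hi
    obtain ⟨z, hz⟩ := hK (x (Sum.inl l)) (hxK l)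
    have h1 := lslice_rTensor_subtype (C := C) K (x.coord (Sum.inr i'))
      (fun w hw => by rw [Basis.coord_apply]; exact hxr w hw i') z
    rw [hz, coact_basis x, map_sum] at h1
    simp only [LinearMap.lTensor_tmul, AlgHom.toLinearMap_apply] at h1
    rw [lslice_coord_sum x (fun i => π (comatrix (A := A) x i (Sum.inl l)))] at h1
    exact h1
  -- the determinant character
  set f : A := (Matrix.of fun l m => P (c l) (c m)).det with hfdef
  set χ₀ : C := (Matrix.of fun l m => π (P (c l) (c m))).det with hχdef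
  have hπf : π f = χ₀ := by
    rw [hfdef, AlgHom.map_det]
    rfl
  have hLS := lineStab_altVec (k := k) π P c hc hvan
  have hunit : IsUnit χ₀ :=
    isUnit_of_lineStab (isComatrix_tpowMat hP d) (altVec k c) π χ₀ hLS c (by
      rw [altVec_self c hc]; exact isUnit_one)
  obtain ⟨r, Q, lam, ψ', hQ, hlam0, hlam, hψ⟩ := htw f χ₀ hunit hπf
    (lTensor_comul_det π hP c hc hvan)
  obtain ⟨I₀, hI₀⟩ : ∃ I₀, lam I₀ ≠ 0 := by
    by_contra hcon
    push Not at hcon
    exact hlam0 (funext hcon)
  let T := (Fin (d + 1) → Fin d ⊕ Fin m) × Fin r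
  let R : Matrix T T A := kronMat (tpowMat P (d + 1)) Q
  have hR : IsComatrix (k := k) R := isComatrix_kronMat (isComatrix_tpowMat hP (d + 1)) hQ
  let θ : W →ₗ[k] (T → k) := x.constr k (fun j => thetaVec c lam j)
  have hθx : ∀ j, θ (x j) = thetaVec c lam j := fun j => x.constr_basis k _ j
  have hθ : ∀ w, θ w = ∑ j, x.repr w j • thetaVec c lam j := fun w => x.constr_apply_fintype k _ w
  have hθinl : ∀ l, thetaVec (k := k) c lam (Sum.inl l) = 0 := by
    intro l
    unfold thetaVec
    rw [altVec_snoc_of_mem c (Sum.inl l) ⟨l, rfl⟩]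
    funext I
    simp [kronVec]
  refine ⟨T, inferInstance, inferInstance, R, hR, θ, ?_, ?_⟩
  · ext w
    rw [LinearMap.mem_ker, hmemK]
    constructor
    · intro h0 i'
      have h1 := congrFun h0 ((Fin.snoc c (Sum.inr i') : Fin (d + 1) → Fin d ⊕ Fin m), I₀)
      rw [hθ, Fintype.sum_sum_type] at h1
      simp only [hθinl, smul_zero, Finset.sum_const_zero, zero_add] at h1
      rw [Finset.sum_apply] at h1
      simp only [Pi.smul_apply, smul_eq_mul, Pi.zero_apply] at h1
      rw [Finset.sum_eq_single i'] at h1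
      · unfold thetaVec kronVec at h1
        simp only at h1
        rw [altVec_snoc_snoc c hc _ _ (hinr i') (hinr i'), if_pos rfl, one_mul] at h1
        exact (mul_eq_zero.mp h1).resolve_right hI₀
      · intro j' _ hj'
        unfold thetaVec kronVec
        simp only
        rw [altVec_snoc_snoc c hc _ _ (hinr j') (hinr i'), if_neg, zero_mul, mul_zero]
        intro h'
        exact hj' (Sum.inr_injective h')
      · intro h'
        exact absurd (Finset.mem_univ _) h'
    · intro h0
      rw [hθ, Fintype.sum_sum_type]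
      simp only [hθinl, smul_zero, Finset.sum_const_zero, zero_add, h0, zero_smul]
  · intro w
    have hlin : θ.rTensor C ∘ₗ π.toLinearMap.lTensor W ∘ₗ Comod.coact (k := k) (A := A) =
        π.toLinearMap.lTensor (T → k) ∘ₗ
          (comodOfComatrix (Pi.basisFun k T) R hR).coact ∘ₗ θ := by
      apply x.ext
      intro j
      simp only [LinearMap.coe_comp, Function.comp_apply]
      rw [coact_basis x j, hθx]
      letI cE := comodOfComatrix (Pi.basisFun k T) R hR
      have hcm : comatrix (A := A) (Pi.basisFun k T) = R := comatrix_comodOfComatrix _ _ _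
      have h1 : cE.coact (thetaVec c lam j) =
          ∑ I, (Pi.basisFun k T) I ⊗ₜ[k] coeffOf R (thetaVec c lam j) I := by
        have := coact_eq_sum (A := A) (Pi.basisFun k T) (thetaVec c lam j)
        rw [hcm] at this
        exact this
      rw [h1, map_sum, map_sum, map_sum]
      have hL : ∀ i, (LinearMap.rTensor C θ) ((LinearMap.lTensor W π.toLinearMap)
          (x i ⊗ₜ[k] comatrix (A := A) x i j)) = thetaVec c lam i ⊗ₜ[k] π (P i j) := by
        intro i
        rw [LinearMap.lTensor_tmul, LinearMap.rTensor_tmul, hθx]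
        rfl
      have hRr : ∀ I, (LinearMap.lTensor (T → k) π.toLinearMap)
          ((Pi.basisFun k T) I ⊗ₜ[k] coeffOf R (thetaVec c lam j) I) =
          ∑ i, (thetaVec c lam i I • (Pi.basisFun k T) I) ⊗ₜ[k] π (P i j) := by
        intro I
        rw [LinearMap.lTensor_tmul, AlgHom.toLinearMap_apply,
          pi_coeffOf_thetaVec π P c Q lam ψ' hc hvan hlam hψ, TensorProduct.tmul_sum]
        refine Finset.sum_congr rfl (fun i _ => ?_)
        rw [TensorProduct.tmul_smul, TensorProduct.smul_tmul']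
      rw [Finset.sum_congr rfl (fun i _ => hL i), Finset.sum_congr rfl (fun I _ => hRr I),
        Finset.sum_comm]
      refine Finset.sum_congr rfl (fun i _ => ?_)
      rw [← TensorProduct.sum_tmul]
      congr 1
      funext I
      rw [Finset.sum_apply, Finset.sum_eq_single I]
      · simp [Pi.basisFun_apply]
      · intro I' _ hI'
        simp [Pi.basisFun_apply, Pi.single_apply, Ne.symm hI']
      · intro h'
        exact absurd (Finset.mem_univ _) h'
    exact LinearMap.congr_fun hlin w

end StageB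

section StageA

variable {k : Type u} [Field k] {A C : Type u} [CommRing A] [HopfAlgebra k A] [CommRing C]
  [HopfAlgebra k C] (π : A →ₐc[k] C)
  {V : Type u} [AddCommGroup V] [Module k V]

/-- restriction of functions is equivariant for the induced comodules -/
theorem rTensor_lTensor_coactAux (u : V ⊗[k] A) :
    ((π : A →ₐ[k] C).toLinearMap.lTensor V).rTensor C
        ((π : A →ₐ[k] C).toLinearMap.lTensor (V ⊗[k] A) (Hoch.Ind.coactAux k A V u)) =
      Hoch.Ind.coactAux k C V ((π : A →ₐ[k] C).toLinearMap.lTensor V u) := by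
  have key : ∀ (v : V) (z : A ⊗[k] A),
      ((π : A →ₐ[k] C).toLinearMap.lTensor V).rTensor C ((π : A →ₐ[k] C).toLinearMap.lTensor (V ⊗[k] A)
        ((TensorProduct.assoc k V A A).symm (v ⊗ₜ[k] z))) =
      (TensorProduct.assoc k V C C).symm
        (v ⊗ₜ[k] TensorProduct.map (π : A →ₐ[k] C).toLinearMap (π : A →ₐ[k] C).toLinearMap z) := by
    intro v z
    induction z using TensorProduct.induction_on with
    | zero => simp
    | add x y hx hy => simp only [TensorProduct.tmul_add, map_add, hx, hy]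
    | tmul a b => rfl
  induction u using TensorProduct.induction_on with
  | zero => simp
  | add x y hx hy => simp only [map_add, hx, hy]
  | tmul v a =>
    rw [Hoch.Ind.coactAux_tmul, key, LinearMap.lTensor_tmul, Hoch.Ind.coactAux_tmul]
    congr 2
    exact CoalgHomClass.map_comp_comul_apply π a



/-- **Extension of comodules, abstract step**: a `C`-comodule `V` which is the equivariant image
of a finite dimensional `A`-comodule `W` embeds in an `A`-comodule. -/
theorem exists_comod_embedding_aux [Module.Finite k V]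
    (δ : V →ₗ[k] V ⊗[k] C)
    (hco : (TensorProduct.assoc k V C C).toLinearMap ∘ₗ δ.rTensor C ∘ₗ δ =
      (CoalgebraStruct.comul (R := k) (A := C)).lTensor V ∘ₗ δ)
    (hcu : (CoalgebraStruct.counit (R := k) (A := C)).lTensor V ∘ₗ δ =
      (TensorProduct.mk k V k).flip 1)
    (htw : ∀ (f : A) (χ₀ : C), IsUnit χ₀ → π f = χ₀ →
      (π : A →ₐ[k] C).toLinearMap.lTensor A (CoalgebraStruct.comul (R := k) f) = f ⊗ₜ[k] χ₀ →
      ∃ (r : ℕ) (Q : Matrix (Fin r) (Fin r) A) (lam : Fin r → k) (ψ' : C),
        IsComatrix (k := k) Q ∧ lam ≠ 0 ∧ LineStab Q lam (π : A →ₐ[k] C) ψ' ∧ ψ' * χ₀ = 1)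
    {W : Type u} [AddCommGroup W] [Module k W] [Module.Finite k W] [Comod k A W]
    (g : W →ₗ[k] V ⊗[k] C) (lift : V →ₗ[k] W) (hgl : ∀ v, g (lift v) = δ v)
    (hF1 : ∀ w : W, g.rTensor C ((π : A →ₐ[k] C).toLinearMap.lTensor W
      (Comod.coact (k := k) (A := A) w)) = Hoch.Ind.coactAux k C V (g w)) :
    ∃ (T : Type) (_ : Fintype T) (_ : DecidableEq T) (R : Matrix T T A)
      (hR : IsComatrix (k := k) R) (Θ : V →ₗ[k] (T → k)),
      Function.Injective Θ ∧
      ∀ v, Θ.rTensor C (δ v) = (π : A →ₐ[k] C).toLinearMap.lTensor (T → k)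
          ((comodOfComatrix (Pi.basisFun k T) R hR).coact (Θ v)) := by
  classical
  have hex : Function.Exact ((LinearMap.ker g).subtype.rTensor C) (g.rTensor C) :=
    Module.Flat.rTensor_exact C (LinearMap.exact_subtype_ker_map g)
  have hK : ∀ w ∈ LinearMap.ker g, (π : A →ₐ[k] C).toLinearMap.lTensor W
      (Comod.coact (k := k) (A := A) w) ∈
      LinearMap.range ((LinearMap.ker g).subtype.rTensor C) := by
    intro w hw
    refine (hex _).mp ?_
    rw [hF1 w, LinearMap.mem_ker.mp hw, map_zero]
  obtain ⟨T, iT1, iT2, R, hR, θ, hker, hθ⟩ :=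
    exists_quot_embedding (π : A →ₐ[k] C) (LinearMap.ker g) hK htw
  refine ⟨T, iT1, iT2, R, hR, θ ∘ₗ lift, ?_, ?_⟩
  · -- injectivity
    have hδinj : Function.Injective δ := by
      intro v v' h
      have h1 := LinearMap.congr_fun hcu v
      have h2 := LinearMap.congr_fun hcu v'
      simp only [LinearMap.coe_comp, Function.comp_apply, LinearMap.flip_apply,
        TensorProduct.mk_apply] at h1 h2
      rw [h] at h1
      have h3 : v ⊗ₜ[k] (1 : k) = v' ⊗ₜ[k] (1 : k) := h1.symm.trans h2
      have h4 := congrArg (TensorProduct.rid k V) h3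
      simpa using h4
    rw [← LinearMap.ker_eq_bot, LinearMap.ker_eq_bot']
    intro v hv
    have h1 : lift v ∈ LinearMap.ker θ := hv
    rw [hker] at h1
    have h2 : g (lift v) = 0 := h1
    rw [hgl] at h2
    exact hδinj (h2.trans (map_zero δ).symm)
  · intro v
    rw [LinearMap.comp_apply, ← hθ (lift v)]
    have h0 : (θ ∘ₗ lift).rTensor C (δ v) = θ.rTensor C (lift.rTensor C (δ v)) := by
      rw [LinearMap.rTensor_comp]; rfl
    rw [h0, ← sub_eq_zero, ← map_sub]
    have hD : lift.rTensor C (δ v) - (π : A →ₐ[k] C).toLinearMap.lTensor W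
        (Comod.coact (k := k) (A := A) (lift v)) ∈
        LinearMap.range ((LinearMap.ker g).subtype.rTensor C) := by
      refine (hex _).mp ?_
      rw [map_sub, hF1, hgl, sub_eq_zero]
      have h1 : g.rTensor C (lift.rTensor C (δ v)) = δ.rTensor C (δ v) := by
        rw [← LinearMap.comp_apply, ← LinearMap.rTensor_comp]
        congr 2
        ext v'
        exact hgl v'
      rw [h1]
      have h2 := LinearMap.congr_fun hco v
      simp only [LinearMap.coe_comp, LinearEquiv.coe_coe, Function.comp_apply] at h2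
      change _ = (TensorProduct.assoc k V C C).symm
        ((CoalgebraStruct.comul (R := k) (A := C)).lTensor V (δ v))
      rw [← h2, LinearEquiv.symm_apply_apply]
    obtain ⟨z, hz⟩ := hD
    rw [← hz, ← LinearMap.comp_apply, ← LinearMap.rTensor_comp]
    have h3 : θ ∘ₗ (LinearMap.ker g).subtype = 0 := by
      apply LinearMap.ext
      intro w
      have : (w : W) ∈ LinearMap.ker θ := by rw [hker]; exact w.2
      exact this
    rw [h3, LinearMap.rTensor_zero, LinearMap.zero_apply]

attribute [local instance] indComod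

/-- **Extension of comodules along a quotient of Hopf algebras**, given the twisting data. -/
theorem exists_comod_embedding [Module.Finite k V] (hπ : Function.Surjective π)
    (δ : V →ₗ[k] V ⊗[k] C)
    (hco : (TensorProduct.assoc k V C C).toLinearMap ∘ₗ δ.rTensor C ∘ₗ δ =
      (CoalgebraStruct.comul (R := k) (A := C)).lTensor V ∘ₗ δ)
    (hcu : (CoalgebraStruct.counit (R := k) (A := C)).lTensor V ∘ₗ δ =
      (TensorProduct.mk k V k).flip 1)
    (htw : ∀ (f : A) (χ₀ : C), IsUnit χ₀ → π f = χ₀ →
      (π : A →ₐ[k] C).toLinearMap.lTensor A (CoalgebraStruct.comul (R := k) f) = f ⊗ₜ[k] χ₀ →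
      ∃ (r : ℕ) (Q : Matrix (Fin r) (Fin r) A) (lam : Fin r → k) (ψ' : C),
        IsComatrix (k := k) Q ∧ lam ≠ 0 ∧ LineStab Q lam (π : A →ₐ[k] C) ψ' ∧ ψ' * χ₀ = 1) :
    ∃ (T : Type) (_ : Fintype T) (_ : DecidableEq T) (R : Matrix T T A)
      (hR : IsComatrix (k := k) R) (Θ : V →ₗ[k] (T → k)),
      Function.Injective Θ ∧
      ∀ v, Θ.rTensor C (δ v) = (π : A →ₐ[k] C).toLinearMap.lTensor (T → k)
          ((comodOfComatrix (Pi.basisFun k T) R hR).coact (Θ v)) := by
  classical
  have hΨsurj : Function.Surjective ((π : A →ₐ[k] C).toLinearMap.lTensor V) :=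
    LinearMap.lTensor_surjective V hπ
  obtain ⟨s, hs⟩ := Module.projective_lifting_property
    ((π : A →ₐ[k] C).toLinearMap.lTensor V) δ hΨsurj
  obtain ⟨W, hWfg, hWsub, hWle⟩ := exists_fg_subcomod_ge (k := k) (A := A) (V := V ⊗[k] A)
    (LinearMap.range s) (by
      rw [LinearMap.range_eq_map]
      exact Submodule.FG.map _ Module.Finite.fg_top)
  have hWfin : Module.Finite k W := Module.Finite.iff_fg.mpr hWfg
  letI cW : Comod k A W := subComod W hWsub
  refine exists_comod_embedding_aux π δ hco hcu htw (W := W)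
    ((π : A →ₐ[k] C).toLinearMap.lTensor V ∘ₗ W.subtype)
    (LinearMap.codRestrict W s (fun v => hWle ⟨v, rfl⟩))
    (fun v => LinearMap.congr_fun hs v) ?_
  intro w
  have h1 : W.subtype.rTensor A (cW.coact w) = Hoch.Ind.coactAux k A V (w : V ⊗[k] A) :=
    rTensor_subtype_subCoact W hWsub w
  have h2 : ((π : A →ₐ[k] C).toLinearMap.lTensor V ∘ₗ W.subtype).rTensor C
      ((π : A →ₐ[k] C).toLinearMap.lTensor W (cW.coact w)) =
      ((π : A →ₐ[k] C).toLinearMap.lTensor V).rTensor C
        ((π : A →ₐ[k] C).toLinearMap.lTensor (V ⊗[k] A)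
        (W.subtype.rTensor A (cW.coact w))) := by
    generalize cW.coact w = z
    induction z using TensorProduct.induction_on with
    | zero => simp
    | add x y hx hy => simp only [map_add, hx, hy]
    | tmul x a => rfl
  rw [h2, h1]
  exact rTensor_lTensor_coactAux π (w : V ⊗[k] A)

end StageA

section Grp

open CategoryTheory MonoidalCategory CartesianMonoidalCategory MonObj GrpObj AlgebraicGeometry
open Groth.Agent.Lib.Helper25.DensePts Groth.Agent.Lib.Helper25.SurjPts
open Groth.Agent.Lib.Helper25.GModComod Groth.Agent.Lib.T2H7.ObsPts Groth.Agent.Lib.T2H7.ObsFin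
open Groth.Agent.Lib.T2H7.ObsTFAE Groth.Agent.Lib.T2H7.ObsChar Groth.Agent.Lib.T2H7.ObsCrit

variable {k : Type u} [Field k]
  {G : Over (Spec (CommRingCat.of k))} [GrpObj G] [IsAffine G.left]
  {H : Over (Spec (CommRingCat.of k))} [GrpObj H] [IsAffine H.left]

attribute [local instance] instHopfΓ

theorem lTensor_eq_map' (i : H ⟶ G) [IsMonHom i] (w : Γ(G.left, ⊤) ⊗[k] Γ(G.left, ⊤)) :
    (resHom i : Γ(G.left, ⊤) →ₐ[k] Γ(H.left, ⊤)).toLinearMap.lTensor Γ(G.left, ⊤) w =
      Algebra.TensorProduct.map (AlgHom.id k Γ(G.left, ⊤))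
        (resHom i : Γ(G.left, ⊤) →ₐ[k] Γ(H.left, ⊤)) w := by
  induction w using TensorProduct.induction_on with
  | zero => simp
  | add a b ha hb => simp only [map_add, ha, hb]
  | tmul a b => rfl

theorem nontrivial_Γ : Nontrivial Γ(H.left, ⊤) :=
  RingHom.domain_nontrivial (evA (1 : VecGrp.pt k k ⟶ H)).toRingHom

variable [IsAlgClosed k]

/-- the twisting data: the inverse of a character occurring on a function occurs on a vector -/
theorem exists_twist [Smooth G.hom] (i : H ⟶ G) [IsMonHom i] (hobs : AGF.IsObservableIn k i)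
    (f : Γ(G.left, ⊤)) (χ₀ : Γ(H.left, ⊤)) (hu : IsUnit χ₀) (hπf : resHom i f = χ₀)
    (hsemi : (resHom i : Γ(G.left, ⊤) →ₐ[k] Γ(H.left, ⊤)).toLinearMap.lTensor Γ(G.left, ⊤)
      (CoalgebraStruct.comul (R := k) f) = f ⊗ₜ[k] χ₀) :
    ∃ (r : ℕ) (Q : Matrix (Fin r) (Fin r) Γ(G.left, ⊤)) (lam : Fin r → k) (ψ' : Γ(H.left, ⊤)),
      IsComatrix (k := k) Q ∧ lam ≠ 0 ∧
        LineStab Q lam (resHom i : Γ(G.left, ⊤) →ₐ[k] Γ(H.left, ⊤)) ψ' ∧ ψ' * χ₀ = 1 := by
  classical
  have hnt : Nontrivial Γ(H.left, ⊤) := nontrivial_Γ (k := k) (H := H)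
  obtain ⟨v, hv⟩ := hu
  have hψ : (↑v⁻¹ : Γ(H.left, ⊤)) * χ₀ = 1 := by rw [← hv]; exact v.inv_mul
  have hf : f ≠ 0 := by
    intro h0
    rw [h0, map_zero] at hπf
    rw [← hπf, MulZeroClass.mul_zero] at hψ
    exact zero_ne_one hψ
  obtain ⟨c', hc', hc'semi⟩ := exists_semi_inv i hobs f χ₀ (↑v⁻¹) hψ hf (by
    rw [← lTensor_eq_map']; exact hsemi)
  obtain ⟨U, hUfg, hUsub, hmem⟩ :=
    exists_fg_subcomod_mem (k := k) (A := Γ(G.left, ⊤)) (V := Γ(G.left, ⊤)) c'
  letI cU : HopfRep.Comod k Γ(G.left, ⊤) U := subComod U hUsub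
  have hfin : Module.Finite k U := Module.Finite.iff_fg.mpr hUfg
  let y := Module.finBasis k U
  have h2 : (resHom i : Γ(G.left, ⊤) →ₐ[k] Γ(H.left, ⊤)).toLinearMap.lTensor U
      (cU.coact ⟨c', hmem⟩) = (⟨c', hmem⟩ : U) ⊗ₜ[k] (↑v⁻¹ : Γ(H.left, ⊤)) := by
    have hinj : Function.Injective (U.subtype.rTensor Γ(H.left, ⊤)) :=
      Module.Flat.rTensor_preserves_injective_linearMap _ U.subtype_injective
    apply hinj
    rw [← LinearMap.comp_apply, LinearMap.rTensor_comp_lTensor, ← LinearMap.lTensor_comp_rTensor,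
      LinearMap.comp_apply]
    have h3 : U.subtype.rTensor Γ(G.left, ⊤) (cU.coact ⟨c', hmem⟩) =
        CoalgebraStruct.comul (R := k) c' := rTensor_subtype_subCoact U hUsub ⟨c', hmem⟩
    rw [h3, lTensor_eq_map', hc'semi, LinearMap.rTensor_tmul]
    rfl
  refine ⟨_, comatrix (A := Γ(G.left, ⊤)) y, ⇑(y.repr ⟨c', hmem⟩), ↑v⁻¹, isComatrix_comatrix y, ?_,
    (lTensor_coact_eq_tmul_iff y ⟨c', hmem⟩ _ _).mp h2, hψ⟩
  intro h0
  apply hc'
  have h1 : y.repr ⟨c', hmem⟩ = 0 := by
    ext j
    exact congrFun h0 j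
  have h4 : (⟨c', hmem⟩ : U) = 0 := by
    rw [← y.repr.map_eq_zero_iff]
    exact h1
  exact congrArg Subtype.val h4

/-- **Modules of an observable subgroup extend**: every finite-dimensional rational module of an
observable subgroup embeds equivariantly in a finite-dimensional rational module of the group. -/
theorem extendsAlong_of_observable [Smooth G.hom] (i : H ⟶ G) [IsMonHom i]
    [IsClosedImmersion i.left] (hobs : AGF.IsObservableIn k i)
    {V : Type u} [AddCommGroup V] [Module k V] [Module.Finite k V] (σ : VecGrp.GMod H V) :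
    σ.ExtendsAlong i := by
  classical
  obtain ⟨T, iT1, iT2, R, hR, Θ, hinj, hΘ⟩ := exists_comod_embedding (resHom i)
    (resHom_surjective i) (coact σ) (coact_coassoc σ) (coact_counit σ)
    (fun f χ₀ hu hπf hsemi => exists_twist i hobs f χ₀ hu hπf hsemi)
  letI cE : HopfRep.Comod k Γ(G.left, ⊤) (T → k) := comodOfComatrix (Pi.basisFun k T) R hR
  have : Module.Finite k (T → k) := inferInstance
  refine ⟨T → k, inferInstance, inferInstance, inferInstance,
    gmodOfCoact cE.coact cE.coassoc cE.counit_comp, Θ, hinj, ?_⟩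
  intro B _ _ h x
  have hpure : ∀ v : V, (LinearMap.baseChange B Θ) (σ.ρ B h ((1 : B) ⊗ₜ[k] v)) =
      (gmodOfCoact cE.coact cE.coassoc cE.counit_comp).ρ B (h ≫ i) ((1 : B) ⊗ₜ[k] Θ v) := by
    intro v
    rw [rho_one_tmul_eq σ h v, gmodOfCoact_one_tmul, evA_comp_hom]
    have h1 : ((evA h).comp (resHom i : Γ(G.left, ⊤) →ₐ[k] Γ(H.left, ⊤))).toLinearMap =
        (evA h).toLinearMap ∘ₗ
          (resHom i : Γ(G.left, ⊤) →ₐ[k] Γ(H.left, ⊤)).toLinearMap := rfl
    rw [h1, LinearMap.lTensor_comp_apply, ← hΘ v]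
    generalize coact σ v = z
    induction z using TensorProduct.induction_on with
    | zero => simp
    | add a b ha hb => simp only [map_add, ha, hb]
    | tmul a b => rfl
  have hF : (LinearMap.baseChange B Θ) ∘ₗ (σ.ρ B h).toLinearMap =
      ((gmodOfCoact cE.coact cE.coassoc cE.counit_comp).ρ B (h ≫ i)).toLinearMap ∘ₗ
        (LinearMap.baseChange B Θ) := by
    ext v
    exact hpure v
  exact LinearMap.congr_fun hF x

/-- the coordinate function of a character is group-like -/
theorem isGroupLikeElem_gmFn (χ : H ⟶ Red.Gm (Spec (CommRingCat.of k))) [IsMonHom χ] :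
    IsGroupLikeElem k (Red.gmFn χ) := by
  have hmul : ∀ (B : Type u) [CommRing B] [Algebra k B] (x y : VecGrp.pt k B ⟶ H),
      evA (x * y) (Red.gmFn χ) = evA x (Red.gmFn χ) * evA y (Red.gmFn χ) := by
    intro B _ _ x y
    have e : (x * y) ≫ χ = (x ≫ χ) * (y ≫ χ) := MonObj.mul_comp x y χ
    rw [← chiVal_eq_evA, ← chiVal_eq_evA, ← chiVal_eq_evA, VecGrp.chiVal, VecGrp.chiVal,
      VecGrp.chiVal, e, GmPts.gmFn_mul, map_mul]
  constructor
  · have h1 := evA_one_apply (k := k) (G := H) (B := k) (Red.gmFn χ)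
    have e : (1 : VecGrp.pt k k ⟶ H) ≫ χ = 1 := MonObj.one_comp χ
    rw [← chiVal_eq_evA, VecGrp.chiVal, e, GmPts.gmFn_one, map_one] at h1
    exact h1.symm
  · have h1 := hmul _
      (ptA (Algebra.TensorProduct.includeLeft :
        Γ(H.left, ⊤) →ₐ[k] Γ(H.left, ⊤) ⊗[k] Γ(H.left, ⊤)))
      (ptA (Algebra.TensorProduct.includeRight :
        Γ(H.left, ⊤) →ₐ[k] Γ(H.left, ⊤) ⊗[k] Γ(H.left, ⊤)))
    rw [evA_mul_apply, evA_ptA, evA_ptA] at h1
    have h2 : ∀ w : Γ(H.left, ⊤) ⊗[k] Γ(H.left, ⊤),
        pm (Algebra.TensorProduct.includeLeft :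
          Γ(H.left, ⊤) →ₐ[k] Γ(H.left, ⊤) ⊗[k] Γ(H.left, ⊤))
          (Algebra.TensorProduct.includeRight :
          Γ(H.left, ⊤) →ₐ[k] Γ(H.left, ⊤) ⊗[k] Γ(H.left, ⊤)) w = w := by
      intro w
      induction w using TensorProduct.induction_on with
      | zero => simp
      | add a b ha hb => rw [map_add, ha, hb]
      | tmul a b =>
        rw [pm_tmul, Algebra.TensorProduct.includeLeft_apply,
          Algebra.TensorProduct.includeRight_apply, Algebra.TensorProduct.tmul_mul_tmul,
          _root_.mul_one, _root_.one_mul]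
    rw [h2] at h1
    rw [h1, Algebra.TensorProduct.includeLeft_apply, Algebra.TensorProduct.includeRight_apply,
      Algebra.TensorProduct.tmul_mul_tmul, _root_.mul_one, _root_.one_mul]

/-- **Converse**: if all finite-dimensional modules of a closed subgroup extend, the subgroup is
observable. -/
theorem observable_of_extends [Smooth G.hom] [Smooth H.hom] (i : H ⟶ G) [IsMonHom i]
    [IsClosedImmersion i.left]
    (hext : ∀ (V : Type u) [AddCommGroup V] [Module k V] [Module.Finite k V]
      (σ : VecGrp.GMod H V), σ.ExtendsAlong i) :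
    AGF.IsObservableIn k i := by
  apply observable_of_semi_inv i
  intro χ hχ _
  have ha : IsGroupLikeElem k (Red.gmFn χ) := isGroupLikeElem_gmFn χ
  have ha' : IsGroupLikeElem k (Red.gmFn χ⁻¹) :=
    IsGroupLikeElem.of_mul_eq_one (by rw [_root_.mul_comm]; exact GmPts.gmFn_inv χ)
      (GmPts.gmFn_inv χ) ha
  letI cV : HopfRep.Comod k Γ(H.left, ⊤) k := ComodTens.Comod.ofGroupLike (Red.gmFn χ⁻¹) ha'
  obtain ⟨W, iW1, iW2, iW3, ρ, φ, hφ, hequiv⟩ :=
    hext k (gmodOfCoact cV.coact cV.coassoc cV.counit_comp)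
  refine ⟨W, iW1, iW2, iW3, ρ, φ 1, ?_, ?_⟩
  · intro h0
    exact one_ne_zero (hφ (h0.trans (map_zero φ).symm))
  · intro B _ _ h
    have h1 := hequiv B h ((1 : B) ⊗ₜ[k] (1 : k))
    rw [LinearMap.baseChange_tmul] at h1
    rw [← h1, gmodOfCoact_one_tmul, chiVal_eq_evA]
    have h2 : cV.coact (1 : k) = (1 : k) ⊗ₜ[k] Red.gmFn χ⁻¹ :=
      ComodTens.ofGroupLike_coact _ ha' 1
    rw [h2, LinearMap.lTensor_tmul, TensorProduct.comm_tmul, LinearMap.baseChange_tmul,
      TensorProduct.smul_tmul', smul_eq_mul, _root_.mul_one]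
    rfl

/-- extension of modules is transitive -/
theorem extendsAlong_comp {K : Over (Spec (CommRingCat.of k))} [GrpObj K]
    (i : H ⟶ K) (j : K ⟶ G)
    {V : Type u} [AddCommGroup V] [Module k V] (σ : VecGrp.GMod H V)
    (hi : σ.ExtendsAlong i)
    (hj : ∀ (W : Type u) [AddCommGroup W] [Module k W] [Module.Finite k W]
      (τ : VecGrp.GMod K W), τ.ExtendsAlong j) :
    σ.ExtendsAlong (i ≫ j) := by
  obtain ⟨W, iW1, iW2, iW3, τ, φ, hφ, hφe⟩ := hi
  obtain ⟨W', iW1', iW2', iW3', ρ, φ', hφ', hφe'⟩ := hj W τ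
  refine ⟨W', iW1', iW2', iW3', ρ, φ' ∘ₗ φ, hφ'.comp hφ, ?_⟩
  intro B _ _ h x
  rw [LinearMap.baseChange_comp, LinearMap.comp_apply, LinearMap.comp_apply, hφe B h x,
    hφe' B (h ≫ i) (φ.baseChange B x), Category.assoc]

/-- **Observability is transitive.** -/
theorem observable_trans {K : Over (Spec (CommRingCat.of k))} [GrpObj K] [IsAffine K.left]
    [Smooth G.hom] [Smooth K.hom] [Smooth H.hom]
    (i : H ⟶ K) [IsMonHom i] [IsClosedImmersion i.left]
    (j : K ⟶ G) [IsMonHom j] [IsClosedImmersion j.left]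
    (hH : AGF.IsObservableIn k i) (hK : AGF.IsObservableIn k j) :
    AGF.IsObservableIn k (i ≫ j) := by
  have hcl : IsClosedImmersion (i ≫ j).left := by
    rw [Over.comp_left]
    infer_instance
  apply observable_of_extends (i ≫ j)
  intro V _ _ _ σ
  exact extendsAlong_comp i j σ (extendsAlong_of_observable i hH σ)
    (fun W _ _ _ τ => extendsAlong_of_observable j hK τ)

end Grp

end Groth.Agent.Lib.T2H7.ObsExt
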