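import Groth.Agent.Lib.T2H7ObsHull
import Groth.Agent.Lib.Helper6SmGeom

/-!
# T2H7ObsFin: translates of functions by rational points; finitely many invariants cut out the
observable hull
-/

set_option autoImplicit false
set_option linter.style.haveILetI false
set_option linter.unusedSectionVars false
set_option linter.unusedVariables false
universe u

open CategoryTheory MonoidalCategory CartesianMonoidalCategory MonObj GrpObj AlgebraicGeometry
open scoped TensorProduct

namespace Groth.Agent.Lib.T2H7.ObsFin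

open Groth.Agent.Lib.Helper25 Groth.Agent.Lib.Helper25.DensePts Groth.Agent.Lib.Helper25.SurjPts
open Groth.Agent.Lib.Helper25.GModComod Groth.Agent.Lib.T2H7.ObsPts

variable {k : Type u} [Field k] {G : Over (Spec (CommRingCat.of k))} [GrpObj G] [IsAffine G.left]

attribute [local instance] instHopfΓ

section FT

attribute [local instance] instOver instAlgΓ in
theorem finiteType_Γ [LocallyOfFiniteType G.hom] : Algebra.FiniteType k Γ(G.left, ⊤) := by
  have h1 : LocallyOfFiniteType (Spec.map (CommRingCat.ofHom (algebraMap k Γ(G.left, ⊤)))) := by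
    have h2 := hom_eq k G
    have h3 : Spec.map (CommRingCat.ofHom (algebraMap k Γ(G.left, ⊤))) =
        G.left.isoSpec.inv ≫ G.hom := by
      rw [h2, Iso.inv_hom_id_assoc]
    rw [h3]
    infer_instance
  rw [HasRingHomProperty.Spec_iff (P := @LocallyOfFiniteType)] at h1
  exact (RingHom.finiteType_algebraMap (A := k) (B := Γ(G.left, ⊤))).mp h1

attribute [local instance] instOver instAlgΓ in
theorem isNoetherianRing_Γ [LocallyOfFiniteType G.hom] : IsNoetherianRing Γ(G.left, ⊤) := by
  have := finiteType_Γ (k := k) (G := G)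
  exact Algebra.FiniteType.isNoetherianRing k Γ(G.left, ⊤)

end FT

section Translates

variable {B : Type u} [CommRing B] [Algebra k B]

/-- the right translate `x ↦ f (x g)` of a function by a rational point -/
noncomputable def rTr (g : VecGrp.pt k k ⟶ G) (f : Γ(G.left, ⊤)) : Γ(G.left, ⊤) :=
  TensorProduct.rid k Γ(G.left, ⊤)
    ((evA g).toLinearMap.lTensor Γ(G.left, ⊤) (CoalgebraStruct.comul (R := k) f))

/-- the left translate `y ↦ f (x y)` of a function by a rational point -/
noncomputable def lTr (x : VecGrp.pt k k ⟶ G) (f : Γ(G.left, ⊤)) : Γ(G.left, ⊤) :=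
  TensorProduct.lid k Γ(G.left, ⊤)
    ((evA x).toLinearMap.rTensor Γ(G.left, ⊤) (CoalgebraStruct.comul (R := k) f))

theorem pm_rid (f₁ : Γ(G.left, ⊤) →ₐ[k] B) (ψ : Γ(G.left, ⊤) →ₐ[k] k)
    (w : Γ(G.left, ⊤) ⊗[k] Γ(G.left, ⊤)) :
    pm f₁ ((Algebra.ofId k B).comp ψ) w =
      f₁ (TensorProduct.rid k Γ(G.left, ⊤) (ψ.toLinearMap.lTensor Γ(G.left, ⊤) w)) := by
  induction w using TensorProduct.induction_on with
  | zero => simp
  | add x y hx hy => simp only [map_add, hx, hy]
  | tmul a b =>
    rw [pm_tmul, LinearMap.lTensor_tmul, TensorProduct.rid_tmul, map_smul, AlgHom.comp_apply,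
      AlgHom.toLinearMap_apply, Algebra.ofId_apply, Algebra.smul_def, mul_comm]

theorem pm_lid (ψ : Γ(G.left, ⊤) →ₐ[k] k) (f₂ : Γ(G.left, ⊤) →ₐ[k] B)
    (w : Γ(G.left, ⊤) ⊗[k] Γ(G.left, ⊤)) :
    pm ((Algebra.ofId k B).comp ψ) f₂ w =
      f₂ (TensorProduct.lid k Γ(G.left, ⊤) (ψ.toLinearMap.rTensor Γ(G.left, ⊤) w)) := by
  induction w using TensorProduct.induction_on with
  | zero => simp
  | add x y hx hy => simp only [map_add, hx, hy]
  | tmul a b =>
    rw [pm_tmul, LinearMap.rTensor_tmul, TensorProduct.lid_tmul, map_smul, AlgHom.comp_apply,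
      AlgHom.toLinearMap_apply, Algebra.ofId_apply, Algebra.smul_def]

/-- there is only one morphism from `Spec B` to `Spec k` over `k` -/
theorem eq_ptMap_ofId (y : VecGrp.pt k B ⟶ VecGrp.pt k k) : y = VecGrp.ptMap (Algebra.ofId k B) := by
  apply Over.OverMorphism.ext
  have h1 := Over.w y
  have h2 := Over.w (VecGrp.ptMap (Algebra.ofId k B))
  have h3 : IsIso (VecGrp.pt k k).hom := by
    change IsIso (Spec.map (CommRingCat.ofHom (algebraMap k k)))
    have : algebraMap k k = RingHom.id k := rfl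
    rw [this]
    change IsIso (Spec.map (𝟙 (CommRingCat.of k)))
    infer_instance
  rw [← cancel_mono (VecGrp.pt k k).hom, h1, h2]

theorem evA_comp_pt (g : VecGrp.pt k k ⟶ G) (y : VecGrp.pt k B ⟶ VecGrp.pt k k) :
    evA (y ≫ g) = (Algebra.ofId k B).comp (evA g) := by
  rw [eq_ptMap_ofId y, evA_ptMap_comp]

theorem evA_mul_pt (g : VecGrp.pt k k ⟶ G) (x : VecGrp.pt k B ⟶ G)
    (y : VecGrp.pt k B ⟶ VecGrp.pt k k) (f : Γ(G.left, ⊤)) :
    evA (x * (y ≫ g)) f = evA x (rTr g f) := by
  rw [evA_mul_apply, evA_comp_pt, pm_rid, rTr]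

theorem evA_pt_mul (x : VecGrp.pt k k ⟶ G) (y' : VecGrp.pt k B ⟶ G)
    (y : VecGrp.pt k B ⟶ VecGrp.pt k k) (f : Γ(G.left, ⊤)) :
    evA ((y ≫ x) * y') f = evA y' (lTr x f) := by
  rw [evA_mul_apply, evA_comp_pt, pm_lid, lTr]

theorem evA_mul_rat (x g : VecGrp.pt k k ⟶ G) (f : Γ(G.left, ⊤)) :
    evA (x * g) f = evA x (rTr g f) := by
  have := evA_mul_pt g x (𝟙 _) f
  rwa [Category.id_comp] at this

theorem evA_mul_rat' (x g : VecGrp.pt k k ⟶ G) (f : Γ(G.left, ⊤)) :
    evA (x * g) f = evA g (lTr x f) := by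
  have := evA_pt_mul x g (𝟙 _) f
  rwa [Category.id_comp] at this

/-- invariance under right translation by a rational point, in terms of the Hopf algebra -/
theorem isRTransInv_pt_iff (g : VecGrp.pt k k ⟶ G) (f : Γ(G.left, ⊤)) :
    AGF.IsRTransInv g f ↔ rTr g f = f := by
  have hka : IsAffine (VecGrp.pt k k).left := by
    change IsAffine (Spec (CommRingCat.of k))
    infer_instance
  constructor
  · intro h
    obtain ⟨B, _, _, z, hz⟩ := exists_univ_pt G
    have h1 := evA_of_isRTransInv g f h z (VecGrp.ptMap (Algebra.ofId k B))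
    rw [evA_mul_pt, evA_apply, evA_apply] at h1
    exact hz ((ConcreteCategory.bijective_of_isIso
      (Scheme.ΓSpecIso (CommRingCat.of B)).hom).1 h1)
  · intro h
    apply isRTransInv_of_evA
    intro B _ _ x y
    rw [evA_mul_pt, h]

end Translates

section Density

variable [IsAlgClosed k]

/-- a function on a reduced affine group over an algebraically closed field vanishing at all
rational points is zero -/
theorem eq_zero_of_forall_evA [_root_.IsReduced Γ(G.left, ⊤)] (c : Γ(G.left, ⊤))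
    (h : ∀ x : VecGrp.pt k k ⟶ G, evA x c = 0) : c = 0 := by
  by_contra hc
  have hn : ¬ IsNilpotent c := fun hn => hc (hn.eq_zero)
  obtain ⟨ψ, hψ⟩ := exists_algHom_ne_zero_of_not_isNilpotent (k := k) c hn
  apply hψ
  have := h (ptA ψ)
  rwa [evA_ptA] at this

theorem isReduced_Γ [Smooth G.hom] : _root_.IsReduced Γ(G.left, ⊤) := by
  have : IsReduced G.left := Groth.Agent.Lib.Helper6.SmGeom.isReduced_of_smooth_over_field k G.left G.hom
  infer_instance

/-- the "difference functions" whose vanishing at `g` expresses `r_g f = f` -/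
def diffSet (f : Γ(G.left, ⊤)) : Set Γ(G.left, ⊤) :=
  Set.range (fun x : VecGrp.pt k k ⟶ G => lTr x f - algebraMap k Γ(G.left, ⊤) (evA x f))

theorem rTr_eq_iff [_root_.IsReduced Γ(G.left, ⊤)] (g : VecGrp.pt k k ⟶ G) (f : Γ(G.left, ⊤)) :
    rTr g f = f ↔ ∀ d ∈ diffSet f, evA g d = 0 := by
  constructor
  · rintro h _ ⟨x, rfl⟩
    rw [map_sub, ← evA_mul_rat', evA_mul_rat, h, AlgHom.commutes]
    simp
  · intro h
    rw [← sub_eq_zero]
    apply eq_zero_of_forall_evA
    intro x
    have h1 := h _ ⟨x, rfl⟩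
    rw [map_sub, ← evA_mul_rat', evA_mul_rat, AlgHom.commutes] at h1
    rw [map_sub, sub_eq_zero]
    simpa [sub_eq_zero] using h1

/-- **Finitely many invariant functions cut out the observable hull.** -/
theorem exists_finset_hull [IsNoetherianRing Γ(G.left, ⊤)] [_root_.IsReduced Γ(G.left, ⊤)]
    (P : Γ(G.left, ⊤) → Prop) :
    ∃ s : Finset Γ(G.left, ⊤), (∀ f ∈ s, P f) ∧
      ∀ g : VecGrp.pt k k ⟶ G, (∀ f ∈ s, rTr g f = f) → ∀ f, P f → rTr g f = f := by
  classical
  let S : Set Γ(G.left, ⊤) := ⋃ f ∈ {f | P f}, diffSet f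
  have hfg : (Ideal.span S).FG := IsNoetherian.noetherian _
  obtain ⟨S', hS'S, hS'⟩ := (Submodule.fg_span_iff_fg_span_finset_subset S).mp hfg
  have hch : ∀ d ∈ S', ∃ f, P f ∧ d ∈ diffSet f := by
    intro d hd
    have := hS'S hd
    simp only [S, Set.mem_iUnion, Set.mem_ofPred_eq, exists_prop] at this
    exact this
  choose! F hFP hFd using hch
  refine ⟨S'.image F, ?_, ?_⟩
  · intro f hf
    obtain ⟨d, hd, rfl⟩ := Finset.mem_image.mp hf
    exact hFP d hd
  · intro g hg f hf
    rw [rTr_eq_iff]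
    intro d hd
    have hker : Ideal.span S ≤ RingHom.ker (evA g : Γ(G.left, ⊤) →+* k) := by
      change Submodule.span _ S ≤ _
      rw [hS']
      change Ideal.span _ ≤ _
      rw [Ideal.span_le]
      intro d' hd'
      have h1 := hg (F d') (Finset.mem_image_of_mem F hd')
      rw [rTr_eq_iff] at h1
      exact h1 d' (hFd d' hd')
    have hdS : d ∈ S := by
      simp only [S, Set.mem_iUnion, Set.mem_ofPred_eq, exists_prop]
      exact ⟨f, hf, hd⟩
    exact hker (Ideal.subset_span hdS)

end Density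

end Groth.Agent.Lib.T2H7.ObsFin
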