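import Groth.Agent.Lib.T2H7ObsExt
import Groth.Agent.Lib.T2H7ObsCodim

/-!
# T2H7ObsFinIdx: observability and subgroups of finite index

* `ptsSubgroup`: the rational points of a subgroup, as a subgroup of the rational points.
* `finite_quotient_of_open`: an open and closed subgroup has finite index on rational points.
* `observable_of_open_sub`: if an open and closed subgroup `L` of `H` is observable in `G`, so
  is `H`.
* `observable_open_sub`: if `H` is observable in `G`, so is every open and closed subgroup of `H`.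
-/

set_option autoImplicit false
set_option linter.style.haveILetI false
set_option linter.unusedSectionVars false
set_option linter.unusedVariables false
universe u

open CategoryTheory MonoidalCategory CartesianMonoidalCategory MonObj GrpObj AlgebraicGeometry
open scoped TensorProduct

namespace Groth.Agent.Lib.T2H7.ObsFinIdx

open Groth.Agent.Lib.Helper25 Groth.Agent.Lib.Helper25.DensePts Groth.Agent.Lib.Helper25.SurjPts
open Groth.Agent.Lib.Helper25.GModComod Groth.Agent.Lib.T2H7.ObsPts Groth.Agent.Lib.T2H7.ObsFin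
open Groth.Agent.Lib.T2H7.ObsHull Groth.Agent.Lib.T2H7.ObsTFAE Groth.Agent.Lib.T2H7.ObsChar
open Groth.Agent.Lib.T2H7.ObsOpen Groth.Agent.Lib.T2H7.ObsCrit Groth.Agent.Lib.T2H7.ObsQuot
open Groth.Agent.Lib.T2H7.ObsFrac Groth.Agent.Lib.T2H7.ObsInd Groth.Agent.Lib.T2H7.ObsCodim
open Groth.Agent.Lib.T2H7.ObsExt

variable {k : Type u} [Field k]
  {G : Over (Spec (CommRingCat.of k))} [GrpObj G] [IsAffine G.left]
  {H : Over (Spec (CommRingCat.of k))} [GrpObj H] [IsAffine H.left]
  {L : Over (Spec (CommRingCat.of k))} [GrpObj L] [IsAffine L.left]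

attribute [local instance] instHopfΓ

/-- the rational points of `H` coming from the subgroup `L` -/
def ptsSubgroup (a : L ⟶ H) [IsMonHom a] : Subgroup (VecGrp.pt k k ⟶ H) where
  carrier := {h | ∃ t : VecGrp.pt k k ⟶ L, t ≫ a = h}
  mul_mem' := by
    rintro _ _ ⟨t, rfl⟩ ⟨t', rfl⟩
    exact ⟨t * t', MonObj.mul_comp t t' a⟩
  one_mem' := ⟨1, MonObj.one_comp a⟩
  inv_mem' := by
    rintro _ ⟨t, rfl⟩
    exact ⟨t⁻¹, GrpObj.inv_comp t a⟩

theorem mem_ptsSubgroup (a : L ⟶ H) [IsMonHom a] (h : VecGrp.pt k k ⟶ H) :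
    h ∈ ptsSubgroup a ↔ ∃ t : VecGrp.pt k k ⟶ L, t ≫ a = h := Iff.rfl

/-- a rational point of `H` lies in the closed subgroup `L` as soon as its evaluation kills the
ideal of `L` -/
theorem mem_ptsSubgroup_of_ker (a : L ⟶ H) [IsMonHom a] [IsClosedImmersion a.left]
    (h : VecGrp.pt k k ⟶ H) (hker : ∀ b, resHom a b = 0 → evA h b = 0) :
    h ∈ ptsSubgroup a := by
  have hle : RingHom.ker (resHom a : Γ(H.left, ⊤) →ₐ[k] Γ(L.left, ⊤)).toRingHom ≤
      RingHom.ker (evA h).toRingHom := fun b hb => hker b hb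
  refine ⟨ptA (AlgHom.liftOfSurjective (resHom a : Γ(H.left, ⊤) →ₐ[k] Γ(L.left, ⊤))
    (resHom_surjective a) (evA h) hle), ?_⟩
  apply evA_injective
  rw [evA_comp_hom, evA_ptA, AlgHom.liftOfSurjective_comp]

/-- the values of the idempotent of an open and closed subgroup -/
theorem evA_idem_of_mem (a : L ⟶ H) [IsMonHom a]
    (e : Γ(H.left, ⊤)) (he1 : resHom a e = 1)
    (h : VecGrp.pt k k ⟶ H) (hh : h ∈ ptsSubgroup a) : evA h e = 1 := by
  obtain ⟨t, rfl⟩ := hh
  rw [evA_comp_hom, AlgHom.comp_apply]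
  change evA t (resHom a e) = 1
  rw [he1, map_one]

theorem evA_idem_of_notMem (a : L ⟶ H) [IsMonHom a] [IsClosedImmersion a.left]
    (e : Γ(H.left, ⊤)) (hek : ∀ b, resHom a b = 0 → e * b = 0)
    (h : VecGrp.pt k k ⟶ H) (hh : h ∉ ptsSubgroup a) : evA h e = 0 := by
  by_contra hne
  apply hh
  apply mem_ptsSubgroup_of_ker
  intro b hb
  have h1 := congrArg (evA h) (hek b hb)
  rw [map_mul, map_zero] at h1
  exact (mul_eq_zero.mp h1).resolve_left hne

variable [IsAlgClosed k]

/-- an open and closed subgroup has finite index on rational points -/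
theorem finite_quotient_of_open (a : L ⟶ H) [IsMonHom a] [IsClosedImmersion a.left]
    [IsOpenImmersion a.left] : Finite ((VecGrp.pt k k ⟶ H) ⧸ ptsSubgroup a) := by
  classical
  obtain ⟨e, hid, he1, hek⟩ := exists_idem a
  obtain ⟨T, hT⟩ := exists_finset_lTr_mem (k := k) (G := H) e
  let v : ((VecGrp.pt k k ⟶ H) ⧸ ptsSubgroup a) → Γ(H.left, ⊤) :=
    fun q => lTr (Quotient.out q)⁻¹ e
  have hval : ∀ (q : (VecGrp.pt k k ⟶ H) ⧸ ptsSubgroup a) (y : VecGrp.pt k k ⟶ H),
      evA y (v q) = if (QuotientGroup.mk y : (VecGrp.pt k k ⟶ H) ⧸ ptsSubgroup a) = q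
        then 1 else 0 := by
    intro q y
    change evA y (lTr (Quotient.out q)⁻¹ e) = _
    rw [← evA_mul_rat']
    have hiff : (Quotient.out q)⁻¹ * y ∈ ptsSubgroup a ↔
        (QuotientGroup.mk y : (VecGrp.pt k k ⟶ H) ⧸ ptsSubgroup a) = q := by
      rw [← QuotientGroup.eq, QuotientGroup.out_eq']
      exact eq_comm
    by_cases hq : (QuotientGroup.mk y : (VecGrp.pt k k ⟶ H) ⧸ ptsSubgroup a) = q
    · rw [if_pos hq, evA_idem_of_mem a e he1 _ (hiff.mpr hq)]
    · rw [if_neg hq, evA_idem_of_notMem a e hek _ (fun h' => hq (hiff.mp h'))]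
  have hli : LinearIndependent k v := by
    rw [linearIndependent_iff']
    intro s c hc q₀ hq₀
    have h1 := congrArg (evA (Quotient.out q₀)) hc
    rw [map_sum, map_zero] at h1
    simp only [map_smul, hval, QuotientGroup.out_eq', smul_eq_mul] at h1
    rw [Finset.sum_eq_single q₀] at h1
    · simpa using h1
    · intro q _ hq
      rw [if_neg (Ne.symm hq), MulZeroClass.mul_zero]
    · intro h'
      exact absurd hq₀ h'
  exact hli.finite_of_le_span_finite v (T : Set Γ(H.left, ⊤)) (by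
    rintro _ ⟨q, rfl⟩
    exact hT _)

/-- invariants of an observable subgroup separate its cosets -/
theorem exists_inv_separating [Smooth G.hom] (j : L ⟶ G) [IsMonHom j]
    (hobs : AGF.IsObservableIn k j) (x y : VecGrp.pt k k ⟶ G)
    (hxy : ¬ ∃ t : VecGrp.pt k k ⟶ L, t ≫ j = x⁻¹ * y) :
    ∃ f : Γ(G.left, ⊤), AGF.IsRTransInv j f ∧ evA x f ≠ evA y f := by
  have hR : _root_.IsReduced Γ(G.left, ⊤) := isReduced_Γ (k := k)
  by_contra hcon
  push Not at hcon
  apply hxy
  apply hobs (x⁻¹ * y)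
  intro f hf
  rw [isRTransInv_pt_iff, ← sub_eq_zero]
  apply eq_zero_of_forall_evA
  intro z
  rw [map_sub, sub_eq_zero, ← evA_mul_rat]
  have h1 := hcon (lTr (z * x⁻¹) f) (isRTransInv_lTr j f hf _)
  rw [← evA_mul_rat', ← evA_mul_rat', inv_mul_cancel_right] at h1
  rw [h1, _root_.mul_assoc]

/-- interpolation in a subalgebra of functions separating two finite families of points -/
theorem exists_interp {A : Type u} [CommRing A] [Algebra k A] (S : Subalgebra k A)
    {J : Type u} [Fintype J] (φ ψ : J → (A →ₐ[k] k))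
    (hsep : ∀ i j, ∃ f ∈ S, φ i f ≠ ψ j f) :
    ∃ f ∈ S, (∀ i, φ i f = 1) ∧ (∀ j, ψ j f = 0) := by
  classical
  choose f hfS hf using hsep
  let g : J → J → A := fun i j =>
    (φ i (f i j) - ψ j (f i j))⁻¹ • (f i j - algebraMap k A (ψ j (f i j)))
  have hgS : ∀ i j, g i j ∈ S := fun i j =>
    S.smul_mem (S.sub_mem (hfS i j) (S.algebraMap_mem _)) _
  have hg1 : ∀ i j, φ i (g i j) = 1 := by
    intro i j
    change φ i ((φ i (f i j) - ψ j (f i j))⁻¹ • (f i j - algebraMap k A (ψ j (f i j)))) = 1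
    rw [map_smul, map_sub, AlgHom.commutes, smul_eq_mul]
    exact inv_mul_cancel₀ (sub_ne_zero.mpr (hf i j))
  have hg0 : ∀ i j, ψ j (g i j) = 0 := by
    intro i j
    change ψ j ((φ i (f i j) - ψ j (f i j))⁻¹ • (f i j - algebraMap k A (ψ j (f i j)))) = 0
    rw [map_smul, map_sub, AlgHom.commutes]
    change _ • (ψ j (f i j) - ψ j (f i j)) = 0
    rw [sub_self, smul_zero]
  let G₁ : J → A := fun i => ∏ j, g i j
  have hG₁S : ∀ i, G₁ i ∈ S := fun i => S.prod_mem (fun j _ => hgS i j)
  have hG₁1 : ∀ i, φ i (G₁ i) = 1 := by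
    intro i
    change φ i (∏ j, g i j) = 1
    rw [map_prod]
    exact Finset.prod_eq_one (fun j _ => hg1 i j)
  have hG₁0 : ∀ i j, ψ j (G₁ i) = 0 := by
    intro i j
    change ψ j (∏ j', g i j') = 0
    rw [map_prod]
    exact Finset.prod_eq_zero (Finset.mem_univ j) (hg0 i j)
  refine ⟨1 - ∏ i, (1 - G₁ i), S.sub_mem S.one_mem (S.prod_mem (fun i _ =>
    S.sub_mem S.one_mem (hG₁S i))), ?_, ?_⟩
  · intro i
    rw [map_sub, map_one, map_prod, Finset.prod_eq_zero (Finset.mem_univ i), sub_zero]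
    rw [map_sub, map_one, hG₁1, sub_self]
  · intro j
    rw [map_sub, map_one, map_prod, Finset.prod_eq_one, sub_self]
    intro i _
    rw [map_sub, map_one, hG₁0, sub_zero]

/-- **A subgroup containing an observable subgroup of finite index is observable.** -/
theorem observable_of_open_sub [Smooth G.hom] [Smooth H.hom] (i : H ⟶ G) [IsMonHom i]
    [IsClosedImmersion i.left] (a : L ⟶ H) [IsMonHom a] [IsClosedImmersion a.left]
    [IsOpenImmersion a.left] (hL : AGF.IsObservableIn k (a ≫ i)) :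
    AGF.IsObservableIn k i := by
  classical
  intro g hg
  by_contra hcon
  have hfin := finite_quotient_of_open (k := k) a
  have hft : Fintype ((VecGrp.pt k k ⟶ H) ⧸ ptsSubgroup a) := Fintype.ofFinite _
  have hR : _root_.IsReduced Γ(G.left, ⊤) := isReduced_Γ (k := k)
  -- separation of the two families of cosets
  have hsep : ∀ q q' : (VecGrp.pt k k ⟶ H) ⧸ ptsSubgroup a,
      ∃ f ∈ rinvAlg (a ≫ i), evA (Quotient.out q ≫ i) f ≠ evA (g * (Quotient.out q' ≫ i)) f := by
    intro q q'
    obtain ⟨f, hf, hne⟩ := exists_inv_separating (a ≫ i) hL (Quotient.out q ≫ i)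
      (g * (Quotient.out q' ≫ i)) (by
      rintro ⟨t, ht⟩
      apply hcon
      refine ⟨Quotient.out q * (t ≫ a) * (Quotient.out q')⁻¹, ?_⟩
      rw [MonObj.mul_comp, MonObj.mul_comp, GrpObj.inv_comp, Category.assoc, ht]
      group)
    exact ⟨f, hf, hne⟩
  obtain ⟨f, hfS, hf1, hf0⟩ := exists_interp (rinvAlg (a ≫ i))
    (fun q : (VecGrp.pt k k ⟶ H) ⧸ ptsSubgroup a => evA (Quotient.out q ≫ i))
    (fun q => evA (g * (Quotient.out q ≫ i))) hsep
  have hfinv : AGF.IsRTransInv (a ≫ i) f := hfS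
  -- the norm
  have hFval : ∀ z : VecGrp.pt k k ⟶ G,
      evA z (∏ q : (VecGrp.pt k k ⟶ H) ⧸ ptsSubgroup a, rTr (Quotient.out q ≫ i) f) =
        ∏ q : (VecGrp.pt k k ⟶ H) ⧸ ptsSubgroup a, evA (z * (Quotient.out q ≫ i)) f := by
    intro z
    rw [map_prod]
    exact Finset.prod_congr rfl (fun q _ => (evA_mul_rat z _ f).symm)
  have hFinv : AGF.IsRTransInv i
      (∏ q : (VecGrp.pt k k ⟶ H) ⧸ ptsSubgroup a, rTr (Quotient.out q ≫ i) f) := by
    apply isRTransInv_of_pts
    intro x y
    rw [hFval, hFval, ← Equiv.prod_comp (MulAction.toPerm y :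
      Equiv.Perm ((VecGrp.pt k k ⟶ H) ⧸ ptsSubgroup a))
      (fun q => evA (x * (Quotient.out q ≫ i)) f)]
    refine Finset.prod_congr rfl (fun q _ => ?_)
    rw [MulAction.toPerm_apply]
    have hmk : (QuotientGroup.mk (Quotient.out (y • q)) :
        (VecGrp.pt k k ⟶ H) ⧸ ptsSubgroup a) = QuotientGroup.mk (y * Quotient.out q) := by
      rw [QuotientGroup.out_eq']
      conv_lhs => rw [← QuotientGroup.out_eq' q]
      rfl
    obtain ⟨t, ht⟩ := QuotientGroup.eq.mp hmk
    have h3 : y * Quotient.out q = Quotient.out (y • q) * (t ≫ a) := by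
      rw [ht]; group
    rw [_root_.mul_assoc, ← MonObj.mul_comp, h3, MonObj.mul_comp, ← _root_.mul_assoc,
      Category.assoc]
    exact evA_of_isRTransInv (a ≫ i) f hfinv _ t
  have h1 := (isRTransInv_pt_iff g _).mp (hg _ hFinv)
  have h2 := congrArg (evA (1 : VecGrp.pt k k ⟶ G)) h1
  rw [← evA_mul_rat, _root_.one_mul, hFval, hFval] at h2
  have h3 : ∏ q : (VecGrp.pt k k ⟶ H) ⧸ ptsSubgroup a, evA (g * (Quotient.out q ≫ i)) f = 0 :=
    Finset.prod_eq_zero (Finset.mem_univ (QuotientGroup.mk 1)) (hf0 _)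
  have h4 : ∏ q : (VecGrp.pt k k ⟶ H) ⧸ ptsSubgroup a,
      evA ((1 : VecGrp.pt k k ⟶ G) * (Quotient.out q ≫ i)) f = 1 := by
    apply Finset.prod_eq_one
    intro q _
    rw [_root_.one_mul]
    exact hf1 q
  rw [h3, h4] at h2
  exact zero_ne_one h2

/-- **Subgroups of finite index in an observable subgroup are observable.** -/
theorem observable_open_sub [Smooth G.hom] [Smooth H.hom] [Smooth L.hom] (i : H ⟶ G) [IsMonHom i]
    [IsClosedImmersion i.left] (a : L ⟶ H) [IsMonHom a] [IsClosedImmersion a.left]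
    [IsOpenImmersion a.left] (hH : AGF.IsObservableIn k i) :
    AGF.IsObservableIn k (a ≫ i) := by
  have hcl : IsClosedImmersion (a ≫ i).left := by
    rw [Over.comp_left]
    infer_instance
  apply observable_of_extends (a ≫ i)
  intro V _ _ _ σ
  exact extendsAlong_comp a i σ (extendsAlong_of_open a σ)
    (fun W _ _ _ τ => extendsAlong_of_observable i hH τ)

/-- an open and closed subgroup is observable -/
theorem observable_of_open [Smooth G.hom] [Smooth H.hom] (i : H ⟶ G) [IsMonHom i]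
    [IsClosedImmersion i.left] [IsOpenImmersion i.left] : AGF.IsObservableIn k i :=
  observable_of_extends i (fun V _ _ _ σ => extendsAlong_of_open i σ)

/-- **Observability passes to intermediate groups**: if `L` is observable in `G`, it is
observable in every closed subgroup of `G` containing it. -/
theorem observable_of_comp [Smooth G.hom] [Smooth H.hom] [Smooth L.hom] (i : H ⟶ G) [IsMonHom i]
    (a : L ⟶ H) [IsMonHom a] [IsClosedImmersion a.left] [IsClosedImmersion (a ≫ i).left]
    (hL : AGF.IsObservableIn k (a ≫ i)) : AGF.IsObservableIn k a := by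
  apply observable_of_extends a
  intro V _ _ _ σ
  obtain ⟨W, iW1, iW2, iW3, ρ, φ, hφ, hφe⟩ := extendsAlong_of_observable (a ≫ i) hL σ
  refine ⟨W, iW1, iW2, iW3, Groth.Agent.Lib.T2H7.ObsRed.resGMod i ρ, φ, hφ, ?_⟩
  intro B _ _ h x
  rw [hφe B h x, Groth.Agent.Lib.T2H7.ObsRed.resGMod_apply, Category.assoc]

end Groth.Agent.Lib.T2H7.ObsFinIdx

namespace Groth.Agent.Lib.T2H7.ObsFinIdx

/-- an open subgroup scheme over a field is closed -/
theorem isClosedImmersion_of_isOpenImmersion {k : Type u} [Field k]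
    {G G₀ : Over (Spec (CommRingCat.of k))} [GrpObj G] [GrpObj G₀] (j : G₀ ⟶ G) [IsMonHom j]
    [IsOpenImmersion j.left] : IsClosedImmersion j.left := by
  have hopen : IsOpen (Set.range j.left) := j.left.isOpenEmbedding.isOpen_range
  exact IsClosedImmersion.of_isPreimmersion _
    (Groth.Agent.Lib.Helper25.TopGrp.isClosed_range_of_isLocallyClosed j hopen.isLocallyClosed)

/-- an open subgroup scheme of a smooth group is smooth -/
theorem smooth_of_isOpenImmersion {k : Type u} [Field k]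
    {G G₀ : Over (Spec (CommRingCat.of k))} (j : G₀ ⟶ G) [IsOpenImmersion j.left]
    [Smooth G.hom] : Smooth G₀.hom := by
  rw [← Over.w j]
  infer_instance

end Groth.Agent.Lib.T2H7.ObsFinIdx
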