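import Groth.Agent.Lib.T2H7ObsEpi
import Groth.Agent.Lib.Helper25Points

/-!
# T2H7ObsRed: subgroups with reductive identity component are observable (given the separation
property of quotients by reductive groups)
-/

set_option autoImplicit false
set_option linter.style.haveILetI false
set_option linter.unusedSectionVars false
set_option linter.unusedVariables false
universe u

open CategoryTheory MonoidalCategory CartesianMonoidalCategory MonObj GrpObj AlgebraicGeometry
open scoped TensorProduct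

namespace Groth.Agent.Lib.T2H7.ObsRed

open Groth.Agent.Lib.Helper25 Groth.Agent.Lib.Helper25.DensePts Groth.Agent.Lib.Helper25.SurjPts
open Groth.Agent.Lib.Helper25.GModComod Groth.Agent.Lib.T2H7.ObsPts Groth.Agent.Lib.T2H7.ObsFin
open Groth.Agent.Lib.T2H7.ObsHull Groth.Agent.Lib.T2H7.ObsTFAE Groth.Agent.Lib.T2H7.ObsChar
open Groth.Agent.Lib.T2H7.ObsQuot Groth.Agent.Lib.T2H7.ObsInd Groth.Agent.Lib.T2H7.ObsEpi

variable {k : Type u} [Field k]
  {G : Over (Spec (CommRingCat.of k))} [GrpObj G] [IsAffine G.left]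
  {H : Over (Spec (CommRingCat.of k))} [GrpObj H] [IsAffine H.left]

attribute [local instance] instHopfΓ

section Res

variable {E : Type u} [AddCommGroup E] [Module k E]

/-- composition with a homomorphism, as a monoid homomorphism on points -/
noncomputable def compHom (i : H ⟶ G) [IsMonHom i] (B : Type u) [CommRing B] [Algebra k B] :
    (VecGrp.pt k B ⟶ H) →* (VecGrp.pt k B ⟶ G) where
  toFun h := h ≫ i
  map_one' := MonObj.one_comp i
  map_mul' h h' := MonObj.mul_comp h h' i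

/-- restriction of a module structure along a homomorphism -/
noncomputable def resGMod (i : H ⟶ G) [IsMonHom i] (m : VecGrp.GMod G E) : VecGrp.GMod H E where
  ρ B _ _ := (m.ρ B).comp (compHom i B)
  naturality φ g x := by
    change VecGrp.Wmap φ (m.ρ _ (g ≫ i) x) = m.ρ _ ((VecGrp.ptMap φ ≫ g) ≫ i) (VecGrp.Wmap φ x)
    rw [Category.assoc]
    exact m.naturality φ _ x

theorem resGMod_apply (i : H ⟶ G) [IsMonHom i] (m : VecGrp.GMod G E) (B : Type u) [CommRing B]
    [Algebra k B] (h : VecGrp.pt k B ⟶ H) (x : VecGrp.W k E B) :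
    (resGMod i m).ρ B h x = m.ρ B (h ≫ i) x := rfl

end Res

section Mult

/-- the translation homomorphism of a point -/
noncomputable def trAlg {B : Type u} [CommRing B] [Algebra k B] (g : VecGrp.pt k B ⟶ G) :
    Γ(G.left, ⊤) →ₐ[k] B ⊗[k] Γ(G.left, ⊤) :=
  ((Algebra.TensorProduct.comm k Γ(G.left, ⊤) B).toAlgHom.comp
    (Algebra.TensorProduct.map (AlgHom.id k Γ(G.left, ⊤)) (evA g))).comp
    (Bialgebra.comulAlgHom k Γ(G.left, ⊤))

theorem lTensor_eq_map' {B : Type u} [CommRing B] [Algebra k B] (φ : Γ(G.left, ⊤) →ₐ[k] B)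
    (w : Γ(G.left, ⊤) ⊗[k] Γ(G.left, ⊤)) :
    φ.toLinearMap.lTensor Γ(G.left, ⊤) w =
      Algebra.TensorProduct.map (AlgHom.id k Γ(G.left, ⊤)) φ w := by
  induction w using TensorProduct.induction_on with
  | zero => simp
  | add x y hx hy => simp only [map_add, hx, hy]
  | tmul a b => rfl

theorem regGMod_one_tmul {B : Type u} [CommRing B] [Algebra k B] (g : VecGrp.pt k B ⟶ G)
    (f : Γ(G.left, ⊤)) :
    (regGMod (G := G)).ρ B g ((1 : B) ⊗ₜ[k] f) = trAlg g f := by
  rw [regGMod, gmodOfCoact_one_tmul, lTensor_eq_map']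
  rfl

/-- the action of a point in the regular representation, as an algebra homomorphism -/
noncomputable def trAlgB {B : Type u} [CommRing B] [Algebra k B] (g : VecGrp.pt k B ⟶ G) :
    B ⊗[k] Γ(G.left, ⊤) →ₐ[B] B ⊗[k] Γ(G.left, ⊤) :=
  Algebra.TensorProduct.lift (Algebra.ofId B (B ⊗[k] Γ(G.left, ⊤))) (trAlg g)
    (fun _ _ => Commute.all _ _)

theorem regGMod_eq_trAlgB {B : Type u} [CommRing B] [Algebra k B] (g : VecGrp.pt k B ⟶ G)
    (x : B ⊗[k] Γ(G.left, ⊤)) : (regGMod (G := G)).ρ B g x = trAlgB g x := by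
  have h : ((regGMod (G := G)).ρ B g).toLinearMap = (trAlgB g).toLinearMap := by
    apply ext_one_tmul
    intro f
    change (regGMod (G := G)).ρ B g ((1 : B) ⊗ₜ[k] f) = trAlgB g ((1 : B) ⊗ₜ[k] f)
    rw [regGMod_one_tmul, trAlgB, Algebra.TensorProduct.lift_tmul, map_one, _root_.one_mul]
  exact congrArg (fun t : B ⊗[k] Γ(G.left, ⊤) →ₗ[B] B ⊗[k] Γ(G.left, ⊤) => t x) h

theorem isMult_regGMod : (regGMod (G := G)).IsMult := by
  intro B _ _ g
  constructor
  · intro x y
    rw [regGMod_eq_trAlgB, regGMod_eq_trAlgB, regGMod_eq_trAlgB, map_mul]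
  · rw [regGMod_eq_trAlgB, map_one]

theorem isMult_resGMod {A : Type u} [CommRing A] [Algebra k A] (i : H ⟶ G) [IsMonHom i]
    (m : VecGrp.GMod G A) (hm : m.IsMult) : (resGMod i m).IsMult :=
  fun B _ _ h => hm B (h ≫ i)

end Mult

section Coset

/-- the universal point of an affine group -/
noncomputable def univPt (H : Over (Spec (CommRingCat.of k))) [GrpObj H] [IsAffine H.left] :
    VecGrp.pt k Γ(H.left, ⊤) ⟶ H := ptA (AlgHom.id k Γ(H.left, ⊤))

theorem evA_univPt : evA (univPt H) = AlgHom.id k Γ(H.left, ⊤) := evA_ptA _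

theorem ptMap_comp_univPt {C : Type u} [CommRing C] [Algebra k C] (y : VecGrp.pt k C ⟶ H) :
    VecGrp.ptMap (evA y) ≫ univPt H = y := by
  apply evA_injective
  rw [evA_ptMap_comp, evA_univPt, AlgHom.comp_id]

/-- the structure point of a test algebra -/
noncomputable def cst (C : Type u) [CommRing C] [Algebra k C] : VecGrp.pt k C ⟶ VecGrp.pt k k :=
  VecGrp.ptMap (Algebra.ofId k C)

theorem ptMap_comp_cst {C C' : Type u} [CommRing C] [Algebra k C] [CommRing C'] [Algebra k C']
    (φ : C →ₐ[k] C') : VecGrp.ptMap φ ≫ cst (k := k) C = cst C' :=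
  eq_ptMap_ofId _

/-- the generic point of the coset `g H` -/
noncomputable def cosetPt (i : H ⟶ G) (g : VecGrp.pt k k ⟶ G) : VecGrp.pt k Γ(H.left, ⊤) ⟶ G :=
  (cst Γ(H.left, ⊤) ≫ g) * (univPt H ≫ i)

/-- the ideal of functions vanishing on the coset `g H` -/
noncomputable def cosetIdeal (i : H ⟶ G) (g : VecGrp.pt k k ⟶ G) : Ideal Γ(G.left, ⊤) :=
  RingHom.ker (evA (cosetPt i g))

theorem mem_cosetIdeal (i : H ⟶ G) (g : VecGrp.pt k k ⟶ G) (f : Γ(G.left, ⊤)) :
    f ∈ cosetIdeal i g ↔ evA (cosetPt i g) f = 0 := Iff.rfl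

theorem isRadical_cosetIdeal [_root_.IsReduced Γ(H.left, ⊤)] (i : H ⟶ G)
    (g : VecGrp.pt k k ⟶ G) : (cosetIdeal i g).IsRadical := by
  intro f hf
  obtain ⟨n, hn⟩ := hf
  rw [mem_cosetIdeal] at hn ⊢
  rw [map_pow] at hn
  exact IsNilpotent.eq_zero ⟨n, hn⟩

/-- points of the coset `g H` are specialisations of its generic point -/
theorem ptMap_comp_cosetPt (i : H ⟶ G) [IsMonHom i] (g : VecGrp.pt k k ⟶ G)
    {C : Type u} [CommRing C] [Algebra k C] (y : VecGrp.pt k C ⟶ H) :
    VecGrp.ptMap (evA y) ≫ cosetPt i g = (cst C ≫ g) * (y ≫ i) := by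
  rw [cosetPt, MonObj.comp_mul, ← Category.assoc, ptMap_comp_cst, ← Category.assoc,
    ptMap_comp_univPt]

/-- the coset is stable under right translation by the subgroup -/
theorem cosetPt_absorb (i : H ⟶ G) [IsMonHom i] (g : VecGrp.pt k k ⟶ G)
    {C : Type u} [CommRing C] [Algebra k C] (φ : Γ(H.left, ⊤) →ₐ[k] C) (y : VecGrp.pt k C ⟶ H) :
    (VecGrp.ptMap φ ≫ cosetPt i g) * (y ≫ i) =
      VecGrp.ptMap (evA ((VecGrp.ptMap φ ≫ univPt H) * y)) ≫ cosetPt i g := by
  rw [ptMap_comp_cosetPt, MonObj.mul_comp, ← _root_.mul_assoc]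
  congr 1
  rw [cosetPt, MonObj.comp_mul, ← Category.assoc, ptMap_comp_cst, Category.assoc]

theorem evA_eq_zero_of_mem_cosetIdeal (i : H ⟶ G) [IsMonHom i] (g : VecGrp.pt k k ⟶ G)
    {f : Γ(G.left, ⊤)} (hf : f ∈ cosetIdeal i g) {C : Type u} [CommRing C] [Algebra k C]
    (y : VecGrp.pt k C ⟶ H) : evA ((cst C ≫ g) * (y ≫ i)) f = 0 := by
  rw [← ptMap_comp_cosetPt, evA_ptMap_comp, AlgHom.comp_apply, (mem_cosetIdeal i g f).mp hf,
    map_zero]

theorem cst_self : cst (k := k) k = 𝟙 _ := (eq_ptMap_ofId (𝟙 _)).symm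

/-- functions in the ideal of the coset `g H` vanish at `g` -/
theorem evA_self_eq_zero (i : H ⟶ G) [IsMonHom i] (g : VecGrp.pt k k ⟶ G)
    {f : Γ(G.left, ⊤)} (hf : f ∈ cosetIdeal i g) : evA g f = 0 := by
  have h := evA_eq_zero_of_mem_cosetIdeal i g hf (1 : VecGrp.pt k k ⟶ H)
  rw [MonObj.one_comp, _root_.mul_one, cst_self, Category.id_comp] at h
  exact h

end Coset

section Factor

/-- a point killing the kernel of the restriction lies in the subgroup -/
theorem exists_factor_of_ker (i : H ⟶ G) [IsMonHom i] [IsClosedImmersion i.left]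
    {B : Type u} [CommRing B] [Algebra k B] (z : VecGrp.pt k B ⟶ G)
    (hker : ∀ a : Γ(G.left, ⊤), resHom i a = 0 → evA z a = 0) :
    ∃ h : VecGrp.pt k B ⟶ H, h ≫ i = z := by
  have hker' : ∀ a ∈ RingHom.ker (resHom i : Γ(G.left, ⊤) →ₐ[k] Γ(H.left, ⊤)), evA z a = 0 :=
    fun a ha => hker a ha
  let ψ : Γ(H.left, ⊤) →ₐ[k] B :=
    (Ideal.Quotient.liftₐ (RingHom.ker (resHom i : Γ(G.left, ⊤) →ₐ[k] Γ(H.left, ⊤)))
      (evA z) hker').comp
      (Ideal.quotientKerAlgEquivOfSurjective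
        (f := (resHom i : Γ(G.left, ⊤) →ₐ[k] Γ(H.left, ⊤))) (resHom_surjective i)).symm.toAlgHom
  have hψ : ψ.comp (resHom i : Γ(G.left, ⊤) →ₐ[k] Γ(H.left, ⊤)) = evA z := by
    ext a
    change (Ideal.Quotient.liftₐ _ (evA z) hker') ((Ideal.quotientKerAlgEquivOfSurjective
      (f := (resHom i : Γ(G.left, ⊤) →ₐ[k] Γ(H.left, ⊤))) (resHom_surjective i)).symm
      ((resHom i : Γ(G.left, ⊤) →ₐ[k] Γ(H.left, ⊤)) a)) = _
    have h3 : (Ideal.quotientKerAlgEquivOfSurjective
      (f := (resHom i : Γ(G.left, ⊤) →ₐ[k] Γ(H.left, ⊤))) (resHom_surjective i)).symm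
      ((resHom i : Γ(G.left, ⊤) →ₐ[k] Γ(H.left, ⊤)) a) = Ideal.Quotient.mk _ a := by
      rw [AlgEquiv.symm_apply_eq]
      rfl
    rw [h3]
    rfl
  refine ⟨ptA ψ, ?_⟩
  apply evA_injective
  rw [evA_comp_hom, evA_ptA, hψ]

end Factor

section Stable

theorem mem_baseChange_ker {R C : Type u} [CommRing R] [Algebra k R] [CommRing C] [Algebra k C]
    (B : Type u) [CommRing B] [Algebra k B] (ψ : R →ₐ[k] C) (x : B ⊗[k] R)
    (hx : ψ.toLinearMap.lTensor B x = 0) :
    x ∈ Submodule.baseChange B ((RingHom.ker ψ).restrictScalars k) := by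
  have hexact : Function.Exact ((RingHom.ker ψ).restrictScalars k).subtype ψ.toLinearMap := by
    intro y
    constructor
    · intro hy
      exact ⟨⟨y, hy⟩, rfl⟩
    · rintro ⟨w, rfl⟩
      exact w.2
  obtain ⟨w, hw⟩ := (Module.Flat.lTensor_exact B hexact x).mp hx
  refine ⟨w, ?_⟩
  rw [← hw]
  exact congrFun (LinearMap.baseChange_eq_ltensor _) w

theorem lTensor_trAlg {C : Type u} [CommRing C] [Algebra k C] {B : Type u} [CommRing B]
    [Algebra k B] (α : Γ(G.left, ⊤) →ₐ[k] C) (z : VecGrp.pt k B ⟶ G) (f : Γ(G.left, ⊤)) :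
    α.toLinearMap.lTensor B (trAlg z f) =
      pm ((Algebra.TensorProduct.includeRight : C →ₐ[k] B ⊗[k] C).comp α)
        ((Algebra.TensorProduct.includeLeft : B →ₐ[k] B ⊗[k] C).comp (evA z))
        (CoalgebraStruct.comul (R := k) f) := by
  change α.toLinearMap.lTensor B ((Algebra.TensorProduct.comm k Γ(G.left, ⊤) B)
    (Algebra.TensorProduct.map (AlgHom.id k Γ(G.left, ⊤)) (evA z)
      (CoalgebraStruct.comul (R := k) f))) = _
  generalize CoalgebraStruct.comul (R := k) f = w
  induction w using TensorProduct.induction_on with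
  | zero => simp
  | add x y hx hy => simp only [map_add, hx, hy]
  | tmul a b =>
    rw [Algebra.TensorProduct.map_tmul, Algebra.TensorProduct.comm_tmul, LinearMap.lTensor_tmul,
      pm_tmul]
    simp only [AlgHom.comp_apply, Algebra.TensorProduct.includeRight_apply,
      Algebra.TensorProduct.includeLeft_apply, Algebra.TensorProduct.tmul_mul_tmul,
      _root_.one_mul, _root_.mul_one, AlgHom.toLinearMap_apply, AlgHom.coe_id, id_eq]

/-- the ideal of a coset is stable under right translation by the subgroup -/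
theorem isStable_cosetIdeal (i : H ⟶ G) [IsMonHom i] (g : VecGrp.pt k k ⟶ G) :
    (resGMod i (regGMod (G := G))).IsStable (𝟙 H) ((cosetIdeal i g).restrictScalars k) := by
  intro B _ _ h f hf
  rw [Category.comp_id, resGMod_apply, regGMod_one_tmul]
  apply mem_baseChange_ker
  rw [lTensor_trAlg, ← evA_ptMap_comp, ← evA_ptMap_comp, ← evA_mul_apply, ← Category.assoc,
    cosetPt_absorb, evA_ptMap_comp, AlgHom.comp_apply]
  have h0 : evA (cosetPt i g) f = 0 := hf
  rw [h0, map_zero]

end Stable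

section Main

/-- a rational point killing the ideal of the coset `g H` lies in that coset -/
theorem exists_of_kills_cosetIdeal (i : H ⟶ G) [IsMonHom i] [IsClosedImmersion i.left]
    (g x : VecGrp.pt k k ⟶ G) (hx : ∀ f ∈ cosetIdeal i g, evA x f = 0) :
    ∃ y : VecGrp.pt k k ⟶ H, x = g * (y ≫ i) := by
  obtain ⟨y, hy⟩ := exists_factor_of_ker i (g⁻¹ * x) (by
    intro a ha
    rw [evA_mul_rat']
    apply hx
    rw [mem_cosetIdeal, ← evA_pt_mul g⁻¹ (cosetPt i g) (cst Γ(H.left, ⊤)), cosetPt,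
      GrpObj.comp_inv, inv_mul_cancel_left, evA_comp_hom, evA_univPt]
    exact ha)
  exact ⟨y, by rw [hy, mul_inv_cancel_left]⟩

/-- a fixed vector of the regular representation restricted to the subgroup is invariant under
right translation by the subgroup -/
theorem isRTransInv_of_fixed (i : H ⟶ G) [IsMonHom i] (f : Γ(G.left, ⊤))
    (hf : ∀ (B : Type u) [CommRing B] [Algebra k B] (h : VecGrp.pt k B ⟶ H),
      (regGMod (G := G)).ρ B (h ≫ i) ((1 : B) ⊗ₜ[k] f) = (1 : B) ⊗ₜ[k] f) :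
    AGF.IsRTransInv i f := by
  apply isRTransInv_of_evA
  intro B _ _ x y
  have h1 := hf B y
  rw [regGMod_one_tmul] at h1
  have h2 := congrArg ((evA x).toLinearMap.lTensor B) h1
  rw [lTensor_trAlg, LinearMap.lTensor_tmul] at h2
  have h3 := congrArg (Algebra.TensorProduct.lmul' k (S := B)) h2
  rw [evA_mul_apply]
  have h4 : ∀ w : Γ(G.left, ⊤) ⊗[k] Γ(G.left, ⊤),
      Algebra.TensorProduct.lmul' k (S := B)
        (pm ((Algebra.TensorProduct.includeRight : B →ₐ[k] B ⊗[k] B).comp (evA x))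
          ((Algebra.TensorProduct.includeLeft : B →ₐ[k] B ⊗[k] B).comp (evA (y ≫ i))) w) =
      pm (evA x) (evA (y ≫ i)) w := by
    intro w
    induction w using TensorProduct.induction_on with
    | zero => simp
    | add a b ha hb => simp only [map_add, ha, hb]
    | tmul a b =>
      simp only [pm_tmul, AlgHom.comp_apply, Algebra.TensorProduct.includeRight_apply,
        Algebra.TensorProduct.includeLeft_apply, Algebra.TensorProduct.tmul_mul_tmul,
        _root_.one_mul, _root_.mul_one, Algebra.TensorProduct.lmul'_apply_tmul]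
      exact mul_comm _ _
  rw [h4] at h3
  rw [h3]
  simp

/-- a subgroup with reductive identity component is observable, given that quotients by such groups
separate disjoint closed invariant subsets -/
theorem observable_of_separates [IsAlgClosed k] [Smooth G.hom] [Smooth H.hom] (i : H ⟶ G)
    [IsMonHom i] [IsClosedImmersion i.left] (hH : VecGrp.IsReductiveGrp k H)
    (thm : AGF.ReductiveQuotSeparates k) : AGF.IsObservableIn k i := by
  intro g hg
  by_contra hne
  have : _root_.IsReduced Γ(G.left, ⊤) := isReduced_Γ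
  have : _root_.IsReduced Γ(H.left, ⊤) := isReduced_Γ
  have hft : Algebra.FiniteType k Γ(G.left, ⊤) := finiteType_Γ
  have hsum : cosetIdeal i (1 : VecGrp.pt k k ⟶ G) ⊔ cosetIdeal i g = ⊤ := by
    by_contra hcon
    obtain ⟨x, hx⟩ := exists_point_vanishing_on (k := k) _ hcon
    have hx' : ∀ f ∈ cosetIdeal i (1 : VecGrp.pt k k ⟶ G) ⊔ cosetIdeal i g,
        evA (ptA x) f = 0 := by
      intro f hf
      rw [evA_ptA]
      exact hx f hf
    obtain ⟨y₁, hy₁⟩ := exists_of_kills_cosetIdeal i 1 (ptA x)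
      (fun f hf => hx' f (Ideal.mem_sup_left hf))
    obtain ⟨y₂, hy₂⟩ := exists_of_kills_cosetIdeal i g (ptA x)
      (fun f hf => hx' f (Ideal.mem_sup_right hf))
    apply hne
    refine ⟨y₁ * y₂⁻¹, ?_⟩
    rw [MonObj.mul_comp, GrpObj.inv_comp, ← _root_.one_mul (y₁ ≫ i), ← hy₁, hy₂,
      mul_inv_cancel_right]
  have hsep := thm H hH Γ(G.left, ⊤) (resGMod i (regGMod (G := G)))
    (isMult_resGMod i _ isMult_regGMod) hft _ _ (isRadical_cosetIdeal i 1)
    (isRadical_cosetIdeal i g) (isStable_cosetIdeal i 1) (isStable_cosetIdeal i g) hsum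
  have h1 : (1 : ↥((resGMod i (regGMod (G := G))).fixedSubalgebra
      (isMult_resGMod i _ isMult_regGMod) (𝟙 H))) ∈
      (cosetIdeal i (1 : VecGrp.pt k k ⟶ G)).comap
        ((resGMod i (regGMod (G := G))).fixedSubalgebra
          (isMult_resGMod i _ isMult_regGMod) (𝟙 H)).val ⊔
      (cosetIdeal i g).comap
        ((resGMod i (regGMod (G := G))).fixedSubalgebra
          (isMult_resGMod i _ isMult_regGMod) (𝟙 H)).val := by
    rw [hsep]
    trivial
  obtain ⟨a₁, ha₁, a₂, ha₂, h12⟩ := Submodule.mem_sup.mp h1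
  have hinv : AGF.IsRTransInv i (a₁ : Γ(G.left, ⊤)) := by
    apply isRTransInv_of_fixed
    intro B _ _ h
    have := a₁.2 B h
    rw [Category.comp_id] at this
    exact this
  have hg1 := (isRTransInv_pt_iff g _).mp (hg _ hinv)
  have e1 : evA g (a₁ : Γ(G.left, ⊤)) = 0 := by
    have h5 := evA_mul_rat (1 : VecGrp.pt k k ⟶ G) g (a₁ : Γ(G.left, ⊤))
    rw [_root_.one_mul, hg1] at h5
    rw [h5]
    exact evA_self_eq_zero i 1 ha₁
  have e2 : evA g (a₂ : Γ(G.left, ⊤)) = 0 := evA_self_eq_zero i g ha₂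
  have h6 := congrArg Subtype.val h12
  have h7 := congrArg (evA g) h6
  simp only [Subalgebra.coe_add, map_add, e1, e2, Subalgebra.coe_one, map_one, add_zero] at h7
  exact zero_ne_one h7

end Main

end Groth.Agent.Lib.T2H7.ObsRed
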