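import Mathlib
import Groth.Agent.Lib.Helper25TensorDomain

set_option autoImplicit false
set_option linter.unusedSectionVars false
set_option linter.unusedVariables false
set_option linter.style.haveILetI false

namespace Groth.Agent.Lib.T2H7.RosUnit

universe u
open TensorProduct

section coords
variable {k : Type u} [Field k] {A : Type u} [CommRing A] [Algebra k A]
variable {ι : Type u} (b : Module.Basis ι k A)

/-- coordinates of an element of `L ⊗[k] A` with respect to the basis `1 ⊗ b i`. -/
noncomputable def co (L : Type u) [CommRing L] [Algebra k L] (x : L ⊗[k] A) : ι →₀ L :=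
  (Algebra.TensorProduct.basis L b).repr x

lemma co_map {L L' : Type u} [CommRing L] [Algebra k L] [CommRing L'] [Algebra k L']
    (φ : L →ₐ[k] L') (x : L ⊗[k] A) (i : ι) :
    co b L' (Algebra.TensorProduct.map φ (AlgHom.id k A) x) i = φ (co b L x i) := by
  induction x using TensorProduct.induction_on with
  | zero => simp [co]
  | tmul l a =>
    simp only [co, Algebra.TensorProduct.map_tmul, AlgHom.coe_id, id_eq,
      Algebra.TensorProduct.basis_repr_tmul, Finsupp.smul_apply, Finsupp.mapRange_apply,
      smul_eq_mul, map_mul, AlgHom.commutes]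
  | add x y hx hy =>
    simp only [co, map_add, Finsupp.add_apply] at hx hy ⊢
    rw [hx, hy]

lemma co_smul (L : Type u) [CommRing L] [Algebra k L] (l : L) (x : L ⊗[k] A) (i : ι) :
    co b L (l • x) i = l * co b L x i := by
  simp [co]

lemma co_injective (L : Type u) [CommRing L] [Algebra k L] {x y : L ⊗[k] A}
    (h : ∀ i, co b L x i = co b L y i) : x = y := by
  apply (Algebra.TensorProduct.basis L b).repr.injective
  ext i
  exact h i

variable (ev : A →ₐ[k] k)

/-- the evaluation `L ⊗ A → L` induced by a `k`-point of `A`. -/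
noncomputable def eps (L : Type u) [CommRing L] [Algebra k L] : L ⊗[k] A →ₐ[L] L :=
  Algebra.TensorProduct.lift (AlgHom.id L L) ((Algebra.ofId k L).comp ev)
    (fun _ _ => Commute.all _ _)

lemma eps_tmul (L : Type u) [CommRing L] [Algebra k L] (l : L) (a : A) :
    eps ev L (l ⊗ₜ a) = l * algebraMap k L (ev a) := by
  simp [eps, Algebra.ofId_apply]

lemma eps_map {L L' : Type u} [CommRing L] [Algebra k L] [CommRing L'] [Algebra k L']
    (φ : L →ₐ[k] L') (x : L ⊗[k] A) :
    eps ev L' (Algebra.TensorProduct.map φ (AlgHom.id k A) x) = φ (eps ev L x) := by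
  induction x using TensorProduct.induction_on with
  | zero => simp
  | tmul l a => simp [eps_tmul]
  | add x y hx hy => simp only [map_add, hx, hy]

end coords

section main
variable {k : Type u} [Field k] [IsAlgClosed k] {A : Type u} [CommRing A] [Algebra k A] [IsDomain A]
variable {ι : Type u} (b : Module.Basis ι k A) (ev : A →ₐ[k] k)

/-- scaling an element of `K ⊗ A` into `V ⊗ A` with a unit coordinate. -/
lemma exists_scale {K : Type u} [Field K] [Algebra k K] (V : ValuationSubring K)
    [Algebra k V] (jV : V →ₐ[k] K) (hjV : ∀ x : V, jV x = (x : K))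
    (U : K ⊗[k] A) (hU : U ≠ 0) :
    ∃ (lam : K) (U' : V ⊗[k] A) (i₀ : ι), lam ≠ 0 ∧
      Algebra.TensorProduct.map jV (AlgHom.id k A) U' = lam • U ∧ co b V U' i₀ = 1 := by
  classical
  set c := co b K U with hc
  have hc0 : c ≠ 0 := by
    intro h0
    apply hU
    apply (Algebra.TensorProduct.basis K b).repr.injective
    rw [map_zero]
    exact h0
  obtain ⟨i₀, hi₀, hmax⟩ := Finset.exists_max_image c.support (fun i => V.valuation (c i))
    (Finsupp.support_nonempty_iff.mpr hc0)
  have hci₀ : c i₀ ≠ 0 := Finsupp.mem_support_iff.mp hi₀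
  have hmax' : ∀ i, V.valuation (c i) ≤ V.valuation (c i₀) := by
    intro i
    by_cases hi : i ∈ c.support
    · exact hmax i hi
    · rw [Finsupp.notMem_support_iff.mp hi, map_zero]
      exact zero_le
  have hmem : ∀ i, (c i₀)⁻¹ * c i ∈ V := by
    intro i
    rw [← V.valuation_le_one_iff, map_mul, map_inv₀]
    exact inv_mul_le_one_of_le₀ (hmax' i) zero_le
  let cV : ι →₀ V := Finsupp.onFinset c.support (fun i => ⟨(c i₀)⁻¹ * c i, hmem i⟩) (by
    intro i hi
    rw [Finsupp.mem_support_iff]
    intro h0
    apply hi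
    apply Subtype.ext
    simp [h0])
  refine ⟨(c i₀)⁻¹, (Algebra.TensorProduct.basis V b).repr.symm cV, i₀, inv_ne_zero hci₀, ?_, ?_⟩
  · apply co_injective b K
    intro i
    rw [co_map, co_smul, hjV]
    simp only [co, LinearEquiv.apply_symm_apply]
    rfl
  · simp only [co, LinearEquiv.apply_symm_apply]
    apply Subtype.ext
    change (c i₀)⁻¹ * c i₀ = 1
    exact inv_mul_cancel₀ hci₀

/-- Gauss-lemma type statement: coordinates of a normalised unit lie in every valuation ring
containing the constants. -/
theorem co_mem_valuationSubring {K : Type u} [Field K] [Algebra k K] (V : ValuationSubring K)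
    (hV : ∀ c : k, algebraMap k K c ∈ V)
    (U W : K ⊗[k] A) (hUW : U * W = 1) (hU : eps ev K U = 1) (i : ι) : co b K U i ∈ V := by
  classical
  letI : Algebra k V := ((algebraMap k K).codRestrict V.toSubring hV).toAlgebra
  let jV : V →ₐ[k] K := { V.subtype with commutes' := fun c => rfl }
  have hjV : ∀ x : V, jV x = (x : K) := fun x => rfl
  let κ := IsLocalRing.ResidueField V
  let res : V →ₐ[k] κ := IsScalarTower.toAlgHom k V κ
  have hres : ∀ x : V, res x = IsLocalRing.residue V x := fun x => rfl
  haveI hdom : IsDomain (κ ⊗[k] A) :=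
    Groth.Agent.Lib.Helper25.TensorDomain.isDomain_tensorProduct
  set J := Algebra.TensorProduct.map jV (AlgHom.id k A) with hJ
  set Rd := Algebra.TensorProduct.map res (AlgHom.id k A) with hRd
  have hJinj : Function.Injective J := by
    intro x y hxy
    apply co_injective b V
    intro i
    have h1 := co_map b jV x i
    have h2 := co_map b jV y i
    rw [← hJ, hxy] at h1
    rw [← hJ, h1] at h2
    exact Subtype.ext (by simpa [hjV] using h2)
  haveI : Nontrivial (K ⊗[k] A) := (eps ev K).toRingHom.domain_nontrivial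
  have hU0 : U ≠ 0 := by
    rintro rfl
    rw [zero_mul] at hUW
    exact zero_ne_one hUW
  have hW0 : W ≠ 0 := by
    rintro rfl
    rw [mul_zero] at hUW
    exact zero_ne_one hUW
  have hW : eps ev K W = 1 := by
    have := congrArg (eps ev K) hUW
    rwa [map_mul, hU, one_mul, map_one] at this
  obtain ⟨lam, U', i₀, hlam, hU', hi₀⟩ := exists_scale b V jV hjV U hU0
  obtain ⟨lam', W', j₀, hlam', hW', hj₀⟩ := exists_scale b V jV hjV W hW0
  -- reductions are nonzero
  have hRU : Rd U' ≠ 0 := by
    intro h0
    have := co_map b res U' i₀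
    rw [← hRd, h0, hi₀, map_one] at this
    simp [co] at this
  have hRW : Rd W' ≠ 0 := by
    intro h0
    have := co_map b res W' j₀
    rw [← hRd, h0, hj₀, map_one] at this
    simp [co] at this
  have hprod : J (U' * W') = (lam * lam') • (1 : K ⊗[k] A) := by
    rw [map_mul, hJ, hU', hW', smul_mul_smul_comm, hUW]
  -- a non-unit `x` of `V` cannot satisfy `x • P = 1` ...
  have key1 : ∀ x : V, (x : K) = lam * lam' → IsUnit x := by
    intro x hx
    by_contra hnu
    have hx0 : res x = 0 := by
      rw [hres]
      exact (IsLocalRing.residue_eq_zero_iff x).mpr ((IsLocalRing.mem_maximalIdeal x).mpr hnu)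
    have h1 : U' * W' = x ⊗ₜ[k] (1 : A) := by
      apply hJinj
      rw [hprod, hJ, Algebra.TensorProduct.map_tmul, hjV, hx, map_one,
        Algebra.TensorProduct.one_def, TensorProduct.smul_tmul', smul_eq_mul, mul_one]
    have h2 := congrArg Rd h1
    rw [map_mul, hRd, Algebra.TensorProduct.map_tmul, hx0, TensorProduct.zero_tmul] at h2
    rcases mul_eq_zero.mp h2 with h3 | h3
    · exact hRU h3
    · exact hRW h3
  have key2 : ∀ x : V, (x : K) = (lam * lam')⁻¹ → IsUnit x := by
    intro x hx
    by_contra hnu
    have hx0 : res x = 0 := by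
      rw [hres]
      exact (IsLocalRing.residue_eq_zero_iff x).mpr ((IsLocalRing.mem_maximalIdeal x).mpr hnu)
    have h1 : (x ⊗ₜ[k] (1 : A)) * (U' * W') = 1 := by
      apply hJinj
      rw [map_mul, hprod, hJ, Algebra.TensorProduct.map_tmul, hjV, hx, map_one, map_one,
        Algebra.TensorProduct.one_def, TensorProduct.smul_tmul', smul_eq_mul, mul_one,
        Algebra.TensorProduct.tmul_mul_tmul, mul_one,
        inv_mul_cancel₀ (mul_ne_zero hlam hlam')]
    have h2 := congrArg Rd h1
    rw [map_mul, hRd, Algebra.TensorProduct.map_tmul, hx0, TensorProduct.zero_tmul, zero_mul,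
      map_one] at h2
    exact zero_ne_one h2
  have hρ : lam * lam' ∈ V ∧ (lam * lam')⁻¹ ∈ V := by
    rcases V.mem_or_inv_mem (lam * lam') with h | h
    · refine ⟨h, ?_⟩
      obtain ⟨y, hy⟩ := (key1 ⟨_, h⟩ rfl).exists_right_inv
      have : (lam * lam')⁻¹ = (y : K) := by
        have h3 : (lam * lam') * (y : K) = 1 := congrArg Subtype.val hy
        exact (eq_inv_of_mul_eq_one_right h3).symm ▸ rfl
      rw [this]
      exact y.2
    · refine ⟨?_, h⟩
      obtain ⟨y, hy⟩ := (key2 ⟨_, h⟩ rfl).exists_right_inv
      have h3 : (lam * lam')⁻¹ * (y : K) = 1 := congrArg Subtype.val hy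
      have : lam * lam' = (y : K) := by
        field_simp at h3
        exact h3.symm
      rw [this]
      exact y.2
  -- `lam` and `lam'` lie in `V`
  have hlamV : lam ∈ V := by
    have h1 := eps_map ev jV U'
    rw [← hJ, hU', map_smul, hU, smul_eq_mul, mul_one, hjV] at h1
    rw [h1]
    exact (eps ev V U').2
  have hlamV' : lam' ∈ V := by
    have h1 := eps_map ev jV W'
    rw [← hJ, hW', map_smul, hW, smul_eq_mul, mul_one, hjV] at h1
    rw [h1]
    exact (eps ev V W').2
  have hinv : lam⁻¹ ∈ V := by
    have : lam⁻¹ = lam' * (lam * lam')⁻¹ := by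
      field_simp
    rw [this]
    exact V.mul_mem _ _ hlamV' hρ.2
  have hci : lam * co b K U i ∈ V := by
    have h1 := co_map b jV U' i
    rw [← hJ, hU', co_smul, hjV] at h1
    rw [h1]
    exact (co b V U' i).2
  have : co b K U i = lam⁻¹ * (lam * co b K U i) := by
    field_simp
  rw [this]
  exact V.mul_mem _ _ hinv hci


/-- the image of an algebraically closed field in a field extension is integrally closed. -/
lemma mem_range_of_forall_valuationSubring {K : Type u} [Field K] [Algebra k K] (x : K)
    (h : ∀ V : ValuationSubring K, (∀ c : k, algebraMap k K c ∈ V) → x ∈ V) :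
    x ∈ (algebraMap k K).range := by
  by_contra hx
  haveI : IsIntegrallyClosedIn (algebraMap k K).range K := by
    rw [Subring.isIntegrallyClosedIn_iff]
    intro y hy
    obtain ⟨p, hp, hpy⟩ := hy
    obtain ⟨q, hq⟩ := Polynomial.map_surjective (algebraMap k K).rangeRestrict
      (algebraMap k K).rangeRestrict_surjective p
    have hinj : Function.Injective (algebraMap k K).rangeRestrict :=
      (algebraMap k K).rangeRestrict.injective
    have hqm : q.Monic := Polynomial.monic_of_injective hinj (hq ▸ hp)
    have hyint : IsIntegral k y := by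
      refine ⟨q, hqm, ?_⟩
      rw [← hq, Polynomial.eval₂_map] at hpy
      exact hpy
    have hdeg := IsAlgClosed.degree_eq_one_of_irreducible k (minpoly.irreducible hyint)
    exact minpoly.mem_range_of_degree_eq_one k y hdeg
  obtain ⟨V, hV, hxV⟩ := Subring.exists_le_valuationSubring_of_isIntegrallyClosedIn hx
  exact hxV (h V fun c => hV ⟨c, rfl⟩)

theorem co_mem_range {B : Type u} [CommRing B] [IsDomain B] [Algebra k B]
    (U W : B ⊗[k] A) (hUW : U * W = 1) (hU : eps ev B U = 1) (i : ι) :
    co b B U i ∈ Set.range (algebraMap k B) := by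
  let K := FractionRing B
  let φ : B →ₐ[k] K := IsScalarTower.toAlgHom k B K
  have hφ : Function.Injective φ := IsFractionRing.injective B K
  set U' := Algebra.TensorProduct.map φ (AlgHom.id k A) U with hU'
  set W' := Algebra.TensorProduct.map φ (AlgHom.id k A) W with hW'
  have hUW' : U' * W' = 1 := by rw [hU', hW', ← map_mul, hUW, map_one]
  have hU1 : eps ev K U' = 1 := by rw [hU', eps_map, hU, map_one]
  have hx : co b K U' i ∈ (algebraMap k K).range :=
    mem_range_of_forall_valuationSubring _ fun V hV =>
      co_mem_valuationSubring b ev V hV U' W' hUW' hU1 i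
  obtain ⟨γ, hγ⟩ := hx
  refine ⟨γ, hφ ?_⟩
  rw [AlgHom.commutes, hγ, hU', co_map]

/-- **Rosenlicht's lemma, algebraic form**: over an algebraically closed field, a unit of the
tensor product of two domains (one of which has a rational point) is a pure tensor. -/
theorem exists_tmul_of_isUnit (ev : A →ₐ[k] k) {B : Type u} [CommRing B] [IsDomain B] [Algebra k B]
    (u : B ⊗[k] A) (hu : IsUnit u) : ∃ (h : B) (g : A), u = h ⊗ₜ[k] g := by
  classical
  obtain ⟨w, huw⟩ := hu.exists_right_inv
  set h := eps ev B u with hh
  set h' := eps ev B w with hh'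
  have hhh : h * h' = 1 := by rw [hh, hh', ← map_mul, huw, map_one]
  obtain ⟨U, hUdef⟩ : ∃ U, U = h' • u := ⟨_, rfl⟩
  have hUW : U * (h • w) = 1 := by
    rw [hUdef, smul_mul_smul_comm, huw, mul_comm, hhh, one_smul]
  have hU1 : eps ev B U = 1 := by
    rw [hUdef, map_smul, smul_eq_mul, ← hh, mul_comm, hhh]
  let b := Module.Basis.ofVectorSpace k A
  have hco := fun i => co_mem_range b ev U (h • w) hUW hU1 i
  choose γ hγ using hco
  have hsum : U = ∑ i ∈ (co b B U).support,
      (co b B U i) • (Algebra.TensorProduct.basis B b i) := by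
    conv_lhs => rw [← (Algebra.TensorProduct.basis B b).linearCombination_repr U]
    rfl
  refine ⟨h, ∑ i ∈ (co b B U).support, γ i • b i, ?_⟩
  have h1 : u = h • U := by rw [hUdef, smul_smul, hhh, one_smul]
  rw [h1, TensorProduct.tmul_sum]
  conv_lhs => rw [hsum]
  rw [Finset.smul_sum]
  refine Finset.sum_congr rfl fun i _ => ?_
  have e1 : h • ((co b B U) i • (Algebra.TensorProduct.basis B b) i) =
      (h * algebraMap k B (γ i)) ⊗ₜ[k] b i := by
    rw [Algebra.TensorProduct.basis_apply, ← hγ i, TensorProduct.smul_tmul',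
      TensorProduct.smul_tmul', smul_eq_mul, smul_eq_mul, mul_one]
  have e2 : h ⊗ₜ[k] (γ i • b i) = (h * algebraMap k B (γ i)) ⊗ₜ[k] b i := by
    rw [TensorProduct.tmul_smul, TensorProduct.smul_tmul', Algebra.smul_def, mul_comm]
  rw [e1, e2]

end main

end Groth.Agent.Lib.T2H7.RosUnit
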