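import Mathlib
import Groth.Agent.Lib.T2H7RosUnit
import Groth.Agent.Lib.Helper12Cart

set_option autoImplicit false
set_option linter.unusedSectionVars false
set_option linter.unusedVariables false
set_option linter.style.haveILetI false

namespace Groth.Agent.Lib.T2H7.RosSch

universe u
open CategoryTheory CategoryTheory.Limits MonoidalCategory CartesianMonoidalCategory AlgebraicGeometry
open TensorProduct

variable {k : Type u} [Field k]

/-- a unit on a product of integral affine schemes over an algebraically closed field is a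
product of functions on the factors. -/
theorem exists_mul_affine [IsAlgClosed k] (X Y : Over (Spec (CommRingCat.of k)))
    [IsAffine X.left] [IsAffine Y.left] [IsIntegral X.left] [IsIntegral Y.left]
    (y₁ : 𝟙_ (Over (Spec (CommRingCat.of k))) ⟶ Y)
    (f : Γ((X ⊗ Y).left, ⊤)) (hf : IsUnit f) :
    ∃ (a : Γ(X.left, ⊤)) (b : Γ(Y.left, ⊤)),
      f = (fst X Y).left.appTop.hom a * (snd X Y).left.appTop.hom b := by
  have HP : IsPullback (fst X Y).left (snd X Y).left X.hom Y.hom :=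
    IsPullback.of_hasPullback X.hom Y.hom
  have H := isPushout_appTop_of_isPullback HP
  let e := Scheme.ΓSpecIso (CommRingCat.of k)
  let φA : CommRingCat.of k ⟶ Γ(X.left, ⊤) := e.inv ≫ X.hom.appTop
  let φB : CommRingCat.of k ⟶ Γ(Y.left, ⊤) := e.inv ≫ Y.hom.appTop
  have H' : IsPushout φA φB (fst X Y).left.appTop (snd X Y).left.appTop :=
    IsPushout.of_iso H e (Iso.refl _) (Iso.refl _) (Iso.refl _) (by simp [φA]) (by simp [φB])
      (by simp) (by simp)
  algebraize [φA.hom, φB.hom]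
  have H'' : IsPushout (CommRingCat.ofHom (algebraMap k Γ(X.left, ⊤)))
      (CommRingCat.ofHom (algebraMap k Γ(Y.left, ⊤)))
      (fst X Y).left.appTop (snd X Y).left.appTop := H'
  let iso := (CommRingCat.isPushout_tensorProduct k Γ(X.left, ⊤) Γ(Y.left, ⊤)).isoIsPushout _ _ H''
  have hl : ∀ a : Γ(X.left, ⊤), iso.hom.hom (a ⊗ₜ[k] 1) = (fst X Y).left.appTop.hom a := by
    intro a
    have := (CommRingCat.isPushout_tensorProduct k Γ(X.left, ⊤) Γ(Y.left, ⊤)).inl_isoIsPushout_hom _ _ H''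
    exact congrArg (fun t => t.hom a) this
  have hr : ∀ b : Γ(Y.left, ⊤), iso.hom.hom (1 ⊗ₜ[k] b) = (snd X Y).left.appTop.hom b := by
    intro b
    have := (CommRingCat.isPushout_tensorProduct k Γ(X.left, ⊤) Γ(Y.left, ⊤)).inr_isoIsPushout_hom _ _ H''
    exact congrArg (fun t => t.hom b) this
  -- the rational point as an algebra map
  let ev : Γ(Y.left, ⊤) →ₐ[k] k :=
    { (e.hom.hom.comp (y₁.left.appTop.hom) : Γ(Y.left, ⊤) →+* k) with
      commutes' := by
        intro c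
        change e.hom.hom (y₁.left.appTop.hom (Y.hom.appTop.hom (e.inv.hom c))) = c
        have h1 : y₁.left ≫ Y.hom = 𝟙 _ := by
          have := Over.w y₁
          exact this
        have h2 : y₁.left.appTop.hom (Y.hom.appTop.hom (e.inv.hom c)) = e.inv.hom c := by
          have h3 : Y.hom.appTop ≫ y₁.left.appTop = 𝟙 _ := by
            rw [← Scheme.Hom.comp_appTop, h1, Scheme.Hom.id_appTop]
            rfl
          exact congrArg (fun t => t.hom (e.inv.hom c)) h3
        rw [h2]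
        exact congrArg (fun t => t.hom c) e.inv_hom_id }
  haveI : IsDomain Γ(X.left, ⊤) := inferInstance
  haveI : IsDomain Γ(Y.left, ⊤) := inferInstance
  have hu : IsUnit (iso.inv.hom f) := hf.map iso.inv.hom
  obtain ⟨a, b, hab⟩ := Groth.Agent.Lib.T2H7.RosUnit.exists_tmul_of_isUnit ev (iso.inv.hom f) hu
  refine ⟨a, b, ?_⟩
  have h3 : f = iso.hom.hom (iso.inv.hom f) := by
    exact (congrArg (fun t => t.hom f) iso.inv_hom_id).symm
  rw [h3, hab, ← hl, ← hr, ← map_mul, Algebra.TensorProduct.tmul_mul_tmul, mul_one, one_mul]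

section pb
variable {S : Scheme.{u}}

/-- pullback of global functions along a morphism in `Over S`. -/
noncomputable abbrev pb {Z W : Over S} (φ : Z ⟶ W) : Γ(W.left, ⊤) →+* Γ(Z.left, ⊤) :=
  φ.left.appTop.hom

lemma pb_pb {Z W T : Over S} (φ : Z ⟶ W) (ψ : W ⟶ T) (t : Γ(T.left, ⊤)) :
    pb φ (pb ψ t) = pb (φ ≫ ψ) t := rfl

lemma pb_id {Z : Over S} (t : Γ(Z.left, ⊤)) : pb (𝟙 Z) t = t := rfl

end pb

/-- the normalised product formula for a unit, affine case. -/
theorem formula_affine [IsAlgClosed k] (X Y : Over (Spec (CommRingCat.of k)))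
    [IsAffine X.left] [IsAffine Y.left] [IsIntegral X.left] [IsIntegral Y.left]
    (x₁ : 𝟙_ (Over (Spec (CommRingCat.of k))) ⟶ X)
    (y₁ : 𝟙_ (Over (Spec (CommRingCat.of k))) ⟶ Y)
    (f : Γ((X ⊗ Y).left, ⊤)) (hf : IsUnit f) :
    f * pb (toUnit (X ⊗ Y)) (pb (lift x₁ y₁) f) =
      pb (fst X Y) (pb (lift (𝟙 X) (toUnit X ≫ y₁)) f) *
        pb (snd X Y) (pb (lift (toUnit Y ≫ x₁) (𝟙 Y)) f) := by
  obtain ⟨a, b, rfl⟩ := exists_mul_affine X Y y₁ f hf
  change pb (fst X Y) a * pb (snd X Y) b * _ = _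
  simp only [map_mul, pb_pb, lift_fst, lift_snd, pb_id, comp_toUnit_assoc]
  ring


/-- a rational point factors through any open containing its image. -/
lemma exists_factor_open (X : Over (Spec (CommRingCat.of k)))
    (x₁ : 𝟙_ (Over (Spec (CommRingCat.of k))) ⟶ X) (U : X.left.Opens)
    (hU : ∀ p : ↥(Spec (CommRingCat.of k)), x₁.left p ∈ U) :
    ∃ x₁' : 𝟙_ (Over (Spec (CommRingCat.of k))) ⟶ Over.mk (U.ι ≫ X.hom),
      x₁' ≫ (Over.homMk U.ι rfl : Over.mk (U.ι ≫ X.hom) ⟶ X) = x₁ := by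
  have hr : Set.range x₁.left ⊆ Set.range U.ι := by
    rintro _ ⟨p, rfl⟩
    rw [Scheme.Opens.range_ι]
    exact hU p
  refine ⟨Over.homMk (IsOpenImmersion.lift U.ι x₁.left hr) ?_, ?_⟩
  · change IsOpenImmersion.lift U.ι x₁.left hr ≫ (U.ι ≫ X.hom) = _
    rw [← Category.assoc, IsOpenImmersion.lift_fac]
    exact Over.w x₁
  · ext1
    change IsOpenImmersion.lift U.ι x₁.left hr ≫ U.ι = x₁.left
    exact IsOpenImmersion.lift_fac _ _ _

/-- **Rosenlicht's lemma**, normalised form: for a unit `f` on a product of integral schemes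
locally of finite type over an algebraically closed field and rational points `x₁`, `y₁`,
`f(x,y) f(x₁,y₁) = f(x,y₁) f(x₁,y)`. -/
theorem formula [IsAlgClosed k] (X Y : Over (Spec (CommRingCat.of k)))
    [IsIntegral X.left] [IsIntegral Y.left] [LocallyOfFiniteType X.hom] [LocallyOfFiniteType Y.hom]
    (x₁ : 𝟙_ (Over (Spec (CommRingCat.of k))) ⟶ X)
    (y₁ : 𝟙_ (Over (Spec (CommRingCat.of k))) ⟶ Y)
    (f : Γ((X ⊗ Y).left, ⊤)) (hf : IsUnit f) :
    f * pb (toUnit (X ⊗ Y)) (pb (lift x₁ y₁) f) =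
      pb (fst X Y) (pb (lift (𝟙 X) (toUnit X ≫ y₁)) f) *
        pb (snd X Y) (pb (lift (toUnit Y ≫ x₁) (𝟙 Y)) f) := by
  have hsub : Subsingleton ↥(Spec (CommRingCat.of k)) := inferInstance
  obtain ⟨p₀⟩ : Nonempty ↥(Spec (CommRingCat.of k)) := inferInstance
  -- affine neighbourhoods of the two points
  obtain ⟨U, hU, hxU, -⟩ := exists_isAffineOpen_mem_and_subset
    (x := x₁.left p₀) (U := (⊤ : X.left.Opens)) trivial
  obtain ⟨V, hV, hyV, -⟩ := exists_isAffineOpen_mem_and_subset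
    (x := y₁.left p₀) (U := (⊤ : Y.left.Opens)) trivial
  let X' : Over (Spec (CommRingCat.of k)) := Over.mk (U.ι ≫ X.hom)
  let Y' : Over (Spec (CommRingCat.of k)) := Over.mk (V.ι ≫ Y.hom)
  let iX : X' ⟶ X := Over.homMk U.ι rfl
  let iY : Y' ⟶ Y := Over.homMk V.ι rfl
  obtain ⟨x₁', hx₁'⟩ : ∃ x₁' : 𝟙_ (Over (Spec (CommRingCat.of k))) ⟶ X', x₁' ≫ iX = x₁ :=
    exists_factor_open X x₁ U (fun p => by rw [hsub.elim p p₀]; exact hxU)
  obtain ⟨y₁', hy₁'⟩ : ∃ y₁' : 𝟙_ (Over (Spec (CommRingCat.of k))) ⟶ Y', y₁' ≫ iY = y₁ :=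
    exists_factor_open Y y₁ V (fun p => by rw [hsub.elim p p₀]; exact hyV)
  haveI : IsAffine X'.left := hU
  haveI : IsAffine Y'.left := hV
  haveI : Nonempty U := ⟨⟨_, hxU⟩⟩
  haveI : Nonempty V := ⟨⟨_, hyV⟩⟩
  haveI : IsIntegral X'.left := inferInstanceAs (IsIntegral U.toScheme)
  haveI : IsIntegral Y'.left := inferInstanceAs (IsIntegral V.toScheme)
  haveI : IsOpenImmersion iX.left := inferInstanceAs (IsOpenImmersion U.ι)
  haveI : IsOpenImmersion iY.left := inferInstanceAs (IsOpenImmersion V.ι)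
  obtain ⟨j, hj⟩ : ∃ j : X' ⊗ Y' ⟶ X ⊗ Y, j = iX ⊗ₘ iY := ⟨_, rfl⟩
  haveI : IsOpenImmersion j.left := by
    rw [hj, Over.tensorHom_left]
    infer_instance
  haveI : Nonempty (X' ⊗ Y').left := ⟨(lift x₁' y₁').left p₀⟩
  haveI : IsLocallyNoetherian X.left := LocallyOfFiniteType.isLocallyNoetherian X.hom
  haveI : IsLocallyNoetherian Y.left := LocallyOfFiniteType.isLocallyNoetherian Y.hom
  haveI : Nonempty X'.left := inferInstanceAs (Nonempty U)
  haveI : Nonempty Y'.left := inferInstanceAs (Nonempty V)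
  haveI : IsDominant iX.left :=
    ⟨(iX.left.isOpenEmbedding.isOpen_range).dense (Set.range_nonempty _)⟩
  haveI : IsDominant iY.left :=
    ⟨(iY.left.isOpenEmbedding.isOpen_range).dense (Set.range_nonempty _)⟩
  haveI dX : IsSchemeTheoreticallyDominant iX.left := .of_isDominant _
  haveI dY : IsSchemeTheoreticallyDominant iY.left := .of_isDominant _
  haveI qX : QuasiCompact iX.left := inferInstance
  haveI qY : QuasiCompact iY.left := inferInstance
  have H1 : IsPullback (fst X' Y').left (iX ▷ Y').left iX.left (fst X Y').left :=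
    ((Groth.Agent.Lib.Helper12.isPullback_whiskerRight Y' iX).map (Over.forget _)).flip
  have H2 : IsPullback (snd X Y').left (X ◁ iY).left iY.left (snd X Y).left :=
    ((Groth.Agent.Lib.Helper12.isPullback_whiskerLeft X iY).map (Over.forget _)).flip
  haveI fl1 : Flat (fst X Y').left := by
    rw [Over.fst_left]; infer_instance
  haveI fl2 : Flat (snd X Y).left := by
    rw [Over.snd_left]; infer_instance
  haveI d1 : IsSchemeTheoreticallyDominant (iX ▷ Y').left :=
    IsSchemeTheoreticallyDominant.of_isPullback H1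
  haveI d2 : IsSchemeTheoreticallyDominant (X ◁ iY).left :=
    IsSchemeTheoreticallyDominant.of_isPullback H2
  haveI : IsSchemeTheoreticallyDominant j.left := by
    rw [hj, MonoidalCategory.tensorHom_def, Over.comp_left]
    infer_instance
  haveI : LocallyOfFiniteType (X ⊗ Y).hom := by
    rw [Over.tensorObj_hom]
    infer_instance
  haveI : IsLocallyNoetherian (X ⊗ Y).left := LocallyOfFiniteType.isLocallyNoetherian (X ⊗ Y).hom
  haveI : IsAffine (X' ⊗ Y').left := inferInstanceAs (IsAffine (pullback X'.hom Y'.hom))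
  haveI : QuasiCompact j.left := inferInstance
  have hinj : Function.Injective (pb j) := j.left.app_injective ⊤
  apply hinj
  have hfa := formula_affine X' Y' x₁' y₁' (pb j f) (hf.map (pb j))
  -- naturality
  have e2 : lift x₁' y₁' ≫ j = lift x₁ y₁ := by
    rw [hj, lift_map, hx₁', hy₁']
  have e3 : lift (𝟙 X') (toUnit X' ≫ y₁') ≫ j = iX ≫ lift (𝟙 X) (toUnit X ≫ y₁) := by
    rw [hj, lift_map, comp_lift, Category.id_comp, Category.comp_id, Category.assoc, hy₁',
      ← Category.assoc, comp_toUnit]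
  have e4 : lift (toUnit Y' ≫ x₁') (𝟙 Y') ≫ j = iY ≫ lift (toUnit Y ≫ x₁) (𝟙 Y) := by
    rw [hj, lift_map, comp_lift, Category.id_comp, Category.comp_id, Category.assoc, hx₁',
      ← Category.assoc, comp_toUnit]
  have e5 : j ≫ fst X Y = fst X' Y' ≫ iX := by rw [hj, tensorHom_fst]
  have e6 : j ≫ snd X Y = snd X' Y' ≫ iY := by rw [hj, tensorHom_snd]
  have m1 : j ≫ toUnit (X ⊗ Y) ≫ lift x₁ y₁ = toUnit (X' ⊗ Y') ≫ lift x₁' y₁' ≫ j := by
    rw [e2, ← Category.assoc, comp_toUnit]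
  have m2 : j ≫ fst X Y ≫ lift (𝟙 X) (toUnit X ≫ y₁) =
      fst X' Y' ≫ lift (𝟙 X') (toUnit X' ≫ y₁') ≫ j := by
    rw [e3, ← Category.assoc, e5, Category.assoc]
  have m3 : j ≫ snd X Y ≫ lift (toUnit Y ≫ x₁) (𝟙 Y) =
      snd X' Y' ≫ lift (toUnit Y' ≫ x₁') (𝟙 Y') ≫ j := by
    rw [e4, ← Category.assoc, e6, Category.assoc]
  have hL : pb j (pb (toUnit (X ⊗ Y)) (pb (lift x₁ y₁) f)) =
      pb (toUnit (X' ⊗ Y')) (pb (lift x₁' y₁') (pb j f)) := by
    simp only [pb_pb]
    rw [m1]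
  have hR1 : pb j (pb (fst X Y) (pb (lift (𝟙 X) (toUnit X ≫ y₁)) f)) =
      pb (fst X' Y') (pb (lift (𝟙 X') (toUnit X' ≫ y₁')) (pb j f)) := by
    simp only [pb_pb]
    rw [m2]
  have hR2 : pb j (pb (snd X Y) (pb (lift (toUnit Y ≫ x₁) (𝟙 Y)) f)) =
      pb (snd X' Y') (pb (lift (toUnit Y' ≫ x₁') (𝟙 Y')) (pb j f)) := by
    simp only [pb_pb]
    rw [m3]
  rw [map_mul, map_mul, hL, hR1, hR2]
  exact hfa

end Groth.Agent.Lib.T2H7.RosSch

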