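import Mathlib
import Groth.Agent.Lib.T2H7RosSch
import Groth.Agent.Lib.Helper25IdComp
import Groth.Agent.Lib.Helper6SmGeom

set_option autoImplicit false
set_option linter.unusedSectionVars false
set_option linter.unusedVariables false
set_option linter.style.haveILetI false

namespace Groth.Agent.Lib.T2H7.RosGrp

universe u
open CategoryTheory CategoryTheory.Limits MonoidalCategory CartesianMonoidalCategory MonObj GrpObj
  AlgebraicGeometry
open Groth.Agent.Lib.T2H7.RosSch

variable {k : Type u} [Field k] [IsAlgClosed k]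

/-- a rational point of a nonempty scheme locally of finite type over an algebraically closed
field. -/
theorem exists_rational_point (S : Over (Spec (CommRingCat.of k))) [LocallyOfFiniteType S.hom]
    [Nonempty ↥S.left] : Nonempty (𝟙_ (Over (Spec (CommRingCat.of k))) ⟶ S) := by
  have hJ : JacobsonSpace ↥S.left := LocallyOfFiniteType.jacobsonSpace S.hom
  obtain ⟨x, -, hx⟩ := nonempty_inter_closedPoints (X := ↥S.left) (Z := Set.univ)
    Set.univ_nonempty isOpen_univ.isLocallyClosed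
  exact ⟨Over.homMk (pointOfClosedPoint S.hom x hx) (pointOfClosedPoint_comp S.hom x hx)⟩

/-- **Rosenlicht's lemma**: units on a product are products of units. -/
theorem exists_units_mul (X Y : Over (Spec (CommRingCat.of k)))
    [IsIntegral X.left] [IsIntegral Y.left] [LocallyOfFiniteType X.hom] [LocallyOfFiniteType Y.hom]
    (f : Γ((X ⊗ Y).left, ⊤)) (hf : IsUnit f) :
    ∃ (g : Γ(X.left, ⊤)) (h : Γ(Y.left, ⊤)), IsUnit g ∧ IsUnit h ∧
      f = (fst X Y).left.appTop g * (snd X Y).left.appTop h := by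
  obtain ⟨x₁⟩ := exists_rational_point X
  obtain ⟨y₁⟩ := exists_rational_point Y
  have hF := formula X Y x₁ y₁ f hf
  obtain ⟨c, hc⟩ : ∃ c, c = pb (lift x₁ y₁) f := ⟨_, rfl⟩
  have hcu : IsUnit c := hc ▸ hf.map (pb (lift x₁ y₁))
  obtain ⟨c', hcc'⟩ := hcu.exists_right_inv
  have hc'u : IsUnit c' := .of_mul_eq_one_right c hcc'
  refine ⟨pb (lift (𝟙 X) (toUnit X ≫ y₁)) f * pb (toUnit X) c', pb (lift (toUnit Y ≫ x₁) (𝟙 Y)) f,
    (hf.map _).mul (hc'u.map _), hf.map _, ?_⟩
  change f = pb (fst X Y) (pb (lift (𝟙 X) (toUnit X ≫ y₁)) f * pb (toUnit X) c') *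
    pb (snd X Y) (pb (lift (toUnit Y ≫ x₁) (𝟙 Y)) f)
  rw [map_mul, pb_pb (fst X Y) (toUnit X), comp_toUnit, mul_right_comm, ← hF, ← hc, _root_.mul_assoc,
    ← map_mul, hcc', map_one, _root_.mul_one]

/-- a smooth connected group scheme over an algebraically closed field is integral. -/
theorem isIntegral_of_smooth_connected (G : Over (Spec (CommRingCat.of k))) [GrpObj G]
    [Smooth G.hom] [ConnectedSpace ↥G.left] : IsIntegral G.left := by
  haveI : IrreducibleSpace ↥G.left :=
    Groth.Agent.Lib.Helper25.IdComp.irreducibleSpace_of_connectedSpace G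
  haveI : IsReduced G.left :=
    Groth.Agent.Lib.Helper6.SmGeom.isReduced_of_smooth_over_field k G.left G.hom
  exact isIntegral_of_irreducibleSpace_of_isReduced G.left

/-- a unit on a connected smooth group taking the value `1` at the identity is a character. -/
theorem comul_unit (G : Over (Spec (CommRingCat.of k))) [GrpObj G] [Smooth G.hom]
    [ConnectedSpace ↥G.left]
    (f : Γ(G.left, ⊤)) (hf : IsUnit f) (he : η[G].left.appTop f = 1) :
    μ[G].left.appTop f = (fst G G).left.appTop f * (snd G G).left.appTop f := by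
  haveI := isIntegral_of_smooth_connected G
  haveI : LocallyOfFiniteType G.hom := inferInstance
  have hF := formula G G η[G] η[G] (pb μ[G] f) (hf.map _)
  have e1 : lift η[G] η[G] ≫ μ[G] = η[G] := by
    have := lift_comp_one_right (η[G]) (𝟙 (𝟙_ (Over (Spec (CommRingCat.of k)))))
    rwa [Category.id_comp] at this
  have e2 : lift (𝟙 G) (toUnit G ≫ η[G]) ≫ μ[G] = 𝟙 G := lift_comp_one_right _ _
  have e3 : lift (toUnit G ≫ η[G]) (𝟙 G) ≫ μ[G] = 𝟙 G := lift_comp_one_left _ _
  have he' : pb η[G] f = 1 := he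
  have t1 : pb (lift η[G] η[G]) (pb μ[G] f) = 1 := by rw [pb_pb, e1, he']
  have t2 : pb (lift (𝟙 G) (toUnit G ≫ η[G])) (pb μ[G] f) = f := by rw [pb_pb, e2, pb_id]
  have t3 : pb (lift (toUnit G ≫ η[G]) (𝟙 G)) (pb μ[G] f) = f := by rw [pb_pb, e3, pb_id]
  rw [t1, t2, t3, map_one, _root_.mul_one] at hF
  exact hF


/-- units on `G × X` are products of a character of `G` and a unit on `X`. -/
theorem exists_character_mul_unit (G X : Over (Spec (CommRingCat.of k))) [GrpObj G] [Smooth G.hom]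
    [ConnectedSpace ↥G.left] [IsIntegral X.left] [LocallyOfFiniteType X.hom]
    (f : Γ((G ⊗ X).left, ⊤)) (hf : IsUnit f) :
    ∃ (χ : Γ(G.left, ⊤)) (u : Γ(X.left, ⊤)), IsUnit χ ∧ η[G].left.appTop χ = 1 ∧
      μ[G].left.appTop χ = (fst G G).left.appTop χ * (snd G G).left.appTop χ ∧ IsUnit u ∧
      f = (fst G X).left.appTop χ * (snd G X).left.appTop u := by
  haveI := isIntegral_of_smooth_connected G
  haveI : LocallyOfFiniteType G.hom := inferInstance
  obtain ⟨g, h, hg, hh, hfgh⟩ := exists_units_mul G X f hf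
  obtain ⟨c, hc⟩ : ∃ c, c = pb η[G] g := ⟨_, rfl⟩
  have hcu : IsUnit c := hc ▸ hg.map (pb η[G])
  obtain ⟨c', hcc'⟩ := hcu.exists_right_inv
  have hc'u : IsUnit c' := .of_mul_eq_one_right c hcc'
  have hχu : IsUnit (g * pb (toUnit G) c') := hg.mul (hc'u.map _)
  have hχe : η[G].left.appTop (g * pb (toUnit G) c') = 1 := by
    change pb η[G] (g * pb (toUnit G) c') = 1
    rw [map_mul, pb_pb, ← hc, toUnit_unique (η[G] ≫ toUnit G) (𝟙 _), pb_id, hcc']
  refine ⟨g * pb (toUnit G) c', h * pb (toUnit X) c, hχu, hχe, comul_unit G _ hχu hχe,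
    hh.mul (hcu.map _), ?_⟩
  change f = pb (fst G X) (g * pb (toUnit G) c') * pb (snd G X) (h * pb (toUnit X) c)
  have hfgh' : f = pb (fst G X) g * pb (snd G X) h := hfgh
  rw [map_mul, map_mul, pb_pb, pb_pb, comp_toUnit, comp_toUnit, _root_.mul_mul_mul_comm, ← hfgh',
    ← map_mul, mul_comm c' c, hcc', map_one, _root_.mul_one]

/-- every unit on `X` is a semi-invariant for a unique character. -/
theorem existsUnique_character (G X : Over (Spec (CommRingCat.of k))) [GrpObj G] [Smooth G.hom]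
    [ConnectedSpace ↥G.left] [IsIntegral X.left] [LocallyOfFiniteType X.hom]
    (a : AlgGrp.Action G X) (f : Γ(X.left, ⊤)) (hf : IsUnit f) :
    ∃! χ : Γ(G.left, ⊤), IsUnit χ ∧ η[G].left.appTop χ = 1 ∧
      μ[G].left.appTop χ = (fst G G).left.appTop χ * (snd G G).left.appTop χ ∧
      a.act.left.appTop f = (fst G X).left.appTop χ * (snd G X).left.appTop f := by
  obtain ⟨χ, u, hχ, hχe, hχm, hu, hfχu⟩ := exists_character_mul_unit G X (pb a.act f) (hf.map _)
  have hs : lift (toUnit X ≫ η[G]) (𝟙 X) ≫ a.act = 𝟙 X := by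
    have h1 : lift (toUnit X ≫ η[G]) (𝟙 X) = lift (toUnit X) (𝟙 X) ≫ (η[G] ▷ X) := by
      rw [lift_whiskerRight]
    rw [h1, Category.assoc, a.one_act, leftUnitor_hom, lift_snd]
  have hfχu' : pb a.act f = pb (fst G X) χ * pb (snd G X) u := hfχu
  have hχe' : pb η[G] χ = 1 := hχe
  have huf : u = f := by
    have h2 := congrArg (pb (lift (toUnit X ≫ η[G]) (𝟙 X))) hfχu'
    rw [pb_pb, hs, pb_id, map_mul, pb_pb, pb_pb, lift_fst, lift_snd, pb_id, ← pb_pb, hχe', map_one,
      _root_.one_mul] at h2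
    exact h2.symm
  refine ⟨χ, ⟨hχ, hχe, hχm, huf ▸ hfχu⟩, ?_⟩
  rintro χ' ⟨-, -, -, h4⟩
  haveI : Nonempty ↥X.left := inferInstance
  obtain ⟨x₁⟩ := exists_rational_point X
  have h4' : pb a.act f = pb (fst G X) χ' * pb (snd G X) f := h4
  rw [hfχu', huf] at h4'
  have hfu : IsUnit (pb (snd G X) f) := hf.map _
  have h5 : pb (fst G X) χ = pb (fst G X) χ' := hfu.mul_left_injective h4'
  have h6 := congrArg (pb (lift (𝟙 G) (toUnit G ≫ x₁))) h5
  rw [pb_pb, pb_pb, lift_fst, pb_id, pb_id] at h6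
  exact h6.symm


end Groth.Agent.Lib.T2H7.RosGrp
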