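import Groth.Agent.Lib.T2H7ObsCrit
import Groth.Agent.Lib.T2H7ObsRed
import Groth.Agent.Lib.T2H7RosGrp

/-!
# T2H7ObsFrac: observable subgroups and invariant fractions

For a connected group `G`: `H` is observable iff every right-`H`-invariant fraction of functions is
a quotient of right-`H`-invariant functions.
-/

set_option autoImplicit false
set_option linter.style.haveILetI false
set_option linter.unusedSectionVars false
set_option linter.unusedVariables false
universe u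

open CategoryTheory MonoidalCategory CartesianMonoidalCategory MonObj GrpObj AlgebraicGeometry
open scoped TensorProduct

namespace Groth.Agent.Lib.T2H7.ObsFrac

open Groth.Agent.Lib.Helper25 Groth.Agent.Lib.Helper25.DensePts Groth.Agent.Lib.Helper25.SurjPts
open Groth.Agent.Lib.Helper25.GModComod Groth.Agent.Lib.T2H7.ObsPts Groth.Agent.Lib.T2H7.ObsFin
open Groth.Agent.Lib.T2H7.ObsHull Groth.Agent.Lib.T2H7.ObsTFAE Groth.Agent.Lib.T2H7.ObsChar
open Groth.Agent.Lib.T2H7.ObsOpen Groth.Agent.Lib.T2H7.ObsCrit Groth.Agent.Lib.T2H7.ObsQuot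

variable {k : Type u} [Field k] [IsAlgClosed k]
  {G : Over (Spec (CommRingCat.of k))} [GrpObj G] [IsAffine G.left]
  {H : Over (Spec (CommRingCat.of k))} [GrpObj H] [IsAffine H.left]

attribute [local instance] instHopfΓ

section RTr

theorem rTr_rTr [_root_.IsReduced Γ(G.left, ⊤)] (g g' : VecGrp.pt k k ⟶ G) (f : Γ(G.left, ⊤)) :
    rTr g (rTr g' f) = rTr (g * g') f := by
  rw [← sub_eq_zero]
  apply eq_zero_of_forall_evA
  intro x
  rw [map_sub, sub_eq_zero, ← evA_mul_rat, ← evA_mul_rat, ← evA_mul_rat, _root_.mul_assoc]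

theorem rTr_one [_root_.IsReduced Γ(G.left, ⊤)] (f : Γ(G.left, ⊤)) :
    rTr (1 : VecGrp.pt k k ⟶ G) f = f := by
  rw [← sub_eq_zero]
  apply eq_zero_of_forall_evA
  intro x
  rw [map_sub, sub_eq_zero, ← evA_mul_rat, _root_.mul_one]

theorem rTr_ne_zero [_root_.IsReduced Γ(G.left, ⊤)] (g : VecGrp.pt k k ⟶ G) (f : Γ(G.left, ⊤))
    (hf : f ≠ 0) : rTr g f ≠ 0 := by
  intro h0
  apply hf
  have h1 : rTr g⁻¹ (rTr g f) = f := by rw [rTr_rTr, inv_mul_cancel, rTr_one]
  rw [← h1, h0]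
  rw [← sub_eq_zero]
  apply eq_zero_of_forall_evA
  intro x
  rw [sub_zero, ← evA_mul_rat, map_zero]

theorem rTr_sub [_root_.IsReduced Γ(G.left, ⊤)] (g : VecGrp.pt k k ⟶ G) (a b : Γ(G.left, ⊤)) :
    rTr g (a - b) = rTr g a - rTr g b := by
  rw [← sub_eq_zero]
  apply eq_zero_of_forall_evA
  intro x
  rw [map_sub, sub_eq_zero, map_sub, ← evA_mul_rat, ← evA_mul_rat, ← evA_mul_rat, map_sub]

end RTr

section Frac

variable (i : H ⟶ G) [IsMonHom i]

/-- the hypothesis "`a/b` is right-`H`-invariant", evaluated at points -/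
theorem evA_of_fracInv (a b : Γ(G.left, ⊤))
    (hab : ((G ◁ i) ≫ μ[G]).left.appTop a * (fst G H).left.appTop b =
      (fst G H).left.appTop a * ((G ◁ i) ≫ μ[G]).left.appTop b)
    {B : Type u} [CommRing B] [Algebra k B] (x : VecGrp.pt k B ⟶ G) (y : VecGrp.pt k B ⟶ H) :
    evA (x * (y ≫ i)) a * evA x b = evA x a * evA (x * (y ≫ i)) b := by
  have hP : IsAffine (G ⊗ H).left := isAffine_tensor
  have h1 := congrArg (evA (lift x y)) hab
  rw [map_mul, map_mul, evA_appTop, evA_appTop, evA_appTop, evA_appTop, lift_whisker_mul,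
    lift_fst] at h1
  exact h1

/-- conversely, from points to the function identity -/
theorem fracInv_of_evA (a b : Γ(G.left, ⊤))
    (h : ∀ (B : Type u) [CommRing B] [Algebra k B] (x : VecGrp.pt k B ⟶ G)
      (y : VecGrp.pt k B ⟶ H), evA (x * (y ≫ i)) a * evA x b = evA x a * evA (x * (y ≫ i)) b) :
    ((G ◁ i) ≫ μ[G]).left.appTop a * (fst G H).left.appTop b =
      (fst G H).left.appTop a * ((G ◁ i) ≫ μ[G]).left.appTop b := by
  have hP : IsAffine (G ⊗ H).left := isAffine_tensor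
  obtain ⟨B, _, _, z, hz⟩ := exists_univ_pt (G ⊗ H)
  have h1 := h B (z ≫ fst G H) (z ≫ snd G H)
  have hz' : z ≫ (G ◁ i) ≫ μ[G] = (z ≫ fst G H) * ((z ≫ snd G H) ≫ i) := by
    rw [← lift_whisker_mul i (z ≫ fst G H) (z ≫ snd G H)]
    congr 1
    apply CartesianMonoidalCategory.hom_ext <;> simp
  rw [← hz', ← evA_appTop, ← evA_appTop, ← evA_appTop, ← evA_appTop, ← map_mul, ← map_mul] at h1
  rw [evA_apply, evA_apply] at h1
  exact hz ((ConcreteCategory.bijective_of_isIso
    (Scheme.ΓSpecIso (CommRingCat.of B)).hom).1 h1)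

/-- **Observable subgroups: invariant fractions are quotients of invariants.** -/
theorem frac_of_observable [Smooth G.hom] [Smooth H.hom] [IsDomain Γ(G.left, ⊤)]
    (hobs : AGF.IsObservableIn k i) (a b : Γ(G.left, ⊤)) (hb : b ≠ 0)
    (hab : ((G ◁ i) ≫ μ[G]).left.appTop a * (fst G H).left.appTop b =
      (fst G H).left.appTop a * ((G ◁ i) ≫ μ[G]).left.appTop b) :
    ∃ a' b' : Γ(G.left, ⊤), AGF.IsRTransInv i a' ∧ AGF.IsRTransInv i b' ∧ b' ≠ 0 ∧
      a * b' = a' * b := by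
  have hR : _root_.IsReduced Γ(G.left, ⊤) := isReduced_Γ (k := k)
  have hka := isAffine_pt (k := k)
  -- the invariance of the fraction, for rational points of `H`
  have hfun : ∀ h : VecGrp.pt k k ⟶ H, rTr (h ≫ i) a * b = a * rTr (h ≫ i) b := by
    intro h
    rw [← sub_eq_zero]
    apply eq_zero_of_forall_evA
    intro x
    rw [map_sub, sub_eq_zero, map_mul, map_mul, ← evA_mul_rat, ← evA_mul_rat]
    exact evA_of_fracInv i a b hab x h
  -- the ideal of denominators
  let I : Ideal Γ(G.left, ⊤) := Submodule.comap (LinearMap.mulRight Γ(G.left, ⊤) a) (Ideal.span {b})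
  have hI : ∀ c, c ∈ I ↔ ∃ e, e * b = c * a := by
    intro c
    change c * a ∈ Ideal.span {b} ↔ _
    rw [Ideal.mem_span_singleton']
  have hstab : ∀ (h : VecGrp.pt k k ⟶ H), ∀ c ∈ I, rTr (h ≫ i) c ∈ I := by
    intro h c hc
    obtain ⟨e, he⟩ := (hI c).mp hc
    rw [hI]
    refine ⟨rTr (h ≫ i) e, ?_⟩
    have hne : rTr (h ≫ i) b ≠ 0 := rTr_ne_zero _ b hb
    apply mul_right_cancel₀ hne
    have h1 : rTr (h ≫ i) (e * b) = rTr (h ≫ i) (c * a) := by rw [he]
    rw [rTr_mul, rTr_mul] at h1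
    calc rTr (h ≫ i) e * b * rTr (h ≫ i) b = (rTr (h ≫ i) e * rTr (h ≫ i) b) * b := by ring
      _ = rTr (h ≫ i) c * (rTr (h ≫ i) a * b) := by rw [h1]; ring
      _ = rTr (h ≫ i) c * a * rTr (h ≫ i) b := by rw [hfun h]; ring
  obtain ⟨g₀, hg₀⟩ : ∃ g : VecGrp.pt k k ⟶ G, evA g b ≠ 0 := by
    by_contra hcon
    push Not at hcon
    exact hb (eq_zero_of_forall_evA b hcon)
  have hbI : b ∈ I := (hI b).mpr ⟨a, _root_.mul_comm a b⟩
  obtain ⟨a₀, ha₀inv, ⟨N, hN⟩, ha₀g⟩ := exists_invariant_of_stable_ideal i hobs I hstab g₀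
    ⟨b, hbI, hg₀⟩
  obtain ⟨a', ha'⟩ := (hI _).mp hN
  have hb'inv : AGF.IsRTransInv i (a₀ ^ N) := by
    rw [isRTransInv_iff]
    intro B _ _ x y
    rw [map_pow, map_pow, evA_of_isRTransInv i a₀ ha₀inv x y]
  have hb'ne : a₀ ^ N ≠ 0 := by
    intro h0
    have := congrArg (evA g₀) h0
    rw [map_pow, map_zero] at this
    exact pow_ne_zero N ha₀g this
  refine ⟨a', a₀ ^ N, ?_, hb'inv, hb'ne, ?_⟩
  · apply isRTransInv_of_pts
    intro x y
    rw [evA_mul_rat]
    congr 1
    have hne : rTr (y ≫ i) b ≠ 0 := rTr_ne_zero _ b hb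
    have hb'fix : rTr (y ≫ i) (a₀ ^ N) = a₀ ^ N :=
      (isRTransInv_pt_iff _ _).mp (isRTransInv_comp i y _ hb'inv)
    have h1 : rTr (y ≫ i) (a' * b) = rTr (y ≫ i) (a₀ ^ N * a) := by rw [ha']
    rw [rTr_mul, rTr_mul, hb'fix] at h1
    apply mul_right_cancel₀ (mul_ne_zero hb hne)
    calc rTr (y ≫ i) a' * (b * rTr (y ≫ i) b) = (rTr (y ≫ i) a' * rTr (y ≫ i) b) * b := by ring
      _ = a₀ ^ N * (rTr (y ≫ i) a * b) := by rw [h1]; ring
      _ = (a₀ ^ N * a) * rTr (y ≫ i) b := by rw [hfun y]; ring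
      _ = a' * (b * rTr (y ≫ i) b) := by rw [← ha']; ring
  · rw [_root_.mul_comm, ← ha']

open HopfRep in
/-- **Fraction criterion**: a closed subgroup of a connected group is observable as soon as every
invariant fraction is a quotient of invariant functions. -/
theorem observable_of_frac [Smooth G.hom] [Smooth H.hom] [IsDomain Γ(G.left, ⊤)]
    [IsClosedImmersion i.left]
    (hfrac : ∀ a b : Γ(G.left, ⊤), b ≠ 0 →
      ((G ◁ i) ≫ μ[G]).left.appTop a * (fst G H).left.appTop b =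
        (fst G H).left.appTop a * ((G ◁ i) ≫ μ[G]).left.appTop b →
      ∃ a' b' : Γ(G.left, ⊤), AGF.IsRTransInv i a' ∧ AGF.IsRTransInv i b' ∧ b' ≠ 0 ∧
        a * b' = a' * b) :
    AGF.IsObservableIn k i := by
  classical
  have hR : _root_.IsReduced Γ(G.left, ⊤) := isReduced_Γ (k := k)
  haveI hft : Algebra.FiniteType k Γ(G.left, ⊤) := finiteType_Γ (k := k) (G := G)
  haveI : IsNoetherianRing Γ(G.left, ⊤) := Algebra.FiniteType.isNoetherianRing k Γ(G.left, ⊤)
  haveI hco : ((RingHom.ker ((resHom i : Γ(G.left, ⊤) →ₐc[k] Γ(H.left, ⊤)) :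
      Γ(G.left, ⊤) →+* Γ(H.left, ⊤))).restrictScalars k).IsCoideal :=
    isCoideal_ker (resHom i) (resHom_surjective i)
  obtain ⟨κ, _, _, M, v, K, hM, hK, hstab⟩ :=
    chevalley_lineStab (RingHom.ker ((resHom i : Γ(G.left, ⊤) →ₐc[k] Γ(H.left, ⊤)) :
      Γ(G.left, ⊤) →+* Γ(H.left, ⊤))) (IsNoetherian.noetherian _)
      (fun x hx => counit_eq_zero_of_mem_ker (resHom i) x hx)
      (fun φ hφ x hx => T_mem_of_isCoideal _ φ hφ x hx)
  obtain ⟨χ, hχ⟩ := (hstab Γ(H.left, ⊤) (resHom i : Γ(G.left, ⊤) →ₐ[k] Γ(H.left, ⊤))).mp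
    (fun x hx => hx)
  -- the coordinate functions are semi-invariant of weight `χ`
  have hsemi : ∀ I : κ, Algebra.TensorProduct.map (AlgHom.id k Γ(G.left, ⊤))
      (resHom i : Γ(G.left, ⊤) →ₐ[k] Γ(H.left, ⊤))
      (CoalgebraStruct.comul (R := k) (coeffOf M v I)) = coeffOf M v I ⊗ₜ[k] χ := by
    intro I
    rw [comul_coeffOf hM, map_sum]
    have h1 : ∀ J : κ, Algebra.TensorProduct.map (AlgHom.id k Γ(G.left, ⊤))
        (resHom i : Γ(G.left, ⊤) →ₐ[k] Γ(H.left, ⊤)) (M I J ⊗ₜ[k] coeffOf M v J) =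
        (v J • M I J) ⊗ₜ[k] χ := by
      intro J
      rw [Algebra.TensorProduct.map_tmul, AlgHom.id_apply]
      have := hχ J
      change (resHom i : Γ(G.left, ⊤) →ₐ[k] Γ(H.left, ⊤)) (coeffOf M v J) = v J • χ at this
      rw [this, TensorProduct.tmul_smul, TensorProduct.smul_tmul']
    simp only [h1]
    rw [← TensorProduct.sum_tmul]
    rfl
  have hKne : coeffOf M v K ≠ 0 := by
    intro h0
    have := counit_coeffOf hM v K
    rw [h0, map_zero, hK] at this
    exact zero_ne_one this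
  have hev1 : ∀ I : κ, evA (1 : VecGrp.pt k k ⟶ G) (coeffOf M v I) = v I := by
    intro I
    rw [evA_one_apply, counit_coeffOf hM]
    rfl
  intro g hg
  have hline : LineStab M v (evA g) (evA g (coeffOf M v K)) := by
    intro I
    obtain ⟨a', b', ha', hb', hb'ne, hab'⟩ := hfrac (coeffOf M v I) (coeffOf M v K) hKne
      (fracInv_of_evA i _ _ (fun B _ _ x y => by
        rw [semi_of_comul i _ χ (hsemi I), semi_of_comul i _ χ (hsemi K)]
        ring))
    have ha'fix : rTr g a' = a' := (isRTransInv_pt_iff _ _).mp (hg a' ha')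
    have hb'fix : rTr g b' = b' := (isRTransInv_pt_iff _ _).mp (hg b' hb')
    have h1 : rTr g (coeffOf M v I * b') = rTr g (a' * coeffOf M v K) := by rw [hab']
    rw [rTr_mul, rTr_mul, ha'fix, hb'fix] at h1
    have h2 : rTr g (coeffOf M v I) * coeffOf M v K = coeffOf M v I * rTr g (coeffOf M v K) := by
      apply mul_right_cancel₀ hb'ne
      calc rTr g (coeffOf M v I) * coeffOf M v K * b'
          = (rTr g (coeffOf M v I) * b') * coeffOf M v K := by ring
        _ = (a' * coeffOf M v K) * rTr g (coeffOf M v K) := by rw [h1]; ring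
        _ = coeffOf M v I * rTr g (coeffOf M v K) * b' := by rw [← hab']; ring
    have h3 := congrArg (evA (1 : VecGrp.pt k k ⟶ G)) h2
    rw [map_mul, map_mul, ← evA_mul_rat, ← evA_mul_rat, _root_.one_mul, hev1, hev1, hK,
      _root_.mul_one] at h3
    rw [h3, smul_eq_mul]
  have hker := (hstab k (evA g)).mpr ⟨_, hline⟩
  exact Groth.Agent.Lib.T2H7.ObsRed.exists_factor_of_ker i g (fun a ha => hker a ha)

end Frac

/-- the coordinate ring of a connected smooth affine group is a domain -/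
theorem isDomain_Γ_of_connected [Smooth G.hom] [ConnectedSpace ↥G.left] :
    IsDomain Γ(G.left, ⊤) := by
  have : IsIntegral G.left := Groth.Agent.Lib.T2H7.RosGrp.isIntegral_of_smooth_connected G
  infer_instance

end Groth.Agent.Lib.T2H7.ObsFrac
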