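import Groth.Agent.Lib.T2H7ObsPts

/-!
# T2H7ObsHull: the observable hull fixes invariant vectors
-/

set_option autoImplicit false
set_option linter.style.haveILetI false
set_option linter.unusedSectionVars false
set_option linter.unusedVariables false
universe u

open CategoryTheory MonoidalCategory CartesianMonoidalCategory MonObj GrpObj AlgebraicGeometry
open scoped TensorProduct

namespace Groth.Agent.Lib.T2H7.ObsHull

open Groth.Agent.Lib.Helper25 Groth.Agent.Lib.Helper25.DensePts Groth.Agent.Lib.Helper25.SurjPts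
open Groth.Agent.Lib.Helper25.GModComod Groth.Agent.Lib.T2H7.ObsPts

variable {k : Type u} [Field k] {G : Over (Spec (CommRingCat.of k))} [GrpObj G] [IsAffine G.left]

attribute [local instance] instHopfΓ

variable {E : Type u} [AddCommGroup E] [Module k E]

/-- an element of `k ⊗ E` is determined by its images under linear forms -/
theorem eq_of_forall_dual (w : k ⊗[k] E) (a : E)
    (h : ∀ φ : E →ₗ[k] k, TensorProduct.rid k k (φ.lTensor k w) = φ a) : w = (1 : k) ⊗ₜ[k] a := by
  obtain ⟨w', rfl⟩ : ∃ w' : E, w = (1 : k) ⊗ₜ[k] w' :=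
    ⟨TensorProduct.lid k E w, by
      rw [← TensorProduct.lid_symm_apply, LinearEquiv.symm_apply_apply]⟩
  have h2 : w' - a = 0 := by
    rw [← Module.forall_dual_apply_eq_zero_iff k]
    intro φ
    have := h φ
    rw [LinearMap.lTensor_tmul, TensorProduct.rid_tmul, smul_eq_mul, _root_.mul_one] at this
    rw [map_sub, this, sub_self]
  rw [sub_eq_zero.mp h2]

/-- matrix coefficients of a vector fixed by all points of `H` are right-`H`-invariant -/
theorem isRTransInv_coeff {H : Over (Spec (CommRingCat.of k))} [IsAffine H.left] (i : H ⟶ G)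
    (m : VecGrp.GMod G E) (a : E) (ha : a ∈ m.fixedUnder i) (φ : E →ₗ[k] k) :
    AGF.IsRTransInv i (coeff m a φ) := by
  apply isRTransInv_of_evA
  intro B _ _ x y
  rw [evA_coeff, evA_coeff, map_mul]
  congr 2
  change m.ρ B x (m.ρ B (y ≫ i) ((1 : B) ⊗ₜ[k] a)) = _
  rw [ha B y]

/-- a rational point fixing all matrix coefficients of `a` under right translation fixes `a` -/
theorem rho_eq_of_isRTransInv_coeff (m : VecGrp.GMod G E) (a : E) (g : VecGrp.pt k k ⟶ G)
    (h : ∀ φ : E →ₗ[k] k, AGF.IsRTransInv g (coeff m a φ)) :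
    m.ρ k g ((1 : k) ⊗ₜ[k] a) = (1 : k) ⊗ₜ[k] a := by
  apply eq_of_forall_dual
  intro φ
  have h1 := evA_of_isRTransInv g (coeff m a φ) (h φ) (1 : VecGrp.pt k k ⟶ G) (𝟙 _)
  rw [Category.id_comp, _root_.one_mul, evA_coeff, evA_coeff, map_one] at h1
  rw [h1]
  change TensorProduct.rid k k (φ.lTensor k ((1 : k) ⊗ₜ[k] a)) = φ a
  rw [LinearMap.lTensor_tmul, TensorProduct.rid_tmul, smul_eq_mul, _root_.mul_one]

end Groth.Agent.Lib.T2H7.ObsHull
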