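import Groth.Agent.Lib.T2H7ObsTFAE
import Groth.Agent.Lib.Helper11GenFlat

/-!
# T2H7ObsOpen: the orbit map of an observable subgroup is open onto its image

* `isOpenMap_comap_of_transitive`: for a finitely generated reduced algebra `A` over an
  algebraically closed field and a finitely generated subalgebra `R₀` stable under a group of
  automorphisms of `A` transitive on rational points, `Spec A → Spec R₀` is open (generic flatness
  and homogeneity).
* `exists_invariant_of_stable_ideal`: for an observable subgroup `H ⊆ G`, an ideal `I` of `k[G]`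
  stable under right translation by the rational points of `H` and a rational point `g` outside
  `V(I)`, there is a right-`H`-invariant function in the radical of `I` not vanishing at `g`.
-/

set_option autoImplicit false
set_option linter.style.haveILetI false
set_option linter.unusedSectionVars false
set_option linter.unusedVariables false
universe u

open CategoryTheory MonoidalCategory CartesianMonoidalCategory MonObj GrpObj AlgebraicGeometry
open scoped TensorProduct

namespace Groth.Agent.Lib.T2H7.ObsOpen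

section Alg

variable {R A : Type u} [CommRing R] [CommRing A] [Algebra R A]

/-- generic flatness over a reduced Noetherian base, on a basic open -/
theorem exists_flat_away [IsNoetherianRing R] [_root_.IsReduced R] [Nontrivial R]
    [Algebra.FiniteType R A] :
    ∃ s : R, ¬ IsNilpotent s ∧ Module.Flat R (Localization.Away (algebraMap R A s)) := by
  let u : Spec (CommRingCat.of A) ⟶ Spec (CommRingCat.of R) :=
    Spec.map (CommRingCat.ofHom (algebraMap R A))
  have h1 : LocallyOfFiniteType u := by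
    rw [HasRingHomProperty.Spec_iff (P := @LocallyOfFiniteType)]
    exact RingHom.finiteType_algebraMap.mpr inferInstance
  have h2 : IsReduced (Spec (CommRingCat.of R)) := inferInstance
  have h3 : Nonempty ↥(Spec (CommRingCat.of R)) := inferInstanceAs (Nonempty (PrimeSpectrum R))
  have h4 : TopologicalSpace.NoetherianSpace ↥(Spec (CommRingCat.of R)) :=
    inferInstanceAs (TopologicalSpace.NoetherianSpace (PrimeSpectrum R))
  obtain ⟨V', hne, hflat⟩ := Groth.Agent.Lib.Helper11GenFlat.exists_open_flat u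
  obtain ⟨z, hz⟩ := hne
  obtain ⟨_, ⟨s, rfl⟩, hzs, hsV⟩ :=
    (PrimeSpectrum.isTopologicalBasis_basic_opens (R := R)).exists_subset_of_mem_open hz V'.isOpen
  refine ⟨s, ?_, ?_⟩
  · intro hnil
    have : z ∈ (PrimeSpectrum.basicOpen s : Set (PrimeSpectrum R)) := hzs
    rw [(PrimeSpectrum.basicOpen_eq_bot_iff s).mpr hnil] at this
    exact this
  · let j : Spec (CommRingCat.of (Localization.Away (algebraMap R A s))) ⟶ Spec (CommRingCat.of A) :=
      Spec.map (CommRingCat.ofHom (algebraMap A (Localization.Away (algebraMap R A s))))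
    have hj : IsOpenImmersion j := inferInstance
    have hrange : Set.range j ⊆ Set.range (u ⁻¹ᵁ V').ι := by
      rintro _ ⟨x, rfl⟩
      rw [Scheme.Opens.range_ι]
      apply hsV
      change u (j x) ∈ (PrimeSpectrum.basicOpen s : Set (PrimeSpectrum R))
      intro hmem
      have hunit : IsUnit (algebraMap A (Localization.Away (algebraMap R A s)) (algebraMap R A s)) :=
        IsLocalization.Away.algebraMap_isUnit _
      exact x.isPrime.ne_top (Ideal.eq_top_of_isUnit_mem _ hmem hunit)
    let l := IsOpenImmersion.lift (u ⁻¹ᵁ V').ι j hrange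
    have hl : l ≫ (u ⁻¹ᵁ V').ι = j := IsOpenImmersion.lift_fac _ _ _
    have hlo : IsOpenImmersion l := by
      have : IsOpenImmersion (l ≫ (u ⁻¹ᵁ V').ι) := by rw [hl]; exact hj
      exact IsOpenImmersion.of_comp l (u ⁻¹ᵁ V').ι
    have hfl : Flat (l ≫ (u ⁻¹ᵁ V').ι ≫ u) := inferInstance
    rw [← Category.assoc, hl] at hfl
    have hcomp : j ≫ u = Spec.map (CommRingCat.ofHom
        (algebraMap R (Localization.Away (algebraMap R A s)))) := by
      rw [← Spec.map_comp, ← CommRingCat.ofHom_comp,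
        ← IsScalarTower.algebraMap_eq R A (Localization.Away (algebraMap R A s))]
    rw [hcomp, Flat.SpecMap_iff] at hfl
    exact RingHom.flat_algebraMap_iff.mp hfl

/-- image of opens inside a basic open on which the map is flat -/
theorem isOpen_image_of_subset_basicOpen [IsNoetherianRing R] [Algebra.FiniteType R A] (s : R)
    (hfl : Module.Flat R (Localization.Away (algebraMap R A s)))
    (O : Set (PrimeSpectrum A)) (hO : IsOpen O)
    (hsub : O ⊆ (PrimeSpectrum.basicOpen (algebraMap R A s) : Set (PrimeSpectrum A))) :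
    IsOpen (PrimeSpectrum.comap (algebraMap R A) '' O) := by
  have hft : Algebra.FiniteType R (Localization.Away (algebraMap R A s)) :=
    Algebra.FiniteType.trans (inferInstanceAs (Algebra.FiniteType R A))
      (IsLocalization.finiteType_of_monoid_fg (Submonoid.powers (algebraMap R A s)) _)
  have hfp : Algebra.FinitePresentation R (Localization.Away (algebraMap R A s)) :=
    Algebra.FinitePresentation.of_finiteType.mp hft
  have hq : IsOpenMap (PrimeSpectrum.comap (algebraMap R (Localization.Away (algebraMap R A s)))) :=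
    PrimeSpectrum.isOpenMap_comap_of_hasGoingDown_of_finitePresentation
  have hrange := PrimeSpectrum.localization_away_comap_range
    (Localization.Away (algebraMap R A s)) (algebraMap R A s)
  have hι : Continuous (PrimeSpectrum.comap (algebraMap A (Localization.Away (algebraMap R A s)))) :=
    PrimeSpectrum.continuous_comap _
  have himg : PrimeSpectrum.comap (algebraMap R A) '' O =
      PrimeSpectrum.comap (algebraMap R (Localization.Away (algebraMap R A s))) ''
        (PrimeSpectrum.comap (algebraMap A (Localization.Away (algebraMap R A s))) ⁻¹' O) := by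
    ext z
    constructor
    · rintro ⟨y, hy, rfl⟩
      have : y ∈ Set.range (PrimeSpectrum.comap (algebraMap A (Localization.Away (algebraMap R A s)))) := by
        rw [hrange]; exact hsub hy
      obtain ⟨w, rfl⟩ := this
      refine ⟨w, hy, ?_⟩
      rw [IsScalarTower.algebraMap_eq R A (Localization.Away (algebraMap R A s)),
        PrimeSpectrum.comap_comp_apply]
    · rintro ⟨w, hw, rfl⟩
      refine ⟨_, hw, ?_⟩
      rw [IsScalarTower.algebraMap_eq R A (Localization.Away (algebraMap R A s)),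
        PrimeSpectrum.comap_comp_apply]
  rw [himg]
  exact hq _ (hO.preimage hι)

end Alg

/-- every maximal ideal of a finitely generated algebra over an algebraically closed field is the
kernel of a rational point -/
theorem exists_algHom_ker_eq {k : Type u} [Field k] [IsAlgClosed k]
    {A : Type u} [CommRing A] [Algebra k A] [Algebra.FiniteType k A] (m : Ideal A)
    [hm : m.IsMaximal] : ∃ x : A →ₐ[k] k, RingHom.ker x = m := by
  let _ : Field (A ⧸ m) := Ideal.Quotient.field m
  have hfin : Module.Finite k (A ⧸ m) := by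
    have : Algebra.FiniteType k (A ⧸ m) :=
      Algebra.FiniteType.of_surjective (Ideal.Quotient.mkₐ k m) (Ideal.Quotient.mkₐ_surjective k m)
    exact finite_of_finite_type_of_isJacobsonRing k (A ⧸ m)
  have hbij : Function.Bijective (algebraMap k (A ⧸ m)) :=
    IsAlgClosed.algebraMap_bijective_of_isIntegral
  let e : k ≃ₐ[k] (A ⧸ m) := AlgEquiv.ofBijective (Algebra.ofId k (A ⧸ m)) hbij
  refine ⟨(e.symm : (A ⧸ m) →ₐ[k] k).comp (Ideal.Quotient.mkₐ k m), ?_⟩
  ext a
  rw [RingHom.mem_ker]
  change e.symm (Ideal.Quotient.mk m a) = 0 ↔ _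
  rw [map_eq_zero_iff _ e.symm.injective, Ideal.Quotient.eq_zero_iff_mem]

theorem mem_radical_of_forall_maximal {A : Type*} [CommRing A] [IsJacobsonRing A] (J : Ideal A)
    (a : A) (h : ∀ m : Ideal A, m.IsMaximal → J ≤ m → a ∈ m) : a ∈ J.radical := by
  rw [Ideal.radical_eq_jacobson, Ideal.jacobson, Ideal.mem_sInf]
  rintro m ⟨hJm, hm⟩
  exact h m hm hJm

/-- **Homogeneity gives openness**: `Spec A → Spec R₀` is open when `R₀ ⊆ A` is stable under
automorphisms of `A` acting transitively on the rational points. -/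
theorem isOpenMap_comap_of_transitive {k : Type u} [Field k] [IsAlgClosed k]
    {A : Type u} [CommRing A] [Algebra k A] [Algebra.FiniteType k A] [_root_.IsReduced A]
    (R₀ : Subalgebra k A) (hfg : R₀.FG)
    (htr : ∀ x y : A →ₐ[k] k, ∃ τ : A ≃ₐ[k] A, (∀ r ∈ R₀, τ r ∈ R₀) ∧
      (∀ r ∈ R₀, τ.symm r ∈ R₀) ∧ y = x.comp (τ : A →ₐ[k] A)) :
    IsOpenMap (PrimeSpectrum.comap (algebraMap R₀ A)) := by
  rcases subsingleton_or_nontrivial A with hA | hA
  · intro O hO
    have : IsEmpty (PrimeSpectrum A) := inferInstance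
    have : O = ∅ := Set.eq_empty_of_isEmpty O
    rw [this, Set.image_empty]
    exact isOpen_empty
  have hinj : Function.Injective (algebraMap R₀ A) := Subtype.val_injective
  have hftR : Algebra.FiniteType k R₀ := (Subalgebra.fg_iff_finiteType R₀).mp hfg
  have hnoeth : IsNoetherianRing R₀ := Algebra.FiniteType.isNoetherianRing k R₀
  have hred : _root_.IsReduced R₀ := isReduced_of_injective (algebraMap R₀ A) hinj
  have hnt : Nontrivial R₀ := inferInstance
  have hftA : Algebra.FiniteType R₀ A := Algebra.FiniteType.of_restrictScalars_finiteType k R₀ A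
  have hJac : IsJacobsonRing A := isJacobsonRing_of_finiteType (A := k)
  obtain ⟨s, hs, hfl⟩ := exists_flat_away (R := R₀) (A := A)
  have hsA : ¬ IsNilpotent (algebraMap R₀ A s) := fun h => hs ((IsNilpotent.map_iff hinj).mp h)
  -- a rational point in the basic open
  obtain ⟨m₀, hm₀, hsm₀⟩ : ∃ m₀ : Ideal A, m₀.IsMaximal ∧ algebraMap R₀ A s ∉ m₀ := by
    by_contra hcon
    push Not at hcon
    apply hsA
    rw [← mem_nilradical]
    exact mem_radical_of_forall_maximal ⊥ _ (fun m hm _ => hcon m hm)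
  obtain ⟨x₀, hx₀⟩ := exists_algHom_ker_eq (k := k) m₀
  -- images of opens inside translates of the basic open are open
  have key : ∀ (τ : A ≃ₐ[k] A), (∀ r ∈ R₀, τ r ∈ R₀) → (∀ r ∈ R₀, τ.symm r ∈ R₀) →
      ∀ O : Set (PrimeSpectrum A), IsOpen O →
        O ⊆ PrimeSpectrum.comap (τ.symm : A →+* A) ⁻¹'
          (PrimeSpectrum.basicOpen (algebraMap R₀ A s) : Set (PrimeSpectrum A)) →
        IsOpen (PrimeSpectrum.comap (algebraMap R₀ A) '' O) := by
    intro τ h1 h2 O hO hsub
    let τR : R₀ →+* R₀ := (((τ : A →ₐ[k] A).comp R₀.val).codRestrict R₀ (fun r => h1 r r.2)).toRingHom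
    have hτR : ∀ r : R₀, algebraMap R₀ A (τR r) = τ (algebraMap R₀ A r) := fun r => rfl
    have hbij : Function.Bijective τR := by
      constructor
      · intro a b hab
        apply hinj
        apply τ.injective
        rw [← hτR, ← hτR, hab]
      · intro b
        refine ⟨⟨τ.symm b, h2 b b.2⟩, ?_⟩
        apply hinj
        rw [hτR]
        exact τ.apply_symm_apply _
    have hζ : IsOpenMap (PrimeSpectrum.comap τR) :=
      (PrimeSpectrum.isHomeomorph_comap_of_bijective hbij).isOpenMap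
    have hσ' : IsOpenMap (PrimeSpectrum.comap (τ.symm : A →+* A)) :=
      (PrimeSpectrum.isHomeomorph_comap_of_bijective τ.symm.bijective).isOpenMap
    have hO' : IsOpen (PrimeSpectrum.comap (τ.symm : A →+* A) '' O) := hσ' _ hO
    have hO'sub : PrimeSpectrum.comap (τ.symm : A →+* A) '' O ⊆
        (PrimeSpectrum.basicOpen (algebraMap R₀ A s) : Set (PrimeSpectrum A)) := by
      rintro _ ⟨y, hy, rfl⟩
      exact hsub hy
    have h3 := isOpen_image_of_subset_basicOpen (R := R₀) (A := A) s hfl _ hO' hO'sub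
    have h4 : PrimeSpectrum.comap (algebraMap R₀ A) '' O =
        PrimeSpectrum.comap τR '' (PrimeSpectrum.comap (algebraMap R₀ A) ''
          (PrimeSpectrum.comap (τ.symm : A →+* A) '' O)) := by
      rw [Set.image_image, Set.image_image]
      apply Set.image_congr
      intro y _
      rw [← PrimeSpectrum.comap_comp_apply, ← PrimeSpectrum.comap_comp_apply]
      congr 1
      ext r
      change algebraMap R₀ A r = τ.symm (algebraMap R₀ A (τR r))
      rw [hτR, τ.symm_apply_apply]
    rw [h4]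
    exact hζ _ h3
  have hcover : ∀ y : PrimeSpectrum A, ∃ τ : A ≃ₐ[k] A, (∀ r ∈ R₀, τ r ∈ R₀) ∧
      (∀ r ∈ R₀, τ.symm r ∈ R₀) ∧ y ∈ PrimeSpectrum.comap (τ.symm : A →+* A) ⁻¹'
          (PrimeSpectrum.basicOpen (algebraMap R₀ A s) : Set (PrimeSpectrum A)) := by
    intro y
    obtain ⟨m, hm, hym⟩ := Ideal.exists_le_maximal y.asIdeal y.isPrime.ne_top
    obtain ⟨x, hx⟩ := exists_algHom_ker_eq (k := k) m
    obtain ⟨τ, h1, h2, h3⟩ := htr x₀ x
    refine ⟨τ, h1, h2, ?_⟩
    change algebraMap R₀ A s ∉ (PrimeSpectrum.comap (τ.symm : A →+* A) y).asIdeal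
    intro hmem
    have h4 : τ.symm (algebraMap R₀ A s) ∈ y.asIdeal := hmem
    have h5 : τ.symm (algebraMap R₀ A s) ∈ RingHom.ker x := by rw [hx]; exact hym h4
    rw [RingHom.mem_ker, h3, AlgHom.comp_apply] at h5
    have h6 : x₀ (algebraMap R₀ A s) = 0 := by
      have : (τ : A →ₐ[k] A) (τ.symm (algebraMap R₀ A s)) = algebraMap R₀ A s :=
        τ.apply_symm_apply _
      rw [this] at h5
      exact h5
    apply hsm₀
    rw [← hx₀, RingHom.mem_ker]
    exact h6
  intro O hO
  have hOeq : PrimeSpectrum.comap (algebraMap R₀ A) '' O =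
      ⋃ τ : {τ : A ≃ₐ[k] A // (∀ r ∈ R₀, τ r ∈ R₀) ∧ (∀ r ∈ R₀, τ.symm r ∈ R₀)},
        PrimeSpectrum.comap (algebraMap R₀ A) '' (O ∩ PrimeSpectrum.comap (τ.1.symm : A →+* A) ⁻¹'
          (PrimeSpectrum.basicOpen (algebraMap R₀ A s) : Set (PrimeSpectrum A))) := by
    ext z
    simp only [Set.mem_image, Set.mem_iUnion]
    constructor
    · rintro ⟨y, hy, rfl⟩
      obtain ⟨τ, h1, h2, h3⟩ := hcover y
      exact ⟨⟨τ, h1, h2⟩, y, ⟨hy, h3⟩, rfl⟩
    · rintro ⟨τ, y, ⟨hy, -⟩, rfl⟩
      exact ⟨y, hy, rfl⟩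
  rw [hOeq]
  apply isOpen_iUnion
  rintro ⟨τ, h1, h2⟩
  apply key τ h1 h2
  · exact hO.inter ((PrimeSpectrum.basicOpen _).isOpen.preimage (PrimeSpectrum.continuous_comap _))
  · exact Set.inter_subset_right

section Grp

open Groth.Agent.Lib.Helper25 Groth.Agent.Lib.Helper25.DensePts Groth.Agent.Lib.Helper25.SurjPts
open Groth.Agent.Lib.Helper25.GModComod Groth.Agent.Lib.T2H7.ObsPts
open Groth.Agent.Lib.T2H7.ObsFin Groth.Agent.Lib.T2H7.ObsTFAE

variable {k : Type u} [Field k] {G : Over (Spec (CommRingCat.of k))} [GrpObj G] [IsAffine G.left]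

attribute [local instance] instHopfΓ

/-- left translation by a rational point, as an algebra endomorphism -/
noncomputable def lTrAlg (x : VecGrp.pt k k ⟶ G) : Γ(G.left, ⊤) →ₐ[k] Γ(G.left, ⊤) :=
  (Algebra.TensorProduct.lid k Γ(G.left, ⊤)).toAlgHom.comp
    ((Algebra.TensorProduct.map (evA x) (AlgHom.id k Γ(G.left, ⊤))).comp
      (Bialgebra.comulAlgHom k Γ(G.left, ⊤)))

theorem lTrAlg_apply (x : VecGrp.pt k k ⟶ G) (f : Γ(G.left, ⊤)) : lTrAlg x f = lTr x f := by
  have h : ∀ w : Γ(G.left, ⊤) ⊗[k] Γ(G.left, ⊤),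
      Algebra.TensorProduct.map (evA x) (AlgHom.id k Γ(G.left, ⊤)) w =
        (evA x).toLinearMap.rTensor Γ(G.left, ⊤) w := by
    intro w
    induction w using TensorProduct.induction_on with
    | zero => simp
    | add a b ha hb => simp only [map_add, ha, hb]
    | tmul a b => rfl
  change Algebra.TensorProduct.lid k Γ(G.left, ⊤)
    (Algebra.TensorProduct.map (evA x) (AlgHom.id k Γ(G.left, ⊤))
      (CoalgebraStruct.comul (R := k) f)) = _
  rw [h, lTr]
  rfl

variable [IsAlgClosed k]

theorem lTr_lTr [_root_.IsReduced Γ(G.left, ⊤)] (x y : VecGrp.pt k k ⟶ G) (f : Γ(G.left, ⊤)) :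
    lTr y (lTr x f) = lTr (x * y) f := by
  rw [← sub_eq_zero]
  apply eq_zero_of_forall_evA
  intro z
  rw [map_sub, sub_eq_zero, ← evA_mul_rat', ← evA_mul_rat', ← evA_mul_rat', _root_.mul_assoc]

theorem lTr_one [_root_.IsReduced Γ(G.left, ⊤)] (f : Γ(G.left, ⊤)) :
    lTr (1 : VecGrp.pt k k ⟶ G) f = f := by
  rw [← sub_eq_zero]
  apply eq_zero_of_forall_evA
  intro z
  rw [map_sub, sub_eq_zero, ← evA_mul_rat', _root_.one_mul]

/-- left translation by a rational point, as an algebra automorphism -/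
noncomputable def lTrEquiv [_root_.IsReduced Γ(G.left, ⊤)] (x : VecGrp.pt k k ⟶ G) :
    Γ(G.left, ⊤) ≃ₐ[k] Γ(G.left, ⊤) :=
  AlgEquiv.ofAlgHom (lTrAlg x) (lTrAlg x⁻¹)
    (by
      ext f
      rw [AlgHom.comp_apply, lTrAlg_apply, lTrAlg_apply, lTr_lTr, inv_mul_cancel, lTr_one]
      rfl)
    (by
      ext f
      rw [AlgHom.comp_apply, lTrAlg_apply, lTrAlg_apply, lTr_lTr, mul_inv_cancel, lTr_one]
      rfl)

theorem lTrEquiv_apply [_root_.IsReduced Γ(G.left, ⊤)] (x : VecGrp.pt k k ⟶ G)
    (f : Γ(G.left, ⊤)) : lTrEquiv x f = lTr x f := lTrAlg_apply x f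

theorem lTrEquiv_symm_apply [_root_.IsReduced Γ(G.left, ⊤)] (x : VecGrp.pt k k ⟶ G)
    (f : Γ(G.left, ⊤)) : (lTrEquiv x).symm f = lTr x⁻¹ f := lTrAlg_apply x⁻¹ f

variable {H : Over (Spec (CommRingCat.of k))} [GrpObj H] [IsAffine H.left]

/-- an observable subgroup has a finitely generated algebra of invariants, stable under left
translations, separating its cosets -/
theorem exists_sepSubalgebra [Smooth G.hom] (i : H ⟶ G) (hobs : AGF.IsObservableIn k i) :
    ∃ R₀ : Subalgebra k Γ(G.left, ⊤), R₀.FG ∧ (∀ r ∈ R₀, AGF.IsRTransInv i r) ∧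
      (∀ (x : VecGrp.pt k k ⟶ G), ∀ r ∈ R₀, lTr x r ∈ R₀) ∧
      ∀ g g' : VecGrp.pt k k ⟶ G, (∀ r ∈ R₀, evA g r = evA g' r) →
        ∃ h : VecGrp.pt k k ⟶ H, g' = g * (h ≫ i) := by
  classical
  have hR : _root_.IsReduced Γ(G.left, ⊤) := isReduced_Γ (k := k)
  obtain ⟨s, hs1, hs2⟩ := exists_separating i hobs
  let S : Set Γ(G.left, ⊤) := {d | ∃ f ∈ s, ∃ x : VecGrp.pt k k ⟶ G, d = lTr x f}
  have hWfg : (Submodule.span k S).FG := by
    choose T hT using fun f : Γ(G.left, ⊤) => exists_finset_lTr_mem (k := k) (G := G) f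
    have hle : Submodule.span k S ≤
        Submodule.span k ((s.biUnion T : Finset Γ(G.left, ⊤)) : Set Γ(G.left, ⊤)) := by
      rw [Submodule.span_le]
      rintro d ⟨f, hf, x, rfl⟩
      refine Submodule.span_mono ?_ (hT f x)
      intro a ha
      exact Finset.mem_coe.mpr (Finset.mem_biUnion.mpr ⟨f, hf, ha⟩)
    have h1 : FiniteDimensional k (Submodule.span k
        ((s.biUnion T : Finset Γ(G.left, ⊤)) : Set Γ(G.left, ⊤))) :=
      FiniteDimensional.span_finset k _
    have h2 := Submodule.finiteDimensional_of_le hle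
    exact (Submodule.fg_iff_finiteDimensional _).mpr h2
  obtain ⟨S', hS'S, hS'⟩ := (Submodule.fg_span_iff_fg_span_finset_subset S).mp hWfg
  refine ⟨Algebra.adjoin k S, ?_, ?_, ?_, ?_⟩
  · have : Algebra.adjoin k S = Algebra.adjoin k (S' : Set Γ(G.left, ⊤)) := by
      rw [← Algebra.adjoin_span (R := k) (s := S), hS', Algebra.adjoin_span]
    rw [this]
    exact Subalgebra.fg_adjoin_finset S'
  · intro r hr
    rw [isRTransInv_iff]
    intro B _ _ x y
    induction hr using Algebra.adjoin_induction with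
    | mem d hd =>
      obtain ⟨f, hf, x', rfl⟩ := hd
      exact evA_of_isRTransInv i _ (isRTransInv_lTr i f (hs1 f hf) x') x y
    | algebraMap c => rw [AlgHom.commutes, AlgHom.commutes]
    | add a b _ _ ha hb => rw [map_add, map_add, ha, hb]
    | mul a b _ _ ha hb => rw [map_mul, map_mul, ha, hb]
  · intro x r hr
    rw [← lTrAlg_apply]
    have hle : (Algebra.adjoin k S).map (lTrAlg x) ≤ Algebra.adjoin k S := by
      rw [AlgHom.map_adjoin, Algebra.adjoin_le_iff]
      rintro _ ⟨d, ⟨f, hf, x', rfl⟩, rfl⟩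
      apply Algebra.subset_adjoin
      refine ⟨f, hf, x' * x, ?_⟩
      rw [lTrAlg_apply, lTr_lTr]
    exact hle ⟨r, hr, rfl⟩
  · intro g g' hgg'
    apply hs2 g g'
    intro f hf
    apply hgg'
    apply Algebra.subset_adjoin
    exact ⟨f, hf, 1, (lTr_one f).symm⟩

/-- **Key lemma**: invariants of an observable subgroup separate a rational point from a closed
subset stable under right translation by the subgroup. -/
theorem exists_invariant_of_stable_ideal [Smooth G.hom] (i : H ⟶ G)
    (hobs : AGF.IsObservableIn k i) (I : Ideal Γ(G.left, ⊤))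
    (hI : ∀ (h : VecGrp.pt k k ⟶ H), ∀ f ∈ I, rTr (h ≫ i) f ∈ I)
    (g : VecGrp.pt k k ⟶ G) (hg : ∃ f ∈ I, evA g f ≠ 0) :
    ∃ a : Γ(G.left, ⊤), AGF.IsRTransInv i a ∧ a ∈ I.radical ∧ evA g a ≠ 0 := by
  have hR : _root_.IsReduced Γ(G.left, ⊤) := isReduced_Γ (k := k)
  have hFT : Algebra.FiniteType k Γ(G.left, ⊤) := finiteType_Γ (k := k) (G := G)
  have hJac : IsJacobsonRing Γ(G.left, ⊤) := isJacobsonRing_of_finiteType (A := k)
  obtain ⟨R₀, hfg, hinv, hlTr, hsep⟩ := exists_sepSubalgebra i hobs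
  have hopen : IsOpenMap (PrimeSpectrum.comap (algebraMap R₀ Γ(G.left, ⊤))) := by
    apply isOpenMap_comap_of_transitive R₀ hfg
    intro x y
    refine ⟨lTrEquiv (ptA y * (ptA x)⁻¹), fun r hr => ?_, fun r hr => ?_, ?_⟩
    · rw [lTrEquiv_apply]; exact hlTr _ r hr
    · rw [lTrEquiv_symm_apply]; exact hlTr _ r hr
    · ext f
      rw [AlgHom.comp_apply]
      change y f = x (lTrEquiv (ptA y * (ptA x)⁻¹) f)
      rw [lTrEquiv_apply]
      have h0 : x (lTr (ptA y * (ptA x)⁻¹) f) = evA (ptA x) (lTr (ptA y * (ptA x)⁻¹) f) := by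
        rw [evA_ptA]
      rw [h0, ← evA_mul_rat', inv_mul_cancel_right, evA_ptA]
  -- the open complement of `V(I)`
  have hUopen : IsOpen ((PrimeSpectrum.zeroLocus (I : Set Γ(G.left, ⊤)))ᶜ) :=
    (PrimeSpectrum.isClosed_zeroLocus _).isOpen_compl
  have hpU := hopen _ hUopen
  let Pg : PrimeSpectrum Γ(G.left, ⊤) := ⟨RingHom.ker (evA g), RingHom.ker_isPrime _⟩
  have hPg : Pg ∈ (PrimeSpectrum.zeroLocus (I : Set Γ(G.left, ⊤)))ᶜ := by
    obtain ⟨f, hf, hfg'⟩ := hg
    intro hmem
    exact hfg' (hmem hf)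
  obtain ⟨_, ⟨a, rfl⟩, hPa, haU⟩ :=
    (PrimeSpectrum.isTopologicalBasis_basic_opens (R := R₀)).exists_subset_of_mem_open
      (Set.mem_image_of_mem _ hPg) hpU
  refine ⟨(a : Γ(G.left, ⊤)), hinv _ a.2, ?_, ?_⟩
  · apply mem_radical_of_forall_maximal
    intro m hm hIm
    by_contra ham
    obtain ⟨x, hx⟩ := exists_algHom_ker_eq (k := k) m
    let Pm : PrimeSpectrum Γ(G.left, ⊤) := ⟨m, hm.isPrime⟩
    have h1 : PrimeSpectrum.comap (algebraMap R₀ Γ(G.left, ⊤)) Pm ∈
        (PrimeSpectrum.basicOpen a : Set (PrimeSpectrum R₀)) := ham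
    obtain ⟨Q, hQU, hQ⟩ := haU h1
    -- a function of `I` outside `Q`
    obtain ⟨f₀, hf₀I, hf₀Q⟩ : ∃ f₀ ∈ I, f₀ ∉ Q.asIdeal := by
      by_contra hcon
      push Not at hcon
      exact hQU (fun f hf => hcon f hf)
    -- a maximal ideal above `Q` missing `f₀`
    obtain ⟨m', hm', hQm', hf₀m'⟩ : ∃ m' : Ideal Γ(G.left, ⊤), m'.IsMaximal ∧ Q.asIdeal ≤ m' ∧
        f₀ ∉ m' := by
      by_contra hcon
      push Not at hcon
      apply hf₀Q
      have := mem_radical_of_forall_maximal Q.asIdeal f₀ (fun m' hm' hle => hcon m' hm' hle)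
      rwa [Q.isPrime.radical] at this
    obtain ⟨x', hx'⟩ := exists_algHom_ker_eq (k := k) m'
    have hagree : ∀ r ∈ R₀, evA (ptA x) r = evA (ptA x') r := by
      intro r hr
      rw [evA_ptA, evA_ptA]
      have h2 : r - algebraMap k Γ(G.left, ⊤) (x r) ∈ R₀ :=
        R₀.sub_mem hr (R₀.algebraMap_mem _)
      have h3 : (⟨r - algebraMap k Γ(G.left, ⊤) (x r), h2⟩ : R₀) ∈
          (PrimeSpectrum.comap (algebraMap R₀ Γ(G.left, ⊤)) Pm).asIdeal := by
        change r - algebraMap k Γ(G.left, ⊤) (x r) ∈ m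
        rw [← hx, RingHom.mem_ker, map_sub, AlgHom.commutes]
        exact sub_self _
      rw [← hQ] at h3
      have h4 : r - algebraMap k Γ(G.left, ⊤) (x r) ∈ Q.asIdeal := h3
      have h5 : r - algebraMap k Γ(G.left, ⊤) (x r) ∈ RingHom.ker x' := by
        rw [hx']; exact hQm' h4
      rw [RingHom.mem_ker, map_sub, AlgHom.commutes, sub_eq_zero] at h5
      exact h5.symm
    obtain ⟨h, hh⟩ := hsep (ptA x) (ptA x') hagree
    apply hf₀m'
    rw [← hx', RingHom.mem_ker]
    have h6 : x' f₀ = evA (ptA x') f₀ := by rw [evA_ptA]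
    rw [h6, hh, evA_mul_rat, evA_ptA]
    have h7 : rTr (h ≫ i) f₀ ∈ RingHom.ker x := by
      rw [hx]; exact hIm (hI h f₀ hf₀I)
    exact h7
  · intro h0
    apply hPa
    change (a : Γ(G.left, ⊤)) ∈ RingHom.ker (evA g)
    exact h0

end Grp

end Groth.Agent.Lib.T2H7.ObsOpen
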