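import Groth.Agent.Lib.T2H7ObsRestr

set_option autoImplicit false
set_option linter.style.haveILetI false
set_option linter.unusedSectionVars false
set_option linter.unusedVariables false
universe u

open CategoryTheory MonoidalCategory CartesianMonoidalCategory MonObj GrpObj AlgebraicGeometry
open scoped TensorProduct

namespace Groth.Agent.Lib.T2H7.ObsOver

open Groth.Agent.Lib.Helper25 Groth.Agent.Lib.Helper25.DensePts Groth.Agent.Lib.Helper25.SurjPts
open Groth.Agent.Lib.Helper25.GModComod Groth.Agent.Lib.T2H7.ObsPts Groth.Agent.Lib.T2H7.ObsFin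
open Groth.Agent.Lib.T2H7.ObsTFAE Groth.Agent.Lib.T2H7.ObsChar Groth.Agent.Lib.T2H7.ObsCrit
open Groth.Agent.Lib.T2H7.ObsCodim Groth.Agent.Lib.T2H7.GrossTransfer
open Groth.Agent.Lib.T2H7.ObsFinIdx Groth.Agent.Lib.T2H7.ObsRed Groth.Agent.Lib.T2H7.ObsEpi
open Groth.Agent.Lib.T2H7.ObsExt Groth.Agent.Lib.T2H7.ObsRestr

variable {k : Type u} [Field k] [IsAlgClosed k]
  {L : Over (Spec (CommRingCat.of k))} [GrpObj L] [IsAffine L.left]
  {G : Over (Spec (CommRingCat.of k))} [GrpObj G] [IsAffine G.left]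
  {H : Over (Spec (CommRingCat.of k))} [GrpObj H] [IsAffine H.left]
  {G₁ : Over (Spec (CommRingCat.of k))} [GrpObj G₁] [IsAffine G₁.left]

attribute [local instance] instHopfΓ

/-- **Grosshans subgroups of a reductive subgroup are Grosshans in any overgroup.** -/
theorem subringFGOver_overgroup [Smooth L.hom] (jG : G ⟶ L) [IsMonHom jG] (i : H ⟶ G) [IsMonHom i]
    (hG : VecGrp.IsReductiveGrp k G) (thmA : VecGrp.ReductiveInvariantsFG k)
    (hfg : AGF.SubringFGOver k G (AGF.rTransInv i)) :
    AGF.SubringFGOver k L (AGF.rTransInv (i ≫ jG)) := by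
  haveI hft : Algebra.FiniteType k Γ(L.left, ⊤) := finiteType_Γ (k := k) (G := L)
  have h1 := finiteType_fixedSubalgebra_of_fg i hG thmA hfg Γ(L.left, ⊤)
    (resGMod jG (regGMod (G := L))) (isMult_resGMod jG _ (isMult_regGMod (G := L)))
  have e : (resGMod jG (regGMod (G := L))).fixedSubalgebra
      (isMult_resGMod jG _ (isMult_regGMod (G := L))) i =
      (regGMod (G := L)).fixedSubalgebra (isMult_regGMod (G := L)) (i ≫ jG) := by
    ext f
    constructor
    · intro hf B _ _ h
      have := hf B h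
      rw [resGMod_apply, Category.assoc] at this
      exact this
    · intro hf B _ _ h
      have := hf B h
      rw [resGMod_apply, Category.assoc]
      exact this
  rw [e] at h1
  exact subringFGOver_of_finiteType (i ≫ jG) h1

/-- **Grosshans subgroups in observable overgroups.** -/
theorem grosshans_overgroup [Smooth L.hom] [Smooth G.hom] [Smooth H.hom] [Smooth G₁.hom]
    (jG : G ⟶ L) [IsMonHom jG] [IsClosedImmersion jG.left]
    (hG : VecGrp.IsReductiveGrp k G) (i : H ⟶ G) [IsMonHom i] [IsClosedImmersion i.left]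
    (hH : AGF.IsObservableIn k i) (hfg : AGF.SubringFGOver k G (AGF.rTransInv i))
    (j₁ : G₁ ⟶ L) [IsMonHom j₁] [IsClosedImmersion j₁.left]
    (hG₁ : AGF.IsObservableIn k j₁) (i₁ : H ⟶ G₁) [IsMonHom i₁] (hc : i₁ ≫ j₁ = i ≫ jG)
    (thmA : VecGrp.ReductiveInvariantsFG k) (thmAbiv : AGF.ReductiveQuotSeparates k) :
    AGF.IsObservableIn k i₁ ∧ AGF.SubringFGOver k G₁ (AGF.rTransInv i₁) := by
  have hGL : AGF.IsObservableIn k jG := observable_of_separates jG hG thmAbiv
  have hHL : AGF.IsObservableIn k (i ≫ jG) := observable_trans i jG hH hGL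
  have hfgL : AGF.SubringFGOver k L (AGF.rTransInv (i ≫ jG)) :=
    subringFGOver_overgroup jG i hG thmA hfg
  rw [← hc] at hHL hfgL
  have hcl1 : IsClosedImmersion (i ≫ jG).left := by
    rw [Over.comp_left]
    infer_instance
  have hcl2 : IsClosedImmersion (i₁.left ≫ j₁.left) := by
    rw [← Over.comp_left, hc]
    exact hcl1
  haveI hcl3 : IsClosedImmersion i₁.left :=
    IsClosedImmersion.of_comp_isClosedImmersion i₁.left j₁.left
  exact grosshans_intermediate j₁ i₁ hHL hG₁ hfgL

end Groth.Agent.Lib.T2H7.ObsOver
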