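import Groth.Agent.Lib.Helper25SurjPts
import Groth.Agent.Lib.Helper25GModComod
import Groth.Prelude.Def_W4bk4grossh111Obs

/-!
# T2H7ObsPts: points calculus for an affine group scheme over a field

For an affine group scheme `G` over a field `k`, `A = Γ(G)` with Mathlib's Hopf algebra structure
(`Helper25.DensePts.instHopfΓ`):
* `eΓ : G ≅ GS k A`, an isomorphism of group schemes (`comp_eΓ_mul`, `comp_eΓ_one`);
* `evA g : A →ₐ[k] B` for a point `g : pt k B ⟶ G` (the evaluation homomorphism), multiplicative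
  for the convolution product (`evA_mul`, `evA_one`), natural (`evA_ptMap_comp`), bijective
  (`ptA`, `ptA_evA`, `evA_ptA`), computed by `appTop` (`evA_apply`).
-/

set_option autoImplicit false
set_option linter.style.haveILetI false
set_option linter.unusedSectionVars false
set_option linter.unusedVariables false
universe u

open CategoryTheory MonoidalCategory CartesianMonoidalCategory MonObj GrpObj AlgebraicGeometry
open scoped TensorProduct

namespace Groth.Agent.Lib.T2H7.ObsPts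

open Groth.Agent.Lib.Helper25 Groth.Agent.Lib.Helper25.DensePts Groth.Agent.Lib.Helper25.SurjPts
open Groth.Agent.Lib.Helper25.GModComod

section Iso

variable (k : Type u) [Field k] (G : Over (Spec (CommRingCat.of k))) [GrpObj G] [IsAffine G.left]

attribute [local instance] instHopfΓ

/-- the isomorphism of `G` with the spectrum of its Hopf algebra of functions -/
noncomputable def eΓ : G ≅ GS k Γ(G.left, ⊤) := isoΓ k G

theorem eΓ_hom_left : (eΓ k G).hom.left = G.left.isoSpec.hom := rfl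

theorem eΓ_inv_left : (eΓ k G).inv.left = G.left.isoSpec.inv := rfl

attribute [local instance] instOver instAlgΓ instBraided in
theorem mul_eq :
    (instGrpObjSpecAsOverSpec : GrpObj (GS k Γ(G.left, ⊤))).mul = (grpSpecΓ k G).mul := by
  apply Over.OverMorphism.ext
  rw [mul_spec_asOver_spec_left]
  letI := grpSpecΓ k G
  letI := grpXΓ k G
  have h1 : (algSpec (CommRingCat.of k)).map (μ[XΓ k G]) =
      Functor.OplaxMonoidal.δ (algSpec (CommRingCat.of k)) _ _ ≫
        μ[(algSpec (CommRingCat.of k)).obj (XΓ k G)] :=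
    Functor.FullyFaithful.map_preimage _ _
  have h2 := congrArg (fun t => t.left) h1
  have h3 : (pullbackSpecIso k Γ(G.left, ⊤) Γ(G.left, ⊤)).hom ≫
      ((algSpec (CommRingCat.of k)).map (μ[XΓ k G])).left
      = μ[(algSpec (CommRingCat.of k)).obj (XΓ k G)].left := by
    rw [h2]
    change (pullbackSpecIso k Γ(G.left, ⊤) Γ(G.left, ⊤)).hom ≫
      (pullbackSpecIso k Γ(G.left, ⊤) Γ(G.left, ⊤)).inv ≫ _ = _
    rw [Iso.hom_inv_id_assoc]
  exact h3

theorem mul_GS : μ[GS k Γ(G.left, ⊤)] =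
    ((eΓ k G).inv ⊗ₘ (eΓ k G).inv) ≫ μ[G] ≫ (eΓ k G).hom := mul_eq k G

theorem comp_eΓ_mul {T : Over (Spec (CommRingCat.of k))} (g g' : T ⟶ G) :
    (g * g') ≫ (eΓ k G).hom = (g ≫ (eΓ k G).hom) * (g' ≫ (eΓ k G).hom) := by
  rw [Hom.mul_def, Hom.mul_def, mul_GS, Category.assoc]
  have h : lift (g ≫ (eΓ k G).hom) (g' ≫ (eΓ k G).hom) ≫ ((eΓ k G).inv ⊗ₘ (eΓ k G).inv) =
      lift g g' := by
    rw [lift_map, Category.assoc, Category.assoc, Iso.hom_inv_id, Category.comp_id,
      Category.comp_id]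
  rw [← Category.assoc (lift (g ≫ (eΓ k G).hom) (g' ≫ (eΓ k G).hom)), h]

theorem comp_eΓ_one {T : Over (Spec (CommRingCat.of k))} :
    (1 : T ⟶ G) ≫ (eΓ k G).hom = 1 := by
  have h := comp_eΓ_mul k G (1 : T ⟶ G) 1
  rw [_root_.mul_one] at h
  exact left_eq_mul.mp h

end Iso

section Pts

variable {k : Type u} [Field k] {G : Over (Spec (CommRingCat.of k))} [GrpObj G] [IsAffine G.left]

attribute [local instance] instHopfΓ

variable {B : Type u} [CommRing B] [Algebra k B]

/-- the evaluation homomorphism `Γ(G) → B` of a `B`-point of `G` -/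
noncomputable def evA (g : VecGrp.pt k B ⟶ G) : Γ(G.left, ⊤) →ₐ[k] B :=
  algOf (g ≫ (eΓ k G).hom)

/-- the `B`-point of `G` with given evaluation homomorphism -/
noncomputable def ptA (f : Γ(G.left, ⊤) →ₐ[k] B) : VecGrp.pt k B ⟶ G :=
  ptOf f ≫ (eΓ k G).inv

theorem evA_ptA (f : Γ(G.left, ⊤) →ₐ[k] B) : evA (ptA f) = f := by
  rw [evA, ptA, Category.assoc, Iso.inv_hom_id, Category.comp_id, algOf_ptOf]

theorem ptA_evA (g : VecGrp.pt k B ⟶ G) : ptA (evA g) = g := by
  rw [evA, ptA, ptOf_algOf, Category.assoc, Iso.hom_inv_id, Category.comp_id]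

theorem evA_injective : Function.Injective (evA : (VecGrp.pt k B ⟶ G) → _) := fun g g' h => by
  rw [← ptA_evA g, h, ptA_evA]

theorem evA_mul (g g' : VecGrp.pt k B ⟶ G) :
    evA (g * g') = (WithConv.toConv (evA g) * WithConv.toConv (evA g')).ofConv := by
  rw [evA, comp_eΓ_mul, algOf_mul]
  rfl

theorem evA_one : evA (1 : VecGrp.pt k B ⟶ G) = (1 : WithConv (Γ(G.left, ⊤) →ₐ[k] B)).ofConv := by
  rw [evA, comp_eΓ_one, algOf_one]

theorem evA_ptMap_comp {B' : Type u} [CommRing B'] [Algebra k B'] (φ : B →ₐ[k] B')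
    (g : VecGrp.pt k B ⟶ G) : evA (VecGrp.ptMap φ ≫ g) = φ.comp (evA g) := by
  rw [evA, Category.assoc, algOf_ptMap_comp]
  rfl

theorem evA_apply (g : VecGrp.pt k B ⟶ G) (f : Γ(G.left, ⊤)) :
    evA g f = (Scheme.ΓSpecIso (CommRingCat.of B)).hom (g.left.appTop f) := by
  have h0 : g.left ≫ G.left.toSpecΓ =
      Spec.map (g.left.appTop ≫ (Scheme.ΓSpecIso (CommRingCat.of B)).hom) := by
    rw [Scheme.toSpecΓ_naturality, Spec.map_comp, SpecMap_ΓSpecIso_hom]
    rfl
  have h2 : Spec.preimage (g.left ≫ G.left.toSpecΓ) =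
      g.left.appTop ≫ (Scheme.ΓSpecIso (CommRingCat.of B)).hom := by
    rw [h0, Spec.preimage_map]
  change (Spec.preimage (g.left ≫ G.left.toSpecΓ)).hom f = _
  rw [h2]
  rfl

end Pts

section Conv

variable {k : Type u} [Field k] {G : Over (Spec (CommRingCat.of k))} [GrpObj G] [IsAffine G.left]

attribute [local instance] instHopfΓ

variable {B : Type u} [CommRing B] [Algebra k B]

theorem evA_mul_apply (g g' : VecGrp.pt k B ⟶ G) (f : Γ(G.left, ⊤)) :
    evA (g * g') f = pm (evA g) (evA g') (CoalgebraStruct.comul (R := k) f) := by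
  rw [evA_mul]
  rfl

theorem evA_one_apply (f : Γ(G.left, ⊤)) :
    evA (1 : VecGrp.pt k B ⟶ G) f = algebraMap k B (CoalgebraStruct.counit (R := k) f) := by
  rw [evA_one]
  rfl

end Conv

theorem appTop_comp_apply {X Y Z : Scheme.{u}} (f : X ⟶ Y) (g : Y ⟶ Z) (z : Γ(Z, ⊤)) :
    (f ≫ g).appTop z = f.appTop (g.appTop z) := by
  rw [Scheme.Hom.comp_appTop]; rfl

theorem left_appTop_comp_apply {S : Scheme.{u}} {X Y Z : Over S} (f : X ⟶ Y) (g : Y ⟶ Z)
    (z : Γ(Z.left, ⊤)) : (f ≫ g).left.appTop z = f.left.appTop (g.left.appTop z) := by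
  rw [Over.comp_left, appTop_comp_apply]

section TransInv

variable {k : Type u} [Field k] {G : Over (Spec (CommRingCat.of k))} [GrpObj G] [IsAffine G.left]

attribute [local instance] instHopfΓ

theorem lift_whisker_mul {T X : Over (Spec (CommRingCat.of k))} (t : T ⟶ G) (x : X ⟶ G)
    (y : X ⟶ T) : lift x y ≫ (G ◁ t) ≫ μ[G] = x * (y ≫ t) := by
  rw [Hom.mul_def, ← Category.assoc, lift_whiskerLeft]

theorem evA_of_isRTransInv {T : Over (Spec (CommRingCat.of k))} (t : T ⟶ G) (f : Γ(G.left, ⊤))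
    (h : AGF.IsRTransInv t f) {B : Type u} [CommRing B] [Algebra k B]
    (x : VecGrp.pt k B ⟶ G) (y : VecGrp.pt k B ⟶ T) : evA (x * (y ≫ t)) f = evA x f := by
  have h1 := congrArg (fun a => (Scheme.ΓSpecIso (CommRingCat.of B)).hom
    ((lift x y).left.appTop a)) h
  simp only [← left_appTop_comp_apply] at h1
  rw [evA_apply, evA_apply, ← lift_whisker_mul t x y]
  have e2 : x = lift x y ≫ fst G T := (lift_fst x y).symm
  conv_rhs => rw [e2]
  exact h1

/-- a universal point of an affine `k`-scheme: a point at which evaluation is injective -/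
theorem exists_univ_pt (P : Over (Spec (CommRingCat.of k))) [IsAffine P.left] :
    ∃ (B : Type u) (_ : CommRing B) (_ : Algebra k B) (z : VecGrp.pt k B ⟶ P),
      Function.Injective (fun a : Γ(P.left, ⊤) => z.left.appTop a) := by
  letI := instOver k P
  letI := instAlgΓ k P
  refine ⟨Γ(P.left, ⊤), inferInstance, inferInstance, (isoΓ k P).inv, ?_⟩
  have : IsIso (isoΓ k P).inv.left := by
    change IsIso P.left.isoSpec.inv
    infer_instance
  have h2 : IsIso (isoΓ k P).inv.left.appTop :=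
    inferInstanceAs (IsIso ((isoΓ k P).inv.left.app ⊤))
  exact (ConcreteCategory.bijective_of_isIso (isoΓ k P).inv.left.appTop).1

theorem isRTransInv_of_evA {T : Over (Spec (CommRingCat.of k))} [IsAffine T.left] (t : T ⟶ G)
    (f : Γ(G.left, ⊤))
    (h : ∀ (B : Type u) [CommRing B] [Algebra k B] (x : VecGrp.pt k B ⟶ G)
      (y : VecGrp.pt k B ⟶ T), evA (x * (y ≫ t)) f = evA x f) : AGF.IsRTransInv t f := by
  have hP : IsAffine (G ⊗ T).left := by
    change IsAffine (Limits.pullback G.hom T.hom)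
    infer_instance
  obtain ⟨B, _, _, z, hz⟩ := exists_univ_pt (G ⊗ T)
  have h1 := h B (z ≫ fst G T) (z ≫ snd G T)
  have hz2 : z ≫ (G ◁ t) ≫ μ[G] = (z ≫ fst G T) * ((z ≫ snd G T) ≫ t) := by
    rw [← lift_whisker_mul t (z ≫ fst G T) (z ≫ snd G T)]
    congr 1
    apply CartesianMonoidalCategory.hom_ext <;> simp
  rw [← hz2, evA_apply, evA_apply] at h1
  have h2 := (ConcreteCategory.bijective_of_isIso (Scheme.ΓSpecIso (CommRingCat.of B)).hom).1 h1
  apply hz
  change z.left.appTop (((G ◁ t) ≫ μ[G]).left.appTop f) = z.left.appTop ((fst G T).left.appTop f)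
  rw [← left_appTop_comp_apply, ← left_appTop_comp_apply]
  exact h2

theorem isRTransInv_iff {T : Over (Spec (CommRingCat.of k))} [IsAffine T.left] (t : T ⟶ G)
    (f : Γ(G.left, ⊤)) :
    AGF.IsRTransInv t f ↔ ∀ (B : Type u) [CommRing B] [Algebra k B] (x : VecGrp.pt k B ⟶ G)
      (y : VecGrp.pt k B ⟶ T), evA (x * (y ≫ t)) f = evA x f :=
  ⟨fun h B _ _ x y => evA_of_isRTransInv t f h x y, isRTransInv_of_evA t f⟩

end TransInv

section GModBridge

variable {k : Type u} [Field k] {G : Over (Spec (CommRingCat.of k))} [GrpObj G] [IsAffine G.left]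

attribute [local instance] instHopfΓ

variable {E : Type u} [AddCommGroup E] [Module k E]

/-- composition with `eΓ.hom`, as a monoid homomorphism on points -/
noncomputable def toGS (B : Type u) [CommRing B] [Algebra k B] :
    (VecGrp.pt k B ⟶ G) →* (VecGrp.pt k B ⟶ GS k Γ(G.left, ⊤)) where
  toFun g := g ≫ (eΓ k G).hom
  map_one' := comp_eΓ_one k G
  map_mul' := comp_eΓ_mul k G

theorem comp_eΓ_inv_mul {T : Over (Spec (CommRingCat.of k))} (g g' : T ⟶ GS k Γ(G.left, ⊤)) :
    (g * g') ≫ (eΓ k G).inv = (g ≫ (eΓ k G).inv) * (g' ≫ (eΓ k G).inv) := by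
  have h := comp_eΓ_mul k G (g ≫ (eΓ k G).inv) (g' ≫ (eΓ k G).inv)
  rw [Category.assoc, Category.assoc, Iso.inv_hom_id, Category.comp_id, Category.comp_id] at h
  rw [← h, Category.assoc, Iso.hom_inv_id, Category.comp_id]

/-- composition with `eΓ.inv`, as a monoid homomorphism on points -/
noncomputable def ofGS (B : Type u) [CommRing B] [Algebra k B] :
    (VecGrp.pt k B ⟶ GS k Γ(G.left, ⊤)) →* (VecGrp.pt k B ⟶ G) where
  toFun g := g ≫ (eΓ k G).inv
  map_one' := by
    have h := comp_eΓ_inv_mul (k := k) (G := G) (1 : VecGrp.pt k B ⟶ GS k Γ(G.left, ⊤)) 1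
    rw [_root_.mul_one] at h
    exact left_eq_mul.mp h
  map_mul' := comp_eΓ_inv_mul

/-- transport of a `G`-module structure to the spectrum of the Hopf algebra of `G` -/
noncomputable def gmodGS (m : VecGrp.GMod G E) : VecGrp.GMod (GS k Γ(G.left, ⊤)) E where
  ρ B _ _ := (m.ρ B).comp (ofGS B)
  naturality φ g x := by
    change VecGrp.Wmap φ (m.ρ _ (g ≫ (eΓ k G).inv) x) =
      m.ρ _ ((VecGrp.ptMap φ ≫ g) ≫ (eΓ k G).inv) (VecGrp.Wmap φ x)
    rw [Category.assoc]
    exact m.naturality φ _ x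

/-- the coaction of a `G`-module -/
noncomputable def coact (m : VecGrp.GMod G E) : E →ₗ[k] E ⊗[k] Γ(G.left, ⊤) := delta (gmodGS m)

theorem coact_coassoc (m : VecGrp.GMod G E) :
    (TensorProduct.assoc k E Γ(G.left, ⊤) Γ(G.left, ⊤)).toLinearMap ∘ₗ
        (coact m).rTensor Γ(G.left, ⊤) ∘ₗ coact m =
      (CoalgebraStruct.comul (R := k) (A := Γ(G.left, ⊤))).lTensor E ∘ₗ coact m :=
  delta_coassoc (gmodGS m)

theorem coact_counit (m : VecGrp.GMod G E) :
    (CoalgebraStruct.counit (R := k) (A := Γ(G.left, ⊤))).lTensor E ∘ₗ coact m =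
      (TensorProduct.mk k E k).flip 1 :=
  delta_counit (gmodGS m)

/-- the action of a point is computed by the coaction and the evaluation homomorphism -/
theorem rho_one_tmul_eq (m : VecGrp.GMod G E) {B : Type u} [CommRing B] [Algebra k B]
    (g : VecGrp.pt k B ⟶ G) (x : E) :
    m.ρ B g ((1 : B) ⊗ₜ[k] x) =
      (TensorProduct.comm k E B) ((evA g).toLinearMap.lTensor E (coact m x)) := by
  have h := rho_one_tmul (gmodGS m) (g ≫ (eΓ k G).hom) x
  have h2 : (gmodGS m).ρ B (g ≫ (eΓ k G).hom) = m.ρ B g := by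
    change m.ρ B ((g ≫ (eΓ k G).hom) ≫ (eΓ k G).inv) = m.ρ B g
    rw [Category.assoc, Iso.hom_inv_id, Category.comp_id]
  rw [h2] at h
  exact h

/-- the `G`-module structure of a comodule over the Hopf algebra of `G` -/
noncomputable def gmodOfCoact (δ : E →ₗ[k] E ⊗[k] Γ(G.left, ⊤))
    (hco : (TensorProduct.assoc k E Γ(G.left, ⊤) Γ(G.left, ⊤)).toLinearMap ∘ₗ
        δ.rTensor Γ(G.left, ⊤) ∘ₗ δ =
      (CoalgebraStruct.comul (R := k) (A := Γ(G.left, ⊤))).lTensor E ∘ₗ δ)
    (hcu : (CoalgebraStruct.counit (R := k) (A := Γ(G.left, ⊤))).lTensor E ∘ₗ δ =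
      (TensorProduct.mk k E k).flip 1) : VecGrp.GMod G E where
  ρ B _ _ := ((toGMod δ hco hcu).ρ B).comp (toGS B)
  naturality φ g x := by
    change VecGrp.Wmap φ ((toGMod δ hco hcu).ρ _ (g ≫ (eΓ k G).hom) x) =
      (toGMod δ hco hcu).ρ _ ((VecGrp.ptMap φ ≫ g) ≫ (eΓ k G).hom) (VecGrp.Wmap φ x)
    rw [Category.assoc]
    exact (toGMod δ hco hcu).naturality φ _ x

theorem gmodOfCoact_one_tmul (δ : E →ₗ[k] E ⊗[k] Γ(G.left, ⊤))
    (hco : (TensorProduct.assoc k E Γ(G.left, ⊤) Γ(G.left, ⊤)).toLinearMap ∘ₗ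
        δ.rTensor Γ(G.left, ⊤) ∘ₗ δ =
      (CoalgebraStruct.comul (R := k) (A := Γ(G.left, ⊤))).lTensor E ∘ₗ δ)
    (hcu : (CoalgebraStruct.counit (R := k) (A := Γ(G.left, ⊤))).lTensor E ∘ₗ δ =
      (TensorProduct.mk k E k).flip 1) {B : Type u} [CommRing B] [Algebra k B]
    (g : VecGrp.pt k B ⟶ G) (x : E) :
    (gmodOfCoact δ hco hcu).ρ B g ((1 : B) ⊗ₜ[k] x) =
      (TensorProduct.comm k E B) ((evA g).toLinearMap.lTensor E (δ x)) := by
  change (toGMod δ hco hcu).ρ B (g ≫ (eΓ k G).hom) ((1 : B) ⊗ₜ[k] x) = _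
  rw [toGMod_ρ_apply, actB_one_tmul]
  rfl

/-- the matrix coefficient of `a` against the linear form `φ`, a function on `G` -/
noncomputable def coeff (m : VecGrp.GMod G E) (a : E) (φ : E →ₗ[k] k) : Γ(G.left, ⊤) :=
  TensorProduct.lid k Γ(G.left, ⊤) (φ.rTensor Γ(G.left, ⊤) (coact m a))

theorem evA_lid_rTensor {B : Type u} [CommRing B] [Algebra k B] (f : Γ(G.left, ⊤) →ₐ[k] B)
    (φ : E →ₗ[k] k) (w : E ⊗[k] Γ(G.left, ⊤)) :
    f (TensorProduct.lid k Γ(G.left, ⊤) (φ.rTensor Γ(G.left, ⊤) w)) =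
      TensorProduct.rid k B (φ.lTensor B ((TensorProduct.comm k E B) (f.toLinearMap.lTensor E w))) := by
  induction w using TensorProduct.induction_on with
  | zero => simp
  | add x y hx hy => simp only [map_add, hx, hy]
  | tmul e c =>
    simp only [LinearMap.rTensor_tmul, TensorProduct.lid_tmul, LinearMap.lTensor_tmul,
      AlgHom.toLinearMap_apply, TensorProduct.comm_tmul, TensorProduct.rid_tmul, map_smul]

/-- the value of a matrix coefficient at a point -/
theorem evA_coeff (m : VecGrp.GMod G E) (a : E) (φ : E →ₗ[k] k) {B : Type u} [CommRing B]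
    [Algebra k B] (g : VecGrp.pt k B ⟶ G) :
    evA g (coeff m a φ) = TensorProduct.rid k B (φ.lTensor B (m.ρ B g ((1 : B) ⊗ₜ[k] a))) := by
  rw [rho_one_tmul_eq, coeff, evA_lid_rTensor]

end GModBridge

end Groth.Agent.Lib.T2H7.ObsPts
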