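import Groth.Agent.Lib.T2H7ObsTFAE
import Groth.Agent.Lib.Helper12QuotGrp
import Groth.Agent.Lib.T2H9GammaBC
import Groth.Prelude.Def_AGF

/-!
# T2H7ObsQuot: functions invariant under a subgroup with proper irreducible quotient
-/

set_option autoImplicit false
set_option linter.style.haveILetI false
set_option linter.unusedSectionVars false
set_option linter.unusedVariables false
universe u

open CategoryTheory MonoidalCategory CartesianMonoidalCategory MonObj GrpObj AlgebraicGeometry
open scoped TensorProduct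

namespace Groth.Agent.Lib.T2H7.ObsQuot

open Groth.Agent.Lib.Helper25 Groth.Agent.Lib.Helper25.DensePts Groth.Agent.Lib.Helper25.SurjPts
open Groth.Agent.Lib.Helper25.GModComod Groth.Agent.Lib.T2H7.ObsPts Groth.Agent.Lib.T2H7.ObsFin
open Groth.Agent.Lib.T2H7.ObsHull Groth.Agent.Lib.T2H7.ObsTFAE

section Sch

/-- descent of global functions along an effective epimorphism of schemes with given kernel
pair -/
theorem exists_appTop_eq_of_effectiveEpi {P Y X : Scheme.{u}} {p₁ p₂ : P ⟶ Y} {π : Y ⟶ X}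
    (hpb : IsPullback p₁ p₂ π π) [EffectiveEpi π] (ψ : Γ(Y, ⊤))
    (h : p₁.appTop ψ = p₂.appTop ψ) : ∃ ψ' : Γ(X, ⊤), π.appTop ψ' = ψ := by
  let g : Y ⟶ Spec (CommRingCat.of (MvPolynomial PUnit.{u + 1} (ULift.{u} ℤ))) :=
    (AffineSpace.toSpecMvPolyIntEquiv PUnit.{u + 1}).symm (fun _ => ψ)
  have hg : ∀ {Z : Scheme.{u}} (a b : Z ⟶ Y), a ≫ π = b ≫ π → a ≫ g = b ≫ g := by
    intro Z a b hab
    obtain ⟨c, rfl, rfl⟩ : ∃ c, c ≫ p₁ = a ∧ c ≫ p₂ = b :=
      ⟨hpb.lift a b hab, hpb.lift_fst _ _ _, hpb.lift_snd _ _ _⟩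
    rw [Category.assoc, Category.assoc]
    congr 1
    apply (AffineSpace.toSpecMvPolyIntEquiv PUnit.{u + 1}).injective
    funext i
    rw [AffineSpace.toSpecMvPolyIntEquiv_comp, AffineSpace.toSpecMvPolyIntEquiv_comp,
      Equiv.apply_symm_apply]
    exact h
  refine ⟨AffineSpace.toSpecMvPolyIntEquiv PUnit.{u + 1} (EffectiveEpi.desc π g hg) PUnit.unit, ?_⟩
  rw [← AffineSpace.toSpecMvPolyIntEquiv_comp, EffectiveEpi.fac, Equiv.apply_symm_apply]

/-- the target of a flat surjective morphism from a reduced scheme is reduced. -/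
theorem isReduced_of_flat_of_surjective {A B : Scheme.{u}} (g : A ⟶ B) [Flat g] [Surjective g]
    [IsReduced A] : IsReduced B := by
  haveI : ∀ b : B, _root_.IsReduced (B.presheaf.stalk b) := by
    intro b
    obtain ⟨a, rfl⟩ := g.surjective b
    have hfl : (g.stalkMap a).hom.Flat := Flat.stalkMap g a
    have hloc : IsLocalHom (g.stalkMap a).hom := inferInstance
    algebraize [(g.stalkMap a).hom]
    have : IsLocalHom (algebraMap (B.presheaf.stalk (g a)) (A.presheaf.stalk a)) := hloc
    haveI : Module.FaithfullyFlat (B.presheaf.stalk (g a)) (A.presheaf.stalk a) :=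
      Module.FaithfullyFlat.of_flat_of_isLocalHom
    exact isReduced_of_injective (algebraMap (B.presheaf.stalk (g a)) (A.presheaf.stalk a))
      (FaithfulSMul.algebraMap_injective _ _)
  exact isReduced_of_isReduced_stalk B

/-- Global functions on a connected reduced universally closed scheme over an algebraically closed
field are constant. -/
theorem appTop_bijective_of_isAlgClosed_of_connected {K : Type u} [Field K] [IsAlgClosed K]
    {Z : Scheme.{u}} (p : Z ⟶ Spec (CommRingCat.of K)) [UniversallyClosed p] [IsReduced Z]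
    [ConnectedSpace Z] : Function.Bijective p.appTop.hom := by
  have hne : Nonempty (⊤ : Z.Opens) := by
    obtain ⟨z⟩ := (inferInstance : Nonempty Z)
    exact ⟨⟨z, trivial⟩⟩
  have hnt : Nontrivial Γ(Z, ⊤) := Scheme.component_nontrivial Z ⊤
  have hint1 : p.appTop.hom.IsIntegral := isIntegral_appTop_of_universallyClosed p
  have hint2 : (p.appTop.hom.comp (Scheme.ΓSpecIso (CommRingCat.of K)).inv.hom).IsIntegral :=
    RingHom.IsIntegral.trans _ _ (RingHom.isIntegral_of_surjective _
      (ConcreteCategory.bijective_of_isIso (Scheme.ΓSpecIso (CommRingCat.of K)).inv).2) hint1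
  have h3 := Groth.Agent.Lib.T2H9.GammaBCAlg.surjective_of_isIntegral_of_isAlgClosed (K := K) _ hint2
    (Groth.Agent.Lib.T2H9.GammaBC.eq_zero_or_eq_one_of_isIdempotentElem Z)
  have h3i : Function.Injective (p.appTop.hom.comp (Scheme.ΓSpecIso (CommRingCat.of K)).inv.hom) :=
    RingHom.injective _
  have h2 : Function.Bijective (Scheme.ΓSpecIso (CommRingCat.of K)).hom.hom :=
    ConcreteCategory.bijective_of_isIso (Scheme.ΓSpecIso (CommRingCat.of K)).hom
  have h4 : ⇑p.appTop.hom = ⇑(p.appTop.hom.comp (Scheme.ΓSpecIso (CommRingCat.of K)).inv.hom) ∘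
      ⇑(Scheme.ΓSpecIso (CommRingCat.of K)).hom.hom := by
    funext a
    change _ = p.appTop.hom ((Scheme.ΓSpecIso (CommRingCat.of K)).inv.hom
      ((Scheme.ΓSpecIso (CommRingCat.of K)).hom.hom a))
    rw [Iso.hom_inv_id_apply]
  rw [h4]
  exact ⟨h3i.comp h2.1, h3.comp h2.2⟩

end Sch

section Grp

variable {k : Type u} [Field k] [IsAlgClosed k]
  {G : Over (Spec (CommRingCat.of k))} [GrpObj G] [IsAffine G.left]
  {H : Over (Spec (CommRingCat.of k))} [GrpObj H] [IsAffine H.left]

attribute [local instance] instHopfΓ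

/-- invariance under right translation by a smooth subgroup may be checked on rational points -/
theorem isRTransInv_of_pts [Smooth G.hom] [Smooth H.hom] (i : H ⟶ G) (f : Γ(G.left, ⊤))
    (h : ∀ (x : VecGrp.pt k k ⟶ G) (y : VecGrp.pt k k ⟶ H), evA (x * (y ≫ i)) f = evA x f) :
    AGF.IsRTransInv i f := by
  have hP : IsAffine (G ⊗ H).left := isAffine_tensor
  have hPs : Smooth (G ⊗ H).hom := smooth_tensor
  have hPr : _root_.IsReduced Γ((G ⊗ H).left, ⊤) := isReduced_Γ (k := k) (G := G ⊗ H)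
  change ((G ◁ i) ≫ μ[G]).left.appTop f = (fst G H).left.appTop f
  rw [← sub_eq_zero]
  apply eq_zero_of_forall_evA (k := k) (G := G ⊗ H)
  intro z
  rw [map_sub, evA_appTop, evA_appTop, sub_eq_zero]
  have hz : z ≫ (G ◁ i) ≫ μ[G] = (z ≫ fst G H) * ((z ≫ snd G H) ≫ i) := by
    rw [← lift_whisker_mul i (z ≫ fst G H) (z ≫ snd G H)]
    congr 1
    apply CartesianMonoidalCategory.hom_ext <;> simp
  rw [hz]
  exact h _ _

/-- pulling back a function invariant under a subgroup of a subgroup -/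
theorem isRTransInv_appTop_of_comp {H' : Over (Spec (CommRingCat.of k))} [GrpObj H']
    [IsAffine H'.left] (i₂ : H ⟶ G) [IsMonHom i₂] (i₁ : H' ⟶ H) (f : Γ(G.left, ⊤))
    (hf : AGF.IsRTransInv (i₁ ≫ i₂) f) : AGF.IsRTransInv i₁ (i₂.left.appTop f) := by
  apply isRTransInv_of_evA
  intro B _ _ x y
  rw [evA_appTop, evA_appTop, MonObj.mul_comp, Category.assoc]
  exact evA_of_isRTransInv (i₁ ≫ i₂) f hf (x ≫ i₂) y

/-- a function on `H` invariant under a subgroup with proper irreducible quotient takes the same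
value at all rational points -/
theorem evA_eq_of_quotient [Smooth H.hom] {H' : Over (Spec (CommRingCat.of k))} [GrpObj H']
    (i₁ : H' ⟶ H) (X : Over (Spec (CommRingCat.of k))) (a : AlgGrp.Action H X)
    (o : 𝟙_ (Over (Spec (CommRingCat.of k))) ⟶ X) (hX : AGF.IsQuotient i₁ X a o)
    [IsProper X.hom] [IrreducibleSpace X.left] (ψ : Γ(H.left, ⊤)) (hψ : AGF.IsRTransInv i₁ ψ)
    (y y' : VecGrp.pt k k ⟶ H) : evA y ψ = evA y' ψ := by
  obtain ⟨hft, hfl, hsurj, hpb⟩ := hX
  have hnoe : IsLocallyNoetherian X.left := LocallyOfFiniteType.isLocallyNoetherian X.hom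
  have hw : (a.orbitMap o).left ≫ X.hom = H.hom := Over.w (a.orbitMap o)
  have hlft : LocallyOfFiniteType ((a.orbitMap o).left ≫ X.hom) := by
    rw [hw]
    infer_instance
  have hlft' : LocallyOfFiniteType (a.orbitMap o).left :=
    locallyOfFiniteType_of_comp (a.orbitMap o).left X.hom
  have hcov : Groth.Agent.Lib.Helper12.QuotGrp.IsCov (a.orbitMap o) :=
    Groth.Agent.Lib.Helper12.QuotGrp.IsCov.of_fppf _
  have hee : EffectiveEpi (a.orbitMap o).left := hcov.effectiveEpi
  have hpb' : IsPullback (fst H H').left ((H ◁ i₁) ≫ μ[H]).left (a.orbitMap o).left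
      (a.orbitMap o).left := hpb.map (Over.forget (Spec (CommRingCat.of k)))
  obtain ⟨ψ', hψ'⟩ := exists_appTop_eq_of_effectiveEpi hpb' ψ hψ.symm
  have hredH : IsReduced H.left :=
    Groth.Agent.Lib.Helper6.SmGeom.isReduced_of_smooth_over_field k H.left H.hom
  have hredX : IsReduced X.left := isReduced_of_flat_of_surjective (a.orbitMap o).left
  obtain ⟨c, hc⟩ := (appTop_bijective_of_isAlgClosed_of_connected X.hom).2 ψ'
  have hψc : ψ = H.hom.appTop c := by
    rw [← hψ', ← hc, ← hw]
    rfl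
  have key : ∀ z : VecGrp.pt k k ⟶ H, evA z ψ =
      (Scheme.ΓSpecIso (CommRingCat.of k)).hom ((VecGrp.pt k k).hom.appTop c) := by
    intro z
    rw [evA_apply, hψc, ← Over.w z]
    rfl
  rw [key y, key y']

end Grp

end Groth.Agent.Lib.T2H7.ObsQuot
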