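import Groth.Agent.Lib.T2H7ObsFinIdx
import Groth.Agent.Lib.Helper25Coeff

set_option autoImplicit false
set_option linter.style.haveILetI false
set_option linter.unusedSectionVars false
set_option linter.unusedVariables false
universe u v w w'

namespace Groth.Agent.Lib.T2H7.ObsRestr

open TensorProduct HopfRep Module Matrix Groth.Agent.Lib.Helper25
open Groth.Agent.Lib.T2H7.ObsInd Groth.Agent.Lib.T2H7.ObsExt

section Hopf

variable {k : Type u} [Field k] {A C : Type u} [CommRing A] [HopfAlgebra k A] [CommRing C]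
  [HopfAlgebra k C] (π : A →ₐc[k] C)

/-- **Semi-invariant functions lift along an "observable" quotient of Hopf algebras.** -/
theorem exists_lift_semi (hπ : Function.Surjective π)
    (htw : ∀ (f : A) (χ₀ : C), IsUnit χ₀ → π f = χ₀ →
      (π : A →ₐ[k] C).toLinearMap.lTensor A (CoalgebraStruct.comul (R := k) f) = f ⊗ₜ[k] χ₀ →
      ∃ (r : ℕ) (Q : Matrix (Fin r) (Fin r) A) (lam : Fin r → k) (ψ' : C),
        IsComatrix (k := k) Q ∧ lam ≠ 0 ∧ LineStab Q lam (π : A →ₐ[k] C) ψ' ∧ ψ' * χ₀ = 1)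
    {D : Type u} [AddCommGroup D] [Module k D] (π' : C →ₗ[k] D) (d : D) (f : C)
    (hf : π'.lTensor C (CoalgebraStruct.comul (R := k) f) = f ⊗ₜ[k] d) :
    ∃ F : A, π F = f ∧
      (π' ∘ₗ (π : A →ₐ[k] C).toLinearMap).lTensor A (CoalgebraStruct.comul (R := k) F) =
        F ⊗ₜ[k] d := by
  classical
  obtain ⟨N, hNfg, hNsub, hmem⟩ := exists_fg_subcomod_mem (k := k) (A := C) (V := C) f
  letI cN : Comod k C N := subComod N hNsub
  haveI hfin : Module.Finite k N := Module.Finite.iff_fg.mpr hNfg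
  obtain ⟨T, iT1, iT2, R, hR, Θ, hinj, hΘ⟩ := exists_comod_embedding π hπ cN.coact cN.coassoc
    cN.counit_comp htw
  letI cE : Comod k A (T → k) := comodOfComatrix (Pi.basisFun k T) R hR
  obtain ⟨g, hg⟩ := Θ.exists_leftInverse_of_injective (LinearMap.ker_eq_bot.mpr hinj)
  let ℓ : (T → k) →ₗ[k] k := CoalgebraStruct.counit (R := k) (A := C) ∘ₗ N.subtype ∘ₗ g
  have hℓ : ℓ ∘ₗ Θ = CoalgebraStruct.counit (R := k) (A := C) ∘ₗ N.subtype := by
    change (CoalgebraStruct.counit (R := k) (A := C) ∘ₗ N.subtype ∘ₗ g) ∘ₗ Θ = _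
    rw [LinearMap.comp_assoc, LinearMap.comp_assoc, hg, LinearMap.comp_id]
  set fN : N := ⟨f, hmem⟩ with hfN
  have hsub : N.subtype.rTensor C (cN.coact fN) = CoalgebraStruct.comul (R := k) f :=
    rTensor_subtype_subCoact N hNsub fN
  refine ⟨coeffMap (A := A) ℓ (Θ fN), ?_, ?_⟩
  · have h1 : π (coeffMap (A := A) ℓ (Θ fN)) =
        (π : A →ₐ[k] C).toLinearMap (lslice ℓ (cE.coact (Θ fN))) := rfl
    rw [h1, ← lslice_lTensor, ← hΘ, lslice_rTensor, hℓ, ← lslice_rTensor, hsub]
    have h2 := Coalgebra.rTensor_counit_comul (R := k) f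
    change (TensorProduct.lid k C) ((CoalgebraStruct.counit (R := k) (A := C)).rTensor C
      (CoalgebraStruct.comul (R := k) f)) = f
    rw [h2, TensorProduct.lid_tmul, one_smul]
  · have h1 : CoalgebraStruct.comul (R := k) (coeffMap (A := A) ℓ (Θ fN)) =
        (coeffMap (A := A) ℓ).rTensor A (cE.coact (Θ fN)) :=
      LinearMap.congr_fun (isComodHom_coeffMap (A := A) ℓ) (Θ fN)
    have h3 : ∀ z : (T → k) ⊗[k] A,
        (π' ∘ₗ (π : A →ₐ[k] C).toLinearMap).lTensor A ((coeffMap (A := A) ℓ).rTensor A z) =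
          (coeffMap (A := A) ℓ).rTensor D
            (π'.lTensor (T → k) ((π : A →ₐ[k] C).toLinearMap.lTensor (T → k) z)) := by
      intro z
      induction z using TensorProduct.induction_on with
      | zero => simp
      | add x y hx hy => simp only [map_add, hx, hy]
      | tmul x y => rfl
    have h4 : ∀ z : N ⊗[k] C, π'.lTensor (T → k) (Θ.rTensor C z) =
        Θ.rTensor D (π'.lTensor N z) := by
      intro z
      induction z using TensorProduct.induction_on with
      | zero => simp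
      | add x y hx hy => simp only [map_add, hx, hy]
      | tmul x y => rfl
    rw [h1, h3, ← hΘ, h4]
    have h2 : π'.lTensor N (cN.coact fN) = fN ⊗ₜ[k] d := by
      have hinj' : Function.Injective (N.subtype.rTensor D) :=
        Module.Flat.rTensor_preserves_injective_linearMap _ N.subtype_injective
      apply hinj'
      rw [← LinearMap.comp_apply, LinearMap.rTensor_comp_lTensor, ← LinearMap.lTensor_comp_rTensor,
        LinearMap.comp_apply, hsub, hf, LinearMap.rTensor_tmul]
      rfl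
    rw [h2, LinearMap.rTensor_tmul, LinearMap.rTensor_tmul]

end Hopf

section Grp

open CategoryTheory MonoidalCategory CartesianMonoidalCategory MonObj GrpObj AlgebraicGeometry
open Groth.Agent.Lib.Helper25.DensePts Groth.Agent.Lib.Helper25.SurjPts
open Groth.Agent.Lib.Helper25.GModComod Groth.Agent.Lib.T2H7.ObsPts Groth.Agent.Lib.T2H7.ObsFin
open Groth.Agent.Lib.T2H7.ObsTFAE Groth.Agent.Lib.T2H7.ObsChar Groth.Agent.Lib.T2H7.ObsCrit
open Groth.Agent.Lib.T2H7.ObsCodim Groth.Agent.Lib.T2H7.GrossTransfer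
open Groth.Agent.Lib.T2H7.ObsFinIdx

variable {k : Type u} [Field k]
  {G : Over (Spec (CommRingCat.of k))} [GrpObj G] [IsAffine G.left]
  {H : Over (Spec (CommRingCat.of k))} [GrpObj H] [IsAffine H.left]
  {K : Over (Spec (CommRingCat.of k))} [GrpObj K] [IsAffine K.left]

attribute [local instance] instHopfΓ

/-- Hopf algebra form of right invariance. -/
theorem isRTransInv_iff_comul (i : H ⟶ G) [IsMonHom i] (f : Γ(G.left, ⊤)) :
    AGF.IsRTransInv i f ↔
      (resHom i : Γ(G.left, ⊤) →ₐ[k] Γ(H.left, ⊤)).toLinearMap.lTensor Γ(G.left, ⊤)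
        (CoalgebraStruct.comul (R := k) f) = f ⊗ₜ[k] (1 : Γ(H.left, ⊤)) := by
  rw [lTensor_eq_map']
  constructor
  · intro h
    apply comul_of_semi
    intro B _ _ x y
    rw [evA_of_isRTransInv i f h x y, map_one, _root_.mul_one]
  · intro h
    apply isRTransInv_of_evA
    intro B _ _ x y
    rw [semi_of_comul i f 1 h x y, map_one, _root_.mul_one]

theorem resHom_comp (i : H ⟶ G) [IsMonHom i] (κ : K ⟶ H) [IsMonHom κ] (F : Γ(G.left, ⊤)) :
    resHom (κ ≫ i) F = resHom κ (resHom i F) := by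
  rw [resHom_apply, resHom_apply, resHom_apply, left_appTop_comp_apply]

variable [IsAlgClosed k]

/-- **Invariant functions extend from an observable subgroup**: for `K ⊆ H ⊆ G` with `H`
observable in `G`, every right `K`-invariant function on `H` is the restriction of a right
`K`-invariant function on `G`. -/
theorem exists_lift_inv [Smooth G.hom] (i : H ⟶ G) [IsMonHom i] [IsClosedImmersion i.left]
    (hobs : AGF.IsObservableIn k i) (κ : K ⟶ H) [IsMonHom κ] (f : Γ(H.left, ⊤))
    (hf : AGF.IsRTransInv κ f) :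
    ∃ F : Γ(G.left, ⊤), AGF.IsRTransInv (κ ≫ i) F ∧ resHom i F = f := by
  obtain ⟨F, hF, hFinv⟩ := exists_lift_semi (resHom i) (resHom_surjective i)
    (fun f χ₀ hu hπf hsemi => exists_twist i hobs f χ₀ hu hπf hsemi)
    (resHom κ : Γ(H.left, ⊤) →ₐ[k] Γ(K.left, ⊤)).toLinearMap (1 : Γ(K.left, ⊤)) f
    ((isRTransInv_iff_comul κ f).mp hf)
  refine ⟨F, ?_, hF⟩
  rw [isRTransInv_iff_comul]
  have e : (resHom (κ ≫ i) : Γ(G.left, ⊤) →ₐ[k] Γ(K.left, ⊤)).toLinearMap =
      (resHom κ : Γ(H.left, ⊤) →ₐ[k] Γ(K.left, ⊤)).toLinearMap ∘ₗ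
        (resHom i : Γ(G.left, ⊤) →ₐ[k] Γ(H.left, ⊤)).toLinearMap := by
    ext x
    exact resHom_comp i κ x
  rw [e]
  exact hFinv

/-- restriction maps the invariants onto the invariants -/
theorem map_rinvAlg [Smooth G.hom] (i : H ⟶ G) [IsMonHom i] [IsClosedImmersion i.left]
    (hobs : AGF.IsObservableIn k i) (κ : K ⟶ H) [IsMonHom κ] :
    (rinvAlg (κ ≫ i)).map (resHom i : Γ(G.left, ⊤) →ₐ[k] Γ(H.left, ⊤)) = rinvAlg κ := by
  apply le_antisymm
  · rintro _ ⟨F, hF, rfl⟩
    have hF' : AGF.IsRTransInv (κ ≫ i) F := hF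
    change AGF.IsRTransInv κ (resHom i F)
    apply isRTransInv_of_evA
    intro B _ _ x y
    have e1 : (x * (y ≫ κ)) ≫ i = (x ≫ i) * ((y ≫ κ) ≫ i) := MonObj.mul_comp x (y ≫ κ) i
    have e2 : evA (x * (y ≫ κ)) (resHom i F) = evA ((x * (y ≫ κ)) ≫ i) F := by
      rw [evA_comp_hom]
      rfl
    have e3 : evA x (resHom i F) = evA (x ≫ i) F := by
      rw [evA_comp_hom]
      rfl
    rw [e2, e3, e1, Category.assoc]
    exact evA_of_isRTransInv (κ ≫ i) F hF' (x ≫ i) y
  · intro f hf
    obtain ⟨F, hF, rfl⟩ := exists_lift_inv i hobs κ f hf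
    exact ⟨F, hF, rfl⟩

omit [IsAlgClosed k] in
/-- finite generation of the algebra of invariants, in the form of the statements -/
theorem subringFGOver_of_fg (i : H ⟶ G) (hfg : (rinvAlg i).FG) :
    AGF.SubringFGOver k G (AGF.rTransInv i) := by
  classical
  obtain ⟨s, hs⟩ := hfg
  refine ⟨s, ?_, ?_⟩
  · intro t ht
    have h1 : t ∈ rinvAlg i := by
      rw [← hs]
      exact Algebra.subset_adjoin ht
    exact h1
  · intro t ht
    have h2 : t ∈ rinvAlg i := ht
    rw [← hs] at h2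
    rw [range_const_eq, ← Algebra.adjoin_eq_ring_closure]
    exact h2

/-- **Grosshans subgroups and intermediate groups**: for closed subgroups `K ⊆ H ⊆ G` with `K` and
`H` observable in `G` and `k[G]^K` finitely generated, `K` is observable in `H` and `k[H]^K` is
finitely generated. -/
theorem grosshans_intermediate [Smooth G.hom] [Smooth H.hom] [Smooth K.hom]
    (i : H ⟶ G) [IsMonHom i] [IsClosedImmersion i.left]
    (κ : K ⟶ H) [IsMonHom κ] [IsClosedImmersion κ.left]
    (hK : AGF.IsObservableIn k (κ ≫ i)) (hH : AGF.IsObservableIn k i)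
    (hfg : AGF.SubringFGOver k G (AGF.rTransInv (κ ≫ i))) :
    AGF.IsObservableIn k κ ∧ AGF.SubringFGOver k H (AGF.rTransInv κ) := by
  have hcl : IsClosedImmersion (κ ≫ i).left := by
    rw [Over.comp_left]
    infer_instance
  refine ⟨observable_of_comp i κ hK, ?_⟩
  apply subringFGOver_of_fg
  rw [← map_rinvAlg i hH κ]
  exact (fg_rinvAlg (κ ≫ i) hfg).map _

end Grp

end Groth.Agent.Lib.T2H7.ObsRestr
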