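import Groth.Agent.Lib.T2H7ObsSolvHopf
import Groth.Agent.Lib.T2H7ObsFinIdx
import Groth.Agent.Lib.Helper25IdCompScheme
import Groth.Agent.Lib.Helper14Idem

set_option autoImplicit false
set_option linter.unusedSectionVars false
set_option linter.unusedVariables false
set_option linter.style.haveILetI false

universe u

open CategoryTheory MonoidalCategory CartesianMonoidalCategory MonObj GrpObj AlgebraicGeometry
open scoped TensorProduct

namespace Groth.Agent.Lib.T2H7.ObsSolv

open Groth.Agent.Lib.Helper25 Groth.Agent.Lib.Helper25.DensePts Groth.Agent.Lib.Helper25.SurjPts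
open Groth.Agent.Lib.Helper25.GModComod Groth.Agent.Lib.T2H7.ObsPts Groth.Agent.Lib.T2H7.ObsFin
open Groth.Agent.Lib.T2H7.ObsHull Groth.Agent.Lib.T2H7.ObsTFAE Groth.Agent.Lib.T2H7.ObsChar
open Groth.Agent.Lib.T2H7.ObsOpen Groth.Agent.Lib.T2H7.ObsCrit Groth.Agent.Lib.T2H7.ObsExt
open Groth.Agent.Lib.T2H7.ObsFinIdx Groth.Agent.Lib.T2H7.ObsSolvHopf

variable {k : Type u} [Field k]
  {G : Over (Spec (CommRingCat.of k))} [GrpObj G] [IsAffine G.left]
  {H : Over (Spec (CommRingCat.of k))} [GrpObj H] [IsAffine H.left]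

attribute [local instance] instHopfΓ

section Points

/-- evaluation as a group homomorphism from the rational points to the convolution group. -/
noncomputable def evHom : (VecGrp.pt k k ⟶ G) →* WithConv (Γ(G.left, ⊤) →ₐ[k] k) where
  toFun g := WithConv.toConv (evA g)
  map_one' := by rw [evA_one]
  map_mul' g g' := by rw [evA_mul]

theorem evHom_surjective : Function.Surjective (evHom (k := k) (G := G)) := fun φ =>
  ⟨ptA φ.ofConv, by
    change WithConv.toConv (evA (ptA φ.ofConv)) = φ
    rw [evA_ptA]⟩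

theorem isSolvable_points (hs : Red.IsSolvableGrp G) :
    Group.IsSolvable (WithConv (Γ(G.left, ⊤) →ₐ[k] k)) := by
  obtain ⟨n, hn⟩ := hs
  haveI : Group.IsSolvable (VecGrp.pt k k ⟶ G) := ⟨⟨n, hn _⟩⟩
  exact Group.isSolvable_of_surjective (evHom_surjective (k := k) (G := G))

theorem idem_trivial_Γ [ConnectedSpace G.left] (e : Γ(G.left, ⊤)) (he : IsIdempotentElem e) :
    e = 0 ∨ e = 1 := by
  have h1 : ConnectedSpace (Spec Γ(G.left, ⊤)) :=
    (Scheme.homeoOfIso G.left.isoSpec).surjective.connectedSpace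
      (Scheme.homeoOfIso G.left.isoSpec).continuous
  haveI : ConnectedSpace (PrimeSpectrum Γ(G.left, ⊤)) := h1
  exact Groth.Agent.Lib.Helper14Idem.idem_trivial_of_connected he

end Points

section Connected

variable [IsAlgClosed k]

theorem lTensor_eq_map (i : H ⟶ G) [IsMonHom i] (w : Γ(G.left, ⊤) ⊗[k] Γ(G.left, ⊤)) :
    (resHom i : Γ(G.left, ⊤) →ₐ[k] Γ(H.left, ⊤)).toLinearMap.lTensor Γ(G.left, ⊤) w =
      Algebra.TensorProduct.map (AlgHom.id k Γ(G.left, ⊤))
        (resHom i : Γ(G.left, ⊤) →ₐ[k] Γ(H.left, ⊤)) w := by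
  induction w using TensorProduct.induction_on with
  | zero => simp
  | add a b ha hb => simp only [map_add, ha, hb]
  | tmul a b => rfl

/-- **Connected solvable groups**: every closed subgroup is observable. -/
theorem observable_of_solvable_connected [Smooth G.hom] [Smooth H.hom] [ConnectedSpace G.left]
    (i : H ⟶ G) [IsMonHom i] [IsClosedImmersion i.left] (hs : Red.IsSolvableGrp G) :
    AGF.IsObservableIn k i := by
  haveI hft : Algebra.FiniteType k Γ(G.left, ⊤) := finiteType_Γ (k := k) (G := G)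
  haveI hR : _root_.IsReduced Γ(G.left, ⊤) := isReduced_Γ (k := k)
  haveI hsol : Group.IsSolvable (WithConv (Γ(G.left, ⊤) →ₐ[k] k)) := isSolvable_points hs
  apply observable_of_semi_inv
  intro χ hχ ⟨V, _, _, _, ρ, v, hv, hsemi⟩
  haveI := hχ
  obtain ⟨f, hf, hfsemi⟩ := exists_semi_fun_of_vec i ρ v hv (Red.gmFn χ)
    (fun B _ _ y => by rw [hsemi B y, chiVal_eq_evA])
  rw [← lTensor_eq_map] at hfsemi
  obtain ⟨a, ha, hπa⟩ := exists_groupLike_lift (k := k) (A := Γ(G.left, ⊤)) (B := Γ(H.left, ⊤))
    (idem_trivial_Γ (k := k) (G := G)) (resHom i) f hf (Red.gmFn χ) hfsemi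
  have hgl : IsGroupLikeElem k (Red.gmFn χ) := isGroupLikeElem_gmFn χ
  have hinv : HopfAlgebra.antipode k (Red.gmFn χ) = Red.gmFn χ⁻¹ := by
    have h1 : HopfAlgebra.antipode k (Red.gmFn χ) * Red.gmFn χ = 1 := hgl.antipode_mul_cancel
    have h2 : Red.gmFn χ * Red.gmFn χ⁻¹ = 1 := by
      rw [_root_.mul_comm]
      exact GmPts.gmFn_inv χ
    exact left_inv_eq_right_inv h1 h2
  have ha0 : a ≠ 0 := by
    intro h0
    have h1 := ha.counit_eq_one
    rw [h0, map_zero] at h1
    exact zero_ne_one h1
  obtain ⟨V', i1, i2, i3, ρ', v', hv', hsemi'⟩ := exists_semi_vec_of_fun i a ha0 (Red.gmFn χ⁻¹) (by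
    rw [ha.comul_eq_tmul_self, Algebra.TensorProduct.map_tmul, AlgHom.id_apply, ← hinv, ← hπa]
    rfl)
  refine ⟨V', i1, i2, i3, ρ', v', hv', fun B _ _ h => ?_⟩
  rw [hsemi' B h, chiVal_eq_evA]

end Connected

section IdComp

open Groth.Agent.Lib.Helper25.IdComp0 Groth.Agent.Lib.Helper25.IdComp

omit [IsAffine G.left] in
/-- the inclusion of the identity component of a group locally of finite type over a field is an
open immersion. -/
theorem isOpenImmersion_G0incl [LocallyOfFiniteType G.hom] :
    IsOpenImmersion (G0incl G).left := by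
  haveI : IsLocallyNoetherian G.left := LocallyOfFiniteType.isLocallyNoetherian G.hom
  change IsOpenImmersion (G0ι G)
  haveI : LocallyOfFinitePresentation (G0ι G) := inferInstance
  exact IsOpenImmersion.of_flat_of_mono (G0ι G)

omit [IsAffine G.left] in
theorem connectedSpace_G0 : ConnectedSpace (G0 G).left := inferInstance

omit [IsAffine G.left] [IsAffine H.left] in
/-- a homomorphism from a connected group factors through the identity component. -/
theorem exists_lift_of_connected [ConnectedSpace H.left] (f : H ⟶ G) [IsMonHom f] :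
    ∃ f₀ : H ⟶ G0 G, f₀ ≫ G0incl G = f := by
  apply exists_lift_G0_over
  have hpre : _root_.IsPreconnected (Set.range f.left) := by
    rw [← Set.image_univ]
    exact (isPreconnected_univ).image _ f.left.continuous.continuousOn
  apply hpre.subset_connectedComponent
  refine ⟨ePt H, ?_⟩
  have h1 : η[H] ≫ f = η[G] := IsMonHom.one_hom f
  rw [ePt, ePt, ← h1, Over.comp_left, Scheme.Hom.comp_apply]

omit [IsAffine G.left] [IsAffine H.left] in
/-- a morphism into a group through a monomorphic homomorphism is a homomorphism. -/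
theorem isMonHom_of_mono_fac' {K : Over (Spec (CommRingCat.of k))} [GrpObj K]
    (g : H ⟶ K) (j : K ⟶ G) [Mono j] [IsMonHom j] (f : H ⟶ G) [IsMonHom f] (hgj : g ≫ j = f) :
    IsMonHom g where
  one_hom := by
    rw [← cancel_mono j, Category.assoc, hgj, IsMonHom.one_hom f, IsMonHom.one_hom j]
  mul_hom := by
    rw [← cancel_mono j, Category.assoc, hgj, IsMonHom.mul_hom f, Category.assoc,
      IsMonHom.mul_hom j, ← hgj, tensorHom_comp_tensorHom_assoc]

omit [IsAffine G.left] [IsAffine H.left] in
/-- subgroups (monomorphic homomorphisms) of solvable groups are solvable. -/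
theorem isSolvableGrp_of_mono (j : H ⟶ G) [IsMonHom j] [Mono j] (hs : Red.IsSolvableGrp G) :
    Red.IsSolvableGrp H := by
  obtain ⟨n, hn⟩ := hs
  refine ⟨n, fun X => ?_⟩
  let φ : (X ⟶ H) →* (X ⟶ G) := MonoidHom.mk' (fun x => x ≫ j) (fun x y => MonObj.mul_comp x y j)
  have hφ : Function.Injective φ := fun x y hxy => (cancel_mono j).mp hxy
  have h1 := map_derivedSeries_le_derivedSeries φ n
  rw [hn X, le_bot_iff] at h1
  exact (Subgroup.map_eq_bot_iff_of_injective _ hφ).mp h1

/-- **Solvable groups**: every closed subgroup of a solvable linear algebraic group is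
observable. -/
theorem observable_of_solvable [IsAlgClosed k] [Smooth G.hom] [Smooth H.hom]
    (i : H ⟶ G) [IsMonHom i] [IsClosedImmersion i.left] (hs : Red.IsSolvableGrp G) :
    AGF.IsObservableIn k i := by
  obtain ⟨instG₀, hjG⟩ := exists_grpObj_G0 G
  obtain ⟨instH₀, hjH⟩ := exists_grpObj_G0 H
  letI := instG₀
  letI := instH₀
  haveI := hjG
  haveI := hjH
  haveI hoG : IsOpenImmersion (G0incl G).left := isOpenImmersion_G0incl
  haveI hoH : IsOpenImmersion (G0incl H).left := isOpenImmersion_G0incl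
  haveI hcG : ConnectedSpace (G0 G).left := connectedSpace_G0
  haveI hcH : ConnectedSpace (G0 H).left := connectedSpace_G0
  haveI hm1 : IsMonHom (G0incl H ≫ i) := inferInstance
  obtain ⟨i₀, hc⟩ := exists_lift_of_connected (G := G) (H := G0 H) (G0incl H ≫ i)
  haveI hi₀ : IsMonHom i₀ := isMonHom_of_mono_fac' i₀ (G0incl G) (G0incl H ≫ i) hc
  haveI hjGcl : IsClosedImmersion (G0incl G).left :=
    isClosedImmersion_of_isOpenImmersion (G0incl G)
  haveI hjHcl : IsClosedImmersion (G0incl H).left :=
    isClosedImmersion_of_isOpenImmersion (G0incl H)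
  haveI hG₀aff : IsAffine (G0 G).left := isAffine_of_isAffineHom (G0incl G).left
  haveI hH₀aff : IsAffine (G0 H).left := isAffine_of_isAffineHom (G0incl H).left
  haveI hG₀sm : Smooth (G0 G).hom := smooth_of_isOpenImmersion (G0incl G)
  haveI hH₀sm : Smooth (G0 H).hom := smooth_of_isOpenImmersion (G0incl H)
  have hcl1 : IsClosedImmersion (G0incl H ≫ i).left := by
    rw [Over.comp_left]
    infer_instance
  have hcl2 : IsClosedImmersion (i₀ ≫ G0incl G).left := by
    rw [hc]
    exact hcl1
  haveI hi₀cl : IsClosedImmersion i₀.left := by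
    have hcl3 : IsClosedImmersion (i₀.left ≫ (G0incl G).left) := by
      rw [← Over.comp_left]
      exact hcl2
    exact IsClosedImmersion.of_comp_isClosedImmersion i₀.left (G0incl G).left
  have hobs : AGF.IsObservableIn k i₀ :=
    observable_of_solvable_connected i₀ (isSolvableGrp_of_mono (G0incl G) hs)
  have h1 : AGF.IsObservableIn k (G0incl G) := observable_of_open (G0incl G)
  have h2 : AGF.IsObservableIn k (i₀ ≫ G0incl G) := observable_trans i₀ (G0incl G) hobs h1
  rw [hc] at h2
  exact observable_of_open_sub i (G0incl H) h2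

end IdComp

end Groth.Agent.Lib.T2H7.ObsSolv
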