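import Groth.Agent.Lib.Helper25LieKolchin
import Groth.Agent.Lib.Helper25Antipode
import Groth.Agent.Lib.Helper25FrobSplit2
import Groth.Agent.Lib.Helper25Integral

set_option autoImplicit false
set_option linter.unusedSectionVars false
set_option linter.unusedVariables false
set_option linter.style.haveILetI false

universe u v w

namespace Groth.Agent.Lib.T2H7.ObsSolvHopf

open TensorProduct HopfRep WithConv
open Groth.Agent.Lib.Helper25 Groth.Agent.Lib.Helper25.LieKolchin

section Hopf

variable {k : Type u} [Field k] {A : Type v} [CommRing A] [HopfAlgebra k A]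
  {B : Type w} [CommRing B] [HopfAlgebra k B]

/-- the left semi-invariants of weight `ψ'` along `π`. -/
noncomputable def lsemi (π : A →ₗ[k] B) (ψ' : B) : Submodule k A :=
  LinearMap.ker (π.rTensor A ∘ₗ (CoalgebraStruct.comul (R := k) (A := A)) -
    TensorProduct.mk k B A ψ')

theorem mem_lsemi (π : A →ₗ[k] B) (ψ' : B) (x : A) :
    x ∈ lsemi π ψ' ↔ π.rTensor A (CoalgebraStruct.comul (R := k) x) = ψ' ⊗ₜ[k] x := by
  rw [lsemi, LinearMap.mem_ker, LinearMap.sub_apply, sub_eq_zero]
  rfl

/-- the antipode exchanges right and left semi-invariants. -/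
theorem antipode_mem_lsemi (π : A →ₐc[k] B) (f : A) (ψ : B)
    (hsemi : (π : A →ₐ[k] B).toLinearMap.lTensor A (CoalgebraStruct.comul (R := k) f) =
      f ⊗ₜ[k] ψ) :
    HopfAlgebra.antipode k f ∈ lsemi (π : A →ₐ[k] B).toLinearMap (HopfAlgebra.antipode k ψ) := by
  rw [mem_lsemi, comul_antipode]
  have key : ∀ w : A ⊗[k] A,
      (π : A →ₐ[k] B).toLinearMap.rTensor A
        (TensorProduct.map (HopfAlgebra.antipode k) (HopfAlgebra.antipode k)
          (TensorProduct.comm k A A w)) =
      TensorProduct.map (HopfAlgebra.antipode k) (HopfAlgebra.antipode k)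
        (TensorProduct.comm k A B ((π : A →ₐ[k] B).toLinearMap.lTensor A w)) := by
    intro w
    induction w using TensorProduct.induction_on with
    | zero => simp
    | add x y hx hy => simp only [map_add, hx, hy]
    | tmul x y =>
      have h1 := LinearMap.congr_fun (FrobSplit.antipode_comp_bialgHom π) y
      simp only [LinearMap.comp_apply] at h1
      simp only [TensorProduct.comm_tmul, TensorProduct.map_tmul, LinearMap.rTensor_tmul,
        LinearMap.lTensor_tmul]
      rw [h1]
  rw [key, hsemi, TensorProduct.comm_tmul, TensorProduct.map_tmul]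

/-- right translation operators commute with the left coaction. -/
theorem comul_T (φ : A →ₗ[k] k) (x : A) :
    CoalgebraStruct.comul (R := k) (T (V := A) φ x) =
      (T (V := A) φ).lTensor A (CoalgebraStruct.comul (R := k) x) := by
  have h1 : ∀ w : A ⊗[k] A, CoalgebraStruct.comul (R := k) (slice A φ w) =
      slice (A ⊗[k] A) φ ((CoalgebraStruct.comul (R := k) (A := A)).rTensor A w) := by
    intro w
    rw [slice_rTensor]
  have h2 : ∀ z : A ⊗[k] (A ⊗[k] A),
      slice (A ⊗[k] A) φ ((TensorProduct.assoc k A A A).symm z) = (slice A φ).lTensor A z := by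
    intro z
    induction z using TensorProduct.induction_on with
    | zero => simp
    | add x y hx hy => simp only [map_add, hx, hy]
    | tmul a w =>
      induction w using TensorProduct.induction_on with
      | zero => simp
      | add x y hx hy => simp only [map_add, TensorProduct.tmul_add, hx, hy]
      | tmul b c =>
        simp only [TensorProduct.assoc_symm_tmul, slice_tmul, LinearMap.lTensor_tmul,
          TensorProduct.tmul_smul]
  rw [T_apply]
  change CoalgebraStruct.comul (R := k) (slice A φ (CoalgebraStruct.comul (R := k) x)) = _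
  rw [h1, ← Coalgebra.coassoc_symm_apply, h2, ← LinearMap.lTensor_comp_apply]
  rfl

theorem T_mem_lsemi (π : A →ₗ[k] B) (ψ' : B) (φ : A →ₗ[k] k) {x : A} (hx : x ∈ lsemi π ψ') :
    T (V := A) φ x ∈ lsemi π ψ' := by
  rw [mem_lsemi] at hx ⊢
  rw [comul_T, ← LinearMap.comp_apply, LinearMap.rTensor_comp_lTensor,
    ← LinearMap.lTensor_comp_rTensor, LinearMap.comp_apply, hx, LinearMap.lTensor_tmul]

end Hopf

section Main

variable {k : Type u} [Field k] [IsAlgClosed k] {A : Type v} [CommRing A] [HopfAlgebra k A]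
  [Algebra.FiniteType k A] [IsReduced A]
  {B : Type w} [CommRing B] [HopfAlgebra k B]

/-- **Lie–Kolchin consequence**: for a connected solvable group, every weight of a right
semi-invariant function for a subgroup has its inverse extending to a character of the group. -/
theorem exists_groupLike_lift (hconn : ∀ e : A, IsIdempotentElem e → e = 0 ∨ e = 1)
    [Group.IsSolvable (WithConv (A →ₐ[k] k))]
    (π : A →ₐc[k] B) (f : A) (hf : f ≠ 0) (ψ : B)
    (hsemi : (π : A →ₐ[k] B).toLinearMap.lTensor A (CoalgebraStruct.comul (R := k) f) =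
      f ⊗ₜ[k] ψ) :
    ∃ a : A, IsGroupLikeElem k a ∧ π a = HopfAlgebra.antipode k ψ := by
  set ψ' : B := HopfAlgebra.antipode k ψ with hψ'
  set f' : A := HopfAlgebra.antipode k f with hf'def
  have hf' : f' ≠ 0 := by
    intro h0
    apply hf
    rw [← antipode_antipode (k := k) f, ← hf'def, h0, map_zero]
  have hf'M : f' ∈ lsemi (π : A →ₐ[k] B).toLinearMap ψ' := antipode_mem_lsemi π f ψ hsemi
  obtain ⟨U, hUfg, hUsub, hmem⟩ := exists_fg_subcomod_mem (k := k) (A := A) (V := A) f'
  letI cU : Comod k A U := subComod U hUsub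
  haveI hfin : Module.Finite k U := Module.Finite.iff_fg.mpr hUfg
  have hTU : ∀ (φ : A →ₗ[k] k) (u : U), ((T φ u : U) : A) = T (V := A) φ (u : A) := fun φ u =>
    map_T_of_isComodHom (isComodHom_subtype U hUsub) φ u
  let W : Submodule k U := (lsemi (π : A →ₐ[k] B).toLinearMap ψ').comap U.subtype
  have hW0 : W ≠ ⊥ := by
    intro h0
    have h1 : (⟨f', hmem⟩ : U) ∈ W := hf'M
    rw [h0, Submodule.mem_bot] at h1
    exact hf' (congrArg Subtype.val h1)
  have hWst : ∀ g ∈ (⊤ : Subgroup (WithConv (A →ₐ[k] k))), ∀ w ∈ W, actHom U g w ∈ W := by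
    intro g _ w hw
    change ((actHom U g w : U) : A) ∈ lsemi (π : A →ₐ[k] B).toLinearMap ψ'
    rw [actHom_apply, hTU]
    exact T_mem_lsemi _ _ _ hw
  obtain ⟨v, hvW, hv0, heig⟩ := hasEig_top (k := k) (A := A) (V := U) hconn W hW0 hWst
  have hL : IsSubcomod (k := k) (A := A) (Submodule.span k {v}) := by
    apply isSubcomod_of_forall_point_mem
    intro g u hu
    obtain ⟨t, rfl⟩ := Submodule.mem_span_singleton.mp hu
    obtain ⟨c, hc⟩ := heig (toConv g) (Subgroup.mem_top _)
    rw [actHom_apply] at hc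
    rw [map_smul, show T g.toLinearMap v = c • v from hc]
    exact Submodule.smul_mem _ _ (Submodule.smul_mem _ _ (Submodule.mem_span_singleton_self v))
  have h1 : Module.finrank k (Submodule.span k {v}) = 1 := finrank_span_singleton hv0
  obtain ⟨v', hv'L, hv'0, χ', hχ', hρ⟩ := exists_groupLike_of_finrank_eq_one hL h1
  obtain ⟨c, rfl⟩ := Submodule.mem_span_singleton.mp hv'L
  have hc : c ≠ 0 := by
    rintro rfl
    exact hv'0 (zero_smul _ _)
  -- the element of `A`
  set a₀ : A := ((c • v : U) : A) with ha₀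
  have ha₀0 : a₀ ≠ 0 := fun h => hv'0 (Subtype.ext h)
  have ha₀M : a₀ ∈ lsemi (π : A →ₐ[k] B).toLinearMap ψ' := by
    have : (c • v : U) ∈ W := W.smul_mem c hvW
    exact this
  have hΔ : CoalgebraStruct.comul (R := k) a₀ = a₀ ⊗ₜ[k] χ' := by
    have h2 := rTensor_subtype_subCoact U hUsub (c • v)
    have h3 : subCoact U hUsub (c • v) = (c • v) ⊗ₜ[k] χ' := hρ
    rw [h3, LinearMap.rTensor_tmul] at h2
    exact h2.symm
  refine ⟨χ', hχ', ?_⟩
  -- `a₀ = ε(a₀) χ'`
  have h4 : a₀ = CoalgebraStruct.counit (R := k) a₀ • χ' := by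
    have h5 := Coalgebra.rTensor_counit_comul (R := k) a₀
    rw [hΔ, LinearMap.rTensor_tmul] at h5
    have h6 := congrArg (TensorProduct.lid k A) h5
    rw [TensorProduct.lid_tmul, TensorProduct.lid_tmul, one_smul] at h6
    exact h6.symm
  set e₀ : k := CoalgebraStruct.counit (R := k) a₀ with he₀
  have he₀0 : e₀ ≠ 0 := by
    intro h0
    apply ha₀0
    rw [h4, h0, zero_smul]
  rw [mem_lsemi, hΔ, LinearMap.rTensor_tmul] at ha₀M
  have h7 := congrArg (fun z => TensorProduct.rid k B
    ((CoalgebraStruct.counit (R := k) (A := A)).lTensor B z)) ha₀M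
  simp only [LinearMap.lTensor_tmul, TensorProduct.rid_tmul] at h7
  rw [hχ'.counit_eq_one, one_smul, ← he₀] at h7
  have h8 : (π : A →ₐ[k] B).toLinearMap a₀ = e₀ • π χ' := by
    conv_lhs => rw [h4]
    rw [map_smul]
    rfl
  rw [h8] at h7
  have h9 := congrArg (fun z => e₀⁻¹ • z) h7
  simp only [smul_smul, inv_mul_cancel₀ he₀0, one_smul] at h9
  exact h9

end Main

end Groth.Agent.Lib.T2H7.ObsSolvHopf
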