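import Groth.Agent.Lib.T2H7ObsFin
import Groth.Agent.Lib.Helper25Comod
import Groth.Prelude.Def_ComodTens

/-!
# T2H7ObsTFAE: observable subgroups, stabilisers of vectors, separating invariants
-/

set_option autoImplicit false
set_option linter.style.haveILetI false
set_option linter.unusedSectionVars false
set_option linter.unusedVariables false
universe u

open CategoryTheory MonoidalCategory CartesianMonoidalCategory MonObj GrpObj AlgebraicGeometry
open scoped TensorProduct

namespace Groth.Agent.Lib.T2H7.ObsTFAE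

open Groth.Agent.Lib.Helper25 Groth.Agent.Lib.Helper25.DensePts Groth.Agent.Lib.Helper25.SurjPts
open Groth.Agent.Lib.Helper25.GModComod Groth.Agent.Lib.T2H7.ObsPts Groth.Agent.Lib.T2H7.ObsFin
open Groth.Agent.Lib.T2H7.ObsHull

variable {k : Type u} [Field k] [IsAlgClosed k]
  {G : Over (Spec (CommRingCat.of k))} [GrpObj G] [IsAffine G.left]
  {H : Over (Spec (CommRingCat.of k))} [GrpObj H] [IsAffine H.left]

attribute [local instance] instHopfΓ

section StabToObs

variable {E : Type u} [AddCommGroup E] [Module k E]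

theorem isAffine_tensor : IsAffine (G ⊗ H).left := by
  change IsAffine (Limits.pullback G.hom H.hom)
  infer_instance

theorem smooth_tensor [Smooth G.hom] [Smooth H.hom] : Smooth (G ⊗ H).hom := by
  rw [Over.tensorObj_hom]
  infer_instance

/-- evaluation at a point of a pulled back function -/
theorem evA_appTop {P : Over (Spec (CommRingCat.of k))} [GrpObj P] [IsAffine P.left]
    (t : P ⟶ G) {B : Type u} [CommRing B] [Algebra k B] (z : VecGrp.pt k B ⟶ P)
    (c : Γ(G.left, ⊤)) : evA z (t.left.appTop c) = evA (z ≫ t) c := by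
  rw [evA_apply, evA_apply, left_appTop_comp_apply]

/-- matrix coefficients of a vector fixed by the rational points of a smooth subgroup are
right-invariant under the subgroup -/
theorem isRTransInv_coeff_of_pts [Smooth G.hom] [Smooth H.hom] (i : H ⟶ G)
    (m : VecGrp.GMod G E) (a : E)
    (ha : ∀ h : VecGrp.pt k k ⟶ H, m.ρ k (h ≫ i) ((1 : k) ⊗ₜ[k] a) = (1 : k) ⊗ₜ[k] a)
    (φ : E →ₗ[k] k) : AGF.IsRTransInv i (coeff m a φ) := by
  have hP : IsAffine (G ⊗ H).left := isAffine_tensor
  have hPs : Smooth (G ⊗ H).hom := smooth_tensor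
  have hPr : _root_.IsReduced Γ((G ⊗ H).left, ⊤) := isReduced_Γ (k := k) (G := G ⊗ H)
  change ((G ◁ i) ≫ μ[G]).left.appTop (coeff m a φ) = (fst G H).left.appTop (coeff m a φ)
  rw [← sub_eq_zero]
  apply eq_zero_of_forall_evA (k := k) (G := G ⊗ H)
  intro z
  rw [map_sub, evA_appTop, evA_appTop, sub_eq_zero]
  have hz : z ≫ (G ◁ i) ≫ μ[G] = (z ≫ fst G H) * ((z ≫ snd G H) ≫ i) := by
    rw [← lift_whisker_mul i (z ≫ fst G H) (z ≫ snd G H)]
    congr 1
    apply CartesianMonoidalCategory.hom_ext <;> simp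
  rw [hz, evA_coeff, evA_coeff, map_mul]
  congr 2
  change m.ρ k (z ≫ fst G H) (m.ρ k ((z ≫ snd G H) ≫ i) ((1 : k) ⊗ₜ[k] a)) = _
  rw [ha]

/-- a subgroup which is the stabiliser of a vector on rational points is observable -/
theorem observable_of_stab [Smooth G.hom] [Smooth H.hom] (i : H ⟶ G) (m : VecGrp.GMod G E)
    (v : E) (hv : AGF.IsStabOnPts k i m v) : AGF.IsObservableIn k i := by
  intro g hg
  apply (hv g).mp
  apply rho_eq_of_isRTransInv_coeff
  intro φ
  apply hg
  apply isRTransInv_coeff_of_pts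
  intro h
  exact (hv (h ≫ i)).mpr ⟨h, rfl⟩

end StabToObs

section ObsToSep

/-- left translates of a right-invariant function are right-invariant -/
theorem isRTransInv_lTr (i : H ⟶ G) (f : Γ(G.left, ⊤)) (hf : AGF.IsRTransInv i f)
    (x : VecGrp.pt k k ⟶ G) : AGF.IsRTransInv i (lTr x f) := by
  apply isRTransInv_of_evA
  intro B _ _ x' y
  rw [← evA_pt_mul x _ (VecGrp.ptMap (Algebra.ofId k B)), ← evA_pt_mul x _
    (VecGrp.ptMap (Algebra.ofId k B)), ← _root_.mul_assoc]
  exact evA_of_isRTransInv i f hf _ y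

/-- all left translates of a function lie in one finitely generated subspace -/
theorem exists_finset_lTr_mem (f : Γ(G.left, ⊤)) :
    ∃ T : Finset Γ(G.left, ⊤), ∀ x : VecGrp.pt k k ⟶ G,
      lTr x f ∈ Submodule.span k (T : Set Γ(G.left, ⊤)) := by
  classical
  obtain ⟨S, hS⟩ := TensorProduct.exists_finset (CoalgebraStruct.comul (R := k) f)
  refine ⟨S.image Prod.snd, fun x => ?_⟩
  rw [lTr, hS, map_sum, map_sum]
  apply Submodule.sum_mem
  intro p hp
  rw [LinearMap.rTensor_tmul, TensorProduct.lid_tmul]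
  apply Submodule.smul_mem
  apply Submodule.subset_span
  exact Finset.mem_coe.mpr (Finset.mem_image_of_mem Prod.snd hp)

/-- right translation is compatible with pulling back along the inclusion of the subgroup -/
theorem isRTransInv_comp {T T' : Over (Spec (CommRingCat.of k))} [IsAffine T'.left] (t : T ⟶ G)
    (y : T' ⟶ T) (f : Γ(G.left, ⊤)) (hf : AGF.IsRTransInv t f) : AGF.IsRTransInv (y ≫ t) f := by
  apply isRTransInv_of_evA
  intro B _ _ x y'
  rw [← Category.assoc]
  exact evA_of_isRTransInv t f hf x (y' ≫ y)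

theorem isAffine_pt : IsAffine (VecGrp.pt k k).left := by
  change IsAffine (Spec (CommRingCat.of k))
  infer_instance

/-- an observable subgroup has finitely many invariant functions separating its cosets -/
theorem exists_separating [Smooth G.hom] (i : H ⟶ G) (hobs : AGF.IsObservableIn k i) :
    ∃ s : Finset Γ(G.left, ⊤), (∀ f ∈ s, AGF.IsRTransInv i f) ∧
      ∀ g g' : VecGrp.pt k k ⟶ G, (∀ f ∈ s, evA g f = evA g' f) →
        ∃ h : VecGrp.pt k k ⟶ H, g' = g * (h ≫ i) := by
  classical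
  have hN : IsNoetherianRing Γ(G.left, ⊤) := isNoetherianRing_Γ (k := k)
  have hR : _root_.IsReduced Γ(G.left, ⊤) := isReduced_Γ (k := k)
  have hka := isAffine_pt (k := k)
  obtain ⟨s₀, hs₀, hs₀'⟩ := exists_finset_hull (k := k) (G := G) (fun f => AGF.IsRTransInv i f)
  -- the span of the left translates of the functions in `s₀`
  let S : Set Γ(G.left, ⊤) := {d | ∃ f ∈ s₀, ∃ x : VecGrp.pt k k ⟶ G, d = lTr x f}
  have hWfg : (Submodule.span k S).FG := by
    choose T hT using fun f : Γ(G.left, ⊤) => exists_finset_lTr_mem (k := k) (G := G) f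
    have hle : Submodule.span k S ≤
        Submodule.span k ((s₀.biUnion T : Finset Γ(G.left, ⊤)) : Set Γ(G.left, ⊤)) := by
      rw [Submodule.span_le]
      rintro d ⟨f, hf, x, rfl⟩
      refine Submodule.span_mono ?_ (hT f x)
      intro a ha
      exact Finset.mem_coe.mpr (Finset.mem_biUnion.mpr ⟨f, hf, ha⟩)
    have h1 : FiniteDimensional k (Submodule.span k
        ((s₀.biUnion T : Finset Γ(G.left, ⊤)) : Set Γ(G.left, ⊤))) :=
      FiniteDimensional.span_finset k _
    have h2 := Submodule.finiteDimensional_of_le hle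
    exact (Submodule.fg_iff_finiteDimensional _).mpr h2
  obtain ⟨S', hS'S, hS'⟩ := (Submodule.fg_span_iff_fg_span_finset_subset S).mp hWfg
  refine ⟨S', ?_, ?_⟩
  · intro d hd
    obtain ⟨f, hf, x, rfl⟩ := hS'S hd
    exact isRTransInv_lTr i f (hs₀ f hf) x
  · intro g g' hgg'
    have h1 : ∀ d ∈ Submodule.span k S, evA g d = evA g' d := by
      intro d hd
      rw [hS'] at hd
      have hle : Submodule.span k (S' : Set Γ(G.left, ⊤)) ≤
          LinearMap.eqLocus (evA g).toLinearMap (evA g').toLinearMap := by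
        rw [Submodule.span_le]
        intro d' hd'
        exact hgg' d' hd'
      exact hle hd
    have h2 : ∀ f ∈ s₀, ∀ x : VecGrp.pt k k ⟶ G, evA (x * g) f = evA (x * g') f := by
      intro f hf x
      rw [evA_mul_rat', evA_mul_rat']
      exact h1 _ (Submodule.subset_span ⟨f, hf, x, rfl⟩)
    have h3 : ∀ f ∈ s₀, rTr (g⁻¹ * g') f = f := by
      intro f hf
      rw [← sub_eq_zero]
      apply eq_zero_of_forall_evA
      intro y
      rw [map_sub, sub_eq_zero, ← evA_mul_rat, ← _root_.mul_assoc, ← h2 f hf,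
        inv_mul_cancel_right]
    have h4 := hs₀' (g⁻¹ * g') h3
    obtain ⟨h, hh⟩ := hobs (g⁻¹ * g') (fun f hf => (isRTransInv_pt_iff _ f).mpr (h4 f hf))
    exact ⟨h, by rw [hh, mul_inv_cancel_left]⟩

end ObsToSep

section ActPt

variable {E : Type u} [AddCommGroup E] [Module k E]

/-- the action of a rational point on a comodule -/
noncomputable def actPt (δ : E →ₗ[k] E ⊗[k] Γ(G.left, ⊤)) (g : VecGrp.pt k k ⟶ G) (w : E) : E :=
  TensorProduct.rid k E ((evA g).toLinearMap.lTensor E (δ w))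

theorem comm_eq_one_tmul_rid (z : E ⊗[k] k) :
    (TensorProduct.comm k E k) z = (1 : k) ⊗ₜ[k] (TensorProduct.rid k E z) := by
  induction z using TensorProduct.induction_on with
  | zero => simp
  | add x y hx hy => simp only [map_add, hx, hy, TensorProduct.tmul_add]
  | tmul e c =>
    rw [TensorProduct.comm_tmul, TensorProduct.rid_tmul, TensorProduct.tmul_smul,
      TensorProduct.smul_tmul', smul_eq_mul, _root_.mul_one]

theorem one_tmul_injective {w w' : E} (h : (1 : k) ⊗ₜ[k] w = (1 : k) ⊗ₜ[k] w') : w = w' := by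
  have := congrArg (TensorProduct.lid k E) h
  simpa using this

theorem gmodOfCoact_pt (δ : E →ₗ[k] E ⊗[k] Γ(G.left, ⊤))
    (hco : (TensorProduct.assoc k E Γ(G.left, ⊤) Γ(G.left, ⊤)).toLinearMap ∘ₗ
        δ.rTensor Γ(G.left, ⊤) ∘ₗ δ =
      (CoalgebraStruct.comul (R := k) (A := Γ(G.left, ⊤))).lTensor E ∘ₗ δ)
    (hcu : (CoalgebraStruct.counit (R := k) (A := Γ(G.left, ⊤))).lTensor E ∘ₗ δ =
      (TensorProduct.mk k E k).flip 1) (g : VecGrp.pt k k ⟶ G) (w : E) :
    (gmodOfCoact δ hco hcu).ρ k g ((1 : k) ⊗ₜ[k] w) = (1 : k) ⊗ₜ[k] actPt δ g w := by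
  rw [gmodOfCoact_one_tmul, comm_eq_one_tmul_rid, actPt]

theorem gmodOfCoact_pt_fixed_iff (δ : E →ₗ[k] E ⊗[k] Γ(G.left, ⊤))
    (hco : (TensorProduct.assoc k E Γ(G.left, ⊤) Γ(G.left, ⊤)).toLinearMap ∘ₗ
        δ.rTensor Γ(G.left, ⊤) ∘ₗ δ =
      (CoalgebraStruct.comul (R := k) (A := Γ(G.left, ⊤))).lTensor E ∘ₗ δ)
    (hcu : (CoalgebraStruct.counit (R := k) (A := Γ(G.left, ⊤))).lTensor E ∘ₗ δ =
      (TensorProduct.mk k E k).flip 1) (g : VecGrp.pt k k ⟶ G) (w : E) :
    (gmodOfCoact δ hco hcu).ρ k g ((1 : k) ⊗ₜ[k] w) = (1 : k) ⊗ₜ[k] w ↔ actPt δ g w = w := by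
  rw [gmodOfCoact_pt]
  exact ⟨one_tmul_injective, fun h => by rw [h]⟩

/-- compatibility of `actPt` with a comodule map -/
theorem actPt_map {E' : Type u} [AddCommGroup E'] [Module k E'] (δ : E →ₗ[k] E ⊗[k] Γ(G.left, ⊤))
    (δ' : E' →ₗ[k] E' ⊗[k] Γ(G.left, ⊤)) (p : E →ₗ[k] E')
    (hp : ∀ w, p.rTensor Γ(G.left, ⊤) (δ w) = δ' (p w)) (g : VecGrp.pt k k ⟶ G) (w : E) :
    p (actPt δ g w) = actPt δ' g (p w) := by
  rw [actPt, actPt, ← hp]
  generalize δ w = z
  induction z using TensorProduct.induction_on with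
  | zero => simp
  | add x y hx hy => simp only [map_add, hx, hy]
  | tmul e c => simp

theorem actPt_regular (g : VecGrp.pt k k ⟶ G) (f : Γ(G.left, ⊤)) :
    actPt (CoalgebraStruct.comul (R := k) (A := Γ(G.left, ⊤))) g f = rTr g f := rfl

end ActPt

section SepToStab

open HopfRep

/-- finitely many separating invariants make the subgroup the stabiliser of a vector -/
theorem exists_stab_of_separating (i : H ⟶ G) (s : Finset Γ(G.left, ⊤))
    (hs : ∀ f ∈ s, AGF.IsRTransInv i f)
    (hsep : ∀ g g' : VecGrp.pt k k ⟶ G, (∀ f ∈ s, evA g f = evA g' f) →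
      ∃ h : VecGrp.pt k k ⟶ H, g' = g * (h ≫ i)) :
    ∃ (V : Type u) (_ : AddCommGroup V) (_ : Module k V) (_ : Module.Finite k V)
      (ρ : VecGrp.GMod G V) (v : V), AGF.IsStabOnPts k i ρ v := by
  classical
  have hka := isAffine_pt (k := k)
  obtain ⟨U', hfg, hsub, hle⟩ := exists_fg_subcomod_ge (k := k) (A := Γ(G.left, ⊤))
    (V := Γ(G.left, ⊤)) (Submodule.span k (s : Set Γ(G.left, ⊤)))
    (Submodule.fg_span s.finite_toSet)
  let c' : HopfRep.Comod k Γ(G.left, ⊤) U' := subComod U' hsub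
  let cP : HopfRep.Comod k Γ(G.left, ⊤) (↥s → U') := ComodTens.Comod.pi (fun _ => c')
  haveI : Module.Finite k U' := Module.Finite.iff_fg.mpr hfg
  let v : ↥s → U' := fun f => ⟨f.1, hle (Submodule.subset_span f.2)⟩
  refine ⟨↥s → U', inferInstance, inferInstance, inferInstance,
    gmodOfCoact cP.coact cP.coassoc cP.counit_comp, v, ?_⟩
  intro g
  rw [gmodOfCoact_pt_fixed_iff]
  have hp : ∀ (j : ↥s) (w : ↥s → U'),
      (U'.subtype ∘ₗ LinearMap.proj j).rTensor Γ(G.left, ⊤) (cP.coact w) =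
        CoalgebraStruct.comul (R := k) ((w j : U') : Γ(G.left, ⊤)) := by
    intro j w
    rw [ComodTens.pi_coact, map_sum, Finset.sum_eq_single j]
    · rw [← LinearMap.rTensor_comp_apply]
      have e1 : (U'.subtype ∘ₗ LinearMap.proj j) ∘ₗ LinearMap.single k (fun _ : ↥s => ↥U') j =
          U'.subtype := by
        ext x
        simp
      rw [e1]
      exact rTensor_subtype_subCoact U' hsub (w j)
    · intro l _ hl
      rw [← LinearMap.rTensor_comp_apply]
      have e1 : (U'.subtype ∘ₗ LinearMap.proj j) ∘ₗ LinearMap.single k (fun _ : ↥s => ↥U') l =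
          0 := by
        ext x
        simp [Pi.single_eq_of_ne (Ne.symm hl)]
      rw [e1, LinearMap.rTensor_zero, LinearMap.zero_apply]
    · intro hj
      exact absurd (Finset.mem_univ j) hj
  have key : ∀ j : ↥s, ((actPt cP.coact g v j : U') : Γ(G.left, ⊤)) = rTr g j.1 := by
    intro j
    have h1 := actPt_map cP.coact (CoalgebraStruct.comul (R := k) (A := Γ(G.left, ⊤)))
      (U'.subtype ∘ₗ LinearMap.proj j) (hp j) g v
    rw [actPt_regular] at h1
    exact h1
  have hfix : actPt cP.coact g v = v ↔ ∀ f ∈ s, rTr g f = f := by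
    constructor
    · intro h f hf
      have := key ⟨f, hf⟩
      rw [h] at this
      exact this.symm
    · intro h
      funext j
      apply Subtype.ext
      rw [key j]
      exact h j.1 j.2
  rw [hfix]
  constructor
  · intro h
    have h1 : ∀ f ∈ s, evA (1 : VecGrp.pt k k ⟶ G) f = evA g f := by
      intro f hf
      have := evA_mul_rat (1 : VecGrp.pt k k ⟶ G) g f
      rw [_root_.one_mul, h f hf] at this
      exact this.symm
    obtain ⟨h', hh'⟩ := hsep 1 g h1
    exact ⟨h', by rw [hh', _root_.one_mul]⟩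
  · rintro ⟨h, rfl⟩ f hf
    exact (isRTransInv_pt_iff _ f).mp (isRTransInv_comp i h f (hs f hf))

end SepToStab

end Groth.Agent.Lib.T2H7.ObsTFAE
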