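import Groth.Agent.Lib.T2H7NRQB
import Groth.Agent.Lib.Helper4VarDim9
set_option autoImplicit false
set_option linter.unusedSectionVars false
set_option linter.unusedVariables false
set_option linter.style.haveILetI false
universe u
open CategoryTheory MonoidalCategory CartesianMonoidalCategory MonObj GrpObj AlgebraicGeometry Limits
open TopologicalSpace

namespace Groth.Agent.Lib.T2H7.OrbDim

open Groth.Agent.Lib.T2H7.NRQ Groth.Agent.Lib.T2H7.NRQB Groth.Agent.Lib.Helper4.VarDim

section Top

variable {α : Type*} [TopologicalSpace α] [QuasiSober α] [T0Space α]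

/-- In a quasi-sober `T0` space in which every point has a Noetherian open neighbourhood, every point
of the closure of a locally closed set `O` is a specialization of a point of `O`. -/
theorem exists_specializes_of_mem_closure
    (hN : ∀ x : α, ∃ U : Opens α, x ∈ U ∧ NoetherianSpace ↥U)
    (O : Set α) (hO : IsLocallyClosed O) (d : α) (hd : d ∈ closure O) :
    ∃ ξ ∈ O, ξ ⤳ d := by
  haveI : QuasiSober ↥(closure O) := quasiSober_of_isLocallyClosed _ isClosed_closure.isLocallyClosed
  obtain ⟨y, hy, hyd⟩ := exists_generic_specializes (⟨d, hd⟩ : ↥(closure O))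
  have hmax : ∀ z : ↥(closure O), z ⤳ y → z = y := fun z hz => eq_of_specializes_generic y z hy hz
  obtain ⟨U, hyU, hUN⟩ := hN y.1
  let U' : Opens ↥(closure O) := ⟨Subtype.val ⁻¹' (U : Set α), U.isOpen.preimage continuous_subtype_val⟩
  haveI : NoetherianSpace ↥U' := by
    let f : ↥U' → ↥U := fun z => ⟨z.1.1, z.2⟩
    have hf : Topology.IsInducing f := by
      have h1 : Topology.IsInducing (fun z : ↥U' => (z.1.1 : α)) :=
        Topology.IsInducing.subtypeVal.comp Topology.IsInducing.subtypeVal
      have h2 : (fun z : ↥U' => (z.1.1 : α)) = Subtype.val ∘ f := rfl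
      rw [h2] at h1
      exact Topology.IsInducing.of_comp (by fun_prop) continuous_subtype_val h1
    exact hf.noetherianSpace
  obtain ⟨N, hyN, hNsub⟩ := exists_opens_subset_closure_of_maximal U' y hyU hmax
  -- `O` is dense in its closure
  obtain ⟨V, hV, hVN⟩ := isOpen_induced_iff.mp N.isOpen
  have hyV : y.1 ∈ V := by
    have : y ∈ Subtype.val ⁻¹' V := by rw [hVN]; exact hyN
    exact this
  obtain ⟨o, hoV, hoO⟩ := mem_closure_iff.mp y.2 V hV hyV
  have hoN : (⟨o, subset_closure hoO⟩ : ↥(closure O)) ∈ (N : Set ↥(closure O)) := by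
    rw [← hVN]; exact hoV
  have hsp : y ⤳ (⟨o, subset_closure hoO⟩ : ↥(closure O)) :=
    specializes_iff_mem_closure.mpr (hNsub hoN)
  have hsp' : y.1 ⤳ o := hsp.map continuous_subtype_val
  obtain ⟨W, Z, hW, hZ, rfl⟩ := hO
  refine ⟨y.1, ⟨?_, ?_⟩, hyd.map continuous_subtype_val⟩
  · exact hsp'.mem_open hW hoO.1
  · exact (closure_minimal Set.inter_subset_right hZ) y.2

end Top


section Dim

variable (k : Type u) [Field k] (X : Scheme.{u}) [X.Over (Spec (CommRingCat.of k))]
  [LocallyOfFiniteType (X ↘ Spec (CommRingCat.of k))]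

include k in
/-- Pointwise form: a boundary point of a locally closed set `O` has transcendence degree strictly
smaller than the dimension of `O`. -/
theorem trdegNat_add_one_le_of_mem_boundary (O : Set X) (hO : IsLocallyClosed O) (d : X)
    (hd : d ∈ closure O \ O) :
    ((trdegNat k X d + 1 : ℕ) : WithBot ℕ∞) ≤ topologicalKrullDim ↥O := by
  haveI : IsLocallyNoetherian X :=
    LocallyOfFiniteType.isLocallyNoetherian (X ↘ Spec (CommRingCat.of k))
  have hN : ∀ x : X, ∃ U : Opens X, x ∈ U ∧ NoetherianSpace ↥U := by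
    intro x
    obtain ⟨_, ⟨U, hU, rfl⟩, hxU, -⟩ := X.isBasis_affineOpens.exists_subset_of_mem_open
      (Set.mem_univ x) isOpen_univ
    replace hU : IsAffineOpen U := hU
    haveI : IsNoetherianRing Γ(X, U) := IsLocallyNoetherian.component_noetherian ⟨U, hU⟩
    exact ⟨U, hxU, noetherianSpace_of_isAffineOpen U hU⟩
  obtain ⟨ξ, hξO, hξd⟩ := exists_specializes_of_mem_closure hN O hO d hd.1
  have hne : ξ ≠ d := fun h => hd.2 (h ▸ hξO)
  have h1 := trdegNat_lt_of_specializes k X ξ d hξd hne
  have h2 := trdegNat_le_topologicalKrullDim_of_isLocallyClosed k X O hO ξ hξO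
  refine le_trans ?_ h2
  exact_mod_cast h1

include k in
/-- The boundary of a locally closed subset of a scheme locally of finite type over a field has
strictly smaller dimension. -/
theorem topologicalKrullDim_boundary_add_one_le (O : Set X) (hO : IsLocallyClosed O) :
    topologicalKrullDim ↥(closure O \ O) + 1 ≤ topologicalKrullDim ↥O := by
  have hDc : IsClosed (closure O \ O) := by
    have h := hO.isOpen_coborder
    rw [coborder] at h
    exact isOpen_compl_iff.mp h
  haveI : QuasiSober ↥(closure O \ O) := quasiSober_of_isLocallyClosed _ hDc.isLocallyClosed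
  exact topologicalKrullDim_add_one_le k X _ _ fun d hd =>
    trdegNat_add_one_le_of_mem_boundary k X O hO d hd

end Dim


section Main

theorem topologicalKrullDim_mono {α : Type*} [TopologicalSpace α] {A B : Set α} (h : A ⊆ B) :
    topologicalKrullDim ↥A ≤ topologicalKrullDim ↥B :=
  (Topology.IsEmbedding.inclusion h).isInducing.topologicalKrullDim_le

variable {k : Type u} [Field k] [IsAlgClosed k]
variable {G X : Over (Spec (CommRingCat.of k))} [GrpObj G] (a : AlgGrp.Action G X)

/-- An orbit of minimal dimension is closed. -/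
theorem isClosed_orbit_of_minimal [CompactSpace G.left] [LocallyOfFiniteType G.hom]
    [LocallyOfFiniteType X.hom] [QuasiCompact X.hom]
    (x : 𝟙_ (Over (Spec (CommRingCat.of k))) ⟶ X)
    (hmin : ∀ y : 𝟙_ (Over (Spec (CommRingCat.of k))) ⟶ X,
      topologicalKrullDim (Set.range (a.orbitMap x).left.base) ≤
        topologicalKrullDim (Set.range (a.orbitMap y).left.base)) :
    IsClosed (Set.range (a.orbitMap x).left.base) := by
  letI : X.left.Over (Spec (CommRingCat.of k)) := ⟨X.hom⟩
  haveI : LocallyOfFiniteType (X.left ↘ Spec (CommRingCat.of k)) := ‹LocallyOfFiniteType X.hom›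
  by_contra hnc
  have hDne : (closure (Set.range (a.orbitMap x).left.base) \
      Set.range (a.orbitMap x).left.base).Nonempty := by
    rw [Set.nonempty_iff_ne_empty]
    intro hD
    exact hnc (closure_subset_iff_isClosed.mp (Set.sdiff_eq_empty.mp hD))
  have hDc := isClosed_closure_diff_orbit a x
  obtain ⟨y, hy⟩ := exists_pt_mem (X := X) _ hDc.isLocallyClosed hDne
  have hOy := orbit_subset_of_isInvariantSet a (isInvariantSet_closure_diff_orbit a x) y hy
  have h1 := topologicalKrullDim_mono hOy
  have h3 := (hmin y).trans h1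
  haveI : CompactSpace ↥X.left := QuasiCompact.compactSpace_of_compactSpace X.hom
  obtain ⟨N, hN⟩ := exists_trdegNat_le k X.left
  have hfin : ((trdegNat k X.left) '' (closure (Set.range (a.orbitMap x).left.base) \
      Set.range (a.orbitMap x).left.base)).Finite :=
    (Set.finite_le_nat N).subset (by rintro _ ⟨t, _, rfl⟩; exact hN t)
  obtain ⟨_, ⟨t₀, ht₀, rfl⟩, hmax⟩ := Set.exists_max_image _ id hfin (hDne.image _)
  haveI : QuasiSober ↥(closure (Set.range (a.orbitMap x).left.base) \
      Set.range (a.orbitMap x).left.base) := quasiSober_of_isLocallyClosed _ hDc.isLocallyClosed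
  have h4 : topologicalKrullDim ↥(closure (Set.range (a.orbitMap x).left.base) \
      Set.range (a.orbitMap x).left.base) ≤ ((trdegNat k X.left t₀ : ℕ) : WithBot ℕ∞) := by
    refine topologicalKrullDim_le_of_forall_trdegNat_le k X.left _ _ fun t ht => ?_
    exact_mod_cast hmax _ ⟨t, ht, rfl⟩
  have h5 := trdegNat_add_one_le_of_mem_boundary k X.left _ (isLocallyClosed_orbit a x) t₀ ht₀
  have h6 := (h5.trans h3).trans h4
  have h7 : trdegNat k X.left t₀ + 1 ≤ trdegNat k X.left t₀ := by exact_mod_cast h6
  omega

end Main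

end Groth.Agent.Lib.T2H7.OrbDim
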