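import Groth.Agent.Lib.T2H7OrbDim
set_option autoImplicit false
set_option linter.unusedSectionVars false
set_option linter.unusedVariables false
set_option linter.style.haveILetI false
universe u
open CategoryTheory MonoidalCategory CartesianMonoidalCategory MonObj GrpObj AlgebraicGeometry Limits
open TopologicalSpace

namespace Groth.Agent.Lib.T2H7.OrbDimB

open Groth.Agent.Lib.T2H7.NRQ Groth.Agent.Lib.T2H7.NRQB Groth.Agent.Lib.Helper4.VarDim
open Groth.Agent.Lib.T2H7.OrbDim

section Dim

variable (k : Type u) [Field k] (X : Scheme.{u}) [X.Over (Spec (CommRingCat.of k))]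
  [LocallyOfFiniteType (X ↘ Spec (CommRingCat.of k))]

include k in
/-- Strict form: the boundary of a nonempty locally closed subset of a quasi-compact scheme locally
of finite type over a field has strictly smaller dimension. -/
theorem topologicalKrullDim_boundary_lt [CompactSpace X] (O : Set X) (hO : IsLocallyClosed O)
    (hne : O.Nonempty) :
    topologicalKrullDim ↥(closure O \ O) < topologicalKrullDim ↥O := by
  have hDc : IsClosed (closure O \ O) := by
    have h := hO.isOpen_coborder
    rw [coborder] at h
    exact isOpen_compl_iff.mp h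
  haveI : QuasiSober ↥(closure O \ O) := quasiSober_of_isLocallyClosed _ hDc.isLocallyClosed
  have h1 := topologicalKrullDim_boundary_add_one_le k X O hO
  obtain ⟨N, hN⟩ := exists_trdegNat_le k X
  have h2 : topologicalKrullDim ↥(closure O \ O) ≤ ((N : ℕ) : WithBot ℕ∞) :=
    topologicalKrullDim_le_of_forall_trdegNat_le k X _ _ fun t _ => by exact_mod_cast hN t
  haveI : Nonempty ↥O := hne.to_subtype
  have h3 : (0 : WithBot ℕ∞) ≤ topologicalKrullDim ↥O := by
    obtain ⟨o⟩ := ‹Nonempty ↥O›
    haveI : Nonempty (IrreducibleCloseds ↥O) :=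
      ⟨⟨closure {o}, isIrreducible_singleton.closure, isClosed_closure⟩⟩
    exact Order.krullDim_nonneg
  generalize topologicalKrullDim ↥(closure O \ O) = b at h1 h2
  generalize topologicalKrullDim ↥O = c at h1 h3
  induction b using WithBot.recBotCoe with
  | bot => exact lt_of_lt_of_le (WithBot.bot_lt_coe 0) h3
  | coe b =>
    induction b using ENat.recTopCoe with
    | top =>
      exfalso
      have : ((⊤ : ℕ∞) : WithBot ℕ∞) ≤ ((N : ℕ∞) : WithBot ℕ∞) := h2
      rw [WithBot.coe_le_coe] at this
      exact absurd this (by simp)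
    | coe b =>
      refine lt_of_lt_of_le ?_ h1
      have : ((b : ℕ∞) : WithBot ℕ∞) + 1 = (((b + 1 : ℕ) : ℕ∞) : WithBot ℕ∞) := by
        push_cast; rfl
      rw [this, WithBot.coe_lt_coe]
      exact_mod_cast Nat.lt_succ_self b

end Dim

section Main

variable {k : Type u} [Field k] [IsAlgClosed k]
variable {G X : Over (Spec (CommRingCat.of k))} [GrpObj G] (a : AlgGrp.Action G X)

theorem topologicalKrullDim_closure_diff_orbit_lt [CompactSpace G.left] [LocallyOfFiniteType G.hom]
    [LocallyOfFiniteType X.hom] [QuasiCompact X.hom]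
    (x : 𝟙_ (Over (Spec (CommRingCat.of k))) ⟶ X) :
    topologicalKrullDim ↥(closure (Set.range (a.orbitMap x).left.base) \
        Set.range (a.orbitMap x).left.base) <
      topologicalKrullDim ↥(Set.range (a.orbitMap x).left.base) := by
  letI : X.left.Over (Spec (CommRingCat.of k)) := ⟨X.hom⟩
  haveI : LocallyOfFiniteType (X.left ↘ Spec (CommRingCat.of k)) := ‹LocallyOfFiniteType X.hom›
  haveI : CompactSpace ↥X.left := QuasiCompact.compactSpace_of_compactSpace X.hom
  refine topologicalKrullDim_boundary_lt k X.left _ (isLocallyClosed_orbit a x) ?_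
  exact ⟨_, pt_mem_orbit a x⟩

end Main

end Groth.Agent.Lib.T2H7.OrbDimB
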