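import Groth.Agent.Lib.T2H7RedGrp
import Groth.Agent.Lib.Helper11OrbitSubR
import Groth.Agent.Lib.Helper12Submersive
import Groth.Agent.Lib.T2H7NRQ
import Groth.Agent.Lib.Helper8Grp
set_option autoImplicit false
set_option linter.unusedSectionVars false
set_option linter.unusedVariables false
set_option linter.style.haveILetI false
universe u
open CategoryTheory MonoidalCategory CartesianMonoidalCategory MonObj GrpObj AlgebraicGeometry Limits
  TopologicalSpace

namespace Groth.Agent.Lib.T2H7.OrbProper

open Groth.Agent.Lib.T2H7.RedGrp Groth.Agent.Lib.T2H7.NRQ Groth.Agent.Lib.Helper12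
  Groth.Agent.Lib.Helper12.Submersive

section US

/-- a universally open surjective morphism is universally submersive -/
theorem us_of_universallyOpen_of_surjective {X Y : Scheme.{u}} (f : X ⟶ Y) [UniversallyOpen f]
    [Surjective f] : US f := by
  intro X' Y' i₁ i₂ f' h
  have h1 : UniversallyOpen f' := MorphismProperty.of_isPullback (P := @UniversallyOpen) h.flip ‹_›
  have h2 : Surjective f' := MorphismProperty.of_isPullback (P := @Surjective) h.flip ‹_›
  exact f'.isOpenMap.isQuotientMap f'.continuous h2.surj

end US

section Equiv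

variable {S : Scheme.{u}} {G X Y : Over S} [GrpObj G] (a : AlgGrp.Action G X)
  (b : AlgGrp.Action G Y) (f : Y ⟶ X)

theorem orbitMap_comp_of_equivariant (hf : (G ◁ f) ≫ a.act = b.act ≫ f)
    (y : 𝟙_ (Over S) ⟶ Y) : b.orbitMap y ≫ f = a.orbitMap (y ≫ f) := by
  unfold AlgGrp.Action.orbitMap
  rw [Category.assoc, ← hf, ← Category.assoc]
  congr 1
  apply CartesianMonoidalCategory.hom_ext
  · rw [Category.assoc, whiskerLeft_fst, lift_fst, lift_fst]
  · rw [Category.assoc, whiskerLeft_snd, lift_snd_assoc, lift_snd, Category.assoc]

end Equiv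

section Main

variable {k : Type u} [Field k] [IsAlgClosed k]
  {G X : Over (Spec (CommRingCat.of k))} [GrpObj G]
  [LocallyOfFiniteType G.hom] [QuasiCompact G.hom] [LocallyOfFiniteType X.hom] [QuasiCompact X.hom]
  (a : AlgGrp.Action G X) (x : 𝟙_ (Over (Spec (CommRingCat.of k))) ⟶ X)

/-- **an orbit map with closed image and proper stabilizer is universally closed.** -/
theorem universallyClosed_orbitMap
    (hcl : IsClosed (Set.range (a.orbitMap x).left.base))
    (hst : UniversallyClosed (pullback.snd (a.orbitMap x).left x.left)) :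
    UniversallyClosed (a.orbitMap x).left := by
  -- the reduced subgroup and its action
  haveI hGrlft : LocallyOfFiniteType (redObj G).hom := by
    show LocallyOfFiniteType
      ((Scheme.IdealSheafData.vanishingIdeal (⊤ : Closeds G.left)).subschemeι ≫ G.hom)
    infer_instance
  haveI hGrqc : QuasiCompact (redObj G).hom := by
    show QuasiCompact
      ((Scheme.IdealSheafData.vanishingIdeal (⊤ : Closeds G.left)).subschemeι ≫ G.hom)
    infer_instance
  obtain ⟨a', ha'⟩ : ∃ a' : AlgGrp.Action (redObj G) X, a' = restrictHom (redι G) a := ⟨_, rfl⟩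
  obtain ⟨Y, b, y, f, h1, h2, himm, hred, hlft, hqc, hsurj⟩ :=
    Groth.Agent.Lib.Helper11OrbitSubR.exists_orbit_subscheme_of_isReduced k (redObj G) X a' x
  have hflat : Flat (b.orbitMap y).left :=
    Groth.Agent.Lib.Helper11Orbit.flat_orbitMap_of_surjective k b y hsurj
  have hα : b.orbitMap y ≫ f = redι G ≫ a.orbitMap x := by
    rw [orbitMap_comp_of_equivariant a' b f h1 y, h2, ha', restrictHom_orbitMap]
  have hαl : (b.orbitMap y).left ≫ f.left = (redι G).left ≫ (a.orbitMap x).left := by
    rw [← Over.comp_left, hα, Over.comp_left]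
  -- `f` is a closed immersion
  have hrange : Set.range f.left.base = Set.range (a.orbitMap x).left.base := by
    have e1 : Set.range ((b.orbitMap y).left ≫ f.left).base = Set.range f.left.base := by
      rw [Scheme.Hom.comp_base, TopCat.coe_comp, Set.range_comp,
        Set.range_eq_univ.mpr hsurj.surj, Set.image_univ]
    have e2 : Set.range ((redι G).left ≫ (a.orbitMap x).left).base =
        Set.range (a.orbitMap x).left.base := by
      rw [Scheme.Hom.comp_base, TopCat.coe_comp, Set.range_comp,
        Set.range_eq_univ.mpr (surjective_redι G).surj, Set.image_univ]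
    rw [← e1, hαl, e2]
  haveI hfcl : IsClosedImmersion f.left := by
    haveI := himm
    exact IsClosedImmersion.of_isPreimmersion _ (hrange ▸ hcl)
  -- the stabilizer of `y`
  obtain ⟨o, ho⟩ : ∃ o, o = b.orbitMap y := ⟨_, rfl⟩
  rw [← ho] at hα hαl hflat hsurj
  obtain ⟨Hs, i, hH⟩ : ∃ (Hs : Over (Spec (CommRingCat.of k))) (i : Hs ⟶ redObj G),
      IsPullback i (toUnit Hs) o y := by
    refine ⟨pullback o y, pullback.fst o y, ?_⟩
    have := IsPullback.of_hasPullback o y
    rwa [toUnit_unique (pullback.snd o y) (toUnit _)] at this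
  have sq : IsPullback (fst (redObj G) Hs) ((redObj G ◁ i) ≫ μ[redObj G]) o o := by
    have := isPullback_orbitMap b y i (ho ▸ hH)
    rwa [← ho] at this
  have sqL := sq.map (Over.forget _)
  have hHL := hH.map (Over.forget _)
  -- the stabilizer of `y` is universally closed over `k`
  have hHs : UniversallyClosed Hs.hom := by
    have hw : (i.left ≫ (redι G).left) ≫ (a.orbitMap x).left = Hs.hom ≫ x.left := by
      have e : i ≫ redι G ≫ a.orbitMap x = toUnit Hs ≫ x := by
        rw [← hα, ← Category.assoc, hH.w, Category.assoc, h2]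
      have e' := congrArg (fun m => m.left) e
      simp only [Over.comp_left] at e'
      rw [Category.assoc, e']
      congr 1
    obtain ⟨c, hc⟩ : ∃ c : Hs.left ⟶ pullback (a.orbitMap x).left x.left,
        c = pullback.lift (i.left ≫ (redι G).left) Hs.hom hw := ⟨_, rfl⟩
    have hc1 : c ≫ pullback.fst (a.orbitMap x).left x.left = i.left ≫ (redι G).left := by
      rw [hc, pullback.lift_fst]
    have hc2 : c ≫ pullback.snd (a.orbitMap x).left x.left = Hs.hom := by
      rw [hc, pullback.lift_snd]
    haveI hycl : IsClosedImmersion y.left := isClosedImmersion_left y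
    haveI hxcl : IsClosedImmersion x.left := isClosedImmersion_left x
    haveI : IsClosedImmersion i.left :=
      MorphismProperty.of_isPullback (P := @IsClosedImmersion) hHL.flip hycl
    haveI : IsClosedImmersion (c ≫ pullback.fst (a.orbitMap x).left x.left) := by
      rw [hc1]; infer_instance
    haveI : IsClosedImmersion c := IsClosedImmersion.of_comp c (pullback.fst _ _)
    rw [← hc2]
    infer_instance
  have hfst : UniversallyClosed (fst (redObj G) Hs).left := by
    rw [Over.fst_left]
    infer_instance
  -- the orbit map onto `Y` is universally submersive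
  haveI : LocallyOfFiniteType o.left := by
    have : LocallyOfFiniteType (o.left ≫ Y.hom) := by rw [Over.w]; infer_instance
    exact locallyOfFiniteType_of_comp o.left Y.hom
  haveI : IsLocallyNoetherian Y.left := LocallyOfFiniteType.isLocallyNoetherian Y.hom
  haveI : LocallyOfFinitePresentation o.left := inferInstance
  haveI : UniversallyOpen o.left := inferInstance
  have hUS : US o.left := us_of_universallyOpen_of_surjective o.left
  haveI hocl : UniversallyClosed o.left := universallyClosed_of_isPullback sqL hUS hfst
  haveI : UniversallyClosed ((redι G).left ≫ (a.orbitMap x).left) := by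
    rw [← hαl]; infer_instance
  exact UniversallyClosed.of_comp_surjective (redι G).left (a.orbitMap x).left

end Main

section PsiForm

variable {k : Type u} [Field k] [IsAlgClosed k]
  {G X : Over (Spec (CommRingCat.of k))} [GrpObj G]
  [LocallyOfFiniteType G.hom] [QuasiCompact G.hom] [LocallyOfFiniteType X.hom] [QuasiCompact X.hom]
  (a : AlgGrp.Action G X) (x : 𝟙_ (Over (Spec (CommRingCat.of k))) ⟶ X)

omit [IsAlgClosed k] [LocallyOfFiniteType G.hom] [QuasiCompact G.hom] [LocallyOfFiniteType X.hom]
  [QuasiCompact X.hom] in
theorem psi_rightUnitor : GIT.psi a x ≫ (ρ_ X).hom = (ρ_ G).hom ≫ a.orbitMap x := by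
  have e : G ◁ x = (ρ_ G).hom ≫ lift (𝟙 G) (toUnit G ≫ x) := by
    apply CartesianMonoidalCategory.hom_ext
    · rw [whiskerLeft_fst, Category.assoc, lift_fst, Category.comp_id, rightUnitor_hom]
    · rw [whiskerLeft_snd, Category.assoc, lift_snd, ← Category.assoc]
      congr 1
      exact toUnit_unique _ _
  unfold GIT.psi AlgGrp.Action.orbitMap
  rw [rightUnitor_hom, lift_fst, e, Category.assoc]

omit [IsAlgClosed k] [LocallyOfFiniteType G.hom] [QuasiCompact G.hom] [LocallyOfFiniteType X.hom]
  [QuasiCompact X.hom] in
theorem lift_rightUnitor :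
    lift x (𝟙 (𝟙_ (Over (Spec (CommRingCat.of k))))) ≫ (ρ_ X).hom = x := by
  rw [rightUnitor_hom, lift_fst]

/-- the orbit morphism `ψ_x` is proper iff the orbit is closed and the stabilizer is proper -/
theorem isProper_psi_iff :
    IsProper (GIT.psi a x).left ↔
      IsClosed (Set.range (GIT.psi a x).left.base) ∧
        IsProper (Limits.pullback.snd (GIT.psi a x).left
          (lift x (𝟙 (𝟙_ (Over (Spec (CommRingCat.of k)))))).left ≫
          (𝟙_ (Over (Spec (CommRingCat.of k)))).hom) := by
  haveI hρX : IsIso (ρ_ X).hom.left :=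
    inferInstanceAs (IsIso ((Over.forget _).map (ρ_ X).hom))
  haveI hρG : IsIso (ρ_ G).hom.left :=
    inferInstanceAs (IsIso ((Over.forget _).map (ρ_ G).hom))
  have hψ : (GIT.psi a x).left ≫ (ρ_ X).hom.left = (ρ_ G).hom.left ≫ (a.orbitMap x).left := by
    rw [← Over.comp_left, psi_rightUnitor, Over.comp_left]
  have hlx : (lift x (𝟙 (𝟙_ (Over (Spec (CommRingCat.of k)))))).left ≫ (ρ_ X).hom.left = x.left := by
    rw [← Over.comp_left, lift_rightUnitor]
  have hid : ∀ {Z : Scheme.{u}} (p : Z ⟶ (𝟙_ (Over (Spec (CommRingCat.of k)))).left),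
      p ≫ (𝟙_ (Over (Spec (CommRingCat.of k)))).hom = p := fun p => Category.comp_id p
  constructor
  · intro hp
    refine ⟨(GIT.psi a x).left.isClosedMap.isClosed_range, ?_⟩
    rw [hid]
    infer_instance
  · rintro ⟨hcl, hst⟩
    rw [hid] at hst
    -- closed orbit
    have hclα : IsClosed (Set.range (a.orbitMap x).left.base) := by
      have e : Set.range (a.orbitMap x).left.base =
          (ρ_ X).hom.left.base '' Set.range (GIT.psi a x).left.base := by
        have e1 : Set.range ((ρ_ G).hom.left ≫ (a.orbitMap x).left).base =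
            Set.range (a.orbitMap x).left.base := by
          have hs : Function.Surjective (ρ_ G).hom.left.base := (ρ_ G).hom.left.homeomorph.surjective
          rw [Scheme.Hom.comp_base, TopCat.coe_comp, Set.range_comp,
            Set.range_eq_univ.mpr hs, Set.image_univ]
        rw [← e1, ← hψ, Scheme.Hom.comp_base, TopCat.coe_comp, Set.range_comp]
      rw [e]
      exact (ρ_ X).hom.left.homeomorph.isClosedMap _ hcl
    -- proper stabilizer
    have hstα : UniversallyClosed (pullback.snd (a.orbitMap x).left x.left) := by
      have hw : (pullback.fst (a.orbitMap x).left x.left ≫ inv (ρ_ G).hom.left) ≫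
          (GIT.psi a x).left = pullback.snd (a.orbitMap x).left x.left ≫
            (lift x (𝟙 (𝟙_ (Over (Spec (CommRingCat.of k)))))).left := by
        rw [← cancel_mono (ρ_ X).hom.left, Category.assoc, Category.assoc, hψ,
          IsIso.inv_hom_id_assoc, Category.assoc, hlx, pullback.condition]
      obtain ⟨m, hm⟩ : ∃ m : pullback (a.orbitMap x).left x.left ⟶
          pullback (GIT.psi a x).left (lift x (𝟙 (𝟙_ (Over (Spec (CommRingCat.of k)))))).left,
          m = pullback.lift _ _ hw := ⟨_, rfl⟩
      have hm1 : m ≫ pullback.fst _ _ =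
          pullback.fst (a.orbitMap x).left x.left ≫ inv (ρ_ G).hom.left := by
        rw [hm, pullback.lift_fst]
      have hm2 : m ≫ pullback.snd _ _ = pullback.snd (a.orbitMap x).left x.left := by
        rw [hm, pullback.lift_snd]
      haveI hxcl : IsClosedImmersion x.left := isClosedImmersion_left x
      haveI hlcl : IsClosedImmersion (lift x (𝟙 (𝟙_ (Over (Spec (CommRingCat.of k)))))).left :=
        isClosedImmersion_left _
      haveI : IsClosedImmersion (m ≫ pullback.fst (GIT.psi a x).left
          (lift x (𝟙 (𝟙_ (Over (Spec (CommRingCat.of k)))))).left) := by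
        rw [hm1]; infer_instance
      haveI : IsClosedImmersion m := IsClosedImmersion.of_comp m (pullback.fst _ _)
      rw [← hm2]
      infer_instance
    haveI huc := universallyClosed_orbitMap a x hclα hstα
    haveI hsepG : IsSeparated G.hom := Groth.Agent.Lib.Helper8.isSeparated_of_discrete G
    haveI hsep : IsSeparated (a.orbitMap x).left := by
      have : IsSeparated ((a.orbitMap x).left ≫ X.hom) := by rw [Over.w]; infer_instance
      exact IsSeparated.of_comp (a.orbitMap x).left X.hom
    haveI hlft : LocallyOfFiniteType (a.orbitMap x).left := by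
      have : LocallyOfFiniteType ((a.orbitMap x).left ≫ X.hom) := by rw [Over.w]; infer_instance
      exact locallyOfFiniteType_of_comp (a.orbitMap x).left X.hom
    haveI hpα : IsProper (a.orbitMap x).left := {}
    have hψ' : (GIT.psi a x).left =
        (ρ_ G).hom.left ≫ (a.orbitMap x).left ≫ inv (ρ_ X).hom.left := by
      rw [← Category.assoc, ← hψ, Category.assoc, IsIso.hom_inv_id, Category.comp_id]
    rw [hψ']
    infer_instance

end PsiForm

end Groth.Agent.Lib.T2H7.OrbProper
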