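import Groth.Agent.Lib.T2H7OrbStab
import Groth.Agent.Lib.Helper3DimCons
set_option autoImplicit false
set_option linter.unusedSectionVars false
set_option linter.unusedVariables false
set_option linter.style.haveILetI false
universe u
open CategoryTheory MonoidalCategory CartesianMonoidalCategory MonObj GrpObj AlgebraicGeometry Limits
open TopologicalSpace

namespace Groth.Agent.Lib.T2H7.OrbSemi

open Groth.Agent.Lib.T2H7.NRQ Groth.Agent.Lib.T2H7.NRQB Groth.Agent.Lib.Helper4.VarDim
open Groth.Agent.Lib.T2H7.OrbDim Groth.Agent.Lib.T2H7.OrbStab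

section Top

open Groth.Agent.Lib.Helper4.FibDim

variable {A B C : Type*} [TopologicalSpace A] [TopologicalSpace C]

/-- `fibLD` is insensitive to precomposition with an embedding containing the fibre. -/
theorem fibLD_comp_isEmbedding (φ : A → B) (j : C → A) (hj : Topology.IsEmbedding j) (u : C)
    (h : φ ⁻¹' {φ (j u)} ⊆ Set.range j) : fibLD (φ ∘ j) u = fibLD φ (j u) := by
  unfold fibLD
  have h0 : (φ ∘ j) ⁻¹' {(φ ∘ j) u} = j ⁻¹' (φ ⁻¹' {φ (j u)}) := rfl
  rw [localDim_congr_set h0 u rfl]
  have hemb := (φ ⁻¹' {φ (j u)}).restrictPreimage_isEmbedding hj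
  have hsurj : Function.Surjective ((φ ⁻¹' {φ (j u)}).restrictPreimage j) := by
    rintro ⟨w, hw⟩
    obtain ⟨v, rfl⟩ := h hw
    exact ⟨⟨v, hw⟩, rfl⟩
  have hhomeo : IsHomeomorph ((φ ⁻¹' {φ (j u)}).restrictPreimage j) :=
    isHomeomorph_iff_isEmbedding_surjective.mpr ⟨hemb, hsurj⟩
  exact localDim_eq_of_isOpenEmbedding hhomeo.isOpenEmbedding ⟨u, rfl⟩

end Top

section Dim

variable (k : Type u) [Field k] (X : Scheme.{u}) [X.Over (Spec (CommRingCat.of k))]
  [LocallyOfFiniteType (X ↘ Spec (CommRingCat.of k))]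

include k in
/-- The closure of a locally closed subset of a scheme locally of finite type over a field has the
same dimension. -/
theorem topologicalKrullDim_closure_eq (O : Set X) (hO : IsLocallyClosed O) :
    topologicalKrullDim ↥(closure O) = topologicalKrullDim ↥O := by
  apply le_antisymm
  · haveI : IsLocallyNoetherian X :=
      LocallyOfFiniteType.isLocallyNoetherian (X ↘ Spec (CommRingCat.of k))
    have hN : ∀ x : X, ∃ U : Opens X, x ∈ U ∧ NoetherianSpace ↥U := by
      intro x
      obtain ⟨_, ⟨U, hU, rfl⟩, hxU, -⟩ := X.isBasis_affineOpens.exists_subset_of_mem_open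
        (Set.mem_univ x) isOpen_univ
      replace hU : IsAffineOpen U := hU
      haveI : IsNoetherianRing Γ(X, U) := IsLocallyNoetherian.component_noetherian ⟨U, hU⟩
      exact ⟨U, hxU, noetherianSpace_of_isAffineOpen U hU⟩
    haveI : QuasiSober ↥(closure O) :=
      quasiSober_of_isLocallyClosed _ isClosed_closure.isLocallyClosed
    refine topologicalKrullDim_le_of_forall_trdegNat_le k X _ _ fun t ht => ?_
    obtain ⟨ξ, hξO, hξt⟩ := exists_specializes_of_mem_closure hN O hO t ht
    have h2 := trdegNat_le_topologicalKrullDim_of_isLocallyClosed k X O hO ξ hξO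
    refine le_trans ?_ h2
    by_cases hne : ξ = t
    · rw [hne]
    · have h1 := trdegNat_lt_of_specializes k X ξ t hξt hne
      exact_mod_cast h1.le
  · exact topologicalKrullDim_mono subset_closure

end Dim

section Flat

variable {k : Type u} [Field k] {G Y : Over (Spec (CommRingCat.of k))} [GrpObj G]
  (b : AlgGrp.Action G Y)

open Groth.Agent.Lib.Helper4.FibDim in
/-- For a flat surjective orbit map, the fibre over `q` has constant local dimension `m`, and
`dim G = m + dim Y`. -/
theorem fibre_dims [LocallyOfFiniteType G.hom] [LocallyOfFiniteType Y.hom]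
    (y : 𝟙_ (Over (Spec (CommRingCat.of k))) ⟶ Y)
    (hs : Surjective (b.orbitMap y).left) (hf : Flat (b.orbitMap y).left) (q : Y.left) :
    ∃ m n : ℕ, (∀ p : ↥((b.orbitMap y).left ⁻¹' {q}),
        FlatMor.localDim ↥((b.orbitMap y).left ⁻¹' {q}) p = m) ∧
      topologicalKrullDim Y.left = n ∧
      topologicalKrullDim G.left = ((m + n : ℕ) : WithBot ℕ∞) := by
  have hK : IsField (CommRingCat.of k) := Field.toIsField k
  haveI : LocallyOfFiniteType (b.orbitMap y).left := by
    have : LocallyOfFiniteType ((b.orbitMap y).left ≫ Y.hom) := by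
      rw [Over.w]; infer_instance
    exact locallyOfFiniteType_of_comp (b.orbitMap y).left Y.hom
  have hΦ := surjective_psi_of_surjective_orbitMap b y hs
  obtain ⟨n, hn⟩ := Groth.Agent.Lib.Helper3.GrpFibDim.exists_nat_fibreDimAt_eq Y.hom q
  rw [Groth.Agent.S5341.fibreDimAt_eq_localDim_of_subsingleton,
    localDim_eq_topologicalKrullDim_of_surjective_psi b hΦ q] at hn
  have hfib : ∀ p : ↥((b.orbitMap y).left ⁻¹' {q}),
      FlatMor.fibreDimAt (b.orbitMap y).left p.1 =
        FlatMor.localDim ↥((b.orbitMap y).left ⁻¹' {q}) p := by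
    intro p
    rw [fibreDimAt_eq_fibLD]
    unfold fibLD
    have hp : (b.orbitMap y).left p.1 = q := p.2
    have hset : ((b.orbitMap y).left ⁻¹' {(b.orbitMap y).left p.1} : Set G.left) =
        (b.orbitMap y).left ⁻¹' {q} := by rw [hp]
    exact localDim_congr_set hset p.1 rfl
  have key : ∀ p : ↥((b.orbitMap y).left ⁻¹' {q}),
      topologicalKrullDim G.left =
        FlatMor.localDim ↥((b.orbitMap y).left ⁻¹' {q}) p + topologicalKrullDim Y.left := by
    intro p
    have h1 := (Groth.Agent.Lib.Helper3.CompDim.localDim_le_add_of_field hK (b.orbitMap y).left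
      Y.hom p.1).2 (Flat.stalkMap _ p.1)
    rw [(Groth.Agent.S5341.result k G).2 p.1,
      localDim_eq_topologicalKrullDim_of_surjective_psi b hΦ, hfib p] at h1
    exact h1
  obtain ⟨p₀, hp₀⟩ := hs.surj q
  have hm : ∀ p : ↥((b.orbitMap y).left ⁻¹' {q}), ∃ m : ℕ,
      FlatMor.localDim ↥((b.orbitMap y).left ⁻¹' {q}) p = m := by
    intro p
    rw [← hfib p]
    exact Groth.Agent.Lib.Helper3.GrpFibDim.exists_nat_fibreDimAt_eq _ _
  obtain ⟨m₀, hm₀⟩ := hm ⟨p₀, hp₀⟩
  refine ⟨m₀, n, ?_, hn, ?_⟩
  · intro p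
    obtain ⟨m, hm'⟩ := hm p
    have h1 := key p
    have h2 := key ⟨p₀, hp₀⟩
    rw [hm', hn] at h1
    rw [hm₀, hn, h1] at h2
    have h3 : m + n = m₀ + n := by exact_mod_cast h2
    rw [hm']
    have : m = m₀ := by omega
    rw [this]
  · have h2 := key ⟨p₀, hp₀⟩
    rw [hm₀, hn] at h2
    rw [h2]
    push_cast
    rfl

end Flat

section Main

variable {k : Type u} [Field k]
variable {G X : Over (Spec (CommRingCat.of k))} [GrpObj G] (a : AlgGrp.Action G X)

/-- For a `k`-point `x`: the orbit has dimension `o`, the set-theoretic stabilizer has constant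
local dimension `e`, and `dim G = o + e`. -/
theorem exists_nat_dims [Smooth G.hom] [QuasiCompact G.hom]
    [LocallyOfFiniteType X.hom] [QuasiCompact X.hom]
    (x : 𝟙_ (Over (Spec (CommRingCat.of k))) ⟶ X) :
    ∃ o e : ℕ, topologicalKrullDim ↥(Set.range (a.orbitMap x).left.base) = o ∧
      (∀ p : ↥((a.orbitMap x).left ⁻¹' {pt x}),
        FlatMor.localDim ↥((a.orbitMap x).left ⁻¹' {pt x}) p = e) ∧
      topologicalKrullDim G.left = ((o + e : ℕ) : WithBot ℕ∞) := by
  haveI : LocallyOfFiniteType G.hom := inferInstance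
  obtain ⟨Y, b, y, f, h1, h2, himm, hred, hlft, hqc, hsurj⟩ :=
    Groth.Agent.Lib.Helper11OrbitSub.exists_orbit_subscheme k G X a x
  have hflat : Flat (b.orbitMap y).left :=
    Groth.Agent.Lib.Helper11Orbit.flat_orbitMap_of_surjective k b y hsurj
  have hα : b.orbitMap y ≫ f = a.orbitMap x := by
    rw [orbitMap_comp_of_equivariant a b f h1 y, h2]
  have hαl : (a.orbitMap x).left = (b.orbitMap y).left ≫ f.left := by
    rw [← hα, Over.comp_left]
  obtain ⟨m, n, hm, hn, hG⟩ := fibre_dims b y hsurj hflat (pt y)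
  refine ⟨n, m, ?_, ?_, ?_⟩
  · have hr : Set.range (a.orbitMap x).left.base = Set.range f.left.base := by
      rw [hαl, Scheme.Hom.comp_base, TopCat.coe_comp, Set.range_comp,
        Set.range_eq_univ.mpr hsurj.surj, Set.image_univ]
    rw [hr, ← hn]
    exact ((f.left.isEmbedding.toHomeomorph).isHomeomorph.topologicalKrullDim_eq).symm
  · have hset : ((a.orbitMap x).left ⁻¹' {pt x} : Set G.left) =
        (b.orbitMap y).left ⁻¹' {pt y} := by
      rw [hαl]
      ext g
      simp only [Set.mem_preimage, Set.mem_singleton_iff, Scheme.Hom.comp_base, TopCat.coe_comp,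
        Function.comp_apply]
      have hxy : pt x = f.left.base (pt y) := by rw [← h2]; rfl
      rw [hxy]
      exact ⟨fun h => f.left.isEmbedding.injective h, fun h => by rw [h]⟩
    intro p
    rw [Groth.Agent.Lib.Helper4.FibDim.localDim_congr_set hset p.1 p.2]
    exact hm _
  · rw [hG, add_comm]

end Main

section Semi

variable {k : Type u} [Field k]
variable {G X : Over (Spec (CommRingCat.of k))} [GrpObj G] (a : AlgGrp.Action G X)

/-- `g ↦ (g, x)` -/
noncomputable def jx (x : 𝟙_ (Over (Spec (CommRingCat.of k))) ⟶ X) : G ⟶ G ⊗ X :=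
  lift (𝟙 G) (toUnit G ≫ x)

theorem jx_act (x : 𝟙_ (Over (Spec (CommRingCat.of k))) ⟶ X) :
    jx (G := G) x ≫ a.act = a.orbitMap x := rfl

theorem jx_fst (x : 𝟙_ (Over (Spec (CommRingCat.of k))) ⟶ X) :
    jx (G := G) x ≫ fst G X = 𝟙 G := lift_fst _ _

theorem jx_snd (x : 𝟙_ (Over (Spec (CommRingCat.of k))) ⟶ X) :
    jx (G := G) x ≫ snd G X = toUnit G ≫ x := lift_snd _ _

theorem isEmbedding_jx (x : 𝟙_ (Over (Spec (CommRingCat.of k))) ⟶ X) :
    Topology.IsEmbedding (jx (G := G) x).left.base := by
  have h : Function.LeftInverse (fst G X).left.base (jx (G := G) x).left.base := by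
    intro g
    rw [← Scheme.Hom.comp_apply, ← Over.comp_left, jx_fst]
    rfl
  exact h.isEmbedding (fst G X).left.base.hom.continuous (jx (G := G) x).left.base.hom.continuous

theorem range_jx (x : 𝟙_ (Over (Spec (CommRingCat.of k))) ⟶ X) :
    Set.range (jx (G := G) x).left.base = (snd G X).left.base ⁻¹' {pt x} := by
  have e : jx (G := G) x = (ρ_ G).inv ≫ (G ◁ x) := by
    apply CartesianMonoidalCategory.hom_ext
    · rw [jx_fst, Category.assoc, whiskerLeft_fst, rightUnitor_inv_fst]
    · rw [jx_snd, Category.assoc, whiskerLeft_snd, ← Category.assoc]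
      congr 1
      exact toUnit_unique _ _
  have h := Groth.Agent.Lib.Helper25.TopGrp.range_whiskerLeft G x
  rw [range_left] at h
  rw [← h, e, Over.comp_left, Scheme.Hom.comp_base, TopCat.coe_comp, Set.range_comp]
  have : Set.range (ρ_ G).inv.left.base = Set.univ := by
    rw [Set.range_eq_univ]
    exact (ρ_ G).inv.left.homeomorph.surjective
  rw [this, Set.image_univ]

open Groth.Agent.Lib.Helper4.FibDim in
/-- the local fibre dimension of `(g, x) ↦ (g x, x)` at `(g₀, x)` is the local dimension of the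
fibre of the orbit map of `x` at `g₀`. -/
theorem fibreDimAt_psi_jx (x : 𝟙_ (Over (Spec (CommRingCat.of k))) ⟶ X) (g₀ : G.left) :
    FlatMor.fibreDimAt (lift a.act (snd G X)).left ((jx (G := G) x).left.base g₀) =
      fibLD (a.orbitMap x).left.base g₀ := by
  rw [fibreDimAt_eq_fibLD]
  have hsub : (lift a.act (snd G X)).left.base ⁻¹'
      {(lift a.act (snd G X)).left.base ((jx (G := G) x).left.base g₀)} ⊆
      Set.range (jx (G := G) x).left.base := by
    intro w hw
    rw [range_jx]
    have hw' : (lift a.act (snd G X)).left.base w =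
        (lift a.act (snd G X)).left.base ((jx (G := G) x).left.base g₀) := hw
    have h1 := congrArg (snd X X).left.base hw'
    rw [← Scheme.Hom.comp_apply, ← Scheme.Hom.comp_apply, ← Over.comp_left, lift_snd] at h1
    show (snd G X).left.base w = pt x
    rw [h1, ← Scheme.Hom.comp_apply, ← Over.comp_left, jx_snd, Over.comp_left,
      Scheme.Hom.comp_apply]
    exact left_apply x _
  have h := fibLD_comp_isEmbedding (lift a.act (snd G X)).left.base (jx (G := G) x).left.base
    (isEmbedding_jx x) g₀ hsub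
  rw [← h]
  -- `Ψ ∘ jx = ix ∘ α`
  have hcomp : jx (G := G) x ≫ lift a.act (snd G X) =
      a.orbitMap x ≫ lift (𝟙 X) (toUnit X ≫ x) := by
    apply CartesianMonoidalCategory.hom_ext
    · rw [Category.assoc, lift_fst, Category.assoc, lift_fst, Category.comp_id, jx_act]
    · rw [Category.assoc, lift_snd, Category.assoc, lift_snd, jx_snd, ← Category.assoc]
      congr 1
      exact toUnit_unique _ _
  have hfun : (lift a.act (snd G X)).left.base ∘ (jx (G := G) x).left.base =
      (lift (𝟙 X) (toUnit X ≫ x)).left.base ∘ (a.orbitMap x).left.base := by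
    funext g
    simp only [Function.comp_apply]
    rw [← Scheme.Hom.comp_apply, ← Scheme.Hom.comp_apply, ← Over.comp_left, ← Over.comp_left,
      hcomp]
  rw [hfun]
  refine fibLD_comp_injective _ _ ?_ g₀
  have hl : Function.LeftInverse (fst X X).left.base (lift (𝟙 X) (toUnit X ≫ x)).left.base := by
    intro z
    rw [← Scheme.Hom.comp_apply, ← Over.comp_left, lift_fst]
    rfl
  exact hl.injective

open Groth.Agent.Lib.Helper4.FibDim in
/-- The `k`-points whose orbit has dimension at most `r` are the `k`-points of a closed subset. -/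
theorem exists_isClosed_orbitDim_le [Smooth G.hom] [QuasiCompact G.hom]
    [LocallyOfFiniteType X.hom] [QuasiCompact X.hom] (r : ℕ) :
    ∃ Z : Set ↥X.left, IsClosed Z ∧
      ∀ x : 𝟙_ (Over (Spec (CommRingCat.of k))) ⟶ X,
        topologicalKrullDim ↥(closure (Set.range ⇑(a.orbitMap x).left.base)) ≤ (r : WithBot ℕ∞) ↔
          Set.range ⇑x.left.base ⊆ Z := by
  haveI : LocallyOfFiniteType G.hom := inferInstance
  haveI : CompactSpace ↥G.left := QuasiCompact.compactSpace_of_compactSpace G.hom
  letI : X.left.Over (Spec (CommRingCat.of k)) := ⟨X.hom⟩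
  haveI : LocallyOfFiniteType (X.left ↘ Spec (CommRingCat.of k)) := ‹LocallyOfFiniteType X.hom›
  -- `dim G` is a natural number
  obtain ⟨N, hN⟩ := Groth.Agent.Lib.Helper3.GrpFibDim.exists_nat_fibreDimAt_eq G.hom (pt η[G])
  rw [Groth.Agent.S5341.fibreDimAt_eq_localDim_of_subsingleton,
    (Groth.Agent.S5341.result k G).2] at hN
  haveI : LocallyOfFiniteType (lift a.act (snd G X)).left := by
    have h1 : (lift a.act (snd G X)).left ≫ (snd X X).left = (snd G X).left := by
      rw [← Over.comp_left, lift_snd]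
    have h2 : LocallyOfFiniteType (snd G X).left := by
      change LocallyOfFiniteType (pullback.snd G.hom X.hom)
      infer_instance
    rw [← h1] at h2
    exact locallyOfFiniteType_of_comp _ (snd X X).left
  refine ⟨(lift (toUnit X ≫ η[G]) (𝟙 X)).left.base ⁻¹'
    {w | ((N - r : ℕ) : WithBot ℕ∞) ≤ FlatMor.fibreDimAt (lift a.act (snd G X)).left w},
    (Groth.Agent.Lib.Helper3.DimCons.isClosed_setOf_le_fibreDimAt _ _).preimage
      (lift (toUnit X ≫ η[G]) (𝟙 X)).left.base.hom.continuous, ?_⟩
  intro x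
  rw [range_left, Set.singleton_subset_iff, Set.mem_preimage, Set.mem_ofPred_eq]
  have hσ : (lift (toUnit X ≫ η[G]) (𝟙 X)).left.base (pt x) =
      (jx (G := G) x).left.base (pt η[G]) := by
    have hm : x ≫ lift (toUnit X ≫ η[G]) (𝟙 X) = η[G] ≫ jx (G := G) x := by
      apply CartesianMonoidalCategory.hom_ext
      · rw [Category.assoc, lift_fst, Category.assoc, jx_fst, Category.comp_id, ← Category.assoc]
        rw [toUnit_unique (x ≫ toUnit X) (𝟙 _), Category.id_comp]
      · rw [Category.assoc, lift_snd, Category.assoc, jx_snd, Category.comp_id, ← Category.assoc]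
        rw [toUnit_unique (η[G] ≫ toUnit G) (𝟙 _), Category.id_comp]
    have := congrArg pt hm
    rwa [pt_comp, pt_comp] at this
  rw [hσ, fibreDimAt_psi_jx]
  obtain ⟨o, e, ho, he, hG⟩ := exists_nat_dims a x
  have hηx : (a.orbitMap x).left.base (pt η[G]) = pt x := by
    have h : η[G] ≫ a.orbitMap x = x := by
      rw [Groth.Agent.Lib.Helper12.comp_orbitMap, toUnit_unique (toUnit _) (𝟙 _), Category.id_comp]
      exact Groth.Agent.Lib.Helper12.act_one a x
    rw [← pt_comp, h]
  have hfl : fibLD (a.orbitMap x).left.base (pt η[G]) = e := by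
    unfold fibLD
    have hset : ((a.orbitMap x).left.base ⁻¹' {(a.orbitMap x).left.base (pt η[G])} : Set G.left) =
        (a.orbitMap x).left.base ⁻¹' {pt x} := by rw [hηx]
    rw [localDim_congr_set hset (pt η[G]) rfl]
    exact he _
  rw [hfl, topologicalKrullDim_closure_eq k X.left _ (isLocallyClosed_orbit a x), ho]
  rw [hN] at hG
  have hNe : N = o + e := by exact_mod_cast hG
  constructor
  · intro h
    have h' : o ≤ r := by exact_mod_cast h
    have : N - r ≤ e := by omega
    exact_mod_cast this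
  · intro h
    have h' : N - r ≤ e := by exact_mod_cast h
    have : o ≤ r := by omega
    exact_mod_cast this

end Semi

end Groth.Agent.Lib.T2H7.OrbSemi
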