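import Groth.Agent.Lib.T2H7OrbDimB
import Groth.Agent.Lib.Helper11OrbitSub
import Groth.Agent.Lib.Helper25TopGrp
import Groth.Agent.Lib.Helper3CompDim
import Groth.Agent.S3033
set_option autoImplicit false
set_option linter.unusedSectionVars false
set_option linter.unusedVariables false
set_option linter.style.haveILetI false
universe u
open CategoryTheory MonoidalCategory CartesianMonoidalCategory MonObj GrpObj AlgebraicGeometry Limits
open TopologicalSpace

namespace Groth.Agent.Lib.T2H7.OrbStab

open Groth.Agent.Lib.T2H7.NRQ Groth.Agent.Lib.T2H7.NRQB Groth.Agent.Lib.Helper4.VarDim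

section Psi

variable {S : Scheme.{u}} {G Y : Over S} [GrpObj G] (b : AlgGrp.Action G Y)

/-- If an orbit map is surjective then so is `(g, y) ↦ (g y, y)`. -/
theorem surjective_psi_of_surjective_orbitMap (y : 𝟙_ (Over S) ⟶ Y)
    (h : Surjective (b.orbitMap y).left) : Surjective (lift b.act (snd G Y)).left := by
  have e1 : (G ◁ b.orbitMap y) ≫ lift b.act (snd G Y) =
      lift μ[G] (snd G G) ≫ (b.orbitMap y ⊗ₘ b.orbitMap y) := by
    apply CartesianMonoidalCategory.hom_ext
    · rw [Category.assoc, lift_fst, Category.assoc, tensorHom_fst, lift_fst_assoc]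
      exact Groth.Agent.Lib.Helper11Orbit.whiskerLeft_orbitMap_act b y
    · rw [Category.assoc, lift_snd, Category.assoc, tensorHom_snd, lift_snd_assoc, whiskerLeft_snd]
  have hs : Function.Surjective (b.orbitMap y ⊗ₘ b.orbitMap y).left := by
    rw [← Set.range_eq_univ, Groth.Agent.Lib.Helper25.TopGrp.range_tensorHom]
    rw [Set.range_eq_univ.mpr h.surj]
    simp
  have e2 : lift (fst G G * (snd G G)⁻¹) (snd G G) ≫ lift μ[G] (snd G G) = 𝟙 _ := by
    apply CartesianMonoidalCategory.hom_ext
    · rw [Category.assoc, lift_fst, Category.id_comp, ← CategoryTheory.Hom.mul_def,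
        inv_mul_cancel_right]
    · rw [Category.assoc, lift_snd, lift_snd, Category.id_comp]
  constructor
  intro w
  obtain ⟨v, hv⟩ := hs w
  refine ⟨(G ◁ b.orbitMap y).left ((lift (fst G G * (snd G G)⁻¹) (snd G G)).left v), ?_⟩
  rw [← Scheme.Hom.comp_apply, ← Scheme.Hom.comp_apply, ← Over.comp_left, ← Over.comp_left, e1,
    ← Category.assoc, e2, Category.id_comp]
  exact hv

end Psi

section Homog

variable {k : Type u} [Field k] {G Y : Over (Spec (CommRingCat.of k))} [GrpObj G]
  (b : AlgGrp.Action G Y)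

/-- On a homogeneous space over a field, the local dimension is constant. -/
theorem localDim_eq_of_surjective_psi [LocallyOfFiniteType Y.hom]
    (hΦ : Surjective (lift b.act (snd G Y)).left) (p q : Y.left) :
    FlatMor.localDim Y.left p = FlatMor.localDim Y.left q := by
  obtain ⟨w, hw1, hw2⟩ := Scheme.Pullback.exists_preimage_pullback (f := Y.hom) (g := Y.hom) p q
    (Subsingleton.elim _ _)
  obtain ⟨z, hz⟩ := hΦ.surj w
  have h := Groth.Agent.S3033.fibreDimAt_act G Y b z
  rw [Groth.Agent.S5341.fibreDimAt_eq_localDim_of_subsingleton,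
    Groth.Agent.S5341.fibreDimAt_eq_localDim_of_subsingleton] at h
  have e1 : b.act.left z = p := by
    rw [← hw1, ← hz, ← Scheme.Hom.comp_apply]
    show _ = ((lift b.act (snd G Y)).left ≫ (fst Y Y).left) z
    rw [← Over.comp_left, lift_fst]
  have e2 : (snd G Y).left z = q := by
    rw [← hw2, ← hz, ← Scheme.Hom.comp_apply]
    show _ = ((lift b.act (snd G Y)).left ≫ (snd Y Y).left) z
    rw [← Over.comp_left, lift_snd]
  rw [e1, e2] at h
  exact h

theorem localDim_eq_topologicalKrullDim_of_surjective_psi [LocallyOfFiniteType Y.hom]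
    (hΦ : Surjective (lift b.act (snd G Y)).left) (q : Y.left) :
    FlatMor.localDim Y.left q = topologicalKrullDim Y.left := by
  rw [Groth.Agent.Lib.Helper7.TopDim.topologicalKrullDim_eq_iSup_localDim]
  apply le_antisymm
  · exact le_iSup (fun c : Y.left => FlatMor.localDim _ c) q
  · exact iSup_le fun c => (localDim_eq_of_surjective_psi b hΦ c q).le

end Homog

section Flat

variable {k : Type u} [Field k] {G Y : Over (Spec (CommRingCat.of k))} [GrpObj G]
  (b : AlgGrp.Action G Y)

open Groth.Agent.Lib.Helper4.FibDim in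
/-- Dimension formula for a flat surjective orbit map. -/
theorem topologicalKrullDim_eq_fibre_add [LocallyOfFiniteType G.hom] [LocallyOfFiniteType Y.hom]
    (y : 𝟙_ (Over (Spec (CommRingCat.of k))) ⟶ Y)
    (hs : Surjective (b.orbitMap y).left) (hf : Flat (b.orbitMap y).left) (q : Y.left) :
    topologicalKrullDim G.left =
      topologicalKrullDim ↥((b.orbitMap y).left ⁻¹' {q}) + topologicalKrullDim Y.left := by
  have hK : IsField (CommRingCat.of k) := Field.toIsField k
  haveI : LocallyOfFiniteType (b.orbitMap y).left := by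
    have : LocallyOfFiniteType ((b.orbitMap y).left ≫ Y.hom) := by
      rw [Over.w]; infer_instance
    exact locallyOfFiniteType_of_comp (b.orbitMap y).left Y.hom
  have hΦ := surjective_psi_of_surjective_orbitMap b y hs
  obtain ⟨n, hn⟩ := Groth.Agent.Lib.Helper3.GrpFibDim.exists_nat_fibreDimAt_eq Y.hom q
  rw [Groth.Agent.S5341.fibreDimAt_eq_localDim_of_subsingleton,
    localDim_eq_topologicalKrullDim_of_surjective_psi b hΦ q] at hn
  have hfib : ∀ p : ↥((b.orbitMap y).left ⁻¹' {q}),
      FlatMor.fibreDimAt (b.orbitMap y).left p.1 =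
        FlatMor.localDim ↥((b.orbitMap y).left ⁻¹' {q}) p := by
    intro p
    rw [fibreDimAt_eq_fibLD]
    unfold fibLD
    have hp : (b.orbitMap y).left p.1 = q := p.2
    have hset : ((b.orbitMap y).left ⁻¹' {(b.orbitMap y).left p.1} : Set G.left) =
        (b.orbitMap y).left ⁻¹' {q} := by rw [hp]
    exact localDim_congr_set hset p.1 rfl
  have key : ∀ p : ↥((b.orbitMap y).left ⁻¹' {q}),
      topologicalKrullDim G.left =
        FlatMor.localDim ↥((b.orbitMap y).left ⁻¹' {q}) p + topologicalKrullDim Y.left := by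
    intro p
    have h1 := (Groth.Agent.Lib.Helper3.CompDim.localDim_le_add_of_field hK (b.orbitMap y).left
      Y.hom p.1).2 (Flat.stalkMap _ p.1)
    rw [(Groth.Agent.S5341.result k G).2 p.1,
      localDim_eq_topologicalKrullDim_of_surjective_psi b hΦ, hfib p] at h1
    exact h1
  obtain ⟨p₀, hp₀⟩ := hs.surj q
  have hm : ∀ p : ↥((b.orbitMap y).left ⁻¹' {q}), ∃ m : ℕ,
      FlatMor.localDim ↥((b.orbitMap y).left ⁻¹' {q}) p = m := by
    intro p
    rw [← hfib p]
    exact Groth.Agent.Lib.Helper3.GrpFibDim.exists_nat_fibreDimAt_eq _ _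
  obtain ⟨m₀, hm₀⟩ := hm ⟨p₀, hp₀⟩
  have hconst : ∀ p : ↥((b.orbitMap y).left ⁻¹' {q}),
      FlatMor.localDim ↥((b.orbitMap y).left ⁻¹' {q}) p = m₀ := by
    intro p
    obtain ⟨m, hm'⟩ := hm p
    have h1 := key p
    have h2 := key ⟨p₀, hp₀⟩
    rw [hm', hn] at h1
    rw [hm₀, hn, h1] at h2
    have h3 : m + n = m₀ + n := by exact_mod_cast h2
    rw [hm']
    have : m = m₀ := by omega
    rw [this]
  haveI : Nonempty ↥((b.orbitMap y).left ⁻¹' {q}) := ⟨⟨p₀, hp₀⟩⟩
  have hE : topologicalKrullDim ↥((b.orbitMap y).left ⁻¹' {q}) = m₀ := by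
    rw [Groth.Agent.Lib.Helper7.TopDim.topologicalKrullDim_eq_iSup_localDim]
    simp_rw [hconst]
    exact ciSup_const
  rw [hE, ← hm₀]
  exact key ⟨p₀, hp₀⟩

end Flat

section Main

variable {k : Type u} [Field k]
variable {G X : Over (Spec (CommRingCat.of k))} [GrpObj G] (a : AlgGrp.Action G X)

theorem orbitMap_comp_of_equivariant {Y : Over (Spec (CommRingCat.of k))} (b : AlgGrp.Action G Y)
    (f : Y ⟶ X) (hf : (G ◁ f) ≫ a.act = b.act ≫ f)
    (y : 𝟙_ (Over (Spec (CommRingCat.of k))) ⟶ Y) :
    b.orbitMap y ≫ f = a.orbitMap (y ≫ f) := by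
  unfold AlgGrp.Action.orbitMap
  rw [Category.assoc, ← hf, ← Category.assoc]
  congr 1
  apply CartesianMonoidalCategory.hom_ext
  · rw [Category.assoc, whiskerLeft_fst, lift_fst, lift_fst]
  · rw [Category.assoc, whiskerLeft_snd, lift_snd_assoc, lift_snd, Category.assoc]

/-- `dim G = dim (G · x) + dim G_x`. -/
theorem topologicalKrullDim_eq_orbit_add_stabilizer [Smooth G.hom] [QuasiCompact G.hom]
    [LocallyOfFiniteType X.hom] [QuasiCompact X.hom]
    (x : 𝟙_ (Over (Spec (CommRingCat.of k))) ⟶ X) :
    topologicalKrullDim ↥G.left =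
      topologicalKrullDim ↥(Set.range (a.orbitMap x).left.base) +
        topologicalKrullDim ↥(Limits.pullback (a.orbitMap x).left x.left) := by
  haveI : LocallyOfFiniteType G.hom := inferInstance
  obtain ⟨Y, b, y, f, h1, h2, himm, hred, hlft, hqc, hsurj⟩ :=
    Groth.Agent.Lib.Helper11OrbitSub.exists_orbit_subscheme k G X a x
  have hflat : Flat (b.orbitMap y).left :=
    Groth.Agent.Lib.Helper11Orbit.flat_orbitMap_of_surjective k b y hsurj
  have hα : b.orbitMap y ≫ f = a.orbitMap x := by
    rw [orbitMap_comp_of_equivariant a b f h1 y, h2]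
  have hαl : (a.orbitMap x).left = (b.orbitMap y).left ≫ f.left := by
    rw [← hα, Over.comp_left]
  rw [topologicalKrullDim_eq_fibre_add b y hsurj hflat (pt y), add_comm]
  congr 1
  · -- the orbit
    have hr : Set.range (a.orbitMap x).left.base = Set.range f.left.base := by
      rw [hαl, Scheme.Hom.comp_base, TopCat.coe_comp, Set.range_comp,
        Set.range_eq_univ.mpr hsurj.surj, Set.image_univ]
    rw [hr]
    exact (f.left.isEmbedding.toHomeomorph).isHomeomorph.topologicalKrullDim_eq
  · -- the stabilizer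
    haveI := isClosedImmersion_left x
    have hemb : Topology.IsEmbedding (pullback.fst (a.orbitMap x).left x.left).base :=
      (pullback.fst (a.orbitMap x).left x.left).isEmbedding
    have hr : Set.range (pullback.fst (a.orbitMap x).left x.left).base =
        (b.orbitMap y).left ⁻¹' {pt y} := by
      rw [Scheme.Pullback.range_fst, range_left, hαl]
      ext g
      simp only [Set.mem_preimage, Set.mem_singleton_iff, Scheme.Hom.comp_base, TopCat.coe_comp,
        Function.comp_apply]
      have hxy : pt x = f.left.base (pt y) := by rw [← h2]; rfl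
      rw [hxy]
      exact ⟨fun h => f.left.isEmbedding.injective h, fun h => by rw [h]⟩
    rw [← hr]
    exact (hemb.toHomeomorph.isHomeomorph.topologicalKrullDim_eq).symm

end Main

end Groth.Agent.Lib.T2H7.OrbStab
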