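import Groth.Agent.Lib.T2H7ImgSplit

/-!
Zariski gluing of morphisms in `Over S`, and coherence of iterated base change.
-/

set_option autoImplicit false
set_option linter.unusedSectionVars false
set_option linter.unusedVariables false
set_option linter.style.haveILetI false
universe u
open CategoryTheory CategoryTheory.Limits MonoidalCategory CartesianMonoidalCategory MonObj GrpObj
  AlgebraicGeometry

namespace Groth.Agent.Lib.T2H7.OverGlue

open Groth.Agent.Lib.T2H7.GrpLimA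

section Glue

variable {S : Scheme.{u}} (𝒰 : S.OpenCover) {X Y : Over S}

/-- **Zariski gluing of morphisms over `S`** (compatibility stated on the fibre products of the
pieces of the source). -/
theorem glue (f : ∀ i, (Over.pullback (𝒰.f i)).obj X ⟶ (Over.pullback (𝒰.f i)).obj Y)
    (hf : ∀ i j, pullback.fst (pullback.fst X.hom (𝒰.f i)) (pullback.fst X.hom (𝒰.f j)) ≫
        (f i).left ≫ pullback.fst Y.hom (𝒰.f i) =
      pullback.snd (pullback.fst X.hom (𝒰.f i)) (pullback.fst X.hom (𝒰.f j)) ≫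
        (f j).left ≫ pullback.fst Y.hom (𝒰.f j)) :
    ∃ g : X ⟶ Y, ∀ i, (Over.pullback (𝒰.f i)).map g = f i := by
  obtain ⟨𝒱, h𝒱⟩ : ∃ 𝒱 : X.left.OpenCover, 𝒱 = 𝒰.pullback₁ X.hom := ⟨_, rfl⟩
  subst h𝒱
  let G : X.left ⟶ Y.left := Scheme.Cover.glueMorphisms (𝒰.pullback₁ X.hom)
    (fun i => (f i).left ≫ pullback.fst Y.hom (𝒰.f i)) hf
  have hG : ∀ i, pullback.fst X.hom (𝒰.f i) ≫ G = (f i).left ≫ pullback.fst Y.hom (𝒰.f i) :=
    fun i => Scheme.Cover.ι_glueMorphisms (𝒰.pullback₁ X.hom) _ hf i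
  have hw : G ≫ Y.hom = X.hom := by
    refine Scheme.Cover.hom_ext (𝒰.pullback₁ X.hom) _ _ fun i => ?_
    show pullback.fst X.hom (𝒰.f i) ≫ G ≫ Y.hom = pullback.fst X.hom (𝒰.f i) ≫ X.hom
    rw [← Category.assoc, hG, Category.assoc, pullback.condition, ← Category.assoc]
    have h1 : (f i).left ≫ pullback.snd Y.hom (𝒰.f i) = pullback.snd X.hom (𝒰.f i) :=
      Over.w (f i)
    rw [h1, pullback.condition]
  refine ⟨Over.homMk G hw, fun i => ?_⟩
  ext
  apply pullback.hom_ext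
  · rw [ActBC.pullback_map_left_fst]
    exact hG i
  · have h1 : (f i).left ≫ pullback.snd Y.hom (𝒰.f i) = pullback.snd X.hom (𝒰.f i) :=
      Over.w (f i)
    rw [h1]
    exact Over.w ((Over.pullback (𝒰.f i)).map (Over.homMk G hw))

end Glue


section Res

variable {S : Scheme.{u}} {X Y : Over S}

/-- restriction of a morphism over an open `U` to a smaller open `W`. -/
noncomputable def res {U W : S.Opens} (hle : W ≤ U) (f : Red.bc U.ι X ⟶ Red.bc U.ι Y) :
    Red.bc W.ι X ⟶ Red.bc W.ι Y :=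
  (ActBC.bcCompIso (S.homOfLE hle) U.ι X (S.homOfLE_ι hle)).inv ≫
    (Over.pullback (S.homOfLE hle)).map f ≫
      (ActBC.bcCompIso (S.homOfLE hle) U.ι Y (S.homOfLE_ι hle)).hom

theorem res_left_fst {U W : S.Opens} (hle : W ≤ U) (f : Red.bc U.ι X ⟶ Red.bc U.ι Y)
    {P : Scheme.{u}} (p : P ⟶ pullback X.hom U.ι) (c : P ⟶ pullback X.hom W.ι)
    (h1 : c ≫ pullback.fst X.hom W.ι = p ≫ pullback.fst X.hom U.ι) :
    c ≫ (res hle f).left ≫ pullback.fst Y.hom W.ι = p ≫ f.left ≫ pullback.fst Y.hom U.ι := by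
  have hkey : c ≫ (ActBC.bcCompIso (S.homOfLE hle) U.ι X (S.homOfLE_ι hle)).inv.left ≫
      pullback.fst (Red.bc U.ι X).hom (S.homOfLE hle) = p := by
    apply pullback.hom_ext
    · rw [Category.assoc, Category.assoc, bcCompIso_inv_left_fst_fst, h1]
    · have hc : pullback.fst (Red.bc U.ι X).hom (S.homOfLE hle) ≫ pullback.snd X.hom U.ι =
          pullback.snd (Red.bc U.ι X).hom (S.homOfLE hle) ≫ S.homOfLE hle := pullback.condition
      rw [Category.assoc, Category.assoc, hc, bcCompIso_inv_left_snd_assoc,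
        ← cancel_mono U.ι, Category.assoc, Category.assoc, S.homOfLE_ι hle, Category.assoc,
        ← pullback.condition, ← pullback.condition, ← Category.assoc, h1, Category.assoc]
  unfold res
  simp only [Over.comp_left, Category.assoc]
  rw [ActBC.bcCompIso_hom_left_fst, ActBC.pullback_map_left_fst_assoc]
  conv_rhs => rw [← hkey]
  simp only [Category.assoc]

end Res


section GlueOpens

variable {S : Scheme.{u}} {X Y : Over S}

/-- **Zariski gluing of morphisms over `S`**, the compatibility being stated on the intersections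
of the members of an open covering of `S`. -/
theorem glue_opens {J : Type u} (U : J → S.Opens) (hU : TopologicalSpace.IsOpenCover U)
    (f : ∀ i, Red.bc (U i).ι X ⟶ Red.bc (U i).ι Y)
    (hres : ∀ i j, res (inf_le_left : U i ⊓ U j ≤ U i) (f i) =
      res (inf_le_right : U i ⊓ U j ≤ U j) (f j)) :
    ∃ g : X ⟶ Y, ∀ i, (Over.pullback (U i).ι).map g = f i := by
  refine glue (S.openCoverOfIsOpenCover U hU) f fun i j => ?_
  show pullback.fst (pullback.fst X.hom (U i).ι) (pullback.fst X.hom (U j).ι) ≫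
      (f i).left ≫ pullback.fst Y.hom (U i).ι =
    pullback.snd (pullback.fst X.hom (U i).ι) (pullback.fst X.hom (U j).ι) ≫
      (f j).left ≫ pullback.fst Y.hom (U j).ι
  obtain ⟨p₁, hp₁⟩ : ∃ p₁, p₁ = pullback.fst (pullback.fst X.hom (U i).ι)
    (pullback.fst X.hom (U j).ι) := ⟨_, rfl⟩
  obtain ⟨p₂, hp₂⟩ : ∃ p₂, p₂ = pullback.snd (pullback.fst X.hom (U i).ι)
    (pullback.fst X.hom (U j).ι) := ⟨_, rfl⟩
  have hcond : p₁ ≫ pullback.fst X.hom (U i).ι = p₂ ≫ pullback.fst X.hom (U j).ι := by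
    rw [hp₁, hp₂]
    exact pullback.condition
  rw [← hp₁, ← hp₂]
  -- the map to the intersection
  have hrange : Set.range (p₁ ≫ pullback.fst X.hom (U i).ι ≫ X.hom).base ⊆
      Set.range (U i ⊓ U j).ι.base := by
    rw [Scheme.Opens.range_ι]
    rintro _ ⟨z, rfl⟩
    constructor
    · have h1 : p₁ ≫ pullback.fst X.hom (U i).ι ≫ X.hom =
          (p₁ ≫ pullback.snd X.hom (U i).ι) ≫ (U i).ι := by
        rw [Category.assoc, pullback.condition]
      rw [h1]
      exact ((p₁ ≫ pullback.snd X.hom (U i).ι).base z).2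
    · have h1 : p₁ ≫ pullback.fst X.hom (U i).ι ≫ X.hom =
          (p₂ ≫ pullback.snd X.hom (U j).ι) ≫ (U j).ι := by
        rw [← Category.assoc, hcond, Category.assoc, Category.assoc, pullback.condition]
      rw [h1]
      exact ((p₂ ≫ pullback.snd X.hom (U j).ι).base z).2
  obtain ⟨b, hb⟩ : ∃ b, b ≫ (U i ⊓ U j).ι = p₁ ≫ pullback.fst X.hom (U i).ι ≫ X.hom :=
    ⟨IsOpenImmersion.lift (U i ⊓ U j).ι _ hrange, IsOpenImmersion.lift_fac _ _ _⟩
  obtain ⟨c, hc⟩ : ∃ c : _ ⟶ pullback X.hom (U i ⊓ U j).ι,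
      c ≫ pullback.fst X.hom (U i ⊓ U j).ι = p₁ ≫ pullback.fst X.hom (U i).ι :=
    ⟨pullback.lift (p₁ ≫ pullback.fst X.hom (U i).ι) b (by rw [Category.assoc, hb]),
      pullback.lift_fst _ _ _⟩
  rw [← res_left_fst inf_le_left (f i) p₁ c hc,
    ← res_left_fst inf_le_right (f j) p₂ c (hc.trans hcond), hres]

end GlueOpens


section Rigid

open Groth.Agent.Lib.T2H7.QtBc Groth.Agent.Lib.T2H7.QuotSplit Groth.Agent.Lib.T2H7.ImgSplit

variable {V : Scheme.{u}} {G H : Over V} [GrpObj G] [GrpObj H]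

theorem isCommMonObj_of_multType (hH : SGA3x.IsMultTypeFT H) : IsCommMonObj H :=
  (isCommMonObj_iff_isMulCommutative H).2 fun X =>
    ⟨⟨Groth.Agent.Lib.T2H7.Rigid.comm_of_multType hH X⟩⟩

/-- **Rigidity.** Two homomorphisms between groups of multiplicative type over a connected base
which agree at one field-valued point are equal. -/
theorem hom_eq_of_point [ConnectedSpace ↥V] (hG : SGA3x.IsMultTypeFT G)
    (hH : SGA3x.IsMultTypeFT H) (a b : G ⟶ H) [IsMonHom a] [IsMonHom b] {Ω : Type u} [Field Ω]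
    (t : Spec (CommRingCat.of Ω) ⟶ V)
    (ht : (Over.pullback t).map a = (Over.pullback t).map b) : a = b := by
  haveI := isCommMonObj_of_multType hH
  have hcomm := Groth.Agent.Lib.T2H7.Rigid.comm_of_multType hH
  haveI : IsMonHom (a * b⁻¹) := isMonHom_mul_of_comm hcomm a b⁻¹
  obtain ⟨U, hUc, hU1, hU2⟩ := Groth.Agent.Lib.T2H7.MtLocusG.locus_trivial (a * b⁻¹) hG hH
  obtain ⟨s, τ, hτ, hτfl, hτsj, hτqc⟩ := field_point_factor t
  haveI := hτfl
  haveI := hτsj
  haveI := hτqc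
  have hE : ∀ {Z : Scheme.{u}} (g : Z ⟶ V),
      EqDesc.E (a * b⁻¹) 1 g ↔ (Over.pullback g).map (a * b⁻¹) = 1 := by
    intro Z g
    unfold EqDesc.E
    rw [Functor.map_one]
  have h1 : (Over.pullback t).map (a * b⁻¹) = 1 := by
    rw [Functor.map_mul, Functor.map_inv', ht, mul_inv_cancel]
  have h2 : (Over.pullback (V.fromSpecResidueField s)).map (a * b⁻¹) = 1 := by
    rw [← hE] at h1 ⊢
    exact EqDesc.E.of_faithful τ hτ h1
  have hsU : s ∈ U := (hU1 s).2 h2
  have hw : a * b⁻¹ = 1 := eq_one_of_top _ U (univ_of_clopen_mem U hUc s hsU) hU2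
  exact mul_inv_eq_one.1 hw

end Rigid


section Aux

variable {C D : Type*} [Category C] [Category D] (F : C ⥤ D)

theorem tw_tw_aux {A₁ A₂ P₁ P₂ : C} {Q₁ Q₂ R₁ R₂ : D} (B1X : A₁ ≅ P₁) (B1Y : A₂ ≅ P₂)
    (B2X : F.obj P₁ ≅ Q₁) (B2Y : F.obj P₂ ≅ Q₂) (B3X : F.obj A₁ ≅ R₁) (B3Y : F.obj A₂ ≅ R₂)
    (B4X : R₁ ≅ Q₁) (B4Y : R₂ ≅ Q₂) (φ : A₁ ⟶ A₂) (φ' : R₁ ⟶ R₂)
    (hX : F.map B1X.hom ≫ B2X.hom = B3X.hom ≫ B4X.hom)
    (hY : F.map B1Y.hom ≫ B2Y.hom = B3Y.hom ≫ B4Y.hom)
    (hnat : F.map φ ≫ B3Y.hom = B3X.hom ≫ φ') :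
    B2X.inv ≫ F.map (B1X.inv ≫ φ ≫ B1Y.hom) ≫ B2Y.hom = B4X.inv ≫ φ' ≫ B4Y.hom := by
  have e1 : B2X.inv ≫ F.map B1X.inv ≫ B3X.hom = B4X.inv := by
    have : B3X.hom = F.map B1X.hom ≫ B2X.hom ≫ B4X.inv := by
      rw [← Category.assoc, hX, Category.assoc, Iso.hom_inv_id, Category.comp_id]
    rw [this, ← Category.assoc (F.map B1X.inv), ← Functor.map_comp, Iso.inv_hom_id,
      CategoryTheory.Functor.map_id, Category.id_comp, Iso.inv_hom_id_assoc]
  rw [Functor.map_comp, Functor.map_comp, Category.assoc, Category.assoc, hY,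
    ← Category.assoc (F.map φ), hnat, ← e1]
  simp only [Category.assoc]

end Aux

section Tw

variable {S U V V' : Scheme.{u}} (c : U ⟶ S) {X Y Y' : Over S}

/-- transport of a morphism over `U` along `a : V ⟶ U`. -/
noncomputable def tw (a : V ⟶ U) {q : V ⟶ S} (h : a ≫ c = q) (f : Red.bc c X ⟶ Red.bc c Y) :
    Red.bc q X ⟶ Red.bc q Y :=
  (ActBC.bcCompIso a c X h).inv ≫ (Over.pullback a).map f ≫ (ActBC.bcCompIso a c Y h).hom

theorem map_eq_tw (a : V ⟶ U) {q : V ⟶ S} (h : a ≫ c = q) (f : Red.bc c X ⟶ Red.bc c Y) :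
    (Over.pullback a).map f =
      (ActBC.bcCompIso a c X h).hom ≫ tw c a h f ≫ (ActBC.bcCompIso a c Y h).inv := by
  unfold tw
  simp

theorem res_eq_tw {W W' : S.Opens} (hle : W' ≤ W) (f : Red.bc W.ι X ⟶ Red.bc W.ι Y) :
    res hle f = tw W.ι (S.homOfLE hle) (S.homOfLE_ι hle) f := rfl

/-- coherence of the canonical identifications of iterated base changes. -/
theorem cocycle3 (b : V' ⟶ V) (a : V ⟶ U) {q : V ⟶ S} (h : a ≫ c = q) {q' : V' ⟶ S}
    (h' : b ≫ q = q') (h'' : (b ≫ a) ≫ c = q') (Z : Over S) :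
    (Over.pullback b).map (ActBC.bcCompIso a c Z h).hom ≫ (ActBC.bcCompIso b q Z h').hom =
      (ActBC.bcCompIso b a (Red.bc c Z) rfl).hom ≫ (ActBC.bcCompIso (b ≫ a) c Z h'').hom := by
  ext
  apply pullback.hom_ext
  · simp only [Over.comp_left, Category.assoc, ActBC.bcCompIso_hom_left_fst,
      ActBC.pullback_map_left_fst_assoc, ActBC.bcCompIso_hom_left_fst_assoc]
  · exact (Over.w _).trans (Over.w _).symm

theorem tw_tw (b : V' ⟶ V) (a : V ⟶ U) {q : V ⟶ S} (h : a ≫ c = q) {q' : V' ⟶ S}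
    (h' : b ≫ q = q') (h'' : (b ≫ a) ≫ c = q') (f : Red.bc c X ⟶ Red.bc c Y) :
    tw q b h' (tw c a h f) = tw c (b ≫ a) h'' f := by
  unfold tw
  exact tw_tw_aux (Over.pullback b) _ _ _ _ _ _ _ _ _ _ (cocycle3 c b a h h' h'' X)
    (cocycle3 c b a h h' h'' Y) (ActBC.bcCompIso_hom_naturality b a rfl f)

theorem tw_comp_map (a : V ⟶ U) {q : V ⟶ S} (h : a ≫ c = q) (f : Red.bc c X ⟶ Red.bc c Y)
    (δ : Y ⟶ Y') :
    tw c a h (f ≫ (Over.pullback c).map δ) = tw c a h f ≫ (Over.pullback q).map δ := by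
  unfold tw
  rw [Functor.map_comp, Category.assoc, Category.assoc, Category.assoc,
    ActBC.bcCompIso_hom_naturality a c h δ]

end Tw

end Groth.Agent.Lib.T2H7.OverGlue
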