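import Mathlib
import Groth.Prelude

/-!
# The relative Frobenius of a smooth algebra (helper7)

* `flat_of_etale_square`: in a commutative square with flat bottom and étale vertical maps the top
  map is flat.
* `exists_basis_of_algebraMap_eq_expand`: `R[x]` is free over itself through `expand p` with basis
  the monomials with exponents `< p`.
* `relFrob_natural`: naturality of the relative Frobenius.
* `relFrob_eq_expand`: the relative Frobenius of a polynomial ring is `expand p`.
* `flat_relFrob_of_smooth`: the relative Frobenius of a smooth algebra is flat.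
-/

set_option autoImplicit false
set_option linter.style.haveILetI false
universe u v w
open TensorProduct MvPolynomial

namespace Groth.Agent.Lib.T2H7.RelFrobSm

section Square

/-- In a commutative square of rings with flat bottom and étale vertical maps the top map is
flat. -/
theorem flat_of_etale_square (R : Type*) (S : Type*) (R' : Type*) (S' : Type*)
    [CommRing R] [CommRing S] [CommRing R'] [CommRing S']
    [Algebra R S] [Algebra R R'] [Algebra S S'] [Algebra R' S'] [Algebra R S']
    [IsScalarTower R S S'] [IsScalarTower R R' S'] [Module.Flat R S] [Algebra.Etale R R']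
    [Algebra.Etale S S'] : Module.Flat R' S' := by
  -- `E = R' ⊗[R] S`, flat over `R'` and étale over `S`
  let E := R' ⊗[R] S
  have hEflat : Module.Flat R' E := inferInstance
  let algSE : Algebra S E := Algebra.TensorProduct.rightAlgebra
  have hEet : Algebra.Etale S E :=
    Algebra.Etale.of_equiv (Algebra.TensorProduct.commRight R S R')
  let Ψ : E →ₐ[R'] S' :=
    Algebra.TensorProduct.lift (Algebra.ofId R' S') (IsScalarTower.toAlgHom R S S')
      (fun _ _ => Commute.all _ _)
  let algES' : Algebra E S' := Ψ.toRingHom.toAlgebra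
  have tower1 : IsScalarTower R' E S' := IsScalarTower.of_algebraMap_eq (fun r => by
    change algebraMap R' S' r = Ψ (algebraMap R' E r)
    rw [AlgHom.commutes])
  have tower2 : IsScalarTower S E S' := IsScalarTower.of_algebraMap_eq (fun s => by
    change algebraMap S S' s = Ψ ((1 : R') ⊗ₜ[R] s)
    rw [Algebra.TensorProduct.lift_tmul, map_one, one_mul]
    rfl)
  have : Algebra.Etale E S' := Algebra.Etale.of_restrictScalars S E S'
  have : Module.Flat E S' := inferInstance
  exact Module.Flat.trans R' E S'

/-- ring homomorphism form of `flat_of_etale_square` -/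
theorem flat_of_etale_square' {R : Type*} {S : Type*} {R' : Type*} {S' : Type*}
    [CommRing R] [CommRing S] [CommRing R'] [CommRing S']
    (f : R →+* S) (g : R →+* R') (f' : R' →+* S') (g' : S →+* S')
    (comm : f'.comp g = g'.comp f) (hf : f.Flat) (hg : g.Etale) (hg' : g'.Etale) : f'.Flat := by
  let _ : Algebra R S := f.toAlgebra
  let _ : Algebra R R' := g.toAlgebra
  let _ : Algebra S S' := g'.toAlgebra
  let _ : Algebra R' S' := f'.toAlgebra
  let _ : Algebra R S' := (g'.comp f).toAlgebra
  have : IsScalarTower R S S' := IsScalarTower.of_algebraMap_eq (fun _ => rfl)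
  have : IsScalarTower R R' S' := IsScalarTower.of_algebraMap_eq (fun x => by
    exact (RingHom.congr_fun comm x).symm)
  have : Module.Flat R S := hf
  have : Algebra.Etale R R' := hg
  have : Algebra.Etale S S' := hg'
  exact flat_of_etale_square R S R' S'

end Square

section Expand

variable (σ : Type*) [Finite σ] (R : Type*) [CommRing R] (p : ℕ) [NeZero p]

/-- division with remainder of exponent vectors -/
noncomputable def divMod : (σ →₀ ℕ) ≃ (σ → Fin p) × (σ →₀ ℕ) :=
  (Finsupp.equivFunOnFinite.trans
    (((Equiv.arrowCongr (Equiv.refl σ) (Nat.divModEquiv p)).trans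
      (Equiv.arrowProdEquivProdArrow _ _ _)).trans
      (Equiv.prodCongr Finsupp.equivFunOnFinite.symm (Equiv.refl _)))).trans (Equiv.prodComm _ _)

/-- the exponent vector of a remainder -/
noncomputable def remVec (r : σ → Fin p) : σ →₀ ℕ :=
  Finsupp.equivFunOnFinite.symm (fun i => (r i : ℕ))

theorem divMod_symm_apply (r : σ → Fin p) (m : σ →₀ ℕ) :
    (divMod σ p).symm (r, m) = p • m + remVec σ p r := by
  ext i
  simp [divMod, remVec, mul_comm]

/-- the additive decomposition of the polynomial ring along remainders of exponents -/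
noncomputable def decomp : ((σ → Fin p) →₀ MvPolynomial σ R) ≃+ MvPolynomial σ R :=
  ((Finsupp.mapRange.addEquiv (AddMonoidAlgebra.coeffAddEquiv (R := R) (M := σ →₀ ℕ))).trans
    ((Finsupp.curryAddEquiv (α := σ → Fin p) (β := σ →₀ ℕ) (M := R)).symm.trans
      (Finsupp.domCongr (divMod σ p).symm))).trans
    (AddMonoidAlgebra.coeffAddEquiv (R := R) (M := σ →₀ ℕ)).symm

theorem decomp_single_monomial (r : σ → Fin p) (m : σ →₀ ℕ) (a : R) :
    decomp σ R p (Finsupp.single r (monomial m a)) = monomial (p • m + remVec σ p r) a := by
  rw [← divMod_symm_apply]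
  simp only [decomp, AddEquiv.trans_apply, Finsupp.mapRange.addEquiv_apply,
    Finsupp.mapRange_single]
  have h1 : AddMonoidAlgebra.coeffAddEquiv (monomial m a : MvPolynomial σ R) =
      Finsupp.single m a := rfl
  have h2 : (Finsupp.curryAddEquiv (α := σ → Fin p) (β := σ →₀ ℕ) (M := R)).symm
      (Finsupp.single r (Finsupp.single m a)) = Finsupp.single (r, m) a := by
    rw [AddEquiv.symm_apply_eq]
    simp [Finsupp.curry_single]
  rw [h1, h2, Finsupp.domCongr_apply, Finsupp.equivMapDomain_single]
  rfl

theorem decomp_single (r : σ → Fin p) (f : MvPolynomial σ R) :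
    decomp σ R p (Finsupp.single r f) = expand p f * monomial (remVec σ p r) 1 := by
  induction f using MvPolynomial.induction_on' with
  | monomial m a =>
    rw [decomp_single_monomial, expand_monomial, monomial_mul, mul_one]
  | add f g hf hg =>
    rw [Finsupp.single_add, map_add, hf, hg, map_add, add_mul]

variable {σ R p}
variable {S₀ : Type*} [CommRing S₀] [Algebra S₀ (MvPolynomial σ R)]
  (e : S₀ ≃+* MvPolynomial σ R) (he : ∀ x, algebraMap S₀ (MvPolynomial σ R) x = expand p (e x))

include he in
/-- the polynomial ring is free over itself through `expand p`, with basis the monomials with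
exponents `< p` -/
theorem exists_basis_of_algebraMap_eq_expand :
    ∃ b : Module.Basis (σ → Fin p) S₀ (MvPolynomial σ R),
      ∀ r, b r = monomial (remVec σ p r) 1 := by
  let Φ : ((σ → Fin p) →₀ S₀) ≃+ MvPolynomial σ R :=
    (Finsupp.mapRange.addEquiv e.toAddEquiv).trans (decomp σ R p)
  let L : ((σ → Fin p) →₀ S₀) →ₗ[S₀] MvPolynomial σ R :=
    Finsupp.linearCombination S₀ (fun r => (monomial (remVec σ p r) 1 : MvPolynomial σ R))
  have hΦ : ∀ (r : σ → Fin p) (s : S₀), Φ (Finsupp.single r s) =
      s • (monomial (remVec σ p r) 1 : MvPolynomial σ R) := by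
    intro r s
    change decomp σ R p (Finsupp.mapRange e (map_zero e) (Finsupp.single r s)) = _
    rw [Finsupp.mapRange_single, decomp_single, Algebra.smul_def, he]
  have hL : ∀ v, L v = Φ v := by
    intro v
    induction v using Finsupp.induction_linear with
    | zero => simp
    | add v w hv hw => rw [map_add, map_add, hv, hw]
    | single r s => rw [hΦ, Finsupp.linearCombination_single]
  have hbij : Function.Bijective L := by
    have : (L : _ → _) = Φ := funext hL
    rw [this]
    exact Φ.bijective
  refine ⟨Module.Basis.ofRepr (LinearEquiv.ofBijective L hbij).symm, fun r => ?_⟩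
  rw [Module.Basis.coe_ofRepr]
  simp [L]

end Expand

section Basic

variable (p : ℕ) [Fact p.Prime] (A : Type u) [CommRing A] [CharP A p]
  (B : Type v) [CommRing B] [Algebra A B] [CharP B p]

theorem relFrob_tmul (b : B) (a : FrobAlg.Twist p A) :
    FrobAlg.relFrob p A B (b ⊗ₜ[A] a) = b ^ p * algebraMap A B ((FrobAlg.toTwist p A).symm a) := by
  unfold FrobAlg.relFrob
  simp only [RingHom.coe_comp, Function.comp_apply, AlgHom.toRingHom_eq_coe, RingHom.coe_coe,
    Algebra.TensorProduct.lift_tmul]
  rfl

variable {B} (C : Type w) [CommRing C] [Algebra A C] [CharP C p]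

/-- naturality of the relative Frobenius -/
theorem relFrob_natural (h : B →ₐ[A] C) (x : FrobAlg.BaseChange p A B) :
    FrobAlg.relFrob p A C (Algebra.TensorProduct.map h (AlgHom.id A (FrobAlg.Twist p A)) x) =
      h (FrobAlg.relFrob p A B x) := by
  induction x using TensorProduct.induction_on with
  | zero => simp
  | add x y hx hy => simp only [map_add, hx, hy]
  | tmul b t =>
    rw [Algebra.TensorProduct.map_tmul, relFrob_tmul, relFrob_tmul, map_mul, map_pow,
      AlgHom.commutes]
    rfl

end Basic

section PolyFrob

variable (p : ℕ) [Fact p.Prime] (A : Type u) [CommRing A] [CharP A p] (σ : Type w)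

/-- the Frobenius twist of a polynomial ring is a polynomial ring -/
noncomputable def twistPolyEquiv :
    FrobAlg.BaseChange p A (MvPolynomial σ A) ≃+* MvPolynomial σ A :=
  (Algebra.TensorProduct.comm A (MvPolynomial σ A) (FrobAlg.Twist p A)).toRingEquiv.trans
    ((MvPolynomial.algebraTensorAlgEquiv (σ := σ) A (FrobAlg.Twist p A)).toRingEquiv.trans
    (MvPolynomial.mapEquiv σ (FrobAlg.toTwist p A).symm))

theorem relFrob_eq_expand (x : FrobAlg.BaseChange p A (MvPolynomial σ A)) :
    FrobAlg.relFrob p A (MvPolynomial σ A) x = expand p (twistPolyEquiv p A σ x) := by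
  induction x using TensorProduct.induction_on with
  | zero => simp
  | add x y hx hy => rw [map_add, map_add, map_add, hx, hy]
  | tmul f t =>
    rw [relFrob_tmul]
    have h1 : twistPolyEquiv p A σ (f ⊗ₜ[A] t) =
        C ((FrobAlg.toTwist p A).symm t) * map (frobenius A p) f := by
      change MvPolynomial.mapEquiv σ (FrobAlg.toTwist p A).symm
        (MvPolynomial.algebraTensorAlgEquiv (σ := σ) A (FrobAlg.Twist p A)
          (Algebra.TensorProduct.comm A (MvPolynomial σ A) (FrobAlg.Twist p A) (f ⊗ₜ[A] t))) = _
      rw [Algebra.TensorProduct.comm_tmul, MvPolynomial.algebraTensorAlgEquiv_tmul,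
        MvPolynomial.mapEquiv_apply, MvPolynomial.smul_eq_C_mul, map_mul, MvPolynomial.map_C,
        MvPolynomial.map_map]
      rfl
    rw [h1, map_mul, expand_C, ← map_expand, map_frobenius_expand, mul_comm]
    rfl

end PolyFrob

section EtalePoly

variable (p : ℕ) [Fact p.Prime] (A : Type u) [CommRing A] [CharP A p]

/-- the relative Frobenius of a polynomial ring is free of rank `p ^ n` -/
theorem exists_basis_relFrob_mvPolynomial (n : ℕ) :
    letI := (FrobAlg.relFrob p A (MvPolynomial (Fin n) A)).toAlgebra
    Nonempty (Module.Basis (Fin n → Fin p) (FrobAlg.BaseChange p A (MvPolynomial (Fin n) A))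
      (MvPolynomial (Fin n) A)) := by
  letI := (FrobAlg.relFrob p A (MvPolynomial (Fin n) A)).toAlgebra
  have : NeZero p := ⟨(Fact.out : p.Prime).ne_zero⟩
  obtain ⟨b, -⟩ := exists_basis_of_algebraMap_eq_expand (σ := Fin n) (R := A) (p := p)
    (twistPolyEquiv p A (Fin n)) (fun x => relFrob_eq_expand p A (Fin n) x)
  exact ⟨b⟩

/-- the base change of an étale map to the Frobenius twists is étale -/
theorem etale_map_twist (P : Type v) [CommRing P] [Algebra A P] (C : Type w) [CommRing C]
    [Algebra A C] [Algebra P C] [IsScalarTower A P C] [Algebra.Etale P C] :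
    (Algebra.TensorProduct.map (IsScalarTower.toAlgHom A P C)
      (AlgHom.id A (FrobAlg.Twist p A))).toRingHom.Etale := by
  let T := FrobAlg.Twist p A
  let P' := P ⊗[A] T
  let C' := C ⊗[A] T
  let ι : P' →ₐ[A] C' := Algebra.TensorProduct.map (IsScalarTower.toAlgHom A P C) (AlgHom.id A T)
  let algP'C' : Algebra P' C' := ι.toRingHom.toAlgebra
  have towerPP'C' : IsScalarTower P P' C' := IsScalarTower.of_algebraMap_eq (fun x => by
    change algebraMap P C' x = ι (algebraMap P P' x)
    rw [Algebra.TensorProduct.algebraMap_apply, Algebra.TensorProduct.algebraMap_apply]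
    rfl)
  have hpo : Algebra.IsPushout P C P' C' :=
    Algebra.IsPushout.tensorProduct_tensorProduct A T P C (by
      ext t
      change ι ((1 : P) ⊗ₜ[A] t) = (1 : C) ⊗ₜ[A] t
      rw [Algebra.TensorProduct.map_tmul, map_one]
      rfl)
  have hpo' : Algebra.IsPushout P P' C C' := hpo.symm
  have etP'C' : Algebra.Etale P' C' :=
    Algebra.Etale.of_equiv (Algebra.IsPushout.equiv P P' C C')
  exact etP'C'

theorem flat_relFrob_of_etale_mvPolynomial (n : ℕ) (C : Type v) [CommRing C] [Algebra A C]
    [CharP C p] (g : MvPolynomial (Fin n) A →ₐ[A] C) (hg : g.toRingHom.Etale) :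
    (FrobAlg.relFrob p A C).Flat := by
  let P := MvPolynomial (Fin n) A
  let algPC : Algebra P C := g.toRingHom.toAlgebra
  have towerAPC : IsScalarTower A P C := IsScalarTower.of_algebraMap_eq (fun a => (g.commutes a).symm)
  have etPC : Algebra.Etale P C := hg
  have h1 := etale_map_twist p A P C
  have h2 : (FrobAlg.relFrob p A P).Flat := by
    let algP'P : Algebra (FrobAlg.BaseChange p A P) P := (FrobAlg.relFrob p A P).toAlgebra
    obtain ⟨b⟩ := exists_basis_relFrob_mvPolynomial p A n
    have := Module.Free.of_basis b
    change Module.Flat (FrobAlg.BaseChange p A P) P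
    infer_instance
  refine flat_of_etale_square' (FrobAlg.relFrob p A P) _ (FrobAlg.relFrob p A C) g.toRingHom ?_
    h2 h1 hg
  exact RingHom.ext fun x => relFrob_natural p A C (IsScalarTower.toAlgHom A P C) x

end EtalePoly

section Smooth

variable (p : ℕ) [Fact p.Prime] (A : Type u) [CommRing A] [CharP A p]

theorem charP_of_algebra_of_nontrivial (B : Type v) [CommRing B] [CharP B p] (C : Type w)
    [CommRing C] [Algebra B C] [Nontrivial C] : CharP C p := by
  have hp : p.Prime := Fact.out
  have h0 : ((p : ℕ) : C) = 0 := by
    rw [← map_natCast (algebraMap B C), CharP.cast_eq_zero, map_zero]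
  exact ringChar.of_eq (CharP.ringChar_of_prime_eq_zero hp h0)

/-- the relative Frobenius of a standard smooth algebra is flat -/
theorem flat_relFrob_of_isStandardSmooth (C : Type v) [CommRing C] [Algebra A C] [CharP C p]
    [Algebra.IsStandardSmooth A C] : (FrobAlg.relFrob p A C).Flat := by
  have h1 : (algebraMap A C).IsStandardSmooth :=
    RingHom.isStandardSmooth_algebraMap.mpr inferInstance
  obtain ⟨n, g, hg1, hg2⟩ := h1.exists_etale_mvPolynomial
  let g' : MvPolynomial (Fin n) A →ₐ[A] C :=
    { g with commutes' := fun a => RingHom.congr_fun hg1 a }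
  exact flat_relFrob_of_etale_mvPolynomial p A n C g' hg2

/-- the relative Frobenius of a smooth algebra is flat -/
theorem flat_relFrob_of_smooth (B : Type v) [CommRing B] [Algebra A B] [CharP B p]
    [Algebra.Smooth A B] : (FrobAlg.relFrob p A B).Flat := by
  obtain ⟨s, hs, h⟩ := Algebra.Smooth.exists_span_eq_top_isStandardSmooth A B
  let B' := FrobAlg.BaseChange p A B
  let algB'B : Algebra B' B := (FrobAlg.relFrob p A B).toAlgebra
  change Module.Flat B' B
  refine Module.flat_of_isLocalized_span B B s hs (fun r => Localization.Away r.1)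
    (fun r => Algebra.linearMap B (Localization.Away r.1)) (fun r => ?_)
  rcases subsingleton_or_nontrivial (Localization.Away r.1) with hsub | hnt
  · infer_instance
  · have hchar : CharP (Localization.Away r.1) p :=
      charP_of_algebra_of_nontrivial p B (Localization.Away r.1)
    have hstd : Algebra.IsStandardSmooth A (Localization.Away r.1) := h r.1 r.2
    have h1 := flat_relFrob_of_isStandardSmooth p A (Localization.Away r.1)
    have h2 : (Algebra.TensorProduct.map (IsScalarTower.toAlgHom A B (Localization.Away r.1))
        (AlgHom.id A (FrobAlg.Twist p A))).toRingHom.Flat := by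
      apply RingHom.Flat.tensorProductMap
      · exact RingHom.flat_algebraMap_iff.mpr (IsLocalization.flat _ (Submonoid.powers r.1))
      · exact RingHom.Flat.id _
    have h3 := RingHom.Flat.comp h2 h1
    have h4 : (FrobAlg.relFrob p A (Localization.Away r.1)).comp
        (Algebra.TensorProduct.map (IsScalarTower.toAlgHom A B (Localization.Away r.1))
        (AlgHom.id A (FrobAlg.Twist p A))).toRingHom =
        (algebraMap B (Localization.Away r.1)).comp (FrobAlg.relFrob p A B) :=
      RingHom.ext fun x => relFrob_natural p A (Localization.Away r.1)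
        (IsScalarTower.toAlgHom A B (Localization.Away r.1)) x
    rw [h4] at h3
    rw [← RingHom.flat_algebraMap_iff, IsScalarTower.algebraMap_eq B' B (Localization.Away r.1)]
    exact h3

end Smooth

end Groth.Agent.Lib.T2H7.RelFrobSm
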