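import Mathlib
import Groth.Prelude
import Groth.Agent.Lib.Helper18RelFrob
import Groth.Agent.Lib.T2H7RelFrobSm
import Groth.Agent.S3191

/-!
# The relative Frobenius of a smooth algebra is finite locally free of rank `p ^ r` (helper7)
-/

set_option autoImplicit false
set_option linter.style.haveILetI false
universe u v w
open TensorProduct

namespace Groth.Agent.Lib.T2H7.RelFrobRk

open Groth.Agent.Lib.Helper18RelFrob Groth.Agent.Lib.T2H7.RelFrobSm

section Generic

/-- an étale ring map with an inverse up to Frobenius is bijective -/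
theorem bijective_of_etale_of_frobenius_inverse (p : ℕ) (hp : p.Prime) (E S' : Type u) [CommRing E]
    [CommRing S'] [Algebra E S'] [Algebra.Etale E S'] (hp0 : ((p : ℕ) : S') = 0)
    (θ : S' →+* E) (h1 : ∀ s, algebraMap E S' (θ s) = s ^ p)
    (h2 : ∀ e, θ (algebraMap E S' e) = e ^ p) :
    Function.Bijective (algebraMap E S') := by
  have hsurj : Function.Surjective (PrimeSpectrum.comap (algebraMap E S')) := by
    intro Q
    have hQ' : (Q.asIdeal.comap θ).IsPrime := Ideal.comap_isPrime θ Q.asIdeal
    refine ⟨⟨Q.asIdeal.comap θ, hQ'⟩, ?_⟩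
    apply PrimeSpectrum.ext
    ext e
    change θ (algebraMap E S' e) ∈ Q.asIdeal ↔ e ∈ Q.asIdeal
    rw [h2]
    exact ⟨fun h => Q.2.mem_of_pow_mem p h, fun h => Ideal.pow_mem_of_mem _ h p hp.pos⟩
  have : Module.Flat E S' := inferInstance
  have : Module.FaithfullyFlat E S' := Module.FaithfullyFlat.of_comap_surjective hsurj
  have hinj := lmul_injective_of_radicial p hp E S' hp0 (fun s => ⟨θ s, h1 s⟩)
  exact bijective_of_faithfullyFlat_of_lmul_injective E S' hinj

/-- the comparison map of a Frobenius-like square with étale vertical maps is bijective -/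
theorem exists_bijective_of_etale_frobenius_square (p : ℕ) (hp : p.Prime)
    {R S R' S' : Type u} [CommRing R] [CommRing S] [CommRing R'] [CommRing S']
    (f : R →+* S) (g : R →+* R') (f' : R' →+* S') (g' : S →+* S')
    (comm : f'.comp g = g'.comp f) (hg : g.Etale) (hg' : g'.Etale)
    (hpR' : ((p : ℕ) : R') = 0)
    (θS : S →+* R) (θ' : S' →+* R')
    (h1 : ∀ s, f (θS s) = s ^ p) (h2 : ∀ s', f' (θ' s') = s' ^ p)
    (h3 : ∀ r', θ' (f' r') = r' ^ p) (h4 : ∀ s, g (θS s) = θ' (g' s)) :
    letI := f.toAlgebra
    letI := g.toAlgebra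
    ∃ Ψ : R' ⊗[R] S →+* S', Function.Bijective Ψ ∧ ∀ r' s, Ψ (r' ⊗ₜ[R] s) = f' r' * g' s := by
  letI algRS : Algebra R S := f.toAlgebra
  letI algRR' : Algebra R R' := g.toAlgebra
  letI algSS' : Algebra S S' := g'.toAlgebra
  letI algR'S' : Algebra R' S' := f'.toAlgebra
  letI algRS' : Algebra R S' := (g'.comp f).toAlgebra
  have : IsScalarTower R S S' := IsScalarTower.of_algebraMap_eq (fun _ => rfl)
  have : IsScalarTower R R' S' := IsScalarTower.of_algebraMap_eq (fun x => by
    exact (RingHom.congr_fun comm x).symm)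
  have : Algebra.Etale R R' := hg
  have : Algebra.Etale S S' := hg'
  let E := R' ⊗[R] S
  letI algSE : Algebra S E := Algebra.TensorProduct.rightAlgebra
  have hEet : Algebra.Etale S E :=
    Algebra.Etale.of_equiv (Algebra.TensorProduct.commRight R S R')
  let Ψ : E →ₐ[R'] S' :=
    Algebra.TensorProduct.lift (Algebra.ofId R' S') (IsScalarTower.toAlgHom R S S')
      (fun _ _ => Commute.all _ _)
  have hΨ : ∀ r' s, Ψ (r' ⊗ₜ[R] s) = f' r' * g' s := fun r' s => by
    rw [Algebra.TensorProduct.lift_tmul]
    rfl
  letI algES' : Algebra E S' := Ψ.toRingHom.toAlgebra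
  have tower2 : IsScalarTower S E S' := IsScalarTower.of_algebraMap_eq (fun s => by
    change algebraMap S S' s = Ψ ((1 : R') ⊗ₜ[R] s)
    rw [hΨ, map_one, one_mul]
    rfl)
  have : Algebra.Etale E S' := Algebra.Etale.of_restrictScalars S E S'
  refine ⟨Ψ.toRingHom, ?_, hΨ⟩
  have hpS' : ((p : ℕ) : S') = 0 := by
    rw [← map_natCast f', hpR', map_zero]
  have hpE : ((p : ℕ) : E) = 0 := by
    rw [← map_natCast (algebraMap R' E), hpR', map_zero]
  let θE : S' →+* E :=
    (Algebra.TensorProduct.includeLeftRingHom : R' →+* R' ⊗[R] S).comp θ'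
  refine bijective_of_etale_of_frobenius_inverse p hp E S' hpS' θE ?_ ?_
  · intro s'
    change Ψ (θ' s' ⊗ₜ[R] (1 : S)) = _
    rw [hΨ, map_one, mul_one, h2]
  · intro e
    rcases subsingleton_or_nontrivial E with hsub | hnt
    · exact Subsingleton.elim _ _
    have : CharP E p := (CharP.charP_iff_prime_eq_zero hp).mpr hpE
    have : Fact p.Prime := ⟨hp⟩
    change θE (Ψ e) = e ^ p
    induction e using TensorProduct.induction_on with
    | zero => simp [zero_pow hp.ne_zero]
    | add x y hx hy => rw [map_add, map_add, hx, hy, add_pow_char]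
    | tmul r' s =>
      rw [hΨ, map_mul]
      change (θ' (f' r') ⊗ₜ[R] (1 : S)) * (θ' (g' s) ⊗ₜ[R] (1 : S)) = _
      rw [h3, ← h4, Algebra.TensorProduct.tmul_mul_tmul, mul_one, Algebra.TensorProduct.tmul_pow,
        ← h1]
      have : r' ^ p * g (θS s) = (θS s) • (r' ^ p) := by
        rw [Algebra.smul_def, mul_comm]
        rfl
      rw [this, TensorProduct.smul_tmul, Algebra.smul_def, mul_one]
      rfl

/-- ranks in a cocartesian square -/
theorem rankAtStalk_eq_of_bijective_tensor {R S R' S' : Type u} [CommRing R] [CommRing S]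
    [CommRing R'] [CommRing S'] [Algebra R S] [Algebra R R'] [Algebra R' S'] [Module.Flat R S]
    [Module.Finite R S] (Ψ : R' ⊗[R] S →+* S') (hbij : Function.Bijective Ψ)
    (h : ∀ r', Ψ (r' ⊗ₜ[R] (1 : S)) = algebraMap R' S' r') (x : PrimeSpectrum R') :
    Module.rankAtStalk (R := R') S' x =
      Module.rankAtStalk (R := R) S (x.comap (algebraMap R R')) := by
  let e : R' ⊗[R] S ≃ₗ[R'] S' :=
    { RingEquiv.ofBijective Ψ hbij with
      map_smul' := fun r' z => by
        change Ψ (r' • z) = r' • Ψ z
        rw [Algebra.smul_def, Algebra.smul_def, map_mul, Algebra.TensorProduct.algebraMap_apply,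
          Algebra.algebraMap_self, RingHom.id_apply, h] }
  rw [← Module.rankAtStalk_eq_of_equiv e, Module.rankAtStalk_baseChange]

end Generic

section Theta

variable (p : ℕ) [Fact p.Prime] (A : Type u) [CommRing A] [CharP A p]
  (B : Type v) [CommRing B] [Algebra A B] [CharP B p]

open Groth.Agent.Lib.T2H7.RelFrobSm

/-- the inverse up to Frobenius of the relative Frobenius -/
noncomputable def theta : B →+* FrobAlg.BaseChange p A B :=
  Algebra.TensorProduct.includeLeftRingHom

theorem relFrob_theta (b : B) : FrobAlg.relFrob p A B (theta p A B b) = b ^ p := by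
  change FrobAlg.relFrob p A B (b ⊗ₜ[A] (1 : FrobAlg.Twist p A)) = _
  rw [relFrob_tmul]
  have : (FrobAlg.toTwist p A).symm (1 : FrobAlg.Twist p A) = 1 := map_one _
  rw [this, map_one, mul_one]

theorem theta_relFrob (x : FrobAlg.BaseChange p A B) :
    theta p A B (FrobAlg.relFrob p A B x) = x ^ p := by
  rcases subsingleton_or_nontrivial (FrobAlg.BaseChange p A B) with hsub | hnt
  · exact Subsingleton.elim _ _
  have hp : p.Prime := Fact.out
  have hp0 : ((p : ℕ) : FrobAlg.BaseChange p A B) = 0 := by
    rw [← map_natCast (theta p A B), CharP.cast_eq_zero, map_zero]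
  have : CharP (FrobAlg.BaseChange p A B) p := (CharP.charP_iff_prime_eq_zero hp).mpr hp0
  induction x using TensorProduct.induction_on with
  | zero => simp [zero_pow hp.ne_zero]
  | add x y hx hy => rw [map_add, map_add, hx, hy, add_pow_char]
  | tmul b t =>
    rw [relFrob_tmul, Algebra.TensorProduct.tmul_pow]
    change (b ^ p * algebraMap A B ((FrobAlg.toTwist p A).symm t)) ⊗ₜ[A] (1 : FrobAlg.Twist p A) = _
    rw [mul_comm, ← Algebra.smul_def, TensorProduct.smul_tmul, Algebra.smul_def, mul_one,
      FrobAlg.algebraMap_twist, map_pow, RingEquiv.apply_symm_apply]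

end Theta

section Square

variable (p : ℕ) [Fact p.Prime] (A : Type u) [CommRing A] [CharP A p]

theorem natCast_baseChange_eq_zero (B : Type v) [CommRing B] [Algebra A B] [CharP B p] :
    ((p : ℕ) : FrobAlg.BaseChange p A B) = 0 := by
  rw [← map_natCast (theta p A B), CharP.cast_eq_zero, map_zero]

/-- the rank of the relative Frobenius is invariant under étale maps -/
theorem rankAtStalk_relFrob_of_etale (B C : Type u) [CommRing B] [Algebra A B] [CharP B p]
    [CommRing C] [Algebra A C] [CharP C p] (g : B →ₐ[A] C) (hg : g.toRingHom.Etale)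
    (hflat : (FrobAlg.relFrob p A B).Flat) (hfin : (FrobAlg.relFrob p A B).Finite)
    (x : PrimeSpectrum (FrobAlg.BaseChange p A C)) :
    letI := (FrobAlg.relFrob p A B).toAlgebra
    letI := (FrobAlg.relFrob p A C).toAlgebra
    Module.rankAtStalk (R := FrobAlg.BaseChange p A C) C x =
      Module.rankAtStalk (R := FrobAlg.BaseChange p A B) B
        (x.comap (Algebra.TensorProduct.map g (AlgHom.id A (FrobAlg.Twist p A))).toRingHom) := by
  letI algB'B : Algebra (FrobAlg.BaseChange p A B) B := (FrobAlg.relFrob p A B).toAlgebra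
  letI algC'C : Algebra (FrobAlg.BaseChange p A C) C := (FrobAlg.relFrob p A C).toAlgebra
  have hp : p.Prime := Fact.out
  let algBC : Algebra B C := g.toRingHom.toAlgebra
  have towerABC : IsScalarTower A B C :=
    IsScalarTower.of_algebraMap_eq (fun a => (g.commutes a).symm)
  have etBC : Algebra.Etale B C := hg
  have h1 : (Algebra.TensorProduct.map g (AlgHom.id A (FrobAlg.Twist p A))).toRingHom.Etale :=
    etale_map_twist p A B C
  obtain ⟨Ψ, hΨbij, hΨ⟩ := exists_bijective_of_etale_frobenius_square p hp
    (FrobAlg.relFrob p A B) (Algebra.TensorProduct.map g (AlgHom.id A (FrobAlg.Twist p A))).toRingHom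
    (FrobAlg.relFrob p A C) g.toRingHom
    (RingHom.ext fun x => relFrob_natural p A C g x) h1 hg
    (natCast_baseChange_eq_zero p A C) (theta p A B) (theta p A C)
    (relFrob_theta p A B) (relFrob_theta p A C) (theta_relFrob p A C)
    (fun s => by
      change Algebra.TensorProduct.map g (AlgHom.id A (FrobAlg.Twist p A))
        (s ⊗ₜ[A] (1 : FrobAlg.Twist p A)) = (g s) ⊗ₜ[A] (1 : FrobAlg.Twist p A)
      rw [Algebra.TensorProduct.map_tmul]
      rfl)
  letI algB'C' : Algebra (FrobAlg.BaseChange p A B) (FrobAlg.BaseChange p A C) :=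
    (Algebra.TensorProduct.map g (AlgHom.id A (FrobAlg.Twist p A))).toRingHom.toAlgebra
  have : Module.Flat (FrobAlg.BaseChange p A B) B := hflat
  have : Module.Finite (FrobAlg.BaseChange p A B) B := hfin
  exact rankAtStalk_eq_of_bijective_tensor Ψ hΨbij (fun r' => by
    rw [hΨ, map_one, mul_one]
    rfl) x

end Square

section Poly

variable (p : ℕ) [Fact p.Prime] (A : Type u) [CommRing A] [CharP A p]

theorem rankAtStalk_relFrob_mvPolynomial (n : ℕ)
    (y : PrimeSpectrum (FrobAlg.BaseChange p A (MvPolynomial (Fin n) A))) :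
    letI := (FrobAlg.relFrob p A (MvPolynomial (Fin n) A)).toAlgebra
    Module.rankAtStalk (R := FrobAlg.BaseChange p A (MvPolynomial (Fin n) A))
      (MvPolynomial (Fin n) A) y = p ^ n := by
  letI := (FrobAlg.relFrob p A (MvPolynomial (Fin n) A)).toAlgebra
  obtain ⟨b⟩ := exists_basis_relFrob_mvPolynomial p A n
  have := Module.Free.of_basis b
  have : Nontrivial (FrobAlg.BaseChange p A (MvPolynomial (Fin n) A)) := y.nontrivial
  rw [Module.rankAtStalk_eq_finrank_of_free, Pi.natCast_apply, Module.finrank_eq_card_basis b]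
  simp

theorem finite_relFrob_mvPolynomial (n : ℕ) :
    (FrobAlg.relFrob p A (MvPolynomial (Fin n) A)).Finite := by
  letI := (FrobAlg.relFrob p A (MvPolynomial (Fin n) A)).toAlgebra
  obtain ⟨b⟩ := exists_basis_relFrob_mvPolynomial p A n
  exact Module.Finite.of_basis b

theorem flat_relFrob_mvPolynomial (n : ℕ) :
    (FrobAlg.relFrob p A (MvPolynomial (Fin n) A)).Flat := by
  letI := (FrobAlg.relFrob p A (MvPolynomial (Fin n) A)).toAlgebra
  obtain ⟨b⟩ := exists_basis_relFrob_mvPolynomial p A n
  have := Module.Free.of_basis b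
  change Module.Flat (FrobAlg.BaseChange p A (MvPolynomial (Fin n) A)) (MvPolynomial (Fin n) A)
  infer_instance

end Poly

section Fin

variable (p : ℕ) [Fact p.Prime] (A : Type u) [CommRing A] [CharP A p]
  (B : Type u) [CommRing B] [Algebra A B] [CharP B p]

/-- the structure map `A → B^{(p)}` through the twisted copy of `A` -/
noncomputable def twistStr : A →+* FrobAlg.BaseChange p A B :=
  (algebraMap (FrobAlg.Twist p A) (FrobAlg.BaseChange p A B)).comp
    (FrobAlg.toTwist p A : A →+* FrobAlg.Twist p A)

theorem relFrob_comp_twistStr :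
    (FrobAlg.relFrob p A B).comp (twistStr p A B) = algebraMap A B := by
  ext a
  change FrobAlg.relFrob p A B ((1 : B) ⊗ₜ[A] (FrobAlg.toTwist p A a)) = _
  rw [relFrob_tmul, one_pow, one_mul, RingEquiv.symm_apply_apply]

theorem finiteType_twistStr [Algebra.FiniteType A B] : (twistStr p A B).FiniteType := by
  refine RingHom.FiniteType.comp ?_ (RingHom.FiniteType.of_surjective _
    (FrobAlg.toTwist p A).surjective)
  rw [RingHom.finiteType_algebraMap]
  have : Algebra.FiniteType (FrobAlg.Twist p A) (FrobAlg.Twist p A ⊗[A] B) := inferInstance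
  exact Algebra.FiniteType.equiv this (Algebra.TensorProduct.commRight A (FrobAlg.Twist p A) B)

theorem finite_relFrob [Algebra.FiniteType A B] : (FrobAlg.relFrob p A B).Finite := by
  refine RingHom.IsIntegral.to_finite (Groth.Agent.S3191.result p A B).1 ?_
  refine RingHom.FiniteType.of_comp_finiteType (f := twistStr p A B) ?_
  rw [relFrob_comp_twistStr]
  exact RingHom.finiteType_algebraMap.mpr inferInstance

theorem finitePresentation_relFrob [Algebra.FinitePresentation A B] :
    (FrobAlg.relFrob p A B).FinitePresentation := by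
  refine RingHom.FinitePresentation.of_comp_finiteType (twistStr p A B) ?_
    (finiteType_twistStr p A B)
  rw [relFrob_comp_twistStr]
  exact RingHom.finitePresentation_algebraMap.mpr inferInstance

end Fin

section Main

variable (p : ℕ) [Fact p.Prime] (A : Type u) [CommRing A] [CharP A p]

/-- `Spec` of the relative Frobenius is inverse to `Spec` of `theta` -/
theorem comap_relFrob_comap_theta (B : Type v) [CommRing B] [Algebra A B] [CharP B p]
    (q' : PrimeSpectrum (FrobAlg.BaseChange p A B)) :
    (q'.comap (theta p A B)).comap (FrobAlg.relFrob p A B) = q' := by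
  have hp : p.Prime := Fact.out
  apply PrimeSpectrum.ext
  ext x
  change theta p A B (FrobAlg.relFrob p A B x) ∈ q'.asIdeal ↔ x ∈ q'.asIdeal
  rw [theta_relFrob]
  exact ⟨fun h => q'.2.mem_of_pow_mem p h, fun h => Ideal.pow_mem_of_mem _ h p hp.pos⟩

/-- the rank of the differentials of an étale algebra over a polynomial ring -/
theorem rankAtStalk_kaehler_of_etale_mvPolynomial (n : ℕ) (C : Type u) [CommRing C] [Algebra A C]
    (g : MvPolynomial (Fin n) A →ₐ[A] C) (hg : g.toRingHom.Etale) (Q : PrimeSpectrum C) :
    Module.rankAtStalk (R := C) (KaehlerDifferential A C) Q = n := by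
  let P := MvPolynomial (Fin n) A
  let algPC : Algebra P C := g.toRingHom.toAlgebra
  have towerAPC : IsScalarTower A P C :=
    IsScalarTower.of_algebraMap_eq (fun a => (g.commutes a).symm)
  have etPC : Algebra.Etale P C := hg
  have : Nontrivial P := (Q.comap (algebraMap P C)).nontrivial
  have hfree : Module.Free P (KaehlerDifferential A P) :=
    Module.Free.of_basis (KaehlerDifferential.mvPolynomialBasis A (Fin n))
  rw [Module.rankAtStalk_isBaseChange (KaehlerDifferential.isBaseChange_of_formallyEtale A P C) Q,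
    Module.rankAtStalk_eq_finrank_of_free, Pi.natCast_apply,
    Module.finrank_eq_card_basis (KaehlerDifferential.mvPolynomialBasis A (Fin n))]
  simp

/-- the relative Frobenius of a smooth algebra of relative dimension `r` is finite locally free
of rank `p ^ r` -/
theorem main (B : Type u) [CommRing B] [Algebra A B] [CharP B p]
    [Algebra.Smooth A B] (r : ℕ)
    (hr : ∀ q : PrimeSpectrum B, Module.rankAtStalk (R := B) (KaehlerDifferential A B) q = r) :
    letI := (FrobAlg.relFrob p A B).toAlgebra
    Module.Finite (FrobAlg.BaseChange p A B) B ∧ Module.Projective (FrobAlg.BaseChange p A B) B ∧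
      ∀ q : PrimeSpectrum (FrobAlg.BaseChange p A B),
        Module.rankAtStalk (R := FrobAlg.BaseChange p A B) B q = p ^ r := by
  letI algB'B : Algebra (FrobAlg.BaseChange p A B) B := (FrobAlg.relFrob p A B).toAlgebra
  have hfin : Module.Finite (FrobAlg.BaseChange p A B) B := finite_relFrob p A B
  have hflat : Module.Flat (FrobAlg.BaseChange p A B) B := flat_relFrob_of_smooth p A B
  have hfp : Algebra.FinitePresentation (FrobAlg.BaseChange p A B) B :=
    finitePresentation_relFrob p A B
  have hmfp : Module.FinitePresentation (FrobAlg.BaseChange p A B) B :=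
    Module.FinitePresentation.of_finite_of_finitePresentation _ _
  have hproj : Module.Projective (FrobAlg.BaseChange p A B) B :=
    Module.Flat.projective_of_finitePresentation
  refine ⟨hfin, hproj, fun q' => ?_⟩
  let q : PrimeSpectrum B := q'.comap (theta p A B)
  have hq : q.comap (FrobAlg.relFrob p A B) = q' := comap_relFrob_comap_theta p A B q'
  obtain ⟨g₀, hg₀, hstd⟩ := Algebra.IsSmoothAt.exists_notMem_isStandardSmooth A q.asIdeal
  let C := Localization.Away g₀
  obtain ⟨Q, hQ⟩ : q ∈ Set.range (PrimeSpectrum.comap (algebraMap B C)) := by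
    rw [PrimeSpectrum.localization_away_comap_range C g₀]
    exact hg₀
  have : Nontrivial C := Q.nontrivial
  have : CharP C p := charP_of_algebra_of_nontrivial p B C
  obtain ⟨n, g, hg1, hg2⟩ :=
    (RingHom.isStandardSmooth_algebraMap.mpr hstd).exists_etale_mvPolynomial
  let g' : MvPolynomial (Fin n) A →ₐ[A] C :=
    { g with commutes' := fun a => RingHom.congr_fun hg1 a }
  have hg' : g'.toRingHom.Etale := hg2
  let h : B →ₐ[A] C := IsScalarTower.toAlgHom A B C
  have hh : h.toRingHom.Etale := by
    change (algebraMap B C).Etale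
    rw [RingHom.etale_algebraMap]
    exact Algebra.Etale.of_isLocalizationAway g₀
  let x : PrimeSpectrum (FrobAlg.BaseChange p A C) := Q.comap (FrobAlg.relFrob p A C)
  have e1 := rankAtStalk_relFrob_of_etale p A B C h hh hflat hfin x
  have e2 := rankAtStalk_relFrob_of_etale p A (MvPolynomial (Fin n) A) C g' hg'
    (flat_relFrob_mvPolynomial p A n) (finite_relFrob_mvPolynomial p A n) x
  rw [rankAtStalk_relFrob_mvPolynomial] at e2
  have hx : x.comap (Algebra.TensorProduct.map h (AlgHom.id A (FrobAlg.Twist p A))).toRingHom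
      = q' := by
    rw [← hq, ← hQ]
    apply PrimeSpectrum.ext
    ext z
    change FrobAlg.relFrob p A C (Algebra.TensorProduct.map h (AlgHom.id A (FrobAlg.Twist p A)) z)
      ∈ Q.asIdeal ↔ algebraMap B C (FrobAlg.relFrob p A B z) ∈ Q.asIdeal
    rw [relFrob_natural]
    rfl
  rw [hx] at e1
  rw [← e1, e2]
  congr 1
  -- `n = r`
  have k1 := rankAtStalk_kaehler_of_etale_mvPolynomial A n C g' hg' Q
  have : Algebra.Etale B C := Algebra.Etale.of_isLocalizationAway g₀
  have k2 := Module.rankAtStalk_isBaseChange
    (KaehlerDifferential.isBaseChange_of_formallyEtale A B C) Q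
  rw [hQ, hr q] at k2
  omega

end Main

end Groth.Agent.Lib.T2H7.RelFrobRk
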