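import Mathlib
import Groth.Prelude
import Groth.Agent.Lib.T2H7RelFrobRk

/-!
# `p`-bases and towers of `p`-th root extractions (helper7)

* `HasPBasis p n A B`: `B` is free over `A` on the monomials of exponents `< p` in `n` elements
  whose `p`-th powers lie in `A`.
* `isRootTower_of_hasPBasis`: such a `B` is a tower of `n` elementary `p`-th root extractions.
* `hasPBasis_relFrob_of_etale_mvPolynomial`: the relative Frobenius of an algebra étale over a
  polynomial ring has a `p`-basis.
-/

set_option autoImplicit false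
set_option linter.style.haveILetI false
universe u v w
open TensorProduct Polynomial

namespace Groth.Agent.Lib.T2H7.PBasis

/-- `B` has a `p`-basis of `n` elements over `A` whose `p`-th powers lie in `A` -/
def HasPBasis (p n : ℕ) (A B : Type u) [CommRing A] [CommRing B] [Algebra A B] : Prop :=
  ∃ b : Fin n → B, (∀ i, ∃ a : A, algebraMap A B a = b i ^ p) ∧
    ∃ β : Module.Basis (Fin n → Fin p) A B, ∀ e, β e = ∏ i, b i ^ (e i : ℕ)

section Tower

/-- descending a basis of a tower -/
theorem exists_basis_of_smul_basis {A A₁ B : Type*} [CommRing A] [CommRing A₁] [CommRing B]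
    [Algebra A A₁] [Algebra A₁ B] [Algebra A B] [IsScalarTower A A₁ B] {J E : Type*}
    (c : Module.Basis J A A₁) (m : E → B) (γ : Module.Basis (J × E) A B)
    (hγ : ∀ j e, γ (j, e) = c j • m e) : ∃ β : Module.Basis E A₁ B, ∀ e, β e = m e := by
  classical
  let L : (E →₀ A₁) →ₗ[A₁] B := Finsupp.linearCombination A₁ m
  let δ : Module.Basis (J × E) A (E →₀ A₁) :=
    c.smulTower (Finsupp.basisSingleOne (R := A₁) (ι := E))
  let Φ : (E →₀ A₁) ≃ₗ[A] B := δ.equiv γ (Equiv.refl _)
  have hL : L.restrictScalars A = Φ.toLinearMap := by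
    apply δ.ext
    rintro ⟨j, e⟩
    rw [LinearMap.restrictScalars_apply, LinearEquiv.coe_coe, Module.Basis.equiv_apply,
      Equiv.refl_apply, hγ, Module.Basis.smulTower_apply, map_smul]
    simp [L]
  have hbij : Function.Bijective L := by
    have : (L : _ → _) = Φ := by
      funext v
      exact LinearMap.congr_fun hL v
    rw [this]
    exact Φ.bijective
  refine ⟨Module.Basis.ofRepr (LinearEquiv.ofBijective L hbij).symm, fun e => ?_⟩
  rw [Module.Basis.coe_ofRepr]
  simp [L]

end Tower

section RootTower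

variable (p : ℕ)

/-- the power basis of a root ring -/
theorem exists_basis_rootRing (hp : p ≠ 0) (A : Type u) [CommRing A] [Nontrivial A] (a : A) :
    ∃ c : Module.Basis (Fin p) A (Quiet.RootRing p A a),
      ∀ j, c j = AdjoinRoot.root (X ^ p - C a : A[X]) ^ (j : ℕ) := by
  have hmonic : (X ^ p - C a : A[X]).Monic := monic_X_pow_sub_C a hp
  have hdeg : (X ^ p - C a : A[X]).natDegree = p := natDegree_X_pow_sub_C
  let pb := AdjoinRoot.powerBasis' hmonic
  have hdim : pb.dim = p := hdeg
  refine ⟨pb.basis.reindex (finCongr hdim), fun j => ?_⟩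
  rw [Module.Basis.reindex_apply, PowerBasis.basis_eq_pow]
  rfl

/-- a `p`-basis gives a tower of `p`-th root extractions -/
theorem isRootTower_of_hasPBasis (hp : p ≠ 0) : ∀ (n : ℕ) (A B : Type u) [CommRing A] [CommRing B]
    [Algebra A B] [Nontrivial B], HasPBasis p n A B → Quiet.IsRootTower p n A B := by
  intro n
  induction n with
  | zero =>
    intro A B _ _ _ _ h
    obtain ⟨b, -, β, hβ⟩ := h
    have h1 : ∀ e, β e = 1 := fun e => by rw [hβ]; simp
    let e₀ : Fin 0 → Fin p := fun i => i.elim0
    have hbij : Function.Bijective (algebraMap A B) := by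
      constructor
      · rw [injective_iff_map_eq_zero]
        intro a ha
        have h2 : β.repr (a • β e₀) = Finsupp.single e₀ a := by
          rw [map_smul, Module.Basis.repr_self, Finsupp.smul_single, smul_eq_mul, mul_one]
        rw [h1, Algebra.smul_def, mul_one, ha, map_zero] at h2
        exact (Finsupp.single_eq_zero.mp h2.symm)
      · intro x
        refine ⟨β.repr x e₀, ?_⟩
        conv_rhs => rw [← β.sum_repr x]
        rw [Fintype.sum_subsingleton _ e₀, h1, Algebra.smul_def, mul_one]
    exact ⟨(AlgEquiv.ofBijective (Algebra.ofId A B) hbij).symm⟩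
  | succ n ih =>
    intro A B _ _ _ _ h
    obtain ⟨b, ha, β, hβ⟩ := h
    have : Nontrivial A := (algebraMap A B).domain_nontrivial
    obtain ⟨a₀, ha₀⟩ := ha 0
    let φ : Quiet.RootRing p A a₀ →+* B := AdjoinRoot.lift (algebraMap A B) (b 0) (by
      rw [eval₂_sub, eval₂_pow, eval₂_X, eval₂_C, ha₀, sub_self])
    letI alg₁ : Algebra (Quiet.RootRing p A a₀) B := φ.toAlgebra
    have tower : IsScalarTower A (Quiet.RootRing p A a₀) B :=
      IsScalarTower.of_algebraMap_eq (fun x => (AdjoinRoot.lift_of _).symm)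
    refine ⟨a₀, alg₁, tower, ih _ B ?_⟩
    obtain ⟨c, hc⟩ := exists_basis_rootRing p hp A a₀
    let m : (Fin n → Fin p) → B := fun e => ∏ i, b i.succ ^ (e i : ℕ)
    let γ : Module.Basis (Fin p × (Fin n → Fin p)) A B :=
      β.reindex (Fin.consEquiv (fun _ => Fin p)).symm
    obtain ⟨β', hβ'⟩ := exists_basis_of_smul_basis c m γ (fun j e => by
      rw [Module.Basis.reindex_apply, Equiv.symm_symm, hβ, Fin.prod_univ_succ, hc,
        Algebra.smul_def]
      change _ = φ (AdjoinRoot.root _ ^ (j : ℕ)) * m e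
      rw [map_pow, AdjoinRoot.lift_root]
      rfl)
    refine ⟨fun i => b i.succ, fun i => ?_, β', hβ'⟩
    obtain ⟨a, ha'⟩ := ha i.succ
    refine ⟨AdjoinRoot.of _ a, ?_⟩
    rw [← ha']
    exact AdjoinRoot.lift_of _

end RootTower

section Transport

variable {p n : ℕ}

/-- a `p`-basis is preserved by base change -/
theorem HasPBasis.of_bijective_tensor {A B A' S' : Type u} [CommRing A] [CommRing B]
    [CommRing A'] [CommRing S'] [Algebra A B] [Algebra A A'] [Algebra A' S']
    (h : HasPBasis p n A B) (Ψ : A' ⊗[A] B →+* S') (hbij : Function.Bijective Ψ)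
    (hΨ : ∀ a', Ψ (a' ⊗ₜ[A] (1 : B)) = algebraMap A' S' a') : HasPBasis p n A' S' := by
  obtain ⟨b, ha, β, hβ⟩ := h
  let ι : B →+* A' ⊗[A] B := (Algebra.TensorProduct.includeRight : B →ₐ[A] A' ⊗[A] B).toRingHom
  have hι : ∀ x, ι x = (1 : A') ⊗ₜ[A] x := fun x => rfl
  refine ⟨fun i => Ψ (ι (b i)), fun i => ?_, ?_⟩
  · obtain ⟨a, ha'⟩ := ha i
    refine ⟨algebraMap A A' a, ?_⟩
    rw [← map_pow, ← map_pow, ← ha', ← hΨ, hι]
    congr 1
    rw [Algebra.algebraMap_eq_smul_one, Algebra.algebraMap_eq_smul_one, TensorProduct.smul_tmul]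
  · let e : A' ⊗[A] B ≃ₗ[A'] S' :=
      { RingEquiv.ofBijective Ψ hbij with
        map_smul' := fun r' z => by
          change Ψ (r' • z) = r' • Ψ z
          rw [Algebra.smul_def, Algebra.smul_def, map_mul, Algebra.TensorProduct.algebraMap_apply,
            Algebra.algebraMap_self, RingHom.id_apply, hΨ] }
    refine ⟨(Algebra.TensorProduct.basis A' β).map e, fun r => ?_⟩
    rw [Module.Basis.map_apply, Algebra.TensorProduct.basis_apply, hβ]
    change Ψ (ι (∏ i, b i ^ (r i : ℕ))) = _
    rw [map_prod, map_prod]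
    simp only [map_pow]

/-- a `p`-basis is preserved by an isomorphism of the base -/
theorem HasPBasis.of_ringEquiv {A A' B : Type u} [CommRing A] [CommRing A'] [CommRing B]
    [Algebra A B] [Algebra A' B] (θ : A ≃+* A')
    (hθ : ∀ a, algebraMap A' B (θ a) = algebraMap A B a) (h : HasPBasis p n A' B) :
    HasPBasis p n A B := by
  obtain ⟨b, ha, β, hβ⟩ := h
  refine ⟨b, fun i => ?_, β.mapCoeffs θ.symm (fun c x => ?_), fun e => ?_⟩
  · obtain ⟨a', ha'⟩ := ha i
    exact ⟨θ.symm a', by rw [← hθ, RingEquiv.apply_symm_apply, ha']⟩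
  · rw [Algebra.smul_def, Algebra.smul_def, ← hθ, RingEquiv.apply_symm_apply]
  · rw [Module.Basis.mapCoeffs_apply, hβ]

end Transport

open Groth.Agent.Lib.T2H7.RelFrobSm Groth.Agent.Lib.T2H7.RelFrobRk

section RelFrob

theorem monomial_remVec (R : Type*) [CommRing R] (n p : ℕ) [NeZero p] (r : Fin n → Fin p) :
    (MvPolynomial.monomial (remVec (Fin n) p r) (1 : R)) =
      ∏ i, (MvPolynomial.X i : MvPolynomial (Fin n) R) ^ (r i : ℕ) := by
  rw [MvPolynomial.monomial_eq, map_one, one_mul, Finsupp.prod_fintype _ _ (fun i => pow_zero _)]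
  rfl

variable (p : ℕ) [Fact p.Prime] (A : Type u) [CommRing A] [CharP A p]

/-- the relative Frobenius of a polynomial ring has a `p`-basis -/
theorem hasPBasis_relFrob_mvPolynomial (n : ℕ) :
    letI := (FrobAlg.relFrob p A (MvPolynomial (Fin n) A)).toAlgebra
    HasPBasis p n (FrobAlg.BaseChange p A (MvPolynomial (Fin n) A)) (MvPolynomial (Fin n) A) := by
  letI := (FrobAlg.relFrob p A (MvPolynomial (Fin n) A)).toAlgebra
  have : NeZero p := ⟨(Fact.out : p.Prime).ne_zero⟩
  obtain ⟨b, hb⟩ := exists_basis_of_algebraMap_eq_expand (σ := Fin n) (R := A) (p := p)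
    (twistPolyEquiv p A (Fin n)) (fun x => relFrob_eq_expand p A (Fin n) x)
  refine ⟨fun i => MvPolynomial.X i, fun i => ⟨theta p A _ (MvPolynomial.X i), ?_⟩, b, fun e => ?_⟩
  · exact relFrob_theta p A _ _
  · rw [hb, monomial_remVec]

/-- the relative Frobenius of an algebra étale over a polynomial ring has a `p`-basis -/
theorem hasPBasis_relFrob_of_etale (B C : Type u) [CommRing B] [Algebra A B] [CharP B p]
    [CommRing C] [Algebra A C] [CharP C p] (g : B →ₐ[A] C) (hg : g.toRingHom.Etale) (n : ℕ)
    (h : letI := (FrobAlg.relFrob p A B).toAlgebra; HasPBasis p n (FrobAlg.BaseChange p A B) B) :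
    letI := (FrobAlg.relFrob p A C).toAlgebra
    HasPBasis p n (FrobAlg.BaseChange p A C) C := by
  letI algB'B : Algebra (FrobAlg.BaseChange p A B) B := (FrobAlg.relFrob p A B).toAlgebra
  letI algC'C : Algebra (FrobAlg.BaseChange p A C) C := (FrobAlg.relFrob p A C).toAlgebra
  have hp : p.Prime := Fact.out
  let algBC : Algebra B C := g.toRingHom.toAlgebra
  have towerABC : IsScalarTower A B C :=
    IsScalarTower.of_algebraMap_eq (fun a => (g.commutes a).symm)
  have etBC : Algebra.Etale B C := hg
  have h1 : (Algebra.TensorProduct.map g (AlgHom.id A (FrobAlg.Twist p A))).toRingHom.Etale :=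
    etale_map_twist p A B C
  obtain ⟨Ψ, hΨbij, hΨ⟩ := exists_bijective_of_etale_frobenius_square p hp
    (FrobAlg.relFrob p A B) (Algebra.TensorProduct.map g (AlgHom.id A (FrobAlg.Twist p A))).toRingHom
    (FrobAlg.relFrob p A C) g.toRingHom
    (RingHom.ext fun x => relFrob_natural p A C g x) h1 hg
    (natCast_baseChange_eq_zero p A C) (theta p A B) (theta p A C)
    (relFrob_theta p A B) (relFrob_theta p A C) (theta_relFrob p A C)
    (fun s => by
      change Algebra.TensorProduct.map g (AlgHom.id A (FrobAlg.Twist p A))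
        (s ⊗ₜ[A] (1 : FrobAlg.Twist p A)) = (g s) ⊗ₜ[A] (1 : FrobAlg.Twist p A)
      rw [Algebra.TensorProduct.map_tmul]
      rfl)
  letI algB'C' : Algebra (FrobAlg.BaseChange p A B) (FrobAlg.BaseChange p A C) :=
    (Algebra.TensorProduct.map g (AlgHom.id A (FrobAlg.Twist p A))).toRingHom.toAlgebra
  exact HasPBasis.of_bijective_tensor h Ψ hΨbij (fun r' => by
    rw [hΨ, map_one, mul_one]
    rfl)

/-- the relative Frobenius of a standard smooth algebra has a `p`-basis -/
theorem exists_hasPBasis_relFrob_of_isStandardSmooth (C : Type u) [CommRing C] [Algebra A C]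
    [CharP C p] [Algebra.IsStandardSmooth A C] :
    letI := (FrobAlg.relFrob p A C).toAlgebra
    ∃ n, HasPBasis p n (FrobAlg.BaseChange p A C) C := by
  have h1 : (algebraMap A C).IsStandardSmooth :=
    RingHom.isStandardSmooth_algebraMap.mpr inferInstance
  obtain ⟨n, g, hg1, hg2⟩ := h1.exists_etale_mvPolynomial
  let g' : MvPolynomial (Fin n) A →ₐ[A] C :=
    { g with commutes' := fun a => RingHom.congr_fun hg1 a }
  exact ⟨n, hasPBasis_relFrob_of_etale p A _ C g' hg2 n (hasPBasis_relFrob_mvPolynomial p A n)⟩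

end RelFrob

section Perfect

variable (p : ℕ) [Fact p.Prime] (k : Type u) [CommRing k] [CharP k p] [PerfectRing k p]

theorem algebraMap_twist_bijective : Function.Bijective (algebraMap k (FrobAlg.Twist p k)) := by
  have h : (algebraMap k (FrobAlg.Twist p k) : k → FrobAlg.Twist p k) =
      (FrobAlg.toTwist p k) ∘ (frobenius k p) := by
    funext a
    rw [FrobAlg.algebraMap_twist]
    rfl
  rw [h]
  exact (FrobAlg.toTwist p k).bijective.comp (bijective_frobenius k p)

/-- over a perfect base `theta` is bijective -/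
theorem theta_bijective (B : Type v) [CommRing B] [Algebra k B] [CharP B p] :
    Function.Bijective (theta p k B) := by
  let e₀ : k ≃ₐ[k] FrobAlg.Twist p k :=
    AlgEquiv.ofBijective (Algebra.ofId k (FrobAlg.Twist p k)) (algebraMap_twist_bijective p k)
  let e : B ≃ₐ[k] B ⊗[k] FrobAlg.Twist p k :=
    (Algebra.TensorProduct.rid k k B).symm.trans
      (Algebra.TensorProduct.congr (AlgEquiv.refl : B ≃ₐ[k] B) e₀)
  have h : (theta p k B : B → FrobAlg.BaseChange p k B) = e := by
    funext b
    change b ⊗ₜ[k] (1 : FrobAlg.Twist p k) = _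
    simp [e, e₀]
  rw [h]
  exact e.bijective

variable (B : Type u) [CommRing B] [Algebra k B] [CharP B p]

/-- over a perfect base, a `p`-basis of the relative Frobenius is a `p`-basis of the Frobenius -/
theorem hasPBasis_frobenius_of_relFrob (φ : B →+* B) (hφ : ∀ s, φ s = s ^ p) (n : ℕ)
    (h : letI := (FrobAlg.relFrob p k B).toAlgebra; HasPBasis p n (FrobAlg.BaseChange p k B) B) :
    letI := φ.toAlgebra
    HasPBasis p n B B := by
  letI algB'B : Algebra (FrobAlg.BaseChange p k B) B := (FrobAlg.relFrob p k B).toAlgebra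
  letI algφ : Algebra B B := φ.toAlgebra
  exact @HasPBasis.of_ringEquiv p n B (FrobAlg.BaseChange p k B) B _ _ _ algφ algB'B
    (RingEquiv.ofBijective (theta p k B) (theta_bijective p k B))
    (fun a => by
      change FrobAlg.relFrob p k B (theta p k B a) = φ a
      rw [relFrob_theta, hφ]) h

/-- the Frobenius of a standard smooth algebra over a perfect ring is a tower of `p`-th root
extractions -/
theorem exists_isRootTower_frobenius_of_isStandardSmooth [Nontrivial B]
    [Algebra.IsStandardSmooth k B] (φ : B →+* B) (hφ : ∀ s, φ s = s ^ p) :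
    letI := φ.toAlgebra
    ∃ n, Quiet.IsRootTower p n B B := by
  letI algφ : Algebra B B := φ.toAlgebra
  obtain ⟨n, hn⟩ := exists_hasPBasis_relFrob_of_isStandardSmooth p k B
  exact ⟨n, @isRootTower_of_hasPBasis p (Fact.out : p.Prime).ne_zero n B B _ _ algφ _
    (hasPBasis_frobenius_of_relFrob p k B φ hφ n hn)⟩

/-- the Frobenius of a smooth algebra over a perfect ring is faithfully flat -/
theorem faithfullyFlat_frobenius_of_smooth [Algebra.Smooth k B] :
    (frobenius B p).FaithfullyFlat := by
  rw [RingHom.FaithfullyFlat.iff_flat_and_comap_surjective]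
  constructor
  · have h : frobenius B p = (FrobAlg.relFrob p k B).comp (theta p k B) := by
      ext b
      change b ^ p = FrobAlg.relFrob p k B (theta p k B b)
      rw [relFrob_theta]
    rw [h]
    exact RingHom.Flat.comp (RingHom.Flat.of_bijective (theta_bijective p k B))
      (flat_relFrob_of_smooth p k B)
  · intro q
    refine ⟨q, ?_⟩
    apply PrimeSpectrum.ext
    ext x
    change x ^ p ∈ q.asIdeal ↔ x ∈ q.asIdeal
    exact ⟨fun h => q.2.mem_of_pow_mem p h,
      fun h => Ideal.pow_mem_of_mem _ h p (Fact.out : p.Prime).pos⟩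

end Perfect

end Groth.Agent.Lib.T2H7.PBasis
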