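import Mathlib
import Groth.Agent.Lib.T2H7NodeAlg4

/-!
Automorphisms of `B[[t]]` over a discrete valuation ring: fixed-point ideals and lengths.
-/

set_option autoImplicit false
set_option linter.style.haveILetI false
universe u

namespace Groth.Agent.Lib.T2H7.PSFix

open Groth.Agent.Lib.T2H7.NodeAlg

section General

/-- Length of a cyclic module is invariant under surjective change of rings. -/
theorem length_quot_comap {R S : Type u} [CommRing R] [CommRing S] (φ : R →+* S)
    (hφ : Function.Surjective φ) (I : Ideal S) :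
    Module.length R (R ⧸ I.comap φ) = Module.length S (S ⧸ I) := by
  letI : Algebra R S := φ.toAlgebra
  have h1 : Module.length R (S ⧸ I) = Module.length S (S ⧸ I) :=
    Module.length_eq_of_surjective (M := S ⧸ I) (S := R) (R := S) hφ
  rw [← h1]
  let g : R →ₗ[R] (S ⧸ I) := (I.mkQ.restrictScalars R).comp (Algebra.linearMap R S)
  have hg : Function.Surjective g := by
    intro y
    obtain ⟨s, rfl⟩ := Submodule.mkQ_surjective I y
    obtain ⟨r, rfl⟩ := hφ s
    exact ⟨r, rfl⟩
  have hker : LinearMap.ker g = I.comap φ := by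
    ext r
    rw [LinearMap.mem_ker, Ideal.mem_comap]
    change I.mkQ (φ r) = 0 ↔ _
    rw [Submodule.mkQ_apply, Submodule.Quotient.mk_eq_zero]
  rw [← hker]
  exact (LinearMap.quotKerEquivOfSurjective g hg).length_eq

end General

section DVR

variable {B : Type u} [CommRing B] [IsDomain B] [IsDiscreteValuationRing B] (π : B)
  (hπ : Irreducible π)

include hπ

theorem ker_map_residue :
    RingHom.ker (PowerSeries.map (IsLocalRing.residue B)) =
      Ideal.span ({PowerSeries.C π} : Set (PowerSeries B)) := by
  have hmax : IsLocalRing.maximalIdeal B = Ideal.span {π} := hπ.maximalIdeal_eq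
  apply le_antisymm
  · intro g hg
    rw [RingHom.mem_ker] at hg
    have h1 : ∀ n, ∃ c : B, PowerSeries.coeff n g = π * c := by
      intro n
      have h2 : IsLocalRing.residue B (PowerSeries.coeff n g) = 0 := by
        rw [← PowerSeries.coeff_map, hg, map_zero]
      rw [IsLocalRing.residue_eq_zero_iff, hmax, Ideal.mem_span_singleton] at h2
      exact h2
    choose c hc using h1
    rw [Ideal.mem_span_singleton]
    refine ⟨PowerSeries.mk c, ?_⟩
    ext n
    rw [PowerSeries.coeff_C_mul, PowerSeries.coeff_mk, hc]
  · rw [Ideal.span_le]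
    intro x hx
    rw [Set.mem_singleton_iff] at hx
    rw [hx, SetLike.mem_coe, RingHom.mem_ker, PowerSeries.map_C]
    have : IsLocalRing.residue B π = 0 := by
      rw [IsLocalRing.residue_eq_zero_iff, hmax]; exact Ideal.mem_span_singleton_self π
    rw [this, map_zero]

theorem prime_C : Prime (PowerSeries.C π : PowerSeries B) := by
  have h0 : (PowerSeries.C π : PowerSeries B) ≠ 0 := by
    intro h
    apply hπ.ne_zero
    have := congrArg PowerSeries.constantCoeff h
    simpa using this
  rw [← Ideal.span_singleton_prime h0, ← ker_map_residue π hπ]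
  exact RingHom.ker_isPrime _

/-- `length B[[t]]/(π, f) = length k[[t]]/(f mod π)`. -/
theorem iN_C_eq (f : PowerSeries B) :
    iN (PowerSeries.C π : PowerSeries B) f =
      Module.length (PowerSeries (IsLocalRing.ResidueField B))
        (PowerSeries (IsLocalRing.ResidueField B) ⧸
          Ideal.span ({PowerSeries.map (IsLocalRing.residue B) f} :
            Set (PowerSeries (IsLocalRing.ResidueField B)))) := by
  have hsurj : Function.Surjective (PowerSeries.map (IsLocalRing.residue B)) :=
    PowerSeries.map_surjective _ (IsLocalRing.residue_surjective)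
  rw [← length_quot_comap (PowerSeries.map (IsLocalRing.residue B)) hsurj, iN_def]
  apply length_quot_congr
  ext x
  rw [Ideal.mem_comap, Ideal.mem_span_singleton, Ideal.mem_span_pair]
  constructor
  · rintro ⟨p, q, rfl⟩
    refine ⟨PowerSeries.map (IsLocalRing.residue B) q, ?_⟩
    have : PowerSeries.map (IsLocalRing.residue B) (PowerSeries.C π) = 0 := by
      rw [← RingHom.mem_ker, ker_map_residue π hπ]; exact Ideal.mem_span_singleton_self _
    rw [map_add, map_mul, map_mul, this, mul_zero, zero_add, mul_comm]
  · rintro ⟨y, hy⟩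
    obtain ⟨y', rfl⟩ := hsurj y
    have h1 : x - f * y' ∈ RingHom.ker (PowerSeries.map (IsLocalRing.residue B)) := by
      rw [RingHom.mem_ker, map_sub, map_mul, hy, sub_self]
    rw [ker_map_residue π hπ, Ideal.mem_span_singleton] at h1
    obtain ⟨p, hp⟩ := h1
    refine ⟨p, y', ?_⟩
    linear_combination -hp

end DVR

section Fix

variable {B : Type u} [CommRing B] [IsDomain B] [IsDiscreteValuationRing B]

theorem fix_sub_mem_powerSeries (σ : PowerSeries B ≃+* PowerSeries B)
    (J : Ideal (PowerSeries B))
    (hB : ∀ b : B, σ (algebraMap B (PowerSeries B) b) - algebraMap B (PowerSeries B) b ∈ J)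
    (hX : σ PowerSeries.X - PowerSeries.X ∈ J) (x : PowerSeries B) :
    σ x - x ∈ J := by
  have hS : ∀ s ∈ (Algebra.adjoin B ({PowerSeries.X} : Set (PowerSeries B))).toSubring,
      σ s - s ∈ J := by
    intro s hs
    rw [Subalgebra.mem_toSubring] at hs
    rw [← mem_fixSubring]
    refine Algebra.adjoin_induction (p := fun s _ => s ∈ fixSubring σ J) ?_ ?_ ?_ ?_ hs
    · intro y hy
      rw [Set.mem_singleton_iff] at hy
      rw [hy]; exact hX
    · intro b
      exact hB b
    · intro y z _ _ hy hz
      exact Subring.add_mem _ hy hz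
    · intro y z _ _ hy hz
      exact Subring.mul_mem _ hy hz
  have hM : Ideal.span ({PowerSeries.X} : Set (PowerSeries B)) ≤
      IsLocalRing.maximalIdeal (PowerSeries B) := by
    rw [Ideal.span_le]
    intro y hy
    rw [Set.mem_singleton_iff] at hy
    rw [hy, SetLike.mem_coe, IsLocalRing.mem_maximalIdeal, mem_nonunits_iff]
    exact PowerSeries.X_prime.not_isUnit
  refine fix_sub_mem_of_dense σ J _ hM _ hS ?_ x
  intro y n
  refine dense_adjoin (B := B) ({PowerSeries.X} : Set (PowerSeries B)) ?_ y n
  intro z
  refine ⟨PowerSeries.constantCoeff z, ?_⟩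
  rw [Ideal.mem_span_singleton, PowerSeries.X_dvd_iff, map_sub]
  change _ - PowerSeries.constantCoeff (PowerSeries.C _) = 0
  rw [PowerSeries.constantCoeff_C, sub_self]

theorem fixIdeal_le_powerSeries (σ : PowerSeries B ≃+* PowerSeries B)
    (J : Ideal (PowerSeries B))
    (hB : ∀ b : B, σ (algebraMap B (PowerSeries B) b) - algebraMap B (PowerSeries B) b ∈ J)
    (hX : σ PowerSeries.X - PowerSeries.X ∈ J) :
    ArLef.fixIdeal σ ≤ J := by
  unfold ArLef.fixIdeal
  rw [Ideal.span_le]
  rintro _ ⟨r, rfl⟩
  exact fix_sub_mem_powerSeries σ J hB hX r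

/-- The fixed-point ideal of an automorphism of `B[[t]]` moving `π` to `π + γ π^j`. -/
theorem fixIdeal_powerSeries_eq (π : B) (j : ℕ) (γ : B) (hγ : IsUnit γ)
    (σ : PowerSeries B ≃+* PowerSeries B)
    (hσB : ∀ b : B, σ (algebraMap B (PowerSeries B) b) - algebraMap B (PowerSeries B) b ∈
      Ideal.span ({algebraMap B (PowerSeries B) (π ^ j)} : Set (PowerSeries B)))
    (hσπ : σ (algebraMap B (PowerSeries B) π) = algebraMap B (PowerSeries B) (π + γ * π ^ j)) :
    ArLef.fixIdeal σ = Ideal.span ({(PowerSeries.C π : PowerSeries B) ^ j,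
      σ PowerSeries.X - PowerSeries.X} : Set (PowerSeries B)) := by
  set J := Ideal.span ({(PowerSeries.C π : PowerSeries B) ^ j,
      σ PowerSeries.X - PowerSeries.X} : Set (PowerSeries B)) with hJ
  have hPJ : (PowerSeries.C π : PowerSeries B) ^ j ∈ J := Ideal.subset_span (by simp)
  have hXJ : σ PowerSeries.X - PowerSeries.X ∈ J := Ideal.subset_span (by simp)
  apply le_antisymm
  · apply fixIdeal_le_powerSeries σ J _ hXJ
    intro b
    have h1 := hσB b
    rw [map_pow] at h1
    exact (Ideal.span_singleton_le_iff_mem _).mpr hPJ h1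
  · rw [hJ, Ideal.span_le]
    intro y hy
    rcases hy with rfl | rfl
    · have h1 : σ (algebraMap B (PowerSeries B) π) - algebraMap B (PowerSeries B) π ∈
          ArLef.fixIdeal σ := Ideal.subset_span ⟨_, rfl⟩
      rw [hσπ, map_add, add_sub_cancel_left, map_mul, map_pow] at h1
      obtain ⟨G', hG'⟩ := hγ.map (algebraMap B (PowerSeries B))
      have : (PowerSeries.C π : PowerSeries B) ^ j =
          ((G'⁻¹ : (PowerSeries B)ˣ) : PowerSeries B) *
            (algebraMap B (PowerSeries B) γ * algebraMap B (PowerSeries B) π ^ j) := by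
        rw [← hG', ← mul_assoc, Units.inv_mul, one_mul]; rfl
      rw [SetLike.mem_coe, this]
      exact Ideal.mul_mem_left _ _ h1
    · exact Ideal.subset_span ⟨_, rfl⟩

end Fix

end Groth.Agent.Lib.T2H7.PSFix
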