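import Mathlib
import Groth.Prelude.Def_DTen3
import Groth.Agent.Lib.Helper1KF9
import Groth.Agent.Lib.LeadModPairing
set_option backward.isDefEq.respectTransparency.types false

/-!
# Duals of bounded complexes of finite projective modules (helper7, DTen part A)

In Mathlib's monoidal category of cochain complexes of `A`-modules, a complex `P` that is bounded
and termwise finite projective has a right dual `dualCx P (-1)` (`exists_exactPairing`) and a left
dual `dualCx P 1` (`exists_left_exactPairing`).  The general engine is `PairingData.exactPairing`: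
degreewise exact pairings of modules compatible with the differentials assemble to an exact pairing
of complexes.
-/

set_option autoImplicit false
set_option maxHeartbeats 400000
universe u
open CategoryTheory CategoryTheory.Limits MonoidalCategory HomologicalComplex

namespace Groth.Agent.Lib.T2H7.PerfDual

open Groth.Agent.Lib.Helper1.KF

variable {A : Type u} [CommRing A]

/-- the associator on a summand -/
@[reassoc]
lemma ι_ι_associator_hom (K₁ K₂ K₃ : DRing.Cx A) (i₁ i₂ i₃ i₁₂ i₂₃ n : ℤ) (h₁₂ : i₁ + i₂ = i₁₂)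
    (h₂₃ : i₂ + i₃ = i₂₃) (h : i₁₂ + i₃ = n) :
    (ιTensorObj K₁ K₂ i₁ i₂ i₁₂ h₁₂ ▷ K₃.X i₃) ≫ ιTensorObj (K₁ ⊗ K₂) K₃ i₁₂ i₃ n h ≫
        (α_ K₁ K₂ K₃).hom.f n =
      (α_ (K₁.X i₁) (K₂.X i₂) (K₃.X i₃)).hom ≫ (K₁.X i₁ ◁ ιTensorObj K₂ K₃ i₂ i₃ i₂₃ h₂₃) ≫
        ιTensorObj K₁ (K₂ ⊗ K₃) i₁ i₂₃ n (by omega) := by
  have h1 := mapBifunctor₁₂.ι_eq (curriedTensor (ModuleCat.{u} A)) (curriedTensor (ModuleCat.{u} A))
    K₁ K₂ K₃ (ComplexShape.up ℤ) (ComplexShape.up ℤ) i₁ i₂ i₃ i₁₂ n h₁₂ h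
  have h2 := mapBifunctor₂₃.ι_eq (curriedTensor (ModuleCat.{u} A)) (curriedTensor (ModuleCat.{u} A))
    K₁ K₂ K₃ (ComplexShape.up ℤ) (ComplexShape.up ℤ) (ComplexShape.up ℤ) i₁ i₂ i₃ i₂₃ n h₂₃
    (show i₁ + i₂₃ = n by omega)
  have h3 := ι_mapBifunctorAssociatorX_hom (curriedAssociatorNatIso (ModuleCat.{u} A)) K₁ K₂ K₃
    (ComplexShape.up ℤ) (ComplexShape.up ℤ) (ComplexShape.up ℤ) i₁ i₂ i₃ n
    (show i₁ + i₂ + i₃ = n by omega)
  rw [h1, h2] at h3
  rw [← Category.assoc]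
  exact h3

/-- the inverse associator on a summand -/
@[reassoc]
lemma ι_ι_associator_inv (K₁ K₂ K₃ : DRing.Cx A) (i₁ i₂ i₃ i₁₂ i₂₃ n : ℤ) (h₁₂ : i₁ + i₂ = i₁₂)
    (h₂₃ : i₂ + i₃ = i₂₃) (h : i₁ + i₂₃ = n) :
    (K₁.X i₁ ◁ ιTensorObj K₂ K₃ i₂ i₃ i₂₃ h₂₃) ≫ ιTensorObj K₁ (K₂ ⊗ K₃) i₁ i₂₃ n h ≫
        (α_ K₁ K₂ K₃).inv.f n =
      (α_ (K₁.X i₁) (K₂.X i₂) (K₃.X i₃)).inv ≫ (ιTensorObj K₁ K₂ i₁ i₂ i₁₂ h₁₂ ▷ K₃.X i₃) ≫
        ιTensorObj (K₁ ⊗ K₂) K₃ i₁₂ i₃ n (by omega) := by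
  have h1 := ι_ι_associator_hom K₁ K₂ K₃ i₁ i₂ i₃ i₁₂ i₂₃ n h₁₂ h₂₃ (by omega)
  have h2 : (α_ K₁ K₂ K₃).hom.f n ≫ (α_ K₁ K₂ K₃).inv.f n = 𝟙 _ := by
    rw [← HomologicalComplex.comp_f, Iso.hom_inv_id, HomologicalComplex.id_f]
  rw [← cancel_epi (α_ (K₁.X i₁) (K₂.X i₂) (K₃.X i₃)).hom, Iso.hom_inv_id_assoc]
  have h3 := h1 =≫ (α_ K₁ K₂ K₃).inv.f n
  simp only [Category.assoc] at h3
  rw [h2] at h3
  erw [Category.comp_id] at h3
  exact h3.symm

/-- the unit isomorphism in degree 0 -/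
noncomputable abbrev e0 (A : Type u) [CommRing A] :
    (𝟙_ (DRing.Cx A)).X 0 ≅ 𝟙_ (ModuleCat.{u} A) :=
  singleObjXSelf (ComplexShape.up ℤ) 0 (𝟙_ (ModuleCat.{u} A))

lemma leftUnitor_inv_f (K : DRing.Cx A) (n : ℤ) :
    (λ_ K).inv.f n = (λ_ (K.X n)).inv ≫ ((e0 A).inv ▷ K.X n) ≫
      ιTensorObj (𝟙_ (DRing.Cx A)) K 0 n n (zero_add n) :=
  HomologicalComplex.leftUnitor'_inv K n

lemma rightUnitor_inv_f (K : DRing.Cx A) (n : ℤ) :
    (ρ_ K).inv.f n = (ρ_ (K.X n)).inv ≫ (K.X n ◁ (e0 A).inv) ≫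
      ιTensorObj K (𝟙_ (DRing.Cx A)) n 0 n (add_zero n) :=
  HomologicalComplex.rightUnitor'_inv K n

lemma isZero_unit_X (n : ℤ) (hn : n ≠ 0) : IsZero ((𝟙_ (DRing.Cx A)).X n) :=
  isZero_single_obj_X (ComplexShape.up ℤ) 0 (𝟙_ (ModuleCat.{u} A)) n hn

/-- degreewise duality data between two complexes, compatible with the differentials -/
structure PairingData (P P' : DRing.Cx A) where
  coev : ∀ p q : ℤ, p + q = 0 → (𝟙_ (ModuleCat.{u} A) ⟶ P.X p ⊗ P'.X q)
  ev : ∀ q p : ℤ, q + p = 0 → (P'.X q ⊗ P.X p ⟶ 𝟙_ (ModuleCat.{u} A))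
  zig1 : ∀ (p q : ℤ) (h : p + q = 0),
    coev p q h ▷ P.X p ≫ (α_ (P.X p) (P'.X q) (P.X p)).hom ≫ P.X p ◁ ev q p (by omega) =
      (λ_ (P.X p)).hom ≫ (ρ_ (P.X p)).inv
  zig2 : ∀ (p q : ℤ) (h : p + q = 0),
    P'.X q ◁ coev p q h ≫ (α_ (P'.X q) (P.X p) (P'.X q)).inv ≫ ev q p (by omega) ▷ P'.X q =
      (ρ_ (P'.X q)).hom ≫ (λ_ (P'.X q)).inv
  coev_d : ∀ (p p' q q' : ℤ) (h : p + q = 0) (h' : p' + q' = 0) (_ : p + 1 = p') (_ : q' + 1 = q),
    coev p q h ≫ (P.d p p' ▷ P'.X q) + p'.negOnePow • coev p' q' h' ≫ (P.X p' ◁ P'.d q' q) = 0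
  ev_d : ∀ (p p' q q' : ℤ) (h : q + p = 0) (h' : q' + p' = 0) (_ : p + 1 = p') (_ : q' + 1 = q),
    (P'.d q' q ▷ P.X p) ≫ ev q p h + q'.negOnePow • (P'.X q' ◁ P.d p p') ≫ ev q' p' h' = 0

namespace PairingData

variable {P P' : DRing.Cx A} (D : PairingData P P')

/-- the evaluation in degree `0` -/
noncomputable def ev0 : (P' ⊗ P).X 0 ⟶ 𝟙_ (ModuleCat.{u} A) :=
  mapBifunctorDesc (K₁ := P') (K₂ := P) (F := curriedTensor (ModuleCat.{u} A))
    (c := ComplexShape.up ℤ) (fun q p h => D.ev q p h)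

@[reassoc]
lemma ι_ev0 (q p : ℤ) (h : q + p = 0) : ιTensorObj P' P q p 0 h ≫ D.ev0 = D.ev q p h := by
  unfold ev0
  erw [ι_mapBifunctorDesc]

lemma d_ev0 : (P' ⊗ P).d (-1) 0 ≫ D.ev0 = 0 := by
  apply tensor_hom_ext
  intro q' p hq'p
  rw [← Category.assoc, ι_tensor_d P' P q' p (-1) hq'p (q' + 1) (p + 1) 0 rfl rfl (by omega),
    Preadditive.add_comp, Category.assoc, ι_ev0, Linear.units_smul_comp, Category.assoc, ι_ev0,
    comp_zero]
  exact D.ev_d p (p + 1) (q' + 1) q' (by omega) (by omega) rfl rfl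

/-- the evaluation morphism of complexes -/
noncomputable def evCx : P' ⊗ P ⟶ 𝟙_ (DRing.Cx A) :=
  mkHomToSingle D.ev0 (fun i hi => by
    obtain rfl : i = -1 := by
      have : i + 1 = 0 := hi
      omega
    exact D.d_ev0)

lemma evCx_f_zero : D.evCx.f 0 = D.ev0 ≫ (e0 A).inv := mkHomToSingle_f _ _

lemma coev_eq_zero (p q : ℤ) (h : p + q = 0) (hp : IsZero (P.X p)) : D.coev p q h = 0 :=
  ((tensorRight (P'.X q)).map_isZero hp).eq_of_tgt _ _

variable (s : Finset ℤ)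

/-- the coevaluation in degree `0` -/
noncomputable def coev0 : 𝟙_ (ModuleCat.{u} A) ⟶ (P ⊗ P').X 0 :=
  ∑ p ∈ s, D.coev p (-p) (by omega) ≫ ιTensorObj P P' p (-p) 0 (by omega)

lemma coev_d_ι (p p' q q' q₁ : ℤ) (h : p + q = 0) (h' : p' + q' = 0) (hp : p + 1 = p')
    (hq : q' + 1 = q₁) :
    D.coev p q h ≫ (P.d p p' ▷ P'.X q) ≫ ιTensorObj P P' p' q 1 (by omega) +
      p'.negOnePow • D.coev p' q' h' ≫ (P.X p' ◁ P'.d q' q₁) ≫
        ιTensorObj P P' p' q₁ 1 (by omega) = 0 := by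
  obtain rfl : q₁ = q := by omega
  have := D.coev_d p p' q₁ q' h h' hp hq
  rw [← Category.assoc, ← Category.assoc (D.coev p' q' h'), ← Linear.units_smul_comp,
    ← Preadditive.add_comp, this, zero_comp]

lemma coev0_d (hs : ∀ p, p ∉ s → IsZero (P.X p)) : D.coev0 s ≫ (P ⊗ P').d 0 1 = 0 := by
  unfold coev0
  rw [Preadditive.sum_comp]
  have h1 : ∀ p ∈ s, (D.coev p (-p) (by omega) ≫ ιTensorObj P P' p (-p) 0 (by omega)) ≫
      (P ⊗ P').d 0 1 =
      D.coev p (-p) (by omega) ≫ (P.d p (p + 1) ▷ P'.X (-p)) ≫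
        ιTensorObj P P' (p + 1) (-p) 1 (by omega) +
      p.negOnePow • D.coev p (-p) (by omega) ≫ (P.X p ◁ P'.d (-p) (-p + 1)) ≫
        ιTensorObj P P' p (-p + 1) 1 (by omega) := by
    intro p _
    rw [Category.assoc, ι_tensor_d P P' p (-p) 0 (by omega) (p + 1) (-p + 1) 1 rfl rfl rfl,
      Preadditive.comp_add, Linear.comp_units_smul]
  rw [Finset.sum_congr rfl h1, Finset.sum_add_distrib]
  -- a common index set
  let t : Finset ℤ := s ∪ s.map (addRightEmbedding (-1))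
  have hst : s ⊆ t := Finset.subset_union_left
  have hst' : s ⊆ t.map (addRightEmbedding 1) := by
    intro p hp
    rw [Finset.mem_map]
    refine ⟨p + (-1), Finset.mem_union_right _ (Finset.mem_map_of_mem _ hp), ?_⟩
    simp
  rw [Finset.sum_subset hst (fun p _ hp => by rw [D.coev_eq_zero p (-p) _ (hs p hp), zero_comp]),
    Finset.sum_subset hst' (fun p _ hp => by
      rw [D.coev_eq_zero p (-p) _ (hs p hp), zero_comp, smul_zero])]
  rw [Finset.sum_map, ← Finset.sum_add_distrib]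
  apply Finset.sum_eq_zero
  intro p _
  simp only [addRightEmbedding_apply]
  exact D.coev_d_ι p (p + 1) (-p) (-(p + 1)) (-(p + 1) + 1) (by omega) (by omega) rfl rfl

variable (hs : ∀ p, p ∉ s → IsZero (P.X p))

/-- the coevaluation morphism of complexes -/
noncomputable def coevCx : 𝟙_ (DRing.Cx A) ⟶ P ⊗ P' :=
  mkHomFromSingle (D.coev0 s) (fun k hk => by
    obtain rfl : k = 1 := by
      have : 0 + 1 = k := hk
      omega
    exact D.coev0_d s hs)

lemma coevCx_f_zero : (D.coevCx s hs).f 0 = (e0 A).hom ≫ D.coev0 s := mkHomFromSingle_f _ _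

lemma ι_evCx_f_zero (q p : ℤ) (h : q + p = 0) :
    ιTensorObj P' P q p 0 h ≫ D.evCx.f 0 = D.ev q p h ≫ (e0 A).inv := by
  rw [evCx_f_zero, ι_ev0_assoc]

lemma evCx_f_ne_zero (i : ℤ) (hi : i ≠ 0) : D.evCx.f i = 0 :=
  (isZero_unit_X i hi).eq_of_tgt _ _

lemma zig1_term (n p i : ℤ) (hi : -p + n = i) :
    (D.coev p (-p) (by omega) ≫ ιTensorObj P P' p (-p) 0 (by omega)) ▷ P.X n ≫
      ιTensorObj (P ⊗ P') P 0 n n (zero_add n) ≫ (α_ P P' P).hom.f n ≫ (P ◁ D.evCx).f n =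
    (D.coev p (-p) (by omega) ▷ P.X n) ≫ (α_ (P.X p) (P'.X (-p)) (P.X n)).hom ≫
      (P.X p ◁ (ιTensorObj P' P (-p) n i hi ≫ D.evCx.f i)) ≫
        ιTensorObj P (𝟙_ (DRing.Cx A)) p i n (by omega) := by
  rw [comp_whiskerRight, Category.assoc,
    ι_ι_associator_hom_assoc P P' P p (-p) n 0 i n (by omega) hi (zero_add n), ι_whiskerLeft,
    MonoidalCategory.whiskerLeft_comp, Category.assoc]

lemma zig1_term_ne (n p : ℤ) (hp : p ≠ n) :
    (D.coev p (-p) (by omega) ≫ ιTensorObj P P' p (-p) 0 (by omega)) ▷ P.X n ≫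
      ιTensorObj (P ⊗ P') P 0 n n (zero_add n) ≫ (α_ P P' P).hom.f n ≫ (P ◁ D.evCx).f n = 0 := by
  rw [D.zig1_term n p (-p + n) rfl, D.evCx_f_ne_zero (-p + n) (by omega), comp_zero,
    MonoidalPreadditive.whiskerLeft_zero, zero_comp, comp_zero, comp_zero]

lemma zig1_term_eq (n : ℤ) :
    (D.coev n (-n) (by omega) ≫ ιTensorObj P P' n (-n) 0 (by omega)) ▷ P.X n ≫
      ιTensorObj (P ⊗ P') P 0 n n (zero_add n) ≫ (α_ P P' P).hom.f n ≫ (P ◁ D.evCx).f n =
    (λ_ (P.X n)).hom ≫ (ρ_ P).inv.f n := by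
  rw [D.zig1_term n n 0 (by omega), D.ι_evCx_f_zero, MonoidalCategory.whiskerLeft_comp,
    Category.assoc, rightUnitor_inv_f, ← Category.assoc (λ_ (P.X n)).hom, ← D.zig1 n (-n) (by omega)]
  simp only [Category.assoc]

lemma zig1_f (n : ℤ) :
    (λ_ P).inv.f n ≫ (D.coevCx s hs ▷ P).f n ≫ (α_ P P' P).hom.f n ≫ (P ◁ D.evCx).f n =
      (ρ_ P).inv.f n := by
  rw [leftUnitor_inv_f]
  simp only [Category.assoc]
  rw [ι_whiskerRight_assoc, coevCx_f_zero, ← comp_whiskerRight_assoc, Iso.inv_hom_id_assoc]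
  unfold coev0
  rw [sum_whiskerRight, Preadditive.sum_comp, Preadditive.comp_sum]
  by_cases hn : n ∈ s
  · rw [Finset.sum_eq_single_of_mem n hn (fun p _ hp => by rw [D.zig1_term_ne n p hp, comp_zero]),
      D.zig1_term_eq, Iso.inv_hom_id_assoc]
  · have hz : IsZero (P.X n) := hs n hn
    rw [Finset.sum_eq_zero]
    · exact (hz.eq_of_src _ _)
    · intro p hp
      have hpn : p ≠ n := fun h => hn (h ▸ hp)
      rw [D.zig1_term_ne n p hpn, comp_zero]

lemma coev_ι_congr (p q q' : ℤ) (h : p + q = 0) (hq : q = q') :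
    D.coev p q h ≫ ιTensorObj P P' p q 0 h =
      D.coev p q' (by omega) ≫ ιTensorObj P P' p q' 0 (by omega) := by
  subst hq
  rfl

lemma zig2_term (n p q i : ℤ) (hpq : p + q = 0) (hi : n + p = i) :
    (P'.X n ◁ (D.coev p q hpq ≫ ιTensorObj P P' p q 0 hpq)) ≫
      ιTensorObj P' (P ⊗ P') n 0 n (add_zero n) ≫ (α_ P' P P').inv.f n ≫ (D.evCx ▷ P').f n =
    (P'.X n ◁ D.coev p q hpq) ≫ (α_ (P'.X n) (P.X p) (P'.X q)).inv ≫
      ((ιTensorObj P' P n p i hi ≫ D.evCx.f i) ▷ P'.X q) ≫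
        ιTensorObj (𝟙_ (DRing.Cx A)) P' i q n (by omega) := by
  rw [MonoidalCategory.whiskerLeft_comp, Category.assoc,
    ι_ι_associator_inv_assoc P' P P' n p q i 0 n hi hpq (add_zero n), ι_whiskerRight,
    comp_whiskerRight, Category.assoc]

lemma zig2_term_ne (n p : ℤ) (hp : p ≠ -n) :
    (P'.X n ◁ (D.coev p (-p) (by omega) ≫ ιTensorObj P P' p (-p) 0 (by omega))) ≫
      ιTensorObj P' (P ⊗ P') n 0 n (add_zero n) ≫ (α_ P' P P').inv.f n ≫ (D.evCx ▷ P').f n =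
        0 := by
  rw [D.zig2_term n p (-p) (n + p) (by omega) rfl, D.evCx_f_ne_zero (n + p) (by omega), comp_zero,
    MonoidalPreadditive.zero_whiskerRight, zero_comp, comp_zero, comp_zero]

lemma zig2_term_eq (n : ℤ) :
    (P'.X n ◁ (D.coev (-n) (- -n) (by omega) ≫ ιTensorObj P P' (-n) (- -n) 0 (by omega))) ≫
      ιTensorObj P' (P ⊗ P') n 0 n (add_zero n) ≫ (α_ P' P P').inv.f n ≫ (D.evCx ▷ P').f n =
    (ρ_ (P'.X n)).hom ≫ (λ_ P').inv.f n := by
  rw [D.coev_ι_congr (-n) (- -n) n (by omega) (neg_neg n),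
    D.zig2_term n (-n) n 0 (by omega) (by omega), D.ι_evCx_f_zero, comp_whiskerRight,
    Category.assoc, leftUnitor_inv_f, ← Category.assoc (ρ_ (P'.X n)).hom,
    ← D.zig2 (-n) n (by omega)]
  simp only [Category.assoc]

lemma zig2_f (n : ℤ) :
    (ρ_ P').inv.f n ≫ (P' ◁ D.coevCx s hs).f n ≫ (α_ P' P P').inv.f n ≫ (D.evCx ▷ P').f n =
      (λ_ P').inv.f n := by
  rw [rightUnitor_inv_f]
  simp only [Category.assoc]
  rw [ι_whiskerLeft_assoc, coevCx_f_zero, ← MonoidalCategory.whiskerLeft_comp_assoc,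
    Iso.inv_hom_id_assoc]
  unfold coev0
  rw [whiskerLeft_sum, Preadditive.sum_comp, Preadditive.comp_sum]
  by_cases hn : -n ∈ s
  · rw [Finset.sum_eq_single_of_mem (-n) hn
      (fun p _ hp => by rw [D.zig2_term_ne n p hp, comp_zero]),
      D.zig2_term_eq, Iso.inv_hom_id_assoc]
  · have hz : IsZero (P.X (-n)) := hs (-n) hn
    rw [Finset.sum_eq_zero]
    · have h0 : (λ_ (P'.X n)).inv = 0 := by
        rw [← cancel_epi (ρ_ (P'.X n)).hom, comp_zero, ← D.zig2 (-n) n (by omega),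
          D.coev_eq_zero (-n) n (by omega) hz]
        simp
      rw [leftUnitor_inv_f, h0, zero_comp]
    · intro p hp
      have hpn : p ≠ -n := fun h => hn (h ▸ hp)
      rw [D.zig2_term_ne n p hpn, comp_zero]

/-- the exact pairing of complexes attached to degreewise duality data -/
@[instance_reducible] noncomputable def exactPairing : ExactPairing P P' where
  coevaluation' := D.coevCx s hs
  evaluation' := D.evCx
  coevaluation_evaluation' := by
    rw [← cancel_epi (ρ_ P').inv, Iso.inv_hom_id_assoc]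
    ext n : 1
    simp only [HomologicalComplex.comp_f]
    exact D.zig2_f s hs n
  evaluation_coevaluation' := by
    rw [← cancel_epi (λ_ P).inv, Iso.inv_hom_id_assoc]
    ext n : 1
    simp only [HomologicalComplex.comp_f]
    exact D.zig1_f s hs n

end PairingData

open Groth.Agent.Lib.Lead.ModPairing

/-- the dual complex `n ↦ (P^{-n})^*`, with differential `e (-1)^n (d^{-n-1})^*` -/
noncomputable def dualCx (P : DRing.Cx A) (e : ℤˣ) : DRing.Cx A where
  X n := dualObj (P.X (-n))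
  d n m := (e * n.negOnePow) • dualMap (P.d (-m) (-n))
  shape n m h := by
    have h0 : P.d (-m) (-n) = 0 := P.shape _ _ (fun h' => h (by
      have h1 : -m + 1 = -n := h'
      show n + 1 = m
      omega))
    rw [h0, dualMap_zero, smul_zero]
  d_comp_d' n m k _ _ := by
    rw [Linear.units_smul_comp, Linear.comp_units_smul, ← dualMap_comp, P.d_comp_d, dualMap_zero,
      smul_zero, smul_zero]

lemma dualCx_d (P : DRing.Cx A) (e : ℤˣ) (n m : ℤ) :
    (dualCx P e).d n m = (e * n.negOnePow) • dualMap (P.d (-m) (-n)) := rfl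

section right

variable (P : DRing.Cx A) [∀ n, Module.Finite A (P.X n)] [∀ n, Module.Projective A (P.X n)]

/-- coevaluation `𝟙 ⟶ P^p ⊗ (P^{-q})^*` for `p + q = 0` -/
noncomputable def coevPQ (p q : ℤ) (h : p + q = 0) :
    𝟙_ (ModuleCat.{u} A) ⟶ P.X p ⊗ dualObj (P.X (-q)) :=
  coevM (P.X (-q)) ≫ ((P.XIsoOfEq (show -q = p by omega)).hom ▷ dualObj (P.X (-q)))

lemma coevPQ_self (q : ℤ) (h : -q + q = 0) : coevPQ P (-q) q h = coevM (P.X (-q)) := by
  simp [coevPQ]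

omit [∀ n, Module.Finite A (P.X n)] [∀ n, Module.Projective A (P.X n)] in
/-- evaluation `(P^{-q})^* ⊗ P^p ⟶ 𝟙` for `q + p = 0` -/
noncomputable def evPQ (q p : ℤ) (h : q + p = 0) :
    dualObj (P.X (-q)) ⊗ P.X p ⟶ 𝟙_ (ModuleCat.{u} A) :=
  (dualObj (P.X (-q)) ◁ (P.XIsoOfEq (show p = -q by omega)).hom) ≫ evM (P.X (-q))

omit [∀ n, Module.Finite A (P.X n)] [∀ n, Module.Projective A (P.X n)] in
lemma evPQ_self (q : ℤ) (h : q + -q = 0) : evPQ P q (-q) h = evM (P.X (-q)) := by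
  simp [evPQ]

omit [∀ n, Module.Finite A (P.X n)] [∀ n, Module.Projective A (P.X n)] in
lemma whiskerLeft_units_smul (X : ModuleCat.{u} A) {Y Z : ModuleCat.{u} A} (a : ℤˣ) (f : Y ⟶ Z) :
    X ◁ (a • f) = a • (X ◁ f) :=
  (tensorLeft X).map_units_smul a f

omit [∀ n, Module.Finite A (P.X n)] [∀ n, Module.Projective A (P.X n)] in
lemma units_smul_whiskerRight (X : ModuleCat.{u} A) {Y Z : ModuleCat.{u} A} (a : ℤˣ) (f : Y ⟶ Z) :
    (a • f) ▷ X = a • (f ▷ X) :=
  (tensorRight X).map_units_smul a f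

lemma right_coev_d (q q' : ℤ) :
    coevM (P.X (-q)) ≫ (P.d (-q) (-q') ▷ dualObj (P.X (-q))) +
      (-q').negOnePow • coevM (P.X (-q')) ≫
        (P.X (-q') ◁ ((-1 * q'.negOnePow) • dualMap (P.d (-q) (-q')))) = 0 := by
  rw [coevM_dinat (P.d (-q) (-q')), whiskerLeft_units_smul, Linear.comp_units_smul, smul_smul,
    Int.negOnePow_neg, ← mul_assoc, mul_comm _ (-1 : ℤˣ), mul_assoc, Int.units_mul_self,
    mul_one, Units.neg_smul, one_smul, add_neg_cancel]

omit [∀ n, Module.Finite A (P.X n)] [∀ n, Module.Projective A (P.X n)] in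
lemma right_ev_d (q q' : ℤ) :
    (((-1 * q'.negOnePow) • dualMap (P.d (-q) (-q'))) ▷ P.X (-q)) ≫ evM (P.X (-q)) +
      q'.negOnePow • (dualObj (P.X (-q')) ◁ P.d (-q) (-q')) ≫ evM (P.X (-q')) = 0 := by
  rw [← evM_dinat (P.d (-q) (-q')), units_smul_whiskerRight, Linear.units_smul_comp, mul_smul,
    Units.neg_smul, one_smul, neg_add_cancel]

/-- the degreewise duality data between `P` and its right dual -/
noncomputable def rightData : PairingData P (dualCx P (-1)) where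
  coev p q h := coevPQ P p q h
  ev q p h := evPQ P q p h
  zig1 p q h := by
    obtain rfl : p = -q := by omega
    rw [coevPQ_self, evPQ_self]
    exact zigzag1 (P.X (-q))
  zig2 p q h := by
    obtain rfl : p = -q := by omega
    rw [coevPQ_self, evPQ_self]
    exact zigzag2 (P.X (-q))
  coev_d p p' q q' h h' hp hq := by
    obtain rfl : p = -q := by omega
    obtain rfl : p' = -q' := by omega
    rw [coevPQ_self, coevPQ_self, dualCx_d]
    exact right_coev_d P q q'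
  ev_d p p' q q' h h' hp hq := by
    obtain rfl : p = -q := by omega
    obtain rfl : p' = -q' := by omega
    rw [evPQ_self, evPQ_self, dualCx_d]
    exact right_ev_d P q q'

end right

lemma isZero_dualObj {N : ModuleCat.{u} A} (hN : IsZero N) : IsZero (dualObj N) := by
  have : Subsingleton N := ModuleCat.subsingleton_of_isZero hN
  have : Subsingleton (Module.Dual A N) := inferInstance
  exact ModuleCat.isZero_of_subsingleton _

lemma vanishesOutside_dualCx (P : DRing.Cx A) (e : ℤˣ) (a b : ℤ)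
    (hv : DRing.VanishesOutside P a b) : DRing.VanishesOutside (dualCx P e) (-b) (-a) := by
  intro i hi
  exact isZero_dualObj (hv (-i) (by omega))

lemma termwiseFiniteProjective_dualCx (P : DRing.Cx A) (e : ℤˣ)
    (hp : DRing.TermwiseFiniteProjective P) : DRing.TermwiseFiniteProjective (dualCx P e) := by
  intro i
  have := (hp (-i)).1
  have := (hp (-i)).2
  exact ⟨inferInstanceAs (Module.Finite A (Module.Dual A (P.X (-i)))),
    inferInstanceAs (Module.Projective A (Module.Dual A (P.X (-i))))⟩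

/-- a bounded complex of finite projective modules has a right dual in the monoidal category of
complexes -/
theorem exists_exactPairing (P : DRing.Cx A) (a b : ℤ) (hv : DRing.VanishesOutside P a b)
    (hp : DRing.TermwiseFiniteProjective P) :
    ∃ P' : DRing.Cx A, DRing.VanishesOutside P' (-b) (-a) ∧ DRing.TermwiseFiniteProjective P' ∧
      Nonempty (ExactPairing P P') := by
  have : ∀ n, Module.Finite A (P.X n) := fun n => (hp n).1
  have : ∀ n, Module.Projective A (P.X n) := fun n => (hp n).2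
  refine ⟨dualCx P (-1), vanishesOutside_dualCx P _ a b hv, termwiseFiniteProjective_dualCx P _ hp,
    ⟨(rightData P).exactPairing (Finset.Icc a b) (fun p hp' => hv p ?_)⟩⟩
  rw [Finset.mem_Icc] at hp'
  omega

end Groth.Agent.Lib.T2H7.PerfDual
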