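import Mathlib
import Groth.Agent.Lib.T2H7PerfDual
set_option backward.isDefEq.respectTransparency.types false

/-!
# Left duals of bounded complexes of finite projective modules (helper7, DTen part A, continued)

`exists_left_exactPairing`: the complex `dualCx P 1` is a left dual of `P`, via the engine
`PairingData.exactPairing` of `T2H7PerfDual` applied to the braided-swapped module pairings.
-/

set_option autoImplicit false
set_option maxHeartbeats 400000
universe u
open CategoryTheory CategoryTheory.Limits MonoidalCategory HomologicalComplex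

namespace Groth.Agent.Lib.T2H7.PerfDual

open Groth.Agent.Lib.Helper1.KF Groth.Agent.Lib.Lead.ModPairing

variable {A : Type u} [CommRing A]

section modswap

/-- the exact pairing of a finite projective module with its dual -/
@[instance_reducible] noncomputable def modPairing (N : ModuleCat.{u} A) [Module.Finite A N]
    [Module.Projective A N] : ExactPairing N (dualObj N) where
  coevaluation' := coevM N
  evaluation' := evM N
  coevaluation_evaluation' := zigzag2 N
  evaluation_coevaluation' := zigzag1 N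

/-- swapped coevaluation `𝟙 ⟶ N^* ⊗ N` -/
noncomputable def coevM' (N : ModuleCat.{u} A) [Module.Finite A N] [Module.Projective A N] :
    𝟙_ (ModuleCat.{u} A) ⟶ dualObj N ⊗ N :=
  coevM N ≫ (β_ (dualObj N) N).inv

/-- swapped evaluation `N ⊗ N^* ⟶ 𝟙` -/
noncomputable def evM' (N : ModuleCat.{u} A) : N ⊗ dualObj N ⟶ 𝟙_ (ModuleCat.{u} A) :=
  (β_ N (dualObj N)).hom ≫ evM N

lemma zigzag1' (N : ModuleCat.{u} A) [Module.Finite A N] [Module.Projective A N] :
    coevM' N ▷ dualObj N ≫ (α_ (dualObj N) N (dualObj N)).hom ≫ dualObj N ◁ evM' N =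
      (λ_ (dualObj N)).hom ≫ (ρ_ (dualObj N)).inv :=
  (@BraidedCategory.exactPairing_swap _ _ _ _ N (dualObj N) (modPairing N)).evaluation_coevaluation'

lemma zigzag2' (N : ModuleCat.{u} A) [Module.Finite A N] [Module.Projective A N] :
    N ◁ coevM' N ≫ (α_ N (dualObj N) N).inv ≫ evM' N ▷ N = (ρ_ N).hom ≫ (λ_ N).inv :=
  (@BraidedCategory.exactPairing_swap _ _ _ _ N (dualObj N) (modPairing N)).coevaluation_evaluation'

lemma coevM'_dinat {N₁ N₂ : ModuleCat.{u} A} [Module.Finite A N₁] [Module.Projective A N₁]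
    [Module.Finite A N₂] [Module.Projective A N₂] (g : N₁ ⟶ N₂) :
    coevM' N₂ ≫ (dualMap g ▷ N₂) = coevM' N₁ ≫ (dualObj N₁ ◁ g) := by
  unfold coevM'
  rw [Category.assoc, ← BraidedCategory.braiding_inv_naturality_right N₂ (dualMap g),
    ← Category.assoc, ← coevM_dinat g, Category.assoc,
    BraidedCategory.braiding_inv_naturality_left g (dualObj N₁), Category.assoc]

lemma evM'_dinat {N₁ N₂ : ModuleCat.{u} A} (g : N₁ ⟶ N₂) :
    (g ▷ dualObj N₂) ≫ evM' N₂ = (N₁ ◁ dualMap g) ≫ evM' N₁ := by
  unfold evM'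
  rw [← Category.assoc, BraidedCategory.braiding_naturality_left g (dualObj N₂), Category.assoc,
    ← evM_dinat g, ← Category.assoc, ← BraidedCategory.braiding_naturality_right N₁ (dualMap g),
    Category.assoc]

end modswap

section left

variable (P : DRing.Cx A) [∀ n, Module.Finite A (P.X n)] [∀ n, Module.Projective A (P.X n)]

/-- coevaluation `𝟙 ⟶ (P^{-a})^* ⊗ P^b` for `a + b = 0` -/
noncomputable def coevPQ' (a b : ℤ) (h : a + b = 0) :
    𝟙_ (ModuleCat.{u} A) ⟶ dualObj (P.X (-a)) ⊗ P.X b :=
  coevM' (P.X (-a)) ≫ (dualObj (P.X (-a)) ◁ (P.XIsoOfEq (show -a = b by omega)).hom)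

lemma coevPQ'_self (a : ℤ) (h : a + -a = 0) : coevPQ' P a (-a) h = coevM' (P.X (-a)) := by
  simp [coevPQ']

omit [∀ n, Module.Finite A (P.X n)] [∀ n, Module.Projective A (P.X n)] in
/-- evaluation `P^b ⊗ (P^{-a})^* ⟶ 𝟙` for `b + a = 0` -/
noncomputable def evPQ' (b a : ℤ) (h : b + a = 0) :
    P.X b ⊗ dualObj (P.X (-a)) ⟶ 𝟙_ (ModuleCat.{u} A) :=
  ((P.XIsoOfEq (show b = -a by omega)).hom ▷ dualObj (P.X (-a))) ≫ evM' (P.X (-a))

omit [∀ n, Module.Finite A (P.X n)] [∀ n, Module.Projective A (P.X n)] in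
lemma evPQ'_self (a : ℤ) (h : -a + a = 0) : evPQ' P (-a) a h = evM' (P.X (-a)) := by
  simp [evPQ']

lemma left_coev_d (a a' : ℤ) (ha : a + 1 = a') :
    coevM' (P.X (-a)) ≫ (((1 * a.negOnePow) • dualMap (P.d (-a') (-a))) ▷ P.X (-a)) +
      a'.negOnePow • coevM' (P.X (-a')) ≫ (dualObj (P.X (-a')) ◁ P.d (-a') (-a)) = 0 := by
  subst ha
  rw [← coevM'_dinat (P.d (-(a + 1)) (-a)), units_smul_whiskerRight, Linear.comp_units_smul,
    one_mul, Int.negOnePow_succ, Units.neg_smul, add_neg_cancel]

omit [∀ n, Module.Finite A (P.X n)] [∀ n, Module.Projective A (P.X n)] in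
lemma left_ev_d (a a' : ℤ) (ha : a + 1 = a') :
    (P.d (-a') (-a) ▷ dualObj (P.X (-a))) ≫ evM' (P.X (-a)) +
      (-a').negOnePow • (P.X (-a') ◁ ((1 * a.negOnePow) • dualMap (P.d (-a') (-a)))) ≫
        evM' (P.X (-a')) = 0 := by
  subst ha
  rw [evM'_dinat (P.d (-(a + 1)) (-a)), whiskerLeft_units_smul, Linear.units_smul_comp, smul_smul,
    one_mul, Int.negOnePow_neg, Int.negOnePow_succ, neg_mul, Int.units_mul_self, Units.neg_smul,
    one_smul, add_neg_cancel]

/-- the degreewise duality data between the left dual of `P` and `P` -/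
noncomputable def leftData : PairingData (dualCx P 1) P where
  coev a b h := coevPQ' P a b h
  ev b a h := evPQ' P b a h
  zig1 a b h := by
    obtain rfl : b = -a := by omega
    rw [coevPQ'_self, evPQ'_self]
    exact zigzag1' (P.X (-a))
  zig2 a b h := by
    obtain rfl : b = -a := by omega
    rw [coevPQ'_self, evPQ'_self]
    exact zigzag2' (P.X (-a))
  coev_d a a' b b' h h' ha hb := by
    obtain rfl : b = -a := by omega
    obtain rfl : b' = -a' := by omega
    rw [coevPQ'_self, coevPQ'_self, dualCx_d]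
    exact left_coev_d P a a' ha
  ev_d a a' b b' h h' ha hb := by
    obtain rfl : b = -a := by omega
    obtain rfl : b' = -a' := by omega
    rw [evPQ'_self, evPQ'_self, dualCx_d]
    exact left_ev_d P a a' ha

end left

/-- a bounded complex of finite projective modules has a left dual in the monoidal category of
complexes -/
theorem exists_left_exactPairing (P : DRing.Cx A) (a b : ℤ) (hv : DRing.VanishesOutside P a b)
    (hp : DRing.TermwiseFiniteProjective P) :
    ∃ P'' : DRing.Cx A, DRing.VanishesOutside P'' (-b) (-a) ∧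
      DRing.TermwiseFiniteProjective P'' ∧ Nonempty (ExactPairing P'' P) := by
  have : ∀ n, Module.Finite A (P.X n) := fun n => (hp n).1
  have : ∀ n, Module.Projective A (P.X n) := fun n => (hp n).2
  have hv' := vanishesOutside_dualCx P 1 a b hv
  refine ⟨dualCx P 1, hv', termwiseFiniteProjective_dualCx P _ hp,
    ⟨(leftData P).exactPairing (Finset.Icc (-b) (-a)) (fun p hp' => hv' p ?_)⟩⟩
  rw [Finset.mem_Icc] at hp'
  omega

/-- the left-handed complex-level input -/
theorem exists_left_exactPairing' (P : DRing.Cx A) (a b : ℤ) (hv : DRing.VanishesOutside P a b)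
    (hp : DRing.TermwiseFiniteProjective P) :
    ∃ P'' : DRing.Cx A, Nonempty (ExactPairing P'' P) := by
  obtain ⟨P'', -, -, h⟩ := exists_left_exactPairing P a b hv hp
  exact ⟨P'', h⟩

end Groth.Agent.Lib.T2H7.PerfDual
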