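import Mathlib
import Groth.Agent.Lib.T2H7PerfReg
import Groth.Agent.Lib.T2H7PerfBC
import Groth.Agent.S1676

/-!
# Cancelling a smooth morphism from a perfect composition (helper7)
-/

set_option autoImplicit false
universe u
open CategoryTheory CategoryTheory.Limits
attribute [local instance] HasDerivedCategory.standard

namespace Groth.Agent.Lib.T2H7.PerfSm

open Groth.Agent.Lib.T2H7.PCLocal Groth.Agent.Lib.T2H7.PerfLocal Groth.Agent.Lib.T2H7.PerfBC
  Groth.Agent.Lib.T2H7.PerfReg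

open AlgebraicGeometry

/-- the separated case -/
theorem perfMor_of_comp_of_smooth_of_separated {X Y S : Scheme.{u}} (f : X ⟶ Y) (g : Y ⟶ S)
    [Smooth g] [IsSeparated g] (h : MoreMor.IsPerfectMor (f ≫ g)) : MoreMor.IsPerfectMor f := by
  let Γ : X ⟶ pullback (f ≫ g) g := pullback.lift (𝟙 X) f (by simp)
  have hΓ1 : Γ ≫ pullback.fst (f ≫ g) g = 𝟙 X := pullback.lift_fst _ _ _
  have hΓ2 : Γ ≫ pullback.snd (f ≫ g) g = f := pullback.lift_snd _ _ _
  have hsnd : MoreMor.IsPerfectMor (pullback.snd (f ≫ g) g) :=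
    perfMor_baseChange (f ≫ g) (pullback.snd (f ≫ g) g) (pullback.fst (f ≫ g) g) g
      (IsPullback.of_hasPullback (f ≫ g) g) h
  have : IsClosedImmersion (Γ ≫ pullback.fst (f ≫ g) g) := by rw [hΓ1]; infer_instance
  have : IsClosedImmersion Γ := IsClosedImmersion.of_comp Γ (pullback.fst (f ≫ g) g)
  have hΓ : MoreMor.IsPerfectMor Γ :=
    perfMor_of_regularClosedImmersion Γ (Groth.Agent.S1676.result (pullback.fst (f ≫ g) g) Γ hΓ1)
  rw [← hΓ2]
  exact perfMor_comp _ _ hΓ hsnd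

theorem perfMor_of_comp_of_smooth {X Y S : Scheme.{u}} (f : X ⟶ Y) (g : Y ⟶ S)
    [Smooth g] (h : MoreMor.IsPerfectMor (f ≫ g)) : MoreMor.IsPerfectMor f := by
  have hresp : Pperf.{u}.Respects @IsOpenImmersion :=
    HasRingHomProperty.respects_isOpenImmersion (P := Pperf.{u}) qperf_awaySource
  change Pperf f
  rw [IsZariskiLocalAtSource.iff_exists_resLE (P := Pperf.{u})]
  intro x
  obtain ⟨W, hW, hxW, -⟩ := TopologicalSpace.Opens.isBasis_iff_nbhd.mp S.isBasis_affineOpens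
      (TopologicalSpace.Opens.mem_top <| g (f x))
  obtain ⟨V, hV, hxV, eV⟩ := TopologicalSpace.Opens.isBasis_iff_nbhd.mp Y.isBasis_affineOpens
      (show f x ∈ g ⁻¹ᵁ W from hxW)
  obtain ⟨U, hU, hxU, eU⟩ := TopologicalSpace.Opens.isBasis_iff_nbhd.mp X.isBasis_affineOpens
      (show x ∈ f ⁻¹ᵁ V from hxV)
  refine ⟨V, U, hxU, eU, ?_⟩
  have : IsAffine (U : Scheme.{u}) := hU
  have : IsAffine (V : Scheme.{u}) := hV
  have : IsAffine (W : Scheme.{u}) := hW
  have e3 : U ≤ (f ≫ g) ⁻¹ᵁ W := fun y hy => eV (eU hy)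
  have h1 : Pperf ((f ≫ g).resLE W U e3) := IsZariskiLocalAtSource.resLE (P := Pperf.{u}) e3 h
  have h2 : (f ≫ g).resLE W U e3 = f.resLE V U eU ≫ g.resLE W V eV := by
    rw [Scheme.Hom.resLE_comp_resLE]
  rw [h2] at h1
  exact perfMor_of_comp_of_smooth_of_separated (f.resLE V U eU) (g.resLE W V eV) h1

end Groth.Agent.Lib.T2H7.PerfSm
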