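import Mathlib
import Groth.Agent.Lib.T2H7LenMul

/-!
# The cokernel of `A → ∏ A/(f_i)` (helper7, team 2)

For a family `f : Fin n → A`, `diag f : A → ∏ A/(f i)` is the diagonal map and `cokLen f` the length
of its cokernel.  Main results:

* `cokLen_succ` : `cokLen f = colen ((f 0) + (g)) + cokLen (tail f)` when `(g) = ⋂_{i ≥ 1} (f i)`;
* `colen_prod` : additivity of `colen (J + (∏ h i))` for elements regular modulo `J`;
* `cokLen_eq_sum` : for pairwise relatively prime prime elements, `cokLen f` is the sum over `i < j` of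
  `colen ((f i) + (f j))`.
-/

set_option autoImplicit false
universe u

namespace Groth.Agent.Lib.T2H7.PiCoker

open Groth.Agent.Lib.T2H7.LenMul

variable {A : Type u} [CommRing A]

/-- The diagonal map `A → ∏ A/(f i)`. -/
noncomputable def diag {n : ℕ} (f : Fin n → A) : A →ₗ[A] ((i : Fin n) → A ⧸ Ideal.span {f i}) :=
  LinearMap.pi (fun i => (Ideal.span {f i}).mkQ)

@[simp] theorem diag_apply {n : ℕ} (f : Fin n → A) (x : A) (i : Fin n) :
    diag f x i = Submodule.Quotient.mk x := rfl

/-- The length of the cokernel of the diagonal map. -/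
noncomputable def cokLen {n : ℕ} (f : Fin n → A) : ℕ∞ :=
  Module.length A (((i : Fin n) → A ⧸ Ideal.span {f i}) ⧸ LinearMap.range (diag f))

section Succ

variable {n : ℕ} (f : Fin (n + 1) → A)

/-- Forget the first coordinate. -/
noncomputable def tailMap : ((i : Fin (n + 1)) → A ⧸ Ideal.span {f i}) →ₗ[A]
    ((i : Fin n) → A ⧸ Ideal.span {f i.succ}) :=
  LinearMap.pi (fun i => LinearMap.proj i.succ)

@[simp] theorem tailMap_apply (v : (i : Fin (n + 1)) → A ⧸ Ideal.span {f i}) (i : Fin n) :
    tailMap f v i = v i.succ := rfl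

/-- Put an element in the first coordinate. -/
noncomputable def headMap : A →ₗ[A] ((i : Fin (n + 1)) → A ⧸ Ideal.span {f i}) :=
  LinearMap.pi (Fin.cons (α := fun i => A →ₗ[A] A ⧸ Ideal.span {f i})
    (Ideal.span {f 0}).mkQ (fun _ => 0))

@[simp] theorem headMap_zero (x : A) : headMap f x 0 = Submodule.Quotient.mk x := by
  simp [headMap]

@[simp] theorem headMap_succ (x : A) (i : Fin n) : headMap f x i.succ = 0 := by
  simp [headMap]

theorem tailMap_diag (x : A) : tailMap f (diag f x) = diag (fun i => f i.succ) x := rfl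

theorem range_diag_le_comap :
    LinearMap.range (diag f) ≤
      Submodule.comap (tailMap f) (LinearMap.range (diag fun i => f i.succ)) := by
  rintro _ ⟨x, rfl⟩
  exact ⟨x, (tailMap_diag f x).symm⟩

/-- The induced map on cokernels. -/
noncomputable def qMap :
    (((i : Fin (n + 1)) → A ⧸ Ideal.span {f i}) ⧸ LinearMap.range (diag f)) →ₗ[A]
      (((i : Fin n) → A ⧸ Ideal.span {f i.succ}) ⧸ LinearMap.range (diag fun i => f i.succ)) :=
  Submodule.mapQ _ _ (tailMap f) (range_diag_le_comap f)

theorem qMap_surjective : Function.Surjective (qMap f) := by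
  intro y
  obtain ⟨y, rfl⟩ := Submodule.Quotient.mk_surjective _ y
  refine ⟨Submodule.Quotient.mk
    (Fin.cons (α := fun i => A ⧸ Ideal.span {f i}) 0 y), ?_⟩
  rw [qMap, Submodule.mapQ_apply]
  congr 1

variable (g : A) (hg : ∀ i : Fin n, f i.succ ∣ g)

include hg in
theorem headMap_mem (x : A) (hx : x ∈ Ideal.span {f 0} ⊔ Ideal.span {g}) :
    headMap f x ∈ LinearMap.range (diag f) := by
  obtain ⟨y, hy, z, hz, rfl⟩ := Submodule.mem_sup.mp hx
  rw [Ideal.mem_span_singleton] at hy hz
  refine ⟨z, ?_⟩
  ext i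
  refine Fin.cases ?_ (fun j => ?_) i
  · rw [diag_apply, headMap_zero, Submodule.Quotient.eq]
    have : z - (y + z) = -y := by ring
    rw [this]
    exact neg_mem (Ideal.mem_span_singleton.mpr hy)
  · rw [diag_apply, headMap_succ, Submodule.Quotient.mk_eq_zero]
    exact Ideal.mem_span_singleton.mpr ((hg j).trans hz)

/-- The inclusion of the kernel. -/
noncomputable def iMap : (A ⧸ (Ideal.span {f 0} ⊔ Ideal.span {g})) →ₗ[A]
    (((i : Fin (n + 1)) → A ⧸ Ideal.span {f i}) ⧸ LinearMap.range (diag f)) :=
  Submodule.liftQ _ ((LinearMap.range (diag f)).mkQ ∘ₗ headMap f) (by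
    intro x hx
    rw [LinearMap.mem_ker, LinearMap.comp_apply, Submodule.mkQ_apply,
      Submodule.Quotient.mk_eq_zero]
    exact headMap_mem f g hg x hx)

theorem iMap_mk (x : A) :
    iMap f g hg (Submodule.Quotient.mk x) = Submodule.Quotient.mk (headMap f x) := rfl

variable (hint : ∀ x : A, (∀ i : Fin n, f i.succ ∣ x) → g ∣ x)

include hint in
theorem iMap_injective : Function.Injective (iMap f g hg) := by
  rw [← LinearMap.ker_eq_bot, LinearMap.ker_eq_bot']
  intro x hx
  obtain ⟨x, rfl⟩ := Submodule.Quotient.mk_surjective _ x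
  rw [iMap_mk, Submodule.Quotient.mk_eq_zero] at hx
  obtain ⟨y, hy⟩ := hx
  rw [Submodule.Quotient.mk_eq_zero]
  have h0 : y - x ∈ Ideal.span {f 0} := by
    have := congrFun hy 0
    rw [diag_apply, headMap_zero, Submodule.Quotient.eq] at this
    exact this
  have hy' : g ∣ y := by
    apply hint
    intro i
    have := congrFun hy i.succ
    rw [diag_apply, headMap_succ, Submodule.Quotient.mk_eq_zero] at this
    exact Ideal.mem_span_singleton.mp this
  have hx : x = -(y - x) + y := by ring
  rw [hx]
  exact Submodule.add_mem_sup (neg_mem h0) (Ideal.mem_span_singleton.mpr hy')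

theorem exact_iMap_qMap : Function.Exact (iMap f g hg) (qMap f) := by
  intro v
  constructor
  · intro hv
    obtain ⟨v, rfl⟩ := Submodule.Quotient.mk_surjective _ v
    rw [qMap, Submodule.mapQ_apply, Submodule.Quotient.mk_eq_zero] at hv
    obtain ⟨y, hy⟩ := hv
    obtain ⟨x, hx⟩ := Submodule.Quotient.mk_surjective _ (v 0 - Submodule.Quotient.mk y)
    refine ⟨Submodule.Quotient.mk x, ?_⟩
    rw [iMap_mk, Submodule.Quotient.eq]
    refine ⟨-y, ?_⟩
    ext i
    refine Fin.cases ?_ (fun j => ?_) i
    · rw [diag_apply, Pi.sub_apply, headMap_zero, hx]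
      simp
    · rw [diag_apply, Pi.sub_apply, headMap_succ]
      have := congrFun hy j
      rw [diag_apply, tailMap_apply] at this
      rw [← this]
      simp
  · rintro ⟨x, rfl⟩
    obtain ⟨x, rfl⟩ := Submodule.Quotient.mk_surjective _ x
    rw [iMap_mk, qMap, Submodule.mapQ_apply, Submodule.Quotient.mk_eq_zero]
    refine ⟨0, ?_⟩
    ext i
    simp

include hg hint in
/-- The recurrence for the length of the cokernel. -/
theorem cokLen_succ :
    cokLen f = colen (Ideal.span {f 0} ⊔ Ideal.span {g}) + cokLen (fun i => f i.succ) :=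
  Module.length_eq_add_of_exact (iMap f g hg) (qMap f) (iMap_injective f g hg hint)
    (qMap_surjective f) (exact_iMap_qMap f g hg)

end Succ

/-- `colen` of the unit ideal. -/
theorem colen_top : colen (⊤ : Ideal A) = 0 := by
  unfold colen
  rw [Module.length_eq_zero_iff]
  exact Submodule.Quotient.subsingleton_iff.mpr rfl

/-- Additivity of the colength along a finite product of elements regular modulo `J`. -/
theorem colen_prod {ι : Type*} (J : Ideal A) (h : ι → A) (s : Finset ι)
    (hreg : ∀ i ∈ s, RegMod J (h i)) :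
    colen (J ⊔ Ideal.span {∏ i ∈ s, h i}) = ∑ i ∈ s, colen (J ⊔ Ideal.span {h i}) := by
  classical
  induction s using Finset.induction_on with
  | empty =>
    rw [Finset.prod_empty, Finset.sum_empty, Ideal.span_singleton_one, sup_top_eq, colen_top]
  | insert a s ha ih =>
    rw [Finset.prod_insert ha, Finset.sum_insert ha,
      colen_mul_eq J (h a) _ (hreg a (Finset.mem_insert_self a s)),
      ih (fun i hi => hreg i (Finset.mem_insert_of_mem hi))]

/-- Reindexing a sum over pairs `i < j` in `Fin (n+1)`. -/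
theorem sum_pairs_succ {n : ℕ} (F : Fin (n + 1) × Fin (n + 1) → ℕ∞) :
    ∑ p ∈ (Finset.univ : Finset (Fin (n + 1) × Fin (n + 1))) with p.1 < p.2, F p =
      ∑ j : Fin n, F (0, j.succ) +
        ∑ p ∈ (Finset.univ : Finset (Fin n × Fin n)) with p.1 < p.2, F (p.1.succ, p.2.succ) := by
  rw [Finset.sum_filter, Finset.sum_filter, Fintype.sum_prod_type, Fintype.sum_prod_type,
    Fin.sum_univ_succ]
  congr 1
  · rw [Fin.sum_univ_succ]
    simp
  · refine Finset.sum_congr rfl (fun i _ => ?_)
    rw [Fin.sum_univ_succ]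
    simp [Fin.succ_lt_succ_iff]

/-- The length of the cokernel for pairwise relatively prime prime elements. -/
theorem cokLen_eq_sum [IsDomain A] [DecompositionMonoid A] :
    ∀ {n : ℕ} (f : Fin n → A), (∀ i, Prime (f i)) → (∀ i j, i ≠ j → IsRelPrime (f i) (f j)) →
      cokLen f = ∑ p ∈ (Finset.univ : Finset (Fin n × Fin n)) with p.1 < p.2,
        colen (Ideal.span {f p.1} ⊔ Ideal.span {f p.2}) := by
  intro n
  induction n with
  | zero =>
    intro f _ _
    have : cokLen f = 0 := by
      unfold cokLen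
      rw [Module.length_eq_zero_iff]
      infer_instance
    rw [this]
    simp
  | succ n ih =>
    intro f hp hc
    have hg : ∀ i : Fin n, f i.succ ∣ ∏ j : Fin n, f j.succ :=
      fun i => Finset.dvd_prod_of_mem _ (Finset.mem_univ i)
    have hint : ∀ x : A, (∀ i : Fin n, f i.succ ∣ x) → (∏ j : Fin n, f j.succ) ∣ x := by
      intro x hx
      refine Fintype.prod_dvd_of_isRelPrime ?_ hx
      intro i j hij
      exact hc _ _ (fun h => hij (Fin.succ_injective _ h))
    rw [cokLen_succ f _ hg hint, sum_pairs_succ,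
      ih (fun i => f i.succ) (fun i => hp _)
        (fun i j hij => hc _ _ (fun h => hij (Fin.succ_injective _ h)))]
    congr 1
    refine colen_prod (Ideal.span {f 0}) (fun j : Fin n => f j.succ) Finset.univ ?_
    intro j _ y hy
    rw [Ideal.mem_span_singleton] at hy ⊢
    rcases (hp 0).dvd_or_dvd hy with h | h
    · exfalso
      have hu : IsUnit (f 0) := hc 0 j.succ (Fin.succ_ne_zero j).symm dvd_rfl h
      exact (hp 0).not_isUnit hu
    · exact h

end Groth.Agent.Lib.T2H7.PiCoker
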