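import Mathlib

set_option autoImplicit false
set_option linter.unusedSectionVars false
set_option linter.unusedVariables false
set_option linter.style.haveILetI false

universe u

open HomogeneousLocalization Graded

namespace Groth.Agent.Lib.T2H7.ProjQuotA

variable {R A : Type u} [CommRing R] [CommRing A] [Algebra R A] (𝒜 : ℕ → Submodule R A)
  [GradedAlgebra 𝒜]
  {G : Type u} [Group G] [MulSemiringAction G A]
  (hGdeg : ∀ (σ : G) (i : ℕ) (a : A), a ∈ 𝒜 i → σ • a ∈ 𝒜 i)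
  {C : Type u} [CommRing C] [Algebra R C] (𝒞 : ℕ → Submodule R C) [GradedAlgebra 𝒞]
  (ι : C →ₐ[R] A) (hι : Function.Injective ι)
  (hιdeg : ∀ (i : ℕ) (a : A), a ∈ (𝒞 i).map ι.toLinearMap ↔ (a ∈ 𝒜 i ∧ ∀ σ : G, σ • a = a))

/-- the graded ring endomorphism given by a group element -/
def actHom (σ : G) : 𝒜 →+*ᵍ 𝒜 where
  toRingHom := MulSemiringAction.toRingHom G A σ
  map_mem := fun {i x} h => hGdeg σ i x h

@[simp] theorem actHom_apply (σ : G) (a : A) : actHom 𝒜 hGdeg σ a = σ • a := rfl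

include hιdeg in
theorem incl_mem {i : ℕ} {x : C} (hx : x ∈ 𝒞 i) : ι x ∈ 𝒜 i :=
  ((hιdeg i (ι x)).mp ⟨x, hx, rfl⟩).1

include hιdeg in
theorem smul_incl {i : ℕ} {x : C} (hx : x ∈ 𝒞 i) (σ : G) : σ • ι x = ι x :=
  ((hιdeg i (ι x)).mp ⟨x, hx, rfl⟩).2 σ

/-- the graded inclusion of the invariants -/
def incl : 𝒞 →+*ᵍ 𝒜 where
  toRingHom := ι.toRingHom
  map_mem := fun {i x} hx => incl_mem 𝒜 𝒞 ι hιdeg hx

@[simp] theorem incl_apply (c : C) : incl 𝒜 𝒞 ι hιdeg c = ι c := rfl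

/-- the chart map `C_(c) → A_(ι c)` -/
theorem incl_comap_le (c : C) :
    Submonoid.powers c ≤ (Submonoid.powers (ι c)).comap (incl 𝒜 𝒞 ι hιdeg) := by
  rintro _ ⟨n, rfl⟩
  exact ⟨n, by simp⟩

noncomputable def thetaHom (c : C) : Away 𝒞 c →+* Away 𝒜 (ι c) :=
  HomogeneousLocalization.map (incl 𝒜 𝒞 ι hιdeg) (incl_comap_le 𝒜 𝒞 ι hιdeg c)

theorem thetaHom_compat (c : C) :
    (algebraMap (Away 𝒜 (ι c)) (Localization.Away (ι c))).comp (thetaHom 𝒜 𝒞 ι hιdeg c) =
      (Localization.awayMap ι.toRingHom c).comp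
        (algebraMap (Away 𝒞 c) (Localization.Away c)) := by
  ext x
  obtain ⟨y, rfl⟩ := mk_surjective x
  rw [RingHom.comp_apply, RingHom.comp_apply, HomogeneousLocalization.algebraMap_apply,
    HomogeneousLocalization.algebraMap_apply, thetaHom,
    HomogeneousLocalization.map_mk, HomogeneousLocalization.val_mk, HomogeneousLocalization.val_mk,
    Localization.mk_eq_mk', Localization.mk_eq_mk']
  erw [IsLocalization.map_mk']
  rfl

/-- the action map `A_(f) → A_(σ f)` -/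
theorem act_comap_le (σ : G) (f f' : A) (hf' : σ • f = f') :
    Submonoid.powers f ≤ (Submonoid.powers f').comap (actHom 𝒜 hGdeg σ) := by
  rintro _ ⟨n, rfl⟩
  exact ⟨n, by simp [← hf', smul_pow']⟩

noncomputable def sigmaHom (σ : G) (f : A) : Away 𝒜 f →+* Away 𝒜 (σ • f) :=
  HomogeneousLocalization.map (actHom 𝒜 hGdeg σ) (act_comap_le 𝒜 hGdeg σ f _ rfl)

theorem sigmaHom_compat (σ : G) (f : A) :
    (algebraMap (Away 𝒜 (σ • f)) (Localization.Away (σ • f))).comp (sigmaHom 𝒜 hGdeg σ f) =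
      (Localization.awayMap (MulSemiringAction.toRingHom G A σ) f).comp
        (algebraMap (Away 𝒜 f) (Localization.Away f)) := by
  refine RingHom.ext fun x => ?_
  obtain ⟨y, rfl⟩ := mk_surjective x
  change (sigmaHom 𝒜 hGdeg σ f (mk y)).val =
    Localization.awayMap (MulSemiringAction.toRingHom G A σ) f ((mk y).val)
  rw [sigmaHom, HomogeneousLocalization.map_mk, HomogeneousLocalization.val_mk,
    HomogeneousLocalization.val_mk, Localization.mk_eq_mk', Localization.mk_eq_mk']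
  erw [IsLocalization.map_mk']
  rfl

/-- the action map `A_(f) → A_(f)` for an invariant `f` -/
noncomputable def tauHom (σ : G) (f : A) (hσf : σ • f = f) : Away 𝒜 f →+* Away 𝒜 f :=
  HomogeneousLocalization.map (actHom 𝒜 hGdeg σ) (act_comap_le 𝒜 hGdeg σ f f hσf)

theorem val_tauHom_mk (σ : G) (f : A) (hσf : σ • f = f) (y : NumDenSameDeg 𝒜 (Submonoid.powers f)) :
    (tauHom 𝒜 hGdeg σ f hσf (mk y)).val =
      Localization.mk (σ • (y.num : A)) ⟨σ • (y.den : A),
        (show σ • (y.den : A) ∈ Submonoid.powers f from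
          act_comap_le 𝒜 hGdeg σ f f hσf y.den_mem)⟩ := by
  unfold tauHom
  rw [HomogeneousLocalization.map_mk, HomogeneousLocalization.val_mk]
  rfl

theorem val_thetaHom_mk (c : C) (y : NumDenSameDeg 𝒞 (Submonoid.powers c)) :
    (thetaHom 𝒜 𝒞 ι hιdeg c (mk y)).val =
      Localization.mk (ι (y.num : C)) ⟨ι (y.den : C),
        (show ι (y.den : C) ∈ Submonoid.powers (ι c) from
          incl_comap_le 𝒜 𝒞 ι hιdeg c y.den_mem)⟩ := by
  unfold thetaHom
  rw [HomogeneousLocalization.map_mk, HomogeneousLocalization.val_mk]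
  rfl

include hι in
theorem thetaHom_injective (c : C) : Function.Injective (thetaHom 𝒜 𝒞 ι hιdeg c) := by
  rw [injective_iff_map_eq_zero]
  intro x hx
  obtain ⟨y, rfl⟩ := mk_surjective x
  have h1 := congrArg HomogeneousLocalization.val hx
  rw [val_thetaHom_mk, HomogeneousLocalization.val_zero, Localization.mk_eq_mk',
    IsLocalization.mk'_eq_zero_iff] at h1
  obtain ⟨⟨_, k, rfl⟩, hk⟩ := h1
  have h2 : c ^ k * (y.num : C) = 0 := by
    apply hι
    rw [map_mul, map_pow, map_zero]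
    exact hk
  apply HomogeneousLocalization.val_injective
  rw [HomogeneousLocalization.val_mk, HomogeneousLocalization.val_zero, Localization.mk_eq_mk',
    IsLocalization.mk'_eq_zero_iff]
  exact ⟨⟨_, k, rfl⟩, h2⟩

include hιdeg in
theorem tauHom_thetaHom (σ : G) {n : ℕ} (c : C) (hc : c ∈ 𝒞 n) (x : Away 𝒞 c) :
    tauHom 𝒜 hGdeg σ (ι c) (smul_incl 𝒜 𝒞 ι hιdeg hc σ) (thetaHom 𝒜 𝒞 ι hιdeg c x) =
      thetaHom 𝒜 𝒞 ι hιdeg c x := by
  obtain ⟨y, rfl⟩ := mk_surjective x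
  apply HomogeneousLocalization.val_injective
  unfold thetaHom
  rw [HomogeneousLocalization.map_mk, val_tauHom_mk, HomogeneousLocalization.val_mk,
    Localization.mk_eq_mk_iff, Localization.r_iff_exists]
  refine ⟨1, ?_⟩
  have h1 : σ • ι (y.num : C) = ι (y.num : C) := smul_incl 𝒜 𝒞 ι hιdeg y.num.2 σ
  have h2 : σ • ι (y.den : C) = ι (y.den : C) := smul_incl 𝒜 𝒞 ι hιdeg y.den.2 σ
  change ((1 : Submonoid.powers (ι c)) : A) * (ι (y.den : C) * σ • ι (y.num : C)) =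
    ((1 : Submonoid.powers (ι c)) : A) * (σ • ι (y.den : C) * ι (y.num : C))
  rw [h1, h2]

include hιdeg in
theorem mem_range_thetaHom [Finite G] {n : ℕ} (c : C) (hc : c ∈ 𝒞 n) (t : Away 𝒜 (ι c))
    (ht : ∀ σ : G, tauHom 𝒜 hGdeg σ (ι c) (smul_incl 𝒜 𝒞 ι hιdeg hc σ) t = t) :
    t ∈ Set.range (thetaHom 𝒜 𝒞 ι hιdeg c) := by
  classical
  cases nonempty_fintype G
  have hF : ι c ∈ 𝒜 n := incl_mem 𝒜 𝒞 ι hιdeg hc
  have hσF : ∀ σ : G, σ • ι c = ι c := fun σ => smul_incl 𝒜 𝒞 ι hιdeg hc σ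
  obtain ⟨k, a, ha, rfl⟩ := HomogeneousLocalization.Away.mk_surjective 𝒜 hF t
  -- invariance up to a power of `ι c`
  have h1 : ∀ σ : G, ∃ m : ℕ, ι c ^ m * σ • a = ι c ^ m * a := by
    intro σ
    have h2 := congrArg HomogeneousLocalization.val (ht σ)
    rw [HomogeneousLocalization.Away.mk, val_tauHom_mk, HomogeneousLocalization.val_mk, Localization.mk_eq_mk_iff,
      Localization.r_iff_exists] at h2
    obtain ⟨⟨_, m, rfl⟩, hm⟩ := h2
    have hm' : ι c ^ m * (ι c ^ k * σ • a) = ι c ^ m * (σ • (ι c ^ k) * a) := hm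
    rw [smul_pow', hσF σ] at hm'
    refine ⟨m + k, ?_⟩
    rw [pow_add, mul_assoc, mul_assoc]
    exact hm'
  choose m hm using h1
  let M := ∑ σ, m σ
  have h3 : ∀ σ : G, ι c ^ M * σ • a = ι c ^ M * a := by
    intro σ
    have hle : m σ ≤ M := Finset.single_le_sum (fun _ _ => Nat.zero_le _) (Finset.mem_univ σ)
    obtain ⟨d, hd⟩ := Nat.exists_eq_add_of_le hle
    rw [hd, pow_add, mul_comm (ι c ^ m σ), mul_assoc, hm, mul_assoc]
  have h4 : ∀ σ : G, σ • (ι c ^ M * a) = ι c ^ M * a := by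
    intro σ
    rw [smul_mul', smul_pow', hσF σ, h3 σ]
  have h5 : ι c ^ M * a ∈ 𝒜 ((M + k) • n) := by
    rw [add_smul]
    exact SetLike.mul_mem_graded (SetLike.pow_mem_graded M hF) ha
  obtain ⟨c', hc', hcc'⟩ := (hιdeg ((M + k) • n) (ι c ^ M * a)).mpr ⟨h5, h4⟩
  have hcc'' : ι c' = ι c ^ M * a := hcc'
  refine ⟨HomogeneousLocalization.Away.mk 𝒞 hc (M + k) c' hc', ?_⟩
  apply HomogeneousLocalization.val_injective
  rw [HomogeneousLocalization.Away.mk, val_thetaHom_mk, HomogeneousLocalization.Away.mk, HomogeneousLocalization.val_mk, Localization.mk_eq_mk_iff,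
    Localization.r_iff_exists]
  refine ⟨1, ?_⟩
  change ((1 : Submonoid.powers (ι c)) : A) * (ι c ^ k * ι c') =
    ((1 : Submonoid.powers (ι c)) : A) * (ι (c ^ (M + k)) * a)
  rw [hcc'', map_pow, pow_add]
  ring

end Groth.Agent.Lib.T2H7.ProjQuotA
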