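import Mathlib

set_option autoImplicit false
set_option linter.unusedSectionVars false
set_option linter.unusedVariables false
set_option linter.style.haveILetI false

universe u

open HomogeneousLocalization Graded AlgebraicGeometry Polynomial

namespace Groth.Agent.Lib.T2H7.ProjQuotB

variable {R A : Type u} [CommRing R] [CommRing A] [Algebra R A] (𝒜 : ℕ → Submodule R A)
  [GradedAlgebra 𝒜]

theorem coeff_prod_X_sub_C_mem {κ : Type*} [DecidableEq κ] (s : Finset κ) (a : κ → A) (m : ℕ)
    (ha : ∀ i ∈ s, a i ∈ 𝒜 m) :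
    (∀ k j, k + j = s.card → (∏ i ∈ s, (X - C (a i))).coeff k ∈ 𝒜 (j * m)) ∧
    (∀ k, s.card < k → (∏ i ∈ s, (X - C (a i))).coeff k = 0) := by
  induction s using Finset.induction_on with
  | empty =>
    constructor
    · intro k j hkj
      simp only [Finset.card_empty, Nat.add_eq_zero_iff] at hkj
      obtain ⟨rfl, rfl⟩ := hkj
      simp only [Finset.prod_empty, coeff_one_zero, zero_mul]
      exact SetLike.GradedOne.one_mem
    · intro k hk
      simp only [Finset.card_empty] at hk
      simp only [Finset.prod_empty]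
      rw [coeff_one, if_neg (by omega)]
  | insert i s his ih =>
    obtain ⟨ih1, ih2⟩ := ih (fun i' hi' => ha i' (Finset.mem_insert_of_mem hi'))
    have hai : a i ∈ 𝒜 m := ha i (Finset.mem_insert_self i s)
    rw [Finset.prod_insert his, Finset.card_insert_of_notMem his]
    set P := ∏ i ∈ s, (X - C (a i)) with hP
    have hcoeff : ∀ k, ((X - C (a i)) * P).coeff (k + 1) = P.coeff k - a i * P.coeff (k + 1) := by
      intro k
      rw [sub_mul, coeff_sub, coeff_X_mul, coeff_C_mul]
    have hcoeff0 : ((X - C (a i)) * P).coeff 0 = - (a i * P.coeff 0) := by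
      rw [sub_mul, coeff_sub, coeff_X_mul_zero, coeff_C_mul, zero_sub]
    constructor
    · intro k j hkj
      rcases k with _ | k
      · rw [hcoeff0]
        have hj : j = s.card + 1 := by omega
        subst hj
        have h1 := ih1 0 s.card (by omega)
        have h2 : a i * P.coeff 0 ∈ 𝒜 (m + s.card * m) := SetLike.mul_mem_graded hai h1
        have e : (s.card + 1) * m = m + s.card * m := by ring
        rw [e]
        exact neg_mem h2
      · rw [hcoeff]
        have h1 : P.coeff k ∈ 𝒜 (j * m) := ih1 k j (by omega)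
        refine sub_mem h1 ?_
        rcases j with _ | j
        · have : P.coeff (k + 1) = 0 := ih2 (k + 1) (by omega)
          rw [this, mul_zero]
          exact zero_mem _
        · have h2 := ih1 (k + 1) j (by omega)
          have h3 : a i * P.coeff (k + 1) ∈ 𝒜 (m + j * m) := SetLike.mul_mem_graded hai h2
          have e : (j + 1) * m = m + j * m := by ring
          rw [e]
          exact h3
    · intro k hk
      rcases k with _ | k
      · omega
      · rw [hcoeff, ih2 k (by omega), ih2 (k + 1) (by omega), mul_zero, sub_zero]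

variable {G : Type u} [Group G] [MulSemiringAction G A]
  (hGdeg : ∀ (σ : G) (i : ℕ) (a : A), a ∈ 𝒜 i → σ • a ∈ 𝒜 i)
  {C : Type u} [CommRing C] [Algebra R C] (𝒞 : ℕ → Submodule R C) [GradedAlgebra 𝒞]
  (ι : C →ₐ[R] A)
  (hιdeg : ∀ (i : ℕ) (a : A), a ∈ (𝒞 i).map ι.toLinearMap ↔ (a ∈ 𝒜 i ∧ ∀ σ : G, σ • a = a))

include hGdeg hιdeg in
/-- every point of `Proj A` lies in `D₊(ι c)` for a homogeneous invariant `c` of positive degree -/
theorem exists_incl_notMem [Finite G] (x : Proj 𝒜) :
    ∃ (n : ℕ) (_ : 0 < n) (c : C) (_ : c ∈ 𝒞 n), ι c ∉ x.asHomogeneousIdeal := by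
  classical
  cases nonempty_fintype G
  -- a homogeneous element of positive degree outside `x`
  obtain ⟨m, hm, b, hb, hbx⟩ : ∃ (m : ℕ) (_ : 0 < m) (b : A) (_ : b ∈ 𝒜 m),
      b ∉ x.asHomogeneousIdeal := by
    have h1 := (Proj.affineOpenCover 𝒜).covers x
    set s := (Proj.affineOpenCover 𝒜).idx x with hs
    have h2 : x ∈ (Proj.awayι 𝒜 s.2.1 s.2.2 s.1.2).opensRange := h1
    rw [Proj.opensRange_awayι] at h2
    exact ⟨s.1, s.1.2, s.2.1, s.2.2, (Proj.mem_basicOpen 𝒜 _ x).mp h2⟩
  let P := MulSemiringAction.charpoly G b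
  have hmonic : P.Monic := MulSemiringAction.monic_charpoly G b
  have heval : P.eval b = 0 := MulSemiringAction.eval_charpoly G b
  have hinv : ∀ k (σ : G), σ • P.coeff k = P.coeff k := fun k σ =>
    MulSemiringAction.smul_coeff_charpoly b k σ
  have hhom := coeff_prod_X_sub_C_mem 𝒜 (Finset.univ : Finset G) (fun σ => σ • b) m
    (fun σ _ => hGdeg σ m b hb)
  have hdeg : P.natDegree ≤ Fintype.card G := by
    rw [natDegree_le_iff_coeff_eq_zero]
    intro k hk
    exact hhom.2 k (by simpa using hk)
  haveI hprime : x.asHomogeneousIdeal.toIdeal.IsPrime := x.isPrime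
  -- some lower coefficient is outside `x`
  have hex : ∃ k, k < P.natDegree ∧ P.coeff k ∉ x.asHomogeneousIdeal.toIdeal := by
    by_contra hcon
    simp only [not_exists, not_and, not_not] at hcon
    have h1 : b ^ P.natDegree ∈ x.asHomogeneousIdeal.toIdeal := by
      have h2 : P.eval b = b ^ P.natDegree + ∑ k ∈ Finset.range P.natDegree, P.coeff k * b ^ k := by
        rw [eval_eq_sum_range, Finset.sum_range_succ, hmonic.coeff_natDegree, one_mul, add_comm]
      rw [heval] at h2
      have h3 : b ^ P.natDegree = - ∑ k ∈ Finset.range P.natDegree, P.coeff k * b ^ k := by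
        rw [eq_neg_iff_add_eq_zero]; exact h2.symm
      rw [h3]
      refine neg_mem (Ideal.sum_mem _ fun k hk => ?_)
      exact Ideal.mul_mem_right _ _ (hcon k (Finset.mem_range.mp hk))
    exact hbx (hprime.mem_of_pow_mem _ h1)
  obtain ⟨k, hk, hkx⟩ := hex
  have hkN : k < Fintype.card G := lt_of_lt_of_le hk hdeg
  obtain ⟨j, hj⟩ := Nat.exists_eq_add_of_lt hkN
  have hmem : P.coeff k ∈ 𝒜 ((j + 1) * m) := hhom.1 k (j + 1) (by simp; omega)
  obtain ⟨c, hc, hcc⟩ := (hιdeg ((j + 1) * m) (P.coeff k)).mpr ⟨hmem, hinv k⟩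
  refine ⟨(j + 1) * m, Nat.mul_pos (Nat.succ_pos j) hm, c, hc, ?_⟩
  have : ι c = P.coeff k := hcc
  rw [this]
  exact hkx

end Groth.Agent.Lib.T2H7.ProjQuotB
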