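import Groth.Agent.Lib.T2H7QuotLocA
import Groth.Agent.Lib.T2H7ProjQuotA
import Groth.Agent.Lib.T2H7ProjQuotB

/-!
# T2H7: `Proj B → Proj B^G` is a quotient by the finite group `G`
-/

set_option autoImplicit false
set_option linter.unusedSectionVars false
set_option linter.unusedVariables false
set_option linter.style.haveILetI false

universe u

open CategoryTheory CategoryTheory.Limits AlgebraicGeometry HomogeneousLocalization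

namespace Groth.Agent.Lib.T2H7.ProjQuotC

open Groth.Agent.Lib.T2H7.ProjQuotA Groth.Agent.Lib.T2H7.ProjQuotB

variable {R A : Type u} [CommRing R] [CommRing A] [Algebra R A] (𝒜 : ℕ → Submodule R A)
  [GradedAlgebra 𝒜]
  {G : Type u} [Group G] [Finite G] [MulSemiringAction G A]
  (hGdeg : ∀ (σ : G) (i : ℕ) (a : A), a ∈ 𝒜 i → σ • a ∈ 𝒜 i)
  {C : Type u} [CommRing C] [Algebra R C] (𝒞 : ℕ → Submodule R C) [GradedAlgebra 𝒞]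
  (ι : C →ₐ[R] A) (hι : Function.Injective ι)
  (hιdeg : ∀ (i : ℕ) (a : A), a ∈ (𝒞 i).map ι.toLinearMap ↔ (a ∈ 𝒜 i ∧ ∀ σ : G, σ • a = a))
  (ρ : G →* Aut (Proj 𝒜))
  (hρ : ∀ (σ : G) (n : ℕ) (f : A) (hn : 0 < n) (hf : f ∈ 𝒜 n)
    (θ : CommRingCat.of (HomogeneousLocalization.Away 𝒜 f) ⟶
      CommRingCat.of (HomogeneousLocalization.Away 𝒜 (σ • f))),
    (algebraMap (HomogeneousLocalization.Away 𝒜 (σ • f)) (Localization.Away (σ • f))).comp θ.hom =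
      (Localization.awayMap (MulSemiringAction.toRingHom G A σ) f).comp
        (algebraMap (HomogeneousLocalization.Away 𝒜 f) (Localization.Away f)) →
    Proj.awayι 𝒜 (σ • f) (hGdeg σ n f hf) hn ≫ (ρ σ).inv = Spec.map θ ≫ Proj.awayι 𝒜 f hf hn)
  (π : Proj 𝒜 ⟶ Proj 𝒞)
  (hπ : ∀ (n : ℕ) (c : C) (hn : 0 < n) (hc : c ∈ 𝒞 n)
    (θ : CommRingCat.of (HomogeneousLocalization.Away 𝒞 c) ⟶
      CommRingCat.of (HomogeneousLocalization.Away 𝒜 (ι c))),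
    (algebraMap (HomogeneousLocalization.Away 𝒜 (ι c)) (Localization.Away (ι c))).comp θ.hom =
      (Localization.awayMap ι.toRingHom c).comp
        (algebraMap (HomogeneousLocalization.Away 𝒞 c) (Localization.Away c)) →
    Proj.awayι 𝒜 (ι c) ((hιdeg n (ι c)).mp (Submodule.mem_map_of_mem hc)).1 hn ≫ π =
      Spec.map θ ≫ Proj.awayι 𝒞 c hc hn)

include hπ in
/-- the chart square for `π` -/
theorem awayι_comp_pi {n : ℕ} (c : C) (hn : 0 < n) (hc : c ∈ 𝒞 n) :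
    Proj.awayι 𝒜 (ι c) (incl_mem 𝒜 𝒞 ι hιdeg hc) hn ≫ π =
      Spec.map (CommRingCat.ofHom (thetaHom 𝒜 𝒞 ι hιdeg c)) ≫ Proj.awayι 𝒞 c hc hn :=
  hπ n c hn hc (CommRingCat.ofHom (thetaHom 𝒜 𝒞 ι hιdeg c)) (thetaHom_compat 𝒜 𝒞 ι hιdeg c)

include hρ in
theorem awayι_comp_rho_inv_aux (σ : G) {n : ℕ} (f : A) (hn : 0 < n) (hf : f ∈ 𝒜 n)
    (f' : A) (e : σ • f = f') (hf' : f' ∈ 𝒜 n) :
    Proj.awayι 𝒜 f' hf' hn ≫ (ρ σ).inv =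
      Spec.map (CommRingCat.ofHom (HomogeneousLocalization.map (actHom 𝒜 hGdeg σ)
        (act_comap_le 𝒜 hGdeg σ f f' e))) ≫ Proj.awayι 𝒜 f hf hn := by
  subst e
  exact hρ σ n f hn hf (CommRingCat.ofHom (sigmaHom 𝒜 hGdeg σ f)) (sigmaHom_compat 𝒜 hGdeg σ f)

include hρ in
/-- the chart square for the action, at an invariant `f` -/
theorem awayι_comp_rho_inv (σ : G) {n : ℕ} (f : A) (hn : 0 < n) (hf : f ∈ 𝒜 n)
    (hσf : σ • f = f) :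
    Proj.awayι 𝒜 f hf hn ≫ (ρ σ).inv =
      Spec.map (CommRingCat.ofHom (tauHom 𝒜 hGdeg σ f hσf)) ≫ Proj.awayι 𝒜 f hf hn :=
  awayι_comp_rho_inv_aux 𝒜 hGdeg ρ hρ σ f hn hf f hσf hf

theorem rho_inv_inv (g : G) : (ρ g⁻¹).inv = (ρ g).hom := by
  rw [map_inv]
  rfl

theorem tauHom_congr (σ σ' : G) (e : σ = σ') (f : A) (h : σ • f = f) (h' : σ' • f = f) :
    tauHom 𝒜 hGdeg σ f h = tauHom 𝒜 hGdeg σ' f h' := by
  subst e; rfl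

theorem thetaHom_isLocalizationElem {n n' : ℕ} (c c' : C) (hc : c ∈ 𝒞 n) (hc' : c' ∈ 𝒞 n') :
    thetaHom 𝒜 𝒞 ι hιdeg c' (Away.isLocalizationElem hc' hc) =
      Away.isLocalizationElem (incl_mem 𝒜 𝒞 ι hιdeg hc') (incl_mem 𝒜 𝒞 ι hιdeg hc) := by
  apply HomogeneousLocalization.val_injective
  rw [Away.isLocalizationElem, Away.isLocalizationElem, HomogeneousLocalization.Away.mk,
    val_thetaHom_mk, HomogeneousLocalization.Away.mk, HomogeneousLocalization.val_mk,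
    Localization.mk_eq_mk_iff, Localization.r_iff_exists]
  refine ⟨1, ?_⟩
  change ((1 : Submonoid.powers (ι c')) : A) * (ι c' ^ n * ι (c ^ n')) =
    ((1 : Submonoid.powers (ι c')) : A) * (ι (c' ^ n) * ι c ^ n')
  rw [map_pow, map_pow]

include hGdeg hπ in
/-- `π⁻¹ D₊(c) = D₊(ι c)` -/
theorem preimage_basicOpen {n : ℕ} (c : C) (hn : 0 < n) (hc : c ∈ 𝒞 n) :
    π ⁻¹ᵁ Proj.basicOpen 𝒞 c = Proj.basicOpen 𝒜 (ι c) := by
  apply le_antisymm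
  · intro x hx
    have hx' : π x ∈ Proj.basicOpen 𝒞 c := hx
    obtain ⟨n', hn', c', hc', hxc'⟩ := exists_incl_notMem 𝒜 hGdeg 𝒞 ι hιdeg x
    have h1 : x ∈ (Proj.awayι 𝒜 (ι c') (incl_mem 𝒜 𝒞 ι hιdeg hc') hn').opensRange := by
      rw [Proj.opensRange_awayι]; exact (Proj.mem_basicOpen 𝒜 _ x).mpr hxc'
    obtain ⟨y, rfl⟩ := h1
    have hsq := awayι_comp_pi 𝒜 𝒞 ι hιdeg π hπ c' hn' hc'
    have h2 : π ((Proj.awayι 𝒜 (ι c') (incl_mem 𝒜 𝒞 ι hιdeg hc') hn') y) =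
        (Proj.awayι 𝒞 c' hc' hn') ((Spec.map (CommRingCat.ofHom (thetaHom 𝒜 𝒞 ι hιdeg c'))) y) :=
      congrArg (fun φ : Spec (CommRingCat.of (Away 𝒜 (ι c'))) ⟶ Proj 𝒞 => φ y) hsq
    rw [h2] at hx'
    have h3 : (Spec.map (CommRingCat.ofHom (thetaHom 𝒜 𝒞 ι hιdeg c'))) y ∈
        Proj.awayι 𝒞 c' hc' hn' ⁻¹ᵁ Proj.basicOpen 𝒞 c := hx'
    rw [Proj.awayι_preimage_basicOpen 𝒞 hc' hn' hc hn] at h3
    have h4 : thetaHom 𝒜 𝒞 ι hιdeg c' (Away.isLocalizationElem hc' hc) ∉ y.asIdeal := h3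
    rw [thetaHom_isLocalizationElem] at h4
    have h5 : y ∈ Proj.awayι 𝒜 (ι c') (incl_mem 𝒜 𝒞 ι hιdeg hc') hn' ⁻¹ᵁ
        Proj.basicOpen 𝒜 (ι c) := by
      rw [Proj.awayι_preimage_basicOpen 𝒜 (incl_mem 𝒜 𝒞 ι hιdeg hc') hn'
        (incl_mem 𝒜 𝒞 ι hιdeg hc) hn]
      exact h4
    exact h5
  · intro x hx
    have h1 : x ∈ (Proj.awayι 𝒜 (ι c) (incl_mem 𝒜 𝒞 ι hιdeg hc) hn).opensRange := by
      rw [Proj.opensRange_awayι]; exact hx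
    obtain ⟨y, rfl⟩ := h1
    have hsq := awayι_comp_pi 𝒜 𝒞 ι hιdeg π hπ c hn hc
    have h2 : π ((Proj.awayι 𝒜 (ι c) (incl_mem 𝒜 𝒞 ι hιdeg hc) hn) y) =
        (Proj.awayι 𝒞 c hc hn) ((Spec.map (CommRingCat.ofHom (thetaHom 𝒜 𝒞 ι hιdeg c))) y) :=
      congrArg (fun φ : Spec (CommRingCat.of (Away 𝒜 (ι c))) ⟶ Proj 𝒞 => φ y) hsq
    change π ((Proj.awayι 𝒜 (ι c) (incl_mem 𝒜 𝒞 ι hιdeg hc) hn) y) ∈ Proj.basicOpen 𝒞 c
    rw [h2, ← Proj.opensRange_awayι 𝒞 c hc hn]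
    exact ⟨_, rfl⟩

include hGdeg hι hρ hπ in
/-- **`Proj A → Proj A^G` is a quotient by `G`.** -/
theorem isQuot_proj : SGA1.IsQuot ρ π := by
  classical
  -- the index type of charts
  let J := {q : ℕ × C // 0 < q.1 ∧ q.2 ∈ 𝒞 q.1}
  have hmemA : ∀ j : J, ι j.1.2 ∈ 𝒜 j.1.1 := fun j => incl_mem 𝒜 𝒞 ι hιdeg j.2.2
  have hσF : ∀ (j : J) (σ : G), σ • ι j.1.2 = ι j.1.2 := fun j σ =>
    smul_incl 𝒜 𝒞 ι hιdeg j.2.2 σ
  let a : ∀ j : J, Spec (CommRingCat.of (Away 𝒜 (ι j.1.2))) ⟶ Proj 𝒜 := fun j =>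
    Proj.awayι 𝒜 (ι j.1.2) (hmemA j) j.2.1
  let b : ∀ j : J, Spec (CommRingCat.of (Away 𝒞 j.1.2)) ⟶ Proj 𝒞 := fun j =>
    Proj.awayι 𝒞 j.1.2 j.2.2 j.2.1
  have hab : ∀ j : J, a j ≫ π =
      Spec.map (CommRingCat.ofHom (thetaHom 𝒜 𝒞 ι hιdeg j.1.2)) ≫ b j := fun j =>
    awayι_comp_pi 𝒜 𝒞 ι hιdeg π hπ j.1.2 j.2.1 j.2.2
  have hτ : ∀ (j : J) (g : G), a j ≫ (ρ g).hom =
      Spec.map (CommRingCat.ofHom (tauHom 𝒜 hGdeg g⁻¹ (ι j.1.2) (hσF j g⁻¹))) ≫ a j := by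
    intro j g
    rw [← rho_inv_inv 𝒜 ρ g]
    exact awayι_comp_rho_inv 𝒜 hGdeg ρ hρ g⁻¹ (ι j.1.2) j.2.1 (hmemA j) (hσF j g⁻¹)
  have hfix : ∀ (j : J) (g : G),
      CommRingCat.ofHom (thetaHom 𝒜 𝒞 ι hιdeg j.1.2) ≫
        CommRingCat.ofHom (tauHom 𝒜 hGdeg g⁻¹ (ι j.1.2) (hσF j g⁻¹)) =
      CommRingCat.ofHom (thetaHom 𝒜 𝒞 ι hιdeg j.1.2) := by
    intro j g
    refine CommRingCat.hom_ext (RingHom.ext fun x => ?_)
    exact tauHom_thetaHom 𝒜 hGdeg 𝒞 ι hιdeg g⁻¹ j.1.2 j.2.2 x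
  -- the charts of `Proj A` cover
  have hcovA : ∀ x : Proj 𝒜, ∃ j : J, x ∈ (a j).opensRange := by
    intro x
    obtain ⟨n, hn, c, hc, hxc⟩ := exists_incl_notMem 𝒜 hGdeg 𝒞 ι hιdeg x
    refine ⟨⟨(n, c), hn, hc⟩, ?_⟩
    change x ∈ (Proj.awayι 𝒜 (ι c) _ hn).opensRange
    rw [Proj.opensRange_awayι]
    exact (Proj.mem_basicOpen 𝒜 _ x).mpr hxc
  have hcovC : ∀ y : Proj 𝒞, ∃ j : J, y ∈ (b j).opensRange := by
    intro y
    have h1 := (Proj.affineOpenCover 𝒞).covers y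
    set s := (Proj.affineOpenCover 𝒞).idx y with hs
    exact ⟨⟨(s.1, s.2.1), s.1.2, s.2.2⟩, h1⟩
  have hrange : ∀ j : J, (a j).opensRange = π ⁻¹ᵁ (b j).opensRange := by
    intro j
    change (Proj.awayι 𝒜 (ι j.1.2) (hmemA j) j.2.1).opensRange =
      π ⁻¹ᵁ (Proj.awayι 𝒞 j.1.2 j.2.2 j.2.1).opensRange
    rw [Proj.opensRange_awayι, Proj.opensRange_awayι,
      preimage_basicOpen 𝒜 hGdeg 𝒞 ι hιdeg π hπ j.1.2 j.2.1 j.2.2]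
  -- invariance
  have hinv : ∀ g : G, (ρ g).hom ≫ π = π := by
    intro g
    let 𝒰 : (Proj 𝒜).OpenCover := Scheme.Cover.mkOfCovers J _ a (fun x => by
      obtain ⟨j, y, hy⟩ := hcovA x
      exact ⟨j, y, hy⟩)
    refine 𝒰.hom_ext _ _ fun j => ?_
    change a j ≫ (ρ g).hom ≫ π = a j ≫ π
    rw [← Category.assoc, hτ j g, Category.assoc, hab j, ← Category.assoc, ← Spec.map_comp,
      hfix j g]
  -- affineness
  have haff : IsAffineHom π := by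
    apply isAffineHom_of_forall_exists_isAffineOpen
    intro y
    obtain ⟨j, hj⟩ := hcovC y
    refine ⟨(b j).opensRange, hj, isAffineOpen_opensRange (b j), ?_⟩
    rw [← hrange j]
    exact isAffineOpen_opensRange (a j)
  refine Groth.Agent.Lib.T2H7.QuotLocA.isQuot_of_charts ρ π haff hinv
    (fun j : J => CommRingCat.of (Away 𝒞 j.1.2)) (fun j : J => CommRingCat.of (Away 𝒜 (ι j.1.2)))
    (fun j => CommRingCat.ofHom (thetaHom 𝒜 𝒞 ι hιdeg j.1.2))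
    (fun j g => CommRingCat.ofHom (tauHom 𝒜 hGdeg g⁻¹ (ι j.1.2) (hσF j g⁻¹)))
    a b hab hτ hrange hcovC ?_ hfix ?_
  · intro j
    exact thetaHom_injective 𝒜 𝒞 ι hι hιdeg j.1.2
  · intro j t ht
    refine mem_range_thetaHom 𝒜 hGdeg 𝒞 ι hιdeg j.1.2 j.2.2 t ?_
    intro σ
    have h1 := ht σ⁻¹
    rw [tauHom_congr 𝒜 hGdeg _ σ (inv_inv σ) _ _ (hσF j σ)] at h1
    exact h1

end Groth.Agent.Lib.T2H7.ProjQuotC
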