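import Mathlib

/-!
# Henselian couples and disjoint unions

Pullback squares attached to a coproduct of morphisms, and the comparison between open-closed
subsets of `Y ×_{∐ X} ∐ X₀` and of the pieces `Y_j ×_{X_j} X₀_j`.
-/

set_option autoImplicit false
set_option linter.unusedSectionVars false
set_option linter.unusedVariables false
set_option linter.style.haveILetI false

universe u

open CategoryTheory CategoryTheory.Limits AlgebraicGeometry

namespace Groth.Agent.Lib.T2H7.SigmaHens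

variable {ι : Type u}

lemma exists_sigmaι_eq (Y : ι → Scheme.{u}) (z : ↥(∐ Y)) :
    ∃ (i : ι) (y : ↥(Y i)), Sigma.ι Y i y = z := by
  obtain ⟨i, y, hy⟩ := (sigmaOpenCover Y).exists_eq z
  exact ⟨i, y, hy⟩

lemma sigmaι_mem_range_iff (Y : ι → Scheme.{u}) (i j : ι) (y : ↥(Y j)) :
    Sigma.ι Y j y ∈ Set.range (Sigma.ι Y i).base ↔ j = i := by
  constructor
  · rintro ⟨y', hy'⟩
    have := (sigmaι_eq_iff Y i j y' y).mp hy'
    exact (congrArg Sigma.fst this).symm
  · rintro rfl
    exact ⟨y, rfl⟩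

/-- the ranges of the coprojections are closed -/
lemma isClosed_range_sigmaι (Y : ι → Scheme.{u}) (j : ι) :
    IsClosed (Set.range (Sigma.ι Y j).base) := by
  rw [← isOpen_compl_iff]
  have : (Set.range (Sigma.ι Y j).base)ᶜ = ⋃ k : {k : ι // k ≠ j}, Set.range (Sigma.ι Y k.1).base := by
    ext z
    obtain ⟨k, y, rfl⟩ := exists_sigmaι_eq Y z
    simp only [Set.mem_compl_iff, Set.mem_iUnion, sigmaι_mem_range_iff]
    constructor
    · intro h; exact ⟨⟨k, h⟩, rfl⟩
    · rintro ⟨⟨k', hk'⟩, rfl⟩; exact hk'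
  rw [this]
  exact isOpen_iUnion fun k => (Sigma.ι Y k.1).isOpenEmbedding.isOpen_range

instance isClosedImmersion_sigmaι (Y : ι → Scheme.{u}) (j : ι) :
    IsClosedImmersion (Sigma.ι Y j) :=
  IsClosedImmersion.of_isPreimmersion _ (isClosed_range_sigmaι Y j)

variable (X X₀ : ι → Scheme.{u}) (i : ∀ j, X₀ j ⟶ X j)

lemma map_mem_range_iff (j : ι) (z : ↥(∐ X₀)) :
    (Limits.Sigma.map i) z ∈ Set.range (Sigma.ι X j).base ↔ z ∈ Set.range (Sigma.ι X₀ j).base := by
  obtain ⟨k, y, rfl⟩ := exists_sigmaι_eq X₀ z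
  rw [sigmaι_mem_range_iff]
  have e : (Limits.Sigma.map i) (Sigma.ι X₀ k y) = Sigma.ι X k ((i k) y) := by
    rw [← Scheme.Hom.comp_apply, Limits.Sigma.ι_map, Scheme.Hom.comp_apply]
  rw [e, sigmaι_mem_range_iff]

/-- the components of a coproduct of morphisms are its base changes -/
lemma isPullback_sigmaι (j : ι) :
    IsPullback (Sigma.ι X₀ j) (i j) (Limits.Sigma.map i) (Sigma.ι X j) := by
  refine (IsOpenImmersion.isPullback (i j) (Sigma.ι X₀ j) (Sigma.ι X j) (Limits.Sigma.map i)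
    (Limits.Sigma.ι_map _ _) ?_).flip
  ext z
  exact map_mem_range_iff X X₀ i j z

end Groth.Agent.Lib.T2H7.SigmaHens

namespace Groth.Agent.Lib.T2H7.SigmaHens

/-- the couple `(A, A₀)` is henselian (open-closed subsets lift uniquely along finite morphisms) -/
def Hens {A A₀ : Scheme.{u}} (c : A₀ ⟶ A) : Prop :=
  ∀ (Y : Scheme.{u}) (g : Y ⟶ A), IsFinite g →
    ∀ V : Set ↥(pullback g c), IsClopen V →
      ∃! U : Set ↥Y, IsClopen U ∧ (pullback.fst g c).base ⁻¹' U = V

lemma preimage_comp {A B C : Scheme.{u}} (f : A ⟶ B) (g : B ⟶ C) (U : Set ↥C) :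
    (f ≫ g).base ⁻¹' U = f.base ⁻¹' (g.base ⁻¹' U) := rfl

/-- henselian couples are stable under finite base change -/
theorem hens_of_isPullback {A A₀ B B₀ : Scheme.{u}} (c : A₀ ⟶ A) (c' : B₀ ⟶ B) (a : B ⟶ A)
    (a₀ : B₀ ⟶ A₀) (sq : IsPullback a₀ c' c a) [IsFinite a] (h : Hens c) : Hens c' := by
  intro Y g hg V hV
  haveI := hg
  have left : IsPullback (pullback.snd g c') (pullback.fst g c') c' g :=
    (IsPullback.of_hasPullback g c').flip
  have big : IsPullback (pullback.fst g c') (pullback.snd g c' ≫ a₀) (g ≫ a) c :=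
    (left.paste_horiz sq).flip
  let e := big.isoPullback
  have he : e.hom ≫ pullback.fst (g ≫ a) c = pullback.fst g c' := big.isoPullback_hom_fst
  have he' : e.inv ≫ pullback.fst g c' = pullback.fst (g ≫ a) c := big.isoPullback_inv_fst
  obtain ⟨U, ⟨hU, hUV⟩, huniq⟩ := h Y (g ≫ a) inferInstance (e.inv.base ⁻¹' V)
    (hV.preimage e.inv.continuous)
  refine ⟨U, ⟨hU, ?_⟩, ?_⟩
  · rw [← he, preimage_comp, hUV, ← preimage_comp, e.hom_inv_id]
    rfl
  · rintro U' ⟨hU', hU'V⟩
    apply huniq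
    refine ⟨hU', ?_⟩
    rw [← he', preimage_comp, hU'V]

end Groth.Agent.Lib.T2H7.SigmaHens

namespace Groth.Agent.Lib.T2H7.SigmaHens

section Glue

variable {ι : Type u} (X X₀ : ι → Scheme.{u}) (i : ∀ j, X₀ j ⟶ X j)
  {Y : Scheme.{u}} (g : Y ⟶ ∐ X)

/-- the piece of `Y` over `X j` -/
noncomputable abbrev Yj (j : ι) : Scheme.{u} := pullback g (Sigma.ι X j)

/-- its inclusion -/
noncomputable abbrev oj (j : ι) : Yj X g j ⟶ Y := pullback.fst g (Sigma.ι X j)

/-- its structure morphism -/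
noncomputable abbrev gj (j : ι) : Yj X g j ⟶ X j := pullback.snd g (Sigma.ι X j)

/-- the comparison `Y_j ×_{X_j} X₀_j ⟶ Y ×_{∐ X} ∐ X₀` -/
noncomputable def mj (j : ι) : pullback (gj X g j) (i j) ⟶ pullback g (Limits.Sigma.map i) :=
  pullback.lift (pullback.fst (gj X g j) (i j) ≫ oj X g j)
    (pullback.snd (gj X g j) (i j) ≫ Sigma.ι X₀ j) (by
      rw [Category.assoc, pullback.condition, ← Category.assoc, pullback.condition, Category.assoc,
        Category.assoc, Limits.Sigma.ι_map])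

@[reassoc]
lemma mj_fst (j : ι) : mj X X₀ i g j ≫ pullback.fst g (Limits.Sigma.map i) =
    pullback.fst (gj X g j) (i j) ≫ oj X g j := pullback.lift_fst _ _ _

@[reassoc]
lemma mj_snd (j : ι) : mj X X₀ i g j ≫ pullback.snd g (Limits.Sigma.map i) =
    pullback.snd (gj X g j) (i j) ≫ Sigma.ι X₀ j := pullback.lift_snd _ _ _

lemma isPullback_mj (j : ι) :
    IsPullback (pullback.snd (gj X g j) (i j)) (mj X X₀ i g j) (Sigma.ι X₀ j)
      (pullback.snd g (Limits.Sigma.map i)) := by
  have top : IsPullback (pullback.snd (gj X g j) (i j)) (pullback.fst (gj X g j) (i j)) (i j)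
      (gj X g j) := (IsPullback.of_hasPullback (gj X g j) (i j)).flip
  have bot : IsPullback (gj X g j) (oj X g j) (Sigma.ι X j) g :=
    (IsPullback.of_hasPullback g (Sigma.ι X j)).flip
  have outer := top.paste_vert bot
  rw [← Limits.Sigma.ι_map i j, ← mj_fst] at outer
  have bot' : IsPullback (pullback.snd g (Limits.Sigma.map i)) (pullback.fst g (Limits.Sigma.map i))
      (Limits.Sigma.map i) g := (IsPullback.of_hasPullback g (Limits.Sigma.map i)).flip
  exact IsPullback.of_bot outer (mj_snd X X₀ i g j).symm bot'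

lemma range_oj (j : ι) : Set.range (oj X g j).base = g.base ⁻¹' Set.range (Sigma.ι X j).base :=
  Scheme.Pullback.range_fst g (Sigma.ι X j)

lemma exists_mem_range_oj (y : ↥Y) : ∃ j, y ∈ Set.range (oj X g j).base := by
  obtain ⟨j, x, hx⟩ := exists_sigmaι_eq X (g y)
  refine ⟨j, ?_⟩
  rw [range_oj]
  exact ⟨x, hx⟩

lemma eq_of_mem_range_oj {y : ↥Y} {j k : ι} (hj : y ∈ Set.range (oj X g j).base)
    (hk : y ∈ Set.range (oj X g k).base) : j = k := by
  rw [range_oj] at hj hk
  obtain ⟨x, hx⟩ := hj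
  have hk' : g y ∈ Set.range (Sigma.ι X k).base := hk
  have hx' : Sigma.ι X j x = g y := hx
  rw [← hx', sigmaι_mem_range_iff] at hk'
  exact hk'

lemma oj_injective (j : ι) : Function.Injective (oj X g j).base :=
  (oj X g j).isOpenEmbedding.injective

/-- points of `Y ×_{∐ X} ∐ X₀` over `Y_j` come from `Y_j ×_{X_j} X₀_j` -/
lemma exists_mj_eq (j : ι) (z : ↥(pullback g (Limits.Sigma.map i)))
    (hz : (pullback.fst g (Limits.Sigma.map i)).base z ∈ Set.range (oj X g j).base) :
    ∃ p : ↥(pullback (gj X g j) (i j)), (mj X X₀ i g j).base p = z := by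
  rw [range_oj] at hz
  have h1 : (Limits.Sigma.map i).base ((pullback.snd g (Limits.Sigma.map i)).base z) ∈
      Set.range (Sigma.ι X j).base := by
    have e : (Limits.Sigma.map i).base ((pullback.snd g (Limits.Sigma.map i)).base z) =
        g.base ((pullback.fst g (Limits.Sigma.map i)).base z) := by
      change (pullback.snd g (Limits.Sigma.map i) ≫ Limits.Sigma.map i).base z =
        (pullback.fst g (Limits.Sigma.map i) ≫ g).base z
      rw [pullback.condition]
    rw [e]
    exact hz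
  obtain ⟨x, hx⟩ := (map_mem_range_iff X X₀ i j _).1 h1
  obtain ⟨p, -, hp⟩ := Scheme.exists_preimage_of_isPullback (isPullback_mj X X₀ i g j) x z hx
  exact ⟨p, hp⟩

variable [IsFinite g] (H : ∀ j, Hens (i j))
  (V : Set ↥(pullback g (Limits.Sigma.map i))) (hV : IsClopen V)

include H hV in
theorem existsUnique_clopen :
    ∃! U : Set ↥Y, IsClopen U ∧ (pullback.fst g (Limits.Sigma.map i)).base ⁻¹' U = V := by
  have hVj : ∀ j, IsClopen ((mj X X₀ i g j).base ⁻¹' V) :=
    fun j => hV.preimage (mj X X₀ i g j).continuous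
  have hex := fun j => H j (Yj X g j) (gj X g j) inferInstance _ (hVj j)
  choose Uj hUj huniq using hex
  let U : Set ↥Y := ⋃ j, (oj X g j).base '' Uj j
  -- membership in `U` can be tested on the pieces
  have key : ∀ (j : ι) (y' : ↥(Yj X g j)), (oj X g j).base y' ∈ U ↔ y' ∈ Uj j := by
    intro j y'
    constructor
    · intro hy
      obtain ⟨k, hk⟩ := Set.mem_iUnion.1 hy
      obtain ⟨y'', hy'', e⟩ := hk
      have hjk : k = j := eq_of_mem_range_oj X g ⟨y'', e⟩ ⟨y', rfl⟩
      subst hjk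
      have := oj_injective X g k e
      rw [← this]
      exact hy''
    · intro hy
      exact Set.mem_iUnion.2 ⟨j, y', hy, rfl⟩
  have hUopen : IsOpen U :=
    isOpen_iUnion fun j => (oj X g j).isOpenEmbedding.isOpenMap _ (hUj j).1.isOpen
  have hUc : Uᶜ = ⋃ j, (oj X g j).base '' (Uj j)ᶜ := by
    ext y
    obtain ⟨j, y', rfl⟩ := exists_mem_range_oj X g y
    rw [Set.mem_compl_iff, key]
    constructor
    · intro hy
      exact Set.mem_iUnion.2 ⟨j, y', hy, rfl⟩
    · intro hy
      obtain ⟨k, y'', hy'', e⟩ := Set.mem_iUnion.1 hy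
      have hjk : k = j := eq_of_mem_range_oj X g ⟨y'', e⟩ ⟨y', rfl⟩
      subst hjk
      have := oj_injective X g k e
      rw [← this]
      exact hy''
  have hUclosed : IsClosed U := by
    rw [← isOpen_compl_iff, hUc]
    exact isOpen_iUnion fun j => (oj X g j).isOpenEmbedding.isOpenMap _ (hUj j).1.isClosed.isOpen_compl
  have hpre : ∀ j, (pullback.fst (gj X g j) (i j)).base ⁻¹' ((oj X g j).base ⁻¹' U) =
      (mj X X₀ i g j).base ⁻¹' ((pullback.fst g (Limits.Sigma.map i)).base ⁻¹' U) := by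
    intro j
    rw [← preimage_comp, ← preimage_comp, mj_fst]
  refine ⟨U, ⟨⟨hUclosed, hUopen⟩, ?_⟩, ?_⟩
  · ext z
    obtain ⟨j, hj⟩ := exists_mem_range_oj X g ((pullback.fst g (Limits.Sigma.map i)).base z)
    obtain ⟨p, rfl⟩ := exists_mj_eq X X₀ i g j z hj
    have e : (pullback.fst g (Limits.Sigma.map i)).base ((mj X X₀ i g j).base p) =
        (oj X g j).base ((pullback.fst (gj X g j) (i j)).base p) := by
      change (mj X X₀ i g j ≫ pullback.fst g (Limits.Sigma.map i)).base p = _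
      rw [mj_fst]
      rfl
    rw [Set.mem_preimage, e, key]
    have h2 : p ∈ (pullback.fst (gj X g j) (i j)).base ⁻¹' Uj j ↔
        p ∈ (mj X X₀ i g j).base ⁻¹' V := by rw [(hUj j).2]
    exact h2
  · rintro U' ⟨hU', hU'V⟩
    ext y
    obtain ⟨j, y', rfl⟩ := exists_mem_range_oj X g y
    rw [key]
    have h3 : (oj X g j).base ⁻¹' U' = Uj j := by
      apply huniq j
      refine ⟨hU'.preimage (oj X g j).continuous, ?_⟩
      rw [← preimage_comp, ← mj_fst, preimage_comp, hU'V]
    rw [← h3]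
    rfl

end Glue

end Groth.Agent.Lib.T2H7.SigmaHens
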