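import Mathlib
import Groth.Agent.S17971
import Groth.Agent.Lib.T2H7SigmaHens
import Groth.Agent.Lib.T2H9SteinFib
import Groth.Agent.Lib.Helper14LocNoeth

/-!
# Proper schemes over henselian pairs are henselian couples (helper7, S17961 / S17960 / S13506)

* `clopenLift_preimage`: lifting of open-closed subsets passes to the source of a closed surjection
  with connected fibres (pure topology).
* `clopenLift_of_connected_fibres`: scheme form, with a henselian couple downstairs.
* `hens_of_proper_over_henselian`: `X` proper over a Noetherian henselian pair `(A, I)`: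
  `(X, X ×_A A/I)` is a henselian couple (via helper9's Stein factorisation with connected fibres
  and S17971).
* `connectedComponentsMap_bijective(_of_proper)`: the induced bijection on connected components.
-/

set_option autoImplicit false
set_option linter.unusedSectionVars false
set_option linter.unusedVariables false
set_option linter.style.haveILetI false
universe u
open CategoryTheory CategoryTheory.Limits AlgebraicGeometry Topology

namespace Groth.Agent.Lib.T2H7.ProperHens

open Groth.Agent.S17971 (ClopenLift clopenLift_embedding_iff)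
open Groth.Agent.Lib.T2H7.SigmaHens (Hens hens_of_isPullback)

section Top

variable {E E' : Type*} [TopologicalSpace E] [TopologicalSpace E']

/-- open-closed subsets are saturated for a map with preconnected fibres -/
theorem mem_of_map_eq (π : E → E') (hconn : ∀ y', IsPreconnected (π ⁻¹' {y'}))
    {V : Set E} (hV : IsClopen V) {x v : E} (hv : v ∈ V) (hxv : π x = π v) : x ∈ V := by
  have h1 : π ⁻¹' {π v} ⊆ V :=
    (hconn (π v)).subset_isClopen hV ⟨v, rfl, hv⟩
  exact h1 hxv

theorem preimage_image_eq_of_isClopen (π : E → E') (hconn : ∀ y', IsPreconnected (π ⁻¹' {y'}))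
    {V : Set E} (hV : IsClopen V) : π ⁻¹' (π '' V) = V := by
  apply Set.Subset.antisymm
  · rintro x ⟨v, hv, hvx⟩
    exact mem_of_map_eq π hconn hV hv hvx.symm
  · exact Set.subset_preimage_image π V

/-- a closed surjection with preconnected fibres maps open-closed subsets to open-closed subsets -/
theorem isClopen_image (π : E → E') (hcl : IsClosedMap π) (hsurj : Function.Surjective π)
    (hconn : ∀ y', IsPreconnected (π ⁻¹' {y'})) {V : Set E} (hV : IsClopen V) :
    IsClopen (π '' V) := by
  refine ⟨hcl _ hV.isClosed, ?_⟩
  have hcompl : (π '' V)ᶜ = π '' Vᶜ := by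
    ext y'
    constructor
    · intro hy'
      obtain ⟨x, rfl⟩ := hsurj y'
      refine ⟨x, ?_, rfl⟩
      intro hx
      exact hy' ⟨x, hx, rfl⟩
    · rintro ⟨x, hx, rfl⟩ ⟨v, hv, hvx⟩
      exact hx (mem_of_map_eq π hconn hV hv hvx.symm)
  rw [← isClosed_compl_iff, hcompl]
  exact hcl _ hV.compl.isClosed

/-- **Lifting of open-closed subsets passes to the source of a closed surjection with connected
fibres.** -/
theorem clopenLift_preimage (π : E → E') (hc : Continuous π) (hcl : IsClosedMap π)
    (hsurj : Function.Surjective π) (hconn : ∀ y', IsPreconnected (π ⁻¹' {y'}))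
    (Z' : Set E') (H : ClopenLift (Subtype.val : Z' → E')) :
    ClopenLift (Subtype.val : (π ⁻¹' Z') → E) := by
  intro V hV
  -- the restricted map
  let π₀ : (π ⁻¹' Z') → Z' := Z'.restrictPreimage π
  have hπ₀ : ∀ e, (π₀ e : E') = π e := fun _ => rfl
  have hc₀ : Continuous π₀ := hc.restrictPreimage
  have hcl₀ : IsClosedMap π₀ := hcl.restrictPreimage Z'
  have hsurj₀ : Function.Surjective π₀ := by
    rintro ⟨y', hy'⟩
    obtain ⟨x, rfl⟩ := hsurj y'
    exact ⟨⟨x, hy'⟩, rfl⟩
  have hconn₀ : ∀ y', IsPreconnected (π₀ ⁻¹' {y'}) := by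
    rintro ⟨y', hy'⟩
    rw [← Topology.IsInducing.subtypeVal.isPreconnected_image]
    have : (Subtype.val : (π ⁻¹' Z') → E) '' (π₀ ⁻¹' {⟨y', hy'⟩}) = π ⁻¹' {y'} := by
      ext x
      constructor
      · rintro ⟨e, he, rfl⟩
        have : π₀ e = ⟨y', hy'⟩ := he
        exact congrArg Subtype.val this
      · intro hx
        have hx' : π x = y' := hx
        refine ⟨⟨x, ?_⟩, ?_, rfl⟩
        · change π x ∈ Z'
          rw [hx']
          exact hy'
        · change π₀ _ = _
          exact Subtype.ext hx'
    rw [this]
    exact hconn y'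
  set T : Set Z' := π₀ '' V with hT
  have hTcl : IsClopen T := isClopen_image π₀ hcl₀ hsurj₀ hconn₀ hV
  have hTV : π₀ ⁻¹' T = V := preimage_image_eq_of_isClopen π₀ hconn₀ hV
  obtain ⟨U', ⟨hU', hU'T⟩, huniq⟩ := H T hTcl
  refine ⟨π ⁻¹' U', ⟨hU'.preimage hc, ?_⟩, ?_⟩
  · rw [← hTV, ← hU'T]
    rfl
  · rintro U₁ ⟨hU₁, hU₁V⟩
    have h1 : IsClopen (π '' U₁) := isClopen_image π hcl hsurj hconn hU₁
    have h2 : π ⁻¹' (π '' U₁) = U₁ := preimage_image_eq_of_isClopen π hconn hU₁
    have h3 : (Subtype.val : Z' → E') ⁻¹' (π '' U₁) = T := by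
      ext ⟨y', hy'⟩
      constructor
      · rintro ⟨u, hu, hux⟩
        have hux' : π u = y' := hux
        have huZ : u ∈ π ⁻¹' Z' := by
          change π u ∈ Z'
          rw [hux']
          exact hy'
        refine ⟨⟨u, huZ⟩, ?_, Subtype.ext hux'⟩
        rw [← hU₁V]
        exact hu
      · rintro ⟨v, hv, hvy⟩
        refine ⟨v.1, ?_, congrArg Subtype.val hvy⟩
        rw [← hU₁V] at hv
        exact hv
    have h4 := huniq (π '' U₁) ⟨h1, h3⟩
    rw [← h2, h4]

/-- `ClopenLift` of an embedding only depends on its range -/
theorem clopenLift_iff_of_range_eq {P Y : Type*} [TopologicalSpace P] [TopologicalSpace Y]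
    (p : P → Y) (hp : IsEmbedding p) (Z : Set Y) (hZ : Set.range p = Z) :
    ClopenLift p ↔ ClopenLift (Subtype.val : Z → Y) := by
  subst hZ
  exact clopenLift_embedding_iff p hp

end Top

section Sch

/-- a henselian couple `(Y', Y'₀)`: open-closed subsets lift uniquely from the closed subset -/
theorem clopenLift_val_of_hens {Y' Y'₀ : Scheme.{u}} (c' : Y'₀ ⟶ Y') [IsClosedImmersion c']
    (H : Hens c') : ClopenLift (Subtype.val : (Set.range c'.base) → Y') := by
  have h1 : ClopenLift (pullback.fst (𝟙 Y') c').base := H Y' (𝟙 Y') inferInstance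
  haveI : IsClosedImmersion (pullback.fst (𝟙 Y') c') :=
    MorphismProperty.pullback_fst _ _ inferInstance
  have hr : Set.range (pullback.fst (𝟙 Y') c').base = Set.range c'.base := by
    have := Scheme.Pullback.range_fst (𝟙 Y') c'
    rw [this]
    rfl
  exact (clopenLift_iff_of_range_eq _
    (pullback.fst (𝟙 Y') c').isClosedEmbedding.isEmbedding _ hr).mp h1

/-- **Main lemma.** `π : Y ⟶ Y'` a closed map with connected fibres, `(Y', Y'₀)` a henselian
couple, and `p : P ⟶ Y` a topological embedding onto the preimage of `Y'₀`: open-closed subsets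
lift uniquely along `p`. -/
theorem clopenLift_of_connected_fibres {Y Y' Y'₀ P : Scheme.{u}} (π : Y ⟶ Y')
    (hcl : IsClosedMap π.base) (hconn : ∀ y', _root_.IsConnected (π.base ⁻¹' {y'}))
    (c' : Y'₀ ⟶ Y') [IsClosedImmersion c'] (H : Hens c') (p : P ⟶ Y)
    (hp : IsEmbedding p.base) (hrange : Set.range p.base = π.base ⁻¹' (Set.range c'.base)) :
    ClopenLift p.base := by
  have hsurj : Function.Surjective π.base := by
    intro y'
    obtain ⟨x, hx⟩ := (hconn y').nonempty
    exact ⟨x, hx⟩
  have h1 := clopenLift_preimage π.base π.continuous hcl hsurj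
    (fun y' => (hconn y').isPreconnected) _ (clopenLift_val_of_hens c' H)
  exact (clopenLift_iff_of_range_eq p.base hp _ hrange).mpr h1

end Sch

/-- **Proper over a (Noetherian) henselian pair is a henselian couple.** -/
theorem hens_of_proper_over_henselian (A : Type u) [CommRing A] [IsNoetherianRing A] (I : Ideal A)
    [HenselianRing A I] {X : Scheme.{u}} (f : X ⟶ Spec (CommRingCat.of A)) [IsProper f] :
    Hens (pullback.fst f (Spec.map (CommRingCat.ofHom (Ideal.Quotient.mk I)))) := by
  intro Y g hg
  haveI := hg
  set q := Spec.map (CommRingCat.ofHom (Ideal.Quotient.mk I)) with hq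
  set i₀ := pullback.fst f q with hi₀
  let h := g ≫ f
  haveI : IsProper h := inferInstance
  let π := h.toNormalization
  let ρ := h.fromNormalization
  haveI : IsFinite ρ := Groth.Agent.Lib.T2H9.SteinFib.isFinite_fromNormalization h
  haveI : IsProper π := Groth.Agent.Lib.T2H9.SteinFib.isProper_toNormalization h
  have Hq : Hens q := (Groth.Agent.S17971.result A I).mp inferInstance
  have Hc' : Hens (pullback.fst ρ q) :=
    hens_of_isPullback q (pullback.fst ρ q) ρ (pullback.snd ρ q)
      (IsPullback.of_hasPullback ρ q).flip Hq
  haveI : IsClosedImmersion q :=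
    IsClosedImmersion.spec_of_surjective _ Ideal.Quotient.mk_surjective
  haveI : IsClosedImmersion (pullback.fst ρ q) := MorphismProperty.pullback_fst _ _ inferInstance
  haveI : IsClosedImmersion i₀ := MorphismProperty.pullback_fst _ _ inferInstance
  haveI : IsClosedImmersion (pullback.fst g i₀) := MorphismProperty.pullback_fst _ _ inferInstance
  apply clopenLift_of_connected_fibres π π.isClosedMap
    (Groth.Agent.Lib.T2H9.SteinFib.isConnected_preimage_toNormalization h) (pullback.fst ρ q) Hc'
    (pullback.fst g i₀) (pullback.fst g i₀).isClosedEmbedding.isEmbedding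
  have e1 := Scheme.Pullback.range_fst g i₀
  have e2 := Scheme.Pullback.range_fst f q
  have e3 := Scheme.Pullback.range_fst ρ q
  rw [e1, e2, e3]
  have hπρ : π ≫ ρ = g ≫ f := h.toNormalization_fromNormalization
  ext y
  simp only [Set.mem_preimage]
  rw [← Scheme.Hom.comp_apply, ← Scheme.Hom.comp_apply, hπρ]

/-- unique lifting of open-closed subsets gives a bijection on connected components, when connected
components are open -/
theorem connectedComponentsMap_bijective {P Y : Type*} [TopologicalSpace P] [TopologicalSpace Y]
    (p : P → Y) (hp : Continuous p) (H : ClopenLift p)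
    (hP : ∀ x : P, IsOpen (connectedComponent x)) (hY : ∀ y : Y, IsOpen (connectedComponent y)) :
    Function.Bijective hp.connectedComponentsMap := by
  constructor
  · intro a b hab
    obtain ⟨x, rfl⟩ := ConnectedComponents.surjective_coe a
    obtain ⟨x', rfl⟩ := ConnectedComponents.surjective_coe b
    have h1 : connectedComponent (p x) = connectedComponent (p x') :=
      ConnectedComponents.coe_eq_coe.mp hab
    have hC : IsClopen (connectedComponent x) := ⟨isClosed_connectedComponent, hP x⟩
    obtain ⟨U, ⟨hU, hUC⟩, -⟩ := H _ hC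
    have hx : p x ∈ U := by
      have : x ∈ p ⁻¹' U := by rw [hUC]; exact mem_connectedComponent
      exact this
    have h2 : connectedComponent (p x) ⊆ U := hU.connectedComponent_subset hx
    have h3 : p x' ∈ U := h2 (h1 ▸ mem_connectedComponent)
    have h4 : x' ∈ connectedComponent x := by
      rw [← hUC]
      exact h3
    exact ConnectedComponents.coe_eq_coe.mpr (connectedComponent_eq h4)
  · intro b
    obtain ⟨y, rfl⟩ := ConnectedComponents.surjective_coe b
    have hD : IsClopen (connectedComponent y) := ⟨isClosed_connectedComponent, hY y⟩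
    have hne : (p ⁻¹' connectedComponent y).Nonempty := by
      by_contra hempty
      rw [Set.not_nonempty_iff_eq_empty] at hempty
      obtain ⟨U, -, huniq⟩ := H ∅ isClopen_empty
      have e1 := huniq _ ⟨hD, hempty⟩
      have e2 := huniq ∅ ⟨isClopen_empty, Set.preimage_empty⟩
      have : connectedComponent y = ∅ := e1.trans e2.symm
      have hy : y ∈ connectedComponent y := mem_connectedComponent
      rw [this] at hy
      exact hy
    obtain ⟨x, hx⟩ := hne
    refine ⟨(x : ConnectedComponents P), ?_⟩
    exact ConnectedComponents.coe_eq_coe.mpr (connectedComponent_eq hx).symm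

/-- connected components of `X₀` and of `X`, for `X` proper over a Noetherian henselian pair -/
theorem connectedComponentsMap_bijective_of_proper (A : Type u) [CommRing A] [IsNoetherianRing A]
    (I : Ideal A) [HenselianRing A I] {X : Scheme.{u}} (f : X ⟶ Spec (CommRingCat.of A))
    [IsProper f] :
    Function.Bijective
      (Continuous.connectedComponentsMap
        (pullback.fst f (Spec.map (CommRingCat.ofHom (Ideal.Quotient.mk I)))).continuous) := by
  set q := Spec.map (CommRingCat.ofHom (Ideal.Quotient.mk I)) with hq
  haveI : IsClosedImmersion q :=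
    IsClosedImmersion.spec_of_surjective _ Ideal.Quotient.mk_surjective
  haveI : IsClosedImmersion (pullback.fst f q) := MorphismProperty.pullback_fst _ _ inferInstance
  haveI : IsLocallyNoetherian X := LocallyOfFiniteType.isLocallyNoetherian f
  haveI : CompactSpace ↥X := QuasiCompact.compactSpace_of_compactSpace f
  haveI : IsNoetherian X := ⟨⟩
  haveI : TopologicalSpace.NoetherianSpace ↥X := inferInstance
  haveI : TopologicalSpace.NoetherianSpace ↥(pullback f q) :=
    (pullback.fst f q).isClosedEmbedding.isInducing.noetherianSpace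
  have H := hens_of_proper_over_henselian A I f X (𝟙 X) inferInstance
  have hr : Set.range (pullback.fst (𝟙 X) (pullback.fst f q)).base =
      Set.range (pullback.fst f q).base := by
    have := Scheme.Pullback.range_fst (𝟙 X) (pullback.fst f q)
    rw [this]
    rfl
  haveI : IsClosedImmersion (pullback.fst (𝟙 X) (pullback.fst f q)) :=
    MorphismProperty.pullback_fst _ _ inferInstance
  have H' : ClopenLift (pullback.fst f q).base :=
    (Groth.Agent.S17971.clopenLift_of_range_eq _
      (pullback.fst (𝟙 X) (pullback.fst f q)).isClosedEmbedding.isEmbedding _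
      (pullback.fst f q).isClosedEmbedding.isEmbedding (Homeomorph.refl _)
      (by rw [hr]; simp)).mp H
  exact connectedComponentsMap_bijective _ _ H'
    (fun x => Groth.Agent.Lib.Helper14.isOpen_connectedComponent_of_noetherianSpace x)
    (fun y => Groth.Agent.Lib.Helper14.isOpen_connectedComponent_of_noetherianSpace y)

end Groth.Agent.Lib.T2H7.ProperHens
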