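import Mathlib
import Groth.Agent.Lib.T2H7ProperHens

/-!
# Henselian global sections give a henselian couple, for proper schemes (helper7, S17960)

* `exists_iso_toSpecΓ`, `isClosedMap_toSpecΓ`, `isConnected_preimage_toSpecΓ`: for `W` proper over
  a Noetherian affine scheme, `W → Spec Γ(W, O_W)` is (up to an isomorphism) the first map of the
  Stein factorisation: a closed map with connected fibres.
* `finite_appTop`: `Γ(X) → Γ(W)` is finite for `W → X → S`, `W` proper over `S` Noetherian affine.
* `range_fst_eq_zeroLocus`: `X ×_A A/I ⊆ X` is the zero locus of the global functions vanishing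
  on it.
* `hens_of_henselian_globalSections`.
-/

set_option autoImplicit false
set_option linter.unusedSectionVars false
set_option linter.unusedVariables false
set_option linter.style.haveILetI false
set_option linter.unusedTactic false
universe u
open CategoryTheory CategoryTheory.Limits AlgebraicGeometry Topology

namespace Groth.Agent.Lib.T2H7.ProperHensB

open Groth.Agent.S17971 (ClopenLift clopenLift_embedding_iff)
open Groth.Agent.Lib.T2H7.SigmaHens (Hens hens_of_isPullback)
open Groth.Agent.Lib.T2H7.ProperHens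

section Stein

variable {W S : Scheme.{u}} (hW : W ⟶ S) [IsProper hW] [IsLocallyNoetherian S] [IsAffine S]

/-- For `W` proper over a Noetherian affine scheme, `W → Spec Γ(W, O_W)` factors as the first map
of the Stein factorisation followed by an isomorphism. -/
theorem exists_iso_toSpecΓ :
    ∃ θ : hW.normalization ≅ Spec Γ(W, ⊤), W.toSpecΓ = hW.toNormalization ≫ θ.hom := by
  haveI : IsFinite hW.fromNormalization :=
    Groth.Agent.Lib.T2H9.SteinFib.isFinite_fromNormalization hW
  haveI : IsAffine hW.normalization := isAffine_of_isAffineHom hW.fromNormalization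
  haveI h1 : IsIso (hW.toNormalization.appTop) :=
    Groth.Agent.Lib.T2H9.SteinFib.isIso_toNormalization_app hW ⊤ (isAffineOpen_top _)
  haveI : IsIso (hW.normalization.toSpecΓ) := IsAffine.affine
  have hnat := Scheme.toSpecΓ_naturality hW.toNormalization
  refine ⟨asIso hW.normalization.toSpecΓ ≪≫ (asIso (Spec.map hW.toNormalization.appTop)).symm, ?_⟩
  simp only [Iso.trans_hom, asIso_hom, Iso.symm_hom, asIso_inv]
  rw [← Category.assoc, hnat, Category.assoc, IsIso.hom_inv_id, Category.comp_id]

include hW in
theorem isClosedMap_toSpecΓ : IsClosedMap W.toSpecΓ.base := by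
  obtain ⟨θ, hθ⟩ := exists_iso_toSpecΓ hW
  haveI : IsProper hW.toNormalization :=
    Groth.Agent.Lib.T2H9.SteinFib.isProper_toNormalization hW
  rw [hθ]
  exact (hW.toNormalization ≫ θ.hom).isClosedMap

include hW in
theorem isConnected_preimage_toSpecΓ (z : ↥(Spec Γ(W, ⊤))) :
    _root_.IsConnected (W.toSpecΓ.base ⁻¹' {z}) := by
  obtain ⟨θ, hθ⟩ := exists_iso_toSpecΓ hW
  have h1 := Groth.Agent.Lib.T2H9.SteinFib.isConnected_preimage_toNormalization hW (θ.inv.base z)
  have h2 : W.toSpecΓ.base ⁻¹' {z} = hW.toNormalization.base ⁻¹' {θ.inv.base z} := by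
    ext w
    simp only [Set.mem_preimage, Set.mem_singleton_iff]
    rw [hθ]
    constructor
    · intro h
      rw [← h, Scheme.Hom.comp_apply]
      change _ = (θ.hom ≫ θ.inv).base _
      rw [θ.hom_inv_id]
      rfl
    · intro h
      rw [Scheme.Hom.comp_apply]
      change θ.hom.base (hW.toNormalization.base w) = z
      rw [h]
      change (θ.inv ≫ θ.hom).base z = z
      rw [θ.inv_hom_id]
      rfl
  rw [h2]
  exact h1

/-- global sections of a proper scheme over a Noetherian affine base are finite over the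
global sections of any scheme it is finite over... here: `g.appTop` is finite for `g : Y ⟶ X`
with `Y` proper over `S`. -/
theorem finite_appTop {X : Scheme.{u}} (g : W ⟶ X) (f : X ⟶ S) (hgf : g ≫ f = hW) :
    g.appTop.hom.Finite := by
  letI := (hW.app ⊤).hom.toAlgebra
  have h1 : Module.Finite Γ(S, ⊤) Γ(W, hW ⁻¹ᵁ ⊤) :=
    Groth.Agent.Lib.T2H9.SteinFinite.finite_sections_of_isProper hW ⊤ (isAffineOpen_top _)
  have h2 : (hW.appTop).hom.Finite := h1
  have h3 : hW.appTop = f.appTop ≫ g.appTop := by
    rw [← hgf, Scheme.Hom.comp_appTop]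
  rw [h3] at h2
  exact RingHom.Finite.of_comp_finite h2

end Stein

theorem range_specMap_mk {R : Type u} [CommRing R] (J : Ideal R) :
    Set.range (Spec.map (CommRingCat.ofHom (Ideal.Quotient.mk J))).base =
      PrimeSpectrum.zeroLocus (J : Set R) := by
  have := _root_.range_comap_of_surjective _ (Ideal.Quotient.mk J) Ideal.Quotient.mk_surjective
  rw [Ideal.mk_ker] at this
  exact this

/-- the closed subset `X ×_A A/I` of `X` is the zero locus of the global functions vanishing on
it -/
theorem range_fst_eq_zeroLocus (A : Type u) [CommRing A] (I : Ideal A) {X : Scheme.{u}}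
    (f : X ⟶ Spec (CommRingCat.of A)) :
    Set.range (pullback.fst f (Spec.map (CommRingCat.ofHom (Ideal.Quotient.mk I)))).base =
      X.toSpecΓ.base ⁻¹' (PrimeSpectrum.zeroLocus
        (RingHom.ker (pullback.fst f (Spec.map
          (CommRingCat.ofHom (Ideal.Quotient.mk I)))).appTop.hom : Set Γ(X, ⊤))) := by
  set q := Spec.map (CommRingCat.ofHom (Ideal.Quotient.mk I)) with hq
  set i₀ := pullback.fst f q with hi₀
  have hpre := Scheme.toSpecΓ_preimage_zeroLocus X
    (RingHom.ker i₀.appTop.hom : Set Γ(X, ⊤))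
  refine Eq.trans ?_ hpre.symm
  ext x
  rw [Scheme.mem_zeroLocus_iff]
  constructor
  · rintro ⟨x₀, rfl⟩ b hb hx
    have h1 : x₀ ∈ i₀ ⁻¹ᵁ X.basicOpen b := hx
    rw [Scheme.preimage_basicOpen_top] at h1
    have h2 : i₀.appTop b = 0 := hb
    rw [h2, Scheme.basicOpen_zero] at h1
    exact h1
  · intro hx
    have hr := Scheme.Pullback.range_fst f q
    have hx' : x ∈ f.base ⁻¹' Set.range q.base := by
      rw [range_specMap_mk I]
      change (I : Set A) ⊆ ((f.base x : PrimeSpectrum A).asIdeal : Set A)
      intro a ha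
      by_contra hna
      set b : Γ(X, ⊤) := f.appTop ((Scheme.ΓSpecIso (CommRingCat.of A)).inv a) with hb
      have hbJ : b ∈ (RingHom.ker i₀.appTop.hom : Set Γ(X, ⊤)) := by
        change i₀.appTop.hom b = 0
        have e1 : i₀.appTop.hom b = ((i₀ ≫ f).appTop).hom
            ((Scheme.ΓSpecIso (CommRingCat.of A)).inv a) := by
          rw [Scheme.Hom.comp_appTop]
          rfl
        rw [e1, show i₀ ≫ f = pullback.snd f q ≫ q from pullback.condition,
          Scheme.Hom.comp_appTop]
        have e2 : q.appTop.hom ((Scheme.ΓSpecIso (CommRingCat.of A)).inv a) =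
            (Scheme.ΓSpecIso (CommRingCat.of (A ⧸ I))).inv (Ideal.Quotient.mk I a) := by
          have := Scheme.ΓSpecIso_inv_naturality (CommRingCat.ofHom (Ideal.Quotient.mk I))
          exact (congrArg (fun φ => φ.hom a) this).symm
        change (pullback.snd f q).appTop.hom (q.appTop.hom _) = 0
        rw [e2, Ideal.Quotient.eq_zero_iff_mem.mpr ha, map_zero, map_zero]
      apply hx b hbJ
      have e3 : X.basicOpen b =
          f ⁻¹ᵁ ((Spec (CommRingCat.of A)).basicOpen
            ((Scheme.ΓSpecIso (CommRingCat.of A)).inv a)) :=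
        (Scheme.preimage_basicOpen_top f _).symm
      rw [e3, basicOpen_eq_of_affine]
      exact hna
    rw [← hr] at hx'
    exact hx'

/-- **`X` proper over Noetherian `A`, `(Γ(X), ker(Γ(X) → Γ(X₀)))` henselian: `(X, X₀)` is a
henselian couple.** -/
theorem hens_of_henselian_globalSections (A : Type u) [CommRing A] [IsNoetherianRing A]
    (I : Ideal A) {X : Scheme.{u}} (f : X ⟶ Spec (CommRingCat.of A)) [IsProper f]
    (h : HenselianRing (Γ(X, ⊤) : Type u)
      (RingHom.ker (pullback.fst f (Spec.map
        (CommRingCat.ofHom (Ideal.Quotient.mk I)))).appTop.hom)) :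
    Hens (pullback.fst f (Spec.map (CommRingCat.ofHom (Ideal.Quotient.mk I)))) := by
  intro Y g hg
  haveI := hg
  set q := Spec.map (CommRingCat.ofHom (Ideal.Quotient.mk I)) with hq
  set i₀ := pullback.fst f q with hi₀
  set J : Ideal (Γ(X, ⊤) : Type u) := RingHom.ker i₀.appTop.hom with hJ
  let hY := g ≫ f
  haveI : IsProper hY := inferInstance
  let ρ : Spec Γ(Y, ⊤) ⟶ Spec Γ(X, ⊤) := Spec.map g.appTop
  haveI : IsFinite ρ := by
    rw [IsFinite.SpecMap_iff]
    exact finite_appTop hY g f rfl
  let c : Spec (CommRingCat.of ((Γ(X, ⊤) : Type u) ⧸ J)) ⟶ Spec Γ(X, ⊤) :=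
    Spec.map (CommRingCat.ofHom (Ideal.Quotient.mk J))
  have Hc : Hens c := (Groth.Agent.S17971.result (Γ(X, ⊤) : Type u) J).mp h
  have Hc' : Hens (pullback.fst ρ c) :=
    hens_of_isPullback c (pullback.fst ρ c) ρ (pullback.snd ρ c)
      (IsPullback.of_hasPullback ρ c).flip Hc
  haveI : IsClosedImmersion q :=
    IsClosedImmersion.spec_of_surjective _ Ideal.Quotient.mk_surjective
  haveI : IsClosedImmersion c :=
    IsClosedImmersion.spec_of_surjective _ Ideal.Quotient.mk_surjective
  haveI : IsClosedImmersion (pullback.fst ρ c) := MorphismProperty.pullback_fst _ _ inferInstance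
  haveI : IsClosedImmersion i₀ := MorphismProperty.pullback_fst _ _ inferInstance
  haveI : IsClosedImmersion (pullback.fst g i₀) := MorphismProperty.pullback_fst _ _ inferInstance
  apply clopenLift_of_connected_fibres Y.toSpecΓ (isClosedMap_toSpecΓ hY)
    (isConnected_preimage_toSpecΓ hY) (pullback.fst ρ c) Hc'
    (pullback.fst g i₀) (pullback.fst g i₀).isClosedEmbedding.isEmbedding
  have e1 := Scheme.Pullback.range_fst g i₀
  have e2 := range_fst_eq_zeroLocus A I f
  have e3 := Scheme.Pullback.range_fst ρ c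
  have e4 : Set.range c.base = PrimeSpectrum.zeroLocus (J : Set Γ(X, ⊤)) := range_specMap_mk J
  rw [e1, e3, e4]
  have e2' : Set.range i₀.base = X.toSpecΓ.base ⁻¹' PrimeSpectrum.zeroLocus (J : Set Γ(X, ⊤)) := e2
  rw [e2']
  have hnat : g ≫ X.toSpecΓ = Y.toSpecΓ ≫ ρ := Scheme.toSpecΓ_naturality g
  ext y
  simp only [Set.mem_preimage]
  rw [← Scheme.Hom.comp_apply, ← Scheme.Hom.comp_apply, hnat]

end Groth.Agent.Lib.T2H7.ProperHensB
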