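import Mathlib
import Groth.Agent.Lib.T2H7ProperHensB
import Groth.Agent.Lib.T2H7HensCouple

/-!
# A proper henselian couple is proper over a henselian pair (helper7, S17965)

`A' = Γ(X, O_X)`, `I' = ker (Γ(X) → Γ(X₀))`: `isProper_toSpecΓ`, `isNoetherianRing_globalSections`,
`exists_isPullback` (`X₀ = X ×_{Γ(X)} Γ(X)/J`), `exists_proper_over_henselian_pair`.
-/

set_option autoImplicit false
set_option linter.unusedSectionVars false
set_option linter.unusedVariables false
set_option linter.style.haveILetI false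
universe u
open CategoryTheory CategoryTheory.Limits AlgebraicGeometry Topology

namespace Groth.Agent.Lib.T2H7.ProperHensC

open Groth.Agent.Lib.T2H7.SigmaHens (Hens hens_of_isPullback)

/-- `X → Spec Γ(X)` is proper when `X` is proper over an affine scheme -/
theorem isProper_toSpecΓ (A : Type u) [CommRing A] {X : Scheme.{u}}
    (f : X ⟶ Spec (CommRingCat.of A)) [IsProper f] : IsProper X.toSpecΓ := by
  have h := Groth.Agent.S17971.hom_eq f
  haveI : IsProper (X.toSpecΓ ≫
      Spec.map ((Scheme.ΓSpecIso (CommRingCat.of A)).inv ≫ f.appTop)) := by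
    rw [h]; infer_instance
  exact IsProper.of_comp X.toSpecΓ
    (Spec.map ((Scheme.ΓSpecIso (CommRingCat.of A)).inv ≫ f.appTop))

theorem isNoetherianRing_globalSections (A : Type u) [CommRing A] [IsNoetherianRing A]
    {X : Scheme.{u}} (f : X ⟶ Spec (CommRingCat.of A)) [IsProper f] :
    IsNoetherianRing (Γ(X, ⊤) : Type u) := by
  letI := (f.app ⊤).hom.toAlgebra
  haveI h1 : Module.Finite Γ(Spec (CommRingCat.of A), ⊤) Γ(X, f ⁻¹ᵁ ⊤) :=
    Groth.Agent.Lib.T2H9.SteinFinite.finite_sections_of_isProper f ⊤ (isAffineOpen_top _)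
  haveI : IsNoetherianRing Γ(Spec (CommRingCat.of A), ⊤) :=
    IsLocallyNoetherian.component_noetherian ⟨⊤, isAffineOpen_top _⟩
  exact Algebra.FiniteType.isNoetherianRing Γ(Spec (CommRingCat.of A), ⊤) Γ(X, f ⁻¹ᵁ ⊤)

/-- the closed subscheme `X₀ = X ×_A A/I` is also `X ×_{Γ(X)} Γ(X)/J`, `J` the global functions
vanishing on `X₀` -/
theorem exists_isPullback (A : Type u) [CommRing A] (I : Ideal A) {X : Scheme.{u}}
    (f : X ⟶ Spec (CommRingCat.of A)) :
    ∃ t : pullback f (Spec.map (CommRingCat.ofHom (Ideal.Quotient.mk I))) ⟶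
        Spec (CommRingCat.of ((Γ(X, ⊤) : Type u) ⧸
          RingHom.ker (pullback.fst f (Spec.map
            (CommRingCat.ofHom (Ideal.Quotient.mk I)))).appTop.hom)),
      IsPullback (pullback.fst f (Spec.map (CommRingCat.ofHom (Ideal.Quotient.mk I)))) t
        (X.toSpecΓ : X ⟶ Spec (CommRingCat.of (Γ(X, ⊤) : Type u)))
        (Spec.map (CommRingCat.ofHom (Ideal.Quotient.mk
          (RingHom.ker (pullback.fst f (Spec.map
            (CommRingCat.ofHom (Ideal.Quotient.mk I)))).appTop.hom)))) := by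
  set q := Spec.map (CommRingCat.ofHom (Ideal.Quotient.mk I)) with hq
  set i₀ := pullback.fst f q with hi₀
  set J : Ideal (Γ(X, ⊤) : Type u) := RingHom.ker i₀.appTop.hom with hJ
  let c : Spec (CommRingCat.of ((Γ(X, ⊤) : Type u) ⧸ J)) ⟶ Spec Γ(X, ⊤) :=
    Spec.map (CommRingCat.ofHom (Ideal.Quotient.mk J))
  -- `ψ : Γ(X)/J → Γ(X₀)`
  let ψ : ((Γ(X, ⊤) : Type u) ⧸ J) →+* Γ(pullback f q, ⊤) :=
    Ideal.Quotient.lift J i₀.appTop.hom (fun b hb => hb)
  have hψ : (CommRingCat.ofHom (Ideal.Quotient.mk J)) ≫ CommRingCat.ofHom ψ = i₀.appTop := by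
    ext b
    rfl
  let t : pullback f q ⟶ Spec (CommRingCat.of ((Γ(X, ⊤) : Type u) ⧸ J)) :=
    (pullback f q).toSpecΓ ≫ Spec.map (CommRingCat.ofHom ψ)
  have ht : t ≫ c = i₀ ≫ X.toSpecΓ := by
    change ((pullback f q).toSpecΓ ≫ Spec.map (CommRingCat.ofHom ψ)) ≫
      Spec.map (CommRingCat.ofHom (Ideal.Quotient.mk J)) = _
    rw [Category.assoc, ← Spec.map_comp, hψ]
    exact (Scheme.toSpecΓ_naturality i₀).symm
  refine ⟨t, ?_⟩
  -- the comparison with the honest pullback
  let φ : CommRingCat.of A ⟶ Γ(X, ⊤) := (Scheme.ΓSpecIso (CommRingCat.of A)).inv ≫ f.appTop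
  have hf : X.toSpecΓ ≫ Spec.map φ = f := Groth.Agent.S17971.hom_eq f
  have hφI : I ≤ RingHom.ker ((Ideal.Quotient.mk J).comp φ.hom) := by
    intro a ha
    rw [RingHom.mem_ker, RingHom.comp_apply, Ideal.Quotient.eq_zero_iff_mem]
    change i₀.appTop.hom (f.appTop.hom ((Scheme.ΓSpecIso (CommRingCat.of A)).inv.hom a)) = 0
    have e1 : i₀.appTop.hom (f.appTop.hom ((Scheme.ΓSpecIso (CommRingCat.of A)).inv.hom a)) =
        ((i₀ ≫ f).appTop).hom ((Scheme.ΓSpecIso (CommRingCat.of A)).inv a) := by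
      rw [Scheme.Hom.comp_appTop]
      rfl
    rw [e1, show i₀ ≫ f = pullback.snd f q ≫ q from pullback.condition, Scheme.Hom.comp_appTop]
    have e2 : q.appTop.hom ((Scheme.ΓSpecIso (CommRingCat.of A)).inv a) =
        (Scheme.ΓSpecIso (CommRingCat.of (A ⧸ I))).inv (Ideal.Quotient.mk I a) := by
      have := Scheme.ΓSpecIso_inv_naturality (CommRingCat.ofHom (Ideal.Quotient.mk I))
      exact (congrArg (fun φ => φ.hom a) this).symm
    change (pullback.snd f q).appTop.hom (q.appTop.hom _) = 0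
    rw [e2, Ideal.Quotient.eq_zero_iff_mem.mpr ha, map_zero, map_zero]
  let κ : (A ⧸ I) →+* ((Γ(X, ⊤) : Type u) ⧸ J) :=
    Ideal.Quotient.lift I ((Ideal.Quotient.mk J).comp φ.hom) (fun a ha => hφI ha)
  have hκ : CommRingCat.ofHom (Ideal.Quotient.mk I) ≫ CommRingCat.ofHom κ =
      φ ≫ CommRingCat.ofHom (Ideal.Quotient.mk J) := by
    ext a
    rfl
  -- the map from the honest pullback to `X₀`
  have hcomm : pullback.fst X.toSpecΓ c ≫ f =
      (pullback.snd X.toSpecΓ c ≫ Spec.map (CommRingCat.ofHom κ)) ≫ q := by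
    rw [Category.assoc, hq, ← Spec.map_comp, hκ, Spec.map_comp, ← Category.assoc,
      ← pullback.condition, Category.assoc, hf]
  let m : pullback X.toSpecΓ c ⟶ pullback f q :=
    pullback.lift (pullback.fst X.toSpecΓ c)
      (pullback.snd X.toSpecΓ c ≫ Spec.map (CommRingCat.ofHom κ)) hcomm
  have hm : m ≫ i₀ = pullback.fst X.toSpecΓ c := pullback.lift_fst _ _ _
  let ℓ : pullback f q ⟶ pullback X.toSpecΓ c := pullback.lift i₀ t ht.symm
  have hℓ₁ : ℓ ≫ pullback.fst X.toSpecΓ c = i₀ := pullback.lift_fst _ _ _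
  have hℓ₂ : ℓ ≫ pullback.snd X.toSpecΓ c = t := pullback.lift_snd _ _ _
  haveI : IsClosedImmersion q :=
    IsClosedImmersion.spec_of_surjective _ Ideal.Quotient.mk_surjective
  haveI : IsClosedImmersion c :=
    IsClosedImmersion.spec_of_surjective _ Ideal.Quotient.mk_surjective
  haveI : IsClosedImmersion i₀ := MorphismProperty.pullback_fst _ _ inferInstance
  haveI : IsClosedImmersion (pullback.fst X.toSpecΓ c) :=
    MorphismProperty.pullback_fst _ _ inferInstance
  have h1 : ℓ ≫ m = 𝟙 _ := by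
    rw [← cancel_mono i₀, Category.assoc, hm, hℓ₁, Category.id_comp]
  have h2 : m ≫ ℓ = 𝟙 _ := by
    rw [← cancel_mono (pullback.fst X.toSpecΓ c), Category.assoc, hℓ₁, hm, Category.id_comp]
  exact IsPullback.of_iso_pullback ⟨ht.symm⟩ ⟨ℓ, m, h1, h2⟩ hℓ₁ hℓ₂

/-- **A henselian couple `(X, X₀)` with `X` proper over a Noetherian ring is proper over a
Noetherian henselian pair.** -/
theorem exists_proper_over_henselian_pair (A : Type u) [CommRing A] [IsNoetherianRing A]
    (I : Ideal A) {X : Scheme.{u}} (f : X ⟶ Spec (CommRingCat.of A)) [IsProper f]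
    (hX : Hens (pullback.fst f (Spec.map (CommRingCat.ofHom (Ideal.Quotient.mk I))))) :
    ∃ (A' : Type u) (_ : CommRing A') (I' : Ideal A') (_ : HenselianRing A' I')
      (_ : IsNoetherianRing A')
      (f' : X ⟶ Spec (CommRingCat.of A')) (_ : IsProper f')
      (t : pullback f (Spec.map (CommRingCat.ofHom (Ideal.Quotient.mk I))) ⟶
        Spec (CommRingCat.of (A' ⧸ I'))),
      IsPullback (pullback.fst f (Spec.map (CommRingCat.ofHom (Ideal.Quotient.mk I)))) t f'
        (Spec.map (CommRingCat.ofHom (Ideal.Quotient.mk I'))) := by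
  haveI : IsClosedImmersion (Spec.map (CommRingCat.ofHom (Ideal.Quotient.mk I))) :=
    IsClosedImmersion.spec_of_surjective _ Ideal.Quotient.mk_surjective
  haveI : IsClosedImmersion (pullback.fst f (Spec.map (CommRingCat.ofHom (Ideal.Quotient.mk I)))) :=
    MorphismProperty.pullback_fst _ _ inferInstance
  haveI : CompactSpace ↥X := QuasiCompact.compactSpace_of_compactSpace f
  haveI : QuasiSeparatedSpace ↥X := quasiSeparatedSpace_of_quasiSeparated f
  obtain ⟨t, ht⟩ := exists_isPullback A I f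
  exact ⟨(Γ(X, ⊤) : Type u), inferInstance,
    RingHom.ker (pullback.fst f (Spec.map (CommRingCat.ofHom (Ideal.Quotient.mk I)))).appTop.hom,
    Groth.Agent.Lib.T2H7.HensCouple.henselian_of_couple _ hX,
    isNoetherianRing_globalSections A f, X.toSpecΓ, isProper_toSpecΓ A f, t, ht⟩

end Groth.Agent.Lib.T2H7.ProperHensC
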