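import Mathlib
import Groth.Prelude
import Groth.Agent.Lib.T2H7PBasis
import Groth.Agent.Lib.Helper20Perfection

/-!
# The Frobenius of a smooth algebra over a perfect field is an extraction of `p`-th roots (helper7)
-/

set_option autoImplicit false
set_option linter.style.haveILetI false
universe u v w
open TensorProduct CategoryTheory AlgebraicGeometry

namespace Groth.Agent.Lib.T2H7.PthRootSm

open Groth.Agent.Lib.T2H7.RelFrobSm Groth.Agent.Lib.T2H7.RelFrobRk Groth.Agent.Lib.T2H7.PBasis

section Sch

theorem frob_Spec_eq (p : ℕ) [Fact p.Prime] (A : Type u) [CommRing A] [CharP A p] :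
    FrobSch.frob (Spec (CommRingCat.of A)) p = Spec.map (CommRingCat.ofHom (frobenius A p)) := by
  rw [Groth.Agent.Lib.Helper20.Perfection.frob_Spec p (CommRingCat.of A)
    (CharP.cast_eq_zero A p)]
  rfl

theorem isPthRoot_frob_Spec (p : ℕ) [Fact p.Prime] (k : Type u) [Field k] [CharP k p]
    [PerfectRing k p] (A : Type u) [CommRing A] [Algebra k A] [CharP A p] [Algebra.Smooth k A] :
    Quiet.IsPthRoot p (FrobSch.frob (Spec (CommRingCat.of A)) p) := by
  intro x
  let f : Spec (CommRingCat.of A) ⟶ Spec (CommRingCat.of k) :=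
    Spec.map (CommRingCat.ofHom (algebraMap k A))
  have hf : Smooth f := by
    rw [HasRingHomProperty.Spec_iff (P := @Smooth)]
    exact RingHom.smooth_algebraMap.mpr inferInstance
  obtain ⟨U', hU', V, hV, hxV, e, hstd⟩ := Smooth.exists_isStandardSmooth f x
  obtain rfl : U' = ⊤ := by
    apply TopologicalSpace.Opens.ext
    ext y
    have : y = f x := Subsingleton.elim _ _
    simp only [TopologicalSpace.Opens.coe_top, Set.mem_univ, iff_true]
    rw [this]
    exact e hxV
  refine ⟨⟨V, hV⟩, hxV, hV, ?_⟩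
  -- the `k`-algebra structure of `Γ(V)`
  let ψ : k →+* Γ(Spec (CommRingCat.of A), V) :=
    (f.appLE ⊤ V e).hom.comp (Scheme.ΓSpecIso (CommRingCat.of k)).inv.hom
  have hψ : ψ.IsStandardSmooth :=
    RingHom.isStandardSmooth_respectsIso.right _
      (Scheme.ΓSpecIso (CommRingCat.of k)).symm.commRingCatIsoToRingEquiv hstd
  letI algk : Algebra k Γ(Spec (CommRingCat.of A), V) := ψ.toAlgebra
  have hstd' : Algebra.IsStandardSmooth k Γ(Spec (CommRingCat.of A), V) := hψ
  have hnt : Nontrivial Γ(Spec (CommRingCat.of A), V) := by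
    have : Nonempty V := ⟨⟨x, hxV⟩⟩
    exact (Scheme.component_nontrivial _ V)
  have hchar : CharP Γ(Spec (CommRingCat.of A), V) p :=
    charP_of_algebra_of_nontrivial p k _
  exact exists_isRootTower_frobenius_of_isStandardSmooth p k Γ(Spec (CommRingCat.of A), V)
    ((FrobSch.frob (Spec (CommRingCat.of A)) p).app V).hom (fun s => rfl)

end Sch

end Groth.Agent.Lib.T2H7.PthRootSm
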