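import Mathlib
import Groth.Agent.Lib.T2H7QFSliceB
import Groth.Agent.Lib.Helper3FlatDescE

/-!
# Quasi-finite flat slices (part C): reduction to the Noetherian case
-/

set_option autoImplicit false
universe u

namespace Groth.Agent.Lib.T2H7.QFSlice

open TensorProduct

section PrimeTensor

theorem exists_prime_tensor_over {A R T : Type u} [CommRing A] [CommRing R] [CommRing T]
    [Algebra A R] [Algebra A T] (P : Ideal R) [P.IsPrime] (q : Ideal T) [q.IsPrime]
    (h : P.comap (algebraMap A R) = q.comap (algebraMap A T)) :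
    ∃ Q : Ideal (R ⊗[A] T), Q.IsPrime ∧ Q.comap (algebraMap R (R ⊗[A] T)) = P := by
  let p₀ : Ideal A := P.comap (algebraMap A R)
  have hp₀ : p₀.IsPrime := Ideal.comap_isPrime _ _
  have hq : q.LiesOver p₀ := ⟨h⟩
  -- the fibre of `T` over `p₀` is nontrivial
  have hnt : Nontrivial (p₀.Fiber T) := by
    rw [← PrimeSpectrum.nonempty_iff_nontrivial]
    exact ⟨PrimeSpectrum.primesOverOrderIsoFiber A T p₀ ⟨q, ⟨inferInstance, hq⟩⟩⟩
  let _ : Algebra p₀.ResidueField P.ResidueField :=
    (Ideal.ResidueField.map p₀ P (algebraMap A R) rfl).toAlgebra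
  have hst : IsScalarTower A p₀.ResidueField P.ResidueField := by
    refine IsScalarTower.of_algebraMap_eq fun a => ?_
    rw [RingHom.algebraMap_toAlgebra, Ideal.ResidueField.map_algebraMap,
      ← IsScalarTower.algebraMap_apply]
  have h1 : Nontrivial (P.ResidueField ⊗[p₀.ResidueField] (p₀.Fiber T)) := inferInstance
  have h2 : Nontrivial (P.ResidueField ⊗[A] T) :=
    (TensorProduct.AlgebraTensorModule.cancelBaseChange A p₀.ResidueField P.ResidueField
      P.ResidueField T).symm.toEquiv.nontrivial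
  have h3 : Nontrivial (P.Fiber (R ⊗[A] T)) :=
    (TensorProduct.AlgebraTensorModule.cancelBaseChange A R P.ResidueField
      P.ResidueField T).toEquiv.nontrivial
  obtain ⟨m, hm⟩ := Ideal.exists_maximal (P.Fiber (R ⊗[A] T))
  have hmp : m.IsPrime := hm.isPrime
  refine ⟨m.comap (Algebra.TensorProduct.includeRight :
      (R ⊗[A] T) →ₐ[R] P.Fiber (R ⊗[A] T)).toRingHom, Ideal.comap_isPrime _ _, ?_⟩
  have h4 : m.LiesOver P := inferInstance
  refine Eq.trans ?_ h4.over.symm
  ext a
  simp only [Ideal.under, Ideal.mem_comap]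
  rw [AlgHom.toRingHom_eq_coe, RingHom.coe_coe, AlgHom.commutes]

end PrimeTensor

section Model

open Groth.Agent.Lib.Helper3.FlatDesc

theorem nonempty_modelEquiv {T₀ P : Type*} [CommRing T₀] [CommRing P] [Algebra T₀ P] {κ : Type*}
    [Fintype κ] (w : κ → Fin 1 → T₀) :
    Nonempty (((Fin 1 → P) ⧸ KT w P) ≃ₗ[P]
      (P ⧸ Ideal.span (Set.range fun j => algebraMap T₀ P (w j 0)))) := by
  let e : (Fin 1 → P) ≃ₗ[P] P := LinearEquiv.funUnique (Fin 1) P P
  have h : (KT w P).map e.toLinearMap
      = Ideal.span (Set.range fun j => algebraMap T₀ P (w j 0)) := by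
    ext x
    constructor
    · rintro ⟨y, ⟨a, rfl⟩, rfl⟩
      rw [WT_apply]
      have : e.toLinearMap (∑ j, a j • wT w P j) = ∑ j, a j * algebraMap T₀ P (w j 0) := by
        rw [map_sum]
        refine Finset.sum_congr rfl fun j _ => ?_
        rfl
      rw [this]
      exact Ideal.sum_mem _ fun j _ => Ideal.mul_mem_left _ _ (Ideal.subset_span ⟨j, rfl⟩)
    · intro hx
      obtain ⟨c, rfl⟩ := (Ideal.mem_span_range_iff_exists_fun).1 hx
      refine ⟨WT w P c, ⟨c, rfl⟩, ?_⟩
      rw [WT_apply, map_sum]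
      refine Finset.sum_congr rfl fun j _ => ?_
      rfl
  exact ⟨Submodule.Quotient.equiv _ _ e h⟩

end Model

section Main

open MvPolynomial Groth.Agent.Lib.Helper3.FlatLoc Groth.Agent.Lib.Helper3.FlatDesc
  Groth.Agent.Lib.Helper3.FlatOpen

attribute [local instance] MvPolynomial.algebraMvPolynomial

set_option maxSynthPendingDepth 3 in
theorem exists_noetherian_model (R S : Type u) [CommRing R] [CommRing S] [Algebra R S]
    [Module.Flat R S] [Algebra.FinitePresentation R S] :
    ∃ (n : ℕ) (φ : MvPolynomial (Fin n) R →ₐ[R] S) (_ : Function.Surjective φ)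
      (Λ : Subalgebra ℤ R) (A : Subalgebra Λ R) (_ : IsNoetherianRing A) (m : ℕ)
      (gA : Fin m → MvPolynomial (Fin n) A),
      RingHom.ker φ.toRingHom
        = Ideal.span (Set.range fun j => MvPolynomial.map (algebraMap A R) (gA j)) ∧
      Module.Flat A (MvPolynomial (Fin n) A ⧸ Ideal.span (Set.range gA)) := by
  classical
  obtain ⟨n, φ, hφ, hker⟩ := Algebra.FinitePresentation.out (R := R) (A := S)
  obtain ⟨G, hG⟩ := hker
  let m := G.card
  let g : Fin m → MvPolynomial (Fin n) R := fun j => (G.equivFin.symm j).1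
  have hrange : Set.range g = (G : Set (MvPolynomial (Fin n) R)) := by
    ext x
    constructor
    · rintro ⟨j, rfl⟩
      exact (G.equivFin.symm j).2
    · intro hx
      exact ⟨G.equivFin ⟨x, hx⟩, by simp [g]⟩
  let cs : Finset R := Finset.univ.biUnion fun j => (g j).coeffs
  let Λ : Subalgebra ℤ R := Algebra.adjoin ℤ (cs : Set R)
  have hΛfg : Λ.FG := Subalgebra.fg_adjoin_finset cs
  have : Algebra.FiniteType ℤ Λ := (Subalgebra.fg_iff_finiteType Λ).mp hΛfg
  have : IsNoetherianRing Λ := Algebra.FiniteType.isNoetherianRing ℤ Λ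
  have hw : ∀ (j : Fin m) (_ : Fin 1), ∃ f : MvPolynomial (Fin n) Λ,
      MvPolynomial.map (algebraMap Λ R) f = g j := by
    intro j _
    apply MvPolynomial.mem_range_map_iff_coeffs_subset.mpr
    intro c hc
    refine ⟨⟨c, Algebra.subset_adjoin ?_⟩, rfl⟩
    exact Finset.mem_biUnion.mpr ⟨j, Finset.mem_univ j, hc⟩
  choose w hw using hw
  -- flatness of the model over `R`
  obtain ⟨eR⟩ := nonempty_modelEquiv (T₀ := MvPolynomial (Fin n) Λ) (P := MvPolynomial (Fin n) R) w
  have hIR : Ideal.span (Set.range fun j => algebraMap (MvPolynomial (Fin n) Λ)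
      (MvPolynomial (Fin n) R) (w j 0)) = RingHom.ker φ := by
    have : (fun j => algebraMap (MvPolynomial (Fin n) Λ) (MvPolynomial (Fin n) R) (w j 0)) = g := by
      funext j
      exact hw j 0
    rw [this, hrange, hG]
    rfl
  have hflatR : Module.Flat R ((Fin 1 → MvPolynomial (Fin n) R) ⧸ KT w (MvPolynomial (Fin n) R)) := by
    have e1 := (Ideal.quotientKerAlgEquivOfSurjective hφ).toLinearEquiv
    have e2 := (Ideal.quotientEquivAlgOfEq R hIR).toLinearEquiv
    exact Module.Flat.of_linearEquiv ((eR.restrictScalars R).trans (e2.trans e1))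
  obtain ⟨A, hAfg, -, hAflat⟩ := exists_fg_subalgebra_flat_global (R := R) w hflatR ∅
  have : Algebra.FiniteType Λ A := (Subalgebra.fg_iff_finiteType A).mp hAfg
  have hAN : IsNoetherianRing A := Algebra.FiniteType.isNoetherianRing Λ A
  obtain ⟨eA⟩ := nonempty_modelEquiv (T₀ := MvPolynomial (Fin n) Λ) (P := MvPolynomial (Fin n) A) w
  let gA : Fin m → MvPolynomial (Fin n) A := fun j =>
    algebraMap (MvPolynomial (Fin n) Λ) (MvPolynomial (Fin n) A) (w j 0)
  refine ⟨n, φ, hφ, Λ, A, hAN, m, gA, ?_, ?_⟩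
  · have hgA : (fun j => MvPolynomial.map (algebraMap A R) (gA j)) = g := by
      funext j
      simp only [gA, MvPolynomial.algebraMap_def, MvPolynomial.map_map]
      exact hw j 0
    rw [hgA, hrange, hG]
  · exact Module.Flat.of_linearEquiv (eA.restrictScalars A).symm

set_option maxSynthPendingDepth 3 in
theorem main (R S : Type u) [CommRing R] [CommRing S] [Algebra R S]
    [Module.FaithfullyFlat R S] [Algebra.FinitePresentation R S] :
    ∃ (S' : Type u) (_ : CommRing S') (_ : Algebra R S'),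
      Algebra.QuasiFinite R S' ∧ Algebra.FiniteType R S' ∧ Module.FaithfullyFlat R S' ∧
        Algebra.FinitePresentation R S' ∧ Nonempty (S →ₐ[R] S') := by
  classical
  obtain ⟨n, φ, hφ, Λ, A, hAN, m, gA, hker, hflat⟩ := exists_noetherian_model R S
  -- the Noetherian model
  have hft : Algebra.FiniteType A (MvPolynomial (Fin n) A ⧸ Ideal.span (Set.range gA)) :=
    Algebra.FiniteType.of_surjective (Ideal.Quotient.mkₐ A _) (Ideal.Quotient.mkₐ_surjective A _)
  obtain ⟨T₀, _, _, ψ₀, hQF, hFT, hFlat, hcover⟩ :=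
    exists_slice_cover (A := A) (MvPolynomial (Fin n) A ⧸ Ideal.span (Set.range gA))
  have hFP : Algebra.FinitePresentation A T₀ := Algebra.FinitePresentation.of_finiteType.1 hFT
  -- the map `S₀ → S`
  let θ₀ : MvPolynomial (Fin n) A →ₐ[A] S := MvPolynomial.aeval fun i => φ (X i)
  have hθ₀ : ∀ q : MvPolynomial (Fin n) A, θ₀ q = φ (MvPolynomial.map (algebraMap A R) q) := by
    intro q
    induction q using MvPolynomial.induction_on with
    | C a =>
      simp only [θ₀, MvPolynomial.aeval_C, MvPolynomial.map_C]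
      rw [← MvPolynomial.algebraMap_eq, AlgHom.commutes, ← IsScalarTower.algebraMap_apply]
    | add p q hp hq => rw [map_add, map_add, map_add, hp, hq]
    | mul_X p i hp =>
      rw [map_mul, map_mul, map_mul, hp]
      simp only [θ₀, MvPolynomial.aeval_X, MvPolynomial.map_X]
  have hθker : ∀ a ∈ Ideal.span (Set.range gA), θ₀ a = 0 := by
    intro a ha
    have hle : Ideal.span (Set.range gA) ≤ RingHom.ker θ₀.toRingHom := by
      rw [Ideal.span_le]
      rintro _ ⟨j, rfl⟩
      rw [SetLike.mem_coe, RingHom.mem_ker]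
      show θ₀ (gA j) = 0
      rw [hθ₀]
      have : MvPolynomial.map (algebraMap A R) (gA j) ∈ RingHom.ker φ.toRingHom := by
        rw [hker]
        exact Ideal.subset_span ⟨j, rfl⟩
      exact this
    exact hle ha
  let θ : (MvPolynomial (Fin n) A ⧸ Ideal.span (Set.range gA)) →ₐ[A] S :=
    Ideal.Quotient.liftₐ _ θ₀ hθker
  -- the map `S → R ⊗ T₀`
  let x : Fin n → R ⊗[A] T₀ := fun i => (1 : R) ⊗ₜ[A] ψ₀ (Ideal.Quotient.mk _ (X i))
  let Φ : MvPolynomial (Fin n) R →ₐ[R] R ⊗[A] T₀ := MvPolynomial.aeval x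
  have hΦ : ∀ q : MvPolynomial (Fin n) A,
      Φ (MvPolynomial.map (algebraMap A R) q) = (1 : R) ⊗ₜ[A] ψ₀ (Ideal.Quotient.mk _ q) := by
    intro q
    induction q using MvPolynomial.induction_on with
    | C a =>
      simp only [Φ, MvPolynomial.map_C, MvPolynomial.aeval_C]
      have h1 : (Ideal.Quotient.mk (Ideal.span (Set.range gA))) (MvPolynomial.C a) =
          algebraMap A (MvPolynomial (Fin n) A ⧸ Ideal.span (Set.range gA)) a := rfl
      rw [h1, AlgHom.commutes, Algebra.TensorProduct.algebraMap_apply,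
        Algebra.algebraMap_eq_smul_one (R := A) (A := T₀),
        Algebra.algebraMap_eq_smul_one (R := A) (A := R), Algebra.algebraMap_self_apply,
        TensorProduct.smul_tmul]
    | add p q hp hq => rw [map_add, map_add, map_add, map_add, TensorProduct.tmul_add, hp, hq]
    | mul_X p i hp =>
      rw [map_mul, map_mul, map_mul, map_mul, hp]
      simp only [Φ, MvPolynomial.map_X, MvPolynomial.aeval_X, x]
      rw [Algebra.TensorProduct.tmul_mul_tmul, one_mul]
  have hΦker : RingHom.ker φ.toRingHom ≤ RingHom.ker Φ.toRingHom := by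
    rw [hker, Ideal.span_le]
    rintro _ ⟨j, rfl⟩
    rw [SetLike.mem_coe, RingHom.mem_ker]
    show Φ _ = 0
    rw [hΦ]
    have : Ideal.Quotient.mk (Ideal.span (Set.range gA)) (gA j) = 0 :=
      Ideal.Quotient.eq_zero_iff_mem.2 (Ideal.subset_span ⟨j, rfl⟩)
    rw [this, map_zero, TensorProduct.tmul_zero]
  refine ⟨R ⊗[A] T₀, inferInstance, inferInstance, inferInstance, inferInstance, ?_, inferInstance,
    ⟨AlgHom.liftOfSurjective φ hφ Φ hΦker⟩⟩
  -- faithful flatness
  have hflatR : Module.Flat R (R ⊗[A] T₀) := inferInstance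
  refine Module.FaithfullyFlat.of_comap_surjective fun P => ?_
  obtain ⟨Q, hQ⟩ := PrimeSpectrum.comap_surjective_of_faithfullyFlat (A := R) (B := S) P
  -- the point of `Spec A` below `P` is in the image of `Spec S₀`
  have h1 : P.comap (algebraMap A R) ∈ Set.range (PrimeSpectrum.comap
      (algebraMap A (MvPolynomial (Fin n) A ⧸ Ideal.span (Set.range gA)))) := by
    refine ⟨Q.comap θ.toRingHom, ?_⟩
    rw [← hQ, ← PrimeSpectrum.comap_comp_apply, ← PrimeSpectrum.comap_comp_apply]
    congr 1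
    ext a
    simp only [RingHom.comp_apply, AlgHom.toRingHom_eq_coe, RingHom.coe_coe, AlgHom.commutes]
    rw [← IsScalarTower.algebraMap_apply]
  obtain ⟨qT, hqT⟩ := hcover h1
  obtain ⟨𝔔, h𝔔p, h𝔔⟩ := exists_prime_tensor_over (A := A) (R := R) (T := T₀) P.asIdeal qT.asIdeal
    (by
      have := congrArg PrimeSpectrum.asIdeal hqT
      exact this.symm)
  exact ⟨⟨𝔔, h𝔔p⟩, PrimeSpectrum.ext h𝔔⟩

end Main

end Groth.Agent.Lib.T2H7.QFSlice
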