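import Mathlib
import Groth.Agent.Lib.Helper20SymProd

/-!
# Separated locally quasi-finite morphisms have the (AF) property (helper7)

Finitely many points of `X` over a point of `S` lie in a quasi-compact open `X'` of `X` lying over
an affine open `V` of `S`; by Zariski's main theorem `X' ⟶ V` is an open immersion into the affine
relative normalization, and prime avoidance there gives the affine open.
-/

set_option autoImplicit false
set_option linter.unusedSectionVars false
set_option linter.unusedVariables false
set_option linter.style.haveILetI false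

universe u

open CategoryTheory CategoryTheory.Limits AlgebraicGeometry Opposite

namespace Groth.Agent.Lib.T2H7.QFinAF

variable {X S : Scheme.{u}} (f : X ⟶ S)

/-- finitely many points of a quasi-compact scheme admitting an open immersion into an affine
scheme lie in an affine open. -/
theorem exists_affine_of_openImmersion {X' N : Scheme.{u}} [IsAffine N] (j : X' ⟶ N)
    [IsOpenImmersion j] (d : ℕ) (x : Fin d → X') :
    ∃ U : X'.Opens, IsAffineOpen U ∧ ∀ k, x k ∈ U := by
  classical
  obtain ⟨D, hD, -, hle, hxD⟩ := Groth.Agent.Lib.Helper20.exists_affine_finite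
    (isAffineOpen_top N) j.opensRange (Finset.univ.image (fun k => j (x k))) (by
      intro t ht
      rw [Finset.mem_image] at ht
      obtain ⟨k, -, rfl⟩ := ht
      exact ⟨trivial, ⟨x k, rfl⟩⟩)
  exact ⟨j ⁻¹ᵁ D, hD.preimage_of_isOpenImmersion j hle,
    fun k => hxD _ (Finset.mem_image_of_mem _ (Finset.mem_univ k))⟩

/-- **(AF) for separated locally quasi-finite morphisms locally of finite type.** -/
theorem AF_of_lqf [IsSeparated f] [LocallyQuasiFinite f] [LocallyOfFiniteType f]
    (s : S) (d : ℕ) (x : Fin d → ↥X) (hx : ∀ k, f (x k) = s) :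
    ∃ U : X.Opens, IsAffineOpen U ∧ ∀ k, x k ∈ U := by
  obtain ⟨V, (hV : IsAffineOpen V), hsV, -⟩ :=
    (TopologicalSpace.Opens.isBasis_iff_nbhd.mp S.isBasis_affineOpens)
      (TopologicalSpace.Opens.mem_top s)
  have hxV : ∀ k, x k ∈ f ⁻¹ᵁ V := fun k => by
    change f (x k) ∈ V
    rw [hx k]
    exact hsV
  choose Uk hUk hxUk hUkle using fun k =>
    (TopologicalSpace.Opens.isBasis_iff_nbhd.mp X.isBasis_affineOpens) (hxV k)
  let X' : X.Opens := ⨆ k, Uk k
  have hle : X' ≤ f ⁻¹ᵁ V := iSup_le hUkle
  have hxX' : ∀ k, x k ∈ X' := fun k =>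
    (le_iSup Uk k) (hxUk k)
  haveI : IsAffine (V : Scheme.{u}) := hV
  haveI : CompactSpace ((X' : Scheme.{u})) := by
    have h0 : (X' : Set X) = ⋃ k, (Uk k : Set X) := by
      simp [X']
    have h1 : IsCompact (X' : Set X) := by
      rw [h0]
      exact isCompact_iUnion (fun k => (hUk k : IsAffineOpen (Uk k)).isCompact)
    exact isCompact_iff_compactSpace.mp h1
  let h : (X' : Scheme.{u}) ⟶ (V : Scheme.{u}) := f.resLE V X' hle
  haveI : QuasiCompact h := inferInstance
  haveI : IsAffineHom h.fromNormalization := inferInstance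
  haveI : IsAffine h.normalization := isAffine_of_isAffineHom h.fromNormalization
  obtain ⟨U', hU', hxU'⟩ := exists_affine_of_openImmersion h.toNormalization d
    (fun k => (⟨x k, hxX' k⟩ : X'))
  refine ⟨X'.ι ''ᵁ U', hU'.image_of_isOpenImmersion X'.ι, fun k => ?_⟩
  exact ⟨⟨x k, hxX' k⟩, hxU' k, rfl⟩

end Groth.Agent.Lib.T2H7.QFinAF
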