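import Mathlib
import Groth.Prelude.Def_CAlgX
import Groth.Agent.Lib.T2H2QRegLoc
import Groth.Agent.Lib.T2H9QRegBC
import Groth.Agent.Lib.T2H7FPFlatF
import Groth.Agent.Lib.Helper28FibreTrans
import Groth.Agent.S5803

/-!
# Lifting quasi-regular sequences along a locally nilpotent ideal (helper7)

* `isQuasiRegular_of_ringEquiv`: quasi-regular sequences transfer along ring isomorphisms.
* `fibreIso`: `κ ⊗ (B'/IB') ≅ B' ⊗ κ` over `A'/I` resp. `A'`.
* `exists_prime_fibre_top`: the prime of the fibre ring over a prime of the algebra.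
* `isWeaklyRegular_localizedModule_fibre`: a quasi-regular sequence in the fibre ring is weakly
  regular on the localized fibre module.
* `flat_quotient_of_lift`: if `A' → B'` is flat of finite presentation, `I` is locally nilpotent
  and the reductions of `f'` form a quasi-regular sequence with flat quotient over `A'/I`, then
  `B'/(f')` is flat over `A'`.
-/

set_option autoImplicit false
set_option linter.unusedSectionVars false

universe u
open TensorProduct

namespace Groth.Agent.Lib.T2H7.QRegNil

section Equiv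

/-- quasi-regular sequences transfer along ring isomorphisms -/
theorem isQuasiRegular_of_ringEquiv {R R' : Type u} [CommRing R] [CommRing R'] (e : R ≃+* R')
    {r : ℕ} (z : Fin r → R) (h : CAlgX.IsQuasiRegular z) :
    CAlgX.IsQuasiRegular (fun i => e (z i)) := by
  let alg : Algebra R R' := (e : R →+* R').toAlgebra
  have hloc : IsLocalization (⊥ : Submonoid R) R' := by
    refine IsLocalization.of_le_isUnit_of_bijective ?_ e.bijective
    rintro _ ⟨x, hx, rfl⟩
    rw [SetLike.mem_coe, Submonoid.mem_bot] at hx
    subst hx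
    simp
  exact Groth.Agent.Lib.T2H2.QRegLoc.isQuasiRegular_of_isLocalization ⊥ R' z h

end Equiv

section FibreIso

variable (A' B' : Type u) [CommRing A'] [CommRing B'] [Algebra A' B'] (I : Ideal A')
  (κ : Type u) [Field κ] [Algebra A' κ] [Algebra (A' ⧸ I) κ] [IsScalarTower A' (A' ⧸ I) κ]

/-- the fibre of the reduction is the fibre of the algebra -/
noncomputable def fibreIso :
    κ ⊗[A' ⧸ I] (B' ⧸ I.map (algebraMap A' B')) ≃+* B' ⊗[A'] κ :=
  ((Algebra.TensorProduct.congr (AlgEquiv.refl : κ ≃ₐ[A' ⧸ I] κ)
      (Algebra.TensorProduct.quotIdealMapEquivQuotTensor B' I)).trans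
    (Algebra.TensorProduct.cancelBaseChange A' (A' ⧸ I) (A' ⧸ I) κ B')).toRingEquiv.trans
      (Algebra.TensorProduct.comm A' κ B').toRingEquiv

theorem fibreIso_one_tmul_mk (b : B') :
    fibreIso A' B' I κ ((1 : κ) ⊗ₜ[A' ⧸ I] Ideal.Quotient.mk (I.map (algebraMap A' B')) b) =
      b ⊗ₜ[A'] (1 : κ) := by
  unfold fibreIso
  simp [Algebra.TensorProduct.quotIdealMapEquivQuotTensor_mk]

end FibreIso

section FibrePrimes

variable {A B : Type u} [CommRing A] [CommRing B] [Algebra A B] (q : Ideal B) [hq : q.IsPrime]

/-- the prime of the fibre ring `B ⊗ κ(p)` over a prime `q` of `B`, `p = q ∩ A`; it contains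
every prime of the fibre ring whose trace on `B` is contained in `q` -/
theorem exists_prime_fibre_top :
    ∃ (Q₂ : Ideal (B ⊗[A] (q.comap (algebraMap A B)).ResidueField)) (_ : Q₂.IsPrime),
      Q₂.comap (Algebra.TensorProduct.includeLeft :
        B →ₐ[A] B ⊗[A] (q.comap (algebraMap A B)).ResidueField).toRingHom = q ∧
      ∀ (Q₁ : Ideal (B ⊗[A] (q.comap (algebraMap A B)).ResidueField)) [Q₁.IsPrime],
        Q₁.comap (Algebra.TensorProduct.includeLeft :
          B →ₐ[A] B ⊗[A] (q.comap (algebraMap A B)).ResidueField).toRingHom ≤ q → Q₁ ≤ Q₂ := by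
  obtain ⟨Q, hQ, hqQ⟩ := Groth.Agent.Lib.Helper28.exists_prime_fiber_comap_eq (A := A) q
  have hmem : ∀ b : B, b ∈ q ↔
      ((1 : (q.comap (algebraMap A B)).ResidueField) ⊗ₜ[A] b) ∈ Q := fun b =>
    SetLike.ext_iff.mp hqQ b
  let c : B ⊗[A] (q.comap (algebraMap A B)).ResidueField ≃ₐ[A]
      (q.comap (algebraMap A B)).ResidueField ⊗[A] B :=
    Algebra.TensorProduct.comm A B (q.comap (algebraMap A B)).ResidueField
  let cr : B ⊗[A] (q.comap (algebraMap A B)).ResidueField →+*
      (q.comap (algebraMap A B)).ResidueField ⊗[A] B := c.toRingEquiv.toRingHom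
  let crs : (q.comap (algebraMap A B)).ResidueField ⊗[A] B →+*
      B ⊗[A] (q.comap (algebraMap A B)).ResidueField := c.symm.toRingEquiv.toRingHom
  have hc : ∀ b : B, cr (b ⊗ₜ 1) = 1 ⊗ₜ b := fun b => rfl
  have hcs : ∀ x, crs (cr x) = x := fun x => c.symm_apply_apply x
  refine ⟨Q.comap cr, Ideal.comap_isPrime _ _, ?_, ?_⟩
  · ext b
    rw [hmem b, Ideal.mem_comap, Ideal.mem_comap]
    rfl
  · intro Q₁ hQ₁ hle
    have hQ₁' : (Q₁.comap crs).IsPrime := Ideal.comap_isPrime _ _
    let e := PrimeSpectrum.primesOverOrderIsoFiber A B (q.comap (algebraMap A B))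
    have h1 : (e.symm ⟨Q₁.comap crs, hQ₁'⟩ : Ideal B) ≤ (e.symm ⟨Q, hQ⟩ : Ideal B) := by
      rw [PrimeSpectrum.coe_primesOverOrderIsoFiber_symm_apply,
        PrimeSpectrum.coe_primesOverOrderIsoFiber_symm_apply]
      intro b hb
      have hb' : b ∈ q := hle hb
      exact (hmem b).mp hb'
    have h2 : (⟨Q₁.comap crs, hQ₁'⟩ : PrimeSpectrum _) ≤ ⟨Q, hQ⟩ :=
      e.symm.le_iff_le.mp (Subtype.coe_le_coe.mp h1)
    intro x hx
    have h3 : cr x ∈ Q₁.comap crs := by
      rw [Ideal.mem_comap, hcs]
      exact hx
    exact h2 h3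

end FibrePrimes

section Local

variable {A' B' : Type u} [CommRing A'] [CommRing B'] [Algebra A' B'] [Algebra.FiniteType A' B']
  (q' : Ideal B') [hq' : q'.IsPrime]

local notation "Fq" => B' ⊗[A'] (Ideal.ResidueField (Ideal.comap (algebraMap A' B') q'))
local notation "Sq" => Algebra.algebraMapSubmonoid Fq (Ideal.primeCompl q')

/-- a quasi-regular sequence of the fibre ring through `q'` is a weakly regular sequence on the
localization at `q'` of the fibre module -/
theorem isWeaklyRegular_localizedModule_fibre {r : ℕ} (z : Fin r → B') (hz : ∀ i, z i ∈ q')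
    (hq : CAlgX.IsQuasiRegular (fun i => (algebraMap B' Fq (z i) : Fq))) :
    RingTheory.Sequence.IsWeaklyRegular (LocalizedModule q'.primeCompl Fq) (List.ofFn z) := by
  obtain ⟨Q₂, hQ₂, hcomap, htop⟩ := exists_prime_fibre_top (A := A') q'
  have hmemQ : ∀ b : B', algebraMap B' Fq b ∈ Q₂ ↔ b ∈ q' := fun b =>
    (SetLike.ext_iff.mp hcomap b)
  -- the localization of the fibre ring at the image of the complement of `q'`
  have hle : Sq ≤ Q₂.primeCompl := by
    rintro _ ⟨b, hb, rfl⟩ hmem
    exact hb ((hmemQ b).mp hmem)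
  have hunits : ∀ t ∈ Q₂.primeCompl, IsUnit (algebraMap Fq (Localization Sq) t) := by
    intro t ht
    by_contra hnu
    obtain ⟨m, hm, htm⟩ := exists_max_ideal_of_mem_nonunits hnu
    have hQ₁ : (m.comap (algebraMap Fq (Localization Sq))).IsPrime := Ideal.comap_isPrime _ _
    have h1 : m.comap (algebraMap Fq (Localization Sq)) ≤ Q₂ := by
      apply htop
      intro b hb
      by_contra hbq
      have hu : IsUnit (algebraMap Fq (Localization Sq) (algebraMap B' Fq b)) :=
        IsLocalization.map_units _ (⟨algebraMap B' Fq b, ⟨b, hbq, rfl⟩⟩ : Sq)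
      have hb' : algebraMap Fq (Localization Sq) (algebraMap B' Fq b) ∈ m := hb
      exact hm.ne_top (Ideal.eq_top_of_isUnit_mem _ hb' hu)
    exact ht (h1 htm)
  have hloc : IsLocalization.AtPrime (Localization Sq) Q₂ :=
    IsLocalization.of_le _ Q₂.primeCompl hle hunits
  have hlr : IsLocalRing (Localization Sq) := IsLocalization.AtPrime.isLocalRing (Localization Sq) Q₂
  -- Noetherian
  have hft : Algebra.FiniteType (Ideal.ResidueField (Ideal.comap (algebraMap A' B') q'))
      ((Ideal.ResidueField (Ideal.comap (algebraMap A' B') q')) ⊗[A'] B') := inferInstance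
  have hN₀ : IsNoetherianRing ((Ideal.ResidueField (Ideal.comap (algebraMap A' B') q')) ⊗[A'] B') :=
    Algebra.FiniteType.isNoetherianRing (Ideal.ResidueField (Ideal.comap (algebraMap A' B') q')) _
  have hN₁ : IsNoetherianRing Fq :=
    isNoetherianRing_of_ringEquiv _
      (Algebra.TensorProduct.comm A' B'
        (Ideal.ResidueField (Ideal.comap (algebraMap A' B') q'))).symm.toRingEquiv
  have hN : IsNoetherianRing (Localization Sq) := IsLocalization.isNoetherianRing Sq _ hN₁
  -- the sequence in the local ring
  have hqF : CAlgX.IsQuasiRegular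
      (fun i => algebraMap Fq (Localization Sq) (algebraMap B' Fq (z i))) :=
    Groth.Agent.Lib.T2H2.QRegLoc.isQuasiRegular_of_isLocalization Sq (Localization Sq) _ hq
  have hjac : ∀ i, algebraMap Fq (Localization Sq) (algebraMap B' Fq (z i)) ∈
      Ring.jacobson (Localization Sq) := by
    intro i
    rw [IsLocalRing.ringJacobson_eq_maximalIdeal,
      IsLocalization.AtPrime.to_map_mem_maximal_iff (Localization Sq) Q₂]
    exact (hmemQ (z i)).mpr (hz i)
  have hreg := Groth.Agent.S5803.result (Localization Sq) r _ hjac hqF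
  -- back to the localized module
  have hlm : IsLocalizedModule q'.primeCompl
      (IsScalarTower.toAlgHom B' Fq (Localization Sq)).toLinearMap :=
    isLocalizedModule_iff_isLocalization.mpr inferInstance
  let e : LocalizedModule q'.primeCompl Fq ≃ₗ[B'] Localization Sq :=
    IsLocalizedModule.iso q'.primeCompl (IsScalarTower.toAlgHom B' Fq (Localization Sq)).toLinearMap
  rw [e.isWeaklyRegular_congr (List.ofFn z),
    ← RingTheory.Sequence.isWeaklyRegular_map_algebraMap_iff (Localization Sq) (Localization Sq)
      (List.ofFn z), List.map_ofFn]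
  exact hreg

end Local

section Main

variable (A' B' : Type u) [CommRing A'] [CommRing B'] [Algebra A' B'] [Module.Flat A' B']
  [Algebra.FinitePresentation A' B'] (I : Ideal A') (hI : ∀ x ∈ I, IsNilpotent x) (r : ℕ)
  (f' : Fin r → B')
  (hq : CAlgX.IsQuasiRegular
    (fun i => Ideal.Quotient.mk (Ideal.map (algebraMap A' B') I) (f' i)))
  (hflat : Module.Flat (A' ⧸ I)
    ((B' ⧸ Ideal.map (algebraMap A' B') I) ⧸
      Ideal.span (Set.range (fun i => Ideal.Quotient.mk (Ideal.map (algebraMap A' B') I) (f' i)))))

include hI hq hflat in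
/-- the lifted sequence is weakly regular on the localized fibre module at a prime containing it -/
theorem isWeaklyRegular_fibre_of_lift (q' : Ideal B') [q'.IsPrime]
    (hJ : Ideal.span (Set.range f') ≤ q') :
    RingTheory.Sequence.IsWeaklyRegular (LocalizedModule q'.primeCompl
      (B' ⊗[A'] (q'.comap (algebraMap A' B')).ResidueField)) (List.ofFn f') := by
  have hIp : I ≤ q'.comap (algebraMap A' B') := by
    intro x hx
    obtain ⟨n, hn⟩ := hI x hx
    refine Ideal.IsPrime.mem_of_pow_mem inferInstance n ?_
    rw [hn]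
    exact Ideal.zero_mem _
  let algκ : Algebra (A' ⧸ I) (q'.comap (algebraMap A' B')).ResidueField :=
    (Ideal.Quotient.lift I (algebraMap A' (q'.comap (algebraMap A' B')).ResidueField)
      (fun a ha => (Ideal.algebraMap_residueField_eq_zero).mpr (hIp ha))).toAlgebra
  have tow : IsScalarTower A' (A' ⧸ I) (q'.comap (algebraMap A' B')).ResidueField :=
    IsScalarTower.of_algebraMap_eq fun a => rfl
  have h1 := Groth.Agent.Lib.T2H9.QRegBC.main (A := A' ⧸ I)
    (B := B' ⧸ Ideal.map (algebraMap A' B') I) (q'.comap (algebraMap A' B')).ResidueField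
    (fun i => Ideal.Quotient.mk (Ideal.map (algebraMap A' B') I) (f' i)) hflat hq
  have h2 := isQuasiRegular_of_ringEquiv
    (fibreIso A' B' I (q'.comap (algebraMap A' B')).ResidueField) _ h1
  simp only [fibreIso_one_tmul_mk] at h2
  exact isWeaklyRegular_localizedModule_fibre (A' := A') q' f'
    (fun i => hJ (Ideal.subset_span ⟨i, rfl⟩)) h2

include hI hq hflat in
/-- flatness of the lifted quotient at every prime -/
theorem flat_localizedModule_quotient_of_lift (q' : Ideal B') [hq' : q'.IsPrime] :
    Module.Flat A' (LocalizedModule q'.primeCompl (B' ⧸ Ideal.span (Set.range f'))) := by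
  by_cases hJ : Ideal.span (Set.range f') ≤ q'
  · have hlo : q'.LiesOver (q'.comap (algebraMap A' B')) := ⟨rfl⟩
    have hflatloc : Module.Flat A' (LocalizedModule q'.primeCompl B') := by
      have h1 : Module.Flat B' (Localization q'.primeCompl) := IsLocalization.flat _ q'.primeCompl
      have h2 : Module.Flat A' (Localization q'.primeCompl) :=
        Module.Flat.trans A' B' (Localization q'.primeCompl)
      let e : LocalizedModule q'.primeCompl B' ≃ₗ[B'] Localization q'.primeCompl :=
        IsLocalizedModule.iso q'.primeCompl (Algebra.linearMap B' (Localization q'.primeCompl))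
      exact Module.Flat.of_linearEquiv (e.restrictScalars A')
    have h3 := isWeaklyRegular_fibre_of_lift A' B' I hI r f' hq hflat q' hJ
    have h4 := Groth.Agent.Lib.T2H7.FPFlat.flat_quotients_of_isWeaklyRegular_fibre
      (q'.comap (algebraMap A' B')) q' (M := B') (List.ofFn f') hflatloc h3 r (by simp)
    have h5 : (Ideal.ofList ((List.ofFn f').take r) • ⊤ : Submodule B' B') =
        Ideal.span (Set.range f') := by
      have h6 : Ideal.ofList (List.ofFn f') = Ideal.span (Set.range f') := by
        unfold Ideal.ofList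
        congr 1
        ext x
        simp [List.mem_ofFn]
      rw [List.take_of_length_le (by simp), h6, smul_eq_mul, Ideal.mul_top]
    exact Groth.Agent.Lib.Helper3.FlatOpen.flat_localizedModule_of_linearEquiv
      (Submodule.quotEquivOfEq _ _ h5) q'.primeCompl h4
  · have hex : ∃ i, f' i ∉ q' := by
      by_contra hcon
      apply hJ
      rw [Ideal.span_le]
      rintro _ ⟨i, rfl⟩
      by_contra hi
      exact hcon ⟨i, hi⟩
    obtain ⟨i, hi⟩ := hex
    have hsub : Subsingleton (LocalizedModule q'.primeCompl (B' ⧸ Ideal.span (Set.range f'))) := by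
      refine ⟨fun x y => ?_⟩
      have key : ∀ w : LocalizedModule q'.primeCompl (B' ⧸ Ideal.span (Set.range f')), w = 0 := by
        intro w
        induction w using LocalizedModule.induction_on with
        | h m s =>
          rw [← LocalizedModule.zero_mk s, LocalizedModule.mk_eq]
          refine ⟨⟨f' i, hi⟩, ?_⟩
          obtain ⟨b, rfl⟩ := Submodule.Quotient.mk_surjective _ m
          simp only [smul_zero, Submonoid.smul_def]
          rw [← Submodule.Quotient.mk_smul, ← Submodule.Quotient.mk_smul,
            Submodule.Quotient.mk_eq_zero, smul_eq_mul, smul_eq_mul]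
          exact Ideal.mul_mem_right _ _ (Ideal.subset_span ⟨i, rfl⟩)
      rw [key x, key y]
    have hfree : Module.Free A' (LocalizedModule q'.primeCompl (B' ⧸ Ideal.span (Set.range f'))) :=
      Module.Free.of_subsingleton A' _
    exact inferInstance

include hI hq hflat in
/-- **S9270** -/
theorem flat_quotient_of_lift : Module.Flat A' (B' ⧸ Ideal.span (Set.range f')) := by
  refine Module.flat_of_isLocalized_maximal B' (B' ⧸ Ideal.span (Set.range f'))
    (fun P _ => LocalizedModule P.primeCompl (B' ⧸ Ideal.span (Set.range f')))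
    (fun P _ => LocalizedModule.mkLinearMap P.primeCompl _) (fun P hP => ?_)
  have : P.IsPrime := hP.isPrime
  exact flat_localizedModule_quotient_of_lift A' B' I hI r f' hq hflat P

end Main

end Groth.Agent.Lib.T2H7.QRegNil
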