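import Mathlib
import Groth.Prelude.Def_CAlgX
import Groth.Agent.Lib.T2H7QRegNil
import Groth.Agent.Lib.Helper3ThickSmooth

/-!
# Smooth quotients lift along a locally nilpotent ideal (helper7)

* `redEquiv`: the reduction modulo `I` of `B'/(f')` is the quotient of `B'/IB'` by the reductions.
* `smooth_quotient_of_lift`: if `A' → B'` is flat of finite presentation, `I` is locally
  nilpotent and the reductions of `f'` form a quasi-regular sequence with smooth quotient over
  `A'/I`, then `B'/(f')` is smooth over `A'`.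
-/

set_option autoImplicit false
set_option linter.unusedSectionVars false

universe u
open TensorProduct

namespace Groth.Agent.Lib.T2H7.QRegNilSm

section Main

variable (A' B' : Type u) [CommRing A'] [CommRing B'] [Algebra A' B'] [Module.Flat A' B']
  [Algebra.FinitePresentation A' B'] (I : Ideal A') (hI : ∀ x ∈ I, IsNilpotent x) (r : ℕ)
  (f' : Fin r → B')
  (hq : CAlgX.IsQuasiRegular
    (fun i => Ideal.Quotient.mk (Ideal.map (algebraMap A' B') I) (f' i)))
  (hsm : Algebra.Smooth (A' ⧸ I)
    ((B' ⧸ Ideal.map (algebraMap A' B') I) ⧸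
      Ideal.span (Set.range (fun i => Ideal.Quotient.mk (Ideal.map (algebraMap A' B') I) (f' i)))))

/-- the reduction of the lifted quotient is the quotient of the reduction -/
noncomputable def redEquiv :
    ((B' ⧸ Ideal.span (Set.range f')) ⧸
        I.map (algebraMap A' (B' ⧸ Ideal.span (Set.range f')))) ≃ₐ[A' ⧸ I]
      ((B' ⧸ Ideal.map (algebraMap A' B') I) ⧸
        Ideal.span (Set.range
          (fun i => Ideal.Quotient.mk (Ideal.map (algebraMap A' B') I) (f' i)))) :=
  AlgEquiv.extendScalarsOfSurjective (R := A') Ideal.Quotient.mk_surjective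
    (((Ideal.quotientEquivAlgOfEq A' (by
        rw [IsScalarTower.algebraMap_eq A' B' (B' ⧸ Ideal.span (Set.range f')), ← Ideal.map_map]
        rfl)).trans
      (DoubleQuot.quotQuotEquivCommₐ A' (Ideal.span (Set.range f'))
        (Ideal.map (algebraMap A' B') I))).trans
      (Ideal.quotientEquivAlgOfEq A' (by
        rw [Ideal.map_span, ← Set.range_comp]
        rfl)))

include hI hq hsm in
/-- **S9271** -/
theorem smooth_quotient_of_lift : Algebra.Smooth A' (B' ⧸ Ideal.span (Set.range f')) := by
  have hflat₀ : Module.Flat (A' ⧸ I)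
      ((B' ⧸ Ideal.map (algebraMap A' B') I) ⧸ Ideal.span (Set.range
        (fun i => Ideal.Quotient.mk (Ideal.map (algebraMap A' B') I) (f' i)))) := inferInstance
  have hflat : Module.Flat A' (B' ⧸ Ideal.span (Set.range f')) :=
    Groth.Agent.Lib.T2H7.QRegNil.flat_quotient_of_lift A' B' I hI r f' hq hflat₀
  have hfg : (Ideal.span (Set.range f')).FG :=
    Submodule.fg_span (Set.finite_range f')
  have hfp₁ : Algebra.FinitePresentation B' (B' ⧸ Ideal.span (Set.range f')) :=
    Algebra.FinitePresentation.quotient hfg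
  have hfp : Algebra.FinitePresentation A' (B' ⧸ Ideal.span (Set.range f')) :=
    Algebra.FinitePresentation.trans A' B' (B' ⧸ Ideal.span (Set.range f'))
  let e₁ := Algebra.TensorProduct.quotIdealMapEquivQuotTensor (B' ⧸ Ideal.span (Set.range f')) I
  have hsmT : Algebra.Smooth (A' ⧸ I) ((A' ⧸ I) ⊗[A'] (B' ⧸ Ideal.span (Set.range f'))) :=
    Algebra.Smooth.of_equiv ((redEquiv A' B' I r f').symm.trans e₁)
  let algR : Algebra (B' ⧸ Ideal.span (Set.range f'))
      ((A' ⧸ I) ⊗[A'] (B' ⧸ Ideal.span (Set.range f'))) := Algebra.TensorProduct.rightAlgebra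
  refine Groth.Agent.Lib.Helper3.ThickSmooth.smooth_of_pushout_nil (B' := A') (B := A' ⧸ I)
    (C' := B' ⧸ Ideal.span (Set.range f'))
    (C := (A' ⧸ I) ⊗[A'] (B' ⧸ Ideal.span (Set.range f'))) Ideal.Quotient.mk_surjective ?_
  intro x hx
  apply hI
  rw [Ideal.Quotient.algebraMap_eq, Ideal.mk_ker] at hx
  exact hx

end Main

end Groth.Agent.Lib.T2H7.QRegNilSm
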