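import Mathlib
import Groth.Agent.S0114
import Groth.Agent.S0115
import Groth.Agent.S5938
import Groth.Agent.S4596
import Groth.Agent.S9348
import Groth.Agent.S4598
import Groth.Agent.S5939
import Groth.Agent.S4997
import Groth.Agent.S12496
import Groth.Agent.S12442
import Groth.Agent.Lib.Helper12Torsor

/-!
# Transfer of properties to the quotient of a group scheme by a flat subgroup scheme (helper7)
-/

set_option autoImplicit false
set_option linter.unusedSectionVars false
set_option linter.unusedVariables false
set_option linter.style.haveILetI false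
universe u
open CategoryTheory CategoryTheory.Limits AlgebraicGeometry MonoidalCategory
  CartesianMonoidalCategory MonObj

namespace Groth.Agent.Lib.T2H7.QTr

section Cover

variable {X Y Z : Scheme.{u}} (f : X ⟶ Y) (q : Z ⟶ Y)

/-- descent of a Zariski-local property which descends along fpqc morphisms along a single
flat surjective morphism which is "quasi-compact" in the fpqc sense. -/
theorem descend_of_fpqc_single (P : MorphismProperty Scheme.{u}) [IsZariskiLocalAtTarget P]
    (hP : P.DescendsAlong (@Surjective ⊓ @Flat ⊓ @QuasiCompact : MorphismProperty Scheme.{u}))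
    [Surjective q] [Flat q]
    (hq : ∀ V : Y.Opens, IsAffineOpen V →
      ∃ W : Z.Opens, IsCompact (W : Set Z) ∧ q.base '' (W : Set Z) = (V : Set Y))
    (h : P (pullback.snd f q)) : P f := by
  let 𝒰₀ : Scheme.Cover.{0} (Scheme.precoverage @Flat) Y := q.cover (P := @Flat) ‹Flat q›
  haveI : QuasiCompactCover 𝒰₀.toPreZeroHypercover := by
    constructor
    intro U hU
    rw [IsCompactOpenCovered.iff_of_unique]
    obtain ⟨W, hW1, hW2⟩ := hq U hU
    exact ⟨W, hW1, hW2⟩
  let 𝒰 : Scheme.Cover.{0} Scheme.fpqcPrecoverage Y := Scheme.Cover.ofQuasiCompactCover 𝒰₀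
  exact Groth.Agent.S12496.result P hP f 𝒰 (fun i => h)

end Cover

section Part1

variable {S : Scheme.{u}} {G G' G'' : Over S} [GrpObj G] [GrpObj G'] (u : G' ⟶ G) (p : G ⟶ G'')

/-- the first projection `G ×_S G' ⟶ G` is a base change of `G' ⟶ S`. -/
theorem prop_fst_left (P : MorphismProperty Scheme.{u}) [P.IsStableUnderBaseChange]
    (h : P G'.hom) : P (fst G G').left := by
  rw [Over.fst_left]
  exact MorphismProperty.pullback_fst (P := P) G.hom G'.hom h

/-- if `Z ⟶ G''` factors through `p`, then the base change of `p` to `Z` is a base change of the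
first projection. -/
theorem prop_snd_of_factor (P : MorphismProperty Scheme.{u}) [P.IsStableUnderBaseChange]
    [P.RespectsIso]
    (hsq : IsPullback ((G ◁ u) ≫ μ[G]) (fst G G') p p)
    {Z : Scheme.{u}} (q : Z ⟶ G''.left) (r : Z ⟶ G.left) (hr : r ≫ p.left = q)
    (h : P (fst G G').left) : P (pullback.snd p.left q) := by
  subst hr
  have hsqL : IsPullback ((G ◁ u) ≫ μ[G]).left (fst G G').left p.left p.left :=
    hsq.map (Over.forget S)
  -- pullback of `fst` along `r`
  have h1 : P (pullback.snd (fst G G').left r) :=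
    MorphismProperty.pullback_snd (P := P) _ _ h
  have h2 : IsPullback (pullback.fst (fst G G').left r ≫ ((G ◁ u) ≫ μ[G]).left)
      (pullback.snd (fst G G').left r) p.left (r ≫ p.left) :=
    (IsPullback.of_hasPullback (fst G G').left r).paste_horiz hsqL
  have e : h2.isoPullback.inv ≫ pullback.snd (fst G G').left r = pullback.snd p.left (r ≫ p.left) :=
    h2.isoPullback_inv_snd
  rw [← e]
  exact (P.cancel_left_of_respectsIso _ _).2 h1

/-- `G' ⟶ S` is the base change of the first projection `G ×_S G' ⟶ G` along the unit section. -/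
theorem isPullback_unit :
    IsPullback (pullback.lift (G'.hom ≫ (η[G] : 𝟙_ (Over S) ⟶ G).left) (𝟙 G'.left)
        (by
          have : (η[G] : 𝟙_ (Over S) ⟶ G).left ≫ G.hom = 𝟙 S := Over.w (η[G] : 𝟙_ (Over S) ⟶ G)
          rw [Category.assoc, this, Category.comp_id, Category.id_comp]))
      G'.hom (pullback.fst G.hom G'.hom) (η[G] : 𝟙_ (Over S) ⟶ G).left := by
  have hη : (η[G] : 𝟙_ (Over S) ⟶ G).left ≫ G.hom = 𝟙 S := Over.w (η[G] : 𝟙_ (Over S) ⟶ G)
  have hr : IsPullback (pullback.snd G.hom G'.hom) (pullback.fst G.hom G'.hom) G'.hom G.hom :=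
    (IsPullback.of_hasPullback G.hom G'.hom).flip
  have ho : IsPullback (pullback.lift (G'.hom ≫ (η[G] : 𝟙_ (Over S) ⟶ G).left) (𝟙 G'.left)
        (by rw [Category.assoc, hη, Category.comp_id, Category.id_comp]) ≫
          pullback.snd G.hom G'.hom) G'.hom G'.hom
      ((η[G] : 𝟙_ (Over S) ⟶ G).left ≫ G.hom) := by
    rw [pullback.lift_snd, hη]
    exact IsPullback.id_horiz G'.hom
  exact IsPullback.of_right ho (by rw [pullback.lift_fst]) hr

include u in
theorem part1_mp
    (hcov : ∃ (Z : Scheme.{u}) (q : Z ⟶ G''.left) (r : Z ⟶ G.left), r ≫ p.left = q ∧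
      Surjective q ∧ Flat q ∧ ∀ V : G''.left.Opens, IsAffineOpen V →
        ∃ W : Z.Opens, IsCompact (W : Set Z) ∧ q.base '' (W : Set Z) = (V : Set G''.left))
    (hsq : IsPullback ((G ◁ u) ≫ μ[G]) (fst G G') p p)
    (h1 : Flat G'.hom) (h2 : LocallyOfFinitePresentation G'.hom) :
    Surjective p.left ∧ Flat p.left ∧ LocallyOfFinitePresentation p.left := by
  obtain ⟨Z, q, r, hr, hq1, hq2, hq3⟩ := hcov
  refine ⟨?_, ?_, ?_⟩
  · haveI : Surjective (r ≫ p.left) := by rw [hr]; exact hq1
    exact Surjective.of_comp r p.left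
  · exact descend_of_fpqc_single p.left q @Flat Groth.Agent.Lib.Helper12.descendsAlong_flat hq3
      (prop_snd_of_factor u p @Flat hsq q r hr (prop_fst_left @Flat h1))
  · exact descend_of_fpqc_single p.left q @LocallyOfFinitePresentation inferInstance hq3
      (prop_snd_of_factor u p @LocallyOfFinitePresentation hsq q r hr
        (prop_fst_left @LocallyOfFinitePresentation h2))

include u p in
theorem part1_mpr (P : MorphismProperty Scheme.{u}) [P.IsStableUnderBaseChange]
    (hsq : IsPullback ((G ◁ u) ≫ μ[G]) (fst G G') p p) (h : P p.left) : P G'.hom := by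
  have hsqL : IsPullback ((G ◁ u) ≫ μ[G]).left (fst G G').left p.left p.left :=
    hsq.map (Over.forget S)
  have h1 : P (fst G G').left := MorphismProperty.of_isPullback (P := P) hsqL h
  rw [Over.fst_left] at h1
  exact MorphismProperty.of_isPullback (P := P) (isPullback_unit (G := G) (G' := G')) h1

end Part1

section Topo

/-- a subset of the target of a continuous open surjective map whose preimage is discrete is
discrete. -/
theorem isDiscrete_of_preimage {A B : Type*} [TopologicalSpace A] [TopologicalSpace B]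
    (π : A → B) (hπ : IsOpenMap π) (hs : Function.Surjective π) (B' : Set B)
    (h : IsDiscrete (π ⁻¹' B')) : IsDiscrete B' := by
  rw [isDiscrete_iff_forall_mem_exists_isOpen] at h ⊢
  intro b hb
  obtain ⟨a, rfl⟩ := hs b
  obtain ⟨O, hO, hOa⟩ := h a hb
  refine ⟨π '' O, hπ O hO, ?_⟩
  ext y
  constructor
  · rintro ⟨⟨x, hx, rfl⟩, hy⟩
    have : x ∈ O ∩ π ⁻¹' B' := ⟨hx, hy⟩
    rw [hOa] at this
    rw [Set.mem_singleton_iff] at this ⊢
    rw [this]
  · rintro rfl
    have : a ∈ O ∩ π ⁻¹' B' := by rw [hOa]; rfl
    exact ⟨⟨a, this.1, rfl⟩, hb⟩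

end Topo

section Part2

variable {S : Scheme.{u}} {G G'' : Over S} (p : G ⟶ G'')

theorem lfp_target (hs : Surjective p.left) (hf : Flat p.left)
    (hl : LocallyOfFinitePresentation p.left) (h : LocallyOfFinitePresentation G.hom) :
    LocallyOfFinitePresentation G''.hom := by
  haveI : LocallyOfFinitePresentation (p.left ≫ G''.hom) := by rw [Over.w p]; exact h
  exact Groth.Agent.S0114.result p.left G''.hom

theorem lft_target (hs : Surjective p.left) (hf : Flat p.left)
    (hl : LocallyOfFinitePresentation p.left) (h : LocallyOfFiniteType G.hom) :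
    LocallyOfFiniteType G''.hom := by
  haveI : LocallyOfFiniteType (p.left ≫ G''.hom) := by rw [Over.w p]; exact h
  exact Groth.Agent.S5938.result p.left G''.hom

theorem qc_target (hs : Surjective p.left) (h : QuasiCompact G.hom) : QuasiCompact G''.hom := by
  haveI : QuasiCompact (p.left ≫ G''.hom) := by rw [Over.w p]; exact h
  exact Groth.Agent.S4596.result p.left G''.hom

theorem smooth_target (hs : Surjective p.left) (hf : Flat p.left)
    (hl : LocallyOfFinitePresentation p.left) (h : Smooth G.hom) : Smooth G''.hom := by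
  haveI : Smooth (p.left ≫ G''.hom) := by rw [Over.w p]; exact h
  exact Groth.Agent.S0115.result p.left G''.hom

theorem lqf_target (hs : Surjective p.left) (hf : Flat p.left)
    (hl : LocallyOfFinitePresentation p.left) (h : LocallyQuasiFinite G.hom)
    (h' : LocallyOfFiniteType G.hom) : LocallyQuasiFinite G''.hom := by
  haveI := lft_target p hs hf hl h'
  haveI : @LocallyOfFiniteType G.left S G.hom := h'
  rw [locallyQuasiFinite_iff_isDiscrete_preimage_singleton] at h ⊢
  intro x
  have hx := h x
  have e : (G.hom : G.left → S) ⁻¹' {x} =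
      (p.left : G.left → G''.left) ⁻¹' ((G''.hom : G''.left → S) ⁻¹' {x}) := by
    rw [← Set.preimage_comp]
    have : (G.hom : G.left → S) = (G''.hom : G''.left → S) ∘ (p.left : G.left → G''.left) := by
      rw [← Over.w p]; rfl
    rw [this]
  rw [e] at hx
  exact isDiscrete_of_preimage _ p.left.isOpenMap p.left.surjective _ hx

theorem etale_target (hs : Surjective p.left) (hf : Flat p.left)
    (hl : LocallyOfFinitePresentation p.left) (h : Etale G.hom) : Etale G''.hom := by
  haveI : @Etale G.left S G.hom := h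
  rw [Groth.Agent.S4997.result]
  refine ⟨smooth_target p hs hf hl inferInstance, lqf_target p hs hf hl ?_ inferInstance⟩
  exact ((Groth.Agent.S4997.result G.hom).1 h).2

end Part2

section Unram

variable {S : Scheme.{u}} {G G' G'' : Over S} [GrpObj G] [GrpObj G'] (u : G' ⟶ G) (p : G ⟶ G'')

include u in
theorem unram_target [Mono u]
    (hsq : IsPullback ((G ◁ u) ≫ μ[G]) (fst G G') p p)
    (hs : Surjective p.left) (hf : Flat p.left) (hl : LocallyOfFinitePresentation p.left)
    (h : FormallyUnramified G.hom) (h' : LocallyOfFinitePresentation G.hom) :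
    FormallyUnramified G''.hom := by
  haveI : @FormallyUnramified G.left S G.hom := h
  haveI : @LocallyOfFinitePresentation G.left S G.hom := h'
  haveI : @LocallyOfFiniteType G.left S G.hom := inferInstance
  -- `G'` is etale over `S`
  haveI hG'f : @Flat G'.left S G'.hom := part1_mpr u p @Flat hsq hf
  haveI hG'l : @LocallyOfFinitePresentation G'.left S G'.hom :=
    part1_mpr u p @LocallyOfFinitePresentation hsq hl
  haveI : Mono u.left := inferInstance
  haveI : FormallyUnramified u.left := inferInstance
  haveI hG'u : @FormallyUnramified G'.left S G'.hom := by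
    rw [← Over.w u]
    exact MorphismProperty.comp_mem (W := @FormallyUnramified) _ _ ‹FormallyUnramified u.left›
      ‹@FormallyUnramified G.left S G.hom›
  have hG'e : @Etale G'.left S G'.hom :=
    @Etale.of_formallyUnramified_of_flat G'.left S G'.hom hG'f hG'u hG'l
  -- `p` is etale
  have hsqL : IsPullback ((G ◁ u) ≫ μ[G]).left (fst G G').left p.left p.left :=
    hsq.map (Over.forget S)
  have hpr : Etale (fst G G').left := prop_fst_left @Etale hG'e
  haveI hpe : Etale p.left :=
    (inferInstance : MorphismProperty.DescendsAlong (@Etale : MorphismProperty Scheme.{u})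
      (@Surjective ⊓ @Flat ⊓ @LocallyOfFinitePresentation)).of_isPullback hsqL.flip
      ⟨⟨hs, hf⟩, hl⟩ hpr
  -- the comparison map `κ`
  haveI h1 : FormallyUnramified (p.left ≫ G''.hom) := by rw [Over.w p]; exact h
  haveI h2 : LocallyOfFiniteType (p.left ≫ G''.hom) := by rw [Over.w p]; infer_instance
  let κ : pullback p.left p.left ⟶ pullback (p.left ≫ G''.hom) (p.left ≫ G''.hom) :=
    pullback.map p.left p.left (p.left ≫ G''.hom) (p.left ≫ G''.hom) (𝟙 _) (𝟙 _) G''.hom
      (Category.id_comp _).symm (Category.id_comp _).symm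
  have hκ : κ ≫ pullback.snd (p.left ≫ G''.hom) (p.left ≫ G''.hom) =
      pullback.snd p.left p.left := by
    simp only [κ, pullback.map, pullback.lift_snd, Category.comp_id]
  haveI : Etale (κ ≫ pullback.snd (p.left ≫ G''.hom) (p.left ≫ G''.hom)) := by
    rw [hκ]; infer_instance
  haveI : FormallyUnramified (pullback.snd (p.left ≫ G''.hom) (p.left ≫ G''.hom)) :=
    MorphismProperty.pullback_snd (P := @FormallyUnramified) _ _ h1
  haveI : LocallyOfFiniteType (pullback.snd (p.left ≫ G''.hom) (p.left ≫ G''.hom)) :=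
    MorphismProperty.pullback_snd (P := @LocallyOfFiniteType) _ _ h2
  haveI hκe : Etale κ :=
    Etale.of_comp κ (pullback.snd (p.left ≫ G''.hom) (p.left ≫ G''.hom))
  have hpb := pullback_map_diagonal_isPullback p.left p.left G''.hom
  haveI hκm : Mono κ :=
    MorphismProperty.of_isPullback (P := MorphismProperty.monomorphisms Scheme.{u}) hpb
      (MorphismProperty.monomorphisms.infer_property _)
  haveI : IsOpenImmersion κ := IsOpenImmersion.of_flat_of_mono κ
  -- descent of the diagonal
  have hQ : (@Surjective ⊓ @Flat ⊓ @LocallyOfFinitePresentation : MorphismProperty Scheme.{u})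
      (pullback.map (p.left ≫ G''.hom) (p.left ≫ G''.hom) G''.hom G''.hom p.left p.left (𝟙 _)
        (Category.comp_id _) (Category.comp_id _)) := by
    refine ⟨⟨?_, ?_⟩, ?_⟩
    · exact MorphismProperty.pullbackMap (P := @Surjective) hs hs rfl rfl
    · exact MorphismProperty.pullbackMap (P := @Flat) hf hf rfl rfl
    · exact MorphismProperty.pullbackMap (P := @LocallyOfFinitePresentation) hl hl rfl rfl
  haveI hΔ : IsOpenImmersion (pullback.diagonal G''.hom) :=
    (inferInstance : MorphismProperty.DescendsAlong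
      (@IsOpenImmersion : MorphismProperty Scheme.{u})
      (@Surjective ⊓ @Flat ⊓ @LocallyOfFinitePresentation)).of_isPullback hpb.flip hQ
      ‹IsOpenImmersion κ›
  infer_instance

end Unram

section Part3

variable {S : Scheme.{u}} {G G' G'' : Over S} [GrpObj G] [GrpObj G'] (u : G' ⟶ G) (p : G ⟶ G'')

include u in
theorem part3
    (hsq : IsPullback ((G ◁ u) ≫ μ[G]) (fst G G') p p)
    (hs : Surjective p.left) (hf : Flat p.left) (hl : LocallyOfFinitePresentation p.left)
    (h3 : QuasiCompact G'.hom) (h4 : QuasiSeparated G'.hom) :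
    QuasiCompact p.left ∧ QuasiSeparated p.left ∧
      ((LocallyOfFinitePresentation G.hom ∧ QuasiCompact G.hom ∧ QuasiSeparated G.hom) ↔
        (LocallyOfFinitePresentation G''.hom ∧ QuasiCompact G''.hom ∧
          QuasiSeparated G''.hom)) := by
  have hsqL : IsPullback ((G ◁ u) ≫ μ[G]).left (fst G G').left p.left p.left :=
    hsq.map (Over.forget S)
  haveI hprc : QuasiCompact (fst G G').left := prop_fst_left @QuasiCompact h3
  have hprs : QuasiSeparated (fst G G').left := prop_fst_left @QuasiSeparated h4
  haveI := hs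
  haveI := hf
  haveI := hl
  haveI hpc : QuasiCompact p.left :=
    Groth.Agent.S9348.result p.left p.left p.left.isOpenMap _ _ hsqL
  haveI : QuasiSeparated (pullback.snd p.left p.left) := by
    have e : hsqL.isoPullback.inv ≫ (fst G G').left = pullback.snd p.left p.left :=
      hsqL.isoPullback_inv_snd
    rw [← e]
    exact (MorphismProperty.cancel_left_of_respectsIso @QuasiSeparated _ _).2 hprs
  have hps : QuasiSeparated p.left := Groth.Agent.S4598.result p.left p.left
  refine ⟨hpc, hps, ?_⟩
  constructor
  · rintro ⟨a1, a2, a3⟩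
    haveI : LocallyOfFinitePresentation (p.left ≫ G''.hom) := by rw [Over.w p]; exact a1
    haveI : QuasiCompact (p.left ≫ G''.hom) := by rw [Over.w p]; exact a2
    haveI : QuasiSeparated (p.left ≫ G''.hom) := by rw [Over.w p]; exact a3
    obtain ⟨b1, b2⟩ := Groth.Agent.S5939.result p.left G''.hom
    exact ⟨lfp_target p hs hf hl a1, b1, b2⟩
  · rintro ⟨a1, a2, a3⟩
    rw [← Over.w p]
    exact ⟨MorphismProperty.comp_mem (W := @LocallyOfFinitePresentation) _ _ hl a1,
      MorphismProperty.comp_mem (W := @QuasiCompact) _ _ hpc a2,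
      MorphismProperty.comp_mem (W := @QuasiSeparated) _ _ hps a3⟩

end Part3

section Final

theorem quotient_transfer (S : Scheme.{u}) (G G' G'' : Over S) [GrpObj G] [GrpObj G']
    (u : G' ⟶ G) [IsMonHom u] [Mono u] (p : G ⟶ G'')
    (hcov : (∃ (Z : Scheme.{u}) (q : Z ⟶ G''.left) (r : Z ⟶ G.left), r ≫ p.left = q ∧ Surjective q ∧ Flat q ∧
        ∀ V : G''.left.Opens, IsAffineOpen V → ∃ W : Z.Opens, IsCompact (W : Set Z) ∧ q.base '' (W : Set Z) = (V : Set G''.left)))
    (hsq : IsPullback ((G ◁ u) ≫ μ[G]) (fst G G') p p) :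
    ((Flat G'.hom ∧ LocallyOfFinitePresentation G'.hom) ↔
      (Surjective p.left ∧ Flat p.left ∧ LocallyOfFinitePresentation p.left)) ∧
    (Flat p.left → LocallyOfFinitePresentation p.left →
      (LocallyOfFinitePresentation G.hom → LocallyOfFinitePresentation G''.hom) ∧
      (LocallyOfFiniteType G.hom → LocallyOfFiniteType G''.hom) ∧
      (LocallyOfFiniteType G.hom → QuasiCompact G.hom → QuasiCompact G''.hom) ∧
      (Smooth G.hom → Smooth G''.hom) ∧ (Etale G.hom → Etale G''.hom) ∧
      (FormallyUnramified G.hom → LocallyOfFinitePresentation G.hom → FormallyUnramified G''.hom) ∧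
      (LocallyQuasiFinite G.hom → LocallyOfFiniteType G.hom → LocallyQuasiFinite G''.hom)) ∧
    (Flat G'.hom → LocallyOfFinitePresentation G'.hom → QuasiCompact G'.hom → QuasiSeparated G'.hom →
      QuasiCompact p.left ∧ QuasiSeparated p.left ∧ LocallyOfFinitePresentation p.left ∧
      ((LocallyOfFinitePresentation G.hom ∧ QuasiCompact G.hom ∧ QuasiSeparated G.hom) ↔
        (LocallyOfFinitePresentation G''.hom ∧ QuasiCompact G''.hom ∧ QuasiSeparated G''.hom))) := by
  have hs : Surjective p.left := by
    obtain ⟨Z, q, r, hr, hq1, -, -⟩ := hcov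
    haveI : Surjective (r ≫ p.left) := by rw [hr]; exact hq1
    exact Surjective.of_comp r p.left
  refine ⟨⟨?_, ?_⟩, ?_, ?_⟩
  · rintro ⟨h1, h2⟩
    exact part1_mp u p hcov hsq h1 h2
  · rintro ⟨-, h2, h3⟩
    exact ⟨part1_mpr u p @Flat hsq h2, part1_mpr u p @LocallyOfFinitePresentation hsq h3⟩
  · intro hf hl
    exact ⟨lfp_target p hs hf hl, lft_target p hs hf hl, fun _ h => qc_target p hs h,
      smooth_target p hs hf hl, etale_target p hs hf hl, unram_target u p hsq hs hf hl,
      lqf_target p hs hf hl⟩
  · intro h1 h2 h3 h4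
    obtain ⟨-, hf, hl⟩ := part1_mp u p hcov hsq h1 h2
    obtain ⟨a, b, c⟩ := part3 u p hsq hs hf hl h3 h4
    exact ⟨a, b, hl, c⟩

end Final

end Groth.Agent.Lib.T2H7.QTr
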