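import Groth.Agent.Lib.T2H7QuotSplitC

/-!
Base change of fppf quotients and of groups of multiplicative type.
-/

set_option autoImplicit false
set_option linter.unusedSectionVars false
set_option linter.unusedVariables false
set_option linter.style.haveILetI false
universe u
open CategoryTheory CategoryTheory.Limits MonoidalCategory CartesianMonoidalCategory MonObj GrpObj
  AlgebraicGeometry

namespace Groth.Agent.Lib.T2H7.QtBc

open Groth.Agent.Lib.T2H3.MultGa Groth.Agent.Lib.Helper27.GaGm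
  Groth.Agent.Lib.T2H7.DiagDS Groth.Agent.Lib.T2H7.DiagHomA Groth.Agent.Lib.T2H7.DiagHomB
  Groth.Agent.Lib.T2H7.DiagHomE
  Groth.Agent.Lib.T2H7.GrpIsoBC Groth.Agent.Lib.T2H7.ToriMono Groth.Agent.Lib.T2H7.MtModel
  Groth.Agent.Lib.T2H7.MtLocus

section Quot

variable {S Z : Scheme.{u}} (g : Z ⟶ S) {G H Q : Over S} [GrpObj G] [GrpObj H]

/-- the base change of an fppf quotient is an fppf quotient. -/
theorem isQuotient_bc (i : H ⟶ G) (q : G ⟶ Q) (hq : RedSub.IsQuotient i q) :
    RedSub.IsQuotient (G := Red.bc g G) (H := Red.bc g H) ((Over.pullback g).map i)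
      ((Over.pullback g).map q) := by
  obtain ⟨hs, hf, hl, hsq⟩ := hq
  refine ⟨?_, ?_, ?_, ?_⟩
  · exact OverDescP.bc @Surjective g q hs
  · exact OverDescP.bc @Flat g q hf
  · exact OverDescP.bc @LocallyOfFinitePresentation g q hl
  · have h1 := hsq.map (Over.pullback g)
    refine h1.of_iso' (Functor.Monoidal.μIso (Over.pullback g) G H) (Iso.refl _) (Iso.refl _)
      (Iso.refl _) ?_ ?_ ?_ ?_
    · rw [Functor.Monoidal.μIso_hom, Iso.refl_hom, Category.comp_id]
      exact Functor.Monoidal.μ_fst (Over.pullback g) G H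
    · rw [Functor.Monoidal.μIso_hom, Iso.refl_hom, Category.comp_id, Functor.map_comp,
        Functor.obj.μ_def, ← Category.assoc, ← Category.assoc]
      congr 1
      exact (Functor.LaxMonoidal.μ_natural_right (Over.pullback g) G i).symm
    · simp
    · simp

end Quot

section Cover

variable {S Z S₁ : Scheme.{u}} (g : Z ⟶ S) (f₁ : S₁ ⟶ S)

/-- the quasi-compactness condition of an fpqc covering is stable under base change. -/
theorem qc_cover_bc
    (hcov : ∀ V : S.Opens, IsAffineOpen V → ∃ W : S₁.Opens, IsCompact (W : Set S₁) ∧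
      f₁.base '' (W : Set S₁) = (V : Set S)) :
    ∀ V : Z.Opens, IsAffineOpen V → ∃ W : (pullback g f₁).Opens,
      IsCompact (W : Set ↥(pullback g f₁)) ∧
      (pullback.fst g f₁).base '' (W : Set ↥(pullback g f₁)) = (V : Set Z) := by
  haveI : QuasiCompactCover (PreZeroHypercover.singleton.{0} f₁) := by
    refine ⟨fun {U} hU => ?_⟩
    rw [IsCompactOpenCovered.iff_of_unique]
    obtain ⟨W, hW, hWU⟩ := hcov U hU
    exact ⟨W, hW, hWU⟩
  intro V hV
  have h := hV.isCompactOpenCovered ((PreZeroHypercover.singleton.{0} f₁).pullback₁ g)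
  haveI : Unique ((PreZeroHypercover.singleton.{0} f₁).pullback₁ g).I₀ :=
    inferInstanceAs (Unique PUnit)
  rw [IsCompactOpenCovered.iff_of_unique] at h
  obtain ⟨W, hW, hWV⟩ := h
  exact ⟨W, hW, hWV⟩

end Cover

section BcComp

variable {S S' S'' : Scheme.{u}}

theorem split_bc_iff (p : S'' ⟶ S') (q : S' ⟶ S) {d : S'' ⟶ S} (hd : p ≫ q = d)
    (G : Over S) [GrpObj G] (M : Type) [AddCommGroup M] :
    Red.IsSplitTorusWith M (Red.bc p (Red.bc q G)) ↔ Red.IsSplitTorusWith M (Red.bc d G) := by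
  unfold Red.IsSplitTorusWith
  rw [nonempty_grpIso_iff, nonempty_grpIso_iff]
  constructor
  · rintro ⟨e, he⟩
    refine ⟨(ActBC.bcCompIso p q G hd).symm ≪≫ e, ?_⟩
    show IsMonHom ((ActBC.bcCompIso p q G hd).inv ≫ e.hom)
    infer_instance
  · rintro ⟨e, he⟩
    refine ⟨ActBC.bcCompIso p q G hd ≪≫ e, ?_⟩
    show IsMonHom ((ActBC.bcCompIso p q G hd).hom ≫ e.hom)
    infer_instance

end BcComp

section MultType

variable {S Z : Scheme.{u}} (g : Z ⟶ S) {H : Over S} [GrpObj H]

/-- groups of multiplicative type are stable under base change. -/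
theorem isMultTypeFT_bc (hH : SGA3x.IsMultTypeFT H) : SGA3x.IsMultTypeFT (Red.bc g H) := by
  obtain ⟨S₁, f₁, hfl, hsj, hcov, hloc⟩ := hH
  haveI := hfl
  haveI := hsj
  refine ⟨pullback g f₁, pullback.fst g f₁, inferInstance, inferInstance,
    qc_cover_bc g f₁ hcov, ?_⟩
  intro s'
  obtain ⟨U, hU, M, instM, hfg, he⟩ := hloc ((pullback.snd g f₁).base s')
  refine ⟨(pullback.snd g f₁) ⁻¹ᵁ U, hU, M, instM, hfg, ?_⟩
  have hd : ((pullback.snd g f₁) ∣_ U) ≫ (U.ι ≫ f₁) =
      (((pullback.snd g f₁) ⁻¹ᵁ U).ι ≫ pullback.fst g f₁) ≫ g := by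
    rw [← Category.assoc, morphismRestrict_ι, Category.assoc, Category.assoc, pullback.condition]
  have h1 : Red.IsSplitTorusWith M
      (Red.bc ((((pullback.snd g f₁) ⁻¹ᵁ U).ι ≫ pullback.fst g f₁) ≫ g) H) :=
    split_of_comp ((pullback.snd g f₁) ∣_ U) (U.ι ≫ f₁) hd H M he
  exact (split_bc_iff _ g rfl H M).2 h1

end MultType

end Groth.Agent.Lib.T2H7.QtBc
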