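import Groth.Agent.Lib.T2H7QtBcB

/-!
Quotients of (locally) split tori and of tori by subgroups of multiplicative type.
-/

set_option autoImplicit false
set_option linter.unusedSectionVars false
set_option linter.unusedVariables false
set_option linter.style.haveILetI false
universe u
open CategoryTheory CategoryTheory.Limits MonoidalCategory CartesianMonoidalCategory MonObj GrpObj
  AlgebraicGeometry

namespace Groth.Agent.Lib.T2H7.QtBc

open Groth.Agent.Lib.T2H3.MultGa Groth.Agent.Lib.Helper27.GaGm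
  Groth.Agent.Lib.T2H7.DiagDS Groth.Agent.Lib.T2H7.DiagHomA Groth.Agent.Lib.T2H7.DiagHomB
  Groth.Agent.Lib.T2H7.DiagHomE
  Groth.Agent.Lib.T2H7.GrpIsoBC Groth.Agent.Lib.T2H7.ToriMono Groth.Agent.Lib.T2H7.MtModel
  Groth.Agent.Lib.T2H7.MtLocus Groth.Agent.Lib.T2H7.QuotSplit

section Gen

variable {S Z : Scheme.{u}} {T H Q : Over S} [GrpObj T] [GrpObj H] [GrpObj Q]

/-- if `T` splits after the base change `g : Z ⟶ S`, then `Q = T/H` splits locally on `Z`. -/
theorem quot_local_gen (i : H ⟶ T) [IsMonHom i] [Mono i] (hH : SGA3x.IsMultTypeFT H)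
    (q : T ⟶ Q) [IsMonHom q] (hq : RedSub.IsQuotient i q) (g : Z ⟶ S) (r : ℕ)
    (hT : Red.IsSplitTorusWith (Fin r → ℤ) (Red.bc g T)) (z : Z) :
    ∃ W : Z.Opens, z ∈ W ∧ ∃ r' : ℕ,
      Red.IsSplitTorusWith (Fin r' → ℤ) (Red.bc (W.ι ≫ g) Q) := by
  obtain ⟨e, hemon⟩ := (nonempty_grpIso_iff _ _).1 hT
  haveI := hemon
  haveI : IsMonHom e.symm.hom := by
    rw [Iso.symm_hom]; infer_instance
  haveI : (Over.pullback g).PreservesMonomorphisms :=
    Functor.preservesMonomorphisms_of_adjunction (Over.mapPullbackAdj g)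
  have hq₀ := isQuotient_bc g i q hq
  have hq₁ : RedSub.IsQuotient ((Over.pullback g).map i ≫ e.hom)
      (e.symm.hom ≫ (Over.pullback g).map q) := by
    refine isQuotient_of_iso _ _ hq₀ e.symm (Iso.refl _) ((Over.pullback g).map i ≫ e.hom) ?_
    rw [Iso.symm_hom, Category.assoc, Iso.hom_inv_id, Category.comp_id, Iso.refl_hom,
      Category.id_comp]
  obtain ⟨W, hzW, K, hK⟩ := quot_local ((Over.pullback g).map i ≫ e.hom) (isMultTypeFT_bc g hH)
    (e.symm.hom ≫ (Over.pullback g).map q) hq₁ z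
  obtain ⟨r', -, ⟨e₂⟩⟩ := split_of_subgroup W.toScheme r K
  refine ⟨W, hzW, r', ?_⟩
  obtain ⟨e₁⟩ := hK
  exact (split_bc_iff W.ι g rfl Q (Fin r' → ℤ)).1 ⟨e₁ ≪≫ e₂⟩

end Gen

end Groth.Agent.Lib.T2H7.QtBc
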