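import Mathlib
import Groth.Prelude

/-!
# Towers of `p`-th root extractions are stable under base change (helper7)
-/

set_option autoImplicit false
set_option linter.style.haveILetI false
universe u v w
open TensorProduct Polynomial

namespace Groth.Agent.Lib.T2H7.RootTowerBC

section Basis

/-- a linear map sending a basis to a basis of the extended scalars is a base change -/
theorem isBaseChange_of_basis {R S M N ι : Type*} [CommRing R] [CommRing S] [Algebra R S]
    [AddCommGroup M] [Module R M] [AddCommGroup N] [Module R N] [Module S N] [IsScalarTower R S N]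
    (b : Module.Basis ι R M) (b' : Module.Basis ι S N) (f : M →ₗ[R] N)
    (hf : ∀ i, f (b i) = b' i) : IsBaseChange S f := by
  let e : S ⊗[R] M ≃ₗ[S] N := (Algebra.TensorProduct.basis S b).equiv b' (Equiv.refl ι)
  refine IsBaseChange.of_equiv e (fun x => ?_)
  have h : (e.toLinearMap.restrictScalars R).comp
      ((TensorProduct.mk R S M) 1) = f := by
    apply b.ext
    intro i
    simp only [LinearMap.comp_apply, LinearMap.restrictScalars_apply, LinearEquiv.coe_coe,
      TensorProduct.mk_apply]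
    rw [← Algebra.TensorProduct.basis_apply, Module.Basis.equiv_apply, Equiv.refl_apply, hf]
  exact LinearMap.congr_fun h x

end Basis

section RootRing

variable (p : ℕ)

theorem exists_basis_rootRing' (hp : p ≠ 0) (A : Type u) [CommRing A] [Nontrivial A] (a : A) :
    ∃ c : Module.Basis (Fin p) A (Quiet.RootRing p A a),
      ∀ j, c j = AdjoinRoot.root (X ^ p - C a : A[X]) ^ (j : ℕ) := by
  have hmonic : (X ^ p - C a : A[X]).Monic := monic_X_pow_sub_C a hp
  have hdeg : (X ^ p - C a : A[X]).natDegree = p := natDegree_X_pow_sub_C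
  let pb := AdjoinRoot.powerBasis' hmonic
  have hdim : pb.dim = p := hdeg
  refine ⟨pb.basis.reindex (finCongr hdim), fun j => ?_⟩
  rw [Module.Basis.reindex_apply, PowerBasis.basis_eq_pow]
  rfl

/-- the canonical map between root rings -/
noncomputable def rootRingMap {A A' : Type u} [CommRing A] [CommRing A'] (φ : A →+* A') (a : A) :
    Quiet.RootRing p A a →+* Quiet.RootRing p A' (φ a) :=
  AdjoinRoot.lift ((AdjoinRoot.of _).comp φ) (AdjoinRoot.root _) (by
    rw [eval₂_sub, eval₂_pow, eval₂_X, eval₂_C, RingHom.comp_apply]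
    have := AdjoinRoot.eval₂_root (X ^ p - C (φ a) : A'[X])
    rw [eval₂_sub, eval₂_pow, eval₂_X, eval₂_C] at this
    exact this)

theorem rootRingMap_of {A A' : Type u} [CommRing A] [CommRing A'] (φ : A →+* A') (a : A) (x : A) :
    rootRingMap p φ a (AdjoinRoot.of _ x) = AdjoinRoot.of _ (φ x) := by
  simp [rootRingMap]

theorem rootRingMap_root {A A' : Type u} [CommRing A] [CommRing A'] (φ : A →+* A') (a : A) :
    rootRingMap p φ a (AdjoinRoot.root _) = AdjoinRoot.root _ := by
  simp [rootRingMap]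

/-- root rings commute with base change -/
theorem isPushout_rootRing (hp : p ≠ 0) (A A' : Type u) [CommRing A] [CommRing A'] [Algebra A A']
    [Nontrivial A'] (a : A) :
    letI : Algebra (Quiet.RootRing p A a) (Quiet.RootRing p A' (algebraMap A A' a)) :=
      (rootRingMap p (algebraMap A A') a).toAlgebra
    ∃ (_ : IsScalarTower A (Quiet.RootRing p A a) (Quiet.RootRing p A' (algebraMap A A' a))),
      Algebra.IsPushout A (Quiet.RootRing p A a) A' (Quiet.RootRing p A' (algebraMap A A' a)) := by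
  letI alg11 : Algebra (Quiet.RootRing p A a) (Quiet.RootRing p A' (algebraMap A A' a)) :=
      (rootRingMap p (algebraMap A A') a).toAlgebra
  have : Nontrivial A := (algebraMap A A').domain_nontrivial
  have tw1 : IsScalarTower A (Quiet.RootRing p A a) (Quiet.RootRing p A' (algebraMap A A' a)) :=
    .of_algebraMap_eq (fun x => by
      change algebraMap A (Quiet.RootRing p A' (algebraMap A A' a)) x =
        rootRingMap p (algebraMap A A') a (AdjoinRoot.of _ x)
      rw [rootRingMap_of]
      rfl)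
  refine ⟨tw1, Algebra.IsPushout.symm ⟨?_⟩⟩
  obtain ⟨c, hc⟩ := exists_basis_rootRing' p hp A a
  obtain ⟨c', hc'⟩ := exists_basis_rootRing' p hp A' (algebraMap A A' a)
  refine isBaseChange_of_basis c c' _ (fun j => ?_)
  rw [hc, hc']
  change rootRingMap p (algebraMap A A') a (AdjoinRoot.root _ ^ (j : ℕ)) = _
  rw [map_pow, rootRingMap_root]

theorem root_pow (A : Type u) [CommRing A] (a : A) :
    (AdjoinRoot.root (X ^ p - C a : A[X])) ^ p = AdjoinRoot.of _ a := by
  have := AdjoinRoot.eval₂_root (X ^ p - C a : A[X])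
  rw [eval₂_sub, eval₂_pow, eval₂_X, eval₂_C, sub_eq_zero] at this
  exact this

/-- towers of `p`-th root extractions are stable under base change -/
theorem isRootTower_of_isPushout (hp : p ≠ 0) : ∀ (n : ℕ) (A B A' B' : Type u) [CommRing A]
    [CommRing B] [CommRing A'] [CommRing B'] [Algebra A B] [Algebra A A'] [Algebra B B']
    [Algebra A' B'] [Algebra A B'] [IsScalarTower A A' B'] [IsScalarTower A B B'] [Nontrivial A'],
    Algebra.IsPushout A B A' B' → Quiet.IsRootTower p n A B → Quiet.IsRootTower p n A' B' := by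
  intro n
  induction n with
  | zero =>
    intro A B A' B' _ _ _ _ _ _ _ _ _ _ _ _ hpo h
    obtain ⟨e₀⟩ := h
    have hpo' : Algebra.IsPushout A A' B B' := hpo.symm
    exact ⟨((Algebra.IsPushout.equiv A A' B B').symm.trans
      (Algebra.TensorProduct.congr (AlgEquiv.refl : A' ≃ₐ[A'] A') e₀)).trans
      (Algebra.TensorProduct.rid A A' A')⟩
  | succ n ih =>
    intro A B A' B' _ _ _ _ _ _ _ _ _ _ _ _ hpo h
    obtain ⟨a, alg₁, tower₁, h'⟩ := h
    letI := alg₁
    haveI := tower₁
    letI alg11 : Algebra (Quiet.RootRing p A a) (Quiet.RootRing p A' (algebraMap A A' a)) :=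
      (rootRingMap p (algebraMap A A') a).toAlgebra
    obtain ⟨tw1, po1⟩ := isPushout_rootRing p hp A A' a
    -- the map `A₁' → B'`
    let β : B' := algebraMap B B' (algebraMap (Quiet.RootRing p A a) B (AdjoinRoot.root _))
    have hβ : β ^ p = algebraMap A' B' (algebraMap A A' a) := by
      change (algebraMap B B' (algebraMap (Quiet.RootRing p A a) B (AdjoinRoot.root _))) ^ p = _
      rw [← map_pow, ← map_pow, root_pow]
      change algebraMap B B' (algebraMap (Quiet.RootRing p A a) B
        (algebraMap A (Quiet.RootRing p A a) a)) = _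
      rw [← IsScalarTower.algebraMap_apply A (Quiet.RootRing p A a) B,
        ← IsScalarTower.algebraMap_apply A B B', ← IsScalarTower.algebraMap_apply A A' B']
    let ρ : Quiet.RootRing p A' (algebraMap A A' a) →+* B' :=
      AdjoinRoot.lift (algebraMap A' B') β (by
        rw [eval₂_sub, eval₂_pow, eval₂_X, eval₂_C, hβ, sub_self])
    letI alg1'B' : Algebra (Quiet.RootRing p A' (algebraMap A A' a)) B' := ρ.toAlgebra
    have tw2 : IsScalarTower A' (Quiet.RootRing p A' (algebraMap A A' a)) B' :=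
      .of_algebraMap_eq (fun x => (AdjoinRoot.lift_of _).symm)
    letI alg1B' : Algebra (Quiet.RootRing p A a) B' :=
      ((algebraMap B B').comp (algebraMap (Quiet.RootRing p A a) B)).toAlgebra
    have tw3 : IsScalarTower (Quiet.RootRing p A a) B B' := .of_algebraMap_eq (fun x => rfl)
    have tw4 : IsScalarTower (Quiet.RootRing p A a) (Quiet.RootRing p A' (algebraMap A A' a)) B' := by
      refine .of_algebraMap_eq (fun x => ?_)
      have : (algebraMap B B').comp (algebraMap (Quiet.RootRing p A a) B) =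
          ρ.comp (rootRingMap p (algebraMap A A') a) := by
        apply AdjoinRoot.ringHom_ext
        · ext y
          change algebraMap B B' (algebraMap (Quiet.RootRing p A a) B
            (algebraMap A (Quiet.RootRing p A a) y)) =
            ρ (rootRingMap p (algebraMap A A') a (AdjoinRoot.of _ y))
          rw [rootRingMap_of, AdjoinRoot.lift_of,
            ← IsScalarTower.algebraMap_apply A (Quiet.RootRing p A a) B,
            ← IsScalarTower.algebraMap_apply A B B', ← IsScalarTower.algebraMap_apply A A' B']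
        · change β = ρ (rootRingMap p (algebraMap A A') a (AdjoinRoot.root _))
          rw [rootRingMap_root, AdjoinRoot.lift_root]
      exact RingHom.congr_fun this x
    have tw5 : IsScalarTower A (Quiet.RootRing p A' (algebraMap A A' a)) B' := by
      refine .of_algebraMap_eq (fun x => ?_)
      change algebraMap A B' x = ρ (AdjoinRoot.of _ (algebraMap A A' x))
      rw [AdjoinRoot.lift_of, ← IsScalarTower.algebraMap_apply A A' B']
    have po2 : Algebra.IsPushout (Quiet.RootRing p A a) B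
        (Quiet.RootRing p A' (algebraMap A A' a)) B' :=
      (Algebra.IsPushout.comp_iff A (Quiet.RootRing p A a) A'
        (S' := Quiet.RootRing p A' (algebraMap A A' a)) (T := B) (T' := B')).mp hpo
    have hnt : Nontrivial (Quiet.RootRing p A' (algebraMap A A' a)) := by
      obtain ⟨c, -⟩ := exists_basis_rootRing' p hp A' (algebraMap A A' a)
      have : NeZero p := ⟨hp⟩
      exact ⟨⟨c 0, 0, c.ne_zero 0⟩⟩
    exact ⟨algebraMap A A' a, alg1'B', tw2, ih _ B _ B' po2 h'⟩

/-- over the zero ring everything is a tower of `p`-th root extractions -/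
theorem isRootTower_of_subsingleton : ∀ (n : ℕ) (A B : Type u) [CommRing A] [CommRing B]
    [Algebra A B] [Subsingleton A], Quiet.IsRootTower p n A B := by
  intro n
  induction n with
  | zero =>
    intro A B _ _ _ _
    have : Subsingleton B := (algebraMap A B).codomain_trivial
    let ψ : B →ₐ[A] A :=
      { toFun := fun _ => 0, map_one' := Subsingleton.elim _ _, map_mul' := fun _ _ => by simp,
        map_zero' := rfl, map_add' := fun _ _ => by simp,
        commutes' := fun _ => Subsingleton.elim _ _ }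
    exact ⟨AlgEquiv.ofBijective ψ
      ⟨fun _ _ _ => Subsingleton.elim _ _, fun _ => ⟨0, Subsingleton.elim _ _⟩⟩⟩
  | succ n ih =>
    intro A B _ _ _ _
    have : Subsingleton B := (algebraMap A B).codomain_trivial
    have : Subsingleton (Quiet.RootRing p A (0 : A)) :=
      (algebraMap A (Quiet.RootRing p A (0 : A))).codomain_trivial
    let φ : Quiet.RootRing p A (0 : A) →+* B :=
      AdjoinRoot.lift (algebraMap A B) 0 (Subsingleton.elim _ _)
    letI : Algebra (Quiet.RootRing p A (0 : A)) B := φ.toAlgebra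
    exact ⟨0, φ.toAlgebra, IsScalarTower.of_algebraMap_eq (fun _ => Subsingleton.elim _ _),
      ih _ B⟩

/-- towers of `p`-th root extractions are stable under base change (no nontriviality) -/
theorem isRootTower_of_isPushout' (hp : p ≠ 0) (n : ℕ) (A B A' B' : Type u) [CommRing A]
    [CommRing B] [CommRing A'] [CommRing B'] [Algebra A B] [Algebra A A'] [Algebra B B']
    [Algebra A' B'] [Algebra A B'] [IsScalarTower A A' B'] [IsScalarTower A B B']
    (hpo : Algebra.IsPushout A B A' B') (h : Quiet.IsRootTower p n A B) :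
    Quiet.IsRootTower p n A' B' := by
  rcases subsingleton_or_nontrivial A' with hs | hn
  · exact isRootTower_of_subsingleton p n A' B'
  · exact isRootTower_of_isPushout p hp n A B A' B' hpo h

end RootRing

open CategoryTheory AlgebraicGeometry CategoryTheory.Limits

section Sch

variable (p : ℕ)

/-- extractions of `p`-th roots are stable under base change -/
theorem isPthRoot_of_isPullback (hp : p ≠ 0) {Y X X' Y' : Scheme.{u}} (r : Y ⟶ X) (g : X' ⟶ X)
    (r' : Y' ⟶ X') (g' : Y' ⟶ Y) (H : IsPullback g' r' r g) (hr : Quiet.IsPthRoot p r) :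
    Quiet.IsPthRoot p r' := by
  intro x'
  obtain ⟨U, hxU, hraff, hn⟩ := hr (g x')
  obtain ⟨_, ⟨U', hU', rfl⟩, hx'U', hU'U⟩ :=
    X'.isBasis_affineOpens.exists_subset_of_mem_open (show x' ∈ (g ⁻¹ᵁ U.1 : Set X') from hxU)
      (g ⁻¹ᵁ U.1).isOpen
  have hUST : U' ≤ g ⁻¹ᵁ U.1 := hU'U
  have hUSX : r ⁻¹ᵁ U.1 ≤ r ⁻¹ᵁ U.1 := le_rfl
  have hUY : r' ⁻¹ᵁ U' = g' ⁻¹ᵁ (r ⁻¹ᵁ U.1) ⊓ r' ⁻¹ᵁ U' := by
    refine le_antisymm (le_inf ?_ le_rfl) inf_le_right
    intro y hy
    change r (g' y) ∈ U.1
    have : r (g' y) = g (r' y) := by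
      rw [← Scheme.Hom.comp_apply, ← Scheme.Hom.comp_apply, H.w]
    rw [this]
    exact hUST hy
  have hiso := isIso_pushoutSection_of_isAffineOpen H hUST hUSX hUY U.2 hU' hraff
  have hpo := (isIso_pushoutSection_iff H hUST hUSX hUY).mp hiso
  have hW : IsAffineOpen (r' ⁻¹ᵁ U') := by
    have : IsAffine (U.1 : Scheme.{u}) := U.2
    have : IsAffine (U' : Scheme.{u}) := hU'
    have : IsAffine ((r ⁻¹ᵁ U.1 : Y.Opens) : Scheme.{u}) := hraff
    exact IsAffine.of_isIso (Scheme.Hom.isPullback_resLE H hUST hUSX hUY).isoPullback.hom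
  refine ⟨⟨U', hU'⟩, hx'U', hW, ?_⟩
  letI algAB : Algebra Γ(X, U.1) Γ(Y, r ⁻¹ᵁ U.1) := (r.app U.1).hom.toAlgebra
  letI algA'B' : Algebra Γ(X', U') Γ(Y', r' ⁻¹ᵁ U') := (r'.app U').hom.toAlgebra
  obtain ⟨n, hn'⟩ := hn
  refine ⟨n, ?_⟩
  letI algAA' : Algebra Γ(X, U.1) Γ(X', U') := (g.appLE U.1 U' hUST).hom.toAlgebra
  letI algBB' : Algebra Γ(Y, r ⁻¹ᵁ U.1) Γ(Y', r' ⁻¹ᵁ U') :=
    (g'.appLE (r ⁻¹ᵁ U.1) (r' ⁻¹ᵁ U') (by rw [hUY]; exact inf_le_left)).hom.toAlgebra
  letI algAB' : Algebra Γ(X, U.1) Γ(Y', r' ⁻¹ᵁ U') :=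
    ((r'.app U').hom.comp (g.appLE U.1 U' hUST).hom).toAlgebra
  have tw1 : IsScalarTower Γ(X, U.1) Γ(X', U') Γ(Y', r' ⁻¹ᵁ U') :=
    IsScalarTower.of_algebraMap_eq (fun _ => rfl)
  have hr'app : r'.appLE U' (r' ⁻¹ᵁ U') le_rfl = r'.app U' :=
    Scheme.Hom.appLE_eq_app r'
  have hrapp : r.appLE U.1 (r ⁻¹ᵁ U.1) hUSX = r.app U.1 := Scheme.Hom.appLE_eq_app r
  rw [hr'app, hrapp] at hpo
  have hw := hpo.w
  have tw2 : IsScalarTower Γ(X, U.1) Γ(Y, r ⁻¹ᵁ U.1) Γ(Y', r' ⁻¹ᵁ U') :=
    IsScalarTower.of_algebraMap_eq (fun x => by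
      have := congrArg (fun f => f.hom x) hw
      simp only [CommRingCat.hom_comp, RingHom.comp_apply] at this
      exact this.symm)
  have hpo' : Algebra.IsPushout Γ(X, U.1) Γ(Y, r ⁻¹ᵁ U.1) Γ(X', U') Γ(Y', r' ⁻¹ᵁ U') :=
    CommRingCat.isPushout_iff_isPushout.mp hpo
  exact isRootTower_of_isPushout' p hp n Γ(X, U.1) Γ(Y, r ⁻¹ᵁ U.1) Γ(X', U') Γ(Y', r' ⁻¹ᵁ U')
    hpo' hn'

end Sch

section Quiet

variable (p : ℕ)

/-- quasi-etale morphisms are stable under base change -/
theorem isQuiet_of_isPullback (hp : p ≠ 0) {X Y X' Y' : Scheme.{u}}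
    (f : Y ⟶ X) (g : X' ⟶ X) (f' : Y' ⟶ X') (g' : Y' ⟶ Y) (H : IsPullback g' f' f g)
    (hf : Quiet.IsQuiet p f) : Quiet.IsQuiet p f' := by
  intro y'
  obtain ⟨V, Y₀, r, e, hyV, hr, he, hfac⟩ := hf (g' y')
  have hcomm : ((g' ∣_ V) ≫ r) ≫ e = ((g' ⁻¹ᵁ V).ι ≫ f') ≫ g := by
    rw [Category.assoc, hfac, ← Category.assoc, morphismRestrict_ι, Category.assoc,
      Category.assoc, H.w]
  let r' : ((g' ⁻¹ᵁ V : Y'.Opens) : Scheme.{u}) ⟶ pullback e g :=
    pullback.lift ((g' ∣_ V) ≫ r) ((g' ⁻¹ᵁ V).ι ≫ f') hcomm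
  have h1 : r' ≫ pullback.snd e g = (g' ⁻¹ᵁ V).ι ≫ f' := pullback.lift_snd _ _ _
  have h2 : r' ≫ pullback.fst e g = (g' ∣_ V) ≫ r := pullback.lift_fst _ _ _
  refine ⟨g' ⁻¹ᵁ V, pullback e g, r', pullback.snd e g, hyV, ?_, inferInstance, h1⟩
  -- `r'` is a base change of `r`
  have sq1 : IsPullback (g' ⁻¹ᵁ V).ι (g' ∣_ V) g' V.ι := (isPullback_morphismRestrict g' V).flip
  have sq2 : IsPullback f' g' g f := H.flip
  have outer := sq1.paste_horiz sq2
  rw [← h1, ← hfac] at outer
  have right : IsPullback (pullback.snd e g) (pullback.fst e g) g e :=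
    (IsPullback.of_hasPullback e g).flip
  have left := IsPullback.of_right outer h2 right
  exact isPthRoot_of_isPullback p hp r (pullback.fst e g) r' (g' ∣_ V) left.flip hr

end Quiet

end Groth.Agent.Lib.T2H7.RootTowerBC
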