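import Mathlib
import Groth.Prelude
import Groth.Agent.Lib.T2H7RootTowerBC
import Groth.Agent.Lib.T2H7RelFrobRk

/-!
# Composition of quasi-étale morphisms (helper7)

* `isRootTower_of_ringEquiv`, `isRootTower_trans`: transport and composition of towers of `p`-th
  root extractions.
* `exists_descent`: an étale algebra over a tower of `p`-th root extractions (characteristic `p`)
  descends to an étale algebra over the base.
* `chart_of_le`: an affine open inside a chart of an extraction of `p`-th roots is a chart.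
* `exists_affine_datum`, `isQuiet_of_affine_datum`: affine-local description of quasi-étale
  morphisms.
* `isQuiet_comp`: quasi-étale morphisms over a base of characteristic `p` compose.
-/

set_option autoImplicit false
set_option linter.style.haveILetI false
universe u v w
open TensorProduct Polynomial CategoryTheory CategoryTheory.Limits AlgebraicGeometry

namespace Groth.Agent.Lib.T2H7.QuietComp

open Groth.Agent.Lib.T2H7.RootTowerBC Groth.Agent.Lib.T2H7.RelFrobRk Groth.Agent.Lib.T2H7.RelFrobSm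

section Transport

variable (p : ℕ)

/-- towers of `p`-th root extractions can be transported along isomorphisms of the base and the
top ring -/
theorem isRootTower_of_ringEquiv (hp : p ≠ 0) (n : ℕ) (A B A' B' : Type u) [CommRing A]
    [CommRing B] [CommRing A'] [CommRing B'] [Algebra A B] [Algebra A' B'] (eA : A ≃+* A')
    (eB : B ≃+* B') (h : ∀ a, eB (algebraMap A B a) = algebraMap A' B' (eA a))
    (ht : Quiet.IsRootTower p n A B) : Quiet.IsRootTower p n A' B' := by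
  letI algAA' : Algebra A A' := eA.toRingHom.toAlgebra
  letI algBB' : Algebra B B' := eB.toRingHom.toAlgebra
  letI algAB' : Algebra A B' := ((algebraMap A' B').comp eA.toRingHom).toAlgebra
  have tw1 : IsScalarTower A A' B' := IsScalarTower.of_algebraMap_eq (fun _ => rfl)
  have tw2 : IsScalarTower A B B' := IsScalarTower.of_algebraMap_eq (fun a => (h a).symm)
  have hsq : IsPushout (CommRingCat.ofHom (algebraMap A B)) (CommRingCat.ofHom (algebraMap A A'))
      (CommRingCat.ofHom (algebraMap B B')) (CommRingCat.ofHom (algebraMap A' B')) := by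
    haveI : IsIso (CommRingCat.ofHom (algebraMap A A')) :=
      (RingEquiv.toCommRingCatIso eA).isIso_hom
    haveI : IsIso (CommRingCat.ofHom (algebraMap B B')) :=
      (RingEquiv.toCommRingCatIso eB).isIso_hom
    refine IsPushout.of_vert_isIso ⟨?_⟩
    ext a
    exact h a
  have hpo : Algebra.IsPushout A B A' B' := CommRingCat.isPushout_iff_isPushout.mp hsq
  exact isRootTower_of_isPushout' p hp n A B A' B' hpo ht

end Transport

section Trans

variable (p : ℕ)

/-- towers of `p`-th root extractions compose -/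
theorem isRootTower_trans (hp : p ≠ 0) : ∀ (n m : ℕ) (A B C : Type u) [CommRing A] [CommRing B]
    [CommRing C] [Algebra A B] [Algebra B C] [Algebra A C] [IsScalarTower A B C],
    Quiet.IsRootTower p n A B → Quiet.IsRootTower p m B C → Quiet.IsRootTower p (n + m) A C := by
  intro n
  induction n with
  | zero =>
    intro m A B C _ _ _ _ _ _ _ h1 h2
    obtain ⟨e₀⟩ := h1
    rw [Nat.zero_add]
    refine isRootTower_of_ringEquiv p hp m B C A C e₀.toRingEquiv (RingEquiv.refl C) (fun b => ?_) h2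
    change algebraMap B C b = algebraMap A C (e₀ b)
    rw [IsScalarTower.algebraMap_apply A B C, ← e₀.symm.commutes]
    simp
  | succ n ih =>
    intro m A B C _ _ _ _ _ _ _ h1 h2
    obtain ⟨a, alg₁, tower₁, h'⟩ := h1
    letI := alg₁
    haveI := tower₁
    letI alg1C : Algebra (Quiet.RootRing p A a) C :=
      ((algebraMap B C).comp (algebraMap (Quiet.RootRing p A a) B)).toAlgebra
    have tw1 : IsScalarTower (Quiet.RootRing p A a) B C :=
      IsScalarTower.of_algebraMap_eq (fun _ => rfl)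
    have tw2 : IsScalarTower A (Quiet.RootRing p A a) C := by
      refine IsScalarTower.of_algebraMap_eq (fun x => ?_)
      change algebraMap A C x = algebraMap B C (algebraMap (Quiet.RootRing p A a) B
        (algebraMap A (Quiet.RootRing p A a) x))
      rw [← IsScalarTower.algebraMap_apply A (Quiet.RootRing p A a) B,
        ← IsScalarTower.algebraMap_apply A B C]
    have := ih m (Quiet.RootRing p A a) B C h' h2
    rw [Nat.succ_add]
    exact ⟨a, alg1C, tw2, this⟩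

end Trans

section Conv

/-- a bijective comparison map out of the tensor product exhibits a pushout square of rings -/
theorem isPushout_of_bijective_tensor {R S R' S' : Type u} [CommRing R] [CommRing S] [CommRing R']
    [CommRing S'] (f : R →+* S) (g : R →+* R') (f' : R' →+* S') (g' : S →+* S')
    (h : letI := f.toAlgebra
      letI := g.toAlgebra
      ∃ Ψ : R' ⊗[R] S →+* S', Function.Bijective Ψ ∧ ∀ r' s, Ψ (r' ⊗ₜ[R] s) = f' r' * g' s) :
    IsPushout (CommRingCat.ofHom f) (CommRingCat.ofHom g) (CommRingCat.ofHom g')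
      (CommRingCat.ofHom f') := by
  letI algRS : Algebra R S := f.toAlgebra
  letI algRR' : Algebra R R' := g.toAlgebra
  obtain ⟨Ψ, hbij, hΨ⟩ := h
  have h0 := CommRingCat.isPushout_tensorProduct R R' S
  refine (h0.of_iso (Iso.refl _) (Iso.refl _) (Iso.refl _)
    (RingEquiv.toCommRingCatIso (RingEquiv.ofBijective Ψ hbij)) ?_ ?_ ?_ ?_).flip
  · rfl
  · rfl
  · ext r'
    change Ψ (r' ⊗ₜ[R] (1 : S)) = f' r'
    rw [hΨ, map_one, mul_one]
  · ext s
    change Ψ ((1 : R') ⊗ₜ[R] s) = g' s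
    rw [hΨ, map_one, one_mul]

end Conv

section Step

variable (p : ℕ) [Fact p.Prime]

theorem nontrivial_rootRing (A : Type u) [CommRing A] [Nontrivial A] (a : A) :
    Nontrivial (Quiet.RootRing p A a) := by
  have hp : p ≠ 0 := (Fact.out : p.Prime).ne_zero
  obtain ⟨c, -⟩ := exists_basis_rootRing' p hp A a
  have : NeZero p := ⟨hp⟩
  exact ⟨⟨c 0, 0, c.ne_zero 0⟩⟩

theorem charP_rootRing (A : Type u) [CommRing A] [CharP A p] (a : A) :
    CharP (Quiet.RootRing p A a) p := by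
  have hp : p.Prime := Fact.out
  haveI : Nontrivial A := CharP.nontrivial_of_char_ne_one (hp.ne_one)
  haveI := nontrivial_rootRing p A a
  exact charP_of_algebra_of_nontrivial p A (Quiet.RootRing p A a)

/-- the `p`-th power map of `A[x]/(x^p - a)` viewed with values in `A` -/
noncomputable def rootTheta (A : Type u) [CommRing A] [CharP A p] (a : A) :
    Quiet.RootRing p A a →+* A :=
  AdjoinRoot.lift (frobenius A p) a (by
    rw [eval₂_sub, eval₂_pow, eval₂_X, eval₂_C, frobenius_def, sub_self])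

theorem rootTheta_of (A : Type u) [CommRing A] [CharP A p] (a x : A) :
    rootTheta p A a (AdjoinRoot.of _ x) = x ^ p := by
  simp [rootTheta, frobenius_def]

theorem of_rootTheta (A : Type u) [CommRing A] [CharP A p] (a : A) (s : Quiet.RootRing p A a) :
    AdjoinRoot.of _ (rootTheta p A a s) = s ^ p := by
  haveI := charP_rootRing p A a
  have : (AdjoinRoot.of (X ^ p - C a : A[X])).comp (rootTheta p A a) =
      frobenius (Quiet.RootRing p A a) p := by
    apply AdjoinRoot.ringHom_ext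
    · ext x
      change AdjoinRoot.of _ (rootTheta p A a (AdjoinRoot.of _ x)) = (AdjoinRoot.of _ x) ^ p
      rw [rootTheta_of, map_pow]
    · change AdjoinRoot.of _ (rootTheta p A a (AdjoinRoot.root _)) = (AdjoinRoot.root _) ^ p
      rw [root_pow]
      simp [rootTheta]
  exact RingHom.congr_fun this s

/-- an étale algebra over `A[x]/(x^p - a)` descends to an étale algebra over `A` -/
theorem exists_descent_step (A : Type u) [CommRing A] [CharP A p] (a : A)
    (C₁ : Type u) [CommRing C₁] [Nontrivial C₁] (σ₁ : Quiet.RootRing p A a →+* C₁)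
    (hσ₁ : σ₁.Etale) :
    ∃ (C₀ : Type u) (_ : CommRing C₀) (α : A →+* C₀) (τ : C₀ →+* C₁), α.Etale ∧
      IsPushout (CommRingCat.ofHom (AdjoinRoot.of (X ^ p - C a : A[X])))
        (CommRingCat.ofHom α) (CommRingCat.ofHom σ₁) (CommRingCat.ofHom τ) := by
  have hp : p.Prime := Fact.out
  haveI : Nontrivial A := CharP.nontrivial_of_char_ne_one (hp.ne_one)
  haveI := nontrivial_rootRing p A a
  haveI := charP_rootRing p A a
  letI algA₁C₁ : Algebra (Quiet.RootRing p A a) C₁ := σ₁.toAlgebra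
  haveI etC₁ : Algebra.Etale (Quiet.RootRing p A a) C₁ := hσ₁
  haveI : CharP C₁ p := charP_of_algebra_of_nontrivial p (Quiet.RootRing p A a) C₁
  letI algA₁A : Algebra (Quiet.RootRing p A a) A := (rootTheta p A a).toAlgebra
  -- the descended algebra
  let C₀ := A ⊗[Quiet.RootRing p A a] C₁
  let α : A →+* C₀ := algebraMap A C₀
  have hα : α.Etale := RingHom.etale_algebraMap.mpr inferInstance
  -- the comparison map
  let fA : A →ₐ[Quiet.RootRing p A a] FrobAlg.Target p (Quiet.RootRing p A a) C₁ :=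
    { toRingHom := (FrobAlg.toTarget p (Quiet.RootRing p A a) C₁ : C₁ →+* _).comp
        (σ₁.comp (AdjoinRoot.of _))
      commutes' := fun s => by
        change FrobAlg.toTarget p _ C₁ (σ₁ (AdjoinRoot.of _ (rootTheta p A a s))) =
          FrobAlg.toTarget p _ C₁ ((σ₁ s) ^ p)
        rw [of_rootTheta, map_pow] }
  let τ : C₀ →+* C₁ :=
    ((FrobAlg.toTarget p (Quiet.RootRing p A a) C₁).symm : _ →+* C₁).comp
      (Algebra.TensorProduct.lift fA (FrobAlg.frobHom p (Quiet.RootRing p A a) C₁)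
        (fun _ _ => Commute.all _ _)).toRingHom
  have hτ : ∀ (x : A) (c : C₁), τ (x ⊗ₜ c) = σ₁ (AdjoinRoot.of _ x) * c ^ p := by
    intro x c
    change (FrobAlg.toTarget p _ C₁).symm
      (Algebra.TensorProduct.lift fA (FrobAlg.frobHom p (Quiet.RootRing p A a) C₁)
        (fun _ _ => Commute.all _ _) (x ⊗ₜ c)) = _
    rw [Algebra.TensorProduct.lift_tmul]
    rfl
  let θ' : C₁ →+* C₀ := (Algebra.TensorProduct.includeRight :
    C₁ →ₐ[Quiet.RootRing p A a] C₀).toRingHom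
  haveI : Nontrivial C₀ := τ.domain_nontrivial
  have hp0 : ((p : ℕ) : C₀) = 0 := by
    rw [← map_natCast α, CharP.cast_eq_zero, map_zero]
  haveI : CharP C₀ p := ringChar.of_eq (CharP.ringChar_of_prime_eq_zero hp hp0)
  refine ⟨C₀, inferInstance, α, τ, hα, ?_⟩
  apply isPushout_of_bijective_tensor
  refine exists_bijective_of_etale_frobenius_square p hp (AdjoinRoot.of _) α τ σ₁ ?_ hα hσ₁ hp0
    (rootTheta p A a) θ' (of_rootTheta p A a) ?_ ?_ ?_
  · ext x
    change τ (x ⊗ₜ (1 : C₁)) = σ₁ (AdjoinRoot.of _ x)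
    rw [hτ, one_pow, mul_one]
  · intro c
    change τ ((1 : A) ⊗ₜ c) = c ^ p
    rw [hτ, map_one, map_one, one_mul]
  · intro r'
    induction r' using TensorProduct.induction_on with
    | zero => simp [zero_pow hp.ne_zero]
    | tmul x c =>
      rw [hτ, Algebra.TensorProduct.tmul_pow]
      change (1 : A) ⊗ₜ[Quiet.RootRing p A a] (σ₁ (AdjoinRoot.of _ x) * c ^ p) = _
      have h1 : σ₁ (AdjoinRoot.of _ x) * c ^ p =
          (AdjoinRoot.of (X ^ p - C a : A[X]) x) • (c ^ p) := by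
        rw [Algebra.smul_def]
        rfl
      rw [h1, ← TensorProduct.smul_tmul, Algebra.smul_def, mul_one]
      congr 1
      exact rootTheta_of p A a x
    | add x y hx hy =>
      rw [map_add, map_add, hx, hy, add_pow_char]
  · intro s
    change (rootTheta p A a s) ⊗ₜ[Quiet.RootRing p A a] (1 : C₁) = (1 : A) ⊗ₜ (σ₁ s)
    have h1 : σ₁ s = s • (1 : C₁) := by
      rw [Algebra.smul_def, mul_one]
      rfl
    rw [h1, ← TensorProduct.smul_tmul, Algebra.smul_def, mul_one]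
    rfl

/-- an étale algebra over a tower of `p`-th root extractions descends to the base -/
theorem exists_descent : ∀ (n : ℕ) (A B : Type u) [CommRing A] [CommRing B] [Algebra A B]
    [CharP A p], Quiet.IsRootTower p n A B → ∀ (D : Type u) [CommRing D] [Nontrivial D]
    (σ : B →+* D), σ.Etale →
    ∃ (C₀ : Type u) (_ : CommRing C₀) (α : A →+* C₀) (τ : C₀ →+* D), α.Etale ∧
      IsPushout (CommRingCat.ofHom (algebraMap A B)) (CommRingCat.ofHom α) (CommRingCat.ofHom σ)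
        (CommRingCat.ofHom τ) := by
  intro n
  induction n with
  | zero =>
    intro A B _ _ _ _ h D _ _ σ hσ
    obtain ⟨e₀⟩ := h
    have hbij : Function.Bijective (algebraMap A B) := by
      have : (algebraMap A B : A → B) = e₀.symm := by
        funext x
        rw [← e₀.symm.commutes]
        rfl
      rw [this]
      exact e₀.symm.bijective
    refine ⟨D, inferInstance, σ.comp (algebraMap A B), RingHom.id D,
      RingHom.Etale.stableUnderComposition _ _ (RingHom.Etale.of_bijective hbij) hσ, ?_⟩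
    haveI : IsIso (CommRingCat.ofHom (algebraMap A B)) :=
      (RingEquiv.toCommRingCatIso (RingEquiv.ofBijective _ hbij)).isIso_hom
    haveI : IsIso (CommRingCat.ofHom (RingHom.id D)) :=
      (RingEquiv.toCommRingCatIso (RingEquiv.refl D)).isIso_hom
    exact IsPushout.of_horiz_isIso ⟨rfl⟩
  | succ n ih =>
    intro A B _ _ _ _ h D _ _ σ hσ
    obtain ⟨a, alg₁, tower₁, h'⟩ := h
    letI := alg₁
    haveI := tower₁
    haveI := charP_rootRing p A a
    obtain ⟨C₁, _, α₁, τ₁, hα₁, po₁⟩ := ih (Quiet.RootRing p A a) B h' D σ hσ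
    haveI : Nontrivial C₁ := τ₁.domain_nontrivial
    obtain ⟨C₀, _, α, τ₀, hα, po₀⟩ := exists_descent_step p A a C₁ α₁ hα₁
    refine ⟨C₀, inferInstance, α, τ₁.comp τ₀, hα, ?_⟩
    have := po₀.paste_horiz po₁
    have e : CommRingCat.ofHom (algebraMap A B) =
        CommRingCat.ofHom (AdjoinRoot.of (X ^ p - C a : A[X])) ≫
          CommRingCat.ofHom (algebraMap (Quiet.RootRing p A a) B) := by
      ext x
      exact IsScalarTower.algebraMap_apply A (Quiet.RootRing p A a) B x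
    rw [e]
    exact this

end Step

section Chart

variable (p : ℕ)

/-- a chart of an extraction of `p`-th roots pulls back to charts -/
theorem chart_of_isPullback (hp : p ≠ 0) {Y X X' Y' : Scheme.{u}} (r : Y ⟶ X) (g : X' ⟶ X)
    (r' : Y' ⟶ X') (g' : Y' ⟶ Y) (H : IsPullback g' r' r g) (U : X.Opens) (hU : IsAffineOpen U)
    (hraff : IsAffineOpen (r ⁻¹ᵁ U)) (n : ℕ)
    (hn : letI := (r.app U).hom.toAlgebra
      Quiet.IsRootTower p n Γ(X, U) Γ(Y, r ⁻¹ᵁ U))
    (U' : X'.Opens) (hU' : IsAffineOpen U') (hUST : U' ≤ g ⁻¹ᵁ U) :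
    IsAffineOpen (r' ⁻¹ᵁ U') ∧
      (letI := (r'.app U').hom.toAlgebra
       Quiet.IsRootTower p n Γ(X', U') Γ(Y', r' ⁻¹ᵁ U')) := by
  have hUSX : r ⁻¹ᵁ U ≤ r ⁻¹ᵁ U := le_rfl
  have hUY : r' ⁻¹ᵁ U' = g' ⁻¹ᵁ (r ⁻¹ᵁ U) ⊓ r' ⁻¹ᵁ U' := by
    refine le_antisymm (le_inf ?_ le_rfl) inf_le_right
    intro y hy
    change r (g' y) ∈ U
    have : r (g' y) = g (r' y) := by
      rw [← Scheme.Hom.comp_apply, ← Scheme.Hom.comp_apply, H.w]
    rw [this]
    exact hUST hy
  have hiso := isIso_pushoutSection_of_isAffineOpen H hUST hUSX hUY hU hU' hraff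
  have hpo := (isIso_pushoutSection_iff H hUST hUSX hUY).mp hiso
  have hW : IsAffineOpen (r' ⁻¹ᵁ U') := by
    have : IsAffine (U : Scheme.{u}) := hU
    have : IsAffine (U' : Scheme.{u}) := hU'
    have : IsAffine ((r ⁻¹ᵁ U : Y.Opens) : Scheme.{u}) := hraff
    exact IsAffine.of_isIso (Scheme.Hom.isPullback_resLE H hUST hUSX hUY).isoPullback.hom
  refine ⟨hW, ?_⟩
  letI algAB : Algebra Γ(X, U) Γ(Y, r ⁻¹ᵁ U) := (r.app U).hom.toAlgebra
  letI algA'B' : Algebra Γ(X', U') Γ(Y', r' ⁻¹ᵁ U') := (r'.app U').hom.toAlgebra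
  letI algAA' : Algebra Γ(X, U) Γ(X', U') := (g.appLE U U' hUST).hom.toAlgebra
  letI algBB' : Algebra Γ(Y, r ⁻¹ᵁ U) Γ(Y', r' ⁻¹ᵁ U') :=
    (g'.appLE (r ⁻¹ᵁ U) (r' ⁻¹ᵁ U') (by rw [hUY]; exact inf_le_left)).hom.toAlgebra
  letI algAB' : Algebra Γ(X, U) Γ(Y', r' ⁻¹ᵁ U') :=
    ((r'.app U').hom.comp (g.appLE U U' hUST).hom).toAlgebra
  have tw1 : IsScalarTower Γ(X, U) Γ(X', U') Γ(Y', r' ⁻¹ᵁ U') :=
    IsScalarTower.of_algebraMap_eq (fun _ => rfl)
  have hr'app : r'.appLE U' (r' ⁻¹ᵁ U') le_rfl = r'.app U' :=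
    Scheme.Hom.appLE_eq_app r'
  have hrapp : r.appLE U (r ⁻¹ᵁ U) hUSX = r.app U := Scheme.Hom.appLE_eq_app r
  rw [hr'app, hrapp] at hpo
  have hw := hpo.w
  have tw2 : IsScalarTower Γ(X, U) Γ(Y, r ⁻¹ᵁ U) Γ(Y', r' ⁻¹ᵁ U') :=
    IsScalarTower.of_algebraMap_eq (fun x => by
      have := congrArg (fun f => f.hom x) hw
      simp only [CommRingCat.hom_comp, RingHom.comp_apply] at this
      exact this.symm)
  have hpo' : Algebra.IsPushout Γ(X, U) Γ(Y, r ⁻¹ᵁ U) Γ(X', U') Γ(Y', r' ⁻¹ᵁ U') :=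
    CommRingCat.isPushout_iff_isPushout.mp hpo
  exact isRootTower_of_isPushout' p hp n Γ(X, U) Γ(Y, r ⁻¹ᵁ U) Γ(X', U') Γ(Y', r' ⁻¹ᵁ U')
    hpo' hn

/-- an affine open inside a chart of an extraction of `p`-th roots is a chart -/
theorem chart_of_le (hp : p ≠ 0) {Y X : Scheme.{u}} (r : Y ⟶ X) (U : X.Opens)
    (hU : IsAffineOpen U) (hraff : IsAffineOpen (r ⁻¹ᵁ U)) (n : ℕ)
    (hn : letI := (r.app U).hom.toAlgebra
      Quiet.IsRootTower p n Γ(X, U) Γ(Y, r ⁻¹ᵁ U))
    (U' : X.Opens) (hU' : IsAffineOpen U') (hle : U' ≤ U) :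
    IsAffineOpen (r ⁻¹ᵁ U') ∧
      (letI := (r.app U').hom.toAlgebra
       Quiet.IsRootTower p n Γ(X, U') Γ(Y, r ⁻¹ᵁ U')) :=
  chart_of_isPullback p hp r (𝟙 X) r (𝟙 Y) (IsPullback.of_horiz_isIso ⟨by simp⟩) U hU hraff n hn
    U' hU' hle

end Chart

section Datum

variable (p : ℕ)

/-- affine-local form of a quasi-étale morphism -/
theorem exists_affine_datum (hp : p ≠ 0) {X Y : Scheme.{u}} (f : Y ⟶ X)
    (hf : Quiet.IsQuiet p f) (y : Y) (N : X.Opens) (hN : f y ∈ N) :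
    ∃ (V : Y.Opens) (hV : IsAffineOpen V) (A : CommRingCat.{u}) (ρ : A ⟶ Γ(Y, V))
      (e : Spec A ⟶ X) (n : ℕ), y ∈ V ∧ Etale e ∧ Set.range e ⊆ (N : Set X) ∧
      (letI := ρ.hom.toAlgebra
       Quiet.IsRootTower p n A Γ(Y, V)) ∧
      hV.fromSpec ≫ f = Spec.map ρ ≫ e := by
  obtain ⟨V₀, Y', r, e₀, hyV₀, hr, he₀, hfac⟩ := hf y
  let y₀ : (V₀ : Scheme.{u}) := ⟨y, hyV₀⟩
  have hy₀ : V₀.ι y₀ = y := rfl
  have hx' : e₀ (r y₀) = f y := by
    rw [← Scheme.Hom.comp_apply, hfac, Scheme.Hom.comp_apply, hy₀]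
  obtain ⟨U, hxU, hraff, n, hn⟩ := hr (r y₀)
  have hmem : r y₀ ∈ (U.1 ⊓ e₀ ⁻¹ᵁ N : Y'.Opens) := ⟨hxU, by
    change e₀ (r y₀) ∈ N
    rw [hx']
    exact hN⟩
  obtain ⟨_, ⟨U', hU', rfl⟩, hxU', hU'le⟩ :=
    Y'.isBasis_affineOpens.exists_subset_of_mem_open hmem (U.1 ⊓ e₀ ⁻¹ᵁ N).isOpen
  have hle1 : U' ≤ U.1 := fun z hz => (hU'le hz).1
  have hle2 : U' ≤ e₀ ⁻¹ᵁ N := fun z hz => (hU'le hz).2
  obtain ⟨hW, hn'⟩ := chart_of_le p hp r U.1 U.2 hraff n hn U' hU' hle1
  let V : Y.Opens := V₀.ι ''ᵁ (r ⁻¹ᵁ U')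
  have hV : IsAffineOpen V := hW.image_of_isOpenImmersion V₀.ι
  have hWV : r ⁻¹ᵁ U' ≤ V₀.ι ⁻¹ᵁ V := (Scheme.Hom.preimage_image_eq V₀.ι (r ⁻¹ᵁ U')).ge
  let κ : Γ(Y, V) ⟶ Γ(V₀, r ⁻¹ᵁ U') := V₀.ι.appLE V (r ⁻¹ᵁ U') hWV
  haveI hκ : IsIso κ := by
    have : κ = (V₀.ι.appIso (r ⁻¹ᵁ U')).hom := (Scheme.Hom.appIso_hom' V₀.ι (r ⁻¹ᵁ U')).symm
    rw [this]
    infer_instance
  refine ⟨V, hV, Γ(Y', U'), r.app U' ≫ inv κ, hU'.fromSpec ≫ e₀, n, ?_, inferInstance, ?_, ?_, ?_⟩
  · exact ⟨y₀, hxU', rfl⟩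
  · rintro _ ⟨z, rfl⟩
    rw [Scheme.Hom.comp_apply]
    have : hU'.fromSpec z ∈ (U' : Set Y') := by
      rw [← hU'.range_fromSpec]
      exact ⟨z, rfl⟩
    exact hle2 this
  · letI alg1 : Algebra Γ(Y', U') Γ(V₀, r ⁻¹ᵁ U') := (r.app U').hom.toAlgebra
    letI alg2 : Algebra Γ(Y', U') Γ(Y, V) := (r.app U' ≫ inv κ).hom.toAlgebra
    exact isRootTower_of_ringEquiv p hp n Γ(Y', U') Γ(V₀, r ⁻¹ᵁ U') Γ(Y', U') Γ(Y, V)
      (RingEquiv.refl _) (asIso κ).symm.commRingCatIsoToRingEquiv (fun a => rfl) hn'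
  · have h1 := IsAffineOpen.SpecMap_appLE_fromSpec V₀.ι hV hW hWV
    have h2 := IsAffineOpen.SpecMap_appLE_fromSpec r hU' hW le_rfl
    rw [Scheme.Hom.appLE_eq_app] at h2
    change Spec.map κ ≫ hV.fromSpec = hW.fromSpec ≫ V₀.ι at h1
    calc hV.fromSpec ≫ f = Spec.map (inv κ) ≫ (Spec.map κ ≫ hV.fromSpec) ≫ f := by
          rw [← Category.assoc, ← Category.assoc, ← Spec.map_comp, IsIso.hom_inv_id, Spec.map_id,
            Category.id_comp]
      _ = Spec.map (inv κ) ≫ hW.fromSpec ≫ r ≫ e₀ := by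
          rw [h1, Category.assoc, ← hfac]
      _ = Spec.map (inv κ) ≫ (Spec.map (r.app U') ≫ hU'.fromSpec) ≫ e₀ := by
          rw [h2, Category.assoc]
      _ = Spec.map (r.app U' ≫ inv κ) ≫ hU'.fromSpec ≫ e₀ := by
          rw [Spec.map_comp, Category.assoc, Category.assoc]

/-- affine-local data give a quasi-étale morphism -/
theorem isQuiet_of_affine_datum (hp : p ≠ 0) {X Y : Scheme.{u}} (f : Y ⟶ X)
    (h : ∀ y : Y, ∃ (V : Y.Opens) (hV : IsAffineOpen V) (A : CommRingCat.{u}) (ρ : A ⟶ Γ(Y, V))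
      (e : Spec A ⟶ X) (n : ℕ), y ∈ V ∧ Etale e ∧
      (letI := ρ.hom.toAlgebra
       Quiet.IsRootTower p n A Γ(Y, V)) ∧
      hV.fromSpec ≫ f = Spec.map ρ ≫ e) : Quiet.IsQuiet p f := by
  intro y
  obtain ⟨V, hV, A, ρ, e, n, hyV, he, hn, hcomm⟩ := h y
  refine ⟨V, Spec A, hV.isoSpec.hom ≫ Spec.map ρ, e, hyV, ?_, he, ?_⟩
  · intro x
    haveI : IsAffine (V : Scheme.{u}) := hV
    refine ⟨⟨⊤, isAffineOpen_top _⟩, trivial, isAffineOpen_top _, n, ?_⟩
    letI alg1 : Algebra A Γ(Y, V) := ρ.hom.toAlgebra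
    have happ : (hV.isoSpec.hom ≫ Spec.map ρ).appTop =
        (Scheme.ΓSpecIso A).hom ≫ ρ ≫ V.topIso.inv := by
      rw [Scheme.Hom.comp_appTop, IsAffineOpen.isoSpec_hom_appTop, ← Category.assoc,
        Scheme.ΓSpecIso_naturality, Category.assoc]
    letI alg2 : Algebra Γ(Spec A, ⊤) Γ(V, (hV.isoSpec.hom ≫ Spec.map ρ) ⁻¹ᵁ ⊤) :=
      ((hV.isoSpec.hom ≫ Spec.map ρ).app ⊤).hom.toAlgebra
    refine isRootTower_of_ringEquiv p hp n A Γ(Y, V) Γ(Spec A, ⊤)
      Γ(V, (hV.isoSpec.hom ≫ Spec.map ρ) ⁻¹ᵁ ⊤)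
      (Scheme.ΓSpecIso A).symm.commRingCatIsoToRingEquiv V.topIso.symm.commRingCatIsoToRingEquiv
      (fun a => ?_) hn
    change V.topIso.inv.hom (ρ.hom a) =
      (hV.isoSpec.hom ≫ Spec.map ρ).appTop.hom ((Scheme.ΓSpecIso A).inv.hom a)
    rw [happ]
    simp
  · rw [Category.assoc, ← hcomm, ← Category.assoc, hV.isoSpec_hom_fromSpec]

end Datum

section Comp

variable (p : ℕ) [Fact p.Prime]

/-- a ring with a morphism from its spectrum to a scheme of characteristic `p` has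
characteristic `p` -/
theorem charP_of_hom_Spec (A : CommRingCat.{u}) [Nontrivial A] {X : Scheme.{u}}
    [FrobSch.IsCharP X p] (e : Spec A ⟶ X) : CharP A p := by
  have hp : p.Prime := Fact.out
  have h0 : (p : Γ(X, ⊤)) = 0 := FrobSch.IsCharP.natCast_eq_zero
  have h1 : (p : Γ(Spec A, ⊤)) = 0 := by
    rw [← map_natCast e.appTop.hom, h0, map_zero]
  have h2 : ((p : ℕ) : A) = 0 := by
    rw [← map_natCast (Scheme.ΓSpecIso A).hom.hom, h1, map_zero]
  exact ringChar.of_eq (CharP.ringChar_of_prime_eq_zero hp h2)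

/-- quasi-étale morphisms compose -/
theorem isQuiet_comp {X Y Z : Scheme.{u}} [FrobSch.IsCharP X p]
    (f : Y ⟶ X) (g : Z ⟶ Y) (hf : Quiet.IsQuiet p f) (hg : Quiet.IsQuiet p g) :
    Quiet.IsQuiet p (g ≫ f) := by
  have hp : p ≠ 0 := (Fact.out : p.Prime).ne_zero
  apply isQuiet_of_affine_datum p hp
  intro z
  obtain ⟨VY, hVY, A, ρ, e, n, hyV, he, -, hn, hcomm⟩ :=
    exists_affine_datum p hp f hf (g z) ⊤ trivial
  obtain ⟨VZ, hVZ, D, ρ', e', m, hzV, he', hrange, hm, hcomm'⟩ :=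
    exists_affine_datum p hp g hg z VY hyV
  -- nontriviality
  haveI : Nonempty VY := ⟨⟨g z, hyV⟩⟩
  haveI : Nonempty VZ := ⟨⟨z, hzV⟩⟩
  haveI ntB : Nontrivial Γ(Y, VY) := Scheme.component_nontrivial Y VY
  haveI ntD' : Nontrivial Γ(Z, VZ) := Scheme.component_nontrivial Z VZ
  haveI ntA : Nontrivial A := ρ.hom.domain_nontrivial
  haveI ntD : Nontrivial D := ρ'.hom.domain_nontrivial
  haveI chA : CharP A p := charP_of_hom_Spec p A e
  -- `e'` factors through `VY`
  have hr : Set.range e' ⊆ Set.range hVY.fromSpec := by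
    rw [hVY.range_fromSpec]
    exact hrange
  let l : Spec D ⟶ Spec Γ(Y, VY) := IsOpenImmersion.lift hVY.fromSpec e' hr
  have hl : l ≫ hVY.fromSpec = e' := IsOpenImmersion.lift_fac _ _ _
  let σ : Γ(Y, VY) ⟶ D := Spec.preimage l
  have hσl : Spec.map σ = l := Spec.map_preimage l
  have hletale : Etale l := by
    haveI : Etale (l ≫ hVY.fromSpec) := by rw [hl]; exact he'
    exact Etale.of_comp l hVY.fromSpec
  have hσ : σ.hom.Etale := by
    rw [← hσl] at hletale
    exact (HasRingHomProperty.Spec_iff (P := @Etale)).mp hletale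
  -- descend
  letI algAB : Algebra A Γ(Y, VY) := ρ.hom.toAlgebra
  obtain ⟨C₀, _, α, τ, hα, hpo⟩ := exists_descent p n A Γ(Y, VY) hn D σ.hom hσ
  -- the tower `C₀ → D`
  letI algAC₀ : Algebra A C₀ := α.toAlgebra
  letI algC₀D : Algebra C₀ D := τ.toAlgebra
  letI algBD : Algebra Γ(Y, VY) D := σ.hom.toAlgebra
  letI algAD : Algebra A D := (σ.hom.comp ρ.hom).toAlgebra
  have tw1 : IsScalarTower A Γ(Y, VY) D := IsScalarTower.of_algebraMap_eq (fun _ => rfl)
  have hw := hpo.w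
  have tw2 : IsScalarTower A C₀ D := IsScalarTower.of_algebraMap_eq (fun x => by
    have := congrArg (fun f => f.hom x) hw
    simp only [CommRingCat.hom_comp, RingHom.comp_apply] at this
    exact this)
  have hpo' : Algebra.IsPushout A Γ(Y, VY) C₀ D := CommRingCat.isPushout_iff_isPushout.mp hpo
  have ht1 : Quiet.IsRootTower p n C₀ D :=
    isRootTower_of_isPushout' p hp n A Γ(Y, VY) C₀ D hpo' hn
  letI algDD' : Algebra D Γ(Z, VZ) := ρ'.hom.toAlgebra
  letI algC₀D' : Algebra C₀ Γ(Z, VZ) := (ρ'.hom.comp τ).toAlgebra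
  have tw3 : IsScalarTower C₀ D Γ(Z, VZ) := IsScalarTower.of_algebraMap_eq (fun _ => rfl)
  have ht2 : Quiet.IsRootTower p (n + m) C₀ Γ(Z, VZ) :=
    isRootTower_trans p hp n m C₀ D Γ(Z, VZ) ht1 hm
  refine ⟨VZ, hVZ, CommRingCat.of C₀, CommRingCat.ofHom τ ≫ ρ',
    Spec.map (CommRingCat.ofHom α) ≫ e, n + m, hzV, ?_, ht2, ?_⟩
  · haveI : Etale (Spec.map (CommRingCat.ofHom α)) :=
      (HasRingHomProperty.Spec_iff (P := @Etale)).mpr hα
    infer_instance
  · have hw' : ρ ≫ σ = CommRingCat.ofHom α ≫ CommRingCat.ofHom τ := hw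
    calc hVZ.fromSpec ≫ g ≫ f = (Spec.map ρ' ≫ e') ≫ f := by rw [← Category.assoc, hcomm']
      _ = Spec.map ρ' ≫ Spec.map σ ≫ hVY.fromSpec ≫ f := by
          rw [hσl, ← hl, Category.assoc, Category.assoc]
      _ = Spec.map ρ' ≫ Spec.map σ ≫ Spec.map ρ ≫ e := by rw [hcomm]
      _ = Spec.map (ρ ≫ σ ≫ ρ') ≫ e := by
          rw [Spec.map_comp, Spec.map_comp, Category.assoc, Category.assoc]
      _ = Spec.map (CommRingCat.ofHom τ ≫ ρ') ≫ Spec.map (CommRingCat.ofHom α) ≫ e := by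
          rw [← Category.assoc ρ, hw', Category.assoc, Spec.map_comp, Category.assoc]

end Comp

end Groth.Agent.Lib.T2H7.QuietComp
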