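import Mathlib
import Groth.Prelude
import Groth.Agent.Lib.T2H7RootTowerBC
import Groth.Agent.Lib.T2H7QuietComp

/-!
# Lifting quasi-étale morphisms along surjective closed immersions (helper7)

* `exists_lift_standardEtalePair`, `exists_lift_isStandardEtale`: standard étale algebras lift
  along surjections with nil kernel.
* `exists_lift_tower`: towers of `p`-th root extractions lift along surjections.
* `isPullback_fromSpec`, `app_surjective_and_nil`: affine charts of a surjective closed immersion.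
* `exists_isStandardEtale_nhd`: étale morphisms are locally standard étale.
* `exists_isQuiet_isPullback`: the local lifting statement.
-/

set_option autoImplicit false
set_option linter.style.haveILetI false
universe u v w
open TensorProduct Polynomial CategoryTheory CategoryTheory.Limits AlgebraicGeometry

namespace Groth.Agent.Lib.T2H7.QuietLift

open Groth.Agent.Lib.T2H7.RootTowerBC Groth.Agent.Lib.T2H7.QuietComp

section Pair

/-- standard étale pairs lift along surjections with nil kernel -/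
theorem exists_lift_standardEtalePair {R R' : Type u} [CommRing R] [CommRing R'] (π : R →+* R')
    (hπ : Function.Surjective π) (hnil : ∀ x ∈ RingHom.ker π, IsNilpotent x)
    (P' : StandardEtalePair R') : ∃ P : StandardEtalePair R, P.map π = P' := by
  obtain ⟨p₁', p₂', n, hcond⟩ := P'.cond
  obtain ⟨f, hf, -, hfm⟩ := Polynomial.lifts_and_natDegree_eq_and_monic
    ((Polynomial.mem_lifts _).mpr (Polynomial.map_surjective π hπ P'.f)) P'.monic_f
  obtain ⟨g, hg⟩ := Polynomial.map_surjective π hπ P'.g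
  obtain ⟨p₁, hp₁⟩ := Polynomial.map_surjective π hπ p₁'
  obtain ⟨p₂, hp₂⟩ := Polynomial.map_surjective π hπ p₂'
  set E : R[X] := derivative f * p₁ + f * p₂ with hE
  set δ : R[X] := E - g ^ n with hδ
  have hδ0 : δ.map π = 0 := by
    rw [hδ, hE, Polynomial.map_sub, Polynomial.map_add, Polynomial.map_mul, Polynomial.map_mul,
      Polynomial.map_pow, ← Polynomial.derivative_map, hf, hg, hp₁, hp₂, hcond, sub_self]
  have hδnil : IsNilpotent δ := by
    rw [Polynomial.isNilpotent_iff]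
    intro i
    apply hnil
    rw [RingHom.mem_ker, ← Polynomial.coeff_map, hδ0, Polynomial.coeff_zero]
  obtain ⟨N, hN⟩ := hδnil
  have hdvd : E ∣ (g ^ n) ^ N - (-δ) ^ N := by
    have := sub_dvd_pow_sub_pow (g ^ n) (-δ) N
    have e : g ^ n - -δ = E := by rw [hδ]; ring
    rwa [e] at this
  rw [neg_pow, hN, mul_zero, sub_zero] at hdvd
  obtain ⟨Q, hQ⟩ := hdvd
  let P : StandardEtalePair R :=
    { f := f, monic_f := hfm, g := g
      cond := ⟨p₁ * Q, p₂ * Q, n * N, by rw [pow_mul, hQ, hE]; ring⟩ }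
  refine ⟨P, ?_⟩
  obtain ⟨f', hf', g', c'⟩ := P'
  have h1 : f.map π = f' := hf
  have h2 : g.map π = g' := hg
  subst h1 h2
  rfl

end Pair

section Lift

/-- a standard étale algebra lifts along a surjection with nil kernel -/
theorem exists_lift_isStandardEtale {R R' A : Type u} [CommRing R] [CommRing R'] [CommRing A]
    (π : R →+* R') (hπ : Function.Surjective π) (hnil : ∀ x ∈ RingHom.ker π, IsNilpotent x)
    (σ' : R' →+* A)
    (hσ' : letI := σ'.toAlgebra
      Algebra.IsStandardEtale R' A) :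
    ∃ (A₀ : Type u) (_ : CommRing A₀) (α : R →+* A₀) (πA : A₀ →+* A), α.Etale ∧
      Function.Surjective πA ∧
      IsPushout (CommRingCat.ofHom α) (CommRingCat.ofHom π) (CommRingCat.ofHom πA)
        (CommRingCat.ofHom σ') := by
  letI algR'A : Algebra R' A := σ'.toAlgebra
  letI algRR' : Algebra R R' := π.toAlgebra
  obtain ⟨P', ⟨e'⟩⟩ : ∃ P' : StandardEtalePair R', Nonempty (A ≃ₐ[R'] P'.Ring) := by
    obtain ⟨Pr⟩ := hσ'.nonempty_standardEtalePresentation
    exact ⟨Pr.P, ⟨Pr.equivRing⟩⟩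
  obtain ⟨P, rfl⟩ := exists_lift_standardEtalePair π hπ hnil P'
  let Pr₀ : StandardEtalePresentation R P.Ring :=
    ⟨P, P.X, P.hasMap_X, by simpa [StandardEtalePair.lift_X_left] using Function.bijective_id⟩
  let Φ : R' ⊗[R] P.Ring ≃ₐ[R'] A := (Pr₀.baseChange (T := R')).equivRing.trans e'.symm
  let πA : P.Ring →+* A :=
    (Φ : R' ⊗[R] P.Ring →+* A).comp
      (Algebra.TensorProduct.includeRight : P.Ring →ₐ[R] R' ⊗[R] P.Ring).toRingHom
  refine ⟨P.Ring, inferInstance, algebraMap R P.Ring, πA,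
    RingHom.etale_algebraMap.mpr inferInstance, ?_, ?_⟩
  · intro a
    have h1 : ∀ z : R' ⊗[R] P.Ring, ∃ y : P.Ring, (1 : R') ⊗ₜ[R] y = z := by
      intro z
      induction z using TensorProduct.induction_on with
      | zero => exact ⟨0, by simp⟩
      | tmul r' x =>
        obtain ⟨r, rfl⟩ := hπ r'
        refine ⟨r • x, ?_⟩
        rw [← TensorProduct.smul_tmul, Algebra.smul_def, mul_one]
        rfl
      | add z₁ z₂ h₁ h₂ =>
        obtain ⟨y₁, rfl⟩ := h₁
        obtain ⟨y₂, rfl⟩ := h₂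
        exact ⟨y₁ + y₂, by rw [TensorProduct.tmul_add]⟩
    obtain ⟨y, hy⟩ := h1 (Φ.symm a)
    refine ⟨y, ?_⟩
    change Φ ((1 : R') ⊗ₜ[R] y) = a
    rw [hy, AlgEquiv.apply_symm_apply]
  · have h0 := CommRingCat.isPushout_tensorProduct R R' P.Ring
    refine (h0.of_iso (Iso.refl _) (Iso.refl _) (Iso.refl _)
      (RingEquiv.toCommRingCatIso Φ.toRingEquiv) ?_ ?_ ?_ ?_).flip
    · rfl
    · rfl
    · ext r'
      change Φ (r' ⊗ₜ[R] (1 : P.Ring)) = σ' r'
      have : r' ⊗ₜ[R] (1 : P.Ring) = algebraMap R' (R' ⊗[R] P.Ring) r' := rfl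
      rw [this, Φ.commutes]
      rfl
    · rfl

end Lift

section Tower

variable (p : ℕ)

theorem rootRingMap_surjective {A A' : Type u} [CommRing A] [CommRing A'] (φ : A →+* A')
    (hφ : Function.Surjective φ) (a : A) : Function.Surjective (rootRingMap p φ a) := by
  intro y
  induction y using AdjoinRoot.induction_on with
  | ih f =>
    induction f using Polynomial.induction_on' with
    | add f g hf hg =>
      obtain ⟨x₁, h₁⟩ := hf
      obtain ⟨x₂, h₂⟩ := hg
      exact ⟨x₁ + x₂, by rw [map_add, h₁, h₂, map_add]⟩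
    | monomial n c =>
      obtain ⟨c₀, rfl⟩ := hφ c
      refine ⟨AdjoinRoot.of _ c₀ * AdjoinRoot.root _ ^ n, ?_⟩
      rw [map_mul, map_pow, rootRingMap_of, rootRingMap_root, ← C_mul_X_pow_eq_monomial, map_mul,
        map_pow, AdjoinRoot.mk_C, AdjoinRoot.mk_X]

/-- towers of `p`-th root extractions lift along surjections -/
theorem exists_lift_tower (hp : p ≠ 0) : ∀ (n : ℕ) (R R' B' : Type u) [CommRing R] [CommRing R']
    [Nontrivial R'] [CommRing B'] [Algebra R' B'] (π : R →+* R'), Function.Surjective π →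
    Quiet.IsRootTower p n R' B' →
    ∃ (B : Type u) (_ : CommRing B) (_ : Algebra R B) (πB : B →+* B'),
      Quiet.IsRootTower p n R B ∧
      IsPushout (CommRingCat.ofHom (algebraMap R B)) (CommRingCat.ofHom π) (CommRingCat.ofHom πB)
        (CommRingCat.ofHom (algebraMap R' B')) := by
  intro n
  induction n with
  | zero =>
    intro R R' B' _ _ _ _ _ π hπ h
    obtain ⟨e₀⟩ := h
    have hbij : Function.Bijective (algebraMap R' B') := by
      have : (algebraMap R' B' : R' → B') = e₀.symm := by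
        funext x
        rw [← e₀.symm.commutes]
        rfl
      rw [this]
      exact e₀.symm.bijective
    refine ⟨R, inferInstance, Algebra.id R, (algebraMap R' B').comp π, ⟨AlgEquiv.refl⟩, ?_⟩
    haveI : IsIso (CommRingCat.ofHom (algebraMap R' B')) :=
      (RingEquiv.toCommRingCatIso (RingEquiv.ofBijective _ hbij)).isIso_hom
    haveI : IsIso (CommRingCat.ofHom (algebraMap R R)) :=
      (RingEquiv.toCommRingCatIso (RingEquiv.refl R)).isIso_hom
    exact IsPushout.of_horiz_isIso ⟨rfl⟩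
  | succ n ih =>
    intro R R' B' _ _ _ _ _ π hπ h
    obtain ⟨a', alg₁, tower₁, h'⟩ := h
    obtain ⟨a, rfl⟩ := hπ a'
    letI := alg₁
    haveI := tower₁
    letI algRR' : Algebra R R' := π.toAlgebra
    haveI nt1 : Nontrivial (Quiet.RootRing p R' (π a)) := by
      obtain ⟨c, -⟩ := exists_basis_rootRing' p hp R' (π a)
      have : NeZero p := ⟨hp⟩
      exact ⟨⟨c 0, 0, c.ne_zero 0⟩⟩
    obtain ⟨B, _, algB, πB, hB, hpo⟩ := ih (Quiet.RootRing p R a) (Quiet.RootRing p R' (π a)) B'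
      (rootRingMap p π a) (rootRingMap_surjective p π hπ a) h'
    letI := algB
    letI algRB : Algebra R B :=
      ((algebraMap (Quiet.RootRing p R a) B).comp (AdjoinRoot.of _)).toAlgebra
    have tw : IsScalarTower R (Quiet.RootRing p R a) B :=
      IsScalarTower.of_algebraMap_eq (fun _ => rfl)
    refine ⟨B, inferInstance, algRB, πB, ⟨a, algB, tw, hB⟩, ?_⟩
    -- the bottom square
    letI alg11 : Algebra (Quiet.RootRing p R a) (Quiet.RootRing p R' (algebraMap R R' a)) :=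
      (rootRingMap p (algebraMap R R') a).toAlgebra
    obtain ⟨tw1, po1⟩ := isPushout_rootRing p hp R R' a
    have sq1 : IsPushout (CommRingCat.ofHom (AdjoinRoot.of (X ^ p - C a : R[X])))
        (CommRingCat.ofHom π) (CommRingCat.ofHom (rootRingMap p π a))
        (CommRingCat.ofHom (AdjoinRoot.of (X ^ p - C (π a) : R'[X]))) :=
      CommRingCat.isPushout_iff_isPushout.mpr po1
    have := sq1.paste_horiz hpo
    have e1 : CommRingCat.ofHom (algebraMap R B) =
        CommRingCat.ofHom (AdjoinRoot.of (X ^ p - C a : R[X])) ≫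
          CommRingCat.ofHom (algebraMap (Quiet.RootRing p R a) B) := rfl
    have e2 : CommRingCat.ofHom (algebraMap R' B') =
        CommRingCat.ofHom (AdjoinRoot.of (X ^ p - C (π a) : R'[X])) ≫
          CommRingCat.ofHom (algebraMap (Quiet.RootRing p R' (π a)) B') := by
      ext x
      exact IsScalarTower.algebraMap_apply R' (Quiet.RootRing p R' (π a)) B' x
    rw [e1, e2]
    exact this

end Tower

section ClosedImm

/-- the affine chart square of a morphism over an affine open of the target is a pullback -/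
theorem isPullback_fromSpec {U T : Scheme.{u}} (i : U ⟶ T) (T₁ : T.Opens) (hT₁ : IsAffineOpen T₁)
    (hN : IsAffineOpen (i ⁻¹ᵁ T₁)) :
    IsPullback hN.fromSpec (Spec.map (i.app T₁)) i hT₁.fromSpec := by
  have h0 := isPullback_morphismRestrict i T₁
  have h1 : Spec.map (i.app T₁) ≫ hT₁.fromSpec = hN.fromSpec ≫ i := by
    have := IsAffineOpen.SpecMap_appLE_fromSpec i hT₁ hN le_rfl
    rwa [Scheme.Hom.appLE_eq_app] at this
  refine h0.flip.of_iso hN.isoSpec (Iso.refl _) hT₁.isoSpec (Iso.refl _) ?_ ?_ ?_ ?_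
  · simp
  · rw [← cancel_mono hT₁.fromSpec, Category.assoc, hT₁.isoSpec_hom_fromSpec, Category.assoc,
      h1, ← Category.assoc, hN.isoSpec_hom_fromSpec]
    exact (morphismRestrict_ι i T₁)
  · simp
  · simp

/-- a surjective closed immersion is given, over an affine open, by a surjection with nil
kernel -/
theorem app_surjective_and_nil {U T : Scheme.{u}} (i : U ⟶ T) [IsClosedImmersion i] [Surjective i]
    (T₁ : T.Opens) (hT₁ : IsAffineOpen T₁) :
    Function.Surjective (i.app T₁).hom ∧ ∀ x ∈ RingHom.ker (i.app T₁).hom, IsNilpotent x := by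
  have hN : IsAffineOpen (i ⁻¹ᵁ T₁) := hT₁.preimage i
  have hpb := isPullback_fromSpec i T₁ hT₁ hN
  haveI hci : IsClosedImmersion (Spec.map (i.app T₁)) :=
    MorphismProperty.of_isPullback hpb inferInstance
  haveI hsurj : Surjective (Spec.map (i.app T₁)) :=
    MorphismProperty.of_isPullback hpb inferInstance
  have h1 : Function.Surjective (i.app T₁).hom := by
    obtain ⟨-, h2⟩ := IsClosedImmersion.isAffine_surjective_of_isAffine (Spec.map (i.app T₁))
    have h3 := Scheme.ΓSpecIso_naturality (i.app T₁)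
    intro y
    obtain ⟨z, hz⟩ := h2 ((Scheme.ΓSpecIso _).inv.hom y)
    refine ⟨(Scheme.ΓSpecIso _).hom.hom z, ?_⟩
    have := congrArg (fun f => f.hom z) h3
    simp only [CommRingCat.hom_comp, RingHom.comp_apply] at this
    rw [← this, hz]
    simp
  refine ⟨h1, fun x hx => ?_⟩
  rw [← mem_nilradical, nilradical_eq_sInf, Ideal.mem_sInf]
  intro 𝔭 h𝔭
  obtain ⟨𝔮, h𝔮⟩ := hsurj.surj (⟨𝔭, h𝔭⟩ : PrimeSpectrum _)
  have : 𝔭 = Ideal.comap (i.app T₁).hom 𝔮.asIdeal := by
    have := congrArg PrimeSpectrum.asIdeal h𝔮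
    exact this.symm
  rw [this, Ideal.mem_comap, (RingHom.mem_ker).mp hx]
  exact zero_mem _

end ClosedImm

section StdNhd

/-- an étale morphism is, near a point and over an affine open of the target, standard étale -/
theorem exists_isStandardEtale_nhd {Y' U : Scheme.{u}} (e₀ : Y' ⟶ U) [Etale e₀] (x' : Y')
    (N : U.Opens) (hN : IsAffineOpen N) (hx : e₀ x' ∈ N) (W : Y'.Opens) (hW : x' ∈ W) :
    ∃ (U'' : Y'.Opens) (_ : IsAffineOpen U'') (hle : U'' ≤ e₀ ⁻¹ᵁ N), x' ∈ U'' ∧ U'' ≤ W ∧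
      (letI := (e₀.appLE N U'' hle).hom.toAlgebra
       Algebra.IsStandardEtale Γ(U, N) Γ(Y', U'')) := by
  obtain ⟨_, ⟨U₁, hU₁, rfl⟩, hxU₁, hU₁le⟩ :=
    Y'.isBasis_affineOpens.exists_subset_of_mem_open
      (show x' ∈ (W ⊓ e₀ ⁻¹ᵁ N : Y'.Opens) from ⟨hW, hx⟩) (W ⊓ e₀ ⁻¹ᵁ N).isOpen
  have hle1 : U₁ ≤ W := fun z hz => (hU₁le hz).1
  have hle2 : U₁ ≤ e₀ ⁻¹ᵁ N := fun z hz => (hU₁le hz).2
  letI algRA : Algebra Γ(U, N) Γ(Y', U₁) := (e₀.appLE N U₁ hle2).hom.toAlgebra
  haveI etA : Algebra.Etale Γ(U, N) Γ(Y', U₁) := e₀.etale_appLE hN hU₁ hle2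
  let 𝔮 : Ideal Γ(Y', U₁) :=
    Ideal.comap (Y'.presheaf.germ U₁ x' hxU₁).hom (IsLocalRing.maximalIdeal _)
  haveI h𝔮 : 𝔮.IsPrime := Ideal.comap_isPrime _ _
  haveI : Algebra.IsEtaleAt Γ(U, N) 𝔮 := by
    have : Algebra.FormallyEtale Γ(Y', U₁) (Localization.AtPrime 𝔮) :=
      Algebra.FormallyEtale.of_isLocalization 𝔮.primeCompl
    exact Algebra.FormallyEtale.comp Γ(U, N) Γ(Y', U₁) (Localization.AtPrime 𝔮)
  obtain ⟨g, hg𝔮, hstd⟩ := Algebra.IsEtaleAt.exists_isStandardEtale (R := Γ(U, N)) 𝔮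
  have hle3 : Y'.basicOpen g ≤ e₀ ⁻¹ᵁ N := (Y'.basicOpen_le g).trans hle2
  refine ⟨Y'.basicOpen g, hU₁.basicOpen g, hle3, ?_, (Y'.basicOpen_le g).trans hle1, ?_⟩
  · rw [Scheme.mem_basicOpen _ _ x' hxU₁]
    by_contra h
    exact hg𝔮 ((IsLocalRing.mem_maximalIdeal _).mpr h)
  · letI alg2 : Algebra Γ(U, N) Γ(Y', Y'.basicOpen g) :=
      (e₀.appLE N (Y'.basicOpen g) hle3).hom.toAlgebra
    haveI tw : IsScalarTower Γ(U, N) Γ(Y', U₁) Γ(Y', Y'.basicOpen g) := by
      refine IsScalarTower.of_algebraMap_eq (fun r => ?_)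
      change (e₀.appLE N (Y'.basicOpen g) hle3).hom r =
        (Y'.presheaf.map (homOfLE (Y'.basicOpen_le g)).op).hom ((e₀.appLE N U₁ hle2).hom r)
      rw [← Scheme.Hom.appLE_map e₀ hle2 (homOfLE (Y'.basicOpen_le g)).op]
      rfl
    haveI := hU₁.isLocalization_basicOpen g
    let e : Localization.Away g ≃ₐ[Γ(Y', U₁)] Γ(Y', Y'.basicOpen g) :=
      IsLocalization.algEquiv (Submonoid.powers g) _ _
    exact Algebra.IsStandardEtale.of_equiv (e.restrictScalars Γ(U, N))

end StdNhd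

section Datum

variable (p : ℕ)

/-- affine-local form of a quasi-étale morphism, with standard étale part over a given affine
open of the target -/
theorem exists_affine_datum_std (hp : p ≠ 0) {U U' : Scheme.{u}} (f' : U' ⟶ U)
    (hf' : Quiet.IsQuiet p f') (u : U') (N : U.Opens) (hN : IsAffineOpen N) (huN : f' u ∈ N) :
    ∃ (V : U'.Opens) (hV : IsAffineOpen V) (A : CommRingCat.{u}) (ρ : A ⟶ Γ(U', V))
      (σ : Γ(U, N) ⟶ A) (n : ℕ), u ∈ V ∧
      (letI := σ.hom.toAlgebra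
       Algebra.IsStandardEtale Γ(U, N) A) ∧
      (letI := ρ.hom.toAlgebra
       Quiet.IsRootTower p n A Γ(U', V)) ∧
      hV.fromSpec ≫ f' = Spec.map ρ ≫ Spec.map σ ≫ hN.fromSpec := by
  obtain ⟨V₀, Y', r, e₀, hyV₀, hr, he₀, hfac⟩ := hf' u
  let y₀ : (V₀ : Scheme.{u}) := ⟨u, hyV₀⟩
  have hy₀ : V₀.ι y₀ = u := rfl
  have hx' : e₀ (r y₀) = f' u := by
    rw [← Scheme.Hom.comp_apply, hfac, Scheme.Hom.comp_apply, hy₀]
  obtain ⟨Uc, hxU, hraff, n, hn⟩ := hr (r y₀)
  obtain ⟨U'', hU'', hle, hxU'', hle1, hstd⟩ :=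
    exists_isStandardEtale_nhd e₀ (r y₀) N hN (by rw [hx']; exact huN) Uc.1 hxU
  obtain ⟨hW, hn'⟩ := chart_of_le p hp r Uc.1 Uc.2 hraff n hn U'' hU'' hle1
  let V : U'.Opens := V₀.ι ''ᵁ (r ⁻¹ᵁ U'')
  have hV : IsAffineOpen V := hW.image_of_isOpenImmersion V₀.ι
  have hWV : r ⁻¹ᵁ U'' ≤ V₀.ι ⁻¹ᵁ V := (Scheme.Hom.preimage_image_eq V₀.ι (r ⁻¹ᵁ U'')).ge
  let κ : Γ(U', V) ⟶ Γ(V₀, r ⁻¹ᵁ U'') := V₀.ι.appLE V (r ⁻¹ᵁ U'') hWV
  haveI hκ : IsIso κ := by
    have : κ = (V₀.ι.appIso (r ⁻¹ᵁ U'')).hom := (Scheme.Hom.appIso_hom' V₀.ι (r ⁻¹ᵁ U'')).symm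
    rw [this]
    infer_instance
  refine ⟨V, hV, Γ(Y', U''), r.app U'' ≫ inv κ, e₀.appLE N U'' hle, n, ?_, hstd, ?_, ?_⟩
  · exact ⟨y₀, hxU'', rfl⟩
  · letI alg1 : Algebra Γ(Y', U'') Γ(V₀, r ⁻¹ᵁ U'') := (r.app U'').hom.toAlgebra
    letI alg2 : Algebra Γ(Y', U'') Γ(U', V) := (r.app U'' ≫ inv κ).hom.toAlgebra
    exact isRootTower_of_ringEquiv p hp n Γ(Y', U'') Γ(V₀, r ⁻¹ᵁ U'') Γ(Y', U'') Γ(U', V)
      (RingEquiv.refl _) (asIso κ).symm.commRingCatIsoToRingEquiv (fun a => rfl) hn'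
  · have h1 := IsAffineOpen.SpecMap_appLE_fromSpec V₀.ι hV hW hWV
    have h2 := IsAffineOpen.SpecMap_appLE_fromSpec r hU'' hW le_rfl
    have h3 := IsAffineOpen.SpecMap_appLE_fromSpec e₀ hN hU'' hle
    rw [Scheme.Hom.appLE_eq_app] at h2
    change Spec.map κ ≫ hV.fromSpec = hW.fromSpec ≫ V₀.ι at h1
    calc hV.fromSpec ≫ f' = Spec.map (inv κ) ≫ (Spec.map κ ≫ hV.fromSpec) ≫ f' := by
          rw [← Category.assoc, ← Category.assoc, ← Spec.map_comp, IsIso.hom_inv_id, Spec.map_id,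
            Category.id_comp]
      _ = Spec.map (inv κ) ≫ hW.fromSpec ≫ r ≫ e₀ := by
          rw [h1, Category.assoc, ← hfac]
      _ = Spec.map (inv κ) ≫ (Spec.map (r.app U'') ≫ hU''.fromSpec) ≫ e₀ := by
          rw [h2, Category.assoc]
      _ = Spec.map (r.app U'' ≫ inv κ) ≫ Spec.map (e₀.appLE N U'' hle) ≫ hN.fromSpec := by
          rw [Spec.map_comp, Category.assoc, Category.assoc, h3]

end Datum

section Main

variable (p : ℕ)

/-- the spectrum of a tower of `p`-th root extractions followed by an étale morphism is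
quasi-étale -/
theorem isQuiet_SpecMap_of_isRootTower (hp : p ≠ 0) {X : Scheme.{u}} (A₀ B₀ : Type u)
    [CommRing A₀] [CommRing B₀] [Algebra A₀ B₀] (n : ℕ) (h : Quiet.IsRootTower p n A₀ B₀)
    (e : Spec (CommRingCat.of A₀) ⟶ X) [Etale e] :
    Quiet.IsQuiet p (Spec.map (CommRingCat.ofHom (algebraMap A₀ B₀)) ≫ e) := by
  apply isQuiet_of_affine_datum p hp
  intro y
  refine ⟨⊤, isAffineOpen_top _, CommRingCat.of A₀,
    CommRingCat.ofHom (algebraMap A₀ B₀) ≫ (Scheme.ΓSpecIso (CommRingCat.of B₀)).inv, e, n,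
    trivial, inferInstance, ?_, ?_⟩
  · letI alg2 : Algebra A₀ Γ(Spec (CommRingCat.of B₀), ⊤) :=
      (CommRingCat.ofHom (algebraMap A₀ B₀) ≫
        (Scheme.ΓSpecIso (CommRingCat.of B₀)).inv).hom.toAlgebra
    exact isRootTower_of_ringEquiv p hp n A₀ B₀ A₀ Γ(Spec (CommRingCat.of B₀), ⊤)
      (RingEquiv.refl _) (Scheme.ΓSpecIso (CommRingCat.of B₀)).symm.commRingCatIsoToRingEquiv
      (fun a => rfl) h
  · rw [IsAffineOpen.fromSpec_top, Scheme.isoSpec_Spec_inv, Spec.map_comp, Category.assoc]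

/-- lifting quasi-étale morphisms along surjective closed immersions, locally -/
theorem exists_isQuiet_isPullback [Fact p.Prime] {T U U' : Scheme.{u}}
    (i : U ⟶ T) [IsClosedImmersion i] [Surjective i] (f' : U' ⟶ U)
    (hf' : Quiet.IsQuiet p f') (u : U') :
    ∃ (V : U'.Opens) (T' : Scheme.{u}) (q : T' ⟶ T) (j : (V : Scheme.{u}) ⟶ T'),
      u ∈ V ∧ Quiet.IsQuiet p q ∧ IsPullback j (V.ι ≫ f') q i := by
  have hp : p ≠ 0 := (Fact.out : p.Prime).ne_zero
  obtain ⟨_, ⟨T₁, hT₁, rfl⟩, htT₁, -⟩ :=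
    T.isBasis_affineOpens.exists_subset_of_mem_open (Set.mem_univ (i (f' u))) isOpen_univ
  have hN : IsAffineOpen (i ⁻¹ᵁ T₁) := hT₁.preimage i
  obtain ⟨hπsurj, hπnil⟩ := app_surjective_and_nil i T₁ hT₁
  have hsq := isPullback_fromSpec i T₁ hT₁ hN
  obtain ⟨V, hV, A, ρ, σ, n, huV, hstd, hn, hcomm⟩ :=
    exists_affine_datum_std p hp f' hf' u (i ⁻¹ᵁ T₁) hN htT₁
  obtain ⟨A₀, _, α, πA, hα, hπA, hpoA⟩ :=
    exists_lift_isStandardEtale (i.app T₁).hom hπsurj hπnil σ.hom hstd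
  haveI : Nonempty V := ⟨⟨u, huV⟩⟩
  haveI ntB : Nontrivial Γ(U', V) := Scheme.component_nontrivial U' V
  haveI ntA : Nontrivial A := ρ.hom.domain_nontrivial
  letI algAB : Algebra A Γ(U', V) := ρ.hom.toAlgebra
  obtain ⟨B₀, _, algB₀, πB, hB₀, hpoB⟩ := exists_lift_tower p hp n A₀ A Γ(U', V) πA hπA hn
  letI := algB₀
  let β : CommRingCat.of A₀ ⟶ CommRingCat.of B₀ := CommRingCat.ofHom (algebraMap A₀ B₀)
  haveI : Etale (Spec.map (CommRingCat.ofHom α) ≫ hT₁.fromSpec) := by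
    haveI : Etale (Spec.map (CommRingCat.ofHom α)) :=
      (HasRingHomProperty.Spec_iff (P := @Etale)).mpr hα
    infer_instance
  refine ⟨V, Spec (CommRingCat.of B₀),
    Spec.map β ≫ Spec.map (CommRingCat.ofHom α) ≫ hT₁.fromSpec,
    hV.isoSpec.hom ≫ Spec.map (CommRingCat.ofHom πB), huV, ?_, ?_⟩
  · exact isQuiet_SpecMap_of_isRootTower p hp A₀ B₀ n hB₀ _
  · have hpo := hpoA.paste_horiz hpoB
    have hpb := isPullback_SpecMap_of_isPushout _ _ _ _ hpo
    have h2 := (hpb.flip.paste_horiz hsq).flip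
    have e1 : Spec.map (CommRingCat.ofHom α ≫ CommRingCat.ofHom (algebraMap A₀ B₀)) ≫
        hT₁.fromSpec = Spec.map β ≫ Spec.map (CommRingCat.ofHom α) ≫ hT₁.fromSpec := by
      rw [Spec.map_comp, Category.assoc]
    rw [e1] at h2
    refine h2.of_iso hV.isoSpec.symm (Iso.refl _) (Iso.refl _) (Iso.refl _) ?_ ?_ ?_ ?_
    · simp
    · simp only [Iso.symm_hom, Iso.refl_hom, Category.comp_id]
      rw [Iso.eq_inv_comp, ← hV.isoSpec_hom_fromSpec, Category.assoc, hcomm]
      congr 1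
      rw [← Category.assoc (Spec.map ρ), ← Spec.map_comp]
      rfl
    · simp
    · simp

end Main

end Groth.Agent.Lib.T2H7.QuietLift
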