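import Groth.Agent.Lib.Helper20QuotCat

/-!
# T2H7: descent of morphisms along a surjective quotient map with `O_V ≅ h_* O_U` (helper7)

A generalisation of `Helper20.desc`: for `p : X ⟶ Y` surjective, a topological quotient map, with all
`p.app U` isomorphisms, every morphism `h : X ⟶ Z` constant on the fibres of `p` factors through `p`.
-/

set_option autoImplicit false
set_option linter.unusedSectionVars false
set_option linter.unusedVariables false
universe u
open CategoryTheory AlgebraicGeometry TopologicalSpace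

namespace Groth.Agent.Lib.T2H7.QuotDesc

open Groth.Agent.Lib.Helper20

/-- the hypotheses on `p` and `h` -/
structure Hyp {X Y Z : Scheme.{u}} (p : X ⟶ Y) (h : X ⟶ Z) : Prop where
  surj : Function.Surjective p.base
  quot : Topology.IsQuotientMap p.base
  iso : ∀ U : Y.Opens, IsIso (p.app U)
  fib : ∀ x y : X, p.base x = p.base y → h.base x = h.base y

section cat

variable {X Y Z : Scheme.{u}} {p : X ⟶ Y} (h : X ⟶ Z) (hp : Hyp p h)

include hp in
theorem saturated (W : Z.Opens) :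
    p.base ⁻¹' (p.base '' (h ⁻¹ᵁ W : Set X)) = (h ⁻¹ᵁ W : Set X) := by
  apply Set.Subset.antisymm
  · rintro x ⟨x', hx', hxx'⟩
    change h.base x ∈ W
    rw [← hp.fib x' x hxx']
    exact hx'
  · exact Set.subset_preimage_image _ _

/-- the open `p(h⁻¹W)` of `Y` -/
def imageOpen (W : Z.Opens) : Y.Opens :=
  ⟨p.base '' (h ⁻¹ᵁ W : Set X), by
    rw [← hp.quot.isOpen_preimage, saturated h hp W]
    exact (h ⁻¹ᵁ W).isOpen⟩

theorem preimage_imageOpen (W : Z.Opens) : p ⁻¹ᵁ (imageOpen h hp W) = h ⁻¹ᵁ W :=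
  Opens.ext (saturated h hp W)

theorem imageOpen_mono {W W' : Z.Opens} (hWW' : W ≤ W') :
    imageOpen h hp W ≤ imageOpen h hp W' := by
  rintro _ ⟨x, hx, rfl⟩
  exact ⟨x, hWW' hx, rfl⟩

theorem mem_imageOpen {W : Z.Opens} {x : X} (hx : h.base x ∈ W) :
    p.base x ∈ imageOpen h hp W := ⟨x, hx, rfl⟩

theorem le_preimage_imageOpen (W : Z.Opens) : h ⁻¹ᵁ W ≤ p ⁻¹ᵁ (imageOpen h hp W) :=
  (preimage_imageOpen h hp W).ge

theorem isIso_appLE_of_eq (U : Y.Opens) (T : X.Opens) (hT : T = p ⁻¹ᵁ U) (e : T ≤ p ⁻¹ᵁ U)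
    (hiso : IsIso (p.app U)) : IsIso (p.appLE U T e) := by
  subst hT
  rw [Scheme.Hom.appLE_eq_app]
  exact hiso

theorem isIso_appLE (W : Z.Opens) :
    IsIso (p.appLE (imageOpen h hp W) (h ⁻¹ᵁ W) (le_preimage_imageOpen h hp W)) :=
  isIso_appLE_of_eq _ _ (preimage_imageOpen h hp W).symm _ (hp.iso _)

theorem exists_psi (W : Z.Opens) :
    ∃ ψ : Γ(Z, W) ⟶ Γ(Y, imageOpen h hp W),
      ψ ≫ p.appLE (imageOpen h hp W) (h ⁻¹ᵁ W) (le_preimage_imageOpen h hp W) = h.app W := by
  have := isIso_appLE h hp W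
  exact ⟨h.app W ≫ inv (p.appLE (imageOpen h hp W) (h ⁻¹ᵁ W) (le_preimage_imageOpen h hp W)),
    by rw [Category.assoc, IsIso.inv_hom_id, Category.comp_id]⟩

/-- the lift of `h^♯` to sections of `Y` -/
noncomputable def psi (W : Z.Opens) : Γ(Z, W) ⟶ Γ(Y, imageOpen h hp W) :=
  (exists_psi h hp W).choose

theorem psi_spec (W : Z.Opens) :
    psi h hp W ≫ p.appLE (imageOpen h hp W) (h ⁻¹ᵁ W) (le_preimage_imageOpen h hp W) =
      h.app W :=
  (exists_psi h hp W).choose_spec

theorem mono_appLE (W : Z.Opens) :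
    Mono (p.appLE (imageOpen h hp W) (h ⁻¹ᵁ W) (le_preimage_imageOpen h hp W)) := by
  have := isIso_appLE h hp W
  infer_instance

/-- the local piece of the factorization -/
noncomputable def phi (W : Z.Opens) (hW : IsAffineOpen W) : (imageOpen h hp W).toScheme ⟶ Z :=
  (imageOpen h hp W).toSpecΓ ≫ Spec.map (psi h hp W) ≫ hW.fromSpec

theorem resLE_phi (W : Z.Opens) (hW : IsAffineOpen W) :
    p.resLE (imageOpen h hp W) (h ⁻¹ᵁ W) (le_preimage_imageOpen h hp W) ≫ phi h hp W hW =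
      (h ⁻¹ᵁ W).ι ≫ h := by
  unfold phi
  rw [← Category.assoc, ← Scheme.Opens.toSpecΓ_SpecMap_appLE, Category.assoc,
    ← Spec.map_comp_assoc, psi_spec, ι_comp_eq_of_affine h hW _ le_rfl, Scheme.Hom.app_eq_appLE]

theorem homOfLE_phi {W W' : Z.Opens} (hW : IsAffineOpen W) (hW' : IsAffineOpen W') (hWW' : W ≤ W') :
    Y.homOfLE (imageOpen_mono h hp hWW') ≫ phi h hp W' hW' = phi h hp W hW := by
  unfold phi
  rw [← Category.assoc, ← Scheme.Opens.toSpecΓ_SpecMap_presheaf_map, Category.assoc,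
    ← Spec.map_comp_assoc, ← hW'.map_fromSpec hW (homOfLE hWW').op, ← Spec.map_comp_assoc]
  have key : psi h hp W' ≫ Y.presheaf.map (homOfLE (imageOpen_mono h hp hWW')).op =
      Z.presheaf.map (homOfLE hWW').op ≫ psi h hp W := by
    have := mono_appLE h hp W
    rw [← cancel_mono (p.appLE (imageOpen h hp W) (h ⁻¹ᵁ W) (le_preimage_imageOpen h hp W))]
    rw [Category.assoc, Category.assoc, psi_spec, Scheme.Hom.map_appLE]
    have h2 : p.appLE (imageOpen h hp W') (h ⁻¹ᵁ W) ((h.preimage_mono hWW').trans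
        (le_preimage_imageOpen h hp W')) =
        p.appLE (imageOpen h hp W') (h ⁻¹ᵁ W') (le_preimage_imageOpen h hp W') ≫
          X.presheaf.map (homOfLE (h.preimage_mono hWW')).op := by
      rw [Scheme.Hom.appLE_map]
    rw [h2, ← Category.assoc, psi_spec]
    exact (h.naturality (homOfLE hWW').op).symm
  rw [key]

/-- the cover of `Y` by the opens `p(h⁻¹W)`, `W` affine open in `Z` -/
@[simps I₀ X f] noncomputable abbrev quotCover : Y.OpenCover where
  I₀ := Z.affineOpens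
  X W := (imageOpen h hp W.1).toScheme
  f W := (imageOpen h hp W.1).ι
  mem₀ := by
    rw [Scheme.presieve₀_mem_precoverage_iff]
    refine ⟨fun y => ?_, inferInstance⟩
    obtain ⟨x, rfl⟩ := hp.surj y
    obtain ⟨W, hW, hxW⟩ := exists_affine_nhd Z (h.base x)
    exact ⟨⟨W, hW⟩, ⟨p.base x, mem_imageOpen h hp hxW⟩, rfl⟩

local instance instPre : Preorder (quotCover h hp).I₀ := Subtype.preorder _

set_option backward.isDefEq.respectTransparency false in
noncomputable local instance instLD : (quotCover h hp).LocallyDirected where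
  trans f := Y.homOfLE (imageOpen_mono h hp (leOfHom f))
  w f := Y.homOfLE_ι (imageOpen_mono h hp (leOfHom f))
  directed {U V} x := by
    let a := (Limits.pullback.fst _ _ ≫ (imageOpen h hp U.1).ι) x
    have haU : a ∈ imageOpen h hp U.1 :=
      (Limits.pullback.fst (imageOpen h hp U.1).ι (imageOpen h hp V.1).ι x).2
    have haV : a ∈ imageOpen h hp V.1 := by
      unfold a
      rw [Limits.pullback.condition]
      exact (Limits.pullback.snd (imageOpen h hp U.1).ι (imageOpen h hp V.1).ι x).2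
    obtain ⟨x₀, hx₀U, hx₀⟩ := haU
    have hx₀V : h.base x₀ ∈ V.1 := by
      have h1 : x₀ ∈ p ⁻¹ᵁ (imageOpen h hp V.1) := by
        change p.base x₀ ∈ imageOpen h hp V.1
        rw [hx₀]; exact haV
      rw [preimage_imageOpen] at h1
      exact h1
    obtain ⟨_, ⟨W, hW, rfl⟩, hxW, hWUV⟩ := Z.isBasis_affineOpens.exists_subset_of_mem_open
      (show h.base x₀ ∈ ((U.1 ⊓ V.1 : Z.Opens) : Set Z) from ⟨hx₀U, hx₀V⟩) (U.1 ⊓ V.1).isOpen
    have hWU : (⟨W, hW⟩ : Z.affineOpens) ≤ U := fun z hz => (hWUV hz).1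
    have hWV : (⟨W, hW⟩ : Z.affineOpens) ≤ V := fun z hz => (hWUV hz).2
    refine ⟨⟨W, hW⟩, homOfLE hWU, homOfLE hWV, ⟨a, hx₀ ▸ mem_imageOpen h hp hxW⟩, ?_⟩
    apply (Limits.pullback.fst _ _ ≫ (imageOpen h hp U.1).ι).isOpenEmbedding.injective
    dsimp
    change (Limits.pullback.lift _ _ _ ≫ Limits.pullback.fst _ _ ≫ (imageOpen h hp U.1).ι) _ = _
    simp only [Limits.pullback.lift_fst_assoc, Scheme.homOfLE_ι, Scheme.Opens.ι_apply]
    rfl

/-- the factorization of a `G`-invariant morphism through the quotient -/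
noncomputable def desc : Y ⟶ Z :=
  (quotCover h hp).glueMorphismsOfLocallyDirected (fun W => phi h hp W.1 W.2)
    (fun {i j} hij => homOfLE_phi h hp i.2 j.2 (leOfHom hij))

theorem fac : p ≫ desc h hp = h := by
  apply Scheme.hom_ext_of_forall
  intro x
  obtain ⟨W, hW, hxW⟩ := exists_affine_nhd Z (h.base x)
  refine ⟨h ⁻¹ᵁ W, hxW, ?_⟩
  rw [← resLE_phi h hp W hW, ← Category.assoc,
    ← Scheme.Hom.resLE_comp_ι p (le_preimage_imageOpen h hp W), Category.assoc]
  congr 1
  exact (quotCover h hp).map_glueMorphismsOfLocallyDirected (fun W => phi h hp W.1 W.2)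
    (fun {i j} hij => homOfLE_phi h hp i.2 j.2 (leOfHom hij)) ⟨W, hW⟩


end cat

end Groth.Agent.Lib.T2H7.QuotDesc
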