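import Groth.Agent.Lib.Helper20QuotTop
import Groth.Agent.Lib.T2H7GalRingB

/-!
# T2H7: quotients by free actions of finite groups are étale (SGA1 V 2.6), chart level

`Spec K`-valued points of a scheme through an affine open, the action of the group on them, and
the translation of freeness on geometric points into the vanishing of inertia ideals.
-/

set_option autoImplicit false
set_option linter.unusedSectionVars false
set_option linter.unusedVariables false
set_option linter.style.haveILetI false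

universe u

open CategoryTheory AlgebraicGeometry

namespace Groth.Agent.Lib.T2H7.QuotEtA

open SGA1 Groth.Agent.Lib.Helper20 Groth.Agent.Lib.T2H7.GalRingA

section Pt

variable {X : Scheme.{u}}

/-- the `K`-point of `X` attached to a ring map out of the sections over an affine open -/
noncomputable def pt {T : X.Opens} (hT : IsAffineOpen T) {K : CommRingCat.{u}} (α : Γ(X, T) ⟶ K) :
    Spec K ⟶ X := Spec.map α ≫ hT.fromSpec

theorem pt_injective {T : X.Opens} (hT : IsAffineOpen T) {K : CommRingCat.{u}}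
    {α β : Γ(X, T) ⟶ K} (h : pt hT α = pt hT β) : α = β := by
  unfold pt at h
  exact Spec.map_injective ((cancel_mono hT.fromSpec).mp h)

theorem exists_pt {T : X.Opens} (hT : IsAffineOpen T) {K : CommRingCat.{u}} (ξ : Spec K ⟶ X)
    (h : ∀ z, ξ z ∈ T) : ∃ α : Γ(X, T) ⟶ K, ξ = pt hT α := by
  have hr : Set.range ξ ⊆ Set.range hT.fromSpec := by
    rw [hT.range_fromSpec]
    rintro _ ⟨z, rfl⟩
    exact h z
  obtain ⟨α, hα⟩ := Spec.map_surjective (IsOpenImmersion.lift hT.fromSpec ξ hr)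
  refine ⟨α, ?_⟩
  unfold pt
  rw [hα, IsOpenImmersion.lift_fac]

theorem pt_comp {Y : Scheme.{u}} (f : X ⟶ Y) {T : X.Opens} (hT : IsAffineOpen T) {U : Y.Opens}
    (hU : IsAffineOpen U) (e : T ≤ f ⁻¹ᵁ U) {K : CommRingCat.{u}} (α : Γ(X, T) ⟶ K) :
    pt hT α ≫ f = pt hU (f.appLE U T e ≫ α) := by
  unfold pt
  rw [Category.assoc, ← IsAffineOpen.SpecMap_appLE_fromSpec f hU hT e, Spec.map_comp,
    Category.assoc]

end Pt

section Act

variable {X Y : Scheme.{u}} {G : Type u} [Group G] (ρ : G →* Aut X) (p : X ⟶ Y)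
  (hinv : ∀ g : G, (ρ g).hom ≫ p = p)

theorem pt_comp_rho (U : Y.Opens) (hT : IsAffineOpen (p ⁻¹ᵁ U)) (g : G) {K : CommRingCat.{u}}
    (α : Γ(X, p ⁻¹ᵁ U) ⟶ K) :
    pt hT α ≫ (ρ g).hom = pt hT (CommRingCat.ofHom (actHom ρ p hinv g U) ≫ α) :=
  pt_comp (ρ g).hom hT hT (preimage_le_of_inv ρ p hinv g U) α

end Act

section Free

variable {X Y : Scheme.{u}} {G : Type u} [Group G] [Finite G] {ρ : G →* Aut X} {p : X ⟶ Y}

/-- Freeness on geometric points (as in S2919/S2920). -/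
def FreeOnGeomPts (ρ : G →* Aut X) : Prop :=
  ∀ (K : Type u) [Field K] [IsAlgClosed K] (ξ : Spec (CommRingCat.of K) ⟶ X) (g : G),
    ξ ≫ (ρ g).hom = ξ → g = 1

theorem isAffineOpen_preimage (hp : IsQuot ρ p) {U : Y.Opens} (hU : IsAffineOpen U) :
    IsAffineOpen (p ⁻¹ᵁ U) := by
  haveI := hp.affine
  exact hU.preimage p

theorem inertiaIdeal_eq_top_of_free (hp : IsQuot ρ p) (hfree : FreeOnGeomPts ρ)
    (U : Y.Opens) (hU : IsAffineOpen U) (g : G) (hg : g ≠ 1) :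
    letI := sectionAction ρ p hp.inv U
    inertiaIdeal (A := Γ(X, p ⁻¹ᵁ U)) g = ⊤ := by
  letI := sectionAction ρ p hp.inv U
  by_contra hne
  obtain ⟨𝔪, hm, hle⟩ := Ideal.exists_le_maximal _ hne
  letI : Field (Γ(X, p ⁻¹ᵁ U) ⧸ 𝔪) := Ideal.Quotient.field 𝔪
  let K := AlgebraicClosure (Γ(X, p ⁻¹ᵁ U) ⧸ 𝔪)
  let α : Γ(X, p ⁻¹ᵁ U) →+* K :=
    (algebraMap (Γ(X, p ⁻¹ᵁ U) ⧸ 𝔪) K).comp (Ideal.Quotient.mk 𝔪)
  have hα : ∀ a : Γ(X, p ⁻¹ᵁ U), α (actHom ρ p hp.inv g⁻¹ U a) = α a := by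
    intro a
    have h1 : g • a - a ∈ 𝔪 := hle (Ideal.subset_span ⟨a, rfl⟩)
    have h2 : Ideal.Quotient.mk 𝔪 (g • a) = Ideal.Quotient.mk 𝔪 a := by
      rw [← sub_eq_zero, ← map_sub]
      exact Ideal.Quotient.eq_zero_iff_mem.mpr h1
    change (algebraMap _ K) (Ideal.Quotient.mk 𝔪 (actHom ρ p hp.inv g⁻¹ U a)) = _
    rw [← sectionAction_smul ρ p hp.inv U g a, h2]
    rfl
  have hT := isAffineOpen_preimage hp hU
  have h3 : pt hT (CommRingCat.ofHom α) ≫ (ρ g⁻¹).hom = pt hT (CommRingCat.ofHom α) := by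
    rw [pt_comp_rho ρ p hp.inv U hT g⁻¹]
    congr 1
    ext a
    exact hα a
  have := hfree K (pt hT (CommRingCat.ofHom α)) g⁻¹ h3
  exact hg (inv_eq_one.mp this)

theorem exists_chr_of_free [DecidableEq G] (hp : IsQuot ρ p) (hfree : FreeOnGeomPts ρ)
    (U : Y.Opens) (hU : IsAffineOpen U) :
    letI := sectionAction ρ p hp.inv U
    ∃ S : Finset (Γ(X, p ⁻¹ᵁ U) × Γ(X, p ⁻¹ᵁ U)), ∀ g : G,
      ∑ q ∈ S, q.1 * g • q.2 = if g = 1 then 1 else 0 := by
  letI := (p.app U).hom.toAlgebra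
  letI := sectionAction ρ p hp.inv U
  haveI := smulCommClass hp U
  haveI : Fintype G := Fintype.ofFinite G
  exact exists_chr_finset Γ(Y, U) (fun g hg => inertiaIdeal_eq_top_of_free hp hfree U hU g hg)

theorem etale_app_of_free (hp : IsQuot ρ p) (hfree : FreeOnGeomPts ρ)
    (U : Y.Opens) (hU : IsAffineOpen U) : (p.app U).hom.Etale := by
  classical
  letI := (p.app U).hom.toAlgebra
  letI := sectionAction ρ p hp.inv U
  haveI := smulCommClass hp U
  haveI := isInvariant hp U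
  haveI : Fintype G := Fintype.ofFinite G
  obtain ⟨S, hS⟩ := exists_chr_of_free hp hfree U hU
  have hinj : Function.Injective (algebraMap Γ(Y, U) Γ(X, p ⁻¹ᵁ U)) := hp.injective U
  exact GalRingA.etale hinj S hS

theorem etale_of_free (hp : IsQuot ρ p) (hfree : FreeOnGeomPts ρ) : Etale p := by
  haveI := hp.affine
  have hQ : RingHom.StableUnderCompositionWithLocalizationAwaySource RingHom.Etale := by
    refine (RingHom.Etale.stableUnderComposition.stableUnderCompositionWithLocalizationAway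
      ?_).1
    intro R S _ _ _ r _
    exact RingHom.etale_algebraMap.2 (Algebra.Etale.of_isLocalizationAway r)
  rw [HasRingHomProperty.iff_exists_appLE (P := @Etale) hQ]
  intro x
  obtain ⟨U, hU, hxU, -⟩ := TopologicalSpace.Opens.isBasis_iff_nbhd.mp Y.isBasis_affineOpens
    (TopologicalSpace.Opens.mem_top (p x))
  refine ⟨⟨U, hU⟩, ⟨p ⁻¹ᵁ U, isAffineOpen_preimage hp hU⟩, hxU, le_rfl, ?_⟩
  rw [← Scheme.Hom.app_eq_appLE]
  exact etale_app_of_free hp hfree U hU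

/-- `G` acts transitively on the field-valued points of a fibre (free case). -/
theorem exists_rho_of_comp_eq (hp : IsQuot ρ p) (hfree : FreeOnGeomPts ρ) {K : Type u} [Field K]
    (ξ₁ ξ₂ : Spec (CommRingCat.of K) ⟶ X) (h : ξ₁ ≫ p = ξ₂ ≫ p) :
    ∃ g : G, ξ₂ = ξ₁ ≫ (ρ g).hom := by
  classical
  let z₀ : Spec (CommRingCat.of K) := default
  obtain ⟨U, hU, hxU, -⟩ := TopologicalSpace.Opens.isBasis_iff_nbhd.mp Y.isBasis_affineOpens
    (TopologicalSpace.Opens.mem_top ((ξ₁ ≫ p) z₀))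
  have hT := isAffineOpen_preimage hp hU
  have hz : ∀ z : Spec (CommRingCat.of K), z = z₀ := fun z => Subsingleton.elim _ _
  have h1 : ∀ z, ξ₁ z ∈ p ⁻¹ᵁ U := by
    intro z
    rw [hz z]
    exact hxU
  have h2 : ∀ z, ξ₂ z ∈ p ⁻¹ᵁ U := by
    intro z
    rw [hz z]
    change (ξ₂ ≫ p) z₀ ∈ U
    rw [← h]
    exact hxU
  obtain ⟨α₁, rfl⟩ := exists_pt hT ξ₁ h1
  obtain ⟨α₂, rfl⟩ := exists_pt hT ξ₂ h2
  rw [pt_comp p hT hU le_rfl, pt_comp p hT hU le_rfl] at h
  have h3 := pt_injective hU h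
  letI := (p.app U).hom.toAlgebra
  letI := sectionAction ρ p hp.inv U
  haveI := smulCommClass hp U
  haveI := isInvariant hp U
  haveI : Fintype G := Fintype.ofFinite G
  obtain ⟨S, hS⟩ := exists_chr_of_free hp hfree U hU
  have hinj : Function.Injective (algebraMap Γ(Y, U) Γ(X, p ⁻¹ᵁ U)) := hp.injective U
  have h4 : α₁.hom.comp (algebraMap Γ(Y, U) Γ(X, p ⁻¹ᵁ U)) =
      α₂.hom.comp (algebraMap Γ(Y, U) Γ(X, p ⁻¹ᵁ U)) := by
    have := congrArg CommRingCat.Hom.hom h3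
    rw [← Scheme.Hom.app_eq_appLE] at this
    exact this
  obtain ⟨g, hg⟩ := GalRingA.exists_smul_of_comp_eq hinj S hS α₁.hom α₂.hom h4
  refine ⟨g⁻¹, ?_⟩
  rw [pt_comp_rho ρ p hp.inv U hT g⁻¹]
  congr 1
  ext a
  rw [hg a]
  rfl

end Free

end Groth.Agent.Lib.T2H7.QuotEtA
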