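import Groth.Agent.Lib.T2H7QuotEtA
import Groth.Agent.Lib.Helper20QuotRestrict
import Mathlib.AlgebraicGeometry.Limits
import Mathlib.AlgebraicGeometry.Morphisms.FlatMono

/-!
# T2H7: free quotients by finite groups are torsors (SGA1 V 2.6)

For a quotient `p : X ⟶ Y` by a finite group acting freely on geometric points:
`∐_G X ≅ X ×_Y X`, and a section of `p` trivializes `X ≅ ∐_G Y`.
-/

set_option autoImplicit false
set_option linter.unusedSectionVars false
set_option linter.unusedVariables false
set_option linter.style.haveILetI false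

universe u

open CategoryTheory CategoryTheory.Limits AlgebraicGeometry

namespace Groth.Agent.Lib.T2H7.QuotEtB

open SGA1 Groth.Agent.Lib.Helper20 Groth.Agent.Lib.T2H7.QuotEtA

/-- a section of an étale morphism is an open immersion -/
theorem isOpenImmersion_of_section {X Y : Scheme.{u}} (p : X ⟶ Y) [Etale p] (s : Y ⟶ X)
    (hs : s ≫ p = 𝟙 Y) : IsOpenImmersion s := by
  haveI : Etale (s ≫ p) := by rw [hs]; infer_instance
  haveI : Etale s := MorphismProperty.of_postcomp (W := @Etale) (W' := @Etale) s p
    inferInstance inferInstance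
  haveI : Mono s := by
    haveI : Mono (s ≫ p) := by rw [hs]; infer_instance
    exact mono_of_mono s p
  exact IsOpenImmersion.of_flat_of_mono s

/-- a geometric point over a given point -/
theorem exists_geomPt {Z : Scheme.{u}} (z : Z) :
    ∃ (K : Type u) (_ : Field K) (_ : IsAlgClosed K) (ξ : Spec (CommRingCat.of K) ⟶ Z),
      ∀ w, ξ w = z := by
  let K := AlgebraicClosure (Z.residueField z)
  refine ⟨K, inferInstance, inferInstance,
    Spec.map (CommRingCat.ofHom (algebraMap (Z.residueField z) K)) ≫ Z.fromSpecResidueField z, ?_⟩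
  intro w
  rw [Scheme.Hom.comp_apply, Scheme.fromSpecResidueField_apply]

theorem lift_of_mem_range {W Z : Scheme.{u}} (m : W ⟶ Z) [IsOpenImmersion m] {K : Type u} [Field K]
    (ξ : Spec (CommRingCat.of K) ⟶ Z) (z : Z) (hξ : ∀ w, ξ w = z) (hz : z ∈ Set.range m) :
    ∃ η : Spec (CommRingCat.of K) ⟶ W, η ≫ m = ξ := by
  refine ⟨IsOpenImmersion.lift m ξ ?_, IsOpenImmersion.lift_fac _ _ _⟩
  rintro _ ⟨w, rfl⟩
  rw [hξ w]
  exact hz

section Torsor

variable {X Y : Scheme.{u}} {G : Type u} [Group G] [Finite G] {ρ : G →* Aut X} {p : X ⟶ Y}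

/-- the graph of `ρ g` in `X ×_Y X` -/
noncomputable def graph (hp : IsQuot ρ p) (g : G) : X ⟶ pullback p p :=
  pullback.lift (𝟙 X) (ρ g).hom ((Category.id_comp p).trans (hp.inv g).symm)

theorem isOpenImmersion_graph (hp : IsQuot ρ p) [Etale p] (g : G) :
    IsOpenImmersion (graph hp g) :=
  isOpenImmersion_of_section (pullback.fst p p) (graph hp g) (pullback.lift_fst _ _ _)

theorem rho_inv_comp (g h : G) : (ρ g).hom ≫ (ρ h⁻¹).hom = (ρ (h⁻¹ * g)).hom :=
  (rho_mul_hom ρ h⁻¹ g).symm

theorem eq_of_comp_rho_eq (hfree : FreeOnGeomPts ρ) {K : Type u} [Field K] [IsAlgClosed K]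
    (η : Spec (CommRingCat.of K) ⟶ X) (g h : G) (hgh : η ≫ (ρ g).hom = η ≫ (ρ h).hom) : g = h := by
  have h1 : η ≫ (ρ (h⁻¹ * g)).hom = η := by
    rw [← rho_inv_comp, ← Category.assoc, hgh, Category.assoc, rho_inv_comp, inv_mul_cancel,
      rho_one_hom, Category.comp_id]
  have := hfree K η (h⁻¹ * g) h1
  exact (inv_mul_eq_one.mp this).symm

theorem isIso_sigmaDesc_graph (hp : IsQuot ρ p) (hfree : FreeOnGeomPts ρ) :
    IsIso (Sigma.desc (fun g : G => graph hp g)) := by
  haveI := etale_of_free hp hfree
  haveI : ∀ g : G, IsOpenImmersion (graph hp g) := isOpenImmersion_graph hp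
  have hcol : Nonempty (IsColimit (Cofan.mk (pullback p p) (fun g : G => graph hp g))) := by
    apply nonempty_isColimit_cofanMk_of
    · -- covering
      rw [eq_top_iff]
      intro z _
      let K : Type u := (pullback p p).residueField z
      let ξ : Spec (CommRingCat.of K) ⟶ pullback p p := (pullback p p).fromSpecResidueField z
      obtain ⟨g, hg⟩ := exists_rho_of_comp_eq hp hfree (K := K) (ξ ≫ pullback.fst p p)
        (ξ ≫ pullback.snd p p) (by rw [Category.assoc, Category.assoc, pullback.condition])
      have hξ : ξ = (ξ ≫ pullback.fst p p) ≫ graph hp g := by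
        apply pullback.hom_ext
        · rw [Category.assoc, graph, pullback.lift_fst, Category.comp_id]
        · rw [hg, Category.assoc (ξ ≫ pullback.fst p p), graph, pullback.lift_snd]
      have hz : z = (graph hp g) ((ξ ≫ pullback.fst p p) default) := by
        rw [← Scheme.Hom.comp_apply, ← hξ]
        exact ((pullback p p).fromSpecResidueField_apply z default).symm
      simp only [TopologicalSpace.Opens.iSup_mk, TopologicalSpace.Opens.mem_mk,
        Scheme.Hom.coe_opensRange, TopologicalSpace.Opens.carrier_eq_coe, Set.mem_iUnion]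
      exact ⟨g, _, hz.symm⟩
    · -- disjointness
      intro g h hgh
      rw [Function.onFun, disjoint_iff]
      ext z
      simp only [TopologicalSpace.Opens.coe_inf, Scheme.Hom.coe_opensRange, Set.mem_inter_iff,
        TopologicalSpace.Opens.coe_bot, Set.mem_empty_iff_false, iff_false, not_and]
      intro hz1 hz2
      obtain ⟨K, _, _, ξ, hξ⟩ := exists_geomPt z
      obtain ⟨η₁, h1⟩ := lift_of_mem_range (graph hp g) ξ z hξ hz1
      obtain ⟨η₂, h2⟩ := lift_of_mem_range (graph hp h) ξ z hξ hz2
      have e1 : η₁ = η₂ := by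
        have a1 := congrArg (· ≫ pullback.fst p p) h1
        have a2 := congrArg (· ≫ pullback.fst p p) h2
        simp only [graph, Category.assoc, pullback.lift_fst, Category.comp_id] at a1 a2
        rw [a1, a2]
      subst e1
      have b1 := congrArg (· ≫ pullback.snd p p) h1
      have b2 := congrArg (· ≫ pullback.snd p p) h2
      simp only [graph, Category.assoc, pullback.lift_snd] at b1 b2
      exact hgh (eq_of_comp_rho_eq hfree η₁ g h (b1.trans b2.symm))
  have := (Cofan.nonempty_isColimit_iff_isIso_sigmaDesc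
    (Cofan.mk (pullback p p) (fun g : G => graph hp g))).mp hcol
  exact this

theorem isIso_sigmaDesc_section (hp : IsQuot ρ p) (hfree : FreeOnGeomPts ρ) (s : Y ⟶ X)
    (hs : s ≫ p = 𝟙 Y) :
    IsIso (Sigma.desc (fun g : G => s ≫ (ρ g).hom) : (∐ fun _ : G => Y) ⟶ X) := by
  haveI := etale_of_free hp hfree
  haveI : IsOpenImmersion s := isOpenImmersion_of_section p s hs
  haveI : ∀ g : G, IsOpenImmersion (s ≫ (ρ g).hom) := fun g => inferInstance
  have hcol : Nonempty (IsColimit (Cofan.mk X (fun g : G => s ≫ (ρ g).hom))) := by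
    apply nonempty_isColimit_cofanMk_of
    · rw [eq_top_iff]
      intro x _
      have hpx : p.base (s.base (p.base x)) = p.base x := by
        have := congrArg (fun f : Y ⟶ Y => f.base (p.base x)) hs
        simpa using this
      obtain ⟨g, hg⟩ := (fibre_iff_orbit hp (s.base (p.base x)) x).mp hpx
      simp only [TopologicalSpace.Opens.iSup_mk, TopologicalSpace.Opens.mem_mk,
        Scheme.Hom.coe_opensRange, TopologicalSpace.Opens.carrier_eq_coe, Set.mem_iUnion]
      exact ⟨g, p.base x, by rw [Scheme.Hom.comp_apply]; exact hg⟩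
    · intro g h hgh
      rw [Function.onFun, disjoint_iff]
      ext z
      simp only [TopologicalSpace.Opens.coe_inf, Scheme.Hom.coe_opensRange, Set.mem_inter_iff,
        TopologicalSpace.Opens.coe_bot, Set.mem_empty_iff_false, iff_false, not_and]
      intro hz1 hz2
      obtain ⟨K, _, _, ξ, hξ⟩ := exists_geomPt z
      obtain ⟨η₁, h1⟩ := lift_of_mem_range (s ≫ (ρ g).hom) ξ z hξ hz1
      obtain ⟨η₂, h2⟩ := lift_of_mem_range (s ≫ (ρ h).hom) ξ z hξ hz2
      have e1 : η₁ = η₂ := by
        have a1 := congrArg (· ≫ p) h1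
        have a2 := congrArg (· ≫ p) h2
        simp only [Category.assoc, hp.inv, hs, Category.comp_id] at a1 a2
        rw [a1, a2]
      subst e1
      rw [← Category.assoc] at h1 h2
      exact hgh (eq_of_comp_rho_eq hfree (η₁ ≫ s) g h (h1.trans h2.symm))
  have := (Cofan.nonempty_isColimit_iff_isIso_sigmaDesc
    (Cofan.mk X (fun g : G => s ≫ (ρ g).hom))).mp hcol
  exact this

end Torsor

end Groth.Agent.Lib.T2H7.QuotEtB
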