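import Groth.Agent.Lib.T2H7QuotEtB

/-!
# T2H7: quotient of an étale separated scheme by a finite group of automorphisms (SGA1 V 2.?)

For `f : X ⟶ Y` étale and separated and an `Y`-automorphism `h` of `X`, the locus where `h` is
the identity is open and closed.  On an `h`-stable affine open this gives an idempotent `η`
killing all `h^* a - a` and with `1 - η` in the ideal generated by them.  For a quotient
`p : X ⟶ X'` by a finite group of `Y`-automorphisms, this makes `p` flat.
-/

set_option autoImplicit false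
set_option linter.unusedSectionVars false
set_option linter.unusedVariables false
set_option linter.style.haveILetI false

universe u

open CategoryTheory CategoryTheory.Limits AlgebraicGeometry

namespace Groth.Agent.Lib.T2H7.QuotEtC

open SGA1 Groth.Agent.Lib.Helper20 Groth.Agent.Lib.T2H7.QuotEtA Groth.Agent.Lib.T2H7.GalRingA

section Eq

variable {X Y : Scheme.{u}} (f : X ⟶ Y) (h : X ⟶ X) (hf : h ≫ f = f)

/-- `(h, id) : X ⟶ X ×_Y X` -/
noncomputable def eqLift : X ⟶ pullback f f :=
  pullback.lift h (𝟙 X) (by rw [hf, Category.id_comp])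

/-- the equalizer of `h` and the identity, as the pullback of the diagonal -/
noncomputable def eqι : pullback (eqLift f h hf) (pullback.diagonal f) ⟶ X := pullback.fst _ _

instance [IsOpenImmersion (pullback.diagonal f)] : IsOpenImmersion (eqι f h hf) := by
  unfold eqι; infer_instance

instance [IsSeparated f] : IsClosedImmersion (eqι f h hf) := by
  unfold eqι; infer_instance

theorem eqι_comp : eqι f h hf ≫ h = eqι f h hf := by
  have h1 : eqι f h hf ≫ eqLift f h hf = pullback.snd _ _ ≫ pullback.diagonal f :=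
    pullback.condition
  have ha := congrArg (· ≫ pullback.fst f f) h1
  have hb := congrArg (· ≫ pullback.snd f f) h1
  simp only [eqLift, Category.assoc, pullback.lift_fst, pullback.lift_snd,
    pullback.diagonal_fst, pullback.diagonal_snd, Category.comp_id] at ha hb
  exact ha.trans hb.symm

theorem exists_lift_eqι {W : Scheme.{u}} (ξ : W ⟶ X) (hξ : ξ ≫ h = ξ) :
    ∃ ζ, ζ ≫ eqι f h hf = ξ := by
  refine ⟨pullback.lift ξ ξ ?_, pullback.lift_fst _ _ _⟩
  apply pullback.hom_ext
  · simp only [eqLift, Category.assoc, pullback.lift_fst, pullback.diagonal_fst, Category.comp_id]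
    exact hξ
  · simp only [eqLift, Category.assoc, pullback.lift_snd, pullback.diagonal_snd, Category.comp_id]

theorem id_appLE' (U V : X.Opens) (e : V ≤ (𝟙 X) ⁻¹ᵁ U) (a : Γ(X, U)) :
    ((𝟙 X : X ⟶ X).appLE U V e).hom a = (X.presheaf.map (homOfLE e).op).hom a := by
  simp only [Scheme.Hom.appLE, Scheme.Hom.id_app]
  rfl

include hf in
theorem exists_idem [IsOpenImmersion (pullback.diagonal f)] [IsSeparated f]
    {T : X.Opens} (hT : IsAffineOpen T) (e : T ≤ h ⁻¹ᵁ T) :
    ∃ η : Γ(X, T), IsIdempotentElem η ∧ (∀ a, ((h.appLE T T e).hom a - a) * η = 0) ∧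
      1 - η ∈ Ideal.span (Set.range fun a : Γ(X, T) => (h.appLE T T e).hom a - a) := by
  let Z : Set X := Set.range (eqι f h hf).base
  have hZ : IsClopen Z :=
    ⟨(eqι f h hf).isClosedEmbedding.isClosed_range, (eqι f h hf).isOpenEmbedding.isOpen_range⟩
  let s : Set (PrimeSpectrum Γ(X, T)) := hT.fromSpec.base ⁻¹' Z
  have hs : IsClopen s := hZ.preimage hT.fromSpec.continuous
  obtain ⟨η, hη, hsη⟩ := PrimeSpectrum.isClopen_iff.mp hs
  have hmem : ∀ 𝔮 : PrimeSpectrum Γ(X, T), hT.fromSpec.base 𝔮 ∈ Z ↔ η ∉ 𝔮.asIdeal := by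
    intro 𝔮
    have : 𝔮 ∈ s ↔ 𝔮 ∈ (PrimeSpectrum.basicOpen η : Set (PrimeSpectrum Γ(X, T))) := by rw [hsη]
    exact this
  refine ⟨η, hη, ?_, ?_⟩
  · -- `h` is the identity on `D(η)`
    intro a
    let D : X.Opens := X.basicOpen η
    have hD : IsAffineOpen D := hT.basicOpen η
    have hDT : D ≤ T := X.basicOpen_le η
    have hDZ : Set.range hD.fromSpec.base ⊆ Set.range (eqι f h hf).base := by
      rw [hD.range_fromSpec]
      intro x hx
      have hxT : x ∈ T := hDT hx
      obtain ⟨𝔮, rfl⟩ : x ∈ Set.range hT.fromSpec.base := by rw [hT.range_fromSpec]; exact hxT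
      rw [← hT.fromSpec_preimage_basicOpen] at *
      have : 𝔮 ∈ (PrimeSpectrum.basicOpen η : Set (PrimeSpectrum Γ(X, T))) := by
        have h1 : 𝔮 ∈ hT.fromSpec ⁻¹ᵁ X.basicOpen η := hx
        rw [hT.fromSpec_preimage_basicOpen] at h1
        exact h1
      exact (hmem 𝔮).mpr this
    have hfix : hD.fromSpec ≫ h = hD.fromSpec := by
      have := IsOpenImmersion.lift_fac (eqι f h hf) hD.fromSpec hDZ
      rw [← this, Category.assoc, eqι_comp]
    have e3 : D ≤ h ⁻¹ᵁ T := hDT.trans e
    have e0 : D ≤ (𝟙 X) ⁻¹ᵁ T := hDT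
    have key : h.appLE T D e3 = (𝟙 X : X ⟶ X).appLE T D e0 := by
      apply Spec.map_injective
      rw [← cancel_mono hT.fromSpec, IsAffineOpen.SpecMap_appLE_fromSpec h hT hD e3,
        IsAffineOpen.SpecMap_appLE_fromSpec (𝟙 X) hT hD e0, hfix, Category.comp_id]
    have hres : ((h.appLE T T e).hom a - a) |_ D = 0 := by
      change (X.presheaf.map (homOfLE hDT).op).hom ((h.appLE T T e).hom a - a) = 0
      rw [map_sub, sub_eq_zero]
      have h1 : (X.presheaf.map (homOfLE hDT).op).hom ((h.appLE T T e).hom a) =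
          (h.appLE T D e3).hom a := by
        rw [← Scheme.Hom.appLE_map h e (homOfLE hDT).op]
        rfl
      rw [h1, key, id_appLE']
      rfl
    obtain ⟨n, hn⟩ := exists_pow_mul_eq_zero_of_res_basicOpen_eq_zero_of_isAffineOpen X hT
      ((h.appLE T T e).hom a - a) η hres
    rcases n with _ | n
    · rw [pow_zero, one_mul] at hn
      rw [hn, zero_mul]
    · rw [hη.pow_succ_eq] at hn
      rw [mul_comm]; exact hn
  · -- `1 - η` lies in the radical of the inertia ideal, hence in it
    set J : Ideal Γ(X, T) := Ideal.span (Set.range fun a : Γ(X, T) => (h.appLE T T e).hom a - a)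
      with hJ
    have hrad : 1 - η ∈ J.radical := by
      rw [Ideal.radical_eq_sInf, Ideal.mem_sInf]
      rintro 𝔮 ⟨hJ𝔮, h𝔮⟩
      haveI := h𝔮
      let K := 𝔮.ResidueField
      let α : Γ(X, T) ⟶ CommRingCat.of K := CommRingCat.ofHom (algebraMap Γ(X, T) K)
      have hα : h.appLE T T e ≫ α = α := by
        ext a
        change algebraMap Γ(X, T) K ((h.appLE T T e).hom a) = algebraMap Γ(X, T) K a
        rw [← sub_eq_zero, ← map_sub, Ideal.algebraMap_residueField_eq_zero]
        exact hJ𝔮 (Ideal.subset_span ⟨a, rfl⟩)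
      have hfix : pt hT α ≫ h = pt hT α := by rw [pt_comp h hT hT e, hα]
      obtain ⟨ζ, hζ⟩ := exists_lift_eqι f h hf (pt hT α) hfix
      let w : Spec (CommRingCat.of K) := default
      have hw : (pt hT α).base w ∈ Z := by
        rw [← hζ]
        exact ⟨ζ.base w, rfl⟩
      have hpt : (pt hT α).base w = hT.fromSpec.base ⟨𝔮, h𝔮⟩ := by
        unfold pt
        rw [Scheme.Hom.comp_base, TopCat.comp_app]
        congr 1
        have h1 : (Spec.map α).base w ∈
            Set.range (PrimeSpectrum.comap (algebraMap Γ(X, T) (⟨𝔮, h𝔮⟩ : PrimeSpectrum _).asIdeal.ResidueField)) :=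
          ⟨w, rfl⟩
        rw [PrimeSpectrum.residueField_comap] at h1
        exact h1
      rw [hpt, hmem] at hw
      have h0 : η * (1 - η) ∈ 𝔮 := by
        have : η * (1 - η) = 0 := by rw [mul_sub, mul_one, hη.eq, sub_self]
        rw [this]; exact 𝔮.zero_mem
      exact (h𝔮.mem_or_mem h0).resolve_left hw
    obtain ⟨n, hn⟩ := hrad
    rcases n with _ | n
    · rw [pow_zero] at hn
      rw [(Ideal.eq_top_iff_one J).mpr hn]
      trivial
    · rwa [hη.one_sub.pow_succ_eq] at hn

end Eq

section Quot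

variable {X X' Y : Scheme.{u}} {G : Type u} [Group G] [Finite G] {ρ : G →* Aut X} {p : X ⟶ X'}

theorem flat_app (hp : IsQuot ρ p) (f : X ⟶ Y) [Etale f] [IsSeparated f]
    (hρ : ∀ g : G, (ρ g).hom ≫ f = f) (U : X'.Opens) (hU : IsAffineOpen U) :
    (p.app U).hom.Flat := by
  classical
  letI := (p.app U).hom.toAlgebra
  letI := sectionAction ρ p hp.inv U
  haveI := smulCommClass hp U
  haveI := isInvariant hp U
  have hinj : Function.Injective (algebraMap Γ(X', U) Γ(X, p ⁻¹ᵁ U)) := hp.injective U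
  have hT := isAffineOpen_preimage hp hU
  have hex : ∀ g : G, ∃ η : Γ(X, p ⁻¹ᵁ U), IsIdempotentElem η ∧
      (∀ a, (g • a - a) * η = 0) ∧ 1 - η ∈ inertiaIdeal (A := Γ(X, p ⁻¹ᵁ U)) g := by
    intro g
    exact exists_idem f (ρ g⁻¹).hom (hρ g⁻¹) hT (preimage_le_of_inv ρ p hp.inv g⁻¹ U)
  choose ε hidem hb hc using hex
  have hflat : Module.Flat Γ(X', U) Γ(X, p ⁻¹ᵁ U) :=
    Groth.Agent.Lib.T2H7.GalRingB.flat_of_eps hinj ε hidem hb hc
  exact hflat

theorem flat_of_etale_separated (hp : IsQuot ρ p) (f : X ⟶ Y) [Etale f] [IsSeparated f]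
    (hρ : ∀ g : G, (ρ g).hom ≫ f = f) : Flat p := by
  haveI := hp.affine
  have hQ : RingHom.StableUnderCompositionWithLocalizationAwaySource RingHom.Flat :=
    (RingHom.Flat.stableUnderComposition.stableUnderCompositionWithLocalizationAway
      RingHom.Flat.holdsForLocalizationAway).1
  rw [HasRingHomProperty.iff_exists_appLE (P := @Flat) hQ]
  intro x
  obtain ⟨U, hU, hxU, -⟩ := TopologicalSpace.Opens.isBasis_iff_nbhd.mp X'.isBasis_affineOpens
    (TopologicalSpace.Opens.mem_top (p x))
  refine ⟨⟨U, hU⟩, ⟨p ⁻¹ᵁ U, isAffineOpen_preimage hp hU⟩, hxU, le_rfl, ?_⟩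
  rw [← Scheme.Hom.app_eq_appLE]
  exact flat_app hp f hρ U hU

end Quot

end Groth.Agent.Lib.T2H7.QuotEtC
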