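import Groth.Agent.Lib.T2H7DiagRep
import Groth.Agent.Lib.T2H1RepIso
import Groth.Agent.Lib.T2H1FreeAct
import Groth.Agent.S9884

set_option autoImplicit false
set_option linter.unusedSectionVars false
set_option linter.unusedVariables false
set_option linter.style.haveILetI false
universe u
open CategoryTheory CategoryTheory.Limits AlgebraicGeometry Opposite
open AlgSp

namespace Groth.Agent.Lib.T2H7.QuotFieldPt

open Groth.Agent.Lib.Helper1.Sig Groth.Agent.Lib.T2H1.FreeAct

variable {S : Scheme.{u}}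

/-- the quotient map of an étale equivalence relation -/
noncomputable abbrev qp {R U : Over S} (s t : R ⟶ U) :
    (AlgSp.yon S).obj U ⟶ QuotSh.quot Scheme.fppfPrecoverage s t :=
  (QuotSh.repIsoUliftYoneda Scheme.fppfPrecoverage U).inv ≫
    QuotSh.quotπ Scheme.fppfPrecoverage s t

theorem rep_qp {R U : Over S} (s t : R ⟶ U) (h : AlgSp.IsEtaleEqvRel s t) :
    AlgSp.Representable (qp s t) ∧ AlgSp.RepWith @Etale (qp s t) ∧
      AlgSp.RepWith @Surjective (qp s t) := by
  have sq := Groth.Agent.Lib.T2H1.RepIso.isPullback_yon_quotπ s t h.toIsEqvRel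
  haveI : Epi (QuotSh.quotπ Scheme.fppfPrecoverage s t) := by
    unfold QuotSh.quotπ
    exact coequalizer.π_epi
  haveI : Epi (qp s t) := epi_comp _ _
  haveI : Sheaf.IsLocallySurjective (qp s t) :=
    (Sheaf.isLocallySurjective_iff_epi _).mpr inferInstance
  haveI : Etale t.left := h.etale_right
  have hdiag : AlgSp.Representable (Limits.diag (QuotSh.quot Scheme.fppfPrecoverage s t)) :=
    Groth.Agent.Lib.T2H7.DiagRep.representable_diag _ (qp s t) s t sq
  have hrep : AlgSp.Representable (qp s t) :=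
    Functor.relativelyRepresentable.of_diag hdiag (qp s t)
  obtain ⟨e, he1, he2⟩ := (h.toIsEqvRel.equivalence U).refl (𝟙 U)
  have hsurj : Surjective s.left := by
    have h1 : e.left ≫ s.left = 𝟙 U.left := by
      rw [← Over.comp_left, he2]; rfl
    refine ⟨fun x => ⟨e.left x, ?_⟩⟩
    rw [← Scheme.Hom.comp_apply, h1]
    rfl
  haveI := Groth.Agent.Lib.T2H1.RepIso.isLocalAtTarget_fppf_etale.{u}
  haveI := Groth.Agent.Lib.T2H1.RepIso.isLocalAtTarget_fppf_surjective.{u}
  refine ⟨hrep, ?_, ?_⟩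
  · exact Groth.Agent.S9884.result S _ _ _ (qp s t) hrep (qp s t) _ _ _ sq @Etale
      ((AlgSp.repWith_yon_map_iff _ _).2 h.etale_left)
  · exact Groth.Agent.S9884.result S _ _ _ (qp s t) hrep (qp s t) _ _ _ sq @Surjective
      ((AlgSp.repWith_yon_map_iff _ _).2 hsurj)

section Action

variable {U : Over S} {G : Type u} [Group G] {ρ : G →* Aut U}

/-- two points with the same image in the quotient differ by a group element, when the source has
at most one point. -/
theorem exists_act_eq
    (hfree : ∀ (g : G) (x : U.left), g ≠ 1 →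
      U.left.fromSpecResidueField x ≫ (ρ g).hom.left ≠ U.left.fromSpecResidueField x)
    (c : Cofan (fun _ : G => U)) (hc : IsColimit c) (s t : c.pt ⟶ U)
    (hs : ∀ g, c.inj g ≫ s = 𝟙 U) (ht : ∀ g, c.inj g ≫ t = (ρ g).hom)
    {T : Over S} [Subsingleton T.left] (a b : T ⟶ U)
    (hab : (AlgSp.yon S).map a ≫ qp s t = (AlgSp.yon S).map b ≫ qp s t) :
    ∃ g : G, a = b ≫ (ρ g).hom := by
  have heq := isEtaleEqvRel_of_free hfree c hc s t hs ht
  have sq := Groth.Agent.Lib.T2H1.RepIso.isPullback_yon_quotπ s t heq.toIsEqvRel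
  obtain ⟨r, hra, hrb⟩ := (Groth.Agent.Lib.T2H7.DiagRep.rel_iff _ (qp s t) s t sq a b).2 hab
  let e : c.pt ≅ sig (fun _ : G => U) :=
    hc.coconePointUniqueUpToIso (isColimitSig (fun _ : G => U))
  have he : ∀ g, inj (fun _ : G => U) g ≫ e.inv = c.inj g := fun g =>
    IsColimit.comp_coconePointUniqueUpToIso_inv hc (isColimitSig (fun _ : G => U)) ⟨g⟩
  have hs' : ∀ g, inj (fun _ : G => U) g ≫ e.inv ≫ s = 𝟙 U := fun g => by
    rw [← Category.assoc, he, hs]
  have ht' : ∀ g, inj (fun _ : G => U) g ≫ e.inv ≫ t = (ρ g).hom := fun g => by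
    rw [← Category.assoc, he, ht]
  obtain ⟨W, -, hcov, hW⟩ := exists_decomp (fun _ : G => U) (r ≫ e.hom)
  choose x hx using hW
  have key : ∀ g : G, (Over.homMk (W g).ι rfl : Over.mk ((W g).ι ≫ T.hom) ⟶ T) ≫ a =
      (Over.homMk (W g).ι rfl : Over.mk ((W g).ι ≫ T.hom) ⟶ T) ≫ b ≫ (ρ g).hom := by
    intro g
    have h1 := restrict_t (e.inv ≫ t) ht' hx (le_refl (W g))
    have h2 := restrict_s (e.inv ≫ s) hs' hx (le_refl (W g))
    rw [Category.assoc, e.hom_inv_id_assoc, hra] at h1
    rw [Category.assoc, e.hom_inv_id_assoc, hrb] at h2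
    rw [h1, ← Category.assoc, h2]
  by_cases hne : Nonempty T.left
  · obtain ⟨pt⟩ := hne
    obtain ⟨g, hg⟩ := hcov pt
    refine ⟨g, hom_ext_cover _ _ (fun p' => ⟨W g, ?_, key g⟩)⟩
    rw [Subsingleton.elim p' pt]
    exact hg
  · refine ⟨1, hom_ext_cover _ _ (fun p' => (hne ⟨p'⟩).elim)⟩

/-- the group element is unique when the source is nonempty -/
theorem act_eq_unique
    (hfree : ∀ (g : G) (x : U.left), g ≠ 1 →
      U.left.fromSpecResidueField x ≫ (ρ g).hom.left ≠ U.left.fromSpecResidueField x)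
    {T : Over S} [Nonempty T.left] (b : T ⟶ U) {g g' : G}
    (h : b ≫ (ρ g).hom = b ≫ (ρ g').hom) : g = g' := by
  by_contra hne
  have h1 : g'⁻¹ * g ≠ 1 := by
    intro h0
    apply hne
    have := congrArg (fun z => g' * z) h0
    simpa using this
  have h2 : b ≫ (ρ (g'⁻¹ * g)).hom = b := by
    rw [rho_mul, ← Category.assoc, h, Category.assoc, rho_inv_cancel, Category.comp_id]
  exact (isEmpty_of_fixed hfree h1 b h2).false (Classical.arbitrary _)

/-- the action does not change the image in the quotient -/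
theorem act_qp (c : Cofan (fun _ : G => U)) (s t : c.pt ⟶ U)
    (hs : ∀ g, c.inj g ≫ s = 𝟙 U) (ht : ∀ g, c.inj g ≫ t = (ρ g).hom) (g : G) :
    (AlgSp.yon S).map (ρ g).hom ≫ qp s t = qp s t := by
  have h1 : (AlgSp.yon S).map t ≫ qp s t = (AlgSp.yon S).map s ≫ qp s t := by
    unfold qp
    rw [← Category.assoc, ← Groth.Agent.Lib.T2H1.RepIso.repIso_inv_naturality, ← Category.assoc,
      ← Groth.Agent.Lib.T2H1.RepIso.repIso_inv_naturality, Category.assoc, Category.assoc]
    congr 1
    unfold QuotSh.quotπ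
    exact (coequalizer.condition _ _).symm
  have h2 := congrArg (fun m => (AlgSp.yon S).map (c.inj g) ≫ m) h1
  simp only [← Category.assoc, ← Functor.map_comp, ht, hs] at h2
  simpa using h2

end Action

end Groth.Agent.Lib.T2H7.QuotFieldPt
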