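import Groth.Agent.Lib.T2H7QuotFieldPt

set_option autoImplicit false
set_option linter.unusedSectionVars false
set_option linter.unusedVariables false
set_option linter.style.haveILetI false
universe u
open CategoryTheory CategoryTheory.Limits AlgebraicGeometry Opposite
open AlgSp

namespace Groth.Agent.Lib.T2H7.QuotFieldPtB


/-- a nonempty scheme étale over a field contains an open point which is the spectrum of a
finite separable extension -/
theorem exists_field_point {k : Type u} [Field k] {V : Scheme.{u}}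
    (w : V ⟶ Spec (CommRingCat.of k)) [Etale w] [Nonempty V] :
    ∃ (k' : Type u) (_ : Field k') (_ : Algebra k k') (_ : FiniteDimensional k k')
      (_ : Algebra.IsSeparable k k') (j : Spec (CommRingCat.of k') ⟶ V),
      IsOpenImmersion j ∧ j ≫ w = Spec.map (CommRingCat.ofHom (algebraMap k k')) := by
  obtain ⟨x⟩ := ‹Nonempty V›
  let 𝒰 := V.affineOpenCover
  let i := 𝒰.idx x
  let A : CommRingCat.{u} := 𝒰.X i
  let g : Spec A ⟶ V := 𝒰.f i
  obtain ⟨y, hy⟩ := 𝒰.covers x
  have hA : Nontrivial A := by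
    by_contra hcon
    rw [not_nontrivial_iff_subsingleton] at hcon
    exact (inferInstance : IsEmpty (PrimeSpectrum A)).false y
  let ψ : CommRingCat.of k ⟶ A := Spec.preimage (g ≫ w)
  have hψ : Spec.map ψ = g ≫ w := Spec.map_preimage _
  have het : RingHom.Etale ψ.hom := by
    have : Etale (Spec.map ψ) := by rw [hψ]; infer_instance
    exact (HasRingHomProperty.Spec_iff (P := @Etale)).mp this
  letI : Algebra k A := ψ.hom.toAlgebra
  have hAet : Algebra.Etale k A := het
  obtain ⟨I, hI, Ai, hF, hAlg, e, hAi⟩ := (Algebra.Etale.iff_exists_algEquiv_prod k A).mp hAet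
  have hIne : Nonempty I := by
    by_contra hcon
    rw [not_nonempty_iff] at hcon
    have : Subsingleton A := e.toEquiv.subsingleton
    exact not_subsingleton A this
  obtain ⟨i₀⟩ := hIne
  let ev : (∀ i, Ai i) →+* Ai i₀ := Pi.evalRingHom (fun i => Ai i) i₀
  let eI : A ≅ CommRingCat.of (∀ i, Ai i) := e.toRingEquiv.toCommRingCatIso
  let eC : A ⟶ CommRingCat.of (∀ i, Ai i) := eI.hom
  have heC : IsIso eC := inferInstanceAs (IsIso eI.hom)
  let j : Spec (CommRingCat.of (Ai i₀)) ⟶ V :=
    Spec.map (CommRingCat.ofHom ev) ≫ Spec.map eC ≫ g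
  refine ⟨Ai i₀, hF i₀, hAlg i₀, (hAi i₀).1, (hAi i₀).2, j, ?_, ?_⟩
  · have h1 : IsOpenImmersion (Spec.map (CommRingCat.ofHom ev)) := inferInstance
    have h2 : IsOpenImmersion g := inferInstance
    dsimp only [j]
    infer_instance
  · dsimp only [j]
    rw [Category.assoc, Category.assoc, ← hψ, ← Spec.map_comp, ← Spec.map_comp]
    congr 1
    ext c
    change ev (e (algebraMap k A c)) = _
    rw [e.commutes]
    rfl



/-- normality criterion: every embedding into the algebraic closure contains the canonical image -/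
theorem normal_of_embeddings {k k' : Type u} [Field k] [Field k'] [Algebra k k']
    [FiniteDimensional k k']
    (h : ∀ τ : k' →ₐ[k] AlgebraicClosure k', ∃ θ : k' →+* k',
      ∀ x, algebraMap k' (AlgebraicClosure k') x = τ (θ x)) :
    Normal k k' := by
  let ι : k' →ₐ[k] AlgebraicClosure k' := IsScalarTower.toAlgHom k k' (AlgebraicClosure k')
  have hK : Normal k ι.fieldRange := by
    rw [IntermediateField.normal_iff_forall_fieldRange_le]
    intro σ'
    let τ : k' →ₐ[k] AlgebraicClosure k' := σ'.comp (ι.equivFieldRange : k' →ₐ[k] ι.fieldRange)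
    obtain ⟨θ, hθ⟩ := h τ
    have hle : LinearMap.range ι.toLinearMap ≤ LinearMap.range τ.toLinearMap := by
      rintro _ ⟨x, rfl⟩
      exact ⟨θ x, (hθ x).symm⟩
    have hfin : Module.finrank k (LinearMap.range ι.toLinearMap) =
        Module.finrank k (LinearMap.range τ.toLinearMap) := by
      rw [LinearMap.finrank_range_of_inj (f := ι.toLinearMap) ι.toRingHom.injective,
        LinearMap.finrank_range_of_inj (f := τ.toLinearMap) τ.toRingHom.injective]
    have heq := Submodule.eq_of_le_of_finrank_eq hle hfin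
    rintro y ⟨z, rfl⟩
    obtain ⟨x₁, hx₁⟩ : ∃ x₁ : k', ι.equivFieldRange x₁ = z := ι.equivFieldRange.surjective z
    have h1 : σ' z ∈ LinearMap.range τ.toLinearMap := ⟨x₁, by
      change σ' (ι.equivFieldRange x₁) = σ' z
      rw [hx₁]⟩
    rw [← heq] at h1
    obtain ⟨x₂, hx₂⟩ := h1
    exact ⟨x₂, hx₂⟩
  exact Normal.of_algEquiv ι.equivFieldRange.symm



open Groth.Agent.Lib.Helper1.Sig Groth.Agent.Lib.T2H1.FreeAct Groth.Agent.Lib.T2H7.QuotFieldPt

section Fld

variable {S : Scheme.{u}} {k : Type u} [Field k] (σ : Spec (CommRingCat.of k) ⟶ S)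

/-- `Spec L` over `S` for a `k`-algebra `L` -/
noncomputable abbrev TT (L : Type u) [CommRing L] [Algebra k L] : Over S :=
  Over.mk (Spec.map (CommRingCat.ofHom (algebraMap k L)) ≫ σ)

/-- the structure map -/
noncomputable abbrev str (L : Type u) [CommRing L] [Algebra k L] : TT σ L ⟶ Over.mk σ :=
  Over.homMk (Spec.map (CommRingCat.ofHom (algebraMap k L))) rfl

/-- functoriality in `L` -/
noncomputable def mapO {L L' : Type u} [CommRing L] [Algebra k L] [CommRing L'] [Algebra k L']
    (f : L →+* L') (hf : f.comp (algebraMap k L) = algebraMap k L') : TT σ L' ⟶ TT σ L :=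
  Over.homMk (Spec.map (CommRingCat.ofHom f)) (by
    change Spec.map (CommRingCat.ofHom f) ≫ Spec.map (CommRingCat.ofHom (algebraMap k L)) ≫ σ =
      Spec.map (CommRingCat.ofHom (algebraMap k L')) ≫ σ
    rw [← Category.assoc, ← Spec.map_comp, ← CommRingCat.ofHom_comp, hf])

@[simp] lemma mapO_left {L L' : Type u} [CommRing L] [Algebra k L] [CommRing L'] [Algebra k L']
    (f : L →+* L') (hf : f.comp (algebraMap k L) = algebraMap k L') :
    (mapO σ f hf).left = Spec.map (CommRingCat.ofHom f) := rfl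

lemma mapO_str {L L' : Type u} [CommRing L] [Algebra k L] [CommRing L'] [Algebra k L']
    (f : L →+* L') (hf : f.comp (algebraMap k L) = algebraMap k L') :
    mapO σ f hf ≫ str σ L = str σ L' := by
  ext1
  change Spec.map (CommRingCat.ofHom f) ≫ Spec.map (CommRingCat.ofHom (algebraMap k L)) = _
  rw [← Spec.map_comp, ← CommRingCat.ofHom_comp, hf]
  rfl

lemma mapO_comp {L L' L'' : Type u} [CommRing L] [Algebra k L] [CommRing L'] [Algebra k L']
    [CommRing L''] [Algebra k L'']
    (f : L →+* L') (hf : f.comp (algebraMap k L) = algebraMap k L')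
    (f' : L' →+* L'') (hf' : f'.comp (algebraMap k L') = algebraMap k L'') :
    mapO σ f' hf' ≫ mapO σ f hf = mapO σ (f'.comp f)
      (by rw [RingHom.comp_assoc, hf, hf']) := by
  ext1
  change Spec.map (CommRingCat.ofHom f') ≫ Spec.map (CommRingCat.ofHom f) = _
  rw [← Spec.map_comp, ← CommRingCat.ofHom_comp]
  rfl

end Fld

section Main

variable {S : Scheme.{u}} {U : Over S} {G : Type u} [Group G] {ρ : G →* Aut U}
  (hfree : ∀ (g : G) (x : U.left), g ≠ 1 →
      U.left.fromSpecResidueField x ≫ (ρ g).hom.left ≠ U.left.fromSpecResidueField x)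
  (c : Cofan (fun _ : G => U)) (hc : IsColimit c) (s t : c.pt ⟶ U)
  (hs : ∀ g, c.inj g ≫ s = 𝟙 U) (ht : ∀ g, c.inj g ≫ t = (ρ g).hom)
  {k : Type u} [Field k] (σ : Spec (CommRingCat.of k) ⟶ S)
  (ξ : (AlgSp.yon S).obj (Over.mk σ) ⟶ QuotSh.quot Scheme.fppfPrecoverage s t)
  {V : Over S} (w : V ⟶ Over.mk σ) (v : V ⟶ U)
  (sqV : IsPullback ((AlgSp.yon S).map v) ((AlgSp.yon S).map w) (qp s t) ξ)
  {k' : Type u} [Field k'] [Algebra k k'] (j : Spec (CommRingCat.of k') ⟶ V.left)
  (hjw : j ≫ w.left = Spec.map (CommRingCat.ofHom (algebraMap k k')))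

/-- the open point of `V` as a morphism over `S` -/
noncomputable def jO : TT σ k' ⟶ V :=
  Over.homMk j (by
    change j ≫ V.hom = Spec.map (CommRingCat.ofHom (algebraMap k k')) ≫ σ
    rw [← hjw, Category.assoc]
    congr 1
    exact (Over.w w).symm)

lemma jO_w : jO σ w j hjw ≫ w = str σ k' := by
  ext1
  exact hjw

/-- the point of `U` -/
noncomputable def x0 : TT σ k' ⟶ U := jO σ w j hjw ≫ v

include sqV in
lemma x0_qp : (AlgSp.yon S).map (x0 σ w v j hjw) ≫ qp s t = (AlgSp.yon S).map (str σ k') ≫ ξ := by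
  unfold x0
  rw [Functor.map_comp, Category.assoc, sqV.w, ← Category.assoc, ← Functor.map_comp, jO_w]

include sqV in
/-- joint monomorphy of `(str, x0)` -/
lemma joint_mono [IsOpenImmersion j] {T : Over S} (a b : T ⟶ TT σ k')
    (h1 : a ≫ x0 σ w v j hjw = b ≫ x0 σ w v j hjw) (h2 : a ≫ str σ k' = b ≫ str σ k') :
    a = b := by
  have h3 : a ≫ jO σ w j hjw = b ≫ jO σ w j hjw := by
    apply (AlgSp.yon S).map_injective
    apply sqV.hom_ext
    · rw [← Functor.map_comp, ← Functor.map_comp, Category.assoc, Category.assoc]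
      exact congrArg _ h1
    · rw [← Functor.map_comp, ← Functor.map_comp, Category.assoc, Category.assoc, jO_w]
      exact congrArg _ h2
  ext1
  have h4 := congrArg (fun m => m.left) h3
  simp only [Over.comp_left] at h4
  exact (cancel_mono j).1 h4

include hfree hc hs ht sqV in
/-- two points of `Spec k'` with values in a one-point scheme differ by a group element -/
lemma exists_g {T : Over S} [Subsingleton T.left] (a b : T ⟶ TT σ k')
    (h2 : a ≫ str σ k' = b ≫ str σ k') :
    ∃ g : G, a ≫ x0 σ w v j hjw = (b ≫ x0 σ w v j hjw) ≫ (ρ g).hom := by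
  apply exists_act_eq hfree c hc s t hs ht
  rw [Functor.map_comp, Functor.map_comp, Category.assoc, Category.assoc, x0_qp c s t σ ξ w v sqV j hjw,
    ← Category.assoc, ← Category.assoc, ← Functor.map_comp, ← Functor.map_comp, h2]

instance subsingleton_TT (L : Type u) [Field L] [Algebra k L] : Subsingleton (TT σ L).left :=
  inferInstanceAs (Subsingleton (PrimeSpectrum L))

instance nonempty_TT (L : Type u) [Field L] [Algebra k L] : Nonempty (TT σ L).left :=
  inferInstanceAs (Nonempty (PrimeSpectrum L))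

/-- the action of automorphisms -/
noncomputable def autO (τ : k' ≃ₐ[k] k') : TT σ k' ⟶ TT σ k' :=
  mapO σ τ.toRingEquiv.toRingHom (by ext c; exact τ.commutes c)

lemma autO_str (τ : k' ≃ₐ[k] k') : autO σ τ ≫ str σ k' = str σ k' := mapO_str σ _ _

lemma autO_mul (τ₁ τ₂ : k' ≃ₐ[k] k') :
    autO σ (τ₁ * τ₂).symm = autO σ τ₂.symm ≫ autO σ τ₁.symm := by
  unfold autO
  rw [mapO_comp]
  rfl

include hfree hc hs ht sqV in
lemma exists_phi (τ : k' ≃ₐ[k] k') :
    ∃ g : G, autO σ τ.symm ≫ x0 σ w v j hjw = x0 σ w v j hjw ≫ (ρ g).hom := by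
  obtain ⟨g, hg⟩ := exists_g hfree c hc s t hs ht σ ξ w v sqV j hjw (autO σ τ.symm) (𝟙 _)
    (by rw [autO_str, Category.id_comp])
  exact ⟨g, by rw [hg, Category.id_comp]⟩

/-- the group element attached to an automorphism -/
noncomputable def phiFun (τ : k' ≃ₐ[k] k') : G :=
  (exists_phi hfree c hc s t hs ht σ ξ w v sqV j hjw τ).choose

lemma phiFun_spec (τ : k' ≃ₐ[k] k') :
    autO σ τ.symm ≫ x0 σ w v j hjw =
      x0 σ w v j hjw ≫ (ρ (phiFun hfree c hc s t hs ht σ ξ w v sqV j hjw τ)).hom :=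
  (exists_phi hfree c hc s t hs ht σ ξ w v sqV j hjw τ).choose_spec

lemma phiFun_mul (τ₁ τ₂ : k' ≃ₐ[k] k') :
    phiFun hfree c hc s t hs ht σ ξ w v sqV j hjw (τ₁ * τ₂) =
      phiFun hfree c hc s t hs ht σ ξ w v sqV j hjw τ₁ *
        phiFun hfree c hc s t hs ht σ ξ w v sqV j hjw τ₂ := by
  apply act_eq_unique hfree (x0 σ w v j hjw)
  have e12 := phiFun_spec hfree c hc s t hs ht σ ξ w v sqV j hjw (τ₁ * τ₂)
  have e1 := phiFun_spec hfree c hc s t hs ht σ ξ w v sqV j hjw τ₁
  have e2 := phiFun_spec hfree c hc s t hs ht σ ξ w v sqV j hjw τ₂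
  rw [← e12, autO_mul, Category.assoc, e1, ← Category.assoc, e2, Category.assoc, rho_mul U G ρ]

/-- the group homomorphism `Aut(k'/k) → G` -/
noncomputable def phi : (k' ≃ₐ[k] k') →* G :=
  MonoidHom.mk' (phiFun hfree c hc s t hs ht σ ξ w v sqV j hjw)
    (phiFun_mul hfree c hc s t hs ht σ ξ w v sqV j hjw)

lemma phi_injective [IsOpenImmersion j] :
    Function.Injective (phi hfree c hc s t hs ht σ ξ w v sqV j hjw) := by
  rw [injective_iff_map_eq_one]
  intro τ hτ
  have h1 := phiFun_spec hfree c hc s t hs ht σ ξ w v sqV j hjw τ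
  change phiFun hfree c hc s t hs ht σ ξ w v sqV j hjw τ = 1 at hτ
  rw [hτ, rho_one U G ρ, Category.comp_id] at h1
  have h2 : autO σ τ.symm = 𝟙 _ := by
    apply joint_mono c s t σ ξ w v sqV j hjw
    · rw [h1, Category.id_comp]
    · rw [autO_str, Category.id_comp]
  have h3 : Spec.map (CommRingCat.ofHom τ.symm.toRingEquiv.toRingHom) =
      Spec.map (𝟙 (CommRingCat.of k')) := by
    rw [Spec.map_id]
    exact congrArg (fun m => m.left) h2
  have h4 := Spec.map_injective h3
  ext x
  have h5 := congrArg (fun m => m.hom (τ x)) h4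
  simp only [CommRingCat.hom_ofHom, CommRingCat.hom_id, RingHom.id_apply] at h5
  have h6 : τ.symm (τ x) = τ x := h5
  rw [AlgEquiv.symm_apply_apply] at h6
  exact h6.symm

include hfree hc hs ht sqV hjw in
/-- every `k`-embedding of `k'` into an extension `Ω` of `k'` contains the image of `k'` -/
lemma exists_eq_comp [IsOpenImmersion j] (Ω : Type u) [Field Ω] [Algebra k Ω] [Algebra k' Ω]
    [IsScalarTower k k' Ω] (τ : k' →ₐ[k] Ω) :
    ∃ θ : k' →+* k', ∀ x : k', algebraMap k' Ω x = τ (θ x) := by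
  let aΩ : TT σ Ω ⟶ TT σ k' := mapO σ (algebraMap k' Ω)
    (by ext c; exact (IsScalarTower.algebraMap_apply k k' Ω c).symm)
  let bΩ : TT σ Ω ⟶ TT σ k' := mapO σ τ.toRingHom (by ext c; exact τ.commutes c)
  obtain ⟨g, hg⟩ := exists_g hfree c hc s t hs ht σ ξ w v sqV j hjw aΩ bΩ
    (by rw [mapO_str, mapO_str])
  have hq : (AlgSp.yon S).map (x0 σ w v j hjw ≫ (ρ g).hom) ≫ qp s t =
      (AlgSp.yon S).map (str σ k') ≫ ξ := by
    rw [Functor.map_comp, Category.assoc, act_qp c s t hs ht g, x0_qp c s t σ ξ w v sqV j hjw]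
  obtain ⟨j', hj'⟩ := (AlgSp.yon S).map_surjective (sqV.lift _ _ hq)
  have hj'v : j' ≫ v = x0 σ w v j hjw ≫ (ρ g).hom := by
    apply (AlgSp.yon S).map_injective
    rw [Functor.map_comp, hj', sqV.lift_fst]
  have hj'w : j' ≫ w = str σ k' := by
    apply (AlgSp.yon S).map_injective
    rw [Functor.map_comp, hj', sqV.lift_snd]
  have h3 : aΩ ≫ jO σ w j hjw = bΩ ≫ j' := by
    apply (AlgSp.yon S).map_injective
    apply sqV.hom_ext
    · rw [← Functor.map_comp, ← Functor.map_comp, Category.assoc, Category.assoc, hj'v]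
      exact congrArg _ (hg.trans (Category.assoc _ _ _))
    · rw [← Functor.map_comp, ← Functor.map_comp, Category.assoc, Category.assoc, jO_w, hj'w,
        mapO_str, mapO_str]
  have hrange : Set.range j'.left ⊆ Set.range j := by
    rintro _ ⟨y, rfl⟩
    obtain ⟨ω⟩ := nonempty_TT σ Ω
    have hy : y = bΩ.left ω := Subsingleton.elim (h := subsingleton_TT σ k') _ _
    rw [hy]
    refine ⟨aΩ.left ω, ?_⟩
    have h4 := congrArg (fun m => m.left ω) h3
    exact h4
  let θ := IsOpenImmersion.lift j j'.left hrange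
  have hθ : θ ≫ j = j'.left := IsOpenImmersion.lift_fac _ _ _
  have h4 : aΩ.left = bΩ.left ≫ θ := by
    rw [← cancel_mono j, Category.assoc, hθ]
    exact congrArg (fun m => m.left) h3
  refine ⟨(Spec.preimage θ).hom, fun x => ?_⟩
  have h5 : Spec.map (CommRingCat.ofHom (algebraMap k' Ω)) =
      Spec.map (Spec.preimage θ ≫ CommRingCat.ofHom τ.toRingHom) := by
    rw [Spec.map_comp, Spec.map_preimage]
    exact h4
  have h6 := Spec.map_injective h5
  exact congrArg (fun m => m.hom x) h6

end Main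


section Final

open Groth.Agent.Lib.Helper1.Sig Groth.Agent.Lib.T2H1.FreeAct Groth.Agent.Lib.T2H7.QuotFieldPt

/-- Galois data attached to a field point of the quotient of a free group action. -/
theorem main (S : Scheme.{u}) (U : Over S) (G : Type u) [Group G]
    (ρ : G →* Aut U)
    (hfree : ∀ (g : G) (x : U.left), g ≠ 1 →
      U.left.fromSpecResidueField x ≫ (ρ g).hom.left ≠ U.left.fromSpecResidueField x)
    (c : Cofan (fun _ : G => U)) (hc : IsColimit c) (s t : c.pt ⟶ U)
    (hs : ∀ g, c.inj g ≫ s = 𝟙 U) (ht : ∀ g, c.inj g ≫ t = (ρ g).hom)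
    (k : Type u) [Field k] (σ : Spec (CommRingCat.of k) ⟶ S)
    (ξ : (AlgSp.yon S).obj (Over.mk σ) ⟶ QuotSh.quot Scheme.fppfPrecoverage s t) :
    ∃ (k' : Type u) (_ : Field k') (_ : Algebra k k') (_ : FiniteDimensional k k') (_ : IsGalois k k')
      (H : Subgroup G) (_ : Finite H) (e : H ≃* (k' ≃ₐ[k] k'))
      (x' : Over.mk (Spec.map (CommRingCat.ofHom (algebraMap k k')) ≫ σ) ⟶ U),
      (∀ h : H, Spec.map (CommRingCat.ofHom (e h).symm.toRingEquiv.toRingHom) ≫ x'.left =
        x'.left ≫ (ρ (h : G)).hom.left) ∧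
      (AlgSp.yon S).map x' ≫ (QuotSh.repIsoUliftYoneda Scheme.fppfPrecoverage U).inv ≫
          QuotSh.quotπ Scheme.fppfPrecoverage s t =
        (AlgSp.yon S).map (Over.homMk (Spec.map (CommRingCat.ofHom (algebraMap k k'))) :
          Over.mk (Spec.map (CommRingCat.ofHom (algebraMap k k')) ≫ σ) ⟶ Over.mk σ) ≫ ξ := by
  have heq := isEtaleEqvRel_of_free hfree c hc s t hs ht
  obtain ⟨hrep, het, hsurj⟩ := rep_qp s t heq
  obtain ⟨V, w, fst, sqV0⟩ := hrep ξ
  obtain ⟨v, rfl⟩ := (AlgSp.yon S).map_surjective fst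
  have hwet : Etale w.left := ((repWith_iff _ _).1 het).2 ξ _ w sqV0
  have hwsurj : Surjective w.left := ((repWith_iff _ _).1 hsurj).2 ξ _ w sqV0
  have hne : Nonempty V.left := by
    obtain ⟨y, _⟩ := hwsurj.surj (Classical.arbitrary (PrimeSpectrum k))
    exact ⟨y⟩
  obtain ⟨k', hF, hA, hfd, hsep, j, hj, hjw⟩ := exists_field_point w.left
  have hnorm : Normal k k' := normal_of_embeddings
    (fun τ => exists_eq_comp hfree c hc s t hs ht σ ξ w v sqV0 j hjw _ τ)
  have hgal : IsGalois k k' := isGalois_iff.2 ⟨hsep, hnorm⟩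
  have hφ := phi_injective hfree c hc s t hs ht σ ξ w v sqV0 j hjw
  refine ⟨k', hF, hA, hfd, hgal, (phi hfree c hc s t hs ht σ ξ w v sqV0 j hjw).range,
    Finite.of_equiv _ (MonoidHom.ofInjective hφ).toEquiv, (MonoidHom.ofInjective hφ).symm,
    x0 σ w v j hjw, ?_, ?_⟩
  · intro h
    have h0 := phiFun_spec hfree c hc s t hs ht σ ξ w v sqV0 j hjw
      ((MonoidHom.ofInjective hφ).symm h)
    have h1 : phiFun hfree c hc s t hs ht σ ξ w v sqV0 j hjw
        ((MonoidHom.ofInjective hφ).symm h) = (h : G) :=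
      congrArg Subtype.val ((MonoidHom.ofInjective hφ).apply_symm_apply h)
    rw [h1] at h0
    exact congrArg (fun m => m.left) h0
  · exact x0_qp c s t σ ξ w v sqV0 j hjw

end Final

end Groth.Agent.Lib.T2H7.QuotFieldPtB
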