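import Mathlib

/-!
# T2H7: invariants of a finite group commute with flat base change (helper7)

* `flat_invariants`: tensor product form.
* `flat_invariants_pushout`: for a pushout square of commutative rings.
-/

set_option autoImplicit false
set_option linter.style.haveILetI false
set_option linter.unusedSectionVars false
set_option linter.unusedVariables false
universe u

open CategoryTheory CategoryTheory.Limits TensorProduct

namespace Groth.Agent.Lib.T2H7.QuotFlatA

section Tensor

variable {B A B' : Type*} [CommRing B] [CommRing A] [CommRing B'] [Algebra B A] [Algebra B B']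

theorem includeLeft_eq (s : B' ⊗[B] B) :
    ((Algebra.linearMap B A).lTensor B') s =
      (Algebra.TensorProduct.includeLeft : B' →ₐ[B] B' ⊗[B] A) (TensorProduct.rid B B' s) := by
  induction s using TensorProduct.induction_on with
  | zero => simp
  | tmul x y =>
    simp only [LinearMap.lTensor_tmul, Algebra.linearMap_apply, TensorProduct.rid_tmul,
      Algebra.TensorProduct.includeLeft_apply]
    rw [TensorProduct.smul_tmul, Algebra.algebraMap_eq_smul_one]
  | add x y hx hy => simp only [map_add, hx, hy]

theorem map_eq_lTensor (f : A →ₐ[B] A) (t : B' ⊗[B] A) :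
    Algebra.TensorProduct.map (AlgHom.id B B') f t = (f.toLinearMap.lTensor B') t := by
  induction t using TensorProduct.induction_on with
  | zero => simp
  | tmul x y => simp
  | add x y hx hy => simp only [map_add, hx, hy]

theorem flat_invariants [Module.Flat B B'] {G : Type*} [Finite G] (τ : G → (A →ₐ[B] A))
    (hinj : Function.Injective (algebraMap B A))
    (hinv : ∀ a : A, (∀ g, τ g a = a) → a ∈ Set.range (algebraMap B A)) :
    Function.Injective (Algebra.TensorProduct.includeLeft : B' →ₐ[B] B' ⊗[B] A) ∧
    ∀ t : B' ⊗[B] A, (∀ g, Algebra.TensorProduct.map (AlgHom.id B B') (τ g) t = t) →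
      t ∈ Set.range (Algebra.TensorProduct.includeLeft : B' →ₐ[B] B' ⊗[B] A) := by
  classical
  cases nonempty_fintype G
  let ι : B →ₗ[B] A := Algebra.linearMap B A
  let d : A →ₗ[B] (G → A) := LinearMap.pi (fun g => (τ g).toLinearMap - LinearMap.id)
  have hd : ∀ a g, d a g = τ g a - a := fun a g => rfl
  have hex : Function.Exact ι d := by
    intro a
    constructor
    · intro h
      have h1 : ∀ g, τ g a = a := fun g => by
        have := congrFun h g
        rw [hd] at this
        exact sub_eq_zero.mp this
      exact hinv a h1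
    · rintro ⟨b, rfl⟩
      ext g
      rw [hd]
      show τ g (algebraMap B A b) - algebraMap B A b = 0
      rw [AlgHom.commutes, sub_self]
  have hex' := Module.Flat.lTensor_exact B' hex
  constructor
  · have h1 : Function.Injective (ι.lTensor B') :=
      Module.Flat.lTensor_preserves_injective_linearMap ι hinj
    intro x y hxy
    have hx : (Algebra.TensorProduct.includeLeft : B' →ₐ[B] B' ⊗[B] A) x =
        (ι.lTensor B') ((TensorProduct.rid B B').symm x) := by
      rw [includeLeft_eq, LinearEquiv.apply_symm_apply]
    have hy : (Algebra.TensorProduct.includeLeft : B' →ₐ[B] B' ⊗[B] A) y =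
        (ι.lTensor B') ((TensorProduct.rid B B').symm y) := by
      rw [includeLeft_eq, LinearEquiv.apply_symm_apply]
    rw [hx, hy] at hxy
    exact (TensorProduct.rid B B').symm.injective (h1 hxy)
  · intro t ht
    have h2 : (d.lTensor B') t = 0 := by
      apply (TensorProduct.piRight B B B' (fun _ : G => A)).injective
      rw [map_zero, TensorProduct.piRight_apply]
      have h3 : ∀ t : B' ⊗[B] A, TensorProduct.piRightHom B B B' (fun _ : G => A) ((d.lTensor B') t) =
          fun g => ((τ g).toLinearMap.lTensor B') t - t := by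
        intro t
        induction t using TensorProduct.induction_on with
        | zero => ext g; simp
        | tmul x y =>
          ext g
          simp only [LinearMap.lTensor_tmul, TensorProduct.piRightHom_tmul, hd, AlgHom.toLinearMap_apply,
            TensorProduct.tmul_sub]
        | add x y hx hy =>
          rw [map_add, map_add, hx, hy]
          ext g
          simp only [Pi.add_apply, map_add]
          abel
      rw [h3]
      ext g
      rw [← map_eq_lTensor, ht g, sub_self]
      rfl
    obtain ⟨s, hs⟩ := (hex' t).1 h2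
    exact ⟨TensorProduct.rid B B' s, by rw [← includeLeft_eq]; exact hs⟩

end Tensor


section Pushout

variable {B A B' P : CommRingCat.{u}} {ψ : B ⟶ B'} {φ : B ⟶ A} {β : B' ⟶ P} {α : A ⟶ P}

theorem flat_invariants_pushout (H : IsPushout ψ φ β α) (hflat : ψ.hom.Flat)
    {G : Type*} [Finite G] (τ : G → (A ⟶ A)) (τ' : G → (P ⟶ P))
    (hφτ : ∀ g, φ ≫ τ g = φ) (hα : ∀ g, α ≫ τ' g = τ g ≫ α) (hβ : ∀ g, β ≫ τ' g = β)
    (hinj : Function.Injective φ.hom)
    (hinv : ∀ a, (∀ g, (τ g).hom a = a) → a ∈ Set.range φ.hom) :
    Function.Injective β.hom ∧ ∀ t, (∀ g, (τ' g).hom t = t) → t ∈ Set.range β.hom := by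
  letI := ψ.hom.toAlgebra
  letI := φ.hom.toAlgebra
  haveI : Module.Flat B B' := hflat
  let τa : G → (A →ₐ[B] A) := fun g =>
    { (τ g).hom with
      commutes' := fun b => congrArg (fun f => f.hom b) (hφτ g) }
  have H' : IsPushout ψ φ
      (CommRingCat.ofHom (S := B' ⊗[B] A) Algebra.TensorProduct.includeLeftRingHom)
      (CommRingCat.ofHom (S := B' ⊗[B] A) Algebra.TensorProduct.includeRight.toRingHom) :=
    CommRingCat.isPushout_tensorProduct B B' A
  let e := H.isoIsPushout _ _ H'
  have he1 : β ≫ e.hom = CommRingCat.ofHom (S := B' ⊗[B] A)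
      Algebra.TensorProduct.includeLeftRingHom := IsPushout.inl_isoIsPushout_hom _ _ H H'
  have he2 : α ≫ e.hom = CommRingCat.ofHom (S := B' ⊗[B] A)
      Algebra.TensorProduct.includeRight.toRingHom := IsPushout.inr_isoIsPushout_hom _ _ H H'
  have he1' : ∀ b', e.hom.hom (β.hom b') = (Algebra.TensorProduct.includeLeft :
      B' →ₐ[B] B' ⊗[B] A) b' := fun b' => congrArg (fun f => f.hom b') he1
  obtain ⟨h1, h2⟩ := flat_invariants (B' := B') τa hinj hinv
  have hcomm : ∀ g, τ' g ≫ e.hom = e.hom ≫ CommRingCat.ofHom
      (Algebra.TensorProduct.map (AlgHom.id B B') (τa g)).toRingHom := by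
    intro g
    apply H.hom_ext
    · rw [← Category.assoc, hβ, ← Category.assoc, he1]
      ext b'
      show (Algebra.TensorProduct.includeLeft : B' →ₐ[B] B' ⊗[B] A) b' =
        Algebra.TensorProduct.map (AlgHom.id B B') (τa g)
          ((Algebra.TensorProduct.includeLeft : B' →ₐ[B] B' ⊗[B] A) b')
      simp
    · rw [← Category.assoc, hα, Category.assoc, he2, ← Category.assoc, he2]
      ext a
      show (Algebra.TensorProduct.includeRight : A →ₐ[B] B' ⊗[B] A) ((τ g).hom a) =
        Algebra.TensorProduct.map (AlgHom.id B B') (τa g)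
          ((Algebra.TensorProduct.includeRight : A →ₐ[B] B' ⊗[B] A) a)
      simp
      rfl
  have hebij : Function.Bijective e.hom.hom := ConcreteCategory.bijective_of_isIso e.hom
  constructor
  · intro x y hxy
    apply h1
    rw [← he1', ← he1', hxy]
  · intro t ht
    have h3 : ∀ g, Algebra.TensorProduct.map (AlgHom.id B B') (τa g) (e.hom.hom t) =
        e.hom.hom t := by
      intro g
      have := congrArg (fun f => f.hom t) (hcomm g)
      simp only [CommRingCat.hom_comp, RingHom.coe_comp, Function.comp_apply] at this
      rw [ht g] at this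
      exact this.symm
    obtain ⟨b', hb'⟩ := h2 _ h3
    refine ⟨b', hebij.1 ?_⟩
    rw [he1', hb']

end Pushout

end Groth.Agent.Lib.T2H7.QuotFlatA
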