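import Mathlib
import Groth.Agent.Lib.T2H7QuotLocA
import Groth.Agent.Lib.T2H7QuotFlatA

/-!
# T2H7: quotients by finite groups commute with flat base change (helper7)
-/

set_option autoImplicit false
set_option linter.style.haveILetI false
set_option linter.unusedSectionVars false
set_option linter.unusedVariables false
universe u

open CategoryTheory CategoryTheory.Limits AlgebraicGeometry

namespace Groth.Agent.Lib.T2H7.QuotFlatB

open Groth.Agent.Lib.Helper20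

variable {X Y X' Y' : Scheme.{u}} {G : Type u} [Group G] [Finite G]

/-- **Flat base change of a quotient.** -/
theorem isQuot_of_flat_isPullback (ρ : G →* Aut X) (p : X ⟶ Y) (hp : SGA1.IsQuot ρ p)
    (qY : Y' ⟶ Y) [Flat qY] (pX : X' ⟶ X) (p' : X' ⟶ Y') (hX : IsPullback pX p' p qY)
    (ρ' : G →* Aut X') (hρ₁ : ∀ g : G, (ρ' g).hom ≫ pX = pX ≫ (ρ g).hom)
    (hρ₂ : ∀ g : G, (ρ' g).hom ≫ p' = p') : SGA1.IsQuot ρ' p' := by
  have haff : IsAffineHom p := hp.affine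
  have haff' : IsAffineHom p' := MorphismProperty.of_isPullback hX hp.affine
  let J := {j : Y.Opens × Y'.Opens // IsAffineOpen j.1 ∧ IsAffineOpen j.2 ∧ j.2 ≤ qY ⁻¹ᵁ j.1}
  have hT : ∀ j : J, IsAffineOpen (p' ⁻¹ᵁ j.1.2) := fun j => j.2.2.1.preimage p'
  have hinvT : ∀ (j : J) (g : G), p' ⁻¹ᵁ j.1.2 ≤ (ρ' g).hom ⁻¹ᵁ (p' ⁻¹ᵁ j.1.2) :=
    fun j g => SGA1.preimage_le_of_inv ρ' p' hρ₂ g j.1.2
  have hinvV : ∀ (j : J) (g : G), p ⁻¹ᵁ j.1.1 ≤ (ρ g).hom ⁻¹ᵁ (p ⁻¹ᵁ j.1.1) :=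
    fun j g => SGA1.preimage_le_of_inv ρ p hp.inv g j.1.1
  have hTX : ∀ j : J, p' ⁻¹ᵁ j.1.2 ≤ pX ⁻¹ᵁ (p ⁻¹ᵁ j.1.1) := by
    intro j x hx
    show p.base (pX.base x) ∈ j.1.1
    have h1 : p.base (pX.base x) = qY.base (p'.base x) := by
      have := congrArg (fun f : X' ⟶ Y => f.base x) hX.w
      exact this
    rw [h1]
    exact j.2.2.2 hx
  refine Groth.Agent.Lib.T2H7.QuotLocA.isQuot_of_charts ρ' p' haff' hρ₂ (J := J)
    (fun j => Γ(Y', j.1.2)) (fun j => Γ(X', p' ⁻¹ᵁ j.1.2)) (fun j => p'.app j.1.2)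
    (fun j g => (ρ' g).hom.appLE _ _ (hinvT j g))
    (fun j => (hT j).fromSpec) (fun j => j.2.2.1.fromSpec) ?_ ?_ ?_ ?_ ?_ ?_ ?_
  · intro j
    have := IsAffineOpen.SpecMap_appLE_fromSpec p' j.2.2.1 (hT j) le_rfl
    rw [Scheme.Hom.appLE_eq_app] at this
    exact this.symm
  · intro j g
    exact (IsAffineOpen.SpecMap_appLE_fromSpec (ρ' g).hom (hT j) (hT j) (hinvT j g)).symm
  · intro j
    rw [IsAffineOpen.opensRange_fromSpec, IsAffineOpen.opensRange_fromSpec]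
  · intro y'
    obtain ⟨_, ⟨V, hV, rfl⟩, hyV, -⟩ := (Y.isBasis_affineOpens).exists_subset_of_mem_open
      (Set.mem_univ (qY.base y')) isOpen_univ
    obtain ⟨_, ⟨V', hV', rfl⟩, hyV', hV'V⟩ := (Y'.isBasis_affineOpens).exists_subset_of_mem_open
      (show y' ∈ ((qY ⁻¹ᵁ V : Y'.Opens) : Set Y') from hyV) (qY ⁻¹ᵁ V).isOpen
    refine ⟨⟨(V, V'), hV, hV', hV'V⟩, ?_⟩
    rw [IsAffineOpen.opensRange_fromSpec]
    exact hyV'
  all_goals
    have key : ∀ j : J, Function.Injective (p'.app j.1.2).hom ∧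
        ∀ t, (∀ g : G, ((ρ' g).hom.appLE _ _ (hinvT j g)).hom t = t) →
          t ∈ Set.range (p'.app j.1.2).hom := by
      intro j
      have hUY : p' ⁻¹ᵁ j.1.2 = pX ⁻¹ᵁ (p ⁻¹ᵁ j.1.1) ⊓ p' ⁻¹ᵁ j.1.2 :=
        (inf_eq_right.mpr (hTX j)).symm
      have hiso := isIso_pushoutSection_of_isAffineOpen hX j.2.2.2 (le_refl (p ⁻¹ᵁ j.1.1)) hUY
        j.2.1 j.2.2.1 (j.2.1.preimage p)
      have hpo := ((isIso_pushoutSection_iff hX j.2.2.2 (le_refl (p ⁻¹ᵁ j.1.1)) hUY).1 hiso).flip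
      have hpo' : IsPushout (qY.appLE j.1.1 j.1.2 j.2.2.2) (p.app j.1.1) (p'.app j.1.2)
          (pX.appLE (p ⁻¹ᵁ j.1.1) (p' ⁻¹ᵁ j.1.2) (hTX j)) := by
        have e1 : p.appLE j.1.1 (p ⁻¹ᵁ j.1.1) le_rfl = p.app j.1.1 := Scheme.Hom.appLE_eq_app _
        have e2 : p'.appLE j.1.2 (p' ⁻¹ᵁ j.1.2) le_rfl = p'.app j.1.2 := Scheme.Hom.appLE_eq_app _
        rw [← e1, ← e2]
        exact hpo
      refine Groth.Agent.Lib.T2H7.QuotFlatA.flat_invariants_pushout hpo'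
        (Scheme.Hom.flat_appLE qY j.2.1 j.2.2.1 j.2.2.2)
        (fun g => (ρ g).hom.appLE _ _ (hinvV j g)) (fun g => (ρ' g).hom.appLE _ _ (hinvT j g))
        ?_ ?_ ?_ (hp.injective j.1.1) (fun a ha => (hp.range_iff j.1.1 a).2 ha)
      · intro g
        rw [Scheme.Hom.app_eq_appLE, Scheme.Hom.appLE_comp_appLE]
        exact appLE_congr_hom (hp.inv g) _ _ _
      · intro g
        rw [Scheme.Hom.appLE_comp_appLE, Scheme.Hom.appLE_comp_appLE]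
        exact appLE_congr_hom (hρ₁ g) _ _ _
      · intro g
        rw [Scheme.Hom.app_eq_appLE, Scheme.Hom.appLE_comp_appLE]
        exact appLE_congr_hom (hρ₂ g) _ _ _
  · exact fun j => (key j).1
  · intro j g
    rw [Scheme.Hom.app_eq_appLE, Scheme.Hom.appLE_comp_appLE]
    exact appLE_congr_hom (hρ₂ g) _ _ _
  · exact fun j t ht => (key j).2 t ht

end Groth.Agent.Lib.T2H7.QuotFlatB
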