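import Mathlib
import Groth.Prelude
import Groth.Agent.Lib.T2H7PBasis
import Groth.Agent.Lib.T2H7RootTowerBC
import Groth.Agent.Lib.T2H7PthRootSm

/-!
# Frobenius on quotients by regular sequences (helper7)

* `isPushout_quotMap`, `faithfullyFlat_quotMap`: the map `R ⧸ I → S ⧸ I S` is a pushout of `R → S`.
* `isRegular_map_of_faithfullyFlat`, `isRegular_append_of_quotient`: regular sequence bookkeeping.
* `main`: the three assertions on `A[Y]/(t^p, v) → A[Y]/(t^{p²}, v^p)` for a smooth algebra over a
  perfect field.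
-/

set_option autoImplicit false
set_option linter.style.haveILetI false
universe u v w
open TensorProduct CategoryTheory AlgebraicGeometry CategoryTheory.Limits RingTheory.Sequence
  MvPolynomial

namespace Groth.Agent.Lib.T2H7.QuotFrob

section Quot

variable {R S : Type u} [CommRing R] [CommRing S] (φ : R →+* S) (I : Ideal R)

/-- the map induced on quotients by an ideal and its extension -/
noncomputable abbrev quotMap : R ⧸ I →+* S ⧸ I.map φ :=
  Ideal.quotientMap (I.map φ) φ Ideal.le_comap_map

/-- quotients by an extended ideal are pushouts (category form) -/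
theorem isPushout_quotMap :
    IsPushout (CommRingCat.ofHom φ) (CommRingCat.ofHom (Ideal.Quotient.mk I))
      (CommRingCat.ofHom (Ideal.Quotient.mk (I.map φ))) (CommRingCat.ofHom (quotMap φ I)) := by
  letI algRS : Algebra R S := φ.toAlgebra
  letI algQ : Algebra (R ⧸ I) (S ⧸ I.map φ) := (quotMap φ I).toAlgebra
  have tw2 : IsScalarTower R (R ⧸ I) (S ⧸ I.map φ) := IsScalarTower.of_algebraMap_eq (fun x => by
    change Ideal.Quotient.mk (I.map φ) (φ x) = quotMap φ I (Ideal.Quotient.mk I x)
    rw [Ideal.quotientMap_mk])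
  have hpo : Algebra.IsPushout R S (R ⧸ I) (S ⧸ I.map φ) := by
    constructor
    refine IsBaseChange.of_equiv
      (Algebra.TensorProduct.quotIdealMapEquivTensorQuot S I).symm.toLinearEquiv (fun x => ?_)
    obtain ⟨a, rfl⟩ := Ideal.Quotient.mk_surjective x
    change (Algebra.TensorProduct.quotIdealMapEquivTensorQuot S I).symm
      ((1 : S) ⊗ₜ[R] (Ideal.Quotient.mk I a)) = quotMap φ I (Ideal.Quotient.mk I a)
    rw [Ideal.quotientMap_mk]
    have : (1 : S) ⊗ₜ[R] (Ideal.Quotient.mk I a) = (algebraMap R S a) ⊗ₜ[R] (1 : R ⧸ I) := by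
      rw [Algebra.algebraMap_eq_smul_one, TensorProduct.smul_tmul]
      congr 1
      rw [Algebra.smul_def, mul_one]
      rfl
    rw [this, AlgEquiv.symm_apply_eq]
    exact (Algebra.TensorProduct.quotIdealMapEquivTensorQuot_mk S I (φ a)).symm
  exact CommRingCat.isPushout_iff_isPushout.mpr hpo

/-- base change of faithful flatness to quotients -/
theorem faithfullyFlat_quotMap (h : φ.FaithfullyFlat) : (quotMap φ I).FaithfullyFlat := by
  letI algRS : Algebra R S := φ.toAlgebra
  letI algQ : Algebra (R ⧸ I) (S ⧸ I.map φ) := (quotMap φ I).toAlgebra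
  have tw2 : IsScalarTower R (R ⧸ I) (S ⧸ I.map φ) := IsScalarTower.of_algebraMap_eq (fun x => by
    change Ideal.Quotient.mk (I.map φ) (φ x) = quotMap φ I (Ideal.Quotient.mk I x)
    rw [Ideal.quotientMap_mk])
  have hpo : Algebra.IsPushout R S (R ⧸ I) (S ⧸ I.map φ) :=
    CommRingCat.isPushout_iff_isPushout.mp (isPushout_quotMap φ I)
  exact RingHom.FaithfullyFlat.isStableUnderBaseChange R S (R ⧸ I) (S ⧸ I.map φ) h

end Quot

section Reg

/-- faithfully flat ring maps preserve regular sequences -/
theorem isRegular_map_of_faithfullyFlat {R S : Type*} [CommRing R] [CommRing S] (φ : R →+* S)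
    (h : φ.FaithfullyFlat) {rs : List R} (reg : IsRegular R rs) : IsRegular S (rs.map φ) := by
  letI alg : Algebra R S := φ.toAlgebra
  have hff : Module.FaithfullyFlat R S := h
  exact reg.of_faithfullyFlat

/-- gluing a regular sequence with a regular sequence of the quotient -/
theorem isRegular_append_of_quotient {R : Type*} [CommRing R] (rs₁ rs₂ : List R) (J : Ideal R)
    (hJ : J = Ideal.ofList rs₁) (h1 : IsWeaklyRegular R rs₁)
    (h2 : IsRegular (R ⧸ J) (rs₂.map (Ideal.Quotient.mk J))) :
    IsRegular R (rs₁ ++ rs₂) := by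
  subst hJ
  refine ⟨(isWeaklyRegular_append_iff R rs₁ rs₂).mpr ⟨h1, ?_⟩, ?_⟩
  · have h3 : IsWeaklyRegular (R ⧸ Ideal.ofList rs₁) rs₂ :=
      (isWeaklyRegular_map_algebraMap_iff (R ⧸ Ideal.ofList rs₁) (R ⧸ Ideal.ofList rs₁) rs₂).mp
        h2.1
    have e : (R ⧸ Ideal.ofList rs₁) ≃ₗ[R] (R ⧸ (Ideal.ofList rs₁ • ⊤ : Submodule R R)) :=
      Submodule.quotEquivOfEq _ _ (by simp)
    exact (e.isWeaklyRegular_congr rs₂).mp h3
  · intro htop
    apply h2.2
    have h4 : Ideal.ofList (rs₁ ++ rs₂) = ⊤ := by
      have := htop.symm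
      simpa using this
    rw [Ideal.ofList_append] at h4
    have h5 := congrArg (Ideal.map (Ideal.Quotient.mk (Ideal.ofList rs₁))) h4
    rw [Ideal.map_sup, Ideal.map_quotient_self, bot_sup_eq, Ideal.map_top, Ideal.map_ofList] at h5
    rw [h5]
    simp

end Reg

section Main

theorem smooth_mvPolynomial (k : Type u) [Field k] (A : Type u) [CommRing A] [Algebra k A]
    [Algebra.Smooth k A] (r : ℕ) : Algebra.Smooth k (MvPolynomial (Fin r) A) := by
  have h : Algebra.Smooth A (MvPolynomial (Fin r) A) := {}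
  exact Algebra.Smooth.comp k A (MvPolynomial (Fin r) A)

theorem faithfullyFlat_frobenius_mvPolynomial (p : ℕ) [Fact p.Prime]
    (k : Type u) [Field k] [CharP k p] [PerfectRing k p] (A : Type u) [CommRing A] [Algebra k A]
    [CharP A p] [Algebra.Smooth k A] (r : ℕ) :
    (frobenius (MvPolynomial (Fin r) A) p).FaithfullyFlat := by
  have h := smooth_mvPolynomial k A r
  exact Groth.Agent.Lib.T2H7.PBasis.faithfullyFlat_frobenius_of_smooth p k (MvPolynomial (Fin r) A)

theorem isRegular_frob_seq (p : ℕ) [Fact p.Prime]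
    (k : Type u) [Field k] [CharP k p] [PerfectRing k p] (A : Type u) [CommRing A] [Algebra k A]
    [CharP A p] [Algebra.Smooth k A] (n : ℕ) (t : Fin n → A)
    (ht : RingTheory.Sequence.IsRegular A (List.ofFn t))
    (r m : ℕ) (v : Fin m → MvPolynomial (Fin r) A)
    (hv : RingTheory.Sequence.IsRegular
      (MvPolynomial (Fin r) A ⧸ Ideal.span (Set.range fun i => C (t i) ^ p))
      (List.ofFn fun j => Ideal.Quotient.mk (Ideal.span (Set.range fun i => C (t i) ^ p)) (v j))) :
    RingTheory.Sequence.IsRegular (MvPolynomial (Fin r) A)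
        (List.ofFn (fun i => C (t i) ^ (p ^ 2)) ++ List.ofFn (fun j => v j ^ p)) := by
  have hF := faithfullyFlat_frobenius_mvPolynomial p k A r
  have hnt : Nontrivial A := ht.nontrivial
  have h1 : IsRegular (MvPolynomial (Fin r) A) ((List.ofFn t).map (algebraMap A _)) :=
    ht.of_faithfullyFlat
  have h2 := isRegular_map_of_faithfullyFlat _ hF h1
  have e2 : ((List.ofFn t).map (algebraMap A (MvPolynomial (Fin r) A))).map
      (frobenius (MvPolynomial (Fin r) A) p) = List.ofFn (fun i => C (t i) ^ p) := by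
    rw [List.map_map, List.map_ofFn]
    rfl
  rw [e2] at h2
  have h3 : IsRegular (MvPolynomial (Fin r) A)
      (List.ofFn (fun i => C (t i) ^ p) ++ List.ofFn v) := by
    refine isRegular_append_of_quotient _ _ (Ideal.span (Set.range fun i => C (t i) ^ p)) ?_
      h2.1 ?_
    · congr 1
      ext x
      simp [List.mem_ofFn]
    · rw [List.map_ofFn]
      exact hv
  have h4 := isRegular_map_of_faithfullyFlat _ hF h3
  have e4 : (List.ofFn (fun i => C (t i) ^ p) ++ List.ofFn v).map
      (frobenius (MvPolynomial (Fin r) A) p) =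
      List.ofFn (fun i => C (t i) ^ (p ^ 2)) ++ List.ofFn (fun j => v j ^ p) := by
    rw [List.map_append, List.map_ofFn, List.map_ofFn]
    congr 2
    funext i
    change (C (t i) ^ p) ^ p = _
    rw [← pow_mul, sq]
  rw [e4] at h4
  exact h4

theorem main (p : ℕ) [Fact p.Prime]
    (k : Type u) [Field k] [CharP k p] [PerfectRing k p] (A : Type u) [CommRing A] [Algebra k A]
    [CharP A p] [Algebra.Smooth k A] (n : ℕ) (t : Fin n → A)
    (ht : RingTheory.Sequence.IsRegular A (List.ofFn t))
    (r m : ℕ) (v : Fin m → MvPolynomial (Fin r) A)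
    (hv : RingTheory.Sequence.IsRegular
      (MvPolynomial (Fin r) A ⧸ Ideal.span (Set.range fun i => C (t i) ^ p))
      (List.ofFn fun j => Ideal.Quotient.mk (Ideal.span (Set.range fun i => C (t i) ^ p)) (v j))) :
    RingTheory.Sequence.IsRegular (MvPolynomial (Fin r) A)
        (List.ofFn (fun i => C (t i) ^ (p ^ 2)) ++ List.ofFn (fun j => v j ^ p)) ∧
      (Ideal.quotientMap ((Ideal.span (Set.range (fun i => C (t i) ^ p) ∪ Set.range v)).map (frobenius (MvPolynomial (Fin r) A) p)) (frobenius (MvPolynomial (Fin r) A) p) Ideal.le_comap_map).FaithfullyFlat ∧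
      Quiet.IsPthRoot p (Spec.map (CommRingCat.ofHom (Ideal.quotientMap ((Ideal.span (Set.range (fun i => C (t i) ^ p) ∪ Set.range v)).map (frobenius (MvPolynomial (Fin r) A) p)) (frobenius (MvPolynomial (Fin r) A) p) Ideal.le_comap_map))) := by
  have hF := faithfullyFlat_frobenius_mvPolynomial p k A r
  have hsm := smooth_mvPolynomial k A r
  refine ⟨isRegular_frob_seq p k A n t ht r m v hv, faithfullyFlat_quotMap _ _ hF, ?_⟩
  have hpb := isPullback_SpecMap_of_isPushout _ _ _ _
    (isPushout_quotMap (frobenius (MvPolynomial (Fin r) A) p)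
      (Ideal.span (Set.range (fun i => C (t i) ^ p) ∪ Set.range v)))
  exact Groth.Agent.Lib.T2H7.RootTowerBC.isPthRoot_of_isPullback p (Fact.out : p.Prime).ne_zero
    _ _ _ _ hpb (by
      rw [← Groth.Agent.Lib.T2H7.PthRootSm.frob_Spec_eq]
      exact Groth.Agent.Lib.T2H7.PthRootSm.isPthRoot_frob_Spec p k (MvPolynomial (Fin r) A))

end Main

end Groth.Agent.Lib.T2H7.QuotFrob
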