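import Mathlib

/-!
# T2H7: a finite group acts transitively on the field-valued points of the fibres of `Spec A → Spec A^G`

Ring level: if `α₁ α₂ : A → K` (a field) agree on the invariants `B = A^G`, then `α₂ = α₁ ∘ g`
for some `g ∈ G`.  Also: ring maps to an algebraically closed field lift along integral
injective ring maps.
-/

set_option autoImplicit false
set_option linter.unusedSectionVars false
set_option linter.unusedVariables false
set_option linter.style.haveILetI false

namespace Groth.Agent.Lib.T2H7.QuotGeomA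

open Polynomial

section RT

variable {G A B K : Type*} [Group G] [Fintype G] [CommRing A] [CommRing B] [Algebra B A]
  [MulSemiringAction G A] [Algebra.IsInvariant B A G] [Field K]
  (α₁ α₂ : A →+* K) (h : α₁.comp (algebraMap B A) = α₂.comp (algebraMap B A))

include h in
theorem map_eq_of_invariant (c : A[X]) (hc : ∀ g : G, g • c = c) :
    c.map α₁ = c.map α₂ := by
  ext n
  rw [coeff_map, coeff_map]
  have hinv : ∀ g : G, g • c.coeff n = c.coeff n := fun g => by rw [← coeff_smul, hc g]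
  obtain ⟨b, hb⟩ := Algebra.IsInvariant.isInvariant (A := B) (B := A) (G := G) (c.coeff n) hinv
  rw [← hb]
  exact RingHom.congr_fun h b

include h in
theorem exists_smul_poly (P : A[X]) : ∃ g : G, P.map α₂ = (g • P).map α₁ := by
  let Q : A[X][X] := MulSemiringAction.charpoly G P
  let β₁ : A[X] →+* K[X] := mapRingHom α₁
  let β₂ : A[X] →+* K[X] := mapRingHom α₂
  have hQ : Q.map β₁ = Q.map β₂ := by
    ext1 n
    rw [coeff_map, coeff_map]
    exact map_eq_of_invariant α₁ α₂ h (Q.coeff n)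
      (fun g => MulSemiringAction.smul_coeff_charpoly P n g)
  have h0 : (Q.map β₂).eval (β₂ P) = 0 := by
    rw [eval_map_apply, MulSemiringAction.eval_charpoly, map_zero]
  rw [← hQ] at h0
  have h1 : (Q.map β₁).eval (β₂ P) = ∏ g : G, (β₂ P - β₁ (g • P)) := by
    simp only [Q, MulSemiringAction.charpoly_eq, Polynomial.map_prod, Polynomial.map_sub,
      Polynomial.map_X, Polynomial.map_C, eval_prod, eval_sub, eval_X, eval_C]
  rw [h1, Finset.prod_eq_zero_iff] at h0
  obtain ⟨g, -, hg⟩ := h0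
  exact ⟨g, sub_eq_zero.mp hg⟩

include h in
/-- transitivity on field-valued points -/
theorem exists_smul_of_comp_eq : ∃ g : G, ∀ a : A, α₂ a = α₁ (g • a) := by
  classical
  by_contra hcon
  simp only [not_exists, not_forall] at hcon
  choose a ha using hcon
  let e : G ≃ Fin (Fintype.card G) := Fintype.equivFin G
  let P : A[X] := ∑ g : G, C (a g) * X ^ (e g : ℕ)
  have hcoeff : ∀ g : G, P.coeff (e g) = a g := by
    intro g
    simp only [P, finsetSum_coeff, coeff_C_mul_X_pow]
    rw [Finset.sum_eq_single g]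
    · simp
    · intro g' _ hg'
      rw [if_neg]
      intro heq
      exact hg' (e.injective (Fin.ext heq)).symm
    · intro hg; exact absurd (Finset.mem_univ g) hg
  obtain ⟨g, hg⟩ := exists_smul_poly (G := G) α₁ α₂ h P
  have h1 := congrArg (fun p => p.coeff (e g)) hg
  simp only [coeff_map, hcoeff, coeff_smul] at h1
  exact ha g h1

end RT

section Lift

variable {D E K : Type*} [CommRing D] [CommRing E] [Field K] [IsAlgClosed K]

/-- ring maps to an algebraically closed field lift along integral injective ring maps -/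
theorem exists_lift_of_isIntegral (φ : D →+* E) (hφ : φ.IsIntegral)
    (hinj : Function.Injective φ) (β : D →+* K) : ∃ γ : E →+* K, γ.comp φ = β := by
  algebraize [φ]
  haveI : Algebra.IsIntegral D E := ⟨hφ⟩
  let 𝔭 : Ideal D := RingHom.ker β
  haveI : 𝔭.IsPrime := RingHom.ker_isPrime β
  have hker : RingHom.ker (algebraMap D E) ≤ 𝔭 := by
    intro x hx
    have : x = 0 := hinj (by rw [map_zero]; exact hx)
    rw [this]; exact 𝔭.zero_mem
  obtain ⟨𝔮, -, h𝔮p, h𝔮⟩ := Ideal.exists_ideal_over_prime_of_isIntegral 𝔭 (⊥ : Ideal E)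
    (by rw [Ideal.comap_bot_of_injective (algebraMap D E) hinj]; exact bot_le)
  haveI := h𝔮p
  haveI : 𝔮.LiesOver 𝔭 := ⟨h𝔮.symm⟩
  -- `D ⧸ 𝔭 → K` injective
  let β' : D ⧸ 𝔭 →+* K := RingHom.kerLift β
  have hβ' : Function.Injective β' := RingHom.kerLift_injective β
  letI : Algebra (D ⧸ 𝔭) K := β'.toAlgebra
  haveI : Module.IsTorsionFree (D ⧸ 𝔭) K := by
    rw [Module.isTorsionFree_iff_algebraMap_injective]
    exact hβ'
  haveI : Algebra.IsIntegral (D ⧸ 𝔭) (E ⧸ 𝔮) := Ideal.Quotient.algebra_isIntegral_of_liesOver 𝔮 𝔭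
  haveI : Module.IsTorsionFree (D ⧸ 𝔭) (E ⧸ 𝔮) := by
    rw [Module.isTorsionFree_iff_algebraMap_injective]
    exact FaithfulSMul.algebraMap_injective (D ⧸ 𝔭) (E ⧸ 𝔮)
  haveI : Algebra.IsAlgebraic (D ⧸ 𝔭) (E ⧸ 𝔮) := Algebra.IsIntegral.isAlgebraic
  let γ' : E ⧸ 𝔮 →ₐ[D ⧸ 𝔭] K := IsAlgClosed.lift
  refine ⟨γ'.toRingHom.comp (Ideal.Quotient.mk 𝔮), ?_⟩
  ext d
  have h1 : γ' (algebraMap (D ⧸ 𝔭) (E ⧸ 𝔮) (Ideal.Quotient.mk 𝔭 d)) =
      algebraMap (D ⧸ 𝔭) K (Ideal.Quotient.mk 𝔭 d) := γ'.commutes _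
  have h2 : algebraMap (D ⧸ 𝔭) (E ⧸ 𝔮) (Ideal.Quotient.mk 𝔭 d) =
      Ideal.Quotient.mk 𝔮 (algebraMap D E d) := rfl
  rw [h2] at h1
  exact h1

end Lift

end Groth.Agent.Lib.T2H7.QuotGeomA
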