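import Groth.Agent.Lib.T2H7QuotEtA
import Groth.Agent.Lib.T2H7QuotGeomA

/-!
# T2H7: geometric points of a quotient by a finite group

For a quotient `p : X ⟶ Y` of `X` by a finite group `G`:
* `G` acts transitively on the field-valued points of a fibre of `p`;
* points with values in an algebraically closed field lift along `p`;
* a morphism `m : Y ⟶ W` is universally injective as soon as geometric points of `X` with the
  same image in `W` lie in one orbit.
-/

set_option autoImplicit false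
set_option linter.unusedSectionVars false
set_option linter.unusedVariables false
set_option linter.style.haveILetI false

universe u

open CategoryTheory AlgebraicGeometry

namespace Groth.Agent.Lib.T2H7.QuotGeomB

open SGA1 Groth.Agent.Lib.Helper20 Groth.Agent.Lib.T2H7.QuotEtA

variable {X Y : Scheme.{u}} {G : Type u} [Group G] [Finite G] {ρ : G →* Aut X} {p : X ⟶ Y}

/-- `G` acts transitively on the field-valued points of a fibre. -/
theorem exists_rho_of_comp_eq (hp : IsQuot ρ p) {K : Type u} [Field K]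
    (ξ₁ ξ₂ : Spec (CommRingCat.of K) ⟶ X) (h : ξ₁ ≫ p = ξ₂ ≫ p) :
    ∃ g : G, ξ₂ = ξ₁ ≫ (ρ g).hom := by
  classical
  let z₀ : Spec (CommRingCat.of K) := default
  obtain ⟨U, hU, hxU, -⟩ := TopologicalSpace.Opens.isBasis_iff_nbhd.mp Y.isBasis_affineOpens
    (TopologicalSpace.Opens.mem_top ((ξ₁ ≫ p) z₀))
  have hT := isAffineOpen_preimage hp hU
  have hz : ∀ z : Spec (CommRingCat.of K), z = z₀ := fun z => Subsingleton.elim _ _
  have h1 : ∀ z, ξ₁ z ∈ p ⁻¹ᵁ U := by
    intro z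
    rw [hz z]
    exact hxU
  have h2 : ∀ z, ξ₂ z ∈ p ⁻¹ᵁ U := by
    intro z
    rw [hz z]
    change (ξ₂ ≫ p) z₀ ∈ U
    rw [← h]
    exact hxU
  obtain ⟨α₁, rfl⟩ := exists_pt hT ξ₁ h1
  obtain ⟨α₂, rfl⟩ := exists_pt hT ξ₂ h2
  rw [pt_comp p hT hU le_rfl, pt_comp p hT hU le_rfl] at h
  have h3 := pt_injective hU h
  letI := (p.app U).hom.toAlgebra
  letI := sectionAction ρ p hp.inv U
  haveI := isInvariant hp U
  haveI : Fintype G := Fintype.ofFinite G
  have h4 : α₁.hom.comp (algebraMap Γ(Y, U) Γ(X, p ⁻¹ᵁ U)) =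
      α₂.hom.comp (algebraMap Γ(Y, U) Γ(X, p ⁻¹ᵁ U)) := by
    have := congrArg CommRingCat.Hom.hom h3
    rw [← Scheme.Hom.app_eq_appLE] at this
    exact this
  obtain ⟨g, hg⟩ := Groth.Agent.Lib.T2H7.QuotGeomA.exists_smul_of_comp_eq (G := G) α₁.hom α₂.hom h4
  refine ⟨g⁻¹, ?_⟩
  rw [pt_comp_rho ρ p hp.inv U hT g⁻¹]
  congr 1
  ext a
  rw [hg a]
  rfl

/-- Points with values in an algebraically closed field lift along a quotient. -/
theorem exists_lift_geomPt (hp : IsQuot ρ p) {K : Type u} [Field K] [IsAlgClosed K]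
    (η : Spec (CommRingCat.of K) ⟶ Y) : ∃ ξ : Spec (CommRingCat.of K) ⟶ X, ξ ≫ p = η := by
  let z₀ : Spec (CommRingCat.of K) := default
  obtain ⟨U, hU, hxU, -⟩ := TopologicalSpace.Opens.isBasis_iff_nbhd.mp Y.isBasis_affineOpens
    (TopologicalSpace.Opens.mem_top (η z₀))
  have hT := isAffineOpen_preimage hp hU
  have hz : ∀ z : Spec (CommRingCat.of K), z = z₀ := fun z => Subsingleton.elim _ _
  obtain ⟨β, rfl⟩ := exists_pt hU η (fun z => by rw [hz z]; exact hxU)
  obtain ⟨γ, hγ⟩ := Groth.Agent.Lib.T2H7.QuotGeomA.exists_lift_of_isIntegral (p.app U).hom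
    (isIntegral_app hp U) (hp.injective U) β.hom
  refine ⟨pt hT (CommRingCat.ofHom γ), ?_⟩
  rw [pt_comp p hT hU le_rfl]
  congr 1
  ext b
  rw [← Scheme.Hom.app_eq_appLE]
  exact RingHom.congr_fun hγ b

instance epi_specMap_algebraicClosure (K : Type u) [Field K] :
    Epi (Spec.map (CommRingCat.ofHom (algebraMap K (AlgebraicClosure K)))) := by
  have h : (CommRingCat.ofHom (algebraMap K (AlgebraicClosure K))).hom.FaithfullyFlat := by
    rw [CommRingCat.hom_ofHom, RingHom.faithfullyFlat_algebraMap_iff]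
    infer_instance
  obtain ⟨h1, h2⟩ := (flat_and_surjective_SpecMap_iff _).mpr h
  exact Flat.epi_of_flat_of_surjective _

/-- A morphism out of the quotient is universally injective if geometric points of `X` with the
same image lie in one orbit. -/
theorem universallyInjective_of_orbit (hp : IsQuot ρ p) {W : Scheme.{u}} (m : Y ⟶ W)
    (H : ∀ (K : Type u) [Field K] [IsAlgClosed K] (ξ₁ ξ₂ : Spec (CommRingCat.of K) ⟶ X),
      ξ₁ ≫ p ≫ m = ξ₂ ≫ p ≫ m → ∃ g : G, ξ₂ = ξ₁ ≫ (ρ g).hom) : UniversallyInjective m := by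
  refine ((tfae_universallyInjective m).out 0 1).mpr ?_
  intro K _ η₁ η₂ hη
  have hη' : η₁ ≫ m = η₂ ≫ m := hη
  let e := Spec.map (CommRingCat.ofHom (algebraMap K (AlgebraicClosure K)))
  obtain ⟨ξ₁, h1⟩ := exists_lift_geomPt hp (e ≫ η₁)
  obtain ⟨ξ₂, h2⟩ := exists_lift_geomPt hp (e ≫ η₂)
  have h3 : ξ₁ ≫ p ≫ m = ξ₂ ≫ p ≫ m := by
    rw [← Category.assoc, h1, ← Category.assoc ξ₂, h2, Category.assoc, Category.assoc, hη']
  obtain ⟨g, hg⟩ := H (AlgebraicClosure K) ξ₁ ξ₂ h3
  have h4 : e ≫ η₁ = e ≫ η₂ := by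
    rw [← h1, ← h2, hg, Category.assoc, hp.inv]
  exact (cancel_epi e).mp h4

end Groth.Agent.Lib.T2H7.QuotGeomB
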