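import Groth.Agent.Lib.T2H7QuotGeomB
import Groth.Agent.S2909
import Groth.Agent.S0415

/-!
# T2H7: comparison morphisms out of a finite group quotient are universal homeomorphisms

If `r : X ⟶ Y` is a quotient by `G`, `m : Y ⟶ W` any morphism with `r ≫ m` integral and
surjective, and geometric points of `X` with the same image in `W` lie in one orbit, then `m` is
a universal homeomorphism.
-/

set_option autoImplicit false
set_option linter.unusedSectionVars false
set_option linter.unusedVariables false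
set_option linter.style.haveILetI false

universe u

open CategoryTheory CategoryTheory.Limits AlgebraicGeometry

namespace Groth.Agent.Lib.T2H7.QuotGeomC

open SGA1 Groth.Agent.Lib.Helper20 Groth.Agent.Lib.T2H7.QuotGeomB

variable {X Y : Scheme.{u}} {G : Type u} [Group G] [Finite G] {ρ : G →* Aut X} {r : X ⟶ Y}

theorem isIntegralHom_of_isQuot (hr : IsQuot ρ r) : IsIntegralHom r := by
  haveI := hr.affine
  exact ⟨fun U _ => isIntegral_app hr U⟩

theorem surjective_of_isQuot' (hr : IsQuot ρ r) : Surjective r :=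
  ⟨surjective_of_isQuot hr⟩

/-- the comparison morphism is integral -/
theorem isIntegralHom_of_comp (hr : IsQuot ρ r) {W : Scheme.{u}} (m : Y ⟶ W)
    [IsIntegralHom (r ≫ m)] : IsIntegralHom m := by
  have hinv : ∀ g : G, (ρ g).hom ≫ (r ≫ m) = r ≫ m := fun g => by
    rw [← Category.assoc, hr.inv]
  obtain ⟨haff, -⟩ := Groth.Agent.S2909.result ρ r hr (r ≫ m) m rfl hinv
  haveI : IsAffineHom m := haff.mp inferInstance
  refine ⟨fun V hV => ?_⟩
  have h1 : ((r ≫ m).app V).hom.IsIntegral := IsIntegralHom.isIntegral_app (r ≫ m) V hV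
  have h2 : ((r.app (m ⁻¹ᵁ V)).hom.comp (m.app V).hom).IsIntegral := h1
  exact RingHom.IsIntegral.tower_bot _ _ (hr.injective (m ⁻¹ᵁ V)) h2

theorem isUnivHomeo_of_orbit (hr : IsQuot ρ r) {W : Scheme.{u}} (m : Y ⟶ W)
    [IsIntegralHom (r ≫ m)] [Surjective (r ≫ m)]
    (H : ∀ (K : Type u) [Field K] [IsAlgClosed K] (ξ₁ ξ₂ : Spec (CommRingCat.of K) ⟶ X),
      ξ₁ ≫ r ≫ m = ξ₂ ≫ r ≫ m → ∃ g : G, ξ₂ = ξ₁ ≫ (ρ g).hom) : FlatMor.IsUnivHomeo m := by
  rw [Groth.Agent.S0415.result]
  exact ⟨isIntegralHom_of_comp hr m, universallyInjective_of_orbit hr m H, Surjective.of_comp r m⟩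

end Groth.Agent.Lib.T2H7.QuotGeomC
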