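import Groth.Agent.Lib.T2H7QuotGeomC

/-!
# T2H7: scheme-theoretic image lemmas

* `ker_toImage_eq_bot`: the canonical map to the scheme-theoretic image of a quasi-compact
  morphism is scheme-theoretically dominant.
* `surjective_of_comp_imageι`: a factorisation of an integral morphism through its
  scheme-theoretic image is surjective.
-/

set_option autoImplicit false
set_option linter.unusedSectionVars false
set_option linter.unusedVariables false
set_option linter.style.haveILetI false

universe u

open CategoryTheory CategoryTheory.Limits AlgebraicGeometry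

namespace Groth.Agent.Lib.T2H7.QuotGeomD

variable {X Y : Scheme.{u}}

theorem toImage_app_injective (f : X ⟶ Y) [QuasiCompact f] (V : f.image.Opens) :
    Function.Injective (f.toImage.app V) := by
  have := TopCat.Presheaf.app_injective_of_stalkFunctor_map_injective
    (F := f.image.sheaf) (G := f.toImage.base _* X.presheaf) f.toImage.c V
    (fun x _ => f.stalkFunctor_toImage_injective x)
  exact this

theorem ker_toImage_eq_bot (f : X ⟶ Y) [QuasiCompact f] : f.toImage.ker = ⊥ := by
  apply Scheme.IdealSheafData.ext
  funext V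
  rw [Scheme.Hom.ker_apply, Scheme.IdealSheafData.ideal_bot, Pi.bot_apply,
    ← RingHom.injective_iff_ker_eq_bot]
  exact toImage_app_injective f V.1

instance (f : X ⟶ Y) [QuasiCompact f] : IsSchemeTheoreticallyDominant f.toImage :=
  ⟨ker_toImage_eq_bot f⟩

theorem eq_toImage (f : X ⟶ Y) (g : X ⟶ f.image) (hg : g ≫ f.imageι = f) :
    g = f.toImage := by
  rw [← cancel_mono f.imageι, hg, f.toImage_imageι]

/-- If `g ≫ m` is scheme-theoretically dominant, so is `m`. -/
theorem isSchemeTheoreticallyDominant_of_comp {Z W : Scheme.{u}} (g : X ⟶ Z) (m : Z ⟶ W)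
    [IsSchemeTheoreticallyDominant (g ≫ m)] : IsSchemeTheoreticallyDominant m := by
  refine ⟨le_antisymm ?_ bot_le⟩
  have := Scheme.Hom.le_ker_comp g m
  rwa [(g ≫ m).ker_eq_bot] at this

/-- A factorisation through the scheme-theoretic image of a closed quasi-compact morphism is
surjective. -/
theorem surjective_of_comp_imageι (f : X ⟶ Y) [QuasiCompact f] (hcl : IsClosedMap f)
    (g : X ⟶ f.image) (hg : g ≫ f.imageι = f) : Surjective g := by
  refine ⟨fun y => ?_⟩
  have h1 : f.imageι y ∈ (f.ker.support : Set Y) := by
    rw [← Scheme.IdealSheafData.range_subschemeι]; exact ⟨y, rfl⟩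
  rw [Scheme.Hom.support_ker, hcl.isClosed_range.closure_eq] at h1
  obtain ⟨x, hx⟩ := h1
  refine ⟨x, ?_⟩
  apply f.imageι.isEmbedding.injective
  rw [← hx]
  exact congrArg (fun φ : X ⟶ Y => φ x) hg

end Groth.Agent.Lib.T2H7.QuotGeomD
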