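import Mathlib.RingTheory.Invariant.Basic
import Mathlib.RingTheory.Adjoin.Tower
import Mathlib.RingTheory.Flat.Basic
import Mathlib.RingTheory.Finiteness.ModuleFinitePresentation
import Mathlib.RingTheory.FinitePresentation
import Mathlib.RingTheory.IntegralClosure.IsIntegralClosure.Basic

/-!
# T2H7: the Reynolds operator for a finite group of invertible order

`A → C → B` rings, a finite group `G` acting on `B` by `C`-algebra automorphisms with ring of
invariants `C` (and `C → B` injective), the order of `G` invertible in `C`.  Then `C` is a direct
summand of `B` as a `C`-module, so flatness over `A` descends from `B` to `C`, and so do finite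
type and finite presentation over `A`.
-/

set_option autoImplicit false
set_option linter.unusedSectionVars false
set_option linter.unusedVariables false
set_option linter.style.haveILetI false

universe u

namespace Groth.Agent.Lib.T2H7.QuotReynolds

variable {A C B : Type u} [CommRing A] [CommRing C] [CommRing B]
  [Algebra A C] [Algebra C B] [Algebra A B] [IsScalarTower A C B]
  {G : Type*} [Group G] [Finite G] [MulSemiringAction G B] [SMulCommClass G C B]
  [Algebra.IsInvariant C B G]

include G in
/-- The Reynolds operator: a `C`-linear retraction of `C → B`. -/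
theorem exists_reynolds (hinj : Function.Injective (algebraMap C B))
    (hn : IsUnit ((Nat.card G : ℕ) : C)) :
    ∃ e : B →ₗ[C] C, ∀ c : C, e (algebraMap C B c) = c := by
  classical
  haveI := Fintype.ofFinite G
  have hinvt : ∀ (b : B) (h : G), h • (∑ g : G, g • b) = ∑ g : G, g • b := by
    intro b h
    rw [Finset.smul_sum]
    simp only [smul_smul]
    exact Fintype.sum_equiv (Equiv.mulLeft h) _ _ (fun g => rfl)
  choose φ hφ using fun b : B =>
    Algebra.IsInvariant.isInvariant (A := C) (B := B) (G := G) (∑ g : G, g • b) (hinvt b)
  obtain ⟨u, hu⟩ := hn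
  let tr : B →ₗ[C] C :=
    { toFun := φ
      map_add' := fun x y => by
        apply hinj
        rw [map_add, hφ, hφ, hφ]
        simp only [smul_add, Finset.sum_add_distrib]
      map_smul' := fun c x => by
        apply hinj
        rw [RingHom.id_apply, smul_eq_mul, map_mul, hφ, hφ, Finset.mul_sum]
        refine Finset.sum_congr rfl fun g _ => ?_
        rw [smul_comm, Algebra.smul_def] }
  have htr : ∀ c : C, tr (algebraMap C B c) = (u : C) * c := by
    intro c
    apply hinj
    change algebraMap C B (φ (algebraMap C B c)) = _
    rw [hφ, map_mul, hu, map_natCast]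
    have h1 : ∀ g : G, g • algebraMap C B c = algebraMap C B c := by
      intro g
      rw [Algebra.algebraMap_eq_smul_one, smul_comm, smul_one]
    simp only [h1, Finset.sum_const, Finset.card_univ, nsmul_eq_mul]
    rw [Nat.card_eq_fintype_card]
  refine ⟨((↑u⁻¹ : C)) • tr, fun c => ?_⟩
  rw [LinearMap.smul_apply, htr, smul_eq_mul, ← mul_assoc, Units.inv_mul, one_mul]

include G in
theorem flat_of_invariant (hinj : Function.Injective (algebraMap C B))
    (hn : IsUnit ((Nat.card G : ℕ) : C)) [Module.Flat A B] : Module.Flat A C := by
  obtain ⟨e, he⟩ := exists_reynolds (G := G) hinj hn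
  refine Module.Flat.of_retract (M := B) ((Algebra.linearMap C B).restrictScalars A)
    (e.restrictScalars A) ?_
  ext c
  simp [he]

include G in
theorem finiteType_of_invariant (hinj : Function.Injective (algebraMap C B))
    (hn : IsUnit ((Nat.card G : ℕ) : C)) [Algebra.FiniteType A B] : Algebra.FiniteType A C := by
  obtain ⟨e, he⟩ := exists_reynolds (G := G) hinj hn
  haveI : Algebra.IsIntegral C B := Algebra.IsInvariant.isIntegral C B G
  haveI : Algebra.FiniteType C B := Algebra.FiniteType.of_restrictScalars_finiteType A C B
  haveI : Module.Finite C B := Algebra.IsIntegral.finite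
  obtain ⟨C₀, hC₀, hfin⟩ := exists_subalgebra_of_fg A C B
    (Algebra.FiniteType.out) (Module.Finite.fg_top)
  haveI : Algebra.FiniteType A C₀ := (Subalgebra.fg_iff_finiteType C₀).mp hC₀
  haveI : Module.Finite C₀ B := ⟨hfin⟩
  have hsurj : Function.Surjective (e.restrictScalars C₀) := fun c => ⟨algebraMap C B c, he c⟩
  haveI : Module.Finite C₀ C := Module.Finite.of_surjective (e.restrictScalars C₀) hsurj
  exact Algebra.FiniteType.trans (S := C₀) inferInstance inferInstance

include G in
theorem finitePresentation_of_invariant (hinj : Function.Injective (algebraMap C B))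
    (hn : IsUnit ((Nat.card G : ℕ) : C)) [Algebra.FinitePresentation A B] :
    Algebra.FinitePresentation A C := by
  obtain ⟨e, he⟩ := exists_reynolds (G := G) hinj hn
  haveI : Algebra.FiniteType A C := finiteType_of_invariant (G := G) hinj hn
  haveI : Algebra.IsIntegral C B := Algebra.IsInvariant.isIntegral C B G
  haveI : Algebra.FiniteType C B := Algebra.FiniteType.of_restrictScalars_finiteType A C B
  haveI : Module.Finite C B := Algebra.IsIntegral.finite
  obtain ⟨n, f, hf⟩ := Algebra.FiniteType.iff_quotient_mvPolynomial''.mp
    (inferInstance : Algebra.FiniteType A C)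
  letI : Algebra (MvPolynomial (Fin n) A) C := f.toRingHom.toAlgebra
  letI : Algebra (MvPolynomial (Fin n) A) B := ((algebraMap C B).comp f.toRingHom).toAlgebra
  haveI : IsScalarTower A (MvPolynomial (Fin n) A) C :=
    IsScalarTower.of_algebraMap_eq' f.comp_algebraMap.symm
  haveI : IsScalarTower (MvPolynomial (Fin n) A) C B := IsScalarTower.of_algebraMap_eq' rfl
  haveI : IsScalarTower A (MvPolynomial (Fin n) A) B := IsScalarTower.of_algebraMap_eq' (by
    ext a
    change algebraMap A B a = algebraMap C B (f (algebraMap A _ a))
    rw [f.commutes, ← IsScalarTower.algebraMap_apply])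
  haveI : Algebra.FinitePresentation (MvPolynomial (Fin n) A) B :=
    Algebra.FinitePresentation.of_restrict_scalars_finitePresentation A _ B
  haveI : Module.Finite (MvPolynomial (Fin n) A) C :=
    Module.Finite.of_surjective (Algebra.linearMap (MvPolynomial (Fin n) A) C) hf
  haveI : Module.Finite (MvPolynomial (Fin n) A) B := Module.Finite.trans C B
  haveI : Module.FinitePresentation (MvPolynomial (Fin n) A) B :=
    Module.FinitePresentation.of_finite_of_finitePresentation _ B
  let e' : B →ₗ[MvPolynomial (Fin n) A] C := e.restrictScalars _
  let i' : C →ₗ[MvPolynomial (Fin n) A] B := (Algebra.linearMap C B).restrictScalars _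
  have hei : ∀ c, e' (i' c) = c := he
  have hsurj : Function.Surjective e' := fun c => ⟨i' c, hei c⟩
  have hker : (LinearMap.ker e').FG := by
    have : LinearMap.ker e' = LinearMap.range (LinearMap.id - i' ∘ₗ e') := by
      ext b
      constructor
      · intro hb
        refine ⟨b, ?_⟩
        rw [LinearMap.sub_apply, LinearMap.id_apply, LinearMap.comp_apply,
          LinearMap.mem_ker.mp hb, map_zero, sub_zero]
      · rintro ⟨b', rfl⟩
        rw [LinearMap.mem_ker, LinearMap.sub_apply, LinearMap.id_apply, LinearMap.comp_apply,
          map_sub, hei, sub_self]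
    rw [this, LinearMap.range_eq_map]
    exact Submodule.FG.map _ Module.Finite.fg_top
  haveI : Module.FinitePresentation (MvPolynomial (Fin n) A) C :=
    Module.finitePresentation_of_surjective e' hsurj hker
  have hkerf : (LinearMap.ker (Algebra.linearMap (MvPolynomial (Fin n) A) C)).FG :=
    Module.FinitePresentation.fg_ker _ hf
  exact Algebra.FinitePresentation.of_surjective hf hkerf

include G in
theorem finitePresentation_top_of_invariant (hinj : Function.Injective (algebraMap C B))
    (hn : IsUnit ((Nat.card G : ℕ) : C)) [Algebra.FinitePresentation A B] :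
    Algebra.FinitePresentation C B := by
  haveI : Algebra.FiniteType A C := finiteType_of_invariant (G := G) hinj hn
  exact Algebra.FinitePresentation.of_restrict_scalars_finitePresentation A C B

end Groth.Agent.Lib.T2H7.QuotReynolds
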