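import Groth.Agent.Lib.T2H7QuotReynolds
import Groth.Agent.Lib.Helper20Quot
import Mathlib.AlgebraicGeometry.Morphisms.Flat
import Mathlib.AlgebraicGeometry.Morphisms.FinitePresentation

/-!
# T2H7: quotients by a finite group of invertible order: flatness and finite presentation descend

For a quotient `π : X ⟶ Y` by a finite group `G` and `q : Y ⟶ S` with the order of `G` invertible on
`S`: if `π ≫ q` is flat (locally of finite presentation) then so is `q`; in the second case `π` is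
locally of finite presentation too.
-/

set_option autoImplicit false
set_option linter.unusedSectionVars false
set_option linter.unusedVariables false
set_option linter.style.haveILetI false

universe u

open CategoryTheory CategoryTheory.Limits AlgebraicGeometry

namespace Groth.Agent.Lib.T2H7.QuotReynoldsSch

open SGA1 Groth.Agent.Lib.Helper20 Groth.Agent.Lib.T2H7.QuotReynolds

variable {X Y S : Scheme.{u}} {G : Type u} [Group G] [Finite G] {ρ : G →* Aut X} {π : X ⟶ Y}

theorem isUnit_card (q : Y ⟶ S) (hn : IsUnit ((Nat.card G : ℕ) : Γ(S, ⊤))) (V : Y.Opens) :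
    IsUnit ((Nat.card G : ℕ) : Γ(Y, V)) := by
  have := hn.map (q.appLE ⊤ V le_top).hom
  rwa [map_natCast] at this

theorem preimage_le (q : Y ⟶ S) {W : S.Opens} {V : Y.Opens} (e : V ≤ q ⁻¹ᵁ W) :
    π ⁻¹ᵁ V ≤ (π ≫ q) ⁻¹ᵁ W := by
  rw [Scheme.Hom.comp_preimage]
  exact π.preimage_mono e

theorem appLE_comp_eq (q : Y ⟶ S) {W : S.Opens} {V : Y.Opens} (e : V ≤ q ⁻¹ᵁ W) :
    ((π ≫ q).appLE W (π ⁻¹ᵁ V) (preimage_le q e)).hom =
      (π.app V).hom.comp (q.appLE W V e).hom := by
  rw [← CommRingCat.hom_comp, Scheme.Hom.app_eq_appLE, Scheme.Hom.appLE_comp_appLE]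

theorem flat_appLE_of_isQuot (hquot : IsQuot ρ π) (q : Y ⟶ S)
    (hn : IsUnit ((Nat.card G : ℕ) : Γ(S, ⊤))) {W : S.Opens} {V : Y.Opens} (e : V ≤ q ⁻¹ᵁ W)
    (h : ((π ≫ q).appLE W (π ⁻¹ᵁ V) (preimage_le q e)).hom.Flat) :
    (q.appLE W V e).hom.Flat := by
  letI : Algebra Γ(S, W) Γ(Y, V) := (q.appLE W V e).hom.toAlgebra
  letI : Algebra Γ(Y, V) Γ(X, π ⁻¹ᵁ V) := (π.app V).hom.toAlgebra
  letI : Algebra Γ(S, W) Γ(X, π ⁻¹ᵁ V) :=
    ((π ≫ q).appLE W (π ⁻¹ᵁ V) (preimage_le q e)).hom.toAlgebra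
  haveI : IsScalarTower Γ(S, W) Γ(Y, V) Γ(X, π ⁻¹ᵁ V) :=
    IsScalarTower.of_algebraMap_eq' (appLE_comp_eq q e)
  letI := sectionAction ρ π hquot.inv V
  haveI := isInvariant hquot V
  haveI := smulCommClass hquot V
  haveI : Module.Flat Γ(S, W) Γ(X, π ⁻¹ᵁ V) := h
  exact flat_of_invariant (A := Γ(S, W)) (C := Γ(Y, V)) (B := Γ(X, π ⁻¹ᵁ V)) (G := G)
    (hquot.injective V) (isUnit_card q hn V)

theorem finitePresentation_appLE_of_isQuot (hquot : IsQuot ρ π) (q : Y ⟶ S)
    (hn : IsUnit ((Nat.card G : ℕ) : Γ(S, ⊤))) {W : S.Opens} {V : Y.Opens} (e : V ≤ q ⁻¹ᵁ W)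
    (h : ((π ≫ q).appLE W (π ⁻¹ᵁ V) (preimage_le q e)).hom.FinitePresentation) :
    (q.appLE W V e).hom.FinitePresentation := by
  letI : Algebra Γ(S, W) Γ(Y, V) := (q.appLE W V e).hom.toAlgebra
  letI : Algebra Γ(Y, V) Γ(X, π ⁻¹ᵁ V) := (π.app V).hom.toAlgebra
  letI : Algebra Γ(S, W) Γ(X, π ⁻¹ᵁ V) :=
    ((π ≫ q).appLE W (π ⁻¹ᵁ V) (preimage_le q e)).hom.toAlgebra
  haveI : IsScalarTower Γ(S, W) Γ(Y, V) Γ(X, π ⁻¹ᵁ V) :=
    IsScalarTower.of_algebraMap_eq' (appLE_comp_eq q e)
  letI := sectionAction ρ π hquot.inv V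
  haveI := isInvariant hquot V
  haveI := smulCommClass hquot V
  haveI : Algebra.FinitePresentation Γ(S, W) Γ(X, π ⁻¹ᵁ V) := h
  exact finitePresentation_of_invariant (A := Γ(S, W)) (C := Γ(Y, V)) (B := Γ(X, π ⁻¹ᵁ V))
    (G := G) (hquot.injective V) (isUnit_card q hn V)

theorem flat_of_isQuot (hquot : IsQuot ρ π) (q : Y ⟶ S)
    (hn : IsUnit ((Nat.card G : ℕ) : Γ(S, ⊤))) [Flat (π ≫ q)] : Flat q := by
  haveI := hquot.affine
  exact ⟨fun {W} hW {V} hV e => flat_appLE_of_isQuot hquot q hn e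
    ((π ≫ q).flat_appLE hW (hV.preimage π) _)⟩

theorem locallyOfFinitePresentation_of_isQuot (hquot : IsQuot ρ π) (q : Y ⟶ S)
    (hn : IsUnit ((Nat.card G : ℕ) : Γ(S, ⊤))) [LocallyOfFinitePresentation (π ≫ q)] :
    LocallyOfFinitePresentation q := by
  haveI := hquot.affine
  exact ⟨fun {W} hW {V} hV e => finitePresentation_appLE_of_isQuot hquot q hn e
    ((π ≫ q).finitePresentation_appLE hW (hV.preimage π) _)⟩

/-- cancellation for locally finitely presented morphisms -/
theorem locallyOfFinitePresentation_of_comp {X Y Z : Scheme.{u}} {f : X ⟶ Y} {g : Y ⟶ Z}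
    (hg : LocallyOfFiniteType g) (h : LocallyOfFinitePresentation (f ≫ g)) :
    LocallyOfFinitePresentation f := by
  wlog hZ : IsAffine Z generalizing X Y Z
  · rw [IsZariskiLocalAtTarget.iff_of_iSup_eq_top (P := @LocallyOfFinitePresentation) _
      (g.iSup_preimage_eq_top (iSup_affineOpens_eq_top Z))]
    intro U
    have H := IsZariskiLocalAtTarget.restrict h U.1
    rw [morphismRestrict_comp] at H
    exact this (IsZariskiLocalAtTarget.restrict hg U.1) H inferInstance
  wlog hY : IsAffine Y generalizing X Y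
  · rw [IsZariskiLocalAtTarget.iff_of_iSup_eq_top (P := @LocallyOfFinitePresentation) _
      (iSup_affineOpens_eq_top Y)]
    intro U
    have H := HasRingHomProperty.comp_of_isOpenImmersion @LocallyOfFinitePresentation
      (f ⁻¹ᵁ U.1).ι (f ≫ g) h
    rw [← morphismRestrict_ι_assoc] at H
    exact this (HasRingHomProperty.comp_of_isOpenImmersion @LocallyOfFiniteType U.1.ι g hg)
      H inferInstance
  wlog hX : IsAffine X generalizing X
  · rw [IsZariskiLocalAtSource.iff_of_iSup_eq_top (P := @LocallyOfFinitePresentation) _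
      (iSup_affineOpens_eq_top X)]
    intro U
    have H := HasRingHomProperty.comp_of_isOpenImmersion @LocallyOfFinitePresentation
      U.1.ι (f ≫ g) h
    rw [← Category.assoc] at H
    exact this H inferInstance
  rw [HasRingHomProperty.iff_of_isAffine (P := @LocallyOfFinitePresentation)] at h ⊢
  rw [HasRingHomProperty.iff_of_isAffine (P := @LocallyOfFiniteType)] at hg
  rw [Scheme.Hom.comp_appTop, CommRingCat.hom_comp] at h
  exact RingHom.FinitePresentation.of_comp_finiteType _ h hg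

theorem locallyOfFinitePresentation_top_of_isQuot (hquot : IsQuot ρ π) (q : Y ⟶ S)
    (hn : IsUnit ((Nat.card G : ℕ) : Γ(S, ⊤))) [LocallyOfFinitePresentation (π ≫ q)] :
    LocallyOfFinitePresentation π := by
  haveI := locallyOfFinitePresentation_of_isQuot hquot q hn
  exact locallyOfFinitePresentation_of_comp (g := q) inferInstance inferInstance

end Groth.Agent.Lib.T2H7.QuotReynoldsSch
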