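import Mathlib
import Groth.Agent.Lib.T2H7QuotSecA
import Groth.Agent.Lib.T2H7SubRep
import Groth.Agent.Lib.Helper12Torsor

/-!
# Representability of an fpqc-local subfunctor of a scheme (helper7)

A subfunctor `G ⊆ h_B` which is fpqc-local and whose restrictions to the members `X i` of an fpqc
covering of `B` are representable by monomorphisms `E i ⟶ X i` whose descent datum is effective
is representable by a monomorphism `U ⟶ B`, with `U ×_B X i ≅ E i`.
-/

set_option autoImplicit false
set_option linter.unusedSectionVars false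
set_option linter.unusedVariables false
set_option linter.style.haveILetI false

universe u

open CategoryTheory CategoryTheory.Limits AlgebraicGeometry Opposite

namespace Groth.Agent.Lib.T2H7.QuotSecB

open Groth.Agent.Lib.T2H7.SubRep Groth.Agent.Lib.T2H7.QuotSecA Desc

variable {B : Scheme.{u}} {ι : Type u} {X : ι → Scheme.{u}} (f : ∀ i, X i ⟶ B)
  (E : ∀ i, Over (X i)) [hmono : ∀ i, Mono (E i).hom]
  (G : ∀ ⦃T : Scheme.{u}⦄, (T ⟶ B) → Prop)
  (hE : ∀ (i : ι) ⦃T : Scheme.{u}⦄ (c : T ⟶ X i), Nonempty (Lifts (E i) c) ↔ G (c ≫ f i))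

lemma di_mem (hf : Presieve.ofArrows X f ∈ Scheme.fpqcPrecoverage B) {T : Scheme.{u}}
    (c : T ⟶ B) :
    Presieve.ofArrows (fun i => (Pi f c i).left) (fun i => (di f c i).left) ∈
      Scheme.fpqcPrecoverage (Over.mk c).left :=
  Precoverage.mem_coverings_of_isPullback f hf c (fun i => pullback.fst c (f i))
    (fun i => pullback.snd c (f i)) (fun i => IsPullback.of_hasPullback c (f i))

include hE in
/-- **Representability of an fpqc-local subfunctor of `h_B`** which is representable by
monomorphisms with effective descent datum locally for an fpqc covering. -/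
theorem exists_rep_fpqc (hf : Presieve.ofArrows X f ∈ Scheme.fpqcPrecoverage B)
    (hpre : ∀ ⦃T T' : Scheme.{u}⦄ (d : T' ⟶ T) (c : T ⟶ B), G c → G (d ≫ c))
    (hloc : ∀ ⦃T : Scheme.{u}⦄ (c : T ⟶ B), (∀ i, G (pullback.fst c (f i) ≫ c)) → G c)
    (heff : (dd f E G hE).IsEffective) :
    ∃ U : Over B, Mono U.hom ∧
      (∀ ⦃T : Scheme.{u}⦄ (c : T ⟶ B), Nonempty (Lifts U c) ↔ G c) ∧
      (∀ i, ∃ a : pullback (f i) U.hom ⟶ (E i).left, IsIso a ∧
        a ≫ (E i).hom = pullback.fst (f i) U.hom) := by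
  obtain ⟨U, ⟨e⟩⟩ := heff
  refine ⟨U, ?_⟩
  obtain ⟨a, b, hab, hba, hw1, hw2⟩ : ∃ (a : ∀ i, pullback (f i) U.hom ⟶ (E i).left)
      (b : ∀ i, (E i).left ⟶ pullback (f i) U.hom), (∀ i, a i ≫ b i = 𝟙 _) ∧
      (∀ i, b i ≫ a i = 𝟙 _) ∧
      (∀ i, a i ≫ (E i).hom = pullback.fst (f i) U.hom) ∧
      (∀ i, b i ≫ pullback.fst (f i) U.hom = (E i).hom) := by
    refine ⟨fun i => (e.hom.hom i).left, fun i => (e.inv.hom i).left, fun i => ?_, fun i => ?_,
      fun i => Over.w (e.hom.hom i), fun i => Over.w (e.inv.hom i)⟩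
    · have h1 : (e.hom ≫ e.inv).hom i = (𝟙 ((toDDFam f).obj U) : _ ⟶ _).hom i := by
        rw [e.hom_inv_id]
      rw [SchDDFam.comp_hom, SchDDFam.id_hom] at h1
      exact congrArg (fun m => m.left) h1
    · have h1 : (e.inv ≫ e.hom).hom i = (𝟙 (dd f E G hE) : _ ⟶ _).hom i := by
        rw [e.inv_hom_id]
      rw [SchDDFam.comp_hom, SchDDFam.id_hom] at h1
      exact congrArg (fun m => m.left) h1
  -- lifts to `E i` and to `U`
  have star : ∀ (i : ι) ⦃T : Scheme.{u}⦄ (c : T ⟶ X i),
      Nonempty (Lifts (E i) c) ↔ Nonempty (Lifts U (c ≫ f i)) := by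
    intro i T c
    constructor
    · rintro ⟨v⟩
      refine ⟨⟨v.1 ≫ b i ≫ pullback.snd (f i) U.hom, ?_⟩⟩
      rw [Category.assoc, Category.assoc, ← pullback.condition, ← Category.assoc (b i),
        hw2, ← Category.assoc, v.2]
    · rintro ⟨u⟩
      refine ⟨⟨pullback.lift c u.1 u.2.symm ≫ a i, ?_⟩⟩
      rw [Category.assoc, hw1, pullback.lift_fst]
  -- lifts to `U` are unique
  have hsub : ∀ ⦃T : Scheme.{u}⦄ (c : T ⟶ B) (v w : Lifts U c), v = w := by
    intro T c v w
    have key : ∀ i, pullback.fst c (f i) ≫ v.1 = pullback.fst c (f i) ≫ w.1 := by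
      intro i
      have hv : (pullback.fst c (f i) ≫ v.1) ≫ U.hom = pullback.snd c (f i) ≫ f i := by
        rw [Category.assoc, v.2, pullback.condition]
      have hw : (pullback.fst c (f i) ≫ w.1) ≫ U.hom = pullback.snd c (f i) ≫ f i := by
        rw [Category.assoc, w.2, pullback.condition]
      let av : Lifts (E i) (pullback.snd c (f i)) :=
        ⟨pullback.lift (pullback.snd c (f i)) (pullback.fst c (f i) ≫ v.1) hv.symm ≫
          a i, by rw [Category.assoc, hw1, pullback.lift_fst]⟩
      let aw : Lifts (E i) (pullback.snd c (f i)) :=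
        ⟨pullback.lift (pullback.snd c (f i)) (pullback.fst c (f i) ≫ w.1) hw.symm ≫
          a i, by rw [Category.assoc, hw1, pullback.lift_fst]⟩
      have h1 : av.1 = aw.1 := congrArg Subtype.val (Subsingleton.elim av aw)
      have h2 : pullback.lift (pullback.snd c (f i)) (pullback.fst c (f i) ≫ v.1) hv.symm =
          pullback.lift (pullback.snd c (f i)) (pullback.fst c (f i) ≫ w.1) hw.symm := by
        have h3 := congrArg (fun m => m ≫ b i) h1
        simpa [av, aw, hab] using h3
      have h4 := congrArg (fun m => m ≫ pullback.snd (f i) U.hom) h2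
      rw [pullback.lift_snd, pullback.lift_snd] at h4
      exact h4
    have h5 : (Over.homMk v.1 v.2 : Over.mk c ⟶ U) = Over.homMk w.1 w.2 := by
      refine over_hom_ext Scheme.fpqcPrecoverage U (Over.mk c) (Pi f c) (di f c)
        (di_mem f hf c) _ _ (fun i => ?_)
      apply Over.OverMorphism.ext
      exact key i
    apply Subtype.ext
    exact congrArg (fun m => m.left) h5
  refine ⟨⟨fun g1 g2 h => ?_⟩, ?_, fun i => ⟨a i, ⟨b i, hab i, hba i⟩, hw1 i⟩⟩
  · exact congrArg Subtype.val (hsub (g1 ≫ U.hom) ⟨g1, rfl⟩ ⟨g2, h.symm⟩)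
  intro T c
  constructor
  · rintro ⟨v⟩
    apply hloc
    intro i
    rw [pullback.condition]
    refine (hE i _).1 ((star i _).2 ⟨⟨pullback.fst c (f i) ≫ v.1, ?_⟩⟩)
    rw [Category.assoc, v.2, pullback.condition]
  · intro hG
    have h1 : ∀ i, Nonempty (Lifts U (pullback.fst c (f i) ≫ c)) := by
      intro i
      have h2 : G (pullback.snd c (f i) ≫ f i) := by
        rw [← pullback.condition]
        exact hpre _ _ hG
      have h3 := (star i _).1 ((hE i _).2 h2)
      rw [← pullback.condition] at h3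
      exact h3
    have u : ∀ i, Lifts U (pullback.fst c (f i) ≫ c) := fun i => Classical.choice (h1 i)
    obtain ⟨t, -, -⟩ := over_glue Scheme.fpqcPrecoverage U (Over.mk c) (Pi f c) (di f c)
      (di_mem f hf c) (fun i => Over.homMk (u i).1 (u i).2) (by
        intro i j Z gi gj hg
        apply Over.OverMorphism.ext
        have h4 := hsub Z.hom ⟨(gi ≫ (Over.homMk (u i).1 (u i).2 : Pi f c i ⟶ U)).left, Over.w _⟩
          ⟨(gj ≫ (Over.homMk (u j).1 (u j).2 : Pi f c j ⟶ U)).left, Over.w _⟩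
        exact congrArg Subtype.val h4)
    exact ⟨⟨t.left, Over.w t⟩⟩

end Groth.Agent.Lib.T2H7.QuotSecB
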