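import Mathlib
import Groth.Agent.Lib.T2H7QuotSecA
import Groth.Agent.Lib.T2H7QuotSecB
import Groth.Agent.Lib.Helper9ShfGrp
import Groth.Agent.Lib.Helper12Descent

/-!
# Sections of the fpqc quotient sheaf `U/R` as stable subschemes of `U ×_S T` (helper7)
-/

set_option autoImplicit false
set_option linter.unusedSectionVars false
set_option linter.unusedVariables false
set_option linter.style.haveILetI false

universe u

open CategoryTheory CategoryTheory.Limits AlgebraicGeometry Opposite MonoidalCategory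
  CartesianMonoidalCategory

namespace Groth.Agent.Lib.T2H7.QuotSecC

open Groth.Agent.Lib.T2H7.SubRep Groth.Agent.Lib.T2H7.QuotSecA Groth.Agent.Lib.T2H7.QuotSecB Desc
open Groth.Agent.Lib.Helper9

/-- the fpqc precoverage -/
abbrev Kq : Precoverage Scheme.{u} := Scheme.fpqcPrecoverage.{u}

section Rel

variable {S : Scheme.{u}} {R U : Over S} (s t : R ⟶ U) (T : Over S)
  (σ : QuotSh.rep Kq T ⟶ QuotSh.quot Kq s t)

/-- the point `w` of `U ×_S T` lies on the graph of the section `σ` of `U/R`. -/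
def Rel {W : Over S} (w : W ⟶ U ⊗ T) : Prop :=
  QuotSh.repMap Kq (w ≫ fst U T) ≫ QuotSh.quotπ Kq s t = QuotSh.repMap Kq (w ≫ snd U T) ≫ σ

variable {s t T σ}

lemma rel_comp {W W' : Over S} (d : W' ⟶ W) (w : W ⟶ U ⊗ T) (h : Rel s t T σ w) :
    Rel s t T σ (d ≫ w) := by
  unfold Rel at h ⊢
  rw [Category.assoc, Category.assoc, repMap_comp Kq d (w ≫ fst U T),
    repMap_comp Kq d (w ≫ snd U T), Category.assoc, Category.assoc, h]

lemma rel_of_left_eq {W W' : Over S} (w : W ⟶ U ⊗ T) (w' : W' ⟶ U ⊗ T) (φ : W.left ⟶ W'.left)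
    (h : φ ≫ w'.left = w.left) (hw' : Rel s t T σ w') : Rel s t T σ w := by
  have hφ : φ ≫ W'.hom = W.hom := by
    rw [← Over.w w', ← Category.assoc, h, Over.w w]
  have e : w = Over.homMk φ hφ ≫ w' := by
    apply Over.OverMorphism.ext
    simp [h]
  rw [e]
  exact rel_comp _ _ hw'

lemma rel_whisker_iff {T' : Over S} (r : T' ⟶ R ⊗ T) :
    Rel s t T σ (r ≫ (s ▷ T)) ↔ Rel s t T σ (r ≫ (t ▷ T)) := by
  unfold Rel
  have h1 : (r ≫ (s ▷ T)) ≫ fst U T = (r ≫ fst R T) ≫ s := by simp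
  have h2 : (r ≫ (t ▷ T)) ≫ fst U T = (r ≫ fst R T) ≫ t := by simp
  have h3 : (r ≫ (s ▷ T)) ≫ snd U T = (r ≫ (t ▷ T)) ≫ snd U T := by simp
  have h4 : QuotSh.repMap Kq ((r ≫ fst R T) ≫ s) ≫ QuotSh.quotπ Kq s t =
      QuotSh.repMap Kq ((r ≫ fst R T) ≫ t) ≫ QuotSh.quotπ Kq s t := by
    rw [repMap_comp Kq (r ≫ fst R T) s, repMap_comp Kq (r ≫ fst R T) t,
      Category.assoc, Category.assoc, QuotSh.quot_condition]
  rw [h1, h2, h3, h4]

lemma exists_rel_R [IsEquivalenceRelation s t] {W : Over S} (w₁ w₂ : W ⟶ U ⊗ T)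
    (h₁ : Rel s t T σ w₁) (h₂ : Rel s t T σ w₂) (h : w₁ ≫ snd U T = w₂ ≫ snd U T) :
    ∃ r : W ⟶ R, r ≫ s = w₁ ≫ fst U T ∧ r ≫ t = w₂ ≫ fst U T := by
  apply exists_rel_of_quotπ_eq Kq s t
  unfold Rel at h₁ h₂
  rw [h₁, h₂, h]

end Rel

section Reps

variable {S : Scheme.{u}} {R U : Over S} (s t : R ⟶ U) (T : Over S)
  (σ : QuotSh.rep Kq T ⟶ QuotSh.quot Kq s t)

/-- `i : Z ⟶ U ×_S T` represents the graph of `σ`. -/
def Reps {Z : Over S} (i : Z ⟶ U ⊗ T) : Prop :=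
  ∀ (W : Over S) (w : W ⟶ U ⊗ T), (∃ z : W ⟶ Z, z ≫ i = w) ↔ Rel s t T σ w

variable {s t T σ}

lemma stable_of_reps {Z : Over S} (i : Z ⟶ U ⊗ T) (h : Reps s t T σ i) :
    ∀ (T' : Over S) (r : T' ⟶ R ⊗ T),
      (∃ z : T' ⟶ Z, z ≫ i = r ≫ (s ▷ T)) ↔ (∃ z : T' ⟶ Z, z ≫ i = r ≫ (t ▷ T)) :=
  fun T' r => (h _ _).trans ((rel_whisker_iff r).trans (h _ _).symm)

lemma eq_of_reps {Z : Over S} (i : Z ⟶ U ⊗ T) (h : Reps s t T σ i) :
    QuotSh.repMap Kq (i ≫ fst U T) ≫ QuotSh.quotπ Kq s t =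
      QuotSh.repMap Kq (i ≫ snd U T) ≫ σ :=
  (h _ i).1 ⟨𝟙 Z, Category.id_comp _⟩

lemma exact_of_reps [IsEquivalenceRelation s t] {Z : Over S} (i : Z ⟶ U ⊗ T)
    (h : Reps s t T σ i) :
    ∀ (T' : Over S) (z₁ z₂ : T' ⟶ Z), z₁ ≫ i ≫ snd U T = z₂ ≫ i ≫ snd U T →
      ∃ r : T' ⟶ R, r ≫ s = z₁ ≫ i ≫ fst U T ∧ r ≫ t = z₂ ≫ i ≫ fst U T := by
  intro T' z₁ z₂ hz
  have h₁ : Rel s t T σ (z₁ ≫ i) := (h _ _).1 ⟨z₁, rfl⟩
  have h₂ : Rel s t T σ (z₂ ≫ i) := (h _ _).1 ⟨z₂, rfl⟩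
  obtain ⟨r, hr₁, hr₂⟩ := exists_rel_R (z₁ ≫ i) (z₂ ≫ i) h₁ h₂
    (by rw [Category.assoc, Category.assoc, hz])
  exact ⟨r, by rw [hr₁, Category.assoc], by rw [hr₂, Category.assoc]⟩

/-- a stable subscheme, fpqc over `T`, on which `σ` is induced by `U`, represents the graph. -/
theorem reps_of_clauses [IsEquivalenceRelation s t] {Z : Over S} (i : Z ⟶ U ⊗ T) [Mono i]
    (hst : ∀ (T' : Over S) (r : T' ⟶ R ⊗ T),
      (∃ z : T' ⟶ Z, z ≫ i = r ≫ (s ▷ T)) ↔ (∃ z : T' ⟶ Z, z ≫ i = r ≫ (t ▷ T)))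
    (hfl : Flat (i ≫ snd U T).left) (hsu : Surjective (i ≫ snd U T).left)
    (hqc : QuasiCompact (i ≫ snd U T).left)
    (heq : QuotSh.repMap Kq (i ≫ fst U T) ≫ QuotSh.quotπ Kq s t =
      QuotSh.repMap Kq (i ≫ snd U T) ≫ σ) : Reps s t T σ i := by
  intro W w
  constructor
  · rintro ⟨z, rfl⟩
    exact rel_comp z i heq
  · intro hw
    -- base change of `Z ⟶ T` to `W`
    let p : Z ⟶ T := i ≫ snd U T
    let c : W ⟶ T := w ≫ snd U T
    let e : pullback c p ⟶ W := pullback.fst c p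
    let c' : pullback c p ⟶ Z := pullback.snd c p
    have hcond : e ≫ c = c' ≫ p := pullback.condition
    have hsq := Functor.map_isPullback (Over.forget S) (IsPullback.of_hasPullback c p)
    simp only [Over.forget_obj, Over.forget_map] at hsq
    haveI : Flat e.left := MorphismProperty.of_isPullback (P := @Flat) hsq.flip hfl
    haveI : Surjective e.left := MorphismProperty.of_isPullback (P := @Surjective) hsq.flip hsu
    haveI : QuasiCompact e.left := MorphismProperty.of_isPullback (P := @QuasiCompact) hsq.flip hqc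
    have hcov : Presieve.ofArrows (fun _ : PUnit.{u + 1} => ((pullback c p : Over S)).left)
        (fun _ => e.left) ∈ Kq W.left := by
      rw [Presieve.ofArrows_pUnit]
      exact e.left.singleton_mem_fpqcPrecoverage
    -- the two points of `U` over `W'` are related
    have h₁ : Rel s t T σ (c' ≫ i) := rel_comp c' i heq
    have h₂ : Rel s t T σ (e ≫ w) := rel_comp e w hw
    obtain ⟨r, hr₁, hr₂⟩ := exists_rel_R (c' ≫ i) (e ≫ w) h₁ h₂ (by
      rw [Category.assoc, Category.assoc]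
      exact hcond.symm)
    have e₁ : lift r (e ≫ c) ≫ (s ▷ T) = c' ≫ i := by
      apply CartesianMonoidalCategory.hom_ext
      · simp [hr₁]
      · simp only [Category.assoc, whiskerRight_snd, lift_snd]
        exact hcond
    have e₂ : lift r (e ≫ c) ≫ (t ▷ T) = e ≫ w := by
      apply CartesianMonoidalCategory.hom_ext
      · simp [hr₂]
      · simp only [Category.assoc, whiskerRight_snd, lift_snd]
        rfl
    obtain ⟨z', hz'⟩ := (hst _ (lift r (e ≫ c))).1 ⟨c', e₁.symm⟩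
    rw [e₂] at hz'
    -- descend `z'`
    obtain ⟨z, hz, -⟩ := over_glue Kq Z W (fun _ : PUnit.{u + 1} => (pullback c p : Over S))
      (fun _ => e) hcov (fun _ => z') (by
        intro _ _ Z' gi gj hg
        rw [← cancel_mono i, Category.assoc, Category.assoc, hz', ← Category.assoc,
          ← Category.assoc, hg])
    refine ⟨z, ?_⟩
    refine over_hom_ext Kq (U ⊗ T) W (fun _ : PUnit.{u + 1} => (pullback c p : Over S))
      (fun _ => e) hcov _ _ (fun _ => ?_)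
    rw [← Category.assoc, hz PUnit.unit, hz']

theorem iso_of_reps {Z Z' : Over S} (i : Z ⟶ U ⊗ T) (i' : Z' ⟶ U ⊗ T) [Mono i] [Mono i']
    (h : Reps s t T σ i) (h' : Reps s t T σ i') : ∃ e : Z ≅ Z', e.hom ≫ i' = i := by
  obtain ⟨a, ha⟩ := (h' _ i).2 ((h _ i).1 ⟨𝟙 Z, Category.id_comp _⟩)
  obtain ⟨b, hb⟩ := (h _ i').2 ((h' _ i').1 ⟨𝟙 Z', Category.id_comp _⟩)
  refine ⟨⟨a, b, ?_, ?_⟩, ha⟩
  · rw [← cancel_mono i, Category.assoc, hb, ha, Category.id_comp]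
  · rw [← cancel_mono i', Category.assoc, ha, hb, Category.id_comp]

instance small_Kq : Precoverage.Small.{u} Kq.{u} :=
  (inferInstance : Precoverage.Small.{u} (Scheme.propQCPrecoverage.{u} @Flat))

variable (s t T σ) in
/-- a section of `U/R` lifts to `U` locally for an fpqc covering family. -/
theorem exists_local_lifts :
    ∃ (ι : Type u) (Ti : ι → Over S) (τ : ∀ i, Ti i ⟶ T) (uu : ∀ i, Ti i ⟶ U),
      Presieve.ofArrows (fun i => (Ti i).left) (fun i => (τ i).left) ∈ Kq T.left ∧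
      ∀ i, QuotSh.repMap Kq (uu i) ≫ QuotSh.quotπ Kq s t = QuotSh.repMap Kq (τ i) ≫ σ := by
  haveI : Epi (QuotSh.quotπ Kq s t) := coequalizer.π_epi
  obtain ⟨R', hR', hlift⟩ := exists_cover_lift Kq (QuotSh.quotπ Kq s t) σ
  obtain ⟨ι, Xi, g, hg, hgR⟩ := exists_small_family Kq R' hR'
  have hl : ∀ i, ∃ ui : Over.mk (g i ≫ T.hom) ⟶ U,
      QuotSh.repMap Kq ui ≫ QuotSh.quotπ Kq s t =
        QuotSh.repMap Kq (Over.homMk (g i) rfl : Over.mk (g i ≫ T.hom) ⟶ T) ≫ σ := by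
    intro i
    obtain ⟨l, hl⟩ := hlift (g i) (hgR i)
    refine ⟨(Groth.Agent.Lib.Helper12.QuotShLib.repFunctorFullyFaithful Kq).preimage l, ?_⟩
    have h1 : QuotSh.repMap Kq
        ((Groth.Agent.Lib.Helper12.QuotShLib.repFunctorFullyFaithful Kq).preimage l) = l :=
      (Groth.Agent.Lib.Helper12.QuotShLib.repFunctorFullyFaithful Kq).map_preimage l
    rw [h1]
    exact hl
  choose uu huu using hl
  exact ⟨ι, fun i => Over.mk (g i ≫ T.hom), fun i => Over.homMk (g i) rfl, uu, hg, huu⟩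

lemma rel_local {W : Over S} (w : W ⟶ U ⊗ T) {ι : Type u} (Wi : ι → Over S)
    (e : ∀ i, Wi i ⟶ W)
    (hcov : Presieve.ofArrows (fun i => (Wi i).left) (fun i => (e i).left) ∈ Kq W.left)
    (h : ∀ i, Rel s t T σ (e i ≫ w)) : Rel s t T σ w := by
  unfold Rel
  refine hom_ext_of_cover Kq Wi e hcov _ _ (fun i => ?_)
  have h1 := h i
  unfold Rel at h1
  rw [Category.assoc, Category.assoc, repMap_comp Kq (e i) (w ≫ fst U T),
    repMap_comp Kq (e i) (w ≫ snd U T), Category.assoc, Category.assoc] at h1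
  exact h1

/-- over a scheme `T₁ ⟶ T` on which `σ` lifts to `u₁ : T₁ ⟶ U`, the graph of `σ` is the
pullback of `R`. -/
lemma rel_whiskerLeft_iff [IsEquivalenceRelation s t] {T₁ : Over S} (τ₁ : T₁ ⟶ T) (u₁ : T₁ ⟶ U)
    (hu : QuotSh.repMap Kq u₁ ≫ QuotSh.quotπ Kq s t = QuotSh.repMap Kq τ₁ ≫ σ)
    {W : Over S} (c : W ⟶ U ⊗ T₁) :
    Rel s t T σ (c ≫ (U ◁ τ₁)) ↔ ∃ r : W ⟶ R, r ≫ lift t s = c ≫ (U ◁ u₁) := by
  have h1 : (c ≫ (U ◁ τ₁)) ≫ fst U T = c ≫ fst U T₁ := by simp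
  have h2 : (c ≫ (U ◁ τ₁)) ≫ snd U T = (c ≫ snd U T₁) ≫ τ₁ := by simp
  have h3 : QuotSh.repMap Kq ((c ≫ snd U T₁) ≫ τ₁) ≫ σ =
      QuotSh.repMap Kq ((c ≫ snd U T₁) ≫ u₁) ≫ QuotSh.quotπ Kq s t := by
    rw [repMap_comp Kq (c ≫ snd U T₁) τ₁, repMap_comp Kq (c ≫ snd U T₁) u₁, Category.assoc,
      Category.assoc, hu]
  unfold Rel
  rw [h1, h2, h3]
  constructor
  · intro h
    obtain ⟨r, hr₁, hr₂⟩ := exists_rel_of_quotπ_eq Kq s t _ _ h.symm
    refine ⟨r, ?_⟩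
    apply CartesianMonoidalCategory.hom_ext
    · simp [hr₂]
    · simp [hr₁]
  · rintro ⟨r, hr⟩
    have hr₁ : r ≫ t = c ≫ fst U T₁ := by
      have := congrArg (fun m => m ≫ fst U U) hr
      simpa using this
    have hr₂ : r ≫ s = (c ≫ snd U T₁) ≫ u₁ := by
      have := congrArg (fun m => m ≫ snd U U) hr
      simpa using this
    rw [← hr₁, ← hr₂, repMap_comp Kq r t, repMap_comp Kq r s, Category.assoc, Category.assoc,
      QuotSh.quot_condition]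

/-- the pullback of `R` to `U ×_S T₁` is, over `T₁`, the base change of `s`. -/
lemma isPullback_E {T₁ : Over S} (u₁ : T₁ ⟶ U) :
    IsPullback (pullback.fst (lift t s).left (U ◁ u₁).left)
      (pullback.snd (lift t s).left (U ◁ u₁).left ≫ (snd U T₁).left) s.left u₁.left := by
  have sq1 := IsPullback.of_hasPullback (lift t s).left (U ◁ u₁).left
  have sq2 := Functor.map_isPullback (Over.forget S) (isPullback_whiskerLeft U u₁)
  simp only [Over.forget_obj, Over.forget_map] at sq2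
  have sq3 := sq1.paste_vert sq2
  have e : (lift t s).left ≫ (snd U U).left = s.left := by
    rw [← Over.comp_left, lift_snd]
  rw [e] at sq3
  exact sq3

end Reps

section Main

variable {S : Scheme.{u}} {R U : Over S} (s t : R ⟶ U) (T : Over S)
  (σ : QuotSh.rep Kq T ⟶ QuotSh.quot Kq s t)

/-- the graph of `σ` as a subfunctor of `h_{U ×_S T}` on scheme-valued points. -/
def Gp ⦃W : Scheme.{u}⦄ (c : W ⟶ (U ⊗ T).left) : Prop :=
  Rel s t T σ (Over.homMk c rfl : Over.mk (c ≫ (U ⊗ T).hom) ⟶ U ⊗ T)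

lemma gp_iff_rel {W : Over S} (w : W ⟶ U ⊗ T) : Gp s t T σ w.left ↔ Rel s t T σ w := by
  have e1 : 𝟙 W.left ≫ (Over.homMk w.left rfl : Over.mk (w.left ≫ (U ⊗ T).hom) ⟶ U ⊗ T).left =
      w.left := Category.id_comp _
  have e2 : 𝟙 W.left ≫ w.left =
      (Over.homMk w.left rfl : Over.mk (w.left ≫ (U ⊗ T).hom) ⟶ U ⊗ T).left := Category.id_comp _
  exact ⟨fun h => rel_of_left_eq w (Over.homMk w.left rfl :
      Over.mk (w.left ≫ (U ⊗ T).hom) ⟶ U ⊗ T) (𝟙 W.left) e1 h,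
    fun h => rel_of_left_eq (Over.homMk w.left rfl :
      Over.mk (w.left ≫ (U ⊗ T).hom) ⟶ U ⊗ T) w (𝟙 W.left) e2 h⟩

lemma gp_pre ⦃W W' : Scheme.{u}⦄ (d : W' ⟶ W) (c : W ⟶ (U ⊗ T).left) (h : Gp s t T σ c) :
    Gp s t T σ (d ≫ c) := by
  have e1 : d ≫ (Over.homMk c rfl : Over.mk (c ≫ (U ⊗ T).hom) ⟶ U ⊗ T).left =
      (Over.homMk (d ≫ c) rfl : Over.mk ((d ≫ c) ≫ (U ⊗ T).hom) ⟶ U ⊗ T).left := rfl
  exact rel_of_left_eq (Over.homMk (d ≫ c) rfl : Over.mk ((d ≫ c) ≫ (U ⊗ T).hom) ⟶ U ⊗ T)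
    (Over.homMk c rfl : Over.mk (c ≫ (U ⊗ T).hom) ⟶ U ⊗ T) d e1 h

lemma gp_loc {ι : Type u} {Xb : ι → Scheme.{u}} (fb : ∀ i, Xb i ⟶ (U ⊗ T).left)
    (hfb : Presieve.ofArrows Xb fb ∈ Scheme.fpqcPrecoverage (U ⊗ T).left)
    ⦃W : Scheme.{u}⦄ (c : W ⟶ (U ⊗ T).left)
    (h : ∀ i, Gp s t T σ (pullback.fst c (fb i) ≫ c)) : Gp s t T σ c := by
  refine rel_local (Over.homMk c rfl : Over.mk (c ≫ (U ⊗ T).hom) ⟶ U ⊗ T)
    (fun i => Over.mk ((pullback.fst c (fb i) ≫ c) ≫ (U ⊗ T).hom))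
    (fun i => Over.homMk (pullback.fst c (fb i)) (Category.assoc _ _ _).symm) ?_ (fun i => ?_)
  · exact Precoverage.mem_coverings_of_isPullback fb hfb c
      (fun i => pullback.fst c (fb i)) (fun i => pullback.snd c (fb i))
      (fun i => IsPullback.of_hasPullback c (fb i))
  · have e1 : 𝟙 (pullback c (fb i)) ≫ (Over.homMk (pullback.fst c (fb i) ≫ c) rfl :
        Over.mk ((pullback.fst c (fb i) ≫ c) ≫ (U ⊗ T).hom) ⟶ U ⊗ T).left =
        ((Over.homMk (pullback.fst c (fb i)) (Category.assoc _ _ _).symm :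
          Over.mk ((pullback.fst c (fb i) ≫ c) ≫ (U ⊗ T).hom) ⟶ Over.mk (c ≫ (U ⊗ T).hom)) ≫
          (Over.homMk c rfl : Over.mk (c ≫ (U ⊗ T).hom) ⟶ U ⊗ T)).left := Category.id_comp _
    exact rel_of_left_eq ((Over.homMk (pullback.fst c (fb i)) (Category.assoc _ _ _).symm :
          Over.mk ((pullback.fst c (fb i) ≫ c) ≫ (U ⊗ T).hom) ⟶ Over.mk (c ≫ (U ⊗ T).hom)) ≫
          (Over.homMk c rfl : Over.mk (c ≫ (U ⊗ T).hom) ⟶ U ⊗ T))
      (Over.homMk (pullback.fst c (fb i) ≫ c) rfl :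
        Over.mk ((pullback.fst c (fb i) ≫ c) ≫ (U ⊗ T).hom) ⟶ U ⊗ T)
      (𝟙 (pullback c (fb i))) e1 (h i)

/-- the pullback of `R` to `U ×_S T₁` along a lift `u₁`. -/
noncomputable abbrev Ep {T₁ : Over S} (u₁ : T₁ ⟶ U) : Over (U ⊗ T₁).left :=
  Over.mk (pullback.snd (lift t s).left (U ◁ u₁).left)

lemma ep_lifts_iff [IsEquivalenceRelation s t] {T₁ : Over S} (τ₁ : T₁ ⟶ T) (u₁ : T₁ ⟶ U)
    (hu : QuotSh.repMap Kq u₁ ≫ QuotSh.quotπ Kq s t = QuotSh.repMap Kq τ₁ ≫ σ)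
    ⦃W : Scheme.{u}⦄ (c : W ⟶ (U ⊗ T₁).left) :
    Nonempty (Lifts (Ep s t u₁) c) ↔ Gp s t T σ (c ≫ (U ◁ τ₁).left) := by
  let c' : Over.mk (c ≫ (U ⊗ T₁).hom) ⟶ U ⊗ T₁ := Over.homMk c rfl
  have h1 : Gp s t T σ (c ≫ (U ◁ τ₁).left) ↔ Rel s t T σ (c' ≫ (U ◁ τ₁)) :=
    gp_iff_rel s t T σ (c' ≫ (U ◁ τ₁))
  rw [h1, rel_whiskerLeft_iff τ₁ u₁ hu]
  constructor
  · rintro ⟨v⟩
    obtain ⟨v0, hv⟩ : ∃ v0 : W ⟶ pullback (lift t s).left (U ◁ u₁).left,
        v0 ≫ pullback.snd (lift t s).left (U ◁ u₁).left = c := ⟨v.1, v.2⟩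
    have hr0 : (v0 ≫ pullback.fst (lift t s).left (U ◁ u₁).left) ≫ (lift t s).left =
        c ≫ (U ◁ u₁).left := by
      rw [Category.assoc, pullback.condition, ← Category.assoc, hv]
    have hr : (v0 ≫ pullback.fst (lift t s).left (U ◁ u₁).left) ≫ R.hom =
        c ≫ (U ⊗ T₁).hom := by
      rw [← Over.w (lift t s), ← Category.assoc, hr0, Category.assoc, Over.w (U ◁ u₁)]
    refine ⟨Over.homMk (v0 ≫ pullback.fst (lift t s).left (U ◁ u₁).left) hr, ?_⟩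
    apply Over.OverMorphism.ext
    exact hr0
  · rintro ⟨r, hr⟩
    have hr' : r.left ≫ (lift t s).left = c ≫ (U ◁ u₁).left :=
      congrArg (fun m => m.left) hr
    exact ⟨⟨pullback.lift r.left c hr', pullback.lift_snd _ _ _⟩⟩

/-- **Existence**: the graph of a section of the fpqc quotient `U/R` is representable by a
subscheme of `U ×_S T` of the same kind as the graph of `R`, fpqc over `T`. -/
theorem exists_reps (P : MorphismProperty Scheme.{u}) [P.IsStableUnderBaseChange]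
    [IsZariskiLocalAtTarget P]
    (hmono : ∀ {X Y : Scheme.{u}} (f : X ⟶ Y), P f → Mono f)
    (hdesc : P.DescendsAlong (@Surjective ⊓ @Flat ⊓ @QuasiCompact : MorphismProperty Scheme.{u}))
    (heff : ∀ {B : Scheme.{u}} {ι : Type u} {X : ι → Scheme.{u}} (f : ∀ i, X i ⟶ B),
      Presieve.ofArrows X f ∈ Scheme.fpqcPrecoverage B → ∀ D : SchDDFam f,
        (∀ i, P (D.obj i).hom) → D.IsEffective)
    [IsEquivalenceRelation s t] [Flat s.left] [Surjective s.left] [QuasiCompact s.left]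
    (hc : P (lift t s).left) :
    ∃ (Ub : Over (U ⊗ T).left), P Ub.hom ∧
      (∀ ⦃W : Scheme.{u}⦄ (c : W ⟶ (U ⊗ T).left), Nonempty (Lifts Ub c) ↔ Gp s t T σ c) ∧
      Flat (Ub.hom ≫ (snd U T).left) ∧ Surjective (Ub.hom ≫ (snd U T).left) ∧
      QuasiCompact (Ub.hom ≫ (snd U T).left) := by
  obtain ⟨ι, Ti, τ, uu, hcov, huu⟩ := exists_local_lifts s t T σ
  -- the covering of `U ×_S T`
  have hsqT : ∀ i, IsPullback (U ◁ τ i).left (snd U (Ti i)).left (snd U T).left (τ i).left := by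
    intro i
    have := Functor.map_isPullback (Over.forget S) (isPullback_whiskerLeft U (τ i))
    simpa only [Over.forget_obj, Over.forget_map] using this
  have hfb : Presieve.ofArrows (fun i => (U ⊗ Ti i).left) (fun i => (U ◁ τ i).left) ∈
      Scheme.fpqcPrecoverage (U ⊗ T).left :=
    Precoverage.mem_coverings_of_isPullback (fun i => (τ i).left) hcov (snd U T).left
      (fun i => (U ◁ τ i).left) (fun i => (snd U (Ti i)).left) hsqT
  -- the local pieces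
  have hPE : ∀ i, P (Ep s t (uu i)).hom := fun i =>
    MorphismProperty.of_isPullback (P := P)
      (IsPullback.of_hasPullback (lift t s).left (U ◁ uu i).left) hc
  haveI hmonoE : ∀ i, Mono (Ep s t (uu i)).hom := fun i => hmono _ (hPE i)
  have hE : ∀ (i : ι) ⦃W : Scheme.{u}⦄ (c : W ⟶ (U ⊗ Ti i).left),
      Nonempty (Lifts (Ep s t (uu i)) c) ↔ Gp s t T σ (c ≫ (U ◁ τ i).left) :=
    fun i => ep_lifts_iff s t T σ (τ i) (uu i) (huu i)
  obtain ⟨Ub, hmonoU, hlifts, hisos⟩ := exists_rep_fpqc (fun i => (U ◁ τ i).left)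
    (fun i => Ep s t (uu i)) (Gp s t T σ) hE hfb
    (gp_pre s t T σ) (gp_loc s t T σ _ hfb) (heff _ hfb _ hPE)
  refine ⟨Ub, ?_, hlifts, ?_⟩
  · refine Groth.Agent.Lib.Helper12.of_mem_fpqcPrecoverage hdesc Ub.hom _ hfb ?_
    rintro Y' f ⟨i⟩
    obtain ⟨a, ha, hae⟩ := hisos i
    have e1 : pullback.snd Ub.hom (U ◁ τ i).left =
        (pullbackSymmetry Ub.hom (U ◁ τ i).left).hom ≫ a ≫ (Ep s t (uu i)).hom := by
      rw [hae, pullbackSymmetry_hom_comp_fst]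
    rw [e1]
    exact (P.cancel_left_of_respectsIso _ _).2 ((P.cancel_left_of_respectsIso _ _).2 (hPE i))
  have key : ∀ (Q : MorphismProperty Scheme.{u}) [IsZariskiLocalAtTarget Q]
      [Q.IsStableUnderBaseChange],
      Q.DescendsAlong (@Surjective ⊓ @Flat ⊓ @QuasiCompact : MorphismProperty Scheme.{u}) →
      Q s.left → Q (Ub.hom ≫ (snd U T).left) := by
    intro Q _ _ hQ hs
    refine Groth.Agent.Lib.Helper12.of_mem_fpqcPrecoverage hQ _ _ hcov ?_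
    rintro Y' f ⟨i⟩
    obtain ⟨a, ha, hae⟩ := hisos i
    have sq := (IsPullback.of_hasPullback (U ◁ τ i).left Ub.hom).flip.paste_vert (hsqT i)
    have e0 : pullback.fst (U ◁ τ i).left Ub.hom ≫ (snd U (Ti i)).left =
        a ≫ (Ep s t (uu i)).hom ≫ (snd U (Ti i)).left := by rw [← Category.assoc, hae]
    have e1 : pullback.snd (Ub.hom ≫ (snd U T).left) (τ i).left =
        sq.isoPullback.inv ≫ a ≫ (Ep s t (uu i)).hom ≫ (snd U (Ti i)).left :=
      (sq.isoPullback_inv_snd).symm.trans (congrArg (fun m => sq.isoPullback.inv ≫ m) e0)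
    rw [e1]
    refine (Q.cancel_left_of_respectsIso _ _).2 ((Q.cancel_left_of_respectsIso _ _).2 ?_)
    exact MorphismProperty.of_isPullback (P := Q) (isPullback_E (s := s) (t := t) (uu i)) hs
  exact ⟨key @Flat Groth.Agent.Lib.Helper12.descendsAlong_flat inferInstance,
    key @Surjective inferInstance inferInstance,
    key @QuasiCompact Groth.Agent.Lib.Helper12.descendsAlong_quasiCompact inferInstance⟩

/-- **Existence**, in terms of schemes over `S`. -/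
theorem exists_sub (P : MorphismProperty Scheme.{u}) [P.IsStableUnderBaseChange]
    [IsZariskiLocalAtTarget P]
    (hmono : ∀ {X Y : Scheme.{u}} (f : X ⟶ Y), P f → Mono f)
    (hdesc : P.DescendsAlong (@Surjective ⊓ @Flat ⊓ @QuasiCompact : MorphismProperty Scheme.{u}))
    (heff : ∀ {B : Scheme.{u}} {ι : Type u} {X : ι → Scheme.{u}} (f : ∀ i, X i ⟶ B),
      Presieve.ofArrows X f ∈ Scheme.fpqcPrecoverage B → ∀ D : SchDDFam f,
        (∀ i, P (D.obj i).hom) → D.IsEffective)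
    [IsEquivalenceRelation s t] [Flat s.left] [Surjective s.left] [QuasiCompact s.left]
    (hc : P (lift t s).left) :
    ∃ (Z : Over S) (i : Z ⟶ U ⊗ T), P i.left ∧ Reps s t T σ i ∧ Flat (i ≫ snd U T).left ∧
      Surjective (i ≫ snd U T).left ∧ QuasiCompact (i ≫ snd U T).left := by
  obtain ⟨Ub, hPU, hlifts, kF, kS, kQ⟩ := exists_reps s t T σ P hmono hdesc heff hc
  refine ⟨Over.mk (Ub.hom ≫ (U ⊗ T).hom), Over.homMk Ub.hom rfl, hPU, ?_, kF, kS, kQ⟩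
  intro W w
  rw [← gp_iff_rel, ← hlifts]
  constructor
  · rintro ⟨z, rfl⟩
    exact ⟨⟨z.left, rfl⟩⟩
  · rintro ⟨v⟩
    have hv : v.1 ≫ Ub.hom = w.left := v.2
    have hz : v.1 ≫ (Ub.hom ≫ (U ⊗ T).hom) = W.hom := by
      rw [← Category.assoc, hv, Over.w w]
    refine ⟨Over.homMk v.1 hz, ?_⟩
    apply Over.OverMorphism.ext
    exact hv

/-- **Main theorem**: sections of the fpqc quotient sheaf `U/R` over `T` are the `R`-stable
subschemes of `U ×_S T` (of the same kind as the graph of `R`), fpqc over `T`, with `R`-related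
fibres. -/
theorem main (P : MorphismProperty Scheme.{u}) [P.IsStableUnderBaseChange]
    [IsZariskiLocalAtTarget P]
    (hmono : ∀ {X Y : Scheme.{u}} (f : X ⟶ Y), P f → Mono f)
    (hdesc : P.DescendsAlong (@Surjective ⊓ @Flat ⊓ @QuasiCompact : MorphismProperty Scheme.{u}))
    (heff : ∀ {B : Scheme.{u}} {ι : Type u} {X : ι → Scheme.{u}} (f : ∀ i, X i ⟶ B),
      Presieve.ofArrows X f ∈ Scheme.fpqcPrecoverage B → ∀ D : SchDDFam f,
        (∀ i, P (D.obj i).hom) → D.IsEffective)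
    [IsEquivalenceRelation s t] [Flat s.left] [Surjective s.left] [QuasiCompact s.left]
    (hc : P (lift t s).left) :
    (∃ (Z : Over S) (i : Z ⟶ U ⊗ T), P i.left ∧
      (∀ (T' : Over S) (r : T' ⟶ R ⊗ T),
        (∃ z : T' ⟶ Z, z ≫ i = r ≫ (s ▷ T)) ↔ (∃ z : T' ⟶ Z, z ≫ i = r ≫ (t ▷ T))) ∧
      Flat (i ≫ snd U T).left ∧ Surjective (i ≫ snd U T).left ∧
      QuasiCompact (i ≫ snd U T).left ∧
      (∀ (T' : Over S) (z₁ z₂ : T' ⟶ Z), z₁ ≫ i ≫ snd U T = z₂ ≫ i ≫ snd U T →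
        ∃ r : T' ⟶ R, r ≫ s = z₁ ≫ i ≫ fst U T ∧ r ≫ t = z₂ ≫ i ≫ fst U T) ∧
      QuotSh.repMap Scheme.fpqcPrecoverage (i ≫ fst U T) ≫
          QuotSh.quotπ Scheme.fpqcPrecoverage s t =
        QuotSh.repMap Scheme.fpqcPrecoverage (i ≫ snd U T) ≫ σ) ∧
    (∀ (Z Z' : Over S) (i : Z ⟶ U ⊗ T) (i' : Z' ⟶ U ⊗ T),
      P i.left → P i'.left →
      (∀ (T' : Over S) (r : T' ⟶ R ⊗ T),
        (∃ z : T' ⟶ Z, z ≫ i = r ≫ (s ▷ T)) ↔ (∃ z : T' ⟶ Z, z ≫ i = r ≫ (t ▷ T))) →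
      (∀ (T' : Over S) (r : T' ⟶ R ⊗ T),
        (∃ z : T' ⟶ Z', z ≫ i' = r ≫ (s ▷ T)) ↔ (∃ z : T' ⟶ Z', z ≫ i' = r ≫ (t ▷ T))) →
      Flat (i ≫ snd U T).left → Surjective (i ≫ snd U T).left →
      QuasiCompact (i ≫ snd U T).left →
      Flat (i' ≫ snd U T).left → Surjective (i' ≫ snd U T).left →
      QuasiCompact (i' ≫ snd U T).left →
      (∀ (T' : Over S) (z₁ z₂ : T' ⟶ Z), z₁ ≫ i ≫ snd U T = z₂ ≫ i ≫ snd U T →
        ∃ r : T' ⟶ R, r ≫ s = z₁ ≫ i ≫ fst U T ∧ r ≫ t = z₂ ≫ i ≫ fst U T) →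
      (∀ (T' : Over S) (z₁ z₂ : T' ⟶ Z'), z₁ ≫ i' ≫ snd U T = z₂ ≫ i' ≫ snd U T →
        ∃ r : T' ⟶ R, r ≫ s = z₁ ≫ i' ≫ fst U T ∧ r ≫ t = z₂ ≫ i' ≫ fst U T) →
      QuotSh.repMap Scheme.fpqcPrecoverage (i ≫ fst U T) ≫
          QuotSh.quotπ Scheme.fpqcPrecoverage s t =
        QuotSh.repMap Scheme.fpqcPrecoverage (i ≫ snd U T) ≫ σ →
      QuotSh.repMap Scheme.fpqcPrecoverage (i' ≫ fst U T) ≫
          QuotSh.quotπ Scheme.fpqcPrecoverage s t =
        QuotSh.repMap Scheme.fpqcPrecoverage (i' ≫ snd U T) ≫ σ →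
      ∃ e : Z ≅ Z', e.hom ≫ i' = i) := by
  refine ⟨?_, ?_⟩
  · obtain ⟨Z, i, hP, hreps, hF, hS, hQ⟩ := exists_sub s t T σ P hmono hdesc heff hc
    exact ⟨Z, i, hP, stable_of_reps i hreps, hF, hS, hQ, exact_of_reps i hreps,
      eq_of_reps i hreps⟩
  · intro Z Z' i i' hP hP' hst hst' hF hS hQ hF' hS' hQ' _ _ heq heq'
    haveI : Mono i.left := hmono _ hP
    haveI : Mono i'.left := hmono _ hP'
    haveI : Mono i := (Over.forget S).mono_of_mono_map (by simpa using ‹Mono i.left›)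
    haveI : Mono i' := (Over.forget S).mono_of_mono_map (by simpa using ‹Mono i'.left›)
    exact iso_of_reps i i' (reps_of_clauses i hst hF hS hQ heq)
      (reps_of_clauses i' hst' hF' hS' hQ' heq')

end Main

end Groth.Agent.Lib.T2H7.QuotSecC
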