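import Groth.Agent.Lib.T2H7QuotSplitA
import Groth.Agent.Lib.T2H7DiagHomE

/-!
Quotients of a diagonalisable group by a subgroup of multiplicative type, part B: analysis on a
field-valued point at which the subgroup becomes diagonalisable.
-/

set_option autoImplicit false
set_option linter.unusedSectionVars false
set_option linter.unusedVariables false
set_option linter.style.haveILetI false
universe u
open CategoryTheory CategoryTheory.Limits MonoidalCategory CartesianMonoidalCategory MonObj GrpObj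
  AlgebraicGeometry

namespace Groth.Agent.Lib.T2H7.QuotSplit

open Groth.Agent.Lib.T2H3.MultGa Groth.Agent.Lib.Helper27.GaGm
  Groth.Agent.Lib.T2H7.DiagDS Groth.Agent.Lib.T2H7.DiagHomA Groth.Agent.Lib.T2H7.DiagHomB
  Groth.Agent.Lib.T2H7.DiagHomE
  Groth.Agent.Lib.T2H7.GrpIsoBC Groth.Agent.Lib.T2H7.ToriMono Groth.Agent.Lib.T2H7.MtModel
  Groth.Agent.Lib.T2H7.MtLocus

section Fibre

variable {S : Scheme.{u}} {H : Over S} [GrpObj H]
  {Ω : Type u} [Field Ω] (t : Spec (CommRingCat.of Ω) ⟶ S) {N : Type} [AddCommGroup N]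
  (eΩ : Red.bc t H ≅ Red.DS (Spec (CommRingCat.of Ω)) N)

/-- transport of a morphism `H ⟶ D_S(A)` to the fibre over the point `t`. -/
noncomputable def tr {A : Type} [AddCommGroup A] (v : H ⟶ Red.DS S A) :
    Red.DS (Spec (CommRingCat.of Ω)) N ⟶ Red.DS (Spec (CommRingCat.of Ω)) A :=
  eΩ.inv ≫ (Over.pullback t).map v ≫ (cIso t A).hom

theorem map_eq_tr {A : Type} [AddCommGroup A] (v : H ⟶ Red.DS S A) :
    (Over.pullback t).map v = eΩ.hom ≫ tr t eΩ v ≫ (cIso t A).inv := by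
  unfold tr
  simp

variable [IsMonHom eΩ.hom]

instance {A : Type} [AddCommGroup A] (v : H ⟶ Red.DS S A) [IsMonHom v] :
    IsMonHom (tr t eΩ v) := by
  unfold tr
  infer_instance

theorem tr_eq_one_iff {A : Type} [AddCommGroup A] (v : H ⟶ Red.DS S A) :
    tr t eΩ v = 1 ↔ (Over.pullback t).map v = 1 := by
  constructor
  · intro h
    rw [map_eq_tr t eΩ v, h, MonObj.one_comp (cIso t A).inv, MonObj.comp_one]
  · intro h
    unfold tr
    rw [h, MonObj.one_comp (cIso t A).hom, MonObj.comp_one]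

theorem tr_comp {A B : Type} [AddCommGroup A] [AddCommGroup B] (v : H ⟶ Red.DS S A)
    (w : Red.DS S A ⟶ Red.DS S B) (ψ : B →+ A) (hw : ∀ b, dsFn w (sg b) = chr S (ψ b)) (b : B) :
    dsFn (tr t eΩ (v ≫ w)) (sg b) = dsFn (tr t eΩ v) (sg (ψ b)) := by
  have h1 : tr t eΩ (v ≫ w) = tr t eΩ v ≫
      ((cIso t A).inv ≫ (Over.pullback t).map w ≫ (cIso t B).hom) := by
    unfold tr
    simp
  rw [h1, dsFn_comp_of_chr _ _ ψ (dsFn_bc t ψ w hw) b]

end Fibre

section FibreMain

variable {S : Scheme.{u}} {H : Over S} [GrpObj H]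
  {Ω : Type u} [Field Ω] (t : Spec (CommRingCat.of Ω) ⟶ S) {N : Type} [AddCommGroup N]
  (eΩ : Red.bc t H ≅ Red.DS (Spec (CommRingCat.of Ω)) N) [IsMonHom eΩ.hom]
  {M : Type} [AddCommGroup M]

theorem field_hconn : ∀ e : Ω, IsIdempotentElem e → e = 0 ∨ e = 1 := by
  intro e he
  have h : e * (e - 1) = 0 := by
    have : e * e = e := he
    rw [mul_sub, this, _root_.mul_one, sub_self]
  rcases mul_eq_zero.1 h with h0 | h1
  · exact Or.inl h0
  · exact Or.inr (sub_eq_zero.1 h1)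

/-- the kernel of the character map of the fibre is the group of characters killing the fibre. -/
theorem ker_eq (i₁ : H ⟶ Red.DS S M) [IsMonHom i₁] (ψ : M →+ N)
    (hψ : ∀ m, dsFn (tr t eΩ i₁) (sg m) = chr (Spec (CommRingCat.of Ω)) (ψ m)) (m : M) :
    ψ m = 0 ↔ (Over.pullback t).map (i₁ ≫ chi S m) = 1 := by
  rw [← tr_eq_one_iff t eΩ]
  have hn : ∀ n : ℤ, dsFn (tr t eΩ (i₁ ≫ chi S m)) (sg n) =
      chr (Spec (CommRingCat.of Ω)) (ψ (n • m)) := by
    intro n
    rw [tr_comp t eΩ i₁ (chi S m) (zmultiplesHom M m) (dsFn_chi m) n, hψ]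
    rfl
  constructor
  · intro h0
    apply ds_ext'
    intro n
    rw [hn, map_zsmul, h0, smul_zero, chr_zero, dsFn_one_sg]
  · intro h1
    have h2 := hn 1
    rw [h1, dsFn_one_sg, one_smul, ← chr_zero (T := Spec (CommRingCat.of Ω)) (M := N)] at h2
    exact (chr_injective Ω h2).symm

include eΩ in
/-- **Fibre analysis.** If the characters killing the fibre of `H` at `t` are exactly those of `K`,
then the induced map `H ⟶ D(M/K)` is an isomorphism over `t`. -/
theorem isIso_fibre (i₁ : H ⟶ Red.DS S M) [IsMonHom i₁] [Mono i₁] (K : AddSubgroup M)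
    (hK : ∀ m, (Over.pullback t).map (i₁ ≫ chi S m) = 1 ↔ m ∈ K)
    (dPr : Red.DS S (M ⧸ K) ⟶ Red.DS S M)
    (hdPr : ∀ m, dsFn dPr (sg m) = chr S (QuotientAddGroup.mk' K m))
    (i' : H ⟶ Red.DS S (M ⧸ K)) [IsMonHom i'] (hi' : i' ≫ dPr = i₁) :
    IsIso ((Over.pullback t).map i') := by
  obtain ⟨ψ, hψ⟩ := exists_addHom (field_hconn (Ω := Ω)) (tr t eΩ i₁)
  obtain ⟨ψ', hψ'⟩ := exists_addHom (field_hconn (Ω := Ω)) (tr t eΩ i')
  have hrel : ∀ m, ψ' (QuotientAddGroup.mk' K m) = ψ m := by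
    intro m
    apply chr_injective Ω
    rw [← hψ, ← hψ', ← tr_comp t eΩ i' dPr (QuotientAddGroup.mk' K) hdPr m, hi']
  have hker : ∀ m, ψ m = 0 ↔ m ∈ K := fun m => (ker_eq t eΩ i₁ ψ hψ m).trans (hK m)
  haveI : Mono ((Over.pullback t).map i₁) := by
    haveI : (Over.pullback t).PreservesMonomorphisms :=
      Functor.preservesMonomorphisms_of_adjunction (Over.mapPullbackAdj t)
    infer_instance
  haveI : Mono (tr t eΩ i₁) := by
    unfold tr
    infer_instance
  have hsurj : Function.Surjective ψ := surj_of_mono ψ (tr t eΩ i₁) hψ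
  have hbij : Function.Bijective ψ' := by
    constructor
    · rw [injective_iff_map_eq_zero]
      intro x hx
      obtain ⟨m, rfl⟩ := QuotientAddGroup.mk'_surjective K x
      rw [hrel] at hx
      exact (QuotientAddGroup.eq_zero_iff m).2 ((hker m).1 hx)
    · intro n
      obtain ⟨m, rfl⟩ := hsurj n
      exact ⟨_, hrel m⟩
  haveI : IsIso (tr t eΩ i') := isIso_dsHom (AddEquiv.ofBijective ψ' hbij) (tr t eΩ i') hψ'
  rw [map_eq_tr t eΩ i']
  infer_instance

end FibreMain

end Groth.Agent.Lib.T2H7.QuotSplit
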