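import Groth.Agent.Lib.T2H7QuotSplitB

/-!
Quotients of a diagonalisable group by a subgroup of multiplicative type, part C: transport of
quotients along isomorphisms and the main theorem over a connected base.
-/

set_option autoImplicit false
set_option linter.unusedSectionVars false
set_option linter.unusedVariables false
set_option linter.style.haveILetI false
universe u
open CategoryTheory CategoryTheory.Limits MonoidalCategory CartesianMonoidalCategory MonObj GrpObj
  AlgebraicGeometry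

namespace Groth.Agent.Lib.T2H7.QuotSplit

open Groth.Agent.Lib.T2H3.MultGa Groth.Agent.Lib.Helper27.GaGm
  Groth.Agent.Lib.T2H7.DiagDS Groth.Agent.Lib.T2H7.DiagHomA Groth.Agent.Lib.T2H7.DiagHomB
  Groth.Agent.Lib.T2H7.DiagHomE
  Groth.Agent.Lib.T2H7.GrpIsoBC Groth.Agent.Lib.T2H7.ToriMono Groth.Agent.Lib.T2H7.MtModel
  Groth.Agent.Lib.T2H7.MtLocus

section Transport

variable {S : Scheme.{u}} {G G' H H' Q : Over S} [GrpObj G] [GrpObj G'] [GrpObj H] [GrpObj H']

/-- transport of a quotient along isomorphisms of the group and of the subgroup. -/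
theorem isQuotient_of_iso (i : H ⟶ G) (q : G ⟶ Q) (hq : RedSub.IsQuotient i q)
    (eG : G' ≅ G) [IsMonHom eG.hom] (eH : H' ≅ H) (i' : H' ⟶ G')
    (hi' : i' ≫ eG.hom = eH.hom ≫ i) : RedSub.IsQuotient i' (eG.hom ≫ q) := by
  obtain ⟨hs, hf, hl, hsq⟩ := hq
  haveI := hs
  haveI := hf
  haveI := hl
  haveI : IsIso eG.hom.left := inferInstanceAs (IsIso ((Over.forget _).map eG.hom))
  refine ⟨?_, ?_, ?_, ?_⟩
  · rw [Over.comp_left]; infer_instance
  · rw [Over.comp_left]; infer_instance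
  · rw [Over.comp_left]; infer_instance
  · refine hsq.of_iso' (eG ⊗ᵢ eH) eG eG (Iso.refl Q) ?_ ?_ ?_ ?_
    · simp
    · show (eG.hom ⊗ₘ eH.hom) ≫ (G ◁ i) ≫ μ[G] = ((G' ◁ i') ≫ μ[G']) ≫ eG.hom
      rw [Category.assoc, IsMonHom.mul_hom eG.hom, ← Category.assoc, ← Category.assoc]
      congr 1
      apply CartesianMonoidalCategory.hom_ext
      · simp
      · simp only [Category.assoc, whiskerLeft_snd, tensorHom_snd_assoc, tensorHom_snd,
          whiskerLeft_snd_assoc, hi']
    · simp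
    · simp

end Transport

section Main

open Groth.Agent.Lib.T2H7.DsExact Groth.Agent.Lib.T2H7.QuotUniq

variable {S : Scheme.{u}} {M : Type} [AddCommGroup M] {H Q : Over S} [GrpObj H] [GrpObj Q]

theorem fg_subgroup [AddGroup.FG M] (K : AddSubgroup M) : AddGroup.FG K := by
  haveI : Module.Finite ℤ M := Module.Finite.iff_addGroup_fg.mpr inferInstance
  haveI : IsNoetherian ℤ M := isNoetherian_of_isNoetherianRing_of_finite ℤ M
  rw [AddGroup.fg_iff_addSubgroup_fg, ← AddSubgroup.toIntSubmodule_toAddSubgroup K,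
    ← Submodule.fg_iff_addSubgroup_fg]
  exact IsNoetherian.noetherian _

/-- a point of `S₁` at which `H` becomes diagonalisable over the residue field. -/
theorem exists_field_point (hH : SGA3x.IsMultTypeFT H) [Nonempty S] :
    ∃ (Ω : Type u) (_ : Field Ω) (t : Spec (CommRingCat.of Ω) ⟶ S) (s : S) (N : Type)
      (_ : AddCommGroup N) (eΩ : Red.bc t H ≅ Red.DS (Spec (CommRingCat.of Ω)) N),
      IsMonHom eΩ.hom ∧ ∃ τ : Spec (CommRingCat.of Ω) ⟶ Spec (S.residueField s),
        τ ≫ S.fromSpecResidueField s = t ∧ Flat τ ∧ Surjective τ ∧ QuasiCompact τ := by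
  obtain ⟨S₁, f₁, hfl, hsj, hcov, hloc⟩ := hH
  obtain ⟨s₀⟩ := ‹Nonempty S›
  obtain ⟨s₁, hs₁⟩ := hsj.surj s₀
  obtain ⟨U, hU, N, instN, hfg, he⟩ := hloc s₁
  obtain ⟨g, hg⟩ : ∃ g : U.toScheme ⟶ S, g = U.ι ≫ f₁ := ⟨_, rfl⟩
  let z : U.toScheme := ⟨s₁, hU⟩
  obtain ⟨hfl', hsj', hqc'⟩ := field_fpqc (K := ↑(S.residueField (g z)))
    (L := ↑(U.toScheme.residueField z)) (g.residueFieldMap z).hom
  have e : Spec.map (g.residueFieldMap z) ≫ S.fromSpecResidueField (g z) =
      U.toScheme.fromSpecResidueField z ≫ g :=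
    Scheme.Hom.SpecMap_residueFieldMap_fromSpecResidueField g z
  have hsplit : Red.IsSplitTorusWith N (Red.bc (U.toScheme.fromSpecResidueField z ≫ g) H) := by
    refine split_of_comp (U.toScheme.fromSpecResidueField z) g rfl H N ?_
    rw [hg]
    exact he
  obtain ⟨eΩ, heΩ⟩ := (nonempty_grpIso_iff _ _).1 hsplit
  exact ⟨↑(U.toScheme.residueField z), inferInstance, U.toScheme.fromSpecResidueField z ≫ g, g z,
    N, instN, eΩ, heΩ, Spec.map (g.residueFieldMap z), e, hfl', hsj', hqc'⟩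

/-- **Main theorem.** Over a connected base, the quotient of `D_S(M)` by a subgroup of
multiplicative type is `D_S(K)` for a subgroup `K` of `M`. -/
theorem quot_split [ConnectedSpace ↥S] [AddGroup.FG M] (i₁ : H ⟶ Red.DS S M) [IsMonHom i₁] [Mono i₁]
    (hH : SGA3x.IsMultTypeFT H) (q₁ : Red.DS S M ⟶ Q) [IsMonHom q₁]
    (hq : RedSub.IsQuotient i₁ q₁) :
    ∃ K : AddSubgroup M, Nonempty (Grp.mk Q ≅ Grp.mk (Red.DS S K)) := by
  obtain ⟨K, hK⟩ : ∃ K : AddSubgroup M, K = Kgrp i₁ := ⟨_, rfl⟩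
  haveI : AddGroup.FG K := fg_subgroup K
  haveI : AddGroup.FG (M ⧸ K) := QuotientAddGroup.fg K
  obtain ⟨dPr, hdPrmon, hdPr⟩ := exists_dsHom (T := S) (QuotientAddGroup.mk' K)
  obtain ⟨dInc, hdIncmon, hdInc⟩ := exists_dsHom (T := S) K.subtype
  haveI := hdPrmon
  haveI := hdIncmon
  have hex : ∀ m, QuotientAddGroup.mk' K m = 0 → ∃ k, K.subtype k = m := by
    intro m hm
    exact ⟨⟨m, (QuotientAddGroup.eq_zero_iff m).1 hm⟩, rfl⟩
  have hzero : ∀ k, QuotientAddGroup.mk' K (K.subtype k) = 0 := by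
    intro k
    exact (QuotientAddGroup.eq_zero_iff _).2 k.2
  have hkerSq := isKernel K.subtype (QuotientAddGroup.mk' K) (QuotientAddGroup.mk'_surjective K)
    hex hzero dPr hdPr dInc hdInc
  -- `H` is killed by `D(M) ⟶ D(K)`
  have hkill : i₁ ≫ dInc = toUnit H ≫ η[Red.DS S K] := by
    rw [← Hom.one_def]
    apply ds_ext'
    intro k
    rw [dsFn_comp_of_chr i₁ dInc K.subtype hdInc k, dsFn_one_sg]
    have : (k : M) ∈ Kgrp i₁ := by rw [← hK]; exact k.2
    exact this
  obtain ⟨i', hi'⟩ : ∃ i' : H ⟶ Red.DS S (M ⧸ K), i' ≫ dPr = i₁ :=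
    ⟨hkerSq.lift i₁ (toUnit H) hkill, hkerSq.lift_fst _ _ _⟩
  haveI : Mono dPr := mono_of_surj _ (QuotientAddGroup.mk'_surjective K) dPr hdPr
  haveI : IsMonHom i' := by
    apply isMonHom_of_points
    rw [← cancel_mono dPr, Category.assoc, hi', MonObj.mul_comp _ _ i₁, MonObj.mul_comp _ _ dPr,
      Category.assoc, Category.assoc, hi']
  -- `i'` is an isomorphism
  have hiso : IsIso i' := by
    obtain ⟨V, hVc, hV1, hV2⟩ := locus_iso _ _ hH (isMultTypeFT_DS S (M ⧸ K)) i'
    obtain ⟨Ω, instΩ, t, s, N, instN, eΩ, heΩ, τ, hτ, hτfl, hτsj, hτqc⟩ := exists_field_point hH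
    haveI := heΩ
    haveI := hτfl
    haveI := hτsj
    haveI := hτqc
    have hconst : ∀ m, (Over.pullback t).map (i₁ ≫ chi S m) = 1 ↔ m ∈ K := by
      intro m
      rw [hK, ← const_of_connected i₁ hH s m]
      have hE : ∀ {Z : Scheme.{u}} (g : Z ⟶ S),
          EqDesc.E (i₁ ≫ chi S m) 1 g ↔ (Over.pullback g).map (i₁ ≫ chi S m) = 1 := by
        intro Z g
        unfold EqDesc.E
        rw [Functor.map_one]
      rw [← hE, ← hE]
      exact ⟨fun h => EqDesc.E.of_faithful τ hτ h, fun h => h.precomp τ hτ⟩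
    have h1 : IsIso ((Over.pullback t).map i') :=
      isIso_fibre t eΩ i₁ K hconst dPr hdPr i' hi'
    have h2 : IsIso ((Over.pullback (S.fromSpecResidueField s)).map i') := by
      apply OverDesc.isIso_of_fpqc τ
      rw [OverDesc.isIso_bc_comp_iff τ _ hτ i']
      exact h1
    have hsV : s ∈ V := (hV1 s).2
      (inferInstanceAs (IsIso ((Over.forget _).map ((Over.pullback (S.fromSpecResidueField s)).map i'))))
    have hVuniv : (V : Set S) = Set.univ := by
      rcases isClopen_iff.1 (⟨hVc, V.2⟩ : IsClopen (V : Set S)) with h0 | h1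
      · exact absurd hsV (by rw [← SetLike.mem_coe, h0]; exact Set.notMem_empty s)
      · exact h1
    have hcov : TopologicalSpace.IsOpenCover (fun _ : Unit => V) := by
      apply TopologicalSpace.IsOpenCover.mk
      ext x
      simp only [TopologicalSpace.Opens.coe_iSup, Set.mem_iUnion, SetLike.mem_coe,
        TopologicalSpace.Opens.coe_top, Set.mem_univ, iff_true]
      exact ⟨(), by rw [← SetLike.mem_coe, hVuniv]; trivial⟩
    refine OverDesc.isIso_of_openCover (S.openCoverOfIsOpenCover (fun _ : Unit => V) hcov) i'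
      fun _ => ?_
    exact OverDesc.isIso_of_isIso_left _ hV2
  -- compare the two quotients
  haveI := hiso
  have hinj : Function.Injective K.subtype := Subtype.val_injective
  have hq₂ : RedSub.IsQuotient dPr dInc :=
    isQuotient K.subtype (QuotientAddGroup.mk' K) hinj (QuotientAddGroup.mk'_surjective K)
      hex hzero dPr hdPr dInc hdInc
  have hq₃ : RedSub.IsQuotient i₁ (𝟙 _ ≫ dInc) := by
    haveI : IsMonHom (Iso.refl (Red.DS S M)).hom := by
      rw [Iso.refl_hom]; infer_instance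
    refine isQuotient_of_iso dPr dInc hq₂ (Iso.refl _) (asIso i') i₁ ?_
    rw [Iso.refl_hom, Category.comp_id, asIso_hom, hi']
  rw [Category.id_comp] at hq₃
  obtain ⟨e, hemon, -⟩ := exists_iso i₁ q₁ hq dInc hq₃
  exact ⟨K, (nonempty_grpIso_iff _ _).2 ⟨e, hemon⟩⟩

end Main

section Free

/-- `D_S(K) ≅ D_S(ℤ^{r'})` with `r' ≤ r` for a subgroup `K` of `ℤ^r`. -/
theorem split_of_subgroup (S : Scheme.{u}) (r : ℕ) (K : AddSubgroup (Fin r → ℤ)) :
    ∃ r' : ℕ, r' ≤ r ∧ Nonempty (Grp.mk (Red.DS S K) ≅ Grp.mk (Red.DS S (Fin r' → ℤ))) := by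
  obtain ⟨n, ⟨b⟩⟩ := Submodule.nonempty_basis_of_pid (Pi.basisFun ℤ (Fin r))
    (AddSubgroup.toIntSubmodule K)
  have hn : n ≤ r := by
    have h1 := Module.finrank_eq_card_basis b
    have h2 := Submodule.finrank_le (AddSubgroup.toIntSubmodule K)
    rw [h1, Fintype.card_fin, Module.finrank_fin_fun] at h2
    exact h2
  -- the additive equivalence `ℤ^n ≃ K`
  let e0 : (AddSubgroup.toIntSubmodule K) ≃+ (Fin n → ℤ) := b.equivFun.toAddEquiv
  let e : (Fin n → ℤ) ≃+ K :=
    { toFun := fun v => ⟨(e0.symm v).1, (e0.symm v).2⟩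
      invFun := fun k => e0 ⟨k.1, k.2⟩
      left_inv := fun v => by
        show e0 ⟨(e0.symm v).1, (e0.symm v).2⟩ = v
        exact e0.apply_symm_apply v
      right_inv := fun k => by
        apply Subtype.ext
        show (e0.symm (e0 ⟨k.1, k.2⟩)).1 = k.1
        rw [e0.symm_apply_apply]
      map_add' := fun v w => by
        apply Subtype.ext
        show (e0.symm (v + w)).1 = (e0.symm v).1 + (e0.symm w).1
        rw [map_add]
        rfl }
  obtain ⟨δ, hδmon, hδ⟩ := exists_dsHom (T := S) e.toAddMonoidHom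
  haveI := hδmon
  haveI : IsIso δ := isIso_dsHom e δ hδ
  refine ⟨n, hn, (nonempty_grpIso_iff _ _).2 ⟨asIso δ, ?_⟩⟩
  rw [asIso_hom]
  exact hδmon

end Free

end Groth.Agent.Lib.T2H7.QuotSplit
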