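import Mathlib
import Groth.Agent.Lib.T2H7QuotFlatB

/-!
# T2H7: quotients in stages, and the product of two quotients over a field (helper7)
-/

set_option autoImplicit false
set_option linter.style.haveILetI false
set_option linter.unusedSectionVars false
set_option linter.unusedVariables false
universe u

open CategoryTheory CategoryTheory.Limits AlgebraicGeometry

namespace Groth.Agent.Lib.T2H7.QuotStages

open Groth.Agent.Lib.Helper20

section Stages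

variable {W M N : Scheme.{u}} {G H : Type u} [Group G] [Group H]

/-- **Quotients in stages** for a product group. -/
theorem isQuot_comp_of_stages (θ : G × H →* Aut W) (σ' : H →* Aut M) (π₁ : W ⟶ M) (π₂ : M ⟶ N)
    (h1 : SGA1.IsQuot (θ.comp (MonoidHom.inl G H)) π₁) (h2 : SGA1.IsQuot σ' π₂)
    (heq : ∀ h : H, (θ (1, h)).hom ≫ π₁ = π₁ ≫ (σ' h).hom) : SGA1.IsQuot θ (π₁ ≫ π₂) := by
  have haff1 : IsAffineHom π₁ := h1.affine
  have haff2 : IsAffineHom π₂ := h2.affine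
  have hg1 : ∀ g : G, (θ (g, 1)).hom ≫ π₁ = π₁ := fun g => h1.inv g
  have hinv : ∀ γ : G × H, (θ γ).hom ≫ π₁ ≫ π₂ = π₁ ≫ π₂ := by
    rintro ⟨g, h⟩
    have e : ((g, h) : G × H) = (g, 1) * (1, h) := by simp
    have e2 : (θ (g, h)).hom = (θ (1, h)).hom ≫ (θ (g, 1)).hom := by
      rw [e, map_mul]; rfl
    rw [e2, Category.assoc, ← Category.assoc (θ (g, 1)).hom, hg1, ← Category.assoc, heq,
      Category.assoc, h2.inv]
  refine ⟨inferInstance, hinv, fun U => ?_, fun U s => ⟨?_, ?_⟩⟩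
  · have : ((π₁ ≫ π₂).app U).hom = (π₁.app (π₂ ⁻¹ᵁ U)).hom.comp (π₂.app U).hom := rfl
    rw [this]
    exact (h1.injective _).comp (h2.injective U)
  · rintro ⟨a, rfl⟩ γ
    have := appLE_invariant (σ := fun γ : G × H => (θ γ).hom) hinv U ((π₁ ≫ π₂) ⁻¹ᵁ U) le_rfl γ
      (SGA1.preimage_le_of_inv θ (π₁ ≫ π₂) hinv γ U) a
    rw [Scheme.Hom.appLE_eq_app] at this
    exact this
  · intro hs
    have hle1 : ∀ g : G, π₁ ⁻¹ᵁ (π₂ ⁻¹ᵁ U) ≤ (θ (g, 1)).hom ⁻¹ᵁ (π₁ ⁻¹ᵁ (π₂ ⁻¹ᵁ U)) :=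
      fun g => SGA1.preimage_le_of_inv (θ.comp (MonoidHom.inl G H)) π₁ h1.inv g (π₂ ⁻¹ᵁ U)
    have hs1 : (s : Γ(W, π₁ ⁻¹ᵁ (π₂ ⁻¹ᵁ U))) ∈ Set.range (π₁.app (π₂ ⁻¹ᵁ U)).hom :=
      (h1.range_iff (π₂ ⁻¹ᵁ U) s).2 (fun g => hs (g, 1))
    obtain ⟨m, hm⟩ := hs1
    have hleθ : ∀ h : H, π₁ ⁻¹ᵁ (π₂ ⁻¹ᵁ U) ≤ (θ (1, h)).hom ⁻¹ᵁ (π₁ ⁻¹ᵁ (π₂ ⁻¹ᵁ U)) :=
      fun h => SGA1.preimage_le_of_inv θ (π₁ ≫ π₂) hinv (1, h) U
    have hleσ : ∀ h : H, π₂ ⁻¹ᵁ U ≤ (σ' h).hom ⁻¹ᵁ (π₂ ⁻¹ᵁ U) :=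
      fun h => SGA1.preimage_le_of_inv σ' π₂ h2.inv h U
    have e2 : ∀ h : H, (σ' h).hom.appLE (π₂ ⁻¹ᵁ U) (π₂ ⁻¹ᵁ U) (hleσ h) ≫ π₁.app (π₂ ⁻¹ᵁ U) =
        π₁.app (π₂ ⁻¹ᵁ U) ≫ (θ (1, h)).hom.appLE (π₁ ⁻¹ᵁ (π₂ ⁻¹ᵁ U)) (π₁ ⁻¹ᵁ (π₂ ⁻¹ᵁ U))
          (hleθ h) := by
      intro h
      rw [Scheme.Hom.app_eq_appLE, Scheme.Hom.appLE_comp_appLE, Scheme.Hom.appLE_comp_appLE]
      exact (appLE_congr_hom (heq h) _ _ _).symm
    have hm2 : m ∈ Set.range (π₂.app U).hom := by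
      refine (h2.range_iff U m).2 (fun h => ?_)
      apply h1.injective (π₂ ⁻¹ᵁ U)
      have e1 := congrArg (fun f => f.hom m) (e2 h)
      simp only [CommRingCat.hom_comp, RingHom.coe_comp, Function.comp_apply] at e1
      refine e1.trans ?_
      rw [hm]
      exact hs (1, h)
    obtain ⟨n, hn⟩ := hm2
    refine ⟨n, ?_⟩
    show (π₁.app (π₂ ⁻¹ᵁ U)).hom ((π₂.app U).hom n) = s
    rw [hn, hm]

end Stages


section Product

variable {S X Y XG YH : Scheme.{u}} {G H : Type u} [Group G] [Finite G] [Group H] [Finite H]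
  (fX : X ⟶ S) (fY : Y ⟶ S) (gX : XG ⟶ S) (gY : YH ⟶ S)
  (ρ : G →* Aut X) (σ : H →* Aut Y) (hσ : ∀ h, (σ h).hom ≫ fY = fY)

/-- the action of `H` on `XG ×_S Y` through the second factor -/
noncomputable def mH (h : H) : pullback gX fY ⟶ pullback gX fY :=
  pullback.map gX fY gX fY (𝟙 _) (σ h).hom (𝟙 _) (by simp) (by simp [hσ h])

theorem mH_fst (h : H) : mH fY gX σ hσ h ≫ pullback.fst gX fY = pullback.fst gX fY :=
  (pullback.lift_fst _ _ _).trans (Category.comp_id _)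

theorem mH_snd (h : H) : mH fY gX σ hσ h ≫ pullback.snd gX fY = pullback.snd gX fY ≫ (σ h).hom :=
  pullback.lift_snd _ _ _

theorem mH_one : mH fY gX σ hσ 1 = 𝟙 _ := by
  apply pullback.hom_ext
  · rw [mH_fst, Category.id_comp]
  · rw [mH_snd, Category.id_comp, map_one]
    exact Category.comp_id _

theorem mH_mul (h h' : H) : mH fY gX σ hσ (h * h') = mH fY gX σ hσ h' ≫ mH fY gX σ hσ h := by
  apply pullback.hom_ext
  · rw [mH_fst, Category.assoc, mH_fst, mH_fst]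
  · rw [mH_snd, Category.assoc, mH_snd, ← Category.assoc, mH_snd, Category.assoc, map_mul]
    rfl

/-- the action of `H` on `XG ×_S Y` as a group homomorphism -/
noncomputable def actH : H →* Aut (pullback gX fY) where
  toFun h := ⟨mH fY gX σ hσ h, mH fY gX σ hσ h⁻¹,
    by rw [← mH_mul, inv_mul_cancel, mH_one], by rw [← mH_mul, mul_inv_cancel, mH_one]⟩
  map_one' := by
    ext1
    exact mH_one fY gX σ hσ
  map_mul' h h' := by
    ext1
    exact mH_mul fY gX σ hσ h h'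

theorem actH_hom (h : H) : (actH fY gX σ hσ h).hom = mH fY gX σ hσ h := rfl

variable [Flat fY] [Flat gX]
variable (p : X ⟶ XG) (hp : p ≫ gX = fX) (q : Y ⟶ YH) (hq : q ≫ gY = fY)
  (hP : SGA1.IsQuot ρ p) (hQ : SGA1.IsQuot σ q)
  (θ : G × H →* Aut (pullback fX fY))
  (hθ1 : ∀ gh : G × H, (θ gh).hom ≫ pullback.fst fX fY = pullback.fst fX fY ≫ (ρ gh.1).hom)
  (hθ2 : ∀ gh : G × H, (θ gh).hom ≫ pullback.snd fX fY = pullback.snd fX fY ≫ (σ gh.2).hom)
  (π : pullback fX fY ⟶ pullback gX gY)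
  (hπ1 : π ≫ pullback.fst gX gY = pullback.fst fX fY ≫ p)
  (hπ2 : π ≫ pullback.snd gX gY = pullback.snd fX fY ≫ q)

include hσ hp hq hP hQ hθ1 hθ2 hπ1 hπ2 in
/-- **Product of two quotients** over a base over which both factors are flat. -/
theorem isQuot_prod : SGA1.IsQuot θ π := by
  let π₁ : pullback fX fY ⟶ pullback gX fY :=
    pullback.map fX fY gX fY p (𝟙 Y) (𝟙 S) (by rw [Category.comp_id, hp])
      (by rw [Category.comp_id, Category.id_comp])
  let π₂ : pullback gX fY ⟶ pullback gX gY :=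
    pullback.map gX fY gX gY (𝟙 XG) q (𝟙 S) (by rw [Category.comp_id, Category.id_comp])
      (by rw [Category.comp_id, hq])
  have hπ₁1 : π₁ ≫ pullback.fst gX fY = pullback.fst fX fY ≫ p := pullback.lift_fst _ _ _
  have hπ₁2 : π₁ ≫ pullback.snd gX fY = pullback.snd fX fY :=
    (pullback.lift_snd _ _ _).trans (Category.comp_id _)
  have hπ₂1 : π₂ ≫ pullback.fst gX gY = pullback.fst gX fY :=
    (pullback.lift_fst _ _ _).trans (Category.comp_id _)
  have hπ₂2 : π₂ ≫ pullback.snd gX gY = pullback.snd gX fY ≫ q := pullback.lift_snd _ _ _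
  have hπ : π = π₁ ≫ π₂ := by
    apply pullback.hom_ext
    · rw [hπ1, Category.assoc, hπ₂1, hπ₁1]
    · rw [hπ2, Category.assoc, hπ₂2, ← Category.assoc, hπ₁2]
  -- first stage
  have sq1 : IsPullback (pullback.fst fX fY) π₁ p (pullback.fst gX fY) := by
    have houter : IsPullback (π₁ ≫ pullback.snd gX fY) (pullback.fst fX fY) fY (p ≫ gX) := by
      rw [hπ₁2, hp]
      exact (IsPullback.of_hasPullback fX fY).flip
    exact (IsPullback.of_right houter hπ₁1 (IsPullback.of_hasPullback gX fY).flip).flip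
  have hone : ∀ g : G, (ρ g).hom ≫ p = p := hP.inv
  have h1 : SGA1.IsQuot (θ.comp (MonoidHom.inl G H)) π₁ := by
    refine Groth.Agent.Lib.T2H7.QuotFlatB.isQuot_of_flat_isPullback ρ p hP (pullback.fst gX fY)
      (pullback.fst fX fY) π₁ sq1 (θ.comp (MonoidHom.inl G H)) (fun g => hθ1 (g, 1)) ?_
    intro g
    show (θ (g, 1)).hom ≫ π₁ = π₁
    apply pullback.hom_ext
    · rw [Category.assoc, hπ₁1, ← Category.assoc, hθ1, Category.assoc, hone]
    · rw [Category.assoc, hπ₁2, hθ2, map_one]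
      exact Category.comp_id _
  -- second stage
  have sq2 : IsPullback (pullback.snd gX fY) π₂ q (pullback.snd gX gY) := by
    have houter : IsPullback (π₂ ≫ pullback.fst gX gY) (pullback.snd gX fY) gX (q ≫ gY) := by
      rw [hπ₂1, hq]
      exact IsPullback.of_hasPullback gX fY
    exact (IsPullback.of_right houter hπ₂2 (IsPullback.of_hasPullback gX gY)).flip
  have hQinv : ∀ h : H, (σ h).hom ≫ q = q := hQ.inv
  have h2 : SGA1.IsQuot (actH fY gX σ hσ) π₂ := by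
    refine Groth.Agent.Lib.T2H7.QuotFlatB.isQuot_of_flat_isPullback σ q hQ (pullback.snd gX gY)
      (pullback.snd gX fY) π₂ sq2 (actH fY gX σ hσ) (fun h => mH_snd fY gX σ hσ h) ?_
    intro h
    rw [actH_hom]
    apply pullback.hom_ext
    · rw [Category.assoc, hπ₂1, mH_fst]
    · rw [Category.assoc, hπ₂2, ← Category.assoc, mH_snd, Category.assoc, hQinv]
  rw [hπ]
  refine isQuot_comp_of_stages θ (actH fY gX σ hσ) π₁ π₂ h1 h2 ?_
  intro h
  rw [actH_hom]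
  apply pullback.hom_ext
  · rw [Category.assoc, hπ₁1, ← Category.assoc, hθ1, map_one, Category.assoc, Category.assoc,
      mH_fst, hπ₁1]
    rfl
  · rw [Category.assoc, hπ₁2, hθ2, Category.assoc, mH_snd, ← Category.assoc, hπ₁2]

end Product

end Groth.Agent.Lib.T2H7.QuotStages
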