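import Groth.Agent.Lib.T2H7QuotUniq
import Groth.Agent.Lib.Helper11QuotTower
import Groth.Agent.Lib.Helper12Flat
import Groth.Agent.S0114

/-!
Third isomorphism theorem for fppf quotients of group schemes: `(G/H)/(K/H) = G/K`.
-/

set_option autoImplicit false
set_option linter.unusedSectionVars false
set_option linter.unusedVariables false
set_option linter.style.haveILetI false
universe u
open CategoryTheory CategoryTheory.Limits MonoidalCategory CartesianMonoidalCategory MonObj GrpObj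
  AlgebraicGeometry

namespace Groth.Agent.Lib.T2H7.QuotThird

open Groth.Agent.Lib.Helper12.QuotGrp Groth.Agent.Lib.Helper12 Groth.Agent.Lib.Helper11QuotTower

variable {S : Scheme.{u}}

/-- base change of an fppf morphism (in `Over S`) is a covering. -/
theorem isCov_of_isPullback {A B C D : Over S} {t : A ⟶ B} {l : A ⟶ C} {r : B ⟶ D} {b : C ⟶ D}
    (sq : IsPullback t l r b) [Flat r.left] [Surjective r.left]
    [LocallyOfFinitePresentation r.left] :
    Flat l.left ∧ Surjective l.left ∧ LocallyOfFinitePresentation l.left :=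
  ⟨MorphismProperty.of_isPullback (P := @Flat) (sq.map (Over.forget S)) ‹Flat r.left›,
    MorphismProperty.of_isPullback (P := @Surjective) (sq.map (Over.forget S))
      ‹Surjective r.left›,
    MorphismProperty.of_isPullback (P := @LocallyOfFinitePresentation) (sq.map (Over.forget S))
      ‹LocallyOfFinitePresentation r.left›⟩

/-- descent of a factorisation through a monomorphism along a covering. -/
theorem exists_factor_of_cov {T' T K G : Over S} (π : T' ⟶ T) (hπ : IsCov π) (k : K ⟶ G) [Mono k]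
    (f : T ⟶ G) (κ' : T' ⟶ K) (hκ : κ' ≫ k = π ≫ f) : ∃ κ : T ⟶ K, κ ≫ k = f := by
  haveI := hπ.effectiveEpi
  haveI := hπ.epi
  obtain ⟨κ, hκ2⟩ := exists_desc_of_isPullback π (IsPullback.of_hasPullback π π) κ' (by
    rw [← cancel_mono k, Category.assoc, Category.assoc, hκ, ← Category.assoc, ← Category.assoc,
      pullback.condition])
  refine ⟨κ, ?_⟩
  rw [← cancel_epi π, ← Category.assoc, hκ2, hκ]

/-- a square `(fst, act)` over `q` is cartesian as soon as points with the same image differ by a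
unique point of the subgroup. -/
theorem isPullback_of_exists {G H Q : Over S} [GrpObj G] (i : H ⟶ G) [Mono i] (q : G ⟶ Q)
    (hw : fst G H ≫ q = ((G ◁ i) ≫ μ[G]) ≫ q)
    (hex : ∀ (T : Over S) (a b : T ⟶ G), a ≫ q = b ≫ q → ∃ t : T ⟶ H, a * (t ≫ i) = b) :
    IsPullback (fst G H) ((G ◁ i) ≫ μ[G]) q q := by
  refine ⟨⟨hw⟩, ⟨PullbackCone.isLimitAux' _ (fun s => ?_)⟩⟩
  have hc := Classical.indefiniteDescription _ (hex s.pt s.fst s.snd s.condition)
  refine ⟨lift s.fst hc.1, ?_, ?_, ?_⟩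
  · exact lift_fst _ _
  · change lift s.fst hc.1 ≫ (G ◁ i) ≫ μ[G] = s.snd
    rw [comp_whiskerLeft_comp_mul, lift_fst, ← Category.assoc, lift_snd]
    exact hc.2
  · intro m hm1 hm2
    have key : ∀ (m : s.pt ⟶ G ⊗ H), m ≫ fst G H = s.fst → m ≫ (G ◁ i) ≫ μ[G] = s.snd →
        m = lift s.fst hc.1 := by
      intro m hm1 hm2
      apply CartesianMonoidalCategory.hom_ext
      · rw [lift_fst, hm1]
      · rw [lift_snd, ← cancel_mono i]
        rw [comp_whiskerLeft_comp_mul, hm1, ← hc.2, mul_right_inj, ← Category.assoc] at hm2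
        exact hm2
    exact key m hm1 hm2

section Main

variable {H K G QH Kb : Over S} [GrpObj H] [GrpObj K] [GrpObj G] [GrpObj Kb]

/-- pointwise form of the compatibility of the action with the multiplication. -/
theorem act_pt (k : K ⟶ G) (qH : G ⟶ QH) (qKb : K ⟶ Kb) (act : QH ⊗ Kb ⟶ QH)
    (hact : (qH ⊗ₘ qKb) ≫ act = (G ◁ k) ≫ μ[G] ≫ qH) {T : Over S} (g : T ⟶ G) (κ : T ⟶ K) :
    lift (g ≫ qH) (κ ≫ qKb) ≫ act = (g * (κ ≫ k)) ≫ qH := by
  have h1 : lift (g ≫ qH) (κ ≫ qKb) = lift g κ ≫ (qH ⊗ₘ qKb) := by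
    rw [lift_map]
  have h2 : (G ◁ k) ≫ μ[G] ≫ qH = ((G ◁ k) ≫ μ[G]) ≫ qH := (Category.assoc _ _ _).symm
  rw [h1, Category.assoc, hact, h2, ← Category.assoc, comp_whiskerLeft_comp_mul, lift_fst,
    ← Category.assoc, lift_snd]

/-- two points of `G` with the same image in `Y = QH/Kb` differ by a point of `K`. -/
theorem exists_K_of_eq (h : H ⟶ K) (k : K ⟶ G) [Mono k] [IsMonHom k]
    (qH : G ⟶ QH) (hqH : RedSub.IsQuotient (h ≫ k) qH)
    (qKb : K ⟶ Kb) (hqKb : RedSub.IsQuotient h qKb)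
    (act : QH ⊗ Kb ⟶ QH) (hact : (qH ⊗ₘ qKb) ≫ act = (G ◁ k) ≫ μ[G] ≫ qH)
    {Y : Over S} (p : QH ⟶ Y) (hp : IsPullback (fst QH Kb) act p p)
    {T : Over S} (a b : T ⟶ G) (hab : (a ≫ qH) ≫ p = (b ≫ qH) ≫ p) :
    ∃ κ : T ⟶ K, a * (κ ≫ k) = b := by
  obtain ⟨z, hz⟩ : ∃ z : T ⟶ QH ⊗ Kb, z = hp.lift (a ≫ qH) (b ≫ qH) hab := ⟨_, rfl⟩
  have hz1 : z ≫ fst QH Kb = a ≫ qH := by rw [hz, hp.lift_fst]
  have hz2 : z ≫ act = b ≫ qH := by rw [hz, hp.lift_snd]
  obtain ⟨π, hπdef⟩ : ∃ π : pullback (z ≫ snd QH Kb) qKb ⟶ T,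
      π = pullback.fst (z ≫ snd QH Kb) qKb := ⟨_, rfl⟩
  obtain ⟨κ', hκdef⟩ : ∃ κ' : pullback (z ≫ snd QH Kb) qKb ⟶ K,
      κ' = pullback.snd (z ≫ snd QH Kb) qKb := ⟨_, rfl⟩
  have hsq : IsPullback κ' π qKb (z ≫ snd QH Kb) := by
    rw [hπdef, hκdef]
    exact (IsPullback.of_hasPullback _ _).flip
  haveI := hqKb.1
  haveI := hqKb.2.1
  haveI := hqKb.2.2.1
  obtain ⟨f1, f2, f3⟩ := isCov_of_isPullback hsq
  have hπ : IsCov π := IsCov.of_fppf π
  have hπz : π ≫ z = lift ((π ≫ a) ≫ qH) (κ' ≫ qKb) := by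
    apply CartesianMonoidalCategory.hom_ext
    · rw [Category.assoc, hz1, lift_fst, Category.assoc]
    · rw [Category.assoc, lift_snd]
      exact hsq.w.symm
  have h1 : ((π ≫ a) * (κ' ≫ k)) ≫ qH = (π ≫ b) ≫ qH := by
    rw [← act_pt k qH qKb act hact, ← hπz, Category.assoc, hz2, Category.assoc]
  obtain ⟨e, he⟩ := exists_of_quot (h ≫ k) qH hqH.2.2.2 _ _ h1
  refine (exists_factor_of_cov π hπ k (a⁻¹ * b) (κ' * (e ≫ h)) ?_).imp (fun κ hκ => ?_)
  · rw [MonObj.mul_comp, Category.assoc, MonObj.comp_mul, GrpObj.comp_inv, ← he,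
      _root_.mul_assoc, inv_mul_cancel_left]
  · rw [hκ, mul_inv_cancel_left]

/-- **Part (ii)**: a quotient of `G/H` by `K/H` is a quotient of `G` by `K`. -/
theorem quot_of_quot (h : H ⟶ K) (k : K ⟶ G) [Mono k] [IsMonHom k]
    (qH : G ⟶ QH) (hqH : RedSub.IsQuotient (h ≫ k) qH)
    (qKb : K ⟶ Kb) (hqKb : RedSub.IsQuotient h qKb)
    (act : QH ⊗ Kb ⟶ QH) (hact : (qH ⊗ₘ qKb) ≫ act = (G ◁ k) ≫ μ[G] ≫ qH)
    {Y : Over S} (p : QH ⟶ Y) (hp1 : Surjective p.left) (hp2 : Flat p.left)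
    (hp3 : LocallyOfFinitePresentation p.left)
    (hp : IsPullback (fst QH Kb) act p p) : RedSub.IsQuotient k (qH ≫ p) := by
  haveI := hqH.1
  haveI := hqH.2.1
  haveI := hqH.2.2.1
  refine ⟨?_, ?_, ?_, ?_⟩
  · rw [Over.comp_left]; infer_instance
  · rw [Over.comp_left]; infer_instance
  · rw [Over.comp_left]; infer_instance
  · refine isPullback_of_exists k (qH ≫ p) ?_ (fun T a b hab => ?_)
    · have e1 : fst G K ≫ qH = (qH ⊗ₘ qKb) ≫ fst QH Kb := (tensorHom_fst _ _).symm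
      rw [← Category.assoc, e1, Category.assoc, hp.w, ← Category.assoc, hact]
      simp only [Category.assoc]
    · exact exists_K_of_eq h k qH hqH qKb hqKb act hact p hp a b
        (by simpa only [Category.assoc] using hab)

/-- **Part (i)**: `G/H ⟶ G/K` is an fppf covering with kernel pair `(fst, act)`. -/
theorem quot_tower (h : H ⟶ K) (k : K ⟶ G) [Mono k] [IsMonHom k]
    (qH : G ⟶ QH) (hqH : RedSub.IsQuotient (h ≫ k) qH)
    (qKb : K ⟶ Kb) [IsMonHom qKb] (hqKb : RedSub.IsQuotient h qKb)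
    (act : QH ⊗ Kb ⟶ QH) (hact : (qH ⊗ₘ qKb) ≫ act = (G ◁ k) ≫ μ[G] ≫ qH)
    {QK : Over S} (qK : G ⟶ QK) (hqK : RedSub.IsQuotient k qK) (qbar : QH ⟶ QK)
    (hq : qH ≫ qbar = qK) :
    Surjective qbar.left ∧ Flat qbar.left ∧ LocallyOfFinitePresentation qbar.left ∧
      IsPullback (fst QH Kb) act qbar qbar := by
  haveI := hqH.1
  haveI := hqH.2.1
  haveI := hqH.2.2.1
  haveI := hqK.1
  haveI := hqK.2.1
  haveI := hqK.2.2.1
  have hql : qH.left ≫ qbar.left = qK.left := by rw [← Over.comp_left, hq]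
  have s1 : Surjective qbar.left := by
    haveI : Surjective (qH.left ≫ qbar.left) := by rw [hql]; infer_instance
    exact Surjective.of_comp qH.left qbar.left
  have s2 : Flat qbar.left := by
    haveI : Flat (qH.left ≫ qbar.left) := by rw [hql]; infer_instance
    exact flat_of_comp_of_flat_of_surjective qH.left qbar.left
  have s3 : LocallyOfFinitePresentation qbar.left := by
    haveI : LocallyOfFinitePresentation (qH.left ≫ qbar.left) := by rw [hql]; infer_instance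
    exact Groth.Agent.S0114.result qH.left qbar.left
  refine ⟨s1, s2, s3, ?_⟩
  have hcH := QuotUniq.isCov_of_isQuotient _ qH hqH
  have hcKb := QuotUniq.isCov_of_isQuotient _ qKb hqKb
  haveI := hcH.epi_tensorHom hcKb
  obtain ⟨mK, hmK⟩ : ∃ mK : G ⊗ K ⟶ G, mK = (G ◁ k) ≫ μ[G] := ⟨_, rfl⟩
  have hactm : (qH ⊗ₘ qKb) ≫ act = mK ≫ qH := by rw [hact, hmK, Category.assoc]
  have hqKw : fst G K ≫ qK = mK ≫ qK := by rw [hmK]; exact hqK.2.2.2.w
  have hw : fst QH Kb ≫ qbar = act ≫ qbar := by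
    have e1 : (qH ⊗ₘ qKb) ≫ fst QH Kb ≫ qbar = fst G K ≫ qK := by
      rw [← Category.assoc, tensorHom_fst, Category.assoc, hq]
    have e2 : (qH ⊗ₘ qKb) ≫ act ≫ qbar = mK ≫ qK := by
      rw [← Category.assoc, hactm, Category.assoc, hq]
    rw [← cancel_epi (qH ⊗ₘ qKb), e1, e2]
    exact hqKw
  obtain ⟨t, ht⟩ : ∃ t : QH ⊗ Kb ⟶ pullback qbar qbar,
      t = pullback.lift (fst QH Kb) act hw := ⟨_, rfl⟩
  have ht1 : t ≫ pullback.fst qbar qbar = fst QH Kb := by rw [ht, pullback.lift_fst]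
  have ht2 : t ≫ pullback.snd qbar qbar = act := by rw [ht, pullback.lift_snd]
  have hmw : (fst G K ≫ qH) ≫ qbar = mK ≫ qK := by rw [Category.assoc, hq]; exact hqKw
  obtain ⟨ce, hce⟩ : ∃ ce : G ⊗ K ⟶ pullback qbar qK,
      ce = pullback.lift (fst G K ≫ qH) mK hmw := ⟨_, rfl⟩
  have hce1 : ce ≫ pullback.fst qbar qK = fst G K ≫ qH := by rw [hce, pullback.lift_fst]
  have hce2 : ce ≫ pullback.snd qbar qK = mK := by rw [hce, pullback.lift_snd]
  have hdw : pullback.fst qbar qK ≫ qbar = (pullback.snd qbar qK ≫ qH) ≫ qbar := by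
    rw [Category.assoc, hq]; exact pullback.condition
  obtain ⟨cd, hcd⟩ : ∃ cd : pullback qbar qK ⟶ pullback qbar qbar,
      cd = pullback.lift (pullback.fst qbar qK) (pullback.snd qbar qK ≫ qH) hdw := ⟨_, rfl⟩
  have hcd1 : cd ≫ pullback.fst qbar qbar = pullback.fst qbar qK := by
    rw [hcd, pullback.lift_fst]
  have hcd2 : cd ≫ pullback.snd qbar qbar = pullback.snd qbar qK ≫ qH := by
    rw [hcd, pullback.lift_snd]
  have sqe : IsPullback (fst G K) ce qH (pullback.fst qbar qK) := by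
    refine IsPullback.of_bot ?_ hce1.symm (IsPullback.of_hasPullback qbar qK)
    rw [hce2, hq, hmK]
    exact hqK.2.2.2
  have sqd : IsPullback (pullback.snd qbar qK) cd qH (pullback.snd qbar qbar) := by
    refine IsPullback.of_bot ?_ hcd2.symm (IsPullback.of_hasPullback qbar qbar).flip
    rw [hcd1, hq]
    exact (IsPullback.of_hasPullback qbar qK).flip
  obtain ⟨a1, a2, a3⟩ := isCov_of_isPullback sqe
  obtain ⟨b1, b2, b3⟩ := isCov_of_isPullback sqd
  have hc1 : (ce ≫ cd) ≫ pullback.fst qbar qbar = fst G K ≫ qH := by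
    rw [Category.assoc, hcd1, hce1]
  have hc2 : (ce ≫ cd) ≫ pullback.snd qbar qbar = mK ≫ qH := by
    rw [Category.assoc, hcd2, ← Category.assoc, hce2]
  have hc : (qH ⊗ₘ qKb) ≫ t = ce ≫ cd := by
    apply pullback.hom_ext
    · rw [Category.assoc, ht1, tensorHom_fst, hc1]
    · rw [Category.assoc, ht2, hactm, hc2]
  have hcov : IsCov (ce ≫ cd) := by
    haveI : Flat (ce ≫ cd).left := by rw [Over.comp_left]; infer_instance
    haveI : Surjective (ce ≫ cd).left := by rw [Over.comp_left]; infer_instance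
    haveI : LocallyOfFinitePresentation (ce ≫ cd).left := by rw [Over.comp_left]; infer_instance
    exact IsCov.of_fppf _
  haveI := hcov.effectiveEpi
  haveI := hcov.epi
  have hker : pullback.fst (ce ≫ cd) (ce ≫ cd) ≫ (qH ⊗ₘ qKb) =
      pullback.snd (ce ≫ cd) (ce ≫ cd) ≫ (qH ⊗ₘ qKb) := by
    obtain ⟨r₁, hr₁⟩ : ∃ r₁ : pullback (ce ≫ cd) (ce ≫ cd) ⟶ G ⊗ K,
        r₁ = pullback.fst (ce ≫ cd) (ce ≫ cd) := ⟨_, rfl⟩
    obtain ⟨r₂, hr₂⟩ : ∃ r₂ : pullback (ce ≫ cd) (ce ≫ cd) ⟶ G ⊗ K,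
        r₂ = pullback.snd (ce ≫ cd) (ce ≫ cd) := ⟨_, rfl⟩
    rw [← hr₁, ← hr₂]
    have hT : r₁ ≫ (ce ≫ cd) = r₂ ≫ (ce ≫ cd) := by rw [hr₁, hr₂]; exact pullback.condition
    have hg : (r₁ ≫ fst G K) ≫ qH = (r₂ ≫ fst G K) ≫ qH := by
      rw [Category.assoc, Category.assoc, ← hc1, ← Category.assoc r₁, ← Category.assoc r₂, hT]
    have hm : (r₁ ≫ mK) ≫ qH = (r₂ ≫ mK) ≫ qH := by
      rw [Category.assoc, Category.assoc, ← hc2, ← Category.assoc r₁, ← Category.assoc r₂, hT]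
    obtain ⟨e₁, he₁⟩ := exists_of_quot (h ≫ k) qH hqH.2.2.2 _ _ hg
    obtain ⟨e₂, he₂⟩ := exists_of_quot (h ≫ k) qH hqH.2.2.2 _ _ hm
    have hmpt : ∀ r : pullback (ce ≫ cd) (ce ≫ cd) ⟶ G ⊗ K,
        r ≫ mK = (r ≫ fst G K) * ((r ≫ snd G K) ≫ k) := by
      intro r
      rw [hmK, comp_whiskerLeft_comp_mul, Category.assoc]
    rw [hmpt, hmpt, ← he₁, _root_.mul_assoc, _root_.mul_assoc, mul_right_inj] at he₂
    have hK : (r₁ ≫ snd G K) * (e₂ ≫ h) = (e₁ ≫ h) * (r₂ ≫ snd G K) := by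
      rw [← cancel_mono k, MonObj.mul_comp, MonObj.mul_comp, Category.assoc e₂ h k,
        Category.assoc e₁ h k]
      exact he₂
    have hone : (e₁ ≫ h) ≫ qKb = 1 := by
      have := quot_w h qKb hqKb.2.2.2 (1 : _ ⟶ K) e₁
      rwa [_root_.one_mul, MonObj.one_comp] at this
    have hKb : (r₁ ≫ snd G K) ≫ qKb = (r₂ ≫ snd G K) ≫ qKb := by
      have : ((r₁ ≫ snd G K) * (e₂ ≫ h)) ≫ qKb = ((e₁ ≫ h) * (r₂ ≫ snd G K)) ≫ qKb :=
        congrArg (fun f => f ≫ qKb) hK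
      rwa [quot_w h qKb hqKb.2.2.2, MonObj.mul_comp, hone, _root_.one_mul] at this
    apply CartesianMonoidalCategory.hom_ext
    · rw [Category.assoc, Category.assoc, tensorHom_fst, ← Category.assoc, ← Category.assoc]
      exact hg
    · rw [Category.assoc, Category.assoc, tensorHom_snd, ← Category.assoc, ← Category.assoc]
      exact hKb
  obtain ⟨s, hs⟩ := exists_desc_of_isPullback (ce ≫ cd) (IsPullback.of_hasPullback _ _)
    (qH ⊗ₘ qKb) hker
  have hts : t ≫ s = 𝟙 _ := by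
    rw [← cancel_epi (qH ⊗ₘ qKb), ← Category.assoc, hc, hs, Category.comp_id]
  have hst : s ≫ t = 𝟙 _ := by
    rw [← cancel_epi (ce ≫ cd), ← Category.assoc, hs, hc, Category.comp_id]
  exact IsPullback.of_iso_pullback ⟨hw⟩ ⟨t, s, hts, hst⟩ ht1 ht2

end Main

end Groth.Agent.Lib.T2H7.QuotThird
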