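import Mathlib
import Groth.Agent.Lib.T2H7ValFp
import Groth.Agent.Lib.T2H7FibDimPd
import Groth.Agent.Lib.T2H7PdFibB

/-!
# Projective dimension over local rings of flat finitely presented algebras over a valuation ring
(helper7)
-/

set_option autoImplicit false
set_option linter.unusedSectionVars false
universe u
open MvPolynomial CategoryTheory

namespace Groth.Agent.Lib.T2H7.ValPd

open Groth.Agent.Lib.T2H7.ValFp Groth.Agent.Lib.T2H7.PdTorC

section Coh

variable (V : Type u) [CommRing V] [IsDomain V] [ValuationRing V]
  (B : Type u) [CommRing B] [Algebra V B] [Algebra.FiniteType V B] (q : Ideal B) [q.IsPrime]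

/-- Finite `V`-torsion-free modules over `B_q` are finitely presented. -/
theorem fp_of_finite_torsionFree (N : Type*) [AddCommGroup N] [Module (Localization.AtPrime q) N]
    [Module V N] [IsScalarTower V (Localization.AtPrime q) N]
    [Module.Finite (Localization.AtPrime q) N]
    (htf : ∀ (a : V) (x : N), a ≠ 0 → a • x = 0 → x = 0) :
    Module.FinitePresentation (Localization.AtPrime q) N := by
  obtain ⟨m, f, hf⟩ := Algebra.FiniteType.iff_quotient_mvPolynomial''.mp
    (inferInstance : Algebra.FiniteType V B)
  let ψ : MvPolynomial (Fin m) V →ₐ[V] Localization.AtPrime q :=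
    (IsScalarTower.toAlgHom V B (Localization.AtPrime q)).comp f
  have hψ : ∀ p, ψ p = algebraMap B (Localization.AtPrime q) (f p) := fun p => rfl
  refine finitePresentation_of_torsionFree ψ ?_ htf
  intro x
  obtain ⟨b, t, rfl⟩ := IsLocalization.exists_mk'_eq q.primeCompl x
  obtain ⟨pt, hpt⟩ := hf t.1
  obtain ⟨p, hp⟩ := hf b
  refine ⟨pt, p, ?_, ?_⟩
  · rw [hψ, hpt]
    exact IsLocalization.map_units _ t
  · rw [hψ, hψ, hpt, hp]
    exact IsLocalization.mk'_spec' _ b t

end Coh

section Pd

variable (V : Type u) [CommRing V] [IsDomain V] [ValuationRing V]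
  (B : Type u) [CommRing B] [Algebra V B] [Module.Flat V B] [Algebra.FinitePresentation V B]
  (q : Ideal B) [q.IsPrime]

/-- Finitely generated submodules of `V`-flat `B_q`-modules are finitely presented. -/
theorem fp_submodule {F : Type*} [AddCommGroup F] [Module (Localization.AtPrime q) F] [Module V F]
    [IsScalarTower V (Localization.AtPrime q) F] [Module.Flat V F]
    (K : Submodule (Localization.AtPrime q) F) (hK : K.FG) :
    Module.FinitePresentation (Localization.AtPrime q) K := by
  have : Module.Finite (Localization.AtPrime q) K := Module.Finite.iff_fg.mpr hK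
  refine fp_of_finite_torsionFree V B q K ?_
  intro a x ha hx
  apply Subtype.ext
  exact torsionFree_of_flat a (x : F) ha (congrArg Subtype.val hx)

theorem flat_submodule {F : Type*} [AddCommGroup F] [Module (Localization.AtPrime q) F] [Module V F]
    [IsScalarTower V (Localization.AtPrime q) F] [Module.Flat V F]
    (K : Submodule (Localization.AtPrime q) F) : Module.Flat V K := by
  refine flat_of_torsionFree ?_
  intro a x ha hx
  apply Subtype.ext
  exact torsionFree_of_flat a (x : F) ha (congrArg Subtype.val hx)

/-- Every finitely presented `B_q`-module has projective dimension `≤ n + 1`. -/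
theorem hasPDLT_succ (n : ℕ)
    (hreg : IsRegularLocalRing (Localization.AtPrime q ⧸
      Ideal.map (algebraMap V (Localization.AtPrime q)) (Ideal.comap (algebraMap V B) q)))
    (hn : ringKrullDim (Localization.AtPrime q ⧸
      Ideal.map (algebraMap V (Localization.AtPrime q)) (Ideal.comap (algebraMap V B) q)) = n)
    (M : Type u) [AddCommGroup M] [Module (Localization.AtPrime q) M]
    [Module.FinitePresentation (Localization.AtPrime q) M] :
    HasProjectiveDimensionLT (ModuleCat.of (Localization.AtPrime q) M) (n + 2) := by
  obtain ⟨k, m, π, g, hπ, hex⟩ := Module.FinitePresentation.exists_fin' (Localization.AtPrime q) M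
  have hker : (LinearMap.ker π).FG := by
    rw [LinearMap.exact_iff] at hex
    rw [hex, LinearMap.range_eq_map]
    exact Module.Finite.fg_top.map g
  have hFl : Module.Flat V (Fin k → Localization.AtPrime q) :=
    Module.Flat.trans V (Localization.AtPrime q) _
  have h1 : Module.FinitePresentation (Localization.AtPrime q) (LinearMap.ker π) :=
    fp_submodule V B q _ hker
  have h2 : Module.Flat V (LinearMap.ker π) := flat_submodule V B q _
  have h3 := Groth.Agent.Lib.T2H7.FibDimPd.hasPDLE_of_regular_fibre V B q n hreg hn
    (LinearMap.ker π)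
  have hS := kerSC_shortExact π hπ
  have hproj : Projective (kerSC π).X₂ :=
    projective_of_module_projective (Fin k → Localization.AtPrime q)
  exact (hS.hasProjectiveDimensionLT_X₃_iff n hproj).mpr h3

end Pd

section DualGen

/-- The dual of a cokernel is the kernel of the dual map. -/
theorem nonempty_dual_equiv_ker {R : Type*} [CommRing R] {G F M : Type*} [AddCommGroup G]
    [Module R G] [AddCommGroup F] [Module R F] [AddCommGroup M] [Module R M]
    (g : G →ₗ[R] F) (π : F →ₗ[R] M) (hπ : Function.Surjective π) (hex : Function.Exact g π) :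
    Nonempty (Module.Dual R M ≃ₗ[R] LinearMap.ker g.dualMap) := by
  have hrange : LinearMap.range π.dualMap = LinearMap.ker g.dualMap := by
    rw [LinearMap.range_dualMap_eq_dualAnnihilator_ker_of_surjective π hπ,
      LinearMap.ker_dualMap_eq_dualAnnihilator_range, (LinearMap.exact_iff.mp hex)]
  exact ⟨(LinearEquiv.ofInjective π.dualMap (LinearMap.dualMap_injective_of_surjective hπ)).trans
      (LinearEquiv.ofEq _ _ hrange)⟩

end DualGen

section Refl

variable (V : Type u) [CommRing V] [IsDomain V] [ValuationRing V]
  (B : Type u) [CommRing B] [Algebra V B] [Module.Flat V B] [Algebra.FinitePresentation V B]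
  (q : Ideal B) [q.IsPrime]

/-- Kernels of maps from finite modules to `V`-flat modules are finitely generated
(coherence of `B_q`). -/
theorem fg_ker {F₁ F₂ : Type*} [AddCommGroup F₁] [Module (Localization.AtPrime q) F₁]
    [Module.Finite (Localization.AtPrime q) F₁] [AddCommGroup F₂]
    [Module (Localization.AtPrime q) F₂] [Module V F₂]
    [IsScalarTower V (Localization.AtPrime q) F₂] [Module.Flat V F₂]
    (h : F₁ →ₗ[Localization.AtPrime q] F₂) : (LinearMap.ker h).FG := by
  have hr : (LinearMap.range h).FG := by
    rw [LinearMap.range_eq_map]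
    exact Module.Finite.fg_top.map h
  have : Module.FinitePresentation (Localization.AtPrime q) (LinearMap.range h) :=
    fp_submodule V B q _ hr
  have h2 := Module.FinitePresentation.fg_ker h.rangeRestrict h.surjective_rangeRestrict
  rwa [LinearMap.ker_rangeRestrict] at h2

/-- The dual of a finitely presented `B_q`-module is finitely presented. -/
theorem fp_dual (V : Type u) [CommRing V] [IsDomain V] [ValuationRing V]
    (B : Type u) [CommRing B] [Algebra V B] [Module.Flat V B] [Algebra.FinitePresentation V B]
    (q : Ideal B) [q.IsPrime] (M : Type u) [AddCommGroup M] [Module (Localization.AtPrime q) M]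
    [Module.FinitePresentation (Localization.AtPrime q) M] :
    Module.FinitePresentation (Localization.AtPrime q)
      (Module.Dual (Localization.AtPrime q) M) := by
  obtain ⟨k, m, π, g, hπ, hex⟩ := Module.FinitePresentation.exists_fin' (Localization.AtPrime q) M
  have hFl : Module.Flat V (Module.Dual (Localization.AtPrime q)
      (Fin m → Localization.AtPrime q)) := Module.Flat.trans V (Localization.AtPrime q) _
  have hFl' : Module.Flat V (Module.Dual (Localization.AtPrime q)
      (Fin k → Localization.AtPrime q)) := Module.Flat.trans V (Localization.AtPrime q) _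
  have hfg : (LinearMap.ker g.dualMap).FG := fg_ker V B q g.dualMap
  have hfp : Module.FinitePresentation (Localization.AtPrime q) (LinearMap.ker g.dualMap) :=
    fp_submodule V B q _ hfg
  obtain ⟨e⟩ := nonempty_dual_equiv_ker g π hπ hex
  exact Module.FinitePresentation.of_equiv (M := LinearMap.ker g.dualMap) e.symm

/-- Kernels of maps of finite projective `B_q`-modules have projective dimension `≤ n - 1`. -/
theorem hasPDLT_ker (n : ℕ)
    (hreg : IsRegularLocalRing (Localization.AtPrime q ⧸
      Ideal.map (algebraMap V (Localization.AtPrime q)) (Ideal.comap (algebraMap V B) q)))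
    (hn : ringKrullDim (Localization.AtPrime q ⧸
      Ideal.map (algebraMap V (Localization.AtPrime q)) (Ideal.comap (algebraMap V B) q)) = n)
    {F₁ F₂ : Type u} [AddCommGroup F₁] [Module (Localization.AtPrime q) F₁]
    [Module.Finite (Localization.AtPrime q) F₁] [Module.Projective (Localization.AtPrime q) F₁]
    [AddCommGroup F₂] [Module (Localization.AtPrime q) F₂]
    [Module.Finite (Localization.AtPrime q) F₂] [Module.Projective (Localization.AtPrime q) F₂]
    (h : F₁ →ₗ[Localization.AtPrime q] F₂) :
    HasProjectiveDimensionLT (ModuleCat.of (Localization.AtPrime q) (LinearMap.ker h))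
      (n - 1 + 1) := by
  have hr : (LinearMap.range h).FG := by
    rw [LinearMap.range_eq_map]
    exact Module.Finite.fg_top.map h
  have : Module.FinitePresentation (Localization.AtPrime q) F₂ :=
    Module.finitePresentation_of_projective (Localization.AtPrime q) F₂
  have hC : Module.FinitePresentation (Localization.AtPrime q) (F₂ ⧸ LinearMap.range h) :=
    Module.finitePresentation_of_surjective (LinearMap.range h).mkQ (Submodule.mkQ_surjective _)
      (by rw [Submodule.ker_mkQ]; exact hr)
  have pdC := hasPDLT_succ V B q n hreg hn (F₂ ⧸ LinearMap.range h)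
  have hS1 := Groth.Agent.Lib.T2H7.PdFibB.mkSC_shortExact (LinearMap.range h).subtype
    (LinearMap.range h).mkQ Subtype.val_injective (Submodule.mkQ_surjective _)
    (LinearMap.exact_subtype_mkQ _)
  have hproj2 : Projective (ModuleCat.of (Localization.AtPrime q) F₂) :=
    projective_of_module_projective F₂
  have hproj1 : Projective (ModuleCat.of (Localization.AtPrime q) F₁) :=
    projective_of_module_projective F₁
  have pdF2 : HasProjectiveDimensionLT (ModuleCat.of (Localization.AtPrime q) F₂) (n + 1) :=
    hasProjectiveDimensionLT_of_ge _ 1 (n + 1) (by omega)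
  have pdR : HasProjectiveDimensionLT (ModuleCat.of (Localization.AtPrime q) (LinearMap.range h))
      (n + 1) := hS1.hasProjectiveDimensionLT_X₁ (n + 1) pdF2 pdC
  have hS2 := Groth.Agent.Lib.T2H7.PdFibB.mkSC_shortExact (LinearMap.ker h).subtype
    h.rangeRestrict Subtype.val_injective h.surjective_rangeRestrict
    (by
      intro x
      constructor
      · intro hx
        refine ⟨⟨x, ?_⟩, rfl⟩
        rw [LinearMap.mem_ker]
        exact congrArg Subtype.val hx
      · rintro ⟨y, rfl⟩
        apply Subtype.ext
        exact y.2)
  have pdF1 : HasProjectiveDimensionLT (ModuleCat.of (Localization.AtPrime q) F₁) (n - 1 + 1) :=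
    hasProjectiveDimensionLT_of_ge _ 1 (n - 1 + 1) (by omega)
  have pdR' : HasProjectiveDimensionLT (ModuleCat.of (Localization.AtPrime q)
      (LinearMap.range h)) (n - 1 + 1 + 1) :=
    hasProjectiveDimensionLT_of_ge _ (n + 1) (n - 1 + 1 + 1) (by omega)
  exact hS2.hasProjectiveDimensionLT_X₁ (n - 1 + 1) pdF1 pdR'

/-- Reflexive finitely presented `B_q`-modules have projective dimension `≤ n - 1`. -/
theorem hasPDLT_of_isReflexive (n : ℕ)
    (hreg : IsRegularLocalRing (Localization.AtPrime q ⧸
      Ideal.map (algebraMap V (Localization.AtPrime q)) (Ideal.comap (algebraMap V B) q)))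
    (hn : ringKrullDim (Localization.AtPrime q ⧸
      Ideal.map (algebraMap V (Localization.AtPrime q)) (Ideal.comap (algebraMap V B) q)) = n)
    (M : Type u) [AddCommGroup M] [Module (Localization.AtPrime q) M]
    [Module.FinitePresentation (Localization.AtPrime q) M]
    [Module.IsReflexive (Localization.AtPrime q) M] :
    HasProjectiveDimensionLT (ModuleCat.of (Localization.AtPrime q) M) (n - 1 + 1) := by
  have := fp_dual V B q M
  obtain ⟨a, b, π, g, hπ, hex⟩ := Module.FinitePresentation.exists_fin'
    (Localization.AtPrime q) (Module.Dual (Localization.AtPrime q) M)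
  obtain ⟨e⟩ := nonempty_dual_equiv_ker g π hπ hex
  have h1 := hasPDLT_ker V B q n hreg hn g.dualMap
  have iso : ModuleCat.of (Localization.AtPrime q) (LinearMap.ker g.dualMap) ≅
      ModuleCat.of (Localization.AtPrime q) M :=
    LinearEquiv.toModuleIso (((Module.evalEquiv (Localization.AtPrime q) M).trans e).symm)
  exact hasProjectiveDimensionLT_of_iso iso (n - 1 + 1)

end Refl

end Groth.Agent.Lib.T2H7.ValPd
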