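import Mathlib
import Groth.Agent.Lib.T2H7ValPd
import Groth.Agent.S0563

/-!
# Reflexive modules are second syzygies; over regular local rings of dimension `≤ 2` they are
projective (helper7)
-/

set_option autoImplicit false
set_option linter.unusedSectionVars false
universe u
open CategoryTheory

namespace Groth.Agent.Lib.T2H7.ReflSyz

open Groth.Agent.Lib.T2H7.PdTorC Groth.Agent.Lib.T2H7.ValPd

section Ker

variable {R : Type u} [CommRing R]

/-- If the cokernel of a map of finite projective modules has projective dimension `≤ n + 1`, the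
kernel has projective dimension `≤ n - 1`. -/
theorem hasPDLT_ker_of_coker (n : ℕ) {F₁ F₂ : Type u} [AddCommGroup F₁] [Module R F₁]
    [Module.Projective R F₁] [AddCommGroup F₂] [Module R F₂] [Module.Projective R F₂]
    (h : F₁ →ₗ[R] F₂)
    (hC : HasProjectiveDimensionLT (ModuleCat.of R (F₂ ⧸ LinearMap.range h)) (n + 2)) :
    HasProjectiveDimensionLT (ModuleCat.of R (LinearMap.ker h)) (n - 1 + 1) := by
  have hS1 := Groth.Agent.Lib.T2H7.PdFibB.mkSC_shortExact (LinearMap.range h).subtype
    (LinearMap.range h).mkQ Subtype.val_injective (Submodule.mkQ_surjective _)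
    (LinearMap.exact_subtype_mkQ _)
  have hproj2 : Projective (ModuleCat.of R F₂) := projective_of_module_projective F₂
  have hproj1 : Projective (ModuleCat.of R F₁) := projective_of_module_projective F₁
  have pdF2 : HasProjectiveDimensionLT (ModuleCat.of R F₂) (n + 1) :=
    hasProjectiveDimensionLT_of_ge _ 1 (n + 1) (by omega)
  have pdR : HasProjectiveDimensionLT (ModuleCat.of R (LinearMap.range h)) (n + 1) :=
    hS1.hasProjectiveDimensionLT_X₁ (n + 1) pdF2 hC
  have hS2 := Groth.Agent.Lib.T2H7.PdFibB.mkSC_shortExact (LinearMap.ker h).subtype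
    h.rangeRestrict Subtype.val_injective h.surjective_rangeRestrict
    (by
      intro x
      constructor
      · intro hx
        refine ⟨⟨x, ?_⟩, rfl⟩
        rw [LinearMap.mem_ker]
        exact congrArg Subtype.val hx
      · rintro ⟨y, rfl⟩
        apply Subtype.ext
        exact y.2)
  have pdF1 : HasProjectiveDimensionLT (ModuleCat.of R F₁) (n - 1 + 1) :=
    hasProjectiveDimensionLT_of_ge _ 1 (n - 1 + 1) (by omega)
  have pdR' : HasProjectiveDimensionLT (ModuleCat.of R (LinearMap.range h)) (n - 1 + 1 + 1) :=
    hasProjectiveDimensionLT_of_ge _ (n + 1) (n - 1 + 1 + 1) (by omega)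
  exact hS2.hasProjectiveDimensionLT_X₁ (n - 1 + 1) pdF1 pdR'

end Ker

section Refl

variable (R : Type u) [CommRing R] [IsNoetherianRing R]

/-- A finite reflexive module over a Noetherian ring is the kernel of a map of finite free
modules. -/
theorem exists_equiv_ker_of_isReflexive (M : Type u) [AddCommGroup M] [Module R M]
    [Module.Finite R M] [Module.IsReflexive R M] :
    ∃ (a b : ℕ) (h : Module.Dual R (Fin a → R) →ₗ[R] Module.Dual R (Fin b → R)),
      Nonempty (M ≃ₗ[R] LinearMap.ker h) := by
  have hfp : Module.FinitePresentation R (Module.Dual R M) :=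
    Module.finitePresentation_of_finite R _
  obtain ⟨a, b, π, g, hπ, hex⟩ := Module.FinitePresentation.exists_fin' R (Module.Dual R M)
  obtain ⟨e⟩ := nonempty_dual_equiv_ker g π hπ hex
  exact ⟨a, b, g.dualMap, ⟨(Module.evalEquiv R M).trans e⟩⟩

end Refl

section Reg

/-- Over a regular local ring of dimension `≤ 2`, finite reflexive modules are projective. -/
theorem projective_of_isReflexive_of_regular_dim_le_two (R : Type u) [CommRing R]
    [IsRegularLocalRing R] (hd : ringKrullDim R ≤ 2) (M : Type u) [AddCommGroup M] [Module R M]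
    [Module.Finite R M] [Module.IsReflexive R M] : Module.Projective R M := by
  have hne : ringKrullDim R ≠ ⊤ := ringKrullDim_ne_top
  have hne' : ringKrullDim R ≠ ⊥ := ringKrullDim_ne_bot
  obtain ⟨d', hd'⟩ := WithBot.ne_bot_iff_exists.mp hne'
  have hd'top : d' ≠ ⊤ := by
    rintro rfl
    exact hne hd'.symm
  obtain ⟨d, hdd⟩ := ENat.ne_top_iff_exists.mp hd'top
  have hdim : ringKrullDim R = (d : ℕ) := by
    rw [← hd', ← hdd]
    rfl
  have hd2 : d ≤ 2 := by
    rw [hdim] at hd
    exact_mod_cast hd
  obtain ⟨a, b, h, ⟨e⟩⟩ := exists_equiv_ker_of_isReflexive R M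
  have hC : HasProjectiveDimensionLT (ModuleCat.of R
      (Module.Dual R (Fin b → R) ⧸ LinearMap.range h)) (1 + 2) := by
    have := Groth.Agent.S0563.result R d hdim (Module.Dual R (Fin b → R) ⧸ LinearMap.range h)
    exact hasProjectiveDimensionLT_of_ge _ (d + 1) (1 + 2) (by omega)
  have hk := hasPDLT_ker_of_coker 1 h hC
  have iso : ModuleCat.of R (LinearMap.ker h) ≅ ModuleCat.of R M :=
    LinearEquiv.toModuleIso e.symm
  have hM : HasProjectiveDimensionLT (ModuleCat.of R M) 1 :=
    hasProjectiveDimensionLT_of_iso iso 1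
  have hp : Projective (ModuleCat.of R M) := projective_iff_hasProjectiveDimensionLT_one.mpr hM
  exact (IsProjective.iff_projective (ModuleCat.of R M)).mpr hp

end Reg

end Groth.Agent.Lib.T2H7.ReflSyz
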