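import Mathlib
import Groth.Agent.Lib.Helper5RLR

/-!
# Regular local rings of dimension two are factorial (helper7, team 2)

* `isPrincipal_of_height_le_one` : in a regular local ring of dimension `2`, a prime ideal of
  height `≤ 1` is principal;
* `ufm_of_dim_two` : a regular local ring of dimension `2` is a unique factorization domain.
-/

set_option autoImplicit false
universe u

namespace Groth.Agent.Lib.T2H7.RegDim2

open IsLocalRing

variable (A : Type u) [CommRing A] [IsRegularLocalRing A]

theorem maximalIdeal_not_le_sq (hA : ringKrullDim A = 2) :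
    ¬ maximalIdeal A ≤ maximalIdeal A ^ 2 := by
  intro h
  have hNoeth : IsNoetherianRing A := inferInstance
  have hbot : maximalIdeal A = ⊥ := by
    refine Submodule.eq_bot_of_le_smul_of_le_jacobson_bot (maximalIdeal A) (maximalIdeal A)
      (IsNoetherian.noetherian _) ?_ ?_
    · rw [smul_eq_mul, ← pow_two]; exact h
    · rw [IsLocalRing.jacobson_eq_maximalIdeal ⊥ bot_ne_top]
  have hfield : IsField A := IsLocalRing.isField_iff_maximalIdeal_eq.mpr hbot
  have := ringKrullDim_eq_zero_of_isField hfield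
  rw [hA] at this
  exact absurd this (by norm_num)

theorem isPrincipal_of_height_le_one [IsDomain A] (hA : ringKrullDim A = 2) (p : Ideal A)
    [hp : p.IsPrime] (hht : p.height ≤ 1) : p.IsPrincipal := by
  have hNoeth : IsNoetherianRing A := inferInstance
  have hpm : p ≤ maximalIdeal A := IsLocalRing.le_maximalIdeal hp.ne_top
  have hpne : ¬ maximalIdeal A ≤ p := by
    intro hle
    have heq : p = maximalIdeal A := le_antisymm hpm hle
    have h1 := IsLocalRing.maximalIdeal_height_eq_ringKrullDim (R := A)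
    rw [hA, ← heq] at h1
    have h2 : ((p.height : ℕ∞) : WithBot ℕ∞) ≤ ((1 : ℕ∞) : WithBot ℕ∞) := by exact_mod_cast hht
    rw [h1] at h2
    exact absurd h2 (by decide)
  -- choose x ∈ m, x ∉ p, x ∉ m²
  obtain ⟨x, hxm, hx⟩ : ∃ x ∈ maximalIdeal A, x ∉ ((p : Set A) ∪ ((maximalIdeal A ^ 2 : Ideal A) : Set A)) := by
    have h := (Ideal.subset_union (I := maximalIdeal A) (J := p) (K := maximalIdeal A ^ 2)).not.mpr
      (by
        rintro (h | h)
        · exact hpne h
        · exact maximalIdeal_not_le_sq A hA h)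
    obtain ⟨x, hx1, hx2⟩ := Set.not_subset.mp h
    exact ⟨x, hx1, hx2⟩
  have hxp : x ∉ p := fun h => hx (Or.inl h)
  have hx2 : x ∉ maximalIdeal A ^ 2 := fun h => hx (Or.inr h)
  have hxtop : Ideal.span ({x} : Set A) ≠ ⊤ := by
    intro h
    have : Ideal.span ({x} : Set A) ≤ maximalIdeal A := by
      rw [Ideal.span_singleton_le_iff_mem]; exact hxm
    rw [h] at this
    exact (IsLocalRing.maximalIdeal.isMaximal A).ne_top (top_le_iff.mp this)
  have : IsLocalRing (A ⧸ Ideal.span ({x} : Set A)) :=
    Groth.Agent.Lib.Helper5.isLocalRing_quotient hxtop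
  obtain ⟨hBreg, hBdim⟩ :=
    Groth.Agent.Lib.Helper5.isRegularLocalRing_quotient_span_singleton hxm hx2
  have := hBreg
  have : IsDomain (A ⧸ Ideal.span ({x} : Set A)) :=
    Groth.Agent.Lib.Helper5.isDomain_of_isRegularLocalRing _
  have hBNoeth : IsNoetherianRing (A ⧸ Ideal.span ({x} : Set A)) := inferInstance
  -- dimension one
  obtain ⟨d', hd'⟩ := Groth.Agent.Lib.Helper5.exists_nat_ringKrullDim_eq (A ⧸ Ideal.span ({x} : Set A))
  have hd1 : d' = 1 := by
    rw [hd', hA] at hBdim
    have : d' + 1 = 2 := by exact_mod_cast hBdim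
    omega
  have hfin : Module.finrank (ResidueField (A ⧸ Ideal.span ({x} : Set A)))
      (CotangentSpace (A ⧸ Ideal.span ({x} : Set A))) ≤ 1 := by
    have h := (IsRegularLocalRing.iff_finrank_cotangentSpace
      (R := A ⧸ Ideal.span ({x} : Set A))).mp hBreg
    rw [hd', hd1] at h
    have : Module.finrank (ResidueField (A ⧸ Ideal.span ({x} : Set A)))
      (CotangentSpace (A ⧸ Ideal.span ({x} : Set A))) = 1 := by exact_mod_cast h
    exact this.le
  have hPIR : IsPrincipalIdealRing (A ⧸ Ideal.span ({x} : Set A)) :=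
    ((tfae_of_isNoetherianRing_of_isLocalRing_of_isDomain
      (R := A ⧸ Ideal.span ({x} : Set A))).out 5 0).mp hfin
  -- the image of p is principal
  obtain ⟨g, hg⟩ := (hPIR.principal (p.map (Ideal.Quotient.mk (Ideal.span ({x} : Set A))))).principal
  have hgmem : g ∈ p.map (Ideal.Quotient.mk (Ideal.span ({x} : Set A))) := by
    rw [hg]; exact Submodule.mem_span_singleton_self g
  obtain ⟨a, hap, rfl⟩ :=
    (Ideal.mem_map_iff_of_surjective _ Ideal.Quotient.mk_surjective).mp hgmem
  refine ⟨a, le_antisymm ?_ ?_⟩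
  · -- Nakayama
    refine Submodule.le_of_le_smul_of_le_jacobson_bot (I := maximalIdeal A) (N' := p)
      (N := Submodule.span A {a}) (IsNoetherian.noetherian p) ?_ ?_
    · rw [IsLocalRing.jacobson_eq_maximalIdeal ⊥ bot_ne_top]
    · intro z hz
      have hz' : Ideal.Quotient.mk (Ideal.span ({x} : Set A)) z ∈
          p.map (Ideal.Quotient.mk (Ideal.span ({x} : Set A))) := Ideal.mem_map_of_mem _ hz
      rw [hg] at hz'
      obtain ⟨c, hc⟩ := Submodule.mem_span_singleton.mp hz'
      obtain ⟨c, rfl⟩ := Ideal.Quotient.mk_surjective c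
      have h1 : Ideal.Quotient.mk (Ideal.span ({x} : Set A)) (z - c * a) = 0 := by
        rw [map_sub, map_mul, ← hc, smul_eq_mul, sub_self]
      rw [Ideal.Quotient.eq_zero_iff_mem, Ideal.mem_span_singleton'] at h1
      obtain ⟨w, hw⟩ := h1
      have hwx : w * x ∈ p := by
        rw [hw]; exact sub_mem hz (Ideal.mul_mem_left _ _ hap)
      have hwp : w ∈ p := (hp.mem_or_mem hwx).resolve_right hxp
      have hz2 : z = c * a + x • w := by
        rw [smul_eq_mul, mul_comm x w, hw]; ring
      rw [hz2]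
      refine Submodule.add_mem_sup ?_ (Submodule.smul_mem_smul hxm hwp)
      exact Submodule.mem_span_singleton.mpr ⟨c, rfl⟩
  · rw [Submodule.span_le]
    intro y hy
    rw [Set.mem_singleton_iff] at hy
    rw [hy]; exact hap

theorem ufm_of_dim_two [IsDomain A] (hA : ringKrullDim A = 2) : UniqueFactorizationMonoid A := by
  have hNoeth : IsNoetherianRing A := inferInstance
  refine UniqueFactorizationMonoid.iff_exists_prime_mem_of_isPrime.mpr fun P hP hPp => ?_
  obtain ⟨a, haP, ha0⟩ : ∃ a ∈ P, a ≠ 0 := Submodule.exists_mem_ne_zero_of_ne_bot hP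
  have hle : Ideal.span ({a} : Set A) ≤ P := by
    rw [Ideal.span_singleton_le_iff_mem]; exact haP
  obtain ⟨p, hpmin, hpP⟩ := Ideal.exists_minimalPrimes_le hle
  have hpp : p.IsPrime := hpmin.1.1
  have hht : p.height ≤ 1 :=
    Ideal.height_le_one_of_isPrincipal_of_mem_minimalPrimes (Ideal.span ({a} : Set A)) p hpmin
  obtain ⟨π, hπ⟩ := (isPrincipal_of_height_le_one A hA p hht).principal
  have hπ' : p = Ideal.span ({π} : Set A) := hπ
  have hap : a ∈ p := hpmin.1.2 (Ideal.mem_span_singleton_self a)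
  have hπ0 : π ≠ 0 := by
    intro h
    rw [hπ', h, Ideal.span_singleton_eq_bot.mpr rfl] at hap
    exact ha0 ((Submodule.mem_bot A).mp hap)
  refine ⟨π, hpP (by rw [hπ']; exact Ideal.mem_span_singleton_self π), ?_⟩
  rw [← Ideal.span_singleton_prime hπ0, ← hπ']
  exact hpp

end Groth.Agent.Lib.T2H7.RegDim2
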