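import Mathlib
import Groth.Agent.Lib.Helper13TorMore
import Groth.Agent.Lib.T2H7PdTorC
import Groth.Agent.S6313
import Groth.Agent.S0563
import Groth.Prelude.Def_DRing2

/-!
# Regular Noetherian rings of finite Krull dimension have finite weak global dimension (helper7)

* `isZero_tor_of_hasPDLT_right` : `Tor_i(A, N) = 0` when `N` has projective dimension `< i`.
* `isZero_tor_of_forall_ideal` : if `Tor_{e+1}(A, R/I) = 0` for all finitely generated ideals `I`, then
  `Tor_p(A, N) = 0` for all `N` and all `p > e`.
* `hasPDLT_quotient_of_regular` : over a Noetherian ring whose localizations at maximal ideals are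
  regular of dimension `≤ e`, finitely generated modules have projective dimension `≤ e`.
* `hasTorDimLE_of_regular` : over such a ring every module has tor dimension `≤ e`.
-/

set_option autoImplicit false
universe u

namespace Groth.Agent.Lib.T2H7.RegGlDim

open CategoryTheory CategoryTheory.Limits Groth.Agent.Helper13Tor Groth.Agent.Lib.T2H7.PdTorC

variable {R : Type u} [CommRing R]

/-- Vanishing of `Tor_i(A, N)` when the second variable has projective dimension `< i`. -/
theorem isZero_tor_of_hasPDLT_right : ∀ (i : ℕ) (N : Type u) [AddCommGroup N] [Module R N],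
    HasProjectiveDimensionLT (ModuleCat.of R N) i → ∀ A : ModuleCat.{u} R,
      IsZero (((Tor (ModuleCat.{u} R) i).obj A).obj (ModuleCat.of R N)) := by
  intro i
  induction i with
  | zero =>
    intro N _ _ h A
    have hz : IsZero (ModuleCat.of R N) := isZero_of_hasProjectiveDimensionLT_zero _
    refine IsZero.of_iso ?_ ((tL A).leftDerivedZeroIsoSelf.app (ModuleCat.of R N))
    rw [IsZero.iff_id_eq_zero]
    change 𝟙 (MonoidalCategory.tensorObj A (ModuleCat.of R N)) = 0
    rw [← MonoidalCategory.whiskerLeft_id, hz.eq_of_src (𝟙 _) 0, MonoidalPreadditive.whiskerLeft_zero]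
  | succ i ih =>
    intro N _ _ h A
    rcases i with _ | i
    · have hp : Projective (ModuleCat.of R N) := inferInstance
      have : Module.Projective R N := (IsProjective.iff_projective (ModuleCat.of R N)).mpr hp
      have : Module.Flat R N := inferInstance
      exact isZero_tor_of_flat_right A (ModuleCat.of R N) 1 (by omega)
    · let π : (N →₀ R) →ₗ[R] N := Finsupp.linearCombination R id
      have hπ : Function.Surjective π := Finsupp.linearCombination_id_surjective R N
      have hS := kerSC_shortExact π hπ
      have hproj : Projective (kerSC π).X₂ := projective_of_module_projective (N →₀ R)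
      have h3 : HasProjectiveDimensionLT (kerSC π).X₃ (i + 2) := h
      have h1 : HasProjectiveDimensionLT (kerSC π).X₁ (i + 1) :=
        (hS.hasProjectiveDimensionLT_X₃_iff i hproj).mp h3
      have hK := ih (LinearMap.ker π) h1 A
      have hF : IsZero (((Tor (ModuleCat.{u} R) (i + 1 + 1)).obj A).obj (kerSC π).X₂) :=
        isZero_tor_of_flat_right A (ModuleCat.of R (N →₀ R)) (i + 1 + 1) (by omega)
      exact isZero_tor₂_X₃ A (kerSC π) hS (i + 1) hF hK

/-- If `Tor_{e+1}(A, R/I)` vanishes for every finitely generated ideal `I`, then `A` has tor dimension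
at most `e`. -/
theorem isZero_tor_of_forall_ideal : ∀ (e : ℕ) (A : Type u) [AddCommGroup A] [Module R A],
    (∀ I : Ideal R, I.FG → IsZero (((Tor (ModuleCat.{u} R) (e + 1)).obj (ModuleCat.of R A)).obj
      (ModuleCat.of R (R ⧸ I)))) →
    ∀ (N : ModuleCat.{u} R) (p : ℕ), e < p →
      IsZero (((Tor (ModuleCat.{u} R) p).obj (ModuleCat.of R A)).obj N) := by
  intro e
  induction e with
  | zero =>
    intro A _ _ h N p hp
    have hflat : Module.Flat R A := (Groth.Agent.S6313.result R A).mpr h
    exact isZero_tor_of_flat N (ModuleCat.of R A) p hp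
  | succ e ih =>
    intro A _ _ h N p hp
    let π : (A →₀ R) →ₗ[R] A := Finsupp.linearCombination R id
    have hπ : Function.Surjective π := Finsupp.linearCombination_id_surjective R A
    have hS := kerSC_shortExact π hπ
    have hK : ∀ I : Ideal R, I.FG →
        IsZero (((Tor (ModuleCat.{u} R) (e + 1)).obj (ModuleCat.of R (LinearMap.ker π))).obj
          (ModuleCat.of R (R ⧸ I))) := by
      intro I hI
      have h3 : IsZero (((Tor (ModuleCat.{u} R) (e + 1 + 1)).obj (kerSC π).X₃).obj
          (ModuleCat.of R (R ⧸ I))) := h I hI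
      have h2 : IsZero (((Tor (ModuleCat.{u} R) (e + 1)).obj (kerSC π).X₂).obj
          (ModuleCat.of R (R ⧸ I))) :=
        isZero_tor_of_flat (ModuleCat.of R (R ⧸ I)) (ModuleCat.of R (A →₀ R)) (e + 1) (by omega)
      exact isZero_tor_X₁ (kerSC π) hS (ModuleCat.of R (R ⧸ I)) (e + 1) h3 h2
    obtain ⟨q, rfl⟩ : ∃ q, p = q + 1 := ⟨p - 1, by omega⟩
    have hKq := ih (LinearMap.ker π) hK N q (by omega)
    have hF : IsZero (((Tor (ModuleCat.{u} R) (q + 1)).obj (kerSC π).X₂).obj N) :=
      isZero_tor_of_flat N (ModuleCat.of R (A →₀ R)) (q + 1) (by omega)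
    exact isZero_tor_X₃ (kerSC π) hS N q hF hKq

/-- Over a Noetherian ring whose localizations at maximal ideals are regular local rings of dimension
at most `e`, every finitely generated module has projective dimension at most `e`. -/
theorem hasPDLT_of_regular [IsNoetherianRing R] (e : ℕ)
    (hreg : ∀ (m : Ideal R) [m.IsMaximal], IsRegularLocalRing (Localization.AtPrime m))
    (hdim : ringKrullDim R ≤ (e : WithBot ℕ∞)) (N : Type u) [AddCommGroup N] [Module R N]
    [Module.Finite R N] : HasProjectiveDimensionLT (ModuleCat.of R N) (e + 1) := by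
  have hfin : Module.Finite R ↑(ModuleCat.of R N) := ‹Module.Finite R N›
  refine (ModuleCat.hasProjectiveDimensionLE_iff_forall_maximalSpectrum e (ModuleCat.of R N)).mpr
    fun m => ?_
  have hm : m.asIdeal.IsMaximal := m.isMaximal
  have := hreg m.asIdeal
  have hdle : ringKrullDim (Localization.AtPrime m.asIdeal) ≤ (e : WithBot ℕ∞) := by
    rw [IsLocalization.AtPrime.ringKrullDim_eq_height m.asIdeal (Localization.AtPrime m.asIdeal)]
    exact (Ideal.height_le_ringKrullDim_of_ne_top (Ideal.IsPrime.ne_top')).trans hdim
  have hne : ringKrullDim (Localization.AtPrime m.asIdeal) ≠ ⊤ := ringKrullDim_ne_top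
  have hne' : ringKrullDim (Localization.AtPrime m.asIdeal) ≠ ⊥ := ringKrullDim_ne_bot
  obtain ⟨d', hd'⟩ := WithBot.ne_bot_iff_exists.mp hne'
  have hd'top : d' ≠ ⊤ := by
    rintro rfl
    exact hne hd'.symm
  obtain ⟨d, hdd⟩ := ENat.ne_top_iff_exists.mp hd'top
  have hdim' : ringKrullDim (Localization.AtPrime m.asIdeal) = (d : ℕ) := by
    rw [← hd', ← hdd]
    rfl
  have hde : d ≤ e := by
    rw [hdim'] at hdle
    exact_mod_cast hdle
  have hpd := Groth.Agent.S0563.result (Localization.AtPrime m.asIdeal) d hdim'
    ↑((ModuleCat.of R N).localizedModule m.asIdeal.primeCompl)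
  exact hasProjectiveDimensionLT_of_ge _ (d + 1) (e + 1) (by omega)

/-- Over a Noetherian ring whose localizations at maximal ideals are regular local rings of dimension
at most `e`, every module has tor dimension at most `e`. -/
theorem hasTorDimLE_of_regular [IsNoetherianRing R] (e : ℕ)
    (hreg : ∀ (m : Ideal R) [m.IsMaximal], IsRegularLocalRing (Localization.AtPrime m))
    (hdim : ringKrullDim R ≤ (e : WithBot ℕ∞)) (A : Type u) [AddCommGroup A] [Module R A] :
    DRing.HasTorDimLE R e A := by
  intro N _ _ p hp
  apply ModuleCat.subsingleton_of_isZero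
  refine isZero_tor_of_forall_ideal e A (fun I _ => ?_) (ModuleCat.of R N) p hp
  exact isZero_tor_of_hasPDLT_right (e + 1) (R ⧸ I) (hasPDLT_of_regular e hreg hdim (R ⧸ I))
    (ModuleCat.of R A)

end Groth.Agent.Lib.T2H7.RegGlDim
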