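import Groth.Agent.Lib.T2H9SyntComp
import Groth.Agent.S2846

/-!
# Syntomic morphisms: composition and locality on the source (T2 helper9)

* `isSyntomicMor_comp`, `isSyntomicMor_of_forall_exists_open`.
-/

set_option autoImplicit false
set_option linter.style.haveILetI false
set_option linter.unusedSectionVars false
universe u
open CategoryTheory AlgebraicGeometry

namespace Groth.Agent.Lib.T2H9.SyntSrc

open Groth.Agent.Lib.T2H9.SyntComp

theorem isSyntomic_of_ringEquiv_comp {A B C : Type u} [CommRing A] [CommRing B] [CommRing C]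
    (φ : A →+* B) (ψ : B ≃+* C) (χ : A →+* C) (h : ∀ a, χ a = ψ (φ a))
    (hs : @Synt.IsSyntomic A _ C _ χ.toAlgebra) : @Synt.IsSyntomic A _ B _ φ.toAlgebra := by
  letI := φ.toAlgebra
  letI := χ.toAlgebra
  let e : C ≃ₐ[A] B := AlgEquiv.ofRingEquiv (f := ψ.symm) (fun a => by
    show ψ.symm (χ a) = φ a
    rw [h a, RingEquiv.symm_apply_apply])
  exact isSyntomic_of_algEquiv A C B e hs

/-- syntomic morphisms compose -/
theorem isSyntomicMor_comp {X Y Z : Scheme.{u}} (f : X ⟶ Y) (g : Y ⟶ Z)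
    (hf : Synt.IsSyntomicMor f) (hg : Synt.IsSyntomicMor g) : Synt.IsSyntomicMor (f ≫ g) :=
  (Groth.Agent.Lib.T2H9.SyntMor.isSyntomicMor_iff_isCIMorphism _).mpr
    (Groth.Agent.S2846.result f g
      ((Groth.Agent.Lib.T2H9.SyntMor.isSyntomicMor_iff_isCIMorphism _).mp hf)
      ((Groth.Agent.Lib.T2H9.SyntMor.isSyntomicMor_iff_isCIMorphism _).mp hg))

/-- being syntomic is local on the source -/
theorem isSyntomicMor_of_forall_exists_open {Y X : Scheme.{u}} (f : Y ⟶ X)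
    (h : ∀ y : Y, ∃ V : Y.Opens, y ∈ V ∧ Synt.IsSyntomicMor (V.ι ≫ f)) : Synt.IsSyntomicMor f := by
  intro y
  obtain ⟨V, hy, hV⟩ := h y
  obtain ⟨U', W, e', hyU', hs⟩ := hV ⟨y, hy⟩
  have hU : IsAffineOpen (V.ι ''ᵁ U'.1) := U'.2.image_of_isOpenImmersion V.ι
  have e : V.ι ''ᵁ U'.1 ≤ f ⁻¹ᵁ W.1 := by
    have h1 := V.ι.image_mono e'
    rw [Scheme.Hom.comp_preimage] at h1
    exact h1.trans (V.ι.image_preimage_le _)
  have e'' : U'.1 ≤ V.ι ⁻¹ᵁ (V.ι ''ᵁ U'.1) := by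
    rw [Scheme.Hom.preimage_image_eq]
  refine ⟨⟨V.ι ''ᵁ U'.1, hU⟩, W, e, ⟨⟨y, hy⟩, hyU', rfl⟩, ?_⟩
  have hcomp : f.appLE W.1 (V.ι ''ᵁ U'.1) e ≫ V.ι.appLE (V.ι ''ᵁ U'.1) U'.1 e'' =
      (V.ι ≫ f).appLE W.1 U'.1 e' := Scheme.Hom.appLE_comp_appLE _ _ _ _ _ _ _
  have hiso : V.ι.appLE (V.ι ''ᵁ U'.1) U'.1 e'' = (V.ι.appIso U'.1).hom := by
    have := Scheme.Hom.appIso_inv_appLE V.ι (U := U'.1) (V := U'.1) e''
    rw [Iso.inv_comp_eq] at this
    rw [this]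
    simp only [homOfLE_refl, op_id, CategoryTheory.Functor.map_id, Category.comp_id]
  exact isSyntomic_of_ringEquiv_comp (f.appLE W.1 (V.ι ''ᵁ U'.1) e).hom
    (V.ι.appIso U'.1).commRingCatIsoToRingEquiv ((V.ι ≫ f).appLE W.1 U'.1 e').hom
    (fun a => by
      rw [← hcomp, hiso]
      rfl) hs

end Groth.Agent.Lib.T2H9.SyntSrc
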