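import Mathlib
import Groth.Prelude
import Groth.Agent.Lib.T2H7PBasis
import Groth.Agent.Lib.T2H7StdSynt
import Groth.Agent.S15044

/-!
# The relative Frobenius of a smooth morphism is syntomic (helper7)
-/

set_option autoImplicit false
set_option linter.style.haveILetI false
universe u v w
open TensorProduct CategoryTheory AlgebraicGeometry CategoryTheory.Limits

namespace Groth.Agent.Lib.T2H7.RelFrobSynt

open Groth.Agent.Lib.T2H7.RelFrobSm Groth.Agent.Lib.T2H7.RelFrobRk Groth.Agent.Lib.T2H7.PBasis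

section Ring

variable (p : ℕ) [Fact p.Prime]

/-- the relative Frobenius of a standard smooth algebra is syntomic -/
theorem isSyntomic_relFrob_of_isStandardSmooth (A : Type u) [CommRing A] [CharP A p]
    (B : Type u) [CommRing B] [Algebra A B] [CharP B p] [Algebra.IsStandardSmooth A B] :
    letI := (FrobAlg.relFrob p A B).toAlgebra
    Synt.IsSyntomic (FrobAlg.BaseChange p A B) B := by
  letI := (FrobAlg.relFrob p A B).toAlgebra
  have : Nontrivial B := CharP.nontrivial_of_char_ne_one (R := B) (Fact.out : p.Prime).ne_one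
  obtain ⟨n, hn⟩ := exists_hasPBasis_relFrob_of_isStandardSmooth p A B
  exact Groth.Agent.S15044.isSyntomic_of_isRootTower p n _ _
    (isRootTower_of_hasPBasis p (Fact.out : p.Prime).ne_zero n _ _ hn)

/-- the relative Frobenius of a standard smooth ring map, for an abstract Frobenius twist, is
syntomic -/
theorem isSyntomic_of_isPushout_frobenius {A B B' : Type u} [CommRing A] [CommRing B]
    [CommRing B'] [Nontrivial B] (hpA : ((p : ℕ) : A) = 0)
    (φ : A →+* B) (hφ : φ.IsStandardSmooth) (FA : A →+* A) (hFA : ∀ a, FA a = a ^ p)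
    (inl : B →+* B') (inr : A →+* B')
    (hpo : IsPushout (CommRingCat.ofHom φ) (CommRingCat.ofHom FA) (CommRingCat.ofHom inl)
      (CommRingCat.ofHom inr))
    (ρ : B' →+* B) (h1 : ∀ b, ρ (inl b) = b ^ p) (h2 : ∀ a, ρ (inr a) = φ a) :
    letI := ρ.toAlgebra
    Synt.IsSyntomic B' B := by
  letI algρ : Algebra B' B := ρ.toAlgebra
  have hp : p.Prime := Fact.out
  have : Nontrivial A := φ.domain_nontrivial
  have : CharP A p := (CharP.charP_iff_prime_eq_zero hp).mpr hpA
  letI algAB : Algebra A B := φ.toAlgebra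
  have hpB : ((p : ℕ) : B) = 0 := by rw [← map_natCast φ, hpA, map_zero]
  have : CharP B p := (CharP.charP_iff_prime_eq_zero hp).mpr hpB
  have : Algebra.IsStandardSmooth A B := hφ
  let T := FrobAlg.Twist p A
  let τ : CommRingCat.of A ≅ CommRingCat.of T := (FrobAlg.toTwist p A).toCommRingCatIso
  have h0 := CommRingCat.isPushout_tensorProduct A B T
  have h0' : IsPushout (CommRingCat.ofHom φ) (CommRingCat.ofHom FA)
      (CommRingCat.ofHom (S := B ⊗[A] T) Algebra.TensorProduct.includeLeftRingHom)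
      (τ.hom ≫ CommRingCat.ofHom (S := B ⊗[A] T) Algebra.TensorProduct.includeRight.toRingHom) := by
    refine h0.of_iso (Iso.refl _) (Iso.refl _) τ.symm (Iso.refl _) ?_ ?_ ?_ ?_
    · simp only [Iso.refl_hom, Category.comp_id, Category.id_comp]
    · rw [Iso.refl_hom, Category.id_comp, Iso.symm_hom, Iso.comp_inv_eq]
      ext a
      change algebraMap A T a = FrobAlg.toTwist p A (FA a)
      rw [FrobAlg.algebraMap_twist, hFA]
    · simp
    · simp
  let e : CommRingCat.of B' ≅ CommRingCat.of (B ⊗[A] T) := hpo.isoIsPushout _ _ h0'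
  have he1 : CommRingCat.ofHom inl ≫ e.hom = CommRingCat.ofHom (S := B ⊗[A] T)
      Algebra.TensorProduct.includeLeftRingHom := hpo.inl_isoIsPushout_hom _ _ h0'
  have he2 : CommRingCat.ofHom inr ≫ e.hom = τ.hom ≫ CommRingCat.ofHom (S := B ⊗[A] T)
      Algebra.TensorProduct.includeRight.toRingHom := hpo.inr_isoIsPushout_hom _ _ h0'
  have hcomp : e.hom ≫ CommRingCat.ofHom (FrobAlg.relFrob p A B) = CommRingCat.ofHom ρ := by
    apply hpo.hom_ext
    · rw [← Category.assoc, he1]
      ext b
      change FrobAlg.relFrob p A B (b ⊗ₜ[A] (1 : T)) = ρ (inl b)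
      rw [h1]
      exact relFrob_theta p A B b
    · rw [← Category.assoc, he2]
      ext a
      change FrobAlg.relFrob p A B ((1 : B) ⊗ₜ[A] (FrobAlg.toTwist p A a)) = ρ (inr a)
      rw [h2, relFrob_tmul, one_pow, one_mul, RingEquiv.symm_apply_apply]
      rfl
  have hsynt := isSyntomic_relFrob_of_isStandardSmooth p A B
  letI algrel : Algebra (FrobAlg.BaseChange p A B) B := (FrobAlg.relFrob p A B).toAlgebra
  refine Groth.Agent.Lib.T2H7.StdSynt.isSyntomic_of_ringEquiv
    (A := B') (B := B) (A' := FrobAlg.BaseChange p A B) (B' := B)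
    e.symm.commRingCatIsoToRingEquiv (RingEquiv.refl B) (fun a => ?_) hsynt
  change FrobAlg.relFrob p A B a = ρ (e.inv a)
  have := congrArg (fun f => f.hom (e.inv a)) hcomp
  simp only [CommRingCat.hom_comp, CommRingCat.hom_ofHom, RingHom.comp_apply] at this
  rw [← this]
  congr 1
  exact (congrArg (fun f => f.hom a) e.inv_hom_id).symm

end Ring

section Sch

variable (p : ℕ) [Fact p.Prime]

/-- the relative Frobenius of a morphism smooth of relative dimension `d` is syntomic -/
theorem isSyntomicMor_relFrob {S X : Scheme.{u}} [FrobSch.IsCharP S p] (f : X ⟶ S) (d : ℕ)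
    [SmoothOfRelativeDimension d f] : Synt.IsSyntomicMor (FrobSch.relFrob f p) := by
  intro x
  have hX : FrobSch.IsCharP X p := FrobSch.IsCharP.of_hom f p
  obtain ⟨U, hU, V, hV, hxV, e, hstd⟩ :=
    SmoothOfRelativeDimension.exists_isStandardSmoothOfRelativeDimension (n := d) (f := f) x
  have hstd' : (f.appLE U V e).hom.IsStandardSmooth := hstd.isStandardSmooth
  let fst := pullback.fst f (FrobSch.frob S p)
  let snd := pullback.snd f (FrobSch.frob S p)
  have H : IsPullback fst snd f (FrobSch.frob S p) := IsPullback.of_hasPullback _ _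
  let W : (FrobSch.frobTwist f p).Opens := fst ⁻¹ᵁ V ⊓ snd ⁻¹ᵁ U
  have hUU : U ≤ (FrobSch.frob S p) ⁻¹ᵁ U := le_rfl
  have hiso := isIso_pushoutSection_of_isAffineOpen H hUU e (UY := W) rfl hU hU hV
  have hpo := (isIso_pushoutSection_iff H hUU e (UY := W) rfl).mp hiso
  have hW : IsAffineOpen W := by
    have : IsAffine U.toScheme := hU
    have : IsAffine V.toScheme := hV
    exact IsAffine.of_isIso (Scheme.Hom.isPullback_resLE H hUU e (UY := W) rfl).isoPullback.hom
  have e₁ : V ≤ (FrobSch.relFrob f p) ⁻¹ᵁ W := by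
    intro y hy
    change (FrobSch.relFrob f p) y ∈ W
    refine ⟨?_, ?_⟩
    · change (FrobSch.relFrob f p ≫ fst) y ∈ V
      rw [FrobSch.relFrob_fst]
      exact hy
    · change (FrobSch.relFrob f p ≫ snd) y ∈ U
      rw [FrobSch.relFrob_snd]
      exact e hy
  refine ⟨⟨V, hV⟩, ⟨W, hW⟩, e₁, hxV, ?_⟩
  have hne : Nonempty V := ⟨⟨x, hxV⟩⟩
  have hnt : Nontrivial Γ(X, V) := Scheme.component_nontrivial X V
  have hfrobS : ∀ a : Γ(S, U), ((FrobSch.frob S p).appLE U U hUU).hom a = a ^ p := by
    intro a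
    change ((FrobSch.frob S p).appLE U ((FrobSch.frob S p) ⁻¹ᵁ U) le_rfl).hom a = a ^ p
    rw [Scheme.Hom.appLE_eq_app]
    rfl
  have hfrobX : ∀ (hVV : V ≤ (FrobSch.frob X p) ⁻¹ᵁ V) (b : Γ(X, V)),
      ((FrobSch.frob X p).appLE V V hVV).hom b = b ^ p := by
    intro hVV b
    change ((FrobSch.frob X p).appLE V ((FrobSch.frob X p) ⁻¹ᵁ V) le_rfl).hom b = b ^ p
    rw [Scheme.Hom.appLE_eq_app]
    rfl
  refine isSyntomic_of_isPushout_frobenius p (FrobSch.natCast_eq_zero_app S p U)
    (f.appLE U V e).hom hstd' ((FrobSch.frob S p).appLE U U hUU).hom hfrobS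
    (fst.appLE V W (by simp [W])).hom (snd.appLE U W (by simp [W])).hom hpo
    ((FrobSch.relFrob f p).appLE W V e₁).hom (fun b => ?_) (fun a => ?_)
  · have h := Scheme.Hom.appLE_comp_appLE (FrobSch.relFrob f p) fst V W V (by simp [W]) e₁
    have h' := congrArg (fun g => g.hom b) h
    simp only [CommRingCat.hom_comp, RingHom.comp_apply] at h'
    rw [h']
    simp only [fst, FrobSch.relFrob_fst]
    exact hfrobX _ b
  · have h := Scheme.Hom.appLE_comp_appLE (FrobSch.relFrob f p) snd U W V (by simp [W]) e₁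
    have h' := congrArg (fun g => g.hom a) h
    simp only [CommRingCat.hom_comp, RingHom.comp_apply] at h'
    rw [h']
    simp only [snd, FrobSch.relFrob_snd]

end Sch

end Groth.Agent.Lib.T2H7.RelFrobSynt
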