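import Mathlib
import Groth.Prelude
import Groth.Agent.Lib.Helper18ColimSys3
import Groth.Agent.Lib.Helper3FlatDescE
import Groth.Agent.Lib.T2H7CILocusOpen
import Groth.Agent.Lib.T2H9CIBaseChange
import Groth.Agent.S9363

/-!
# Syntomic ring maps descend along directed colimits (helper7)

* `core_flat`: flatness of a finitely presented algebra descends to a stage of a directed system.
* `isSyntomic_iff_isSyntomicMor_spec`: ring-level syntomic = syntomic morphism of spectra.
* `isPullback_tS`: the cartesian squares of spectra of base changes.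
* `exists_stage_map_eq_top`: an ideal generating the unit ideal in the colimit does so at a stage.
* `core_syntomic`: syntomicity of a finitely presented algebra descends to a stage.
-/

set_option autoImplicit false
set_option linter.unusedSectionVars false

universe u

namespace Groth.Agent.Lib.T2H7.SyntColim

open TensorProduct CategoryTheory AlgebraicGeometry Groth.Agent.Lib.Helper18ColimSys
  Groth.Agent.Lib.Helper3.FlatOpen Groth.Agent.Lib.Helper3.FlatDesc

section Flat



attribute [local instance] MvPolynomial.algebraMvPolynomial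

variable {R : Type u} [CommRing R] {ι : Type u} {G : ι → Type u} [∀ i, CommRing (G i)]
    [∀ i, Algebra R (G i)] {A : Type u} [CommRing A] [Algebra R A] {g : ∀ i, G i →ₐ[R] A}

/-- flatness of a finitely presented algebra descends to a stage of a directed system -/
theorem core_flat (hS : Sys R G A g) (C : Type u) [CommRing C] [Algebra R C]
    [Algebra.FinitePresentation R C] (h : Module.Flat A (A ⊗[R] C)) :
    ∃ i, ∀ j (_ : G i →ₐ[R] G j), Module.Flat (G j) (G j ⊗[R] C) := by
  obtain ⟨n, k, m, Λ, hΛ, w, hT⟩ := exists_model_tensor R C C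
  have : Algebra.FiniteType ℤ Λ := (Subalgebra.fg_iff_finiteType Λ).mp hΛ
  have : IsNoetherianRing Λ := Algebra.FiniteType.isNoetherianRing ℤ Λ
  obtain ⟨eA⟩ := hT A
  have hflat' : Module.Flat A ((Fin k → MvPolynomial (Fin n) A) ⧸
      KT w (MvPolynomial (Fin n) A)) := Module.Flat.of_linearEquiv eA.symm
  obtain ⟨A'', hA''fg, -, hA''flat⟩ := exists_fg_subalgebra_flat_global w hflat' ∅
  have : Algebra.FiniteType Λ A'' := (Subalgebra.fg_iff_finiteType A'').mp hA''fg
  have : Algebra.FinitePresentation Λ A'' :=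
    Algebra.FinitePresentation.of_finiteType.mp inferInstance
  -- the finitely presented `R`-algebra `R ⊗[Λ] A''`
  let ρ : R ⊗[Λ] A'' →ₐ[R] A :=
    Algebra.TensorProduct.lift (Algebra.ofId R A) A''.val (fun _ _ => Commute.all _ _)
  obtain ⟨i, ρ', hρ'⟩ := hS.lift_algHom (R ⊗[Λ] A'') ρ
  refine ⟨i, fun j φ => ?_⟩
  let ψ : A'' →ₐ[Λ] G j :=
    ((φ.comp ρ').restrictScalars Λ).comp
      (Algebra.TensorProduct.includeRight : A'' →ₐ[Λ] R ⊗[Λ] A'')
  obtain ⟨eG⟩ := hT (G j)
  have := flat_model_of_algHom w ψ hA''flat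
  exact Module.Flat.of_linearEquiv eG


end Flat



section Bridge

variable (A B : Type u) [CommRing A] [CommRing B] [Algebra A B]

/-- ring-level syntomic = scheme-level syntomic for the morphism of spectra -/
theorem isSyntomic_iff_isSyntomicMor_spec :
    Synt.IsSyntomic A B ↔
      Synt.IsSyntomicMor (Spec.map (CommRingCat.ofHom (algebraMap A B))) := by
  have hc : ∀ a : A, (Scheme.ΓSpecIso (CommRingCat.of B)).inv.hom (algebraMap A B a) =
      ((Spec.map (CommRingCat.ofHom (algebraMap A B))).appLE ⊤ ⊤ le_top).hom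
        ((Scheme.ΓSpecIso (CommRingCat.of A)).inv.hom a) := by
    intro a
    have h1 := Scheme.ΓSpecIso_inv_naturality (CommRingCat.ofHom (algebraMap A B))
    have h2 := congrArg (fun ψ => ψ.hom a) h1
    exact h2
  constructor
  · intro h x
    refine ⟨⟨⊤, isAffineOpen_top _⟩, ⟨⊤, isAffineOpen_top _⟩, le_top, trivial, ?_⟩
    let alg := ((Spec.map (CommRingCat.ofHom (algebraMap A B))).appLE ⊤ ⊤ le_top).hom.toAlgebra
    exact Groth.Agent.Lib.T2H7.StdSynt.isSyntomic_of_ringEquiv
      (Scheme.ΓSpecIso (CommRingCat.of A)).symm.commRingCatIsoToRingEquiv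
      (Scheme.ΓSpecIso (CommRingCat.of B)).symm.commRingCatIsoToRingEquiv hc h
  · intro h
    have h1 := (Groth.Agent.S9363.result _).mp h ⟨⊤, isAffineOpen_top _⟩ ⟨⊤, isAffineOpen_top _⟩
      le_top
    let alg := ((Spec.map (CommRingCat.ofHom (algebraMap A B))).appLE ⊤ ⊤ le_top).hom.toAlgebra
    refine Groth.Agent.Lib.T2H7.StdSynt.isSyntomic_of_ringEquiv
      (Scheme.ΓSpecIso (CommRingCat.of A)).commRingCatIsoToRingEquiv
      (Scheme.ΓSpecIso (CommRingCat.of B)).commRingCatIsoToRingEquiv ?_ h1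
    intro a
    have h2 := Scheme.ΓSpecIso_naturality (CommRingCat.ofHom (algebraMap A B))
    have h3 := congrArg (fun ψ => ψ.hom a) h2
    exact h3

end Bridge




section Square

variable (R : Type u) [CommRing R] (C : Type u) [CommRing C] [Algebra R C]

/-- the structure morphism of the base change of `Spec C → Spec R` to `S` -/
noncomputable abbrev fS (S : Type u) [CommRing S] [Algebra R S] :
    Spec (CommRingCat.of (S ⊗[R] C)) ⟶ Spec (CommRingCat.of S) :=
  Spec.map (CommRingCat.ofHom (algebraMap S (S ⊗[R] C)))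

variable {R}
variable {S S' : Type u} [CommRing S] [CommRing S'] [Algebra R S] [Algebra R S']

/-- the transition morphism between base changes -/
noncomputable abbrev tS (φ : S →ₐ[R] S') :
    Spec (CommRingCat.of (S' ⊗[R] C)) ⟶ Spec (CommRingCat.of (S ⊗[R] C)) :=
  Spec.map (CommRingCat.ofHom (Algebra.TensorProduct.map φ (AlgHom.id R C)).toRingHom)

theorem isPullback_tS (φ : S →ₐ[R] S') :
    IsPullback (tS C φ) (fS R C S') (fS R C S) (Spec.map (CommRingCat.ofHom φ.toRingHom)) := by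
  have hL := CommRingCat.isPushout_tensorProduct R S C
  have hB := CommRingCat.isPushout_tensorProduct R S' C
  have e1 : CommRingCat.ofHom (algebraMap R S) ≫ CommRingCat.ofHom φ.toRingHom =
      CommRingCat.ofHom (algebraMap R S') := by
    ext r
    exact φ.commutes r
  have e2 : CommRingCat.ofHom (S := S ⊗[R] C)
        (Algebra.TensorProduct.includeRight (R := R) (A := S) (B := C)).toRingHom ≫
      CommRingCat.ofHom (Algebra.TensorProduct.map φ (AlgHom.id R C)).toRingHom =
      CommRingCat.ofHom (S := S' ⊗[R] C)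
        (Algebra.TensorProduct.includeRight (R := R) (A := S') (B := C)).toRingHom := by
    ext c
    simp
  rw [← e1, ← e2] at hB
  have hR := hB.of_left (v₁₂ := CommRingCat.ofHom (S := S ⊗[R] C)
      (Algebra.TensorProduct.includeLeftRingHom (R := R) (A := S) (B := C))) (by
    ext s
    simp) hL
  exact (isPullback_SpecMap_of_isPushout _ _ _ _ hR).flip

end Square




section Alg

variable {R : Type u} [CommRing R] (C : Type u) [CommRing C] [Algebra R C]

/-- base change of an algebra map to `- ⊗ C` -/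
noncomputable abbrev mφ {S S' : Type u} [CommRing S] [CommRing S'] [Algebra R S] [Algebra R S']
    (φ : S →ₐ[R] S') : S ⊗[R] C →ₐ[R] S' ⊗[R] C :=
  Algebra.TensorProduct.map φ (AlgHom.id R C)

theorem mφ_comp {S S' S'' : Type u} [CommRing S] [CommRing S'] [CommRing S''] [Algebra R S]
    [Algebra R S'] [Algebra R S''] (χ : S' →ₐ[R] S'') (φ : S →ₐ[R] S') :
    mφ C (χ.comp φ) = (mφ C χ).comp (mφ C φ) := by
  rw [mφ, mφ, mφ, ← Algebra.TensorProduct.map_comp, AlgHom.comp_id]

theorem mφ_id {S : Type u} [CommRing S] [Algebra R S] :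
    mφ C (AlgHom.id R S) = AlgHom.id R (S ⊗[R] C) :=
  Algebra.TensorProduct.map_id

variable {C}
variable {ι : Type u} {G : ι → Type u} [∀ i, CommRing (G i)]
    [∀ i, Algebra R (G i)] {A : Type u} [CommRing A] [Algebra R A] {g : ∀ i, G i →ₐ[R] A}

/-- elements of `A ⊗ C` lift to a stage above any given one -/
theorem lift_tensor_one (hS : Sys R G A g) (a : A ⊗[R] C) (i₀ : ι) :
    ∃ j, ∃ φ : G i₀ →ₐ[R] G j, (g j).comp φ = g i₀ ∧ ∃ y : G j ⊗[R] C, mφ C (g j) y = a := by
  induction a using TensorProduct.induction_on generalizing i₀ with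
  | zero => exact ⟨i₀, AlgHom.id R _, by simp, 0, map_zero _⟩
  | tmul a c =>
    obtain ⟨j, φ, h, hx⟩ := hS.lift i₀ {a}
    obtain ⟨x, hx⟩ := hx a (Finset.mem_singleton_self a)
    exact ⟨j, φ, h, x ⊗ₜ c, by simp [mφ, hx]⟩
  | add a₁ a₂ h₁ h₂ =>
    obtain ⟨j₁, φ₁, e₁, y₁, hy₁⟩ := h₁ i₀
    obtain ⟨j₂, φ₂, e₂, y₂, hy₂⟩ := h₂ j₁
    refine ⟨j₂, φ₂.comp φ₁, by rw [← AlgHom.comp_assoc, e₂, e₁], mφ C φ₂ y₁ + y₂, ?_⟩
    rw [map_add, hy₂, ← AlgHom.comp_apply, ← mφ_comp, e₂, hy₁]

/-- an ideal of a stage generating the unit ideal in the colimit generates the unit ideal at a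
later stage -/
theorem exists_stage_map_eq_top (hS : Sys R G A g) (i : ι) (K : Ideal (G i ⊗[R] C))
    (hK : K.map (mφ C (g i)).toRingHom = ⊤) :
    ∃ j, ∃ φ : G i →ₐ[R] G j, (g j).comp φ = g i ∧ K.map (mφ C φ).toRingHom = ⊤ := by
  have key : ∀ b ∈ K.map (mφ C (g i)).toRingHom, ∀ (i' : ι) (φ' : G i →ₐ[R] G i'),
      (g i').comp φ' = g i → ∃ j, ∃ χ : G i' →ₐ[R] G j, (g j).comp χ = g i' ∧
        ∃ w ∈ K.map (mφ C (χ.comp φ')).toRingHom, mφ C (g j) w = b := by
    intro b hb
    refine Submodule.span_induction (p := fun b _ => ∀ (i' : ι) (φ' : G i →ₐ[R] G i'),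
      (g i').comp φ' = g i → ∃ j, ∃ χ : G i' →ₐ[R] G j, (g j).comp χ = g i' ∧
        ∃ w ∈ K.map (mφ C (χ.comp φ')).toRingHom, mφ C (g j) w = b) ?_ ?_ ?_ ?_ hb
    · rintro _ ⟨k, hk, rfl⟩ i' φ' e'
      refine ⟨i', AlgHom.id R _, by simp, mφ C φ' k, ?_, ?_⟩
      · rw [AlgHom.id_comp]
        exact Ideal.mem_map_of_mem _ hk
      · rw [← AlgHom.comp_apply, ← mφ_comp, e']
        rfl
    · intro i' φ' e'
      exact ⟨i', AlgHom.id R _, by simp, 0, Ideal.zero_mem _, map_zero _⟩
    · intro b₁ b₂ _ _ h₁ h₂ i' φ' e'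
      obtain ⟨j₁, χ₁, e₁, w₁, hw₁, hb₁⟩ := h₁ i' φ' e'
      obtain ⟨j₂, χ₂, e₂, w₂, hw₂, hb₂⟩ := h₂ j₁ (χ₁.comp φ')
        (by rw [← AlgHom.comp_assoc, e₁, e'])
      refine ⟨j₂, χ₂.comp χ₁, by rw [← AlgHom.comp_assoc, e₂, e₁], mφ C χ₂ w₁ + w₂,
        Ideal.add_mem _ ?_ ?_, ?_⟩
      · rw [AlgHom.comp_assoc, mφ_comp C χ₂]
        have := Ideal.mem_map_of_mem (mφ C χ₂).toRingHom hw₁
        rw [Ideal.map_map] at this
        exact this
      · rw [AlgHom.comp_assoc]
        exact hw₂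
      · rw [map_add, hb₂, ← AlgHom.comp_apply, ← mφ_comp, e₂, hb₁]
    · intro a b' _ h₁ i' φ' e'
      obtain ⟨j₁, χ₁, e₁, w₁, hw₁, hb₁⟩ := h₁ i' φ' e'
      obtain ⟨j₂, χ₂, e₂, y, hy⟩ := lift_tensor_one hS a j₁
      refine ⟨j₂, χ₂.comp χ₁, by rw [← AlgHom.comp_assoc, e₂, e₁], y * mφ C χ₂ w₁,
        Ideal.mul_mem_left _ _ ?_, ?_⟩
      · rw [AlgHom.comp_assoc, mφ_comp C χ₂]
        have := Ideal.mem_map_of_mem (mφ C χ₂).toRingHom hw₁
        rw [Ideal.map_map] at this
        exact this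
      · rw [map_mul, hy, ← AlgHom.comp_apply, ← mφ_comp, e₂, hb₁, smul_eq_mul]
  obtain ⟨j₁, χ₁, e₁, w, hw, hw1⟩ := key 1 (by rw [hK]; trivial) i (AlgHom.id R _) (by simp)
  rw [AlgHom.comp_id] at hw
  obtain ⟨j, φ₂, e₂, hk⟩ := hS.alg_kill C j₁ {w - 1} (by
    intro z hz
    rw [Finset.mem_singleton] at hz
    subst hz
    have : mφ C (g j₁) (w - 1) = 0 := by rw [map_sub, hw1, map_one, sub_self]
    exact this)
  have h0 : mφ C φ₂ (w - 1) = 0 := hk _ (Finset.mem_singleton_self _)
  rw [map_sub, map_one, sub_eq_zero] at h0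
  refine ⟨j, φ₂.comp χ₁, by rw [← AlgHom.comp_assoc, e₂, e₁], ?_⟩
  rw [Ideal.eq_top_iff_one, ← h0, mφ_comp C φ₂]
  have := Ideal.mem_map_of_mem (mφ C φ₂).toRingHom hw
  rw [Ideal.map_map] at this
  exact this

end Alg




section Core

variable {R : Type u} [CommRing R] {ι : Type u} {G : ι → Type u} [∀ i, CommRing (G i)]
    [∀ i, Algebra R (G i)] {A : Type u} [CommRing A] [Algebra R A] {g : ∀ i, G i →ₐ[R] A}

theorem flat_fS (C : Type u) [CommRing C] [Algebra R C] (S : Type u) [CommRing S] [Algebra R S]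
    (h : Module.Flat S (S ⊗[R] C)) : Flat (fS R C S) := by
  rw [HasRingHomProperty.Spec_iff (P := @Flat), CommRingCat.hom_ofHom, RingHom.flat_algebraMap_iff]
  exact h

theorem lfp_fS (C : Type u) [CommRing C] [Algebra R C] [Algebra.FinitePresentation R C]
    (S : Type u) [CommRing S] [Algebra R S] : LocallyOfFinitePresentation (fS R C S) := by
  rw [HasRingHomProperty.Spec_iff (P := @LocallyOfFinitePresentation), CommRingCat.hom_ofHom,
    RingHom.finitePresentation_algebraMap]
  infer_instance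

theorem ci_iff (C : Type u) [CommRing C] [Algebra R C] [Algebra.FinitePresentation R C]
    {S S' : Type u} [CommRing S] [CommRing S'] [Algebra R S] [Algebra R S'] (φ : S →ₐ[R] S')
    (x' : Spec (CommRingCat.of (S' ⊗[R] C))) :
    Pi1.IsCompleteIntersection (CInt.fiberStalk (fS R C S') x') ↔
      Pi1.IsCompleteIntersection (CInt.fiberStalk (fS R C S) ((tS C φ) x')) := by
  have := lfp_fS (R := R) C S
  exact Groth.Agent.Lib.T2H9.CIBaseChange.isCI_fiberStalk_baseChange_iff (isPullback_tS C φ) x'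

/-- syntomicity of a finitely presented algebra descends to a stage of a directed system -/
theorem core_syntomic (hS : Sys R G A g) (C : Type u) [CommRing C] [Algebra R C]
    [Algebra.FinitePresentation R C] (h : Synt.IsSyntomic A (A ⊗[R] C)) :
    ∃ i, Synt.IsSyntomic (G i) (G i ⊗[R] C) := by
  obtain ⟨i, hi⟩ := core_flat hS C h.1
  have hfl := flat_fS C (G i) (hi i (AlgHom.id R _))
  have hlfp := lfp_fS (R := R) C (G i)
  have hopen := Groth.Agent.Lib.T2H7.CILocusOpen.isOpen_setOf_isCI_fiberStalk (fS R C (G i))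
  -- all points of the colimit are complete intersection points
  have hA : ∀ x : Spec (CommRingCat.of (A ⊗[R] C)),
      Pi1.IsCompleteIntersection (CInt.fiberStalk (fS R C A) x) := by
    have h1 := (isSyntomic_iff_isSyntomicMor_spec A (A ⊗[R] C)).mp h
    exact ((Groth.Agent.Lib.T2H9.SyntMor.isSyntomicMor_iff_isCIMorphism _).mp h1).2.2
  -- the closed complement and its ideal
  let Z : Set (PrimeSpectrum (G i ⊗[R] C)) :=
    {x | Pi1.IsCompleteIntersection (CInt.fiberStalk (fS R C (G i)) x)}ᶜ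
  have hZ : IsClosed Z := isClosed_compl_iff.mpr hopen
  let K : Ideal (G i ⊗[R] C) := PrimeSpectrum.vanishingIdeal Z
  have hKZ : PrimeSpectrum.zeroLocus (K : Set (G i ⊗[R] C)) = Z := by
    rw [PrimeSpectrum.zeroLocus_vanishingIdeal_eq_closure, hZ.closure_eq]
  have hKtop : K.map (mφ C (g i)).toRingHom = ⊤ := by
    by_contra hne
    obtain ⟨m, hm, hle⟩ := Ideal.exists_le_maximal _ hne
    let x' : Spec (CommRingCat.of (A ⊗[R] C)) := ⟨m, hm.isPrime⟩
    let y : PrimeSpectrum (G i ⊗[R] C) := (tS C (g i)) x'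
    have hy : y.asIdeal = m.comap (mφ C (g i)).toRingHom := rfl
    have h1 : y ∈ Z := by
      rw [← hKZ, PrimeSpectrum.mem_zeroLocus, hy]
      exact Ideal.map_le_iff_le_comap.mp hle
    exact h1 ((ci_iff C (g i) x').mp (hA x'))
  obtain ⟨j, φ, e, hj⟩ := exists_stage_map_eq_top hS i K hKtop
  refine ⟨j, ?_⟩
  have hfl' := flat_fS C (G j) (hi j φ)
  have hlfp' := lfp_fS (R := R) C (G j)
  rw [isSyntomic_iff_isSyntomicMor_spec,
    Groth.Agent.Lib.T2H9.SyntMor.isSyntomicMor_iff_isCIMorphism]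
  refine ⟨hfl', hlfp', fun x => (ci_iff C φ x).mpr ?_⟩
  by_contra hx
  let y : PrimeSpectrum (G i ⊗[R] C) := (tS C φ) x
  have hy : y.asIdeal = x.asIdeal.comap (mφ C φ).toRingHom := rfl
  have h1 : y ∈ Z := hx
  rw [← hKZ, PrimeSpectrum.mem_zeroLocus, hy] at h1
  have h2 : K.map (mφ C φ).toRingHom ≤ x.asIdeal := Ideal.map_le_iff_le_comap.mpr h1
  rw [hj] at h2
  exact x.isPrime.ne_top (top_le_iff.mp h2)

end Core


end Groth.Agent.Lib.T2H7.SyntColim
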