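import Mathlib
import Groth.Prelude.Def_RegImm
import Groth.Agent.Lib.T2H7SyntL

/-!
# Reduction of a presentation modulo an ideal (helper7)

* `redF`, `redHom`, `redHom_surjective`, `ker_redHom`: the reduction map
  `R[x]/(F) → (R/I)[x]/(F mod I)` is surjective with kernel `I · R[x]/(F)`.
* `fibLD_comp_of_isEmbedding`, `fibLD_comap_eq_of_quotient`: local fibre dimensions of `S` over
  `R` at points of `V(IS)` agree with those of `S/IS` over `R/I`.
-/

set_option autoImplicit false

universe u
open MvPolynomial TensorProduct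

namespace Groth.Agent.Lib.T2H7.SyntM

open Groth.Agent.Lib.Helper4.FibDim Groth.Agent.Lib.T2H7.SyntI

section Red

variable {R : Type u} [CommRing R] {n c : ℕ} (F : Fin c → MvPolynomial (Fin n) R) (I : Ideal R)

/-- the reduction of the equations modulo `I` -/
noncomputable def redF : Fin c → MvPolynomial (Fin n) (R ⧸ I) :=
  fun i => MvPolynomial.map (Ideal.Quotient.mk I) (F i)

/-- reduction modulo `I` on polynomials, followed by the quotient map -/
noncomputable def redHom₀ : MvPolynomial (Fin n) R →ₐ[R]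
    (MvPolynomial (Fin n) (R ⧸ I) ⧸ Ideal.span (Set.range (redF F I))) :=
  (Ideal.Quotient.mkₐ R (Ideal.span (Set.range (redF F I)))).comp
    (MvPolynomial.mapAlgHom (Ideal.Quotient.mkₐ R I))

lemma redHom₀_apply (v : MvPolynomial (Fin n) R) :
    redHom₀ F I v = Ideal.Quotient.mk _ (MvPolynomial.map (Ideal.Quotient.mk I) v) := rfl

lemma redHom₀_surjective : Function.Surjective (redHom₀ F I) := by
  intro y
  obtain ⟨w, rfl⟩ := Ideal.Quotient.mk_surjective y
  obtain ⟨v, rfl⟩ := MvPolynomial.map_surjective (Ideal.Quotient.mk I)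
    Ideal.Quotient.mk_surjective w
  exact ⟨v, rfl⟩

lemma span_redF : Ideal.span (Set.range (redF F I)) =
    (Ideal.span (Set.range F)).map (MvPolynomial.map (Ideal.Quotient.mk I)) := by
  rw [Ideal.map_span, ← Set.range_comp]
  rfl

lemma ker_redHom₀ : RingHom.ker (redHom₀ F I).toRingHom =
    Ideal.span (Set.range F) ⊔ I.map (C : R →+* MvPolynomial (Fin n) R) := by
  have h1 : RingHom.ker (redHom₀ F I).toRingHom =
      (Ideal.span (Set.range (redF F I))).comap (MvPolynomial.map (Ideal.Quotient.mk I)) := by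
    ext v
    rw [RingHom.mem_ker, Ideal.mem_comap]
    show redHom₀ F I v = 0 ↔ _
    rw [redHom₀_apply, Ideal.Quotient.eq_zero_iff_mem]
  rw [h1, span_redF, Ideal.comap_map_of_surjective _
    (MvPolynomial.map_surjective (Ideal.Quotient.mk I) Ideal.Quotient.mk_surjective),
    ← RingHom.ker_eq_comap_bot, MvPolynomial.ker_map, Ideal.mk_ker]

/-- the reduction map `R[x]/(F) → (R/I)[x]/(F mod I)` -/
noncomputable def redHom : (MvPolynomial (Fin n) R ⧸ Ideal.span (Set.range F)) →ₐ[R]
    (MvPolynomial (Fin n) (R ⧸ I) ⧸ Ideal.span (Set.range (redF F I))) :=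
  Ideal.Quotient.liftₐ _ (redHom₀ F I) (by
    intro a ha
    have : a ∈ RingHom.ker (redHom₀ F I).toRingHom := by
      rw [ker_redHom₀]
      exact Ideal.mem_sup_left ha
    exact this)

lemma redHom_mk (v : MvPolynomial (Fin n) R) :
    redHom F I (Ideal.Quotient.mk _ v) = redHom₀ F I v := rfl

lemma redHom_surjective : Function.Surjective (redHom F I) := by
  intro y
  obtain ⟨v, rfl⟩ := redHom₀_surjective F I y
  exact ⟨Ideal.Quotient.mk _ v, rfl⟩

lemma ker_redHom : RingHom.ker (redHom F I).toRingHom =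
    I.map (algebraMap R (MvPolynomial (Fin n) R ⧸ Ideal.span (Set.range F))) := by
  have hI : I.map (algebraMap R (MvPolynomial (Fin n) R ⧸ Ideal.span (Set.range F))) =
      (I.map (C : R →+* MvPolynomial (Fin n) R)).map
        (Ideal.Quotient.mk (Ideal.span (Set.range F))) := by
    rw [Ideal.map_map]
    rfl
  apply le_antisymm
  · intro a ha
    obtain ⟨v, rfl⟩ := Ideal.Quotient.mk_surjective a
    have hv : v ∈ RingHom.ker (redHom₀ F I).toRingHom := ha
    rw [ker_redHom₀] at hv
    obtain ⟨v₁, hv₁, v₂, hv₂, rfl⟩ := Submodule.mem_sup.mp hv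
    rw [map_add, Ideal.Quotient.eq_zero_iff_mem.mpr hv₁, zero_add, hI]
    exact Ideal.mem_map_of_mem _ hv₂
  · rw [Ideal.map_le_iff_le_comap]
    intro r hr
    rw [Ideal.mem_comap, RingHom.mem_ker]
    show redHom F I (algebraMap R _ r) = 0
    rw [AlgHom.commutes, IsScalarTower.algebraMap_apply R (R ⧸ I)
      (MvPolynomial (Fin n) (R ⧸ I) ⧸ Ideal.span (Set.range (redF F I)))]
    have : algebraMap R (R ⧸ I) r = 0 := Ideal.Quotient.eq_zero_iff_mem.mpr hr
    rw [this, map_zero]

end Red

section Top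

variable {X' X Y : Type*} [TopologicalSpace X'] [TopologicalSpace X]

/-- the local fibre dimension is unchanged under an embedding whose image contains the fibre -/
theorem fibLD_comp_of_isEmbedding (φ : X → Y) (j : X' → X) (hj : Topology.IsEmbedding j) (u : X')
    (hsub : φ ⁻¹' {φ (j u)} ⊆ Set.range j) : fibLD (φ ∘ j) u = fibLD φ (j u) := by
  unfold fibLD
  have h : (φ ∘ j) ⁻¹' {(φ ∘ j) u} = j ⁻¹' (φ ⁻¹' {φ (j u)}) := rfl
  rw [localDim_congr_set h u rfl]
  have hemb := (φ ⁻¹' {φ (j u)}).restrictPreimage_isEmbedding hj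
  have hsurj : Function.Surjective ((φ ⁻¹' {φ (j u)}).restrictPreimage j) := by
    rintro ⟨x, hx⟩
    obtain ⟨x', rfl⟩ := hsub hx
    exact ⟨⟨x', hx⟩, rfl⟩
  exact Groth.Agent.Lib.Helper4.VarDim.localDim_eq_of_isOpenEmbedding
    (hemb.isOpenEmbedding_of_surjective hsurj) ⟨u, rfl⟩

end Top

section Compare

variable {R : Type u} [CommRing R] (I : Ideal R) (S S' : Type u) [CommRing S] [CommRing S']
  [Algebra R S] [Algebra R S'] [Algebra (R ⧸ I) S'] [IsScalarTower R (R ⧸ I) S']
  (ψ : S →ₐ[R] S') (hψ : Function.Surjective ψ)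
  (hker : RingHom.ker ψ.toRingHom = I.map (algebraMap R S))

include hψ hker in
/-- comparison of local fibre dimensions of `S` over `R` and of `S/IS` over `R/I` -/
theorem fibLD_comap_eq_of_quotient (u : PrimeSpectrum S') :
    fibLD (PrimeSpectrum.comap (algebraMap R S)) (PrimeSpectrum.comap ψ.toRingHom u) =
      fibLD (PrimeSpectrum.comap (algebraMap (R ⧸ I) S')) u := by
  have hj : Topology.IsEmbedding (PrimeSpectrum.comap ψ.toRingHom) :=
    (PrimeSpectrum.isClosedEmbedding_comap_of_surjective S' ψ.toRingHom hψ).isEmbedding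
  have hsub : PrimeSpectrum.comap (algebraMap R S) ⁻¹'
      {PrimeSpectrum.comap (algebraMap R S) (PrimeSpectrum.comap ψ.toRingHom u)} ⊆
      Set.range (PrimeSpectrum.comap ψ.toRingHom) := by
    intro q₂ hq₂
    have hq₂' : PrimeSpectrum.comap (algebraMap R S) q₂ =
      PrimeSpectrum.comap (algebraMap R S) (PrimeSpectrum.comap ψ.toRingHom u) := hq₂
    have hIq : I ≤ (PrimeSpectrum.comap (algebraMap R S) q₂).asIdeal := by
      rw [hq₂']
      intro r hr
      show ψ (algebraMap R S r) ∈ u.asIdeal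
      have : algebraMap R S r ∈ RingHom.ker ψ.toRingHom := by
        rw [hker]
        exact Ideal.mem_map_of_mem _ hr
      have h0 : ψ (algebraMap R S r) = 0 := this
      rw [h0]
      exact Ideal.zero_mem _
    have hkq : RingHom.ker ψ.toRingHom ≤ q₂.asIdeal := by
      rw [hker, Ideal.map_le_iff_le_comap]
      exact hIq
    have hpr : (q₂.asIdeal.map ψ.toRingHom).IsPrime :=
      Ideal.map_isPrime_of_surjective (f := ψ.toRingHom) hψ hkq
    refine ⟨⟨q₂.asIdeal.map ψ.toRingHom, hpr⟩, ?_⟩
    apply PrimeSpectrum.ext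
    show (q₂.asIdeal.map ψ.toRingHom).comap ψ.toRingHom = q₂.asIdeal
    rw [Ideal.comap_map_of_surjective ψ.toRingHom hψ, ← RingHom.ker_eq_comap_bot, sup_eq_left]
    exact hkq
  rw [← fibLD_comp_of_isEmbedding _ _ hj u hsub]
  have hcomp : PrimeSpectrum.comap (algebraMap R S) ∘ PrimeSpectrum.comap ψ.toRingHom =
      PrimeSpectrum.comap (algebraMap R (R ⧸ I)) ∘ PrimeSpectrum.comap (algebraMap (R ⧸ I) S') := by
    rw [← PrimeSpectrum.comap_comp, ← PrimeSpectrum.comap_comp]
    congr 1
    ext r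
    show ψ (algebraMap R S r) = algebraMap (R ⧸ I) S' (algebraMap R (R ⧸ I) r)
    rw [AlgHom.commutes, ← IsScalarTower.algebraMap_apply]
  rw [hcomp]
  exact fibLD_comp_injective _ _ (PrimeSpectrum.comap_injective_of_surjective _
    Ideal.Quotient.mk_surjective) u

end Compare

end Groth.Agent.Lib.T2H7.SyntM
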