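import Mathlib
import Groth.Prelude.Def_RegImm
import Groth.Agent.Lib.T2H7SyntL
import Groth.Agent.Lib.T2H7SyntM

/-!
# Relative global complete intersections modulo an ideal (helper7)

* `fibLD_le_of_isRelGCI`: local fibre dimensions of a relative global complete intersection.
* `exists_away_isRelGCI_of_mod_ideal`: if `F mod I` is a relative global complete intersection over
  `R/I`, then `R[x]/(F)` localized at some `h ≡ 1 mod I` is a relative global complete
  intersection over `R`.
-/

set_option autoImplicit false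

universe u
open MvPolynomial TensorProduct

namespace Groth.Agent.Lib.T2H7.SyntN

open Groth.Agent.Lib.Helper4.FibDim Groth.Agent.Lib.T2H7.SyntI Groth.Agent.Lib.T2H7.SyntM

section Bound

variable {R : Type u} [CommRing R] {n c : ℕ} (F : Fin c → MvPolynomial (Fin n) R)

/-- the local fibre dimensions of a relative global complete intersection -/
theorem fibLD_le_of_isRelGCI (hF : Synt.IsRelGCI R n c F)
    (u : PrimeSpectrum (MvPolynomial (Fin n) R ⧸ Ideal.span (Set.range F))) :
    c ≤ n ∧ fibLD (PrimeSpectrum.comap (algebraMap R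
      (MvPolynomial (Fin n) R ⧸ Ideal.span (Set.range F)))) u ≤ ((n - c : ℕ) : WithBot ℕ∞) := by
  rw [fibLD_comap_eq]
  set p := PrimeSpectrum.comap (algebraMap R
    (MvPolynomial (Fin n) R ⧸ Ideal.span (Set.range F))) u with hp
  have hnt : Nontrivial (p.asIdeal.Fiber (MvPolynomial (Fin n) R ⧸ Ideal.span (Set.range F))) :=
    PrimeSpectrum.nonempty_iff_nontrivial.mp
      ⟨PrimeSpectrum.preimageHomeomorphFiber R
        (MvPolynomial (Fin n) R ⧸ Ideal.span (Set.range F)) p ⟨u, rfl⟩⟩
  obtain ⟨hcn, hdim⟩ := hF p hnt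
  refine ⟨hcn, ?_⟩
  have hdim' : ringKrullDim (p.asIdeal.Fiber (MvPolynomial (Fin n) R ⧸ Ideal.span (Set.range F))) =
      ((n - c : ℕ) : WithBot ℕ∞) := hdim
  calc FlatMor.localDim _ _
      ≤ topologicalKrullDim (PrimeSpectrum
          (p.asIdeal.Fiber (MvPolynomial (Fin n) R ⧸ Ideal.span (Set.range F)))) :=
        Groth.Agent.Lib.Helper7.TopDim.localDim_le_dim _
    _ = ringKrullDim (p.asIdeal.Fiber (MvPolynomial (Fin n) R ⧸ Ideal.span (Set.range F))) :=
        PrimeSpectrum.topologicalKrullDim_eq_ringKrullDim _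
    _ = ((n - c : ℕ) : WithBot ℕ∞) := hdim'

end Bound

section ModIdeal

variable {R : Type u} [CommRing R] {n c : ℕ} (F : Fin c → MvPolynomial (Fin n) R) (I : Ideal R)

/-- if the reduction modulo `I` is a relative global complete intersection, a basic open
neighbourhood of `V(I)` is a relative global complete intersection -/
theorem exists_away_isRelGCI_of_mod_ideal (hI : Synt.IsRelGCI (R ⧸ I) n c (redF F I)) :
    ∃ h : MvPolynomial (Fin n) R,
      Ideal.Quotient.mk (I.map (algebraMap R (MvPolynomial (Fin n) R ⧸ Ideal.span (Set.range F))))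
        (Ideal.Quotient.mk (Ideal.span (Set.range F)) h) = 1 ∧
      Synt.IsRelGCI R (n + 1) (c + 1) (snocF F h) := by
  classical
  set IS := I.map (algebraMap R (MvPolynomial (Fin n) R ⧸ Ideal.span (Set.range F))) with hIS
  by_cases htop : IS = ⊤
  · refine ⟨0, ?_, ?_⟩
    · have : Subsingleton ((MvPolynomial (Fin n) R ⧸ Ideal.span (Set.range F)) ⧸ IS) :=
        Ideal.Quotient.subsingleton_iff.mpr htop
      exact Subsingleton.elim _ _
    · intro p hnt
      exfalso
      have h1 : (1 : MvPolynomial (Fin (n + 1)) R) ∈ Ideal.span (Set.range (snocF F 0)) := by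
        have h2 : snocF F 0 (Fin.last c) ∈ Ideal.span (Set.range (snocF F 0)) :=
          Ideal.subset_span ⟨_, rfl⟩
        rw [snocF_last, map_zero, zero_mul, zero_sub] at h2
        simpa using Ideal.neg_mem_iff _ |>.mp h2
      have h3 : Subsingleton (MvPolynomial (Fin (n + 1)) R ⧸ Ideal.span (Set.range (snocF F 0))) :=
        Ideal.Quotient.subsingleton_iff.mpr ((Ideal.eq_top_iff_one _).mpr h1)
      have h4 : Subsingleton (p.asIdeal.Fiber
          (MvPolynomial (Fin (n + 1)) R ⧸ Ideal.span (Set.range (snocF F 0)))) := by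
        unfold Ideal.Fiber
        infer_instance
      exact not_subsingleton _ h4
  · -- a point of `V(IS)` gives `c ≤ n`
    have hψ := redHom_surjective F I
    have hker := ker_redHom F I
    have hW : ∀ q : PrimeSpectrum (MvPolynomial (Fin n) R ⧸ Ideal.span (Set.range F)),
        IS ≤ q.asIdeal → c ≤ n ∧ fibLD (PrimeSpectrum.comap (algebraMap R
          (MvPolynomial (Fin n) R ⧸ Ideal.span (Set.range F)))) q ≤
            ((n - c : ℕ) : WithBot ℕ∞) := by
      intro q hq
      have hkq : RingHom.ker (redHom F I).toRingHom ≤ q.asIdeal := by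
        rw [hker]; exact hq
      have hpr : (q.asIdeal.map (redHom F I).toRingHom).IsPrime :=
        Ideal.map_isPrime_of_surjective (f := (redHom F I).toRingHom) hψ hkq
      have hqu : PrimeSpectrum.comap (redHom F I).toRingHom
          ⟨q.asIdeal.map (redHom F I).toRingHom, hpr⟩ = q := by
        apply PrimeSpectrum.ext
        show (q.asIdeal.map (redHom F I).toRingHom).comap (redHom F I).toRingHom = q.asIdeal
        rw [Ideal.comap_map_of_surjective (redHom F I).toRingHom hψ, ← RingHom.ker_eq_comap_bot,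
          sup_eq_left]
        exact hkq
      have h1 := fibLD_comap_eq_of_quotient I _ _ (redHom F I) hψ hker
        ⟨q.asIdeal.map (redHom F I).toRingHom, hpr⟩
      rw [hqu] at h1
      rw [h1]
      exact fibLD_le_of_isRelGCI (redF F I) hI _
    obtain ⟨𝔪, h𝔪, hle⟩ := Ideal.exists_le_maximal IS htop
    obtain ⟨hcn, -⟩ := hW ⟨𝔪, h𝔪.isPrime⟩ hle
    have hft : Algebra.FiniteType R (MvPolynomial (Fin n) R ⧸ Ideal.span (Set.range F)) :=
      Algebra.FiniteType.of_surjective (Ideal.Quotient.mkₐ R (Ideal.span (Set.range F)))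
        (Ideal.Quotient.mkₐ_surjective R _)
    have hopen := isOpen_setOf_fibLD_comap_le R
      (MvPolynomial (Fin n) R ⧸ Ideal.span (Set.range F)) (n - c)
    set W := {q : PrimeSpectrum (MvPolynomial (Fin n) R ⧸ Ideal.span (Set.range F)) |
      fibLD (PrimeSpectrum.comap (algebraMap R
        (MvPolynomial (Fin n) R ⧸ Ideal.span (Set.range F)))) q ≤ ((n - c : ℕ) : WithBot ℕ∞)}
      with hWdef
    set J := PrimeSpectrum.vanishingIdeal Wᶜ with hJ
    have hZ : PrimeSpectrum.zeroLocus (J : Set _) = Wᶜ := by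
      rw [hJ, PrimeSpectrum.zeroLocus_vanishingIdeal_eq_closure]
      exact hopen.isClosed_compl.closure_eq
    have hsup : J ⊔ IS = ⊤ := by
      by_contra hne
      obtain ⟨𝔫, h𝔫, hle'⟩ := Ideal.exists_le_maximal _ hne
      have h1 : (⟨𝔫, h𝔫.isPrime⟩ : PrimeSpectrum _) ∈ W :=
        (hW ⟨𝔫, h𝔫.isPrime⟩ (le_sup_right.trans hle')).2
      have h2 : (⟨𝔫, h𝔫.isPrime⟩ : PrimeSpectrum _) ∈ Wᶜ := by
        rw [← hZ, PrimeSpectrum.mem_zeroLocus]
        exact (le_sup_left : J ≤ J ⊔ IS).trans hle'
      exact h2 h1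
    obtain ⟨j, hj, i, hi, hji⟩ := Submodule.mem_sup.mp
      (show (1 : MvPolynomial (Fin n) R ⧸ Ideal.span (Set.range F)) ∈ J ⊔ IS by
        rw [hsup]; exact Submodule.mem_top)
    obtain ⟨h, rfl⟩ := Ideal.Quotient.mk_surjective j
    refine ⟨h, ?_, ?_⟩
    · have h1 : Ideal.Quotient.mk IS (Ideal.Quotient.mk (Ideal.span (Set.range F)) h + i) =
          Ideal.Quotient.mk IS 1 := by rw [hji]
      rw [map_add, Ideal.Quotient.eq_zero_iff_mem.mpr hi, add_zero, map_one] at h1
      exact h1
    · apply isRelGCI_snocF F h hcn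
      intro q hq
      by_contra hqW
      have : q ∈ PrimeSpectrum.zeroLocus (J : Set _) := by
        rw [hZ]; exact hqW
      rw [PrimeSpectrum.mem_zeroLocus] at this
      exact hq (this hj)

end ModIdeal

end Groth.Agent.Lib.T2H7.SyntN
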