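import Mathlib
import Groth.Prelude
import Groth.Agent.Lib.T2H7SyntN
import Groth.Agent.Lib.T2H7SyntColim
import Groth.Agent.Lib.Helper3LocDimBC

/-!
# Noetherian approximation of relative global complete intersections (helper7)

* `fibLD_algEquiv`: the local fibre dimension is invariant under algebra isomorphisms.
* `isRelGCI_of_forall_fibLD_le`: bounded local fibre dimensions give a relative global complete
  intersection.
* `bcEquiv`: base change of the presented algebra `R[x]/(F)`.
* `sys_fg_subalgebras`: a ring is the directed union of its finitely generated subalgebras.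
* `core_relGCI`: a relative global complete intersection over a directed colimit is one over a
  stage.
* `exists_subalgebra`: descent to a finite type `ℤ`-subalgebra.
-/

set_option autoImplicit false
universe u
open MvPolynomial TensorProduct

namespace Groth.Agent.Lib.T2H7.RelGCIApprox

open Groth.Agent.Lib.Helper4.FibDim Groth.Agent.Lib.T2H7.SyntI Groth.Agent.Lib.T2H7.SyntB
  Groth.Agent.Lib.Helper18ColimSys Groth.Agent.Lib.T2H7.SyntColim AlgebraicGeometry CategoryTheory

section FibLDIso

variable {A S₁ S₂ : Type u} [CommRing A] [CommRing S₁] [CommRing S₂] [Algebra A S₁] [Algebra A S₂]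

/-- the local fibre dimension is invariant under isomorphisms of algebras -/
theorem fibLD_algEquiv (e : S₁ ≃ₐ[A] S₂) (q : PrimeSpectrum S₂) :
    fibLD (PrimeSpectrum.comap (algebraMap A S₂)) q =
      fibLD (PrimeSpectrum.comap (algebraMap A S₁)) (PrimeSpectrum.comap e.toRingEquiv.toRingHom q) := by
  have hj : Topology.IsOpenEmbedding (PrimeSpectrum.comap e.toRingEquiv.toRingHom) :=
    (PrimeSpectrum.homeomorphOfRingEquiv e.toRingEquiv.symm).isOpenEmbedding
  have h := fibLD_comp_isOpenEmbedding (PrimeSpectrum.comap (algebraMap A S₁))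
    (PrimeSpectrum.comap e.toRingEquiv.toRingHom) hj q
  rw [← h]
  congr 1
  ext x a
  simp [PrimeSpectrum.comap_asIdeal, Ideal.mem_comap]

end FibLDIso

section StepA

variable {R : Type u} [CommRing R] {n c : ℕ} (F : Fin c → MvPolynomial (Fin n) R)

/-- a presentation all of whose local fibre dimensions are at most `n - c` is a relative global
complete intersection -/
theorem isRelGCI_of_forall_fibLD_le
    (hW : ∀ q : PrimeSpectrum (MvPolynomial (Fin n) R ⧸ Ideal.span (Set.range F)),
      c ≤ n ∧ fibLD (PrimeSpectrum.comap (algebraMap R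
        (MvPolynomial (Fin n) R ⧸ Ideal.span (Set.range F)))) q ≤ ((n - c : ℕ) : WithBot ℕ∞)) :
    Synt.IsRelGCI R n c F := by
  intro p hnt
  obtain ⟨x⟩ := PrimeSpectrum.nonempty_iff_nontrivial.mpr hnt
  have hcn : c ≤ n :=
    (hW ((PrimeSpectrum.preimageHomeomorphFiber R
      (MvPolynomial (Fin n) R ⧸ Ideal.span (Set.range F)) p).symm x).1).1
  refine ⟨hcn, le_antisymm ?_ ?_⟩
  · rw [← PrimeSpectrum.topologicalKrullDim_eq_ringKrullDim,
      Groth.Agent.Lib.Helper7.TopDim.topologicalKrullDim_eq_iSup_localDim]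
    refine iSup_le fun y => ?_
    rw [← fibLD_symm_eq (MvPolynomial (Fin n) R ⧸ Ideal.span (Set.range F)) p y]
    exact (hW _).2
  · exact le_ringKrullDim_of_presentation (κ := p.asIdeal.ResidueField)
      (T := p.asIdeal.Fiber (MvPolynomial (Fin n) R ⧸ Ideal.span (Set.range F)))
      (φ p.asIdeal n (Ideal.span (Set.range F)))
      (φ_surjective p.asIdeal n (Ideal.span (Set.range F)))
      (fun i => ι p.asIdeal n (F i)) (by
        rw [ker_φ, Ideal.map_span, ← Set.range_comp]
        rfl)

end StepA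

section BC

variable (R : Type u) [CommRing R] (B : Type u) [CommRing B] [Algebra R B] {n c : ℕ}
  (F : Fin c → MvPolynomial (Fin n) R)

/-- the base change of the equations -/
noncomputable abbrev mapF : Fin c → MvPolynomial (Fin n) B :=
  fun i => MvPolynomial.map (algebraMap R B) (F i)

theorem map_span_eq :
    Ideal.span (Set.range (mapF R B F)) =
      ((Ideal.span (Set.range F)).map
        (Algebra.TensorProduct.includeRight (R := R) (A := B) (B := MvPolynomial (Fin n) R))).map
        ((MvPolynomial.algebraTensorAlgEquiv (σ := Fin n) R B) : B ⊗[R] MvPolynomial (Fin n) R →+*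
          MvPolynomial (Fin n) B) := by
  rw [Ideal.map_span, Ideal.map_span, ← Set.range_comp, ← Set.range_comp]
  congr 2
  ext i : 1
  simp [mapF]

/-- base change of the presented algebra -/
noncomputable def bcEquiv :
    B ⊗[R] (MvPolynomial (Fin n) R ⧸ Ideal.span (Set.range F)) ≃ₐ[B]
      (MvPolynomial (Fin n) B ⧸ Ideal.span (Set.range (mapF R B F))) :=
  (Algebra.TensorProduct.tensorQuotientEquiv (R := R) B (MvPolynomial (Fin n) R) B
    (Ideal.span (Set.range F))).trans
    (Ideal.quotientEquivAlg _ _ (MvPolynomial.algebraTensorAlgEquiv R B) (map_span_eq R B F))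

theorem bcEquiv_one_tmul (p : MvPolynomial (Fin n) R) :
    bcEquiv R B F (1 ⊗ₜ Ideal.Quotient.mk _ p) =
      Ideal.Quotient.mk _ (MvPolynomial.map (algebraMap R B) p) := by
  simp [bcEquiv]

end BC

section SysFG

variable {A : Type u} [CommRing A] (R₁ : Subalgebra ℤ A)

/-- finitely generated subrings containing a given one -/
abbrev Idx : Type u := {B : Subalgebra ℤ A // R₁ ≤ B ∧ B.FG}

instance : IsDirected (Idx R₁) (· ≤ ·) :=
  ⟨fun i j => ⟨⟨i.1 ⊔ j.1, i.2.1.trans le_sup_left, i.2.2.sup j.2.2⟩,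
    le_sup_left (a := i.1), le_sup_right (b := j.1)⟩⟩

instance algIdx (i : Idx R₁) : Algebra R₁ i.1 := (Subalgebra.inclusion i.2.1).toRingHom.toAlgebra

/-- the inclusion of a stage -/
def gIdx (i : Idx R₁) : i.1 →ₐ[R₁] A :=
  { i.1.val.toRingHom with commutes' := fun _ => rfl }

/-- the transition maps -/
def fIdx (i j : Idx R₁) (h : i ≤ j) : i.1 →ₐ[R₁] j.1 :=
  { (Subalgebra.inclusion h).toRingHom with commutes' := fun _ => rfl }

/-- a ring is the directed union of its finitely generated subrings containing a given one -/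
theorem sys_fg_subalgebras (hR₁ : R₁.FG) :
    Sys R₁ (fun i : Idx R₁ => ↥i.1) A (gIdx R₁) := by
  have : Nonempty (Idx R₁) := ⟨⟨R₁, le_refl _, hR₁⟩⟩
  refine Sys.of_directed (fIdx R₁) ?_ ?_ ?_
  · intro i j h
    rfl
  · intro a
    have hfg : (Algebra.adjoin ℤ ({a} : Set A)).FG := by
      have := Subalgebra.fg_adjoin_finset (R := ℤ) ({a} : Finset A)
      simpa using this
    exact ⟨⟨R₁ ⊔ Algebra.adjoin ℤ {a}, le_sup_left, hR₁.sup hfg⟩,
      ⟨a, (le_sup_right : Algebra.adjoin ℤ {a} ≤ R₁ ⊔ Algebra.adjoin ℤ {a})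
        (Algebra.subset_adjoin (Set.mem_singleton a))⟩, rfl⟩
  · intro i x hx
    refine ⟨i, le_refl _, ?_⟩
    have : x = 0 := Subtype.ext hx
    rw [this, map_zero]

end SysFG

section Tensor

variable {R : Type u} [CommRing R] {n c : ℕ} (F : Fin c → MvPolynomial (Fin n) R)
  (S : Type u) [CommRing S] [Algebra R S]

/-- the tensor form of the bound on local fibre dimensions of a relative global complete
intersection -/
theorem forall_fibLD_tensor_of_isRelGCI (h : Synt.IsRelGCI S n c (mapF R S F))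
    (Q : PrimeSpectrum (S ⊗[R] (MvPolynomial (Fin n) R ⧸ Ideal.span (Set.range F)))) :
    c ≤ n ∧ fibLD (PrimeSpectrum.comap (algebraMap S
      (S ⊗[R] (MvPolynomial (Fin n) R ⧸ Ideal.span (Set.range F))))) Q ≤
        ((n - c : ℕ) : WithBot ℕ∞) := by
  rw [fibLD_algEquiv (S₁ := MvPolynomial (Fin n) S ⧸ Ideal.span (Set.range (mapF R S F)))
    (S₂ := S ⊗[R] (MvPolynomial (Fin n) R ⧸ Ideal.span (Set.range F))) (bcEquiv R S F).symm Q]
  exact Groth.Agent.Lib.T2H7.SyntN.fibLD_le_of_isRelGCI (mapF R S F) h _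

theorem isRelGCI_of_forall_fibLD_tensor
    (hW : ∀ Q : PrimeSpectrum (S ⊗[R] (MvPolynomial (Fin n) R ⧸ Ideal.span (Set.range F))),
      c ≤ n ∧ fibLD (PrimeSpectrum.comap (algebraMap S
        (S ⊗[R] (MvPolynomial (Fin n) R ⧸ Ideal.span (Set.range F))))) Q ≤
          ((n - c : ℕ) : WithBot ℕ∞)) :
    Synt.IsRelGCI S n c (mapF R S F) := by
  apply isRelGCI_of_forall_fibLD_le
  intro q
  rw [fibLD_algEquiv (S₂ := MvPolynomial (Fin n) S ⧸ Ideal.span (Set.range (mapF R S F)))
    (S₁ := S ⊗[R] (MvPolynomial (Fin n) R ⧸ Ideal.span (Set.range F))) (bcEquiv R S F) q]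
  exact hW _

end Tensor

section PB

variable {R : Type u} [CommRing R] (C : Type u) [CommRing C] [Algebra R C]
  [Algebra.FinitePresentation R C]
  {S S' : Type u} [CommRing S] [CommRing S'] [Algebra R S] [Algebra R S']

/-- the local fibre dimension of a base change -/
theorem fibLD_tensor_map (φ : S →ₐ[R] S') (Q : PrimeSpectrum (S' ⊗[R] C)) :
    fibLD (PrimeSpectrum.comap (algebraMap S' (S' ⊗[R] C))) Q =
      fibLD (PrimeSpectrum.comap (algebraMap S (S ⊗[R] C)))
        (PrimeSpectrum.comap (mφ C φ).toRingHom Q) := by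
  have := lfp_fS (R := R) C S
  have h := Groth.Agent.Lib.Helper3.LocDimBC.fibreDimAt_eq_of_isPullback (fS R C S)
    (Spec.map (CommRingCat.ofHom φ.toRingHom)) (tS C φ) (fS R C S') (isPullback_tS C φ) Q
  rw [fibreDimAt_eq_fibLD, fibreDimAt_eq_fibLD] at h
  exact h

end PB

section Core

variable {R : Type u} [CommRing R] {ι : Type u} {G : ι → Type u} [∀ i, CommRing (G i)]
    [∀ i, Algebra R (G i)] {A : Type u} [CommRing A] [Algebra R A] {g : ∀ i, G i →ₐ[R] A}
    {n c : ℕ} (F : Fin c → MvPolynomial (Fin n) R)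

/-- a relative global complete intersection over a directed colimit is one over a stage -/
theorem core_relGCI (hS : Sys R G A g) (h : Synt.IsRelGCI A n c (mapF R A F)) :
    ∃ j, Synt.IsRelGCI (G j) n c (mapF R (G j) F) := by
  obtain ⟨i⟩ := hS.nonempty
  let C := Synt.RelGCIRing R n c F
  have hfpC : Algebra.FinitePresentation R C :=
    Algebra.FinitePresentation.quotient (Submodule.fg_span (Set.finite_range F))
  have hft : Algebra.FiniteType (G i) (G i ⊗[R] C) := inferInstance
  let W : Set (PrimeSpectrum (G i ⊗[R] C)) :=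
    {q | c ≤ n ∧ fibLD (PrimeSpectrum.comap (algebraMap (G i) (G i ⊗[R] C))) q ≤
      ((n - c : ℕ) : WithBot ℕ∞)}
  have hopen : IsOpen W := by
    by_cases hcn : c ≤ n
    · have := isOpen_setOf_fibLD_comap_le (G i) (G i ⊗[R] C) (n - c)
      have hW : W = {q | fibLD (PrimeSpectrum.comap (algebraMap (G i) (G i ⊗[R] C))) q ≤
          ((n - c : ℕ) : WithBot ℕ∞)} := by
        ext q
        exact ⟨fun h => h.2, fun h => ⟨hcn, h⟩⟩
      rw [hW]
      exact this
    · have hW : W = ∅ := by
        ext q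
        simp only [W, Set.mem_ofPred_eq, Set.mem_empty_iff_false, iff_false, not_and]
        intro h
        exact absurd h hcn
      rw [hW]
      exact isOpen_empty
  let K : Ideal (G i ⊗[R] C) := PrimeSpectrum.vanishingIdeal Wᶜ
  have hKZ : PrimeSpectrum.zeroLocus (K : Set (G i ⊗[R] C)) = Wᶜ := by
    rw [PrimeSpectrum.zeroLocus_vanishingIdeal_eq_closure, hopen.isClosed_compl.closure_eq]
  have hKtop : K.map (mφ C (g i)).toRingHom = ⊤ := by
    by_contra hne
    obtain ⟨m, hm, hle⟩ := Ideal.exists_le_maximal _ hne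
    let Q : PrimeSpectrum (A ⊗[R] C) := ⟨m, hm.isPrime⟩
    have h1 : PrimeSpectrum.comap (mφ C (g i)).toRingHom Q ∈ Wᶜ := by
      rw [← hKZ, PrimeSpectrum.mem_zeroLocus]
      exact Ideal.map_le_iff_le_comap.mp hle
    apply h1
    have h2 := forall_fibLD_tensor_of_isRelGCI F A h Q
    refine ⟨h2.1, ?_⟩
    rw [← fibLD_tensor_map C (g i) Q]
    exact h2.2
  obtain ⟨j, φ, e, hj⟩ := exists_stage_map_eq_top hS i K hKtop
  refine ⟨j, isRelGCI_of_forall_fibLD_tensor F (G j) fun Q => ?_⟩
  have h1 : PrimeSpectrum.comap (mφ C φ).toRingHom Q ∈ W := by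
    by_contra hx
    have hx' : PrimeSpectrum.comap (mφ C φ).toRingHom Q ∈ Wᶜ := hx
    rw [← hKZ, PrimeSpectrum.mem_zeroLocus] at hx'
    have h2 : K.map (mφ C φ).toRingHom ≤ Q.asIdeal := Ideal.map_le_iff_le_comap.mpr hx'
    rw [hj] at h2
    exact Q.isPrime.ne_top (top_le_iff.mp h2)
  refine ⟨h1.1, ?_⟩
  rw [fibLD_tensor_map C φ Q]
  exact h1.2

end Core

section Final

/-- a relative global complete intersection descends to a finite type `ℤ`-subalgebra containing
the coefficients -/
theorem exists_subalgebra (R : Type u) [CommRing R] (n c : ℕ)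
    (F : Fin c → MvPolynomial (Fin n) R) (h : Synt.IsRelGCI R n c F) :
    ∃ (R₀ : Subalgebra ℤ R) (F₀ : Fin c → MvPolynomial (Fin n) R₀), Algebra.FiniteType ℤ R₀ ∧
      (∀ i, MvPolynomial.map (algebraMap R₀ R) (F₀ i) = F i) ∧ Synt.IsRelGCI R₀ n c F₀ := by
  classical
  let cs : Finset R := Finset.univ.biUnion fun i => (F i).coeffs
  let R₁ : Subalgebra ℤ R := Algebra.adjoin ℤ (cs : Set R)
  have hR₁fg : R₁.FG := Subalgebra.fg_adjoin_finset cs
  have hF : ∀ i, ∃ p : MvPolynomial (Fin n) R₁, MvPolynomial.map (algebraMap R₁ R) p = F i := by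
    intro i
    have : F i ∈ Set.range (MvPolynomial.map (algebraMap R₁ R)) := by
      rw [MvPolynomial.mem_range_map_iff_coeffs_subset]
      intro a ha
      refine ⟨⟨a, Algebra.subset_adjoin ?_⟩, rfl⟩
      exact Finset.mem_biUnion.mpr ⟨i, Finset.mem_univ _, ha⟩
    exact this
  choose F₁ hF₁ using hF
  have hS := sys_fg_subalgebras R₁ hR₁fg
  have h' : Synt.IsRelGCI R n c (mapF R₁ R F₁) := by
    have : mapF R₁ R F₁ = F := funext hF₁
    rw [this]
    exact h
  obtain ⟨j, hj⟩ := core_relGCI F₁ hS h'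
  refine ⟨j.1, fun i => MvPolynomial.map (algebraMap R₁ j.1) (F₁ i), ?_, ?_, hj⟩
  · exact (Subalgebra.fg_iff_finiteType j.1).mp j.2.2
  · intro i
    rw [← hF₁ i, MvPolynomial.map_map]
    rfl

end Final

end Groth.Agent.Lib.T2H7.RelGCIApprox
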