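import Groth.Prelude.Def_Flat
import Mathlib

/-!
# Residue degrees of a finite universal homeomorphism (helper7)

* `finite_and_finrank_le`: for an affine morphism `p` whose ring map over an affine open `V` is
  generated as a module by a finset `s`, every residue field extension over `V` is finite of degree
  at most `s.card`.
* `main`: for a finite universal homeomorphism onto a quasi-compact scheme, all residue degrees are
  powers of the exponential characteristic dividing one integer `d`.
-/

set_option autoImplicit false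
set_option linter.style.haveILetI false
universe u
open CategoryTheory AlgebraicGeometry Opposite TopologicalSpace

namespace Groth.Agent.Lib.T2H7.ResDeg

variable {T' T : Scheme.{u}} (p : T' ⟶ T)

theorem finite_and_finrank_le [IsAffineHom p] (V : T.Opens) (hV : IsAffineOpen V)
    (s : Finset Γ(T', p ⁻¹ᵁ V))
    (hs : ∀ b : Γ(T', p ⁻¹ᵁ V), ∃ c : Γ(T', p ⁻¹ᵁ V) → Γ(T, V),
      b = ∑ x ∈ s, (p.app V).hom (c x) * x)
    (t' : T') (ht' : p t' ∈ V) :
    @Module.Finite (T.residueField (p t')) (T'.residueField t') _ _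
        (p.residueFieldMap t').hom.toAlgebra.toModule ∧
    @Module.finrank (T.residueField (p t')) (T'.residueField t') _ _
        (p.residueFieldMap t').hom.toAlgebra.toModule ≤ s.card := by
  letI alg : Algebra (T.residueField (p t')) (T'.residueField t') :=
    (p.residueFieldMap t').hom.toAlgebra
  have hU : IsAffineOpen (p ⁻¹ᵁ V) := hV.preimage p
  let ev' : Γ(T', p ⁻¹ᵁ V) →+* T'.residueField t' := (T'.evaluation (p ⁻¹ᵁ V) t' ht').hom
  let ev : Γ(T, V) →+* T.residueField (p t') := (T.evaluation V (p t') ht').hom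
  have hnat : ∀ a, algebraMap (T.residueField (p t')) (T'.residueField t') (ev a) =
      ev' ((p.app V).hom a) := fun a => Scheme.evaluation_naturality_apply p t' ht' a
  let W : Submodule (T.residueField (p t')) (T'.residueField t') :=
    Submodule.span (T.residueField (p t')) (ev' '' (s : Set Γ(T', p ⁻¹ᵁ V)))
  have h1 : ∀ b, ev' b ∈ W := by
    intro b
    obtain ⟨c, hc⟩ := hs b
    rw [hc, map_sum]
    refine Submodule.sum_mem _ fun x hx => ?_
    rw [map_mul, ← hnat, ← Algebra.smul_def]
    exact Submodule.smul_mem _ _ (Submodule.subset_span ⟨x, hx, rfl⟩)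
  let S : Subalgebra (T.residueField (p t')) (T'.residueField t') :=
    Algebra.adjoin (T.residueField (p t')) (Set.range ev')
  have hS : Subalgebra.toSubmodule S ≤ W := by
    rw [Algebra.adjoin_eq_span, Submodule.span_le]
    intro x hx
    have hle : Submonoid.closure (Set.range ev') ≤ ev'.rangeS.toSubmonoid :=
      Submonoid.closure_le.mpr (fun y hy => hy)
    obtain ⟨b, rfl⟩ := hle hx
    exact h1 b
  haveI hWfin : Module.Finite (T.residueField (p t')) W :=
    Module.Finite.span_of_finite _ (Set.Finite.image _ s.finite_toSet)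
  haveI hSfin : Module.Finite (T.residueField (p t')) S :=
    Module.Finite.of_injective (Submodule.inclusion hS) (Submodule.inclusion_injective hS)
  have hStop : S = ⊤ := by
    rw [eq_top_iff]
    intro x _
    obtain ⟨y, rfl⟩ := T'.residue_surjective t' x
    letI algst : Algebra Γ(T', p ⁻¹ᵁ V) (T'.presheaf.stalk t') :=
      TopCat.Presheaf.algebra_section_stalk T'.presheaf (⟨t', ht'⟩ : ↥(p ⁻¹ᵁ V))
    haveI hloc : IsLocalization.AtPrime (T'.presheaf.stalk t')
        (hU.primeIdealOf ⟨t', ht'⟩).asIdeal := hU.isLocalization_stalk ⟨t', ht'⟩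
    obtain ⟨⟨b, c⟩, hbc⟩ := IsLocalization.surj (hU.primeIdealOf ⟨t', ht'⟩).asIdeal.primeCompl y
    have hcu : IsUnit (algebraMap Γ(T', p ⁻¹ᵁ V) (T'.presheaf.stalk t') c) :=
      IsLocalization.map_units _ c
    have hev : ∀ a, (T'.residue t').hom (algebraMap Γ(T', p ⁻¹ᵁ V) (T'.presheaf.stalk t') a) =
        ev' a := fun a => rfl
    have hbc' : (T'.residue t').hom y * ev' c = ev' b := by
      rw [← hev, ← hev, ← map_mul]
      exact congrArg _ hbc
    have hc0 : ev' (c : Γ(T', p ⁻¹ᵁ V)) ≠ 0 := by
      rw [← hev]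
      exact (hcu.map (T'.residue t').hom).ne_zero
    have hcS : ev' (c : Γ(T', p ⁻¹ᵁ V)) ∈ S := Algebra.subset_adjoin ⟨_, rfl⟩
    have hbS : ev' b ∈ S := Algebra.subset_adjoin ⟨_, rfl⟩
    have hint : IsIntegral (T.residueField (p t')) (⟨ev' c, hcS⟩ : S) :=
      Algebra.IsIntegral.isIntegral _
    have hinv : (ev' (c : Γ(T', p ⁻¹ᵁ V)))⁻¹ ∈ S :=
      S.inv_mem_of_algebraic (x := ⟨ev' c, hcS⟩) (hint.map S.val).isAlgebraic
    have : (T'.residue t').hom y = ev' b * (ev' (c : Γ(T', p ⁻¹ᵁ V)))⁻¹ := by
      rw [← hbc', mul_assoc, mul_inv_cancel₀ hc0, mul_one]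
    rw [this]
    exact S.mul_mem hbS hinv
  have hWtop : W = ⊤ := by
    rw [eq_top_iff]
    intro x _
    have : x ∈ S := by rw [hStop]; trivial
    exact hS this
  refine ⟨?_, ?_⟩
  · exact Module.Finite.of_surjective (W.subtype) (by
      intro x
      exact ⟨⟨x, by rw [hWtop]; trivial⟩, rfl⟩)
  · have h2 : Module.finrank (T.residueField (p t')) (T'.residueField t') =
        Module.finrank (T.residueField (p t')) W := by
      rw [hWtop, finrank_top]
    rw [h2]
    classical
    have h3 : W = Submodule.span (T.residueField (p t'))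
        ((s.image ev' : Finset (T'.residueField t')) : Set (T'.residueField t')) := by
      simp only [W, Finset.coe_image]
    rw [h3]
    exact (finrank_span_finset_le_card _).trans Finset.card_image_le

theorem universallyInjective_of_isUnivHomeo (hp : FlatMor.IsUnivHomeo p) :
    UniversallyInjective p := by
  rw [universallyInjective_iff]
  refine MorphismProperty.universally_mono ?_ _ hp
  intro X Y f hf
  exact hf.injective

theorem exists_gens [IsFinite p] (V : T.Opens) (hV : IsAffineOpen V) :
    ∃ s : Finset Γ(T', p ⁻¹ᵁ V), ∀ b : Γ(T', p ⁻¹ᵁ V), ∃ c : Γ(T', p ⁻¹ᵁ V) → Γ(T, V),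
      b = ∑ x ∈ s, (p.app V).hom (c x) * x := by
  have hfin := IsFinite.finite_app p V hV
  letI := (p.app V).hom.toAlgebra
  obtain ⟨s, hs⟩ := (show Module.Finite Γ(T, V) Γ(T', p ⁻¹ᵁ V) from hfin).fg_top
  refine ⟨s, fun b => ?_⟩
  have hb : b ∈ Submodule.span Γ(T, V) (s : Set Γ(T', p ⁻¹ᵁ V)) := by rw [hs]; trivial
  obtain ⟨c, -, hc⟩ := Submodule.mem_span_finset.mp hb
  refine ⟨c, ?_⟩
  rw [← hc]
  refine Finset.sum_congr rfl fun x _ => ?_
  rw [Algebra.smul_def]
  rfl

theorem main [IsFinite p] (hp : FlatMor.IsUnivHomeo p) [CompactSpace T] :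
    ∃ d : ℕ, 0 < d ∧ ∀ t' : T', ∃ e : ℕ,
      @Module.finrank (T.residueField (p t')) (T'.residueField t') _ _
          (p.residueFieldMap t').hom.toAlgebra.toModule =
        ringExpChar (T.residueField (p t')) ^ e ∧
      ringExpChar (T.residueField (p t')) ^ e ∣ d := by
  have hui : UniversallyInjective p := universallyInjective_of_isUnivHomeo p hp
  have h3 : Function.Injective p ∧ ∀ x, (p.residueFieldMap x).hom.IsPurelyInseparable :=
    ((tfae_universallyInjective p).out 0 2).mp hui
  -- finite affine cover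
  have hcov : ∀ t : T, ∃ V : T.Opens, IsAffineOpen V ∧ t ∈ V := by
    intro t
    obtain ⟨_, ⟨V, hV, rfl⟩, htV, -⟩ := T.isBasis_affineOpens.exists_subset_of_mem_open
      (Set.mem_univ t) isOpen_univ
    exact ⟨V, hV, htV⟩
  choose V hV htV using hcov
  obtain ⟨I, hI⟩ := isCompact_univ.elim_finite_subcover (fun t => (V t : Set T))
    (fun t => (V t).isOpen) (fun t _ => Set.mem_iUnion.mpr ⟨t, htV t⟩)
  choose s hs using fun t => exists_gens p (V t) (hV t)
  refine ⟨(I.sup fun t => (s t).card).factorial, Nat.factorial_pos _, fun t' => ?_⟩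
  obtain ⟨i, hi⟩ := Set.mem_iUnion.mp (hI (Set.mem_univ (p t')))
  obtain ⟨hiI, hi⟩ := Set.mem_iUnion.mp hi
  obtain ⟨hfin, hle⟩ := finite_and_finrank_le p (V i) (hV i) (s i) (hs i) t' hi
  have hpi := h3.2 t'
  letI alg : Algebra (T.residueField (p t')) (T'.residueField t') :=
    (p.residueFieldMap t').hom.toAlgebra
  haveI : IsPurelyInseparable (T.residueField (p t')) (T'.residueField t') := hpi
  haveI : FiniteDimensional (T.residueField (p t')) (T'.residueField t') := hfin
  obtain ⟨e, he⟩ := IsPurelyInseparable.finrank_eq_pow (T.residueField (p t'))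
    (T'.residueField t') (ringExpChar (T.residueField (p t')))
  refine ⟨e, he, ?_⟩
  refine Nat.dvd_factorial (pow_pos (expChar_pos (T.residueField (p t')) _) _) ?_
  rw [← he]
  exact hle.trans (Finset.le_sup (f := fun t => (s t).card) hiI)

end Groth.Agent.Lib.T2H7.ResDeg
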