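import Mathlib

/-!
# Residue field maps at the image of a field-valued point inducing an isomorphism (helper7)
-/

set_option autoImplicit false
set_option linter.unusedSectionVars false
set_option linter.unusedVariables false
set_option linter.style.haveILetI false
universe u
open CategoryTheory AlgebraicGeometry

namespace Groth.Agent.Lib.T2H7.ResFieldIso

/-- If `z ≫ f` is an isomorphism for a morphism `z` from a scheme `Z`, then `f` induces an isomorphism of
residue fields at every point in the image of `z`. -/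
theorem isIso_residueFieldMap_of_isIso_comp {Z X Y : Scheme.{u}} (f : X ⟶ Y) (z : Z ⟶ X)
    [IsIso (z ≫ f)] (pt : Z) : IsIso (f.residueFieldMap (z pt)) := by
  have hcomp : (z ≫ f).residueFieldMap pt = f.residueFieldMap (z pt) ≫ z.residueFieldMap pt :=
    Scheme.residueFieldMap_comp z f pt
  have hiso : IsIso ((z ≫ f).residueFieldMap pt) := inferInstance
  rw [hcomp] at hiso
  have hbij := (ConcreteCategory.isIso_iff_bijective _).mp hiso
  rw [ConcreteCategory.isIso_iff_bijective]
  refine ⟨(f.residueFieldMap (z pt)).hom.injective, fun y => ?_⟩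
  obtain ⟨x, hx⟩ := hbij.2 ((z.residueFieldMap pt).hom y)
  refine ⟨x, (z.residueFieldMap pt).hom.injective ?_⟩
  exact hx

end Groth.Agent.Lib.T2H7.ResFieldIso

namespace Groth.Agent.Lib.T2H7.ResFieldIso

open CategoryTheory.Limits

/-- A point of the restriction `U' ×_U R ×_U U'` of the arrows `R` of a groupoid-like pair `(s, t)`
along `g : Z ⟶ U`, built from a `Z`-point of `R` whose target is `g` and whose source is `a ≫ g` for an
automorphism `a` of `Z`. -/
theorem exists_point_restriction {Z R U : Scheme.{u}} (s t : R ⟶ U) (g : Z ⟶ U) (ρ : Z ⟶ R)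
    (a : Z ⟶ Z) [IsIso a] (c₁ : g = ρ ≫ t) (c₂ : ρ ≫ s = a ≫ g) (pt : Z) :
    ∃ r' : ↑(pullback (pullback.snd g t ≫ s) g),
      (pullback.fst (pullback.snd g t ≫ s) g ≫ pullback.snd g t) r' = ρ pt ∧
      IsIso ((pullback.snd (pullback.snd g t ≫ s) g).residueFieldMap r') ∧
      IsIso ((pullback.fst (pullback.snd g t ≫ s) g ≫ pullback.fst g t).residueFieldMap r') := by
  have c₁' : 𝟙 Z ≫ g = ρ ≫ t := by rw [Category.id_comp]; exact c₁
  have c₂' : pullback.lift (𝟙 Z) ρ c₁' ≫ (pullback.snd g t ≫ s) = a ≫ g := by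
    rw [pullback.lift_snd_assoc]; exact c₂
  let z : Z ⟶ pullback (pullback.snd g t ≫ s) g := pullback.lift (pullback.lift (𝟙 Z) ρ c₁') a c₂'
  have e1 : z ≫ pullback.fst (pullback.snd g t ≫ s) g ≫ pullback.snd g t = ρ := by
    rw [pullback.lift_fst_assoc, pullback.lift_snd]
  have e2 : z ≫ pullback.snd (pullback.snd g t ≫ s) g = a := pullback.lift_snd _ _ _
  have e3 : z ≫ pullback.fst (pullback.snd g t ≫ s) g ≫ pullback.fst g t = 𝟙 Z := by
    rw [pullback.lift_fst_assoc, pullback.lift_fst]
  refine ⟨z pt, ?_, ?_, ?_⟩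
  · exact congrArg (fun φ : Z ⟶ R => φ pt) e1
  · haveI : IsIso (z ≫ pullback.snd (pullback.snd g t ≫ s) g) := by rw [e2]; infer_instance
    exact isIso_residueFieldMap_of_isIso_comp _ z pt
  · haveI : IsIso (z ≫ pullback.fst (pullback.snd g t ≫ s) g ≫ pullback.fst g t) := by
      rw [e3]; infer_instance
    exact isIso_residueFieldMap_of_isIso_comp _ z pt

end Groth.Agent.Lib.T2H7.ResFieldIso
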