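import Groth.Agent.Lib.T2H7MtModelB

/-!
Rigidity of families of endomorphisms of diagonalisable groups, part A: the local form of a
homomorphism `D(N) ⟶ D(M)` over an affine base near a prime, and the adjunction bookkeeping.
-/

set_option autoImplicit false
set_option linter.unusedSectionVars false
set_option linter.unusedVariables false
set_option linter.style.haveILetI false
universe u
open CategoryTheory CategoryTheory.Limits MonoidalCategory CartesianMonoidalCategory MonObj GrpObj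
  AlgebraicGeometry

namespace Groth.Agent.Lib.T2H7.Rigid

open Groth.Agent.Lib.T2H3.MultGa Groth.Agent.Lib.Helper27.GaGm
  Groth.Agent.Lib.T2H7.DiagDS Groth.Agent.Lib.T2H7.DiagHomA Groth.Agent.Lib.T2H7.DiagHomB
  Groth.Agent.Lib.T2H7.DiagHomC Groth.Agent.Lib.T2H7.DiagHomD Groth.Agent.Lib.T2H7.DiagHomE
  Groth.Agent.Lib.T2H7.MtModel

variable {A : Type u} [CommRing A] {M N : Type} [AddCommGroup M] [AddCommGroup N]

/-- **Local form.** Near a prime, a homomorphism `D(N) ⟶ D(M)` acts on characters through some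
`ψ : M →+ N`. -/
theorem local_form [AddGroup.FG M]
    (φ : Red.DS (Spec (CommRingCat.of A)) N ⟶ Red.DS (Spec (CommRingCat.of A)) M) [IsMonHom φ]
    (x : Spec (CommRingCat.of A)) :
    ∃ r : A, r ∉ x.asIdeal ∧ ∃ ψ : M →+ N, ∀ (Y : Over (Spec (CommRingCat.of A))),
      IsUnit (Y.hom.appTop (toG r)) → ∀ (y : Y ⟶ Red.DS (Spec (CommRingCat.of A)) N) (m : M),
        dsFn (y ≫ φ) (sg m) = dsFn y (sg (ψ m)) := by
  obtain ⟨a, haiso, hamon, ha1⟩ := exists_iso A N
  haveI := haiso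
  haveI := hamon
  obtain ⟨c, hgl, hc0, hcadd, hc⟩ := exists_family a φ
  haveI : x.asIdeal.IsPrime := x.isPrime
  obtain ⟨ψ, hψ⟩ := exists_addHom_prime c hgl hcadd x.asIdeal
  obtain ⟨g, hgp, hgg, hg⟩ := exists_idem_smul c hgl hc0 hcadd x.asIdeal ψ hψ
  obtain ⟨δ, hδmon, hδ⟩ := exists_dsHom (T := Spec (CommRingCat.of A)) ψ
  refine ⟨g, hgp, ψ, fun Y hY y m => ?_⟩
  rw [comp_eq_of_isUnit a ha1 φ δ c hc ψ hδ g hg Y hY y]
  exact dsFn_comp_of_chr y δ ψ hδ m

end Groth.Agent.Lib.T2H7.Rigid
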