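import Groth.Agent.Lib.T2H7RigidA

set_option autoImplicit false
set_option linter.unusedSectionVars false
set_option linter.unusedVariables false
set_option linter.style.haveILetI false
universe u
open CategoryTheory CategoryTheory.Limits MonoidalCategory CartesianMonoidalCategory MonObj GrpObj
  AlgebraicGeometry

namespace Groth.Agent.Lib.T2H7.Rigid

open Groth.Agent.Lib.T2H3.MultGa Groth.Agent.Lib.Helper27.GaGm
  Groth.Agent.Lib.T2H7.DiagDS Groth.Agent.Lib.T2H7.DiagHomA Groth.Agent.Lib.T2H7.DiagHomB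
  Groth.Agent.Lib.T2H7.MtModel

section Adj

variable {U V : Scheme.{u}} (p : V ⟶ U) (M : Type) [AddCommGroup M]

/-- points of `D_U(M)` with values in a `V`-scheme, as points of `D_V(M)`. -/
noncomputable def toA {Y : Over V} (h : (Over.map p).obj Y ⟶ Red.DS U M) : Y ⟶ Red.DS V M :=
  (Over.mapPullbackAdj p).homEquiv Y (Red.DS U M) h ≫ (cIso p M).hom

/-- the inverse of `toA`. -/
noncomputable def ofA {Y : Over V} (y : Y ⟶ Red.DS V M) : (Over.map p).obj Y ⟶ Red.DS U M :=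
  ((Over.mapPullbackAdj p).homEquiv Y (Red.DS U M)).symm (y ≫ (cIso p M).inv)

theorem toA_ofA {Y : Over V} (y : Y ⟶ Red.DS V M) : toA p M (ofA p M y) = y := by
  unfold toA ofA
  rw [Equiv.apply_symm_apply, Category.assoc, Iso.inv_hom_id, Category.comp_id]

theorem ofA_toA {Y : Over V} (h : (Over.map p).obj Y ⟶ Red.DS U M) : ofA p M (toA p M h) = h := by
  unfold toA ofA
  rw [Category.assoc, Iso.hom_inv_id, Category.comp_id, Equiv.symm_apply_apply]

theorem toA_mul {Y : Over V} (h h' : (Over.map p).obj Y ⟶ Red.DS U M) :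
    toA p M (h * h') = toA p M h * toA p M h' := by
  unfold toA
  rw [AlgGrp.Action.homEquiv_mul]
  exact MonObj.mul_comp _ _ (cIso p M).hom

theorem comp_toA {Y Y' : Over V} (z : Y' ⟶ Y) (h : (Over.map p).obj Y ⟶ Red.DS U M) :
    z ≫ toA p M h = toA p M ((Over.map p).map z ≫ h) := by
  unfold toA
  rw [← Category.assoc, ← Adjunction.homEquiv_naturality_left]

theorem map_comp_ofA {Y Y' : Over V} (z : Y' ⟶ Y) (y : Y ⟶ Red.DS V M) :
    (Over.map p).map z ≫ ofA p M y = ofA p M (z ≫ y) := by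
  unfold ofA
  rw [← Adjunction.homEquiv_naturality_left_symm, Category.assoc]

theorem dsFn_toA {Y : Over V} (h : (Over.map p).obj Y ⟶ Red.DS U M) (m : M) :
    dsFn (toA p M h) (sg m) = dsFn h (sg m) := by
  unfold toA
  rw [dsFn_comp, dsFn_cIso, dsFn_sg]
  have h1 : ((Over.mapPullbackAdj p).homEquiv Y (Red.DS U M) h).left ≫
      pullback.fst (Red.DS U M).hom p = h.left := by
    simp [Adjunction.homEquiv_unit]
    erw [pullback.lift_fst, pullback.lift_fst_assoc, Category.id_comp]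
  rw [← h1, Scheme.Hom.comp_appTop]
  rfl

end Adj

theorem ofA_mul {U V : Scheme.{u}} (p : V ⟶ U) (M : Type) [AddCommGroup M] {Y : Over V}
    (y y' : Y ⟶ Red.DS V M) : ofA p M (y * y') = ofA p M y * ofA p M y' := by
  have h := toA_mul p M (ofA p M y) (ofA p M y')
  rw [toA_ofA, toA_ofA] at h
  rw [← h, ofA_toA]

section Family

variable {U : Scheme.{u}} {𝒢 : Over U} {M : Type} [AddCommGroup M]
  (Φ : 𝒢 ⊗ Red.DS U M ⟶ Red.DS U M)
  {A : Type u} [CommRing A] (j₀ : Spec (CommRingCat.of A) ⟶ 𝒢.left)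

/-- the tautological `𝒢`-point of a scheme over `Spec A`. -/
noncomputable def gpt (Y : Over (Spec (CommRingCat.of A))) :
    (Over.map (j₀ ≫ 𝒢.hom)).obj Y ⟶ 𝒢 :=
  Over.homMk (Y.hom ≫ j₀) (by simp)

theorem map_comp_gpt {Y Y' : Over (Spec (CommRingCat.of A))} (z : Y' ⟶ Y) :
    (Over.map (j₀ ≫ 𝒢.hom)).map z ≫ gpt j₀ Y = gpt j₀ Y' := by
  ext
  simp [gpt]

/-- the endomorphism of `D_A(M)` induced by the family. -/
noncomputable def xi : Red.DS (Spec (CommRingCat.of A)) M ⟶ Red.DS (Spec (CommRingCat.of A)) M :=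
  toA (j₀ ≫ 𝒢.hom) M (lift (gpt j₀ (Red.DS (Spec (CommRingCat.of A)) M))
    (ofA (j₀ ≫ 𝒢.hom) M (𝟙 _)) ≫ Φ)

theorem comp_xi {Y : Over (Spec (CommRingCat.of A))}
    (y : Y ⟶ Red.DS (Spec (CommRingCat.of A)) M) :
    y ≫ xi Φ j₀ = toA (j₀ ≫ 𝒢.hom) M (lift (gpt j₀ Y) (ofA (j₀ ≫ 𝒢.hom) M y) ≫ Φ) := by
  unfold xi
  rw [comp_toA, ← Category.assoc, comp_lift, map_comp_gpt, map_comp_ofA, Category.comp_id]

variable (hΦ : ∀ (X : Over U) (g : X ⟶ 𝒢) (h h' : X ⟶ Red.DS U M),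
  lift g (h * h') ≫ Φ = (lift g h ≫ Φ) * (lift g h' ≫ Φ))

include hΦ in
theorem isMonHom_xi : IsMonHom (xi Φ j₀) := by
  apply isMonHom_of_points
  rw [comp_xi, comp_xi, comp_xi, ofA_mul, hΦ, toA_mul]

include hΦ in
/-- **The family has a constant form near every point of `Spec A`.** -/
theorem form_near [AddGroup.FG M] (x : Spec (CommRingCat.of A)) :
    ∃ r : A, r ∉ x.asIdeal ∧ ∃ ψ : M →+ M, ∀ (Y : Over (Spec (CommRingCat.of A))),
      IsUnit (Y.hom.appTop (toG r)) → ∀ (h : (Over.map (j₀ ≫ 𝒢.hom)).obj Y ⟶ Red.DS U M) (m : M),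
        dsFn (lift (gpt j₀ Y) h ≫ Φ) (sg m) = dsFn h (sg (ψ m)) := by
  haveI := isMonHom_xi Φ j₀ hΦ
  obtain ⟨r, hr, ψ, hψ⟩ := local_form (xi Φ j₀) x
  refine ⟨r, hr, ψ, fun Y hY h m => ?_⟩
  have h1 := hψ Y hY (toA (j₀ ≫ 𝒢.hom) M h) m
  rw [comp_xi, ofA_toA, dsFn_toA, dsFn_toA] at h1
  exact h1

end Family

end Groth.Agent.Lib.T2H7.Rigid
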