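import Groth.Agent.Lib.T2H7RigidB

set_option autoImplicit false
set_option linter.unusedSectionVars false
set_option linter.unusedVariables false
set_option linter.style.haveILetI false
universe u
open CategoryTheory CategoryTheory.Limits MonoidalCategory CartesianMonoidalCategory MonObj GrpObj
  AlgebraicGeometry

namespace Groth.Agent.Lib.T2H7.Rigid

open Groth.Agent.Lib.T2H3.MultGa Groth.Agent.Lib.Helper27.GaGm
  Groth.Agent.Lib.T2H7.DiagDS Groth.Agent.Lib.T2H7.DiagHomA Groth.Agent.Lib.T2H7.DiagHomB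
  Groth.Agent.Lib.T2H7.DiagHomD Groth.Agent.Lib.T2H7.MtModel

section Core

variable {U : Scheme.{u}} {𝒢 : Over U} {M : Type} [AddCommGroup M]
  (Φ : 𝒢 ⊗ Red.DS U M ⟶ Red.DS U M)

/-- on points lying over the open `O` of `𝒢`, the family acts on characters through `ψ`. -/
def FormOn (ψ : M →+ M) (O : 𝒢.left.Opens) : Prop :=
  ∀ (X : Over U) (g : X ⟶ 𝒢) (h : X ⟶ Red.DS U M), Set.range g.left ⊆ (O : Set 𝒢.left) →
    ∀ m, dsFn (lift g h ≫ Φ) (sg m) = dsFn h (sg (ψ m))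

variable (hΦ : ∀ (X : Over U) (g : X ⟶ 𝒢) (h h' : X ⟶ Red.DS U M),
  lift g (h * h') ≫ Φ = (lift g h ≫ Φ) * (lift g h' ≫ Φ))

include hΦ in
/-- L1: a form exists near every point. -/
theorem exists_formOn [AddGroup.FG M] (x : 𝒢.left) :
    ∃ O : 𝒢.left.Opens, x ∈ O ∧ ∃ ψ : M →+ M, FormOn Φ ψ O := by
  obtain ⟨_, ⟨X₀, hX₀, rfl⟩, hxX₀, -⟩ :=
    (𝒢.left).isBasis_affineOpens.exists_subset_of_mem_open
      (show x ∈ ((⊤ : 𝒢.left.Opens) : Set _) from trivial) (⊤ : 𝒢.left.Opens).2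
  have hX₁ : IsAffineOpen X₀ := hX₀
  obtain ⟨j₀, hj₀⟩ : ∃ j₀ : Spec (CommRingCat.of ↑Γ(𝒢.left, X₀)) ⟶ 𝒢.left, j₀ = hX₁.fromSpec :=
    ⟨_, rfl⟩
  haveI : IsOpenImmersion j₀ := by rw [hj₀]; infer_instance
  obtain ⟨x₀, hx₀⟩ : ∃ x₀, j₀ x₀ = x := by
    have : x ∈ Set.range j₀ := by
      rw [hj₀, hX₁.range_fromSpec]
      exact hxX₀
    exact this
  obtain ⟨r, hr, ψ, hψ⟩ := form_near Φ j₀ hΦ x₀
  refine ⟨j₀ ''ᵁ (PrimeSpectrum.basicOpen r), ⟨x₀, hr, hx₀⟩, ψ, ?_⟩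
  intro X g h hg m
  -- lift `g` through `j₀`
  have hr' : Set.range g.left ⊆ Set.range j₀ := fun y hy => by
    obtain ⟨z, -, hz⟩ := hg hy
    exact ⟨z, hz⟩
  obtain ⟨g₀, hg₀⟩ : ∃ g₀ : X.left ⟶ Spec (CommRingCat.of ↑Γ(𝒢.left, X₀)), g₀ ≫ j₀ = g.left :=
    ⟨IsOpenImmersion.lift j₀ g.left hr', IsOpenImmersion.lift_fac _ _ _⟩
  let Y : Over (Spec (CommRingCat.of ↑Γ(𝒢.left, X₀))) := Over.mk g₀
  have hw : g₀ ≫ j₀ ≫ 𝒢.hom = X.hom := by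
    rw [← Category.assoc, hg₀, Over.w g]
  let θ : (Over.map (j₀ ≫ 𝒢.hom)).obj Y ≅ X := Over.isoMk (Iso.refl X.left) (by
    show 𝟙 _ ≫ X.hom = g₀ ≫ j₀ ≫ 𝒢.hom
    rw [Category.id_comp, hw])
  have hθ : θ.hom.left = 𝟙 X.left := rfl
  have hgθ : gpt j₀ Y = θ.hom ≫ g := by
    ext
    show g₀ ≫ j₀ = 𝟙 _ ≫ g.left
    rw [hg₀, Category.id_comp]
  have hY : IsUnit (Y.hom.appTop (toG r)) := by
    apply isUnit_of_basicOpen_eq_top
    rw [← Scheme.Hom.preimage_basicOpen_top]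
    show g₀ ⁻¹ᵁ (Spec (CommRingCat.of ↑Γ(𝒢.left, X₀))).basicOpen
      ((Scheme.ΓSpecIso (CommRingCat.of ↑Γ(𝒢.left, X₀))).inv r) = ⊤
    rw [basicOpen_eq_of_affine]
    ext y
    simp only [TopologicalSpace.Opens.coe_top, Set.mem_univ, iff_true]
    obtain ⟨z, hz, hzy⟩ := hg ⟨y, rfl⟩
    have e1 : (g₀ ≫ j₀) y = g.left y := by rw [hg₀]
    have : j₀ (g₀ y) = j₀ z := e1.trans hzy.symm
    have h2 := j₀.isOpenEmbedding.injective this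
    show g₀ y ∈ PrimeSpectrum.basicOpen r
    rw [h2]
    exact hz
  have h1 := hψ Y hY (θ.hom ≫ h) m
  rw [hgθ, ← comp_lift, Category.assoc, dsFn_comp θ.hom (lift g h ≫ Φ), dsFn_comp θ.hom h,
    hθ] at h1
  have h2 : ∀ s : Γ(X.left, ⊤), (𝟙 X.left : X.left ⟶ X.left).appTop s = s := fun s => by simp
  rw [h2, h2] at h1
  exact h1

end Core

end Groth.Agent.Lib.T2H7.Rigid
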