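import Groth.Agent.Lib.T2H7RigidC

set_option autoImplicit false
set_option linter.unusedSectionVars false
set_option linter.unusedVariables false
set_option linter.style.haveILetI false
universe u
open CategoryTheory CategoryTheory.Limits MonoidalCategory CartesianMonoidalCategory MonObj GrpObj
  AlgebraicGeometry

namespace Groth.Agent.Lib.T2H7.Rigid

open Groth.Agent.Lib.T2H3.MultGa Groth.Agent.Lib.Helper27.GaGm
  Groth.Agent.Lib.T2H7.DiagDS Groth.Agent.Lib.T2H7.DiagHomA Groth.Agent.Lib.T2H7.DiagHomB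
  Groth.Agent.Lib.T2H7.DiagHomD Groth.Agent.Lib.T2H7.MtModel

section Test

variable {U : Scheme.{u}} {𝒢 : Over U} {M : Type} [AddCommGroup M]
  (Φ : 𝒢 ⊗ Red.DS U M ⟶ Red.DS U M)
  (κ : Type u) [Field κ] (p : Spec (CommRingCat.of κ) ⟶ U)

/-- evaluating a form on the universal field-valued test point. -/
theorem test_eq (ψ : M →+ M) (O : 𝒢.left.Opens) (hform : FormOn Φ ψ O)
    (g : (Over.map p).obj (Red.DS (Spec (CommRingCat.of κ)) M) ⟶ 𝒢)
    (hg : Set.range g.left ⊆ (O : Set 𝒢.left)) (m : M) :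
    dsFn (lift g (ofA p M (𝟙 (Red.DS (Spec (CommRingCat.of κ)) M))) ≫ Φ) (sg m) =
      chr (Spec (CommRingCat.of κ)) (ψ m) := by
  rw [hform _ g _ hg m, ← dsFn_toA, toA_ofA]
  rfl

theorem test_unique (ψ ψ' : M →+ M) (O O' : 𝒢.left.Opens) (hform : FormOn Φ ψ O)
    (hform' : FormOn Φ ψ' O')
    (g : (Over.map p).obj (Red.DS (Spec (CommRingCat.of κ)) M) ⟶ 𝒢)
    (hg : Set.range g.left ⊆ (O : Set 𝒢.left)) (hg' : Set.range g.left ⊆ (O' : Set 𝒢.left)) :
    ψ = ψ' := by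
  refine AddMonoidHom.ext fun m => ?_
  have h1 := test_eq Φ κ p ψ O hform g hg m
  have h2 := test_eq Φ κ p ψ' O' hform' g hg' m
  exact chr_injective κ (h1.symm.trans h2)

theorem test_id (ψ : M →+ M) (O : 𝒢.left.Opens) (hform : FormOn Φ ψ O)
    (g : (Over.map p).obj (Red.DS (Spec (CommRingCat.of κ)) M) ⟶ 𝒢)
    (hg : Set.range g.left ⊆ (O : Set 𝒢.left))
    (hid : lift g (ofA p M (𝟙 (Red.DS (Spec (CommRingCat.of κ)) M))) ≫ Φ =
      ofA p M (𝟙 (Red.DS (Spec (CommRingCat.of κ)) M))) :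
    ψ = AddMonoidHom.id M := by
  refine AddMonoidHom.ext fun m => ?_
  have h1 := test_eq Φ κ p ψ O hform g hg m
  rw [hid, ← dsFn_toA, toA_ofA] at h1
  exact (chr_injective κ h1).symm

end Test

section Core

variable {U : Scheme.{u}} {𝒢 : Over U} {M : Type} [AddCommGroup M]
  (Φ : 𝒢 ⊗ Red.DS U M ⟶ Red.DS U M)

/-- L2: two forms agree at a common point. -/
theorem formOn_unique (x : 𝒢.left) (ψ ψ' : M →+ M) (O O' : 𝒢.left.Opens) (hx : x ∈ O)
    (hx' : x ∈ O') (hform : FormOn Φ ψ O) (hform' : FormOn Φ ψ' O') : ψ = ψ' := by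
  obtain ⟨t, ht⟩ : ∃ t : Spec (CommRingCat.of ↑(𝒢.left.residueField x)) ⟶ 𝒢.left,
      t = 𝒢.left.fromSpecResidueField x := ⟨_, rfl⟩
  have hrange : Set.range t = {x} := by
    rw [ht]
    exact Scheme.range_fromSpecResidueField x
  have hgr : ∀ O'' : 𝒢.left.Opens, x ∈ O'' →
      Set.range (gpt t (Red.DS (Spec (CommRingCat.of ↑(𝒢.left.residueField x))) M)).left ⊆
        (O'' : Set 𝒢.left) := by
    rintro O'' hxO _ ⟨y, rfl⟩
    have h1 : (gpt t (Red.DS (Spec (CommRingCat.of ↑(𝒢.left.residueField x))) M)).left y =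
        t ((Red.DS (Spec (CommRingCat.of ↑(𝒢.left.residueField x))) M).hom y) := rfl
    have h2 : t ((Red.DS (Spec (CommRingCat.of ↑(𝒢.left.residueField x))) M).hom y) ∈
        Set.range t := ⟨_, rfl⟩
    rw [hrange] at h2
    rw [h1, h2]
    exact hxO
  exact test_unique Φ _ (t ≫ 𝒢.hom) ψ ψ' O O' hform hform' (gpt t _) (hgr O hx) (hgr O' hx')

/-- L3: at a point of the section on which the family is the identity, the form is the
identity. -/
theorem formOn_id (o : 𝟙_ (Over U) ⟶ 𝒢)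
    (ho : ∀ (X : Over U) (h : X ⟶ Red.DS U M), lift (toUnit X ≫ o) h ≫ Φ = h)
    (v : U) (ψ : M →+ M) (O : 𝒢.left.Opens) (hv : o.left v ∈ O) (hform : FormOn Φ ψ O) :
    ψ = AddMonoidHom.id M := by
  obtain ⟨t, ht⟩ : ∃ t : Spec (CommRingCat.of ↑(U.residueField v)) ⟶ U,
      t = U.fromSpecResidueField v := ⟨_, rfl⟩
  have hrange : Set.range t = {v} := by
    rw [ht]
    exact Scheme.range_fromSpecResidueField v
  refine test_id Φ _ t ψ O hform (toUnit _ ≫ o) ?_ (ho _ _)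
  rintro _ ⟨y, rfl⟩
  have h0 : (toUnit ((Over.map t).obj (Red.DS (Spec (CommRingCat.of ↑(U.residueField v))) M))).left
      = ((Over.map t).obj (Red.DS (Spec (CommRingCat.of ↑(U.residueField v))) M)).hom := by
    simp
  have h1 : (toUnit ((Over.map t).obj (Red.DS (Spec (CommRingCat.of ↑(U.residueField v))) M))
      ≫ o).left y = o.left (t ((Red.DS (Spec (CommRingCat.of ↑(U.residueField v))) M).hom y)) := by
    rw [Over.comp_left, h0]
    rfl
  have h2 : t ((Red.DS (Spec (CommRingCat.of ↑(U.residueField v))) M).hom y) ∈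
      Set.range t := ⟨_, rfl⟩
  rw [hrange] at h2
  rw [h1, h2]
  exact hv

variable (hΦ : ∀ (X : Over U) (g : X ⟶ 𝒢) (h h' : X ⟶ Red.DS U M),
  lift g (h * h') ≫ Φ = (lift g h ≫ Φ) * (lift g h' ≫ Φ))

include hΦ in
/-- **Rigidity.** A family of endomorphisms of `D_U(M)` parametrised by a `U`-scheme with
geometrically connected fibres, which is the identity along a section, is constant. -/
theorem core [AddGroup.FG M] [GeometricallyConnected 𝒢.hom] (o : 𝟙_ (Over U) ⟶ 𝒢)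
    (ho : ∀ (X : Over U) (h : X ⟶ Red.DS U M), lift (toUnit X ≫ o) h ≫ Φ = h) :
    Φ = snd 𝒢 (Red.DS U M) := by
  choose O hxO ψ hψ using exists_formOn Φ hΦ
  have hlc : IsLocallyConstant ψ := by
    rw [IsLocallyConstant.iff_exists_open]
    intro x
    exact ⟨O x, (O x).2, hxO x, fun y hy =>
      formOn_unique Φ y (ψ y) (ψ x) (O y) (O x) (hxO y) hy (hψ y) (hψ x)⟩
  have hou : o.left ≫ 𝒢.hom = 𝟙 U := by
    simp
  have hid : ∀ x, ψ x = AddMonoidHom.id M := by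
    intro x
    have hpre := (𝒢.hom.isConnected_preimage_singleton (𝒢.hom x)).isPreconnected
    have hx : x ∈ 𝒢.hom ⁻¹' {𝒢.hom x} := rfl
    have hx₀ : o.left (𝒢.hom x) ∈ 𝒢.hom ⁻¹' {𝒢.hom x} := by
      show 𝒢.hom (o.left (𝒢.hom x)) = 𝒢.hom x
      have : (o.left ≫ 𝒢.hom) (𝒢.hom x) = 𝒢.hom x := by rw [hou]; rfl
      exact this
    rw [hlc.apply_eq_of_isPreconnected hpre hx hx₀]
    exact formOn_id Φ o ho (𝒢.hom x) _ (O _) (hxO _) (hψ _)
  ext : 1
  refine Scheme.hom_ext_of_forall _ _ fun z => ?_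
  let x := (fst 𝒢 (Red.DS U M)).left z
  refine ⟨(fst 𝒢 (Red.DS U M)).left ⁻¹ᵁ O x, hxO x, ?_⟩
  let W := (fst 𝒢 (Red.DS U M)).left ⁻¹ᵁ O x
  let X : Over U := Over.mk (W.ι ≫ (𝒢 ⊗ Red.DS U M).hom)
  let j : X ⟶ 𝒢 ⊗ Red.DS U M := Over.homMk W.ι rfl
  have hj : j ≫ Φ = j ≫ snd 𝒢 (Red.DS U M) := by
    have e1 : j = lift (j ≫ fst _ _) (j ≫ snd _ _) := by
      apply CartesianMonoidalCategory.hom_ext <;> simp
    have e2 : j ≫ Φ = lift (j ≫ fst _ _) (j ≫ snd _ _) ≫ Φ := by rw [← e1]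
    rw [e2]
    apply ds_ext'
    intro m
    rw [hψ x X (j ≫ fst _ _) (j ≫ snd _ _) ?_ m, hid x]
    · rfl
    · rintro _ ⟨y, rfl⟩
      exact y.2
  exact congrArg (fun a => a.left) hj

end Core

end Groth.Agent.Lib.T2H7.Rigid
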