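import Groth.Agent.Lib.T2H7RigidD
import Groth.Agent.Lib.T2H7RigidE

set_option autoImplicit false
set_option linter.unusedSectionVars false
set_option linter.unusedVariables false
set_option linter.style.haveILetI false
universe u
open CategoryTheory CategoryTheory.Limits MonoidalCategory CartesianMonoidalCategory MonObj GrpObj
  AlgebraicGeometry

namespace Groth.Agent.Lib.T2H7.Rigid

open Groth.Agent.Lib.T2H3.MultGa Groth.Agent.Lib.Helper27.GaGm
  Groth.Agent.Lib.T2H7.DiagDS Groth.Agent.Lib.T2H7.DiagHomA Groth.Agent.Lib.T2H7.DiagHomB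
  Groth.Agent.Lib.T2H7.DiagHomD Groth.Agent.Lib.T2H7.MtModel

section Bridge

variable {S Z : Scheme.{u}} (q : Z ⟶ S) {K H : Over S} (Φ : K ⊗ H ⟶ H)

/-- base change of a family `K × H ⟶ H`. -/
noncomputable def bcΦ : Red.bc q K ⊗ Red.bc q H ⟶ Red.bc q H :=
  Functor.LaxMonoidal.μ (Over.pullback q) K H ≫ (Over.pullback q).map Φ

theorem lift_homEquiv_bcΦ {T' : Over Z} (g : (Over.map q).obj T' ⟶ K)
    (x : (Over.map q).obj T' ⟶ H) :
    lift ((Over.mapPullbackAdj q).homEquiv T' K g) ((Over.mapPullbackAdj q).homEquiv T' H x) ≫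
      bcΦ q Φ = (Over.mapPullbackAdj q).homEquiv T' H (lift g x ≫ Φ) := by
  simp only [Adjunction.homEquiv_unit, bcΦ]
  rw [← comp_lift_assoc, Functor.Monoidal.lift_μ_assoc, ← Functor.map_comp]

theorem lift_bcΦ {T' : Over Z} (g : T' ⟶ Red.bc q K) (x : T' ⟶ Red.bc q H) :
    lift g x ≫ bcΦ q Φ = (Over.mapPullbackAdj q).homEquiv T' H
      (lift (((Over.mapPullbackAdj q).homEquiv T' K).symm g)
        (((Over.mapPullbackAdj q).homEquiv T' H).symm x) ≫ Φ) := by
  rw [← lift_homEquiv_bcΦ, Equiv.apply_symm_apply, Equiv.apply_symm_apply]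

end Bridge

section BridgeMain

variable {S Z : Scheme.{u}} (q : Z ⟶ S) {K H : Over S} [GrpObj H] (Φ : K ⊗ H ⟶ H)
  {M : Type} [AddCommGroup M] (e : Red.bc q H ≅ Red.DS Z M)

/-- the transported family on `D_Z(M)`. -/
noncomputable def trΦ : Red.bc q K ⊗ Red.DS Z M ⟶ Red.DS Z M :=
  (Red.bc q K ◁ e.inv) ≫ bcΦ q Φ ≫ e.hom

theorem lift_trΦ {X : Over Z} (g : X ⟶ Red.bc q K) (h : X ⟶ Red.DS Z M) :
    lift g h ≫ trΦ q Φ e = lift g (h ≫ e.inv) ≫ bcΦ q Φ ≫ e.hom := by
  unfold trΦ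
  rw [lift_whiskerLeft_assoc]

theorem symm_mul {T' : Over Z} (x x' : T' ⟶ Red.bc q H) :
    ((Over.mapPullbackAdj q).homEquiv T' H).symm (x * x') =
      ((Over.mapPullbackAdj q).homEquiv T' H).symm x *
        ((Over.mapPullbackAdj q).homEquiv T' H).symm x' := by
  apply ((Over.mapPullbackAdj q).homEquiv T' H).injective
  rw [AlgGrp.Action.homEquiv_mul, Equiv.apply_symm_apply, Equiv.apply_symm_apply,
    Equiv.apply_symm_apply]

variable [IsMonHom e.hom]

theorem trΦ_mul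
    (hΦ : ∀ (X : Over S) (g : X ⟶ K) (h h' : X ⟶ H),
      lift g (h * h') ≫ Φ = (lift g h ≫ Φ) * (lift g h' ≫ Φ))
    (X : Over Z) (g : X ⟶ Red.bc q K) (h h' : X ⟶ Red.DS Z M) :
    lift g (h * h') ≫ trΦ q Φ e = (lift g h ≫ trΦ q Φ e) * (lift g h' ≫ trΦ q Φ e) := by
  rw [lift_trΦ, lift_trΦ, lift_trΦ]
  have h1 : (h * h') ≫ e.inv = (h ≫ e.inv) * (h' ≫ e.inv) := MonObj.mul_comp _ _ e.inv
  rw [h1, ← Category.assoc, ← Category.assoc, ← Category.assoc, lift_bcΦ, lift_bcΦ, lift_bcΦ,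
    symm_mul, hΦ, AlgGrp.Action.homEquiv_mul]
  exact MonObj.mul_comp _ _ e.hom

/-- the base-changed section. -/
noncomputable def bco (o : 𝟙_ (Over S) ⟶ K) : 𝟙_ (Over Z) ⟶ Red.bc q K :=
  (Over.mapPullbackAdj q).homEquiv _ K (toUnit _ ≫ o)

theorem symm_toUnit_bco (o : 𝟙_ (Over S) ⟶ K) (X : Over Z) :
    ((Over.mapPullbackAdj q).homEquiv X K).symm (toUnit X ≫ bco q o) = toUnit _ ≫ o := by
  unfold bco
  rw [← Adjunction.homEquiv_naturality_left, Equiv.symm_apply_apply, ← Category.assoc]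
  congr 1

theorem trΦ_one (o : 𝟙_ (Over S) ⟶ K)
    (ho : ∀ (X : Over S) (h : X ⟶ H), lift (toUnit X ≫ o) h ≫ Φ = h)
    (X : Over Z) (h : X ⟶ Red.DS Z M) :
    lift (toUnit X ≫ bco q o) h ≫ trΦ q Φ e = h := by
  rw [lift_trΦ, ← Category.assoc, lift_bcΦ, symm_toUnit_bco, ho, Equiv.apply_symm_apply,
    Category.assoc, Iso.inv_hom_id, Category.comp_id]

include e in
/-- **Bridge.** Over a base on which `H` becomes diagonalisable, the family is constant. -/
theorem map_eq_of_iso [AddGroup.FG M] [GeometricallyConnected K.hom]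
    (hΦ : ∀ (X : Over S) (g : X ⟶ K) (h h' : X ⟶ H),
      lift g (h * h') ≫ Φ = (lift g h ≫ Φ) * (lift g h' ≫ Φ))
    (o : 𝟙_ (Over S) ⟶ K)
    (ho : ∀ (X : Over S) (h : X ⟶ H), lift (toUnit X ≫ o) h ≫ Φ = h) :
    (Over.pullback q).map Φ = (Over.pullback q).map (snd K H) := by
  haveI : GeometricallyConnected (Red.bc q K).hom :=
    inferInstanceAs (GeometricallyConnected (pullback.snd K.hom q))
  have hcore := core (trΦ q Φ e) (trΦ_mul q Φ e hΦ) (bco q o) (trΦ_one q Φ e o ho)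
  have h1 : bcΦ q Φ = (Red.bc q K ◁ e.hom) ≫ trΦ q Φ e ≫ e.inv := by
    unfold trΦ
    rw [Category.assoc, Category.assoc, Iso.hom_inv_id, Category.comp_id,
      ← MonoidalCategory.whiskerLeft_comp_assoc, Iso.hom_inv_id, MonoidalCategory.whiskerLeft_id,
      Category.id_comp]
  rw [hcore, whiskerLeft_snd_assoc, Iso.hom_inv_id, Category.comp_id] at h1
  have h2 : Functor.LaxMonoidal.μ (Over.pullback q) K H ≫ (Over.pullback q).map Φ =
      Functor.LaxMonoidal.μ (Over.pullback q) K H ≫ (Over.pullback q).map (snd K H) := by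
    rw [Functor.Monoidal.μ_snd]
    exact h1
  exact (cancel_epi _).1 h2

end BridgeMain

section Main

open Groth.Agent.Lib.T2H7.GrpIsoBC in
/-- **Rigidity for groups of multiplicative type.** A family of endomorphisms of a group `H` of
multiplicative type and of finite type, parametrised by an `S`-scheme `K` with geometrically
connected fibres, which is the identity along a section of `K`, is constant. -/
theorem eq_snd_of_multType {S : Scheme.{u}} {K H : Over S} [GrpObj H] (Φ : K ⊗ H ⟶ H)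
    [GeometricallyConnected K.hom] (hH : SGA3x.IsMultTypeFT H)
    (hΦ : ∀ (X : Over S) (g : X ⟶ K) (h h' : X ⟶ H),
      lift g (h * h') ≫ Φ = (lift g h ≫ Φ) * (lift g h' ≫ Φ))
    (o : 𝟙_ (Over S) ⟶ K)
    (ho : ∀ (X : Over S) (h : X ⟶ H), lift (toUnit X ≫ o) h ≫ Φ = h) :
    Φ = snd K H := by
  obtain ⟨S', f, hfl, hsj, hcov, hloc⟩ := hH
  haveI := hfl
  refine EqDesc.eq_of_cover Φ (snd K H) f hcov fun s' => ?_
  obtain ⟨U, hs', M, inst, hfg, he⟩ := hloc s'
  refine ⟨U, hs', ?_⟩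
  obtain ⟨e, hemon⟩ := (nonempty_grpIso_iff _ _).1 he
  haveI := hemon
  haveI := hfg
  exact map_eq_of_iso (U.ι ≫ f) Φ e hΦ o ho

end Main

end Groth.Agent.Lib.T2H7.Rigid
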