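import Groth.Agent.Lib.T2H7RigidF
import Groth.Agent.Lib.Helper10GeomConn2

set_option autoImplicit false
set_option linter.unusedSectionVars false
set_option linter.unusedVariables false
set_option linter.style.haveILetI false
universe u
open CategoryTheory CategoryTheory.Limits MonoidalCategory CartesianMonoidalCategory MonObj GrpObj
  AlgebraicGeometry

namespace Groth.Agent.Lib.T2H7.Rigid

section GeomConn

theorem geomConn_of_isIso {X Y : Scheme.{u}} (f : X ⟶ Y) [IsIso f] :
    GeometricallyConnected f := by
  refine ⟨fun K _ y Z fst snd h => ?_⟩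
  haveI : IsIso snd := h.isIso_snd_of_isIso
  show ConnectedSpace Z
  exact ((asIso snd).hom.homeomorph.connectedSpace_iff).mpr inferInstance

/-- a connected scheme over a field with a rational point is geometrically connected. -/
theorem geomConn_of_section_field {k : Type u} [Field k] {X : Scheme.{u}}
    (f : X ⟶ Spec (CommRingCat.of k)) (g : Spec (CommRingCat.of k) ⟶ X) (hg : g ≫ f = 𝟙 _)
    [ConnectedSpace X] : GeometricallyConnected f := by
  haveI : GeometricallyConnected (g ≫ f) := by
    rw [hg]
    exact geomConn_of_isIso _
  exact Groth.Agent.Lib.Helper10.GeomConn2.geometricallyConnected_of_map g f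

/-- an `S`-scheme with a section and connected fibres has geometrically connected fibres. -/
theorem geomConn_of_section {S : Scheme.{u}} {K : Over S} (o : 𝟙_ (Over S) ⟶ K)
    (hconn : ∀ s : S, ConnectedSpace ↥(pullback K.hom (S.fromSpecResidueField s))) :
    GeometricallyConnected K.hom := by
  rw [GeometricallyConnected.iff_geometricallyConnected_fiber]
  intro s
  have hou : o.left ≫ K.hom = 𝟙 S := by simp
  haveI : ConnectedSpace ↥(K.hom.fiber s) := hconn s
  obtain ⟨f, hf⟩ : ∃ f : K.hom.fiber s ⟶ Spec (CommRingCat.of ↑(S.residueField s)),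
      f = K.hom.fiberToSpecResidueField s := ⟨_, rfl⟩
  rw [← hf]
  refine geomConn_of_section_field f
    (pullback.lift (S.fromSpecResidueField s ≫ o.left) (𝟙 _) (by
      rw [Category.assoc, hou, Category.comp_id, Category.id_comp])) ?_
  rw [hf]
  exact pullback.lift_snd _ _ _

end GeomConn

end Groth.Agent.Lib.T2H7.Rigid
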