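import Mathlib
import Groth.Prelude.Def_AlgSpModX
import Groth.Prelude.Def_AlgSp4

set_option autoImplicit false
set_option linter.unusedSectionVars false
set_option linter.unusedVariables false
set_option linter.style.haveILetI false

universe u

open CategoryTheory CategoryTheory.Limits AlgebraicGeometry Opposite TopologicalSpace TensorProduct

namespace Groth.Agent.Lib.T2H7.SchIm

/-- flat base change of a kernel: for `T` flat over `R`, an element of `T` dying in `S ⊗ T`
lies in the extension of the kernel of `R → S`. -/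
theorem mem_map_ker_of_tmul_eq_zero (R S T : Type*) [CommRing R] [CommRing S] [CommRing T]
    [Algebra R S] [Algebra R T] [Module.Flat R T] (t : T) (ht : (1 : S) ⊗ₜ[R] t = 0) :
    t ∈ Ideal.map (algebraMap R T) (RingHom.ker (algebraMap R S)) := by
  let f : R →ₗ[R] S := Algebra.linearMap R S
  have hex := Module.Flat.rTensor_exact T (LinearMap.exact_subtype_ker_map f)
  have h1 : (f.rTensor T) ((1 : R) ⊗ₜ[R] t) = 0 := by
    rw [LinearMap.rTensor_tmul]
    show (algebraMap R S 1) ⊗ₜ[R] t = 0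
    rw [map_one, ht]
  obtain ⟨y, hy⟩ := (hex _).mp h1
  have key : ∀ y : (LinearMap.ker f) ⊗[R] T,
      TensorProduct.lid R T ((LinearMap.ker f).subtype.rTensor T y) ∈
        Ideal.map (algebraMap R T) (RingHom.ker (algebraMap R S)) := by
    intro y
    induction y using TensorProduct.induction_on with
    | zero => simp
    | tmul k t' =>
      rw [LinearMap.rTensor_tmul, TensorProduct.lid_tmul]
      show (k : R) • t' ∈ _
      rw [Algebra.smul_def]
      refine Ideal.mul_mem_right _ _ (Ideal.mem_map_of_mem _ ?_)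
      exact k.2
    | add a b ha hb =>
      rw [map_add, map_add]
      exact Ideal.add_mem _ ha hb
  have h2 := key y
  rw [hy, TensorProduct.lid_tmul, one_smul] at h2
  exact h2

theorem ker_pushout_inr_le {R S T : CommRingCat.{u}} (f : R ⟶ S) (g : R ⟶ T) (hg : g.hom.Flat) :
    RingHom.ker (pushout.inr f g).hom ≤ Ideal.map g.hom (RingHom.ker f.hom) := by
  algebraize [f.hom, g.hom]
  have h : CommRingCat.ofHom Algebra.TensorProduct.includeRight.toRingHom ≫
      (CommRingCat.isPushout_tensorProduct R S T).isoPushout.hom = pushout.inr f g :=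
    (CommRingCat.isPushout_tensorProduct R S T).inr_isoPushout_hom
  intro t ht
  have h1 : (pushout.inr f g).hom t = 0 := RingHom.mem_ker.mp ht
  rw [← h] at h1
  have h2 : (CommRingCat.isPushout_tensorProduct R S T).isoPushout.hom.hom
      ((1 : S) ⊗ₜ[R] t) = 0 := h1
  have h3 : (1 : S) ⊗ₜ[R] t = 0 := by
    have := congrArg (CommRingCat.isPushout_tensorProduct R S T).isoPushout.inv.hom h2
    rw [map_zero] at this
    rw [← this, ← RingHom.comp_apply, ← CommRingCat.hom_comp, Iso.hom_inv_id]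
    rfl
  exact mem_map_ker_of_tmul_eq_zero R S T t h3

theorem appLE_top_top {X Y : Scheme.{u}} (f : X ⟶ Y) (h : (⊤ : X.Opens) ≤ f ⁻¹ᵁ ⊤) :
    f.appLE ⊤ ⊤ h = f.appTop := by
  exact Scheme.Hom.appLE_eq_app f

/-- flat base change for the kernel of functions of a quasi-compact scheme over an affine base. -/
theorem ker_appTop_le_of_isPullback {P P' E E' : Scheme.{u}} {g' : P' ⟶ P} {π' : P' ⟶ E'}
    {π : P ⟶ E} {g : E' ⟶ E} (H : IsPullback g' π' π g) [IsAffine E] [IsAffine E']
    [CompactSpace P] [Flat g] :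
    RingHom.ker π'.appTop.hom ≤ Ideal.map g.appTop.hom (RingHom.ker π.appTop.hom) := by
  have hUST : (⊤ : E'.Opens) ≤ g ⁻¹ᵁ ⊤ := le_rfl
  have hUSX : (⊤ : P.Opens) ≤ π ⁻¹ᵁ ⊤ := le_rfl
  have hUY : (⊤ : P'.Opens) = g' ⁻¹ᵁ ⊤ ⊓ π' ⁻¹ᵁ ⊤ := by simp
  have hmono := mono_pushoutSection_of_isCompact_of_flat_right H hUST hUSX hUY
    (isAffineOpen_top E) (isAffineOpen_top E') (by exact isCompact_univ)
  have hinj : Function.Injective (pushoutSection H hUST hUSX hUY).hom :=
    (ConcreteCategory.mono_iff_injective_of_preservesPullback _).mp hmono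
  have hflat : (g.appLE ⊤ ⊤ hUST).hom.Flat := g.flat_appLE (isAffineOpen_top E) (isAffineOpen_top E') _
  intro t ht
  have h0 : π'.appTop.hom t = 0 := RingHom.mem_ker.mp ht
  have h1 : pushout.inr (π.appLE ⊤ ⊤ hUSX) (g.appLE ⊤ ⊤ hUST) ≫
      pushoutSection H hUST hUSX hUY = π'.appLE ⊤ ⊤ le_rfl := pushout.inr_desc _ _ _
  have h2 : (pushout.inr (π.appLE ⊤ ⊤ hUSX) (g.appLE ⊤ ⊤ hUST)).hom t = 0 := by
    apply hinj
    rw [map_zero]
    have := congrArg (fun k => k.hom t) h1
    simp only [CommRingCat.hom_comp, RingHom.comp_apply] at this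
    rw [this, appLE_top_top]
    exact h0
  have h3 := ker_pushout_inr_le _ _ hflat (RingHom.mem_ker.mpr h2)
  rw [appLE_top_top, appLE_top_top] at h3
  exact h3


variable {S : Scheme.{u}}

/-- a scheme over `S` whose sheaf is quasi-compact is a quasi-compact scheme. -/
theorem compactSpace_of_isQuasiCompactSp_yon (P : Over S)
    (h : AlgSp.IsQuasiCompactSp ((AlgSp.yon S).obj P)) : CompactSpace P.left := by
  obtain ⟨U, p, hpe, hps, hU⟩ := h
  obtain ⟨p₀, rfl⟩ := (AlgSp.yon S).map_surjective p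
  have hs : Surjective p₀.left := (AlgSp.repWith_yon_map_iff @Surjective p₀).1 hps
  haveI : CompactSpace U.left := hU
  constructor
  have h1 : Set.range p₀.left = Set.univ := Set.range_eq_univ.mpr hs.surj
  rw [← h1]
  exact isCompact_range p₀.left.continuous

/-- the base change squares of the small etale site along a representable morphism. -/
theorem isPullback_bcMap {X Y : AlgSp.Sp S} {f : X ⟶ Y} (hf : AlgSp.Representable f)
    {E E' : AlgSp.EtOver Y} (g : E' ⟶ E) :
    IsPullback (AlgSp.EtOver.bcMap hf g).hom.left.left (AlgSp.EtOver.bcπ hf E').left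
      (AlgSp.EtOver.bcπ hf E).left g.hom.left.left := by
  have sq' := AlgSp.EtOver.isPullback_bcObj hf E'
  have sq := AlgSp.EtOver.isPullback_bcObj hf E
  have hw : (AlgSp.yon S).map g.hom.left ≫ E.obj.hom = E'.obj.hom := AlgSp.EtOver.w g
  have hw' : (AlgSp.yon S).map (AlgSp.EtOver.bcMap hf g).hom.left ≫
      (AlgSp.EtOver.bcObj hf E).obj.hom = (AlgSp.EtOver.bcObj hf E').obj.hom :=
    AlgSp.EtOver.w (AlgSp.EtOver.bcMap hf g)
  rw [← hw, ← hw'] at sq'
  have p : (AlgSp.yon S).map (AlgSp.EtOver.bcMap hf g).hom.left ≫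
      (AlgSp.yon S).map (AlgSp.EtOver.bcπ hf E) =
      (AlgSp.yon S).map (AlgSp.EtOver.bcπ hf E') ≫ (AlgSp.yon S).map g.hom.left := by
    rw [← Functor.map_comp, ← Functor.map_comp, AlgSp.EtOver.bcMap_snd]
    rfl
  have sqL := IsPullback.of_right sq' p sq
  have comm : (AlgSp.EtOver.bcMap hf g).hom.left ≫ AlgSp.EtOver.bcπ hf E =
      AlgSp.EtOver.bcπ hf E' ≫ g.hom.left := AlgSp.EtOver.bcMap_snd hf g
  have sqO := IsPullback.of_map (AlgSp.yon S) comm sqL
  exact sqO.map (Over.forget S)

/-- the kernel family of a quasi-compact representable morphism is quasi-coherent. -/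
theorem isQCoh_idealOfRep {X Y : AlgSp.Sp S} {f : X ⟶ Y} (hf : AlgSp.Representable f)
    (hqc : AlgSp.IsQuasiCompactMor f) : (AlgSp.idealOfRep hf).IsQCoh := by
  intro E E' g hE hE'
  show RingHom.ker (AlgSp.EtOver.bcπ hf E').left.appTop.hom ≤
    Ideal.map g.hom.left.left.appTop.hom (RingHom.ker (AlgSp.EtOver.bcπ hf E).left.appTop.hom)
  have sq := isPullback_bcMap hf g
  haveI : Etale g.hom.left.left := AlgSp.EtOver.etale_left g
  haveI : CompactSpace (AlgSp.EtOver.bcObj hf E).obj.left.left := by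
    apply compactSpace_of_isQuasiCompactSp_yon
    refine hqc (AlgSp.IsAlgSpace.yon_obj E.obj.left) ?_ E.obj.hom
      (AlgSp.EtOver.bcObj hf E).obj.hom ((AlgSp.yon S).map (AlgSp.EtOver.bcπ hf E))
      (AlgSp.EtOver.isPullback_bcObj hf E)
    haveI : CompactSpace E.obj.left.left := inferInstance
    exact ⟨E.obj.left, 𝟙 _, AlgSp.repWith_id _ _, AlgSp.repWith_id _ _, inferInstance⟩
  exact ker_appTop_le_of_isPullback sq

end Groth.Agent.Lib.T2H7.SchIm
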