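import Mathlib

/-!
# Counting algebra maps from a finite algebra into an algebraically closed field

Helper library for S10863 (seat helper7).
-/

set_option autoImplicit false

namespace Groth.Agent.Lib.T2H7.SepDegSum

open TensorProduct

section Fibre

variable {F B Ω : Type*} [Field F] [CommRing B] [Algebra F B] [Field Ω] [Algebra F Ω]

/-- algebra maps to a field with a given maximal kernel are the algebra maps out of the residue field -/
noncomputable def fibreEquiv (m : Ideal B) [m.IsMaximal] :
    {φ : B →ₐ[F] Ω // RingHom.ker (φ : B →+* Ω) = m} ≃ (m.ResidueField →ₐ[F] Ω) where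
  toFun φ := Ideal.ResidueField.liftₐ m φ.1 (le_of_eq φ.2.symm) (by
    intro x hx
    rw [Submonoid.mem_comap, IsUnit.mem_submonoid_iff, isUnit_iff_ne_zero]
    intro h0
    apply hx
    rw [← φ.2]
    exact h0)
  invFun ψ := ⟨ψ.comp (IsScalarTower.toAlgHom F B m.ResidueField), by
    ext x
    rw [RingHom.mem_ker]
    show ψ (algebraMap B m.ResidueField x) = 0 ↔ x ∈ m
    rw [map_eq_zero_iff ψ ψ.toRingHom.injective, Ideal.algebraMap_residueField_eq_zero]⟩
  left_inv φ := by
    apply Subtype.ext
    exact Ideal.ResidueField.liftₐ_comp_toAlgHom _ _ _ _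
  right_inv ψ := by
    apply Ideal.ResidueField.algHom_ext
    exact Ideal.ResidueField.liftₐ_comp_toAlgHom _ _ _ _

end Fibre

section Count

variable {F B Ω : Type*} [Field F] [CommRing B] [Algebra F B] [Module.Finite F B]
  [Field Ω] [Algebra F Ω] [IsAlgClosed Ω]

omit [IsAlgClosed Ω] in
theorem ker_isMaximal (φ : B →ₐ[F] Ω) : (RingHom.ker (φ : B →+* Ω)).IsMaximal := by
  have : IsArtinianRing B := IsArtinianRing.of_finite F B
  have : (RingHom.ker (φ : B →+* Ω)).IsPrime := RingHom.ker_isPrime _
  exact IsArtinianRing.isMaximal_of_isPrime _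

theorem card_algHom_eq_finsum :
    Nat.card (B →ₐ[F] Ω) =
      ∑ᶠ m : MaximalSpectrum B, Field.finSepDegree F (m.asIdeal.ResidueField) := by
  classical
  have : IsArtinianRing B := IsArtinianRing.of_finite F B
  haveI : Fintype (MaximalSpectrum B) := Fintype.ofFinite _
  let f : (B →ₐ[F] Ω) → MaximalSpectrum B := fun φ => ⟨RingHom.ker (φ : B →+* Ω), ker_isMaximal φ⟩
  rw [finsum_eq_sum_of_fintype, ← Nat.card_congr (Equiv.sigmaFiberEquiv f), Nat.card_sigma]
  refine Finset.sum_congr rfl fun m _ => ?_
  have : Module.Finite F m.asIdeal.ResidueField := Module.Finite.trans B _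
  have : Algebra.IsAlgebraic F m.asIdeal.ResidueField := Algebra.IsAlgebraic.of_finite _ _
  rw [Field.finSepDegree_eq_of_isAlgClosed F m.asIdeal.ResidueField Ω]
  refine Nat.card_congr (Equiv.trans ?_ (fibreEquiv m.asIdeal))
  refine Equiv.subtypeEquivRight fun φ => ?_
  exact MaximalSpectrum.ext_iff

end Count

section Local

variable {k A Ω : Type*} [Field k] [CommRing A] [Algebra k A] [Module.Finite k A] [IsLocalRing A]
  [Field Ω] [Algebra k Ω]

/-- algebra maps from a finite local algebra to a field factor through the residue field -/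
noncomputable def localEquiv : (IsLocalRing.ResidueField A →ₐ[k] Ω) ≃ (A →ₐ[k] Ω) where
  toFun ψ := ψ.comp (IsScalarTower.toAlgHom k A (IsLocalRing.ResidueField A))
  invFun φ := Ideal.Quotient.liftₐ (IsLocalRing.maximalIdeal A) φ (by
    intro a ha
    have h1 := ker_isMaximal φ
    have h2 := IsLocalRing.eq_maximalIdeal h1
    have h3 : a ∈ RingHom.ker (φ : A →+* Ω) := by rw [h2]; exact ha
    exact h3)
  left_inv ψ := by
    apply AlgHom.ext
    intro x
    obtain ⟨a, rfl⟩ := Ideal.Quotient.mk_surjective x
    rfl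
  right_inv φ := by
    apply AlgHom.ext
    intro a
    rfl

end Local

section Adj

variable {k k' A Ω : Type*} [Field k] [Field k'] [Algebra k k'] [CommRing A] [Algebra k A]
  [Field Ω] [Algebra k Ω] [Algebra k' Ω] [IsScalarTower k k' Ω]

/-- the base change adjunction for algebra maps -/
noncomputable def adjEquiv : (A →ₐ[k] Ω) ≃ (k' ⊗[k] A →ₐ[k'] Ω) where
  toFun φ := Algebra.TensorProduct.lift (Algebra.ofId k' Ω) φ (fun _ _ => Commute.all _ _)
  invFun g := (g.restrictScalars k).comp Algebra.TensorProduct.includeRight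
  left_inv φ := by
    apply AlgHom.ext
    intro a
    simp
  right_inv g := by
    apply Algebra.TensorProduct.ext'
    intro x a
    rw [Algebra.TensorProduct.lift_tmul]
    have h1 : x ⊗ₜ[k] a = x • ((1 : k') ⊗ₜ[k] a) := by
      rw [TensorProduct.smul_tmul', smul_eq_mul, mul_one]
    rw [h1, map_smul, Algebra.smul_def]
    rfl

end Adj

section Main

universe u

theorem main (k A k' : Type u) [Field k] [CommRing A] [Algebra k A]
    [Module.Finite k A] [IsLocalRing A] [Field k'] [Algebra k k'] :
    Field.finSepDegree k (IsLocalRing.ResidueField A) =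
      ∑ᶠ m : MaximalSpectrum (k' ⊗[k] A),
        Field.finSepDegree k' (IsLocalRing.ResidueField (Localization.AtPrime m.asIdeal)) := by
  have : Algebra.IsAlgebraic k (IsLocalRing.ResidueField A) := Algebra.IsAlgebraic.of_finite _ _
  rw [Field.finSepDegree_eq_of_isAlgClosed k (IsLocalRing.ResidueField A) (AlgebraicClosure k'),
    Nat.card_congr (localEquiv (k := k) (A := A) (Ω := AlgebraicClosure k')),
    Nat.card_congr (adjEquiv (k := k) (k' := k') (A := A) (Ω := AlgebraicClosure k'))]
  exact card_algHom_eq_finsum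

end Main

end Groth.Agent.Lib.T2H7.SepDegSum
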