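import Mathlib

/-!
# Serre's splitting proposition (general position of sections)

For a ring `R`, a module `M` and a closed point `x`, `V(x) = M(x)/B(x)`; a family of elements of `M`
is independent in `V(x)` iff some square matrix of values of linear forms has determinant outside `x`.
-/

set_option autoImplicit false
universe u

namespace Groth.Agent.Lib.T2H7.Serre

open TopologicalSpace

section Defs
variable {R : Type u} [CommRing R] (M : Type u) [AddCommGroup M] [Module R M]

/-- `B(x)`: classes of the elements all of whose values under linear forms lie in `x`. -/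
def Bq (x : MaximalSpectrum R) :
    Submodule (R ⧸ x.asIdeal) (M ⧸ (x.asIdeal • ⊤ : Submodule R M)) :=
  Submodule.span (R ⧸ x.asIdeal)
    ((x.asIdeal • ⊤ : Submodule R M).mkQ '' {m : M | ∀ φ : M →ₗ[R] R, φ m ∈ x.asIdeal})

/-- `V(x) = M(x)/B(x)`. -/
abbrev V (x : MaximalSpectrum R) : Type u := (M ⧸ (x.asIdeal • ⊤ : Submodule R M)) ⧸ Bq M x

variable {M}

/-- the image of `m` in `V(x)`. -/
def img (x : MaximalSpectrum R) (m : M) : V M x :=
  (Bq M x).mkQ ((x.asIdeal • ⊤ : Submodule R M).mkQ m)

variable (x : MaximalSpectrum R)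

theorem img_add (m m' : M) : img x (m + m') = img x m + img x m' := by
  simp only [img, map_add]

theorem img_sub (m m' : M) : img x (m - m') = img x m - img x m' := by
  simp only [img, map_sub]

theorem img_zero : img x (0 : M) = 0 := by
  simp only [img, map_zero]

theorem img_smul (a : R) (m : M) :
    img x (a • m) = (Ideal.Quotient.mk x.asIdeal a) • img x m := by
  have h1 : (x.asIdeal • ⊤ : Submodule R M).mkQ (a • m)
      = (Ideal.Quotient.mk x.asIdeal a) • (x.asIdeal • ⊤ : Submodule R M).mkQ m := rfl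
  simp only [img, h1, map_smul]

theorem img_sum {ι : Type*} (t : Finset ι) (g : ι → M) :
    img x (∑ i ∈ t, g i) = ∑ i ∈ t, img x (g i) := by
  classical
  induction t using Finset.induction_on with
  | empty => simp [img_zero]
  | insert a t ha ih => rw [Finset.sum_insert ha, Finset.sum_insert ha, img_add, ih]

theorem img_surjective : Function.Surjective (img x : M → V M x) := by
  intro v
  obtain ⟨w, rfl⟩ := Submodule.mkQ_surjective _ v
  obtain ⟨m, rfl⟩ := Submodule.mkQ_surjective _ w
  exact ⟨m, rfl⟩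

theorem img_smul_of_mem (a : R) (ha : a ∈ x.asIdeal) (m : M) : img x (a • m) = 0 := by
  rw [img_smul, Ideal.Quotient.eq_zero_iff_mem.2 ha, zero_smul]

/-- the linear form on `M(x)` induced by a linear form on `M`. -/
noncomputable def evalQ (φ : M →ₗ[R] R) :
    (M ⧸ (x.asIdeal • ⊤ : Submodule R M)) →ₗ[R ⧸ x.asIdeal] (R ⧸ x.asIdeal) where
  toFun := Submodule.liftQ (x.asIdeal • ⊤ : Submodule R M) ((Submodule.mkQ x.asIdeal).comp φ) (by
    rw [Submodule.smul_le]
    intro a ha m _
    rw [LinearMap.mem_ker, LinearMap.comp_apply, map_smul, smul_eq_mul, Submodule.mkQ_apply,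
      Submodule.Quotient.mk_eq_zero]
    exact Ideal.mul_mem_right _ _ ha)
  map_add' := map_add _
  map_smul' := by
    intro c v
    obtain ⟨a, rfl⟩ := Ideal.Quotient.mk_surjective c
    obtain ⟨m, rfl⟩ := Submodule.mkQ_surjective _ v
    have h1 : (Ideal.Quotient.mk x.asIdeal a) • (x.asIdeal • ⊤ : Submodule R M).mkQ m
        = (x.asIdeal • ⊤ : Submodule R M).mkQ (a • m) := rfl
    rw [h1]
    simp only [Submodule.mkQ_apply, Submodule.liftQ_apply, LinearMap.comp_apply, map_smul,
      smul_eq_mul, RingHom.id_apply]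
    rfl

theorem evalQ_mk (φ : M →ₗ[R] R) (m : M) :
    evalQ x φ ((x.asIdeal • ⊤ : Submodule R M).mkQ m) = Ideal.Quotient.mk x.asIdeal (φ m) := rfl

/-- the linear form on `V(x)` induced by a linear form on `M`. -/
noncomputable def evalV (φ : M →ₗ[R] R) : V M x →ₗ[R ⧸ x.asIdeal] (R ⧸ x.asIdeal) :=
  (Bq M x).liftQ (evalQ x φ) (by
    rw [Bq, Submodule.span_le]
    rintro _ ⟨m, hm, rfl⟩
    rw [SetLike.mem_coe, LinearMap.mem_ker, evalQ_mk]
    exact Ideal.Quotient.eq_zero_iff_mem.2 (hm φ))

theorem evalV_img (φ : M →ₗ[R] R) (m : M) :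
    evalV x φ (img x m) = Ideal.Quotient.mk x.asIdeal (φ m) := rfl

theorem img_eq_zero_iff (m : M) : img x m = 0 ↔ ∀ φ : M →ₗ[R] R, φ m ∈ x.asIdeal := by
  constructor
  · intro h φ
    have := evalV_img x φ m
    rw [h, map_zero] at this
    exact Ideal.Quotient.eq_zero_iff_mem.1 this.symm
  · intro h
    rw [img, Submodule.mkQ_apply, Submodule.Quotient.mk_eq_zero]
    exact Submodule.subset_span ⟨m, h, rfl⟩

end Defs

section Det
variable {R : Type u} [CommRing R] {M : Type u} [AddCommGroup M] [Module R M]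
variable (x : MaximalSpectrum R)

/-- independence in `V(x)` of the images of a family of elements of `M`. -/
def LI {h : ℕ} (f : Fin h → M) : Prop :=
  LinearIndependent (R ⧸ x.asIdeal) (fun i => img x (f i))

theorem li_of_det {h : ℕ} (f : Fin h → M) (φ : Fin h → (M →ₗ[R] R))
    (hdet : (Matrix.of fun i j => φ j (f i)).det ∉ x.asIdeal) : LI x f := by
  classical
  let _ : Field (R ⧸ x.asIdeal) := Ideal.Quotient.field x.asIdeal
  let Ψ : V M x →ₗ[R ⧸ x.asIdeal] (Fin h → R ⧸ x.asIdeal) := LinearMap.pi fun j => evalV x (φ j)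
  let A : Matrix (Fin h) (Fin h) R := Matrix.of fun i j => φ j (f i)
  have hA : IsUnit ((Ideal.Quotient.mk x.asIdeal).mapMatrix A) := by
    rw [Matrix.isUnit_iff_isUnit_det, ← RingHom.map_det, isUnit_iff_ne_zero, Ne,
      Ideal.Quotient.eq_zero_iff_mem]
    exact hdet
  have hrows := Matrix.linearIndependent_rows_iff_isUnit.2 hA
  refine LinearIndependent.of_comp Ψ ?_
  have h1 : (Ψ ∘ fun i => img x (f i)) = ((Ideal.Quotient.mk x.asIdeal).mapMatrix A).row := by
    funext i j
    rfl
  rw [h1]
  exact hrows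

theorem exists_det_of_li {h : ℕ} (f : Fin h → M) (hli : LI x f) :
    ∃ φ : Fin h → (M →ₗ[R] R), (Matrix.of fun i j => φ j (f i)).det ∉ x.asIdeal := by
  classical
  let _ : Field (R ⧸ x.asIdeal) := Ideal.Quotient.field x.asIdeal
  let r : (M →ₗ[R] R) → (Fin h → R ⧸ x.asIdeal) := fun φ i => Ideal.Quotient.mk x.asIdeal (φ (f i))
  have hspan : Submodule.span (R ⧸ x.asIdeal) (Set.range r) = ⊤ := by
    by_contra hne
    obtain ⟨g, hg0, hg⟩ := Submodule.exists_le_ker_of_lt_top _ (lt_top_iff_ne_top.2 hne)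
    apply hg0
    have hgr : ∀ φ, g (r φ) = 0 := fun φ => hg (Submodule.subset_span ⟨φ, rfl⟩)
    choose a ha using fun i : Fin h =>
      Ideal.Quotient.mk_surjective (g (fun j => if i = j then 1 else 0))
    have hzero : img x (∑ i, a i • f i) = 0 := by
      rw [img_eq_zero_iff]
      intro φ
      rw [← Ideal.Quotient.eq_zero_iff_mem, map_sum, map_sum]
      have := hgr φ
      rw [LinearMap.pi_apply_eq_sum_univ g (r φ)] at this
      rw [← this]
      refine Finset.sum_congr rfl fun i _ => ?_
      rw [map_smul, smul_eq_mul, map_mul, ha, smul_eq_mul, mul_comm]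
    rw [img_sum] at hzero
    simp only [img_smul] at hzero
    have hc := Fintype.linearIndependent_iff.1 hli (fun i => Ideal.Quotient.mk x.asIdeal (a i)) hzero
    refine LinearMap.ext fun w => ?_
    rw [LinearMap.pi_apply_eq_sum_univ g w, LinearMap.zero_apply]
    refine Finset.sum_eq_zero fun i _ => ?_
    rw [← ha, hc i, smul_zero]
  obtain ⟨b, hb, hbspan, hbli⟩ := exists_linearIndependent (R ⧸ x.asIdeal) (Set.range r)
  rw [hspan] at hbspan
  let B : Module.Basis b (R ⧸ x.asIdeal) (Fin h → R ⧸ x.asIdeal) :=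
    Module.Basis.mk hbli (by rw [Subtype.range_coe_subtype, Set.ofPred_mem_eq, hbspan])
  have hfin : Finite b := Module.Finite.finite_basis B
  let _ : Fintype b := Fintype.ofFinite b
  have hcard : Fintype.card b = h := by
    rw [← Module.finrank_eq_card_basis B, Module.finrank_fin_fun]
  let e : Fin h ≃ b := (Fintype.equivFinOfCardEq hcard).symm
  choose φ hφ using fun j : Fin h => hb (e j).2
  refine ⟨φ, ?_⟩
  let A : Matrix (Fin h) (Fin h) R := Matrix.of fun i j => φ j (f i)
  have hrows : LinearIndependent (R ⧸ x.asIdeal)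
      ((Ideal.Quotient.mk x.asIdeal).mapMatrix A).transpose.row := by
    have h1 : ((Ideal.Quotient.mk x.asIdeal).mapMatrix A).transpose.row
        = (fun v : b => (v : Fin h → R ⧸ x.asIdeal)) ∘ e := by
      funext j
      rw [Function.comp_apply, ← hφ j]
      rfl
    rw [h1]
    exact hbli.comp e e.injective
  have hunit := Matrix.linearIndependent_rows_iff_isUnit.1 hrows
  rw [Matrix.isUnit_iff_isUnit_det, Matrix.det_transpose, ← RingHom.map_det, isUnit_iff_ne_zero, Ne,
    Ideal.Quotient.eq_zero_iff_mem] at hunit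
  exact hunit

theorem isOpen_li {h : ℕ} (f : Fin h → M) : IsOpen {x : MaximalSpectrum R | LI x f} := by
  have : {x : MaximalSpectrum R | LI x f}
      = ⋃ φ : Fin h → (M →ₗ[R] R), MaximalSpectrum.toPrimeSpectrum ⁻¹'
          (PrimeSpectrum.basicOpen (Matrix.of fun i j => φ j (f i)).det : Set (PrimeSpectrum R)) := by
    ext x
    simp only [Set.mem_ofPred_eq, Set.mem_iUnion, Set.mem_preimage, SetLike.mem_coe,
      PrimeSpectrum.mem_basicOpen]
    constructor
    · intro hx
      obtain ⟨φ, hφ⟩ := exists_det_of_li x f hx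
      exact ⟨φ, hφ⟩
    · rintro ⟨φ, hφ⟩
      exact li_of_det x f φ hφ
  rw [this]
  exact isOpen_iUnion fun φ =>
    (PrimeSpectrum.basicOpen _).isOpen.preimage MaximalSpectrum.toPrimeSpectrum_continuous

end Det

section Main
variable {R : Type u} [CommRing R] {M : Type u} [AddCommGroup M] [Module R M]

theorem exists_crt_ring (X : Finset (MaximalSpectrum R)) (g : MaximalSpectrum R → R) :
    ∃ r : R, ∀ x ∈ X, r - g x ∈ x.asIdeal := by
  classical
  have hI : Pairwise (Function.onFun IsCoprime fun i : X => (i : MaximalSpectrum R).asIdeal) := by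
    intro i j hij
    refine Ideal.isCoprime_of_isMaximal fun heq => hij ?_
    exact Subtype.ext (MaximalSpectrum.ext heq)
  obtain ⟨r, hr⟩ := Ideal.exists_forall_sub_mem_ideal hI (fun i : X => g i)
  exact ⟨r, fun x hx => hr ⟨x, hx⟩⟩

theorem exists_crt (X : Finset (MaximalSpectrum R)) (v : MaximalSpectrum R → M) :
    ∃ t : M, ∀ x ∈ X, img x t = img x (v x) := by
  classical
  choose e he using fun y : MaximalSpectrum R =>
    exists_crt_ring X (fun x => if x = y then (1 : R) else 0)
  refine ⟨∑ y ∈ X, e y • v y, fun x hx => ?_⟩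
  have h1 : img x (v x) = ∑ y ∈ X, img x ((if x = y then (1 : R) else 0) • v y) := by
    rw [Finset.sum_eq_single x]
    · rw [if_pos rfl, one_smul]
    · intro y _ hy
      rw [if_neg (Ne.symm hy), zero_smul, img_zero]
    · intro hx'
      exact absurd hx hx'
  rw [img_sum, h1]
  refine Finset.sum_congr rfl fun y _ => ?_
  rw [← sub_eq_zero, ← img_sub, ← sub_smul]
  exact img_smul_of_mem x _ (he y x hx) _

theorem img_snoc (x : MaximalSpectrum R) {h : ℕ} (s : Fin h → M) (t : M) :
    (fun i => img x ((Fin.snoc s t : Fin (h + 1) → M) i))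
      = (Fin.snoc (fun i => img x (s i)) (img x t) : Fin (h + 1) → V M x) := by
  funext i
  refine Fin.lastCases ?_ (fun j => ?_) i
  · simp only [Fin.snoc_last]
  · simp only [Fin.snoc_castSucc]

theorem li_snoc_iff (x : MaximalSpectrum R) {h : ℕ} (s : Fin h → M) (t : M) :
    LI x (Fin.snoc s t : Fin (h + 1) → M) ↔
      LI x s ∧ img x t ∉ Submodule.span (R ⧸ x.asIdeal) (Set.range fun i => img x (s i)) := by
  let _ : Field (R ⧸ x.asIdeal) := Ideal.Quotient.field x.asIdeal
  unfold LI
  rw [img_snoc]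
  exact linearIndependent_finSnoc

theorem li_snoc_congr (x : MaximalSpectrum R) {h : ℕ} (s : Fin h → M) (t t' : M)
    (ht : img x t = img x t') (hli : LI x (Fin.snoc s t : Fin (h + 1) → M)) :
    LI x (Fin.snoc s t' : Fin (h + 1) → M) := by
  rw [li_snoc_iff] at hli ⊢
  rw [← ht]
  exact hli

theorem li_snoc_combine (x : MaximalSpectrum R) {h : ℕ} (s : Fin h → M) (s' s'' : M) (a : R)
    (hli : LI x (Fin.snoc (Fin.snoc s s' : Fin (h + 1) → M) s'' : Fin (h + 1 + 1) → M)) :
    LI x (Fin.snoc s (s' + a • s'') : Fin (h + 1) → M) := by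
  let _ : Field (R ⧸ x.asIdeal) := Ideal.Quotient.field x.asIdeal
  rw [li_snoc_iff, li_snoc_iff] at hli
  obtain ⟨⟨h1, h2⟩, h3⟩ := hli
  rw [li_snoc_iff]
  refine ⟨h1, fun hmem => ?_⟩
  rw [img_add, img_smul] at hmem
  have hle : Submodule.span (R ⧸ x.asIdeal) (Set.range fun i => img x (s i))
      ≤ Submodule.span (R ⧸ x.asIdeal)
          (Set.range fun i => img x ((Fin.snoc s s' : Fin (h + 1) → M) i)) := by
    refine Submodule.span_mono ?_
    rintro _ ⟨i, rfl⟩
    exact ⟨i.castSucc, by simp only [Fin.snoc_castSucc]⟩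
  have hs' : img x s' ∈ Submodule.span (R ⧸ x.asIdeal)
      (Set.range fun i => img x ((Fin.snoc s s' : Fin (h + 1) → M) i)) :=
    Submodule.subset_span ⟨Fin.last h, by simp only [Fin.snoc_last]⟩
  by_cases hc : Ideal.Quotient.mk x.asIdeal a = 0
  · rw [hc, zero_smul, add_zero] at hmem
    exact h2 hmem
  · apply h3
    have h4 : (Ideal.Quotient.mk x.asIdeal a) • img x s'' ∈ Submodule.span (R ⧸ x.asIdeal)
        (Set.range fun i => img x ((Fin.snoc s s' : Fin (h + 1) → M) i)) := by
      have := Submodule.sub_mem _ (hle hmem) hs'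
      rwa [add_sub_cancel_left] at this
    have h5 := Submodule.smul_mem _ (Ideal.Quotient.mk x.asIdeal a)⁻¹ h4
    rwa [smul_smul, inv_mul_cancel₀ hc, one_smul] at h5

theorem exists_notMem_span (x : MaximalSpectrum R) {h : ℕ} (s : Fin h → M)
    (hrank : h + 1 ≤ Module.finrank (R ⧸ x.asIdeal) (V M x)) :
    ∃ m : M, img x m ∉ Submodule.span (R ⧸ x.asIdeal) (Set.range fun i => img x (s i)) := by
  let _ : Field (R ⧸ x.asIdeal) := Ideal.Quotient.field x.asIdeal
  by_contra hcon
  have hall : ∀ m : M, img x m ∈ Submodule.span (R ⧸ x.asIdeal) (Set.range fun i => img x (s i)) := by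
    intro m
    by_contra hm
    exact hcon ⟨m, hm⟩
  have htop : Submodule.span (R ⧸ x.asIdeal) (Set.range fun i => img x (s i)) = ⊤ := by
    rw [eq_top_iff]
    intro w _
    obtain ⟨m, rfl⟩ := img_surjective x w
    exact hall m
  have h1 : Module.finrank (R ⧸ x.asIdeal)
      (Submodule.span (R ⧸ x.asIdeal) (Set.range fun i => img x (s i))) ≤ Fintype.card (Fin h) :=
    finrank_range_le_card (R := R ⧸ x.asIdeal) (fun i => img x (s i))
  rw [htop, finrank_top, Fintype.card_fin] at h1
  omega

theorem key [NoetherianSpace (MaximalSpectrum R)] (k : ℕ) :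
    ∀ (h : ℕ) (s : Fin h → M) (F : Set (MaximalSpectrum R)), IsClosed F →
      ∀ (X : Finset (MaximalSpectrum R)), (∀ x ∈ X, x ∈ F) → ∀ (v : MaximalSpectrum R → M),
      (∀ x : MaximalSpectrum R, h + k ≤ Module.finrank (R ⧸ x.asIdeal) (V M x)) →
      (∀ x : MaximalSpectrum R, ¬ LI x s → x ∈ F) →
      ∃ (t : M) (F' : Set (MaximalSpectrum R)), IsClosed F' ∧
        (∀ x ∈ X, img x t = img x (v x)) ∧
        (∀ x : MaximalSpectrum R, ¬ LI x (Fin.snoc s t : Fin (h + 1) → M) → x ∈ F ∪ F') ∧
        ∀ Z : IrreducibleCloseds (MaximalSpectrum R), (Z : Set (MaximalSpectrum R)) ⊆ F' →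
          (k : ℕ∞) ≤ Order.coheight Z := by
  induction k with
  | zero =>
    intro h s F hF X hX v hrank hZ
    obtain ⟨t, ht⟩ := exists_crt X v
    exact ⟨t, Set.univ, isClosed_univ, ht, fun x _ => Or.inr (Set.mem_univ x), fun Z _ => by simp⟩
  | succ k ih =>
    intro h s F hF X hX v hrank hZ
    classical
    rcases isEmpty_or_nonempty (MaximalSpectrum R) with hE | hN
    · obtain ⟨t, ht⟩ := exists_crt X v
      exact ⟨t, ∅, isClosed_empty, ht, fun x => isEmptyElim x,
        fun Z _ => isEmptyElim Z.isIrreducible'.nonempty.some⟩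
    -- first application of the induction hypothesis
    obtain ⟨s', F2, hF2, hs'v, hs'Z, hF2codim⟩ :=
      ih h s F hF X hX v (fun x => by have := hrank x; omega) hZ
    obtain ⟨S1, hS1fin, hS1closed, hS1irr, hS1eq⟩ :=
      NoetherianSpace.exists_finite_set_isClosed_irreducible hF2
    have hex1 : ∀ G ∈ S1, ¬ G ⊆ F → ∃ y, y ∈ G ∧ y ∉ F := fun G _ hG => Set.not_subset.1 hG
    choose! pt hpt using hex1
    lift S1 to Finset (Set (MaximalSpectrum R)) using hS1fin
    set T1 : Finset (Set (MaximalSpectrum R)) := S1.filter (fun G => ¬ G ⊆ F) with hT1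
    set Y : Finset (MaximalSpectrum R) := T1.image pt with hY
    have hYF2 : ∀ y ∈ Y, y ∈ F2 := by
      intro y hy
      obtain ⟨G, hG, rfl⟩ := Finset.mem_image.1 hy
      rw [hT1, Finset.mem_filter] at hG
      rw [hS1eq]
      exact ⟨G, Finset.mem_coe.2 hG.1, (hpt G (Finset.mem_coe.2 hG.1) hG.2).1⟩
    have hYF : ∀ y ∈ Y, y ∉ F := by
      intro y hy
      obtain ⟨G, hG, rfl⟩ := Finset.mem_image.1 hy
      rw [hT1, Finset.mem_filter] at hG
      exact (hpt G (Finset.mem_coe.2 hG.1) hG.2).2
    choose mfun hmfun using fun y : MaximalSpectrum R =>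
      exists_notMem_span y s (by have := hrank y; omega)
    -- second application
    obtain ⟨s'', F3, hF3, hs''v, hs''Z, hF3codim⟩ :=
      ih (h + 1) (Fin.snoc s s' : Fin (h + 1) → M) (F ∪ F2) (hF.union hF2) (X ∪ Y)
        (fun x hx => by
          rcases Finset.mem_union.1 hx with hx | hx
          · exact Or.inl (hX x hx)
          · exact Or.inr (hYF2 x hx))
        (fun x => if x ∈ F then 0 else mfun x - s')
        (fun x => by have := hrank x; omega) hs'Z
    obtain ⟨S2, hS2fin, hS2closed, hS2irr, hS2eq⟩ :=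
      NoetherianSpace.exists_finite_set_isClosed_irreducible hF3
    have hex2 : ∀ H ∈ S2, ¬ H ⊆ F ∪ F2 → ∃ z, z ∈ H ∧ z ∉ F ∪ F2 :=
      fun H _ hH => Set.not_subset.1 hH
    choose! pt2 hpt2 using hex2
    lift S2 to Finset (Set (MaximalSpectrum R)) using hS2fin
    set T2 : Finset (Set (MaximalSpectrum R)) := S2.filter (fun H => ¬ H ⊆ F ∪ F2) with hT2
    set Zs : Finset (MaximalSpectrum R) := T2.image pt2 with hZs
    have hZsF : ∀ z ∈ Zs, z ∉ F ∪ F2 := by
      intro z hz
      obtain ⟨H, hH, rfl⟩ := Finset.mem_image.1 hz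
      rw [hT2, Finset.mem_filter] at hH
      exact (hpt2 H (Finset.mem_coe.2 hH.1) hH.2).2
    obtain ⟨a, ha⟩ := exists_crt_ring (Y ∪ Zs) (fun x => if x ∈ Y then (1 : R) else 0)
    have haY : ∀ y ∈ Y, Ideal.Quotient.mk y.asIdeal a = 1 := by
      intro y hy
      have := ha y (Finset.mem_union_left _ hy)
      rw [if_pos hy] at this
      rw [← map_one (Ideal.Quotient.mk y.asIdeal)]
      exact Ideal.Quotient.eq.2 this
    have haZ : ∀ z ∈ Zs, Ideal.Quotient.mk z.asIdeal a = 0 := by
      intro z hz
      have := ha z (Finset.mem_union_right _ hz)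
      rw [if_neg (fun hy => hZsF z hz (Or.inr (hYF2 z hy))), sub_zero] at this
      exact Ideal.Quotient.eq_zero_iff_mem.2 this
    -- the new element
    set t : M := s' + a • s'' with ht
    have hLIs : ∀ y, y ∉ F → LI y s := fun y hy => by
      by_contra hcon
      exact hy (hZ y hcon)
    have hLIY : ∀ y ∈ Y, LI y (Fin.snoc s t : Fin (h + 1) → M) := by
      intro y hy
      rw [li_snoc_iff]
      refine ⟨hLIs y (hYF y hy), ?_⟩
      have h1 : img y t = img y (mfun y) := by
        rw [ht, img_add, img_smul, haY y hy, one_smul, hs''v y (Finset.mem_union_right _ hy),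
          if_neg (hYF y hy), img_sub, add_sub_cancel]
      rw [h1]
      exact hmfun y
    have hLIZ : ∀ z ∈ Zs, LI z (Fin.snoc s t : Fin (h + 1) → M) := by
      intro z hz
      have h1 : img z s' = img z t := by
        rw [ht, img_add, img_smul, haZ z hz, zero_smul, add_zero]
      refine li_snoc_congr z s s' t h1 ?_
      by_contra hcon
      exact hZsF z hz (hs'Z z hcon)
    set C : Set (MaximalSpectrum R) := {x | ¬ LI x (Fin.snoc s t : Fin (h + 1) → M)} with hC
    have hCclosed : IsClosed C := by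
      rw [← isOpen_compl_iff]
      have : Cᶜ = {x | LI x (Fin.snoc s t : Fin (h + 1) → M)} := by
        ext x
        simp only [hC, Set.mem_compl_iff, Set.mem_ofPred_eq, not_not]
      rw [this]
      exact isOpen_li _
    set T : Finset (Set (MaximalSpectrum R)) := T1 ∪ T2 with hT
    have hTclosed : ∀ G ∈ T, IsClosed G := by
      intro G hG
      rcases Finset.mem_union.1 hG with hG | hG
      · rw [hT1, Finset.mem_filter] at hG
        exact hS1closed G (Finset.mem_coe.2 hG.1)
      · rw [hT2, Finset.mem_filter] at hG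
        exact hS2closed G (Finset.mem_coe.2 hG.1)
    have hUclosed : IsClosed (⋃₀ (↑T : Set (Set (MaximalSpectrum R)))) := by
      rw [Set.sUnion_eq_biUnion]
      exact T.finite_toSet.isClosed_biUnion fun G hG => hTclosed G (Finset.mem_coe.1 hG)
    refine ⟨t, C ∩ ⋃₀ (↑T : Set (Set (MaximalSpectrum R))), hCclosed.inter hUclosed, ?_, ?_, ?_⟩
    · intro x hx
      rw [ht, img_add, img_smul, hs'v x hx, hs''v x (Finset.mem_union_left _ hx),
        if_pos (hX x hx), img_zero, smul_zero, add_zero]
    · intro x hx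
      by_cases hxF : x ∈ F
      · exact Or.inl hxF
      refine Or.inr ⟨hx, ?_⟩
      by_cases hx2 : x ∈ F2
      · rw [hS1eq] at hx2
        obtain ⟨G, hG, hxG⟩ := hx2
        refine ⟨G, ?_, hxG⟩
        rw [Finset.mem_coe, hT]
        exact Finset.mem_union_left _
          (Finset.mem_filter.2 ⟨Finset.mem_coe.1 hG, fun hGF => hxF (hGF hxG)⟩)
      by_cases hx3 : x ∈ F3
      · rw [hS2eq] at hx3
        obtain ⟨H, hH, hxH⟩ := hx3
        refine ⟨H, ?_, hxH⟩
        rw [Finset.mem_coe, hT]
        refine Finset.mem_union_right _ (Finset.mem_filter.2 ⟨Finset.mem_coe.1 hH, fun hHF => ?_⟩)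
        rcases hHF hxH with h1 | h1
        · exact hxF h1
        · exact hx2 h1
      · exfalso
        apply hx
        rw [ht]
        refine li_snoc_combine x s s' s'' a ?_
        by_contra hcon
        rcases hs''Z x hcon with (h1 | h1) | h1
        · exact hxF h1
        · exact hx2 h1
        · exact hx3 h1
    · intro Z hZ'
      obtain ⟨G, hG, hZG⟩ := isIrreducible_iff_sUnion_isClosed.1 Z.isIrreducible' T hTclosed
        (hZ'.trans Set.inter_subset_right)
      have hZC : (Z : Set (MaximalSpectrum R)) ⊆ C := hZ'.trans Set.inter_subset_left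
      have hmain : ∀ (G' : IrreducibleCloseds (MaximalSpectrum R)) (p : MaximalSpectrum R),
          (Z : Set (MaximalSpectrum R)) ⊆ G' → p ∈ (G' : Set (MaximalSpectrum R)) →
          LI p (Fin.snoc s t : Fin (h + 1) → M) → (k : ℕ∞) ≤ Order.coheight G' →
          ((k + 1 : ℕ) : ℕ∞) ≤ Order.coheight Z := by
        intro G' p hZG' hpG' hpLI hk
        have hlt : Z < G' := by
          refine lt_of_le_of_ne (SetLike.coe_subset_coe.1 hZG') fun heq => ?_
          have : p ∈ C := hZC (heq ▸ hpG')
          exact this hpLI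
        have h1 := Order.coheight_add_one_le hlt
        calc ((k + 1 : ℕ) : ℕ∞) = (k : ℕ∞) + 1 := by push_cast; rfl
          _ ≤ Order.coheight G' + 1 := by gcongr
          _ ≤ Order.coheight Z := h1
      rcases Finset.mem_union.1 hG with hG | hG
      · rw [hT1, Finset.mem_filter] at hG
        have hGS : G ∈ (↑S1 : Set (Set (MaximalSpectrum R))) := Finset.mem_coe.2 hG.1
        refine hmain ⟨G, hS1irr G hGS, hS1closed G hGS⟩ (pt G) hZG (hpt G hGS hG.2).1
          (hLIY (pt G) (Finset.mem_image.2 ⟨G, by rw [hT1, Finset.mem_filter]; exact hG, rfl⟩))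
          (hF2codim _ ?_)
        rw [hS1eq]
        exact Set.subset_sUnion_of_mem hGS
      · rw [hT2, Finset.mem_filter] at hG
        have hGS : G ∈ (↑S2 : Set (Set (MaximalSpectrum R))) := Finset.mem_coe.2 hG.1
        refine hmain ⟨G, hS2irr G hGS, hS2closed G hGS⟩ (pt2 G) hZG (hpt2 G hGS hG.2).1
          (hLIZ (pt2 G) (Finset.mem_image.2 ⟨G, by rw [hT2, Finset.mem_filter]; exact hG, rfl⟩))
          (hF3codim _ ?_)
        rw [hS2eq]
        exact Set.subset_sUnion_of_mem hGS

/-- Serre's proposition in the form of the statement (with `Bq`, `img` as above). -/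
theorem main [NoetherianSpace (MaximalSpectrum R)]
    (h : ℕ) (s : Fin h → M) (F : Set (MaximalSpectrum R)) (hF : IsClosed F)
    (n : ℕ) (xs : Fin n → MaximalSpectrum R) (hxs : Function.Injective xs) (hxF : ∀ i, xs i ∈ F)
    (v : ∀ i : Fin n, M ⧸ ((xs i).asIdeal • ⊤ : Submodule R M)) (k : ℕ)
    (hrank : ∀ x : MaximalSpectrum R, h + k ≤ Module.finrank (R ⧸ x.asIdeal) (V M x))
    (hZ : ∀ x : MaximalSpectrum R,
      ¬ LinearIndependent (R ⧸ x.asIdeal) (fun i => img x (s i)) → x ∈ F) :
    ∃ (t : M) (F' : Set (MaximalSpectrum R)), IsClosed F' ∧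
      (∀ i : Fin n, img (xs i) t = (Bq M (xs i)).mkQ (v i)) ∧
      (∀ x : MaximalSpectrum R,
        ¬ LinearIndependent (R ⧸ x.asIdeal)
          (Fin.snoc (fun i => img x (s i)) (img x t) : Fin (h + 1) → V M x) → x ∈ F ∪ F') ∧
      ∀ Z : IrreducibleCloseds (MaximalSpectrum R), (Z : Set (MaximalSpectrum R)) ⊆ F' →
        (k : ℕ∞) ≤ Order.coheight Z := by
  classical
  choose w hw using fun i : Fin n =>
    Submodule.mkQ_surjective ((xs i).asIdeal • ⊤ : Submodule R M) (v i)
  let v' : MaximalSpectrum R → M := fun x => if hx : ∃ i, xs i = x then w hx.choose else 0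
  have hv' : ∀ i, v' (xs i) = w i := by
    intro i
    have hex : ∃ j, xs j = xs i := ⟨i, rfl⟩
    have : hex.choose = i := hxs hex.choose_spec
    simp only [v', dif_pos hex, this]
  obtain ⟨t, F', hF', hval, hZ', hcodim⟩ :=
    key k h s F hF (Finset.univ.image xs)
      (fun x hx => by
        obtain ⟨i, _, rfl⟩ := Finset.mem_image.1 hx
        exact hxF i) v' hrank hZ
  refine ⟨t, F', hF', fun i => ?_, fun x hx => hZ' x ?_, hcodim⟩
  · rw [hval (xs i) (Finset.mem_image.2 ⟨i, Finset.mem_univ _, rfl⟩), hv' i, img, hw i]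
  · unfold LI
    rw [img_snoc]
    exact hx

end Main

section Splitting
variable {R : Type u} [CommRing R] {M : Type u} [AddCommGroup M] [Module R M]

theorem rank_of_local_summand [Module.FinitePresentation R M] (x : MaximalSpectrum R) (d : ℕ)
    (f : (Fin d → Localization.AtPrime x.asIdeal) →ₗ[Localization.AtPrime x.asIdeal]
      LocalizedModule x.asIdeal.primeCompl M)
    (g : LocalizedModule x.asIdeal.primeCompl M →ₗ[Localization.AtPrime x.asIdeal]
      (Fin d → Localization.AtPrime x.asIdeal))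
    (hgf : g ∘ₗ f = LinearMap.id) : d ≤ Module.finrank (R ⧸ x.asIdeal) (V M x) := by
  classical
  let _ : Field (R ⧸ x.asIdeal) := Ideal.Quotient.field x.asIdeal
  have hloc : IsLocalizedModule x.asIdeal.primeCompl
      (Algebra.linearMap R (Localization.AtPrime x.asIdeal)) :=
    (isLocalizedModule_iff_isLocalization).2 inferInstance
  choose p hp using fun i : Fin d =>
    IsLocalizedModule.surj x.asIdeal.primeCompl
      (LocalizedModule.mkLinearMap x.asIdeal.primeCompl M) (f (Pi.single i 1))
  let gj : Fin d → (M →ₗ[R] Localization.AtPrime x.asIdeal) := fun j =>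
    (((LinearMap.proj j : (Fin d → Localization.AtPrime x.asIdeal) →ₗ[Localization.AtPrime x.asIdeal]
      Localization.AtPrime x.asIdeal) ∘ₗ g).restrictScalars R) ∘ₗ
      LocalizedModule.mkLinearMap x.asIdeal.primeCompl M
  choose φ w hφ using fun j : Fin d =>
    Module.FinitePresentation.exists_lift_of_isLocalizedModule x.asIdeal.primeCompl
      (Algebra.linearMap R (Localization.AtPrime x.asIdeal)) (gj j)
  have hentry : ∀ i j, algebraMap R (Localization.AtPrime x.asIdeal) (φ j (p i).1)
      = if i = j then algebraMap R (Localization.AtPrime x.asIdeal) ((w i : R) * ((p i).2 : R))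
        else 0 := by
    intro i j
    have h1 := LinearMap.congr_fun (hφ j) (p i).1
    rw [LinearMap.comp_apply, Algebra.linearMap_apply, LinearMap.smul_apply] at h1
    rw [h1]
    have h2 : gj j (p i).1 = ((p i).2 : R) • ((if i = j then 1 else 0 : Localization.AtPrime x.asIdeal)) := by
      show (g (LocalizedModule.mkLinearMap x.asIdeal.primeCompl M (p i).1)) j = _
      rw [← hp i]
      have h3 : g ((p i).2 • f (Pi.single i 1)) = ((p i).2 : R) • g (f (Pi.single i 1)) :=
        LinearMap.map_smul_of_tower g ((p i).2 : R) _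
      rw [h3]
      have h4 : g (f (Pi.single i 1)) = Pi.single i 1 := LinearMap.congr_fun hgf _
      rw [h4, Pi.smul_apply, Pi.single_apply]
      by_cases hij : i = j
      · rw [if_pos hij, if_pos hij.symm]
      · rw [if_neg hij, if_neg (Ne.symm hij)]
    rw [h2]
    by_cases hij : i = j
    · subst hij
      rw [if_pos rfl, if_pos rfl, map_mul, Submonoid.smul_def, Algebra.smul_def, Algebra.smul_def,
        mul_one]
    · rw [if_neg hij, if_neg hij, smul_zero, smul_zero]
  have hdet : (Matrix.of fun i j => φ j (p i).1).det ∉ x.asIdeal := by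
    have h1 : (algebraMap R (Localization.AtPrime x.asIdeal)).mapMatrix
        (Matrix.of fun i j => φ j (p i).1)
        = Matrix.diagonal fun i => algebraMap R (Localization.AtPrime x.asIdeal)
            ((w i : R) * ((p i).2 : R)) := by
      ext i j
      rw [RingHom.mapMatrix_apply, Matrix.map_apply, Matrix.of_apply, hentry i j,
        Matrix.diagonal_apply]
    have h2 : IsUnit (algebraMap R (Localization.AtPrime x.asIdeal)
        (Matrix.of fun i j => φ j (p i).1).det) := by
      rw [RingHom.map_det, h1, Matrix.det_diagonal]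
      refine IsUnit.prod_univ_iff.2 fun i => ?_
      exact IsLocalization.map_units (Localization.AtPrime x.asIdeal)
        (⟨(w i : R) * ((p i).2 : R), Submonoid.mul_mem _ (w i).2 (p i).2.2⟩ : x.asIdeal.primeCompl)
    exact (IsLocalization.AtPrime.isUnit_to_map_iff (Localization.AtPrime x.asIdeal) x.asIdeal _).1 h2
  have hli : LI x (fun i => (p i).1) := li_of_det x _ φ hdet
  have hfin : Module.Finite (R ⧸ x.asIdeal) (V M x) := inferInstance
  have := LinearIndependent.fintype_card_le_finrank hli
  rwa [Fintype.card_fin] at this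

/-- Serre's splitting theorem. -/
theorem splitting (d : ℕ) [NoetherianSpace (MaximalSpectrum R)]
    (hdim : topologicalKrullDim (MaximalSpectrum R) ≤ d) [Module.FinitePresentation R M]
    (hM : ∀ (m : Ideal R) [m.IsMaximal],
      ∃ (f : (Fin (d + 1) → Localization.AtPrime m) →ₗ[Localization.AtPrime m]
          LocalizedModule m.primeCompl M)
        (g : LocalizedModule m.primeCompl M →ₗ[Localization.AtPrime m]
          (Fin (d + 1) → Localization.AtPrime m)),
        g ∘ₗ f = LinearMap.id) :
    ∃ (s : M) (φ : M →ₗ[R] R), φ s = 1 := by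
  classical
  have hrank : ∀ x : MaximalSpectrum R,
      0 + (d + 1) ≤ Module.finrank (R ⧸ x.asIdeal) (V M x) := by
    intro x
    obtain ⟨f, g, hgf⟩ := hM x.asIdeal
    rw [zero_add]
    exact rank_of_local_summand x (d + 1) f g hgf
  obtain ⟨t, F', hF', -, hZ', hcodim⟩ :=
    main 0 (fun i : Fin 0 => i.elim0) (∅ : Set (MaximalSpectrum R)) isClosed_empty 0
      (fun i : Fin 0 => i.elim0) (fun i => i.elim0) (fun i => i.elim0) (fun i => i.elim0) (d + 1)
      hrank (fun x hx => absurd linearIndependent_empty_type hx)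
  have hF'empty : F' = ∅ := by
    rw [Set.eq_empty_iff_forall_notMem]
    intro x hx
    let Z : IrreducibleCloseds (MaximalSpectrum R) :=
      ⟨closure {x}, isIrreducible_singleton.closure, isClosed_closure⟩
    have h1 := hcodim Z (closure_minimal (Set.singleton_subset_iff.2 hx) hF')
    have h2 : (Order.coheight Z : WithBot ℕ∞) ≤ (d : WithBot ℕ∞) :=
      (Order.coheight_le_krullDim Z).trans hdim
    have h3 : ((d + 1 : ℕ) : ℕ∞) ≤ (d : ℕ∞) := by
      have : (Order.coheight Z : ℕ∞) ≤ (d : ℕ∞) := by exact_mod_cast h2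
      exact h1.trans this
    have h4 : d + 1 ≤ d := by exact_mod_cast h3
    omega
  have hne : ∀ x : MaximalSpectrum R, ∃ φ : M →ₗ[R] R, φ t ∉ x.asIdeal := by
    intro x
    let _ : Field (R ⧸ x.asIdeal) := Ideal.Quotient.field x.asIdeal
    have hli : LinearIndependent (R ⧸ x.asIdeal)
        (Fin.snoc (fun i : Fin 0 => img x ((i.elim0 : M))) (img x t) : Fin (0 + 1) → V M x) := by
      by_contra hcon
      have := hZ' x hcon
      rw [hF'empty, Set.union_empty] at this
      exact this
    have h0 : img x t ≠ 0 := by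
      have := hli.ne_zero (Fin.last 0)
      rwa [Fin.snoc_last] at this
    by_contra hcon
    apply h0
    rw [img_eq_zero_iff]
    intro φ
    by_contra hφ
    exact hcon ⟨φ, hφ⟩
  let I : Ideal R := LinearMap.range (LinearMap.applyₗ t : (M →ₗ[R] R) →ₗ[R] R)
  have hI : I = ⊤ := by
    by_contra hne'
    obtain ⟨m, hm, hIm⟩ := Ideal.exists_le_maximal I hne'
    obtain ⟨φ, hφ⟩ := hne ⟨m, hm⟩
    exact hφ (hIm ⟨φ, rfl⟩)
  have h1 : (1 : R) ∈ I := by
    rw [hI]
    exact Submodule.mem_top
  obtain ⟨φ, hφ⟩ := h1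
  exact ⟨t, φ, hφ⟩

end Splitting

end Groth.Agent.Lib.T2H7.Serre
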