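import Mathlib

/-!
# Morphisms out of finite coproducts of schemes (helper7)

A morphism out of a finite coproduct whose components are quasi-compact is quasi-compact; if the
components are closed immersions and the morphism is injective on points, it is a closed immersion.
-/

set_option autoImplicit false
set_option linter.unusedSectionVars false
set_option linter.unusedVariables false
set_option linter.style.haveILetI false

universe u

open CategoryTheory CategoryTheory.Limits AlgebraicGeometry Opposite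

namespace Groth.Agent.Lib.T2H7.SigmaDesc

/-- a monomorphism of schemes is injective on points. -/
theorem injective_of_mono {X Y : Scheme.{u}} (f : X ⟶ Y) [Mono f] : Function.Injective f := by
  intro x1 x2 h
  obtain ⟨z, hz1, hz2⟩ := Scheme.Pullback.exists_preimage_pullback (f := f) (g := f) x1 x2 h
  have e : pullback.fst f f = pullback.snd f f := (cancel_mono f).1 pullback.condition
  rw [← hz1, ← hz2, e]

variable {ι : Type u} {Y : ι → Scheme.{u}} {Z : Scheme.{u}} (f : ∀ i, Y i ⟶ Z)

theorem exists_sigmaι_eq (x : ↥(∐ Y)) : ∃ (i : ι) (y : ↥(Y i)), Sigma.ι Y i y = x := by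
  obtain ⟨i, y, hy⟩ := (sigmaOpenCover Y).exists_eq x
  exact ⟨i, y, hy⟩

theorem sigmaDesc_apply (i : ι) (y : ↥(Y i)) : (Sigma.desc f) (Sigma.ι Y i y) = f i y := by
  rw [← Scheme.Hom.comp_apply, Sigma.ι_desc]

theorem preimage_sigmaDesc (K : Set Z) :
    (Sigma.desc f) ⁻¹' K = ⋃ i, (Sigma.ι Y i) '' ((f i) ⁻¹' K) := by
  ext x
  obtain ⟨i, y, rfl⟩ := exists_sigmaι_eq x
  simp only [Set.mem_preimage, Set.mem_iUnion, Set.mem_image]
  rw [sigmaDesc_apply]
  constructor
  · intro h
    exact ⟨i, y, h, rfl⟩
  · rintro ⟨j, y', hy', he⟩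
    have h1 : (Sigma.desc f) (Sigma.ι Y j y') = (Sigma.desc f) (Sigma.ι Y i y) := by rw [he]
    rw [sigmaDesc_apply, sigmaDesc_apply] at h1
    rw [← h1]
    exact hy'

theorem image_sigmaDesc (C : Set ↥(∐ Y)) :
    (Sigma.desc f) '' C = ⋃ i, (f i) '' ((Sigma.ι Y i) ⁻¹' C) := by
  ext z
  simp only [Set.mem_image, Set.mem_iUnion, Set.mem_preimage]
  constructor
  · rintro ⟨x, hx, rfl⟩
    obtain ⟨i, y, rfl⟩ := exists_sigmaι_eq x
    exact ⟨i, y, hx, (sigmaDesc_apply f i y).symm⟩
  · rintro ⟨i, y, hy, rfl⟩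
    exact ⟨Sigma.ι Y i y, hy, sigmaDesc_apply f i y⟩

theorem quasiCompact_sigmaDesc [Finite ι] [∀ i, QuasiCompact (f i)] :
    QuasiCompact (Sigma.desc f) := by
  constructor
  intro K hKo hKc
  rw [preimage_sigmaDesc]
  refine isCompact_iUnion (fun i => ?_)
  exact (QuasiCompact.isCompact_preimage (f := f i) K hKo hKc).image (Sigma.ι Y i).continuous

theorem isClosedImmersion_sigmaDesc [Finite ι] [∀ i, IsClosedImmersion (f i)]
    (hinj : Function.Injective (Sigma.desc f)) : IsClosedImmersion (Sigma.desc f) := by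
  rw [IsClosedImmersion.eq_inf]
  refine ⟨?_, ?_⟩
  · change Topology.IsClosedEmbedding (Sigma.desc f)
    refine Topology.IsClosedEmbedding.of_continuous_injective_isClosedMap (Sigma.desc f).continuous hinj ?_
    intro C hC
    rw [image_sigmaDesc]
    refine isClosed_iUnion_of_finite (fun i => ?_)
    exact (f i).isClosedEmbedding.isClosedMap _ (hC.preimage (Sigma.ι Y i).continuous)
  · exact IsZariskiLocalAtSource.sigmaDesc (P := @SurjectiveOnStalks)
      (fun i => (inferInstance : SurjectiveOnStalks (f i)))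

end Groth.Agent.Lib.T2H7.SigmaDesc
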