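import Mathlib

/-!
# Jacobian criterion along a section (helper for S19149)
-/

set_option autoImplicit false

namespace Groth.Agent.Lib.T2H7.SmoothUnit

open TensorProduct KaehlerDifferential

universe u

section Ext

variable {R : Type*} [CommRing R] {M N T W : Type*} [AddCommGroup M] [AddCommGroup N]
  [AddCommGroup T] [AddCommGroup W] [Module R M] [Module R N] [Module R T] [Module R W]

/-- Extension of a map along a "split up to kernel" map. -/
lemma exists_extension [Module.Projective R T] (ι : M →ₗ[R] N) (π : N →ₗ[R] T)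
    (hπ : Function.Surjective π) (hπι : ∀ m, π (ι m) = 0)
    (hker : LinearMap.ker π ≤ LinearMap.range ι) (α₀ : M →ₗ[R] W)
    (hα : LinearMap.ker ι ≤ LinearMap.ker α₀) :
    ∃ g : N →ₗ[R] W, ∀ m, g (ι m) = α₀ m := by
  obtain ⟨σ, hσ⟩ := Module.projective_lifting_property π LinearMap.id hπ
  have hσ' : ∀ t, π (σ t) = t := fun t => LinearMap.congr_fun hσ t
  let ρ : N →ₗ[R] LinearMap.range ι :=
    LinearMap.codRestrict (LinearMap.range ι) (LinearMap.id - σ ∘ₗ π) (fun n => hker (by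
      simp [hσ']))
  let g₀ : LinearMap.range ι →ₗ[R] W :=
    (LinearMap.ker ι).liftQ α₀ hα ∘ₗ ι.quotKerEquivRange.symm.toLinearMap
  refine ⟨g₀ ∘ₗ ρ, fun m => ?_⟩
  have h1 : ρ (ι m) = ⟨ι m, LinearMap.mem_range_self ι m⟩ := by
    apply Subtype.ext
    simp [ρ, hπι]
  simp only [LinearMap.coe_comp, Function.comp_apply, h1, g₀, LinearEquiv.coe_coe]
  rw [LinearMap.quotKerEquivRange_symm_apply_image]
  simp

/-- Tensor consequence. -/
lemma ker_lTensor_le {K : Type*} [CommRing K] [Algebra R K] [Module K W] [IsScalarTower R K W]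
    (ι : M →ₗ[R] N) (α₀ : M →ₗ[R] W) (g : N →ₗ[R] W) (hg : ∀ m, g (ι m) = α₀ m)
    (y : TensorProduct R K M) (hy : (ι.baseChange K) y = 0) :
    LinearMap.liftBaseChange K α₀ y = 0 := by
  have : LinearMap.liftBaseChange K α₀ = LinearMap.liftBaseChange K g ∘ₗ ι.baseChange K := by
    ext m
    simp [hg]
  rw [this, LinearMap.comp_apply, hy, map_zero]

end Ext

section Split

variable {R A : Type u} [CommRing R] [CommRing A] [Algebra R A] (ε : A →ₐ[R] R)

lemma sub_mem_ker (a : A) : a - algebraMap R A (ε a) ∈ RingHom.ker ε := by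
  simp [RingHom.mem_ker]

/-- `δ a = [a - ε a] ∈ I/I²`. -/
noncomputable def delta : A →ₗ[R] (RingHom.ker ε).Cotangent where
  toFun a := (RingHom.ker ε).toCotangent ⟨a - algebraMap R A (ε a), sub_mem_ker ε a⟩
  map_add' a b := by
    rw [← map_add]
    congr 1
    apply Subtype.ext
    simp only [map_add, Submodule.coe_add]
    ring
  map_smul' r a := by
    rw [RingHom.id_apply, ← LinearMap.map_smul_of_tower]
    congr 1
    apply Subtype.ext
    simp only [SetLike.val_smul_of_tower, Algebra.smul_def, map_mul, AlgHom.commutes,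
      Algebra.algebraMap_self_apply]
    ring

lemma delta_apply (a : A) :
    delta ε a = (RingHom.ker ε).toCotangent ⟨a - algebraMap R A (ε a), sub_mem_ker ε a⟩ := rfl

lemma delta_of_mem (a : A) (ha : a ∈ RingHom.ker ε) :
    delta ε a = (RingHom.ker ε).toCotangent ⟨a, ha⟩ := by
  rw [delta_apply]
  congr 1
  apply Subtype.ext
  have : ε a = 0 := ha
  simp [this]

lemma delta_mul (a b : A) : delta ε (a * b) = ε a • delta ε b + ε b • delta ε a := by
  simp only [delta_apply]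
  rw [← LinearMap.map_smul_of_tower, ← LinearMap.map_smul_of_tower, ← map_add,
    Ideal.toCotangent_eq]
  have : (((⟨a * b - algebraMap R A (ε (a * b)), sub_mem_ker ε (a * b)⟩ : RingHom.ker ε) : A) -
      ((ε a • (⟨b - algebraMap R A (ε b), sub_mem_ker ε b⟩ : RingHom.ker ε) +
        ε b • (⟨a - algebraMap R A (ε a), sub_mem_ker ε a⟩ : RingHom.ker ε) : RingHom.ker ε) : A)) =
      (a - algebraMap R A (ε a)) * (b - algebraMap R A (ε b)) := by
    simp only [Submodule.coe_add, SetLike.val_smul_of_tower, Algebra.smul_def,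
      map_mul]
    ring
  rw [this, pow_two]
  exact Ideal.mul_mem_mul (sub_mem_ker ε a) (sub_mem_ker ε b)

end Split

section Deriv

variable {R A : Type u} [CommRing R] [CommRing A] [Algebra R A] (ε : A →ₐ[R] R)
variable (K : Type u) [CommRing K] [Algebra A K] [Algebra R K] [IsScalarTower R A K]

lemma algebraMap_eq_of_kills (hK : ∀ a ∈ RingHom.ker ε, algebraMap A K a = 0) (a : A) :
    algebraMap A K a = algebraMap R K (ε a) := by
  have := hK _ (sub_mem_ker ε a)
  rw [map_sub, sub_eq_zero] at this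
  rw [this, ← IsScalarTower.algebraMap_apply]

lemma smul_one_tmul (hK : ∀ a ∈ RingHom.ker ε, algebraMap A K a = 0) (a : A)
    (n : (RingHom.ker ε).Cotangent) :
    a • ((1 : K) ⊗ₜ[R] n) = (1 : K) ⊗ₜ[R] (ε a • n) := by
  rw [TensorProduct.smul_tmul', Algebra.smul_def, mul_one, algebraMap_eq_of_kills ε K hK,
    Algebra.algebraMap_eq_smul_one, TensorProduct.smul_tmul]

/-- The derivation `A → K ⊗[R] I/I²`, `a ↦ 1 ⊗ [a - ε a]`. -/
noncomputable def D0 (hK : ∀ a ∈ RingHom.ker ε, algebraMap A K a = 0) :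
    Derivation R A (K ⊗[R] (RingHom.ker ε).Cotangent) where
  toLinearMap := (TensorProduct.mk R K _ 1) ∘ₗ delta ε
  map_one_eq_zero' := by
    have : delta ε 1 = 0 := by
      rw [delta_apply]
      have : (⟨(1 : A) - algebraMap R A (ε 1), sub_mem_ker ε 1⟩ : RingHom.ker ε) = 0 := by
        apply Subtype.ext; simp
      rw [this, map_zero]
    simp [this]
  leibniz' a b := by
    simp only [LinearMap.coe_comp, Function.comp_apply, TensorProduct.mk_apply]
    rw [delta_mul, smul_one_tmul ε K hK, smul_one_tmul ε K hK, TensorProduct.tmul_add]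

lemma D0_apply (hK : ∀ a ∈ RingHom.ker ε, algebraMap A K a = 0) (a : A) :
    D0 ε K hK a = (1 : K) ⊗ₜ[R] delta ε a := rfl

section Beta

variable (A' : Type u) [CommRing A'] [Algebra A A'] [Algebra R A'] [IsScalarTower R A A']
  [Algebra.FormallyEtale A A'] [Algebra A' K] [IsScalarTower A A' K] [IsScalarTower R A' K]

/-- `Ω[A'/R] → K ⊗[R] I/I²`. -/
noncomputable def betaAux (hK : ∀ a ∈ RingHom.ker ε, algebraMap A K a = 0) :
    Ω[A'⁄R] →ₗ[A'] K ⊗[R] (RingHom.ker ε).Cotangent :=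
  (LinearMap.liftBaseChange A' (D0 ε K hK).liftKaehlerDifferential) ∘ₗ
    (tensorKaehlerEquivOfFormallyEtale R A A').symm.toLinearMap

lemma betaAux_D (hK : ∀ a ∈ RingHom.ker ε, algebraMap A K a = 0) (a : A) :
    betaAux ε K A' hK (D R A' (algebraMap A A' a)) = (1 : K) ⊗ₜ[R] delta ε a := by
  simp [betaAux, tensorKaehlerEquivOfFormallyEtale_symm_D_algebraMap, D0_apply]

/-- `K ⊗[A'] Ω[A'/R] → K ⊗[R] I/I²`. -/
noncomputable def beta (hK : ∀ a ∈ RingHom.ker ε, algebraMap A K a = 0) :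
    K ⊗[A'] Ω[A'⁄R] →ₗ[K] K ⊗[R] (RingHom.ker ε).Cotangent :=
  LinearMap.liftBaseChange K (betaAux ε K A' hK)

lemma beta_tmul_D (hK : ∀ a ∈ RingHom.ker ε, algebraMap A K a = 0) (k : K) (a : A) :
    beta ε K A' hK (k ⊗ₜ D R A' (algebraMap A A' a)) = k ⊗ₜ[R] delta ε a := by
  simp [beta, betaAux_D, TensorProduct.smul_tmul']

end Beta

end Deriv

section Key

variable {R A : Type u} [CommRing R] [CommRing A] [Algebra R A] (ε : A →ₐ[R] R)
variable (J : Ideal A) (hJI : J ≤ RingHom.ker ε)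

/-- `ι_J : J → I/I²`. -/
noncomputable def iotaJ : ↥J →ₗ[R] (RingHom.ker ε).Cotangent :=
  ((RingHom.ker ε).toCotangent ∘ₗ Submodule.inclusion hJI).restrictScalars R

lemma iotaJ_apply (j : J) :
    iotaJ ε J hJI j = (RingHom.ker ε).toCotangent ⟨j.1, hJI j.2⟩ := rfl

/-- `π : I/I² → I/(J+I²)`. -/
noncomputable def piT : (RingHom.ker ε).Cotangent →ₗ[R]
    (↥(RingHom.ker ε) ⧸ Submodule.comap (RingHom.ker ε).subtype (J ⊔ RingHom.ker ε ^ 2)) :=
  Ideal.Cotangent.lift ((Submodule.mkQ _).restrictScalars R) (by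
    intro x y
    simp only [LinearMap.coe_restrictScalars, Submodule.mkQ_apply, Submodule.Quotient.mk_eq_zero,
      Submodule.mem_comap]
    exact Ideal.mem_sup_right (by rw [pow_two]; exact Ideal.mul_mem_mul x.2 y.2))

lemma piT_toCotangent (x : RingHom.ker ε) :
    piT ε J ((RingHom.ker ε).toCotangent x) = Submodule.Quotient.mk x := rfl

lemma piT_surjective : Function.Surjective (piT ε J) := by
  intro t
  obtain ⟨x, rfl⟩ := Submodule.Quotient.mk_surjective _ t
  exact ⟨(RingHom.ker ε).toCotangent x, rfl⟩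

lemma piT_iotaJ (j : J) : piT ε J (iotaJ ε J hJI j) = 0 := by
  rw [iotaJ_apply, piT_toCotangent, Submodule.Quotient.mk_eq_zero, Submodule.mem_comap]
  exact Ideal.mem_sup_left j.2

lemma ker_piT_le : LinearMap.ker (piT ε J) ≤ LinearMap.range (iotaJ ε J hJI) := by
  intro n hn
  obtain ⟨x, rfl⟩ := (RingHom.ker ε).toCotangent_surjective n
  rw [LinearMap.mem_ker, piT_toCotangent, Submodule.Quotient.mk_eq_zero, Submodule.mem_comap] at hn
  obtain ⟨j, hj, z, hz, hjz⟩ := Submodule.mem_sup.mp hn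
  refine ⟨⟨j, hj⟩, ?_⟩
  rw [iotaJ_apply, Ideal.toCotangent_eq]
  have : ((⟨j, hJI hj⟩ : RingHom.ker ε) : A) - (x : A) = -z := by
    simp only [Submodule.subtype_apply] at hjz
    rw [← hjz]; ring
  rw [this]
  exact neg_mem hz

variable (K : Type u) [CommRing K] [Algebra A K] [Algebra R K] [IsScalarTower R A K]
variable (A' : Type u) [CommRing A'] [Algebra A A'] [Algebra R A'] [IsScalarTower R A A']
  [Algebra A' K] [IsScalarTower A A' K] [IsScalarTower R A' K]
variable (𝔞 : Ideal A') (h𝔞 : 𝔞 = J.map (algebraMap A A'))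

/-- `J → K ⊗[A'] 𝔞`, `j ↦ 1 ⊗ j/1`. -/
noncomputable def alpha0A : ↥J →ₗ[A] K ⊗[A'] ↥𝔞 where
  toFun x := (1 : K) ⊗ₜ ⟨algebraMap A A' x.1, h𝔞 ▸ Ideal.mem_map_of_mem _ x.2⟩
  map_add' x y := by
    rw [← TensorProduct.tmul_add]
    congr 1
    apply Subtype.ext
    simp
  map_smul' a x := by
    rw [RingHom.id_apply, TensorProduct.smul_tmul', ← algebraMap_smul A' a (1 : K),
      TensorProduct.smul_tmul]
    congr 1
    apply Subtype.ext
    simp [Algebra.smul_def]

lemma alpha0A_apply (x : J) :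
    alpha0A J K A' 𝔞 h𝔞 x =
      (1 : K) ⊗ₜ ⟨algebraMap A A' x.1, h𝔞 ▸ Ideal.mem_map_of_mem _ x.2⟩ := rfl

lemma smul_eq_zero_of_kills (hK : ∀ a ∈ RingHom.ker ε, algebraMap A K a = 0) (a : A)
    (ha : a ∈ RingHom.ker ε) (w : K ⊗[A'] ↥𝔞) : a • w = 0 := by
  induction w using TensorProduct.induction_on with
  | zero => simp
  | add x y hx hy => rw [smul_add, hx, hy, add_zero]
  | tmul k b => rw [TensorProduct.smul_tmul', Algebra.smul_def, hK a ha, zero_mul,
      TensorProduct.zero_tmul]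

lemma ker_iotaJ_le (h2 : J ⊓ RingHom.ker ε ^ 2 = RingHom.ker ε * J)
    (hK : ∀ a ∈ RingHom.ker ε, algebraMap A K a = 0) :
    LinearMap.ker (iotaJ ε J hJI) ≤
      LinearMap.ker ((alpha0A J K A' 𝔞 h𝔞).restrictScalars R) := by
  intro j hj
  rw [LinearMap.mem_ker, iotaJ_apply, Ideal.toCotangent_eq_zero] at hj
  have hj' : (j : A) ∈ RingHom.ker ε • J := by
    rw [smul_eq_mul, ← h2]; exact ⟨j.2, hj⟩
  rw [← Submodule.mem_smul_top_iff] at hj'
  rw [LinearMap.mem_ker, LinearMap.restrictScalars_apply]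
  refine Submodule.smul_induction_on hj' ?_ ?_
  · intro a ha x _
    rw [map_smul]
    exact smul_eq_zero_of_kills ε K A' 𝔞 hK a ha _
  · intro x y hx hy
    rw [map_add, hx, hy, add_zero]

lemma alpha_surjective :
    Function.Surjective
      (LinearMap.liftBaseChange K ((alpha0A J K A' 𝔞 h𝔞).restrictScalars R)) := by
  intro w
  induction w using TensorProduct.induction_on with
  | zero => exact ⟨0, map_zero _⟩
  | add x y hx hy =>
    obtain ⟨x', rfl⟩ := hx
    obtain ⟨y', rfl⟩ := hy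
    exact ⟨x' + y', map_add _ _ _⟩
  | tmul k b =>
    obtain ⟨b, hb⟩ := b
    have hb' : b ∈ Ideal.map (algebraMap A A') J := h𝔞 ▸ hb
    revert k
    refine Submodule.span_induction (p := fun b hb' => ∀ k : K, ∃ y,
      LinearMap.liftBaseChange K ((alpha0A J K A' 𝔞 h𝔞).restrictScalars R) y =
        k ⊗ₜ[A'] (⟨b, h𝔞 ▸ hb'⟩ : 𝔞)) ?_ ?_ ?_ ?_ hb'
    · rintro _ ⟨a, ha, rfl⟩ k
      refine ⟨k ⊗ₜ ⟨a, ha⟩, ?_⟩
      rw [LinearMap.liftBaseChange_tmul, LinearMap.restrictScalars_apply, alpha0A_apply,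
        TensorProduct.smul_tmul', smul_eq_mul, mul_one]
    · intro k
      refine ⟨0, ?_⟩
      rw [map_zero]
      have : (⟨0, h𝔞 ▸ (Submodule.zero_mem _)⟩ : 𝔞) = 0 := rfl
      rw [this, TensorProduct.tmul_zero]
    · intro b₁ b₂ h₁ h₂ ih₁ ih₂ k
      obtain ⟨y₁, e₁⟩ := ih₁ k
      obtain ⟨y₂, e₂⟩ := ih₂ k
      refine ⟨y₁ + y₂, ?_⟩
      rw [map_add, e₁, e₂, ← TensorProduct.tmul_add]
      rfl
    · intro s b₁ h₁ ih k
      obtain ⟨y, e⟩ := ih (s • k)
      refine ⟨y, ?_⟩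
      rw [e, TensorProduct.smul_tmul]
      rfl

variable [Algebra.FormallyEtale A A']

include h𝔞 hJI in
/-- Key injectivity statement. -/
theorem key (h2 : J ⊓ RingHom.ker ε ^ 2 = RingHom.ker ε * J)
    [Module.Projective R
      (↥(RingHom.ker ε) ⧸ Submodule.comap (RingHom.ker ε).subtype (J ⊔ RingHom.ker ε ^ 2))]
    (hK : ∀ a ∈ RingHom.ker ε, algebraMap A K a = 0)
    (c : K ⊗[A'] ↥𝔞 →ₗ[K] K ⊗[A'] Ω[A'⁄R])
    (hc : ∀ (k : K) (b : 𝔞), c (k ⊗ₜ b) = k ⊗ₜ D R A' b.1) : Function.Injective c := by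
  rw [injective_iff_map_eq_zero]
  intro x hx
  obtain ⟨y, rfl⟩ := alpha_surjective (R := R) J K A' 𝔞 h𝔞 x
  have hcomp : (beta ε K A' hK) ∘ₗ c ∘ₗ
      (LinearMap.liftBaseChange K ((alpha0A J K A' 𝔞 h𝔞).restrictScalars R)) =
      (iotaJ ε J hJI).baseChange K := by
    ext j
    simp only [TensorProduct.AlgebraTensorModule.curry_apply, LinearMap.restrictScalars_comp,
      TensorProduct.curry_apply, LinearMap.coe_comp, LinearMap.coe_restrictScalars,
      Function.comp_apply, LinearMap.liftBaseChange_tmul, one_smul, alpha0A_apply, hc,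
      beta_tmul_D, LinearMap.baseChange_tmul, iotaJ_apply]
    rw [delta_of_mem ε _ (hJI j.2)]
  have hy : (iotaJ ε J hJI).baseChange K y = 0 := by
    rw [← hcomp]
    simp only [LinearMap.coe_comp, Function.comp_apply, hx, map_zero]
  obtain ⟨g, hg⟩ := exists_extension (iotaJ ε J hJI) (piT ε J) (piT_surjective ε J)
    (piT_iotaJ ε J hJI) (ker_piT_le ε J hJI) ((alpha0A J K A' 𝔞 h𝔞).restrictScalars R)
    (ker_iotaJ_le ε J hJI K A' 𝔞 h𝔞 h2 hK)
  exact ker_lTensor_le (iotaJ ε J hJI) _ g hg y hy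

end Key

end Groth.Agent.Lib.T2H7.SmoothUnit
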