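import Mathlib

/-!
# A criterion for `Spec.map f` to be an epimorphism of schemes

If `f : R ⟶ S` is surjective on prime spectra and injective on all local rings, then `Spec.map f`
is an epimorphism in the category of schemes.
-/

set_option autoImplicit false
universe u

open CategoryTheory AlgebraicGeometry

namespace Groth.Agent.Lib.T2H7.SpecEpi

/-- injectivity of the local homomorphisms from a divisibility condition -/
theorem localRingHom_injective {R S : Type*} [CommRing R] [CommRing S] (f : R →+* S)
    (hf : Function.Injective f) (p : Ideal S) [p.IsPrime]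
    (hdiv : ∀ t : S, t ∉ p → ∃ (t' : S) (r : R), t * t' = f r ∧ f r ∉ p) :
    Function.Injective (Localization.localRingHom (p.comap f) p f rfl) := by
  rw [injective_iff_map_eq_zero]
  intro z hz
  obtain ⟨x, s, rfl⟩ := IsLocalization.exists_mk'_eq (p.comap f).primeCompl z
  rw [Localization.localRingHom_mk'] at hz
  rw [IsLocalization.mk'_eq_zero_iff] at hz ⊢
  obtain ⟨⟨t, ht⟩, htx⟩ := hz
  obtain ⟨t', r, hr, hrp⟩ := hdiv t ht
  have hrq : r ∈ (p.comap f).primeCompl := fun hmem => hrp hmem
  refine ⟨⟨r, hrq⟩, ?_⟩
  apply hf
  have h1 : f (r * x) = t' * (t * f x) := by rw [map_mul, ← hr]; ring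
  have h2 : t * f x = 0 := htx
  rw [map_zero]
  show f (r * x) = 0
  rw [h1, h2, mul_zero]

/-- `Spec.map f` is an epimorphism when `f` is surjective on spectra and injective on local
rings. -/
theorem epi_specMap {R S : CommRingCat.{u}} (f : R ⟶ S)
    (h1 : Function.Surjective (PrimeSpectrum.comap f.hom))
    (h2 : ∀ p : PrimeSpectrum S, Function.Injective
      (Localization.localRingHom (p.comap f.hom).asIdeal p.asIdeal f.hom rfl)) :
    Epi (Spec.map f) := by
  apply CategoryTheory.Functor.epi_of_epi_map (Scheme.forgetToLocallyRingedSpace)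
  apply CategoryTheory.Functor.epi_of_epi_map (LocallyRingedSpace.forgetToSheafedSpace)
  apply SheafedSpace.epi_of_base_surjective_of_stalk_mono _ h1
  intro x
  have hm : Mono (CommRingCat.ofHom <| Localization.localRingHom
      (x.comap f.hom).asIdeal x.asIdeal f.hom rfl) :=
    ConcreteCategory.mono_of_injective _ (h2 x)
  exact ((MorphismProperty.monomorphisms CommRingCat).arrow_mk_iso_iff
    (Scheme.arrowStalkMapSpecIso f x)).mpr hm

end Groth.Agent.Lib.T2H7.SpecEpi
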