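import Groth.Agent.Lib.T2H7DiagHomB

/-!
An exact sequence `1 → D(MK) → D(MG) → D(MQ) → 1` of diagonalisable groups over a connected affine
base, with `MK` free of finite rank, splits.
-/

set_option autoImplicit false
set_option linter.unusedSectionVars false
set_option linter.unusedVariables false
set_option linter.style.haveILetI false
universe u
open CategoryTheory CategoryTheory.Limits MonoidalCategory CartesianMonoidalCategory MonObj GrpObj
  AlgebraicGeometry

namespace Groth.Agent.Lib.T2H7.SplitSeq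

open Groth.Agent.Lib.T2H3.MultGa Groth.Agent.Lib.Helper27.GaGm Groth.Agent.Lib.T2H7.DiagDS
  Groth.Agent.Lib.T2H7.DiagHomA Groth.Agent.Lib.T2H7.DiagHomB

variable {R : Type u} [CommRing R] [Nontrivial R]
  {MK MG MQ : Type} [AddCommGroup MK] [AddCommGroup MG] [AddCommGroup MQ]

/-- a retraction of `ψ`, when `ψ` is injective and its image is the kernel of `jm` with values in a
group all of whose subgroups are projective. -/
theorem exists_retraction (ψ : MQ →+ MG) (jm : MG →+ MK) (hinj : Function.Injective ψ)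
    (hzero : ∀ q, jm (ψ q) = 0)
    (hker : ∀ g, jm g = 0 → g ∈ ψ.range)
    (hproj : Module.Projective ℤ (LinearMap.range jm.toIntLinearMap)) :
    ∃ ρ : MG →+ MQ, ∀ q, ρ (ψ q) = q := by
  let jL : MG →ₗ[ℤ] MK := jm.toIntLinearMap
  have hsurj : Function.Surjective jL.rangeRestrict := LinearMap.surjective_rangeRestrict jL
  obtain ⟨σ, hσ⟩ := Module.projective_lifting_property jL.rangeRestrict LinearMap.id hsurj
  have hσ' : ∀ g : MG, jm (σ (jL.rangeRestrict g)) = jm g := by
    intro g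
    have h1 := congrArg (fun f : _ →ₗ[ℤ] _ => ((f (jL.rangeRestrict g) : LinearMap.range jL) : MK)) hσ
    simp only [LinearMap.comp_apply, LinearMap.id_apply] at h1
    exact h1
  have hmem : ∀ g : MG, g - σ (jL.rangeRestrict g) ∈ ψ.range := by
    intro g
    apply hker
    rw [map_sub, hσ', sub_self]
  choose ρ hρ using hmem
  have hadd : ∀ g g', ρ (g + g') = ρ g + ρ g' := by
    intro g g'
    apply hinj
    rw [map_add, hρ, hρ, hρ, map_add, map_add]
    abel
  refine ⟨AddMonoidHom.mk' ρ hadd, fun q => ?_⟩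
  apply hinj
  show ψ (ρ (ψ q)) = ψ q
  rw [hρ]
  have h0 : jL.rangeRestrict (ψ q) = 0 := by
    apply Subtype.ext
    show jm (ψ q) = 0
    exact hzero q
  rw [h0, map_zero, sub_zero]

/-- core of the splitting argument, with an abstract cokernel `C` of `ψ`. -/
theorem exists_section_core (hconn : ∀ e : R, IsIdempotentElem e → e = 0 ∨ e = 1)
    (hproj : ∀ L : Submodule ℤ MK, Module.Projective ℤ L)
    (i' : Red.DS (Spec (CommRingCat.of R)) MK ⟶ Red.DS (Spec (CommRingCat.of R)) MG)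
    [IsMonHom i'] [Mono i']
    (π' : Red.DS (Spec (CommRingCat.of R)) MG ⟶ Red.DS (Spec (CommRingCat.of R)) MQ)
    [IsMonHom π'] [Epi π']
    (hker : IsPullback i' (toUnit _) π' η[Red.DS (Spec (CommRingCat.of R)) MQ])
    (ψ : MQ →+ MG) (hψ : ∀ m, dsFn π' (sg m) = chr (Spec (CommRingCat.of R)) (ψ m))
    (jm : MG →+ MK) (hjm : ∀ m, dsFn i' (sg m) = chr (Spec (CommRingCat.of R)) (jm m))
    {C : Type} [AddCommGroup C] (qC : MG →+ C) (hqC : ∀ g, qC g = 0 ↔ g ∈ ψ.range) :
    ∃ s' : Red.DS (Spec (CommRingCat.of R)) MQ ⟶ Red.DS (Spec (CommRingCat.of R)) MG,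
      IsMonHom s' ∧ s' ≫ π' = 𝟙 _ := by
  have hcomp : i' ≫ π' = 1 := by
    rw [hker.w]
    rfl
  -- `jm ∘ ψ = 0`
  have hzero : ∀ q, jm (ψ q) = 0 := by
    intro q
    apply chr_injective R
    rw [← hjm, ← dsFn_comp_of_chr i' π' ψ hψ q, hcomp, dsFn_one_sg, chr_zero]
  -- `ψ` is injective
  have hinj : Function.Injective ψ := by
    rw [injective_iff_map_eq_zero]
    intro q hq
    obtain ⟨cq, hcqmon, hcq⟩ := exists_dsHom (T := Spec (CommRingCat.of R))
      (zmultiplesHom MQ q : ℤ →+ MQ)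
    have h1 : π' ≫ cq = π' ≫ 1 := by
      apply ds_ext'
      intro n
      rw [dsFn_comp_of_chr π' cq _ hcq n, hψ, MonObj.comp_one, dsFn_one_sg]
      have : ψ ((zmultiplesHom MQ q : ℤ →+ MQ) n) = 0 := by
        show ψ (n • q) = 0
        rw [map_zsmul, hq, smul_zero]
      rw [this, chr_zero]
    have h2 : cq = 1 := (cancel_epi π').1 h1
    apply chr_injective R
    have h3 := hcq 1
    rw [h2, dsFn_one_sg] at h3
    rw [chr_zero, h3]
    congr 1
    show q = (1 : ℤ) • q
    rw [one_smul]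
  -- the kernel of `jm` is the image of `ψ`
  have hqC' : ∀ q, qC (ψ q) = 0 := fun q => (hqC _).2 ⟨q, rfl⟩
  obtain ⟨j, hjmon, hj⟩ := exists_dsHom (T := Spec (CommRingCat.of R)) qC
  haveI : IsMonHom j := hjmon
  have hjπ : j ≫ π' = 1 := by
    apply ds_ext'
    intro q
    rw [dsFn_comp_of_chr j π' ψ hψ q, hj, hqC', chr_zero, dsFn_one_sg]
  let t₀ := hker.lift j (toUnit _) (by rw [hjπ]; rfl)
  have ht₀ : t₀ ≫ i' = j := hker.lift_fst _ _ _
  haveI : IsMonHom t₀ := by
    apply isMonHom_of_points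
    apply (cancel_mono i').1
    rw [Category.assoc, ht₀]
    have hx := MonObj.mul_comp (fst (Red.DS (Spec (CommRingCat.of R)) C)
      (Red.DS (Spec (CommRingCat.of R)) C)) (snd _ _) j
    have hy := MonObj.mul_comp (fst (Red.DS (Spec (CommRingCat.of R)) C)
      (Red.DS (Spec (CommRingCat.of R)) C) ≫ t₀) (snd _ _ ≫ t₀) i'
    rw [hx, hy, Category.assoc, Category.assoc, ht₀]
  obtain ⟨τ, hτ⟩ := exists_addHom hconn t₀
  have hcompat : ∀ g, qC g = τ (jm g) := by
    intro g
    apply chr_injective R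
    rw [← hj, ← ht₀, dsFn_comp_of_chr t₀ i' jm hjm g, hτ]
  have hkerjm : ∀ g, jm g = 0 → g ∈ ψ.range := by
    intro g hg
    have h1 : qC g = 0 := by rw [hcompat, hg, map_zero]
    exact (hqC _).1 h1
  obtain ⟨ρ, hρ⟩ := exists_retraction ψ jm hinj hzero hkerjm (hproj _)
  obtain ⟨s', hs'mon, hs'⟩ := exists_dsHom (T := Spec (CommRingCat.of R)) ρ
  refine ⟨s', hs'mon, ?_⟩
  apply ds_ext'
  intro q
  rw [dsFn_comp_of_chr s' π' ψ hψ q, hs', hρ]
  rfl

/-- **Splitting.** -/
theorem exists_section (hconn : ∀ e : R, IsIdempotentElem e → e = 0 ∨ e = 1)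
    (hproj : ∀ L : Submodule ℤ MK, Module.Projective ℤ L)
    (i' : Red.DS (Spec (CommRingCat.of R)) MK ⟶ Red.DS (Spec (CommRingCat.of R)) MG)
    [IsMonHom i'] [Mono i']
    (π' : Red.DS (Spec (CommRingCat.of R)) MG ⟶ Red.DS (Spec (CommRingCat.of R)) MQ)
    [IsMonHom π'] [Epi π']
    (hker : IsPullback i' (toUnit _) π' η[Red.DS (Spec (CommRingCat.of R)) MQ]) :
    ∃ s' : Red.DS (Spec (CommRingCat.of R)) MQ ⟶ Red.DS (Spec (CommRingCat.of R)) MG,
      IsMonHom s' ∧ s' ≫ π' = 𝟙 _ := by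
  obtain ⟨ψ, hψ⟩ := exists_addHom hconn π'
  obtain ⟨jm, hjm⟩ := exists_addHom hconn i'
  exact exists_section_core hconn hproj i' π' hker ψ hψ jm hjm (QuotientAddGroup.mk' ψ.range)
    (fun g => QuotientAddGroup.eq_zero_iff g)

end Groth.Agent.Lib.T2H7.SplitSeq
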