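import Groth.Agent.Lib.T2H7SqZeroRigid
import Groth.Prelude.Def_ActBC

/-!
The kernel of reduction modulo a square-zero ideal on the points of a group scheme is commutative
(S8363).
-/

set_option autoImplicit false
set_option linter.unusedSectionVars false
set_option linter.unusedVariables false
set_option linter.style.haveILetI false
universe u
open CategoryTheory CategoryTheory.Limits MonoidalCategory CartesianMonoidalCategory MonObj GrpObj
  AlgebraicGeometry

namespace Groth.Agent.Lib.T2H7.SqZeroComm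

open Groth.Agent.Lib.T2H7.SqZeroRigid

variable {R : Type u} [CommRing R] (J : Ideal R)
  (X : Over (Spec (CommRingCat.of R))) [GrpObj X] (Y : Over (Spec (CommRingCat.of R)))

/-- The reduction `Y₀ = Y ×_S S₀` of `Y`, as an object over `S`. -/
noncomputable abbrev red : Over (Spec (CommRingCat.of R)) :=
  Over.mk (pullback.fst Y.hom (s₀ J) ≫ Y.hom)

/-- The closed immersion `Y₀ ⟶ Y` over `S`. -/
noncomputable abbrev redι : red J Y ⟶ Y := Over.homMk (pullback.fst Y.hom (s₀ J)) rfl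

variable {X Y}

theorem redι_comp_of_map_eq_one (g : Y ⟶ X) (hg : (Over.pullback (s₀ J)).map g = 1) :
    redι J Y ≫ g = 1 := by
  have h1 : (Over.pullback (s₀ J)).map g = (Over.pullback (s₀ J)).map (1 : Y ⟶ X) := by
    rw [hg]
    exact ((Over.pullback (s₀ J)).map_one).symm
  have h2 := congr_arg (fun m => m.left ≫ pullback.fst X.hom (s₀ J)) h1
  simp only [ActBC.pullback_map_left_fst] at h2
  rw [← MonObj.comp_one (redι J Y)]
  ext
  exact h2

theorem comm_of_map_eq_one (hJ : J * J = ⊥) (g g' : Y ⟶ X)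
    (hg : (Over.pullback (s₀ J)).map g = 1) (hg' : (Over.pullback (s₀ J)).map g' = 1) :
    g * g' = g' * g := by
  let c : Y ⊗ X ⟶ X := (fst Y X ≫ g) * snd Y X * (fst Y X ≫ g)⁻¹
  let Φ : Y ⊗ X ⟶ Y ⊗ X := lift (fst Y X) c
  let σe : Y ⟶ Y ⊗ X := lift (𝟙 Y) 1
  let σ : Y ⟶ Y ⊗ X := lift (𝟙 Y) g'
  have hΦfst : Φ ≫ fst Y X = fst Y X := lift_fst _ _
  have hΦsnd : Φ ≫ snd Y X = c := lift_snd _ _
  -- (b)
  have hσec : σe ≫ c = 1 := by
    show σe ≫ ((fst Y X ≫ g) * snd Y X * (fst Y X ≫ g)⁻¹) = 1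
    rw [MonObj.comp_mul, MonObj.comp_mul, GrpObj.comp_inv, ← Category.assoc]
    have h1 : σe ≫ fst Y X = 𝟙 Y := lift_fst _ _
    have h2 : σe ≫ snd Y X = 1 := lift_snd _ _
    rw [h1, h2, Category.id_comp, _root_.mul_one, mul_inv_cancel]
  have hb : σe ≫ Φ = σe := by
    apply CartesianMonoidalCategory.hom_ext
    · rw [Category.assoc, hΦfst]
    · rw [Category.assoc, hΦsnd, hσec]
      exact (lift_snd _ _).symm
  -- (a)
  have hjc : redι J (Y ⊗ X) ≫ c = redι J (Y ⊗ X) ≫ snd Y X := by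
    show redι J (Y ⊗ X) ≫ ((fst Y X ≫ g) * snd Y X * (fst Y X ≫ g)⁻¹) = _
    rw [MonObj.comp_mul, MonObj.comp_mul, GrpObj.comp_inv]
    have h1 : redι J (Y ⊗ X) ≫ fst Y X ≫ g = 1 := by
      let k : red J (Y ⊗ X) ⟶ red J Y :=
        Over.homMk (pullback.lift (pullback.fst (Y ⊗ X).hom (s₀ J) ≫ (fst Y X).left)
          (pullback.snd (Y ⊗ X).hom (s₀ J)) (by
            rw [Category.assoc, Over.w (fst Y X)]
            exact pullback.condition)) (by
          show pullback.lift _ _ _ ≫ pullback.fst Y.hom (s₀ J) ≫ Y.hom =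
            pullback.fst (Y ⊗ X).hom (s₀ J) ≫ (Y ⊗ X).hom
          rw [pullback.lift_fst_assoc, Category.assoc, Over.w (fst Y X)])
      have hk : redι J (Y ⊗ X) ≫ fst Y X = k ≫ redι J Y := by
        ext
        show pullback.fst (Y ⊗ X).hom (s₀ J) ≫ (fst Y X).left =
          pullback.lift _ _ _ ≫ pullback.fst Y.hom (s₀ J)
        rw [pullback.lift_fst]
      rw [← Category.assoc, hk, Category.assoc, redι_comp_of_map_eq_one J g hg, MonObj.comp_one]
    rw [h1, _root_.one_mul, inv_one, _root_.mul_one]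
  have ha' : redι J (Y ⊗ X) ≫ Φ = redι J (Y ⊗ X) := by
    apply CartesianMonoidalCategory.hom_ext
    · rw [Category.assoc, hΦfst]
    · rw [Category.assoc, hΦsnd, hjc]
  have ha : pullback.fst (Y ⊗ X).hom (s₀ J) ≫ Φ.left = pullback.fst (Y ⊗ X).hom (s₀ J) :=
    congr_arg (fun m => m.left) ha'
  -- (c)
  have hc' : redι J Y ≫ σ = redι J Y ≫ σe := by
    apply CartesianMonoidalCategory.hom_ext
    · have h1 : σ ≫ fst Y X = 𝟙 Y := lift_fst _ _
      have h2 : σe ≫ fst Y X = 𝟙 Y := lift_fst _ _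
      rw [Category.assoc, Category.assoc, h1, h2]
    · have h1 : σ ≫ snd Y X = g' := lift_snd _ _
      have h2 : σe ≫ snd Y X = 1 := lift_snd _ _
      rw [Category.assoc, Category.assoc, h1, h2, redι_comp_of_map_eq_one J g' hg',
        MonObj.comp_one]
  have hc : pullback.fst Y.hom (s₀ J) ≫ σ.left = pullback.fst Y.hom (s₀ J) ≫ σe.left :=
    congr_arg (fun m => m.left) hc'
  have hb' : σe.left ≫ Φ.left = σe.left := congr_arg (fun m => m.left) hb
  have key : σ.left ≫ Φ.left = σ.left :=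
    rigid J hJ (Y ⊗ X).hom Y.hom Φ.left σe.left σ.left (Over.w σe) (Over.w σ) ha hb' hc
  have key' : σ ≫ Φ = σ := Over.OverMorphism.ext key
  have h3 : σ ≫ c = g * g' * g⁻¹ := by
    show σ ≫ ((fst Y X ≫ g) * snd Y X * (fst Y X ≫ g)⁻¹) = _
    rw [MonObj.comp_mul, MonObj.comp_mul, GrpObj.comp_inv, ← Category.assoc]
    have h1 : σ ≫ fst Y X = 𝟙 Y := lift_fst _ _
    have h2 : σ ≫ snd Y X = g' := lift_snd _ _
    rw [h1, h2, Category.id_comp]
  have h4 : g * g' * g⁻¹ = g' := by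
    rw [← h3, ← hΦsnd, ← Category.assoc, key']
    exact lift_snd _ _
  calc g * g' = g * g' * g⁻¹ * g := by group
    _ = g' * g := by rw [h4]

end Groth.Agent.Lib.T2H7.SqZeroComm
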