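import Mathlib
import Groth.Agent.Lib.Helper22ThickAffine

/-!
Helper library (helper7): a morphism out of a square-zero thickening `i : D ⟶ C` is a closed
immersion as soon as its restriction to `D` is one and the ideal of `D` is the pullback of the ideal
of its image.
-/

set_option autoImplicit false
set_option linter.unusedSectionVars false
set_option linter.unusedVariables false
set_option linter.style.haveILetI false
universe u
open CategoryTheory CategoryTheory.Limits AlgebraicGeometry TopologicalSpace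

namespace Groth.Agent.Lib.T2H7.SqZeroImm

/-- the algebra behind the criterion -/
theorem surjective_of_sqZero {R B A : Type*} [CommRing R] [CommRing B] [CommRing A]
    (φ : R →+* B) (π : B →+* A) (hπφ : Function.Surjective (π.comp φ))
    (hN : (RingHom.ker π) ^ 2 = ⊥)
    (hJ : RingHom.ker π ≤ Ideal.map φ (RingHom.ker (π.comp φ))) : Function.Surjective φ := by
  have key : ∀ n ∈ Ideal.map φ (RingHom.ker (π.comp φ)),
      ∃ y ∈ RingHom.ker (π.comp φ), φ y = n := by
    intro n hn
    refine Submodule.span_induction (p := fun n _ => ∃ y ∈ RingHom.ker (π.comp φ), φ y = n)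
      ?_ ?_ ?_ ?_ hn
    · rintro _ ⟨y, hy, rfl⟩
      exact ⟨y, hy, rfl⟩
    · exact ⟨0, Ideal.zero_mem _, map_zero _⟩
    · rintro x y _ _ ⟨a, ha, rfl⟩ ⟨b, hb, rfl⟩
      exact ⟨a + b, Ideal.add_mem _ ha hb, map_add _ _ _⟩
    · rintro b' x _ ⟨y, hy, rfl⟩
      obtain ⟨r', hr'⟩ := hπφ (π b')
      have hm : b' - φ r' ∈ RingHom.ker π := by
        rw [RingHom.mem_ker, map_sub, sub_eq_zero]
        exact hr'.symm
      have hφy : φ y ∈ RingHom.ker π := hy
      have h0 : (b' - φ r') * φ y = 0 := by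
        have : (b' - φ r') * φ y ∈ (RingHom.ker π) ^ 2 := by
          rw [pow_two]
          exact Ideal.mul_mem_mul hm hφy
        rw [hN] at this
        exact this
      refine ⟨r' * y, Ideal.mul_mem_left _ _ hy, ?_⟩
      rw [map_mul, smul_eq_mul]
      have : b' * φ y = (b' - φ r') * φ y + φ r' * φ y := by ring
      rw [this, h0, zero_add]
  intro b
  obtain ⟨r, hr⟩ := hπφ (π b)
  have hm : b - φ r ∈ RingHom.ker π := by
    rw [RingHom.mem_ker, map_sub, sub_eq_zero]
    exact hr.symm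
  obtain ⟨y, -, hy⟩ := key _ (hJ hm)
  exact ⟨r + y, by rw [map_add, hy]; ring⟩

variable {D C X : Scheme.{u}}

/-- a closed immersion whose ideal has a vanishing power is surjective -/
theorem surjective_of_ker_pow_eq_bot (i : D ⟶ C) [IsClosedImmersion i] (n : ℕ) (hn : n ≠ 0)
    (h : i.ker ^ n = ⊥) : Function.Surjective i := by
  have hsupp : i.ker.support = ⊤ := by
    rw [← i.ker.support_pow n hn, h, Scheme.IdealSheafData.support_bot]
  rw [← Set.range_eq_univ]
  have h1 : closure (Set.range i) = Set.univ := by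
    have := Scheme.Hom.support_ker i
    rw [hsupp] at this
    exact this.symm
  rwa [i.isClosedEmbedding.isClosed_range.closure_eq] at h1

/-- an open of a thickening is affine as soon as its trace on the thickened scheme is -/
theorem isAffineOpen_of_preimage (i : D ⟶ C) [IsClosedImmersion i] (hi : Function.Surjective i)
    (V : C.Opens) (hW : IsAffineOpen (i ⁻¹ᵁ V)) : IsAffineOpen V := by
  haveI : IsAffine (i ⁻¹ᵁ V).toScheme := hW
  haveI : Surjective i := ⟨hi⟩
  have hs : Surjective (i ∣_ V) := IsZariskiLocalAtTarget.restrict (P := @Surjective) inferInstance V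
  exact Groth.Agent.Lib.Helper22.ThickAffine.isAffine_of_thickening (i ∣_ V) hs.surj

/-- a morphism out of a square-zero thickening `i : D ⟶ C` whose restriction to `D` is a closed
immersion and which pulls the ideal of the image of `D` back to the ideal of `D` is a closed immersion -/
theorem isClosedImmersion_of_sqZero (i : D ⟶ C) [IsClosedImmersion i] (hnil : i.ker ^ 2 = ⊥)
    (f : C ⟶ X) [IsClosedImmersion (i ≫ f)] (h : (i ≫ f).ker.comap f = i.ker) :
    IsClosedImmersion f := by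
  have hi := surjective_of_ker_pow_eq_bot i 2 two_ne_zero hnil
  have H : IsPullback i (𝟙 D) f (i ≫ f) :=
    isPullback_of_isClosedImmersion i (i ≫ f) (𝟙 D) f (by simp) h
  have haff : ∀ U : X.Opens, IsAffineOpen U → IsAffineOpen (f ⁻¹ᵁ U) := by
    intro U hU
    apply isAffineOpen_of_preimage i hi
    exact hU.preimage (i ≫ f)
  rw [isClosedImmersion_iff_isAffineHom]
  refine ⟨⟨haff⟩, fun U hU => ?_⟩
  have hUX : IsAffineOpen (f ⁻¹ᵁ U) := haff U hU
  have hUT : IsAffineOpen ((i ≫ f) ⁻¹ᵁ U) := hU.preimage (i ≫ f)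
  have hiso := isIso_pushoutSection_of_isAffineOpen H (US := U) (UT := (i ≫ f) ⁻¹ᵁ U)
    (UX := f ⁻¹ᵁ U) le_rfl le_rfl (UY := i ⁻¹ᵁ (f ⁻¹ᵁ U) ⊓ (𝟙 D) ⁻¹ᵁ ((i ≫ f) ⁻¹ᵁ U)) rfl hU hUT hUX
  have hpo := (isIso_pushoutSection_iff H (US := U) (UT := (i ≫ f) ⁻¹ᵁ U)
    (UX := f ⁻¹ᵁ U) le_rfl le_rfl (UY := i ⁻¹ᵁ (f ⁻¹ᵁ U) ⊓ (𝟙 D) ⁻¹ᵁ ((i ≫ f) ⁻¹ᵁ U)) rfl).mp hiso
  set UX := f ⁻¹ᵁ U with hUXdef
  set UT := (i ≫ f) ⁻¹ᵁ U with hUTdef
  set UY := i ⁻¹ᵁ UX ⊓ (𝟙 D) ⁻¹ᵁ UT with hUYdef
  have hφ : f.appLE U UX le_rfl = f.app U := f.appLE_eq_app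
  have hψ : (i ≫ f).appLE U UT le_rfl = (i ≫ f).app U := (i ≫ f).appLE_eq_app
  rw [hφ, hψ] at hpo
  have hψsurj : Function.Surjective ((i ≫ f).app U).hom := (i ≫ f).app_surjective U hU
  have hcomp : ((i ≫ f).app U).hom = (i.app UX).hom.comp (f.app U).hom := by
    rw [Scheme.Hom.comp_app]; rfl
  apply surjective_of_sqZero (f.app U).hom (i.app UX).hom
  · rw [← hcomp]; exact hψsurj
  · have hk : RingHom.ker (i.app UX).hom = i.ker.ideal ⟨UX, hUX⟩ := (i.ker_apply ⟨UX, hUX⟩).symm
    rw [hk]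
    have := congrArg (fun J : C.IdealSheafData => J.ideal ⟨UX, hUX⟩) hnil
    simpa using this
  · intro n hn
    rw [← hcomp]
    set J := RingHom.ker ((i ≫ f).app U).hom with hJdef
    let q : Γ(C, UX) →+* Γ(C, UX) ⧸ Ideal.map (f.app U).hom J := Ideal.Quotient.mk _
    have hker : RingHom.ker ((i ≫ f).app U).hom ≤ RingHom.ker (q.comp (f.app U).hom) := by
      intro r hr
      rw [RingHom.mem_ker, RingHom.comp_apply]
      exact Ideal.Quotient.eq_zero_iff_mem.2 (Ideal.mem_map_of_mem _ hr)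
    let aR := RingHom.liftOfSurjective ((i ≫ f).app U).hom hψsurj ⟨q.comp (f.app U).hom, hker⟩
    have haR : aR.comp ((i ≫ f).app U).hom = q.comp (f.app U).hom :=
      RingHom.liftOfSurjective_comp _ hψsurj ⟨q.comp (f.app U).hom, hker⟩
    have hw : f.app U ≫ CommRingCat.ofHom q = (i ≫ f).app U ≫ CommRingCat.ofHom aR := by
      ext r
      exact (congrArg (fun m => m r) haR).symm
    have hd : i.appLE UX UY _ ≫ hpo.desc (CommRingCat.ofHom q) (CommRingCat.ofHom aR) hw =
        CommRingCat.ofHom q := hpo.inl_desc _ _ _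
    have h0 : (i.appLE UX UY (by simp [hUYdef])).hom n = 0 := by
      rw [Scheme.Hom.appLE, CommRingCat.hom_comp, RingHom.comp_apply]
      rw [RingHom.mem_ker] at hn
      rw [hn, map_zero]
    have hq : q n = 0 := by
      have := congrArg (fun m => m.hom n) hd
      simp only [CommRingCat.hom_comp, RingHom.comp_apply, CommRingCat.hom_ofHom] at this
      rw [← this, h0, map_zero]
    exact Ideal.Quotient.eq_zero_iff_mem.1 hq

end Groth.Agent.Lib.T2H7.SqZeroImm
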