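import Groth.Agent.Lib.T2H7StabFree
import Groth.Agent.Lib.Helper3GrpFibDim
set_option autoImplicit false
set_option linter.unusedSectionVars false
set_option linter.unusedVariables false
set_option linter.style.haveILetI false
universe u
open CategoryTheory MonoidalCategory CartesianMonoidalCategory MonObj GrpObj AlgebraicGeometry Limits

namespace Groth.Agent.Lib.T2H7.StabBC

open Groth.Agent.Lib.T2H7.StabGrp Groth.Agent.Lib.T2H7.StabFree Groth.Agent.Lib.Helper12

section BC

variable {S : Scheme.{u}} {G X : Over S} [GrpObj G] (a : AlgGrp.Action G X)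
  {T : Over S} (f : T ⟶ X)

theorem whiskerLeft_psi : (G ◁ f) ≫ GIT.psi a (𝟙 X) = GIT.psi a f ≫ (X ◁ f) := by
  apply CartesianMonoidalCategory.hom_ext
  · rw [Category.assoc, psi_fst, Category.assoc, whiskerLeft_fst, psi_fst]
    simp
  · rw [Category.assoc, psi_snd, Category.assoc, whiskerLeft_snd, whiskerLeft_snd,
      ← Category.assoc, psi_snd]

theorem lift_whiskerLeft' : lift f (𝟙 T) ≫ (X ◁ f) = f ≫ lift (𝟙 X) (𝟙 X) := by
  apply CartesianMonoidalCategory.hom_ext
  · simp
  · simp

/-- the map from the stabilizer of `f` to the universal stabilizer -/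
noncomputable def toUniv : GLinSh.stab a f ⟶ GLinSh.stab a (𝟙 X) :=
  stabLift a (𝟙 X) (stabFst a f ≫ (G ◁ f).left) (GLinSh.stabTo a f ≫ f.left) (by
    rw [Category.assoc, ← Over.comp_left, whiskerLeft_psi, Over.comp_left, ← Category.assoc,
      stab_condition, Category.assoc, Category.assoc, ← Over.comp_left, ← Over.comp_left,
      lift_whiskerLeft'])

theorem toUniv_fst : toUniv a f ≫ stabFst a (𝟙 X) = stabFst a f ≫ (G ◁ f).left :=
  stabLift_fst _ _ _ _ _

theorem toUniv_snd : toUniv a f ≫ GLinSh.stabTo a (𝟙 X) = GLinSh.stabTo a f ≫ f.left :=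
  stabLift_snd _ _ _ _ _

/-- the second projection formula on underlying schemes -/
theorem psi_left_snd : (GIT.psi a f).left ≫ (snd X T).left = (snd G T).left := by
  rw [← Over.comp_left, psi_snd]

theorem lift_left_snd : (lift f (𝟙 T)).left ≫ (snd X T).left = 𝟙 _ := by
  rw [← Over.comp_left, lift_snd]; rfl

theorem whiskerLeft_psi_left :
    (G ◁ f).left ≫ (GIT.psi a (𝟙 X)).left = (GIT.psi a f).left ≫ (X ◁ f).left := by
  rw [← Over.comp_left, whiskerLeft_psi, Over.comp_left]

theorem lift_whiskerLeft_left :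
    (lift f (𝟙 T)).left ≫ (X ◁ f).left = f.left ≫ (lift (𝟙 X) (𝟙 X)).left := by
  rw [← Over.comp_left, lift_whiskerLeft', Over.comp_left]

/-- the pullback square on underlying schemes for `G ◁ f` -/
theorem isPullback_whiskerLeft_left (H : Over S) :
    IsPullback (H ◁ f).left (snd H T).left (snd H X).left f.left :=
  (isPullback_whiskerLeft H f).map (Over.forget _)

/-- **the stabilizer of `f` is the base change of the universal stabilizer along `f`.** -/
theorem isPullback_toUniv :
    IsPullback (toUniv a f) (GLinSh.stabTo a f) (GLinSh.stabTo a (𝟙 X)) f.left := by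
  have hG := isPullback_whiskerLeft_left f G
  have hX := isPullback_whiskerLeft_left f X
  -- the lifting data for a cone
  have key : ∀ (s : PullbackCone (GLinSh.stabTo a (𝟙 X)) f.left),
      ∃ p : s.pt ⟶ (G ⊗ T).left, p ≫ (G ◁ f).left = s.fst ≫ stabFst a (𝟙 X) ∧
        p ≫ (snd G T).left = s.snd ∧
        p ≫ (GIT.psi a f).left = s.snd ≫ (lift f (𝟙 T)).left := by
    intro s
    have h0 : (s.fst ≫ stabFst a (𝟙 X)) ≫ (snd G X).left = s.snd ≫ f.left := by
      rw [Category.assoc, stabFst_snd, s.condition]
    refine ⟨hG.lift _ _ h0, hG.lift_fst _ _ h0, hG.lift_snd _ _ h0, ?_⟩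
    apply hX.hom_ext
    · rw [Category.assoc, ← whiskerLeft_psi_left, ← Category.assoc, hG.lift_fst, Category.assoc,
        stab_condition, ← Category.assoc, s.condition, Category.assoc, Category.assoc,
        lift_whiskerLeft_left]
    · rw [Category.assoc, psi_left_snd, hG.lift_snd, Category.assoc, lift_left_snd,
        Category.comp_id]
  refine ⟨⟨toUniv_snd a f⟩, ⟨PullbackCone.IsLimit.mk _
    (fun s => stabLift a f (key s).choose s.snd (key s).choose_spec.2.2) ?_ ?_ ?_⟩⟩
  · intro s
    apply stab_hom_ext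
    · rw [Category.assoc, toUniv_fst, ← Category.assoc, stabLift_fst, (key s).choose_spec.1]
    · rw [Category.assoc, toUniv_snd, ← Category.assoc, stabLift_snd, s.condition]
  · intro s
    exact stabLift_snd _ _ _ _ _
  · intro s m h1 h2
    apply stab_hom_ext
    · rw [stabLift_fst]
      apply hG.hom_ext
      · rw [Category.assoc, ← toUniv_fst, ← Category.assoc, h1, (key s).choose_spec.1]
      · rw [Category.assoc, stabFst_snd, h2, (key s).choose_spec.2.1]
    · rw [stabLift_snd, h2]

end BC

section Dim

variable {S : Scheme.{u}} {G X : Over S} [GrpObj G] (a : AlgGrp.Action G X)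

/-- the stabilizer at a point is homeomorphic to the fibre of the universal stabilizer -/
theorem dim_stab_residue (x : X.left) :
    topologicalKrullDim (GLinSh.stab a (Over.homMk (X.left.fromSpecResidueField x) rfl :
        Over.mk (X.left.fromSpecResidueField x ≫ X.hom) ⟶ X)) =
      topologicalKrullDim ↥((GLinSh.stabTo a (𝟙 X)).base ⁻¹' {x}) := by
  have hpb := isPullback_toUniv a (Over.homMk (X.left.fromSpecResidueField x) rfl :
        Over.mk (X.left.fromSpecResidueField x ≫ X.hom) ⟶ X)
  have e : GLinSh.stab a (Over.homMk (X.left.fromSpecResidueField x) rfl :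
        Over.mk (X.left.fromSpecResidueField x ≫ X.hom) ⟶ X) ≅
      (GLinSh.stabTo a (𝟙 X)).fiber x := hpb.isoPullback
  rw [← ((GLinSh.stabTo a (𝟙 X)).fiberHomeo x).isHomeomorph.topologicalKrullDim_eq]
  exact (Scheme.homeoOfIso e).isHomeomorph.topologicalKrullDim_eq

end Dim

section Main

variable {k : Type u} [Field k] {G X : Over (Spec (CommRingCat.of k))} [GrpObj G]
  [LocallyOfFiniteType G.hom] (a : AlgGrp.Action G X)

/-- the stabilizer dimension is upper semicontinuous -/
theorem isClosed_setOf_le_dim_stab (n : WithBot ℕ∞) :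
    IsClosed {x : X.left | n ≤ topologicalKrullDim
      (GLinSh.stab a (Over.homMk (X.left.fromSpecResidueField x) rfl :
        Over.mk (X.left.fromSpecResidueField x ≫ X.hom) ⟶ X))} := by
  haveI : LocallyOfFiniteType (stabOver a (𝟙 X)).hom := locallyOfFiniteType_stabTo a (𝟙 X)
  have husc := Groth.Agent.Lib.Helper3.GrpFibDim.upperSemicontinuous_dim_fibre (stabOver a (𝟙 X))
  have hcl := (upperSemicontinuous_iff_isClosed_preimage.mp husc) n
  convert hcl using 1
  ext x
  simp only [Set.mem_ofPred_eq, Set.mem_preimage, Set.mem_Ici]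
  rw [dim_stab_residue]
  rfl

end Main

end Groth.Agent.Lib.T2H7.StabBC
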