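import Groth.Agent.Lib.T2H7StabGrp
import Groth.Agent.Lib.Helper6SmGeom
import Groth.Agent.S0353
import Groth.Prelude.Def_Red
set_option autoImplicit false
set_option linter.unusedSectionVars false
set_option linter.unusedVariables false
set_option linter.style.haveILetI false
universe u
open CategoryTheory MonoidalCategory CartesianMonoidalCategory MonObj GrpObj AlgebraicGeometry Limits

namespace Groth.Agent.Lib.T2H7.StabFree

open Groth.Agent.Lib.T2H7.StabGrp

section Field

/-- A reduced group scheme over a field whose structure map is universally injective is trivial. -/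
theorem isIso_hom_of_universallyInjective (K : Type u) [Field K]
    (H : Over (Spec (CommRingCat.of K))) [GrpObj H] [IsReduced H.left]
    [UniversallyInjective H.hom] : IsIso H.hom := by
  have he : η[H].left ≫ H.hom = 𝟙 _ := Over.w η[H]
  haveI : Subsingleton ↥(Spec (CommRingCat.of K)) := inferInstance
  haveI : IsClosedImmersion η[H].left := isClosedImmersion_of_comp_eq_id H.hom η[H].left he
  haveI : Subsingleton ↥H.left := ⟨fun p q => H.hom.injective (Subsingleton.elim _ _)⟩
  haveI : Surjective η[H].left := by
    constructor
    intro p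
    obtain ⟨t⟩ : Nonempty ↥(Spec (CommRingCat.of K)) := inferInstance
    exact ⟨t, Subsingleton.elim _ _⟩
  haveI : IsIso η[H].left := isIso_of_isClosedImmersion_of_surjective _
  have : H.hom = inv η[H].left := by
    rw [← cancel_epi η[H].left, he, IsIso.hom_inv_id]
  rw [this]
  infer_instance

end Field

section Fib

/-- A morphism all of whose fibres are trivial is universally injective. -/
theorem universallyInjective_of_forall_isIso_fiber {Y Z : Scheme.{u}} (π : Y ⟶ Z)
    (h : ∀ z : Z, IsIso (π.fiberToSpecResidueField z)) : UniversallyInjective π := by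
  refine ((tfae_universallyInjective π).out 0 1).mpr ?_
  intro K _ g₁ g₂ hg
  have hg' : g₁ ≫ π = g₂ ≫ π := hg
  obtain ⟨hh, hhd⟩ : ∃ hh : Spec (.of K) ⟶ Z, hh = g₁ ≫ π := ⟨_, rfl⟩
  obtain ⟨z, d, hd⟩ : ∃ (z : Z) (d : Spec (.of K) ⟶ Spec (Z.residueField z)),
      d ≫ Z.fromSpecResidueField z = hh :=
    ⟨_, _, Scheme.descResidueField_stalkClosedPointTo_fromSpecResidueField K Z hh⟩
  have c₁ : g₁ ≫ π = d ≫ Z.fromSpecResidueField z := by rw [hd, hhd]
  have c₂ : g₂ ≫ π = d ≫ Z.fromSpecResidueField z := by rw [hd, hhd, hg']
  haveI := h z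
  have h1 : (pullback.lift g₁ d c₁ : Spec (.of K) ⟶ π.fiber z) ≫ π.fiberToSpecResidueField z =
      (pullback.lift g₂ d c₂ : Spec (.of K) ⟶ π.fiber z) ≫ π.fiberToSpecResidueField z := by
    show pullback.lift g₁ d c₁ ≫ pullback.snd _ _ = pullback.lift g₂ d c₂ ≫ pullback.snd _ _
    rw [pullback.lift_snd, pullback.lift_snd]
  have e : pullback.lift g₁ d c₁ = pullback.lift g₂ d c₂ :=
    (cancel_mono (π.fiberToSpecResidueField z)).mp h1
  calc g₁ = pullback.lift g₁ d c₁ ≫ pullback.fst _ _ := (pullback.lift_fst _ _ _).symm
    _ = pullback.lift g₂ d c₂ ≫ pullback.fst _ _ := by rw [e]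
    _ = g₂ := pullback.lift_fst _ _ _

end Fib

section Stab

variable {k : Type u} [Field k] {G X : Over (Spec (CommRingCat.of k))} [GrpObj G]
  (a : AlgGrp.Action G X)

theorem locallyOfFiniteType_psi [LocallyOfFiniteType G.hom] {T : Over (Spec (CommRingCat.of k))}
    (f : T ⟶ X) : LocallyOfFiniteType (GIT.psi a f).left := by
  have h1 : (GIT.psi a f).left ≫ (snd X T).left = (snd G T).left := by
    rw [← Over.comp_left, psi_snd]
  have h2 : LocallyOfFiniteType (snd G T).left := by
    change LocallyOfFiniteType (pullback.snd G.hom T.hom)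
    infer_instance
  rw [← h1] at h2
  exact locallyOfFiniteType_of_comp _ (snd X T).left

theorem locallyOfFiniteType_stabTo [LocallyOfFiniteType G.hom]
    {T : Over (Spec (CommRingCat.of k))} (f : T ⟶ X) :
    LocallyOfFiniteType (GLinSh.stabTo a f) := by
  haveI := locallyOfFiniteType_psi a f
  unfold GLinSh.stabTo
  exact MorphismProperty.pullback_snd (P := @LocallyOfFiniteType) _ _ ‹_›

/-- the fibre of the universal stabilizer over `x`, a group scheme over the residue field -/
noncomputable abbrev fibGrp (x : X.left) : Over (Spec (X.left.residueField x)) :=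
  Red.bc (X.left.fromSpecResidueField x) (stabOver a (𝟙 X))

theorem fibGrp_hom (x : X.left) :
    (fibGrp a x).hom = (GLinSh.stabTo a (𝟙 X)).fiberToSpecResidueField x := rfl

theorem charZero_residueField [CharZero k] (x : X.left) : CharZero (X.left.residueField x) := by
  let φ : CommRingCat.of k ⟶ X.left.residueField x :=
    Spec.preimage (X.left.fromSpecResidueField x ≫ X.hom)
  exact charZero_of_injective_ringHom (f := φ.hom) (RingHom.injective _)

theorem universallyInjective_fiber (h : UniversallyInjective (GLinSh.stabTo a (𝟙 X)))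
    (x : X.left) : UniversallyInjective (fibGrp a x).hom := by
  rw [fibGrp_hom]
  unfold Scheme.Hom.fiberToSpecResidueField
  exact MorphismProperty.pullback_snd (P := @UniversallyInjective) _ _ h

theorem locallyOfFiniteType_fiber [LocallyOfFiniteType G.hom] (x : X.left) :
    LocallyOfFiniteType (fibGrp a x).hom := by
  rw [fibGrp_hom]
  unfold Scheme.Hom.fiberToSpecResidueField
  exact MorphismProperty.pullback_snd (P := @LocallyOfFiniteType) _ _
    (locallyOfFiniteType_stabTo a (𝟙 X))

theorem isIso_fiber_of_isReduced (h : UniversallyInjective (GLinSh.stabTo a (𝟙 X)))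
    (x : X.left) (hred : IsReduced (fibGrp a x).left) :
    IsIso ((GLinSh.stabTo a (𝟙 X)).fiberToSpecResidueField x) := by
  haveI := universallyInjective_fiber a h x
  rw [← fibGrp_hom]
  exact isIso_hom_of_universallyInjective (X.left.residueField x) (fibGrp a x)

theorem isReduced_fiber_of_charZero [CharZero k] [LocallyOfFiniteType G.hom] (x : X.left) :
    IsReduced (fibGrp a x).left := by
  haveI := charZero_residueField (k := k) (X := X) x
  haveI := locallyOfFiniteType_fiber a x
  haveI : Smooth (fibGrp a x).hom :=
    Groth.Agent.S0353.result (X.left.residueField x) (fibGrp a x)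
  exact Groth.Agent.Lib.Helper6.SmGeom.isReduced_of_smooth_over_field (X.left.residueField x) _
    (fibGrp a x).hom

theorem mono_stabFst {T : Over (Spec (CommRingCat.of k))} (f : T ⟶ X) :
    Mono (stabFst a f) := by
  haveI : Mono (lift f (𝟙 T)).left := by
    have h3 : (lift f (𝟙 T)).left ≫ (snd X T).left = 𝟙 _ := by
      rw [← Over.comp_left, lift_snd]; rfl
    exact mono_of_mono_fac h3
  unfold stabFst
  exact pullback.fst_of_mono

theorem formallyUnramified_stabTo [FormallyUnramified G.hom]
    {T : Over (Spec (CommRingCat.of k))} (f : T ⟶ X) :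
    FormallyUnramified (GLinSh.stabTo a f) := by
  haveI := mono_stabFst a f
  haveI : FormallyUnramified (stabFst a f) := by
    haveI : IsIso (pullback.diagonal (stabFst a f)) := (pullback.isIso_diagonal_iff _).mpr inferInstance
    infer_instance
  have h2 : FormallyUnramified (snd G T).left := by
    change FormallyUnramified (pullback.snd G.hom T.hom)
    exact MorphismProperty.pullback_snd (P := @FormallyUnramified) _ _ ‹_›
  rw [← stabFst_snd]
  exact MorphismProperty.comp_mem (W := @FormallyUnramified) _ _ ‹_› h2

theorem isReduced_fiber_of_etale [LocallyOfFiniteType G.hom] [FormallyUnramified G.hom]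
    (x : X.left) : IsReduced (fibGrp a x).left := by
  haveI := locallyOfFiniteType_fiber a x
  haveI : FormallyUnramified (fibGrp a x).hom := by
    rw [fibGrp_hom]
    unfold Scheme.Hom.fiberToSpecResidueField
    exact MorphismProperty.pullback_snd (P := @FormallyUnramified) _ _
      (formallyUnramified_stabTo a (𝟙 X))
  haveI : Flat (fibGrp a x).hom := inferInstance
  haveI : LocallyOfFinitePresentation (fibGrp a x).hom := inferInstance
  haveI : Etale (fibGrp a x).hom := Etale.of_formallyUnramified_of_flat _
  exact Groth.Agent.Lib.Helper6.SmGeom.isReduced_of_smooth_over_field (X.left.residueField x) _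
    (fibGrp a x).hom

/-- set-theoretically free iff geometrically free -/
theorem universallyInjective_stabTo_iff [LocallyOfFiniteType G.hom]
    (hG : CharZero k ∨ FormallyUnramified G.hom) :
    UniversallyInjective (GLinSh.stabTo a (𝟙 X)) ↔
      ∀ x : ↥X.left, IsIso ((GLinSh.stabTo a (𝟙 X)).fiberToSpecResidueField x) := by
  constructor
  · intro h x
    refine isIso_fiber_of_isReduced a h x ?_
    rcases hG with hG | hG
    · exact isReduced_fiber_of_charZero a x
    · exact isReduced_fiber_of_etale a x
  · exact universallyInjective_of_forall_isIso_fiber _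

end Stab

end Groth.Agent.Lib.T2H7.StabFree
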