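import Groth.Agent.Lib.T2H7StabFree
import Groth.Agent.Lib.Helper10SecFib
set_option autoImplicit false
set_option linter.unusedSectionVars false
set_option linter.unusedVariables false
set_option linter.style.haveILetI false
universe u
open CategoryTheory MonoidalCategory CartesianMonoidalCategory MonObj GrpObj AlgebraicGeometry Limits

namespace Groth.Agent.Lib.T2H7.StabFreeB

open Groth.Agent.Lib.T2H7.StabGrp Groth.Agent.Lib.T2H7.StabFree Groth.Agent.Lib.Helper12

section Mono

variable {S : Scheme.{u}} {G X : Over S} [GrpObj G] (a : AlgGrp.Action G X)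

/-- two points of `G` moving `x` to the same point differ by an element of the stabilizer -/
theorem inv_mul_mem_fixSubgroup {W : Over S} (x : W ⟶ X) (g g' : W ⟶ G)
    (h : lift g x ≫ a.act = lift g' x ≫ a.act) : g'⁻¹ * g ∈ fixSubgroup a x := by
  rw [mem_fixSubgroup, act_mul, h, ← act_mul, inv_mul_cancel, act_one]

theorem eq_of_psi_eq (hπ : Mono (GLinSh.stabTo a (𝟙 X))) (W' : Over X.left)
    (P P' : overS W' ⟶ G ⊗ X) (hP : P ≫ snd G X = toT W') (hP' : P' ≫ snd G X = toT W')
    (hPP : P ≫ GIT.psi a (𝟙 X) = P' ≫ GIT.psi a (𝟙 X)) : P = P' := by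
  have e1 : P = lift (P ≫ fst G X) (toT W') := by
    apply CartesianMonoidalCategory.hom_ext
    · rw [lift_fst]
    · rw [lift_snd, hP]
  have e1' : P' = lift (P' ≫ fst G X) (toT W') := by
    apply CartesianMonoidalCategory.hom_ext
    · rw [lift_fst]
    · rw [lift_snd, hP']
  have hact : lift (P ≫ fst G X) (toT W' ≫ 𝟙 X) ≫ a.act =
      lift (P' ≫ fst G X) (toT W' ≫ 𝟙 X) ≫ a.act := by
    have h : P ≫ (G ◁ 𝟙 X) ≫ a.act = P' ≫ (G ◁ 𝟙 X) ≫ a.act := by
      rw [← psi_fst, ← Category.assoc, hPP, Category.assoc]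
    rw [← lift_whiskerLeft (G := G) (𝟙 X), ← lift_whiskerLeft (G := G) (𝟙 X), ← e1, ← e1',
      Category.assoc, Category.assoc]
    exact h
  have hmem := inv_mul_mem_fixSubgroup a (toT W' ≫ 𝟙 X) _ _ hact
  have hone : (1 : overS W' ⟶ G) ∈ fixSubgroup a (toT W' ≫ 𝟙 X) := Subgroup.one_mem _
  have heq : ofFix a (𝟙 X) _ hmem = ofFix a (𝟙 X) _ hone := by
    apply Over.OverMorphism.ext
    rw [← cancel_mono (GLinSh.stabTo a (𝟙 X))]
    exact (Over.w (ofFix a (𝟙 X) _ hmem)).trans (Over.w (ofFix a (𝟙 X) _ hone)).symm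
  have h1 := congrArg (fun m => ptGT a (𝟙 X) m ≫ fst G X) heq
  simp only [ptGT_ofFix, lift_fst] at h1
  have hg : P ≫ fst G X = P' ≫ fst G X := by
    have := congrArg (fun t => (P' ≫ fst G X) * t) h1
    simpa using this
  rw [e1, e1', hg]

/-- if the universal stabilizer is trivial then `(g, x) ↦ (g x, x)` is a monomorphism -/
theorem mono_psi_of_mono_stabTo (hπ : Mono (GLinSh.stabTo a (𝟙 X))) :
    Mono (GIT.psi a (𝟙 X)).left := by
  constructor
  intro Z p p' hpp
  have hsnd : p ≫ (snd G X).left = p' ≫ (snd G X).left := by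
    have h2 : (snd G X).left = (GIT.psi a (𝟙 X)).left ≫ (snd X X).left := by
      rw [← Over.comp_left, psi_snd]
    rw [h2, ← Category.assoc, hpp, Category.assoc]
  have hGX : (G ⊗ X).hom = (snd G X).left ≫ X.hom := (Over.w (snd G X)).symm
  have key := eq_of_psi_eq a hπ (Over.mk (p ≫ (snd G X).left))
    (Over.homMk p (by
      show p ≫ (G ⊗ X).hom = (p ≫ (snd G X).left) ≫ X.hom
      rw [hGX, Category.assoc]))
    (Over.homMk p' (by
      show p' ≫ (G ⊗ X).hom = (p ≫ (snd G X).left) ≫ X.hom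
      rw [hGX, hsnd, Category.assoc]))
    (by apply Over.OverMorphism.ext; rfl)
    (by apply Over.OverMorphism.ext; exact hsnd.symm)
    (by apply Over.OverMorphism.ext; exact hpp)
  exact congrArg (fun m => m.left) key

end Mono

section Main

variable {k : Type u} [Field k] {G X : Over (Spec (CommRingCat.of k))} [GrpObj G]
  (a : AlgGrp.Action G X)

/-- free iff proper and set-theoretically free -/
theorem isClosedImmersion_psi_iff [LocallyOfFiniteType G.hom]
    (hG : CharZero k ∨ FormallyUnramified G.hom) :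
    IsClosedImmersion (GIT.psi a (𝟙 X)).left ↔
      IsProper (GIT.psi a (𝟙 X)).left ∧ UniversallyInjective (GLinSh.stabTo a (𝟙 X)) := by
  constructor
  · intro h
    refine ⟨inferInstance, ?_⟩
    haveI : IsClosedImmersion (GLinSh.stabTo a (𝟙 X)) := by
      unfold GLinSh.stabTo
      exact MorphismProperty.pullback_snd (P := @IsClosedImmersion) _ _ h
    infer_instance
  · rintro ⟨hp, hu⟩
    have hfib := (universallyInjective_stabTo_iff a hG).mp hu
    haveI := locallyOfFiniteType_stabTo a (𝟙 X)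
    have he : η[stabOver a (𝟙 X)].left ≫ GLinSh.stabTo a (𝟙 X) = 𝟙 _ :=
      Over.w η[stabOver a (𝟙 X)]
    haveI : IsIso (GLinSh.stabTo a (𝟙 X)) :=
      (Groth.Agent.Lib.Helper10.SecFib.isIso_of_section_of_forall_fiber _ _ he hfib).2
    haveI := mono_psi_of_mono_stabTo a inferInstance
    exact (IsClosedImmersion.iff_isProper_and_mono _).mpr ⟨hp, inferInstance⟩

end Main

end Groth.Agent.Lib.T2H7.StabFreeB
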