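import Groth.Agent.Lib.Helper12Act
import Groth.Agent.Lib.Helper12Cart
import Groth.Prelude.Def_GLinSh
import Mathlib
set_option autoImplicit false
set_option linter.unusedSectionVars false
set_option linter.unusedVariables false
set_option linter.style.haveILetI false
universe u
open CategoryTheory MonoidalCategory CartesianMonoidalCategory MonObj GrpObj AlgebraicGeometry Limits

namespace Groth.Agent.Lib.T2H7.StabGrp

open Groth.Agent.Lib.Helper12

variable {S : Scheme.{u}} {G X : Over S} [GrpObj G] (a : AlgGrp.Action G X)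

/-- the subgroup of points of `G` fixing a point `x` of `X` -/
def fixSubgroup {W : Over S} (x : W ⟶ X) : Subgroup (W ⟶ G) where
  carrier := {g | lift g x ≫ a.act = x}
  one_mem' := act_one a x
  mul_mem' := by
    intro g h hg hh
    show lift (g * h) x ≫ a.act = x
    rw [act_mul]
    have hh' : lift h x ≫ a.act = x := hh
    rw [hh']
    exact hg
  inv_mem' := by
    intro g hg
    have hg' : lift g x ≫ a.act = x := hg
    show lift g⁻¹ x ≫ a.act = x
    have h1 := act_mul a g⁻¹ g x
    rw [hg', inv_mul_cancel, act_one] at h1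
    exact h1.symm

theorem mem_fixSubgroup {W : Over S} (x : W ⟶ X) (g : W ⟶ G) :
    g ∈ fixSubgroup a x ↔ lift g x ≫ a.act = x := Iff.rfl

theorem comp_mem_fixSubgroup {W W' : Over S} (ψ : W' ⟶ W) (x : W ⟶ X) (g : W ⟶ G)
    (hg : g ∈ fixSubgroup a x) : ψ ≫ g ∈ fixSubgroup a (ψ ≫ x) := by
  rw [mem_fixSubgroup] at hg ⊢
  rw [← comp_lift_act, hg]

section Functor

variable {T : Over S} (f : T ⟶ X)

/-- an object over `T.left` viewed over `S` -/
abbrev overS (W : Over T.left) : Over S := Over.mk (W.hom ≫ T.hom)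

/-- the structure map to `T` as a morphism over `S` -/
abbrev toT (W : Over T.left) : overS W ⟶ T := Over.homMk W.hom rfl

/-- a morphism over `T.left` viewed over `S` -/
abbrev mapS {W W' : Over T.left} (ψ : W' ⟶ W) : overS W' ⟶ overS W :=
  Over.homMk ψ.left (by simp)

theorem mapS_toT {W W' : Over T.left} (ψ : W' ⟶ W) : mapS ψ ≫ toT W = toT W' := by
  ext
  simp

theorem mapS_id (W : Over T.left) : mapS (𝟙 W) = 𝟙 (overS W) := by
  ext
  simp

theorem mapS_comp {W W' W'' : Over T.left} (ψ : W' ⟶ W) (ψ' : W'' ⟶ W') :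
    mapS (ψ' ≫ ψ) = mapS ψ' ≫ mapS ψ := by
  ext
  simp

/-- the functor of points of the stabilizer of `f` -/
noncomputable def fixFunctor : (Over T.left)ᵒᵖ ⥤ GrpCat.{u} where
  obj W := GrpCat.of (fixSubgroup a (toT W.unop ≫ f))
  map {W W'} φ := GrpCat.ofHom
    { toFun := fun g => ⟨mapS φ.unop ≫ g.1, by
        have := comp_mem_fixSubgroup a (mapS φ.unop) (toT W.unop ≫ f) g.1 g.2
        rwa [← Category.assoc, mapS_toT] at this⟩
      map_one' := Subtype.ext (MonObj.comp_one _)
      map_mul' := fun g h => Subtype.ext (MonObj.comp_mul _ _ _) }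
  map_id W := by
    ext g
    simp
  map_comp φ φ' := by
    ext g
    simp

end Functor

section Rep

variable {T : Over S} (f : T ⟶ X)

/-- the stabilizer of `f` as an object over `T.left` -/
noncomputable abbrev stabOver : Over T.left := Over.mk (GLinSh.stabTo a f)

/-- the inclusion of the stabilizer into `G ⊗ T` -/
noncomputable def stabFst : GLinSh.stab a f ⟶ (G ⊗ T).left :=
  pullback.fst (GIT.psi a f).left (lift f (𝟙 T)).left

theorem stab_condition :
    stabFst a f ≫ (GIT.psi a f).left = GLinSh.stabTo a f ≫ (lift f (𝟙 T)).left :=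
  pullback.condition

/-- lifting to the stabilizer -/
noncomputable def stabLift {Z : Scheme.{u}} (p : Z ⟶ (G ⊗ T).left) (q : Z ⟶ T.left)
    (h : p ≫ (GIT.psi a f).left = q ≫ (lift f (𝟙 T)).left) : Z ⟶ GLinSh.stab a f :=
  pullback.lift p q h

theorem stabLift_fst {Z : Scheme.{u}} (p : Z ⟶ (G ⊗ T).left) (q : Z ⟶ T.left)
    (h : p ≫ (GIT.psi a f).left = q ≫ (lift f (𝟙 T)).left) :
    stabLift a f p q h ≫ stabFst a f = p := pullback.lift_fst _ _ _

theorem stabLift_snd {Z : Scheme.{u}} (p : Z ⟶ (G ⊗ T).left) (q : Z ⟶ T.left)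
    (h : p ≫ (GIT.psi a f).left = q ≫ (lift f (𝟙 T)).left) :
    stabLift a f p q h ≫ GLinSh.stabTo a f = q := pullback.lift_snd _ _ _

theorem stab_hom_ext {Z : Scheme.{u}} (v w : Z ⟶ GLinSh.stab a f)
    (h1 : v ≫ stabFst a f = w ≫ stabFst a f)
    (h2 : v ≫ GLinSh.stabTo a f = w ≫ GLinSh.stabTo a f) : v = w :=
  pullback.hom_ext h1 h2

theorem psi_fst : GIT.psi a f ≫ fst X T = (G ◁ f) ≫ a.act := by
  unfold GIT.psi
  rw [lift_fst]

theorem psi_snd : GIT.psi a f ≫ snd X T = snd G T := by
  unfold GIT.psi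
  rw [lift_snd]

theorem stabFst_snd : stabFst a f ≫ (snd G T).left = GLinSh.stabTo a f := by
  have h2 : (snd G T).left = (GIT.psi a f).left ≫ (snd X T).left := by
    rw [← Over.comp_left, psi_snd]
  have h3 : (lift f (𝟙 T)).left ≫ (snd X T).left = 𝟙 _ := by
    rw [← Over.comp_left, lift_snd]; rfl
  rw [h2, ← Category.assoc, stab_condition, Category.assoc, h3, Category.comp_id]

/-- the point of `G ⊗ T` underlying a point of the stabilizer -/
noncomputable def ptGT {W : Over T.left} (m : W ⟶ stabOver a f) : overS W ⟶ G ⊗ T :=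
  Over.homMk (m.left ≫ stabFst a f) (by
    have h1 : (G ⊗ T).hom = (snd G T).left ≫ T.hom := (Over.w (snd G T)).symm
    have h4 : m.left ≫ GLinSh.stabTo a f = W.hom := Over.w m
    show (m.left ≫ stabFst a f) ≫ (G ⊗ T).hom = W.hom ≫ T.hom
    rw [h1, Category.assoc, ← Category.assoc (stabFst a f), stabFst_snd, ← Category.assoc, h4])

theorem ptGT_left {W : Over T.left} (m : W ⟶ stabOver a f) :
    (ptGT a f m).left = m.left ≫ stabFst a f := rfl

theorem ptGT_psi {W : Over T.left} (m : W ⟶ stabOver a f) :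
    ptGT a f m ≫ GIT.psi a f = toT W ≫ lift f (𝟙 T) := by
  apply Over.OverMorphism.ext
  have h4 : m.left ≫ GLinSh.stabTo a f = W.hom := Over.w m
  rw [Over.comp_left, Over.comp_left, ptGT_left, Category.assoc, stab_condition,
    ← Category.assoc, h4]
  rfl

theorem ptGT_snd {W : Over T.left} (m : W ⟶ stabOver a f) :
    ptGT a f m ≫ snd G T = toT W := by
  rw [← psi_snd a f, ← Category.assoc, ptGT_psi, Category.assoc, lift_snd, Category.comp_id]

theorem ptGT_eq_lift {W : Over T.left} (m : W ⟶ stabOver a f) :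
    ptGT a f m = lift (ptGT a f m ≫ fst G T) (toT W) := by
  apply CartesianMonoidalCategory.hom_ext
  · rw [lift_fst]
  · rw [lift_snd, ptGT_snd]

theorem lift_whiskerLeft {W : Over S} (g : W ⟶ G) (t : W ⟶ T) :
    lift g t ≫ (G ◁ f) = lift g (t ≫ f) := by
  apply CartesianMonoidalCategory.hom_ext
  · rw [Category.assoc, whiskerLeft_fst, lift_fst, lift_fst]
  · rw [Category.assoc, whiskerLeft_snd, lift_snd_assoc, lift_snd]

theorem ptGT_fst_mem {W : Over T.left} (m : W ⟶ stabOver a f) :
    ptGT a f m ≫ fst G T ∈ fixSubgroup a (toT W ≫ f) := by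
  rw [mem_fixSubgroup]
  have h : ptGT a f m ≫ (G ◁ f) ≫ a.act = toT W ≫ f := by
    rw [← psi_fst, ← Category.assoc, ptGT_psi, Category.assoc, lift_fst]
  rw [← lift_whiskerLeft (G := G) f, ← ptGT_eq_lift, Category.assoc]
  exact h

theorem lift_psi {W : Over T.left} (g : overS W ⟶ G) (hg : g ∈ fixSubgroup a (toT W ≫ f)) :
    lift g (toT W) ≫ GIT.psi a f = toT W ≫ lift f (𝟙 T) := by
  rw [mem_fixSubgroup] at hg
  apply CartesianMonoidalCategory.hom_ext
  · rw [Category.assoc, psi_fst, ← Category.assoc, lift_whiskerLeft, hg, Category.assoc, lift_fst]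
  · rw [Category.assoc, psi_snd, lift_snd, Category.assoc, lift_snd, Category.comp_id]

/-- the point of the stabilizer attached to a point of `G` fixing `f` -/
noncomputable def ofFix {W : Over T.left} (g : overS W ⟶ G)
    (hg : g ∈ fixSubgroup a (toT W ≫ f)) : W ⟶ stabOver a f :=
  Over.homMk (stabLift a f (lift g (toT W)).left W.hom (by
    have := congrArg (fun m => m.left) (lift_psi a f g hg)
    exact this)) (stabLift_snd a f _ _ _)

theorem ofFix_left {W : Over T.left} (g : overS W ⟶ G)
    (hg : g ∈ fixSubgroup a (toT W ≫ f)) :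
    (ofFix a f g hg).left ≫ stabFst a f = (lift g (toT W)).left := stabLift_fst a f _ _ _

theorem ptGT_ofFix {W : Over T.left} (g : overS W ⟶ G)
    (hg : g ∈ fixSubgroup a (toT W ≫ f)) : ptGT a f (ofFix a f g hg) = lift g (toT W) := by
  apply Over.OverMorphism.ext
  rw [ptGT_left, ofFix_left]

/-- the stabilizer represents `fixFunctor` -/
noncomputable def representableBy :
    (fixFunctor a f ⋙ forget GrpCat).RepresentableBy (stabOver a f) where
  homEquiv {W} :=
    { toFun := fun m => ⟨ptGT a f m ≫ fst G T, ptGT_fst_mem a f m⟩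
      invFun := fun g => ofFix a f g.1 g.2
      left_inv := by
        intro m
        ext
        apply stab_hom_ext
        · rw [ofFix_left, ← ptGT_eq_lift, ptGT_left]
        · have h4 : m.left ≫ GLinSh.stabTo a f = W.hom := Over.w m
          rw [h4]
          exact stabLift_snd a f _ _ _
      right_inv := by
        intro g
        apply Subtype.ext
        show ptGT a f (ofFix a f g.1 g.2) ≫ fst G T = g.1
        rw [ptGT_ofFix, lift_fst] }
  homEquiv_comp {W W'} ψ m := by
    apply Subtype.ext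
    show ptGT a f (ψ ≫ m) ≫ fst G T = mapS ψ ≫ ptGT a f m ≫ fst G T
    rw [← Category.assoc]
    congr 1

/-- the stabilizer of a point is a group scheme -/
noncomputable instance grpObj_stabOver : GrpObj (stabOver a f) :=
  GrpObj.ofRepresentableBy _ (fixFunctor a f) (representableBy a f)

end Rep

end Groth.Agent.Lib.T2H7.StabGrp
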