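import Mathlib
import Groth.Agent.Lib.T2H7StageAffE
import Groth.Agent.Lib.T2H7AffSep
import Groth.Agent.Lib.T2H1LimAffine
import Groth.Agent.S10060
import Groth.Agent.S9944

/-!
# Descent of affineness of a base change through a limit (helper7)
-/

set_option autoImplicit false
set_option linter.unusedSectionVars false
set_option linter.unusedVariables false
set_option linter.style.haveILetI false
universe u
open CategoryTheory CategoryTheory.Limits AlgebraicGeometry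
open AlgSp

namespace Groth.Agent.Lib.T2H7.StageAffF

open Groth.Agent.Lib.T2H7.BcSys

variable {S : Scheme.{u}}

section

variable {I : Type u} [SmallCategory I] [IsCofiltered I]

theorem descend_affine [QuasiSeparatedSpace S]
    (D : I ⥤ AlgSp.Sp S) (hD : ∀ i, AlgSp.IsAlgSpace (D.obj i))
    (hDa : ∀ (i j : I) (φ : i ⟶ j), AlgSp.IsAffineMor (D.map φ))
    (c : Cone D) (hc : IsLimit c) (i₀ : I)
    (hBqc : AlgSp.IsQuasiCompactSp (D.obj i₀)) (hBqs : AlgSp.IsQuasiSeparatedSp (D.obj i₀))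
    (X₀ Y₀ : AlgSp.Space S) (f₀ : X₀.obj ⟶ Y₀.obj) (b₀ : Y₀.obj ⟶ D.obj i₀)
    (hXqc : AlgSp.IsQuasiCompactSp X₀.obj) (hXqs : AlgSp.IsQuasiSeparatedSp X₀.obj)
    (hYqc : AlgSp.IsQuasiCompactSp Y₀.obj) (hYqs : AlgSp.IsQuasiSeparatedSp Y₀.obj)
    (X Y : AlgSp.Sp S) (f : X ⟶ Y) (pY : Y ⟶ Y₀.obj) (qY : Y ⟶ c.pt)
    (hY : IsPullback pY qY b₀ (c.π.app i₀)) (pX : X ⟶ X₀.obj) (hX : IsPullback pX f f₀ pY)
    (hf : AlgSp.IsAffineMor f) :
    ∃ (i : I) (φ : i ⟶ i₀), ∀ (Xi Yi : AlgSp.Sp S) (fi : Xi ⟶ Yi) (pYi : Yi ⟶ Y₀.obj)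
      (qYi : Yi ⟶ D.obj i) (_ : IsPullback pYi qYi b₀ (D.map φ)) (pXi : Xi ⟶ X₀.obj)
      (_ : IsPullback pXi fi f₀ pYi), AlgSp.IsAffineMor fi := by
  -- the system over `Over i₀`
  let D' : Over i₀ ⥤ AlgSp.Sp S := Over.forget i₀ ⋙ D
  let t₀ : D' ⟶ (Functor.const (Over i₀)).obj (D.obj i₀) :=
    { app := fun j => D.map j.hom
      naturality := fun j k ψ => by
        simp only [Functor.const_obj_obj, Functor.const_obj_map, Category.comp_id]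
        show D.map ψ.left ≫ D.map k.hom = D.map j.hom
        rw [← D.map_comp, Over.w ψ] }
  let c₀ : Cone D' := c.whisker (Over.forget i₀)
  have hc₀ : IsLimit c₀ := (Functor.Initial.isLimitWhiskerEquiv (Over.forget i₀) c).symm hc
  let v₀ : X₀.obj ⟶ D.obj i₀ := f₀ ≫ b₀
  have hg₀ : ∀ j : Over i₀, c₀.π.app j ≫ t₀.app j = c.π.app i₀ := fun j => c.w j.hom
  let Xs : Over i₀ ⥤ AlgSp.Sp S := Bs D' t₀ v₀
  let cX : Cone Xs := Bc D' t₀ v₀ c₀ (c.π.app i₀) hg₀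
  have hcX : IsLimit cX := isLimitBc D' t₀ v₀ c₀ (c.π.app i₀) hg₀ hc₀
  let tX : Xs ⟶ (Functor.const (Over i₀)).obj Y₀.obj :=
    { app := fun j => p2 D' t₀ v₀ j ≫ f₀
      naturality := fun j k ψ => by
        simp only [Functor.const_obj_obj, Functor.const_obj_map, Category.comp_id]
        exact map_p2_assoc D' t₀ v₀ ψ f₀ }
  let gX : cX.pt ⟶ Y₀.obj := q2 D' t₀ v₀ c₀ (c.π.app i₀) hg₀ ≫ f₀
  have hgX : ∀ j, cX.π.app j ≫ tX.app j = gX := fun j =>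
    π_p2_assoc D' t₀ v₀ c₀ (c.π.app i₀) hg₀ j f₀
  have hXsalg : ∀ j, AlgSp.IsAlgSpace (Xs.obj j) := fun j =>
    Groth.Agent.S9874.isAlgSpace_of_isPullback (hD i₀).diag (hD j.left) X₀.property
      (isPullback_p D' t₀ v₀ j)
  have hXsa : ∀ (j k : Over i₀) (ψ : j ⟶ k), AlgSp.IsAffineMor (Xs.map ψ) := fun j k ψ =>
    Groth.Agent.Lib.T2H7.AffQcqs.isAffineMor_of_isPullback (isPullback_map D' t₀ v₀ ψ).flip
      (hDa _ _ ψ.left)
  have hp2a : ∀ j, AlgSp.IsAffineMor (p2 D' t₀ v₀ j) := fun j =>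
    Groth.Agent.Lib.T2H7.AffQcqs.isAffineMor_of_isPullback (isPullback_p D' t₀ v₀ j)
      (hDa _ _ j.hom)
  have hXsqc : ∀ j, AlgSp.IsQuasiCompactSp (Xs.obj j) := fun j =>
    Groth.Agent.Lib.T2H7.AffQcqs.isQuasiCompactSp_of_isAffineMor ⟨Xs.obj j, hXsalg j⟩ X₀ _
      (hp2a j) hXqc
  have hXsqs : ∀ j, AlgSp.IsQuasiSeparatedSp (Xs.obj j) := fun j =>
    Groth.Agent.Lib.T2H7.AffQcqs.isQuasiSeparatedSp_of_isAffineMor ⟨Xs.obj j, hXsalg j⟩ X₀ _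
      (hp2a j) hXqs
  -- the limit is affine over `Y₀`
  have big : IsPullback (f ≫ qY) pX (c.π.app i₀) v₀ := (hX.paste_vert hY).flip
  let e : X ≅ cX.pt := big.isoPullback
  have he2 : e.hom ≫ q2 D' t₀ v₀ c₀ (c.π.app i₀) hg₀ = pX := big.isoPullback_hom_snd
  have hpYa : AlgSp.IsAffineMor pY :=
    Groth.Agent.Lib.T2H7.AffQcqs.isAffineMor_of_isPullback hY.flip
      (Groth.Agent.Lib.T2H1.LimAffine.isAffineMor_π D hDa c hc i₀)
  have hgXa : AlgSp.IsAffineMor gX := by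
    have e1 : gX = e.inv ≫ f ≫ pY := by
      rw [← hX.w, ← he2, Category.assoc, e.inv_hom_id_assoc]
    rw [e1]
    exact Groth.Agent.S9944.isAffineMor_comp _ _
      (Groth.Agent.Lib.T2H1.Gpd2.isAffineMor_of_isIso e.inv)
      (Groth.Agent.S9944.isAffineMor_comp _ _ hf hpYa)
  obtain ⟨j₀, H⟩ := Groth.Agent.S10060.result S Y₀ Xs hXsalg tX hXsa cX hcX gX hgX hXsqc hXsqs
    hYqc hYqs hgXa
  refine ⟨j₀.left, j₀.hom, fun Xi Yi fi pYi qYi hYi pXi hXi => ?_⟩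
  have bigi : IsPullback (fi ≫ qYi) pXi (D.map j₀.hom) v₀ := (hXi.paste_vert hYi).flip
  let ei : Xi ≅ Xs.obj j₀ := bigi.isoPullback
  have hei2 : ei.hom ≫ p2 D' t₀ v₀ j₀ = pXi := bigi.isoPullback_hom_snd
  have hpYia : AlgSp.IsAffineMor pYi :=
    Groth.Agent.Lib.T2H7.AffQcqs.isAffineMor_of_isPullback hYi.flip (hDa _ _ j₀.hom)
  have hYialg : AlgSp.IsAlgSpace Yi :=
    Groth.Agent.S9874.isAlgSpace_of_isPullback (hD i₀).diag Y₀.property (hD j₀.left) hYi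
  have hcomp : AlgSp.IsAffineMor (fi ≫ pYi) := by
    have e1 : fi ≫ pYi = ei.hom ≫ tX.app j₀ := by
      show fi ≫ pYi = ei.hom ≫ p2 D' t₀ v₀ j₀ ≫ f₀
      rw [← Category.assoc, hei2, hXi.w]
    rw [e1]
    exact Groth.Agent.S9944.isAffineMor_comp _ _
      (Groth.Agent.Lib.T2H1.Gpd2.isAffineMor_of_isIso ei.hom) (H j₀ (𝟙 _))
  exact Groth.Agent.S9944.isAffineMor_of_diagonal fi pYi hcomp
    (Groth.Agent.S9944.isAffineMor_of_isClosedImmersion _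
      (Groth.Agent.Lib.T2H7.AffSep.isSeparatedMor_of_isAffineMor hYialg.diag pYi hpYia))

end

end Groth.Agent.Lib.T2H7.StageAffF
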