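import Mathlib
import Groth.Agent.Lib.T2H7StageAffI
import Groth.Agent.Lib.T2H7LimDataRep
import Groth.Agent.Lib.T2H7LimDescRep
import Groth.Agent.S9919

/-!
# A limit which is an affine scheme has a stage which is an affine scheme (helper7)
-/

set_option autoImplicit false
set_option linter.unusedSectionVars false
set_option linter.unusedVariables false
set_option linter.style.haveILetI false
universe u
open CategoryTheory CategoryTheory.Limits AlgebraicGeometry
open AlgSp

namespace Groth.Agent.Lib.T2H7.StageAffJ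

variable {S : Scheme.{u}}

section

variable {I : Type u} [SmallCategory I] [IsCofiltered I]

/-- **if a limit of quasi-compact and quasi-separated algebraic spaces with affine transition
maps over a quasi-separated base is an affine scheme, then so is some stage**. -/
theorem exists_affine_stage_general [QuasiSeparatedSpace S] (D : I ⥤ AlgSp.Sp S) (c : Cone D)
    (hD : ∀ i, AlgSp.IsAlgSpace (D.obj i))
    (hDa : ∀ (i j : I) (φ : i ⟶ j), AlgSp.IsAffineMor (D.map φ)) (hc : IsLimit c)
    (hqc : ∀ i, AlgSp.IsQuasiCompactSp (D.obj i)) (hqs : ∀ i, AlgSp.IsQuasiSeparatedSp (D.obj i))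
    (T : Over S) (hT : IsAffine T.left) (e : (AlgSp.yon S).obj T ≅ c.pt) :
    ∃ (i : I) (T' : Over S), IsAffine T'.left ∧ Nonempty ((AlgSp.yon S).obj T' ≅ D.obj i) := by
  obtain ⟨i₂, W₂, ⟨q₂⟩⟩ :=
    Groth.Agent.Lib.T2H7.StageAffI.exists_scheme_stage D c hD hDa hc hqc hqs T e
  have hDr : ∀ (i j : I) (φ : i ⟶ j), AlgSp.RepWith @IsAffineHom (D.map φ) := fun i j φ =>
    Groth.Agent.Lib.T2H7.StageAffC.repWith_of_isAffineMor _ (hDa i j φ)
  let a₂ : (AlgSp.yon S).obj W₂ ⟶ D.obj i₂ := q₂.inv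
  haveI : IsIso a₂ := inferInstanceAs (IsIso q₂.inv)
  obtain ⟨E, ιj, pj, cW, fstW, sqj, haff, ⟨hcW⟩, sqW, hfst, hE1, hE2⟩ :=
    Groth.Agent.Lib.T2H7.LimDataRep.exists_limit_data_rep D hDr c hc i₂ a₂
  -- the scheme `W₂` is quasi-compact and quasi-separated
  have hW₂qc : AlgSp.IsQuasiCompactSp ((AlgSp.yon S).obj W₂) :=
    Groth.Agent.S9919.isQuasiCompactSp_of_iso q₂ (hqc i₂)
  haveI : CompactSpace W₂.left :=
    Groth.Agent.Lib.T2H7.QcOpen.compactSpace_of_isQuasiCompactSp_yon W₂ hW₂qc
  have hW₂qs : AlgSp.IsQuasiSeparatedSp ((AlgSp.yon S).obj W₂) :=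
    Groth.Agent.Lib.T2H7.StageAffG.isQuasiSeparatedSp_of_mono ⟨D.obj i₂, hD i₂⟩ (hqs i₂)
      (AlgSp.IsAlgSpace.yon_obj W₂) a₂
  haveI : QuasiSeparatedSpace W₂.left :=
    Groth.Agent.Lib.T2H7.LimDescRep.quasiSeparatedSpace_of_isQuasiSeparatedSp_yon W₂ hW₂qs
  -- the limit of the schemes is `T`
  haveI : IsIso fstW := sqW.isIso_fst_of_isIso
  let k : cW.pt ⟶ T := (AlgSp.yon S).preimage (fstW ≫ e.inv)
  have hk : (AlgSp.yon S).map k = fstW ≫ e.inv := Functor.map_preimage _ _
  haveI : IsIso ((AlgSp.yon S).map k) := by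
    rw [hk]
    infer_instance
  haveI : IsIso k := isIso_of_fully_faithful (AlgSp.yon S) k
  have hkl : IsIso ((Over.forget S).map k) := inferInstance
  haveI := hT
  have haffpt : IsAffine cW.pt.left := @IsAffine.of_isIso _ _ k.left hkl hT
  haveI : IsAffine ((Over.forget S).mapCone cW).pt := haffpt
  -- the system of schemes
  haveI : ∀ {j k : Over i₂} (ψ : j ⟶ k), IsAffineHom ((E ⋙ Over.forget S).map ψ) :=
    fun {j k} ψ => by
      haveI : IsAffineHom (ιj k).left := haff k
      haveI : IsAffineHom ((E.map ψ).left ≫ (ιj k).left) := by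
        rw [← Over.comp_left, hE1 ψ]
        exact haff j
      exact IsAffineHom.of_comp (E.map ψ).left (ιj k).left
  haveI : ∀ j : Over i₂, CompactSpace ((E ⋙ Over.forget S).obj j) := fun j => by
    haveI : IsAffineHom (ιj j).left := haff j
    haveI : QuasiCompact (ιj j).left := inferInstance
    change CompactSpace (E.obj j).left
    exact QuasiCompact.compactSpace_of_compactSpace (ιj j).left
  haveI : ∀ j : Over i₂, QuasiSeparatedSpace ((E ⋙ Over.forget S).obj j) := fun j => by
    haveI : IsAffineHom (ιj j).left := haff j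
    haveI : QuasiSeparated (ιj j).left := inferInstance
    change QuasiSeparatedSpace (E.obj j).left
    exact quasiSeparatedSpace_of_quasiSeparated (ιj j).left
  obtain ⟨j, hj⟩ := Scheme.exists_isAffine_of_isLimit (E ⋙ Over.forget S)
    ((Over.forget S).mapCone cW) hcW
  haveI : IsIso (pj j) := (sqj j).isIso_fst_of_isIso
  exact ⟨j.left, E.obj j, hj, ⟨asIso (pj j)⟩⟩

end

end Groth.Agent.Lib.T2H7.StageAffJ
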