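import Mathlib
import Groth.Prelude
import Groth.Agent.Lib.T2H7RelGCIApprox

/-!
# Noetherian approximation of standard syntomic morphisms (helper7)

* `isPullback_relGCI`: the spectrum of a presented algebra `B[x]/(F)` is the base change of the
  spectrum of `R[x]/(F)`.
* `main`: a standard syntomic morphism of affine schemes is the base change of a standard syntomic
  morphism over a finite type `ℤ`-algebra.
-/

set_option autoImplicit false
universe u
open MvPolynomial TensorProduct AlgebraicGeometry CategoryTheory Limits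

namespace Groth.Agent.Lib.T2H7.StdSyntApprox

open Groth.Agent.Lib.T2H7.RelGCIApprox

section PB

variable (R : Type u) [CommRing R] (B : Type u) [CommRing B] [Algebra R B] {n c : ℕ}
  (F : Fin c → MvPolynomial (Fin n) R)

/-- the comparison map of presented algebras under base change -/
noncomputable def ψ : Synt.RelGCIRing R n c F →+* Synt.RelGCIRing B n c (mapF R B F) :=
  ((bcEquiv R B F : B ⊗[R] Synt.RelGCIRing R n c F →+* Synt.RelGCIRing B n c (mapF R B F))).comp
    (Algebra.TensorProduct.includeRight (R := R) (A := B) (B := Synt.RelGCIRing R n c F)).toRingHom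

theorem isPushout_relGCI :
    IsPushout (CommRingCat.ofHom (algebraMap R B))
      (CommRingCat.ofHom (algebraMap R (Synt.RelGCIRing R n c F)))
      (CommRingCat.ofHom (algebraMap B (Synt.RelGCIRing B n c (mapF R B F))))
      (CommRingCat.ofHom (ψ R B F)) := by
  refine (CommRingCat.isPushout_tensorProduct R B (Synt.RelGCIRing R n c F)).of_iso
    (Iso.refl _) (Iso.refl _) (Iso.refl _) (bcEquiv R B F).toRingEquiv.toCommRingCatIso
    (by simp) (by simp) ?_ ?_
  · ext b
    have h := (bcEquiv R B F).commutes b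
    simpa [Algebra.TensorProduct.algebraMap_apply] using h
  · rw [Iso.refl_hom, Category.id_comp]
    rfl

theorem isPullback_relGCI :
    IsPullback (Spec.map (CommRingCat.ofHom (ψ R B F)))
      (Spec.map (CommRingCat.ofHom (algebraMap B (Synt.RelGCIRing B n c (mapF R B F)))))
      (Spec.map (CommRingCat.ofHom (algebraMap R (Synt.RelGCIRing R n c F))))
      (Spec.map (CommRingCat.ofHom (algebraMap R B))) :=
  (isPullback_SpecMap_of_isPushout _ _ _ _ (isPushout_relGCI R B F)).flip

end PB

section Main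

theorem main {X S : Scheme.{u}} (f : X ⟶ S) [IsAffine X] [IsAffine S]
    (hf : Synt.IsStandardSyntomic f) :
    ∃ (X₀ S₀ : Scheme.{u}) (f₀ : X₀ ⟶ S₀) (g : S ⟶ S₀) (g' : X ⟶ X₀), IsAffine X₀ ∧ IsAffine S₀ ∧
      IsPullback g' f f₀ g ∧
      Algebra.FiniteType ℤ Γ(S₀, ⊤) ∧ LocallyOfFiniteType f₀ ∧ Synt.IsStandardSyntomic f₀ := by
  obtain ⟨R, _, n, c, F, hF, e₁, e₂, hcomm⟩ := hf
  obtain ⟨R₀, F₀, hft, hmap, hF₀⟩ := exists_subalgebra R n c F hF
  have hFeq : F = mapF R₀ R F₀ := funext fun i => (hmap i).symm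
  subst hFeq
  have hP := isPullback_relGCI R₀ R F₀
  refine ⟨Spec (CommRingCat.of (Synt.RelGCIRing R₀ n c F₀)), Spec (CommRingCat.of R₀),
    Spec.map (CommRingCat.ofHom (algebraMap R₀ (Synt.RelGCIRing R₀ n c F₀))),
    e₂.hom ≫ Spec.map (CommRingCat.ofHom (algebraMap R₀ R)),
    e₁.hom ≫ Spec.map (CommRingCat.ofHom (ψ R₀ R F₀)), inferInstance, inferInstance, ?_, ?_, ?_, ?_⟩
  · refine hP.of_iso e₁.symm (Iso.refl _) e₂.symm (Iso.refl _) ?_ ?_ ?_ ?_
    · simp
    · simp only [Iso.symm_hom]
      rw [Iso.comp_inv_eq, Category.assoc, ← hcomm, Iso.inv_hom_id_assoc]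
    · simp
    · simp
  · exact Algebra.FiniteType.equiv hft
      (Scheme.ΓSpecIso (CommRingCat.of R₀)).symm.commRingCatIsoToRingEquiv.toIntAlgEquiv
  · rw [HasRingHomProperty.Spec_iff (P := @LocallyOfFiniteType), CommRingCat.hom_ofHom,
      RingHom.finiteType_algebraMap]
    exact Algebra.FiniteType.of_surjective (Ideal.Quotient.mkₐ R₀ (Ideal.span (Set.range F₀)))
        (Ideal.Quotient.mkₐ_surjective R₀ _)
  · exact ⟨R₀, inferInstance, n, c, F₀, hF₀, Iso.refl _, Iso.refl _, by simp⟩

end Main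

end Groth.Agent.Lib.T2H7.StdSyntApprox
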