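import Mathlib
import Groth.Prelude.Def_RegImm
import Groth.Agent.Lib.T2H7StdSynt
import Groth.Agent.Lib.Helper3FlatFibDim
import Groth.Agent.Lib.Helper3LocDimBC
import Groth.Agent.S9366

/-!
# Fibre dimension of syntomic morphisms is locally constant (T2 helper7)
-/

set_option autoImplicit false

universe u

open CategoryTheory AlgebraicGeometry

namespace Groth.Agent.Lib.T2H7.StdSyntDim

variable {X S : Scheme.{u}} (f : X ⟶ S)

/-- the local fibre dimension is constant on a standard syntomic chart -/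
theorem fibreDimAt_eq_of_isStandardSyntomic {U : X.Opens} {V : S.Opens} (e : U ≤ f ⁻¹ᵁ V)
    (hstd : Synt.IsStandardSyntomic (f.resLE V U e)) :
    ∃ d : WithBot ℕ∞, ∀ y : X, y ∈ U → FlatMor.fibreDimAt f y = d := by
  obtain ⟨R, _, n, c, F, hF, e₁, e₂, comm⟩ := hstd
  refine ⟨((n - c : ℕ) : WithBot ℕ∞), fun y hy => ?_⟩
  have h1 : FlatMor.fibreDimAt f y = FlatMor.fibreDimAt (U.ι ≫ f) ⟨y, hy⟩ :=
    (Groth.Agent.Lib.Helper3.FlatFibDim.fibreDimAt_comp_of_isOpenImmersion U.ι f ⟨y, hy⟩).symm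
  have hr : f.resLE V U e = e₁.hom ≫
      Spec.map (CommRingCat.ofHom (algebraMap R (Synt.RelGCIRing R n c F))) ≫ e₂.inv := by
    rw [← Category.assoc, comm, Category.assoc, Iso.hom_inv_id, Category.comp_id]
  have h2 : U.ι ≫ f = e₁.hom ≫
      (Spec.map (CommRingCat.ofHom (algebraMap R (Synt.RelGCIRing R n c F))) ≫
        (e₂.inv ≫ V.ι)) := by
    rw [← Scheme.Hom.resLE_comp_ι f e, hr]
    simp only [Category.assoc]
  have hft : LocallyOfFiniteType
      (Spec.map (CommRingCat.ofHom (algebraMap R (Synt.RelGCIRing R n c F)))) := by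
    rw [HasRingHomProperty.Spec_iff (P := @LocallyOfFiniteType)]
    show (algebraMap R (Synt.RelGCIRing R n c F)).FiniteType
    rw [RingHom.finiteType_algebraMap]
    infer_instance
  rw [h1, h2, Groth.Agent.Lib.Helper3.FlatFibDim.fibreDimAt_comp_of_isOpenImmersion,
    Groth.Agent.Lib.Helper3.LocDimBC.fibreDimAt_comp_mono]
  exact Groth.Agent.S9366.result R n c F hF _

/-- the local fibre dimension of a syntomic morphism is locally constant -/
theorem isLocallyConstant_fibreDimAt (hf : Synt.IsSyntomicMor f) :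
    IsLocallyConstant (fun x : ↑X => FlatMor.fibreDimAt f x) := by
  rw [IsLocallyConstant.iff_exists_open]
  intro x
  obtain ⟨V, hV, hfx, -⟩ := TopologicalSpace.Opens.isBasis_iff_nbhd.mp S.isBasis_affineOpens
    (TopologicalSpace.Opens.mem_top (f.base x))
  obtain ⟨U, e, hx, hstd⟩ :=
    (Groth.Agent.Lib.T2H7.StdSynt.isSyntomicAt_iff_exists_standardSyntomic f x ⟨V, hV⟩ hfx).mp
      (hf x)
  obtain ⟨d, hd⟩ := fibreDimAt_eq_of_isStandardSyntomic f e hstd
  refine ⟨U.1, U.1.isOpen, hx, fun y hy => ?_⟩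
  show FlatMor.fibreDimAt f y = FlatMor.fibreDimAt f x
  rw [hd y hy, hd x hx]

end Groth.Agent.Lib.T2H7.StdSyntDim
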