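import Mathlib
import Groth.Prelude.Def_Grpd
import Groth.Agent.Lib.Helper18Grpd1

/-!
# The groupoid of `T`-points of a groupoid scheme (helper7)

For a groupoid scheme `G` over `S` and a scheme `T`, the `T`-points of `G.U` are the objects of a
groupoid whose arrows `a ⟶ b` are the `T`-points `r` of `G.R` with `s r = a`, `t r = b`.  All the
algebra with compositions of `T`-points is then done with the category-theory simp set.
-/

set_option autoImplicit false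
set_option linter.style.haveILetI false
set_option linter.unusedSectionVars false
set_option linter.unusedVariables false
universe u

open CategoryTheory CategoryTheory.Limits AlgebraicGeometry
open Groth.Agent.Helper18Grpd

namespace Groth.Agent.Lib.T2H7.SubGrpd

variable {S : Scheme.{u}} (G : Grpd.GroupoidScheme S) (T : Scheme.{u})

/-- Objects of the groupoid of `T`-points: the `T`-points of `G.U`. -/
structure Ob where
  /-- the point -/
  pt : T ⟶ G.U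

variable {G T}

@[ext] theorem Ob.ext' {a b : Ob G T} (h : a.pt = b.pt) : a = b := by
  cases a; cases b; cases h; rfl

noncomputable instance : Groupoid (Ob G T) where
  Hom a b := {r : T ⟶ G.R // r ≫ G.s = a.pt ∧ r ≫ G.t = b.pt}
  id a := ⟨a.pt ≫ G.e, e_s' _, e_t' _⟩
  comp f g := ⟨cmp G g.1 f.1 (g.2.1.trans f.2.2.symm), (cmp_s _ _ _).trans f.2.1,
    (cmp_t _ _ _).trans g.2.2⟩
  id_comp {a b} f := Subtype.ext ((cmp_congr rfl
    (by show a.pt ≫ G.e = f.1 ≫ G.s ≫ G.e; rw [← Category.assoc, f.2.1]) _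
    (by rw [Category.assoc, Category.assoc, G.e_t, Category.comp_id])).trans (cmp_e f.1))
  comp_id {a b} f := Subtype.ext ((cmp_congr
    (by show b.pt ≫ G.e = f.1 ≫ G.t ≫ G.e; rw [← Category.assoc, f.2.2]) rfl _
    (by rw [Category.assoc, Category.assoc, G.e_s, Category.comp_id])).trans (e_cmp f.1))
  assoc {a b c d} f g h := Subtype.ext (cmp_assoc h.1 g.1 f.1 _ _).symm
  inv f := ⟨f.1 ≫ G.i, (inv_s _).trans f.2.2, (inv_t _).trans f.2.1⟩
  inv_comp {a b} f := Subtype.ext ((cmp_i f.1).trans (by rw [← Category.assoc, f.2.2]))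
  comp_inv {a b} f := Subtype.ext ((i_cmp f.1).trans (by rw [← Category.assoc, f.2.1]))

/-- Build an arrow from a point of `G.R` with prescribed source and target. -/
def homMk {a b : Ob G T} (r : T ⟶ G.R) (hs : r ≫ G.s = a.pt) (ht : r ≫ G.t = b.pt) : a ⟶ b :=
  ⟨r, hs, ht⟩

@[simp] theorem homMk_val {a b : Ob G T} (r : T ⟶ G.R) (hs : r ≫ G.s = a.pt)
    (ht : r ≫ G.t = b.pt) : (homMk r hs ht).1 = r := rfl

theorem hom_s {a b : Ob G T} (f : a ⟶ b) : f.1 ≫ G.s = a.pt := f.2.1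

theorem hom_t {a b : Ob G T} (f : a ⟶ b) : f.1 ≫ G.t = b.pt := f.2.2

theorem hom_ext' {a b : Ob G T} {f g : a ⟶ b} (h : f.1 = g.1) : f = g := Subtype.ext h

theorem comp_val {a b c : Ob G T} (f : a ⟶ b) (g : b ⟶ c) :
    (f ≫ g).1 = cmp G g.1 f.1 ((hom_s g).trans (hom_t f).symm) := rfl

theorem id_val (a : Ob G T) : (𝟙 a : a ⟶ a).1 = a.pt ≫ G.e := rfl

theorem inv_val {a b : Ob G T} (f : a ⟶ b) : (Groupoid.inv f).1 = f.1 ≫ G.i := rfl

/-- Raw composition of `T`-points as a composition in the groupoid. -/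
theorem cmp_eq_comp (α β : T ⟶ G.R) (h : α ≫ G.s = β ≫ G.t) {a b c : Ob G T}
    (hβs : β ≫ G.s = a.pt) (hβt : β ≫ G.t = b.pt) (hαt : α ≫ G.t = c.pt) :
    cmp G α β h = ((homMk β hβs hβt : a ⟶ b) ≫ (homMk α (h.trans hβt) hαt : b ⟶ c)).1 := rfl

/-- Base change of objects along `m : T' ⟶ T`. -/
def Ob.bc {T' : Scheme.{u}} (m : T' ⟶ T) (a : Ob G T) : Ob G T' := ⟨m ≫ a.pt⟩

@[simp] theorem Ob.bc_pt {T' : Scheme.{u}} (m : T' ⟶ T) (a : Ob G T) : (a.bc m).pt = m ≫ a.pt := rfl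

/-- Base change of arrows along `m : T' ⟶ T`. -/
def bcHom {T' : Scheme.{u}} (m : T' ⟶ T) {a b : Ob G T} (f : a ⟶ b) : a.bc m ⟶ b.bc m :=
  ⟨m ≫ f.1, by rw [Category.assoc, hom_s f]; rfl, by rw [Category.assoc, hom_t f]; rfl⟩

@[simp] theorem bcHom_val {T' : Scheme.{u}} (m : T' ⟶ T) {a b : Ob G T} (f : a ⟶ b) :
    (bcHom m f).1 = m ≫ f.1 := rfl

theorem bcHom_comp {T' : Scheme.{u}} (m : T' ⟶ T) {a b c : Ob G T} (f : a ⟶ b) (g : b ⟶ c) :
    bcHom m (f ≫ g) = bcHom m f ≫ bcHom m g :=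
  Subtype.ext (precomp_cmp m g.1 f.1 _)

theorem bcHom_id {T' : Scheme.{u}} (m : T' ⟶ T) (a : Ob G T) :
    bcHom m (𝟙 a) = 𝟙 (a.bc m) :=
  Subtype.ext (by rw [bcHom_val, id_val, id_val, Ob.bc_pt, Category.assoc])

theorem bcHom_inv {T' : Scheme.{u}} (m : T' ⟶ T) {a b : Ob G T} (f : a ⟶ b) :
    bcHom m (Groupoid.inv f) = Groupoid.inv (bcHom m f) :=
  Subtype.ext (by rw [bcHom_val, inv_val, inv_val, bcHom_val, Category.assoc])

/-- inverse of a composite of raw points -/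
theorem cmp_i_eq (α β : T ⟶ G.R) (h : α ≫ G.s = β ≫ G.t) :
    cmp G α β h ≫ G.i = cmp G (β ≫ G.i) (α ≫ G.i)
      ((inv_s β).trans (h.symm.trans (inv_t α).symm)) := by
  have e := cmp_eq_comp (a := ⟨β ≫ G.s⟩) (b := ⟨β ≫ G.t⟩) (c := ⟨α ≫ G.t⟩) α β h rfl rfl rfl
  rw [e, ← inv_val]
  have : Groupoid.inv ((homMk β rfl rfl : (⟨β ≫ G.s⟩ : Ob G T) ⟶ ⟨β ≫ G.t⟩) ≫
      (homMk α (h.trans rfl) rfl : (⟨β ≫ G.t⟩ : Ob G T) ⟶ ⟨α ≫ G.t⟩)) =
      Groupoid.inv (homMk α (h.trans rfl) rfl : (⟨β ≫ G.t⟩ : Ob G T) ⟶ ⟨α ≫ G.t⟩) ≫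
        Groupoid.inv (homMk β rfl rfl : (⟨β ≫ G.s⟩ : Ob G T) ⟶ ⟨β ≫ G.t⟩) := by
    simp
  rw [this]
  rfl

end Groth.Agent.Lib.T2H7.SubGrpd
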