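import Mathlib
import Groth.Prelude.Def_Grpd
import Groth.Agent.Lib.T2H7SubGrpdA

/-!
# A subgroupoid scheme `P ⟶ R` and its arrows in the groupoids of `T`-points (helper7)
-/

set_option autoImplicit false
set_option linter.style.haveILetI false
set_option linter.unusedSectionVars false
set_option linter.unusedVariables false
universe u

open CategoryTheory CategoryTheory.Limits AlgebraicGeometry
open Groth.Agent.Helper18Grpd

namespace Groth.Agent.Lib.T2H7.SubGrpd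

variable {S : Scheme.{u}} (G : Grpd.GroupoidScheme S) {P : Scheme.{u}} (ιP : P ⟶ G.R)
  (eP : G.U ⟶ P) (he : eP ≫ ιP = G.e) (iP : P ⟶ P) (hi : iP ≫ ιP = ιP ≫ G.i)
  (cP : pullback (ιP ≫ G.s) (ιP ≫ G.t) ⟶ P)
  (hc : cP ≫ ιP = pullback.map (ιP ≫ G.s) (ιP ≫ G.t) G.s G.t ιP ιP (𝟙 G.U)
    (Category.comp_id _) (Category.comp_id _) ≫ G.c)

include hc in
theorem lift_cP {T : Scheme.{u}} (α β : T ⟶ P) (h : α ≫ ιP ≫ G.s = β ≫ ιP ≫ G.t) :
    (pullback.lift α β h ≫ cP) ≫ ιP = Groth.Agent.Helper18Grpd.cmp G (α ≫ ιP) (β ≫ ιP)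
      (by rw [Category.assoc, Category.assoc, h]) := by
  rw [Category.assoc, hc, ← Category.assoc]
  unfold Groth.Agent.Helper18Grpd.cmp
  congr 1
  apply pullback.hom_ext
  · rw [Category.assoc, pullback.lift_fst, pullback.lift_fst, ← Category.assoc, pullback.lift_fst]
  · rw [Category.assoc, pullback.lift_snd, pullback.lift_snd, ← Category.assoc, pullback.lift_snd]

variable [Mono ιP]

/-- The subgroupoid scheme `(U, P, s|_P, t|_P, c|_P)`. -/
noncomputable def subGrpd : Grpd.GroupoidScheme S where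
  U := G.U
  R := P
  pU := G.pU
  pR := ιP ≫ G.pR
  s := ιP ≫ G.s
  t := ιP ≫ G.t
  e := eP
  i := iP
  c := cP
  s_over := by rw [Category.assoc, G.s_over]
  t_over := by rw [Category.assoc, G.t_over]
  comp_s α β h := by
    rw [← Category.assoc, lift_cP G ιP cP hc α β h, cmp_s, Category.assoc]
  comp_t α β h := by
    rw [← Category.assoc, lift_cP G ιP cP hc α β h, cmp_t, Category.assoc]
  assoc α β γ h₁ h₂ := by
    rw [← cancel_mono ιP]
    refine (lift_cP G ιP cP hc _ _ _).trans (Eq.trans ?_ (lift_cP G ιP cP hc _ _ _).symm)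
    have e₁ : (α ≫ ιP) ≫ G.s = (β ≫ ιP) ≫ G.t := by simpa only [Category.assoc] using h₁
    have e₂ : (β ≫ ιP) ≫ G.s = (γ ≫ ιP) ≫ G.t := by simpa only [Category.assoc] using h₂
    exact (cmp_congr (lift_cP G ιP cP hc α β h₁) rfl _ _).trans
      ((cmp_assoc _ _ _ e₁ e₂).trans (cmp_congr rfl (lift_cP G ιP cP hc β γ h₂).symm _ _))
  e_s := by rw [← Category.assoc, he, G.e_s]
  e_t := by rw [← Category.assoc, he, G.e_t]
  comp_e α := by
    rw [← cancel_mono ιP, lift_cP G ιP cP hc]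
    refine Eq.trans (cmp_congr rfl ?_ _ _) (cmp_e (α ≫ ιP))
    simp only [Category.assoc, he]
  e_comp α := by
    rw [← cancel_mono ιP, lift_cP G ιP cP hc]
    refine Eq.trans (cmp_congr ?_ rfl _ _) (e_cmp (α ≫ ιP))
    simp only [Category.assoc, he]
  i_s := by rw [← Category.assoc, hi, Category.assoc, G.i_s]
  i_t := by rw [← Category.assoc, hi, Category.assoc, G.i_t]
  comp_i α := by
    rw [← cancel_mono ιP, lift_cP G ιP cP hc]
    refine Eq.trans (cmp_congr rfl ?_ _ _) ((cmp_i (α ≫ ιP)).trans ?_)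
    · simp only [Category.assoc, hi]
    · simp only [Category.assoc, he]
  i_comp α := by
    rw [← cancel_mono ιP, lift_cP G ιP cP hc]
    refine Eq.trans (cmp_congr ?_ rfl _ _) ((i_cmp (α ≫ ιP)).trans ?_)
    · simp only [Category.assoc, hi]
    · simp only [Category.assoc, he]

theorem subGrpd_j : (subGrpd G ιP eP he iP hi cP hc).j = ιP ≫ G.j := by
  show pullback.lift (ιP ≫ G.t) (ιP ≫ G.s) _ = ιP ≫ pullback.lift G.t G.s _
  apply pullback.hom_ext
  · rw [pullback.lift_fst, Category.assoc, pullback.lift_fst]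
  · rw [pullback.lift_snd, Category.assoc, pullback.lift_snd]

/-! ### The `P`-arrows -/

section Arrows

variable {Y : Scheme.{u}} {p : G.U ⟶ Y} (hpb : IsPullback (ιP ≫ G.t) (ιP ≫ G.s) p p)
variable {G ιP}

/-- The unique arrow of `P` from `a` to `b`, for two points with the same image in the quotient. -/
noncomputable def ρ {T : Scheme.{u}} (a b : Ob G T) (h : a.pt ≫ p = b.pt ≫ p) : a ⟶ b :=
  ⟨hpb.lift b.pt a.pt h.symm ≫ ιP, by rw [Category.assoc, hpb.lift_snd],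
    by rw [Category.assoc, hpb.lift_fst]⟩

theorem ρ_val {T : Scheme.{u}} (a b : Ob G T) (h : a.pt ≫ p = b.pt ≫ p) :
    (ρ hpb a b h).1 = hpb.lift b.pt a.pt h.symm ≫ ιP := rfl

/-- Any `P`-point is the arrow `ρ` between its source and target. -/
theorem eq_ρ {T : Scheme.{u}} {a b : Ob G T} (f : a ⟶ b) (π : T ⟶ P) (hπ : π ≫ ιP = f.1) :
    ∃ h : a.pt ≫ p = b.pt ≫ p, f = ρ hpb a b h := by
  have h : a.pt ≫ p = b.pt ≫ p := by
    have e1 : a.pt = π ≫ ιP ≫ G.s := by rw [← Category.assoc, hπ]; exact (hom_s f).symm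
    have e2 : b.pt = π ≫ ιP ≫ G.t := by rw [← Category.assoc, hπ]; exact (hom_t f).symm
    have w := hpb.w
    simp only [Category.assoc] at w
    rw [e1, e2, Category.assoc, Category.assoc, Category.assoc, Category.assoc, w]
  refine ⟨h, Subtype.ext ?_⟩
  rw [ρ_val, ← hπ]
  congr 1
  apply hpb.hom_ext
  · rw [hpb.lift_fst, ← Category.assoc, hπ, hom_t f]
  · rw [hpb.lift_snd, ← Category.assoc, hπ, hom_s f]

include he in
theorem ρ_refl {T : Scheme.{u}} (a : Ob G T) : ρ hpb a a rfl = 𝟙 a := by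
  obtain ⟨_, h⟩ := eq_ρ hpb (𝟙 a) (a.pt ≫ eP) (by rw [Category.assoc, he]; rfl)
  exact h.symm

include hc in
theorem ρ_trans {T : Scheme.{u}} (a b c : Ob G T) (h₁ : a.pt ≫ p = b.pt ≫ p)
    (h₂ : b.pt ≫ p = c.pt ≫ p) : ρ hpb a b h₁ ≫ ρ hpb b c h₂ = ρ hpb a c (h₁.trans h₂) := by
  obtain ⟨_, h⟩ := eq_ρ hpb (ρ hpb a b h₁ ≫ ρ hpb b c h₂)
    (pullback.lift (hpb.lift c.pt b.pt h₂.symm) (hpb.lift b.pt a.pt h₁.symm)
      (by rw [hpb.lift_snd, hpb.lift_fst]) ≫ cP)
    (by rw [lift_cP G ιP cP hc]; rfl)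
  exact h

include hi in
theorem ρ_inv {T : Scheme.{u}} (a b : Ob G T) (h : a.pt ≫ p = b.pt ≫ p) :
    Groupoid.inv (ρ hpb a b h) = ρ hpb b a h.symm := by
  obtain ⟨_, h'⟩ := eq_ρ hpb (Groupoid.inv (ρ hpb a b h)) (hpb.lift b.pt a.pt h.symm ≫ iP)
    (by rw [Category.assoc, hi, ← Category.assoc]; rfl)
  exact h'

theorem ρ_bc {T T' : Scheme.{u}} (m : T' ⟶ T) (a b : Ob G T) (h : a.pt ≫ p = b.pt ≫ p) :
    bcHom m (ρ hpb a b h) = ρ hpb (a.bc m) (b.bc m)
      (by rw [Ob.bc_pt, Ob.bc_pt, Category.assoc, Category.assoc, h]) := by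
  obtain ⟨_, h'⟩ := eq_ρ hpb (bcHom m (ρ hpb a b h)) (m ≫ hpb.lift b.pt a.pt h.symm)
    (by rw [Category.assoc]; rfl)
  exact h'

theorem ρ_congr {T : Scheme.{u}} {a b : Ob G T} (h h' : a.pt ≫ p = b.pt ≫ p) :
    ρ hpb a b h = ρ hpb a b h' := rfl

end Arrows

end Groth.Agent.Lib.T2H7.SubGrpd
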