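import Mathlib
import Groth.Prelude.Def_Grpd
import Groth.Prelude.Def_Desc
import Groth.Agent.Lib.T2H7SubGrpdB

/-!
# The descent datum on `R ⟶ U ×_S U` relative to `U ×_S U ⟶ Y ×_S Y` defined by a subgroupoid
(helper7)
-/

set_option autoImplicit false
set_option linter.style.haveILetI false
set_option linter.unusedSectionVars false
set_option linter.unusedVariables false
universe u

open CategoryTheory CategoryTheory.Limits AlgebraicGeometry
open Groth.Agent.Helper18Grpd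

namespace Groth.Agent.Lib.T2H7.SubGrpd

variable {S : Scheme.{u}} {G : Grpd.GroupoidScheme S} {P : Scheme.{u}} {ιP : P ⟶ G.R}
  (eP : G.U ⟶ P) (he : eP ≫ ιP = G.e) (iP : P ⟶ P) (hi : iP ≫ ιP = ιP ≫ G.i)
  (cP : pullback (ιP ≫ G.s) (ιP ≫ G.t) ⟶ P)
  (hc : cP ≫ ιP = pullback.map (ιP ≫ G.s) (ιP ≫ G.t) G.s G.t ιP ιP (𝟙 G.U)
    (Category.comp_id _) (Category.comp_id _) ≫ G.c)
  [Mono ιP]
  {Y : Scheme.{u}} {p : G.U ⟶ Y} (hpb : IsPullback (ιP ≫ G.t) (ιP ≫ G.s) p p)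

section Conj

variable {T : Scheme.{u}}

include he in
theorem ρ_refl' (a : Ob G T) (h : a.pt ≫ p = a.pt ≫ p) : ρ hpb a a h = 𝟙 a :=
  ρ_refl eP he hpb a

include hc in
theorem ρ_trans_assoc {a b c d : Ob G T} (h₁ : a.pt ≫ p = b.pt ≫ p)
    (h₂ : b.pt ≫ p = c.pt ≫ p) (f : c ⟶ d) :
    ρ hpb a b h₁ ≫ ρ hpb b c h₂ ≫ f = ρ hpb a c (h₁.trans h₂) ≫ f := by
  rw [← Category.assoc, ρ_trans cP hc hpb]

/-- Conjugation of an arrow by `P`-arrows. -/
noncomputable def conj {a b c d : Ob G T} (f : b ⟶ c) (h₁ : a.pt ≫ p = b.pt ≫ p)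
    (h₂ : c.pt ≫ p = d.pt ≫ p) : a ⟶ d :=
  ρ hpb a b h₁ ≫ f ≫ ρ hpb c d h₂

include he in
theorem conj_refl {b c : Ob G T} (f : b ⟶ c) (h₁ : b.pt ≫ p = b.pt ≫ p)
    (h₂ : c.pt ≫ p = c.pt ≫ p) : conj hpb f h₁ h₂ = f := by
  unfold conj
  rw [ρ_refl' eP he hpb, ρ_refl' eP he hpb, Category.id_comp, Category.comp_id]

include hc in
theorem conj_conj {a b c d a' d' : Ob G T} (f : b ⟶ c) (h₁ : a.pt ≫ p = b.pt ≫ p)
    (h₂ : c.pt ≫ p = d.pt ≫ p) (h₃ : a'.pt ≫ p = a.pt ≫ p) (h₄ : d.pt ≫ p = d'.pt ≫ p) :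
    conj hpb (conj hpb f h₁ h₂) h₃ h₄ = conj hpb f (h₃.trans h₁) (h₂.trans h₄) := by
  unfold conj
  simp only [Category.assoc]
  rw [ρ_trans_assoc cP hc hpb, ρ_trans cP hc hpb]

theorem conj_bc {T' : Scheme.{u}} (m : T' ⟶ T) {a b c d : Ob G T} (f : b ⟶ c)
    (h₁ : a.pt ≫ p = b.pt ≫ p) (h₂ : c.pt ≫ p = d.pt ≫ p) :
    bcHom m (conj hpb f h₁ h₂) = conj hpb (bcHom m f)
      (by rw [Ob.bc_pt, Ob.bc_pt, Category.assoc, Category.assoc, h₁])
      (by rw [Ob.bc_pt, Ob.bc_pt, Category.assoc, Category.assoc, h₂]) := by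
  unfold conj
  rw [bcHom_comp, bcHom_comp, ρ_bc, ρ_bc]

theorem conj_congr {a a' b b' c c' d d' : Ob G T} (ha : a = a') (hb : b = b') (hc' : c = c')
    (hd : d = d') (f : b ⟶ c) (f' : b' ⟶ c') (hf : f.1 = f'.1)
    (h₁ : a.pt ≫ p = b.pt ≫ p) (h₂ : c.pt ≫ p = d.pt ≫ p)
    (h₁' : a'.pt ≫ p = b'.pt ≫ p) (h₂' : c'.pt ≫ p = d'.pt ≫ p) :
    (conj hpb f h₁ h₂).1 = (conj hpb f' h₁' h₂').1 := by
  subst ha hb hc' hd
  have : f = f' := hom_ext' hf
  subst this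
  rfl

include hc in
theorem conj_comp {a b c d c' e e' : Ob G T} (f : b ⟶ c) (g : c' ⟶ e)
    (h₁ : a.pt ≫ p = b.pt ≫ p) (h₂ : c.pt ≫ p = d.pt ≫ p) (h₃ : d.pt ≫ p = c'.pt ≫ p)
    (h₄ : e.pt ≫ p = e'.pt ≫ p) :
    conj hpb f h₁ h₂ ≫ conj hpb g h₃ h₄ =
      ρ hpb a b h₁ ≫ f ≫ ρ hpb c c' (h₂.trans h₃) ≫ g ≫ ρ hpb e e' h₄ := by
  unfold conj
  simp only [Category.assoc]
  rw [ρ_trans_assoc cP hc hpb]

include hi in
theorem conj_inv {a b c d : Ob G T} (f : b ⟶ c) (h₁ : a.pt ≫ p = b.pt ≫ p)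
    (h₂ : c.pt ≫ p = d.pt ≫ p) :
    Groupoid.inv (conj hpb f h₁ h₂) = conj hpb (Groupoid.inv f) h₂.symm h₁.symm := by
  have e : ∀ (x y : Ob G T) (h : x.pt ≫ p = y.pt ≫ p),
      CategoryTheory.inv (ρ hpb x y h) = ρ hpb y x h.symm := fun x y h => by
    rw [← Groupoid.inv_eq_inv]; exact ρ_inv iP hi hpb x y h
  unfold conj
  rw [Groupoid.inv_eq_inv, IsIso.inv_comp, IsIso.inv_comp, e, e, Category.assoc,
    ← Groupoid.inv_eq_inv]

include hc in
theorem conj_id {a b d : Ob G T} (h₁ : a.pt ≫ p = b.pt ≫ p) (h₂ : b.pt ≫ p = d.pt ≫ p) :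
    conj hpb (𝟙 b) h₁ h₂ = ρ hpb a d (h₁.trans h₂) := by
  unfold conj
  rw [Category.id_comp, ρ_trans cP hc hpb]

end Conj

/-! ### The descent datum -/

variable {pY : Y ⟶ S} (hpY : p ≫ pY = G.pU)

/-- The product map `U ×_S U ⟶ Y ×_S Y`. -/
noncomputable def pp : pullback G.pU G.pU ⟶ pullback pY pY :=
  pullback.map G.pU G.pU pY pY p p (𝟙 S) ((Category.comp_id _).trans hpY.symm)
    ((Category.comp_id _).trans hpY.symm)

theorem pp_fst : pp hpY ≫ pullback.fst pY pY = pullback.fst G.pU G.pU ≫ p := by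
  unfold pp; rw [pullback.lift_fst]

theorem pp_snd : pp hpY ≫ pullback.snd pY pY = pullback.snd G.pU G.pU ≫ p := by
  unfold pp; rw [pullback.lift_snd]

variable {T : Scheme.{u}}

/-- The target component of a point of `U ×_S U`. -/
noncomputable def ta (x : T ⟶ pullback G.pU G.pU) : Ob G T := ⟨x ≫ pullback.fst _ _⟩

/-- The source component of a point of `U ×_S U`. -/
noncomputable def so (x : T ⟶ pullback G.pU G.pU) : Ob G T := ⟨x ≫ pullback.snd _ _⟩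

@[simp] theorem ta_pt (x : T ⟶ pullback G.pU G.pU) : (ta x).pt = x ≫ pullback.fst _ _ := rfl

@[simp] theorem so_pt (x : T ⟶ pullback G.pU G.pU) : (so x).pt = x ≫ pullback.snd _ _ := rfl

theorem ta_p {x₀ x₁ : T ⟶ pullback G.pU G.pU} (h : x₀ ≫ pp hpY = x₁ ≫ pp hpY) :
    (ta x₀).pt ≫ p = (ta x₁).pt ≫ p := by
  rw [ta_pt, ta_pt, Category.assoc, Category.assoc, ← pp_fst hpY, ← Category.assoc, h,
    Category.assoc]

theorem so_p {x₀ x₁ : T ⟶ pullback G.pU G.pU} (h : x₀ ≫ pp hpY = x₁ ≫ pp hpY) :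
    (so x₀).pt ≫ p = (so x₁).pt ≫ p := by
  rw [so_pt, so_pt, Category.assoc, Category.assoc, ← pp_snd hpY, ← Category.assoc, h,
    Category.assoc]

theorem j_fst : G.j ≫ pullback.fst G.pU G.pU = G.t := by
  unfold Grpd.GroupoidScheme.j; rw [pullback.lift_fst]

theorem j_snd : G.j ≫ pullback.snd G.pU G.pU = G.s := by
  unfold Grpd.GroupoidScheme.j; rw [pullback.lift_snd]

/-- The arrow defined by a lift of `x` to `R`. -/
noncomputable def arr {x : T ⟶ pullback G.pU G.pU} (v : Desc.Lifts (Over.mk G.j) x) : so x ⟶ ta x :=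
  ⟨v.1, by
    have e : v.1 ≫ G.j = x := v.2
    rw [← j_snd, ← Category.assoc, e]; rfl, by
    have e : v.1 ≫ G.j = x := v.2
    rw [← j_fst, ← Category.assoc, e]; rfl⟩

/-- The lift of `x` defined by an arrow. -/
noncomputable def ofArr {x : T ⟶ pullback G.pU G.pU} (f : so x ⟶ ta x) : Desc.Lifts (Over.mk G.j) x :=
  ⟨f.1, by
    show f.1 ≫ G.j = x
    apply pullback.hom_ext
    · rw [Category.assoc, j_fst]; exact hom_t f
    · rw [Category.assoc, j_snd]; exact hom_s f⟩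

@[simp] theorem arr_val {x : T ⟶ pullback G.pU G.pU} (v : Desc.Lifts (Over.mk G.j) x) :
    (arr v).1 = v.1 := rfl

@[simp] theorem ofArr_val {x : T ⟶ pullback G.pU G.pU} (f : so x ⟶ ta x) :
    (ofArr f).1 = f.1 := rfl

theorem arr_ofArr {x : T ⟶ pullback G.pU G.pU} (f : so x ⟶ ta x) : arr (ofArr f) = f := rfl

/-- The descent datum on `j : R ⟶ U ×_S U` relative to `U ×_S U ⟶ Y ×_S Y`: conjugation by the
arrows of `P`. -/
noncomputable def dd : Desc.SchDD (pp (G := G) hpY) where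
  obj := Over.mk G.j
  φ T x₀ x₁ h :=
    { toFun := fun v => ofArr (conj hpb (arr v) (so_p hpY h).symm (ta_p hpY h))
      invFun := fun w => ofArr (conj hpb (arr w) (so_p hpY h) (ta_p hpY h).symm)
      left_inv := fun v => Subtype.ext (by
        rw [ofArr_val, arr_ofArr, conj_conj cP hc hpb, conj_refl eP he hpb]; rfl)
      right_inv := fun v => Subtype.ext (by
        rw [ofArr_val, arr_ofArr, conj_conj cP hc hpb, conj_refl eP he hpb]; rfl) }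
  φ_natural T T' g x₀ x₁ h h' v v' hv := by
    show (conj hpb (arr v') _ _).1 = g ≫ (conj hpb (arr v) _ _).1
    rw [← bcHom_val, conj_bc]
    exact conj_congr hpb (Ob.ext' (Category.assoc _ _ _)) (Ob.ext' (Category.assoc _ _ _))
      (Ob.ext' (Category.assoc _ _ _)) (Ob.ext' (Category.assoc _ _ _)) _ _ hv _ _ _ _
  φ_self T x v := Subtype.ext (by
    show (conj hpb (arr v) _ _).1 = v.1
    rw [conj_refl eP he hpb]; rfl)
  φ_comp T x₀ x₁ x₂ h₀₁ h₁₂ v := Subtype.ext (by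
    show (conj hpb (arr (ofArr (conj hpb (arr v) _ _))) _ _).1 = (conj hpb (arr v) _ _).1
    rw [arr_ofArr, conj_conj cP hc hpb])

theorem dd_φ_val {x₀ x₁ : T ⟶ pullback G.pU G.pU} (h : x₀ ≫ pp hpY = x₁ ≫ pp hpY)
    (v : Desc.Lifts (Over.mk G.j) x₀) :
    ((dd eP he cP hc hpb hpY).φ x₀ x₁ h v).1 =
      (conj hpb (arr v) (so_p hpY h).symm (ta_p hpY h)).1 := rfl

end Groth.Agent.Lib.T2H7.SubGrpd
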