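import Mathlib
import Groth.Prelude.Def_Grpd
import Groth.Prelude.Def_Desc
import Groth.Agent.Lib.T2H7SubGrpdC

/-!
# The descended scheme of arrows `R̄` and the map `R ⟶ R̄` (helper7)
-/

set_option autoImplicit false
set_option linter.style.haveILetI false
set_option linter.unusedSectionVars false
set_option linter.unusedVariables false
universe u

open CategoryTheory CategoryTheory.Limits AlgebraicGeometry
open Groth.Agent.Helper18Grpd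

namespace Groth.Agent.Lib.T2H7.SubGrpd

variable {S : Scheme.{u}} {G : Grpd.GroupoidScheme S} {P : Scheme.{u}} {ιP : P ⟶ G.R}
  (eP : G.U ⟶ P) (he : eP ≫ ιP = G.e) (iP : P ⟶ P) (hi : iP ≫ ιP = ιP ≫ G.i)
  (cP : pullback (ιP ≫ G.s) (ιP ≫ G.t) ⟶ P)
  (hc : cP ≫ ιP = pullback.map (ιP ≫ G.s) (ιP ≫ G.t) G.s G.t ιP ιP (𝟙 G.U)
    (Category.comp_id _) (Category.comp_id _) ≫ G.c)
  [Mono ιP]
  {Y : Scheme.{u}} {p : G.U ⟶ Y} (hpb : IsPullback (ιP ≫ G.t) (ιP ≫ G.s) p p)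
  {pY : Y ⟶ S} (hpY : p ≫ pY = G.pU)
  (Rb : Over (pullback pY pY))
  (Θ : (Desc.toDD (pp (G := G) hpY)).obj Rb ≅ dd eP he cP hc hpb hpY)

/-- The map `R ⟶ R̄`. -/
noncomputable def fR : G.R ⟶ Rb.left := Θ.inv.hom.left ≫ pullback.snd (pp hpY) Rb.hom

theorem isPullback_fR : IsPullback (fR eP he cP hc hpb hpY Rb Θ) G.j Rb.hom (pp hpY) := by
  have h0 := (IsPullback.of_hasPullback (pp (G := G) hpY) Rb.hom).flip
  have e1 : Θ.hom.hom.left ≫ Θ.inv.hom.left = 𝟙 _ :=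
    congrArg (fun k => k.hom.left) Θ.hom_inv_id
  have e2 : Θ.inv.hom.left ≫ Θ.hom.hom.left = 𝟙 _ :=
    congrArg (fun k => k.hom.left) Θ.inv_hom_id
  let ψ : pullback (pp (G := G) hpY) Rb.hom ≅ G.R := ⟨Θ.hom.hom.left, Θ.inv.hom.left, e1, e2⟩
  refine IsPullback.of_iso h0 ψ (Iso.refl _) (Iso.refl _) (Iso.refl _) ?_ ?_ ?_ ?_
  · show pullback.snd (pp hpY) Rb.hom ≫ 𝟙 _ = Θ.hom.hom.left ≫ Θ.inv.hom.left ≫ pullback.snd _ _
    rw [Category.comp_id, ← Category.assoc, e1, Category.id_comp]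
  · show pullback.fst (pp hpY) Rb.hom ≫ 𝟙 _ = Θ.hom.hom.left ≫ G.j
    rw [Category.comp_id]
    exact (Over.w Θ.hom.hom).symm
  · simp
  · simp

theorem fR_comm : G.j ≫ pp hpY = fR eP he cP hc hpb hpY Rb Θ ≫ Rb.hom :=
  (isPullback_fR eP he cP hc hpb hpY Rb Θ).w.symm

variable {T : Scheme.{u}}

theorem pp_ext {x₀ x₁ : T ⟶ pullback G.pU G.pU} (h₁ : (ta x₀).pt ≫ p = (ta x₁).pt ≫ p)
    (h₂ : (so x₀).pt ≫ p = (so x₁).pt ≫ p) : x₀ ≫ pp hpY = x₁ ≫ pp hpY := by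
  apply pullback.hom_ext
  · rw [Category.assoc, Category.assoc, pp_fst, ← Category.assoc, ← Category.assoc]
    exact h₁
  · rw [Category.assoc, Category.assoc, pp_snd, ← Category.assoc, ← Category.assoc]
    exact h₂

/-- The descent datum does not change the image in `R̄`. -/
theorem dd_φ_fR {x₀ x₁ : T ⟶ pullback G.pU G.pU} (h : x₀ ≫ pp hpY = x₁ ≫ pp hpY)
    (v : Desc.Lifts (dd eP he cP hc hpb hpY).obj x₀) :
    ((dd eP he cP hc hpb hpY).φ x₀ x₁ h v).1 ≫ fR eP he cP hc hpb hpY Rb Θ =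
      v.1 ≫ fR eP he cP hc hpb hpY Rb Θ := by
  have hcomm := Θ.inv.comm x₀ x₁ h v (Desc.SchDD.Hom.push Θ.inv v) rfl
  have h2 : (((Desc.toDD (pp hpY)).obj Rb).φ x₀ x₁ h (Desc.SchDD.Hom.push Θ.inv v)).1 ≫
      pullback.snd (pp hpY) Rb.hom = (v.1 ≫ Θ.inv.hom.left) ≫ pullback.snd (pp hpY) Rb.hom := by
    show (Desc.canMap _ _ x₀ x₁ h _).1 ≫ _ = _
    rw [Desc.canMap_val, pullback.lift_snd]; rfl
  show _ ≫ (Θ.inv.hom.left ≫ pullback.snd (pp hpY) Rb.hom) =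
    v.1 ≫ (Θ.inv.hom.left ≫ pullback.snd (pp hpY) Rb.hom)
  exact (Category.assoc _ _ _).symm.trans
    ((congrArg (· ≫ pullback.snd (pp hpY) Rb.hom) hcomm.symm).trans
      (h2.trans (Category.assoc _ _ _)))

/-- Conjugation by arrows of `P` does not change the image in `R̄`. -/
theorem conj_fR {a b c d : Ob G T} (f : b ⟶ c) (h₁ : a.pt ≫ p = b.pt ≫ p)
    (h₂ : c.pt ≫ p = d.pt ≫ p) :
    (conj hpb f h₁ h₂).1 ≫ fR eP he cP hc hpb hpY Rb Θ = f.1 ≫ fR eP he cP hc hpb hpY Rb Θ := by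
  have hb : so (f.1 ≫ G.j) = b := Ob.ext' (by
    show (f.1 ≫ G.j) ≫ pullback.snd _ _ = b.pt
    rw [Category.assoc, j_snd]; exact hom_s f)
  have hc' : ta (f.1 ≫ G.j) = c := Ob.ext' (by
    show (f.1 ≫ G.j) ≫ pullback.fst _ _ = c.pt
    rw [Category.assoc, j_fst]; exact hom_t f)
  have ha : so ((conj hpb f h₁ h₂).1 ≫ G.j) = a := Ob.ext' (by
    show ((conj hpb f h₁ h₂).1 ≫ G.j) ≫ pullback.snd _ _ = a.pt
    rw [Category.assoc, j_snd]; exact hom_s _)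
  have hd : ta ((conj hpb f h₁ h₂).1 ≫ G.j) = d := Ob.ext' (by
    show ((conj hpb f h₁ h₂).1 ≫ G.j) ≫ pullback.fst _ _ = d.pt
    rw [Category.assoc, j_fst]; exact hom_t _)
  have h : (f.1 ≫ G.j) ≫ pp hpY = ((conj hpb f h₁ h₂).1 ≫ G.j) ≫ pp hpY :=
    pp_ext hpY (by rw [hc', hd]; exact h₂) (by rw [hb, ha]; exact h₁.symm)
  have key : (conj hpb (arr (⟨f.1, rfl⟩ : Desc.Lifts (Over.mk G.j) (f.1 ≫ G.j)))
      (so_p hpY h).symm (ta_p hpY h)).1 ≫ fR eP he cP hc hpb hpY Rb Θ =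
      f.1 ≫ fR eP he cP hc hpb hpY Rb Θ := dd_φ_fR eP he cP hc hpb hpY Rb Θ h ⟨f.1, rfl⟩
  refine Eq.trans (congrArg (· ≫ fR eP he cP hc hpb hpY Rb Θ) ?_) key
  exact conj_congr hpb ha.symm hb.symm hc'.symm hd.symm _ _ rfl _ _ _ _

/-- Two points of `R` with the same image in `R̄` are conjugate by arrows of `P`. -/
theorem exists_conj_of_fR_eq (v v' : T ⟶ G.R)
    (hv : v ≫ fR eP he cP hc hpb hpY Rb Θ = v' ≫ fR eP he cP hc hpb hpY Rb Θ) :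
    ∃ (h₁ : (v' ≫ G.s) ≫ p = (v ≫ G.s) ≫ p) (h₂ : (v ≫ G.t) ≫ p = (v' ≫ G.t) ≫ p),
      v' = (conj hpb (homMk v rfl rfl : (⟨v ≫ G.s⟩ : Ob G T) ⟶ ⟨v ≫ G.t⟩) h₁ h₂ :
        (⟨v' ≫ G.s⟩ : Ob G T) ⟶ ⟨v' ≫ G.t⟩).1 := by
  have hpbR := isPullback_fR eP he cP hc hpb hpY Rb Θ
  have h : (v ≫ G.j) ≫ pp hpY = (v' ≫ G.j) ≫ pp hpY := by
    rw [Category.assoc, Category.assoc, fR_comm eP he cP hc hpb hpY Rb Θ, ← Category.assoc,
      ← Category.assoc, hv]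
  have h₁ : (v' ≫ G.s) ≫ p = (v ≫ G.s) ≫ p := by
    have := congrArg (fun k => k ≫ pullback.snd pY pY) h
    simp only [Category.assoc, pp_snd] at this
    rw [← Category.assoc G.j, j_snd] at this
    simpa only [Category.assoc] using this.symm
  have h₂ : (v ≫ G.t) ≫ p = (v' ≫ G.t) ≫ p := by
    have := congrArg (fun k => k ≫ pullback.fst pY pY) h
    simp only [Category.assoc, pp_fst] at this
    rw [← Category.assoc G.j, j_fst] at this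
    simpa only [Category.assoc] using this
  refine ⟨h₁, h₂, ?_⟩
  apply hpbR.hom_ext
  · rw [conj_fR eP he cP hc hpb hpY Rb Θ]
    exact hv.symm
  · apply pullback.hom_ext
    · rw [Category.assoc, Category.assoc, j_fst]
      exact (hom_t (conj hpb (homMk v rfl rfl : (⟨v ≫ G.s⟩ : Ob G T) ⟶ ⟨v ≫ G.t⟩) h₁ h₂ :
        (⟨v' ≫ G.s⟩ : Ob G T) ⟶ ⟨v' ≫ G.t⟩)).symm
    · rw [Category.assoc, Category.assoc, j_snd]
      exact (hom_s (conj hpb (homMk v rfl rfl : (⟨v ≫ G.s⟩ : Ob G T) ⟶ ⟨v ≫ G.t⟩) h₁ h₂ :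
        (⟨v' ≫ G.s⟩ : Ob G T) ⟶ ⟨v' ≫ G.t⟩)).symm

end Groth.Agent.Lib.T2H7.SubGrpd
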