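import Mathlib
import Groth.Prelude.Def_Grpd
import Groth.Prelude.Def_Desc
import Groth.Agent.Lib.T2H7SubGrpdD

/-!
# The structure maps of the quotient groupoid `(Y, R̄)` (helper7)
-/

set_option autoImplicit false
set_option linter.style.haveILetI false
set_option linter.unusedSectionVars false
set_option linter.unusedVariables false
universe u

open CategoryTheory CategoryTheory.Limits AlgebraicGeometry
open Groth.Agent.Helper18Grpd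

namespace Groth.Agent.Lib.T2H7.SubGrpd

variable {S : Scheme.{u}} {G : Grpd.GroupoidScheme S} {P : Scheme.{u}} {ιP : P ⟶ G.R}
  (eP : G.U ⟶ P) (he : eP ≫ ιP = G.e) (iP : P ⟶ P) (hi : iP ≫ ιP = ιP ≫ G.i)
  (cP : pullback (ιP ≫ G.s) (ιP ≫ G.t) ⟶ P)
  (hc : cP ≫ ιP = pullback.map (ιP ≫ G.s) (ιP ≫ G.t) G.s G.t ιP ιP (𝟙 G.U)
    (Category.comp_id _) (Category.comp_id _) ≫ G.c)
  [Mono ιP]
  {Y : Scheme.{u}} {p : G.U ⟶ Y} (hpb : IsPullback (ιP ≫ G.t) (ιP ≫ G.s) p p)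
  {pY : Y ⟶ S} (hpY : p ≫ pY = G.pU)
  (Rb : Over (pullback pY pY))
  (Θ : (Desc.toDD (pp (G := G) hpY)).obj Rb ≅ dd eP he cP hc hpb hpY)

/-- Target map of the quotient groupoid. -/
noncomputable def tb : Rb.left ⟶ Y := Rb.hom ≫ pullback.fst pY pY

/-- Source map of the quotient groupoid. -/
noncomputable def sb : Rb.left ⟶ Y := Rb.hom ≫ pullback.snd pY pY

theorem fR_tb : fR eP he cP hc hpb hpY Rb Θ ≫ tb Rb = G.t ≫ p := by
  unfold tb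
  rw [← Category.assoc, ← fR_comm, Category.assoc, pp_fst, ← Category.assoc, j_fst]

theorem fR_sb : fR eP he cP hc hpb hpY Rb Θ ≫ sb Rb = G.s ≫ p := by
  unfold sb
  rw [← Category.assoc, ← fR_comm, Category.assoc, pp_snd, ← Category.assoc, j_snd]

section Cover

variable [Flat p] [Surjective p] [LocallyOfFinitePresentation p]

theorem flat_pp : Flat (pp (G := G) hpY) :=
  MorphismProperty.pullbackMap (P := @Flat) inferInstance inferInstance hpY.symm hpY.symm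

theorem surjective_pp : Surjective (pp (G := G) hpY) :=
  MorphismProperty.pullbackMap (P := @Surjective) inferInstance inferInstance hpY.symm hpY.symm

theorem lfp_pp : LocallyOfFinitePresentation (pp (G := G) hpY) :=
  MorphismProperty.pullbackMap (P := @LocallyOfFinitePresentation) inferInstance inferInstance hpY.symm hpY.symm

theorem flat_fR : Flat (fR eP he cP hc hpb hpY Rb Θ) :=
  MorphismProperty.of_isPullback (P := @Flat) (isPullback_fR eP he cP hc hpb hpY Rb Θ).flip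
    (flat_pp hpY)

theorem surjective_fR : Surjective (fR eP he cP hc hpb hpY Rb Θ) :=
  MorphismProperty.of_isPullback (P := @Surjective) (isPullback_fR eP he cP hc hpb hpY Rb Θ).flip
    (surjective_pp hpY)

theorem lfp_fR : LocallyOfFinitePresentation (fR eP he cP hc hpb hpY Rb Θ) :=
  MorphismProperty.of_isPullback (P := @LocallyOfFinitePresentation)
    (isPullback_fR eP he cP hc hpb hpY Rb Θ).flip (lfp_pp hpY)

end Cover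

/-! ### Identity -/

theorem eb_compat {Z : Scheme.{u}} (g₁ g₂ : Z ⟶ G.U) (h : g₁ ≫ p = g₂ ≫ p) :
    g₁ ≫ G.e ≫ fR eP he cP hc hpb hpY Rb Θ = g₂ ≫ G.e ≫ fR eP he cP hc hpb hpY Rb Θ := by
  have h1 := conj_fR eP he cP hc hpb hpY Rb Θ (𝟙 (⟨g₁⟩ : Ob G Z)) (a := ⟨g₂⟩) (d := ⟨g₂⟩)
    h.symm h
  rw [conj_id cP hc hpb, ρ_refl' eP he hpb, id_val, id_val] at h1
  simpa only [Category.assoc] using h1.symm

/-! ### Inverse -/

include hi in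
theorem ib_compat {Z : Scheme.{u}} (v v' : Z ⟶ G.R)
    (h : v ≫ fR eP he cP hc hpb hpY Rb Θ = v' ≫ fR eP he cP hc hpb hpY Rb Θ) :
    v ≫ G.i ≫ fR eP he cP hc hpb hpY Rb Θ = v' ≫ G.i ≫ fR eP he cP hc hpb hpY Rb Θ := by
  obtain ⟨h₁, h₂, hv'⟩ := exists_conj_of_fR_eq eP he cP hc hpb hpY Rb Θ v v' h
  have e1 : v' ≫ G.i = (Groupoid.inv (conj hpb
      (homMk v rfl rfl : (⟨v ≫ G.s⟩ : Ob G Z) ⟶ ⟨v ≫ G.t⟩) h₁ h₂ :
        (⟨v' ≫ G.s⟩ : Ob G Z) ⟶ ⟨v' ≫ G.t⟩)).1 := by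
    rw [inv_val, ← hv']
  rw [← Category.assoc, ← Category.assoc, e1, conj_inv iP hi hpb, conj_fR]
  rfl

/-! ### Composition -/

section Mid

variable {T : Scheme.{u}}

/-- Composition of two arrows whose middle points have the same image in the quotient. -/
noncomputable def mid {a b c d : Ob G T} (f₂ : a ⟶ b) (f₁ : c ⟶ d) (h : b.pt ≫ p = c.pt ≫ p) :
    a ⟶ d :=
  f₂ ≫ ρ hpb b c h ≫ f₁

theorem mid_congr {a a' b b' c c' d d' : Ob G T} (ha : a = a') (hb : b = b') (hc' : c = c')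
    (hd : d = d') (f₂ : a ⟶ b) (f₂' : a' ⟶ b') (h2 : f₂.1 = f₂'.1) (f₁ : c ⟶ d) (f₁' : c' ⟶ d')
    (h1 : f₁.1 = f₁'.1) (h : b.pt ≫ p = c.pt ≫ p) (h' : b'.pt ≫ p = c'.pt ≫ p) :
    (mid hpb f₂ f₁ h).1 = (mid hpb f₂' f₁' h').1 := by
  subst ha hb hc' hd
  have e2 : f₂ = f₂' := hom_ext' h2
  have e1 : f₁ = f₁' := hom_ext' h1
  subst e2 e1
  rfl

theorem mid_bc {T' : Scheme.{u}} (m : T' ⟶ T) {a b c d : Ob G T} (f₂ : a ⟶ b) (f₁ : c ⟶ d)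
    (h : b.pt ≫ p = c.pt ≫ p) :
    bcHom m (mid hpb f₂ f₁ h) = mid hpb (bcHom m f₂) (bcHom m f₁)
      (by rw [Ob.bc_pt, Ob.bc_pt, Category.assoc, Category.assoc, h]) := by
  unfold mid
  rw [bcHom_comp, bcHom_comp, ρ_bc]

include he in
theorem mid_eq_comp {a b c : Ob G T} (f₂ : a ⟶ b) (f₁ : b ⟶ c) (h : b.pt ≫ p = b.pt ≫ p) :
    mid hpb f₂ f₁ h = f₂ ≫ f₁ := by
  unfold mid
  rw [ρ_refl' eP he hpb, Category.id_comp]

include hc in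
theorem mid_conj {a b c d a' b' c' d' : Ob G T} (f₂ : a ⟶ b) (f₁ : c ⟶ d)
    (h₁ : a'.pt ≫ p = a.pt ≫ p) (h₂ : b.pt ≫ p = b'.pt ≫ p)
    (h₃ : c'.pt ≫ p = c.pt ≫ p) (h₄ : d.pt ≫ p = d'.pt ≫ p)
    (h : b'.pt ≫ p = c'.pt ≫ p) :
    mid hpb (conj hpb f₂ h₁ h₂) (conj hpb f₁ h₃ h₄) h =
      conj hpb (mid hpb f₂ f₁ (h₂.trans (h.trans h₃))) h₁ h₄ := by
  unfold mid conj
  simp only [Category.assoc]
  rw [ρ_trans_assoc cP hc hpb, ρ_trans_assoc cP hc hpb]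

end Mid

/-- The universal composable-up-to-`P` pair composed: an arrow over `R ×_Y R`. -/
noncomputable def midW :
    (⟨pullback.snd (G.s ≫ p) (G.t ≫ p) ≫ G.s⟩ : Ob G (pullback (G.s ≫ p) (G.t ≫ p))) ⟶
      ⟨pullback.fst (G.s ≫ p) (G.t ≫ p) ≫ G.t⟩ :=
  mid hpb (homMk (pullback.snd (G.s ≫ p) (G.t ≫ p)) rfl rfl :
      (⟨pullback.snd (G.s ≫ p) (G.t ≫ p) ≫ G.s⟩ : Ob G (pullback (G.s ≫ p) (G.t ≫ p))) ⟶
        ⟨pullback.snd (G.s ≫ p) (G.t ≫ p) ≫ G.t⟩)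
    (homMk (pullback.fst (G.s ≫ p) (G.t ≫ p)) rfl rfl :
      (⟨pullback.fst (G.s ≫ p) (G.t ≫ p) ≫ G.s⟩ : Ob G (pullback (G.s ≫ p) (G.t ≫ p))) ⟶
        ⟨pullback.fst (G.s ≫ p) (G.t ≫ p) ≫ G.t⟩)
    (by
      show (pullback.snd (G.s ≫ p) (G.t ≫ p) ≫ G.t) ≫ p =
        (pullback.fst (G.s ≫ p) (G.t ≫ p) ≫ G.s) ≫ p
      rw [Category.assoc, Category.assoc, pullback.condition])

theorem precomp_midW {T : Scheme.{u}} (w : T ⟶ pullback (G.s ≫ p) (G.t ≫ p))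
    (r₁ r₂ : T ⟶ G.R) (h₁ : w ≫ pullback.fst _ _ = r₁) (h₂ : w ≫ pullback.snd _ _ = r₂)
    (h : (r₂ ≫ G.t) ≫ p = (r₁ ≫ G.s) ≫ p) :
    w ≫ (midW hpb).1 = (mid hpb (homMk r₂ rfl rfl : (⟨r₂ ≫ G.s⟩ : Ob G T) ⟶ ⟨r₂ ≫ G.t⟩)
      (homMk r₁ rfl rfl : (⟨r₁ ≫ G.s⟩ : Ob G T) ⟶ ⟨r₁ ≫ G.t⟩) h).1 := by
  subst h₁ h₂
  have e0 : w ≫ (midW hpb).1 = (bcHom w (midW hpb)).1 := rfl
  rw [e0]
  have e1 := mid_bc hpb w
    (homMk (pullback.snd (G.s ≫ p) (G.t ≫ p)) rfl rfl :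
      (⟨pullback.snd (G.s ≫ p) (G.t ≫ p) ≫ G.s⟩ : Ob G (pullback (G.s ≫ p) (G.t ≫ p))) ⟶
        ⟨pullback.snd (G.s ≫ p) (G.t ≫ p) ≫ G.t⟩)
    (homMk (pullback.fst (G.s ≫ p) (G.t ≫ p)) rfl rfl :
      (⟨pullback.fst (G.s ≫ p) (G.t ≫ p) ≫ G.s⟩ : Ob G (pullback (G.s ≫ p) (G.t ≫ p))) ⟶
        ⟨pullback.fst (G.s ≫ p) (G.t ≫ p) ≫ G.t⟩)
    (by
      show (pullback.snd (G.s ≫ p) (G.t ≫ p) ≫ G.t) ≫ p =
        (pullback.fst (G.s ≫ p) (G.t ≫ p) ≫ G.s) ≫ p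
      rw [Category.assoc, Category.assoc, pullback.condition])
  have e2 : bcHom w (midW hpb) = _ := e1
  rw [e2]
  refine mid_congr hpb ?_ ?_ ?_ ?_ _ _ ?_ _ _ ?_ _ _
  · exact Ob.ext' (Category.assoc _ _ _).symm
  · exact Ob.ext' (Category.assoc _ _ _).symm
  · exact Ob.ext' (Category.assoc _ _ _).symm
  · exact Ob.ext' (Category.assoc _ _ _).symm
  · rfl
  · rfl

/-- The covering `R ×_Y R ⟶ R̄ ×_Y R̄`. -/
noncomputable def covW : pullback (G.s ≫ p) (G.t ≫ p) ⟶ pullback (sb Rb) (tb Rb) :=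
  pullback.map (G.s ≫ p) (G.t ≫ p) (sb Rb) (tb Rb)
    (fR eP he cP hc hpb hpY Rb Θ) (fR eP he cP hc hpb hpY Rb Θ) (𝟙 Y)
    ((Category.comp_id _).trans (fR_sb eP he cP hc hpb hpY Rb Θ).symm)
    ((Category.comp_id _).trans (fR_tb eP he cP hc hpb hpY Rb Θ).symm)

theorem covW_fst : covW eP he cP hc hpb hpY Rb Θ ≫ pullback.fst _ _ =
    pullback.fst _ _ ≫ fR eP he cP hc hpb hpY Rb Θ := by
  unfold covW; rw [pullback.lift_fst]

theorem covW_snd : covW eP he cP hc hpb hpY Rb Θ ≫ pullback.snd _ _ =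
    pullback.snd _ _ ≫ fR eP he cP hc hpb hpY Rb Θ := by
  unfold covW; rw [pullback.lift_snd]

theorem cb_compat {Z : Scheme.{u}} (w w' : Z ⟶ pullback (G.s ≫ p) (G.t ≫ p))
    (h : w ≫ covW eP he cP hc hpb hpY Rb Θ = w' ≫ covW eP he cP hc hpb hpY Rb Θ) :
    w ≫ (midW hpb).1 ≫ fR eP he cP hc hpb hpY Rb Θ =
      w' ≫ (midW hpb).1 ≫ fR eP he cP hc hpb hpY Rb Θ := by
  have hf : (w ≫ pullback.fst _ _) ≫ fR eP he cP hc hpb hpY Rb Θ =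
      (w' ≫ pullback.fst _ _) ≫ fR eP he cP hc hpb hpY Rb Θ := by
    have := congrArg (fun k => k ≫ pullback.fst _ _) h
    simpa only [Category.assoc, covW_fst] using this
  have hs : (w ≫ pullback.snd _ _) ≫ fR eP he cP hc hpb hpY Rb Θ =
      (w' ≫ pullback.snd _ _) ≫ fR eP he cP hc hpb hpY Rb Θ := by
    have := congrArg (fun k => k ≫ pullback.snd _ _) h
    simpa only [Category.assoc, covW_snd] using this
  obtain ⟨a₁, a₂, e1⟩ := exists_conj_of_fR_eq eP he cP hc hpb hpY Rb Θ _ _ hf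
  obtain ⟨b₁, b₂, e2⟩ := exists_conj_of_fR_eq eP he cP hc hpb hpY Rb Θ _ _ hs
  have cw : ∀ x : Z ⟶ pullback (G.s ≫ p) (G.t ≫ p),
      ((x ≫ pullback.snd _ _) ≫ G.t) ≫ p = ((x ≫ pullback.fst _ _) ≫ G.s) ≫ p := fun x => by
    simp only [Category.assoc]
    rw [pullback.condition]
  rw [← Category.assoc, ← Category.assoc, precomp_midW hpb w _ _ rfl rfl (cw w),
    precomp_midW hpb w' _ _ rfl rfl (cw w')]
  have key : mid hpb
      (homMk (w' ≫ pullback.snd _ _) rfl rfl :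
        (⟨(w' ≫ pullback.snd _ _) ≫ G.s⟩ : Ob G Z) ⟶ ⟨(w' ≫ pullback.snd _ _) ≫ G.t⟩)
      (homMk (w' ≫ pullback.fst _ _) rfl rfl :
        (⟨(w' ≫ pullback.fst _ _) ≫ G.s⟩ : Ob G Z) ⟶ ⟨(w' ≫ pullback.fst _ _) ≫ G.t⟩) (cw w') =
      mid hpb (conj hpb (homMk (w ≫ pullback.snd _ _) rfl rfl :
        (⟨(w ≫ pullback.snd _ _) ≫ G.s⟩ : Ob G Z) ⟶ ⟨(w ≫ pullback.snd _ _) ≫ G.t⟩) b₁ b₂)
      (conj hpb (homMk (w ≫ pullback.fst _ _) rfl rfl :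
        (⟨(w ≫ pullback.fst _ _) ≫ G.s⟩ : Ob G Z) ⟶ ⟨(w ≫ pullback.fst _ _) ≫ G.t⟩) a₁ a₂)
      (cw w') := by
    congr 1
    · exact hom_ext' e2
    · exact hom_ext' e1
  rw [key, mid_conj cP hc hpb, conj_fR]

end Groth.Agent.Lib.T2H7.SubGrpd
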