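import Mathlib
import Groth.Prelude.Def_Grpd
import Groth.Prelude.Def_Desc
import Groth.Agent.Lib.T2H7SubGrpdE

/-!
# Identity, inverse and composition of the quotient groupoid, and local lifting (helper7)
-/

set_option autoImplicit false
set_option linter.style.haveILetI false
set_option linter.unusedSectionVars false
set_option linter.unusedVariables false
universe u

open CategoryTheory CategoryTheory.Limits AlgebraicGeometry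
open Groth.Agent.Helper18Grpd

namespace Groth.Agent.Lib.T2H7.SubGrpd

variable {S : Scheme.{u}} {G : Grpd.GroupoidScheme S} {P : Scheme.{u}} {ιP : P ⟶ G.R}
  (eP : G.U ⟶ P) (he : eP ≫ ιP = G.e) (iP : P ⟶ P) (hi : iP ≫ ιP = ιP ≫ G.i)
  (cP : pullback (ιP ≫ G.s) (ιP ≫ G.t) ⟶ P)
  (hc : cP ≫ ιP = pullback.map (ιP ≫ G.s) (ιP ≫ G.t) G.s G.t ιP ιP (𝟙 G.U)
    (Category.comp_id _) (Category.comp_id _) ≫ G.c)
  [Mono ιP]
  {Y : Scheme.{u}} {p : G.U ⟶ Y} (hpb : IsPullback (ιP ≫ G.t) (ιP ≫ G.s) p p)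
  {pY : Y ⟶ S} (hpY : p ≫ pY = G.pU)
  (Rb : Over (pullback pY pY))
  (Θ : (Desc.toDD (pp (G := G) hpY)).obj Rb ≅ dd eP he cP hc hpb hpY)
  [Flat p] [Surjective p] [LocallyOfFinitePresentation p]

attribute [local instance] flat_fR surjective_fR lfp_fR

theorem flat_covW : Flat (covW eP he cP hc hpb hpY Rb Θ) :=
  MorphismProperty.pullbackMap (P := @Flat) (flat_fR eP he cP hc hpb hpY Rb Θ)
    (flat_fR eP he cP hc hpb hpY Rb Θ) (fR_sb eP he cP hc hpb hpY Rb Θ).symm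
    (fR_tb eP he cP hc hpb hpY Rb Θ).symm

theorem surjective_covW : Surjective (covW eP he cP hc hpb hpY Rb Θ) :=
  MorphismProperty.pullbackMap (P := @Surjective) (surjective_fR eP he cP hc hpb hpY Rb Θ)
    (surjective_fR eP he cP hc hpb hpY Rb Θ) (fR_sb eP he cP hc hpb hpY Rb Θ).symm
    (fR_tb eP he cP hc hpb hpY Rb Θ).symm

theorem lfp_covW : LocallyOfFinitePresentation (covW eP he cP hc hpb hpY Rb Θ) :=
  MorphismProperty.pullbackMap (P := @LocallyOfFinitePresentation)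
    (lfp_fR eP he cP hc hpb hpY Rb Θ) (lfp_fR eP he cP hc hpb hpY Rb Θ)
    (fR_sb eP he cP hc hpb hpY Rb Θ).symm (fR_tb eP he cP hc hpb hpY Rb Θ).symm

attribute [local instance] flat_covW surjective_covW lfp_covW

/-- Identity of the quotient groupoid. -/
noncomputable def eb : Y ⟶ Rb.left :=
  EffectiveEpi.desc p (G.e ≫ fR eP he cP hc hpb hpY Rb Θ)
    (fun g₁ g₂ h => eb_compat eP he cP hc hpb hpY Rb Θ g₁ g₂ h)

theorem p_eb : p ≫ eb eP he cP hc hpb hpY Rb Θ = G.e ≫ fR eP he cP hc hpb hpY Rb Θ :=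
  EffectiveEpi.fac _ _ _

/-- Inverse of the quotient groupoid. -/
noncomputable def ib : Rb.left ⟶ Rb.left :=
  EffectiveEpi.desc (fR eP he cP hc hpb hpY Rb Θ) (G.i ≫ fR eP he cP hc hpb hpY Rb Θ)
    (fun v v' h => ib_compat eP he iP hi cP hc hpb hpY Rb Θ v v' h)

theorem fR_ib : fR eP he cP hc hpb hpY Rb Θ ≫ ib eP he iP hi cP hc hpb hpY Rb Θ =
    G.i ≫ fR eP he cP hc hpb hpY Rb Θ :=
  EffectiveEpi.fac _ _ _

/-- Composition of the quotient groupoid. -/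
noncomputable def cb : pullback (sb Rb) (tb Rb) ⟶ Rb.left :=
  EffectiveEpi.desc (covW eP he cP hc hpb hpY Rb Θ)
    ((midW hpb).1 ≫ fR eP he cP hc hpb hpY Rb Θ)
    (fun w w' h => cb_compat eP he cP hc hpb hpY Rb Θ w w' h)

theorem covW_cb : covW eP he cP hc hpb hpY Rb Θ ≫ cb eP he cP hc hpb hpY Rb Θ =
    (midW hpb).1 ≫ fR eP he cP hc hpb hpY Rb Θ :=
  EffectiveEpi.fac _ _ _

variable {T : Scheme.{u}}

/-- The composition of the quotient groupoid on images of composable points of `R`. -/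
theorem cb_fR (a b : T ⟶ G.R) (h : a ≫ G.s = b ≫ G.t)
    (h' : (a ≫ fR eP he cP hc hpb hpY Rb Θ) ≫ sb Rb = (b ≫ fR eP he cP hc hpb hpY Rb Θ) ≫ tb Rb) :
    pullback.lift (a ≫ fR eP he cP hc hpb hpY Rb Θ) (b ≫ fR eP he cP hc hpb hpY Rb Θ) h' ≫
      cb eP he cP hc hpb hpY Rb Θ = cmp G a b h ≫ fR eP he cP hc hpb hpY Rb Θ := by
  have hw : a ≫ G.s ≫ p = b ≫ G.t ≫ p := by rw [← Category.assoc, h, Category.assoc]
  have e1 : pullback.lift (a ≫ fR eP he cP hc hpb hpY Rb Θ) (b ≫ fR eP he cP hc hpb hpY Rb Θ) h' =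
      pullback.lift a b hw ≫ covW eP he cP hc hpb hpY Rb Θ := by
    apply pullback.hom_ext
    · rw [pullback.lift_fst, Category.assoc, covW_fst, pullback.lift_fst_assoc]
    · rw [pullback.lift_snd, Category.assoc, covW_snd, pullback.lift_snd_assoc]
  have hcond : (b ≫ G.t) ≫ p = (a ≫ G.s) ≫ p := by rw [h]
  rw [e1, Category.assoc, covW_cb, ← Category.assoc,
    precomp_midW hpb _ a b (pullback.lift_fst _ _ _) (pullback.lift_snd _ _ _) hcond]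
  congr 1
  have e2 : (mid hpb (homMk b rfl rfl : (⟨b ≫ G.s⟩ : Ob G T) ⟶ ⟨b ≫ G.t⟩)
      (homMk a rfl rfl : (⟨a ≫ G.s⟩ : Ob G T) ⟶ ⟨a ≫ G.t⟩) hcond).1 =
      (mid hpb (homMk b rfl rfl : (⟨b ≫ G.s⟩ : Ob G T) ⟶ ⟨b ≫ G.t⟩)
      (homMk a h rfl : (⟨b ≫ G.t⟩ : Ob G T) ⟶ ⟨a ≫ G.t⟩) rfl).1 := by
    refine mid_congr hpb ?_ ?_ ?_ ?_ _ _ ?_ _ _ ?_ _ _
    · rfl
    · rfl
    · exact Ob.ext' h
    · rfl
    · rfl
    · rfl
  rw [e2, mid_eq_comp eP he hpb]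
  rfl

theorem lift_cb_precomp {T' : Scheme.{u}} (g : T' ⟶ T) (α β : T ⟶ Rb.left)
    (h : α ≫ sb Rb = β ≫ tb Rb) :
    g ≫ pullback.lift α β h ≫ cb eP he cP hc hpb hpY Rb Θ =
      pullback.lift (g ≫ α) (g ≫ β) (by rw [Category.assoc, Category.assoc, h]) ≫
        cb eP he cP hc hpb hpY Rb Θ := by
  rw [← Category.assoc]
  congr 1
  apply pullback.hom_ext
  · rw [Category.assoc, pullback.lift_fst, pullback.lift_fst]
  · rw [Category.assoc, pullback.lift_snd, pullback.lift_snd]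

theorem lift_cb_congr {α α' β β' : T ⟶ Rb.left} (hα : α = α') (hβ : β = β')
    (h : α ≫ sb Rb = β ≫ tb Rb) (h' : α' ≫ sb Rb = β' ≫ tb Rb) :
    pullback.lift α β h ≫ cb eP he cP hc hpb hpY Rb Θ =
      pullback.lift α' β' h' ≫ cb eP he cP hc hpb hpY Rb Θ := by
  subst hα hβ; rfl

/-- The workhorse: the composition of the quotient groupoid computed on local lifts. -/
theorem lift_cb_of_lifts {T' : Scheme.{u}} (g : T' ⟶ T) (α β : T ⟶ Rb.left)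
    (h : α ≫ sb Rb = β ≫ tb Rb) (a b : T' ⟶ G.R) (hab : a ≫ G.s = b ≫ G.t)
    (hα : g ≫ α = a ≫ fR eP he cP hc hpb hpY Rb Θ)
    (hβ : g ≫ β = b ≫ fR eP he cP hc hpb hpY Rb Θ) :
    g ≫ pullback.lift α β h ≫ cb eP he cP hc hpb hpY Rb Θ =
      cmp G a b hab ≫ fR eP he cP hc hpb hpY Rb Θ := by
  rw [lift_cb_precomp]
  have h' : (a ≫ fR eP he cP hc hpb hpY Rb Θ) ≫ sb Rb =
      (b ≫ fR eP he cP hc hpb hpY Rb Θ) ≫ tb Rb := by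
    rw [← hα, ← hβ, Category.assoc, Category.assoc, h]
  rw [lift_cb_congr eP he cP hc hpb hpY Rb Θ hα hβ _ h']
  exact cb_fR eP he cP hc hpb hpY Rb Θ a b hab h'

/-! ### Local lifting -/

theorem exists_lift₁ (α : T ⟶ Rb.left) :
    ∃ (T' : Scheme.{u}) (g : T' ⟶ T) (_ : Epi g) (a : T' ⟶ G.R),
      g ≫ α = a ≫ fR eP he cP hc hpb hpY Rb Θ :=
  ⟨pullback α (fR eP he cP hc hpb hpY Rb Θ), pullback.fst α (fR eP he cP hc hpb hpY Rb Θ),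
    inferInstance, pullback.snd α (fR eP he cP hc hpb hpY Rb Θ), pullback.condition⟩

theorem exists_adjust (b c₂ : T ⟶ G.R) (h : (b ≫ G.s) ≫ p = (c₂ ≫ G.t) ≫ p) :
    ∃ c : T ⟶ G.R, b ≫ G.s = c ≫ G.t ∧
      c ≫ fR eP he cP hc hpb hpY Rb Θ = c₂ ≫ fR eP he cP hc hpb hpY Rb Θ := by
  refine ⟨(conj hpb (homMk c₂ rfl rfl : (⟨c₂ ≫ G.s⟩ : Ob G T) ⟶ ⟨c₂ ≫ G.t⟩) rfl h.symm :
    (⟨c₂ ≫ G.s⟩ : Ob G T) ⟶ ⟨b ≫ G.s⟩).1, ?_, ?_⟩
  · exact (hom_t (conj hpb (homMk c₂ rfl rfl : (⟨c₂ ≫ G.s⟩ : Ob G T) ⟶ ⟨c₂ ≫ G.t⟩) rfl h.symm :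
      (⟨c₂ ≫ G.s⟩ : Ob G T) ⟶ ⟨b ≫ G.s⟩)).symm
  · rw [conj_fR]; rfl

theorem exists_lift₂ (α β : T ⟶ Rb.left) (h : α ≫ sb Rb = β ≫ tb Rb) :
    ∃ (T' : Scheme.{u}) (g : T' ⟶ T) (_ : Epi g) (a b : T' ⟶ G.R), a ≫ G.s = b ≫ G.t ∧
      g ≫ α = a ≫ fR eP he cP hc hpb hpY Rb Θ ∧ g ≫ β = b ≫ fR eP he cP hc hpb hpY Rb Θ := by
  obtain ⟨T₁, g₁, hg₁, a₁, ha₁⟩ := exists_lift₁ eP he cP hc hpb hpY Rb Θ α
  obtain ⟨T₂, g₂, hg₂, b₂, hb₂⟩ := exists_lift₁ eP he cP hc hpb hpY Rb Θ (g₁ ≫ β)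
  have hcond : ((g₂ ≫ a₁) ≫ G.s) ≫ p = (b₂ ≫ G.t) ≫ p := by
    rw [Category.assoc, ← fR_sb eP he cP hc hpb hpY Rb Θ, Category.assoc, ← Category.assoc a₁,
      ← ha₁, Category.assoc, Category.assoc, h, ← fR_tb eP he cP hc hpb hpY Rb Θ,
      ← Category.assoc b₂, ← hb₂, Category.assoc, Category.assoc]
  obtain ⟨b, hb, hbf⟩ := exists_adjust eP he cP hc hpb hpY Rb Θ (g₂ ≫ a₁) b₂ hcond
  refine ⟨T₂, g₂ ≫ g₁, epi_comp g₂ g₁, g₂ ≫ a₁, b, hb, ?_, ?_⟩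
  · rw [Category.assoc, ha₁, Category.assoc]
  · rw [Category.assoc, hb₂, hbf]

theorem exists_lift₃ (α β γ : T ⟶ Rb.left) (h₁ : α ≫ sb Rb = β ≫ tb Rb)
    (h₂ : β ≫ sb Rb = γ ≫ tb Rb) :
    ∃ (T' : Scheme.{u}) (g : T' ⟶ T) (_ : Epi g) (a b c : T' ⟶ G.R), a ≫ G.s = b ≫ G.t ∧
      b ≫ G.s = c ≫ G.t ∧ g ≫ α = a ≫ fR eP he cP hc hpb hpY Rb Θ ∧
      g ≫ β = b ≫ fR eP he cP hc hpb hpY Rb Θ ∧ g ≫ γ = c ≫ fR eP he cP hc hpb hpY Rb Θ := by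
  obtain ⟨T₁, g₁, hg₁, a₁, b₁, hab₁, ha₁, hb₁⟩ := exists_lift₂ eP he cP hc hpb hpY Rb Θ α β h₁
  obtain ⟨T₂, g₂, hg₂, c₂, hc₂⟩ := exists_lift₁ eP he cP hc hpb hpY Rb Θ (g₁ ≫ γ)
  have hcond : ((g₂ ≫ b₁) ≫ G.s) ≫ p = (c₂ ≫ G.t) ≫ p := by
    rw [Category.assoc, ← fR_sb eP he cP hc hpb hpY Rb Θ, Category.assoc, ← Category.assoc b₁,
      ← hb₁, Category.assoc, Category.assoc, h₂, ← fR_tb eP he cP hc hpb hpY Rb Θ,
      ← Category.assoc c₂, ← hc₂, Category.assoc, Category.assoc]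
  obtain ⟨c, hc', hcf⟩ := exists_adjust eP he cP hc hpb hpY Rb Θ (g₂ ≫ b₁) c₂ hcond
  refine ⟨T₂, g₂ ≫ g₁, epi_comp g₂ g₁, g₂ ≫ a₁, g₂ ≫ b₁, c, ?_, hc', ?_, ?_, ?_⟩
  · rw [Category.assoc, Category.assoc, hab₁]
  · rw [Category.assoc, ha₁, Category.assoc]
  · rw [Category.assoc, hb₁, Category.assoc]
  · rw [Category.assoc, hc₂, hcf]

end Groth.Agent.Lib.T2H7.SubGrpd
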