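import Mathlib
import Groth.Prelude.Def_Grpd
import Groth.Prelude.Def_Desc
import Groth.Agent.Lib.T2H7SubGrpdF

/-!
# The quotient groupoid scheme `(Y, R̄)` and the morphism `(U, R) ⟶ (Y, R̄)` (helper7)
-/

set_option autoImplicit false
set_option linter.style.haveILetI false
set_option linter.unusedSectionVars false
set_option linter.unusedVariables false
universe u

open CategoryTheory CategoryTheory.Limits AlgebraicGeometry
open Groth.Agent.Helper18Grpd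

namespace Groth.Agent.Lib.T2H7.SubGrpd

variable {S : Scheme.{u}} {G : Grpd.GroupoidScheme S} {P : Scheme.{u}} {ιP : P ⟶ G.R}
  (eP : G.U ⟶ P) (he : eP ≫ ιP = G.e) (iP : P ⟶ P) (hi : iP ≫ ιP = ιP ≫ G.i)
  (cP : pullback (ιP ≫ G.s) (ιP ≫ G.t) ⟶ P)
  (hc : cP ≫ ιP = pullback.map (ιP ≫ G.s) (ιP ≫ G.t) G.s G.t ιP ιP (𝟙 G.U)
    (Category.comp_id _) (Category.comp_id _) ≫ G.c)
  [Mono ιP]
  {Y : Scheme.{u}} {p : G.U ⟶ Y} (hpb : IsPullback (ιP ≫ G.t) (ιP ≫ G.s) p p)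
  {pY : Y ⟶ S} (hpY : p ≫ pY = G.pU)
  (Rb : Over (pullback pY pY))
  (Θ : (Desc.toDD (pp (G := G) hpY)).obj Rb ≅ dd eP he cP hc hpb hpY)
  [Flat p] [Surjective p] [LocallyOfFinitePresentation p]

attribute [local instance] flat_fR surjective_fR lfp_fR

variable {T : Scheme.{u}}

theorem qb_comp_s (α β : T ⟶ Rb.left) (h : α ≫ sb Rb = β ≫ tb Rb) :
    (pullback.lift α β h ≫ cb eP he cP hc hpb hpY Rb Θ) ≫ sb Rb = β ≫ sb Rb := by
  obtain ⟨T', g, hg, a, b, hab, ha, hb⟩ := exists_lift₂ eP he cP hc hpb hpY Rb Θ α β h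
  rw [← cancel_epi g, ← Category.assoc,
    lift_cb_of_lifts eP he cP hc hpb hpY Rb Θ g α β h a b hab ha hb, Category.assoc,
    fR_sb, ← Category.assoc, cmp_s, ← Category.assoc g, hb, Category.assoc, Category.assoc, fR_sb]

theorem qb_comp_t (α β : T ⟶ Rb.left) (h : α ≫ sb Rb = β ≫ tb Rb) :
    (pullback.lift α β h ≫ cb eP he cP hc hpb hpY Rb Θ) ≫ tb Rb = α ≫ tb Rb := by
  obtain ⟨T', g, hg, a, b, hab, ha, hb⟩ := exists_lift₂ eP he cP hc hpb hpY Rb Θ α β h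
  rw [← cancel_epi g, ← Category.assoc,
    lift_cb_of_lifts eP he cP hc hpb hpY Rb Θ g α β h a b hab ha hb, Category.assoc,
    fR_tb, ← Category.assoc, cmp_t, ← Category.assoc g, ha, Category.assoc, Category.assoc, fR_tb]

theorem qb_assoc (α β γ : T ⟶ Rb.left) (h₁ : α ≫ sb Rb = β ≫ tb Rb)
    (h₂ : β ≫ sb Rb = γ ≫ tb Rb) :
    pullback.lift (pullback.lift α β h₁ ≫ cb eP he cP hc hpb hpY Rb Θ) γ
        ((qb_comp_s eP he cP hc hpb hpY Rb Θ α β h₁).trans h₂) ≫ cb eP he cP hc hpb hpY Rb Θ =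
      pullback.lift α (pullback.lift β γ h₂ ≫ cb eP he cP hc hpb hpY Rb Θ)
        (h₁.trans (qb_comp_t eP he cP hc hpb hpY Rb Θ β γ h₂).symm) ≫
        cb eP he cP hc hpb hpY Rb Θ := by
  obtain ⟨T', g, hg, a, b, c, hab, hbc, ha, hb, hc'⟩ :=
    exists_lift₃ eP he cP hc hpb hpY Rb Θ α β γ h₁ h₂
  rw [← cancel_epi g]
  have e1 := lift_cb_of_lifts eP he cP hc hpb hpY Rb Θ g α β h₁ a b hab ha hb
  have e2 := lift_cb_of_lifts eP he cP hc hpb hpY Rb Θ g β γ h₂ b c hbc hb hc'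
  rw [lift_cb_of_lifts eP he cP hc hpb hpY Rb Θ g _ γ _ (cmp G a b hab) c
      ((cmp_s a b hab).trans hbc) e1 hc',
    lift_cb_of_lifts eP he cP hc hpb hpY Rb Θ g α _ _ a (cmp G b c hbc)
      (hab.trans (cmp_t b c hbc).symm) ha e2, cmp_assoc]

theorem qb_e_s : eb eP he cP hc hpb hpY Rb Θ ≫ sb Rb = 𝟙 Y := by
  rw [← cancel_epi p, ← Category.assoc, p_eb, Category.assoc, fR_sb, ← Category.assoc, G.e_s,
    Category.id_comp, Category.comp_id]

theorem qb_e_t : eb eP he cP hc hpb hpY Rb Θ ≫ tb Rb = 𝟙 Y := by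
  rw [← cancel_epi p, ← Category.assoc, p_eb, Category.assoc, fR_tb, ← Category.assoc, G.e_t,
    Category.id_comp, Category.comp_id]

theorem qb_comp_e (α : T ⟶ Rb.left)
    (h : α ≫ sb Rb = (α ≫ sb Rb ≫ eb eP he cP hc hpb hpY Rb Θ) ≫ tb Rb) :
    pullback.lift α (α ≫ sb Rb ≫ eb eP he cP hc hpb hpY Rb Θ) h ≫
      cb eP he cP hc hpb hpY Rb Θ = α := by
  obtain ⟨T', g, hg, a, ha⟩ := exists_lift₁ eP he cP hc hpb hpY Rb Θ α
  rw [← cancel_epi g]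
  have hb : g ≫ α ≫ sb Rb ≫ eb eP he cP hc hpb hpY Rb Θ =
      (a ≫ G.s ≫ G.e) ≫ fR eP he cP hc hpb hpY Rb Θ := by
    rw [← Category.assoc, ha, Category.assoc, ← Category.assoc _ (sb Rb), fR_sb, Category.assoc,
      p_eb, Category.assoc, Category.assoc]
  rw [lift_cb_of_lifts eP he cP hc hpb hpY Rb Θ g α _ h a (a ≫ G.s ≫ G.e)
    (by rw [Category.assoc, Category.assoc, G.e_t, Category.comp_id]) ha hb, cmp_e, ha]

theorem qb_e_comp (α : T ⟶ Rb.left)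
    (h : (α ≫ tb Rb ≫ eb eP he cP hc hpb hpY Rb Θ) ≫ sb Rb = α ≫ tb Rb) :
    pullback.lift (α ≫ tb Rb ≫ eb eP he cP hc hpb hpY Rb Θ) α h ≫
      cb eP he cP hc hpb hpY Rb Θ = α := by
  obtain ⟨T', g, hg, a, ha⟩ := exists_lift₁ eP he cP hc hpb hpY Rb Θ α
  rw [← cancel_epi g]
  have hb : g ≫ α ≫ tb Rb ≫ eb eP he cP hc hpb hpY Rb Θ =
      (a ≫ G.t ≫ G.e) ≫ fR eP he cP hc hpb hpY Rb Θ := by
    rw [← Category.assoc, ha, Category.assoc, ← Category.assoc _ (tb Rb), fR_tb, Category.assoc,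
      p_eb, Category.assoc, Category.assoc]
  rw [lift_cb_of_lifts eP he cP hc hpb hpY Rb Θ g _ α h (a ≫ G.t ≫ G.e) a
    (by rw [Category.assoc, Category.assoc, G.e_s, Category.comp_id]) hb ha, e_cmp, ha]

theorem qb_i_s : ib eP he iP hi cP hc hpb hpY Rb Θ ≫ sb Rb = tb Rb := by
  rw [← cancel_epi (fR eP he cP hc hpb hpY Rb Θ), ← Category.assoc, fR_ib, Category.assoc, fR_sb,
    ← Category.assoc, G.i_s, fR_tb]

theorem qb_i_t : ib eP he iP hi cP hc hpb hpY Rb Θ ≫ tb Rb = sb Rb := by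
  rw [← cancel_epi (fR eP he cP hc hpb hpY Rb Θ), ← Category.assoc, fR_ib, Category.assoc, fR_tb,
    ← Category.assoc, G.i_t, fR_sb]

theorem qb_comp_i (α : T ⟶ Rb.left)
    (h : α ≫ sb Rb = (α ≫ ib eP he iP hi cP hc hpb hpY Rb Θ) ≫ tb Rb) :
    pullback.lift α (α ≫ ib eP he iP hi cP hc hpb hpY Rb Θ) h ≫ cb eP he cP hc hpb hpY Rb Θ =
      α ≫ tb Rb ≫ eb eP he cP hc hpb hpY Rb Θ := by
  obtain ⟨T', g, hg, a, ha⟩ := exists_lift₁ eP he cP hc hpb hpY Rb Θ α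
  rw [← cancel_epi g]
  have hb : g ≫ α ≫ ib eP he iP hi cP hc hpb hpY Rb Θ =
      (a ≫ G.i) ≫ fR eP he cP hc hpb hpY Rb Θ := by
    rw [← Category.assoc, ha, Category.assoc, fR_ib, Category.assoc]
  rw [lift_cb_of_lifts eP he cP hc hpb hpY Rb Θ g α _ h a (a ≫ G.i)
    (by rw [Category.assoc, G.i_t]) ha hb, cmp_i, ← Category.assoc g, ha]
  simp only [Category.assoc]
  rw [← p_eb, ← Category.assoc G.t, ← fR_tb eP he cP hc hpb hpY Rb Θ, Category.assoc]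

theorem qb_i_comp (α : T ⟶ Rb.left)
    (h : (α ≫ ib eP he iP hi cP hc hpb hpY Rb Θ) ≫ sb Rb = α ≫ tb Rb) :
    pullback.lift (α ≫ ib eP he iP hi cP hc hpb hpY Rb Θ) α h ≫ cb eP he cP hc hpb hpY Rb Θ =
      α ≫ sb Rb ≫ eb eP he cP hc hpb hpY Rb Θ := by
  obtain ⟨T', g, hg, a, ha⟩ := exists_lift₁ eP he cP hc hpb hpY Rb Θ α
  rw [← cancel_epi g]
  have hb : g ≫ α ≫ ib eP he iP hi cP hc hpb hpY Rb Θ =
      (a ≫ G.i) ≫ fR eP he cP hc hpb hpY Rb Θ := by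
    rw [← Category.assoc, ha, Category.assoc, fR_ib, Category.assoc]
  rw [lift_cb_of_lifts eP he cP hc hpb hpY Rb Θ g _ α h (a ≫ G.i) a
    (by rw [Category.assoc, G.i_s]) hb ha, i_cmp, ← Category.assoc g, ha]
  simp only [Category.assoc]
  rw [← p_eb, ← Category.assoc G.s, ← fR_sb eP he cP hc hpb hpY Rb Θ, Category.assoc]

/-- The quotient groupoid scheme `(Y, R̄, s̄, t̄, c̄)`. -/
noncomputable def quotGrpd : Grpd.GroupoidScheme S where
  U := Y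
  R := Rb.left
  pU := pY
  pR := tb Rb ≫ pY
  s := sb Rb
  t := tb Rb
  e := eb eP he cP hc hpb hpY Rb Θ
  i := ib eP he iP hi cP hc hpb hpY Rb Θ
  c := cb eP he cP hc hpb hpY Rb Θ
  s_over := by
    unfold sb tb
    rw [Category.assoc, Category.assoc, pullback.condition]
  t_over := rfl
  comp_s α β h := qb_comp_s eP he cP hc hpb hpY Rb Θ α β h
  comp_t α β h := qb_comp_t eP he cP hc hpb hpY Rb Θ α β h
  assoc α β γ h₁ h₂ := qb_assoc eP he cP hc hpb hpY Rb Θ α β γ h₁ h₂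
  e_s := qb_e_s eP he cP hc hpb hpY Rb Θ
  e_t := qb_e_t eP he cP hc hpb hpY Rb Θ
  comp_e α := qb_comp_e eP he cP hc hpb hpY Rb Θ α _
  e_comp α := qb_e_comp eP he cP hc hpb hpY Rb Θ α _
  i_s := qb_i_s eP he iP hi cP hc hpb hpY Rb Θ
  i_t := qb_i_t eP he iP hi cP hc hpb hpY Rb Θ
  comp_i α := qb_comp_i eP he iP hi cP hc hpb hpY Rb Θ α _
  i_comp α := qb_i_comp eP he iP hi cP hc hpb hpY Rb Θ α _

/-- The morphism of groupoid schemes `(U, R) ⟶ (Y, R̄)`. -/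
noncomputable def quotHom :
    Grpd.GroupoidScheme.Hom G (quotGrpd eP he iP hi cP hc hpb hpY Rb Θ) where
  fU := p
  fR := fR eP he cP hc hpb hpY Rb Θ
  fU_over := hpY
  comm_s := fR_sb eP he cP hc hpb hpY Rb Θ
  comm_t := fR_tb eP he cP hc hpb hpY Rb Θ
  comm_c α β h := (cb_fR eP he cP hc hpb hpY Rb Θ α β h _).symm

theorem quotGrpd_j : (quotGrpd eP he iP hi cP hc hpb hpY Rb Θ).j = Rb.hom := by
  show pullback.lift (tb Rb) (sb Rb) _ = Rb.hom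
  apply pullback.hom_ext
  · rw [pullback.lift_fst]; rfl
  · rw [pullback.lift_snd]; rfl

theorem isPullback_quotHom :
    IsPullback (quotHom eP he iP hi cP hc hpb hpY Rb Θ).fR G.j
      (quotGrpd eP he iP hi cP hc hpb hpY Rb Θ).j
      (pullback.map G.pU G.pU (quotGrpd eP he iP hi cP hc hpb hpY Rb Θ).pU
        (quotGrpd eP he iP hi cP hc hpb hpY Rb Θ).pU
        (quotHom eP he iP hi cP hc hpb hpY Rb Θ).fU (quotHom eP he iP hi cP hc hpb hpY Rb Θ).fU (𝟙 S)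
        ((Category.comp_id _).trans (quotHom eP he iP hi cP hc hpb hpY Rb Θ).fU_over.symm)
        ((Category.comp_id _).trans (quotHom eP he iP hi cP hc hpb hpY Rb Θ).fU_over.symm)) := by
  rw [quotGrpd_j]
  exact isPullback_fR eP he cP hc hpb hpY Rb Θ

end Groth.Agent.Lib.T2H7.SubGrpd
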