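import Mathlib
import Groth.Prelude
import Groth.Agent.Lib.T2H7SyntColim
import Groth.Agent.Lib.T2H9SyntComp
import Groth.Agent.Lib.T2H9SyntSrc
import Groth.Agent.Lib.Helper26LimDescend3
import Groth.Agent.S9699
import Groth.Agent.S9363

/-!
# Syntomic morphisms descend along cofiltered limits of schemes (helper7)

* `sys_of_isColimit`: a filtered colimit of rings is a directed system in the sense of `Sys`.
* `exists_syntomic_stage`: syntomicity descends to a stage of a filtered colimit of rings.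
* `Psynt`: syntomic morphisms as a morphism property, stable under base change, local at the
  source and the target.
* `affCase2_syntomic`, `descend_syntomic`: descent of syntomicity to a stage of a limit.
-/

set_option autoImplicit false
set_option linter.unusedSectionVars false
set_option linter.unusedVariables false
set_option linter.style.haveILetI false

universe u

namespace Groth.Agent.Lib.T2H7.SyntLim

open CategoryTheory Limits TensorProduct AlgebraicGeometry Opposite
  Groth.Agent.Lib.Helper18ColimSys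

/-- the ring-hom form of syntomic -/
def Qs {R S : Type u} [CommRing R] [CommRing S] (φ : R →+* S) : Prop :=
  @Synt.IsSyntomic R _ S _ φ.toAlgebra

/-- a filtered colimit of rings under `A₀` is a directed system in the sense of `Sys` -/
theorem sys_of_isColimit {A₀ : Type u} [CommRing A₀] {J : Type u} [SmallCategory J] [IsFiltered J]
    (F : J ⥤ CommRingCat.{u}) (cF : Cocone F) (hcF : IsColimit cF)
    (α : (Functor.const J).obj (CommRingCat.of A₀) ⟶ F) (a : CommRingCat.of A₀ ⟶ cF.pt)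
    (ha : ∀ j, α.app j ≫ cF.ι.app j = a) :
    letI : ∀ j, Algebra A₀ (F.obj j) := fun j => RingHom.toAlgebra (R := A₀) (α.app j).hom
    letI : Algebra A₀ cF.pt := a.hom.toAlgebra
    Sys A₀ (fun j => (F.obj j : Type u)) cF.pt
      (fun j => { (cF.ι.app j).hom with commutes' := fun r => congr($(ha j).hom r) }) := by
  let _i1 : ∀ j, Algebra A₀ (F.obj j) := fun j => RingHom.toAlgebra (R := A₀) (α.app j).hom
  let _i2 : Algebra A₀ cF.pt := a.hom.toAlgebra
  have hnat : ∀ {i j : J} (f : i ⟶ j) (r : A₀), (F.map f).hom ((α.app i).hom r) = (α.app j).hom r := by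
    intro i j f r
    have := α.naturality f
    simp only [Functor.const_obj_obj, Functor.const_obj_map, Category.id_comp] at this
    exact (congr($(this).hom r)).symm
  refine ⟨IsFiltered.nonempty, ?_, ?_, ?_⟩
  · intro x
    obtain ⟨j, y, hy⟩ := Concrete.isColimit_exists_rep F hcF x
    exact ⟨j, y, hy⟩
  · intro i j
    refine ⟨IsFiltered.max i j,
      { (F.map (IsFiltered.leftToMax i j)).hom with commutes' := fun r => hnat _ r },
      { (F.map (IsFiltered.rightToMax i j)).hom with commutes' := fun r => hnat _ r }, ?_, ?_⟩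
    · ext x
      exact congr($(cF.w (IsFiltered.leftToMax i j)).hom x)
    · ext x
      exact congr($(cF.w (IsFiltered.rightToMax i j)).hom x)
  · intro i x hx
    obtain ⟨k, f, g, hfg⟩ := Concrete.isColimit_exists_of_rep_eq F hcF x (0 : F.obj i) (by
      have h0 : (cF.ι.app i).hom x = 0 := hx
      show (cF.ι.app i).hom x = (cF.ι.app i).hom 0
      rw [h0, map_zero])
    refine ⟨k, { (F.map f).hom with commutes' := fun r => hnat _ r }, ?_, ?_⟩
    · ext y
      exact congr($(cF.w f).hom y)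
    · show (F.map f).hom x = 0
      have : (F.map f).hom x = (F.map g).hom 0 := hfg
      rw [this, map_zero]

/-- syntomicity of the pushout leg in terms of the tensor product -/
theorem qs_iff_of_isPushout {R S T P : CommRingCat.{u}} {f : R ⟶ S} {g : R ⟶ T}
    {inl : S ⟶ P} {inr : T ⟶ P} (h : IsPushout f g inl inr) :
    Qs inr.hom ↔
      (letI := f.hom.toAlgebra; letI := g.hom.toAlgebra; Synt.IsSyntomic T (T ⊗[R] S)) := by
  algebraize [f.hom, g.hom, inl.hom, inr.hom, inl.hom.comp f.hom]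
  have : IsScalarTower R T P := .of_algebraMap_eq' <| congr($(h.1.1).hom)
  have h1 : Algebra.IsPushout R S T P := CommRingCat.isPushout_iff_isPushout.mp h
  have h2 : Algebra.IsPushout R T S P := h1.symm
  let e : T ⊗[R] S ≃ₐ[T] P := Algebra.IsPushout.equiv R T S P
  show Synt.IsSyntomic T P ↔ _
  exact ⟨fun hs => Groth.Agent.Lib.T2H9.SyntComp.isSyntomic_of_algEquiv T P (T ⊗[R] S) e.symm hs,
    fun hs => Groth.Agent.Lib.T2H9.SyntComp.isSyntomic_of_algEquiv T (T ⊗[R] S) P e hs⟩

/-- Core: syntomicity of `A ⊗ B₀` over the filtered colimit `A` descends to a stage. -/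
theorem exists_syntomic_stage_aux {A₀ B₀ : Type u} [CommRing A₀] [CommRing B₀] [Algebra A₀ B₀]
    [Algebra.FinitePresentation A₀ B₀]
    {J : Type u} [SmallCategory J] [IsFiltered J] (F : J ⥤ CommRingCat.{u}) (cF : Cocone F)
    (hcF : IsColimit cF)
    (α : (Functor.const J).obj (CommRingCat.of A₀) ⟶ F) (a : CommRingCat.of A₀ ⟶ cF.pt)
    (ha : ∀ j, α.app j ≫ cF.ι.app j = a)
    (hs : letI : Algebra A₀ cF.pt := a.hom.toAlgebra; Synt.IsSyntomic cF.pt (cF.pt ⊗[A₀] B₀)) :
    ∃ j, letI : Algebra A₀ (F.obj j) := RingHom.toAlgebra (R := A₀) (α.app j).hom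
      Synt.IsSyntomic (F.obj j) (F.obj j ⊗[A₀] B₀) := by
  letI : ∀ j, Algebra A₀ (F.obj j) := fun j => RingHom.toAlgebra (R := A₀) (α.app j).hom
  letI : Algebra A₀ cF.pt := a.hom.toAlgebra
  exact Groth.Agent.Lib.T2H7.SyntColim.core_syntomic (sys_of_isColimit F cF hcF α a ha) B₀ hs

/-- Syntomicity descends to a stage of a filtered colimit of rings (pushout form). -/
theorem exists_syntomic_stage {J : Type u} [SmallCategory J] [IsFiltered J]
    (F : J ⥤ CommRingCat.{u})
    (cF : Cocone F) (hcF : IsColimit cF) {A₀ B₀ : CommRingCat.{u}} (φ₀ : A₀ ⟶ B₀)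
    (hφ₀ : φ₀.hom.FinitePresentation) (α : (Functor.const J).obj A₀ ⟶ F) (a : A₀ ⟶ cF.pt)
    (ha : ∀ j, α.app j ≫ cF.ι.app j = a)
    {B : CommRingCat.{u}} (β : B₀ ⟶ B) (φ : cF.pt ⟶ B) (hpo : IsPushout φ₀ a β φ)
    (hs : Qs φ.hom) :
    ∃ j : J, ∀ {Bj : CommRingCat.{u}} (βj : B₀ ⟶ Bj) (φj : F.obj j ⟶ Bj),
      IsPushout φ₀ (α.app j) βj φj → Qs φj.hom := by
  letI : Algebra A₀ B₀ := φ₀.hom.toAlgebra
  have : Algebra.FinitePresentation A₀ B₀ := hφ₀
  have h1 := (qs_iff_of_isPushout hpo).mp hs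
  obtain ⟨j, hj⟩ := exists_syntomic_stage_aux (A₀ := A₀) (B₀ := B₀) F cF hcF α a ha h1
  exact ⟨j, fun βj φj hpoj => (qs_iff_of_isPushout hpoj).mpr hj⟩

/-- syntomic morphisms as a morphism property -/
def Psynt : MorphismProperty Scheme.{u} := fun _ _ f => Synt.IsSyntomicMor f

theorem psynt_iff {X Y : Scheme.{u}} (f : X ⟶ Y) : Psynt f ↔ Synt.IsSyntomicMor f := Iff.rfl

theorem appLE_top {X Y : Scheme.{u}} (f : X ⟶ Y) (e : (⊤ : X.Opens) ≤ f ⁻¹ᵁ ⊤) :
    f.appLE ⊤ ⊤ e = f.appTop := by
  simp [Scheme.Hom.appLE, Scheme.Hom.appTop]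

/-- for affine schemes, syntomic = syntomic on global sections -/
theorem isSyntomicMor_iff_of_isAffine {X Y : Scheme.{u}} [IsAffine X] [IsAffine Y] (f : X ⟶ Y) :
    Synt.IsSyntomicMor f ↔ Qs f.appTop.hom := by
  constructor
  · intro h
    have h1 := (Groth.Agent.S9363.result f).mp h ⟨⊤, isAffineOpen_top X⟩ ⟨⊤, isAffineOpen_top Y⟩
      le_top
    rw [appLE_top] at h1
    exact h1
  · intro h x
    refine ⟨⟨⊤, isAffineOpen_top X⟩, ⟨⊤, isAffineOpen_top Y⟩, le_top, trivial, ?_⟩
    rw [appLE_top]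
    exact h

instance : Psynt.{u}.IsStableUnderBaseChange where
  of_isPullback {X Y Y' S f g f' g'} sq hg := by
    rw [psynt_iff, Groth.Agent.Lib.T2H9.SyntMor.isSyntomicMor_iff_isCIMorphism] at hg ⊢
    obtain ⟨hfl, hfp, hci⟩ := hg
    have h1 : Flat g' := MorphismProperty.of_isPullback (P := @Flat) sq hfl
    have h2 : LocallyOfFinitePresentation g' :=
      MorphismProperty.of_isPullback (P := @LocallyOfFinitePresentation) sq hfp
    refine ⟨h1, h2, fun x' => ?_⟩
    exact (Groth.Agent.Lib.T2H9.CIBaseChange.isCI_fiberStalk_baseChange_iff sq x').mpr (hci _)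

theorem psynt_of_isOpenImmersion {X Y : Scheme.{u}} (f : X ⟶ Y) [IsOpenImmersion f] : Psynt f :=
  Groth.Agent.S9699.result f

instance : Psynt.{u}.IsMultiplicative where
  id_mem X := Groth.Agent.S9699.result (𝟙 X)
  comp_mem f g hf hg := Groth.Agent.Lib.T2H9.SyntSrc.isSyntomicMor_comp f g hf hg

instance : Psynt.{u}.RespectsRight @IsOpenImmersion where
  postcomp i hi f hf :=
    Groth.Agent.Lib.T2H9.SyntSrc.isSyntomicMor_comp f i hf (Groth.Agent.S9699.result i)

instance : IsZariskiLocalAtSource Psynt.{u} := by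
  refine IsZariskiLocalAtSource.mk' ?_ ?_
  · intro X Y f U hf
    exact Groth.Agent.Lib.T2H9.SyntSrc.isSyntomicMor_comp U.ι f (Groth.Agent.S9699.result U.ι) hf
  · intro X Y f ι U hU h
    refine Groth.Agent.Lib.T2H9.SyntSrc.isSyntomicMor_of_forall_exists_open f fun y => ?_
    have hy : y ∈ (⨆ i, U i : X.Opens) := by
      rw [hU]
      trivial
    obtain ⟨i, hi⟩ := TopologicalSpace.Opens.mem_iSup.mp hy
    exact ⟨U i, hi, h i⟩

instance : IsZariskiLocalAtTarget Psynt.{u} := by
  refine IsZariskiLocalAtTarget.mk' ?_ ?_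
  · intro X Y f U hf
    exact MorphismProperty.of_isPullback (P := Psynt) (isPullback_morphismRestrict f U).flip hf
  · intro X Y f ι U hU h
    refine IsZariskiLocalAtSource.of_iSup_eq_top (P := Psynt) (fun i => f ⁻¹ᵁ U i) ?_ fun i => ?_
    · rw [← Scheme.Hom.preimage_iSup, hU]
      rfl
    · rw [← morphismRestrict_ι]
      exact MorphismProperty.RespectsRight.postcomp (Q := @IsOpenImmersion) _ inferInstance _ (h i)


section Aff

open Groth.Agent.Lib.Helper26.LimDescend Groth.Agent.Lib.Helper22.LimBC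

variable {I : Type u} [SmallCategory I] [IsCofiltered I] (D : I ⥤ Scheme.{u}) (c : Cone D)
  [∀ {i j : I} (f : i ⟶ j), IsAffineHom (D.map f)]

/-- The affine case for syntomic morphisms. -/
theorem affCase2_syntomic (hc : IsLimit c) :
    AffCase2 D c @LocallyOfFinitePresentation Psynt := by
  intro i₀ X₀ Y₀ _ _ f₀ g₀ hQ X Y f g qY qX hY hX hf
  have : LocallyOfFinitePresentation f₀ := hQ
  have hπ : IsAffineHom (c.π.app i₀) := isAffineHom_π_app D c hc i₀
  have hqY : IsAffineHom qY := MorphismProperty.of_isPullback (P := @IsAffineHom) hY.flip hπ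
  have hqX : IsAffineHom qX := MorphismProperty.of_isPullback (P := @IsAffineHom) hX.flip hqY
  have hYa : IsAffine Y := isAffine_of_isAffineHom qY
  have hXa : IsAffine X := isAffine_of_isAffineHom qX
  have h1 : ∀ j, IsAffine ((bcDiagram D i₀ (f₀ ≫ g₀)).obj j) := fun j => by
    show IsAffine (pullback (f₀ ≫ g₀) (D.map j.hom))
    infer_instance
  have h2 : ∀ j, IsAffine ((bcDiagram D i₀ g₀).obj j) := fun j => by
    show IsAffine (pullback g₀ (D.map j.hom))
    infer_instance
  obtain ⟨hcF⟩ := nonempty_isColimit_Γ_mapCocone (bcDiagram D i₀ g₀) (bcCone i₀ hY)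
    (isLimitBcCone i₀ hY hc)
  let α : (Functor.const (Over i₀)ᵒᵖ).obj (Scheme.Γ.obj (op Y₀)) ⟶
      (bcDiagram D i₀ g₀).op ⋙ Scheme.Γ :=
    { app := fun j => (dFst D i₀ g₀ j.unop).appTop
      naturality := fun j k a => by
        show 𝟙 _ ≫ (dFst D i₀ g₀ k.unop).appTop =
          (dFst D i₀ g₀ j.unop).appTop ≫ ((bcDiagram D i₀ g₀).map a.unop).appTop
        rw [Category.id_comp, ← Scheme.Hom.comp_appTop, map_dFst] }
  obtain ⟨j, hj⟩ := exists_syntomic_stage
    ((bcDiagram D i₀ g₀).op ⋙ Scheme.Γ) (Scheme.Γ.mapCocone (bcCone i₀ hY).op) hcF f₀.appTop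
    (HasRingHomProperty.appTop (P := @LocallyOfFinitePresentation) f₀ inferInstance) α qY.appTop
    (fun j => by
      show (dFst D i₀ g₀ j.unop).appTop ≫ (bcπ i₀ hY j.unop).appTop = qY.appTop
      rw [← Scheme.Hom.comp_appTop, bcπ_fst])
    qX.appTop f.appTop (isPushout_appTop_of_isPullback hX)
    ((isSyntomicMor_iff_of_isAffine f).mp hf)
  refine ⟨j.unop, ?_⟩
  have := hj (dFst D i₀ (f₀ ≫ g₀) j.unop).appTop (bcMor D i₀ f₀ g₀ j.unop).appTop
    (isPushout_appTop_of_isPullback (isPullback_bcMor D i₀ f₀ g₀ j.unop))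
  exact (isSyntomicMor_iff_of_isAffine _).mpr this

set_option backward.isDefEq.respectTransparency.types false in
theorem isLocalSrc_lfp : IsZariskiLocalAtSource @LocallyOfFinitePresentation.{u} := inferInstance

set_option backward.isDefEq.respectTransparency.types false in
theorem isLocalTgt_lfp : IsZariskiLocalAtTarget @LocallyOfFinitePresentation.{u} := inferInstance

theorem descend_syntomic (hc : IsLimit c) (i₀ : I)
    {X₀ Y₀ : Scheme.{u}} (f₀ : X₀ ⟶ Y₀) (g₀ : Y₀ ⟶ D.obj i₀)
    [CompactSpace X₀] [LocallyOfFinitePresentation f₀]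
    {X Y : Scheme.{u}} (f : X ⟶ Y) (g : Y ⟶ c.pt) (qY : Y ⟶ Y₀) (qX : X ⟶ X₀)
    (hY : IsPullback qY g g₀ (c.π.app i₀)) (hX : IsPullback qX f f₀ qY)
    (hf : Synt.IsSyntomicMor f) :
    ∃ j : Over i₀, ∀ (k : Over i₀) (_ : k ⟶ j), Synt.IsSyntomicMor (bcMor D i₀ f₀ g₀ k) := by
  have := isLocalSrc_lfp.{u}
  have := isLocalTgt_lfp.{u}
  exact exists_forall_of_affCase2 (Q := @LocallyOfFinitePresentation) (P := Psynt)
    (affCase2_syntomic D c hc) i₀ f₀ g₀ inferInstance f g qY qX hY hX hf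

end Aff

end Groth.Agent.Lib.T2H7.SyntLim
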