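import Mathlib
import Groth.Prelude.Def_RegImm
import Groth.Agent.Lib.T2H7SyntN

/-!
# Lifting relative global complete intersections from `R/I` to `R` (helper7)

* `redF_snocF`: reduction modulo `I` commutes with adding the equation `h y - 1`.
* `nonempty_quotient_algEquiv`: if `h ≡ 1` modulo `I`, the reduction modulo `I` of
  `R[x,y]/(F, h y - 1)` is `(R/I)[x]/(F mod I)`.
-/

set_option autoImplicit false

universe u
open MvPolynomial TensorProduct

namespace Groth.Agent.Lib.T2H7.SyntO

open Groth.Agent.Lib.Helper4.FibDim Groth.Agent.Lib.T2H7.SyntI Groth.Agent.Lib.T2H7.SyntM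
open Groth.Agent.Lib.T2H7.SyntN

section Lift

variable {R : Type u} [CommRing R] {n c : ℕ} (F : Fin c → MvPolynomial (Fin n) R) (I : Ideal R)
  (h : MvPolynomial (Fin n) R)

/-- reduction modulo `I` commutes with adding the equation `h y - 1` -/
lemma redF_snocF : redF (snocF F h) I = snocF (redF F I) (MvPolynomial.map (Ideal.Quotient.mk I) h) := by
  funext j
  induction j using Fin.lastCases with
  | last =>
    rw [snocF_last]
    unfold redF
    rw [snocF_last, map_sub, map_mul, MvPolynomial.map_rename, MvPolynomial.map_X, map_one]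
  | cast i =>
    rw [snocF_castSucc]
    unfold redF
    rw [snocF_castSucc, MvPolynomial.map_rename]

/-- the reduction modulo `I` of the localized presentation, when `h ≡ 1` -/
theorem nonempty_quotient_algEquiv
    (h1 : Ideal.Quotient.mk (I.map (algebraMap R (MvPolynomial (Fin n) R ⧸ Ideal.span (Set.range F))))
        (Ideal.Quotient.mk (Ideal.span (Set.range F)) h) = 1) :
    Nonempty (((MvPolynomial (Fin (n + 1)) R ⧸ Ideal.span (Set.range (snocF F h))) ⧸
        I.map (algebraMap R (MvPolynomial (Fin (n + 1)) R ⧸ Ideal.span (Set.range (snocF F h)))))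
      ≃ₐ[R] (MvPolynomial (Fin n) (R ⧸ I) ⧸ Ideal.span (Set.range (redF F I)))) := by
  -- step 1: `T/IT ≃ (R/I)[x']/(red (snocF F h))`
  let e1 : ((MvPolynomial (Fin (n + 1)) R ⧸ Ideal.span (Set.range (snocF F h))) ⧸
        RingHom.ker (redHom (snocF F h) I).toRingHom) ≃ₐ[R]
      (MvPolynomial (Fin (n + 1)) (R ⧸ I) ⧸ Ideal.span (Set.range (redF (snocF F h) I))) :=
    Ideal.quotientKerAlgEquivOfSurjective (redHom_surjective (snocF F h) I)
  let e0 : ((MvPolynomial (Fin (n + 1)) R ⧸ Ideal.span (Set.range (snocF F h))) ⧸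
        I.map (algebraMap R (MvPolynomial (Fin (n + 1)) R ⧸ Ideal.span (Set.range (snocF F h)))))
      ≃ₐ[R] ((MvPolynomial (Fin (n + 1)) R ⧸ Ideal.span (Set.range (snocF F h))) ⧸
        RingHom.ker (redHom (snocF F h) I).toRingHom) :=
    Ideal.quotientEquivAlgOfEq R (ker_redHom (snocF F h) I).symm
  -- step 2: rewrite the equations
  let e2 : (MvPolynomial (Fin (n + 1)) (R ⧸ I) ⧸ Ideal.span (Set.range (redF (snocF F h) I)))
      ≃ₐ[R] (MvPolynomial (Fin (n + 1)) (R ⧸ I) ⧸ Ideal.span (Set.range
        (snocF (redF F I) (MvPolynomial.map (Ideal.Quotient.mk I) h)))) :=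
    Ideal.quotientEquivAlgOfEq R (by rw [redF_snocF])
  -- step 3: the localization over `R/I`
  let e3 := (locEquiv (redF F I) (MvPolynomial.map (Ideal.Quotient.mk I) h)).symm.restrictScalars R
  -- step 4: the localization is at a unit
  have hone : Ideal.Quotient.mk (Ideal.span (Set.range (redF F I)))
      (MvPolynomial.map (Ideal.Quotient.mk I) h) = 1 := by
    have h2 : Ideal.Quotient.mk (Ideal.span (Set.range F)) h - 1 ∈
        RingHom.ker (redHom F I).toRingHom := by
      rw [ker_redHom, ← Ideal.Quotient.eq_zero_iff_mem, map_sub, h1, map_one, sub_self]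
    have h3 : redHom F I (Ideal.Quotient.mk (Ideal.span (Set.range F)) h - 1) = 0 := h2
    rw [map_sub, map_one, sub_eq_zero] at h3
    exact h3
  have hle : Submonoid.powers (Ideal.Quotient.mk (Ideal.span (Set.range (redF F I)))
      (MvPolynomial.map (Ideal.Quotient.mk I) h)) ≤
      IsUnit.submonoid (MvPolynomial (Fin n) (R ⧸ I) ⧸ Ideal.span (Set.range (redF F I))) := by
    rw [Submonoid.powers_le, hone]
    exact isUnit_one
  let e4 := (IsLocalization.atUnits (MvPolynomial (Fin n) (R ⧸ I) ⧸ Ideal.span (Set.range (redF F I)))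
    (Submonoid.powers (Ideal.Quotient.mk (Ideal.span (Set.range (redF F I)))
      (MvPolynomial.map (Ideal.Quotient.mk I) h)))
    (S := Localization.Away (Ideal.Quotient.mk (Ideal.span (Set.range (redF F I)))
      (MvPolynomial.map (Ideal.Quotient.mk I) h))) hle).symm.restrictScalars R
  exact ⟨((e0.trans e1).trans e2).trans (e3.trans e4)⟩

end Lift

end Groth.Agent.Lib.T2H7.SyntO
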