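import Mathlib
import Groth.Prelude
import Groth.Agent.Lib.T2H7RelGCIApprox

/-!
# Syntomic source descent of lci morphisms, part A (helper7)

* `isRelGCI_baseChange`: relative global complete intersections are stable under base change.
* `isRelGCI_redF`: in particular under reduction modulo an ideal.
-/

set_option autoImplicit false
set_option linter.unusedSectionVars false
universe u
open MvPolynomial TensorProduct

namespace Groth.Agent.Lib.T2H7.SyntSrcA

open Groth.Agent.Lib.T2H7.RelGCIApprox Groth.Agent.Lib.Helper4.FibDim

variable {R : Type u} [CommRing R] {n c : ℕ} (F : Fin c → MvPolynomial (Fin n) R)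

/-- relative global complete intersections are stable under base change -/
theorem isRelGCI_baseChange (h : Synt.IsRelGCI R n c F) (S : Type u) [CommRing S] [Algebra R S] :
    Synt.IsRelGCI S n c (mapF R S F) := by
  have hfp : Algebra.FinitePresentation R (MvPolynomial (Fin n) R ⧸ Ideal.span (Set.range F)) :=
    Algebra.FinitePresentation.quotient (Submodule.fg_span (Set.finite_range F))
  apply isRelGCI_of_forall_fibLD_tensor
  intro Q
  rw [fibLD_tensor_map (MvPolynomial (Fin n) R ⧸ Ideal.span (Set.range F)) (Algebra.ofId R S) Q]
  have h' : Synt.IsRelGCI R n c (mapF R R F) := by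
    have : mapF R R F = F := by
      funext i
      simp only [mapF, Algebra.algebraMap_self]
      exact MvPolynomial.map_id (F i)
    rw [this]
    exact h
  exact forall_fibLD_tensor_of_isRelGCI F R h' _

/-- reduction modulo an ideal of a relative global complete intersection -/
theorem isRelGCI_redF (h : Synt.IsRelGCI R n c F) (I : Ideal R) :
    Synt.IsRelGCI (R ⧸ I) n c (Groth.Agent.Lib.T2H7.SyntM.redF F I) :=
  isRelGCI_baseChange F h (R ⧸ I)

end Groth.Agent.Lib.T2H7.SyntSrcA
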