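import Mathlib
import Groth.Prelude
import Groth.Agent.Lib.T2H7KRegH

/-!
# Syntomic source descent of lci morphisms, part B (helper7)

* `torsAt_of_kreg`: a Koszul-regular sequence has torsion Koszul homology for every element.
* `length_le_of_genAt`: a family generating, near a prime, an ideal generated there by a
  Koszul-regular sequence of length `r` has at least `r` members.
* `isKoszulRegularIdeal_map_of_sup`: if `J = I₀ + (F)` is a Koszul-regular ideal of `C`, `F` is a
  Koszul-regular sequence in `C` which stays Koszul-regular in `C / I₀`, then the image of `I₀`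
  in `C / (F)` is a Koszul-regular ideal.
-/

set_option autoImplicit false
set_option linter.unusedSectionVars false
universe u

namespace Groth.Agent.Lib.T2H7.SyntSrcB

open Groth.Agent.Lib.T2H7.KRegA Groth.Agent.Lib.T2H7.KRegB Groth.Agent.Lib.T2H7.KRegH
open Groth.Agent.Helper13Kz Groth.Agent.Helper13KzLift

variable {C : Type u} [CommRing C]

theorem torsAt_of_kreg (g : C) (l : List C) (h : LCI.IsKoszulRegularSeq C l) : TorsAt g l := by
  rw [isKoszulRegularSeq_iff] at h
  intro i hi z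
  have := h i hi
  exact ⟨0, Subsingleton.elim _ _⟩

/-- a family generating near `𝔮` an ideal generated near `𝔮` by a Koszul-regular sequence of
length `r` has at least `r` members -/
theorem length_le_of_genAt (𝔮 : Ideal C) [𝔮.IsPrime] (J : Ideal C) (hJ : J ≤ 𝔮) {r s : ℕ}
    (l : Fin r → C) (h : Fin s → C) (G G' : C) (hG : G ∉ 𝔮) (hG' : G' ∉ 𝔮)
    (hgen : GenAt G J (List.ofFn l)) (htors : TorsAt G (List.ofFn l))
    (hgen' : GenAt G' J (List.ofFn h)) : r ≤ s := by
  obtain ⟨S, -⟩ := sel 𝔮 J hJ l h G G' hG hG' hgen htors hgen'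
  simpa using Fintype.card_le_of_embedding S

section Main

variable {T Cb : Type u} [CommRing T] [CommRing Cb]

/-- splitting a list of indices of `Fin (r + c)` -/
theorem exists_split {r c : ℕ} (L : List (Fin (r + c))) (hnd : L.Nodup)
    (hall : ∀ i : Fin c, Fin.natAdd r i ∈ L) :
    ∃ LA : List (Fin r), LA.length + c = L.length ∧
      ∀ x : Fin (r + c), x ∈ L ↔ (∃ j ∈ LA, x = Fin.castAdd c j) ∨ ∃ i : Fin c, x = Fin.natAdd r i := by
  classical
  set LA' : List (Fin (r + c)) := L.filter (fun x : Fin (r + c) => decide ((x : ℕ) < r)) with hLA'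
  set LB : List (Fin (r + c)) := L.filter (fun x : Fin (r + c) => !decide ((x : ℕ) < r)) with hLB
  have hlen : LA'.length + LB.length = L.length :=
    (L.length_eq_length_filter_add (fun x : Fin (r + c) => decide ((x : ℕ) < r))).symm
  have hmemA : ∀ x : Fin (r + c), x ∈ LA' ↔ x ∈ L ∧ (x : ℕ) < r := by
    intro x
    rw [hLA', List.mem_filter, decide_eq_true_eq]
  have hmemB : ∀ x : Fin (r + c), x ∈ LB ↔ x ∈ L ∧ ¬ (x : ℕ) < r := by
    intro x
    rw [hLB, List.mem_filter]
    simp
  have hLBperm : LB.Perm (List.ofFn (fun i : Fin c => Fin.natAdd r i)) := by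
    rw [List.perm_ext_iff_of_nodup (hnd.filter _)
      (List.nodup_ofFn_ofInjective (fun a b hab => by simpa using hab))]
    intro x
    rw [hmemB, List.mem_ofFn']
    constructor
    · rintro ⟨-, hx⟩
      refine ⟨⟨(x : ℕ) - r, by omega⟩, ?_⟩
      apply Fin.ext
      simp only [Fin.natAdd_mk]
      omega
    · rintro ⟨i, rfl⟩
      exact ⟨hall i, by simp⟩
  have hLBlen : LB.length = c := by rw [hLBperm.length_eq, List.length_ofFn]
  have hlt : ∀ x : Fin (r + c), x ∈ LA' → (x : ℕ) < r := fun x hx => ((hmemA x).mp hx).2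
  refine ⟨LA'.pmap (fun (x : Fin (r + c)) (hx : (x : ℕ) < r) => (⟨(x : ℕ), hx⟩ : Fin r)) hlt, ?_, ?_⟩
  · rw [List.length_pmap]
    omega
  · intro x
    constructor
    · intro hx
      by_cases hxr : (x : ℕ) < r
      · left
        refine ⟨⟨(x : ℕ), hxr⟩, ?_, ?_⟩
        · rw [List.mem_pmap]
          exact ⟨x, (hmemA x).mpr ⟨hx, hxr⟩, rfl⟩
        · apply Fin.ext
          simp
      · right
        refine ⟨⟨(x : ℕ) - r, by omega⟩, ?_⟩
        apply Fin.ext
        simp only [Fin.natAdd_mk]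
        omega
    · rintro (⟨j, hj, rfl⟩ | ⟨i, rfl⟩)
      · rw [List.mem_pmap] at hj
        obtain ⟨y, hy, rfl⟩ := hj
        have h1 : Fin.castAdd c (⟨(y : ℕ), hlt y hy⟩ : Fin r) = y := by
          apply Fin.ext
          simp
        rw [h1]
        exact ((hmemA y).mp hy).1
      · exact hall i

/-- Let `π : C → T` be surjective with kernel generated by a Koszul-regular sequence `F`, and
`ρ : C → Cb` surjective such that the image of `F` is still Koszul-regular. If
`ker ρ + ker π` is a Koszul-regular ideal of `C`, then the image of `ker ρ` in `T` is a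
Koszul-regular ideal of `T`. -/
theorem isKoszulRegularIdeal_map_of_sup (π : C →+* T) (hπ : Function.Surjective π) {c : ℕ}
    (F : Fin c → C) (hker : RingHom.ker π = Ideal.ofList (List.ofFn F))
    (hF : LCI.IsKoszulRegularSeq C (List.ofFn F))
    (ρ : C →+* Cb) (hρ : Function.Surjective ρ)
    (hFb : LCI.IsKoszulRegularSeq Cb (List.ofFn (fun i => ρ (F i))))
    (hJ : LCI.IsKoszulRegularIdeal (RingHom.ker ρ ⊔ RingHom.ker π)) :
    LCI.IsKoszulRegularIdeal ((RingHom.ker ρ).map π) := by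
  classical
  rw [isKoszulRegularIdeal_iff] at hJ ⊢
  intro 𝔮 h𝔮 hle
  set J := RingHom.ker ρ ⊔ RingHom.ker π with hJdef
  set Q := 𝔮.comap π with hQ
  have hQp : Q.IsPrime := Ideal.comap_isPrime π 𝔮
  have hρQ : RingHom.ker ρ ≤ Q := Ideal.map_le_iff_le_comap.mp hle
  have hπQ : RingHom.ker π ≤ Q := fun x hx => by
    rw [hQ, Ideal.mem_comap, (RingHom.mem_ker).mp hx]
    exact 𝔮.zero_mem
  have hJQ : J ≤ Q := sup_le hρQ hπQ
  have hFπ : ∀ i, F i ∈ RingHom.ker π := fun i => by
    rw [hker]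
    exact Ideal.subset_span ((List.mem_ofFn' _ _).mpr ⟨i, rfl⟩)
  obtain ⟨G, hG, l, hgen, htors⟩ := hJ Q hQp hJQ
  obtain ⟨r, lf, rfl⟩ : ∃ (r : ℕ) (lf : Fin r → C), l = List.ofFn lf :=
    ⟨l.length, l.get, (List.ofFn_get l).symm⟩
  -- split the generators
  have hsplit : ∀ j : Fin r, ∃ (k : ℕ) (a b : C), a ∈ RingHom.ker ρ ∧ b ∈ RingHom.ker π ∧
      G ^ k * lf j = a + b := by
    intro j
    obtain ⟨k, hk⟩ := hgen.2 (lf j) ((List.mem_ofFn' _ _).mpr ⟨j, rfl⟩)
    obtain ⟨a, ha, b, hb, hab⟩ := Submodule.mem_sup.mp hk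
    exact ⟨k, a, b, ha, hb, hab.symm⟩
  choose k a b ha hb hab using hsplit
  set h : Fin (r + c) → C := Fin.append a F with hh
  have hhJ : ∀ x, h x ∈ J := by
    intro x
    induction x using Fin.addCases with
    | left j => rw [hh, Fin.append_left]; exact le_sup_left (a := RingHom.ker ρ) (ha j)
    | right i => rw [hh, Fin.append_right]; exact le_sup_right (a := RingHom.ker ρ) (hFπ i)
  have hgenh : GenAt G J (List.ofFn h) := by
    refine ⟨fun x hx => ?_, fun x hx => ?_⟩
    · obtain ⟨k₁, hk₁⟩ := hgen.1 x hx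
      have key : ∀ y ∈ List.ofFn lf, ∃ m : ℕ, G ^ m * y ∈ Ideal.ofList (List.ofFn h) := by
        intro y hy
        obtain ⟨j, rfl⟩ := (List.mem_ofFn' _ _).mp hy
        refine ⟨k j, ?_⟩
        rw [hab j]
        refine Ideal.add_mem _ ?_ ?_
        · refine Ideal.subset_span ((List.mem_ofFn' _ _).mpr ⟨Fin.castAdd c j, ?_⟩)
          rw [hh, Fin.append_left]
        · have hbm := hb j
          rw [hker] at hbm
          refine (Ideal.span_mono ?_) hbm
          intro z hz
          obtain ⟨i, rfl⟩ := (List.mem_ofFn' _ _).mp hz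
          refine (List.mem_ofFn' _ _).mpr ⟨Fin.natAdd r i, ?_⟩
          rw [hh, Fin.append_right]
      obtain ⟨m, hm⟩ := exists_pow_mul_mem_of_mem_ofList key hk₁
      refine ⟨m + k₁, ?_⟩
      rw [pow_add, mul_assoc]
      exact hm
    · obtain ⟨y, rfl⟩ := (List.mem_ofFn' _ _).mp hx
      exact ⟨0, by rw [pow_zero, one_mul]; exact hhJ y⟩
  obtain ⟨S, G₂, hG₂, hgen₂, htors₂⟩ := sel Q J hJQ lf h G G hG hG hgen htors hgenh
  -- every member of `F` is selected
  have hall : ∀ i : Fin c, Fin.natAdd r i ∈ List.ofFn S := by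
    intro i₀
    by_contra hi₀
    have hi₀' : ∀ t : Fin r, S t ≠ Fin.natAdd r i₀ := fun t ht =>
      hi₀ ((List.mem_ofFn' _ _).mpr ⟨t, ht⟩)
    obtain ⟨c', rfl⟩ : ∃ c', c = c' + 1 := ⟨c - 1, by have := i₀.2; omega⟩
    set Qb := Q.map ρ with hQb
    have hQbp : Qb.IsPrime := Ideal.map_isPrime_of_surjective hρ hρQ
    have hQbcomap : Qb.comap ρ = Q := Ideal.comap_map_of_surjective' ρ hρ Q ▸ by
      rw [sup_eq_left.mpr]
      exact hρQ
    set Jb := Ideal.ofList (List.ofFn (fun i => ρ (F i))) with hJb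
    have hJbQb : Jb ≤ Qb := by
      rw [hJb]
      refine Ideal.span_le.mpr ?_
      intro y hy
      obtain ⟨i, rfl⟩ := (List.mem_ofFn' _ _).mp hy
      exact Ideal.mem_map_of_mem ρ (hπQ (hFπ i))
    set hb' : Fin c' → Cb := fun t => ρ (F (i₀.succAbove t)) with hhb'
    have hone : (1 : Cb) ∉ Qb := fun h1 => hQbp.ne_top ((Ideal.eq_top_iff_one _).mpr h1)
    have hρG₂ : ρ G₂ ∉ Qb := by
      intro hmem
      apply hG₂
      rw [← hQbcomap]
      exact hmem
    have hgen1 : GenAt (1 : Cb) Jb (List.ofFn (fun i => ρ (F i))) :=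
      ⟨fun x hx => ⟨0, by rw [pow_zero, one_mul]; exact hx⟩,
        fun x hx => ⟨0, by rw [pow_zero, one_mul]; exact Ideal.subset_span hx⟩⟩
    have htors1 : TorsAt (1 : Cb) (List.ofFn (fun i => ρ (F i))) := torsAt_of_kreg _ _ hFb
    have hgen2 : GenAt (ρ G₂) Jb (List.ofFn hb') := by
      refine ⟨fun x hx => ?_, fun x hx => ?_⟩
      · refine exists_pow_mul_mem_of_mem_ofList (fun y hy => ?_) hx
        obtain ⟨i, rfl⟩ := (List.mem_ofFn' _ _).mp hy
        obtain ⟨m, hm⟩ := hgen₂.1 (F i) (le_sup_right (a := RingHom.ker ρ) (hFπ i))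
        refine ⟨m, ?_⟩
        have h1 := Ideal.mem_map_of_mem ρ hm
        rw [Ideal.map_ofList, map_mul, map_pow] at h1
        refine (Ideal.span_le.mpr ?_) h1
        intro z hz
        obtain ⟨w, hw, rfl⟩ := List.mem_map.mp hz
        obtain ⟨t, rfl⟩ := (List.mem_ofFn' _ _).mp hw
        show ρ (h (S t)) ∈ Ideal.ofList (List.ofFn hb')
        have hne := hi₀' t
        revert hne
        generalize S t = x
        intro hne
        induction x using Fin.addCases with
        | left j =>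
          rw [hh, Fin.append_left, (RingHom.mem_ker).mp (ha j)]
          exact Ideal.zero_mem _
        | right i' =>
          rw [hh, Fin.append_right]
          have hne' : i' ≠ i₀ := fun e => hne (by rw [e])
          obtain ⟨t', rfl⟩ := Fin.exists_succAbove_eq hne'
          exact Ideal.subset_span ((List.mem_ofFn' _ _).mpr ⟨t', rfl⟩)
      · obtain ⟨t, rfl⟩ := (List.mem_ofFn' _ _).mp hx
        exact ⟨0, by
          rw [pow_zero, one_mul]
          exact Ideal.subset_span ((List.mem_ofFn' _ _).mpr ⟨i₀.succAbove t, rfl⟩)⟩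
    have := length_le_of_genAt Qb Jb hJbQb (fun i => ρ (F i)) hb' 1 (ρ G₂) hone hρG₂ hgen1 htors1
      hgen2
    omega
  have hnd : (List.ofFn S).Nodup := List.nodup_ofFn_ofInjective S.injective
  obtain ⟨LA, hLAlen, hLAmem⟩ := exists_split (List.ofFn S) hnd hall
  rw [List.length_ofFn] at hLAlen
  set la : List C := LA.map a with hla
  set l₂ : List C := la ++ List.ofFn F with hl₂
  have hlaρ : ∀ x ∈ la, x ∈ RingHom.ker ρ := by
    intro x hx
    obtain ⟨j, -, rfl⟩ := List.mem_map.mp hx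
    exact ha j
  have hl₂len : l₂.length = (List.ofFn (h ∘ S)).length := by
    rw [hl₂, List.length_append, hla, List.length_map, List.length_ofFn, List.length_ofFn]
    exact hLAlen
  have hl₂eq : Ideal.ofList l₂ = Ideal.ofList (List.ofFn (h ∘ S)) := by
    apply le_antisymm
    · refine Ideal.span_le.mpr ?_
      intro x hx
      rcases List.mem_append.mp hx with hx | hx
      · obtain ⟨j, hj, rfl⟩ := List.mem_map.mp hx
        have : Fin.castAdd c j ∈ List.ofFn S := (hLAmem _).mpr (Or.inl ⟨j, hj, rfl⟩)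
        obtain ⟨t, ht⟩ := (List.mem_ofFn' _ _).mp this
        refine Ideal.subset_span ((List.mem_ofFn' _ _).mpr ⟨t, ?_⟩)
        rw [Function.comp_apply, ht, hh, Fin.append_left]
      · obtain ⟨i, rfl⟩ := (List.mem_ofFn' _ _).mp hx
        obtain ⟨t, ht⟩ := (List.mem_ofFn' _ _).mp (hall i)
        refine Ideal.subset_span ((List.mem_ofFn' _ _).mpr ⟨t, ?_⟩)
        rw [Function.comp_apply, ht, hh, Fin.append_right]
    · refine Ideal.span_le.mpr ?_
      intro x hx
      obtain ⟨t, rfl⟩ := (List.mem_ofFn' _ _).mp hx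
      have : S t ∈ List.ofFn S := (List.mem_ofFn' _ _).mpr ⟨t, rfl⟩
      rcases (hLAmem _).mp this with ⟨j, hj, hSt⟩ | ⟨i, hSt⟩
      · refine Ideal.subset_span (List.mem_append.mpr (Or.inl ?_))
        rw [Function.comp_apply, hSt, hh, Fin.append_left]
        exact List.mem_map.mpr ⟨j, hj, rfl⟩
      · refine Ideal.subset_span (List.mem_append.mpr (Or.inr ?_))
        rw [Function.comp_apply, hSt, hh, Fin.append_right]
        exact (List.mem_ofFn' _ _).mpr ⟨i, rfl⟩
  have htors₃ : TorsAt G₂ l₂ := by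
    refine torsAt_of_length_eq htors₂ (fun x hx => ⟨0, ?_⟩) (fun x hx => ⟨0, ?_⟩) hl₂len
    · rw [pow_zero, one_mul, ← hl₂eq]
      exact Ideal.subset_span hx
    · rw [pow_zero, one_mul, hl₂eq]
      exact Ideal.subset_span hx
  have htors₄ : TorsAt (π G₂) (la.map π) :=
    (torsAt_append_iff π hπ (List.ofFn F) la hker hF G₂).mp htors₃
  have hπG₂ : π G₂ ∉ 𝔮 := hG₂
  refine ⟨π G₂, hπG₂, la.map π, ⟨fun x' hx' => ?_, fun y hy => ?_⟩, htors₄⟩
  · obtain ⟨x, hx, rfl⟩ := (Ideal.mem_map_iff_of_surjective π hπ).mp hx'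
    obtain ⟨m, hm⟩ := hgen₂.1 x (le_sup_left (a := RingHom.ker ρ) hx)
    refine ⟨m, ?_⟩
    rw [← hl₂eq] at hm
    have h1 := Ideal.mem_map_of_mem π hm
    rw [Ideal.map_ofList, map_mul, map_pow] at h1
    refine (Ideal.span_le.mpr ?_) h1
    intro z hz
    obtain ⟨w, hw, rfl⟩ := List.mem_map.mp hz
    rcases List.mem_append.mp hw with hw | hw
    · exact Ideal.subset_span (List.mem_map.mpr ⟨w, hw, rfl⟩)
    · obtain ⟨i, rfl⟩ := (List.mem_ofFn' _ _).mp hw
      show π (F i) ∈ Ideal.ofList (la.map π)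
      rw [(RingHom.mem_ker).mp (hFπ i)]
      exact Ideal.zero_mem _
  · obtain ⟨x, hx, rfl⟩ := List.mem_map.mp hy
    exact ⟨0, by rw [pow_zero, one_mul]; exact Ideal.mem_map_of_mem π (hlaρ x hx)⟩

end Main

end Groth.Agent.Lib.T2H7.SyntSrcB
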