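import Mathlib
import Groth.Prelude
import Groth.Agent.Lib.T2H7KRegI
import Groth.Agent.Lib.T2H7KRegK

/-!
# Syntomic source descent of lci morphisms, part C (helper7)

* `kRegAt_of_flat`: if `P → T` is flat of finite presentation and `I T` is a Koszul-regular ideal
  of `T`, then `I` is generated by a Koszul-regular sequence near every prime of `P` in the image
  of `Spec T`.
-/

set_option autoImplicit false
set_option linter.unusedSectionVars false
set_option linter.style.haveILetI false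
universe u

namespace Groth.Agent.Lib.T2H7.SyntSrcC

open Groth.Agent.Lib.T2H7.KRegA Groth.Agent.Lib.T2H7.KRegB Groth.Agent.Lib.T2H7.KRegE
  Groth.Agent.Lib.T2H7.KRegI Groth.Agent.Lib.T2H7.KRegK

variable {P T : Type u} [CommRing P] [CommRing T] [Algebra P T]

theorem kRegAt_of_flat [Module.Flat P T] [Algebra.FinitePresentation P T] (I : Ideal P)
    (h : LCI.IsKoszulRegularIdeal (I.map (algebraMap P T))) (𝔮 : Ideal T) [h𝔮 : 𝔮.IsPrime]
    (hI : I ≤ 𝔮.comap (algebraMap P T)) : KRegAt I (𝔮.comap (algebraMap P T)) := by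
  classical
  set 𝔭 := 𝔮.comap (algebraMap P T) with h𝔭
  have h𝔭p : 𝔭.IsPrime := Ideal.comap_isPrime _ _
  have hopen : IsOpenMap (PrimeSpectrum.comap (algebraMap P T)) :=
    PrimeSpectrum.isOpenMap_comap_of_hasGoingDown_of_finitePresentation
  have hW : IsOpen (Set.range (PrimeSpectrum.comap (algebraMap P T))) := hopen.isOpen_range
  have hpW : (⟨𝔭, h𝔭p⟩ : PrimeSpectrum P) ∈ Set.range (PrimeSpectrum.comap (algebraMap P T)) :=
    ⟨⟨𝔮, h𝔮⟩, rfl⟩
  obtain ⟨_, ⟨h₀, rfl⟩, hp₀, hsub⟩ :=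
    PrimeSpectrum.isTopologicalBasis_basic_opens.exists_subset_of_mem_open hpW hW
  have hh₀ : h₀ ∉ 𝔭 := hp₀
  apply kRegAt_of_away h₀ I 𝔭 hh₀
  let P₀ := Localization.Away h₀
  let t₀ : T := algebraMap P T h₀
  let B := Localization.Away t₀
  have hu : IsUnit (algebraMap P B h₀) := by
    rw [IsScalarTower.algebraMap_apply P T B]
    exact IsLocalization.Away.algebraMap_isUnit t₀
  let ψ : P₀ →+* B := IsLocalization.Away.lift h₀ hu
  letI algB : Algebra P₀ B := ψ.toAlgebra
  have htow : IsScalarTower P P₀ B := by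
    refine IsScalarTower.of_algebraMap_eq' ?_
    ext x
    show algebraMap P B x = ψ (algebraMap P P₀ x)
    exact (IsLocalization.Away.lift_eq h₀ hu x).symm
  have hflatPB : Module.Flat P B := Module.Flat.trans P T B
  have hflat : Module.Flat P₀ B :=
    (Module.flat_iff_of_isLocalization P₀ (Submonoid.powers h₀) B).mpr hflatPB
  have hKR : LCI.IsKoszulRegularIdeal (I.map (algebraMap P P₀)) := by
    refine isKoszulRegularIdeal_of_family (fun _ : Unit => B) ?_ _ ?_
    · intro 𝔭₀ h𝔭₀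
      set 𝔭' := 𝔭₀.comap (algebraMap P P₀) with h𝔭'
      have h𝔭'p : 𝔭'.IsPrime := Ideal.comap_isPrime _ _
      have hh₀' : h₀ ∉ 𝔭' := by
        intro hmem
        exact h𝔭₀.ne_top (Ideal.eq_top_of_isUnit_mem _ hmem
          (IsLocalization.Away.algebraMap_isUnit h₀))
      obtain ⟨⟨𝔱, h𝔱⟩, h𝔱eq⟩ := hsub (show (⟨𝔭', h𝔭'p⟩ : PrimeSpectrum P) ∈
        (PrimeSpectrum.basicOpen h₀ : Set (PrimeSpectrum P)) from hh₀')
      have h𝔱c : 𝔱.comap (algebraMap P T) = 𝔭' := congrArg PrimeSpectrum.asIdeal h𝔱eq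
      have hdisj : Disjoint (Submonoid.powers t₀ : Set T) (𝔱 : Set T) := by
        rw [Ideal.disjoint_powers_iff_notMem_of_isPrime]
        intro hmem
        apply hh₀'
        rw [← h𝔱c]
        exact hmem
      have h𝔟p : (𝔱.map (algebraMap T B)).IsPrime :=
        IsLocalization.isPrime_of_isPrime_disjoint (Submonoid.powers t₀) B 𝔱 h𝔱 hdisj
      have h𝔟c : (𝔱.map (algebraMap T B)).comap (algebraMap T B) = 𝔱 :=
        IsLocalization.under_map_of_isPrime_disjoint (Submonoid.powers t₀) B h𝔱 hdisj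
      refine ⟨(), 𝔱.map (algebraMap T B), h𝔟p, ?_⟩
      have hinj := PrimeSpectrum.localization_comap_injective P₀ (Submonoid.powers h₀)
      have h1 : (⟨(𝔱.map (algebraMap T B)).comap (algebraMap P₀ B), Ideal.comap_isPrime _ _⟩ :
          PrimeSpectrum P₀) = ⟨𝔭₀, h𝔭₀⟩ := by
        apply hinj
        apply PrimeSpectrum.ext
        show ((𝔱.map (algebraMap T B)).comap (algebraMap P₀ B)).comap (algebraMap P P₀) = 𝔭'
        rw [Ideal.comap_comap, ← IsScalarTower.algebraMap_eq P P₀ B,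
          IsScalarTower.algebraMap_eq P T B, ← Ideal.comap_comap, h𝔟c, h𝔱c]
      exact congrArg PrimeSpectrum.asIdeal h1
    · intro _
      have hflatTB : Module.Flat T B := IsLocalization.flat B (Submonoid.powers t₀)
      have h2 := isKoszulRegularIdeal_map_of_flat (A := T) (B := B) _ h
      rw [Ideal.map_map, ← IsScalarTower.algebraMap_eq P T B] at h2
      rw [Ideal.map_map, ← IsScalarTower.algebraMap_eq P P₀ B]
      exact h2
  have hdisj : Disjoint (Submonoid.powers h₀ : Set P) (𝔭 : Set P) :=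
    (Ideal.disjoint_powers_iff_notMem_of_isPrime h₀).mpr hh₀
  have hprime : (𝔭.map (algebraMap P P₀)).IsPrime :=
    IsLocalization.isPrime_of_isPrime_disjoint (Submonoid.powers h₀) P₀ 𝔭 h𝔭p hdisj
  exact (isKoszulRegularIdeal_iff _).mp hKR _ hprime (Ideal.map_mono hI)

end Groth.Agent.Lib.T2H7.SyntSrcC
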