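import Mathlib
import Groth.Prelude
import Groth.Agent.Lib.T2H7SyntSrcA
import Groth.Agent.Lib.T2H7SyntSrcB
import Groth.Agent.Lib.T2H7SyntSrcC
import Groth.Agent.Lib.T2H7KRegN
import Groth.Agent.S9269
import Groth.Agent.S9254
import Groth.Agent.S9147
import Groth.Agent.S9150
import Groth.Agent.Lib.T2H7StdSynt

/-!
# Syntomic source descent of lci morphisms, part D (helper7)

* `kreg_map_of_isLCI_quot`: for a relative global complete intersection `T` over a polynomial ring
  `P = R[x]` and an ideal `I` of `P`, if `T / I T` is lci over `R`, then `I T` is a Koszul-regular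
  ideal of `T`.
-/

set_option autoImplicit false
set_option linter.unusedSectionVars false
set_option linter.style.haveILetI false
universe u
open MvPolynomial

namespace Groth.Agent.Lib.T2H7.SyntSrcD

open Groth.Agent.Lib.T2H7.KRegA Groth.Agent.Lib.T2H7.KRegB Groth.Agent.Lib.T2H7.KRegH
  Groth.Agent.Lib.T2H7.KRegI Groth.Agent.Lib.T2H7.KRegN Groth.Agent.Lib.T2H7.SyntSrcA
  Groth.Agent.Lib.T2H7.SyntSrcB Groth.Agent.Lib.T2H7.SyntSrcC

section D0
variable {R C T Cb D : Type u} [CommRing R] [CommRing C] [CommRing T] [CommRing Cb] [CommRing D]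
  [Algebra R C] [Algebra R D]

/-- abstract form: `C` a polynomial ring over `R`, `T = C / (F)`, `D = T / (ker ρ) T` -/
theorem kreg_map_of_isLCI_abstract (π : C →+* T) (hπ : Function.Surjective π)
    (ρ : C →+* Cb) (hρ : Function.Surjective ρ) (π₂ : T →+* D)
    (hkerπ₂ : RingHom.ker π₂ = (RingHom.ker ρ).map π)
    (χ₀ : C →ₐ[R] D) (hχ₀ : ∀ x, χ₀ x = π₂ (π x)) (hχ₀s : Function.Surjective χ₀)
    {m : ℕ} (θ : MvPolynomial (Fin m) R ≃ₐ[R] C) {c : ℕ} (F : Fin c → C)
    (hkerπ : RingHom.ker π = Ideal.ofList (List.ofFn F))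
    (hFk : LCI.IsKoszulRegularSeq C (List.ofFn F))
    (hFb : LCI.IsKoszulRegularSeq Cb (List.ofFn (fun i => ρ (F i))))
    (h : LCI.IsLCI R D) : LCI.IsKoszulRegularIdeal ((RingHom.ker ρ).map π) := by
  classical
  obtain ⟨hft, n₁, α₁, hα₁, hK⟩ := h
  let β : MvPolynomial (Fin m) R →ₐ[R] D := χ₀.comp θ.toAlgHom
  have hβ : Function.Surjective β := hχ₀s.comp θ.surjective
  have hKβ : LCI.IsKoszulRegularIdeal (RingHom.ker β.toRingHom) :=
    Groth.Agent.S9269.result R D n₁ m α₁ hα₁ β hβ hK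
  have hKχ : LCI.IsKoszulRegularIdeal (RingHom.ker χ₀.toRingHom) := by
    have h1 := isKoszulRegularIdeal_comap_of_bijective (θ.symm : C →+* MvPolynomial (Fin m) R)
      θ.symm.bijective _ hKβ
    have h2 : (RingHom.ker β.toRingHom).comap (θ.symm : C →+* MvPolynomial (Fin m) R) =
        RingHom.ker χ₀.toRingHom := by
      ext x
      simp only [Ideal.mem_comap, RingHom.mem_ker]
      show χ₀ (θ (θ.symm x)) = 0 ↔ χ₀ x = 0
      rw [AlgEquiv.apply_symm_apply]
    rwa [h2] at h1
  have hkerχ : RingHom.ker χ₀.toRingHom = RingHom.ker ρ ⊔ RingHom.ker π := by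
    have h1 : RingHom.ker χ₀.toRingHom = (RingHom.ker π₂).comap π := by
      ext x
      rw [Ideal.mem_comap, RingHom.mem_ker, RingHom.mem_ker]
      show χ₀ x = 0 ↔ π₂ (π x) = 0
      rw [hχ₀]
    rw [h1, hkerπ₂, Ideal.comap_map_of_surjective' π hπ]
  rw [hkerχ] at hKχ
  exact isKoszulRegularIdeal_map_of_sup π hπ F hkerπ hFk ρ hρ hFb hKχ

end D0

section D1
variable {R : Type u} [CommRing R] {n N c : ℕ}
  (F : Fin c → MvPolynomial (Fin N) (MvPolynomial (Fin n) R))
  (hF : Synt.IsRelGCI (MvPolynomial (Fin n) R) N c F) (I : Ideal (MvPolynomial (Fin n) R))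

local notation "PP" => MvPolynomial (Fin n) R
local notation "CC" => MvPolynomial (Fin N) (MvPolynomial (Fin n) R)
local notation "TT" => Synt.RelGCIRing (MvPolynomial (Fin n) R) N c F
local notation "CB" => MvPolynomial (Fin N) (MvPolynomial (Fin n) R ⧸ I)
local notation "IT" => Ideal.map (algebraMap (MvPolynomial (Fin n) R)
  (Synt.RelGCIRing (MvPolynomial (Fin n) R) N c F)) I
local notation "DD" => Synt.RelGCIRing (MvPolynomial (Fin n) R) N c F ⧸
  Ideal.map (algebraMap (MvPolynomial (Fin n) R) (Synt.RelGCIRing (MvPolynomial (Fin n) R) N c F)) I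

include hF in
theorem kreg_map_of_isLCI_quot (h : LCI.IsLCI R DD) : LCI.IsKoszulRegularIdeal IT := by
  obtain ⟨π, hπdef⟩ : ∃ π : CC →+* TT, π = Ideal.Quotient.mk (Ideal.span (Set.range F)) := ⟨_, rfl⟩
  obtain ⟨ρ, hρdef⟩ : ∃ ρ : CC →+* CB, ρ = MvPolynomial.map (Ideal.Quotient.mk I) := ⟨_, rfl⟩
  obtain ⟨π₂, hπ₂def⟩ : ∃ π₂ : TT →+* DD, π₂ = Ideal.Quotient.mk IT := ⟨_, rfl⟩
  have hπ : Function.Surjective π := by rw [hπdef]; exact Ideal.Quotient.mk_surjective
  have hρ : Function.Surjective ρ := by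
    rw [hρdef]
    exact MvPolynomial.map_surjective (Ideal.Quotient.mk I) Ideal.Quotient.mk_surjective
  have hFk : LCI.IsKoszulRegularSeq CC (List.ofFn F) :=
    Groth.Agent.S9254.result (MvPolynomial (Fin n) R) N c F hF
  have hFb : LCI.IsKoszulRegularSeq CB (List.ofFn (fun i => ρ (F i))) := by
    rw [hρdef]
    exact Groth.Agent.S9254.result (MvPolynomial (Fin n) R ⧸ I) N c _ (isRelGCI_redF F hF I)
  have hkerρ : RingHom.ker ρ = I.map (MvPolynomial.C : PP →+* CC) := by
    rw [hρdef]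
    have := MvPolynomial.ker_map (σ := Fin N) (Ideal.Quotient.mk I)
    rw [Ideal.mk_ker] at this
    exact this
  have hIT : IT = (RingHom.ker ρ).map π := by
    rw [hkerρ, Ideal.map_map, hπdef]
    rfl
  have hkerπ₂ : RingHom.ker π₂ = (RingHom.ker ρ).map π := by
    rw [hπ₂def, Ideal.mk_ker, hIT]
  have hkerπ : RingHom.ker π = Ideal.ofList (List.ofFn F) := by
    rw [hπdef, ofList_ofFn']
    exact Ideal.mk_ker
  obtain ⟨χ₀, hχ₀⟩ : ∃ χ₀ : CC →ₐ[R] DD, ∀ x, χ₀ x = π₂ (π x) := by
    refine ⟨(Ideal.Quotient.mkₐ R IT).comp (Ideal.Quotient.mkₐ R (Ideal.span (Set.range F))), ?_⟩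
    intro x
    rw [hπ₂def, hπdef]
    rfl
  have hπ₂s : Function.Surjective π₂ := by rw [hπ₂def]; exact Ideal.Quotient.mk_surjective
  have hχ₀s : Function.Surjective χ₀ := by
    intro d
    obtain ⟨t, rfl⟩ := hπ₂s d
    obtain ⟨x, rfl⟩ := hπ t
    exact ⟨x, hχ₀ x⟩
  rw [hIT]
  have key := @kreg_map_of_isLCI_abstract R CC TT CB DD _ _ _ _ _ _ _ π hπ ρ hρ π₂
  exact key hkerπ₂ χ₀ hχ₀ hχ₀s ((MvPolynomial.renameEquiv R finSumFinEquiv.symm).trans
      (MvPolynomial.sumAlgEquiv R (Fin N) (Fin n))) F hkerπ hFk hFb h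

end D1

section D2
variable {R A A' : Type u} [CommRing R] [CommRing A] [CommRing A'] [Algebra R A] [Algebra A A']
  [Algebra R A'] [IsScalarTower R A A']

/-- the core of the descent: Koszul-regularity of the kernel of a presentation near the image of
a point of a syntomic algebra which is lci over the base -/
theorem kRegAt_ker_of_syntomic {n : ℕ} (α : MvPolynomial (Fin n) R →ₐ[R] A)
    (hα : Function.Surjective α) (hsyn : Synt.IsSyntomic A A') (hlci : LCI.IsLCI R A')
    (𝔮 : Ideal A') [h𝔮 : 𝔮.IsPrime] :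
    KRegAt (RingHom.ker α.toRingHom) ((𝔮.comap (algebraMap A A')).comap α.toRingHom) := by
  classical
  set I := RingHom.ker α.toRingHom with hI
  let e : (MvPolynomial (Fin n) R ⧸ I) ≃ₐ[R] A := Ideal.quotientKerAlgEquivOfSurjective hα
  letI algPA' : Algebra (MvPolynomial (Fin n) R) A' :=
    ((algebraMap A A').comp α.toRingHom).toAlgebra
  letI algQA' : Algebra (MvPolynomial (Fin n) R ⧸ I) A' :=
    ((algebraMap A A').comp (e : (MvPolynomial (Fin n) R ⧸ I) →+* A)).toAlgebra
  have tow : IsScalarTower (MvPolynomial (Fin n) R) (MvPolynomial (Fin n) R ⧸ I) A' :=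
    @IsScalarTower.of_algebraMap_eq (MvPolynomial (Fin n) R) (MvPolynomial (Fin n) R ⧸ I) A'
      _ _ _ _ _ _ (fun x => rfl)
  have hsyn' : Synt.IsSyntomic (MvPolynomial (Fin n) R ⧸ I) A' := by
    refine Groth.Agent.Lib.T2H7.StdSynt.isSyntomic_of_ringEquiv
      (A := MvPolynomial (Fin n) R ⧸ I) (B := A') (A' := A) (B' := A')
      e.symm.toRingEquiv (RingEquiv.refl A') ?_ hsyn
    intro a
    show algebraMap A A' a = algebraMap A A' (e (e.symm a))
    rw [AlgEquiv.apply_symm_apply]
  obtain ⟨s, hs, hall⟩ := Groth.Agent.S9150.result (MvPolynomial (Fin n) R) I A' hsyn'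
  obtain ⟨g, hgs, hg⟩ : ∃ g ∈ s, g ∉ 𝔮 := by
    by_contra hcon
    simp only [not_exists, not_and, not_not] at hcon
    have : Ideal.span (s : Set A') ≤ 𝔮 := Ideal.span_le.mpr fun x hx => hcon x hx
    rw [hs] at this
    exact h𝔮.ne_top (top_le_iff.mp this)
  obtain ⟨N, c, F, hF, ⟨ε⟩⟩ := hall g hgs
  -- notation
  obtain ⟨hflat, hfp, -⟩ := Groth.Agent.S9147.result (MvPolynomial (Fin n) R) N c F hF
  -- `T / I T` is lci over `R`
  have hlciD : LCI.IsLCI R (Synt.RelGCIRing (MvPolynomial (Fin n) R) N c F ⧸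
      I.map (algebraMap (MvPolynomial (Fin n) R) (Synt.RelGCIRing (MvPolynomial (Fin n) R) N c F))) := by
    have hQ1 : Q (algebraMap R A') := Q_algebraMap_iff.mpr hlci
    have hQ2 : Q (algebraMap A' (Localization.Away g)) := Q_holdsForLocalizationAway (Localization.Away g) g
    have hQ3 := Q_comp _ _ hQ1 hQ2
    have hQ4 := Q_respectsIso.1 (T := Synt.RelGCIRing (MvPolynomial (Fin n) R) N c F ⧸
      I.map (algebraMap (MvPolynomial (Fin n) R) (Synt.RelGCIRing (MvPolynomial (Fin n) R) N c F)))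
      _ ε.toRingEquiv hQ3
    have heq : ε.toRingEquiv.toRingHom.comp ((algebraMap A' (Localization.Away g)).comp
        (algebraMap R A')) = algebraMap R (Synt.RelGCIRing (MvPolynomial (Fin n) R) N c F ⧸
      I.map (algebraMap (MvPolynomial (Fin n) R) (Synt.RelGCIRing (MvPolynomial (Fin n) R) N c F))) := by
      ext r
      show ε (algebraMap A' (Localization.Away g) (algebraMap R A' r)) = _
      have h1 : algebraMap R A' r = algebraMap (MvPolynomial (Fin n) R) A' (MvPolynomial.C r) := by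
        show algebraMap R A' r = algebraMap A A' (α (MvPolynomial.C r))
        rw [IsScalarTower.algebraMap_apply R A A']
        congr 1
        exact (α.commutes r).symm
      rw [h1, ← IsScalarTower.algebraMap_apply (MvPolynomial (Fin n) R) A' (Localization.Away g),
        ε.commutes]
      rfl
    rw [heq] at hQ4
    exact Q_algebraMap_iff.mp hQ4
  have hKR := kreg_map_of_isLCI_quot F hF I hlciD
  -- the prime of `T`
  have hdisj : Disjoint (Submonoid.powers g : Set A') (𝔮 : Set A') :=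
    (Ideal.disjoint_powers_iff_notMem_of_isPrime g).mpr hg
  have h𝔮g : (𝔮.map (algebraMap A' (Localization.Away g))).IsPrime :=
    IsLocalization.isPrime_of_isPrime_disjoint (Submonoid.powers g) _ 𝔮 h𝔮 hdisj
  have h𝔮gc : (𝔮.map (algebraMap A' (Localization.Away g))).comap
      (algebraMap A' (Localization.Away g)) = 𝔮 :=
    IsLocalization.under_map_of_isPrime_disjoint (Submonoid.powers g) _ h𝔮 hdisj
  set 𝔮T : Ideal (Synt.RelGCIRing (MvPolynomial (Fin n) R) N c F) :=
    ((𝔮.map (algebraMap A' (Localization.Away g))).comap ε.symm.toRingEquiv.toRingHom).comap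
      (Ideal.Quotient.mk (I.map (algebraMap (MvPolynomial (Fin n) R)
        (Synt.RelGCIRing (MvPolynomial (Fin n) R) N c F)))) with h𝔮T
  have h𝔮Tp : 𝔮T.IsPrime := by
    have : ((𝔮.map (algebraMap A' (Localization.Away g))).comap
        ε.symm.toRingEquiv.toRingHom).IsPrime := Ideal.comap_isPrime _ _
    exact Ideal.comap_isPrime _ _
  have hcomap : 𝔮T.comap (algebraMap (MvPolynomial (Fin n) R)
      (Synt.RelGCIRing (MvPolynomial (Fin n) R) N c F)) =
      (𝔮.comap (algebraMap A A')).comap α.toRingHom := by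
    ext x
    rw [h𝔮T, Ideal.mem_comap, Ideal.mem_comap, Ideal.mem_comap, Ideal.mem_comap, Ideal.mem_comap]
    have h1 : ε.symm.toRingEquiv.toRingHom (Ideal.Quotient.mk _
        (algebraMap (MvPolynomial (Fin n) R) (Synt.RelGCIRing (MvPolynomial (Fin n) R) N c F) x)) =
        algebraMap A' (Localization.Away g) (algebraMap A A' (α x)) := by
      have h2 : Ideal.Quotient.mk (I.map (algebraMap (MvPolynomial (Fin n) R)
          (Synt.RelGCIRing (MvPolynomial (Fin n) R) N c F)))
          (algebraMap (MvPolynomial (Fin n) R) (Synt.RelGCIRing (MvPolynomial (Fin n) R) N c F) x) =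
          algebraMap (MvPolynomial (Fin n) R) (Synt.RelGCIRing (MvPolynomial (Fin n) R) N c F ⧸
            I.map (algebraMap (MvPolynomial (Fin n) R)
              (Synt.RelGCIRing (MvPolynomial (Fin n) R) N c F))) x :=
        Ideal.Quotient.mk_algebraMap _ _ _
      rw [h2]
      show ε.symm (algebraMap _ _ x) = _
      rw [ε.symm.commutes, IsScalarTower.algebraMap_apply (MvPolynomial (Fin n) R) A'
        (Localization.Away g)]
      rfl
    rw [h1, ← Ideal.mem_comap, h𝔮gc]
    rfl
  have hIle : I ≤ 𝔮T.comap (algebraMap (MvPolynomial (Fin n) R)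
      (Synt.RelGCIRing (MvPolynomial (Fin n) R) N c F)) := by
    rw [hcomap]
    intro x hx
    rw [Ideal.mem_comap, Ideal.mem_comap]
    have : α.toRingHom x = 0 := (RingHom.mem_ker).mp hx
    rw [this, map_zero]
    exact 𝔮.zero_mem
  have := kRegAt_of_flat I hKR 𝔮T hIle
  rw [hcomap] at this
  exact this

end D2

section D3
variable {R A : Type u} [CommRing R] [CommRing A] [Algebra R A]

/-- ring-level descent of lci along a jointly surjective family of syntomic algebras -/
theorem isLCI_of_syntomic_cover [hft : Algebra.FiniteType R A]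
    (hcov : ∀ p : Ideal A, p.IsPrime → ∃ (A' : Type u) (_ : CommRing A') (_ : Algebra A A')
      (q : Ideal A'), q.IsPrime ∧ q.comap (algebraMap A A') = p ∧ Synt.IsSyntomic A A' ∧
      Q ((algebraMap A A').comp (algebraMap R A))) : LCI.IsLCI R A := by
  classical
  obtain ⟨n, α, hα⟩ := Algebra.FiniteType.iff_quotient_mvPolynomial''.mp hft
  refine ⟨hft, n, α, hα, ?_⟩
  rw [isKoszulRegularIdeal_iff]
  intro 𝔭 h𝔭 hle
  have hp : (𝔭.map α.toRingHom).IsPrime := Ideal.map_isPrime_of_surjective hα hle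
  have hpc : (𝔭.map α.toRingHom).comap α.toRingHom = 𝔭 := by
    rw [Ideal.comap_map_of_surjective' α.toRingHom hα, sup_eq_left]
    exact hle
  obtain ⟨A', _, _, q, hq, hqc, hsyn, hQ⟩ := hcov _ hp
  letI algRA' : Algebra R A' := ((algebraMap A A').comp (algebraMap R A)).toAlgebra
  have tow : IsScalarTower R A A' := IsScalarTower.of_algebraMap_eq fun x => rfl
  have hlci : LCI.IsLCI R A' := hQ
  have := kRegAt_ker_of_syntomic α hα hsyn hlci q
  rw [hqc, hpc] at this
  exact this

end D3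

end Groth.Agent.Lib.T2H7.SyntSrcD
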