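import Mathlib
import Groth.Prelude
import Groth.Agent.Lib.T2H7SyntSrcD
import Groth.Agent.Lib.T2H7LCIMor
import Groth.Agent.Lib.T2H7StdSynt
import Groth.Agent.Lib.T2H9SyntMor
import Groth.Agent.S5938

/-!
# Syntomic source descent of lci morphisms, part E (helper7)

* `plci_of_syntomic_cover_source`: if `g : X' ⟶ X` is syntomic and surjective and `g ≫ f` is a
  local complete intersection morphism, then so is `f`.
-/

set_option autoImplicit false
set_option linter.unusedSectionVars false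
set_option linter.style.haveILetI false
universe u

namespace Groth.Agent.Lib.T2H7.SyntSrcE

open AlgebraicGeometry CategoryTheory Limits
open Groth.Agent.Lib.T2H7.LCIMor Groth.Agent.Lib.T2H7.KRegN Groth.Agent.Lib.T2H7.SyntSrcD

variable {X' X Y : Scheme.{u}}

theorem plci_of_syntomic_cover_source (g : X' ⟶ X) (hg : Synt.IsSyntomicMor g) [Surjective g]
    (f : X ⟶ Y) (h : Plci (g ≫ f)) : Plci f := by
  classical
  obtain ⟨hgfl, hgfp, -⟩ := (Groth.Agent.Lib.T2H9.SyntMor.isSyntomicMor_iff_isCIMorphism g).mp hg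
  have hgf_ft : LocallyOfFiniteType (g ≫ f) := by
    rw [HasRingHomProperty.iff_appLE (P := @LocallyOfFiniteType)]
    intro U V e
    exact (HasRingHomProperty.appLE (P := Plci) (g ≫ f) h U V e).1
  have hf_ft : LocallyOfFiniteType f := Groth.Agent.S5938.result g f
  rw [HasRingHomProperty.iff_appLE (P := Plci)]
  intro U V e
  letI algRA : Algebra Γ(Y, U.1) Γ(X, V.1) := (f.appLE U.1 V.1 e).hom.toAlgebra
  have hft : Algebra.FiniteType Γ(Y, U.1) Γ(X, V.1) :=
    HasRingHomProperty.appLE (P := @LocallyOfFiniteType) f hf_ft U V e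
  show LCI.IsLCI Γ(Y, U.1) Γ(X, V.1)
  apply isLCI_of_syntomic_cover
  intro p hp
  -- the point of `X` corresponding to `p`, and a preimage in `X'`
  set x : X := V.2.fromSpec ⟨p, hp⟩ with hx
  have hxV : x ∈ V.1 := by
    have h0 : x ∈ Set.range V.2.fromSpec := Set.mem_range_self _
    rw [V.2.range_fromSpec] at h0
    exact h0
  obtain ⟨x', hx'⟩ := (inferInstance : Surjective g).surj x
  obtain ⟨U'₀, V₀, e₀, hx'U, hs₀⟩ := hg x'
  have hx'g : x' ∈ g ⁻¹ᵁ V.1 := by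
    show g x' ∈ V.1
    rw [hx']
    exact hxV
  obtain ⟨W', hW', hx'W, hW'le⟩ :=
    TopologicalSpace.Opens.isBasis_iff_nbhd.mp X'.isBasis_affineOpens
      (show x' ∈ U'₀.1 ⊓ g ⁻¹ᵁ V.1 from ⟨hx'U, hx'g⟩)
  have hW'U : W' ≤ U'₀.1 := hW'le.trans inf_le_left
  have e₁ : W' ≤ g ⁻¹ᵁ V.1 := hW'le.trans inf_le_right
  have hsyn := Groth.Agent.Lib.T2H7.StdSynt.isSyntomic_appLE_of_le g U'₀.2 V₀.2 e₀ hs₀ hW' hW'U V.2 e₁
  letI algAA' : Algebra Γ(X, V.1) Γ(X', W') := (g.appLE V.1 W' e₁).hom.toAlgebra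
  refine ⟨Γ(X', W'), inferInstance, algAA', (hW'.primeIdealOf ⟨x', hx'W⟩).asIdeal,
    (hW'.primeIdealOf ⟨x', hx'W⟩).isPrime, ?_, hsyn, ?_⟩
  · have h1 := IsAffineOpen.comap_primeIdealOf_appLE (f := g) (x := x') V.1 V.2 W' hW' e₁ hx'W
    have h2 : V.2.primeIdealOf ⟨g x', e₁ hx'W⟩ = ⟨p, hp⟩ := by
      apply V.2.fromSpec.isOpenEmbedding.injective
      rw [IsAffineOpen.fromSpec_primeIdealOf]
      exact hx'
    rw [h2] at h1
    exact congrArg PrimeSpectrum.asIdeal h1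
  · have h3 : (algebraMap Γ(X, V.1) Γ(X', W')).comp (algebraMap Γ(Y, U.1) Γ(X, V.1)) =
        ((g ≫ f).appLE U.1 W' (e₁.trans ((TopologicalSpace.Opens.map g.base).map (homOfLE e)).le)).hom := by
      rw [← Scheme.Hom.appLE_comp_appLE g f U.1 V.1 W' e e₁]
      rfl
    rw [h3]
    exact HasRingHomProperty.appLE (P := Plci) (g ≫ f) h U ⟨W', hW'⟩ _

end Groth.Agent.Lib.T2H7.SyntSrcE
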