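import Mathlib

/-!
# Syzygies along exact sequences of composable arrows (helper7)

* `exact_comp` : exact functors preserve exactness of `ComposableArrows`.
* `kernel_shortExact` : from an exact `A ⟶ B ⟶ D` the short exact sequence `0 → ker f → A → ker g → 0`.
* `hasPDLT_kernel` : in an exact sequence `P_n → ⋯ → P_0 → F → 0` with projective `P_i`, the kernel of
  the first map has projective dimension `< k + 1` as soon as `F` has projective dimension `< n + 2 + k`.
* `projective_left` : in an exact sequence `0 → G → P_m → ⋯ → P_1 → F → 0`, `G` is projective when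
  `F` has projective dimension `< m + 1`.
-/

set_option autoImplicit false
universe w v u v' u'
open CategoryTheory CategoryTheory.Limits

namespace Groth.Agent.Lib.T2H7.SyzCA

variable {C : Type u} [Category.{v} C] [Abelian C]

theorem exact_comp {D : Type u'} [Category.{v'} D] [Abelian D] (F : C ⥤ D) [F.Additive]
    [PreservesFiniteLimits F] [PreservesFiniteColimits F] {n : ℕ} (S : ComposableArrows C n)
    (hS : S.Exact) : ComposableArrows.Exact (S ⋙ F) := by
  have hc : ComposableArrows.IsComplex (S ⋙ F) := by
    refine ⟨fun i hi => ?_⟩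
    have h := hS.toIsComplex.zero i hi
    have h2 := congrArg F.map h
    rw [F.map_comp, F.map_zero] at h2
    exact h2
  refine ⟨hc, fun i hi => ?_⟩
  have h := (hS.exact i hi).map F
  exact h

theorem kernel_shortExact {A B D : C} (f : A ⟶ B) (g : B ⟶ D) (w : f ≫ g = 0)
    (hex : (ShortComplex.mk f g w).Exact) :
    (ShortComplex.mk (kernel.ι f) (kernel.lift g f w)
      (by rw [← cancel_mono (kernel.ι g)]; simp)).ShortExact := by
  have hepi : Epi (kernel.lift g f w) := (ShortComplex.exact_iff_epi_kernel_lift _).1 hex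
  have hk : IsLimit (KernelFork.ofι (kernel.ι f)
      (show kernel.ι f ≫ kernel.lift g f w = 0 by rw [← cancel_mono (kernel.ι g)]; simp)) :=
    isKernelOfComp (kernel.ι g) f (kernelIsKernel f) _ (kernel.lift_ι g f w)
  exact { exact := ShortComplex.exact_of_f_is_kernel _ hk
          mono_f := inferInstanceAs (Mono (kernel.ι f))
          epi_g := hepi }

theorem kernel_shortExact_of_epi {A B : C} (f : A ⟶ B) [Epi f] :
    (ShortComplex.mk (kernel.ι f) f (kernel.condition f)).ShortExact :=
  { exact := ShortComplex.exact_of_f_is_kernel _ (kernelIsKernel f)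
    mono_f := inferInstanceAs (Mono (kernel.ι f))
    epi_g := inferInstanceAs (Epi f) }

theorem hasPDLT_kernel : ∀ (n : ℕ) (T : ComposableArrows C (n + 1)), T.Exact →
    Epi (T.map' n (n + 1) (by omega) (by omega)) →
    (∀ (i : ℕ) (hi : i ≤ n), Projective (T.obj' i (by omega))) →
    ∀ k : ℕ, HasProjectiveDimensionLT (T.obj' (n + 1) (by omega)) (n + 2 + k) →
      HasProjectiveDimensionLT (kernel (T.map' 0 1 (by omega) (by omega))) (k + 1) := by
  intro n
  induction n with
  | zero =>
    intro T _ hepi hP k hpd
    have hse : (ShortComplex.mk (kernel.ι (T.map' 0 1 (by omega) (by omega)))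
        (T.map' 0 1 (by omega) (by omega)) (kernel.condition _)).ShortExact :=
      kernel_shortExact_of_epi _
    have hP0 : Projective (T.obj' 0 (by omega)) := hP 0 le_rfl
    have h2 : HasProjectiveDimensionLT (T.obj' 0 (by omega)) (k + 1) :=
      hasProjectiveDimensionLT_of_ge _ 1 (k + 1) (by omega)
    have h3 : HasProjectiveDimensionLT (T.obj' 1 (by omega)) (k + 1 + 1) := by
      have : 0 + 2 + k = k + 1 + 1 := by omega
      rw [← this]
      exact hpd
    exact hse.hasProjectiveDimensionLT_X₁ (k + 1) h2 h3
  | succ n ih =>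
    intro T hT hepi hP k hpd
    have hδ : T.δ₀.Exact := hT.δ₀
    have hepi' : Epi (T.δ₀.map' n (n + 1) (by omega) (by omega)) := hepi
    have hP' : ∀ (i : ℕ) (hi : i ≤ n), Projective (T.δ₀.obj' i (by omega)) :=
      fun i hi => hP (i + 1) (by omega)
    have hpd' : HasProjectiveDimensionLT (T.δ₀.obj' (n + 1) (by omega)) (n + 2 + (k + 1)) := by
      have : n + 1 + 2 + k = n + 2 + (k + 1) := by omega
      rw [← this]
      exact hpd
    have hker := ih T.δ₀ hδ hepi' hP' (k + 1) hpd'
    have hker' : HasProjectiveDimensionLT (kernel (T.map' 1 2 (by omega) (by omega))) (k + 1 + 1) :=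
      hker
    have hse := kernel_shortExact (T.map' 0 1 (by omega) (by omega)) (T.map' 1 2 (by omega) (by omega))
      (hT.toIsComplex.zero 0 (by omega)) (hT.exact 0 (by omega))
    have hP0 : Projective (T.obj' 0 (by omega)) := hP 0 (by omega)
    have h2 : HasProjectiveDimensionLT (T.obj' 0 (by omega)) (k + 1) :=
      hasProjectiveDimensionLT_of_ge _ 1 (k + 1) (by omega)
    exact hse.hasProjectiveDimensionLT_X₁ (k + 1) h2 hker'

/-- In an exact sequence `0 → G → P_m → ⋯ → P_1 → F → 0` (with `m + 2` terms) in which the `P_i` are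
projective and `F` has projective dimension `< m + 1`, the object `G` is projective. -/
theorem projective_left (m : ℕ) (S : ComposableArrows C (m + 1)) (hS : S.Exact)
    (hmono : Mono (S.map' 0 1 (by omega) (by omega)))
    (hepi : Epi (S.map' m (m + 1) (by omega) (by omega)))
    (hP : ∀ (i : ℕ) (h1 : 1 ≤ i) (hi : i ≤ m), Projective (S.obj' i (by omega)))
    (hpd : HasProjectiveDimensionLT (S.obj' (m + 1) (by omega)) (m + 1)) :
    Projective (S.obj' 0 (by omega)) := by
  cases m with
  | zero =>
    have hiso : IsIso (S.map' 0 1 (by omega) (by omega)) := isIso_of_mono_of_epi _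
    have e : S.obj' 0 (by omega) ≅ S.obj' 1 (by omega) := @asIso _ _ _ _ _ hiso
    have h := hasProjectiveDimensionLT_of_iso e.symm 1
    exact projective_iff_hasProjectiveDimensionLT_one.2 h
  | succ n =>
    have hδ : S.δ₀.Exact := hS.δ₀
    have hepi' : Epi (S.δ₀.map' n (n + 1) (by omega) (by omega)) := hepi
    have hP' : ∀ (i : ℕ) (hi : i ≤ n), Projective (S.δ₀.obj' i (by omega)) :=
      fun i hi => hP (i + 1) (by omega) (by omega)
    have hpd' : HasProjectiveDimensionLT (S.δ₀.obj' (n + 1) (by omega)) (n + 2 + 0) := hpd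
    have hker := hasPDLT_kernel n S.δ₀ hδ hepi' hP' 0 hpd'
    have hker' : HasProjectiveDimensionLT (kernel (S.map' 1 2 (by omega) (by omega))) 1 := hker
    have hk : IsLimit (KernelFork.ofι (S.map' 0 1 (by omega) (by omega))
        (hS.toIsComplex.zero 0 (by omega))) :=
      (hS.exact 0 (by omega)).fIsKernel
    have e : S.obj' 0 (by omega) ≅ kernel (S.map' 1 2 (by omega) (by omega)) :=
      IsLimit.conePointUniqueUpToIso hk (limit.isLimit _)
    have h := hasProjectiveDimensionLT_of_iso e.symm 1
    exact projective_iff_hasProjectiveDimensionLT_one.2 h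

end Groth.Agent.Lib.T2H7.SyzCA
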