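import Mathlib
import Groth.Agent.S0076
import Groth.Agent.Lib.T2H8ClosedLiftHom

/-!
# Topological invariance of the small étale site along thickenings (helper7)

For a surjective closed immersion `i : S₀ ⟶ S`, base change `S.Etale ⥤ S₀.Etale` is an equivalence.
Full faithfulness is S0076; essential surjectivity glues the local lifts of
`T2H8ClosedLift.exists_lift_nhd` along the unique isomorphisms on overlaps, using Mathlib's
colimits of locally directed diagrams of open immersions.

Main declarations: `bc_faithful`, `bc_full` (for integral universally injective surjective `i`),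
`isOpenImmersion_of_bc`, `essImage_bc`, `main`.
-/

set_option autoImplicit false
set_option linter.style.haveILetI false
set_option linter.unusedSectionVars false
universe u
open CategoryTheory CategoryTheory.Limits AlgebraicGeometry Opposite

namespace Groth.Agent.Lib.T2H7.Thick

variable {S S₀ : Scheme.{u}} (i : S₀ ⟶ S)

section FF
variable [IsIntegralHom i] [UniversallyInjective i] [Surjective i]

theorem bc_faithful : (EtCoh.bc i).Faithful where
  map_injective {A B} g₁ g₂ h := by
    haveI : AlgebraicGeometry.Etale B.toComma.hom := B.prop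
    have hb := (Groth.Agent.S0076.result i B.toComma A.toComma).1
    have h' : (Over.pullback i).map g₁.hom = (Over.pullback i).map g₂.hom := by
      ext1
      exact congrArg (fun t => t.left) h
    have := hb h'
    exact MorphismProperty.Over.Hom.ext (congrArg (fun t => t.left) this)

theorem bc_full : (EtCoh.bc i).Full where
  map_surjective {A B} h := by
    haveI : AlgebraicGeometry.Etale B.toComma.hom := B.prop
    have hb := (Groth.Agent.S0076.result i B.toComma A.toComma).2
    obtain ⟨φ, hφ⟩ := hb h.hom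
    refine ⟨MorphismProperty.Over.homMk φ.left (Over.w φ), ?_⟩
    apply MorphismProperty.Over.Hom.ext
    exact congrArg (fun t => t.left) hφ

end FF

section Glue
variable (X₀ : S₀.Etale)

/-- the étale `S₀`-scheme given by an open of `X₀` -/
noncomputable def res (W : X₀.left.Opens) : S₀.Etale := Scheme.Etale.mk (W.ι ≫ X₀.hom)

@[simp] theorem res_left (W : X₀.left.Opens) : (res X₀ W).left = (W : Scheme.{u}) := rfl
@[simp] theorem res_hom (W : X₀.left.Opens) : (res X₀ W).hom = W.ι ≫ X₀.hom := rfl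

noncomputable def resMap {W W' : X₀.left.Opens} (h : W ≤ W') : res X₀ W ⟶ res X₀ W' :=
  MorphismProperty.Over.homMk (X₀.left.homOfLE h) (by simp)

@[simp] theorem resMap_left {W W' : X₀.left.Opens} (h : W ≤ W') :
    (resMap X₀ h).left = X₀.left.homOfLE h := rfl

/-- liftable opens -/
def Liftable (W : X₀.left.Opens) : Prop := (EtCoh.bc i).essImage (res X₀ W)

/-- the index preorder: liftable opens -/
abbrev J : Type u := {W : X₀.left.Opens // Liftable i X₀ W}

/-- the diagram of liftable opens in `S₀.Etale` -/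
noncomputable def G : J i X₀ ⥤ S₀.Etale where
  obj W := res X₀ W.1
  map f := resMap X₀ (leOfHom f)
  map_id W := by
    apply MorphismProperty.Over.Hom.ext
    exact X₀.left.homOfLE_rfl W.1
  map_comp f g := by
    apply MorphismProperty.Over.Hom.ext
    exact (X₀.left.homOfLE_homOfLE (leOfHom f) (leOfHom g)).symm

variable [IsClosedImmersion i] [Surjective i]

instance : (EtCoh.bc i).Faithful := bc_faithful i
instance : (EtCoh.bc i).Full := bc_full i

theorem exists_liftable (N : X₀.left.Opens) (x : X₀.left) (hx : x ∈ N) :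
    ∃ W : X₀.left.Opens, Liftable i X₀ W ∧ x ∈ W ∧ W ≤ N := by
  obtain ⟨V, h₀, h1, h2, h3⟩ :=
    Groth.Agent.Lib.T2H8.ClosedLift.exists_lift_nhd i (res X₀ N) (⟨x, hx⟩ : ↥N)
  let h : pullback V.hom i ⟶ (N : Scheme.{u}) := h₀
  haveI : IsOpenImmersion h := h2
  refine ⟨(h ≫ N.ι).opensRange, ⟨V, ⟨?_⟩⟩, ?_, ?_⟩
  · refine MorphismProperty.Over.isoMk (h ≫ N.ι).isoOpensRange ?_
    change (h ≫ N.ι).isoOpensRange.hom ≫ ((h ≫ N.ι).opensRange.ι ≫ X₀.hom) = pullback.snd V.hom i
    rw [← Category.assoc, Scheme.Hom.isoOpensRange_hom_ι, Category.assoc]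
    exact h1
  · obtain ⟨y, hy⟩ := h3
    refine ⟨y, ?_⟩
    rw [Scheme.Hom.comp_apply]
    have hy' : h y = (⟨x, hx⟩ : ↥N) := hy
    rw [hy']
    rfl
  · rintro _ ⟨y, rfl⟩
    rw [Scheme.Hom.comp_apply]
    exact (h y).2


/-- the lifted diagram in `S.Etale` -/
noncomputable def F' : J i X₀ ⥤ S.Etale :=
  Functor.essImage.liftFunctor (G i X₀) (EtCoh.bc i) (fun W => W.2)

noncomputable def α : F' i X₀ ⋙ EtCoh.bc i ≅ G i X₀ :=
  Functor.essImage.liftFunctorCompIso (G i X₀) (EtCoh.bc i) (fun W => W.2)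

/-- the lifted diagram of schemes -/
noncomputable def D : J i X₀ ⥤ Scheme.{u} :=
  F' i X₀ ⋙ Scheme.Etale.forget S ⋙ Over.forget S

@[simp] theorem D_obj (W : J i X₀) : (D i X₀).obj W = ((F' i X₀).obj W).left := rfl
@[simp] theorem D_map {W W' : J i X₀} (f : W ⟶ W') :
    (D i X₀).map f = ((F' i X₀).map f).left := rfl

/-- comparison from the open `W` to its lift -/
noncomputable def t (W : J i X₀) : (W.1 : Scheme.{u}) ⟶ ((F' i X₀).obj W).left :=
  ((α i X₀).inv.app W).left ≫ pullback.fst ((F' i X₀).obj W).hom i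

theorem bc_map_left_fst {A B : S.Etale} (g : A ⟶ B) :
    ((EtCoh.bc i).map g).left ≫ pullback.fst B.hom i = pullback.fst A.hom i ≫ g.left := by
  rw [Groth.Agent.Lib.T2H8.ClosedLiftHom.bc_map_left]
  exact pullback.lift_fst _ _ _

theorem t_naturality {W W' : J i X₀} (f : W ⟶ W') :
    X₀.left.homOfLE (leOfHom f) ≫ t i X₀ W' = t i X₀ W ≫ ((F' i X₀).map f).left := by
  have h1 := (α i X₀).inv.naturality f
  have h2 : ((G i X₀).map f).left ≫ ((α i X₀).inv.app W').left =
      ((α i X₀).inv.app W).left ≫ ((EtCoh.bc i).map ((F' i X₀).map f)).left :=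
    congrArg (fun t => t.left) h1
  have h3 : ((G i X₀).map f).left = X₀.left.homOfLE (leOfHom f) := rfl
  rw [h3] at h2
  have e1 : X₀.left.homOfLE (leOfHom f) ≫ t i X₀ W' =
      (X₀.left.homOfLE (leOfHom f) ≫ ((α i X₀).inv.app W').left) ≫
          pullback.fst ((F' i X₀).obj W').hom i := (Category.assoc _ _ _).symm
  have e2 : (X₀.left.homOfLE (leOfHom f) ≫ ((α i X₀).inv.app W').left) ≫
          pullback.fst ((F' i X₀).obj W').hom i =
      (((α i X₀).inv.app W).left ≫ ((EtCoh.bc i).map ((F' i X₀).map f)).left) ≫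
          pullback.fst ((F' i X₀).obj W').hom i :=
    congrArg (· ≫ pullback.fst ((F' i X₀).obj W').hom i) h2
  have e3 : (((α i X₀).inv.app W).left ≫ ((EtCoh.bc i).map ((F' i X₀).map f)).left) ≫
          pullback.fst ((F' i X₀).obj W').hom i =
      ((α i X₀).inv.app W).left ≫ (((EtCoh.bc i).map ((F' i X₀).map f)).left ≫
          pullback.fst ((F' i X₀).obj W').hom i) := Category.assoc _ _ _
  have e4 : ((α i X₀).inv.app W).left ≫ (((EtCoh.bc i).map ((F' i X₀).map f)).left ≫
          pullback.fst ((F' i X₀).obj W').hom i) =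
      ((α i X₀).inv.app W).left ≫ (pullback.fst ((F' i X₀).obj W).hom i ≫
          ((F' i X₀).map f).left) :=
    congrArg (((α i X₀).inv.app W).left ≫ ·) (bc_map_left_fst i _)
  have e5 : ((α i X₀).inv.app W).left ≫ (pullback.fst ((F' i X₀).obj W).hom i ≫
          ((F' i X₀).map f).left) = t i X₀ W ≫ ((F' i X₀).map f).left :=
    (Category.assoc _ _ _).symm
  exact e1.trans (e2.trans (e3.trans (e4.trans e5)))

theorem mono_of_fst_eq_snd {C : Type*} [Category C] {X Y : C} (f : X ⟶ Y) [HasPullback f f]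
    (h : pullback.fst f f = pullback.snd f f) : Mono f where
  right_cancellation a b hab := by
    have e1 : pullback.lift a b hab ≫ pullback.fst f f = a := pullback.lift_fst _ _ _
    have e2 : pullback.lift a b hab ≫ pullback.snd f f = b := pullback.lift_snd _ _ _
    exact e1.symm.trans ((congrArg (pullback.lift a b hab ≫ ·) h).trans e2)

theorem isIso_left {T : Scheme.{u}} {A B : T.Etale} (e : A ⟶ B) [IsIso e] : IsIso e.left :=
  (Scheme.Etale.forget T ⋙ Over.forget T).map_isIso e

theorem mono_of_mono_left {T : Scheme.{u}} {A B : T.Etale} (e : A ⟶ B) [Mono e.left] : Mono e :=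
  (Scheme.Etale.forget T ⋙ Over.forget T).mono_of_mono_map (by exact ‹Mono e.left›)

/-- a morphism of étale `S`-schemes whose base change is an open immersion is an open immersion -/
theorem isOpenImmersion_of_bc {A B : S.Etale} (g : A ⟶ B)
    (h : IsOpenImmersion ((EtCoh.bc i).map g).left) : IsOpenImmersion g.left := by
  haveI : Mono ((EtCoh.bc i).map g).left := inferInstance
  haveI : Mono ((EtCoh.bc i).map g) := mono_of_mono_left _
  have hA : g.left ≫ B.hom = A.hom := MorphismProperty.Over.w g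
  let T : S.Etale := Scheme.Etale.mk (pullback.fst g.left g.left ≫ A.hom)
  let p₁ : T ⟶ A := MorphismProperty.Over.homMk (pullback.fst g.left g.left) rfl
  let p₂ : T ⟶ A := MorphismProperty.Over.homMk (pullback.snd g.left g.left) (by
    change pullback.snd g.left g.left ≫ A.hom = pullback.fst g.left g.left ≫ A.hom
    rw [← hA, ← Category.assoc, ← Category.assoc, pullback.condition])
  have h12 : p₁ ≫ g = p₂ ≫ g := by
    apply MorphismProperty.Over.Hom.ext
    exact pullback.condition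
  have h12' : (EtCoh.bc i).map p₁ = (EtCoh.bc i).map p₂ := by
    rw [← cancel_mono ((EtCoh.bc i).map g), ← Functor.map_comp, ← Functor.map_comp, h12]
  have h12'' : p₁ = p₂ := (EtCoh.bc i).map_injective h12'
  haveI : Mono g.left := mono_of_fst_eq_snd g.left (congrArg (fun t => t.left) h12'')
  exact Groth.Agent.Lib.T2H8.ClosedLiftHom.isOpenImmersion_of_mono g

instance isOpenImmersion_D_map {W W' : J i X₀} (f : W ⟶ W') :
    IsOpenImmersion ((D i X₀).map f) := by
  change IsOpenImmersion ((F' i X₀).map f).left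
  apply isOpenImmersion_of_bc i
  have h1 : (EtCoh.bc i).map ((F' i X₀).map f) =
      (α i X₀).hom.app W ≫ (G i X₀).map f ≫ (α i X₀).inv.app W' :=
    (NatIso.naturality_2 (α i X₀) f).symm
  rw [h1]
  haveI h2 : IsIso ((α i X₀).hom.app W).left := isIso_left ((α i X₀).hom.app W)
  haveI h3 : IsIso ((α i X₀).inv.app W').left := isIso_left ((α i X₀).inv.app W')
  let a : ((F' i X₀ ⋙ EtCoh.bc i).obj W).left ⟶ (W.1 : Scheme.{u}) := ((α i X₀).hom.app W).left
  let b : (W'.1 : Scheme.{u}) ⟶ ((F' i X₀ ⋙ EtCoh.bc i).obj W').left :=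
    ((α i X₀).inv.app W').left
  haveI : IsIso a := h2
  haveI : IsIso b := h3
  change IsOpenImmersion (a ≫ X₀.left.homOfLE (leOfHom f) ≫ b)
  infer_instance

theorem t_injective (W : J i X₀) : Function.Injective (t i X₀ W) := by
  haveI := isIso_left ((α i X₀).inv.app W)
  haveI : IsClosedImmersion (pullback.fst ((F' i X₀).obj W).hom i) :=
    MorphismProperty.pullback_fst (P := @IsClosedImmersion) _ _ inferInstance
  unfold t
  intro x y hxy
  rw [Scheme.Hom.comp_apply, Scheme.Hom.comp_apply] at hxy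
  have := (pullback.fst ((F' i X₀).obj W).hom i).isClosedEmbedding.injective hxy
  exact ((α i X₀).inv.app W).left.isOpenEmbedding.injective this

theorem t_surjective (W : J i X₀) : Function.Surjective (t i X₀ W) := by
  haveI := isIso_left ((α i X₀).inv.app W)
  haveI : Surjective (pullback.fst ((F' i X₀).obj W).hom i) :=
    MorphismProperty.pullback_fst (P := @Surjective) _ _ inferInstance
  unfold t
  intro z
  obtain ⟨y, rfl⟩ := (pullback.fst ((F' i X₀).obj W).hom i).surjective z
  obtain ⟨x, rfl⟩ := ((α i X₀).inv.app W).left.surjective y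
  exact ⟨x, Scheme.Hom.comp_apply _ _ _⟩

theorem t_map_apply {W W' : J i X₀} (f : W ⟶ W') (y : (W.1 : Scheme.{u})) :
    ((F' i X₀).map f).left (t i X₀ W y) = t i X₀ W' (X₀.left.homOfLE (leOfHom f) y) := by
  rw [← Scheme.Hom.comp_apply, ← Scheme.Hom.comp_apply, t_naturality]

instance isLocallyDirected_D : ((D i X₀) ⋙ Scheme.forget).IsLocallyDirected where
  cond {a b k} fa fb xa xb h := by
    obtain ⟨ya, rfl⟩ := t_surjective i X₀ a xa
    obtain ⟨yb, rfl⟩ := t_surjective i X₀ b xb
    have h' : ((F' i X₀).map fa).left (t i X₀ a ya) = ((F' i X₀).map fb).left (t i X₀ b yb) := h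
    rw [t_map_apply, t_map_apply] at h'
    have hk := t_injective i X₀ k h'
    have hpt : ya.1 = yb.1 := by
      have := congrArg Subtype.val hk
      rwa [Scheme.homOfLE_apply, Scheme.homOfLE_apply] at this
    obtain ⟨Wl, hWl, hxl, hle⟩ := exists_liftable i X₀ (a.1 ⊓ b.1) ya.1 ⟨ya.2, hpt ▸ yb.2⟩
    have hla : (⟨Wl, hWl⟩ : J i X₀) ≤ a := hle.trans inf_le_left
    have hlb : (⟨Wl, hWl⟩ : J i X₀) ≤ b := hle.trans inf_le_right
    refine ⟨⟨Wl, hWl⟩, homOfLE hla, homOfLE hlb, t i X₀ ⟨Wl, hWl⟩ ⟨ya.1, hxl⟩, ?_, ?_⟩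
    · change ((F' i X₀).map (homOfLE hla)).left (t i X₀ ⟨Wl, hWl⟩ ⟨ya.1, hxl⟩) = t i X₀ a ya
      rw [t_map_apply]
      congr 1
      exact Subtype.ext (Scheme.homOfLE_apply _ _)
    · change ((F' i X₀).map (homOfLE hlb)).left (t i X₀ ⟨Wl, hWl⟩ ⟨ya.1, hxl⟩) = t i X₀ b yb
      rw [t_map_apply]
      congr 1
      exact Subtype.ext ((Scheme.homOfLE_apply _ _).trans hpt)

/-- typed wrapper: structure map of the lift -/
noncomputable def hD (W : J i X₀) : (D i X₀).obj W ⟶ S := ((F' i X₀).obj W).hom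

/-- typed wrapper: the comparison map -/
noncomputable def tD (W : J i X₀) : (W.1 : Scheme.{u}) ⟶ (D i X₀).obj W := t i X₀ W

/-- typed wrapper: the isomorphism onto the base change -/
noncomputable def aW (W : J i X₀) : (W.1 : Scheme.{u}) ⟶ pullback (hD i X₀ W) i :=
  ((α i X₀).inv.app W).left

instance isIso_aW (W : J i X₀) : IsIso (aW i X₀ W) := isIso_left ((α i X₀).inv.app W)

theorem aW_fst (W : J i X₀) : aW i X₀ W ≫ pullback.fst (hD i X₀ W) i = tD i X₀ W := rfl

theorem aW_snd (W : J i X₀) : aW i X₀ W ≫ pullback.snd (hD i X₀ W) i = W.1.ι ≫ X₀.hom :=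
  MorphismProperty.Over.w ((α i X₀).inv.app W)

theorem tD_naturality {W W' : J i X₀} (f : W ⟶ W') :
    X₀.left.homOfLE (leOfHom f) ≫ tD i X₀ W' = tD i X₀ W ≫ (D i X₀).map f :=
  t_naturality i X₀ f

theorem hD_naturality {W W' : J i X₀} (f : W ⟶ W') :
    (D i X₀).map f ≫ hD i X₀ W' = hD i X₀ W :=
  MorphismProperty.Over.w ((F' i X₀).map f)

theorem tD_hD (W : J i X₀) : tD i X₀ W ≫ hD i X₀ W = W.1.ι ≫ X₀.hom ≫ i := by
  rw [← aW_fst, Category.assoc, pullback.condition, ← Category.assoc, aW_snd, Category.assoc]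

theorem tD_injective (W : J i X₀) : Function.Injective (tD i X₀ W) := t_injective i X₀ W
theorem tD_surjective (W : J i X₀) : Function.Surjective (tD i X₀ W) := t_surjective i X₀ W
theorem tD_map_apply {W W' : J i X₀} (f : W ⟶ W') (y : (W.1 : Scheme.{u})) :
    (D i X₀).map f (tD i X₀ W y) = tD i X₀ W' (X₀.left.homOfLE (leOfHom f) y) :=
  t_map_apply i X₀ f y

/-- the glued scheme -/
noncomputable def X : Scheme.{u} := colimit (D i X₀)

/-- the structure morphism of the glued scheme -/
noncomputable def hX : X i X₀ ⟶ S :=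
  colimit.desc (D i X₀)
    { pt := S
      ι :=
        { app := fun W => hD i X₀ W
          naturality := fun W W' f =>
            (hD_naturality i X₀ f).trans (Category.comp_id _).symm } }

/-- the canonical open immersions into the glued scheme -/
noncomputable def ιX (W : J i X₀) : (D i X₀).obj W ⟶ X i X₀ := colimit.ι (D i X₀) W

instance (W : J i X₀) : IsOpenImmersion (ιX i X₀ W) := by
  unfold ιX X; infer_instance

theorem ιX_naturality {W W' : J i X₀} (f : W ⟶ W') :
    (D i X₀).map f ≫ ιX i X₀ W' = ιX i X₀ W := colimit.w (D i X₀) f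

theorem ι_hX (W : J i X₀) : ιX i X₀ W ≫ hX i X₀ = hD i X₀ W :=
  colimit.ι_desc _ _

instance etale_hX : Etale (hX i X₀) := by
  unfold X
  rw [IsZariskiLocalAtSource.iff_of_openCover (P := @Etale)
    (Scheme.IsLocallyDirected.openCover (D i X₀))]
  intro W
  change Etale (ιX i X₀ W ≫ hX i X₀)
  rw [ι_hX]
  exact ((F' i X₀).obj W).prop

open TopologicalSpace.Opens in
/-- the open cover of `X₀` by liftable opens -/
noncomputable def cov : X₀.left.OpenCover where
  I₀ := J i X₀
  X W := W.1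
  f W := W.1.ι
  mem₀ := by
    rw [Scheme.presieve₀_mem_precoverage_iff]
    refine ⟨fun x => ?_, inferInstance⟩
    obtain ⟨W, hW, hx, -⟩ := exists_liftable i X₀ ⊤ x trivial
    exact ⟨⟨W, hW⟩, ⟨x, hx⟩, rfl⟩

instance : Preorder (cov i X₀).I₀ := inferInstanceAs <| Preorder (J i X₀)

noncomputable instance cov_locallyDirected : Scheme.Cover.LocallyDirected (cov i X₀) :=
  .ofIsBasisOpensRange (by
    intro a b
    change a.1 ≤ b.1 ↔ (a.1.ι).opensRange ≤ (b.1.ι).opensRange
    rw [Scheme.Opens.opensRange_ι, Scheme.Opens.opensRange_ι]) <| by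
    rw [TopologicalSpace.Opens.isBasis_iff_nbhd]
    intro N x hx
    obtain ⟨W, hW, hxW, hle⟩ := exists_liftable i X₀ N x hx
    refine ⟨(W.ι).opensRange, ⟨⟨W, hW⟩, rfl⟩, ?_, ?_⟩
    · rw [Scheme.Opens.opensRange_ι]; exact hxW
    · rw [Scheme.Opens.opensRange_ι]; exact hle

theorem cov_trans {a b : J i X₀} (f : a ⟶ b) :
    (cov i X₀).trans f = X₀.left.homOfLE (leOfHom f) := rfl

theorem θ_compat {a b : J i X₀} (f : a ⟶ b) :
    (cov i X₀).trans f ≫ tD i X₀ b ≫ ιX i X₀ b = tD i X₀ a ≫ ιX i X₀ a := by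
  have e1 := tD_naturality i X₀ f
  have e2 := ιX_naturality i X₀ f
  exact ((Category.assoc _ _ _).symm.trans (congrArg (· ≫ ιX i X₀ b) e1)).trans
    ((Category.assoc _ _ _).trans (congrArg (tD i X₀ a ≫ ·) e2))

/-- the comparison morphism `X₀ ⟶ X` -/
noncomputable def θ : X₀.left ⟶ X i X₀ :=
  (cov i X₀).glueMorphismsOfLocallyDirected (fun W => tD i X₀ W ≫ ιX i X₀ W)
    (fun {_ _} f => θ_compat i X₀ f)

theorem ι_θ (W : J i X₀) : W.1.ι ≫ θ i X₀ = tD i X₀ W ≫ ιX i X₀ W :=
  (cov i X₀).map_glueMorphismsOfLocallyDirected _ _ W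

theorem θ_hX : θ i X₀ ≫ hX i X₀ = X₀.hom ≫ i := by
  apply (cov i X₀).hom_ext
  intro W
  change W.1.ι ≫ θ i X₀ ≫ hX i X₀ = W.1.ι ≫ X₀.hom ≫ i
  rw [← Category.assoc, ι_θ, Category.assoc, ι_hX, tD_hD]

/-- the comparison morphism to the base change -/
noncomputable def ψ : X₀.left ⟶ pullback (hX i X₀) i :=
  pullback.lift (θ i X₀) X₀.hom (θ_hX i X₀)

theorem ψ_fst : ψ i X₀ ≫ pullback.fst (hX i X₀) i = θ i X₀ := pullback.lift_fst _ _ _
theorem ψ_snd : ψ i X₀ ≫ pullback.snd (hX i X₀) i = X₀.hom := pullback.lift_snd _ _ _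

theorem ι_ψ (W : J i X₀) : W.1.ι ≫ ψ i X₀ = aW i X₀ W ≫
    pullback.map (hD i X₀ W) i (hX i X₀) i (ιX i X₀ W) (𝟙 S₀) (𝟙 S)
      ((Category.comp_id _).trans (ι_hX i X₀ W).symm) (by simp) := by
  apply pullback.hom_ext
  · rw [Category.assoc, ψ_fst, ι_θ, Category.assoc, pullback.lift_fst, ← Category.assoc, aW_fst]
  · rw [Category.assoc, ψ_snd, Category.assoc, pullback.lift_snd, Category.comp_id, aW_snd]

theorem isOpenImmersion_ι_ψ (W : J i X₀) : IsOpenImmersion ((cov i X₀).f W ≫ ψ i X₀) := by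
  change IsOpenImmersion (W.1.ι ≫ ψ i X₀)
  rw [ι_ψ]
  infer_instance

theorem ψ_injective : Function.Injective (ψ i X₀) := by
  intro x y hxy
  have h1 : θ i X₀ x = θ i X₀ y := by
    rw [← ψ_fst, Scheme.Hom.comp_apply, Scheme.Hom.comp_apply, hxy]
  obtain ⟨a, xa, rfl⟩ := (cov i X₀).exists_eq x
  obtain ⟨b, yb, rfl⟩ := (cov i X₀).exists_eq y
  change θ i X₀ (a.1.ι xa) = θ i X₀ (b.1.ι yb) at h1
  rw [← Scheme.Hom.comp_apply, ← Scheme.Hom.comp_apply, ι_θ, ι_θ, Scheme.Hom.comp_apply,
    Scheme.Hom.comp_apply] at h1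
  obtain ⟨k, fa, fb, z, hza, hzb⟩ := (Scheme.IsLocallyDirected.ι_eq_ι_iff (D i X₀)).mp h1
  obtain ⟨z₀, rfl⟩ := tD_surjective i X₀ k z
  rw [tD_map_apply] at hza hzb
  have ha := congrArg Subtype.val (tD_injective i X₀ a hza)
  have hb := congrArg Subtype.val (tD_injective i X₀ b hzb)
  rw [Scheme.homOfLE_apply] at ha hb
  change xa.1 = yb.1
  exact ha.symm.trans hb

theorem ψ_surjective : Function.Surjective (ψ i X₀) := by
  intro q
  obtain ⟨W, d, hd⟩ := Scheme.IsLocallyDirected.ι_jointly_surjective (D i X₀)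
    (pullback.fst (hX i X₀) i q)
  obtain ⟨x₀, rfl⟩ := tD_surjective i X₀ W d
  haveI : IsClosedImmersion (pullback.fst (hX i X₀) i) :=
    MorphismProperty.pullback_fst (P := @IsClosedImmersion) _ _ inferInstance
  refine ⟨W.1.ι x₀, ?_⟩
  apply (pullback.fst (hX i X₀) i).isClosedEmbedding.injective
  have hd' : ιX i X₀ W (tD i X₀ W x₀) = pullback.fst (hX i X₀) i q := hd
  rw [← hd', ← Scheme.Hom.comp_apply, ← Scheme.Hom.comp_apply, ← Scheme.Hom.comp_apply,
    ψ_fst, ι_θ]

instance isIso_ψ : IsIso (ψ i X₀) := by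
  haveI : IsOpenImmersion (ψ i X₀) :=
    IsOpenImmersion.of_openCover_source (ψ i X₀) (cov i X₀) (ψ_injective i X₀)
      (isOpenImmersion_ι_ψ i X₀)
  apply isIso_of_isOpenImmersion_of_opensRange_eq_top
  rw [eq_top_iff]
  intro q _
  exact ψ_surjective i X₀ q

/-- essential surjectivity: `X₀` is the base change of the glued scheme -/
theorem essImage_bc : (EtCoh.bc i).essImage X₀ := by
  haveI := isIso_ψ i X₀
  let e : X₀.left ≅ pullback (hX i X₀) i := asIso (ψ i X₀)
  exact ⟨Scheme.Etale.mk (hX i X₀), ⟨(MorphismProperty.Over.isoMk (A := X₀)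
    (B := (EtCoh.bc i).obj (Scheme.Etale.mk (hX i X₀))) e (ψ_snd i X₀)).symm⟩⟩

end Glue

theorem main [IsClosedImmersion i] [Surjective i] : (EtCoh.bc i).IsEquivalence where
  faithful := bc_faithful i
  full := bc_full i
  essSurj := ⟨fun X₀ => essImage_bc i X₀⟩

end Groth.Agent.Lib.T2H7.Thick
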