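import Mathlib
import Groth.Prelude.Def_ActBC

/-!
# Limits of group objects and of pseudo-torsors (helper7)

* `preservesLimit_forget`: the forgetful functor `Grp C ⥤ C` preserves a limit as soon as the
  underlying diagram has a limit;
* `isPseudoTorsorSch_of_limit`: a limit of pseudo-torsors under a limit of groups is a pseudo-torsor.
-/

set_option autoImplicit false
set_option linter.unusedSectionVars false
set_option linter.unusedVariables false
set_option linter.style.haveILetI false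
universe u
open CategoryTheory CategoryTheory.Limits AlgebraicGeometry MonoidalCategory
  CartesianMonoidalCategory MonObj

namespace Groth.Agent.Lib.T2H7.TorLimA

noncomputable section GrpForget

variable {C : Type*} [Category C] [CartesianMonoidalCategory C] {J : Type*} [Category J]
  (F : J ⥤ Grp C)

/-- the inverse on a limit of the underlying objects of a diagram of group objects. -/
noncomputable def limInv (c : Cone ((F ⋙ Grp.forget₂Mon C) ⋙ Mon.forget C)) (hc : IsLimit c) :
    c.pt ⟶ c.pt :=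
  hc.lift
    { pt := c.pt
      π :=
        { app := fun j => c.π.app j ≫ ι[(F.obj j).X]
          naturality := by
            intro j j' g
            have h1 := c.w g
            simp only [Functor.const_obj_obj, Functor.const_obj_map, Category.id_comp,
              Functor.comp_obj, Functor.comp_map, Category.assoc]
            have h2 : ι[(F.obj j).X] ≫ (F.map g).hom.hom = (F.map g).hom.hom ≫ ι[(F.obj j').X] :=
              GrpObj.inv_hom _
            rw [← h1]
            simp only [Functor.comp_obj, Functor.comp_map, Category.assoc]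
            congr 1
            exact h2.symm } }

theorem limInv_π (c : Cone ((F ⋙ Grp.forget₂Mon C) ⋙ Mon.forget C)) (hc : IsLimit c) (j : J) :
    limInv F c hc ≫ c.π.app j = c.π.app j ≫ ι[(F.obj j).X] :=
  hc.fac _ j

theorem limMul_π (c : Cone ((F ⋙ Grp.forget₂Mon C) ⋙ Mon.forget C)) (hc : IsLimit c) (j : J) :
    μ[(Mon.limit (F ⋙ Grp.forget₂Mon C) c hc).X] ≫ c.π.app j =
      (c.π.app j ⊗ₘ c.π.app j) ≫ μ[(F.obj j).X] :=
  IsMonHom.mul_hom (f := ((Mon.limitCone (F ⋙ Grp.forget₂Mon C) c hc).π.app j).hom)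

theorem limOne_π (c : Cone ((F ⋙ Grp.forget₂Mon C) ⋙ Mon.forget C)) (hc : IsLimit c) (j : J) :
    η[(Mon.limit (F ⋙ Grp.forget₂Mon C) c hc).X] ≫ c.π.app j = η[(F.obj j).X] :=
  IsMonHom.one_hom (f := ((Mon.limitCone (F ⋙ Grp.forget₂Mon C) c hc).π.app j).hom)

theorem aux_left {X Y : C} [MonObj X] [GrpObj Y] (p : X ⟶ Y) (i : X ⟶ X)
    (hμ : μ[X] ≫ p = (p ⊗ₘ p) ≫ μ[Y]) (hη : η[X] ≫ p = η[Y]) (hi : i ≫ p = p ≫ ι[Y]) :
    (lift i (𝟙 X) ≫ μ[X]) ≫ p = (toUnit X ≫ η[X]) ≫ p := by
  rw [Category.assoc, Category.assoc, hμ, hη, lift_map_assoc, hi, Category.id_comp]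
  have h4 : lift (p ≫ ι[Y]) p = p ≫ lift ι[Y] (𝟙 _) := by
    rw [comp_lift, Category.comp_id]
  rw [h4, Category.assoc, GrpObj.left_inv, ← Category.assoc]
  congr 1
  exact toUnit_unique _ _

theorem aux_right {X Y : C} [MonObj X] [GrpObj Y] (p : X ⟶ Y) (i : X ⟶ X)
    (hμ : μ[X] ≫ p = (p ⊗ₘ p) ≫ μ[Y]) (hη : η[X] ≫ p = η[Y]) (hi : i ≫ p = p ≫ ι[Y]) :
    (lift (𝟙 X) i ≫ μ[X]) ≫ p = (toUnit X ≫ η[X]) ≫ p := by
  rw [Category.assoc, Category.assoc, hμ, hη, lift_map_assoc, hi, Category.id_comp]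
  have h4 : lift p (p ≫ ι[Y]) = p ≫ lift (𝟙 _) ι[Y] := by
    rw [comp_lift, Category.comp_id]
  rw [h4, Category.assoc, GrpObj.right_inv, ← Category.assoc]
  congr 1
  exact toUnit_unique _ _

/-- the group object structure on a limit of the underlying objects. -/
noncomputable def limGrp (c : Cone ((F ⋙ Grp.forget₂Mon C) ⋙ Mon.forget C)) (hc : IsLimit c) :
    Grp C where
  X := c.pt
  grp :=
    { (Mon.limit (F ⋙ Grp.forget₂Mon C) c hc).mon with
      inv := limInv F c hc
      left_inv := by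
        apply hc.hom_ext
        intro j
        exact aux_left (X := (Mon.limit (F ⋙ Grp.forget₂Mon C) c hc).X) (Y := (F.obj j).X)
          (c.π.app j) (limInv F c hc) (limMul_π F c hc j) (limOne_π F c hc j)
          (limInv_π F c hc j)
      right_inv := by
        apply hc.hom_ext
        intro j
        exact aux_right (X := (Mon.limit (F ⋙ Grp.forget₂Mon C) c hc).X) (Y := (F.obj j).X)
          (c.π.app j) (limInv F c hc) (limMul_π F c hc j) (limOne_π F c hc j)
          (limInv_π F c hc j) }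

theorem limGrp_toMon (c : Cone ((F ⋙ Grp.forget₂Mon C) ⋙ Mon.forget C)) (hc : IsLimit c) :
    (limGrp F c hc).toMon = Mon.limit (F ⋙ Grp.forget₂Mon C) c hc := rfl

/-- the forgetful functor to monoid objects creates a limit as soon as the underlying diagram
has a limit. -/
@[instance_reducible]
def createsLimitForget₂Mon
    (c : Cone ((F ⋙ Grp.forget₂Mon C) ⋙ Mon.forget C)) (hc : IsLimit c) :
    CreatesLimit F (Grp.forget₂Mon C) :=
  createsLimitOfFullyFaithfulOfIso' (Mon.limitConeIsLimit (F ⋙ Grp.forget₂Mon C) c hc)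
    (limGrp F c hc) (Iso.refl _)

/-- the forgetful functor from group objects preserves a limit as soon as the underlying
diagram has a limit. -/
theorem preservesLimit_forget [HasLimit ((F ⋙ Grp.forget₂Mon C) ⋙ Mon.forget C)] :
    PreservesLimit F (Grp.forget C) := by
  letI : CreatesLimit F (Grp.forget₂Mon C) :=
    createsLimitForget₂Mon F _ (limit.isLimit ((F ⋙ Grp.forget₂Mon C) ⋙ Mon.forget C))
  letI : CreatesLimit F (Grp.forget C) :=
    inferInstanceAs (CreatesLimit F (Grp.forget₂Mon C ⋙ Mon.forget C))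
  haveI : HasLimit (F ⋙ Grp.forget C) :=
    inferInstanceAs (HasLimit ((F ⋙ Grp.forget₂Mon C) ⋙ Mon.forget C))
  exact preservesLimit_of_createsLimit_and_hasLimit F (Grp.forget C)

end GrpForget

section PsLim

variable {S : Scheme.{u}} {I : Type*} [Category I]
  (Hi : I → Over S) [∀ i, GrpObj (Hi i)] (H : Over S) [GrpObj H]
  (uH : ∀ {i j : I}, (i ⟶ j) → (Hi i ⟶ Hi j)) [∀ (i j : I) (φ : i ⟶ j), IsMonHom (uH φ)]
  (vH : ∀ i, H ⟶ Hi i) [∀ i, IsMonHom (vH i)]
  (hvH : ∀ {i j : I} (φ : i ⟶ j), vH i ≫ uH φ = vH j)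
  (hextH : ∀ (W : Over S) (p q : W ⟶ H), (∀ i, p ≫ vH i = q ≫ vH i) → p = q)
  (hliftH : ∀ (W : Over S) (p : ∀ i, W ⟶ Hi i), (∀ {i j : I} (φ : i ⟶ j), p i ≫ uH φ = p j) →
    ∃ q : W ⟶ H, ∀ i, q ≫ vH i = p i)
  (Ti : I → Over S) (T : Over S)
  (τ : ∀ {i j : I}, (i ⟶ j) → (Ti i ⟶ Ti j)) (π : ∀ i, T ⟶ Ti i)
  (hπ : ∀ {i j : I} (φ : i ⟶ j), π i ≫ τ φ = π j)
  (hextT : ∀ (W : Over S) (p q : W ⟶ T), (∀ i, p ≫ π i = q ≫ π i) → p = q)
  (aT : ∀ i, AlgGrp.Action (Hi i) (Ti i)) (hT : ∀ i, NonAbH1.IsPseudoTorsorSch (aT i))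
  (hτ : ∀ {i j : I} (φ : i ⟶ j),
    AlgGrp.Action.IsEquivariant (aT i) ((aT j).restrict (uH φ)) (τ φ))
  (a : AlgGrp.Action H T)
  (ha : ∀ i, AlgGrp.Action.IsEquivariant a ((aT i).restrict (vH i)) (π i))

include hvH hextH hliftH hπ hextT hT hτ ha in
theorem isPseudoTorsorSch_of_limit : NonAbH1.IsPseudoTorsorSch a := by
  haveI : ∀ i, IsIso (lift (aT i).act (snd (Hi i) (Ti i))) := hT
  -- the shear maps commute with the transition maps
  have E1 : ∀ {i j : I} (φ : i ⟶ j), lift (aT i).act (snd (Hi i) (Ti i)) ≫ (τ φ ⊗ₘ τ φ) =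
      (uH φ ⊗ₘ τ φ) ≫ lift (aT j).act (snd (Hi j) (Ti j)) := by
    intro i j φ
    have h := hτ φ
    unfold AlgGrp.Action.IsEquivariant at h
    rw [AlgGrp.Action.restrict_act] at h
    apply CartesianMonoidalCategory.hom_ext
    · simp only [Category.assoc, tensorHom_fst, lift_fst_assoc, lift_fst]
      rw [h, tensorHom_def']
      simp
    · simp
  have E2 : ∀ {i j : I} (φ : i ⟶ j),
      inv (lift (aT i).act (snd (Hi i) (Ti i))) ≫ (uH φ ⊗ₘ τ φ) =
        (τ φ ⊗ₘ τ φ) ≫ inv (lift (aT j).act (snd (Hi j) (Ti j))) := by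
    intro i j φ
    rw [IsIso.inv_comp_eq, ← Category.assoc, IsIso.eq_comp_inv, E1]
  have E3 : ∀ i, lift a.act (snd H T) ≫ (π i ⊗ₘ π i) =
      (vH i ⊗ₘ π i) ≫ lift (aT i).act (snd (Hi i) (Ti i)) := by
    intro i
    have h := ha i
    unfold AlgGrp.Action.IsEquivariant at h
    rw [AlgGrp.Action.restrict_act] at h
    apply CartesianMonoidalCategory.hom_ext
    · simp only [Category.assoc, tensorHom_fst, lift_fst_assoc, lift_fst]
      rw [h, tensorHom_def']
      simp
    · simp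
  -- the division map
  obtain ⟨d, hd⟩ := hliftH (T ⊗ T)
    (fun i => (π i ⊗ₘ π i) ≫ inv (lift (aT i).act (snd (Hi i) (Ti i))) ≫ fst (Hi i) (Ti i))
    (by
      intro i j φ
      simp only [Category.assoc]
      rw [← tensorHom_fst (uH φ) (τ φ), reassoc_of% (E2 φ), tensorHom_comp_tensorHom_assoc, hπ])
  have hinv_snd : ∀ i, inv (lift (aT i).act (snd (Hi i) (Ti i))) ≫ snd (Hi i) (Ti i) =
      snd (Ti i) (Ti i) := by
    intro i
    rw [IsIso.inv_comp_eq, lift_snd]
  have hinv_act : ∀ i, inv (lift (aT i).act (snd (Hi i) (Ti i))) ≫ (aT i).act =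
      fst (Ti i) (Ti i) := by
    intro i
    rw [IsIso.inv_comp_eq, lift_fst]
  refine ⟨⟨lift d (snd T T), ?_, ?_⟩⟩
  · -- Φ ≫ Ψ = 𝟙
    apply CartesianMonoidalCategory.hom_ext
    · rw [Category.assoc, lift_fst, Category.id_comp]
      apply hextH
      intro i
      rw [Category.assoc, hd, reassoc_of% (E3 i), IsIso.hom_inv_id_assoc, tensorHom_fst]
    · rw [Category.assoc, lift_snd, lift_snd, Category.id_comp]
  · -- Ψ ≫ Φ = 𝟙
    apply CartesianMonoidalCategory.hom_ext
    · rw [Category.assoc, lift_fst, Category.id_comp]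
      apply hextT
      intro i
      have h := ha i
      unfold AlgGrp.Action.IsEquivariant at h
      rw [AlgGrp.Action.restrict_act] at h
      rw [Category.assoc, h]
      have h5 : lift d (snd T T) ≫ (H ◁ π i) ≫ (vH i ▷ Ti i) =
          (π i ⊗ₘ π i) ≫ inv (lift (aT i).act (snd (Hi i) (Ti i))) := by
        apply CartesianMonoidalCategory.hom_ext
        · simp only [Category.assoc, whiskerRight_fst, whiskerLeft_fst_assoc, lift_fst_assoc]
          rw [hd]
        · simp only [Category.assoc, whiskerRight_snd, whiskerLeft_snd, lift_snd_assoc]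
          rw [hinv_snd, tensorHom_snd]
      rw [reassoc_of% h5, hinv_act, tensorHom_fst]
    · rw [Category.assoc, lift_snd, lift_snd, Category.id_comp]

end PsLim

end Groth.Agent.Lib.T2H7.TorLimA
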