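import Mathlib
import Groth.Prelude.Def_ActBC
import Groth.Agent.Lib.T2H7TorLimA
import Groth.Agent.Lib.T2H7FFLimA
import Groth.Agent.Lib.T2H7ActLimB
import Groth.Agent.Lib.Helper22LimAffEx
import Groth.Agent.Lib.Helper12Descent
import Groth.Agent.Lib.Helper12AffineDescent

/-!
# A cofiltered limit of fpqc torsors under affine algebraic groups over a field is an fpqc torsor
under the limit group (helper7)
-/

set_option autoImplicit false
set_option linter.unusedSectionVars false
set_option linter.unusedVariables false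
set_option linter.style.haveILetI false
universe u
open CategoryTheory CategoryTheory.Limits AlgebraicGeometry MonoidalCategory
  CartesianMonoidalCategory MonObj

namespace Groth.Agent.Lib.T2H7.TorLimB

open Groth.Agent.Lib.T2H7.TorLimA Groth.Agent.Lib.T2H7.FFLimA Groth.Agent.Lib.T2H7.ActLimB

theorem limit_torsor (k : Type u) [Field k]
    (X : Scheme.{u}) [X.Over (Spec (CommRingCat.of k))] [CompactSpace X]
    {I : Type u} [SmallCategory I] [IsCofiltered I]
    (DG : I ⥤ Grp (Over (Spec (CommRingCat.of k))))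
    [∀ i, IsAffineHom (DG.obj i).X.hom] [∀ i, LocallyOfFiniteType (DG.obj i).X.hom]
    (cG : Cone DG) (hcG : IsLimit cG)
    (DT : I ⥤ Over X)
    (aT : ∀ i, AlgGrp.Action (Red.bc (X ↘ Spec (CommRingCat.of k)) (DG.obj i).X) (DT.obj i))
    (hT : ∀ i, NonAbH1.IsTorsorFor Scheme.fpqcPrecoverage (aT i))
    (hDT : ∀ (i j : I) (φ : i ⟶ j), AlgGrp.Action.IsEquivariant (aT i)
      ((aT j).restrict ((Over.pullback (X ↘ Spec (CommRingCat.of k))).map (DG.map φ).hom.hom)) (DT.map φ))
    (cT : Cone DT) (hcT : IsLimit cT)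
    (a : AlgGrp.Action (Red.bc (X ↘ Spec (CommRingCat.of k)) cG.pt.X) cT.pt)
    (ha : ∀ i, AlgGrp.Action.IsEquivariant a
      ((aT i).restrict ((Over.pullback (X ↘ Spec (CommRingCat.of k))).map (cG.π.app i).hom.hom)) (cT.π.app i)) :
    NonAbH1.IsTorsorFor Scheme.fpqcPrecoverage a := by
  haveI : IsConnected I := IsCofiltered.isConnected I
  -- the underlying limit of the groups
  have haffG : ∀ i, @IsAffineHom (DG.obj i).X.left (Spec (CommRingCat.of k)) (DG.obj i).X.hom :=
    fun i => ‹∀ i, IsAffineHom (DG.obj i).X.hom› i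
  haveI : ∀ {i j : I} (φ : i ⟶ j), IsAffineHom
      ((((DG ⋙ Grp.forget₂Mon _) ⋙ Mon.forget _) ⋙ Over.forget _).map φ) := by
    intro i j φ
    haveI := haffG j
    have h1 : IsAffineHom ((DG.map φ).hom.hom.left ≫ (DG.obj j).X.hom) := by
      rw [Over.w]; exact haffG i
    exact IsAffineHom.of_comp (DG.map φ).hom.hom.left (DG.obj j).X.hom
  haveI : HasLimit (((DG ⋙ Grp.forget₂Mon _) ⋙ Mon.forget _) ⋙ Over.forget _) :=
    Groth.Agent.Lib.Helper22.LimAffEx.hasLimit_of_isAffineHom _
  haveI : HasLimit ((DG ⋙ Grp.forget₂Mon _) ⋙ Mon.forget (Over (Spec (CommRingCat.of k)))) :=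
    hasLimit_of_created _ (Over.forget _)
  haveI := preservesLimit_forget DG
  have hG₀ : IsLimit ((Grp.forget _).mapCone cG) := isLimitOfPreserves _ hcG
  have hH : IsLimit ((Over.pullback (X ↘ Spec (CommRingCat.of k))).mapCone
      ((Grp.forget _).mapCone cG)) := isLimitOfPreserves _ hG₀
  -- the pseudo-torsor property
  have hps : NonAbH1.IsPseudoTorsorSch a := by
    refine isPseudoTorsorSch_of_limit
      (fun i => Red.bc (X ↘ Spec (CommRingCat.of k)) (DG.obj i).X)
      (Red.bc (X ↘ Spec (CommRingCat.of k)) cG.pt.X)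
      (fun {i j} φ => (Over.pullback (X ↘ Spec (CommRingCat.of k))).map (DG.map φ).hom.hom)
      (fun i => (Over.pullback (X ↘ Spec (CommRingCat.of k))).map (cG.π.app i).hom.hom)
      ?_ ?_ ?_ (fun i => DT.obj i) cT.pt (fun {i j} φ => DT.map φ) (fun i => cT.π.app i)
      (fun {i j} φ => cT.w φ) (fun W p q h => hcT.hom_ext h) aT (fun i => (hT i).1)
      (fun {i j} φ => hDT i j φ) a ha
    · intro i j φ
      rw [← Functor.map_comp]
      congr 1
      exact congrArg (fun m => m.hom.hom) (cG.w φ)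
    · intro W p q h
      exact hH.hom_ext h
    · intro W p hp
      refine ⟨hH.lift ⟨W, ⟨p, ?_⟩⟩, fun i => hH.fac _ i⟩
      intro i j φ
      simp only [Functor.const_obj_obj, Functor.const_obj_map, Category.id_comp]
      exact (hp φ).symm
  -- the structure morphisms of the torsors are affine and faithfully flat
  have hGs : ∀ i, Surjective (DG.obj i).X.hom := by
    intro i
    have h0 : Surjective (η[(DG.obj i).X].left ≫ (DG.obj i).X.hom) := by
      rw [Over.w]
      exact (inferInstance : Surjective (𝟙 (Spec (CommRingCat.of k))))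
    exact Surjective.of_comp η[(DG.obj i).X].left (DG.obj i).X.hom
  have hGf : ∀ i, Flat (DG.obj i).X.hom := fun i => inferInstance
  have hT1 : ∀ i, IsAffineHom (DT.obj i).hom := fun i =>
    torsor_prop (aT i) @IsAffineHom Groth.Agent.Lib.Helper12.descendsAlong_isAffineHom (hT i)
      (MorphismProperty.pullback_snd (P := @IsAffineHom) _ _ (haffG i))
  have hT2 : ∀ i, Flat (DT.obj i).hom := fun i =>
    torsor_prop (aT i) @Flat Groth.Agent.Lib.Helper12.descendsAlong_flat (hT i)
      (MorphismProperty.pullback_snd (P := @Flat) _ _ (hGf i))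
  have hT3 : ∀ i, Surjective (DT.obj i).hom := fun i =>
    torsor_prop (aT i) @Surjective inferInstance (hT i)
      (MorphismProperty.pullback_snd (P := @Surjective) _ _ (hGs i))
  -- the limit in the category of schemes
  have hc : IsLimit ((Over.forget X).mapCone cT) := isLimitOfPreserves (Over.forget X) hcT
  haveI : ∀ (i i' : I) (φ : i ⟶ i'), IsAffineHom ((DT ⋙ Over.forget X).map φ) := by
    intro i i' φ
    haveI : @IsAffineHom (DT.obj i').left X (DT.obj i').hom := hT1 i'
    have h1 : IsAffineHom ((DT.map φ).left ≫ (DT.obj i').hom) := by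
      rw [Over.w]; exact hT1 i
    exact IsAffineHom.of_comp (DT.map φ).left (DT.obj i').hom
  haveI : ∀ i, @IsAffineHom ((DT ⋙ Over.forget X).obj i) X (DT.obj i).hom := hT1
  have hf : ∀ {i i' : I} (φ : i ⟶ i'),
      (DT ⋙ Over.forget X).map φ ≫ (DT.obj i').hom = (DT.obj i).hom := fun φ => Over.w (DT.map φ)
  have hfc : ∀ i, ((Over.forget X).mapCone cT).π.app i ≫ (DT.obj i).hom = cT.pt.hom :=
    fun i => Over.w (cT.π.app i)
  obtain ⟨hflat, hsurj⟩ := ff_of_isLimit (DT ⋙ Over.forget X) ((Over.forget X).mapCone cT) hc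
    (fun i => (DT.obj i).hom) hf cT.pt.hom hfc hT2 hT3
  have haff := isAffineHom_of_isLimit (DT ⋙ Over.forget X) ((Over.forget X).mapCone cT) hc
    (fun i => (DT.obj i).hom) cT.pt.hom hfc
  have hqc : @QuasiCompact cT.pt.left X cT.pt.hom := by
    haveI : @IsAffineHom cT.pt.left X cT.pt.hom := haff
    infer_instance
  exact isTorsorFor_of_cover a hps cT.pt.hom (𝟙 _) (Category.id_comp _) hflat hsurj hqc

end Groth.Agent.Lib.T2H7.TorLimB
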