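import Mathlib

/-!
# Coefficients of a split polynomial over an ultrametric field and the number of unit roots

Helper library for S17987 (seat helper7).
-/

set_option autoImplicit false

namespace Groth.Agent.Lib.T2H7.UltraRoots

open Polynomial

variable {F : Type*} [NormedField F]

/-- the product of the `X - z` -/
noncomputable def pr (s : Multiset F) : F[X] := (s.map fun z => X - C z).prod

theorem pr_cons (z : F) (s : Multiset F) : pr (z ::ₘ s) = (X - C z) * pr s := by
  unfold pr
  rw [Multiset.map_cons, Multiset.prod_cons]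

theorem pr_add (s t : Multiset F) : pr (s + t) = pr s * pr t := by
  unfold pr
  rw [Multiset.map_add, Multiset.prod_add]

theorem coeff_X_sub_C_mul (z : F) (Q : F[X]) (j : ℕ) :
    ((X - C z) * Q).coeff (j + 1) = Q.coeff j - z * Q.coeff (j + 1) := by
  rw [sub_mul, coeff_sub, coeff_X_mul, coeff_C_mul]

theorem coeff_zero_X_sub_C_mul (z : F) (Q : F[X]) :
    ((X - C z) * Q).coeff 0 = - (z * Q.coeff 0) := by
  rw [sub_mul, coeff_sub, coeff_X_mul_zero, coeff_C_mul, zero_sub]

theorem coeff_card_pr (s : Multiset F) : (pr s).coeff (Multiset.card s) = 1 := by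
  have h1 : (pr s).Monic := by
    unfold pr
    exact monic_multiset_prod_of_monic _ _ fun z _ => monic_X_sub_C z
  have h2 : (pr s).natDegree = Multiset.card s := by
    unfold pr
    exact natDegree_multiset_prod_X_sub_C_eq_card s
  rw [← h2]
  exact h1.coeff_natDegree

variable [IsUltrametricDist F]

/-- the open unit ball as an additive subgroup -/
def ball : AddSubgroup F where
  carrier := {x | ‖x‖ < 1}
  zero_mem' := by simp
  add_mem' := by
    intro a b ha hb
    exact lt_of_le_of_lt (IsUltrametricDist.norm_add_le_max a b) (max_lt ha hb)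
  neg_mem' := by
    intro a ha
    simpa using ha

theorem mem_ball {x : F} : x ∈ ball (F := F) ↔ ‖x‖ < 1 := Iff.rfl

/-- the closed unit ball as an additive subgroup -/
def cball : AddSubgroup F where
  carrier := {x | ‖x‖ ≤ 1}
  zero_mem' := by simp
  add_mem' := by
    intro a b ha hb
    exact le_trans (IsUltrametricDist.norm_add_le_max a b) (max_le ha hb)
  neg_mem' := by
    intro a ha
    simpa using ha

theorem mem_cball {x : F} : x ∈ cball (F := F) ↔ ‖x‖ ≤ 1 := Iff.rfl

theorem mul_mem_ball {x y : F} (hx : ‖x‖ ≤ 1) (hy : ‖y‖ < 1) : x * y ∈ ball (F := F) := by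
  rw [mem_ball, norm_mul]
  calc ‖x‖ * ‖y‖ ≤ 1 * ‖y‖ := mul_le_mul_of_nonneg_right hx (norm_nonneg _)
    _ = ‖y‖ := one_mul _
    _ < 1 := hy

theorem mul_mem_cball {x y : F} (hx : ‖x‖ ≤ 1) (hy : ‖y‖ ≤ 1) : x * y ∈ cball (F := F) := by
  rw [mem_cball, norm_mul]
  exact mul_le_one₀ hx (norm_nonneg _) hy

theorem norm_add_eq_one {x y : F} (hx : ‖x‖ = 1) (hy : ‖y‖ < 1) : ‖x + y‖ = 1 := by
  have h := IsUltrametricDist.norm_add_eq_max_of_norm_ne_norm (x := x) (y := y) (by rw [hx]; exact hy.ne')
  rw [h, hx, max_eq_left hy.le]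

theorem coeff_pr_mem_cball (s : Multiset F) (hs : ∀ z ∈ s, ‖z‖ ≤ 1) (j : ℕ) :
    (pr s).coeff j ∈ cball (F := F) := by
  induction s using Multiset.induction_on generalizing j with
  | empty =>
    unfold pr
    rw [Multiset.map_zero, Multiset.prod_zero, coeff_one]
    split_ifs
    · rw [mem_cball, norm_one]
    · exact AddSubgroup.zero_mem _
  | cons z s ih =>
    have hz : ‖z‖ ≤ 1 := hs z (Multiset.mem_cons_self z s)
    have ih' := ih (fun w hw => hs w (Multiset.mem_cons_of_mem hw))
    rw [pr_cons]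
    cases j with
    | zero =>
      rw [coeff_zero_X_sub_C_mul]
      exact AddSubgroup.neg_mem _ (mul_mem_cball hz (ih' 0))
    | succ j =>
      rw [coeff_X_sub_C_mul]
      exact AddSubgroup.sub_mem _ (ih' j) (mul_mem_cball hz (ih' (j + 1)))

theorem coeff_pr_mem_ball (s : Multiset F) (hs : ∀ z ∈ s, ‖z‖ < 1) (j : ℕ) (hj : j < Multiset.card s) :
    (pr s).coeff j ∈ ball (F := F) := by
  induction s using Multiset.induction_on generalizing j with
  | empty => simp at hj
  | cons z s ih =>
    have hz : ‖z‖ < 1 := hs z (Multiset.mem_cons_self z s)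
    have hs' : ∀ w ∈ s, ‖w‖ < 1 := fun w hw => hs w (Multiset.mem_cons_of_mem hw)
    have ih' := ih hs'
    have hc : ∀ i, ‖(pr s).coeff i‖ ≤ 1 := fun i =>
      coeff_pr_mem_cball s (fun w hw => (hs' w hw).le) i
    rw [pr_cons]
    rw [Multiset.card_cons] at hj
    cases j with
    | zero =>
      rw [coeff_zero_X_sub_C_mul]
      refine AddSubgroup.neg_mem _ ?_
      rw [mul_comm]
      exact mul_mem_ball (hc 0) hz
    | succ j =>
      rw [coeff_X_sub_C_mul]
      refine AddSubgroup.sub_mem _ (ih' j (by omega)) ?_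
      rw [mul_comm]
      exact mul_mem_ball (hc _) hz

omit [IsUltrametricDist F] in
theorem norm_coeff_zero_pr (s : Multiset F) (hs : ∀ z ∈ s, ‖z‖ = 1) : ‖(pr s).coeff 0‖ = 1 := by
  induction s using Multiset.induction_on with
  | empty =>
    unfold pr
    rw [Multiset.map_zero, Multiset.prod_zero, coeff_one_zero, norm_one]
  | cons z s ih =>
    rw [pr_cons, coeff_zero_X_sub_C_mul, norm_neg, norm_mul, hs z (Multiset.mem_cons_self z s),
      ih (fun w hw => hs w (Multiset.mem_cons_of_mem hw)), one_mul]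

/-- key lemma: in `pr (U + N)` with unit roots `U` and small roots `N`, the coefficients
below `card N` are small and the coefficient at `card N` is a unit -/
theorem coeff_pr_add (U N : Multiset F) (hU : ∀ z ∈ U, ‖z‖ = 1) (hN : ∀ z ∈ N, ‖z‖ < 1) :
    (∀ m < Multiset.card N, ‖(pr (U + N)).coeff m‖ < 1) ∧
      ‖(pr (U + N)).coeff (Multiset.card N)‖ = 1 := by
  classical
  have hUc : ∀ i, ‖(pr U).coeff i‖ ≤ 1 := fun i =>
    coeff_pr_mem_cball U (fun w hw => (hU w hw).le) i
  constructor
  · intro m hm
    rw [pr_add, coeff_mul]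
    refine AddSubgroup.sum_mem (ball (F := F)) fun x hx => ?_
    have hx' := Finset.HasAntidiagonal.mem_antidiagonal.mp hx
    exact mul_mem_ball (hUc _) (coeff_pr_mem_ball N hN _ (by omega))
  · rw [pr_add, coeff_mul]
    have h0 : ((0 : ℕ), Multiset.card N) ∈ Finset.HasAntidiagonal.antidiagonal (Multiset.card N) := by
      rw [Finset.HasAntidiagonal.mem_antidiagonal, zero_add]
    rw [← Finset.add_sum_erase _ _ h0, coeff_card_pr, mul_one]
    refine norm_add_eq_one (norm_coeff_zero_pr U hU) ?_
    refine AddSubgroup.sum_mem (ball (F := F)) fun x hx => ?_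
    have hx1 := Finset.mem_of_mem_erase hx
    have hx2 := Finset.ne_of_mem_erase hx
    have hx3 := Finset.HasAntidiagonal.mem_antidiagonal.mp hx1
    have hx4 : x.2 < Multiset.card N := by
      rcases Nat.lt_or_ge x.2 (Multiset.card N) with h | h
      · exact h
      · exfalso
        apply hx2
        ext
        · show x.1 = 0
          omega
        · show x.2 = Multiset.card N
          omega
    exact mul_mem_ball (hUc _) (coeff_pr_mem_ball N hN _ hx4)

/-- For a monic split polynomial all of whose roots have norm at most one, with `u` unit roots: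
the coefficients of index below `deg - u` are small and the coefficient at `deg - u` is a unit. -/
theorem coeff_of_splits [DecidablePred fun z : F => ‖z‖ = 1] (P : F[X]) (hm : P.Monic) (hs : P.Splits)
    (hr : ∀ z ∈ P.roots, ‖z‖ ≤ 1) :
    (∀ m < P.natDegree - Multiset.card (P.roots.filter fun z => ‖z‖ = 1), ‖P.coeff m‖ < 1) ∧
      ‖P.coeff (P.natDegree - Multiset.card (P.roots.filter fun z => ‖z‖ = 1))‖ = 1 := by
  set U := P.roots.filter fun z => ‖z‖ = 1 with hU
  set N := P.roots.filter fun z => ¬ ‖z‖ = 1 with hN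
  have hUN : U + N = P.roots := Multiset.filter_add_not _ _
  have hP : P = pr (U + N) := by
    rw [hUN]
    exact hs.eq_prod_roots_of_monic hm
  have hcard : P.natDegree - Multiset.card U = Multiset.card N := by
    rw [hs.natDegree_eq_card_roots, ← hUN, Multiset.card_add, Nat.add_sub_cancel_left]
  have h1 : ∀ z ∈ U, ‖z‖ = 1 := fun z hz => (Multiset.mem_filter.mp hz).2
  have h2 : ∀ z ∈ N, ‖z‖ < 1 := fun z hz =>
    lt_of_le_of_ne (hr z (Multiset.mem_filter.mp hz).1) (Multiset.mem_filter.mp hz).2
  rw [hcard]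
  have := coeff_pr_add U N h1 h2
  rw [← hP] at this
  exact this

section Padic

variable (p : ℕ) [Fact p.Prime]

theorem norm_intCast (a : ℤ) : ‖(a : PadicAlgCl p)‖ = ‖(a : ℚ_[p])‖ := by
  rw [← PadicAlgCl.norm_extends, map_intCast]

theorem norm_intCast_lt_one_iff (a : ℤ) : ‖(a : PadicAlgCl p)‖ < 1 ↔ (p : ℤ) ∣ a := by
  rw [norm_intCast, Padic.norm_intCast_lt_one_iff]

theorem norm_le_one_of_isIntegral (z : PadicAlgCl p) (hz : IsIntegral ℤ z) : ‖z‖ ≤ 1 := by
  have h1 : IsIntegral ((PadicAlgCl.valued p).v.integer) z := hz.tower_top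
  have h2 := (Valuation.integer.integers (PadicAlgCl.valued p).v).mem_of_integral h1
  rw [Valuation.mem_integer_iff, PadicAlgCl.valuation_def] at h2
  exact_mod_cast h2

/-- For a monic integer polynomial `P` with `u` unit roots in `PadicAlgCl p`: `p` divides the
coefficients of index below `deg P - u`, and does not divide the coefficient at `deg P - u`. -/
theorem dvd_coeff_of_lt [DecidablePred fun z : PadicAlgCl p => ‖z‖ = 1] (P : ℤ[X]) (hP : P.Monic) :
    (∀ m < P.natDegree - Multiset.card ((P.aroots (PadicAlgCl p)).filter fun z => ‖z‖ = 1),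
        (p : ℤ) ∣ P.coeff m) ∧
      ¬ (p : ℤ) ∣ P.coeff
        (P.natDegree - Multiset.card ((P.aroots (PadicAlgCl p)).filter fun z => ‖z‖ = 1)) := by
  set Q := P.map (algebraMap ℤ (PadicAlgCl p)) with hQ
  have hQm : Q.Monic := hP.map _
  have hQs : Q.Splits := IsAlgClosed.splits Q
  have hdeg : Q.natDegree = P.natDegree := hP.natDegree_map _
  have hr : ∀ z ∈ Q.roots, ‖z‖ ≤ 1 := by
    intro z hz
    refine norm_le_one_of_isIntegral p z ⟨P, hP, ?_⟩
    have := (mem_roots hQm.ne_zero).mp hz
    rwa [IsRoot.def, hQ, eval_map] at this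
  obtain ⟨h1, h2⟩ := coeff_of_splits Q hQm hQs hr
  have hc : ∀ m, Q.coeff m = ((P.coeff m : ℤ) : PadicAlgCl p) := by
    intro m
    rw [hQ, coeff_map]
    rfl
  rw [hdeg] at h1 h2
  constructor
  · intro m hm
    have := h1 m hm
    rwa [hc, norm_intCast_lt_one_iff] at this
  · intro hdvd
    rw [hc] at h2
    have := (norm_intCast_lt_one_iff p _).mpr hdvd
    rw [h2] at this
    exact lt_irrefl _ this

end Padic

end Groth.Agent.Lib.T2H7.UltraRoots
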