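import Mathlib
import Groth.Agent.Lib.Helper6Kolchin

/-!
# Flags for groups of unipotent operators (helper7, team 2)

* `exists_flag` : a group acting by unipotent operators on a finite dimensional vector space has a
  spanning family `v : Fin n → V` (`n = dim V`) with `g v_i - v_i ∈ span (v_j : j < i)`;
* `span_twisted_eq_top` : for such a family and any choice `τ i` of group elements the vectors
  `τ_i v_i` span `V`.
-/

set_option autoImplicit false
universe u v w

namespace Groth.Agent.Lib.T2H7.UnipFlag

open Submodule

section
variable (k : Type u) (Γ : Type v) [Field k] [Group Γ]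

theorem exists_flag : ∀ (n : ℕ) (V : Type w) [AddCommGroup V] [Module k V] [FiniteDimensional k V]
    (ρ : Representation k Γ V), (∀ g : Γ, IsNilpotent (ρ g - 1)) → Module.finrank k V = n →
    ∃ v : Fin n → V, span k (Set.range v) = ⊤ ∧
      ∀ (g : Γ) (i : Fin n), ρ g (v i) - v i ∈ span k (v '' {j | j < i})
  | 0, V, _, _, _, ρ, _, hn => by
    have hsub : Subsingleton V := Module.finrank_zero_iff.mp hn
    refine ⟨Fin.elim0, Subsingleton.elim _ _, fun g i => i.elim0⟩
  | n + 1, V, _, _, _, ρ, hρ, hn => by
    classical
    have hnt : Nontrivial V := Module.nontrivial_of_finrank_pos (R := k) (by omega)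
    obtain ⟨v0, hv0, hfix⟩ := Groth.Agent.Lib.Helper6.exists_fixed_of_unipotent k Γ V ρ hρ
    let L : Submodule k V := span k {v0}
    have hL : ∀ g : Γ, L ≤ L.comap (ρ g) := by
      intro g x hx
      obtain ⟨c, rfl⟩ := mem_span_singleton.mp hx
      rw [mem_comap, map_smul, hfix g]
      exact smul_mem _ _ (mem_span_singleton_self v0)
    -- the induced representation
    let ρ' : Representation k Γ (V ⧸ L) :=
      { toFun := fun g => L.mapQ L (ρ g) (hL g)
        map_one' := by
          apply linearMap_qext
          ext x
          simp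
        map_mul' := by
          intro g h
          apply linearMap_qext
          ext x
          simp }
    have hρ'app : ∀ g x, ρ' g (Submodule.Quotient.mk x) = Submodule.Quotient.mk (ρ g x) :=
      fun g x => rfl
    have hρ' : ∀ g : Γ, IsNilpotent (ρ' g - 1) := by
      intro g
      obtain ⟨m, hm⟩ := hρ g
      refine ⟨m, ?_⟩
      have hD : L ≤ L.comap (ρ g - 1) := by
        intro x hx
        rw [mem_comap, LinearMap.sub_apply]
        exact sub_mem (hL g hx) hx
      have e1 : ρ' g - 1 = L.mapQ L (ρ g - 1) hD := by
        apply linearMap_qext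
        ext x
        simp [hρ'app]
      rw [e1, ← mapQ_pow (p := L) hD m]
      apply linearMap_qext
      ext x
      simp [hm]
    have hfr : Module.finrank k (V ⧸ L) = n := by
      have h1 := Submodule.finrank_quotient_add_finrank L
      have h2 : Module.finrank k L = 1 := finrank_span_singleton hv0
      omega
    obtain ⟨vb, hvb, htri⟩ := exists_flag n (V ⧸ L) ρ' hρ' hfr
    choose v' hv' using fun i => Submodule.Quotient.mk_surjective L (vb i)
    refine ⟨Fin.cons v0 v', ?_, ?_⟩
    · -- spanning
      rw [eq_top_iff]
      rintro x -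
      have hx : (Submodule.Quotient.mk x : V ⧸ L) ∈ span k (Set.range vb) := by rw [hvb]; trivial
      have hrange : Set.range vb = L.mkQ '' Set.range v' := by
        ext y
        constructor
        · rintro ⟨i, rfl⟩
          exact ⟨v' i, ⟨i, rfl⟩, hv' i⟩
        · rintro ⟨_, ⟨i, rfl⟩, rfl⟩
          exact ⟨i, (hv' i).symm⟩
      rw [hrange, ← Submodule.map_span] at hx
      obtain ⟨y, hy, hyx⟩ := hx
      have hz : x - y ∈ L := by
        rw [← Submodule.Quotient.eq]
        exact hyx.symm
      have hsub1 : span k (Set.range v') ≤ span k (Set.range (Fin.cons v0 v' : Fin (n + 1) → V)) := by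
        apply span_mono
        rintro _ ⟨i, rfl⟩
        exact ⟨i.succ, by simp⟩
      have hsub2 : L ≤ span k (Set.range (Fin.cons v0 v' : Fin (n + 1) → V)) := by
        apply span_mono
        rintro _ rfl
        exact ⟨0, by simp⟩
      have : x = y + (x - y) := by abel
      rw [this]
      exact add_mem (hsub1 hy) (hsub2 hz)
    · intro g i
      refine Fin.cases ?_ (fun i => ?_) i
      · simp only [Fin.cons_zero]
        rw [hfix g, sub_self]
        exact zero_mem _
      · simp only [Fin.cons_succ]
        have h1 := htri g i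
        have himg : vb '' {j | j < i} = L.mkQ '' (v' '' {j | j < i}) := by
          ext y
          constructor
          · rintro ⟨j, hj, rfl⟩
            exact ⟨v' j, ⟨j, hj, rfl⟩, hv' j⟩
          · rintro ⟨_, ⟨j, hj, rfl⟩, rfl⟩
            exact ⟨j, hj, (hv' j).symm⟩
        rw [himg, ← Submodule.map_span, ← hv' i, hρ'app, ← Submodule.Quotient.mk_sub] at h1
        obtain ⟨y, hy, hyx⟩ := h1
        have hz : (ρ g (v' i) - v' i) - y ∈ L := by
          rw [← Submodule.Quotient.eq]
          exact hyx.symm
        have hsub1 : span k (v' '' {j | j < i}) ≤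
            span k ((Fin.cons v0 v' : Fin (n + 1) → V) '' {j | j < i.succ}) := by
          apply span_mono
          rintro _ ⟨j, hj, rfl⟩
          exact ⟨j.succ, Fin.succ_lt_succ_iff.mpr hj, by simp⟩
        have hsub2 : L ≤ span k ((Fin.cons v0 v' : Fin (n + 1) → V) '' {j | j < i.succ}) := by
          apply span_mono
          rintro _ rfl
          exact ⟨0, Fin.succ_pos i, by simp⟩
        have : ρ g (v' i) - v' i = y + ((ρ g (v' i) - v' i) - y) := by abel
        rw [this]
        exact add_mem (hsub1 hy) (hsub2 hz)

theorem span_twisted_eq_top {n : ℕ} {V : Type w} [AddCommGroup V] [Module k V]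
    (ρ : Representation k Γ V) (v : Fin n → V) (hv : span k (Set.range v) = ⊤)
    (htri : ∀ (g : Γ) (i : Fin n), ρ g (v i) - v i ∈ span k (v '' {j | j < i}))
    (τ : Fin n → Γ) : span k (Set.range fun i => ρ (τ i) (v i)) = ⊤ := by
  have key : ∀ (m : ℕ) (i : Fin n), (i : ℕ) = m → v i ∈ span k (Set.range fun i => ρ (τ i) (v i)) := by
    intro m
    induction m using Nat.strong_induction_on with
    | _ m ih =>
      intro i hi
      have h1 : ρ (τ i) (v i) ∈ span k (Set.range fun i => ρ (τ i) (v i)) :=
        subset_span ⟨i, rfl⟩
      have h2 : ρ (τ i) (v i) - v i ∈ span k (Set.range fun i => ρ (τ i) (v i)) := by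
        refine (span_le.mpr ?_) (htri (τ i) i)
        rintro _ ⟨j, hj, rfl⟩
        exact ih j (by rw [← hi]; exact hj) j rfl
      have : v i = ρ (τ i) (v i) - (ρ (τ i) (v i) - v i) := by abel
      rw [this]
      exact sub_mem h1 h2
  rw [eq_top_iff, ← hv, span_le]
  rintro _ ⟨i, rfl⟩
  exact key i i rfl

end

end Groth.Agent.Lib.T2H7.UnipFlag
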