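import Mathlib
import Groth.Agent.Lib.T2H7HopfRig
import Groth.Agent.Lib.Helper25ResComod
import Groth.Agent.Lib.Helper25MultBC
import Groth.Agent.Lib.Helper25MultQuot
import Groth.Agent.Lib.Helper12GeomConn
import Groth.Agent.Lib.Helper6ReducedSmooth

/-!
# T2H7UnipMult: morphisms from a smooth connected unipotent group to a group of multiplicative
type are constant (Hopf algebra form)
-/

set_option autoImplicit false
set_option linter.unusedSectionVars false
set_option linter.unusedVariables false
set_option linter.style.haveILetI false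

namespace Groth.Agent.Lib.T2H7.UnipMult

universe u v
open TensorProduct HopfRep

/-- a group-like element of a unipotent bialgebra is `1`. -/
theorem groupLike_eq_one_of_isUnipotent (k : Type u) [Field k] (A : Type v) [CommRing A]
    [Bialgebra k A] (hU : HopfRep.IsUnipotent k A) (g : A) (hg : IsGroupLikeElem k g) : g = 1 := by
  classical
  set U : Submodule k A := Submodule.span k {g} with hUdef
  have hsub : IsSubcomod (k := k) (A := A) U := by
    intro w hw
    obtain ⟨c, rfl⟩ := Submodule.mem_span_singleton.mp hw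
    refine ⟨c • ((⟨g, Submodule.mem_span_singleton_self g⟩ : U) ⊗ₜ[k] g), ?_⟩
    rw [map_smul, LinearMap.rTensor_tmul]
    change c • (g ⊗ₜ[k] g) = CoalgebraStruct.comul (R := k) (c • g)
    rw [map_smul, hg.comul_eq_tmul_self]
  letI cU : Comod k A U := Groth.Agent.Lib.Helper25.subComod U hsub
  have hg0 : g ≠ 0 := by
    intro h0
    have := hg.counit_eq_one
    rw [h0, map_zero] at this
    exact zero_ne_one this
  haveI : Module.Finite k U := Module.Finite.iff_fg.mpr (Submodule.fg_span_singleton g)
  haveI : Nontrivial U :=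
    ⟨⟨⟨g, Submodule.mem_span_singleton_self g⟩, 0, fun h => hg0 (congrArg Subtype.val h)⟩⟩
  have hfix := hU U inferInstance inferInstance
  obtain ⟨v, hv, hv0⟩ := (Submodule.ne_bot_iff _).mp hfix
  have hv' : Groth.Agent.Lib.Helper25.subCoact U hsub v = v ⊗ₜ[k] (1 : A) := hv
  have h1 := Groth.Agent.Lib.Helper25.rTensor_subtype_subCoact U hsub v
  rw [hv', LinearMap.rTensor_tmul] at h1
  obtain ⟨c, hc⟩ := Submodule.mem_span_singleton.mp v.2
  have hc0 : c ≠ 0 := by
    intro h0
    apply hv0
    apply Subtype.ext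
    rw [← hc, h0, zero_smul]
    rfl
  change (v : A) ⊗ₜ[k] (1 : A) = CoalgebraStruct.comul (R := k) (v : A) at h1
  rw [← hc, map_smul, hg.comul_eq_tmul_self] at h1
  -- c • g ⊗ 1 = c • (g ⊗ g)
  have h2 := congrArg (fun z => TensorProduct.lid k A
    ((CoalgebraStruct.counit (R := k) (A := A)).rTensor A z)) h1
  simp only [map_smul, LinearMap.rTensor_tmul, TensorProduct.lid_tmul, hg.counit_eq_one,
    TensorProduct.smul_tmul'] at h2
  -- c • 1 = c • g
  have h3 : c • (1 : A) = c • g := by simpa using h2
  exact ((smul_right_injective A hc0) h3).symm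

/-- over an algebraically closed field, every algebra map from a diagonalizable Hopf algebra to a
reduced connected finitely generated unipotent Hopf algebra is constant. -/
theorem algHom_const_of_algClosed (L : Type u) [Field L] [IsAlgClosed L] (D E : Type v)
    [CommRing D] [HopfAlgebra L D] [Algebra.FiniteType L D] [IsReduced D]
    (hconn : ∀ e : D, IsIdempotentElem e → e = 0 ∨ e = 1) (hU : IsUnipotent L D)
    [CommRing E] [HopfAlgebra L E] (hE : IsDiagonalizable L E) (F : E →ₐ[L] D) (x : E) :
    F x = algebraMap L D (Coalgebra.counit (R := L) (F x)) := by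
  haveI : IsDomain D :=
    Groth.Agent.Lib.T2H7.HopfDomain.isDomain_of_isReduced_of_connected L D hconn
  have hx : x ∈ Submodule.span L {a : E | IsGroupLikeElem L a} := by
    rw [hE]; trivial
  induction hx using Submodule.span_induction with
  | mem χ hχ =>
    have hχ' : IsGroupLikeElem L χ := hχ
    have hu : IsUnit (F χ) := hχ'.isUnit.map F
    set c : L := Coalgebra.counit (R := L) (F χ) with hcdef
    have hc : IsUnit c := hu.map (Bialgebra.counitAlgHom L D)
    have hc0 : c ≠ 0 := hc.ne_zero
    have hu' : IsUnit (c⁻¹ • F χ) := by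
      rw [Algebra.smul_def]
      exact ((hc.inv).map (algebraMap L D)).mul hu
    have hε : Coalgebra.counit (R := L) (c⁻¹ • F χ) = 1 := by
      rw [map_smul, smul_eq_mul, ← hcdef, inv_mul_cancel₀ hc0]
    have h1 := Groth.Agent.Lib.T2H7.HopfRig.comul_unit_eq_tmul L D _ hu' hε
    have hgl : IsGroupLikeElem L (c⁻¹ • F χ) := ⟨hε, h1⟩
    have h2 := groupLike_eq_one_of_isUnipotent L D hU _ hgl
    have h3 : F χ = c • (1 : D) := by
      rw [← h2, smul_smul, mul_inv_cancel₀ hc0, one_smul]
    rw [Algebra.algebraMap_eq_smul_one]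
    exact h3
  | zero => simp
  | add a b _ _ ha hb => rw [map_add, map_add, map_add, ← ha, ← hb]
  | smul r a _ ha => rw [map_smul, map_smul, smul_eq_mul, map_mul, ← ha, Algebra.smul_def]

open CategoryTheory AlgebraicGeometry Limits

theorem connectedSpace_of_idem (R : Type u) [CommRing R] [Nontrivial R]
    (h : ∀ e : R, IsIdempotentElem e → e = 0 ∨ e = 1) : ConnectedSpace (PrimeSpectrum R) := by
  haveI : PreconnectedSpace (PrimeSpectrum R) := by
    rw [preconnectedSpace_iff_clopen]
    intro s hs
    obtain ⟨e, he, rfl⟩ := PrimeSpectrum.isClopen_iff.mp hs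
    rcases h e he with rfl | rfl
    · left; simp
    · right; simp
  exact ⟨inferInstance⟩

theorem idem_of_connectedSpace (R : Type u) [CommRing R] [ConnectedSpace (PrimeSpectrum R)]
    (e : R) (he : IsIdempotentElem e) : e = 0 ∨ e = 1 := by
  have key : ∀ a : R, IsIdempotentElem a →
      (PrimeSpectrum.basicOpen a : Set (PrimeSpectrum R)) = ∅ → a = 0 := by
    intro a ha h0
    have h1 : PrimeSpectrum.basicOpen a = ⊥ := TopologicalSpace.Opens.ext h0
    rw [PrimeSpectrum.basicOpen_eq_bot_iff] at h1
    obtain ⟨n, hn⟩ := h1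
    rcases Nat.eq_zero_or_pos n with rfl | hpos
    · rw [pow_zero] at hn
      have : a = a * 1 := (mul_one a).symm
      rw [this, hn, mul_zero]
    · obtain ⟨m, rfl⟩ := Nat.exists_eq_succ_of_ne_zero hpos.ne'
      rw [IsIdempotentElem.pow_succ_eq m ha] at hn
      exact hn
  have hcl : IsClopen (PrimeSpectrum.basicOpen e : Set (PrimeSpectrum R)) :=
    PrimeSpectrum.isClopen_iff.mpr ⟨e, he, rfl⟩
  rcases isClopen_iff.mp hcl with h0 | h1
  · left; exact key e he h0
  · right
    have h2 : (PrimeSpectrum.basicOpen (1 - e) : Set (PrimeSpectrum R)) = ∅ := by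
      have h3 : PrimeSpectrum.basicOpen (e * (1 - e)) = ⊥ := by
        rw [mul_sub, mul_one, he.eq, sub_self]
        exact PrimeSpectrum.basicOpen_zero
      rw [PrimeSpectrum.basicOpen_mul] at h3
      have h4 := congrArg (fun U : TopologicalSpace.Opens (PrimeSpectrum R) => (U : Set (PrimeSpectrum R))) h3
      simp only [TopologicalSpace.Opens.coe_inf, h1, Set.univ_inter,
        TopologicalSpace.Opens.coe_bot] at h4
      exact h4
    have := key (1 - e) he.one_sub h2
    exact (sub_eq_zero.mp this).symm

theorem idem_baseChange (k L C : Type u) [Field k] [Field L] [Algebra k L] [CommRing C]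
    [Algebra k C] (ε : C →ₐ[k] k) (hconn : ∀ e : C, IsIdempotentElem e → e = 0 ∨ e = 1)
    (e : L ⊗[k] C) (he : IsIdempotentElem e) : e = 0 ∨ e = 1 := by
  haveI : Nontrivial C := RingHom.domain_nontrivial ε.toRingHom
  haveI hc : ConnectedSpace (PrimeSpectrum C) := connectedSpace_of_idem C hconn
  let f : Spec (.of C) ⟶ Spec (.of k) := Spec.map (CommRingCat.ofHom (algebraMap k C))
  let x : Spec (.of k) ⟶ Spec (.of C) := Spec.map (CommRingCat.ofHom ε.toRingHom)
  have hx : x ≫ f = 𝟙 _ := by
    rw [← Spec.map_comp, ← CommRingCat.ofHom_comp]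
    have : (ε.toRingHom).comp (algebraMap k C) = RingHom.id k := by
      ext a
      simp
    rw [this]
    exact Spec.map_id _
  haveI : ConnectedSpace ↥(Spec (.of C)) := hc
  haveI : GeometricallyConnected f :=
    Groth.Agent.Lib.Helper12.GeomConn.geometricallyConnected_of_section f x hx
  let g : Spec (.of L) ⟶ Spec (.of k) := Spec.map (CommRingCat.ofHom (algebraMap k L))
  haveI : GeometricallyConnected (pullback.fst g f) := inferInstance
  haveI : ConnectedSpace ↥(pullback g f) :=
    GeometricallyConnected.connectedSpace_of_subsingleton (pullback.fst g f)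
  haveI : ConnectedSpace ↥(Spec (.of (L ⊗[k] C))) :=
    ((pullbackSpecIso k L C).hom.homeomorph.connectedSpace_iff).mp inferInstance
  haveI : ConnectedSpace (PrimeSpectrum (L ⊗[k] C)) := this
  exact idem_of_connectedSpace (L ⊗[k] C) e he

theorem isReduced_baseChange (k L C : Type u) [Field k] [Field L] [Algebra k L] [CommRing C]
    [Algebra k C] [Algebra.FiniteType k C] [Algebra.FormallySmooth k C] :
    IsReduced (L ⊗[k] C) := by
  haveI : Algebra.FinitePresentation k C := Algebra.FinitePresentation.of_finiteType.mp inferInstance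
  haveI : Algebra.Smooth k C := ⟨inferInstance, inferInstance⟩
  haveI : Algebra.Smooth L (L ⊗[k] C) := inferInstance
  exact Groth.Agent.Lib.Helper6.isReduced_of_smooth L (L ⊗[k] C)

theorem algHom_const (k : Type u) [Field k] (C B : Type u) [CommRing C] [HopfAlgebra k C]
    [Algebra.FiniteType k C] [Algebra.FormallySmooth k C]
    (hconn : ∀ e : C, IsIdempotentElem e → e = 0 ∨ e = 1)
    (hU : HopfRep.IsUnipotent k C) [CommRing B] [HopfAlgebra k B]
    (hB : SGA3b.IsMultTypeConst k B) (f : B →ₐ[k] C) (b : B) :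
    f b = algebraMap k C (Bialgebra.counitAlgHom k C (f b)) := by
  obtain ⟨K, _, _, hK⟩ := Groth.Agent.Lib.Helper25.BCB.exists_field_isDiag k B hB
  let L := AlgebraicClosure K
  have hL : SGA3b.IsDiag L (L ⊗[k] B) :=
    Groth.Agent.Lib.Helper25.BCB.isDiag_baseChange_of_tower k B K L hK
  have hE : IsDiagonalizable L (L ⊗[k] B) :=
    Groth.Agent.Lib.Helper25.BCB.isDiagonalizable_of_isDiag hL
  have hUL : IsUnipotent L (L ⊗[k] C) := Groth.Agent.Lib.Helper25.isUnipotent_baseChange k L C hU
  haveI : IsReduced (L ⊗[k] C) := isReduced_baseChange k L C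
  have hconnL := idem_baseChange k L C (Bialgebra.counitAlgHom k C) hconn
  let F : L ⊗[k] B →ₐ[L] L ⊗[k] C := Algebra.TensorProduct.map (AlgHom.id L L) f
  have h := Groth.Agent.Lib.T2H7.UnipMult.algHom_const_of_algClosed L (L ⊗[k] C) (L ⊗[k] B)
    hconnL hUL hE F ((1 : L) ⊗ₜ[k] b)
  have hF : F ((1 : L) ⊗ₜ[k] b) = (1 : L) ⊗ₜ[k] f b := by
    simp [F]
  rw [hF] at h
  have hc : Coalgebra.counit (R := L) ((1 : L) ⊗ₜ[k] f b) =
      algebraMap k L (Coalgebra.counit (R := k) (f b)) := by
    rw [TensorProduct.counit_tmul]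
    simp [Algebra.algebraMap_eq_smul_one]
  rw [hc] at h
  have h2 : algebraMap L (L ⊗[k] C) (algebraMap k L (Coalgebra.counit (R := k) (f b))) =
      (1 : L) ⊗ₜ[k] (algebraMap k C (Coalgebra.counit (R := k) (f b))) := by
    rw [Algebra.TensorProduct.algebraMap_apply]
    change (algebraMap k L (Coalgebra.counit (R := k) (f b))) ⊗ₜ[k] (1 : C) = _
    rw [Algebra.algebraMap_eq_smul_one (R := k) (A := L), TensorProduct.smul_tmul,
      ← Algebra.algebraMap_eq_smul_one]
  rw [h2] at h
  exact Module.FaithfullyFlat.tensorProduct_mk_injective (A := k) (B := L) C h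

end Groth.Agent.Lib.T2H7.UnipMult
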