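-- helper7 (team 2): the universal algebra of n equations of degree ≤ d in n variables is a
-- polynomial ring over ℤ (eliminate the constant coefficients).
import Mathlib
import Groth.Prelude.Def_W4stkdualitygroupp2Univ

set_option autoImplicit false
open MvPolynomial

namespace Groth.Agent.Lib.T2H7.UnivAlg

open Synt

variable (n d : ℕ)

/-- the zero exponent index -/
def E₀ : UnivIdx n d := ⟨fun _ => 0, by simp⟩

theorem exponent_E₀ : (E₀ n d).exponent = 0 := by
  ext k
  simp [UnivIdx.exponent, E₀]

/-- the remaining coefficient variables -/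
abbrev τ' : Type := {p : Fin n × UnivIdx n d // p.2 ≠ E₀ n d}

/-- the target polynomial ring -/
abbrev P : Type := MvPolynomial (Fin n) (MvPolynomial (τ' n d) ℤ)

/-- the nonconstant part of the `i`-th universal polynomial -/
noncomputable def g (i : Fin n) : P n d :=
  ∑ E : UnivIdx n d, if h : E = E₀ n d then 0 else monomial E.exponent (X ⟨(i, E), h⟩)

/-- the map on coefficients -/
noncomputable def ρ : UnivBase n d →+* P n d :=
  eval₂Hom (Int.castRingHom (P n d))
    (fun p => if h : p.2 = E₀ n d then - g n d p.1 else C (X ⟨p, h⟩))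

theorem ρ_X (i : Fin n) (E : UnivIdx n d) :
    ρ n d (X (i, E)) = if h : E = E₀ n d then - g n d i else C (X ⟨(i, E), h⟩) := by
  simp [ρ]

/-- the map on the polynomial ring -/
noncomputable def φ : MvPolynomial (Fin n) (UnivBase n d) →+* P n d :=
  eval₂Hom (ρ n d) X

theorem φ_monomial (s : Fin n →₀ ℕ) (a : UnivBase n d) :
    φ n d (monomial s a) = ρ n d a * monomial s 1 := by
  unfold φ
  rw [eval₂Hom_monomial]
  congr 1
  rw [monomial_eq, C_1, one_mul]

theorem φ_univPoly (i : Fin n) : φ n d (univPoly n d i) = 0 := by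
  classical
  unfold univPoly
  rw [map_sum]
  have h1 : ∀ E : UnivIdx n d, φ n d (monomial E.exponent (X (i, E))) =
      (if E = E₀ n d then - g n d i else 0) +
        (if h : E = E₀ n d then 0 else monomial E.exponent (X ⟨(i, E), h⟩)) := by
    intro E
    rw [φ_monomial, ρ_X]
    by_cases h : E = E₀ n d
    · subst h
      rw [dif_pos rfl, if_pos rfl, dif_pos rfl, add_zero, exponent_E₀]
      simp
    · rw [dif_neg h, if_neg h, dif_neg h, zero_add, C_mul_monomial, mul_one]
  rw [Finset.sum_congr rfl (fun E _ => h1 E), Finset.sum_add_distrib, Finset.sum_ite_eq'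
    Finset.univ (E₀ n d)]
  simp only [Finset.mem_univ, if_true]
  exact neg_add_cancel (g n d i)

/-- the quotient, in expanded form -/
abbrev Q : Type := MvPolynomial (Fin n) (UnivBase n d) ⧸ univIdeal n d

theorem φ_mem (a : MvPolynomial (Fin n) (UnivBase n d)) (ha : a ∈ univIdeal n d) :
    φ n d a = 0 := by
  have hle : univIdeal n d ≤ RingHom.ker (φ n d) := by
    rw [Ideal.span_le]
    rintro _ ⟨i, rfl⟩
    exact φ_univPoly n d i
  exact hle ha

/-- the induced map on the quotient -/
noncomputable def φbar : Q n d →+* P n d := Ideal.Quotient.lift (univIdeal n d) (φ n d) (φ_mem n d)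

/-- the inverse map -/
noncomputable def ψ : P n d →+* Q n d :=
  eval₂Hom (eval₂Hom (Int.castRingHom (Q n d))
    (fun p : τ' n d => Ideal.Quotient.mk (univIdeal n d) (C (X p.1))))
    (fun k => Ideal.Quotient.mk (univIdeal n d) (X k))

theorem ψ_monomial (s : Fin n →₀ ℕ) (p : τ' n d) :
    ψ n d (monomial s (X p)) = Ideal.Quotient.mk (univIdeal n d) (monomial s (X p.1)) := by
  unfold ψ
  rw [eval₂Hom_monomial, eval₂Hom_X']
  rw [monomial_eq (a := (X p.1 : UnivBase n d)), map_mul]
  congr 1
  rw [Finsupp.prod, Finsupp.prod, map_prod]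
  refine Finset.prod_congr rfl fun k _ => ?_
  rw [map_pow]

theorem ψ_g (i : Fin n) : ψ n d (g n d i) =
    - Ideal.Quotient.mk (univIdeal n d) (C (X (i, E₀ n d))) := by
  classical
  have hf : Ideal.Quotient.mk (univIdeal n d) (univPoly n d i) = 0 :=
    Ideal.Quotient.eq_zero_iff_mem.2 (Ideal.subset_span ⟨i, rfl⟩)
  unfold univPoly at hf
  rw [map_sum] at hf
  have h1 : ∀ E : UnivIdx n d, Ideal.Quotient.mk (univIdeal n d)
      (monomial E.exponent (X (i, E))) =
      (if E = E₀ n d then Ideal.Quotient.mk (univIdeal n d) (C (X (i, E₀ n d))) else 0) +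
        ψ n d (if h : E = E₀ n d then 0 else monomial E.exponent (X ⟨(i, E), h⟩)) := by
    intro E
    by_cases h : E = E₀ n d
    · subst h
      rw [if_pos rfl, dif_pos rfl, map_zero, add_zero, exponent_E₀]
      rfl
    · rw [if_neg h, dif_neg h, zero_add, ψ_monomial]
  rw [Finset.sum_congr rfl (fun E _ => h1 E), Finset.sum_add_distrib, Finset.sum_ite_eq'
    Finset.univ (E₀ n d)] at hf
  simp only [Finset.mem_univ, if_true] at hf
  unfold g
  rw [map_sum]
  exact eq_neg_of_add_eq_zero_right hf

theorem φbar_ψ : (φbar n d).comp (ψ n d) = RingHom.id _ := by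
  have key : ((φbar n d).comp (ψ n d)).comp C = (RingHom.id (P n d)).comp C := by
    refine ringHom_ext (fun z => ?_) (fun p => ?_)
    · simp
    · simp only [RingHom.comp_apply, RingHom.id_apply]
      have h1 : ψ n d (C (X p)) = Ideal.Quotient.mk (univIdeal n d) (C (X p.1)) := by
        simp [ψ]
      rw [h1]
      show φ n d (C (X p.1)) = _
      have h2 : φ n d (C (X p.1)) = ρ n d (X p.1) := by simp [φ]
      rw [h2]
      obtain ⟨⟨i, E⟩, hE⟩ := p
      rw [ρ_X, dif_neg hE]
  refine ringHom_ext (fun a => RingHom.congr_fun key a) (fun k => ?_)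
  simp only [RingHom.comp_apply, RingHom.id_apply]
  have h1 : ψ n d (X k) = Ideal.Quotient.mk (univIdeal n d) (X k) := by simp [ψ]
  rw [h1]
  show φ n d (X k) = _
  simp [φ]

theorem ψ_φbar : (ψ n d).comp (φbar n d) = RingHom.id _ := by
  apply Ideal.Quotient.ringHom_ext
  have key : (((ψ n d).comp (φbar n d)).comp (Ideal.Quotient.mk (univIdeal n d))).comp C =
      ((RingHom.id (Q n d)).comp (Ideal.Quotient.mk (univIdeal n d))).comp C := by
    refine ringHom_ext (fun z => ?_) (fun p => ?_)
    · simp
    · simp only [RingHom.comp_apply, RingHom.id_apply]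
      show ψ n d (φ n d (C (X p))) = _
      have h2 : φ n d (C (X p)) = ρ n d (X p) := by simp [φ]
      rw [h2]
      obtain ⟨i, E⟩ := p
      rw [ρ_X]
      by_cases hE : E = E₀ n d
      · subst hE
        rw [dif_pos rfl, map_neg, ψ_g, neg_neg]
      · rw [dif_neg hE]
        simp [ψ]
  refine ringHom_ext (fun a => RingHom.congr_fun key a) (fun k => ?_)
  simp only [RingHom.comp_apply, RingHom.id_apply]
  show ψ n d (φ n d (X k)) = _
  have h2 : φ n d (X k) = X k := by simp [φ]
  rw [h2]
  simp [ψ]

/-- the universal algebra is a polynomial ring over `ℤ` -/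
noncomputable def equivQ : Q n d ≃+* P n d :=
  RingEquiv.ofRingHom (φbar n d) (ψ n d) (φbar_ψ n d) (ψ_φbar n d)

end Groth.Agent.Lib.T2H7.UnivAlg
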