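-- helper7 (team 2): the universal algebra of n equations of degree ≤ d in n variables has a
-- point at which it is étale over the coefficient ring (a_{i,e_i} = 1, all else 0, x = 0).
import Mathlib
import Groth.Prelude.Def_W4stkdualitygroupp2Univ

set_option autoImplicit false
open MvPolynomial

namespace Groth.Agent.Lib.T2H7.UnivEtale

open Synt

variable (n d : ℕ)

/-- the index of the `j`-th unit exponent vector -/
def E₁ (hd : 1 ≤ d) (j : Fin n) : UnivIdx n d :=
  ⟨fun k => if k = j then ⟨1, by omega⟩ else ⟨0, by omega⟩, by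
    have : ∀ k : Fin n, ((if k = j then (⟨1, by omega⟩ : Fin (d + 1)) else ⟨0, by omega⟩ :
        Fin (d + 1)) : ℕ) = if k = j then 1 else 0 := by
      intro k; split_ifs <;> rfl
    simp only [this, Finset.sum_ite_eq', Finset.mem_univ, if_true]
    exact hd⟩

theorem exponent_E₁ (hd : 1 ≤ d) (j : Fin n) : (E₁ n d hd j).exponent = Finsupp.single j 1 := by
  ext k
  have h0 : (E₁ n d hd j).exponent k = ((E₁ n d hd j).1 k : ℕ) := rfl
  rw [h0, Finsupp.single_apply]
  by_cases h : k = j
  · subst h; simp [E₁]
  · rw [if_neg (Ne.symm h)]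
    simp [E₁, h]

/-- the point of the coefficient space -/
noncomputable def ψ (hd : 1 ≤ d) : UnivBase n d →+* ℤ :=
  (MvPolynomial.eval (fun p : Fin n × UnivIdx n d => if p.2 = E₁ n d hd p.1 then (1 : ℤ) else 0) :
    MvPolynomial (Fin n × UnivIdx n d) ℤ →+* ℤ)

/-- the point of the total space, on the polynomial ring -/
noncomputable def φt (hd : 1 ≤ d) : MvPolynomial (Fin n) (UnivBase n d) →+* ℤ :=
  (ψ n d hd).comp MvPolynomial.constantCoeff

theorem ψ_X (hd : 1 ≤ d) (i : Fin n) (E : UnivIdx n d) :
    ψ n d hd (X (i, E)) = if E = E₁ n d hd i then 1 else 0 := by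
  simp [ψ]

theorem φt_monomial (hd : 1 ≤ d) (s : Fin n →₀ ℕ) (a : UnivBase n d) :
    φt n d hd (monomial s a) = if s = 0 then ψ n d hd a else 0 := by
  unfold φt
  rw [RingHom.comp_apply, constantCoeff_monomial]
  split_ifs
  · rfl
  · exact map_zero _

theorem φt_univPoly (hd : 1 ≤ d) (i : Fin n) : φt n d hd (univPoly n d i) = 0 := by
  classical
  unfold univPoly
  rw [map_sum]
  refine Finset.sum_eq_zero fun E _ => ?_
  rw [φt_monomial, ψ_X]
  by_cases h0 : E.exponent = 0
  · rw [if_pos h0, if_neg]
    rintro rfl
    rw [exponent_E₁] at h0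
    have := congrArg (fun f => f i) h0
    simp at this
  · rw [if_neg h0]

theorem φt_pderiv_univPoly (hd : 1 ≤ d) (i j : Fin n) :
    φt n d hd (pderiv i (univPoly n d j)) = if i = j then 1 else 0 := by
  classical
  unfold univPoly
  rw [map_sum, map_sum]
  have h1 : ∀ E : UnivIdx n d, φt n d hd (pderiv i (monomial E.exponent (X (j, E)))) =
      if E = E₁ n d hd j then (if i = j then 1 else 0) else 0 := by
    intro E
    rw [pderiv_monomial, φt_monomial, map_mul, ψ_X]
    by_cases hE : E = E₁ n d hd j
    · subst hE
      rw [if_pos rfl, if_pos rfl, exponent_E₁, one_mul]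
      by_cases hij : i = j
      · subst hij
        simp
      · rw [if_neg hij, if_neg]
        intro h0
        have := congrArg (fun f => f j) h0
        simp [hij] at this
    · rw [if_neg hE, if_neg hE, zero_mul, ite_self]
  rw [Finset.sum_congr rfl (fun E _ => h1 E), Finset.sum_ite_eq' Finset.univ (E₁ n d hd j)]
  simp

/-- the quotient, in expanded form -/
abbrev Q' : Type := MvPolynomial (Fin n) (UnivBase n d) ⧸ Ideal.span (Set.range (univPoly n d))

/-- the universal algebra -/
abbrev Q : Type := UnivAlg n d

/-- the naive presentation -/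
noncomputable def pres : Algebra.PreSubmersivePresentation (UnivBase n d) (Q n d) (Fin n) (Fin n) :=
  (Algebra.PreSubmersivePresentation.naive (v := univPoly n d) id Function.injective_id :
    Algebra.PreSubmersivePresentation (UnivBase n d) (Q' n d) (Fin n) (Fin n))

theorem φt_mem (hd : 1 ≤ d) (a : MvPolynomial (Fin n) (UnivBase n d))
    (ha : a ∈ Ideal.span (Set.range (univPoly n d))) : φt n d hd a = 0 := by
  have hle : Ideal.span (Set.range (univPoly n d)) ≤ RingHom.ker (φt n d hd) := by
    rw [Ideal.span_le]
    rintro _ ⟨i, rfl⟩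
    exact φt_univPoly n d hd i
  exact hle ha

/-- the point of the total space -/
noncomputable def φq (hd : 1 ≤ d) : Q n d →+* ℤ :=
  (Ideal.Quotient.lift _ (φt n d hd) (φt_mem n d hd) : Q' n d →+* ℤ)

theorem φq_jacobian (hd : 1 ≤ d) : φq n d hd (pres n d).jacobian = 1 := by
  classical
  rw [Algebra.PreSubmersivePresentation.jacobian_eq_jacobiMatrix_det]
  have h1 : ∀ x : (pres n d).Ring, φq n d hd (algebraMap (pres n d).Ring (Q n d) x) = φt n d hd x := by
    intro x
    rfl
  refine (h1 _).trans ?_
  rw [RingHom.map_det]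
  have h2 : (φt n d hd).mapMatrix (pres n d).jacobiMatrix = 1 := by
    ext i j
    rw [RingHom.mapMatrix_apply, Matrix.map_apply]
    unfold pres
    rw [Matrix.one_apply]
    refine Eq.trans ?_ (φt_pderiv_univPoly n d hd i j)
    congr 1
    exact Algebra.PreSubmersivePresentation.jacobiMatrix_naive (v := univPoly n d) id
      Function.injective_id _ _ i j
  rw [h2, Matrix.det_one]

theorem etale_away :
    Algebra.Etale (UnivBase n d) (Localization.Away (pres n d).jacobian) := by
  have hΔ : IsUnit (algebraMap (Q n d) (Localization.Away (pres n d).jacobian)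
      (pres n d).jacobian) :=
    IsLocalization.Away.algebraMap_isUnit _
  let P : Algebra.SubmersivePresentation (UnivBase n d)
      (Localization.Away (pres n d).jacobian) _ _ :=
    { toPreSubmersivePresentation :=
        .comp (.localizationAway (Localization.Away (pres n d).jacobian) (pres n d).jacobian)
          (pres n d),
      jacobian_isUnit := by simp [Algebra.smul_def, -isUnit_map_iff, hΔ] }
  have : Algebra.IsStandardSmoothOfRelativeDimension 0 (UnivBase n d)
      (Localization.Away (pres n d).jacobian) :=
    ⟨_, _, _, inferInstance, P, by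
      simp only [Algebra.PreSubmersivePresentation.dimension_comp_eq_dimension_add_dimension, P]
      simp [Algebra.Presentation.dimension]⟩
  infer_instance

theorem finiteType : Algebra.FiniteType (UnivBase n d) (Q n d) :=
  (inferInstance : Algebra.FiniteType (UnivBase n d) (Q' n d))

theorem exists_point (hd : 1 ≤ d) : ∃ q : PrimeSpectrum (Q n d),
    Algebra.QuasiFiniteAt (UnivBase n d) q.asIdeal ∧
      Algebra.IsEtaleAt (UnivBase n d) q.asIdeal := by
  have hker : (RingHom.ker (φq n d hd)).IsPrime := RingHom.ker_isPrime _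
  have hq : (⟨RingHom.ker (φq n d hd), hker⟩ : PrimeSpectrum (Q n d)) ∈
      (PrimeSpectrum.basicOpen (pres n d).jacobian : Set (PrimeSpectrum (Q n d))) := by
    show (pres n d).jacobian ∉ RingHom.ker (φq n d hd)
    rw [RingHom.mem_ker, φq_jacobian]
    exact one_ne_zero
  have h1 := etale_away n d
  have het : Algebra.IsEtaleAt (UnivBase n d) (RingHom.ker (φq n d hd)) :=
    (Algebra.basicOpen_subset_etaleLocus_iff.mpr inferInstance) hq
  refine ⟨⟨RingHom.ker (φq n d hd), hker⟩, ?_, het⟩
  show Algebra.QuasiFinite (UnivBase n d) (Localization.AtPrime (RingHom.ker (φq n d hd)))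
  have h2 : Algebra.FormallyUnramified (UnivBase n d)
      (Localization.AtPrime (RingHom.ker (φq n d hd))) := by
    have : Algebra.FormallyEtale (UnivBase n d)
      (Localization.AtPrime (RingHom.ker (φq n d hd))) := het
    infer_instance
  have h0 := finiteType n d
  have h3 : Algebra.EssFiniteType (UnivBase n d)
      (Localization.AtPrime (RingHom.ker (φq n d hd))) :=
    Algebra.EssFiniteType.comp (UnivBase n d) (Q n d) _
  infer_instance

end Groth.Agent.Lib.T2H7.UnivEtale
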