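import Mathlib

set_option autoImplicit false
set_option linter.unusedSectionVars false
set_option linter.unusedVariables false
set_option linter.style.haveILetI false
universe u
open CategoryTheory CategoryTheory.Limits AlgebraicGeometry Opposite TopologicalSpace

namespace Groth.Agent.Lib.T2H7.ValLift

/-- a morphism from the spectrum of a local ring whose closed point lands in an open lands in
that open. -/
theorem range_subset_of_closedPoint_mem {P : Scheme.{u}} {R : Type u} [CommRing R] [IsLocalRing R]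
    (g : Spec (CommRingCat.of R) ⟶ P) (W : P.Opens) (h : g (IsLocalRing.closedPoint R) ∈ W) :
    Set.range g ⊆ (W : Set P) := by
  rintro _ ⟨x, rfl⟩
  have h1 : IsLocalRing.closedPoint R ∈ (g ⁻¹ᵁ W) := h
  have h2 : (g ⁻¹ᵁ W) = ⊤ := (IsLocalRing.closedPoint_mem_iff (R := R) (g ⁻¹ᵁ W)).mp h1
  have h3 : x ∈ (g ⁻¹ᵁ W) := by rw [h2]; trivial
  exact h3

/-- **descending a lift along a dominating extension** (scheme level): if a morphism from
`Spec A₁` and a morphism from `Spec K` to a scheme agree on `Spec K₁`, and `A` is the preimage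
of `A₁` in `K`, they come from a morphism from `Spec A`. -/
theorem exists_lift_of_dominating {P : Scheme.{u}} {A K A₁ K₁ : Type u} [CommRing A] [Field K]
    [Algebra A K] [CommRing A₁] [IsLocalRing A₁] [Field K₁] [Algebra A₁ K₁]
    (hinjA : Function.Injective (algebraMap A K))
    (hinj₁ : Function.Injective (algebraMap A₁ K₁))
    (φ : A →+* A₁) (ψ : K →+* K₁)
    (hcomm : (algebraMap A₁ K₁).comp φ = ψ.comp (algebraMap A K))
    (hpre : ∀ x : K, ψ x ∈ (algebraMap A₁ K₁).range → x ∈ (algebraMap A K).range)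
    (gK : Spec (CommRingCat.of K) ⟶ P) (g₁ : Spec (CommRingCat.of A₁) ⟶ P)
    (hg : Spec.map (CommRingCat.ofHom ψ) ≫ gK =
      Spec.map (CommRingCat.ofHom (algebraMap A₁ K₁)) ≫ g₁) :
    ∃ g : Spec (CommRingCat.of A) ⟶ P,
      Spec.map (CommRingCat.ofHom (algebraMap A K)) ≫ g = gK ∧
      Spec.map (CommRingCat.ofHom φ) ≫ g = g₁ := by
  -- an affine open neighbourhood of the image of the closed point
  obtain ⟨_, ⟨W, hW, rfl⟩, hpW, -⟩ := P.isBasis_affineOpens.exists_subset_of_mem_open
    (Set.mem_univ (g₁ (IsLocalRing.closedPoint A₁))) isOpen_univ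
  have hr₁ : Set.range g₁ ⊆ Set.range hW.fromSpec := by
    rw [hW.range_fromSpec]
    exact range_subset_of_closedPoint_mem g₁ W hpW
  have hrK : Set.range gK ⊆ Set.range hW.fromSpec := by
    rw [hW.range_fromSpec]
    rintro _ ⟨x, rfl⟩
    obtain ⟨y⟩ : Nonempty (Spec (CommRingCat.of K₁)) := inferInstanceAs (Nonempty (PrimeSpectrum K₁))
    have hx : Spec.map (CommRingCat.ofHom ψ) y = x := Subsingleton.elim (α := PrimeSpectrum K) _ _
    have h1 : gK x = g₁ (Spec.map (CommRingCat.ofHom (algebraMap A₁ K₁)) y) := by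
      rw [← hx, ← Scheme.Hom.comp_apply, hg, Scheme.Hom.comp_apply]
    rw [h1]
    exact range_subset_of_closedPoint_mem g₁ W hpW ⟨_, rfl⟩
  let l₁ := IsOpenImmersion.lift hW.fromSpec g₁ hr₁
  let lK := IsOpenImmersion.lift hW.fromSpec gK hrK
  have hl₁ : l₁ ≫ hW.fromSpec = g₁ := IsOpenImmersion.lift_fac _ _ _
  have hlK : lK ≫ hW.fromSpec = gK := IsOpenImmersion.lift_fac _ _ _
  obtain ⟨β₁, hβ₁⟩ := Spec.map_surjective l₁
  obtain ⟨βK, hβK⟩ := Spec.map_surjective lK
  -- compatibility on rings
  have hβ : βK ≫ CommRingCat.ofHom ψ = β₁ ≫ CommRingCat.ofHom (algebraMap A₁ K₁) := by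
    apply Spec.map_injective
    rw [Spec.map_comp, Spec.map_comp, hβ₁, hβK, ← cancel_mono hW.fromSpec, Category.assoc,
      Category.assoc, hl₁, hlK, hg]
  have hmem : ∀ b : Γ(P, W), βK.hom b ∈ (algebraMap A K).range := by
    intro b
    apply hpre
    have := congrArg (fun k => k.hom b) hβ
    simp only [CommRingCat.hom_comp, RingHom.comp_apply, CommRingCat.hom_ofHom] at this
    rw [this]
    exact ⟨_, rfl⟩
  -- the ring map to `A`
  let e : A ≃+* (algebraMap A K).range := RingEquiv.ofBijective (algebraMap A K).rangeRestrict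
    ⟨fun a b hab => hinjA (congrArg Subtype.val hab), (algebraMap A K).rangeRestrict_surjective⟩
  let β : Γ(P, W) →+* A := (e.symm : (algebraMap A K).range →+* A).comp
    (βK.hom.codRestrict (algebraMap A K).range hmem)
  have hβA : (algebraMap A K).comp β = βK.hom := by
    ext b
    simp only [RingHom.comp_apply, β]
    have h1 : algebraMap A K (e.symm ⟨βK.hom b, hmem b⟩) = ((e (e.symm ⟨βK.hom b, hmem b⟩) :
        (algebraMap A K).range) : K) := rfl
    exact h1.trans (by rw [RingEquiv.apply_symm_apply])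
  have hβφ : φ.comp β = β₁.hom := by
    ext b
    apply hinj₁
    have h1 := RingHom.congr_fun hcomm (β b)
    have h2 := RingHom.congr_fun hβA b
    simp only [RingHom.comp_apply] at h1 h2 ⊢
    rw [h1, h2]
    have := congrArg (fun k => k.hom b) hβ
    simp only [CommRingCat.hom_comp, RingHom.comp_apply, CommRingCat.hom_ofHom] at this
    exact this
  refine ⟨Spec.map (CommRingCat.ofHom β) ≫ hW.fromSpec, ?_, ?_⟩
  · rw [← Category.assoc, ← Spec.map_comp, ← hlK, ← hβK]
    congr 2
    ext b
    exact RingHom.congr_fun hβA b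
  · rw [← Category.assoc, ← Spec.map_comp, ← hl₁, ← hβ₁]
    congr 2
    ext b
    exact RingHom.congr_fun hβφ b

end Groth.Agent.Lib.T2H7.ValLift
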