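import Mathlib
import Groth.Prelude.Def_AlgSpMor5
import Groth.Agent.Lib.T2H7ValLiftA
import Groth.Agent.Lib.Helper20EtLocalSch
import Groth.Agent.S9874

set_option autoImplicit false
set_option linter.unusedSectionVars false
set_option linter.unusedVariables false
set_option linter.style.haveILetI false
universe u
open CategoryTheory CategoryTheory.Limits AlgebraicGeometry Opposite TopologicalSpace IsLocalRing

namespace Groth.Agent.Lib.T2H7.ValLift

/-- a valuation ring through a specialization in a scheme. -/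
theorem exists_valuationRing_of_specializes {T : Scheme.{u}} {η t : T} (h : η ⤳ t) :
    ∃ (A₁ : ValuationSubring (T.residueField η)) (l : Spec (CommRingCat.of A₁) ⟶ T),
      l (closedPoint A₁) = t ∧
      Spec.map (CommRingCat.ofHom (algebraMap A₁ (T.residueField η))) ≫ l =
        T.fromSpecResidueField η := by
  let s2r : T.presheaf.stalk t ⟶ T.residueField η :=
    T.presheaf.stalkSpecializes h ≫ T.residue η
  obtain ⟨A, hA, hA_local⟩ := exists_factor_valuationRing s2r.hom
  let s2A : T.presheaf.stalk t ⟶ CommRingCat.of A :=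
    CommRingCat.ofHom (s2r.hom.codRestrict _ hA)
  refine ⟨A, Spec.map s2A ≫ T.fromSpecStalk t, ?_, ?_⟩
  · rw [Scheme.Hom.comp_apply]
    have : Spec.map s2A (closedPoint A) = closedPoint (T.presheaf.stalk t) :=
      comap_closedPoint (S := A) (s2r.hom.codRestrict A.toSubring hA)
    rw [this, T.fromSpecStalk_closedPoint]
  · rw [Scheme.fromSpecResidueField, ← Scheme.SpecMap_stalkSpecializes_fromSpecStalk h,
      ← Category.assoc, ← Category.assoc, ← Spec.map_comp, ← Spec.map_comp]
    rfl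

/-- lifting a local domain point through a flat surjective morphism after passing to a
dominating valuation ring. -/
theorem exists_valuationRing_lift_of_flat_surjective {T : Scheme.{u}} {A₀ : Type u} [CommRing A₀]
    [IsDomain A₀] [IsLocalRing A₀] (q : T ⟶ Spec (CommRingCat.of A₀)) [Flat q] [Surjective q] :
    ∃ (η : T) (A₁ : ValuationSubring (T.residueField η)) (l : Spec (CommRingCat.of A₁) ⟶ T)
      (φ₁ : A₀ →+* A₁),
      IsLocalHom φ₁ ∧ l ≫ q = Spec.map (CommRingCat.ofHom φ₁) ∧
      Function.Injective ((algebraMap A₁ (T.residueField η)).comp φ₁) ∧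
      Spec.map (CommRingCat.ofHom (algebraMap A₁ (T.residueField η))) ≫ l =
        T.fromSpecResidueField η := by
  obtain ⟨t, ht⟩ := q.surjective (closedPoint A₀)
  let ξ₀ : PrimeSpectrum A₀ := ⟨⊥, Ideal.isPrime_bot⟩
  have hξ : (ξ₀ : Spec (CommRingCat.of A₀)) ⤳ q t := by
    rw [ht]
    exact specializes_closedPoint ξ₀
  obtain ⟨η, hη, hqη⟩ := (Flat.generalizingMap q) hξ
  obtain ⟨A₁, l, hl1, hl2⟩ := exists_valuationRing_of_specializes hη
  obtain ⟨φc, hφc⟩ := Spec.map_surjective (l ≫ q)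
  refine ⟨η, A₁, l, φc.hom, ?_, hφc.symm, ?_, hl2⟩
  · rw [isLocalHom_iff_comap_closedPoint]
    have h1 : (Spec.map φc) (closedPoint A₁) = closedPoint A₀ := by
      rw [hφc, Scheme.Hom.comp_apply, hl1, ht]
    exact h1
  · rw [RingHom.injective_iff_ker_eq_bot]
    have h1 : Spec.map (CommRingCat.ofHom ((algebraMap A₁ (T.residueField η)).comp φc.hom)) =
        T.fromSpecResidueField η ≫ q := by
      rw [← hl2, Category.assoc, ← hφc, ← Spec.map_comp]
      rfl
    have h2 : (Spec.map (CommRingCat.ofHom ((algebraMap A₁ (T.residueField η)).comp φc.hom)))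
        (closedPoint (T.residueField η)) = ξ₀ := by
      rw [h1, Scheme.Hom.comp_apply, Scheme.fromSpecResidueField_apply, hqη]
    have h3 := congrArg PrimeSpectrum.asIdeal h2
    have h4 : (closedPoint (T.residueField η)).asIdeal = ⊥ := Ideal.eq_bot_of_prime _
    change Ideal.comap _ (closedPoint (T.residueField η)).asIdeal = ⊥ at h3
    rw [h4] at h3
    exact h3

/-- the residue field of the spectrum of a field is the field. -/
theorem exists_retraction_residueField (K : Type u) [Field K] (y : Spec (CommRingCat.of K))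
    (c : CommRingCat.of K ⟶ (Spec (CommRingCat.of K)).residueField y)
    (hc : Spec.map c = (Spec (CommRingCat.of K)).fromSpecResidueField y) :
    Function.Bijective c.hom := by
  obtain rfl : y = closedPoint K := Subsingleton.elim (α := PrimeSpectrum K) _ _
  have h1 := Scheme.descResidueField_stalkClosedPointTo_fromSpecResidueField K
    (Spec (CommRingCat.of K)) (𝟙 _)
  set g := Scheme.descResidueField (Scheme.stalkClosedPointTo (𝟙 (Spec (CommRingCat.of K))))
    with hg
  have h2 : c ≫ g = 𝟙 _ := by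
    apply Spec.map_injective
    rw [Spec.map_comp, hc, Spec.map_id]
    exact h1
  have h3 : ∀ a : K, g.hom (c.hom a) = a := fun a => by
    have h4 : (c ≫ g).hom a = (𝟙 (CommRingCat.of K) : CommRingCat.of K ⟶ _).hom a := by rw [h2]
    exact h4
  refine ⟨c.hom.injective, fun b => ⟨g.hom b, ?_⟩⟩
  apply g.hom.injective
  rw [h3]

/-- residue fields of a scheme étale over a field are finite separable extensions. -/
theorem finite_isSeparable_of_etale {V : Scheme.{u}} {K : Type u} [Field K]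
    (qV : V ⟶ Spec (CommRingCat.of K)) [Etale qV] (z : V) (ψ : K →+* V.residueField z)
    (hψ : Spec.map (CommRingCat.ofHom ψ) = V.fromSpecResidueField z ≫ qV) :
    letI := ψ.toAlgebra
    Module.Finite K (V.residueField z) ∧ Algebra.IsSeparable K (V.residueField z) := by
  obtain ⟨-, hfin, hsep⟩ :=
    (Groth.Agent.Lib.Helper20.EtLocal.formallyUnramified_stalkMap_iff_local qV z).mp
      (FormallyUnramified.stalkMap qV z)
  obtain ⟨c, hc⟩ := Spec.map_surjective ((Spec (CommRingCat.of K)).fromSpecResidueField (qV z))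
  have hbij := exists_retraction_residueField K (qV z) c hc
  have hψc : ψ = (qV.residueFieldMap z).hom.comp c.hom := by
    have h1 : Spec.map (CommRingCat.ofHom ψ) = Spec.map (c ≫ qV.residueFieldMap z) := by
      rw [hψ, Spec.map_comp, hc, Scheme.Hom.SpecMap_residueFieldMap_fromSpecResidueField]
    have h2 := Spec.map_injective h1
    have := congrArg (fun k => k.hom) h2
    exact this
  letI := ψ.toAlgebra
  letI := (qV.residueFieldMap z).hom.toAlgebra
  let e₁ : (Spec (CommRingCat.of K)).residueField (qV z) ≃+* K :=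
    (RingEquiv.ofBijective c.hom hbij).symm
  have he : RingHom.comp (algebraMap K (V.residueField z)) (e₁ : _ →+* K) =
      RingHom.comp ((RingEquiv.refl (V.residueField z)) : _ →+* _)
        (algebraMap ((Spec (CommRingCat.of K)).residueField (qV z)) (V.residueField z)) := by
    ext b
    obtain ⟨a, rfl⟩ := hbij.2 b
    have h1 : e₁ (c.hom a) = a := (RingEquiv.ofBijective c.hom hbij).symm_apply_apply a
    simp only [RingHom.comp_apply, RingHom.coe_coe, RingEquiv.refl_apply]
    rw [h1]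
    show ψ a = (qV.residueFieldMap z).hom (c.hom a)
    rw [hψc]
    rfl
  exact ⟨Module.Finite.of_equiv_equiv e₁ (RingEquiv.refl _) he,
    Algebra.IsSeparable.of_equiv_equiv e₁ (RingEquiv.refl _) he⟩

variable {S : Scheme.{u}}

/-- **the extension in the existence part of the valuative criterion may be taken finite
separable.** -/
theorem exists_finite_separable_lift {X Y : AlgSp.Space S} (f : X ⟶ Y) (sq : AlgSp.ValSq f.hom)
    (e : sq.DomExt) (he : e.HasLift) :
    ∃ e' : sq.DomExt,
      (letI := e'.ψ.toAlgebra; Module.Finite sq.K e'.K' ∧ Algebra.IsSeparable sq.K e'.K') ∧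
      e'.HasLift := by
  obtain ⟨l', hl'1, hl'2⟩ := he
  let genE : e.ptK' ⟶ e.ptA' :=
    Over.homMk (Spec.map (CommRingCat.ofHom (algebraMap e.A' e.K'))) rfl
  let mψ : e.ptK' ⟶ sq.ptK := Over.homMk (Spec.map (CommRingCat.ofHom e.ψ)) (by
    change Spec.map _ ≫ Spec.map _ ≫ _ = Spec.map _ ≫ Spec.map _ ≫ _
    rw [← Spec.map_comp_assoc, ← Spec.map_comp_assoc, ← CommRingCat.ofHom_comp,
      ← CommRingCat.ofHom_comp, e.comm])
  let mφ : e.ptA' ⟶ sq.ptA := Over.homMk (Spec.map (CommRingCat.ofHom e.φ)) rfl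
  change (AlgSp.yon S).map genE ≫ l' = (AlgSp.yon S).map mψ ≫ sq.top at hl'1
  change l' ≫ f.hom = (AlgSp.yon S).map mφ ≫ sq.bot at hl'2
  have hcommO : mψ ≫ sq.j = genE ≫ mφ := by
    ext
    change Spec.map _ ≫ Spec.map _ = Spec.map _ ≫ Spec.map _
    rw [← Spec.map_comp, ← Spec.map_comp, ← CommRingCat.ofHom_comp, ← CommRingCat.ofHom_comp,
      e.comm]
  -- Step A: the base change to `Spec A` and its atlas
  have hA : AlgSp.IsAlgSpace ((AlgSp.yon S).obj sq.ptA) := AlgSp.IsAlgSpace.yon_obj _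
  have hXA : AlgSp.IsAlgSpace (pullback f.hom sq.bot) :=
    Groth.Agent.S9874.isAlgSpace_of_isPullback Y.property.diag X.property hA
      (IsPullback.of_hasPullback _ _)
  obtain ⟨U, a, hae, has⟩ := hXA.atlas
  let xK : (AlgSp.yon S).obj sq.ptK ⟶ pullback f.hom sq.bot :=
    pullback.lift sq.top ((AlgSp.yon S).map sq.j) sq.comm
  let l'A : (AlgSp.yon S).obj e.ptA' ⟶ pullback f.hom sq.bot :=
    pullback.lift l' ((AlgSp.yon S).map mφ) hl'2
  have hgen : (AlgSp.yon S).map genE ≫ l'A = (AlgSp.yon S).map mψ ≫ xK := by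
    apply pullback.hom_ext
    · rw [Category.assoc, Category.assoc, pullback.lift_fst, pullback.lift_fst, hl'1]
    · rw [Category.assoc, Category.assoc, pullback.lift_snd, pullback.lift_snd,
        ← Functor.map_comp, ← Functor.map_comp, hcommO]
  obtain ⟨qU, hqU⟩ := (AlgSp.yon S).map_surjective (a ≫ pullback.snd f.hom sq.bot)
  -- Step B: the chart pulled back to `Spec A'`
  let T : Over S := hae.1.pullback l'A
  let qT : T ⟶ e.ptA' := hae.1.snd l'A
  have sqT : IsPullback (hae.1.fst l'A) ((AlgSp.yon S).map qT) a l'A := hae.1.isPullback l'A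
  obtain ⟨tU, htU⟩ : ∃ tU : T ⟶ U, (AlgSp.yon S).map tU = hae.1.fst l'A :=
    (AlgSp.yon S).map_surjective _
  haveI hqTe : Etale qT.left := hae.2 _ _ _ sqT
  haveI hqTs : Surjective qT.left := has.2 _ _ _ sqT
  obtain ⟨η, A₁, lT, φ₁, hφ₁loc, hlTq, hinj₁, hlTη⟩ :=
    exists_valuationRing_lift_of_flat_surjective (A₀ := e.A') qT.left
  -- the fraction fields
  let ψ₁ : e.K' →+* T.left.residueField η := IsFractionRing.lift hinj₁
  have hψ₁ : ψ₁.comp (algebraMap e.A' e.K') =
      (algebraMap A₁ (T.left.residueField η)).comp φ₁ := by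
    refine RingHom.ext fun x => ?_
    rw [RingHom.comp_apply]
    exact IsFractionRing.lift_algebraMap hinj₁ x
  -- Step C: the new spectra as schemes over `S`
  let ptA₁ : Over S := Over.mk (Spec.map (CommRingCat.ofHom φ₁) ≫ e.ptA'.hom)
  let ptK₁ : Over S := Over.mk
    (Spec.map (CommRingCat.ofHom (algebraMap A₁ (T.left.residueField η))) ≫ ptA₁.hom)
  let mφ₁ : ptA₁ ⟶ e.ptA' := Over.homMk (Spec.map (CommRingCat.ofHom φ₁)) rfl
  let gen₁ : ptK₁ ⟶ ptA₁ :=
    Over.homMk (Spec.map (CommRingCat.ofHom (algebraMap A₁ (T.left.residueField η)))) rfl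
  let lTO : ptA₁ ⟶ T := Over.homMk lT (by
    have h1 : qT.left ≫ e.ptA'.hom = T.hom := Over.w qT
    rw [← h1, ← Category.assoc, hlTq]
    rfl)
  have hlTOq : lTO ≫ qT = mφ₁ := by
    ext
    exact hlTq
  let mψ₁ : ptK₁ ⟶ e.ptK' := Over.homMk (Spec.map (CommRingCat.ofHom ψ₁)) (by
    show Spec.map (CommRingCat.ofHom ψ₁) ≫
        (Spec.map (CommRingCat.ofHom (algebraMap e.A' e.K')) ≫ e.ptA'.hom) =
      Spec.map (CommRingCat.ofHom (algebraMap A₁ (T.left.residueField η))) ≫
        (Spec.map (CommRingCat.ofHom φ₁) ≫ e.ptA'.hom)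
    rw [← Category.assoc, ← Category.assoc, ← Spec.map_comp, ← Spec.map_comp,
      ← CommRingCat.ofHom_comp, ← CommRingCat.ofHom_comp, hψ₁])
  have hcomm₁ : mψ₁ ≫ genE = gen₁ ≫ mφ₁ := by
    ext
    change Spec.map _ ≫ Spec.map _ = Spec.map _ ≫ Spec.map _
    rw [← Spec.map_comp, ← Spec.map_comp, ← CommRingCat.ofHom_comp, ← CommRingCat.ofHom_comp,
      hψ₁]
  -- the chart pulled back to `Spec K`
  let V : Over S := hae.1.pullback xK
  let qV : V ⟶ sq.ptK := hae.1.snd xK
  have sqV : IsPullback (hae.1.fst xK) ((AlgSp.yon S).map qV) a xK := hae.1.isPullback xK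
  obtain ⟨vU, hvU⟩ : ∃ vU : V ⟶ U, (AlgSp.yon S).map vU = hae.1.fst xK :=
    (AlgSp.yon S).map_surjective _
  haveI hqVe : Etale qV.left := hae.2 _ _ _ sqV
  have hz : (AlgSp.yon S).map (gen₁ ≫ lTO ≫ tU) ≫ a =
      (AlgSp.yon S).map (mψ₁ ≫ mψ) ≫ xK := by
    rw [Functor.map_comp, Functor.map_comp, Category.assoc, Category.assoc, htU, sqT.w,
      ← Category.assoc ((AlgSp.yon S).map lTO), ← Functor.map_comp, hlTOq, ← Category.assoc,
      ← Functor.map_comp, ← hcomm₁, Functor.map_comp, Category.assoc, hgen, ← Category.assoc,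
      ← Functor.map_comp]
  obtain ⟨zV, hzV⟩ := (AlgSp.yon S).map_surjective (sqV.lift _ _ hz)
  have hzV1 : zV ≫ vU = gen₁ ≫ lTO ≫ tU := (AlgSp.yon S).map_injective (by
    rw [Functor.map_comp, hzV, hvU, sqV.lift_fst])
  have hzV2 : zV ≫ qV = mψ₁ ≫ mψ := (AlgSp.yon S).map_injective (by
    rw [Functor.map_comp, hzV, sqV.lift_snd])
  -- Step D: the image point and its residue field
  let K₁ : Type u := T.left.residueField η
  let zS : Spec (CommRingCat.of K₁) ⟶ V.left := zV.left
  let z : V.left := zS (closedPoint K₁)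
  let ι : V.left.residueField z ⟶ CommRingCat.of K₁ :=
    Scheme.descResidueField (Scheme.stalkClosedPointTo zS)
  have hι : Spec.map ι ≫ V.left.fromSpecResidueField z = zV.left :=
    Scheme.descResidueField_stalkClosedPointTo_fromSpecResidueField K₁ V.left zS
  obtain ⟨ψc, hψc⟩ := Spec.map_surjective (V.left.fromSpecResidueField z ≫ qV.left)
  have hιψ : ι.hom.comp ψc.hom = ψ₁.comp e.ψ := by
    have h1 : Spec.map (ψc ≫ ι) =
        Spec.map (CommRingCat.ofHom e.ψ ≫ CommRingCat.ofHom ψ₁) := by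
      rw [Spec.map_comp, hψc, ← Category.assoc, hι, Spec.map_comp]
      exact congrArg CommaMorphism.left hzV2
    have h2 := Spec.map_injective h1
    exact congrArg (fun k => k.hom) h2
  have hfs := finite_isSeparable_of_etale qV.left z ψc.hom hψc
  -- Step E: the new valuation ring
  let K₂ : Type u := V.left.residueField z
  let A₂ : ValuationSubring K₂ := A₁.comap ι.hom
  have hmemA : ∀ a : sq.A, ι.hom (ψc.hom (algebraMap sq.A sq.K a)) =
      algebraMap A₁ K₁ (φ₁ (e.φ a)) := by
    intro a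
    have h1 := RingHom.congr_fun hιψ (algebraMap sq.A sq.K a)
    have h2 := RingHom.congr_fun e.comm a
    have h3 := RingHom.congr_fun hψ₁ (e.φ a)
    simp only [RingHom.comp_apply] at h1 h2 h3
    rw [h1, ← h2, h3]
  let φ₂ : sq.A →+* A₂ := (ψc.hom.comp (algebraMap sq.A sq.K)).codRestrict A₂ (fun a => by
    show ι.hom (ψc.hom (algebraMap sq.A sq.K a)) ∈ A₁
    rw [hmemA]
    exact (φ₁ (e.φ a)).2)
  let ρ : A₂ →+* A₁ := (ι.hom.comp A₂.subtype).codRestrict A₁ (fun x => x.2)
  have hρφ : ∀ a : sq.A, ρ (φ₂ a) = φ₁ (e.φ a) := fun a => Subtype.ext (hmemA a)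
  have hρinj : Function.Injective ρ := by
    intro x y hxy
    apply Subtype.ext
    apply ι.hom.injective
    exact congrArg Subtype.val hxy
  haveI := e.isLocalHom
  have hφ₂loc : IsLocalHom φ₂ := ⟨fun a ha => by
    have h1 : IsUnit (ρ (φ₂ a)) := ha.map ρ
    rw [hρφ] at h1
    exact IsUnit.of_map e.φ a (IsUnit.of_map φ₁ _ h1)⟩
  let e₂ : sq.DomExt :=
    { A' := A₂
      K' := K₂
      φ := φ₂
      ψ := ψc.hom
      comm := rfl
      isLocalHom := hφ₂loc }
  refine ⟨e₂, hfs, ?_⟩
  -- Step F: descend the lift to the new valuation ring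
  have hpre : ∀ x : K₂, ι.hom x ∈ (algebraMap A₁ K₁).range → x ∈ (algebraMap A₂ K₂).range := by
    rintro x ⟨b, hb⟩
    have hx : x ∈ A₂ := by
      show ι.hom x ∈ A₁
      rw [← hb]
      exact b.2
    exact ⟨⟨x, hx⟩, rfl⟩
  let gK : Spec (CommRingCat.of K₂) ⟶ U.left := V.left.fromSpecResidueField z ≫ vU.left
  let g₁ : Spec (CommRingCat.of A₁) ⟶ U.left := lT ≫ tU.left
  have hgg : Spec.map (CommRingCat.ofHom ι.hom) ≫ gK =
      Spec.map (CommRingCat.ofHom (algebraMap A₁ K₁)) ≫ g₁ := by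
    show Spec.map ι ≫ V.left.fromSpecResidueField z ≫ vU.left = _
    rw [← Category.assoc, hι]
    exact congrArg CommaMorphism.left hzV1
  obtain ⟨g, hg1, hg2⟩ := exists_lift_of_dominating (P := U.left) (A := A₂) (K := K₂)
    (A₁ := A₁) (K₁ := K₁) Subtype.val_injective Subtype.val_injective ρ ι.hom rfl hpre gK g₁ hgg
  -- Step G: the lift lies over `Spec A`
  have htq : tU ≫ qU = qT ≫ mφ := (AlgSp.yon S).map_injective (by
    rw [Functor.map_comp, Functor.map_comp, htU, hqU, ← Category.assoc, sqT.w, Category.assoc,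
      pullback.lift_snd])
  have hgq : g ≫ qU.left = Spec.map (CommRingCat.ofHom φ₂) := by
    obtain ⟨θ, hθ⟩ := Spec.map_surjective (g ≫ qU.left)
    have h1 : Spec.map (CommRingCat.ofHom ρ) ≫ (g ≫ qU.left) =
        Spec.map (CommRingCat.ofHom φ₁) ≫ Spec.map (CommRingCat.ofHom e.φ) := by
      rw [← Category.assoc, hg2]
      show lT ≫ tU.left ≫ qU.left = _
      have h2 : tU.left ≫ qU.left = qT.left ≫ mφ.left := congrArg CommaMorphism.left htq
      rw [h2, ← Category.assoc, hlTq]
      rfl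
    rw [← hθ, ← Spec.map_comp, ← Spec.map_comp] at h1
    have h2 := Spec.map_injective h1
    have h3 : θ = CommRingCat.ofHom φ₂ := by
      refine CommRingCat.hom_ext (RingHom.ext fun a => ?_)
      apply hρinj
      have h4 := congrArg (fun k => k.hom a) h2
      simp only [CommRingCat.hom_comp, RingHom.comp_apply, CommRingCat.hom_ofHom] at h4
      rw [h4]
      exact (hρφ a).symm
    rw [← hθ, h3]
  let gO : e₂.ptA' ⟶ U := Over.homMk g (by
    have h1 : qU.left ≫ sq.ptA.hom = U.hom := Over.w qU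
    rw [← h1, ← Category.assoc, hgq]
    rfl)
  let gen₂ : e₂.ptK' ⟶ e₂.ptA' :=
    Over.homMk (Spec.map (CommRingCat.ofHom (algebraMap e₂.A' e₂.K'))) rfl
  let mψ₂ : e₂.ptK' ⟶ sq.ptK := Over.homMk (Spec.map (CommRingCat.ofHom e₂.ψ)) (by
    change Spec.map _ ≫ Spec.map _ ≫ _ = Spec.map _ ≫ Spec.map _ ≫ _
    rw [← Spec.map_comp_assoc, ← Spec.map_comp_assoc, ← CommRingCat.ofHom_comp,
      ← CommRingCat.ofHom_comp, e₂.comm])
  let mφ₂ : e₂.ptA' ⟶ sq.ptA := Over.homMk (Spec.map (CommRingCat.ofHom e₂.φ)) rfl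
  have hzq : V.left.fromSpecResidueField z ≫ qV.left = mψ₂.left := hψc.symm
  let zO : e₂.ptK' ⟶ V := Over.homMk (V.left.fromSpecResidueField z) (by
    have h1 : qV.left ≫ sq.ptK.hom = V.hom := Over.w qV
    rw [← h1, ← Category.assoc, hzq]
    exact Over.w mψ₂)
  have hzOq : zO ≫ qV = mψ₂ := by
    ext
    exact hzq
  have hgenO : gen₂ ≫ gO = zO ≫ vU := by
    ext
    exact hg1
  have hgOq : gO ≫ qU = mφ₂ := by
    ext
    exact hgq
  refine ⟨(AlgSp.yon S).map gO ≫ a ≫ pullback.fst f.hom sq.bot, ?_, ?_⟩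
  · show (AlgSp.yon S).map gen₂ ≫ (AlgSp.yon S).map gO ≫ a ≫ pullback.fst f.hom sq.bot =
      (AlgSp.yon S).map mψ₂ ≫ sq.top
    rw [← Category.assoc, ← Functor.map_comp, hgenO, Functor.map_comp, Category.assoc, hvU,
      ← Category.assoc (hae.1.fst xK), sqV.w, Category.assoc, pullback.lift_fst,
      ← Category.assoc, ← Functor.map_comp, hzOq]
  · show ((AlgSp.yon S).map gO ≫ a ≫ pullback.fst f.hom sq.bot) ≫ f.hom =
      (AlgSp.yon S).map mφ₂ ≫ sq.bot
    rw [Category.assoc, Category.assoc, pullback.condition, ← Category.assoc a, ← hqU,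
      ← Category.assoc, ← Functor.map_comp, hgOq]

end Groth.Agent.Lib.T2H7.ValLift
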