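import Mathlib
import Groth.Agent.Lib.T2H7ValFp
import Groth.Agent.Lib.T2H7LocFibAbs
import Groth.Agent.S0563

/-!
# Invertible modules on the generic fibre of a local flat algebra with regular closed fibre over a
valuation ring are free (helper7)
-/

set_option autoImplicit false
set_option linter.unusedSectionVars false
universe u
open CategoryTheory TensorProduct

namespace Groth.Agent.Lib.T2H7.ValPic

open Groth.Agent.Lib.T2H7.ValFp Groth.Agent.Lib.T2H7.PdTorC

section Split

variable {Q : Type*} [CommRing Q] {F P : Type*} [AddCommGroup F] [Module Q F] [AddCommGroup P]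
  [Module Q P]

/-- A surjection onto a projective module splits. -/
theorem nonempty_equiv_prod_ker (p : F →ₗ[Q] P) (hp : Function.Surjective p)
    [Module.Projective Q P] : Nonempty (F ≃ₗ[Q] (P × LinearMap.ker p)) := by
  obtain ⟨s, hs⟩ := Module.projective_lifting_property p LinearMap.id hp
  have hs' : ∀ y, p (s y) = y := fun y => LinearMap.congr_fun hs y
  let r : F →ₗ[Q] LinearMap.ker p :=
    (LinearMap.id - s ∘ₗ p).codRestrict (LinearMap.ker p) (fun x => by
      rw [LinearMap.mem_ker, LinearMap.sub_apply, map_sub, LinearMap.id_apply,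
        LinearMap.comp_apply, hs', sub_self])
  refine ⟨LinearEquiv.ofLinearMap (p.prod r) (s.coprod (LinearMap.ker p).subtype) ?_ ?_⟩
  · apply LinearMap.ext
    rintro ⟨y, z⟩
    have hz : p (z : F) = 0 := z.2
    apply Prod.ext
    · simp [hs', hz]
    · apply Subtype.ext
      simp [r, hs', hz]
  · apply LinearMap.ext
    intro x
    simp [r]

end Split

section Syz

variable (R : Type u) [CommRing R] [IsDomain R] [ValuationRing R]
  (A : Type u) [CommRing A] [Algebra R A] [Module.Flat R A] [Algebra.EssFiniteType R A]

/-- Submodules of `R`-flat modules are `R`-flat. -/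
theorem flat_submodule {F : Type*} [AddCommGroup F] [Module A F] [Module R F] [IsScalarTower R A F]
    [Module.Flat R F] (K : Submodule A F) : Module.Flat R K := by
  refine flat_of_torsionFree ?_
  intro a x ha hx
  apply Subtype.ext
  exact torsionFree_of_flat a (x : F) ha (congrArg Subtype.val hx)

/-- First syzygies of finitely presented `R`-flat `A`-modules are finitely presented and flat. -/
theorem exists_syzygy (Z : Type u) [AddCommGroup Z] [Module A Z] [Module R Z] [IsScalarTower R A Z]
    [Module.FinitePresentation A Z] [Module.Flat R Z] :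
    ∃ (k : ℕ) (π : (Fin k → A) →ₗ[A] Z), Function.Surjective π ∧
      Module.FinitePresentation A (LinearMap.ker π) ∧ Module.Flat R (LinearMap.ker π) := by
  obtain ⟨k, m, π, g, hπ, hex⟩ := Module.FinitePresentation.exists_fin' A Z
  have hker : (LinearMap.ker π).FG := by
    rw [LinearMap.exact_iff] at hex
    rw [hex, LinearMap.range_eq_map]
    exact Module.Finite.fg_top.map g
  have hFl : Module.Flat R (Fin k → A) := Module.Flat.trans R A _
  have h2 : Module.Flat R (LinearMap.ker π) := flat_submodule R A _
  have h3 : Module.Finite A (LinearMap.ker π) := Module.Finite.iff_fg.mpr hker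
  exact ⟨k, π, hπ, finitePresentation_of_essFiniteType (A := R) (B := A), h2⟩

end Syz

section Stably

variable (R : Type u) [CommRing R] [IsDomain R] [ValuationRing R]
  (A : Type u) [CommRing A] [IsLocalRing A] [Algebra R A] [Module.Flat R A]
  [Algebra.EssFiniteType R A]
  (Q : Type u) [CommRing Q] [Algebra A Q] [Module.Flat A Q]

/-- A finitely presented `R`-flat `A`-module of finite projective dimension whose base change to a
flat `A`-algebra `Q` is projective has stably free base change. -/
theorem isStablyFree_baseChange : ∀ (i : ℕ) (N : Type u) [AddCommGroup N] [Module A N] [Module R N]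
    [IsScalarTower R A N] [Module.FinitePresentation A N] [Module.Flat R N],
    HasProjectiveDimensionLT (ModuleCat.of A N) (i + 1) → Module.Projective Q (Q ⊗[A] N) →
      Module.IsStablyFree Q (Q ⊗[A] N) := by
  intro i
  induction i with
  | zero =>
    intro N _ _ _ _ _ _ hpd _
    have hp : Projective (ModuleCat.of A N) :=
      projective_iff_hasProjectiveDimensionLT_one.mpr hpd
    have : Module.Projective A N := (IsProjective.iff_projective (ModuleCat.of A N)).mpr hp
    have : Module.Free A N := Module.free_of_flat_of_isLocalRing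
    infer_instance
  | succ i ih =>
    intro N _ _ _ _ _ _ hpd hproj
    obtain ⟨k, π, hπ, hfp, hfl⟩ := exists_syzygy R A N
    have hS := kerSC_shortExact π hπ
    have hprojF : Projective (kerSC π).X₂ := projective_of_module_projective (Fin k → A)
    have hpdK : HasProjectiveDimensionLT (ModuleCat.of A (LinearMap.ker π)) (i + 1) :=
      (hS.hasProjectiveDimensionLT_X₃_iff i hprojF).mp hpd
    -- base change
    have hπQ : Function.Surjective (π.baseChange Q) := by
      rw [LinearMap.baseChange_eq_ltensor]
      exact LinearMap.lTensor_surjective _ hπ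
    have hinjQ : Function.Injective ((LinearMap.ker π).subtype.baseChange Q) := by
      rw [LinearMap.baseChange_eq_ltensor]
      exact Module.Flat.lTensor_preserves_injective_linearMap _ Subtype.val_injective
    have hexQ : Function.Exact ((LinearMap.ker π).subtype.baseChange Q) (π.baseChange Q) := by
      rw [LinearMap.baseChange_eq_ltensor, LinearMap.baseChange_eq_ltensor]
      exact lTensor_exact _ (LinearMap.exact_subtype_ker_map π) hπ
    have hrange : LinearMap.range ((LinearMap.ker π).subtype.baseChange Q) =
        LinearMap.ker (π.baseChange Q) := (LinearMap.exact_iff.mp hexQ).symm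
    let eK : (Q ⊗[A] (LinearMap.ker π)) ≃ₗ[Q] (LinearMap.ker (π.baseChange Q)) :=
      (LinearEquiv.ofInjective _ hinjQ).trans (LinearEquiv.ofEq _ _ hrange)
    obtain ⟨e⟩ := nonempty_equiv_prod_ker (π.baseChange Q) hπQ
    let e' : (Q ⊗[A] (Fin k → A)) ≃ₗ[Q] ((Q ⊗[A] N) × (Q ⊗[A] (LinearMap.ker π))) :=
      e.trans (LinearEquiv.prodCongr (LinearEquiv.refl Q _) eK.symm)
    have hprojP : Module.Projective Q ((Q ⊗[A] N) × (Q ⊗[A] (LinearMap.ker π))) :=
      Module.Projective.of_equiv e'
    have hprojK : Module.Projective Q (Q ⊗[A] (LinearMap.ker π)) :=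
      Module.Projective.of_split (LinearMap.inr Q (Q ⊗[A] N) (Q ⊗[A] (LinearMap.ker π)))
        (LinearMap.snd Q _ _) (LinearMap.ext fun _ => rfl)
    have hsfK : Module.IsStablyFree Q (Q ⊗[A] (LinearMap.ker π)) :=
      ih (LinearMap.ker π) hpdK hprojK
    obtain ⟨F₁, _, _, hfin, hfree, hfreeP⟩ :=
      Module.IsStablyFree.exist_free_prod Q (Q ⊗[A] (LinearMap.ker π))
    have hfin2 : Module.Finite Q ((Q ⊗[A] (LinearMap.ker π)) × F₁) := inferInstance
    let e2 : ((Q ⊗[A] N) × ((Q ⊗[A] (LinearMap.ker π)) × F₁)) ≃ₗ[Q]
        ((Q ⊗[A] (Fin k → A)) × F₁) :=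
      (LinearEquiv.prodAssoc Q _ _ _).symm.trans
        (LinearEquiv.prodCongr e'.symm (LinearEquiv.refl Q F₁))
    have hfree2 : Module.Free Q ((Q ⊗[A] N) × ((Q ⊗[A] (LinearMap.ker π)) × F₁)) :=
      Module.Free.of_equiv e2.symm
    exact Module.IsStablyFree.of_free_prod Q (Q ⊗[A] N) ((Q ⊗[A] (LinearMap.ker π)) × F₁)

end Stably

section FinPd

variable (R : Type u) [CommRing R] [IsDomain R] [ValuationRing R]
  (A : Type u) [CommRing A] [IsLocalRing A] [Algebra R A] [Module.Flat R A]
  [Algebra.EssFiniteType R A]

/-- Finitely presented `R`-flat `A`-modules have bounded projective dimension when the closed fibre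
is regular. -/
theorem exists_hasPDLT
    (hI : (IsLocalRing.maximalIdeal R).map (algebraMap R A) ≤ IsLocalRing.maximalIdeal A)
    (hreg : IsRegularLocalRing (A ⧸ (IsLocalRing.maximalIdeal R).map (algebraMap R A))) :
    ∃ d : ℕ, ∀ (N : Type u) [AddCommGroup N] [Module A N] [Module R N] [IsScalarTower R A N]
      [Module.FinitePresentation A N] [Module.Flat R N],
      HasProjectiveDimensionLT (ModuleCat.of A N) (d + 1) := by
  have := hreg
  have hne : ringKrullDim (A ⧸ (IsLocalRing.maximalIdeal R).map (algebraMap R A)) ≠ ⊤ :=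
    ringKrullDim_ne_top
  have hne' : ringKrullDim (A ⧸ (IsLocalRing.maximalIdeal R).map (algebraMap R A)) ≠ ⊥ :=
    ringKrullDim_ne_bot
  obtain ⟨d', hd'⟩ := WithBot.ne_bot_iff_exists.mp hne'
  have hd'top : d' ≠ ⊤ := by
    rintro rfl
    exact hne hd'.symm
  obtain ⟨d, hd⟩ := ENat.ne_top_iff_exists.mp hd'top
  have hdim : ringKrullDim (A ⧸ (IsLocalRing.maximalIdeal R).map (algebraMap R A)) = (d : ℕ) := by
    rw [← hd', ← hd]
    rfl
  refine ⟨d, fun N _ _ _ _ _ _ => ?_⟩
  have h1 := Groth.Agent.Lib.T2H7.LocFibAbs.hasPDLT_of_fibre R (B := A) (S := A)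
    (I := IsLocalRing.maximalIdeal R) hI
    (fun Z _ _ _ _ _ _ => exists_syzygy R A Z) (d + 1) N
    (Groth.Agent.S0563.result _ d hdim _)
  exact hasProjectiveDimensionLT_of_iso (LinearEquiv.toModuleIso (TensorProduct.lid A N)) (d + 1)

end FinPd

section Main

variable (R : Type u) [CommRing R] [IsDomain R] [ValuationRing R]
  (A : Type u) [CommRing A] [IsLocalRing A] [Algebra R A] [Module.Flat R A]
  [Algebra.EssFiniteType R A]

/-- Invertible modules over a localization `Q` of `A` are free. -/
theorem free_of_invertible_localization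
    (hI : (IsLocalRing.maximalIdeal R).map (algebraMap R A) ≤ IsLocalRing.maximalIdeal A)
    (hreg : IsRegularLocalRing (A ⧸ (IsLocalRing.maximalIdeal R).map (algebraMap R A)))
    (Q : Type u) [CommRing Q] [Algebra A Q] (T : Submonoid A) [IsLocalization T Q]
    (L : Type u) [AddCommGroup L] [Module Q L] [Module.Invertible Q L] : Module.Free Q L := by
  classical
  let _ : Module A L := Module.compHom L (algebraMap A Q)
  have tAQ : IsScalarTower A Q L := ⟨fun a q l => by
    show (a • q) • l = (algebraMap A Q a) • (q • l)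
    rw [Algebra.smul_def, mul_smul]⟩
  let _ : Module R L := Module.compHom L (algebraMap R A)
  have tRA : IsScalarTower R A L := ⟨fun r a l => by
    show (r • a) • l = (algebraMap R A r) • (a • l)
    rw [Algebra.smul_def, mul_smul]⟩
  have hflQ : Module.Flat A Q := IsLocalization.flat Q T
  have hflAL : Module.Flat A L := Module.Flat.trans A Q L
  have hflRL : Module.Flat R L := Module.Flat.trans R A L
  obtain ⟨r, ℓ, hℓ⟩ := Module.Finite.exists_fin (R := Q) (M := L)
  let N : Submodule A L := Submodule.span A (Set.range ℓ)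
  have hNfin : Module.Finite A N := Module.Finite.span_of_finite A (Set.finite_range ℓ)
  have hNfl : Module.Flat R N := flat_submodule R A N
  have hNfp : Module.FinitePresentation A N :=
    finitePresentation_of_essFiniteType (A := R) (B := A)
  have hid : IsLocalizedModule T (LinearMap.id : L →ₗ[A] L) := isLocalizedModule_id T L Q
  have hloc : IsLocalizedModule T N.subtype := by
    refine ⟨hid.map_units, fun y => ?_, fun h => ⟨1, by rw [Subtype.val_injective h]⟩⟩
    have hy : y ∈ Submodule.span Q (Set.range ℓ) := by rw [hℓ]; exact Submodule.mem_top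
    obtain ⟨c, rfl⟩ := (Submodule.mem_span_range_iff_exists_fun Q).mp hy
    obtain ⟨t, ht⟩ := IsLocalization.exist_integer_multiples T Finset.univ c
    choose a ha using fun i => ht i (Finset.mem_univ i)
    refine ⟨(⟨∑ i, a i • ℓ i, ?_⟩, t), ?_⟩
    · exact Submodule.sum_mem _ fun i _ =>
        Submodule.smul_mem _ _ (Submodule.subset_span (Set.mem_range_self i))
    · show (t : A) • ∑ i, c i • ℓ i = ∑ i, a i • ℓ i
      rw [Finset.smul_sum]
      refine Finset.sum_congr rfl fun i _ => ?_
      rw [← smul_assoc, ← ha i, algebraMap_smul]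
  have hbc : IsBaseChange Q N.subtype := IsLocalizedModule.isBaseChange T Q N.subtype
  let e : (Q ⊗[A] N) ≃ₗ[Q] L := hbc.equiv
  obtain ⟨d, hd⟩ := exists_hasPDLT R A hI hreg
  have hproj : Module.Projective Q (Q ⊗[A] N) := Module.Projective.of_equiv e.symm
  have hsf : Module.IsStablyFree Q (Q ⊗[A] N) := isStablyFree_baseChange R A Q d N (hd N) hproj
  have : Module.IsStablyFree Q L := Module.IsStablyFree.equiv e
  exact Module.free_of_isStablyFree_of_invertible Q L

end Main

section Final

/-- **Triviality of the Picard group of the generic fibre.** -/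
theorem pic_genericFibre_subsingleton (R A : Type u) [CommRing R] [IsDomain R] [ValuationRing R]
    [CommRing A] [IsLocalRing A] [Algebra R A] [IsLocalHom (algebraMap R A)]
    [Module.Flat R A] [Algebra.EssFiniteType R A]
    (hreg : IsRegularRing (TensorProduct R (IsLocalRing.ResidueField R) A)) :
    Subsingleton (CommRing.Pic (TensorProduct R (FractionRing R) A)) := by
  rw [CommRing.Pic.subsingleton_iff]
  intro L _ _ _
  have hI : (IsLocalRing.maximalIdeal R).map (algebraMap R A) ≤ IsLocalRing.maximalIdeal A := by
    rw [Ideal.map_le_iff_le_comap]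
    intro x hx
    rw [Ideal.mem_comap, IsLocalRing.mem_maximalIdeal, mem_nonunits_iff]
    intro hu
    exact hx (isUnit_of_map_unit (algebraMap R A) x hu)
  have hne : (IsLocalRing.maximalIdeal R).map (algebraMap R A) ≠ ⊤ := fun h =>
    (IsLocalRing.maximalIdeal.isMaximal A).ne_top (top_le_iff.mp (h ▸ hI))
  have hnt : Nontrivial (A ⧸ (IsLocalRing.maximalIdeal R).map (algebraMap R A)) :=
    Ideal.Quotient.nontrivial_iff.mpr hne
  have hloc : IsLocalRing (A ⧸ (IsLocalRing.maximalIdeal R).map (algebraMap R A)) :=
    IsLocalRing.of_surjective' (Ideal.Quotient.mk _) Ideal.Quotient.mk_surjective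
  let e1 : (TensorProduct R (IsLocalRing.ResidueField R) A) ≃+*
      (TensorProduct R A (R ⧸ IsLocalRing.maximalIdeal R)) :=
    (Algebra.TensorProduct.comm R (IsLocalRing.ResidueField R) A).toRingEquiv
  let e2 : (TensorProduct R A (R ⧸ IsLocalRing.maximalIdeal R)) ≃+*
      (A ⧸ (IsLocalRing.maximalIdeal R).map (algebraMap R A)) :=
    (Algebra.TensorProduct.quotIdealMapEquivTensorQuot A
      (IsLocalRing.maximalIdeal R)).symm.toRingEquiv
  have hregC : IsRegularRing (A ⧸ (IsLocalRing.maximalIdeal R).map (algebraMap R A)) :=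
    IsRegularRing.of_ringEquiv (e1.trans e2)
  have hreg' : IsRegularLocalRing (A ⧸ (IsLocalRing.maximalIdeal R).map (algebraMap R A)) :=
    IsRegularLocalRing.of_isRegularRing_of_isLocalRing _
  let _ : Algebra A (TensorProduct R (FractionRing R) A) := Algebra.TensorProduct.rightAlgebra
  have hlocQ : IsLocalization (Algebra.algebraMapSubmonoid A (nonZeroDivisors R))
      (TensorProduct R (FractionRing R) A) :=
    IsLocalization.tensorRight (FractionRing R) (nonZeroDivisors R)
  exact free_of_invertible_localization R A hI hreg' (TensorProduct R (FractionRing R) A)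
    (Algebra.algebraMapSubmonoid A (nonZeroDivisors R)) L

end Final

end Groth.Agent.Lib.T2H7.ValPic
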