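import Mathlib
import Groth.Prelude.Def_AlgSpModX
import Groth.Agent.Lib.Helper13WeakAss

/-!
# Weakly associated points on the small etale site of an algebraic space: basic tools
-/

set_option autoImplicit false
set_option linter.unusedSectionVars false
set_option linter.unusedVariables false
set_option linter.style.haveILetI false

universe u
open CategoryTheory CategoryTheory.Limits AlgebraicGeometry Opposite

namespace Groth.Agent.Lib.T2H7.WeakAssEt


/-- on an affine scheme, `primeAtPt` is the prime ideal of the point -/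
theorem primeAtPt_eq (U : Scheme.{u}) [IsAffine U] (x : U) :
    AlgSp.primeAtPt U x = ((isAffineOpen_top U).primeIdealOf ⟨x, trivial⟩).asIdeal := by
  rw [IsAffineOpen.primeIdealOf_eq_map_closedPoint]
  rfl

/-- on an affine scheme every prime ideal of the ring of global functions is `primeAtPt` of a point -/
theorem exists_primeAtPt_eq (U : Scheme.{u}) [IsAffine U] (p : Ideal Γ(U, ⊤)) [hp : p.IsPrime] :
    ∃ x : U, AlgSp.primeAtPt U x = p := by
  let y : PrimeSpectrum Γ(U, ⊤) := ⟨p, hp⟩
  let x : ↥(⊤ : U.Opens) := (isAffineOpen_top U).isoSpec.inv y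
  refine ⟨x.1, ?_⟩
  rw [primeAtPt_eq]
  have : (isAffineOpen_top U).primeIdealOf ⟨x.1, trivial⟩ = y := by
    change (isAffineOpen_top U).isoSpec.hom ((isAffineOpen_top U).isoSpec.inv y) = y
    rw [← Scheme.Hom.comp_apply, Iso.inv_hom_id]
    rfl
  rw [this]



variable {S : Scheme.{u}} {X : AlgSp.Sp S}

/-- the open subscheme chart of an object of the small etale site -/
noncomputable def openChart (E : AlgSp.EtOver X) {W : Scheme.{u}} (f : W ⟶ E.obj.left.left)
    [IsOpenImmersion f] : AlgSp.EtOver X :=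
  AlgSp.EtOver.mk (U := Over.mk (f ≫ E.obj.left.hom))
    ((AlgSp.yon S).map (Over.homMk f rfl : Over.mk (f ≫ E.obj.left.hom) ⟶ E.obj.left) ≫ E.obj.hom)
    (MorphismProperty.comp_mem _ _ _
      ((AlgSp.repWith_yon_map_iff @Etale _).2 (by
        change Etale f
        infer_instance)) E.property)

/-- the inclusion of an open chart -/
noncomputable def openChartHom (E : AlgSp.EtOver X) {W : Scheme.{u}} (f : W ⟶ E.obj.left.left)
    [IsOpenImmersion f] : openChart E f ⟶ E :=
  AlgSp.EtOver.homMk (Over.homMk f rfl) rfl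

theorem openChartHom_left (E : AlgSp.EtOver X) {W : Scheme.{u}} (f : W ⟶ E.obj.left.left)
    [IsOpenImmersion f] : (openChartHom E f).hom.left.left = f := rfl

theorem openChart_left (E : AlgSp.EtOver X) {W : Scheme.{u}} (f : W ⟶ E.obj.left.left)
    [IsOpenImmersion f] : (openChart E f).obj.left.left = W := rfl

/-- a section of a module on the small etale site vanishing on all affine objects vanishes -/
theorem eq_zero_of_forall_affine (M : AlgSp.ModEt X)
    (h : ∀ (E : AlgSp.EtOver X) [IsAffine E.obj.left.left] (s : AlgSp.sectModEt M E), s = 0)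
    (E : AlgSp.EtOver X) (s : AlgSp.sectModEt M E) : s = 0 := by
  have hsep := Presheaf.IsSheaf.isSeparated M.isSheaf
  let 𝒰 := E.obj.left.left.affineCover
  have hcov : Sieve.ofArrows (fun i => openChart E (𝒰.f i)) (fun i => openChartHom E (𝒰.f i)) ∈
      AlgSp.etTop X E := by
    apply AlgSp.ofArrows_mem_etTop
    intro x
    obtain ⟨i, y, hy⟩ := 𝒰.exists_eq x
    exact ⟨i, y, hy⟩
  refine hsep E _ hcov s 0 ?_
  rintro Y f ⟨Z, g, _, ⟨i⟩, rfl⟩
  have : IsAffine (openChart E (𝒰.f i)).obj.left.left := by
    change IsAffine (𝒰.X i)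
    infer_instance
  have h1 : M.val.presheaf.map (openChartHom E (𝒰.f i)).op s = 0 :=
    h (openChart E (𝒰.f i)) _
  rw [op_comp, Functor.map_comp]
  change (M.val.presheaf.map g.op) ((M.val.presheaf.map (openChartHom E (𝒰.f i)).op) s) =
    (M.val.presheaf.map g.op) ((M.val.presheaf.map (openChartHom E (𝒰.f i)).op) 0)
  rw [h1]
  simp only [map_zero]



variable {S : Scheme.{u}} {X : AlgSp.Sp S}

theorem isZero_of_forall_section_eq_zero (M : AlgSp.ModEt X)
    (h : ∀ (E : AlgSp.EtOver X) (s : AlgSp.sectModEt M E), s = 0) : IsZero M := by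
  rw [IsZero.iff_id_eq_zero]
  apply SheafOfModules.hom_ext
  apply PresheafOfModules.hom_ext
  intro E
  ext s
  have h1 := h E.unop s
  have h2 := h E.unop (((𝟙 M : M ⟶ M).val.app E) s)
  exact h2.trans (h E.unop _).symm

theorem section_eq_zero_of_isZero (M : AlgSp.ModEt X) (hM : IsZero M)
    (E : AlgSp.EtOver X) (s : AlgSp.sectModEt M E) : s = 0 := by
  have h := (IsZero.iff_id_eq_zero M).1 hM
  have h0 : (0 : M ⟶ M).val = 0 := (SheafOfModules.forget _).map_zero M M
  have h1 : ((𝟙 M : M ⟶ M).val.app (op E)) s = ((0 : M ⟶ M).val.app (op E)) s := by rw [h]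
  rw [h0, PresheafOfModules.zero_app] at h1
  simpa using h1

end Groth.Agent.Lib.T2H7.WeakAssEt
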