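import Mathlib
import Groth.Prelude.Def_AlgSpModX
import Groth.Agent.Lib.Helper13WeakAss
import Groth.Agent.Lib.T2H7WeakAssEt

/-!
# Weakly associated points of the structure sheaf of a reduced algebraic space: tools
-/

set_option autoImplicit false
set_option linter.unusedSectionVars false
set_option linter.unusedVariables false
set_option linter.style.haveILetI false
set_option backward.isDefEq.respectTransparency false

universe u
open CategoryTheory CategoryTheory.Limits AlgebraicGeometry Opposite

namespace Groth.Agent.Lib.T2H7.WeakAssEtB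


/-- in a reduced ring, a prime minimal over the annihilator of an element is a minimal prime -/
theorem mem_minimalPrimes_of_isReduced {A : Type u} [CommRing A] [IsReduced A] (s : A) (I : Ideal A)
    (hI : ∀ a, a ∈ I ↔ a * s = 0) {p : Ideal A} (hp : p ∈ I.minimalPrimes) :
    p ∈ minimalPrimes A := by
  classical
  have hpp : p.IsPrime := hp.1.1
  have key : ∀ q : Ideal A, q.IsPrime → q ≤ p → s ∉ q → p ≤ q := by
    intro q hq hqp hsq a ha
    obtain ⟨t, ht, n, htn⟩ := Groth.Agent.Helper13WeakAss.exists_notMem_mul_pow_mem hp ha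
    have h0 : t * a ^ n * s = 0 := (hI _).1 htn
    have h1 : t * a ^ n * s ∈ q := by rw [h0]; exact q.zero_mem
    rcases hq.mem_or_mem h1 with h2 | h2
    · rcases hq.mem_or_mem h2 with h3 | h3
      · exact absurd (hqp h3) ht
      · exact hq.mem_of_pow_mem n h3
    · exact absurd h2 hsq
  have hsp : s ∉ p := by
    let T : Submonoid A := p.primeCompl ⊔ Submonoid.powers s
    have hdisj : Disjoint ((⊥ : Ideal A) : Set A) (T : Set A) := by
      rw [Set.disjoint_left]
      intro y hy hyT
      have hy0 : y = 0 := by simpa using hy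
      obtain ⟨t, ht, r, ⟨k, rfl⟩, hprod⟩ := Submonoid.mem_sup.mp hyT
      rw [hy0] at hprod
      have hts : t * s = 0 := by
        apply IsReduced.eq_zero
        refine ⟨k + 1, ?_⟩
        have : (t * s) ^ (k + 1) = t ^ k * s * (t * s ^ k) := by ring
        rw [this, hprod, mul_zero]
      exact ht (hp.1.2 ((hI t).2 hts))
    obtain ⟨q, hq, -, hqT⟩ := Ideal.exists_le_prime_disjoint ⊥ T hdisj
    have hqp : q ≤ p := by
      intro y hy
      by_contra hyp
      exact Set.disjoint_left.mp hqT hy ((le_sup_left : p.primeCompl ≤ T) hyp)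
    have hsq : s ∉ q := fun hs =>
      Set.disjoint_left.mp hqT hs ((le_sup_right : Submonoid.powers s ≤ T) (Submonoid.mem_powers s))
    have hpq : p ≤ q := key q hq hqp hsq
    exact fun hs => hsq (hpq hs)
  exact ⟨⟨hpp, bot_le⟩, fun q hq hqp => key q hq.1 hqp (fun hs => hsp (hqp hs))⟩

/-- on an affine scheme, the local ring at a point has dimension zero iff its prime is minimal -/
theorem ringKrullDim_stalk_eq_zero_iff (U : Scheme.{u}) [IsAffine U] (x : U) :
    ringKrullDim ↥(U.presheaf.stalk x) = 0 ↔ AlgSp.primeAtPt U x ∈ minimalPrimes Γ(U, ⊤) := by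
  rw [Groth.Agent.Lib.T2H7.WeakAssEt.primeAtPt_eq]
  have hloc := (isAffineOpen_top U).isLocalization_stalk ⟨x, trivial⟩
  have h := @IsLocalization.AtPrime.ringKrullDim_eq_height _ _
    ((isAffineOpen_top U).primeIdealOf ⟨x, trivial⟩).asIdeal _ (U.presheaf.stalk x) _
    (TopCat.Presheaf.algebra_section_stalk U.presheaf (U := (⊤ : U.Opens)) ⟨x, trivial⟩) hloc
  rw [h, ← Ideal.height_eq_zero_iff]
  norm_cast



variable {S : Scheme.{u}} {X : AlgSp.Sp S}

/-- a section of the unit module over an object of the small etale site, as a global function -/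
def downSect (E : AlgSp.EtOver X) (s : AlgSp.sectModEt (AlgSp.unitModEt X) E) :
    Γ(E.obj.left.left, ⊤) :=
  ULift.down (show ULift.{u + 1} Γ(E.obj.left.left, ⊤) from s)

/-- a global function as a section of the unit module -/
def upSect (E : AlgSp.EtOver X) (a : Γ(E.obj.left.left, ⊤)) :
    AlgSp.sectModEt (AlgSp.unitModEt X) E :=
  show ULift.{u + 1} Γ(E.obj.left.left, ⊤) from ULift.up a

theorem downSect_upSect (E : AlgSp.EtOver X) (a : Γ(E.obj.left.left, ⊤)) :
    downSect E (upSect E a) = a := rfl

theorem mem_annSect_unit_iff (E : AlgSp.EtOver X) (s : AlgSp.sectModEt (AlgSp.unitModEt X) E)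
    (a : Γ(E.obj.left.left, ⊤)) :
    a ∈ AlgSp.annSect s ↔ a * downSect E s = 0 := by
  rw [AlgSp.mem_annSect_iff]
  constructor
  · intro h
    have := congrArg (downSect E) h
    exact this
  · intro h
    have : downSect E ((AlgSp.upΓ E a) • s) = downSect E 0 := h
    exact ULift.down_injective this

end Groth.Agent.Lib.T2H7.WeakAssEtB
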