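import Mathlib
import Groth.Prelude.Def_AlgSpModX
import Groth.Agent.Lib.T2H7WeakAssEt
import Groth.Agent.Lib.T2H1StalkDim
import Groth.Agent.S10509

set_option autoImplicit false
set_option linter.unusedSectionVars false
set_option linter.unusedVariables false
set_option linter.style.haveILetI false
set_option backward.isDefEq.respectTransparency false

universe u
open CategoryTheory CategoryTheory.Limits AlgebraicGeometry Opposite

namespace Groth.Agent.Lib.T2H7.WeakAssEtC

variable {S : Scheme.{u}} {X : AlgSp.Sp S}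

theorem ofPt_openChart (E₀ : AlgSp.EtOver X) {W : Scheme.{u}} (f : W ⟶ E₀.obj.left.left)
    [IsOpenImmersion f] (w : W) :
    AlgSp.Points.ofPt (Groth.Agent.Lib.T2H7.WeakAssEt.openChart E₀ f).obj.hom w =
      AlgSp.Points.ofPt E₀.obj.hom (f w) :=
  Groth.Agent.S10509.ofPt_yon_map_comp
    (Over.homMk f rfl : Over.mk (f ≫ E₀.obj.left.hom) ⟶ E₀.obj.left) E₀.obj.hom w

/-- a point of codimension zero is seen on an affine object of the small etale site -/
theorem exists_affine_chart_of_hasAt (x : AlgSp.Points X)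
    (h : AlgSp.HasAt (fun U u => ringKrullDim ↥(U.presheaf.stalk u) = 0) X x) :
    ∃ (E : AlgSp.EtOver X) (_ : IsAffine E.obj.left.left) (u : E.obj.left.left),
      AlgSp.Points.ofPt E.obj.hom u = x ∧
        ringKrullDim ↥(E.obj.left.left.presheaf.stalk u) = 0 := by
  obtain ⟨U, a, u, ha, hu, hdim⟩ := h
  let 𝒰 := U.left.affineCover
  obtain ⟨u', hu'⟩ := 𝒰.covers u
  let E₀ : AlgSp.EtOver X := AlgSp.EtOver.mk a ha
  have hEaff : IsAffine (Groth.Agent.Lib.T2H7.WeakAssEt.openChart E₀ (𝒰.f (𝒰.idx u))).obj.left.left := by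
    change IsAffine (𝒰.X (𝒰.idx u))
    infer_instance
  refine ⟨Groth.Agent.Lib.T2H7.WeakAssEt.openChart E₀ (𝒰.f (𝒰.idx u)), hEaff, u', ?_, ?_⟩
  · rw [ofPt_openChart, ← hu]
    change AlgSp.Points.ofPt a ((𝒰.f (𝒰.idx u)) u') = _
    rw [hu']
  · have h1 := Groth.Agent.Lib.T2H1.HasAt.ringKrullDim_stalk_eq_of_etale (𝒰.f (𝒰.idx u)) u'
    rw [hu'] at h1
    exact h1.trans hdim

end Groth.Agent.Lib.T2H7.WeakAssEtC
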