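import Mathlib
import Groth.Prelude.Def_AlgSpModX
import Groth.Agent.Lib.Helper13WeakAss
import Groth.Agent.Lib.T2H7WeakAssEt

set_option autoImplicit false
set_option linter.unusedSectionVars false
set_option linter.unusedVariables false
set_option linter.style.haveILetI false
set_option backward.isDefEq.respectTransparency false

universe u
open CategoryTheory CategoryTheory.Limits AlgebraicGeometry Opposite

namespace Groth.Agent.Lib.T2H7.WeakAssEtD


variable {S : Scheme.{u}} {X : AlgSp.Sp S}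

/-- sections over an object of the small etale site are left exact -/
theorem sections_leftExact (C : ShortComplex (AlgSp.ModEt X)) (hC : C.ShortExact)
    (E : AlgSp.EtOver X) :
    Function.Injective (C.f.val.app (op E)) ∧
      ∀ y : AlgSp.sectModEt C.X₂ E, C.g.val.app (op E) y = 0 →
        ∃ x : AlgSp.sectModEt C.X₁ E, C.f.val.app (op E) x = y := by
  let F := SheafOfModules.evaluation (AlgSp.OEtRing X) (op E)
  have hmono : Mono C.f := hC.mono_f
  have hadd : F.Additive := by
    change (SheafOfModules.forget _ ⋙ PresheafOfModules.evaluation _ (op E)).Additive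
    infer_instance
  have hpz : F.PreservesZeroMorphisms := inferInstance
  have hex : (C.map F).Exact := hC.exact.map_of_mono_of_preservesKernel F hmono inferInstance
  constructor
  · have : Mono (F.map C.f) := inferInstance
    exact (ModuleCat.mono_iff_injective _).1 this
  · intro y hy
    exact (ShortComplex.moduleCat_exact_iff _).1 hex y hy



/-- the algebra behind `WeakAss(M₂) ⊆ WeakAss(M₁) ∪ WeakAss(M₃)` -/
theorem weakAss_shortExact_aux {A : Type*} [CommRing A] {R : Type*} [Ring R] (φ : A →+* R)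
    {M₁ M₂ M₃ : Type*} [AddCommGroup M₁] [Module R M₁] [AddCommGroup M₂] [Module R M₂]
    [AddCommGroup M₃] [Module R M₃] (f : M₁ →ₗ[R] M₂) (g : M₂ →ₗ[R] M₃)
    (hf : Function.Injective f) (hex : ∀ y, g y = 0 → ∃ x, f x = y)
    (I₁ : M₁ → Ideal A) (I₂ : M₂ → Ideal A) (I₃ : M₃ → Ideal A)
    (h₁ : ∀ m a, a ∈ I₁ m ↔ φ a • m = 0) (h₂ : ∀ m a, a ∈ I₂ m ↔ φ a • m = 0)
    (h₃ : ∀ m a, a ∈ I₃ m ↔ φ a • m = 0)
    (m : M₂) (p : Ideal A) (hp : p ∈ (I₂ m).minimalPrimes) :
    (∃ m₁ : M₁, p ∈ (I₁ m₁).minimalPrimes) ∨ p ∈ (I₃ (g m)).minimalPrimes := by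
  classical
  have hpp : p.IsPrime := hp.1.1
  by_cases h : ∃ a : A, g (φ a • m) = 0 ∧ I₂ (φ a • m) ≤ p
  · left
    obtain ⟨a, ha0, hap⟩ := h
    obtain ⟨x, hx⟩ := hex _ ha0
    refine ⟨x, ?_⟩
    have e1 : I₁ x = I₂ (φ a • m) := by
      ext b
      rw [h₁, h₂, ← hx, ← map_smul]
      constructor
      · intro hb; rw [hb, map_zero]
      · intro hb; exact hf (by rw [hb, map_zero])
    have e2 : I₂ m ≤ I₂ (φ a • m) := by
      intro b hb
      rw [h₂] at hb ⊢
      rw [smul_smul, ← map_mul, mul_comm, map_mul, ← smul_smul, hb, smul_zero]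
    rw [e1]
    exact Groth.Agent.Helper13WeakAss.minimalPrimes_of_le_of_le hp e2 hap
  · right
    have e2 : I₂ m ≤ I₃ (g m) := by
      intro b hb
      rw [h₂] at hb
      rw [h₃, ← map_smul, hb, map_zero]
    have e3 : I₃ (g m) ≤ p := by
      intro a ha
      rw [h₃, ← map_smul] at ha
      have h' : ¬ I₂ (φ a • m) ≤ p := fun hle => h ⟨a, ha, hle⟩
      obtain ⟨t, ht, htp⟩ := SetLike.not_le_iff_exists.mp h'
      rw [h₂, smul_smul, ← map_mul] at ht
      have hta : t * a ∈ p := hp.1.2 ((h₂ m (t * a)).2 ht)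
      rcases hpp.mem_or_mem hta with h1 | h1
      · exact absurd h1 htp
      · exact h1
    exact Groth.Agent.Helper13WeakAss.minimalPrimes_of_le_of_le hp e2 e3

end Groth.Agent.Lib.T2H7.WeakAssEtD
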