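import Mathlib
import Groth.Agent.Lib.T2H7QuotFin
import Groth.Agent.Lib.Helper12Act
import Groth.Agent.Lib.Helper12GeomConn
import Groth.Agent.Lib.Helper12Reduced
import Groth.Agent.Lib.Helper7TopDim
import Groth.Agent.Lib.Helper8Grp

/-!
Helper library (helper7): a smooth connected group scheme over a field acts trivially on a reduced scheme
finite over the field (in particular on a reduced scheme of finite type of dimension `≤ 0`).
-/

set_option autoImplicit false
set_option linter.unusedSectionVars false
set_option linter.unusedVariables false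
set_option linter.style.haveILetI false
universe u
open CategoryTheory CategoryTheory.Limits MonoidalCategory CartesianMonoidalCategory MonObj GrpObj
  AlgebraicGeometry

namespace Groth.Agent.Lib.T2H7.ZeroDimAct

theorem finite_of_dim_le_zero {X : Type*} [TopologicalSpace X] [TopologicalSpace.NoetherianSpace X]
    [T0Space X] (h : topologicalKrullDim X ≤ 0) : Finite X := by
  rcases isEmpty_or_nonempty X with h0 | h0
  · infer_instance
  · exact ((Groth.Agent.Lib.Helper7.TopDim.dim_eq_zero_iff_finite_discrete).mp
      (le_antisymm h Groth.Agent.Lib.Helper7.TopDim.topologicalKrullDim_nonneg)).1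

variable {k : Type u} [Field k]

theorem act_eq_snd_of_isFinite (G Z : Over (Spec (CommRingCat.of k))) [GrpObj G] [Smooth G.hom]
    [ConnectedSpace G.left] [IsFinite Z.hom] [IsReduced Z.left] (a : AlgGrp.Action G Z) :
    a.act = snd G Z := by
  have hGC : GeometricallyConnected G.hom :=
    Groth.Agent.Lib.Helper12.GeomConn.geometricallyConnected_of_section G.hom η[G].left
      (Over.w η[G])
  have hsm : Smooth (snd G Z).left := by
    rw [Over.snd_left]; infer_instance
  have hgc : GeometricallyConnected (snd G Z).left := by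
    rw [Over.snd_left]; infer_instance
  have hred : IsReduced (G ⊗ Z).left :=
    Groth.Agent.Lib.Helper12.Reduced.isReduced_of_smooth (snd G Z).left
  let f : G ⊗ Z ⟶ Z ⊗ Z := lift a.act (snd G Z)
  let Δ : Z ⟶ Z ⊗ Z := lift (𝟙 Z) (𝟙 Z)
  have hΔ : IsClosedImmersion Δ.left := by
    have : Δ.left = pullback.diagonal Z.hom := rfl
    rw [this]; infer_instance
  have hfinZZ : IsFinite (Z ⊗ Z).hom := by
    have : (Z ⊗ Z).hom = pullback.fst Z.hom Z.hom ≫ Z.hom := rfl
    rw [this]; infer_instance
  have hdisc : DiscreteTopology (Z ⊗ Z).left :=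
    Groth.Agent.Lib.T2H7.QuotFin.discreteTopology_of_isFinite (Z ⊗ Z).hom
  have hrange : Set.range f.left ⊆ Set.range Δ.left := by
    rintro _ ⟨w, rfl⟩
    let z := (snd G Z).left w
    have hC : _root_.IsConnected ((snd G Z).left ⁻¹' {z}) :=
      (snd G Z).left.isConnected_preimage_singleton z
    have hsub : (f.left '' ((snd G Z).left ⁻¹' {z})).Subsingleton :=
      (hC.isPreconnected.image _ f.left.continuous.continuousOn).subsingleton
    let s : Z ⟶ G ⊗ Z := lift (1 : Z ⟶ G) (𝟙 Z)
    have hs1 : s ≫ snd G Z = 𝟙 Z := lift_snd _ _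
    have hs2 : s ≫ f = Δ := by
      apply CartesianMonoidalCategory.hom_ext
      · simp only [s, f, Δ, Category.assoc, lift_fst]
        exact Groth.Agent.Lib.Helper12.act_one a (𝟙 Z)
      · simp only [s, f, Δ, Category.assoc, lift_snd]
    have hw0 : s.left z ∈ (snd G Z).left ⁻¹' {z} := by
      change (s.left ≫ (snd G Z).left) z = z
      rw [← Over.comp_left, hs1]; rfl
    have hw : w ∈ (snd G Z).left ⁻¹' {z} := rfl
    have heq : f.left w = f.left (s.left z) := hsub ⟨w, hw, rfl⟩ ⟨_, hw0, rfl⟩
    refine ⟨z, ?_⟩
    rw [heq]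
    change Δ.left z = (s.left ≫ f.left) z
    rw [← Over.comp_left, hs2]
  obtain ⟨l, hl⟩ :=
    Groth.Agent.Lib.T2H7.QuotFin.exists_lift_of_range_subset_range f.left Δ.left hrange
  have h1 : a.act.left = l := by
    have : a.act.left = f.left ≫ (fst Z Z).left := by
      rw [← Over.comp_left, lift_fst]
    rw [this, ← hl, Category.assoc, ← Over.comp_left, lift_fst]
    simp
  have h2 : (snd G Z).left = l := by
    have : (snd G Z).left = f.left ≫ (snd Z Z).left := by
      rw [← Over.comp_left, lift_snd]
    rw [this, ← hl, Category.assoc, ← Over.comp_left, lift_snd]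
    simp
  apply Over.OverMorphism.ext
  rw [h1, h2]

theorem act_eq_snd_of_dim_le_zero (G Z : Over (Spec (CommRingCat.of k))) [GrpObj G] [Smooth G.hom]
    [ConnectedSpace G.left] [LocallyOfFiniteType Z.hom] [QuasiCompact Z.hom] [IsReduced Z.left]
    (hdim : topologicalKrullDim Z.left ≤ 0) (a : AlgGrp.Action G Z) : a.act = snd G Z := by
  have hcomp : CompactSpace Z.left := QuasiCompact.compactSpace_of_compactSpace Z.hom
  have hlnoeth : IsLocallyNoetherian Z.left := LocallyOfFiniteType.isLocallyNoetherian Z.hom
  have hnoeth : IsNoetherian Z.left := { }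
  have hnsp : TopologicalSpace.NoetherianSpace Z.left := inferInstance
  have hfin : Finite Z.left := finite_of_dim_le_zero hdim
  have : IsFinite Z.hom := Groth.Agent.Lib.T2H7.QuotFin.isFinite_of_finite Z.hom
  exact act_eq_snd_of_isFinite G Z a

end Groth.Agent.Lib.T2H7.ZeroDimAct
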