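import Mathlib

/-!
# helper7: quasi-separated schemes without nontrivial specializations

A quasi-separated scheme in which no point has a nontrivial specialization (e.g. a scheme of
dimension `0`) is separated and all its quasi-compact opens are affine.
-/

set_option autoImplicit false
set_option linter.unusedSectionVars false
set_option linter.unusedVariables false
set_option linter.style.haveILetI false
universe u
open CategoryTheory CategoryTheory.Limits AlgebraicGeometry Opposite

namespace Groth.Agent.Lib.T2H7.ZeroDimSch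

/-- in the spectrum of a ring without nontrivial specializations, compact opens are closed. -/
theorem isClosed_of_isCompact_isOpen_spec {R : Type u} [CommRing R]
    (hsp : ∀ p q : PrimeSpectrum R, p ⤳ q → p = q) (K : Set (PrimeSpectrum R))
    (hKc : IsCompact K) (hKo : IsOpen K) : IsClosed K := by
  apply PrimeSpectrum.isClosed_of_stableUnderSpecialization_of_isConstructible
  · intro p q hpq hp
    rw [← hsp p q hpq]
    exact hp
  · exact hKc.isConstructible hKo

/-- in an affine scheme without nontrivial specializations, compact opens are closed. -/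
theorem isClosed_of_isCompact_isOpen {Y : Scheme.{u}} [IsAffine Y]
    (hsp : ∀ p q : Y, p ⤳ q → p = q) (K : Set Y) (hKc : IsCompact K) (hKo : IsOpen K) :
    IsClosed K := by
  let φ : Y ≃ₜ Spec Γ(Y, ⊤) := Scheme.homeoOfIso Y.isoSpec
  have hsp' : ∀ p q : PrimeSpectrum Γ(Y, ⊤), p ⤳ q → p = q := by
    intro p q hpq
    have h1 : φ.symm p ⤳ φ.symm q := hpq.map φ.symm.continuous
    have h2 := hsp _ _ h1
    exact φ.symm.injective h2
  have h3 : IsClosed (φ '' K) :=
    isClosed_of_isCompact_isOpen_spec hsp' (φ '' K) (hKc.image φ.continuous)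
      (φ.isOpenMap K hKo)
  have h4 : K = φ ⁻¹' (φ '' K) := (Set.preimage_image_eq K φ.injective).symm
  rw [h4]
  exact h3.preimage φ.continuous

/-- uniqueness of maps from the spectrum of a local domain to a scheme without nontrivial
specializations. -/
theorem eq_of_comp_eq {Z : Scheme.{u}} (hsp : ∀ z z' : Z, z ⤳ z' → z = z') {R K : Type u}
    [CommRing R] [IsDomain R] [IsLocalRing R] [Field K] [Algebra R K] [IsFractionRing R K]
    (l₁ l₂ : Spec (CommRingCat.of R) ⟶ Z)
    (h : Spec.map (CommRingCat.ofHom (algebraMap R K)) ≫ l₁ =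
      Spec.map (CommRingCat.ofHom (algebraMap R K)) ≫ l₂) : l₁ = l₂ := by
  let g : Spec (CommRingCat.of K) ⟶ Spec (CommRingCat.of R) :=
    Spec.map (CommRingCat.ofHom (algebraMap R K))
  let η : Spec (CommRingCat.of K) := IsLocalRing.closedPoint K
  let c : Spec (CommRingCat.of R) := IsLocalRing.closedPoint R
  have hη : l₁ (g η) = l₂ (g η) := by
    rw [← Scheme.Hom.comp_apply, ← Scheme.Hom.comp_apply]
    exact congrArg (fun m : Spec (CommRingCat.of K) ⟶ Z => m η) h
  have hc : g η ⤳ c := IsLocalRing.specializes_closedPoint (R := R) (g η)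
  have h1 : l₁ (g η) = l₁ c := hsp _ _ (hc.map l₁.continuous)
  have h2 : l₂ (g η) = l₂ c := hsp _ _ (hc.map l₂.continuous)
  obtain ⟨A, hA, hzA, -⟩ :=
    exists_isAffineOpen_mem_and_subset (x := l₁ c) (U := (⊤ : Z.Opens)) trivial
  have hr : ∀ l : Spec (CommRingCat.of R) ⟶ Z, l c ∈ A → Set.range l ⊆ Set.range A.ι := by
    intro l hl
    have h3 : (l ⁻¹ᵁ A) = ⊤ := (IsLocalRing.closedPoint_mem_iff (R := R) (l ⁻¹ᵁ A)).1 hl
    rw [A.range_ι]
    rintro _ ⟨x, rfl⟩
    have : x ∈ l ⁻¹ᵁ A := by rw [h3]; trivial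
    exact this
  have hzA₂ : l₂ c ∈ A := by rw [← h2, ← hη, h1]; exact hzA
  let l₁' := IsOpenImmersion.lift A.ι l₁ (hr l₁ hzA)
  let l₂' := IsOpenImmersion.lift A.ι l₂ (hr l₂ hzA₂)
  have hl₁ : l₁' ≫ A.ι = l₁ := IsOpenImmersion.lift_fac _ _ _
  have hl₂ : l₂' ≫ A.ι = l₂ := IsOpenImmersion.lift_fac _ _ _
  have h' : g ≫ l₁' = g ≫ l₂' := by
    rw [← cancel_mono A.ι, Category.assoc, Category.assoc, hl₁, hl₂]
    exact h
  haveI : IsAffine A.toScheme := hA
  haveI hmono : Mono g.appTop := by
    have hnat := Scheme.ΓSpecIso_naturality (CommRingCat.ofHom (algebraMap R K))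
    haveI : Mono (CommRingCat.ofHom (algebraMap R K)) :=
      ConcreteCategory.mono_of_injective _ (IsFractionRing.injective R K)
    have h5 : g.appTop = (Scheme.ΓSpecIso (CommRingCat.of R)).hom ≫
        CommRingCat.ofHom (algebraMap R K) ≫ (Scheme.ΓSpecIso (CommRingCat.of K)).inv := by
      rw [← Category.assoc, ← hnat, Category.assoc, Iso.hom_inv_id, Category.comp_id]
    rw [h5]
    infer_instance
  have happ : l₁'.appTop = l₂'.appTop := by
    have h7 : l₁'.appTop ≫ g.appTop = l₂'.appTop ≫ g.appTop := by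
      rw [← Scheme.Hom.comp_appTop, ← Scheme.Hom.comp_appTop, h']
    exact (cancel_mono g.appTop).1 h7
  have : l₁' = l₂' := ext_of_isAffine happ
  rw [← hl₁, ← hl₂, this]

/-- a quasi-separated scheme without nontrivial specializations is separated. -/
theorem isSeparated {Z : Scheme.{u}} [QuasiSeparatedSpace Z]
    (hsp : ∀ z z' : Z, z ⤳ z' → z = z') : Z.IsSeparated := by
  refine ⟨?_⟩
  haveI : QuasiSeparated (terminal.from Z) :=
    (quasiSeparatedSpace_iff_quasiSeparated Z).1 inferInstance
  apply IsSeparated.of_valuativeCriterion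
  intro Sq
  constructor
  rintro ⟨l₁, hl₁, hl₁'⟩ ⟨l₂, hl₂, hl₂'⟩
  ext : 1
  exact eq_of_comp_eq hsp l₁ l₂ (hl₁.trans hl₂.symm)

/-- in a quasi-separated scheme without nontrivial specializations, quasi-compact opens are
affine. -/
theorem isAffineOpen_of_isCompact {Z : Scheme.{u}} [QuasiSeparatedSpace Z]
    (hsp : ∀ z z' : Z, z ⤳ z' → z = z') (V : Z.Opens) (hV : IsCompact (V : Set Z)) :
    IsAffineOpen V := by
  refine compact_open_induction_on (P := fun V : Z.Opens => IsAffineOpen V) V hV
    (isAffineOpen_bot Z) ?_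
  intro W hW A hWaff
  -- `A \ W` is an affine open
  have hAW : IsCompact ((A.1 ⊓ W : Z.Opens) : Set Z) := by
    show IsCompact ((A.1 : Set Z) ∩ (W : Set Z))
    exact QuasiSeparatedSpace.inter_isCompact (A.1 : Set Z) (W : Set Z) A.1.2 A.2.isCompact W.2 hW
  haveI : IsAffine A.1.toScheme := A.2
  have hspA : ∀ p q : A.1.toScheme, p ⤳ q → p = q := by
    intro p q hpq
    have h1 : A.1.ι p ⤳ A.1.ι q := hpq.map A.1.ι.continuous
    exact A.1.ι.isOpenEmbedding.injective (hsp _ _ h1)
  let K : Set A.1.toScheme := A.1.ι ⁻¹' ((A.1 ⊓ W : Z.Opens) : Set Z)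
  have hKo : IsOpen K := (A.1 ⊓ W).2.preimage A.1.ι.continuous
  have hKc : IsCompact K := by
    refine A.1.ι.isOpenEmbedding.isInducing.isCompact_preimage' hAW ?_
    rw [A.1.range_ι]
    exact fun x hx => hx.1
  have hKcl : IsClosed K := isClosed_of_isCompact_isOpen hspA K hKc hKo
  -- the complement, an open of `Z`
  let D : Z.Opens := A.1.ι ''ᵁ ⟨Kᶜ, hKcl.isOpen_compl⟩
  have hDmem : ∀ z : Z, z ∈ D ↔ z ∈ A.1 ∧ z ∉ W := by
    intro z
    constructor
    · rintro ⟨a, ha, rfl⟩
      have haA : A.1.ι a ∈ A.1 := by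
        have h1 := A.1.range_ι
        have h2 : A.1.ι a ∈ Set.range A.1.ι := ⟨a, rfl⟩
        rw [h1] at h2
        exact h2
      refine ⟨haA, fun hw => ha ?_⟩
      exact ⟨haA, hw⟩
    · rintro ⟨hzA, hzW⟩
      refine ⟨⟨z, hzA⟩, ?_, rfl⟩
      intro hk
      exact hzW hk.2
  have hDaff : IsAffineOpen D := by
    -- `D → A` is a closed immersion into an affine scheme
    let U' : A.1.toScheme.Opens := ⟨Kᶜ, hKcl.isOpen_compl⟩
    have hcl : IsClosedImmersion U'.ι := by
      refine IsClosedImmersion.of_isPreimmersion _ ?_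
      rw [U'.range_ι]
      show IsClosed (Kᶜ : Set A.1.toScheme)
      -- `K` is open so its complement is closed
      exact hKo.isClosed_compl
    haveI : IsAffine U'.toScheme := isAffine_of_isAffineHom U'.ι
    have hU'aff : IsAffineOpen U' := this
    exact hU'aff.image_of_isOpenImmersion A.1.ι
  have hsup : W ⊔ A.1 = W ⊔ D := by
    ext z
    simp only [TopologicalSpace.Opens.coe_sup, Set.mem_union, SetLike.mem_coe]
    constructor
    · rintro (h | h)
      · exact Or.inl h
      · by_cases hw : z ∈ W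
        · exact Or.inl hw
        · exact Or.inr ((hDmem z).2 ⟨h, hw⟩)
    · rintro (h | h)
      · exact Or.inl h
      · exact Or.inr ((hDmem z).1 h).1
  rw [hsup]
  refine IsAffineOpen.sup_of_disjoint hWaff hDaff ?_
  rw [disjoint_iff, eq_bot_iff]
  intro z hz
  exact (((hDmem z).1 hz.2).2 hz.1).elim

end Groth.Agent.Lib.T2H7.ZeroDimSch
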