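import Mathlib

/-!
# Artin–Rees and approximation of complexes: initial forms are stable (helper8)
-/

set_option autoImplicit false

namespace Groth.Agent.Lib.T2H8.ARApprox

variable {T : Type*} [CommRing T] (I : Ideal T)
  {K L M : Type*} [AddCommGroup K] [Module T K] [AddCommGroup L] [Module T L]
  [AddCommGroup M] [Module T M]

/-- `ARc β c`: elements of `range β ∩ I^j M` come from `I^(j-c) L`. -/
def ARc (β : L →ₗ[T] M) (c : ℕ) : Prop :=
  ∀ (j : ℕ) (ℓ : L), β ℓ ∈ I ^ j • (⊤ : Submodule T M) →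
    ∃ ℓ₁ ∈ I ^ (j - c) • (⊤ : Submodule T L), β ℓ₁ = β ℓ

variable {I}

theorem ARc.mono {β : L →ₗ[T] M} {c c' : ℕ} (h : ARc I β c) (hcc' : c ≤ c') : ARc I β c' := by
  intro j ℓ hℓ
  obtain ⟨ℓ₁, h1, h2⟩ := h j ℓ hℓ
  exact ⟨ℓ₁, Submodule.smul_mono_left (Ideal.pow_le_pow_right (by omega)) h1, h2⟩

variable (I)

theorem exists_ARc [IsNoetherianRing T] [Module.Finite T M] (β : L →ₗ[T] M) :
    ∃ c, ARc I β c := by
  obtain ⟨c, hc⟩ := Ideal.exists_pow_inf_eq_pow_smul I (LinearMap.range β)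
  refine ⟨c, fun j ℓ hℓ => ?_⟩
  by_cases hj : c ≤ j
  · have h1 : β ℓ ∈ I ^ j • (⊤ : Submodule T M) ⊓ LinearMap.range β := ⟨hℓ, ⟨ℓ, rfl⟩⟩
    rw [hc j hj] at h1
    have h2 : I ^ (j - c) • (I ^ c • (⊤ : Submodule T M) ⊓ LinearMap.range β) ≤
        Submodule.map β (I ^ (j - c) • (⊤ : Submodule T L)) := by
      rw [Submodule.map_smul'', Submodule.map_top]
      exact Submodule.smul_mono le_rfl inf_le_right
    obtain ⟨ℓ₁, h3, h4⟩ := h2 h1
    exact ⟨ℓ₁, h3, h4⟩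
  · have h0 : j - c = 0 := by omega
    rw [h0, pow_zero, Ideal.one_eq_top, Submodule.top_smul]
    exact ⟨ℓ, trivial, rfl⟩

variable {I}

theorem close_smul {β β' : L →ₗ[T] M} {e : ℕ}
    (h : ∀ ℓ, β' ℓ - β ℓ ∈ I ^ e • (⊤ : Submodule T M)) (n : ℕ) {ℓ : L}
    (hℓ : ℓ ∈ I ^ n • (⊤ : Submodule T L)) :
    β' ℓ - β ℓ ∈ I ^ (n + e) • (⊤ : Submodule T M) := by
  have h1 : Submodule.map (β' - β) (I ^ n • (⊤ : Submodule T L)) ≤
      I ^ (n + e) • (⊤ : Submodule T M) := by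
    rw [Submodule.map_smul'', pow_add, Submodule.mul_smul]
    refine Submodule.smul_mono le_rfl ?_
    rintro _ ⟨x, -, rfl⟩
    exact h x
  exact h1 ⟨ℓ, hℓ, rfl⟩

theorem ARc_of_close {α : K →ₗ[T] L} {β : L →ₗ[T] M}
    (hex : LinearMap.ker β = LinearMap.range α) {c : ℕ}
    (hα : ARc I α c) (hβ : ARc I β c) {α' : K →ₗ[T] L} {β' : L →ₗ[T] M}
    (hαα' : ∀ x, α' x - α x ∈ I ^ (c + 1) • (⊤ : Submodule T L))
    (hββ' : ∀ ℓ, β' ℓ - β ℓ ∈ I ^ (c + 1) • (⊤ : Submodule T M))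
    (hcomp : ∀ x, β' (α' x) = 0) : ARc I β' c := by
  intro n ℓ hℓ
  have key : ∀ j, j ≤ n - c → ∃ ℓj ∈ I ^ j • (⊤ : Submodule T L), β' ℓj = β' ℓ := by
    intro j
    induction j with
    | zero =>
      intro _
      refine ⟨ℓ, ?_, rfl⟩
      rw [pow_zero, Ideal.one_eq_top, Submodule.top_smul]
      trivial
    | succ j ih =>
      intro hj
      obtain ⟨ℓj, h1, h2⟩ := ih (by omega)
      have h3 : β ℓj ∈ I ^ (j + 1 + c) • (⊤ : Submodule T M) := by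
        have h4 : β ℓj = β' ℓj - (β' ℓj - β ℓj) := by abel
        rw [h4]
        refine Submodule.sub_mem _ ?_ ?_
        · rw [h2]
          exact Submodule.smul_mono_left (Ideal.pow_le_pow_right (by omega)) hℓ
        · exact Submodule.smul_mono_left (Ideal.pow_le_pow_right (by omega))
            (close_smul hββ' j h1)
      obtain ⟨ℓ₁, h5, h6⟩ := hβ (j + 1 + c) ℓj h3
      rw [show j + 1 + c - c = j + 1 by omega] at h5
      have h7 : ℓj - ℓ₁ ∈ LinearMap.range α := by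
        rw [← hex, LinearMap.mem_ker, map_sub, h6, sub_self]
      obtain ⟨κ, hκ⟩ := h7
      have h8 : α κ ∈ I ^ j • (⊤ : Submodule T L) := by
        rw [hκ]
        exact Submodule.sub_mem _ h1
          (Submodule.smul_mono_left (Ideal.pow_le_pow_right (Nat.le_succ j)) h5)
      obtain ⟨κ₁, h9, h10⟩ := hα j κ h8
      refine ⟨ℓj - α' κ₁, ?_, ?_⟩
      · have h11 : ℓj - α' κ₁ = ℓ₁ - (α' κ₁ - α κ₁) := by
          rw [h10, hκ]
          abel
        rw [h11]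
        refine Submodule.sub_mem _ h5 ?_
        exact Submodule.smul_mono_left (Ideal.pow_le_pow_right (by omega))
          (close_smul hαα' (j - c) h9)
      · rw [map_sub, hcomp, sub_zero, h2]
  exact key (n - c) le_rfl

theorem mem_range_sup_of {β β' : L →ₗ[T] M} {c : ℕ} (hβ : ARc I β c)
    (h : ∀ ℓ, β' ℓ - β ℓ ∈ I ^ (c + 1) • (⊤ : Submodule T M)) (n : ℕ) (x : M)
    (hx : x ∈ I ^ n • (⊤ : Submodule T M))
    (hx' : x ∈ LinearMap.range β ⊔ I ^ (n + 1) • (⊤ : Submodule T M)) :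
    x ∈ LinearMap.range β' ⊔ I ^ (n + 1) • (⊤ : Submodule T M) := by
  obtain ⟨y, ⟨ℓ, rfl⟩, w, hw, rfl⟩ := Submodule.mem_sup.mp hx'
  have h1 : β ℓ ∈ I ^ n • (⊤ : Submodule T M) := by
    have h2 : β ℓ = (β ℓ + w) - w := by abel
    rw [h2]
    exact Submodule.sub_mem _ hx
      (Submodule.smul_mono_left (Ideal.pow_le_pow_right (Nat.le_succ n)) hw)
  obtain ⟨ℓ₁, h3, h4⟩ := hβ n ℓ h1
  have h5 : β ℓ + w = β' ℓ₁ + (w - (β' ℓ₁ - β ℓ₁)) := by
    rw [h4]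
    abel
  rw [h5]
  refine Submodule.add_mem_sup ⟨ℓ₁, rfl⟩ (Submodule.sub_mem _ hw ?_)
  exact Submodule.smul_mono_left (Ideal.pow_le_pow_right (by omega)) (close_smul h (n - c) h3)

/-- **Stability of initial forms under approximation.** -/
theorem exists_stable [IsNoetherianRing T] [Module.Finite T L] [Module.Finite T M]
    (α : K →ₗ[T] L) (β : L →ₗ[T] M) (hex : LinearMap.ker β = LinearMap.range α) :
    ∃ c : ℕ, ∀ (α' : K →ₗ[T] L) (β' : L →ₗ[T] M),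
      (∀ x, α' x - α x ∈ I ^ (c + 1) • (⊤ : Submodule T L)) →
      (∀ ℓ, β' ℓ - β ℓ ∈ I ^ (c + 1) • (⊤ : Submodule T M)) →
      (∀ x, β' (α' x) = 0) →
      ∀ (n : ℕ) (x : M), x ∈ I ^ n • (⊤ : Submodule T M) →
        (x ∈ LinearMap.range β ⊔ I ^ (n + 1) • (⊤ : Submodule T M) ↔
          x ∈ LinearMap.range β' ⊔ I ^ (n + 1) • (⊤ : Submodule T M)) := by
  obtain ⟨c₁, hc₁⟩ := exists_ARc I α
  obtain ⟨c₂, hc₂⟩ := exists_ARc I β
  refine ⟨max c₁ c₂, fun α' β' hα' hβ' hcomp n x hx => ?_⟩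
  have hα := hc₁.mono (le_max_left c₁ c₂)
  have hβ := hc₂.mono (le_max_right c₁ c₂)
  have hβ'' := ARc_of_close hex hα hβ hα' hβ' hcomp
  constructor
  · exact mem_range_sup_of hβ hβ' n x hx
  · refine mem_range_sup_of hβ'' (fun ℓ => ?_) n x hx
    have h1 : β ℓ - β' ℓ = -(β' ℓ - β ℓ) := by abel
    rw [h1]
    exact Submodule.neg_mem _ (hβ' ℓ)

end Groth.Agent.Lib.T2H8.ARApprox
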