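import Mathlib
import Groth.Agent.Lib.T2H3ASAlg

/-!
# The Artin–Schreier covering algebra `A[X]/(X^p - X - a)` is etale and faithfully flat
-/

set_option autoImplicit false
set_option linter.unusedSectionVars false
set_option linter.style.haveILetI false
universe u
open Polynomial

namespace Groth.Agent.Lib.T2H8.ASCover

variable (p : ℕ) [hp : Fact p.Prime] {A : Type u} [CommRing A] (h0 : (p : A) = 0) (a : A)

/-- the Artin–Schreier polynomial -/
noncomputable def asf : A[X] := X ^ p - (X + C a)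

theorem asf_monic [Nontrivial A] : (asf p a).Monic := by
  unfold asf
  apply (monic_X_pow p).sub_of_left
  have h2 : 2 ≤ p := hp.out.two_le
  calc (X + C a : A[X]).degree ≤ 1 := by
        exact (degree_X_add_C a).le
    _ < (X ^ p : A[X]).degree := by
        rw [degree_X_pow]
        exact_mod_cast h2

include h0 in
theorem derivative_asf : derivative (asf p a) = -1 := by
  unfold asf
  rw [derivative_sub, derivative_X_pow, derivative_add, derivative_X, derivative_C, add_zero]
  have : (C (p : A) : A[X]) = 0 := by rw [h0, C_0]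
  rw [this, zero_mul, zero_sub]

/-- the standard etale pair -/
noncomputable def asPair [Nontrivial A] : StandardEtalePair A where
  f := asf p a
  monic_f := asf_monic p a
  g := 1
  cond := ⟨-1, 0, 0, by rw [derivative_asf p h0 a]; simp⟩

theorem root_pow [Nontrivial A] :
    (AdjoinRoot.root (asf p a)) ^ p - AdjoinRoot.root (asf p a) =
      algebraMap A (AdjoinRoot (asf p a)) a := by
  have h : eval₂ (AdjoinRoot.of (asf p a)) (AdjoinRoot.root (asf p a)) (X ^ p - (X + C a)) = 0 :=
    AdjoinRoot.eval₂_root (asf p a)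
  rw [eval₂_sub, eval₂_pow, eval₂_X, eval₂_add, eval₂_X, eval₂_C] at h
  have h2 : (AdjoinRoot.of (asf p a)) a = algebraMap A (AdjoinRoot (asf p a)) a := rfl
  rw [← h2]
  linear_combination h

include h0 in
theorem etale_adjoinRoot [Nontrivial A] :
    Algebra.Etale A (AdjoinRoot (asf p a)) := by
  let P := asPair p h0 a
  have hu : Submonoid.powers (AdjoinRoot.mk P.f P.g) ≤ IsUnit.submonoid (AdjoinRoot P.f) := by
    rintro _ ⟨n, rfl⟩
    change IsUnit ((AdjoinRoot.mk P.f P.g) ^ n)
    have : AdjoinRoot.mk P.f P.g = 1 := map_one _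
    rw [this, one_pow]
    exact isUnit_one
  let e1 : AdjoinRoot P.f ≃ₐ[AdjoinRoot P.f] Localization.Away (AdjoinRoot.mk P.f P.g) :=
    IsLocalization.atUnits _ (Submonoid.powers (AdjoinRoot.mk P.f P.g)) hu
  let e2 : AdjoinRoot P.f ≃ₐ[A] Localization.Away (AdjoinRoot.mk P.f P.g) :=
    e1.restrictScalars A
  exact Algebra.Etale.of_equiv (P.equivAwayAdjoinRoot.trans e2.symm)

theorem faithfullyFlat_adjoinRoot [Nontrivial A] :
    Module.FaithfullyFlat A (AdjoinRoot (asf p a)) := by
  have hm := asf_monic p a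
  haveI := hm.free_adjoinRoot
  haveI : Nontrivial (AdjoinRoot (asf p a)) := by
    let b := (AdjoinRoot.powerBasis' hm).basis
    have hdim : 0 < (AdjoinRoot.powerBasis' hm).dim := by
      rw [AdjoinRoot.powerBasis'_dim]
      have : (asf p a).natDegree = p := by
        unfold asf
        rw [natDegree_sub_eq_left_of_natDegree_lt, natDegree_X_pow]
        rw [natDegree_X_pow]
        have h2 : 2 ≤ p := hp.out.two_le
        exact lt_of_le_of_lt (natDegree_X_add_C a).le (by omega)
      rw [this]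
      exact hp.out.pos
    exact ⟨⟨b ⟨0, hdim⟩, 0, b.ne_zero _⟩⟩
  infer_instance


section scheme
open AlgebraicGeometry CategoryTheory Limits

theorem ΓSpec_inv_hom {B : CommRingCat.{u}} (b : B) :
    (Scheme.ΓSpecIso B).hom ((Scheme.ΓSpecIso B).inv b) = b := by
  change ((Scheme.ΓSpecIso B).inv ≫ (Scheme.ΓSpecIso B).hom) b = b
  rw [Iso.inv_hom_id]
  rfl

/-- the Artin–Schreier covering of a scheme of characteristic `p` attached to a function -/
theorem exists_cover {U : Scheme.{u}} (h0 : (p : Γ(U, ⊤)) = 0) (a : Γ(U, ⊤)) :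
    ∃ (V : Scheme.{u}) (g : V ⟶ U) (_ : Etale g) (_ : Surjective g) (t : Γ(V, ⊤)),
      t ^ p - t = g.appTop a := by
  rcases subsingleton_or_nontrivial Γ(U, ⊤) with hs | hn
  · exact ⟨U, 𝟙 U, inferInstance, inferInstance, 0, Subsingleton.elim _ _⟩
  · let B : CommRingCat.{u} := CommRingCat.of (AdjoinRoot (asf p a))
    let φ : Γ(U, ⊤) ⟶ B := CommRingCat.ofHom (algebraMap Γ(U, ⊤) (AdjoinRoot (asf p a)))
    haveI : Algebra.Etale Γ(U, ⊤) (AdjoinRoot (asf p a)) := etale_adjoinRoot p h0 a
    haveI : Module.FaithfullyFlat Γ(U, ⊤) (AdjoinRoot (asf p a)) := faithfullyFlat_adjoinRoot p a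
    have hff : φ.hom.FaithfullyFlat := RingHom.faithfullyFlat_algebraMap_iff.2 inferInstance
    obtain ⟨_, h2⟩ := (flat_and_surjective_SpecMap_iff φ).2 hff
    haveI : Surjective (Spec.map φ) := h2
    haveI : Etale (Spec.map φ) := by
      rw [HasRingHomProperty.Spec_iff (P := @Etale)]
      exact RingHom.etale_algebraMap.2 inferInstance
    let V := pullback U.toSpecΓ (Spec.map φ)
    let g : V ⟶ U := pullback.fst _ _
    let s : V ⟶ Spec B := pullback.snd _ _
    let r : B := AdjoinRoot.root (asf p a)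
    refine ⟨V, g, inferInstance, inferInstance, s.appTop ((Scheme.ΓSpecIso B).inv r), ?_⟩
    have hcomm : g ≫ U.toSpecΓ = s ≫ Spec.map φ := pullback.condition
    have h1 : s.appTop ((Scheme.ΓSpecIso B).inv r) ^ p - s.appTop ((Scheme.ΓSpecIso B).inv r) =
        s.appTop ((Scheme.ΓSpecIso B).inv (r ^ p - r)) := by
      rw [map_sub, map_pow, map_sub, map_pow]
    rw [h1]
    have h3 : r ^ p - r = φ a := root_pow p a
    rw [h3]
    have h4 : (Scheme.ΓSpecIso B).inv (φ a) =
        (Spec.map φ).appTop ((Scheme.ΓSpecIso Γ(U, ⊤)).inv a) :=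
      (ConcreteCategory.congr_hom (Scheme.ΓSpecIso_inv_naturality φ) a)
    rw [h4]
    have h5 : s.appTop ((Spec.map φ).appTop ((Scheme.ΓSpecIso Γ(U, ⊤)).inv a)) =
        (s ≫ Spec.map φ).appTop ((Scheme.ΓSpecIso Γ(U, ⊤)).inv a) := by
      rw [Scheme.Hom.comp_appTop]
      rfl
    rw [h5, ← hcomm, Scheme.Hom.comp_appTop]
    change g.appTop (U.toSpecΓ.appTop ((Scheme.ΓSpecIso Γ(U, ⊤)).inv a)) = g.appTop a
    rw [Scheme.toSpecΓ_appTop, ΓSpec_inv_hom]

end scheme

end Groth.Agent.Lib.T2H8.ASCover
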