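import Mathlib
import Groth.Agent.Lib.Helper16CechLow

/-!
# Dimension shifting for Cech complexes: a diagram chase
-/

set_option autoImplicit false
set_option linter.unusedSectionVars false
universe u v u₁
open CategoryTheory CategoryTheory.Limits Opposite

namespace Groth.Agent.Lib.T2H8.CechChase
open Groth.Agent.Lib.Helper16.CechLow

section abstract
variable {K₁ K₂ K₃ : CochainComplex AddCommGrpCat.{u} ℕ} (φ : K₁ ⟶ K₂) (ψ : K₂ ⟶ K₃)

theorem comm_apply {K L : CochainComplex AddCommGrpCat.{u} ℕ} (φ : K ⟶ L) (n : ℕ) (x : K.X n) :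
    φ.f (n + 1) (K.d n (n + 1) x) = L.d n (n + 1) (φ.f n x) :=
  (ConcreteCategory.congr_hom (φ.comm n (n + 1)) x).symm

theorem d_d_apply (K : CochainComplex AddCommGrpCat.{u} ℕ) (n : ℕ) (x : K.X n) :
    K.d (n + 1) (n + 2) (K.d n (n + 1) x) = 0 :=
  ConcreteCategory.congr_hom (K.d_comp_d n (n + 1) (n + 2)) x

theorem exactAt_succ_iff (K : CochainComplex AddCommGrpCat.{u} ℕ) (n : ℕ) :
    K.ExactAt (n + 1) ↔ ∀ c : K.X (n + 1), K.d (n + 1) (n + 2) c = 0 →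
      ∃ b : K.X n, K.d n (n + 1) b = c := by
  rw [HomologicalComplex.exactAt_iff' K n (n + 1) (n + 2) (by simp) (by simp),
    ShortComplex.ab_exact_iff]
  rfl

theorem chase_core
    (hinj : ∀ n, Function.Injective (φ.f n))
    (hex : ∀ n (y : K₂.X n), ψ.f n y = 0 → ∃ z : K₁.X n, φ.f n z = y)
    (n : ℕ) (h₂ : K₂.ExactAt (n + 1))
    (h₃ : ∀ b₃ : K₃.X n, K₃.d n (n + 1) b₃ = 0 → (∃ b₂ : K₂.X n, ψ.f n b₂ = b₃) →
      ∃ e₂ : K₂.X n, K₂.d n (n + 1) e₂ = 0 ∧ ψ.f n e₂ = b₃)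
    (hzero : ∀ n (z : K₁.X n), ψ.f n (φ.f n z) = 0) :
    K₁.ExactAt (n + 1) := by
  rw [exactAt_succ_iff] at h₂ ⊢
  intro c₁ hc₁
  have hc₂ : K₂.d (n + 1) (n + 2) (φ.f (n + 1) c₁) = 0 := by
    rw [← comm_apply, hc₁, map_zero]
  obtain ⟨b₂, hb₂⟩ := h₂ _ hc₂
  have hb₃ : K₃.d n (n + 1) (ψ.f n b₂) = 0 := by
    rw [← comm_apply, hb₂, hzero]
  obtain ⟨e₂, he₂, he₂'⟩ := h₃ _ hb₃ ⟨b₂, rfl⟩
  have h0 : ψ.f n (b₂ - e₂) = 0 := by
    rw [map_sub, he₂', sub_self]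
  obtain ⟨b₁, hb₁⟩ := hex n _ h0
  refine ⟨b₁, hinj (n + 1) ?_⟩
  rw [comm_apply, hb₁, map_sub, he₂, sub_zero, hb₂]

theorem chase_succ
    (hinj : ∀ n, Function.Injective (φ.f n))
    (hex : ∀ n (y : K₂.X n), ψ.f n y = 0 → ∃ z : K₁.X n, φ.f n z = y)
    (hsurj : ∀ n, Function.Surjective (ψ.f n))
    (hzero : ∀ n (z : K₁.X n), ψ.f n (φ.f n z) = 0)
    (n : ℕ) (h₂ : K₂.ExactAt (n + 2)) (h₃ : K₃.ExactAt (n + 1)) :
    K₁.ExactAt (n + 2) := by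
  refine chase_core φ ψ hinj hex (n + 1) h₂ ?_ hzero
  intro b₃ hb₃ _
  rw [exactAt_succ_iff] at h₃
  obtain ⟨e₃, he₃⟩ := h₃ b₃ hb₃
  obtain ⟨e₂, he₂⟩ := hsurj n e₃
  refine ⟨K₂.d n (n + 1) e₂, d_d_apply K₂ n e₂, ?_⟩
  rw [comm_apply, he₂, he₃]

end abstract

section cech
variable {C : Type u₁} [Category.{v} C] [HasFiniteProducts C] {ι : Type u} (U : ι → C)

theorem cxMap_pr {P Q : Cᵒᵖ ⥤ AddCommGrpCat.{u}} (f : P ⟶ Q) (n : ℕ) (x : Fin (n + 1) → ι) :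
    ((cechComplexFunctor U).map f).f n ≫ pr U Q n x = pr U P n x ≫ f.app (op (Ux U x)) := by
  have h : ((cechComplexFunctor U).map f).f n =
      Limits.Pi.map (fun (x : Fin (n + 1) → ι) => f.app (op (Ux U x))) := rfl
  rw [h]
  exact Limits.Pi.map_π _ _

theorem cxMap_pr_apply {P Q : Cᵒᵖ ⥤ AddCommGrpCat.{u}} (f : P ⟶ Q) (n : ℕ)
    (x : Fin (n + 1) → ι) (c : (CK U P).X n) :
    pr U Q n x (((cechComplexFunctor U).map f).f n c) = f.app (op (Ux U x)) (pr U P n x c) :=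
  ConcreteCategory.congr_hom (cxMap_pr U f n x) c

variable {P₁ P₂ P₃ : Cᵒᵖ ⥤ AddCommGrpCat.{u}} (f : P₁ ⟶ P₂) (g : P₂ ⟶ P₃)

theorem cx_inj (hinj : ∀ (n : ℕ) (x : Fin (n + 1) → ι), Function.Injective (f.app (op (Ux U x))))
    (n : ℕ) : Function.Injective (((cechComplexFunctor U).map f).f n) := by
  intro c c' h
  apply elt_ext
  intro x
  apply hinj n x
  rw [← cxMap_pr_apply, ← cxMap_pr_apply, h]

theorem cx_surj (hsurj : ∀ (n : ℕ) (x : Fin (n + 1) → ι),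
    Function.Surjective (g.app (op (Ux U x)))) (n : ℕ) :
    Function.Surjective (((cechComplexFunctor U).map g).f n) := by
  intro c
  have h1 : ∀ x, ∃ y, g.app (op (Ux U x)) y = pr U P₃ n x c := fun x => hsurj n x _
  choose y hy using h1
  refine ⟨mkElt U P₂ n y, ?_⟩
  apply elt_ext
  intro x
  rw [cxMap_pr_apply, pr_mkElt, hy]

theorem cx_exact (hex : ∀ (n : ℕ) (x : Fin (n + 1) → ι) (y : P₂.obj (op (Ux U x))),
    g.app (op (Ux U x)) y = 0 → ∃ z, f.app (op (Ux U x)) z = y) (n : ℕ)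
    (c : (CK U P₂).X n) (hc : ((cechComplexFunctor U).map g).f n c = 0) :
    ∃ z : (CK U P₁).X n, ((cechComplexFunctor U).map f).f n z = c := by
  have h1 : ∀ x, ∃ z, f.app (op (Ux U x)) z = pr U P₂ n x c := by
    intro x
    apply hex n x
    rw [← cxMap_pr_apply, hc, map_zero]
  choose z hz using h1
  refine ⟨mkElt U P₁ n z, ?_⟩
  apply elt_ext
  intro x
  rw [cxMap_pr_apply, pr_mkElt, hz]

theorem cx_zero (hzero : ∀ (n : ℕ) (x : Fin (n + 1) → ι) (z : P₁.obj (op (Ux U x))),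
    g.app (op (Ux U x)) (f.app (op (Ux U x)) z) = 0) (n : ℕ) (c : (CK U P₁).X n) :
    ((cechComplexFunctor U).map g).f n (((cechComplexFunctor U).map f).f n c) = 0 := by
  apply elt_ext
  intro x
  rw [cxMap_pr_apply, cxMap_pr_apply, hzero, map_zero]

end cech

end Groth.Agent.Lib.T2H8.CechChase
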