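import Mathlib
import Groth.Agent.Lib.Helper16CechLow
import Groth.Agent.Lib.T2H8CechChase

/-!
# Cech complexes: evaluation of cochains at tuples of points (general universes)

For a family `U : ι → D` in a category with finite products and a presheaf `P`, a cochain
`c ∈ Č^n(U, P)` can be evaluated at a tuple `e` of `n + 1` "points" `W ⟶ U k` of the family with
values in `W`; `ev U P e c ∈ P(W)`.  The differential is the alternating sum of the evaluations at
the faces of the tuple, and cochains are determined by their evaluations.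
-/

set_option autoImplicit false
set_option linter.unusedSectionVars false
universe u v u₁
open CategoryTheory CategoryTheory.Limits Opposite

namespace Groth.Agent.Lib.T2H8.CechEv
open Groth.Agent.Lib.Helper16.CechLow Groth.Agent.Lib.T2H8.CechChase

variable {D : Type u₁} [Category.{v} D] [HasFiniteProducts D] {ι : Type u} (U : ι → D)

/-- a point of the family with values in `W` -/
structure Pt (W : D) where
  /-- the index -/
  idx : ι
  /-- the morphism -/
  map : W ⟶ U idx

variable {U}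

/-- precomposition -/
def Pt.pre {W W' : D} (t : W' ⟶ W) (x : Pt U W) : Pt U W' := ⟨x.idx, t ≫ x.map⟩

theorem Pt.ext' {W : D} (x y : Pt U W) (h : x.idx = y.idx)
    (h' : x.map ≫ eqToHom (congrArg U h) = y.map) : x = y := by
  obtain ⟨i, f⟩ := x
  obtain ⟨j, g⟩ := y
  obtain rfl : i = j := h
  simp only [eqToHom_refl, Category.comp_id] at h'
  rw [h']

variable (U)

/-- the identity point -/
def idPt (k : ι) : Pt U (U k) := ⟨k, 𝟙 _⟩

/-- the morphism to the product determined by a tuple of points -/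
noncomputable def tup {W : D} {n : ℕ} (e : Fin (n + 1) → Pt U W) :
    W ⟶ Ux U (fun a => (e a).idx) :=
  Pi.lift (fun a => (e a).map)

theorem tup_π {W : D} {n : ℕ} (e : Fin (n + 1) → Pt U W) (a : Fin (n + 1)) :
    tup U e ≫ Pi.π (U ∘ fun a => (e a).idx) a = (e a).map :=
  Pi.lift_π _ _

theorem tup_face {W : D} {n : ℕ} (e : Fin (n + 2) → Pt U W) (j : Fin (n + 2)) :
    tup U e ≫ face U (fun a => (e a).idx) j = tup U (e ∘ Fin.succAbove j) := by
  refine Pi.hom_ext _ _ (fun a => ?_)
  refine (Category.assoc _ _ _).trans ?_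
  refine (congrArg (fun t => tup U e ≫ t)
    (Pi.lift_π (fun a => Pi.π (U ∘ fun a => (e a).idx) (Fin.succAbove j a)) a)).trans ?_
  refine (tup_π U e (Fin.succAbove j a)).trans ?_
  exact (tup_π U (e ∘ Fin.succAbove j) a).symm

theorem tup_pre {W W' : D} (t : W' ⟶ W) {n : ℕ} (e : Fin (n + 1) → Pt U W) :
    t ≫ tup U e = tup U (fun a => (e a).pre t) := by
  refine Pi.hom_ext _ _ (fun a => ?_)
  refine (Category.assoc _ _ _).trans ?_
  refine (congrArg (fun s => t ≫ s) (tup_π U e a)).trans ?_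
  exact (tup_π U (fun a => (e a).pre t) a).symm

variable (P : Dᵒᵖ ⥤ AddCommGrpCat.{u})

/-- evaluation of Cech cochains at a tuple of points -/
noncomputable def ev {W : D} {n : ℕ} (e : Fin (n + 1) → Pt U W) :
    (CK U P).X n ⟶ P.obj (op W) :=
  pr U P n (fun a => (e a).idx) ≫ P.map (tup U e).op

theorem ev_apply {W : D} {n : ℕ} (e : Fin (n + 1) → Pt U W) (c : (CK U P).X n) :
    ev U P e c = P.map (tup U e).op (pr U P n (fun a => (e a).idx) c) := rfl

theorem face_ev {W : D} {n : ℕ} (e : Fin (n + 2) → Pt U W) (j : Fin (n + 2)) :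
    (pr U P n ((fun a => (e a).idx) ∘ Fin.succAbove j) ≫
      P.map (face U (fun a => (e a).idx) j).op) ≫ P.map (tup U e).op =
      ev U P (e ∘ Fin.succAbove j) := by
  refine (Category.assoc _ _ _).trans ?_
  rw [← P.map_comp, ← op_comp, tup_face]
  rfl

theorem d_ev {W : D} {n : ℕ} (e : Fin (n + 2) → Pt U W) :
    (CK U P).d n (n + 1) ≫ ev U P e =
      ∑ j : Fin (n + 2), (-1 : ℤ) ^ (j : ℕ) • ev U P (e ∘ Fin.succAbove j) := by
  refine ((Category.assoc _ _ _).symm.trans ?_)
  rw [d_pr, Preadditive.sum_comp]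
  refine Finset.sum_congr rfl (fun j _ => ?_)
  rw [Preadditive.zsmul_comp]
  exact congrArg (fun z => (-1 : ℤ) ^ (j : ℕ) • z) (face_ev U P e j)

theorem d_ev_apply {W : D} {n : ℕ} (e : Fin (n + 2) → Pt U W) (c : (CK U P).X n) :
    ev U P e ((CK U P).d n (n + 1) c) =
      ∑ j : Fin (n + 2), (-1 : ℤ) ^ (j : ℕ) • ev U P (e ∘ Fin.succAbove j) c := by
  have h := ConcreteCategory.congr_hom (d_ev U P e) c
  rw [sum_apply] at h
  exact h

theorem ev_map {W W' : D} (t : W' ⟶ W) {n : ℕ} (e : Fin (n + 1) → Pt U W) :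
    ev U P e ≫ P.map t.op = ev U P (fun a => (e a).pre t) := by
  refine (Category.assoc _ _ _).trans ?_
  rw [← P.map_comp, ← op_comp, tup_pre]
  rfl

theorem ev_map_apply {W W' : D} (t : W' ⟶ W) {n : ℕ} (e : Fin (n + 1) → Pt U W)
    (c : (CK U P).X n) :
    P.map t.op (ev U P e c) = ev U P (fun a => (e a).pre t) c :=
  ConcreteCategory.congr_hom (ev_map U P t e) c

/-- the canonical tuple of points of a product -/
noncomputable def canPt {n : ℕ} (x : Fin (n + 1) → ι) : Fin (n + 1) → Pt U (Ux U x) :=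
  fun a => ⟨x a, Pi.π (U ∘ x) a⟩

theorem tup_canPt {n : ℕ} (x : Fin (n + 1) → ι) : tup U (canPt U x) = 𝟙 (Ux U x) := by
  refine Pi.hom_ext _ _ (fun a => ?_)
  refine (tup_π U (canPt U x) a).trans ?_
  exact (Category.id_comp _).symm

theorem pr_eq_ev {n : ℕ} (x : Fin (n + 1) → ι) : pr U P n x = ev U P (canPt U x) := by
  have h : ev U P (canPt U x) = pr U P n x ≫ P.map (tup U (canPt U x)).op := rfl
  have h2 : P.map (tup U (canPt U x)).op = 𝟙 (P.obj (op (Ux U x))) :=
    (congrArg (fun t : Ux U x ⟶ Ux U x => P.map t.op) (tup_canPt U x)).trans (P.map_id _)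
  rw [h]
  exact ((congrArg (fun z => pr U P n x ≫ z) h2).trans (Category.comp_id _)).symm

theorem elt_ext' {n : ℕ} (c c' : (CK U P).X n)
    (h : ∀ (W : D) (e : Fin (n + 1) → Pt U W), ev U P e c = ev U P e c') : c = c' := by
  apply elt_ext
  intro x
  rw [pr_eq_ev]
  exact h _ _

theorem ev_mkElt {W : D} {n : ℕ} (e : Fin (n + 1) → Pt U W)
    (c : ∀ x : Fin (n + 1) → ι, P.obj (op (Ux U x))) :
    ev U P e (mkElt U P n c) = P.map (tup U e).op (c (fun a => (e a).idx)) := by
  rw [ev_apply, pr_mkElt]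

variable {P} in
theorem cxMap_ev {Q : Dᵒᵖ ⥤ AddCommGrpCat.{u}} (f : P ⟶ Q) {W : D} {n : ℕ}
    (e : Fin (n + 1) → Pt U W) :
    ((cechComplexFunctor U).map f).f n ≫ ev U Q e = ev U P e ≫ f.app (op W) := by
  have h1 : ((cechComplexFunctor U).map f).f n ≫ ev U Q e =
      (((cechComplexFunctor U).map f).f n ≫ pr U Q n (fun a => (e a).idx)) ≫
        Q.map (tup U e).op := (Category.assoc _ _ _).symm
  rw [h1, cxMap_pr, Category.assoc, ← f.naturality]
  exact (Category.assoc _ _ _).symm

variable {P} in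
theorem cxMap_ev_apply {Q : Dᵒᵖ ⥤ AddCommGrpCat.{u}} (f : P ⟶ Q) {W : D} {n : ℕ}
    (e : Fin (n + 1) → Pt U W) (c : (CK U P).X n) :
    ev U Q e (((cechComplexFunctor U).map f).f n c) = f.app (op W) (ev U P e c) :=
  ConcreteCategory.congr_hom (cxMap_ev U f e) c

/-! ### degree zero -/

/-- the component of a `0`-cochain at `U k` -/
noncomputable def x0 (c : (CK U P).X 0) (k : ι) : P.obj (op (U k)) :=
  ev U P (fun _ : Fin 1 => idPt U k) c

theorem ev_zero_eq {W : D} (e : Fin 1 → Pt U W) (c : (CK U P).X 0) :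
    ev U P e c = P.map (e 0).map.op (x0 U P c (e 0).idx) := by
  have he : e = fun a => Pt.pre (e 0).map (idPt U (e 0).idx) := by
    funext a
    obtain rfl : a = 0 := Subsingleton.elim _ _
    refine Pt.ext' _ _ rfl ?_
    change (e 0).map ≫ 𝟙 _ = (e 0).map ≫ 𝟙 _
    rfl
  rw [x0, ev_map_apply]
  exact congrArg (fun e' : Fin 1 → Pt U W => ev U P e' c) he

theorem elt_ext0 (c c' : (CK U P).X 0) (h : ∀ k, x0 U P c k = x0 U P c' k) : c = c' := by
  apply elt_ext'
  intro W e
  rw [ev_zero_eq, ev_zero_eq, h]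

end Groth.Agent.Lib.T2H8.CechEv
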