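import Mathlib
import Groth.Agent.Lib.T2H8CechEv

/-!
# Sections of short exact sequences of abelian sheaves and Cech `H¹` (general universes)

`surj_of_H1`: for a short exact sequence of abelian sheaves `0 → F₁ → F₂ → F₃ → 0` on a site, an
object `X`, a covering family `Uf` of `X` with vanishing first Cech cohomology of `F₁`, a section
`s ∈ F₃(X)` which lifts to `F₂` on every member of the family lifts to `F₂(X)`.
-/

set_option autoImplicit false
set_option linter.unusedSectionVars false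
set_option linter.style.haveILetI false
universe u
open CategoryTheory CategoryTheory.Limits Opposite

namespace Groth.Agent.Lib.T2H8.CechSurj
open Groth.Agent.Lib.Helper16.CechLow Groth.Agent.Lib.T2H8.CechChase Groth.Agent.Lib.T2H8.CechEv

variable {C : Type (u + 1)} [Category.{u} C] {J : GrothendieckTopology C}

section sections

lemma sect_injective {F G : Sheaf J AddCommGrpCat.{u + 1}} (f : F ⟶ G) [Mono f] (V : C) :
    Function.Injective (f.hom.app (op V)) := by
  haveI : Mono f.hom := (sheafToPresheaf _ _).map_mono f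
  haveI : Mono (f.hom.app (op V)) := inferInstance
  exact (AddCommGrpCat.mono_iff_injective _).1 inferInstance

lemma sect_exact (S : ShortComplex (Sheaf J AddCommGrpCat.{u + 1})) (hS : S.ShortExact) (V : C)
    (a : S.X₂.obj.obj (op V)) (ha : S.g.hom.app (op V) a = 0) :
    ∃ b : S.X₁.obj.obj (op V), S.f.hom.app (op V) b = a := by
  have h := hS.exact.map_of_mono_of_preservesKernel
    (sheafToPresheaf J AddCommGrpCat.{u + 1} ⋙ (evaluation _ _).obj (op V)) hS.mono_f inferInstance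
  exact (ShortComplex.ab_exact_iff _).1 h a ha

lemma sect_zero (S : ShortComplex (Sheaf J AddCommGrpCat.{u + 1})) (V : C)
    (b : S.X₁.obj.obj (op V)) : S.g.hom.app (op V) (S.f.hom.app (op V) b) = 0 := by
  have hzero : S.f ≫ S.g = 0 := S.zero
  exact congrArg (fun m => m.hom.app (op V) b) hzero

lemma nat_apply {A B : Sheaf J AddCommGrpCat.{u + 1}} (φ : A ⟶ B) {V V' : C} (h : V' ⟶ V)
    (y : A.obj.obj (op V)) :
    φ.hom.app (op V') (A.obj.map h.op y) = B.obj.map h.op (φ.hom.app (op V) y) :=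
  ConcreteCategory.congr_hom (φ.hom.naturality h.op) y

lemma map_comp_apply (A : Sheaf J AddCommGrpCat.{u + 1}) {V V' V'' : C} (h : V' ⟶ V)
    (h' : V'' ⟶ V') (y : A.obj.obj (op V)) :
    A.obj.map h'.op (A.obj.map h.op y) = A.obj.map (h' ≫ h).op y := by
  rw [op_comp, A.obj.map_comp]
  rfl

end sections

section glue
variable {X : C} {ι : Type (u + 1)} (Y : ι → Over X)
  (hY : Sieve.ofArrows (fun i => (Y i).left) (fun i => (Y i).hom) ∈ J X)

include hY

lemma isSheafFor_of_sheaf (P : Sheaf J AddCommGrpCat.{u + 1}) :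
    Presieve.IsSheafFor (P.obj ⋙ forget _)
      (Presieve.ofArrows (fun k => (Y k).left) (fun k => (Y k).hom)) := by
  have hP := P.property
  rw [Presheaf.isSheaf_iff_isSheaf_forget J P.obj (forget _), isSheaf_iff_isSheaf_of_type] at hP
  rw [Presieve.isSheafFor_iff_generate]
  exact hP _ hY

lemma glue_site (P : Sheaf J AddCommGrpCat.{u + 1}) (x : ∀ k, P.obj.obj (op (Y k).left))
    (hx : ∀ i j (Z : C) (gi : Z ⟶ (Y i).left) (gj : Z ⟶ (Y j).left),
      gi ≫ (Y i).hom = gj ≫ (Y j).hom → P.obj.map gi.op (x i) = P.obj.map gj.op (x j)) :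
    ∃ t : P.obj.obj (op X), ∀ k, P.obj.map (Y k).hom.op t = x k := by
  obtain ⟨t, ht, _⟩ := ((Presieve.isSheafFor_arrows_iff _ _).1 (isSheafFor_of_sheaf Y hY P)) x hx
  exact ⟨t, ht⟩

lemma sep_site (P : Sheaf J AddCommGrpCat.{u + 1}) (t t' : P.obj.obj (op X))
    (h : ∀ k, P.obj.map (Y k).hom.op t = P.obj.map (Y k).hom.op t') : t = t' := by
  have hx : Presieve.Arrows.Compatible (P.obj ⋙ forget _) (fun k => (Y k).hom)
      (fun k => P.obj.map (Y k).hom.op t') := by
    intro i j Z gi gj hij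
    change P.obj.map gi.op (P.obj.map (Y i).hom.op t') = P.obj.map gj.op (P.obj.map (Y j).hom.op t')
    rw [map_comp_apply, map_comp_apply, hij]
  obtain ⟨t₀, _, ht₀⟩ := ((Presieve.isSheafFor_arrows_iff _ _).1 (isSheafFor_of_sheaf Y hY P)) _ hx
  exact (ht₀ t h).trans (ht₀ t' (fun _ => rfl)).symm

end glue

section core
universe w v u₁
variable {D : Type u₁} [Category.{v} D] [HasFiniteProducts D] {ι : Type w} (Y : ι → D)
  {P₁ P₂ P₃ : Dᵒᵖ ⥤ AddCommGrpCat.{w}} (φ : P₁ ⟶ P₂) (ψ : P₂ ⟶ P₃)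

lemma pnat {P Q : Dᵒᵖ ⥤ AddCommGrpCat.{w}} (f : P ⟶ Q) {W W' : D} (m : W' ⟶ W)
    (y : P.obj (op W)) : f.app (op W') (P.map m.op y) = Q.map m.op (f.app (op W) y) :=
  ConcreteCategory.congr_hom (f.naturality m.op) y

lemma pmap_comp (P : Dᵒᵖ ⥤ AddCommGrpCat.{w}) {W W' W'' : D} (m : W' ⟶ W) (m' : W'' ⟶ W')
    (y : P.obj (op W)) : P.map m'.op (P.map m.op y) = P.map (m' ≫ m).op y := by
  rw [op_comp, P.map_comp]
  rfl

/-- the core diagram chase: local lifts of a global section of `P₃` can be corrected to a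
compatible family of local lifts when the first Cech cohomology of `P₁` vanishes. -/
theorem core
    (hinj : ∀ W : D, Function.Injective (φ.app (op W)))
    (hex : ∀ (W : D) (y : P₂.obj (op W)), ψ.app (op W) y = 0 → ∃ z, φ.app (op W) z = y)
    (hzero : ∀ (W : D) (z : P₁.obj (op W)), ψ.app (op W) (φ.app (op W) z) = 0)
    (hH1 : (CK Y P₁).ExactAt 1)
    (σ : ∀ W : D, P₃.obj (op W))
    (hσ : ∀ (W W' : D) (m : W' ⟶ W), P₃.map m.op (σ W) = σ W')
    (t : ∀ i, P₂.obj (op (Y i))) (ht : ∀ i, ψ.app (op (Y i)) (t i) = σ (Y i)) :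
    ∃ T : ∀ k, P₂.obj (op (Y k)), (∀ k, ψ.app (op (Y k)) (T k) = σ (Y k)) ∧
      ∀ (W : D) (p q : Pt Y W), P₂.map p.map.op (T p.idx) = P₂.map q.map.op (T q.idx) := by
  -- sections attached to points
  obtain ⟨τ, hτdef⟩ : ∃ τ : ∀ (W : D), Pt Y W → P₂.obj (op W),
      ∀ (W : D) (p : Pt Y W), τ W p = P₂.map p.map.op (t p.idx) := ⟨_, fun _ _ => rfl⟩
  have hτ : ∀ (W : D) (p : Pt Y W), ψ.app (op W) (τ W p) = σ W := by
    intro W p
    rw [hτdef, pnat, ht, hσ]
  have hτpre : ∀ (W W' : D) (m : W' ⟶ W) (p : Pt Y W),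
      P₂.map m.op (τ W p) = τ W' (p.pre m) := by
    intro W W' m p
    rw [hτdef, hτdef, pmap_comp]
    rfl
  -- the 1-cochain
  have hdiff : ∀ x : Fin 2 → ι, ∃ a : P₁.obj (op (Ux Y x)),
      φ.app (op (Ux Y x)) a = τ _ (canPt Y x 1) - τ _ (canPt Y x 0) := by
    intro x
    apply hex
    rw [map_sub, hτ, hτ, sub_self]
  choose a ha using hdiff
  obtain ⟨c, hcdef⟩ : ∃ c : (CK Y P₁).X 1, c = mkElt Y P₁ 1 a := ⟨_, rfl⟩
  have hev : ∀ (W : D) (e : Fin 2 → Pt Y W),
      φ.app (op W) (ev Y P₁ e c) = τ W (e 1) - τ W (e 0) := by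
    intro W e
    rw [hcdef, ev_mkElt, pnat, ha, map_sub, hτpre, hτpre]
    have h1 : (canPt Y (fun a => (e a).idx) 1).pre (tup Y e) = e 1 := by
      refine Pt.ext' _ _ rfl ?_
      change (tup Y e ≫ Pi.π (Y ∘ fun a => (e a).idx) 1) ≫ 𝟙 _ = (e 1).map
      rw [Category.comp_id, tup_π]
    have h0 : (canPt Y (fun a => (e a).idx) 0).pre (tup Y e) = e 0 := by
      refine Pt.ext' _ _ rfl ?_
      change (tup Y e ≫ Pi.π (Y ∘ fun a => (e a).idx) 0) ≫ 𝟙 _ = (e 0).map
      rw [Category.comp_id, tup_π]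
    rw [h1, h0]
  -- cocycle condition
  have hc : (CK Y P₁).d 1 2 c = 0 := by
    apply elt_ext'
    intro W e
    apply hinj W
    rw [map_zero, map_zero, d_ev_apply, map_sum, Fin.sum_univ_three]
    simp only [Fin.val_zero, pow_zero, one_smul, Fin.val_one, pow_one, neg_smul, Fin.val_two,
      even_two, Even.neg_pow, one_pow, map_neg]
    rw [hev, hev, hev]
    have e00 : Fin.succAbove (0 : Fin 3) (0 : Fin 2) = 1 := by decide
    have e01 : Fin.succAbove (0 : Fin 3) (1 : Fin 2) = 2 := by decide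
    have e10 : Fin.succAbove (1 : Fin 3) (0 : Fin 2) = 0 := by decide
    have e11 : Fin.succAbove (1 : Fin 3) (1 : Fin 2) = 2 := by decide
    have e20 : Fin.succAbove (2 : Fin 3) (0 : Fin 2) = 0 := by decide
    have e21 : Fin.succAbove (2 : Fin 3) (1 : Fin 2) = 1 := by decide
    simp only [Function.comp_apply, e00, e01, e10, e11, e20, e21]
    abel
  -- the cocycle is a coboundary
  obtain ⟨b, hb⟩ := (exactAt_succ_iff (CK Y P₁) 0).1 hH1 c hc
  -- corrected sections
  refine ⟨fun k => t k - φ.app (op (Y k)) (x0 Y P₁ b k), fun k => ?_, fun W p q => ?_⟩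
  · rw [map_sub, hzero, sub_zero, ht]
  · have h1 := d_ev_apply Y P₁ ![p, q] b
    rw [hb, Fin.sum_univ_two] at h1
    simp only [Fin.val_zero, pow_zero, one_smul, Fin.val_one, pow_one, neg_smul] at h1
    have h2 := congrArg (φ.app (op W)) h1
    rw [hev, map_add, map_neg, ev_zero_eq, ev_zero_eq] at h2
    have e0 : ((![p, q] : Fin 2 → Pt Y W) ∘ Fin.succAbove (0 : Fin 2)) 0 = q := rfl
    have e1 : ((![p, q] : Fin 2 → Pt Y W) ∘ Fin.succAbove (1 : Fin 2)) 0 = p := rfl
    rw [e0, e1, pnat, pnat, hτdef, hτdef] at h2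
    change P₂.map q.map.op (t q.idx) - P₂.map p.map.op (t p.idx) =
      P₂.map q.map.op (φ.app (op (Y q.idx)) (x0 Y P₁ b q.idx)) +
        -P₂.map p.map.op (φ.app (op (Y p.idx)) (x0 Y P₁ b p.idx)) at h2
    rw [map_sub, map_sub, sub_eq_sub_iff_add_eq_add]
    have h3 := sub_eq_iff_eq_add.1 h2
    rw [h3]
    abel

end core

section main
variable {X : C} [HasFiniteProducts (Over X)] {ι : Type (u + 1)} (Y : ι → Over X)

/-- the restriction of a sheaf to `Over X`, as a presheaf -/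
abbrev R (F : Sheaf J AddCommGrpCat.{u + 1}) : (Over X)ᵒᵖ ⥤ AddCommGrpCat.{u + 1} :=
  (Over.forget X).op ⋙ F.obj

/-- the restriction of a morphism of sheaves -/
abbrev Rmap {F G : Sheaf J AddCommGrpCat.{u + 1}} (φ : F ⟶ G) : R (X := X) F ⟶ R G :=
  Functor.whiskerLeft (Over.forget X).op φ.hom

theorem surj_of_H1 (S : ShortComplex (Sheaf J AddCommGrpCat.{u + 1})) (hS : S.ShortExact)
    (hY : Sieve.ofArrows (fun i => (Y i).left) (fun i => (Y i).hom) ∈ J X)
    (hH1 : (CK Y (R S.X₁)).ExactAt 1)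
    (s : S.X₃.obj.obj (op X)) (t : ∀ i, S.X₂.obj.obj (op (Y i).left))
    (ht : ∀ i, S.g.hom.app (op (Y i).left) (t i) = S.X₃.obj.map (Y i).hom.op s) :
    ∃ t₀ : S.X₂.obj.obj (op X), S.g.hom.app (op X) t₀ = s := by
  haveI : Mono S.f := hS.mono_f
  obtain ⟨T, hT, hcomp⟩ := core Y (Rmap (X := X) S.f) (Rmap (X := X) S.g)
    (fun W => sect_injective S.f W.left) (fun W y hy => sect_exact S hS W.left y hy)
    (fun W z => sect_zero S W.left z) hH1
    (fun W => S.X₃.obj.map W.hom.op s)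
    (fun W W' m => by
      change S.X₃.obj.map m.left.op (S.X₃.obj.map W.hom.op s) = S.X₃.obj.map W'.hom.op s
      rw [map_comp_apply, Over.w])
    t ht
  have hcompat : ∀ i j (Z : C) (gi : Z ⟶ (Y i).left) (gj : Z ⟶ (Y j).left),
      gi ≫ (Y i).hom = gj ≫ (Y j).hom → S.X₂.obj.map gi.op (T i) = S.X₂.obj.map gj.op (T j) := by
    intro i j Z gi gj hij
    exact hcomp (Over.mk (gi ≫ (Y i).hom)) ⟨i, Over.homMk gi rfl⟩ ⟨j, Over.homMk gj hij.symm⟩
  obtain ⟨tt, htt⟩ := glue_site Y hY S.X₂ T hcompat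
  refine ⟨tt, ?_⟩
  apply sep_site Y hY S.X₃
  intro k
  rw [← nat_apply, htt k]
  exact hT k

end main

end Groth.Agent.Lib.T2H8.CechSurj
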