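import Mathlib
import Groth.Agent.Lib.T2H8CechSurj

/-!
# Cech complexes of a short exact sequence of abelian sheaves: exactness for the third term
-/

set_option autoImplicit false
set_option linter.unusedSectionVars false
set_option linter.style.haveILetI false
universe u
open CategoryTheory CategoryTheory.Limits Opposite

namespace Groth.Agent.Lib.T2H8.CechSES
open Groth.Agent.Lib.Helper16.CechLow Groth.Agent.Lib.T2H8.CechChase Groth.Agent.Lib.T2H8.CechEv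
open Groth.Agent.Lib.T2H8.CechSurj

section abstract
universe w
variable {K₁ K₂ K₃ : CochainComplex AddCommGrpCat.{w} ℕ} (φ : K₁ ⟶ K₂) (ψ : K₂ ⟶ K₃)

theorem chase3
    (hinj : ∀ n, Function.Injective (φ.f n))
    (hex : ∀ n (y : K₂.X n), ψ.f n y = 0 → ∃ z : K₁.X n, φ.f n z = y)
    (hsurj : ∀ n, Function.Surjective (ψ.f n))
    (hzero : ∀ n (z : K₁.X n), ψ.f n (φ.f n z) = 0)
    (n : ℕ) (h₂ : K₂.ExactAt (n + 1)) (h₁ : K₁.ExactAt (n + 2)) : K₃.ExactAt (n + 1) := by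
  rw [exactAt_succ_iff] at h₂ h₁ ⊢
  intro c₃ hc₃
  obtain ⟨c₂, hc₂⟩ := hsurj (n + 1) c₃
  have h0 : ψ.f (n + 2) (K₂.d (n + 1) (n + 2) c₂) = 0 := by
    refine (comm_apply ψ (n + 1) c₂).trans ?_
    rw [hc₂]
    exact hc₃
  obtain ⟨z₁, hz₁⟩ := hex (n + 2) _ h0
  have hdz : K₁.d (n + 2) (n + 3) z₁ = 0 := by
    apply hinj (n + 3)
    refine (comm_apply φ (n + 2) z₁).trans ?_
    rw [hz₁, map_zero]
    exact d_d_apply K₂ (n + 1) c₂
  obtain ⟨y₁, hy₁⟩ := h₁ z₁ hdz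
  have hc₂' : K₂.d (n + 1) (n + 2) (c₂ - φ.f (n + 1) y₁) = 0 := by
    rw [map_sub]
    have h3 : K₂.d (n + 1) (n + 2) (φ.f (n + 1) y₁) = φ.f (n + 2) (K₁.d (n + 1) (n + 2) y₁) :=
      (comm_apply φ (n + 1) y₁).symm
    rw [h3, hy₁, hz₁, sub_self]
  obtain ⟨b₂, hb₂⟩ := h₂ _ hc₂'
  refine ⟨ψ.f n b₂, ?_⟩
  rw [← comm_apply, hb₂, map_sub, hzero, sub_zero, hc₂]

end abstract

variable {C : Type (u + 1)} [Category.{u} C] {J : GrothendieckTopology C}
variable {X : C} [HasFiniteProducts (Over X)] {ι : Type (u + 1)} (Y : ι → Over X)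

theorem exactAt_X₃ (S : ShortComplex (Sheaf J AddCommGrpCat.{u + 1})) (hS : S.ShortExact)
    (hsurj : ∀ (n : ℕ) (x : Fin (n + 1) → ι),
      Function.Surjective (S.g.hom.app (op (Ux Y x).left)))
    (n : ℕ) (h₂ : (CK Y (R S.X₂)).ExactAt (n + 1)) (h₁ : (CK Y (R S.X₁)).ExactAt (n + 2)) :
    (CK Y (R S.X₃)).ExactAt (n + 1) := by
  haveI : Mono S.f := hS.mono_f
  exact chase3 ((cechComplexFunctor Y).map (Rmap (X := X) S.f))
    ((cechComplexFunctor Y).map (Rmap (X := X) S.g))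
    (cx_inj Y (Rmap (X := X) S.f) (fun n x => sect_injective S.f (Ux Y x).left))
    (cx_exact Y (Rmap (X := X) S.f) (Rmap (X := X) S.g)
      (fun n x y hy => sect_exact S hS (Ux Y x).left y hy))
    (cx_surj Y (Rmap (X := X) S.g) hsurj)
    (cx_zero Y (Rmap (X := X) S.f) (Rmap (X := X) S.g) (fun n x z => sect_zero S (Ux Y x).left z))
    n h₂ h₁

end Groth.Agent.Lib.T2H8.CechSES
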