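import Mathlib
import Groth.Agent.Lib.T2H8CechSES
import Groth.Agent.Lib.Helper16Flasque
import Groth.Agent.S0665

/-!
# Cartan's criterion on a site with a terminal object (general universes, single-morphism covers)

Let `(C, J)` be a site, `B` a class of objects and `Cov` a class of morphisms such that
* for `f : Y ⟶ X` in `Cov`, all iterated fibre products of `Y` over `X` are in `B`, and `f`
  generates a covering sieve;
* local liftability along a morphism of sheaves over an object of `B` can be tested on a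
  morphism of `Cov`.
If an abelian sheaf `G` has exact Cech complexes in positive degrees for all `f` in `Cov` then
`H^{n+1}(G) = 0`, provided the terminal object is in `B`.
-/

set_option autoImplicit false
set_option linter.unusedSectionVars false
set_option linter.style.haveILetI false
universe u
open CategoryTheory CategoryTheory.Limits Opposite

namespace Groth.Agent.Lib.T2H8.Cartan
open Groth.Agent.Lib.Helper16.CechLow Groth.Agent.Lib.T2H8.CechChase Groth.Agent.Lib.T2H8.CechEv
open Groth.Agent.Lib.T2H8.CechSurj Groth.Agent.Lib.T2H8.CechSES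
open Groth.Agent.Lib.Helper16.Flasque

variable {C : Type (u + 1)} [Category.{u} C] (J : GrothendieckTopology C)
  [∀ X : C, HasFiniteProducts (Over X)]

/-- the one-element family attached to a morphism -/
abbrev fam {X Y : C} (f : Y ⟶ X) : PUnit.{u + 2} → Over X := fun _ => Over.mk f

/-- Cech exactness for a class of morphisms -/
def CechExact (Cov : ∀ {X Y : C}, (Y ⟶ X) → Prop) (G : Sheaf J AddCommGrpCat.{u + 1}) : Prop :=
  ∀ (X Y : C) (f : Y ⟶ X), Cov f → ∀ n : ℕ, (CK (fam f) (R G)).ExactAt (n + 1)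

variable {J}

theorem cechExact_of_injective (Cov : ∀ {X Y : C}, (Y ⟶ X) → Prop)
    (I : Sheaf J AddCommGrpCat.{u + 1}) [Injective I] : CechExact J Cov I := by
  intro X Y f _ n
  haveI : Injective I.obj :=
    Injective.injective_of_adjoint (sheafificationAdjunction J AddCommGrpCat.{u + 1}) I
  have h := Groth.Agent.S0665.result (C := C) (U := X) (fam f) I.obj n
  exact (HomologicalComplex.exactAt_iff_isZero_homology _ _).2 h

variable (B : C → Prop) (Cov : ∀ {X Y : C}, (Y ⟶ X) → Prop)
  (hB : ∀ {X Y : C} (f : Y ⟶ X), Cov f → ∀ (n : ℕ) (x : Fin (n + 1) → PUnit.{u + 2}),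
    B (Ux (fam f) x).left)
  (hcov : ∀ {X Y : C} (f : Y ⟶ X), Cov f →
    Sieve.ofArrows (fun i => (fam f i).left) (fun i => (fam f i).hom) ∈ J X)
  (href : ∀ (X : C), B X → ∀ {F F' : Sheaf J AddCommGrpCat.{u + 1}} (ψ : F ⟶ F')
    (s : F'.obj.obj (op X)), Presheaf.imageSieve ψ.hom s ∈ J X →
    ∃ (Y : C) (f : Y ⟶ X), Cov f ∧ (Presheaf.imageSieve ψ.hom s) f)

include hcov href in
theorem surjB (S : ShortComplex (Sheaf J AddCommGrpCat.{u + 1})) (hS : S.ShortExact)
    (h1 : CechExact J Cov S.X₁) (X : C) (hX : B X) :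
    Function.Surjective (S.g.hom.app (op X)) := by
  intro s
  haveI : Epi S.g := hS.epi_g
  have hloc : Sheaf.IsLocallySurjective S.g :=
    (Sheaf.isLocallySurjective_iff_epi' AddCommGrpCat.{u + 1} S.g).2 inferInstance
  have hT : Presheaf.imageSieve S.g.hom s ∈ J X := hloc.imageSieve_mem s
  obtain ⟨Y, f, hf, t, ht⟩ := href X hX S.g s hT
  exact surj_of_H1 (fam f) S hS (hcov f hf) (h1 _ _ f hf 0) s (fun _ => t) (fun _ => ht)

include hB hcov href in
theorem cechExact_X₃ (S : ShortComplex (Sheaf J AddCommGrpCat.{u + 1})) (hS : S.ShortExact)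
    (h1 : CechExact J Cov S.X₁) (h2 : CechExact J Cov S.X₂) : CechExact J Cov S.X₃ := by
  intro X Y f hf n
  exact exactAt_X₃ (fam f) S hS
    (fun m x => surjB B Cov hcov href S hS h1 _ (hB f hf m x)) n (h2 _ _ f hf n) (h1 _ _ f hf (n + 1))

include hB hcov href in
/-- **Cartan's criterion.** -/
theorem cartan [HasExt.{u + 1} (Sheaf J AddCommGrpCat.{u + 1})]
    [EnoughInjectives (Sheaf J AddCommGrpCat.{u + 1})]
    {T : C} (hT : IsTerminal T) (hTB : B T)
    (G : Sheaf J AddCommGrpCat.{u + 1}) (hG : CechExact J Cov G) (n : ℕ)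
    (x : Sheaf.H G (n + 1)) : x = 0 := by
  refine ext_vanish (fun G' : Sheaf J AddCommGrpCat.{u + 1} => CechExact J Cov G')
    ((constantSheaf J AddCommGrpCat.{u + 1}).obj (AddCommGrpCat.of (ULift ℤ)))
    (fun I hI => by haveI := hI; exact cechExact_of_injective Cov I)
    (fun S hS h1 h2 => cechExact_X₃ B Cov hB hcov href S hS h1 h2)
    (fun S hS h1 x => ?_) n G hG x
  have hsurj := surjB B Cov hcov href S hS h1 T hTB
  let adj := constantSheafAdj J AddCommGrpCat.{u + 1} hT
  obtain ⟨y, hy⟩ := lift_uliftZ (S.g.hom.app (op T)) hsurj (adj.homEquiv _ _ x)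
  refine ⟨(adj.homEquiv _ _).symm y, ?_⟩
  have := adj.homEquiv_naturality_right_symm y S.g
  rw [← this]
  apply (adj.homEquiv _ _).injective
  rw [Equiv.apply_symm_apply]
  exact hy

end Groth.Agent.Lib.T2H8.Cartan
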