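import Mathlib

set_option autoImplicit false
universe v u
open CategoryTheory Limits

namespace Groth.Agent.Lib.T2H8.AbExt

variable {C : Type u} [Category.{v} C] [Abelian C]

section pullback
variable (S : ShortComplex C) {H' : C} (π : H' ⟶ S.X₃)

/-- the map from `X₁` to the pullback -/
noncomputable def toPullback : S.X₁ ⟶ pullback S.g π :=
  pullback.lift S.f 0 (by rw [S.zero, zero_comp])

@[reassoc (attr := simp)]
theorem toPullback_fst : toPullback S π ≫ pullback.fst S.g π = S.f := by
  rw [toPullback, pullback.lift_fst]

@[reassoc (attr := simp)]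
theorem toPullback_snd : toPullback S π ≫ pullback.snd S.g π = 0 := by
  rw [toPullback, pullback.lift_snd]

variable {S}

theorem pullback_shortExact (hS : S.ShortExact) :
    (ShortComplex.mk (toPullback S π) (pullback.snd S.g π) (toPullback_snd S π)).ShortExact := by
  have := hS.mono_f
  have := hS.epi_g
  have hm : Mono (toPullback S π) := by
    have : Mono (toPullback S π ≫ pullback.fst S.g π) := by rw [toPullback_fst]; infer_instance
    exact mono_of_mono _ (pullback.fst S.g π)
  have he : Epi (pullback.snd S.g π) := inferInstance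
  refine ShortComplex.ShortExact.mk (ShortComplex.exact_of_f_is_kernel _ ?_)
  refine KernelFork.IsLimit.ofι' _ _ (fun {T} x hx => ?_)
  dsimp only at x hx ⊢
  have h1 : (x ≫ pullback.fst S.g π) ≫ S.g = 0 := by
    rw [Category.assoc, pullback.condition, ← Category.assoc, hx, zero_comp]
  refine ⟨hS.exact.lift _ h1, ?_⟩
  apply pullback.hom_ext
  · rw [Category.assoc, toPullback_fst, ShortComplex.Exact.lift_f]
  · rw [Category.assoc, toPullback_snd, comp_zero, hx]

variable (S)

/-- the kernel of `π`, mapped to the pullback -/
noncomputable def kerToPullback : kernel π ⟶ pullback S.g π :=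
  pullback.lift 0 (kernel.ι π) (by rw [zero_comp, kernel.condition])

@[reassoc (attr := simp)]
theorem kerToPullback_fst : kerToPullback S π ≫ pullback.fst S.g π = 0 := by
  rw [kerToPullback, pullback.lift_fst]

@[reassoc (attr := simp)]
theorem kerToPullback_snd : kerToPullback S π ≫ pullback.snd S.g π = kernel.ι π := by
  rw [kerToPullback, pullback.lift_snd]

theorem pullback_shortExact' [Epi π] :
    (ShortComplex.mk (kerToPullback S π) (pullback.fst S.g π)
      (kerToPullback_fst S π)).ShortExact := by
  have hm : Mono (kerToPullback S π) := by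
    have : Mono (kerToPullback S π ≫ pullback.snd S.g π) := by
      rw [kerToPullback_snd]; infer_instance
    exact mono_of_mono _ (pullback.snd S.g π)
  have he : Epi (pullback.fst S.g π) := inferInstance
  refine ShortComplex.ShortExact.mk (ShortComplex.exact_of_f_is_kernel _ ?_)
  refine KernelFork.IsLimit.ofι' _ _ (fun {T} x hx => ?_)
  dsimp only at x hx ⊢
  have h1 : (x ≫ pullback.snd S.g π) ≫ π = 0 := by
    rw [Category.assoc, ← pullback.condition, ← Category.assoc, hx, zero_comp]
  refine ⟨kernel.lift π _ h1, ?_⟩
  apply pullback.hom_ext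
  · rw [Category.assoc, kerToPullback_fst, comp_zero, hx]
  · rw [Category.assoc, kerToPullback_snd, kernel.lift_ι]

end pullback


section pushout
variable (S : ShortComplex C) {N : C} (j : S.X₁ ⟶ N)

/-- the map from the pushout to `X₃` -/
noncomputable def fromPushout : pushout S.f j ⟶ S.X₃ :=
  pushout.desc S.g 0 (by rw [S.zero, comp_zero])

@[reassoc (attr := simp)]
theorem inl_fromPushout : pushout.inl S.f j ≫ fromPushout S j = S.g := by
  rw [fromPushout, pushout.inl_desc]

@[reassoc (attr := simp)]
theorem inr_fromPushout : pushout.inr S.f j ≫ fromPushout S j = 0 := by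
  rw [fromPushout, pushout.inr_desc]

variable {S}

theorem pushout_shortExact (hS : S.ShortExact) :
    (ShortComplex.mk (pushout.inr S.f j) (fromPushout S j) (inr_fromPushout S j)).ShortExact := by
  have := hS.mono_f
  have := hS.epi_g
  have hm : Mono (pushout.inr S.f j) := inferInstance
  have he : Epi (fromPushout S j) := by
    have : Epi (pushout.inl S.f j ≫ fromPushout S j) := by rw [inl_fromPushout]; infer_instance
    exact epi_of_epi (pushout.inl S.f j) _
  refine ShortComplex.ShortExact.mk (ShortComplex.exact_of_g_is_cokernel _ ?_)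
  refine CokernelCofork.IsColimit.ofπ' _ _ (fun {T} x hx => ?_)
  dsimp only at x hx ⊢
  have h1 : S.f ≫ (pushout.inl S.f j ≫ x) = 0 := by
    rw [← Category.assoc, pushout.condition, Category.assoc, hx, comp_zero]
  refine ⟨hS.exact.desc _ h1, ?_⟩
  apply pushout.hom_ext
  · rw [inl_fromPushout_assoc, ShortComplex.Exact.g_desc]
  · rw [inr_fromPushout_assoc, zero_comp, hx]

variable (S)

/-- the map from the pushout to the cokernel of `j` -/
noncomputable def pushoutToCoker : pushout S.f j ⟶ cokernel j :=
  pushout.desc 0 (cokernel.π j) (by rw [comp_zero, cokernel.condition])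

@[reassoc (attr := simp)]
theorem inl_pushoutToCoker : pushout.inl S.f j ≫ pushoutToCoker S j = 0 := by
  rw [pushoutToCoker, pushout.inl_desc]

@[reassoc (attr := simp)]
theorem inr_pushoutToCoker : pushout.inr S.f j ≫ pushoutToCoker S j = cokernel.π j := by
  rw [pushoutToCoker, pushout.inr_desc]

theorem pushout_shortExact' [Mono j] :
    (ShortComplex.mk (pushout.inl S.f j) (pushoutToCoker S j)
      (inl_pushoutToCoker S j)).ShortExact := by
  have hm : Mono (pushout.inl S.f j) := inferInstance
  have he : Epi (pushoutToCoker S j) := by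
    have : Epi (pushout.inr S.f j ≫ pushoutToCoker S j) := by
      rw [inr_pushoutToCoker]; infer_instance
    exact epi_of_epi (pushout.inr S.f j) _
  refine ShortComplex.ShortExact.mk (ShortComplex.exact_of_g_is_cokernel _ ?_)
  refine CokernelCofork.IsColimit.ofπ' _ _ (fun {T} x hx => ?_)
  dsimp only at x hx ⊢
  have h1 : j ≫ (pushout.inr S.f j ≫ x) = 0 := by
    rw [← Category.assoc, ← pushout.condition, Category.assoc, hx, comp_zero]
  refine ⟨cokernel.desc j _ h1, ?_⟩
  apply pushout.hom_ext
  · rw [inl_pushoutToCoker_assoc, zero_comp, hx]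
  · rw [inr_pushoutToCoker_assoc, cokernel.π_desc]

end pushout

/-- in a short exact sequence, the middle term has a property closed under isomorphisms and
cokernels as soon as the two first terms have -/
theorem prop_X₃_of_shortExact (P : ObjectProperty C) [P.IsClosedUnderIsomorphisms]
    (hcoker : ∀ {X Y : C} (f : X ⟶ Y), P X → P Y → P (cokernel f))
    {S : ShortComplex C} (hS : S.ShortExact) (h₁ : P S.X₁) (h₂ : P S.X₂) : P S.X₃ := by
  have := hS.epi_g
  have hc := hS.exact.gIsCokernel
  exact P.prop_of_iso (IsColimit.coconePointUniqueUpToIso (cokernelIsCokernel S.f) hc)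
    (hcoker S.f h₁ h₂)

theorem prop_X₁_of_shortExact (P : ObjectProperty C) [P.IsClosedUnderIsomorphisms]
    (hker : ∀ {X Y : C} (f : X ⟶ Y), P X → P Y → P (kernel f))
    {S : ShortComplex C} (hS : S.ShortExact) (h₂ : P S.X₂) (h₃ : P S.X₃) : P S.X₁ := by
  have := hS.mono_f
  have hc := hS.exact.fIsKernel
  exact P.prop_of_iso (IsLimit.conePointUniqueUpToIso (kernelIsKernel S.g) hc)
    (hker S.g h₂ h₃)

end Groth.Agent.Lib.T2H8.AbExt
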