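import Mathlib

/-!
# The module `K` cutting out a sum of images of base-changed kernels
-/

set_option autoImplicit false
universe u v w

open TensorProduct DirectSum

namespace Groth.Agent.Lib.T2H8.AdeqK

variable {A : Type u} [CommRing A] {ι : Type w} {P P' : ι → Type w}
  [∀ i, AddCommGroup (P i)] [∀ i, Module A (P i)]
  [∀ i, AddCommGroup (P' i)] [∀ i, Module A (P' i)]
  {M : Type w} [AddCommGroup M] [Module A M]
  (α : ∀ i, P i →ₗ[A] P' i) (g : ∀ i, P i →ₗ[A] M)

/-- the total map `⨁ P i → M × ⨁ P' i` -/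
noncomputable def tot [DecidableEq ι] : (⨁ i, P i) →ₗ[A] M × (⨁ i, P' i) :=
  LinearMap.prod (DirectSum.toModule A ι M g) (DirectSum.lmap α)

/-- the module `K` -/
abbrev K [DecidableEq ι] : Type w := (M × (⨁ i, P' i)) ⧸ LinearMap.range (tot α g)

/-- the map `M → K` -/
noncomputable def κ [DecidableEq ι] : M →ₗ[A] K α g :=
  (LinearMap.range (tot α g)).mkQ ∘ₗ LinearMap.inl A M (⨁ i, P' i)

variable (B : Type v) [CommRing B] [Algebra A B]

theorem exists_finset_sum_eq (p : B ⊗[A] (⨁ i, P i)) [DecidableEq ι] :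
    ∃ s : Finset ι, ∀ s' : Finset ι, s ⊆ s' →
      p = ∑ i ∈ s', (DirectSum.lof A ι P i).baseChange B
        ((DirectSum.component A ι P i).baseChange B p) := by
  classical
  induction p using TensorProduct.induction_on with
  | zero => exact ⟨∅, fun s' _ => by simp⟩
  | tmul b q =>
    refine ⟨DFinsupp.support q, fun s' hs' => ?_⟩
    simp only [LinearMap.baseChange_tmul]
    rw [← TensorProduct.tmul_sum]
    congr 1
    have h1 : ∑ i ∈ s', (DirectSum.lof A ι P i) ((DirectSum.component A ι P i) q) =
        ∑ i ∈ DFinsupp.support q, (DirectSum.lof A ι P i) ((DirectSum.component A ι P i) q) := by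
      symm
      apply Finset.sum_subset hs'
      intro i _ hi
      have : q i = 0 := by simpa [DFinsupp.mem_support_toFun] using hi
      show (DirectSum.lof A ι P i) (q i) = 0
      rw [this, map_zero]
    rw [h1]
    exact (DirectSum.sum_support_of q).symm
  | add x y hx hy =>
    obtain ⟨s₁, h₁⟩ := hx
    obtain ⟨s₂, h₂⟩ := hy
    refine ⟨s₁ ∪ s₂, fun s' hs' => ?_⟩
    have e₁ := h₁ s' (Finset.union_subset_left hs')
    have e₂ := h₂ s' (Finset.union_subset_right hs')
    simp only [map_add, Finset.sum_add_distrib]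
    rw [← e₁, ← e₂]

variable [DecidableEq ι]

theorem κ_baseChange_g_eq_zero (i : ι) (p : B ⊗[A] P i)
    (hp : (α i).baseChange B p = 0) :
    (κ α g).baseChange B ((g i).baseChange B p) = 0 := by
  -- κ ∘ g i = - κ' ∘ lof' i ∘ α i
  have h1 : (κ α g) ∘ₗ (g i) =
      - ((LinearMap.range (tot α g)).mkQ ∘ₗ LinearMap.inr A M (⨁ i, P' i) ∘ₗ
        DirectSum.lof A ι P' i) ∘ₗ (α i) := by
    ext x
    simp only [LinearMap.comp_apply, LinearMap.neg_apply, κ]
    rw [eq_neg_iff_add_eq_zero, ← map_add]
    rw [Submodule.mkQ_apply, Submodule.Quotient.mk_eq_zero]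
    refine ⟨DirectSum.lof A ι P i x, ?_⟩
    simp [tot]
  have h2 : (κ α g).baseChange B ((g i).baseChange B p) =
      ((κ α g) ∘ₗ (g i)).baseChange B p := by
    rw [LinearMap.baseChange_comp]; rfl
  rw [h2, h1, LinearMap.baseChange_neg, LinearMap.neg_apply, LinearMap.baseChange_comp,
    LinearMap.comp_apply, hp, map_zero, neg_zero]

theorem exists_of_κ_baseChange_eq_zero (x : B ⊗[A] M) (hx : (κ α g).baseChange B x = 0) :
    ∃ (s : Finset ι) (p : ∀ i, B ⊗[A] P i), (∀ i ∈ s, (α i).baseChange B (p i) = 0) ∧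
      x = ∑ i ∈ s, (g i).baseChange B (p i) := by
  have hex : Function.Exact (tot α g) (LinearMap.range (tot α g)).mkQ :=
    LinearMap.exact_map_mkQ_range _
  have hex2 : Function.Exact ((tot α g).lTensor B) ((LinearMap.range (tot α g)).mkQ.lTensor B) :=
    lTensor_exact B hex (Submodule.mkQ_surjective _)
  have h1 : (LinearMap.range (tot α g)).mkQ.lTensor B
      ((LinearMap.inl A M (⨁ i, P' i)).lTensor B x) = 0 := by
    have : (κ α g).baseChange B x = (LinearMap.range (tot α g)).mkQ.lTensor B
        ((LinearMap.inl A M (⨁ i, P' i)).lTensor B x) := by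
      show (κ α g).lTensor B x = _
      rw [κ, LinearMap.lTensor_comp]; rfl
    rw [← this, hx]
  obtain ⟨q, hq⟩ := (hex2 _).1 h1
  -- apply fst and snd
  have hfst : (DirectSum.toModule A ι M g).lTensor B q = x := by
    have := congrArg ((LinearMap.fst A M (⨁ i, P' i)).lTensor B) hq
    rw [← LinearMap.comp_apply, ← LinearMap.lTensor_comp, ← LinearMap.comp_apply,
      ← LinearMap.lTensor_comp] at this
    have e1 : (LinearMap.fst A M (⨁ i, P' i)) ∘ₗ (tot α g) = DirectSum.toModule A ι M g := by
      ext; simp [tot]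
    have e2 : (LinearMap.fst A M (⨁ i, P' i)) ∘ₗ (LinearMap.inl A M (⨁ i, P' i)) = LinearMap.id := by
      ext; simp
    rw [e1, e2, LinearMap.lTensor_id, LinearMap.id_apply] at this
    exact this
  have hsnd : (DirectSum.lmap α).lTensor B q = 0 := by
    have := congrArg ((LinearMap.snd A M (⨁ i, P' i)).lTensor B) hq
    rw [← LinearMap.comp_apply, ← LinearMap.lTensor_comp, ← LinearMap.comp_apply,
      ← LinearMap.lTensor_comp] at this
    have e1 : (LinearMap.snd A M (⨁ i, P' i)) ∘ₗ (tot α g) = DirectSum.lmap α := by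
      ext; simp [tot]
    have e2 : (LinearMap.snd A M (⨁ i, P' i)) ∘ₗ (LinearMap.inl A M (⨁ i, P' i)) = 0 := by
      ext; simp
    rw [e1, e2, LinearMap.lTensor_zero, LinearMap.zero_apply] at this
    exact this
  obtain ⟨s, hs⟩ := exists_finset_sum_eq B q
  refine ⟨s, fun i => (DirectSum.component A ι P i).baseChange B q, fun i _ => ?_, ?_⟩
  · have e : (α i) ∘ₗ (DirectSum.component A ι P i) =
        (DirectSum.component A ι P' i) ∘ₗ (DirectSum.lmap α) := by
      refine LinearMap.ext fun q => ?_
      rfl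
    have : (α i).baseChange B ((DirectSum.component A ι P i).baseChange B q) =
        ((α i) ∘ₗ (DirectSum.component A ι P i)).baseChange B q := by
      rw [LinearMap.baseChange_comp]; rfl
    rw [this, e, LinearMap.baseChange_comp, LinearMap.comp_apply]
    show (DirectSum.component A ι P' i).baseChange B ((DirectSum.lmap α).lTensor B q) = 0
    rw [hsnd, map_zero]
  · have h := hs s (Finset.Subset.refl _)
    have h2 := congrArg ((DirectSum.toModule A ι M g).lTensor B) h
    rw [hfst, map_sum] at h2
    rw [h2]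
    apply Finset.sum_congr rfl
    intro i _
    have : (DirectSum.toModule A ι M g).lTensor B ((DirectSum.lof A ι P i).baseChange B
        ((DirectSum.component A ι P i).baseChange B q)) =
        ((DirectSum.toModule A ι M g) ∘ₗ (DirectSum.lof A ι P i)).baseChange B
          ((DirectSum.component A ι P i).baseChange B q) := by
      rw [LinearMap.baseChange_comp]; rfl
    rw [this]
    congr 2
    ext x; simp

end Groth.Agent.Lib.T2H8.AdeqK
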