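import Mathlib
import Groth.Agent.Lib.Helper13AdeqB
import Groth.Agent.Lib.Helper13AdeqD
import Groth.Agent.Lib.T2H8AdeqK

/-!
# Adequate functors: the image of a map from an adequate functor into `underline M` is cut out by
a module map `M → K` (key lemma for kernels / cokernels of adequate functors)
-/

set_option autoImplicit false
universe u
open CategoryTheory Limits Opposite TensorProduct

namespace Groth.Agent.Lib.T2H8.AdeqA

open Adeq Groth.Agent.Helper13Adeq

variable {A : Type u} [CommRing A]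

theorem exists_data (F : MVF A) (hF : adequate A F) (M : ModuleCat.{u + 1} A)
    (ψ : F ⟶ (underline A).obj M) (B : Alg A) (ξ : F.obj (pt B)) :
    ∃ (P P' : ModuleCat.{u + 1} A) (α : P ⟶ P') (g : P ⟶ M),
      (∃ p : B ⊗[A] P, α.hom.baseChange B p = 0 ∧ g.hom.baseChange B p = ψ.app (pt B) ξ) ∧
      (∀ (B' : Alg A) (p : B' ⊗[A] P), α.hom.baseChange B' p = 0 →
        ∃ ξ' : F.obj (pt B'), ψ.app (pt B') ξ' = g.hom.baseChange B' p) := by
  obtain ⟨L, ψL, hL, η, hη⟩ := exists_linAdequate_hits F hF B ξ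
  obtain ⟨P, P', α, h1, h2, h3, h4, ⟨e⟩⟩ := hL
  obtain ⟨g, hg⟩ := exists_extension P P' M α (e.inv ≫ ψL ≫ ψ)
  refine ⟨P, P', α, g, ⟨(kernel.ι ((underline A).map α)).app (pt B) (e.hom.app (pt B) η), ?_, ?_⟩, ?_⟩
  · exact (PshMod.kernel_ι_exact ((underline A).map α) (pt B) _).2 ⟨_, rfl⟩
  · have : g.hom.baseChange B ((kernel.ι ((underline A).map α)).app (pt B) (e.hom.app (pt B) η)) =
        (kernel.ι ((underline A).map α) ≫ (underline A).map g).app (pt B) (e.hom.app (pt B) η) := rfl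
    rw [this, hg, PshMod.comp_app_apply, PshMod.comp_app_apply, PshMod.hom_inv_app_apply, hη]
  · intro B' p hp
    obtain ⟨η', hη'⟩ := (PshMod.kernel_ι_exact ((underline A).map α) (pt B') p).1 hp
    refine ⟨ψL.app (pt B') (e.inv.app (pt B') η'), ?_⟩
    have : g.hom.baseChange B' p =
        (kernel.ι ((underline A).map α) ≫ (underline A).map g).app (pt B') η' := by
      rw [PshMod.comp_app_apply, hη']; rfl
    rw [this, hg]
    rfl

/-- Key lemma: the pointwise image of a morphism `F ⟶ underline M`, `F` adequate, is the pointwise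
kernel of `underline κ` for some module map `κ : M ⟶ K`. -/
theorem exists_kappa (F : MVF A) (hF : adequate A F) (M : ModuleCat.{u + 1} A)
    (ψ : F ⟶ (underline A).obj M) :
    ∃ (K : ModuleCat.{u + 1} A) (κ : M ⟶ K), ∀ B : Alg A,
      Function.Exact (ψ.app (pt B)) (((underline A).map κ).app (pt B)) := by
  classical
  let ι : Type (u + 1) := Σ B : Alg A, F.obj (pt B)
  choose P P' α g h₁ h₂ using fun idx : ι => exists_data F hF M ψ idx.1 idx.2
  let α' : ∀ i : ι, (P i : Type (u + 1)) →ₗ[A] (P' i : Type (u + 1)) := fun i => (α i).hom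
  let g' : ∀ i : ι, (P i : Type (u + 1)) →ₗ[A] (M : Type (u + 1)) := fun i => (g i).hom
  refine ⟨ModuleCat.of A (AdeqK.K α' g'), ModuleCat.ofHom (AdeqK.κ α' g'), fun B x => ?_⟩
  show (AdeqK.κ α' g').baseChange B x = 0 ↔ _
  constructor
  · intro hx
    obtain ⟨s, p, hp, rfl⟩ := AdeqK.exists_of_κ_baseChange_eq_zero α' g' B x hx
    have : ∀ i ∈ s, ∃ ξ' : F.obj (pt B), ψ.app (pt B) ξ' = (g' i).baseChange B (p i) :=
      fun i hi => h₂ i B (p i) (hp i hi)
    choose! ξ' hξ' using this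
    refine ⟨∑ i ∈ s, ξ' i, ?_⟩
    rw [map_sum]
    exact Finset.sum_congr rfl hξ'
  · rintro ⟨ξ, rfl⟩
    obtain ⟨p, hp1, hp2⟩ := h₁ ⟨B, ξ⟩
    rw [← hp2]
    exact AdeqK.κ_baseChange_g_eq_zero α' g' B ⟨B, ξ⟩ p hp1

end Groth.Agent.Lib.T2H8.AdeqA
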