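import Mathlib
import Groth.Agent.Lib.T2H8AdeqA

/-!
# Kernels and cokernels of morphisms of adequate functors are adequate
-/

set_option autoImplicit false
universe u
open CategoryTheory Limits Opposite TensorProduct

namespace Groth.Agent.Lib.T2H8.AdeqA

open Adeq Groth.Agent.Helper13Adeq

variable {A : Type u} [CommRing A]

theorem adequate_cokernel {F G : MVF A} (φ : F ⟶ G) (hF : adequate A F) (hG : adequate A G) :
    adequate A (cokernel φ) := by
  obtain ⟨M, N, ν, j, hj, -⟩ := (adequate_iff G).1 hG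
  obtain ⟨K₁, κ₁, h₁⟩ := exists_kappa F hF M (φ ≫ j)
  have w : φ ≫ j ≫ (underline A).map κ₁ = 0 := by
    ext X x
    exact (h₁ X.unop.unop _).2 ⟨x, rfl⟩
  let c : cokernel φ ⟶ (underline A).obj K₁ := cokernel.desc φ (j ≫ (underline A).map κ₁) w
  have hc : ∀ (B : Alg A) (z : G.obj (pt B)),
      c.app (pt B) ((cokernel.π φ).app (pt B) z) =
        ((underline A).map κ₁).app (pt B) (j.app (pt B) z) := by
    intro B z
    have : cokernel.π φ ≫ c = j ≫ (underline A).map κ₁ := cokernel.π_desc _ _ _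
    rw [← PshMod.comp_app_apply, this]; rfl
  obtain ⟨K₂, κ₂, h₂⟩ := exists_kappa G hG K₁ (j ≫ (underline A).map κ₁)
  refine (adequate_iff _).2 ⟨K₁, K₂, κ₂, c, fun B => ?_, fun B y => ?_⟩
  · rw [injective_iff_map_eq_zero]
    intro y hy
    obtain ⟨z, rfl⟩ := PshMod.cokernel_π_surjective φ (pt B) y
    rw [hc] at hy
    obtain ⟨x, hx⟩ := (h₁ B _).1 hy
    have hz : z = φ.app (pt B) x := by
      apply hj B
      rw [← hx]; rfl
    exact (PshMod.cokernel_π_exact φ (pt B) z).2 ⟨x, hz.symm⟩
  · rw [h₂ B y]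
    constructor
    · rintro ⟨z, rfl⟩
      exact ⟨(cokernel.π φ).app (pt B) z, hc B z⟩
    · rintro ⟨y', rfl⟩
      obtain ⟨z, rfl⟩ := PshMod.cokernel_π_surjective φ (pt B) y'
      exact ⟨z, (hc B z).symm⟩

section prod

variable {M M' : Type*} [AddCommGroup M] [Module A M] [AddCommGroup M'] [Module A M']
  (B : Type*) [CommRing B] [Algebra A B]

theorem baseChange_comp_apply {M₁ M₂ M₃ : Type*} [AddCommGroup M₁] [Module A M₁] [AddCommGroup M₂]
    [Module A M₂] [AddCommGroup M₃] [Module A M₃] (f : M₂ →ₗ[A] M₃) (g : M₁ →ₗ[A] M₂)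
    (x : B ⊗[A] M₁) : f.baseChange B (g.baseChange B x) = (f ∘ₗ g).baseChange B x := by
  rw [LinearMap.baseChange_comp]; rfl

theorem eq_zero_of_fst_snd (z : B ⊗[A] (M × M'))
    (h1 : (LinearMap.fst A M M').baseChange B z = 0)
    (h2 : (LinearMap.snd A M M').baseChange B z = 0) : z = 0 := by
  have e : (LinearMap.inl A M M') ∘ₗ (LinearMap.fst A M M') +
      (LinearMap.inr A M M') ∘ₗ (LinearMap.snd A M M') = LinearMap.id := by
    ext <;> simp
  have : z = (LinearMap.id : M × M' →ₗ[A] M × M').baseChange B z := by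
    rw [LinearMap.baseChange_id]; rfl
  rw [this, ← e, LinearMap.baseChange_add, LinearMap.add_apply, ← baseChange_comp_apply,
    ← baseChange_comp_apply, h1, h2, map_zero, map_zero, add_zero]

end prod

theorem adequate_kernel {F G : MVF A} (φ : F ⟶ G) (hF : adequate A F) (hG : adequate A G) :
    adequate A (kernel φ) := by
  obtain ⟨M, N, ν, i, hi, -⟩ := (adequate_iff F).1 hF
  obtain ⟨M', N', ν', j, hj, -⟩ := (adequate_iff G).1 hG
  let inl : M ⟶ ModuleCat.of A (M × M') := ModuleCat.ofHom (LinearMap.inl A M M')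
  let inr : M' ⟶ ModuleCat.of A (M × M') := ModuleCat.ofHom (LinearMap.inr A M M')
  let ψ : F ⟶ (underline A).obj (ModuleCat.of A (M × M')) :=
    i ≫ (underline A).map inl + (φ ≫ j) ≫ (underline A).map inr
  have hψ : ∀ (B : Alg A) (ξ : F.obj (pt B)), ψ.app (pt B) ξ =
      (LinearMap.inl A M M').baseChange B (i.app (pt B) ξ) +
        (LinearMap.inr A M M').baseChange B (j.app (pt B) (φ.app (pt B) ξ)) := fun B ξ => rfl
  have hfst : ∀ (B : Alg A) (ξ : F.obj (pt B)),
      (LinearMap.fst A M M').baseChange B (ψ.app (pt B) ξ) = i.app (pt B) ξ := by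
    intro B ξ
    rw [hψ, map_add, baseChange_comp_apply, baseChange_comp_apply]
    have e1 : (LinearMap.fst A M M') ∘ₗ (LinearMap.inl A M M') = LinearMap.id := by ext; simp
    have e2 : (LinearMap.fst A M M') ∘ₗ (LinearMap.inr A M M') = 0 := by ext; simp
    rw [e1, e2, LinearMap.baseChange_id, LinearMap.baseChange_zero, LinearMap.zero_apply, add_zero]
    rfl
  have hsnd : ∀ (B : Alg A) (ξ : F.obj (pt B)),
      (LinearMap.snd A M M').baseChange B (ψ.app (pt B) ξ) = j.app (pt B) (φ.app (pt B) ξ) := by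
    intro B ξ
    rw [hψ, map_add, baseChange_comp_apply, baseChange_comp_apply]
    have e1 : (LinearMap.snd A M M') ∘ₗ (LinearMap.inl A M M') = 0 := by ext; simp
    have e2 : (LinearMap.snd A M M') ∘ₗ (LinearMap.inr A M M') = LinearMap.id := by ext; simp
    rw [e1, e2, LinearMap.baseChange_id, LinearMap.baseChange_zero, LinearMap.zero_apply, zero_add]
    rfl
  obtain ⟨K, κ, hκ⟩ := exists_kappa F hF _ ψ
  let κ' : ModuleCat.of A (M × M') ⟶ ModuleCat.of A (K × M') :=
    ModuleCat.ofHom (LinearMap.prod κ.hom (LinearMap.snd A M M'))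
  have hκ'1 : ∀ (B : Alg A) (x : B ⊗[A] (M × M')),
      (LinearMap.fst A K M').baseChange B (((underline A).map κ').app (pt B) x) =
        ((underline A).map κ).app (pt B) x := by
    intro B x
    show (LinearMap.fst A K M').baseChange B
      ((LinearMap.prod κ.hom (LinearMap.snd A M M')).baseChange B x) = κ.hom.baseChange B x
    rw [baseChange_comp_apply]
    rfl
  have hκ'2 : ∀ (B : Alg A) (x : B ⊗[A] (M × M')),
      (LinearMap.snd A K M').baseChange B (((underline A).map κ').app (pt B) x) =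
        (LinearMap.snd A M M').baseChange B x := by
    intro B x
    show (LinearMap.snd A K M').baseChange B
      ((LinearMap.prod κ.hom (LinearMap.snd A M M')).baseChange B x) = _
    rw [baseChange_comp_apply]
    rfl
  refine (adequate_iff _).2 ⟨_, _, κ', kernel.ι φ ≫ ψ, fun B => ?_, fun B x => ?_⟩
  · rw [injective_iff_map_eq_zero]
    intro ζ hζ
    rw [PshMod.comp_app_apply] at hζ
    have h1 : i.app (pt B) ((kernel.ι φ).app (pt B) ζ) = 0 :=
      (hfst B _).symm.trans ((congrArg ((LinearMap.fst A M M').baseChange B) hζ).trans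
        (map_zero ((LinearMap.fst A M M').baseChange B)))
    have h2 : (kernel.ι φ).app (pt B) ζ = 0 := by
      apply hi B
      rw [h1]; exact (map_zero (i.app (pt B)).hom).symm
    apply PshMod.kernel_ι_injective φ (pt B)
    rw [h2]; exact (map_zero ((kernel.ι φ).app (pt B)).hom).symm
  · constructor
    · intro hx
      have hx1 : ((underline A).map κ).app (pt B) x = 0 :=
        (hκ'1 B x).symm.trans ((congrArg ((LinearMap.fst A K M').baseChange B) hx).trans
          (map_zero ((LinearMap.fst A K M').baseChange B)))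
      obtain ⟨ξ, rfl⟩ := (hκ B x).1 hx1
      have hx2 : j.app (pt B) (φ.app (pt B) ξ) = 0 :=
        (hsnd B ξ).symm.trans ((hκ'2 B _).symm.trans
          ((congrArg ((LinearMap.snd A K M').baseChange B) hx).trans
            (map_zero ((LinearMap.snd A K M').baseChange B))))
      have hx3 : φ.app (pt B) ξ = 0 := by
        apply hj B
        rw [hx2]; exact (map_zero (j.app (pt B)).hom).symm
      obtain ⟨ζ, rfl⟩ := (PshMod.kernel_ι_exact φ (pt B) ξ).1 hx3
      exact ⟨ζ, rfl⟩
    · rintro ⟨ζ, rfl⟩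
      rw [PshMod.comp_app_apply]
      set ξ := (kernel.ι φ).app (pt B) ζ with hξ
      have hφ : φ.app (pt B) ξ = 0 := (PshMod.kernel_ι_exact φ (pt B) ξ).2 ⟨ζ, rfl⟩
      apply eq_zero_of_fst_snd
      · rw [hκ'1]
        exact (hκ B _).2 ⟨ξ, rfl⟩
      · rw [hκ'2, hsnd, hφ]
        exact map_zero (j.app (pt B)).hom

end Groth.Agent.Lib.T2H8.AdeqA
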