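import Mathlib
import Groth.Agent.Lib.T2H8AdeqKerCoker

set_option autoImplicit false
universe u
open CategoryTheory Limits Opposite TensorProduct DirectSum
open Adeq Groth.Agent.Helper13Adeq

namespace Groth.Agent.Lib.T2H8.AdeqColim
variable {A : Type u} [CommRing A] {ι : Type (u + 1)}

theorem exists_finset_sum (L : ι → MVF A) (B : Alg A) (y : (∐ L).obj (pt B)) :
    ∃ (s : Finset ι) (d : ∀ j, (L j).obj (pt B)),
      y = ∑ j ∈ s, (Sigma.ι L j).app (pt B) (d j) := by
  classical
  let ev := PresheafOfModules.evaluation.{u + 1} (ringOf A) (pt B)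
  have : PreservesColimitsOfShape (Discrete ι) ev :=
    PresheafOfModules.evaluation_preservesColimitsOfShape _ _ _
  have hc : IsColimit (ev.mapCocone (colimit.cocone (Discrete.functor L))) :=
    isColimitOfPreserves ev (colimit.isColimit _)
  let T : Submodule B ((∐ L).obj (pt B)) := ⨆ j, LinearMap.range ((Sigma.ι L j).app (pt B)).hom
  have hT : T = ⊤ := by
    by_contra hne
    let q : (∐ L).obj (pt B) ⟶ ModuleCat.of B (((∐ L).obj (pt B)) ⧸ T) := ModuleCat.ofHom T.mkQ
    have h0 : q = 0 := by
      apply hc.hom_ext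
      rintro ⟨j⟩
      ext x
      show T.mkQ ((Sigma.ι L j).app (pt B) x) = 0
      rw [Submodule.mkQ_apply, Submodule.Quotient.mk_eq_zero]
      exact Submodule.mem_iSup_of_mem j ⟨x, rfl⟩
    apply hne
    rw [eq_top_iff]
    intro z _
    have : T.mkQ z = 0 := by
      have := congrArg (fun f => f.hom z) h0
      exact this
    rwa [Submodule.mkQ_apply, Submodule.Quotient.mk_eq_zero] at this
  have hy : y ∈ T := by rw [hT]; trivial
  obtain ⟨s, hs⟩ := (Submodule.mem_iSup_iff_exists_finset).1 hy
  obtain ⟨μ, hμ⟩ := (Submodule.mem_iSup_finset_iff_exists_sum _ _).1 hs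
  choose d hd using fun j => (μ j).2
  refine ⟨s, d, ?_⟩
  rw [← hμ]
  exact Finset.sum_congr rfl (fun j _ => (hd j).symm)


open Groth.Agent.Lib.T2H8.AdeqA in
theorem adequate_sigma (L : ι → MVF A) (hL : ∀ j, adequate A (L j)) : adequate A (∐ L) := by
  classical
  choose M N ν i hi hex using fun j => (adequate_iff (L j)).1 (hL j)
  let Mt : ModuleCat.{u + 1} A := ModuleCat.of A (⨁ j, M j)
  let Nt : ModuleCat.{u + 1} A := ModuleCat.of A (⨁ j, N j)
  let νt : Mt ⟶ Nt := ModuleCat.ofHom (DirectSum.lmap (fun j => (ν j).hom))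
  let lofM : ∀ j, M j ⟶ Mt := fun j => ModuleCat.ofHom (DirectSum.lof A ι (fun j => M j) j)
  let it : ∐ L ⟶ (underline A).obj Mt := Sigma.desc (fun j => i j ≫ (underline A).map (lofM j))
  let iel : ∀ (j : ι) (B : Alg A), (L j).obj (pt B) → (B ⊗[A] (M j : Type (u + 1))) :=
    fun j B d => (i j).app (pt B) d
  have hit : ∀ (B : Alg A) (j : ι) (d : (L j).obj (pt B)),
      it.app (pt B) ((Sigma.ι L j).app (pt B) d) =
        (DirectSum.lof A ι (fun j => M j) j).baseChange B (iel j B d) := by
    intro B j d
    rw [← PshMod.comp_app_apply, Sigma.ι_desc]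
    rfl
  have hit_sum : ∀ (B : Alg A) (s : Finset ι) (d : ∀ j, (L j).obj (pt B)),
      it.app (pt B) (∑ j ∈ s, (Sigma.ι L j).app (pt B) (d j)) =
        ∑ j ∈ s, (DirectSum.lof A ι (fun j => M j) j).baseChange B (iel j B (d j)) := by
    intro B s d
    rw [map_sum]
    exact Finset.sum_congr rfl (fun j _ => hit B j (d j))
  refine (adequate_iff _).2 ⟨Mt, Nt, νt, it, fun B => ?_, fun B z => ?_⟩
  · rw [injective_iff_map_eq_zero]
    intro y hy
    obtain ⟨s, d, rfl⟩ := exists_finset_sum L B y
    rw [hit_sum] at hy
    have hy' : (∑ j ∈ s, (DirectSum.lof A ι (fun j => M j) j).baseChange B (iel j B (d j)) :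
        B ⊗[A] (⨁ j, M j)) = 0 := hy
    apply Finset.sum_eq_zero
    intro k hk
    have h1 := congrArg ((DirectSum.component A ι (fun j => M j) k).baseChange B) hy'
    rw [map_sum, map_zero, Finset.sum_eq_single k] at h1
    · rw [baseChange_comp_apply, DirectSum.component_comp_lof_same, LinearMap.baseChange_id] at h1
      have h2 : (i k).app (pt B) (d k) = 0 := h1
      have h3 : d k = 0 := by
        apply hi k B
        rw [h2]; exact (map_zero ((i k).app (pt B)).hom).symm
      rw [h3]; exact map_zero ((Sigma.ι L k).app (pt B)).hom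
    · intro j _ hjk
      rw [baseChange_comp_apply, DirectSum.component_comp_lof, dif_neg hjk,
        LinearMap.baseChange_zero, LinearMap.zero_apply]
    · intro hk'; exact absurd hk hk'
  · show (DirectSum.lmap (fun j => (ν j).hom)).baseChange B z = 0 ↔ _
    constructor
    · intro hz
      obtain ⟨s, hs⟩ := Groth.Agent.Lib.T2H8.AdeqK.exists_finset_sum_eq (A := A)
        (P := fun j => (M j : Type (u + 1))) B z
      have hs' := hs s (Finset.Subset.refl _)
      have hzj : ∀ j, ∃ dj : (L j).obj (pt B), iel j B dj =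
          (DirectSum.component A ι (fun j => M j) j).baseChange B z := by
        intro j
        apply (hex j B _).1
        show (ν j).hom.baseChange B ((DirectSum.component A ι (fun j => M j) j).baseChange B z) = 0
        rw [baseChange_comp_apply]
        have e : (ν j).hom ∘ₗ DirectSum.component A ι (fun j => M j) j =
            DirectSum.component A ι (fun j => N j) j ∘ₗ DirectSum.lmap (fun j => (ν j).hom) :=
          LinearMap.ext fun q => rfl
        rw [e, ← baseChange_comp_apply, hz, map_zero]
      choose d hd using hzj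
      refine ⟨∑ j ∈ s, (Sigma.ι L j).app (pt B) (d j), ?_⟩
      rw [hit_sum]
      rw [hs']
      exact Finset.sum_congr rfl (fun j _ => by rw [hd j])
    · rintro ⟨y, rfl⟩
      obtain ⟨s, d, rfl⟩ := exists_finset_sum L B y
      rw [hit_sum, map_sum]
      apply Finset.sum_eq_zero
      intro j _
      rw [baseChange_comp_apply]
      have e : DirectSum.lmap (fun j => (ν j).hom) ∘ₗ DirectSum.lof A ι (fun j => M j) j =
          DirectSum.lof A ι (fun j => N j) j ∘ₗ (ν j).hom := by
        ext x; simp
      rw [e, ← baseChange_comp_apply]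
      have : (ν j).hom.baseChange B (iel j B (d j)) = 0 :=
        (hex j B _).2 ⟨d j, rfl⟩
      rw [this, map_zero]


theorem adequate_coequalizer {F G : MVF A} (s t : F ⟶ G) (hF : adequate A F) (hG : adequate A G) :
    adequate A (coequalizer s t) := by
  have h1 : adequate A (cokernel (s - t)) :=
    Groth.Agent.Lib.T2H8.AdeqA.adequate_cokernel (s - t) hF hG
  let e : coequalizer s t ≅ cokernel (s - t) :=
    IsColimit.coconePointUniqueUpToIso (colimit.isColimit (parallelPair s t))
      (Preadditive.isColimitCoforkOfCokernelCofork (cokernelIsCokernel (s - t)))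
  exact (adequate A).prop_of_iso e.symm h1

theorem adequate_colimit {J : Type (u + 1)} [SmallCategory J] (D : J ⥤ MVF A)
    (hD : ∀ j, adequate A (D.obj j)) : adequate A (colimit D) := by
  let cc := colimitCoconeOfCoequalizerAndCoproduct D
  have h1 : adequate A cc.cocone.pt := by
    apply adequate_coequalizer
    · exact adequate_sigma _ (fun f => hD f.1.1)
    · exact adequate_sigma _ hD
  exact (adequate A).prop_of_iso (colimit.isoColimitCocone cc).symm h1

end Groth.Agent.Lib.T2H8.AdeqColim
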