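import Mathlib
import Groth.Agent.Lib.T2H8AdeqColim
import Groth.Agent.Lib.Helper23PshModGroth

set_option autoImplicit false
universe u
open CategoryTheory Limits Opposite
open Adeq Groth.Agent.Helper13Adeq

namespace Groth.Agent.Lib.T2H8.AdeqAbelian
variable {A : Type u} [CommRing A]

theorem adequate_underline (M : ModuleCat.{u + 1} A) : adequate A ((underline A).obj M) := by
  refine ⟨M, M, 0, ⟨?_⟩⟩
  exact ((kernelIsoOfEq ((underline A).map_zero M M)) ≪≫ kernelZeroIsoSource).symm

theorem adequate_of_isZero {Z : MVF A} (hZ : IsZero Z) : adequate A Z := by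
  have h := adequate_underline (A := A) (ModuleCat.of A PUnit.{u + 2})
  have h2 := Groth.Agent.Lib.T2H8.AdeqA.adequate_kernel (𝟙 ((underline A).obj (ModuleCat.of A PUnit.{u + 2}))) h h
  have hz : IsZero (kernel (𝟙 ((underline A).obj (ModuleCat.of A PUnit.{u + 2})))) :=
    isZero_kernel_of_mono _
  exact (adequate A).prop_of_iso (hz.iso hZ) h2

instance : (adequate A).ContainsZero where
  exists_zero := ⟨kernel (𝟙 ((underline A).obj (ModuleCat.of A PUnit.{u + 2}))),
    isZero_kernel_of_mono _, adequate_of_isZero (isZero_kernel_of_mono _)⟩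

instance : (adequate A).IsClosedUnderKernels where
  kernels_le := by
    rintro _ ⟨f, k, hk, ⟨hX, hY⟩⟩
    exact (adequate A).prop_of_iso (IsLimit.conePointUniqueUpToIso (kernelIsKernel f) hk)
      (Groth.Agent.Lib.T2H8.AdeqA.adequate_kernel f hX hY)

instance : (adequate A).IsClosedUnderCokernels where
  cokernels_le := by
    rintro _ ⟨f, k, hk, ⟨hX, hY⟩⟩
    exact (adequate A).prop_of_iso (IsColimit.coconePointUniqueUpToIso (cokernelIsCokernel f) hk)
      (Groth.Agent.Lib.T2H8.AdeqA.adequate_cokernel f hX hY)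

instance (J : Type (u + 1)) [SmallCategory J] : (adequate A).IsClosedUnderColimitsOfShape J :=
  ObjectProperty.IsClosedUnderColimitsOfShape.mk' (by
    rintro _ ⟨F, hF⟩
    exact Groth.Agent.Lib.T2H8.AdeqColim.adequate_colimit F hF)


instance : (adequate A).IsClosedUnderFiniteProducts :=
  ObjectProperty.IsClosedUnderFiniteProducts.of_isClosedUnderLimitsOfShape (fun (J : Type (u + 1)) hfin =>
    ObjectProperty.IsClosedUnderLimitsOfShape.mk' (J := Discrete J) (by
      rintro _ ⟨F, hF⟩
      let f : J → MVF A := F.obj ∘ Discrete.mk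
      have h1 : adequate A (∐ f) :=
        Groth.Agent.Lib.T2H8.AdeqColim.adequate_sigma f (fun j => hF ⟨j⟩)
      have : Finite J := hfin
      have : HasFiniteBiproducts (MVF A) := Abelian.hasFiniteBiproducts
      have : HasBiproductsOfShape J (MVF A) := hasBiproductsOfShape_finite (MVF A)
      let e : limit F ≅ ∐ f :=
        HasLimit.isoOfNatIso (Discrete.natIsoFunctor) ≪≫ (biproduct.isoProduct f).symm ≪≫
          biproduct.isoCoproduct f
      exact (adequate A).prop_of_iso e.symm h1))

noncomputable instance : Abelian (Adequate A) := inferInstance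


instance : (adequate A).ι.PreservesMonomorphisms :=
  (adequate A).preservesMonomorphisms_ι_of_isNormalEpiCategory

/-- comparison of mono-over categories -/
noncomputable def Φ (X : Adequate A) : MonoOver X ⥤ MonoOver ((adequate A).ι.obj X) :=
  MonoOver.lift (Over.post (adequate A).ι) (fun f => by
    show Mono ((adequate A).ι.map f.arrow)
    infer_instance)

instance (X : Adequate A) : (Φ X).Faithful := by unfold Φ MonoOver.lift; infer_instance
instance (X : Adequate A) : (Φ X).Full := by unfold Φ MonoOver.lift; infer_instance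

instance : WellPowered.{u + 1} (MVF A) :=
  have := Groth.Agent.Lib.Helper23PshModGroth.isGrothendieckAbelian (ringOf A)
  inferInstance

instance : WellPowered.{u + 1} (Adequate A) :=
  wellPowered_of_essentiallySmall_monoOver (fun X => essentiallySmall_of_fully_faithful (Φ X))

instance : WellPowered.{u + 1} (Adequate A)ᵒᵖ := inferInstance


/-- index type for the standard linearly adequate functors -/
abbrev Idx (A : Type u) [CommRing A] : Type u := Σ (n m : ℕ), ((Fin n → A) →ₗ[A] (Fin m → A))

/-- the standard module map -/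
noncomputable def stdMap (i : Idx A) :
    ModuleCat.of A (ULift.{u + 1} (Fin i.1 → A)) ⟶ ModuleCat.of A (ULift.{u + 1} (Fin i.2.1 → A)) :=
  ModuleCat.ofHom (ULift.moduleEquiv.symm.toLinearMap ∘ₗ i.2.2 ∘ₗ ULift.moduleEquiv.toLinearMap)

/-- the standard linearly adequate functors -/
noncomputable def stdObj (i : Idx A) : MVF A := kernel ((underline A).map (stdMap i))

theorem adequate_stdObj (i : Idx A) : adequate A (stdObj i) := ⟨_, _, stdMap i, ⟨Iso.refl _⟩⟩

theorem exists_iso_stdObj (L : MVF A) (hL : linAdequate A L) : ∃ i : Idx A, Nonempty (L ≅ stdObj i) := by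
  obtain ⟨P, P', α, h1, h2, h3, h4, ⟨e⟩⟩ := hL
  classical
  let n := Fintype.card (Module.Free.ChooseBasisIndex A P)
  let m := Fintype.card (Module.Free.ChooseBasisIndex A P')
  let eP : P ≃ₗ[A] (Fin n → A) :=
    ((Module.Free.chooseBasis A P).reindex (Fintype.equivFin _)).equivFun
  let eP' : P' ≃ₗ[A] (Fin m → A) :=
    ((Module.Free.chooseBasis A P').reindex (Fintype.equivFin _)).equivFun
  let l : (Fin n → A) →ₗ[A] (Fin m → A) := eP'.toLinearMap ∘ₗ α.hom ∘ₗ eP.symm.toLinearMap
  let i : Idx A := ⟨n, m, l⟩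
  let EP : P ≅ ModuleCat.of A (ULift.{u + 1} (Fin n → A)) :=
    (eP.trans ULift.moduleEquiv.symm).toModuleIso
  let EP' : P' ≅ ModuleCat.of A (ULift.{u + 1} (Fin m → A)) :=
    (eP'.trans ULift.moduleEquiv.symm).toModuleIso
  have comm : α ≫ EP'.hom = EP.hom ≫ stdMap i := by
    ext x
    simp [EP, EP', stdMap, i, l]
  refine ⟨i, ⟨e ≪≫ kernel.mapIso _ _ ((underline A).mapIso EP) ((underline A).mapIso EP') ?_⟩⟩
  simp only [Functor.mapIso_hom, ← Functor.map_comp, comm]

/-- the standard objects in the category of adequate functors -/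
noncomputable def stdAd (i : Idx A) : Adequate A := ⟨stdObj i, adequate_stdObj i⟩

theorem isSeparating_std : (ObjectProperty.ofObj (stdAd (A := A))).IsSeparating := by
  intro X Y f g h
  apply ObjectProperty.hom_ext
  ext Z ξ
  obtain ⟨L, ψ, hL, η, hη⟩ := exists_linAdequate_hits X.obj X.property Z.unop.unop ξ
  obtain ⟨i, ⟨θ⟩⟩ := exists_iso_stdObj L hL
  have h1 := h (stdAd i) ⟨i⟩ (ObjectProperty.homMk (θ.inv ≫ ψ))
  have h2 := congrArg (fun k => k.hom.app Z (θ.hom.app Z η)) h1
  simp only [ObjectProperty.FullSubcategory.comp_hom, ObjectProperty.homMk_hom] at h2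
  have h3 : (θ.inv ≫ ψ).app Z (θ.hom.app Z η) = ξ := by
    rw [PshMod.comp_app_apply, PshMod.hom_inv_app_apply]; exact hη
  have h4 : ∀ k : X.obj ⟶ Y.obj, ((θ.inv ≫ ψ) ≫ k).app Z (θ.hom.app Z η) = k.app Z ξ := by
    intro k
    rw [PshMod.comp_app_apply, h3]
  exact (h4 f.hom).symm.trans (h2.trans (h4 g.hom))


instance : HasColimits (Adequate A) := ⟨fun J _ => inferInstance⟩

noncomputable instance : PreservesColimits (adequate A).ι := ⟨fun {J} _ => inferInstance⟩

theorem isLeftAdjoint_ι : (adequate A).ι.IsLeftAdjoint :=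
  isLeftAdjoint_of_preservesColimits_of_isSeparating (isSeparating_std (A := A)) _

end Groth.Agent.Lib.T2H8.AdeqAbelian
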