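import Mathlib
import Groth.Agent.Lib.Helper13AdeqD

set_option autoImplicit false
universe u v w
open TensorProduct Polynomial CategoryTheory Limits Opposite

namespace Groth.Agent.Lib.T2H8.AdeqCocycle
open Groth.Agent.Helper13Adeq Groth.Agent.Helper13Adeq.Univ

section generic
variable (A : Type u) [CommRing A] {S : Type w} [CommRing S] [Algebra A S] (σ : S →ₐ[A] S[X])

/-- constants -/
noncomputable abbrev fC : S →ₐ[A] S[X] := Polynomial.CAlgHom (R := A) (A := S)

/-- `X ↦ C X * X` -/
noncomputable def mu : S[X] →ₐ[A] S[X][X] :=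
  (Polynomial.aeval (R := S) (C X * X : S[X][X])).restrictScalars A

variable {A} in
/-- apply `σ` on coefficients -/
noncomputable def msig : S[X] →ₐ[A] S[X][X] := Polynomial.mapAlgHom σ

/-- outer constants -/
noncomputable abbrev Co : S[X] →ₐ[A] S[X][X] := Polynomial.CAlgHom (R := A) (A := S[X])

theorem I2 : (msig σ).comp (fC A) = (Co A).comp σ := by
  ext r
  simp [msig]

theorem I3 : (mu A).comp (fC A (S := S)) = (Co A).comp (fC A) := by
  ext r
  simp [mu]

theorem mu_X : mu A (X : S[X]) = C X * X := by simp [mu]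

theorem msig_X : msig σ (X : S[X]) = X := by simp [msig]

/-- coefficient of `X^1`, as an `A`-linear map -/
noncomputable def cf1 : S[X] →ₗ[A] S := (Polynomial.lcoeff S 1).restrictScalars A

@[simp] theorem cf1_apply (p : S[X]) : cf1 A p = p.coeff 1 := rfl

theorem cf1_X_smul_C {M : Type v} [AddCommGroup M] [Module A M] (w : S ⊗[A] M) :
    (cf1 A).rTensor M ((Polynomial.X : S[X]) •
      ((fC A (S := S)).toLinearMap.rTensor M w)) = w := by
  induction w using TensorProduct.induction_on with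
  | zero => simp
  | tmul r m =>
    rw [LinearMap.rTensor_tmul, TensorProduct.smul_tmul', LinearMap.rTensor_tmul]
    congr 1
    change (Polynomial.X * Polynomial.C r : S[X]).coeff 1 = r
    rw [Polynomial.coeff_X_mul, Polynomial.coeff_C_zero]
  | add x y hx hy => rw [map_add, smul_add, map_add, hx, hy]

theorem coeff_one_mu (p : S[X]) : (mu A p).coeff 1 = X * C (p.coeff 1) := by
  induction p using Polynomial.induction_on' with
  | add p q hp hq => rw [map_add, coeff_add, hp, hq, coeff_add, map_add, mul_add]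
  | monomial k r =>
    have h : mu A (monomial k r) = C (C r * X ^ k) * X ^ k := by
      simp only [mu, AlgHom.restrictScalars_apply, aeval_monomial]
      rw [Polynomial.algebraMap_apply, Polynomial.algebraMap_apply, Algebra.algebraMap_self_apply,
        C_mul, mul_assoc, mul_pow, C_pow]
    rw [h, coeff_C_mul_X_pow, coeff_monomial]
    by_cases hk : k = 1
    · subst hk
      rw [if_pos rfl, if_pos rfl, pow_one, mul_comm]
    · rw [if_neg (fun h => hk h.symm), if_neg hk, map_zero, mul_zero]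

theorem T1 {M : Type v} [AddCommGroup M] [Module A M] (w : S[X] ⊗[A] M) :
    (cf1 A).rTensor M ((mu A).toLinearMap.rTensor M w) =
      (Polynomial.X : S[X]) • (fC A).toLinearMap.rTensor M ((cf1 A).rTensor M w) := by
  induction w using TensorProduct.induction_on with
  | zero => simp
  | tmul p m =>
    rw [LinearMap.rTensor_tmul, LinearMap.rTensor_tmul, LinearMap.rTensor_tmul, LinearMap.rTensor_tmul,
      TensorProduct.smul_tmul']
    congr 1
    exact coeff_one_mu A p
  | add x y hx hy => simp only [map_add, smul_add, hx, hy]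

theorem T3 {M : Type v} [AddCommGroup M] [Module A M] (w : S[X] ⊗[A] M) :
    (cf1 A).rTensor M ((msig σ).toLinearMap.rTensor M w) =
      σ.toLinearMap.rTensor M ((cf1 A).rTensor M w) := by
  induction w using TensorProduct.induction_on with
  | zero => simp
  | tmul p m =>
    rw [LinearMap.rTensor_tmul, LinearMap.rTensor_tmul, LinearMap.rTensor_tmul, LinearMap.rTensor_tmul]
    congr 1
    change (Polynomial.map _ p).coeff 1 = σ (p.coeff 1)
    rw [Polynomial.coeff_map]
    rfl
  | add x y hx hy => simp only [map_add, hx, hy]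

end generic

variable {A : Type u} [CommRing A] {n m : ℕ} (a : Fin m → Fin n → A)

/-- two algebra maps out of `RU a` agreeing on the generators are equal -/
theorem RU_algHom_ext {B : Type w} [Semiring B] [Algebra A B] (f g : RU a →ₐ[A] B)
    (h : ∀ j, f (xb a j) = g (xb a j)) : f = g := by
  apply Ideal.Quotient.algHom_ext
  apply MvPolynomial.algHom_ext
  intro j
  exact h j

theorem sigma_xb (j : Fin n) : sigma a (xb a j) = X * C (xb a j) := by
  rw [sigma, classify_xb]

theorem I1 : (mu A).comp (sigma a) = (msig (sigma a)).comp (sigma a) := by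
  apply RU_algHom_ext
  intro j
  simp only [AlgHom.comp_apply, sigma_xb]
  simp [mu, msig, sigma_xb]
  rw [mul_assoc]

section lift
open Adeq
variable {A : Type u} [CommRing A]

theorem mapEl_sub (F : MVF A) {B B' : Alg A} (f : B ⟶ B') (x y : F.obj (pt B)) :
    mapEl F f (x - y) = mapEl F f x - mapEl F f y :=
  map_sub (F.map (ptHom f)).hom x y

theorem exists_homog_lift {S : Type u} [CommRing S] [Algebra A S] (σ : S →ₐ[A] S[X])
    (hσ : (mu A).comp σ = (msig σ).comp σ)
    (M : ModuleCat.{u+1} A) (G L : MVF A) (i : (underline A).obj M ⟶ G) (g : G ⟶ L)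
    (hi : ∀ B : Alg A, Function.Injective (i.app (pt B)))
    (hex : ∀ B : Alg A, Function.Exact (i.app (pt B)) (g.app (pt B)))
    (ηu : L.obj (pt (algOf A S)))
    (hηu : mapEl L (CommAlgCat.ofHom σ) ηu =
      ((X : S[X]) : algOf A S[X]) • mapEl L (CommAlgCat.ofHom (fC A)) ηu)
    (ξ : G.obj (pt (algOf A S))) (hξ : g.app _ ξ = ηu) :
    ∃ ξ' : G.obj (pt (algOf A S)), g.app _ ξ' = ηu ∧
      mapEl G (CommAlgCat.ofHom σ) ξ' =
        ((X : S[X]) : algOf A S[X]) • mapEl G (CommAlgCat.ofHom (fC A)) ξ' := by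
  let R : Alg A := algOf A S
  let T : Alg A := algOf A S[X]
  let T₂ : Alg A := algOf A S[X][X]
  let U : MVF A := (underline A).obj M
  let fσ : R ⟶ T := CommAlgCat.ofHom σ
  let fc : R ⟶ T := CommAlgCat.ofHom (fC A)
  let fμ : T ⟶ T₂ := CommAlgCat.ofHom (mu A)
  let fm : T ⟶ T₂ := CommAlgCat.ofHom (msig σ)
  let fo : T ⟶ T₂ := CommAlgCat.ofHom (Co A)
  have e1 : fσ ≫ fμ = fσ ≫ fm := by
    simp only [fσ, fμ, fm, ← CommAlgCat.ofHom_comp]
    rw [hσ]
  have e2 : fc ≫ fm = fσ ≫ fo := by
    simp only [fσ, fc, fo, fm, ← CommAlgCat.ofHom_comp]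
    rw [I2]
  have e3 : fc ≫ fμ = fc ≫ fo := by
    simp only [fμ, fc, fo, ← CommAlgCat.ofHom_comp]
    rw [I3]
  let tX : T := (X : S[X])
  let δ : G.obj (pt T) := mapEl G fσ ξ - tX • mapEl G fc ξ
  have gδ : g.app (pt T) δ = 0 := by
    simp only [δ, map_sub]
    rw [app_smul, app_mapEl, app_mapEl, hξ]
    exact sub_eq_zero.2 hηu
  obtain ⟨δ', hδ'⟩ := (hex T δ).1 gδ
  -- the cocycle identity
  have key : mapEl U fμ δ' = (X : S[X][X]) • mapEl U fo δ' + mapEl U fm δ' := by
    apply hi T₂
    have hμX : fμ.hom tX = (C X * X : S[X][X]) := mu_X A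
    have hmX : fm.hom tX = (X : S[X][X]) := msig_X A σ
    have hoX : fo.hom tX = (C X : S[X][X]) := rfl
    have hl : i.app (pt T₂) (mapEl U fμ δ') =
        mapEl G (fσ ≫ fμ) ξ - (C X * X : S[X][X]) • mapEl G (fc ≫ fμ) ξ := by
      rw [app_mapEl, hδ', mapEl_sub, mapEl_smul, ← mapEl_comp, ← mapEl_comp, hμX]
    have hr1 : i.app (pt T₂) (mapEl U fo δ') =
        mapEl G (fσ ≫ fo) ξ - (C X : S[X][X]) • mapEl G (fc ≫ fo) ξ := by
      rw [app_mapEl, hδ', mapEl_sub, mapEl_smul, ← mapEl_comp, ← mapEl_comp, hoX]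
    have hr2 : i.app (pt T₂) (mapEl U fm δ') =
        mapEl G (fσ ≫ fm) ξ - (X : S[X][X]) • mapEl G (fc ≫ fm) ξ := by
      rw [app_mapEl, hδ', mapEl_sub, mapEl_smul, ← mapEl_comp, ← mapEl_comp, hmX]
    rw [hl, map_add, app_smul, hr1, hr2, e1, e2, e3, smul_sub, smul_smul, mul_comm (X : S[X][X])]
    abel
  -- take the coefficient of `X^1`
  let d : S[X] ⊗[A] M := δ'
  have key1 : (mu A).toLinearMap.rTensor M d =
      (X : S[X][X]) • (Co A).toLinearMap.rTensor M d + (msig σ).toLinearMap.rTensor M d := key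
  let n₁ : S ⊗[A] M := (cf1 A).rTensor M d
  have key2 : (X : S[X]) • (fC A).toLinearMap.rTensor M n₁ = d + σ.toLinearMap.rTensor M n₁ := by
    have h := congrArg ((cf1 A (S := S[X])).rTensor M) key1
    rw [map_add, T1 A d, cf1_X_smul_C A d, T3 A σ d] at h
    exact h
  refine ⟨ξ + i.app (pt R) n₁, ?_, ?_⟩
  · rw [map_add, hξ, (hex R _).2 ⟨n₁, rfl⟩, add_zero]
  · have h1 : mapEl G fσ (i.app (pt R) n₁) = i.app (pt T) (σ.toLinearMap.rTensor M n₁) :=
      (app_mapEl i fσ n₁).symm
    have h2 : mapEl G fc (i.app (pt R) n₁) = i.app (pt T) ((fC A).toLinearMap.rTensor M n₁) :=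
      (app_mapEl i fc n₁).symm
    have h3 : mapEl G fσ ξ = tX • mapEl G fc ξ + i.app (pt T) δ' := by
      rw [hδ']
      simp only [δ]
      abel
    change mapEl G fσ (ξ + i.app (pt R) n₁) = tX • mapEl G fc (ξ + i.app (pt R) n₁)
    rw [mapEl_add, mapEl_add, h1, h2, h3, smul_add, ← app_smul]
    have h4 : i.app (pt T) (tX • (fC A).toLinearMap.rTensor M n₁) =
        i.app (pt T) δ' + i.app (pt T) (σ.toLinearMap.rTensor M n₁) := by
      rw [← map_add]
      exact congrArg (i.app (pt T)) key2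
    rw [add_assoc]
    exact congrArg (fun z => tX • mapEl G fc ξ + z) h4.symm

end lift

end Groth.Agent.Lib.T2H8.AdeqCocycle
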