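import Mathlib
import Groth.Agent.Lib.Helper13AdeqD
import Groth.Agent.Lib.T2H8AdeqCocycle

set_option autoImplicit false
universe u v w
open TensorProduct Polynomial CategoryTheory Limits Opposite

namespace Groth.Agent.Lib.T2H8.AdeqUniv
open Groth.Agent.Helper13Adeq Groth.Agent.Helper13Adeq.Univ Groth.Agent.Lib.T2H8.AdeqCocycle
open Module

section univ
variable {A : Type u} [CommRing A] {P : Type v} [AddCommGroup P] [Module A P]
  {P' : Type v} [AddCommGroup P'] [Module A P'] {n m : ℕ}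
  (eP : Basis (Fin n) A P) (eP' : Basis (Fin m) A P') (φ₀ : P →ₗ[A] P')

/-- the matrix of `φ₀` -/
noncomputable def mat : Fin m → Fin n → A := fun i j => eP'.repr (φ₀ (eP j)) i

/-- the universal element of the kernel -/
noncomputable def ξu : RU (mat eP eP' φ₀) ⊗[A] P := ∑ j, xb (mat eP eP' φ₀) j ⊗ₜ[A] eP j

theorem baseChange_ξu : φ₀.baseChange (RU (mat eP eP' φ₀)) (ξu eP eP' φ₀) = 0 := by
  rw [ξu, baseChange_sum_basis eP eP']
  refine Finset.sum_eq_zero (fun i _ => ?_)
  have h : ∑ j, eP'.repr (φ₀ (eP j)) i • xb (mat eP eP' φ₀) j = 0 := rel (mat eP eP' φ₀) i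
  rw [h, TensorProduct.zero_tmul]

theorem rTensor_baseChange {B : Type w} [Semiring B] [Algebra A B] {B' : Type w} [Semiring B']
    [Algebra A B'] (f : B →ₐ[A] B') (y : B ⊗[A] P) :
    φ₀.baseChange B' (f.toLinearMap.rTensor P y) = f.toLinearMap.rTensor P' (φ₀.baseChange B y) := by
  change (φ₀.lTensor B') (f.toLinearMap.rTensor P y) = f.toLinearMap.rTensor P' (φ₀.lTensor B y)
  rw [← LinearMap.comp_apply, ← LinearMap.comp_apply, LinearMap.lTensor_comp_rTensor,
    LinearMap.rTensor_comp_lTensor]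

theorem rTensor_ξu {B : Type w} [Semiring B] [Algebra A B] (f : RU (mat eP eP' φ₀) →ₐ[A] B) :
    f.toLinearMap.rTensor P (ξu eP eP' φ₀) = ∑ j, f (xb _ j) ⊗ₜ[A] eP j := by
  rw [ξu, map_sum]
  rfl

theorem sigma_ξu : (sigma (mat eP eP' φ₀)).toLinearMap.rTensor P (ξu eP eP' φ₀) =
    (X : (RU (mat eP eP' φ₀))[X]) • (fC A).toLinearMap.rTensor P (ξu eP eP' φ₀) := by
  have h1 := rTensor_ξu eP eP' φ₀ (sigma (mat eP eP' φ₀))
  refine h1.trans ?_
  rw [rTensor_ξu eP eP' φ₀ (fC A), Finset.smul_sum]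
  refine Finset.sum_congr rfl (fun j _ => ?_)
  rw [TensorProduct.smul_tmul', sigma_xb]
  rfl

theorem exists_classify {B : Type w} [CommRing B] [Algebra A B] (y : B ⊗[A] P)
    (hy : φ₀.baseChange B y = 0) :
    ∃ f : RU (mat eP eP' φ₀) →ₐ[A] B, f.toLinearMap.rTensor P (ξu eP eP' φ₀) = y := by
  obtain ⟨b, hb⟩ := exists_coords eP B y
  have hrel : ∀ i, ∑ j, mat eP eP' φ₀ i j • b j = 0 := by
    apply coords_eq_zero eP' B
    have := baseChange_sum_basis eP eP' B φ₀ b
    rw [← hb, hy] at this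
    exact this.symm
  refine ⟨classify _ b hrel, ?_⟩
  rw [rTensor_ξu, hb]
  refine Finset.sum_congr rfl (fun j _ => ?_)
  rw [classify_xb]

theorem classify_unique {B : Type w} [CommRing B] [Algebra A B]
    (f f' : RU (mat eP eP' φ₀) →ₐ[A] B)
    (h : f.toLinearMap.rTensor P (ξu eP eP' φ₀) = f'.toLinearMap.rTensor P (ξu eP eP' φ₀)) :
    f = f' := by
  apply RU_algHom_ext
  intro j
  rw [rTensor_ξu, rTensor_ξu, ← sub_eq_zero, ← Finset.sum_sub_distrib] at h
  simp_rw [← TensorProduct.sub_tmul] at h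
  have := coords_eq_zero eP B _ h j
  exact sub_eq_zero.1 this

end univ


section linear
open Adeq
variable {A : Type u} [CommRing A]

/-- a natural transformation of set-valued functors from a linearly adequate functor to
`underline M` which is homogeneous of degree one is induced by a linear map -/
theorem linear_of_homog {P P' M : Type (u + 1)} [AddCommGroup P] [Module A P] [AddCommGroup P']
    [Module A P'] [AddCommGroup M] [Module A M] [Module.Finite A P] [Module.Free A P]
    [Module.Finite A P'] [Module.Free A P'] (φ₀ : P →ₗ[A] P')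
    (φ : ∀ B : Alg A, (B ⊗[A] P) → (B ⊗[A] M))
    (hnat : ∀ {B B' : Alg A} (f : B ⟶ B') (y : B ⊗[A] P), φ₀.baseChange B y = 0 →
      φ B' (f.hom.toLinearMap.rTensor P y) = f.hom.toLinearMap.rTensor M (φ B y))
    (hhom : ∀ (B : Alg A) (b : B) (y : B ⊗[A] P), φ₀.baseChange B y = 0 →
      φ B (b • y) = b • φ B y) :
    ∃ g₀ : P →ₗ[A] M, ∀ (B : Alg A) (y : B ⊗[A] P), φ₀.baseChange B y = 0 →
      φ B y = g₀.baseChange B y := by
  classical
  rcases subsingleton_or_nontrivial A with hA | hA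
  · refine ⟨0, fun B y _ => ?_⟩
    have : Subsingleton M := Module.subsingleton A M
    exact Subsingleton.elim _ _
  let n := Module.finrank A P
  let m := Module.finrank A P'
  let eP : Basis (Fin n) A P := Module.finBasis A P
  let eP' : Basis (Fin m) A P' := Module.finBasis A P'
  let a : Fin m → Fin n → A := mat eP eP' φ₀
  let R : Alg A := algOf A (RU a)
  let T : Alg A := algOf A (RU a)[X]
  let x : RU a ⊗[A] P := ξu eP eP' φ₀
  have hx : φ₀.baseChange (RU a) x = 0 := baseChange_ξu eP eP' φ₀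
  let w : RU a ⊗[A] M := φ R x
  let fσ : R ⟶ T := CommAlgCat.ofHom (sigma a)
  let fc : R ⟶ T := CommAlgCat.ofHom (fC A)
  have hcx : φ₀.baseChange (RU a)[X] ((fC A).toLinearMap.rTensor P x) = 0 := by
    refine (rTensor_baseChange φ₀ (fC A) x).trans ?_
    rw [hx, map_zero]
  have claim2 : (sigma a).toLinearMap.rTensor M w = (X : (RU a)[X]) •
      ((fC A).toLinearMap.rTensor M w) := by
    have h1 : φ T ((sigma a).toLinearMap.rTensor P x) = (sigma a).toLinearMap.rTensor M w :=
      hnat fσ x hx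
    have h2 : φ T ((fC A).toLinearMap.rTensor P x) = (fC A).toLinearMap.rTensor M w :=
      hnat fc x hx
    have h3 : φ T ((X : (RU a)[X]) • (fC A).toLinearMap.rTensor P x) =
        (X : (RU a)[X]) • φ T ((fC A).toLinearMap.rTensor P x) := hhom T X _ hcx
    rw [← h1, ← h2, ← h3]
    exact congrArg (φ T) (sigma_ξu eP eP' φ₀)
  obtain ⟨v, hv⟩ := key a w claim2
  let g₀ : P →ₗ[A] M := eP.constr A v
  have hg₀ : ∀ j, g₀ (eP j) = v j := fun j => eP.constr_basis A v j
  refine ⟨g₀, fun B y hy => ?_⟩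
  obtain ⟨f, hf⟩ := exists_classify eP eP' φ₀ y hy
  have e1 : φ B y = f.toLinearMap.rTensor M w := by
    rw [← hf]
    exact hnat (CommAlgCat.ofHom f) x hx
  rw [e1, hv, map_sum, ← hf, rTensor_ξu, map_sum]
  refine Finset.sum_congr rfl (fun j _ => ?_)
  rw [LinearMap.rTensor_tmul, LinearMap.baseChange_tmul, hg₀]
  rfl

end linear

end Groth.Agent.Lib.T2H8.AdeqUniv
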