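import Mathlib
import Groth.Agent.Lib.T2H8AdeqUniv

set_option autoImplicit false
universe u v w
open TensorProduct Polynomial CategoryTheory Limits Opposite

namespace Groth.Agent.Lib.T2H8.AdeqSplit
open Groth.Agent.Helper13Adeq Groth.Agent.Helper13Adeq.Univ Groth.Agent.Lib.T2H8.AdeqCocycle
open Groth.Agent.Lib.T2H8.AdeqUniv
open Module Adeq

variable {A : Type u} [CommRing A]

theorem underline_map_app (P P' : ModuleCat.{u + 1} A) (φ₀ : P ⟶ P') (B : Alg A) (y : B ⊗[A] P) :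
    ((underline A).map φ₀).app (pt B) y = φ₀.hom.baseChange B y := rfl

theorem exists_homog_section (P P' M : ModuleCat.{u + 1} A) [Module.Finite A P] [Module.Free A P]
    [Module.Finite A P'] [Module.Free A P'] (φ₀ : P ⟶ P')
    (L G : MVF A) (ι : L ⟶ (underline A).obj P) (i : (underline A).obj M ⟶ G) (g : G ⟶ L)
    (ιinj : ∀ B : Alg A, Function.Injective (ι.app (pt B)))
    (ιex : ∀ B : Alg A, Function.Exact (ι.app (pt B)) (((underline A).map φ₀).app (pt B)))
    (hi : ∀ B : Alg A, Function.Injective (i.app (pt B)))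
    (hex : ∀ B : Alg A, Function.Exact (i.app (pt B)) (g.app (pt B)))
    (hg : ∀ B : Alg A, Function.Surjective (g.app (pt B))) :
    ∃ s : ∀ B : Alg A, L.obj (pt B) → G.obj (pt B),
      (∀ (B : Alg A) (η : L.obj (pt B)), g.app (pt B) (s B η) = η) ∧
      (∀ {B B' : Alg A} (f : B ⟶ B') (η : L.obj (pt B)), s B' (mapEl L f η) = mapEl G f (s B η)) ∧
      (∀ (B : Alg A) (b : B) (η : L.obj (pt B)), s B (b • η) = b • s B η) := by
  classical
  rcases subsingleton_or_nontrivial A with hA | hA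
  · have hsub : ∀ (B : Alg A) (F : MVF A), Subsingleton (F.obj (pt B)) := by
      intro B F
      have : Subsingleton B := by
        refine ⟨fun x y => ?_⟩
        have h01 : (0 : B) = 1 := by
          rw [← map_zero (algebraMap A B), ← map_one (algebraMap A B)]
          exact congrArg _ (Subsingleton.elim _ _)
        rw [← mul_one x, ← mul_one y, ← h01, mul_zero, mul_zero]
      exact Module.subsingleton B _
    refine ⟨fun B _ => 0, fun B η => ?_, fun {B B'} f η => ?_, fun B b η => ?_⟩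
    · have := hsub B L; exact Subsingleton.elim _ _
    · have := hsub B' G; exact Subsingleton.elim _ _
    · have := hsub B G; exact Subsingleton.elim _ _
  let n := Module.finrank A P
  let m := Module.finrank A P'
  let eP : Basis (Fin n) A P := Module.finBasis A P
  let eP' : Basis (Fin m) A P' := Module.finBasis A P'
  let a : Fin m → Fin n → A := mat eP eP' φ₀.hom
  let R : Alg A := algOf A (RU a)
  let T : Alg A := algOf A (RU a)[X]
  let x : RU a ⊗[A] P := ξu eP eP' φ₀.hom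
  have hx : ((underline A).map φ₀).app (pt R) x = 0 := baseChange_ξu eP eP' φ₀.hom
  obtain ⟨ηu, hηu⟩ := (ιex R x).1 hx
  have ιnat : ∀ {B B' : Alg A} (f : B ⟶ B') (η : L.obj (pt B)),
      ι.app (pt B') (mapEl L f η) = (f.hom.toLinearMap.rTensor P) (ι.app (pt B) η) :=
    fun f η => app_mapEl ι f η
  let fσ : R ⟶ T := CommAlgCat.ofHom (sigma a)
  let fc : R ⟶ T := CommAlgCat.ofHom (fC A)
  let tX : T := (X : (RU a)[X])
  have claim1 : mapEl L fσ ηu = tX • mapEl L fc ηu := by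
    apply ιinj T
    rw [app_smul, ιnat, ιnat, hηu]
    exact sigma_ξu eP eP' φ₀.hom
  obtain ⟨ξ, hξ⟩ := hg R ηu
  obtain ⟨ξ', hξ', hξ'σ⟩ := exists_homog_lift (S := RU a) (sigma a) (I1 a) M G L i g hi hex ηu
    claim1 ξ hξ
  -- classification
  have cl_ex : ∀ (B : Alg A) (η : L.obj (pt B)), ∃ f : R ⟶ B, mapEl L f ηu = η := by
    intro B η
    have hy : φ₀.hom.baseChange B (ι.app (pt B) η) = 0 := (ιex B _).2 ⟨η, rfl⟩
    obtain ⟨f, hf⟩ := exists_classify eP eP' φ₀.hom (ι.app (pt B) η) hy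
    refine ⟨CommAlgCat.ofHom f, ?_⟩
    apply ιinj B
    rw [ιnat, hηu]
    exact hf
  have cl_uniq : ∀ {B : Alg A} (f f' : R ⟶ B), mapEl L f ηu = mapEl L f' ηu → f = f' := by
    intro B f f' h
    have h2 := congrArg (ι.app (pt B)) h
    rw [ιnat, ιnat, hηu] at h2
    apply CommAlgCat.hom_ext
    exact classify_unique eP eP' φ₀.hom f.hom f'.hom h2
  choose cl hcl using cl_ex
  refine ⟨fun B η => mapEl G (cl B η) ξ', fun B η => ?_, fun {B B'} f η => ?_, fun B b η => ?_⟩
  · dsimp only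
    rw [app_mapEl]
    have h3 : g.app (pt R) ξ' = ηu := hξ'
    rw [h3, hcl]
  · have : cl B' (mapEl L f η) = cl B η ≫ f := by
      apply cl_uniq
      rw [hcl, mapEl_comp, hcl]
    dsimp only
    rw [this, mapEl_comp]
  · let ψ : T ⟶ B := CommAlgCat.ofHom (Polynomial.aevalTower (cl B η).hom b)
    have h1 : fc ≫ ψ = cl B η := by
      apply CommAlgCat.hom_ext
      ext r
      exact Polynomial.aevalTower_C _ _ r
    have hψX : ψ.hom tX = b := Polynomial.aevalTower_X _ _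
    have h2 : cl B (b • η) = fσ ≫ ψ := by
      apply cl_uniq
      rw [hcl, mapEl_comp, claim1, mapEl_smul, ← mapEl_comp, h1, hcl, hψX]
    dsimp only
    rw [h2, mapEl_comp]
    have h3 : mapEl G fσ ξ' = tX • mapEl G fc ξ' := hξ'σ
    rw [h3, mapEl_smul, ← mapEl_comp, h1, hψX]

/-- composition of base changes, elementwise -/
theorem baseChange_comp_apply' {P Q Q' : Type*} [AddCommGroup P] [Module A P] [AddCommGroup Q]
    [Module A Q] [AddCommGroup Q'] [Module A Q'] (B : Type*) [CommRing B] [Algebra A B]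
    (f : P →ₗ[A] Q) (h : Q →ₗ[A] Q') (y : B ⊗[A] P) :
    h.baseChange B (f.baseChange B y) = (h ∘ₗ f).baseChange B y := by
  rw [LinearMap.baseChange_comp]
  rfl

theorem additive_of_homog (P P' M : ModuleCat.{u + 1} A) [Module.Finite A P] [Module.Free A P]
    [Module.Finite A P'] [Module.Free A P'] (φ₀ : P ⟶ P')
    (L G : MVF A) (ι : L ⟶ (underline A).obj P) (i : (underline A).obj M ⟶ G) (g : G ⟶ L)
    (ιinj : ∀ B : Alg A, Function.Injective (ι.app (pt B)))
    (ιex : ∀ B : Alg A, Function.Exact (ι.app (pt B)) (((underline A).map φ₀).app (pt B)))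
    (hi : ∀ B : Alg A, Function.Injective (i.app (pt B)))
    (hex : ∀ B : Alg A, Function.Exact (i.app (pt B)) (g.app (pt B)))
    (s : ∀ B : Alg A, L.obj (pt B) → G.obj (pt B))
    (hs : ∀ (B : Alg A) (η : L.obj (pt B)), g.app (pt B) (s B η) = η)
    (hnat : ∀ {B B' : Alg A} (f : B ⟶ B') (η : L.obj (pt B)),
      s B' (mapEl L f η) = mapEl G f (s B η))
    (hhom : ∀ (B : Alg A) (b : B) (η : L.obj (pt B)), s B (b • η) = b • s B η)
    (B : Alg A) (η₁ η₂ : L.obj (pt B)) : s B (η₁ + η₂) = s B η₁ + s B η₂ := by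
  classical
  let U : MVF A := (underline A).obj M
  -- inverse functions
  let ιinv : ∀ B : Alg A, (B ⊗[A] P) → L.obj (pt B) := fun B => Function.invFun (ι.app (pt B))
  let iinv : ∀ B : Alg A, G.obj (pt B) → (B ⊗[A] M) := fun B => Function.invFun (i.app (pt B))
  have F1 : ∀ (B : Alg A) (z : B ⊗[A] P), φ₀.hom.baseChange B z = 0 →
      ι.app (pt B) (ιinv B z) = z := fun B z hz => Function.invFun_eq ((ιex B z).1 hz)
  have F1' : ∀ (B : Alg A) (η : L.obj (pt B)), ιinv B (ι.app (pt B) η) = η :=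
    fun B η => Function.leftInverse_invFun (ιinj B) η
  have F2 : ∀ (B : Alg A) (d : G.obj (pt B)), g.app (pt B) d = 0 →
      i.app (pt B) (iinv B d) = d := fun B d hd => Function.invFun_eq ((hex B d).1 hd)
  have F2' : ∀ (B : Alg A) (z : B ⊗[A] M), iinv B (i.app (pt B) z) = z :=
    fun B z => Function.leftInverse_invFun (hi B) z
  have hK : ∀ (B : Alg A) (η : L.obj (pt B)), φ₀.hom.baseChange B (ι.app (pt B) η) = 0 :=
    fun B η => (ιex B _).2 ⟨η, rfl⟩
  have ιnat : ∀ {B B' : Alg A} (f : B ⟶ B') (η : L.obj (pt B)),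
      ι.app (pt B') (mapEl L f η) = (f.hom.toLinearMap.rTensor P) (ι.app (pt B) η) :=
    fun f η => app_mapEl ι f η
  have inat : ∀ {B B' : Alg A} (f : B ⟶ B') (z : B ⊗[A] M),
      i.app (pt B') ((f.hom.toLinearMap.rTensor M) z) = mapEl G f (i.app (pt B) z) :=
    fun f z => app_mapEl i f z
  -- the defect
  let D : ∀ B : Alg A, L.obj (pt B) → L.obj (pt B) → G.obj (pt B) :=
    fun B η₁ η₂ => s B (η₁ + η₂) - s B η₁ - s B η₂
  have F3 : ∀ (B : Alg A) (η₁ η₂ : L.obj (pt B)), g.app (pt B) (D B η₁ η₂) = 0 := by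
    intro B η₁ η₂
    simp only [D, map_sub, hs]
    abel
  have F4 : ∀ {B B' : Alg A} (f : B ⟶ B') (η₁ η₂ : L.obj (pt B)),
      mapEl G f (D B η₁ η₂) = D B' (mapEl L f η₁) (mapEl L f η₂) := by
    intro B B' f η₁ η₂
    simp only [D, mapEl_sub, ← hnat, mapEl_add]
  have F5 : ∀ (B : Alg A) (b : B) (η₁ η₂ : L.obj (pt B)),
      b • D B η₁ η₂ = D B (b • η₁) (b • η₂) := by
    intro B b η₁ η₂
    simp only [D, smul_sub, ← hhom, smul_add]
  have s0 : ∀ B : Alg A, s B 0 = 0 := by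
    intro B
    have := hhom B 0 0
    rw [zero_smul, zero_smul] at this
    exact this
  have D0r : ∀ (B : Alg A) (η : L.obj (pt B)), D B η 0 = 0 := by
    intro B η
    simp only [D, add_zero, s0, sub_self]
  have D0l : ∀ (B : Alg A) (η : L.obj (pt B)), D B 0 η = 0 := by
    intro B η
    simp only [D, zero_add, s0, sub_zero, sub_self]
  -- the product situation
  let p₁ : (P × P) →ₗ[A] P := LinearMap.fst A P P
  let p₂ : (P × P) →ₗ[A] P := LinearMap.snd A P P
  let q₁ : (P' × P') →ₗ[A] P' := LinearMap.fst A P' P'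
  let q₂ : (P' × P') →ₗ[A] P' := LinearMap.snd A P' P'
  let φ₂ : (P × P) →ₗ[A] (P' × P') := φ₀.hom.prodMap φ₀.hom
  have hp₁ : φ₀.hom ∘ₗ p₁ = q₁ ∘ₗ φ₂ := rfl
  have hp₂ : φ₀.hom ∘ₗ p₂ = q₂ ∘ₗ φ₂ := rfl
  have hK₁ : ∀ (B : Alg A) (y : B ⊗[A] (P × P)), φ₂.baseChange B y = 0 →
      φ₀.hom.baseChange B (p₁.baseChange B y) = 0 := by
    intro B y hy
    rw [baseChange_comp_apply', hp₁, ← baseChange_comp_apply', hy, map_zero]
  have hK₂ : ∀ (B : Alg A) (y : B ⊗[A] (P × P)), φ₂.baseChange B y = 0 →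
      φ₀.hom.baseChange B (p₂.baseChange B y) = 0 := by
    intro B y hy
    rw [baseChange_comp_apply', hp₂, ← baseChange_comp_apply', hy, map_zero]
  let φ : ∀ B : Alg A, (B ⊗[A] (P × P)) → (B ⊗[A] M) := fun B y =>
    iinv B (D B (ιinv B (p₁.baseChange B y)) (ιinv B (p₂.baseChange B y)))
  -- naturality of the inverse functions
  have F6 : ∀ {B B' : Alg A} (f : B ⟶ B') (z : B ⊗[A] P), φ₀.hom.baseChange B z = 0 →
      ιinv B' (f.hom.toLinearMap.rTensor P z) = mapEl L f (ιinv B z) := by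
    intro B B' f z hz
    apply ιinj B'
    rw [ιnat, F1 B z hz]
    apply F1
    rw [rTensor_baseChange, hz, map_zero]
  have F7 : ∀ (B : Alg A) (b : B) (z : B ⊗[A] P), φ₀.hom.baseChange B z = 0 →
      ιinv B (b • z) = b • ιinv B z := by
    intro B b z hz
    apply ιinj B
    rw [app_smul, F1 B z hz]
    apply F1
    rw [map_smul, hz, smul_zero]
  have F8 : ∀ {B B' : Alg A} (f : B ⟶ B') (d : G.obj (pt B)), g.app (pt B) d = 0 →
      iinv B' (mapEl G f d) = f.hom.toLinearMap.rTensor M (iinv B d) := by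
    intro B B' f d hd
    apply hi B'
    rw [inat, F2 B d hd]
    apply F2
    rw [app_mapEl, hd, mapEl_zero]
  have F9 : ∀ (B : Alg A) (b : B) (d : G.obj (pt B)), g.app (pt B) d = 0 →
      iinv B (b • d) = b • iinv B d := by
    intro B b d hd
    apply hi B
    have : i.app (pt B) (b • iinv B d) = b • i.app (pt B) (iinv B d) := app_smul i B b _
    rw [this, F2 B d hd]
    apply F2
    rw [app_smul, hd, smul_zero]
  have hφnat : ∀ {B B' : Alg A} (f : B ⟶ B') (y : B ⊗[A] (P × P)), φ₂.baseChange B y = 0 →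
      φ B' (f.hom.toLinearMap.rTensor (P × P) y) = f.hom.toLinearMap.rTensor M (φ B y) := by
    intro B B' f y hy
    simp only [φ]
    rw [rTensor_baseChange, rTensor_baseChange, F6 f _ (hK₁ B y hy), F6 f _ (hK₂ B y hy), ← F4,
      F8 f _ (F3 B _ _)]
  have hφhom : ∀ (B : Alg A) (b : B) (y : B ⊗[A] (P × P)), φ₂.baseChange B y = 0 →
      φ B (b • y) = b • φ B y := by
    intro B b y hy
    simp only [φ]
    rw [map_smul, map_smul, F7 B b _ (hK₁ B y hy), F7 B b _ (hK₂ B y hy), ← F5,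
      F9 B b _ (F3 B _ _)]
  obtain ⟨g₂, hg₂⟩ := linear_of_homog φ₂ φ hφnat hφhom
  -- conclusion
  let j₁ : P →ₗ[A] (P × P) := LinearMap.inl A P P
  let j₂ : P →ₗ[A] (P × P) := LinearMap.inr A P P
  let k₁ : P' →ₗ[A] (P' × P') := LinearMap.inl A P' P'
  let k₂ : P' →ₗ[A] (P' × P') := LinearMap.inr A P' P'
  have hj₁ : φ₂ ∘ₗ j₁ = k₁ ∘ₗ φ₀.hom := by
    ext x <;> simp [φ₂, j₁, k₁]
  have hj₂ : φ₂ ∘ₗ j₂ = k₂ ∘ₗ φ₀.hom := by
    ext x <;> simp [φ₂, j₂, k₂]
  let z₁ : B ⊗[A] P := ι.app (pt B) η₁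
  let z₂ : B ⊗[A] P := ι.app (pt B) η₂
  let y₁ : B ⊗[A] (P × P) := j₁.baseChange B z₁
  let y₂ : B ⊗[A] (P × P) := j₂.baseChange B z₂
  have hy₁ : φ₂.baseChange B y₁ = 0 := by
    simp only [y₁]
    rw [baseChange_comp_apply', hj₁, ← baseChange_comp_apply']
    have : φ₀.hom.baseChange B z₁ = 0 := hK B η₁
    rw [this, map_zero]
  have hy₂ : φ₂.baseChange B y₂ = 0 := by
    simp only [y₂]
    rw [baseChange_comp_apply', hj₂, ← baseChange_comp_apply']
    have : φ₀.hom.baseChange B z₂ = 0 := hK B η₂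
    rw [this, map_zero]
  have hy : φ₂.baseChange B (y₁ + y₂) = 0 := by rw [map_add, hy₁, hy₂, add_zero]
  have e11 : p₁.baseChange B y₁ = z₁ := by
    simp only [y₁]
    rw [baseChange_comp_apply']
    have : p₁ ∘ₗ j₁ = LinearMap.id := rfl
    rw [this, LinearMap.baseChange_id]
    rfl
  have e21 : p₂.baseChange B y₁ = 0 := by
    simp only [y₁]
    rw [baseChange_comp_apply']
    have : p₂ ∘ₗ j₁ = 0 := rfl
    rw [this, LinearMap.baseChange_zero]
    rfl
  have e12 : p₁.baseChange B y₂ = 0 := by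
    simp only [y₂]
    rw [baseChange_comp_apply']
    have : p₁ ∘ₗ j₂ = 0 := rfl
    rw [this, LinearMap.baseChange_zero]
    rfl
  have e22 : p₂.baseChange B y₂ = z₂ := by
    simp only [y₂]
    rw [baseChange_comp_apply']
    have : p₂ ∘ₗ j₂ = LinearMap.id := rfl
    rw [this, LinearMap.baseChange_id]
    rfl
  have ιinv0 : ιinv B (0 : B ⊗[A] P) = 0 := by
    have h := F1' B 0
    have h0 : ι.app (pt B) (0 : L.obj (pt B)) = (0 : B ⊗[A] P) := _root_.map_zero _
    rw [h0] at h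
    exact h
  have iinv0 : iinv B (0 : G.obj (pt B)) = 0 := by
    have h := F2' B 0
    have h0 : i.app (pt B) (0 : B ⊗[A] M) = (0 : G.obj (pt B)) := _root_.map_zero _
    rw [h0] at h
    exact h
  have v1 : φ B y₁ = 0 := by
    simp only [φ]
    rw [e11, e21, ιinv0, D0r, iinv0]
  have v2 : φ B y₂ = 0 := by
    simp only [φ]
    rw [e12, e22, ιinv0, D0l, iinv0]
  have v : φ B (y₁ + y₂) = iinv B (D B η₁ η₂) := by
    simp only [φ]
    rw [map_add, map_add, e11, e21, e12, e22, add_zero, zero_add]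
    have h1 : ιinv B z₁ = η₁ := F1' B η₁
    have h2 : ιinv B z₂ = η₂ := F1' B η₂
    rw [h1, h2]
  have hfin : iinv B (D B η₁ η₂) = 0 := by
    rw [← v, hg₂ B _ hy, map_add, ← hg₂ B _ hy₁, ← hg₂ B _ hy₂, v1, v2, add_zero]
  have hD : D B η₁ η₂ = 0 := by
    rw [← F2 B _ (F3 B η₁ η₂), hfin]
    exact _root_.map_zero _
  have : s B (η₁ + η₂) - s B η₁ - s B η₂ = 0 := hD
  rw [sub_sub, sub_eq_zero] at this
  exact this

end Groth.Agent.Lib.T2H8.AdeqSplit
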