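import Mathlib
import Groth.Agent.Lib.T2H8AdeqSplit
import Groth.Agent.Lib.T2H8AdeqAbelian

set_option autoImplicit false
universe u v w
open TensorProduct Polynomial CategoryTheory Limits Opposite

namespace Groth.Agent.Lib.T2H8.AdeqSplit
open Groth.Agent.Helper13Adeq Groth.Agent.Helper13Adeq.Univ Groth.Agent.Lib.T2H8.AdeqCocycle
open Groth.Agent.Lib.T2H8.AdeqUniv
open Module Adeq

variable {A : Type u} [CommRing A]

/-- a morphism of module-valued functors from a compatible family of additive homogeneous maps -/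
noncomputable def homOfFamily {F G : MVF A} (s : ∀ B : Alg A, F.obj (pt B) → G.obj (pt B))
    (hadd : ∀ (B : Alg A) (x y : F.obj (pt B)), s B (x + y) = s B x + s B y)
    (hsmul : ∀ (B : Alg A) (b : B) (x : F.obj (pt B)), s B (b • x) = b • s B x)
    (hnat : ∀ {B B' : Alg A} (f : B ⟶ B') (x : F.obj (pt B)),
      s B' (mapEl F f x) = mapEl G f (s B x)) : F ⟶ G :=
  PresheafOfModules.homMk
    { app := fun X => AddCommGrpCat.ofHom (AddMonoidHom.mk' (s X.unop.unop) (hadd X.unop.unop))
      naturality := by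
        intro X Y f
        ext x
        exact hnat f.unop.unop x }
    (fun X r m => hsmul X.unop.unop r m)

theorem homOfFamily_app {F G : MVF A} (s : ∀ B : Alg A, F.obj (pt B) → G.obj (pt B))
    (hadd : ∀ (B : Alg A) (x y : F.obj (pt B)), s B (x + y) = s B x + s B y)
    (hsmul : ∀ (B : Alg A) (b : B) (x : F.obj (pt B)), s B (b • x) = b • s B x)
    (hnat : ∀ {B B' : Alg A} (f : B ⟶ B') (x : F.obj (pt B)),
      s B' (mapEl F f x) = mapEl G f (s B x)) (B : Alg A) (x : F.obj (pt B)) :
    (homOfFamily s hadd hsmul hnat).app (pt B) x = s B x := rfl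


theorem exists_section (P P' M : ModuleCat.{u + 1} A) [Module.Finite A P] [Module.Free A P]
    [Module.Finite A P'] [Module.Free A P'] (φ₀ : P ⟶ P')
    (L G : MVF A) (ι : L ⟶ (underline A).obj P) (i : (underline A).obj M ⟶ G) (g : G ⟶ L)
    (ιinj : ∀ B : Alg A, Function.Injective (ι.app (pt B)))
    (ιex : ∀ B : Alg A, Function.Exact (ι.app (pt B)) (((underline A).map φ₀).app (pt B)))
    (hi : ∀ B : Alg A, Function.Injective (i.app (pt B)))
    (hex : ∀ B : Alg A, Function.Exact (i.app (pt B)) (g.app (pt B)))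
    (hg : ∀ B : Alg A, Function.Surjective (g.app (pt B))) :
    ∃ s : L ⟶ G, s ≫ g = 𝟙 L := by
  obtain ⟨s, hs, hnat, hhom⟩ := exists_homog_section P P' M φ₀ L G ι i g ιinj ιex hi hex hg
  have hadd := additive_of_homog P P' M φ₀ L G ι i g ιinj ιex hi hex s hs hnat hhom
  refine ⟨homOfFamily s hadd hhom hnat, ?_⟩
  ext X x
  exact hs X.unop.unop x

/-- splitting of an extension of a linearly adequate functor by `underline M` -/
theorem splitting_of_linAdequate (S : ShortComplex (MVF A)) (hS : S.ShortExact)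
    (M : ModuleCat.{u + 1} A) (e : S.X₁ ≅ (underline A).obj M) (hL : linAdequate A S.X₃) :
    ∃ s : S.X₃ ⟶ S.X₂, s ≫ S.g = 𝟙 S.X₃ := by
  obtain ⟨P, P', φ₀, h1, h2, h3, h4, ⟨θ⟩⟩ := hL
  have := hS.mono_f
  have := hS.epi_g
  let ι : S.X₃ ⟶ (underline A).obj P := θ.hom ≫ kernel.ι ((underline A).map φ₀)
  let i : (underline A).obj M ⟶ S.X₂ := e.inv ≫ S.f
  have hι : Mono ι := inferInstance
  have hi' : Mono i := inferInstance
  have ιinj : ∀ B : Alg A, Function.Injective (ι.app (pt B)) :=
    fun B => PresheafOfModules.injective_of_mono ι (pt B)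
  have hi : ∀ B : Alg A, Function.Injective (i.app (pt B)) :=
    fun B => PresheafOfModules.injective_of_mono i (pt B)
  have hg : ∀ B : Alg A, Function.Surjective (S.g.app (pt B)) :=
    fun B => PresheafOfModules.surjective_of_epi S.g (pt B)
  have ιex : ∀ B : Alg A, Function.Exact (ι.app (pt B)) (((underline A).map φ₀).app (pt B)) := by
    intro B y
    constructor
    · intro hy
      obtain ⟨z, hz⟩ := (PshMod.kernel_ι_exact ((underline A).map φ₀) (pt B) y).1 hy
      refine ⟨θ.inv.app (pt B) z, ?_⟩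
      change (kernel.ι ((underline A).map φ₀)).app (pt B) (θ.hom.app (pt B) (θ.inv.app (pt B) z)) = y
      rw [PshMod.inv_hom_app_apply, hz]
    · rintro ⟨η, rfl⟩
      exact (PshMod.kernel_ι_exact ((underline A).map φ₀) (pt B) _).2 ⟨θ.hom.app (pt B) η, rfl⟩
  have hex : ∀ B : Alg A, Function.Exact (i.app (pt B)) (S.g.app (pt B)) := by
    intro B y
    have hE := (PshMod.exact_iff_app S).1 hS.exact (pt B)
    constructor
    · intro hy
      obtain ⟨z, hz⟩ := (hE y).1 hy
      refine ⟨e.hom.app (pt B) z, ?_⟩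
      change S.f.app (pt B) (e.inv.app (pt B) (e.hom.app (pt B) z)) = y
      rw [PshMod.hom_inv_app_apply]
      exact hz
    · rintro ⟨η, rfl⟩
      exact (hE _).2 ⟨e.inv.app (pt B) η, rfl⟩
  exact exists_section P P' M φ₀ S.X₃ S.X₂ ι i S.g ιinj ιex hi hex hg

theorem adequate_biprod {F G : MVF A} (hF : adequate A F) (hG : adequate A G) :
    adequate A (F ⊞ G) := by
  have h := (adequate A).prop_prod F G hF hG
  exact (adequate A).prop_of_iso (biprod.isoProd F G).symm h

theorem main (S : ShortComplex (MVF A)) (hS : S.ShortExact)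
    (M : ModuleCat.{u + 1} A) (e : S.X₁ ≅ (underline A).obj M) (hL : linAdequate A S.X₃) :
    Nonempty S.Splitting ∧ adequate A S.X₂ := by
  obtain ⟨s, hs⟩ := splitting_of_linAdequate S hS M e hL
  have := hS.mono_f
  let σ : S.Splitting := ShortComplex.Splitting.ofExactOfSection S hS.exact s hs hS.mono_f
  refine ⟨⟨σ⟩, ?_⟩
  have h1 : adequate A S.X₁ :=
    (adequate A).prop_of_iso e.symm (Groth.Agent.Lib.T2H8.AdeqAbelian.adequate_underline M)
  have h3 : adequate A S.X₃ := adequate_of_linAdequate hL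
  exact (adequate A).prop_of_iso σ.isoBinaryBiproduct.symm (adequate_biprod h1 h3)

end Groth.Agent.Lib.T2H8.AdeqSplit
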