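import Mathlib
import Groth.Agent.Lib.T2H8AbExt
import Groth.Agent.Lib.T2H8AdeqSplit2

set_option autoImplicit false
universe u
open CategoryTheory Limits Opposite
open Adeq Groth.Agent.Helper13Adeq
open Groth.Agent.Lib.T2H8.AbExt Groth.Agent.Lib.T2H8.AdeqSplit

namespace Groth.Agent.Lib.T2H8.AdeqExt
variable {A : Type u} [CommRing A]

/-- an extension of a coproduct of linearly adequate functors by `underline M` is adequate -/
theorem adequate_of_ext_sigma (S : ShortComplex (MVF A)) (hS : S.ShortExact)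
    (M : ModuleCat.{u + 1} A) (e : S.X₁ ≅ (underline A).obj M)
    {ι : Type (u + 1)} (L : ι → MVF A) (hL : ∀ i, linAdequate A (L i)) (θ : S.X₃ ≅ ∐ L) :
    adequate A S.X₂ := by
  have := hS.mono_f
  have := hS.epi_g
  -- sections over each summand
  have hsec : ∀ i, ∃ t : L i ⟶ S.X₂, t ≫ S.g = Sigma.ι L i ≫ θ.inv := by
    intro i
    let π : L i ⟶ S.X₃ := Sigma.ι L i ≫ θ.inv
    have hSi := pullback_shortExact π hS
    obtain ⟨s, hs⟩ := splitting_of_linAdequate _ hSi M e (hL i)
    refine ⟨s ≫ pullback.fst S.g π, ?_⟩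
    have hs' : s ≫ pullback.snd S.g π = 𝟙 (L i) := hs
    rw [Category.assoc, pullback.condition, ← Category.assoc, hs', Category.id_comp]
  choose t ht using hsec
  let s : S.X₃ ⟶ S.X₂ := θ.hom ≫ Sigma.desc t
  have hs : s ≫ S.g = 𝟙 S.X₃ := by
    rw [← cancel_epi θ.inv]
    simp only [s, Category.assoc, Iso.inv_hom_id_assoc, Category.comp_id]
    apply Sigma.hom_ext
    intro i
    rw [Sigma.ι_desc_assoc, ht]
  let σ : S.Splitting := ShortComplex.Splitting.ofExactOfSection S hS.exact s hs hS.mono_f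
  have h1 : adequate A S.X₁ :=
    (adequate A).prop_of_iso e.symm (Groth.Agent.Lib.T2H8.AdeqAbelian.adequate_underline M)
  have h3 : adequate A S.X₃ :=
    (adequate A).prop_of_iso θ.symm
      (Groth.Agent.Lib.T2H8.AdeqColim.adequate_sigma L (fun i => adequate_of_linAdequate (hL i)))
  exact (adequate A).prop_of_iso σ.isoBinaryBiproduct.symm (adequate_biprod h1 h3)


theorem adequate_of_shortExact (S : ShortComplex (MVF A)) (hS : S.ShortExact)
    (h₁ : adequate A S.X₁) (h₃ : adequate A S.X₃) : adequate A S.X₂ := by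
  -- Step 1: cover `X₃` by a coproduct of linearly adequate functors
  obtain ⟨ι, L, hL, c, hc, π₀, hπ₀⟩ := exists_epi_cofan_linAdequate S.X₃ h₃
  let θ₀ : ∐ L ≅ c.pt := IsColimit.coconePointUniqueUpToIso (coproductIsCoproduct L) hc
  let π : ∐ L ⟶ S.X₃ := θ₀.hom ≫ π₀
  have hπ : Epi π := epi_comp _ _
  have hSig : adequate A (∐ L) :=
    Groth.Agent.Lib.T2H8.AdeqColim.adequate_sigma L (fun i => adequate_of_linAdequate (hL i))
  have hS' := pullback_shortExact π hS
  suffices h : adequate A (pullback S.g π) by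
    have hK : adequate A (kernel π) := Groth.Agent.Lib.T2H8.AdeqA.adequate_kernel π hSig h₃
    exact prop_X₃_of_shortExact (adequate A)
      (fun f hX hY => Groth.Agent.Lib.T2H8.AdeqA.adequate_cokernel f hX hY)
      (pullback_shortExact' S π) hK h
  -- Step 2: embed `X₁` into `underline M`
  have h₁' := h₁
  obtain ⟨M, N, φ, ⟨e⟩⟩ := h₁
  let j : S.X₁ ⟶ (underline A).obj M := e.hom ≫ kernel.ι _
  have hj : Mono j := inferInstance
  have hM : adequate A ((underline A).obj M) :=
    Groth.Agent.Lib.T2H8.AdeqAbelian.adequate_underline M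
  have hQ : adequate A (cokernel j) := Groth.Agent.Lib.T2H8.AdeqA.adequate_cokernel j h₁' hM
  let S' : ShortComplex (MVF A) :=
    ShortComplex.mk (toPullback S π) (pullback.snd S.g π) (toPullback_snd S π)
  have hS'' := pushout_shortExact (S := S') j hS'
  suffices h : adequate A (pushout S'.f j) by
    exact prop_X₁_of_shortExact (adequate A)
      (fun f hX hY => Groth.Agent.Lib.T2H8.AdeqA.adequate_kernel f hX hY)
      (pushout_shortExact' S' j) h hQ
  exact adequate_of_ext_sigma _ hS'' M (Iso.refl _) L hL (Iso.refl _)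

end Groth.Agent.Lib.T2H8.AdeqExt
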