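import Mathlib
import Groth.Agent.Lib.Helper13AdeqD

set_option autoImplicit false
universe u
open CategoryTheory Limits Opposite TensorProduct
open Adeq Groth.Agent.Helper13Adeq

namespace Groth.Agent.Lib.T2H8.Amitsur

section modlevel
variable (R : Type*) [CommRing R] (S : Type*) [CommRing S] [Algebra R S]
  (M : Type*) [AddCommGroup M] [Module R M]

/-- `s ⊗ m ↦ (s ⊗ 1) ⊗ m - (1 ⊗ s) ⊗ m` -/
noncomputable def d : S ⊗[R] M →ₗ[R] (S ⊗[R] S) ⊗[R] M :=
  (Algebra.TensorProduct.includeLeftSubRight R S).rTensor M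

noncomputable def μ : S ⊗[R] (S ⊗[R] M) →ₗ[R] S ⊗[R] M :=
  (LinearMap.mul' R S).rTensor M ∘ₗ (TensorProduct.assoc R S S M).symm.toLinearMap

noncomputable def c : S ⊗[R] ((S ⊗[R] S) ⊗[R] M) →ₗ[R] S ⊗[R] (S ⊗[R] M) :=
  (TensorProduct.assoc R S S M).toLinearMap ∘ₗ
    (((LinearMap.mul' R S).rTensor S ∘ₗ (TensorProduct.assoc R S S S).symm.toLinearMap).rTensor M) ∘ₗ
    (TensorProduct.assoc R S (S ⊗[R] S) M).symm.toLinearMap

theorem key (z : S ⊗[R] (S ⊗[R] M)) :
    c R S M ((d R S M).lTensor S z) = (TensorProduct.mk R S M 1).lTensor S (μ R S M z) - z := by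
  induction z using TensorProduct.induction_on with
  | zero => simp
  | add x y hx hy => simp only [map_add, hx, hy]; abel
  | tmul t w =>
    induction w using TensorProduct.induction_on with
    | zero => simp
    | add x y hx hy => simp only [tmul_add, map_add, hx, hy]; abel
    | tmul s m =>
      simp [c, d, μ, tmul_sub, sub_tmul]

theorem exact [Module.FaithfullyFlat R S] :
    Function.Exact (TensorProduct.mk R S M 1) (d R S M) := by
  apply Module.FaithfullyFlat.lTensor_reflects_exact R S
  intro z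
  constructor
  · intro hz
    refine ⟨μ R S M z, ?_⟩
    have := key R S M z
    rw [hz, map_zero] at this
    exact sub_eq_zero.1 this.symm
  · rintro ⟨w, rfl⟩
    rw [← LinearMap.comp_apply, ← LinearMap.lTensor_comp]
    have : d R S M ∘ₗ TensorProduct.mk R S M 1 = 0 := by
      ext m
      simp [d]
    rw [this, LinearMap.lTensor_zero, LinearMap.zero_apply]

/-- `a ⊗ m ↦ a ⊗ m` from `R ⊗ M` to `S ⊗ M` is injective for faithfully flat `S` -/
theorem rTensor_ofId_injective [Module.FaithfullyFlat R S] :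
    Function.Injective ((Algebra.ofId R S).toLinearMap.rTensor M) := by
  have h : (Algebra.ofId R S).toLinearMap.rTensor M =
      (TensorProduct.mk R S M 1) ∘ₗ (TensorProduct.lid R M).toLinearMap := by
    ext m
    simp [Algebra.ofId_apply, Algebra.algebraMap_eq_smul_one]
  rw [h]
  exact (Module.FaithfullyFlat.tensorProduct_mk_injective (A := R) (B := S) M).comp
    (TensorProduct.lid R M).injective

theorem mem_range_rTensor_ofId [Module.FaithfullyFlat R S] (z : S ⊗[R] M)
    (hz : (Algebra.TensorProduct.includeLeft : S →ₐ[R] S ⊗[R] S).toLinearMap.rTensor M z =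
      (Algebra.TensorProduct.includeRight : S →ₐ[R] S ⊗[R] S).toLinearMap.rTensor M z) :
    ∃ w : R ⊗[R] M, (Algebra.ofId R S).toLinearMap.rTensor M w = z := by
  have hd : d R S M z = 0 := by
    rw [d, Algebra.TensorProduct.includeLeftSubRight, LinearMap.rTensor_sub, LinearMap.sub_apply,
      hz, sub_self]
  obtain ⟨m, rfl⟩ := (exact R S M z).1 hd
  exact ⟨1 ⊗ₜ m, by simp⟩

end modlevel

section mvf
variable {A : Type u} [CommRing A] (F : MVF A) (B : Type u) [CommRing B] [Algebra A B]

/-- the structure map `A → B` as a map of `A`-algebras -/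
abbrev u₀ : algOf A A ⟶ algOf A B := CommAlgCat.ofHom (Algebra.ofId A B)
abbrev ι₁ : algOf A B ⟶ algOf A (B ⊗[A] B) :=
  CommAlgCat.ofHom (Algebra.TensorProduct.includeLeft : B →ₐ[A] B ⊗[A] B)
abbrev ι₂ : algOf A B ⟶ algOf A (B ⊗[A] B) :=
  CommAlgCat.ofHom (Algebra.TensorProduct.includeRight : B →ₐ[A] B ⊗[A] B)

theorem amitsur_adequate (hF : adequate A F) [Module.FaithfullyFlat A B] :
    Function.Injective (F.map (ptHom (u₀ (A := A) B))) ∧
      ∀ y : F.obj (pt (algOf A B)),
        F.map (ptHom (ι₁ (A := A) B)) y = F.map (ptHom (ι₂ (A := A) B)) y →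
        y ∈ Set.range (F.map (ptHom (u₀ (A := A) B))) := by
  obtain ⟨M, N, ν, i, hi, hex⟩ := (adequate_iff F).1 hF
  constructor
  · intro x x' hxx
    refine hi _ (rTensor_ofId_injective A B M ?_)
    exact (app_mapEl i (u₀ (A := A) B) x).symm.trans
      ((congrArg (i.app (pt (algOf A B))) hxx).trans (app_mapEl i (u₀ (A := A) B) x'))
  · intro y hy
    have hz : (Algebra.TensorProduct.includeLeft : B →ₐ[A] B ⊗[A] B).toLinearMap.rTensor M
          (i.app (pt (algOf A B)) y) =
        (Algebra.TensorProduct.includeRight : B →ₐ[A] B ⊗[A] B).toLinearMap.rTensor M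
          (i.app (pt (algOf A B)) y) :=
      (app_mapEl i (ι₁ (A := A) B) y).symm.trans
        ((congrArg (i.app (pt (algOf A (B ⊗[A] B)))) hy).trans (app_mapEl i (ι₂ (A := A) B) y))
    obtain ⟨w, hw⟩ := mem_range_rTensor_ofId A B M (i.app _ y) hz
    -- `w` is killed by `ν`
    have hνw : ((underline A).map ν).app (pt (algOf A A)) w = 0 := by
      refine rTensor_ofId_injective A B N ?_
      have h3 : ((underline A).map ν).app (pt (algOf A B))
          ((Algebra.ofId A B).toLinearMap.rTensor M w) =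
          (Algebra.ofId A B).toLinearMap.rTensor N (((underline A).map ν).app (pt (algOf A A)) w) :=
        app_mapEl ((underline A).map ν) (u₀ (A := A) B) w
      have h4 : ((underline A).map ν).app (pt (algOf A B))
          ((Algebra.ofId A B).toLinearMap.rTensor M w) = 0 :=
        (hex (algOf A B) _).2 ⟨y, hw.symm⟩
      exact (h3.symm.trans h4).trans (map_zero _).symm
    obtain ⟨x, hx⟩ := (hex _ _).1 hνw
    refine ⟨x, hi (algOf A B) ?_⟩
    have h1 : i.app (pt (algOf A B)) (F.map (ptHom (u₀ (A := A) B)) x) =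
        (Algebra.ofId A B).toLinearMap.rTensor M (i.app (pt (algOf A A)) x) :=
      app_mapEl i (u₀ (A := A) B) x
    have h5 : (Algebra.ofId A B).toLinearMap.rTensor M (i.app (pt (algOf A A)) x) =
        (Algebra.ofId A B).toLinearMap.rTensor M w := congrArg _ hx
    exact h1.trans (h5.trans hw)

end mvf
end Groth.Agent.Lib.T2H8.Amitsur
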