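import Mathlib
import Groth.Agent.Lib.T2H8Amitsur

set_option autoImplicit false
universe u
open CategoryTheory Limits Opposite TensorProduct
open Adeq Groth.Agent.Helper13Adeq

namespace Groth.Agent.Lib.T2H8.AdeqFamily

section modlevel
variable (A : Type*) [CommRing A] {κ : Type*} [Fintype κ] [DecidableEq κ]
  (C : κ → Type*) [∀ k, CommRing (C k)] [∀ k, Algebra A (C k)]
  (M : Type*) [AddCommGroup M] [Module A M]

/-- the projection `∏ C_k → C_k`, `A`-linear -/
abbrev ev (k : κ) : (∀ k, C k) →ₗ[A] C k := LinearMap.proj k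

/-- the inclusion `C_k → ∏ C_k`, `A`-linear -/
abbrev sg (k : κ) : C k →ₗ[A] (∀ k, C k) := LinearMap.single A C k

theorem sum_sg_ev (t : ∀ k, C k) : ∑ k, sg A C k (ev A C k t) = t := by
  simpa using (Finset.univ_sum_single t)

theorem m1_inj (z : (∀ k, C k) ⊗[A] M) (hz : ∀ k, (ev A C k).rTensor M z = 0) : z = 0 := by
  have key : ∀ z : (∀ k, C k) ⊗[A] M, z = ∑ k, (sg A C k).rTensor M ((ev A C k).rTensor M z) := by
    intro z
    induction z using TensorProduct.induction_on with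
    | zero => simp
    | add x y hx hy =>
      simp only [map_add, Finset.sum_add_distrib]
      rw [← hx, ← hy]
    | tmul t m =>
      simp only [LinearMap.rTensor_tmul]
      rw [← TensorProduct.sum_tmul]
      congr 1
      exact (sum_sg_ev A C t).symm
  rw [key z]
  simp [hz]

theorem m1_surj (w : ∀ k, C k ⊗[A] M) :
    ∃ z : (∀ k, C k) ⊗[A] M, ∀ k, (ev A C k).rTensor M z = w k := by
  refine ⟨∑ k, (sg A C k).rTensor M (w k), fun l => ?_⟩
  rw [map_sum]
  have : ∀ k, (ev A C l).rTensor M ((sg A C k).rTensor M (w k)) =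
      if k = l then w l else 0 := by
    intro k
    rw [← LinearMap.comp_apply, ← LinearMap.rTensor_comp]
    by_cases h : k = l
    · subst h
      have : ev A C k ∘ₗ sg A C k = LinearMap.id := by
        ext c
        simp
      rw [this, LinearMap.rTensor_id, LinearMap.id_apply, if_pos rfl]
    · have : ev A C l ∘ₗ sg A C k = 0 := by
        ext c
        simp [Ne.symm h]
      rw [this, LinearMap.rTensor_zero, LinearMap.zero_apply, if_neg h]
  simp [this]

theorem m2_inj (z : ((∀ k, C k) ⊗[A] (∀ k, C k)) ⊗[A] M)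
    (hz : ∀ k l, (TensorProduct.map (ev A C k) (ev A C l)).rTensor M z = 0) : z = 0 := by
  have key : ∀ z : ((∀ k, C k) ⊗[A] (∀ k, C k)) ⊗[A] M,
      z = ∑ k, ∑ l, (TensorProduct.map (sg A C k) (sg A C l)).rTensor M
        ((TensorProduct.map (ev A C k) (ev A C l)).rTensor M z) := by
    intro z
    induction z using TensorProduct.induction_on with
    | zero => simp
    | add x y hx hy =>
      simp only [map_add, Finset.sum_add_distrib]
      rw [← hx, ← hy]
    | tmul tt m =>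
      simp only [LinearMap.rTensor_tmul]
      simp only [← TensorProduct.sum_tmul]
      congr 1
      induction tt using TensorProduct.induction_on with
      | zero => simp
      | add x y hx hy =>
        simp only [map_add, Finset.sum_add_distrib]
        rw [← hx, ← hy]
      | tmul t t' =>
        simp only [TensorProduct.map_tmul]
        simp only [← TensorProduct.tmul_sum, ← TensorProduct.sum_tmul]
        rw [sum_sg_ev, sum_sg_ev]
  rw [key z]
  simp [hz]

end modlevel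

section ff
variable (A : Type*) [CommRing A] {κ : Type*} [Fintype κ] [DecidableEq κ]
  (C : κ → Type*) [∀ k, CommRing (C k)] [∀ k, Algebra A (C k)]

omit [DecidableEq κ] in
theorem flat_pi [∀ k, Module.Flat A (C k)] : Module.Flat A (∀ k, C k) :=
  Module.Flat.of_linearEquiv (DFinsupp.linearEquivFunOnFintype (R := A) (M := C)).symm

omit [DecidableEq κ] in
theorem faithfullyFlat_pi [∀ k, Module.Flat A (C k)]
    (hsurj : ∀ p : PrimeSpectrum A, ∃ k, p ∈ Set.range (PrimeSpectrum.comap (algebraMap A (C k)))) :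
    Module.FaithfullyFlat A (∀ k, C k) := by
  have := flat_pi A C
  refine Module.FaithfullyFlat.of_comap_surjective (fun p => ?_)
  obtain ⟨k, q, hq⟩ := hsurj p
  refine ⟨PrimeSpectrum.comap (Pi.evalRingHom C k) q, ?_⟩
  rw [← hq, ← PrimeSpectrum.comap_comp_apply]
  rfl

end ff

section mvf
variable {A : Type u} [CommRing A] (F : MVF A) {κ : Type} [Fintype κ] [DecidableEq κ]
  (C : κ → Type u) [∀ k, CommRing (C k)] [∀ k, Algebra A (C k)]

/-- projection `∏ C_k → C_k` in `Alg A` -/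
abbrev πk (k : κ) : algOf A (∀ k, C k) ⟶ algOf A (C k) := CommAlgCat.ofHom (Pi.evalAlgHom A C k)

abbrev ππ (k l : κ) : algOf A ((∀ k, C k) ⊗[A] (∀ k, C k)) ⟶ algOf A (C k ⊗[A] C l) :=
  CommAlgCat.ofHom (Algebra.TensorProduct.map (Pi.evalAlgHom A C k) (Pi.evalAlgHom A C l))

abbrev inclL (k l : κ) : algOf A (C k) ⟶ algOf A (C k ⊗[A] C l) :=
  CommAlgCat.ofHom (Algebra.TensorProduct.includeLeft : C k →ₐ[A] C k ⊗[A] C l)

abbrev inclR (k l : κ) : algOf A (C l) ⟶ algOf A (C k ⊗[A] C l) :=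
  CommAlgCat.ofHom (Algebra.TensorProduct.includeRight : C l →ₐ[A] C k ⊗[A] C l)

omit [Fintype κ] [DecidableEq κ] in
theorem b1 (k : κ) : (Pi.evalAlgHom A C k).toLinearMap = ev A C k := rfl

omit [Fintype κ] [DecidableEq κ] in
theorem b2 (k l : κ) :
    (Algebra.TensorProduct.map (Pi.evalAlgHom A C k) (Pi.evalAlgHom A C l)).toLinearMap =
      TensorProduct.map (ev A C k) (ev A C l) := by
  apply TensorProduct.ext'
  intro x y
  rfl

variable {F}

theorem F_pi_inj (hF : adequate A F) (x x' : F.obj (pt (algOf A (∀ k, C k))))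
    (h : ∀ k, mapEl F (πk C k) x = mapEl F (πk C k) x') : x = x' := by
  obtain ⟨M, N, ν, i, hi, hex⟩ := (adequate_iff F).1 hF
  apply hi
  let zx : (∀ k, C k) ⊗[A] M := i.app (pt (algOf A (∀ k, C k))) x
  let zx' : (∀ k, C k) ⊗[A] M := i.app (pt (algOf A (∀ k, C k))) x'
  have hz : ∀ k, (ev A C k).rTensor M zx = (ev A C k).rTensor M zx' := fun k =>
    (app_mapEl i (πk C k) x).symm.trans ((congrArg (i.app (pt (algOf A (C k)))) (h k)).trans
      (app_mapEl i (πk C k) x'))
  have h0 : zx - zx' = 0 := m1_inj A C M (zx - zx') (fun k => by rw [map_sub, hz k, sub_self])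
  exact sub_eq_zero.1 h0

theorem F_pi_surj (hF : adequate A F) (y : ∀ k, F.obj (pt (algOf A (C k)))) :
    ∃ x : F.obj (pt (algOf A (∀ k, C k))), ∀ k, mapEl F (πk C k) x = y k := by
  obtain ⟨M, N, ν, i, hi, hex⟩ := (adequate_iff F).1 hF
  obtain ⟨z, hz⟩ := m1_surj A C M (fun k => i.app (pt (algOf A (C k))) (y k))
  have hνz : ((underline A).map ν).app (pt (algOf A (∀ k, C k))) z = 0 := by
    refine m1_inj A C N _ (fun k => ?_)
    have h3 : ((underline A).map ν).app (pt (algOf A (C k))) ((ev A C k).rTensor M z) =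
        (ev A C k).rTensor N (((underline A).map ν).app (pt (algOf A (∀ k, C k))) z) :=
      app_mapEl ((underline A).map ν) (πk C k) z
    have h4 : ((underline A).map ν).app (pt (algOf A (C k))) ((ev A C k).rTensor M z) = 0 :=
      (hex (algOf A (C k)) _).2 ⟨y k, (hz k).symm⟩
    exact h3.symm.trans h4
  obtain ⟨x, hx⟩ := (hex _ _).1 hνz
  refine ⟨x, fun k => hi (algOf A (C k)) ?_⟩
  have h1 : i.app (pt (algOf A (C k))) (mapEl F (πk C k) x) =
      (ev A C k).rTensor M (i.app (pt (algOf A (∀ k, C k))) x) := app_mapEl i (πk C k) x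
  have h5 : (ev A C k).rTensor M (i.app (pt (algOf A (∀ k, C k))) x) = (ev A C k).rTensor M z :=
    congrArg _ hx
  exact h1.trans (h5.trans (hz k))

theorem F_pi2_inj (hF : adequate A F)
    (x x' : F.obj (pt (algOf A ((∀ k, C k) ⊗[A] (∀ k, C k)))))
    (h : ∀ k l, mapEl F (ππ C k l) x = mapEl F (ππ C k l) x') : x = x' := by
  obtain ⟨M, N, ν, i, hi, hex⟩ := (adequate_iff F).1 hF
  apply hi
  let zx : ((∀ k, C k) ⊗[A] (∀ k, C k)) ⊗[A] M := i.app (pt (algOf A ((∀ k, C k) ⊗[A] (∀ k, C k)))) x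
  let zx' : ((∀ k, C k) ⊗[A] (∀ k, C k)) ⊗[A] M := i.app (pt (algOf A ((∀ k, C k) ⊗[A] (∀ k, C k)))) x'
  have hz : ∀ k l, (TensorProduct.map (ev A C k) (ev A C l)).rTensor M zx =
      (TensorProduct.map (ev A C k) (ev A C l)).rTensor M zx' := fun k l => by
    have e1 : (Algebra.TensorProduct.map (Pi.evalAlgHom A C k) (Pi.evalAlgHom A C l)).toLinearMap.rTensor M zx =
        (Algebra.TensorProduct.map (Pi.evalAlgHom A C k) (Pi.evalAlgHom A C l)).toLinearMap.rTensor M zx' :=
      (app_mapEl i (ππ C k l) x).symm.trans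
      ((congrArg (i.app (pt (algOf A (C k ⊗[A] C l)))) (h k l)).trans (app_mapEl i (ππ C k l) x'))
    rw [b2] at e1
    exact e1
  have h0 : zx - zx' = 0 := m2_inj A C M (zx - zx') (fun k l => by rw [map_sub, hz k l, sub_self])
  exact sub_eq_zero.1 h0


omit [Fintype κ] [DecidableEq κ] in
open Groth.Agent.Lib.T2H8.Amitsur in
theorem u₀_πk (k : κ) : u₀ (A := A) (∀ k, C k) ≫ πk C k = u₀ (A := A) (C k) := by
  ext

omit [Fintype κ] [DecidableEq κ] in
open Groth.Agent.Lib.T2H8.Amitsur in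
theorem ι₁_ππ (k l : κ) : ι₁ (A := A) (∀ k, C k) ≫ ππ C k l = πk C k ≫ inclL C k l := by
  ext t
  change Algebra.TensorProduct.map (Pi.evalAlgHom A C k) (Pi.evalAlgHom A C l) (t ⊗ₜ 1) = (t k) ⊗ₜ 1
  rw [Algebra.TensorProduct.map_tmul, map_one]
  rfl

omit [Fintype κ] [DecidableEq κ] in
open Groth.Agent.Lib.T2H8.Amitsur in
theorem ι₂_ππ (k l : κ) : ι₂ (A := A) (∀ k, C k) ≫ ππ C k l = πk C l ≫ inclR C k l := by
  ext t
  change Algebra.TensorProduct.map (Pi.evalAlgHom A C k) (Pi.evalAlgHom A C l) (1 ⊗ₜ t) = 1 ⊗ₜ (t l)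
  rw [Algebra.TensorProduct.map_tmul, map_one]
  rfl

open Groth.Agent.Lib.T2H8.Amitsur in
/-- an adequate functor is separated for finite flat jointly surjective families (at the base) -/
theorem hinj₀ (hF : adequate A F) [∀ k, Module.Flat A (C k)]
    (hsurj : ∀ p : PrimeSpectrum A, ∃ k, p ∈ Set.range (PrimeSpectrum.comap (algebraMap A (C k))))
    (x x' : F.obj (pt (algOf A A)))
    (h : ∀ k, mapEl F (u₀ (A := A) (C k)) x = mapEl F (u₀ (A := A) (C k)) x') : x = x' := by
  have := faithfullyFlat_pi A C hsurj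
  obtain ⟨hinjT, -⟩ := amitsur_adequate F (∀ k, C k) hF
  apply hinjT
  refine F_pi_inj C hF _ _ (fun k => ?_)
  have e1 : mapEl F (πk C k) (mapEl F (u₀ (A := A) (∀ k, C k)) x) = mapEl F (u₀ (A := A) (C k)) x := by
    rw [← mapEl_comp, u₀_πk]
  have e2 : mapEl F (πk C k) (mapEl F (u₀ (A := A) (∀ k, C k)) x') = mapEl F (u₀ (A := A) (C k)) x' := by
    rw [← mapEl_comp, u₀_πk]
  exact e1.trans ((h k).trans e2.symm)

open Groth.Agent.Lib.T2H8.Amitsur in
/-- an adequate functor satisfies gluing for finite flat jointly surjective families (at the base) -/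
theorem hglue₀ (hF : adequate A F) [∀ k, Module.Flat A (C k)]
    (hsurj : ∀ p : PrimeSpectrum A, ∃ k, p ∈ Set.range (PrimeSpectrum.comap (algebraMap A (C k))))
    (y : ∀ k, F.obj (pt (algOf A (C k))))
    (hy : ∀ k l, mapEl F (inclL C k l) (y k) = mapEl F (inclR C k l) (y l)) :
    ∃ x : F.obj (pt (algOf A A)), ∀ k, mapEl F (u₀ (A := A) (C k)) x = y k := by
  have := faithfullyFlat_pi A C hsurj
  obtain ⟨-, hglT⟩ := amitsur_adequate F (∀ k, C k) hF
  obtain ⟨yT, hyT⟩ := F_pi_surj C hF y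
  have heq : mapEl F (ι₁ (A := A) (∀ k, C k)) yT = mapEl F (ι₂ (A := A) (∀ k, C k)) yT := by
    refine F_pi2_inj C hF _ _ (fun k l => ?_)
    rw [← mapEl_comp, ← mapEl_comp, ι₁_ππ, ι₂_ππ, mapEl_comp, mapEl_comp, hyT k, hyT l]
    exact hy k l
  obtain ⟨x, hx⟩ := hglT yT heq
  refine ⟨x, fun k => ?_⟩
  have hx' : mapEl F (u₀ (A := A) (∀ k, C k)) x = yT := hx
  rw [← u₀_πk C k, mapEl_comp, hx', hyT k]

end mvf

end Groth.Agent.Lib.T2H8.AdeqFamily
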