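import Mathlib
import Groth.Agent.Lib.LeadAmitsur1
import Groth.Agent.Lib.T2H8AdeqFamily

/-!
# Vanishing of the first Cech cohomology of `M ↦ C ⊗ M` for a finite flat covering family
(module level, with a kernel condition)
-/

set_option autoImplicit false
set_option maxSynthPendingDepth 6
universe u
open TensorProduct

namespace Groth.Agent.Lib.T2H8.AdeqH1
open Groth.Agent.Lib.T2H8.AdeqFamily

section modlevel
variable (A : Type*) [CommRing A] {κ : Type*}
  (C : κ → Type*) [∀ k, CommRing (C k)] [∀ k, Algebra A (C k)]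
  (M : Type*) [AddCommGroup M] [Module A M]

/-- evaluation maps as algebra maps -/
abbrev E1 (k : κ) : (∀ k, C k) →ₐ[A] C k := Pi.evalAlgHom A C k

abbrev E2 (k l : κ) : (∀ k, C k) ⊗[A] (∀ k, C k) →ₐ[A] C k ⊗[A] C l :=
  Algebra.TensorProduct.map (E1 A C k) (E1 A C l)

abbrev E3 (k l m : κ) :
    ((∀ k, C k) ⊗[A] (∀ k, C k)) ⊗[A] (∀ k, C k) →ₐ[A] (C k ⊗[A] C l) ⊗[A] C m :=
  Algebra.TensorProduct.map (E2 A C k l) (E1 A C m)

/-- coface maps on the family -/
noncomputable abbrev q12 (k l m : κ) : C k ⊗[A] C l →ₐ[A] (C k ⊗[A] C l) ⊗[A] C m :=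
  Algebra.TensorProduct.includeLeft

noncomputable abbrev q13 (k l m : κ) : C k ⊗[A] C m →ₐ[A] (C k ⊗[A] C l) ⊗[A] C m :=
  Algebra.TensorProduct.map Algebra.TensorProduct.includeLeft (AlgHom.id A (C m))

noncomputable abbrev q23 (k l m : κ) : C l ⊗[A] C m →ₐ[A] (C k ⊗[A] C l) ⊗[A] C m :=
  Algebra.TensorProduct.map Algebra.TensorProduct.includeRight (AlgHom.id A (C m))

noncomputable abbrev qL (k l : κ) : C k →ₐ[A] C k ⊗[A] C l := Algebra.TensorProduct.includeLeft
noncomputable abbrev qR (k l : κ) : C l →ₐ[A] C k ⊗[A] C l := Algebra.TensorProduct.includeRight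

open Groth.Agent.LeadAmitsur1 in
theorem E3_p12 (k l m : κ) :
    (E3 A C k l m).comp (p12 A (∀ k, C k)) = (q12 A C k l m).comp (E2 A C k l) := by
  apply Algebra.TensorProduct.ext'
  intro a b
  simp [p12]

open Groth.Agent.LeadAmitsur1 in
theorem E3_p13 (k l m : κ) :
    (E3 A C k l m).comp (p13 A (∀ k, C k)) = (q13 A C k l m).comp (E2 A C k m) := by
  apply Algebra.TensorProduct.ext'
  intro a b
  simp [p13]

open Groth.Agent.LeadAmitsur1 in
theorem E3_p23 (k l m : κ) :
    (E3 A C k l m).comp (p23 A (∀ k, C k)) = (q23 A C k l m).comp (E2 A C l m) := by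
  apply Algebra.TensorProduct.ext'
  intro a b
  simp [p23]

theorem E2_left (k l : κ) :
    (E2 A C k l).comp (Algebra.TensorProduct.includeLeft) = (qL A C k l).comp (E1 A C k) := by
  ext a
  simp

theorem E2_right (k l : κ) :
    (E2 A C k l).comp (Algebra.TensorProduct.includeRight) = (qR A C k l).comp (E1 A C l) := by
  ext a
  simp


section sums
variable [Fintype κ] [DecidableEq κ]

omit [Fintype κ] in
theorem ev_sg_self (k : κ) : ev A C k ∘ₗ sg A C k = LinearMap.id := by
  ext c
  simp

omit [Fintype κ] in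
theorem ev_sg_ne {k l : κ} (h : k ≠ l) : ev A C l ∘ₗ sg A C k = 0 := by
  ext c
  simp [Ne.symm h]

theorem m2_surj (w : ∀ k l, (C k ⊗[A] C l) ⊗[A] M) :
    ∃ z : ((∀ k, C k) ⊗[A] (∀ k, C k)) ⊗[A] M,
      ∀ k l, (TensorProduct.map (ev A C k) (ev A C l)).rTensor M z = w k l := by
  refine ⟨∑ k, ∑ l, (TensorProduct.map (sg A C k) (sg A C l)).rTensor M (w k l), fun k' l' => ?_⟩
  simp only [map_sum]
  have key : ∀ k l, (TensorProduct.map (ev A C k') (ev A C l')).rTensor M
      ((TensorProduct.map (sg A C k) (sg A C l)).rTensor M (w k l)) =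
      if k = k' ∧ l = l' then w k' l' else 0 := by
    intro k l
    rw [← LinearMap.comp_apply, ← LinearMap.rTensor_comp, ← TensorProduct.map_comp]
    by_cases hk : k = k'
    · subst hk
      by_cases hl : l = l'
      · subst hl
        rw [ev_sg_self, ev_sg_self, TensorProduct.map_id, LinearMap.rTensor_id, LinearMap.id_apply,
          if_pos ⟨rfl, rfl⟩]
      · rw [ev_sg_ne A C hl, TensorProduct.map_zero_right, LinearMap.rTensor_zero,
          LinearMap.zero_apply, if_neg (fun h => hl h.2)]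
    · rw [ev_sg_ne A C hk, TensorProduct.map_zero_left, LinearMap.rTensor_zero,
        LinearMap.zero_apply, if_neg (fun h => hk h.1)]
  simp only [key]
  rw [Finset.sum_eq_single k']
  · rw [Finset.sum_eq_single l']
    · rw [if_pos ⟨rfl, rfl⟩]
    · intro l _ hl
      rw [if_neg (fun h => hl h.2)]
    · intro h
      exact absurd (Finset.mem_univ _) h
  · intro k _ hk
    exact Finset.sum_eq_zero (fun l _ => if_neg (fun h => hk h.1))
  · intro h
    exact absurd (Finset.mem_univ _) h

theorem m3_inj (z : (((∀ k, C k) ⊗[A] (∀ k, C k)) ⊗[A] (∀ k, C k)) ⊗[A] M)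
    (hz : ∀ k l m, (TensorProduct.map (TensorProduct.map (ev A C k) (ev A C l))
      (ev A C m)).rTensor M z = 0) : z = 0 := by
  have key : ∀ z : (((∀ k, C k) ⊗[A] (∀ k, C k)) ⊗[A] (∀ k, C k)) ⊗[A] M,
      z = ∑ k, ∑ l, ∑ m, (TensorProduct.map (TensorProduct.map (sg A C k) (sg A C l))
          (sg A C m)).rTensor M
        ((TensorProduct.map (TensorProduct.map (ev A C k) (ev A C l)) (ev A C m)).rTensor M z) := by
    intro z
    induction z using TensorProduct.induction_on with
    | zero => simp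
    | add x y hx hy =>
      simp only [map_add, Finset.sum_add_distrib]
      rw [← hx, ← hy]
    | tmul ttt mm =>
      simp only [LinearMap.rTensor_tmul]
      simp only [← TensorProduct.sum_tmul]
      congr 1
      induction ttt using TensorProduct.induction_on with
      | zero => simp
      | add x y hx hy =>
        simp only [map_add, Finset.sum_add_distrib]
        rw [← hx, ← hy]
      | tmul tt t'' =>
        induction tt using TensorProduct.induction_on with
        | zero => simp
        | add x y hx hy =>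
          simp only [TensorProduct.add_tmul, map_add, Finset.sum_add_distrib]
          rw [← hx, ← hy]
        | tmul t t' =>
          simp only [TensorProduct.map_tmul]
          simp only [← TensorProduct.tmul_sum, ← TensorProduct.sum_tmul]
          rw [sum_sg_ev, sum_sg_ev, sum_sg_ev]
  rw [key z]
  simp [hz]

end sums


section main
variable [Fintype κ] [DecidableEq κ]
variable {N : Type*} [AddCommGroup N] [Module A N] (ν : M →ₗ[A] N)

omit [Fintype κ] [DecidableEq κ] in
theorem toLin_E2 (k l : κ) :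
    (E2 A C k l).toLinearMap = TensorProduct.map (ev A C k) (ev A C l) := by
  apply TensorProduct.ext'
  intro x y
  rfl

omit [Fintype κ] [DecidableEq κ] in
theorem toLin_E3 (k l m : κ) :
    (E3 A C k l m).toLinearMap =
      TensorProduct.map (TensorProduct.map (ev A C k) (ev A C l)) (ev A C m) := by
  apply TensorProduct.ext'
  intro x y
  induction x using TensorProduct.induction_on with
  | zero => simp
  | add x x' hx hx' => rw [TensorProduct.add_tmul, map_add, map_add, hx, hx']
  | tmul a b => rfl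

omit [Fintype κ] [DecidableEq κ] in
/-- `rTensor` along algebra maps commutes with `lTensor` of a linear map -/
theorem rT_lT {B B' : Type*} [CommRing B] [Algebra A B] [CommRing B'] [Algebra A B']
    (f : B →ₐ[A] B') (x : B ⊗[A] M) :
    f.toLinearMap.rTensor N (ν.lTensor B x) = ν.lTensor B' (f.toLinearMap.rTensor M x) := by
  rw [← LinearMap.comp_apply, ← LinearMap.comp_apply, LinearMap.rTensor_comp_lTensor,
    LinearMap.lTensor_comp_rTensor]

omit [Fintype κ] [DecidableEq κ] in
theorem rT_comp {B B' B'' : Type*} [CommRing B] [Algebra A B] [CommRing B'] [Algebra A B']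
    [CommRing B''] [Algebra A B''] (g : B' →ₐ[A] B'') (f : B →ₐ[A] B') (x : B ⊗[A] M) :
    g.toLinearMap.rTensor M (f.toLinearMap.rTensor M x) = (g.comp f).toLinearMap.rTensor M x := by
  rw [← LinearMap.comp_apply, ← LinearMap.rTensor_comp, AlgHom.comp_toLinearMap]

open Groth.Agent.LeadAmitsur1 in
/-- vanishing of the first Cech cohomology for the family, with values in `ker ν` -/
theorem family_H1 [∀ k, Module.Flat A (C k)]
    (hsurj : ∀ p : PrimeSpectrum A, ∃ k, p ∈ Set.range (PrimeSpectrum.comap (algebraMap A (C k))))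
    (w : ∀ k l, (C k ⊗[A] C l) ⊗[A] M)
    (hν : ∀ k l, ν.lTensor (C k ⊗[A] C l) (w k l) = 0)
    (hcoc : ∀ k l m, (q23 A C k l m).toLinearMap.rTensor M (w l m) -
      (q13 A C k l m).toLinearMap.rTensor M (w k m) +
      (q12 A C k l m).toLinearMap.rTensor M (w k l) = 0) :
    ∃ c : ∀ k, C k ⊗[A] M, (∀ k, ν.lTensor (C k) (c k) = 0) ∧
      ∀ k l, (qR A C k l).toLinearMap.rTensor M (c l) -
        (qL A C k l).toLinearMap.rTensor M (c k) = w k l := by
  have hff := faithfullyFlat_pi A C hsurj
  -- step 1: assemble the cocycle over the product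
  obtain ⟨z, hz⟩ := m2_surj A C M w
  have hz' : ∀ k l, (E2 A C k l).toLinearMap.rTensor M z = w k l := by
    intro k l
    rw [toLin_E2]
    exact hz k l
  -- step 2: it is a cocycle
  have hD1 : D1 A (∀ k, C k) M z = 0 := by
    apply m3_inj A C M
    intro k l m
    rw [← toLin_E3]
    change (E3 A C k l m).toLinearMap.rTensor M
      ((p23 A (∀ k, C k)).toLinearMap.rTensor M z - (p13 A (∀ k, C k)).toLinearMap.rTensor M z +
        (p12 A (∀ k, C k)).toLinearMap.rTensor M z) = 0
    rw [map_add, map_sub, rT_comp, rT_comp, rT_comp, E3_p12, E3_p13, E3_p23, ← rT_comp, ← rT_comp,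
      ← rT_comp, hz', hz', hz']
    exact hcoc k l m
  -- step 3: it is a coboundary
  obtain ⟨c, hc⟩ := (Groth.Agent.LeadAmitsur1.exact A (∀ k, C k) M z).1 hD1
  have hc' : (Algebra.TensorProduct.includeRight (R := A) (A := ∀ k, C k)
        (B := ∀ k, C k)).toLinearMap.rTensor M c -
      (Algebra.TensorProduct.includeLeft (R := A) (S := A) (A := ∀ k, C k)
        (B := ∀ k, C k)).toLinearMap.rTensor M c = z := hc
  -- step 4: `ν c` is a degree-zero cocycle
  have hνz : ν.lTensor ((∀ k, C k) ⊗[A] (∀ k, C k)) z = 0 := by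
    apply m2_inj A C N
    intro k l
    rw [← toLin_E2, rT_lT, hz', hν]
  have hνc : (Algebra.TensorProduct.includeLeft (R := A) (S := A) (A := ∀ k, C k)
        (B := ∀ k, C k)).toLinearMap.rTensor N (ν.lTensor (∀ k, C k) c) =
      (Algebra.TensorProduct.includeRight (R := A) (A := ∀ k, C k)
        (B := ∀ k, C k)).toLinearMap.rTensor N (ν.lTensor (∀ k, C k) c) := by
    rw [rT_lT, rT_lT]
    have := congrArg (ν.lTensor ((∀ k, C k) ⊗[A] (∀ k, C k))) hc'
    rw [map_sub, hνz] at this
    exact (sub_eq_zero.1 this).symm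
  obtain ⟨w₀, hw₀⟩ := Groth.Agent.Lib.T2H8.Amitsur.mem_range_rTensor_ofId A (∀ k, C k) N _ hνc
  -- step 5: the descended element lies in the range of `ν`
  let n : N := TensorProduct.lid A N w₀
  have hn : (1 : ∀ k, C k) ⊗ₜ[A] n = ν.lTensor (∀ k, C k) c := by
    rw [← hw₀]
    have : w₀ = (1 : A) ⊗ₜ[A] n := by
      rw [← (TensorProduct.lid A N).symm_apply_apply w₀]
      rfl
    rw [this, LinearMap.rTensor_tmul]
    simp
  let π : N →ₗ[A] N ⧸ LinearMap.range ν := (LinearMap.range ν).mkQ
  have hπν : π ∘ₗ ν = 0 := LinearMap.range_mkQ_comp ν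
  have hπn : π n = 0 := by
    apply Module.FaithfullyFlat.tensorProduct_mk_injective (A := A) (B := ∀ k, C k)
      (N ⧸ LinearMap.range ν)
    change (1 : ∀ k, C k) ⊗ₜ[A] π n = (1 : ∀ k, C k) ⊗ₜ[A] (0 : N ⧸ LinearMap.range ν)
    rw [TensorProduct.tmul_zero]
    have h1 : π.lTensor (∀ k, C k) ((1 : ∀ k, C k) ⊗ₜ[A] n) = (1 : ∀ k, C k) ⊗ₜ[A] π n :=
      LinearMap.lTensor_tmul _ _ _ _
    rw [← h1, hn, ← LinearMap.comp_apply, ← LinearMap.lTensor_comp, hπν, LinearMap.lTensor_zero,
      LinearMap.zero_apply]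
  obtain ⟨m₀, hm₀⟩ : ∃ m₀, ν m₀ = n := by
    have : n ∈ LinearMap.range ν := (Submodule.Quotient.mk_eq_zero _).1 hπn
    exact this
  -- step 6: correct `c`
  let c' : (∀ k, C k) ⊗[A] M := c - (1 : ∀ k, C k) ⊗ₜ[A] m₀
  have hνc' : ν.lTensor (∀ k, C k) c' = 0 := by
    change ν.lTensor (∀ k, C k) (c - (1 : ∀ k, C k) ⊗ₜ[A] m₀) = 0
    rw [map_sub, LinearMap.lTensor_tmul, hm₀, hn, sub_self]
  have hc'' : (Algebra.TensorProduct.includeRight (R := A) (A := ∀ k, C k)
        (B := ∀ k, C k)).toLinearMap.rTensor M c' -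
      (Algebra.TensorProduct.includeLeft (R := A) (S := A) (A := ∀ k, C k)
        (B := ∀ k, C k)).toLinearMap.rTensor M c' = z := by
    change (Algebra.TensorProduct.includeRight (R := A) (A := ∀ k, C k)
        (B := ∀ k, C k)).toLinearMap.rTensor M (c - (1 : ∀ k, C k) ⊗ₜ[A] m₀) -
      (Algebra.TensorProduct.includeLeft (R := A) (S := A) (A := ∀ k, C k)
        (B := ∀ k, C k)).toLinearMap.rTensor M (c - (1 : ∀ k, C k) ⊗ₜ[A] m₀) = z
    rw [map_sub, map_sub, LinearMap.rTensor_tmul, LinearMap.rTensor_tmul]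
    simp only [AlgHom.toLinearMap_apply, map_one]
    rw [← hc']
    abel
  refine ⟨fun k => (E1 A C k).toLinearMap.rTensor M c', fun k => ?_, fun k l => ?_⟩
  · rw [← rT_lT, hνc', map_zero]
  · rw [rT_comp, rT_comp, ← E2_left, ← E2_right, ← rT_comp, ← rT_comp, ← map_sub, hc'', hz']

end main

end modlevel
end Groth.Agent.Lib.T2H8.AdeqH1
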