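import Mathlib
import Groth.Agent.Lib.T2H8AdeqH1Mod
import Groth.Agent.Lib.T2H8AdeqCocycle

/-!
# Vanishing of the first Cech cohomology of an adequate functor, and lifting sections along
a surjection with adequate kernel
-/

set_option autoImplicit false
universe u
open CategoryTheory Limits Opposite TensorProduct
open Adeq Groth.Agent.Helper13Adeq

namespace Groth.Agent.Lib.T2H8.AdeqH1
open Groth.Agent.Lib.T2H8.AdeqFamily Groth.Agent.Lib.T2H8.Amitsur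
open Groth.Agent.Lib.T2H8.AdeqCocycle

section mvf
variable {A : Type u} [CommRing A] {κ : Type}
  (C : κ → Type u) [∀ k, CommRing (C k)] [∀ k, Algebra A (C k)]

noncomputable abbrev Q12 (k l m : κ) : algOf A (C k ⊗[A] C l) ⟶ algOf A ((C k ⊗[A] C l) ⊗[A] C m) :=
  CommAlgCat.ofHom (q12 A C k l m)

noncomputable abbrev Q13 (k l m : κ) : algOf A (C k ⊗[A] C m) ⟶ algOf A ((C k ⊗[A] C l) ⊗[A] C m) :=
  CommAlgCat.ofHom (q13 A C k l m)

noncomputable abbrev Q23 (k l m : κ) : algOf A (C l ⊗[A] C m) ⟶ algOf A ((C k ⊗[A] C l) ⊗[A] C m) :=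
  CommAlgCat.ofHom (q23 A C k l m)

theorem inclR_Q23 (k l m : κ) : inclR (A := A) C l m ≫ Q23 C k l m = inclR (A := A) C k m ≫ Q13 C k l m := by
  ext c
  change (q23 A C k l m) ((1 : C l) ⊗ₜ[A] c) = (q13 A C k l m) ((1 : C k) ⊗ₜ[A] c)
  simp

theorem inclL_Q23 (k l m : κ) : inclL (A := A) C l m ≫ Q23 C k l m = inclR (A := A) C k l ≫ Q12 C k l m := by
  ext c
  change (q23 A C k l m) (c ⊗ₜ[A] (1 : C m)) = (q12 A C k l m) ((1 : C k) ⊗ₜ[A] c)
  simp

theorem inclL_Q13 (k l m : κ) : inclL (A := A) C k m ≫ Q13 C k l m = inclL (A := A) C k l ≫ Q12 C k l m := by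
  ext c
  change (q13 A C k l m) (c ⊗ₜ[A] (1 : C m)) = (q12 A C k l m) (c ⊗ₜ[A] (1 : C l))
  simp

theorem u₀_inclL (k l : κ) : u₀ (A := A) (C k) ≫ inclL (A := A) C k l = u₀ (A := A) (C k ⊗[A] C l) := by
  ext

theorem u₀_inclR (k l : κ) : u₀ (A := A) (C l) ≫ inclR (A := A) C k l = u₀ (A := A) (C k ⊗[A] C l) := by
  ext

variable [Fintype κ] [DecidableEq κ]

theorem H1_adequate_family {F : MVF A} (hF : adequate A F) [∀ k, Module.Flat A (C k)]
    (hsurj : ∀ p : PrimeSpectrum A, ∃ k, p ∈ Set.range (PrimeSpectrum.comap (algebraMap A (C k))))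
    (w : ∀ k l, F.obj (pt (algOf A (C k ⊗[A] C l))))
    (hcoc : ∀ k l m, mapEl F (Q23 C k l m) (w l m) - mapEl F (Q13 C k l m) (w k m) +
      mapEl F (Q12 C k l m) (w k l) = 0) :
    ∃ c : ∀ k, F.obj (pt (algOf A (C k))),
      ∀ k l, mapEl F (inclR (A := A) C k l) (c l) - mapEl F (inclL (A := A) C k l) (c k) = w k l := by
  obtain ⟨M, N, ν, i, hi, hex⟩ := (adequate_iff F).1 hF
  let wM : ∀ k l, (C k ⊗[A] C l) ⊗[A] M := fun k l => i.app (pt (algOf A (C k ⊗[A] C l))) (w k l)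
  have hνw : ∀ k l, ν.hom.lTensor (C k ⊗[A] C l) (wM k l) = 0 := fun k l =>
    (hex (algOf A (C k ⊗[A] C l)) _).2 ⟨w k l, rfl⟩
  have hcocM : ∀ k l m, (q23 A C k l m).toLinearMap.rTensor M (wM l m) -
      (q13 A C k l m).toLinearMap.rTensor M (wM k m) +
      (q12 A C k l m).toLinearMap.rTensor M (wM k l) = 0 := by
    intro k l m
    have h := congrArg (i.app (pt (algOf A ((C k ⊗[A] C l) ⊗[A] C m)))) (hcoc k l m)
    rw [map_add, map_sub, app_mapEl, app_mapEl, app_mapEl, map_zero] at h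
    exact h
  obtain ⟨c, hc0, hc⟩ := family_H1 A C M ν.hom hsurj wM hνw hcocM
  have hex' : ∀ k, ∃ x : F.obj (pt (algOf A (C k))), i.app (pt (algOf A (C k))) x = c k :=
    fun k => (hex (algOf A (C k)) _).1 (hc0 k)
  choose cF hcF using hex'
  refine ⟨cF, fun k l => hi (algOf A (C k ⊗[A] C l)) ?_⟩
  rw [map_sub, app_mapEl, app_mapEl, hcF, hcF]
  exact hc k l

theorem surj_of_H1 {F₁ F₂ F₃ : MVF A} (i : F₁ ⟶ F₂) (g : F₂ ⟶ F₃)
    (hi : ∀ B : Alg A, Function.Injective (i.app (pt B)))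
    (hex : ∀ B : Alg A, Function.Exact (i.app (pt B)) (g.app (pt B)))
    (hF₁ : adequate A F₁) [∀ k, Module.Flat A (C k)]
    (hsurj : ∀ p : PrimeSpectrum A, ∃ k, p ∈ Set.range (PrimeSpectrum.comap (algebraMap A (C k))))
    (hglue₂ : ∀ y : ∀ k, F₂.obj (pt (algOf A (C k))),
      (∀ k l, mapEl F₂ (inclL (A := A) C k l) (y k) = mapEl F₂ (inclR (A := A) C k l) (y l)) →
      ∃ x : F₂.obj (pt (algOf A A)), ∀ k, mapEl F₂ (u₀ (A := A) (C k)) x = y k)
    (hinj₃ : ∀ x x' : F₃.obj (pt (algOf A A)),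
      (∀ k, mapEl F₃ (u₀ (A := A) (C k)) x = mapEl F₃ (u₀ (A := A) (C k)) x') → x = x')
    (x : F₃.obj (pt (algOf A A))) (y : ∀ k, F₂.obj (pt (algOf A (C k))))
    (hy : ∀ k, g.app (pt (algOf A (C k))) (y k) = mapEl F₃ (u₀ (A := A) (C k)) x) :
    ∃ y₀ : F₂.obj (pt (algOf A A)), g.app (pt (algOf A A)) y₀ = x := by
  let z : ∀ k l, F₂.obj (pt (algOf A (C k ⊗[A] C l))) := fun k l =>
    mapEl F₂ (inclR (A := A) C k l) (y l) - mapEl F₂ (inclL (A := A) C k l) (y k)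
  have hgz : ∀ k l, g.app (pt (algOf A (C k ⊗[A] C l))) (z k l) = 0 := by
    intro k l
    change g.app (pt (algOf A (C k ⊗[A] C l)))
      (mapEl F₂ (inclR (A := A) C k l) (y l) - mapEl F₂ (inclL (A := A) C k l) (y k)) = 0
    rw [map_sub, app_mapEl, app_mapEl, hy, hy, ← mapEl_comp, ← mapEl_comp, u₀_inclL, u₀_inclR,
      sub_self]
  have hw' : ∀ k l, ∃ w : F₁.obj (pt (algOf A (C k ⊗[A] C l))),
      i.app (pt (algOf A (C k ⊗[A] C l))) w = z k l :=
    fun k l => (hex (algOf A (C k ⊗[A] C l)) _).1 (hgz k l)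
  choose w hw using hw'
  have hcoc : ∀ k l m, mapEl F₁ (Q23 C k l m) (w l m) - mapEl F₁ (Q13 C k l m) (w k m) +
      mapEl F₁ (Q12 C k l m) (w k l) = 0 := by
    intro k l m
    apply hi (algOf A ((C k ⊗[A] C l) ⊗[A] C m))
    rw [map_add, map_sub, app_mapEl, app_mapEl, app_mapEl, hw, hw, hw, map_zero]
    change mapEl F₂ (Q23 C k l m) (mapEl F₂ (inclR (A := A) C l m) (y m) - mapEl F₂ (inclL (A := A) C l m) (y l)) -
      mapEl F₂ (Q13 C k l m) (mapEl F₂ (inclR (A := A) C k m) (y m) - mapEl F₂ (inclL (A := A) C k m) (y k)) +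
      mapEl F₂ (Q12 C k l m) (mapEl F₂ (inclR (A := A) C k l) (y l) - mapEl F₂ (inclL (A := A) C k l) (y k)) = 0
    rw [mapEl_sub, mapEl_sub, mapEl_sub, ← mapEl_comp, ← mapEl_comp, ← mapEl_comp, ← mapEl_comp,
      ← mapEl_comp, ← mapEl_comp, inclR_Q23, inclL_Q23, inclL_Q13]
    abel
  obtain ⟨c, hc⟩ := H1_adequate_family C hF₁ hsurj w hcoc
  let y' : ∀ k, F₂.obj (pt (algOf A (C k))) := fun k => y k - i.app (pt (algOf A (C k))) (c k)
  have hy' : ∀ k l, mapEl F₂ (inclL (A := A) C k l) (y' k) = mapEl F₂ (inclR (A := A) C k l) (y' l) := by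
    intro k l
    change mapEl F₂ (inclL (A := A) C k l) (y k - i.app (pt (algOf A (C k))) (c k)) =
      mapEl F₂ (inclR (A := A) C k l) (y l - i.app (pt (algOf A (C l))) (c l))
    rw [mapEl_sub, mapEl_sub, ← app_mapEl, ← app_mapEl]
    have h1 := congrArg (i.app (pt (algOf A (C k ⊗[A] C l)))) (hc k l)
    rw [map_sub, hw] at h1
    have h2 : i.app (pt (algOf A (C k ⊗[A] C l))) (mapEl F₁ (inclR (A := A) C k l) (c l)) -
        i.app (pt (algOf A (C k ⊗[A] C l))) (mapEl F₁ (inclL (A := A) C k l) (c k)) =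
        mapEl F₂ (inclR (A := A) C k l) (y l) - mapEl F₂ (inclL (A := A) C k l) (y k) := h1
    rw [sub_eq_sub_iff_add_eq_add] at h2 ⊢
    rw [add_comm, ← h2, add_comm]
  obtain ⟨y₀, hy₀⟩ := hglue₂ y' hy'
  refine ⟨y₀, hinj₃ _ _ (fun k => ?_)⟩
  rw [← app_mapEl, hy₀ k]
  change g.app (pt (algOf A (C k))) (y k - i.app (pt (algOf A (C k))) (c k)) = _
  rw [map_sub, hy k]
  have h0 : g.app (pt (algOf A (C k))) (i.app (pt (algOf A (C k))) (c k)) = 0 :=
    (hex (algOf A (C k)) _).2 ⟨c k, rfl⟩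
  rw [h0, sub_zero]

end mvf
end Groth.Agent.Lib.T2H8.AdeqH1
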