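import Mathlib
import Groth.Agent.Lib.Helper13AdeqD

set_option autoImplicit false
universe u
open CategoryTheory Limits Opposite TensorProduct
open Adeq Groth.Agent.Helper13Adeq

namespace Groth.Agent.Lib.T2H8.AdeqRestr
variable (A A' : Type u) [CommRing A] [CommRing A'] [Algebra A A']

/-- the A-algebra structure on an A'-algebra -/
abbrev rC (B' : Alg A') : Alg A := (Alg.restr A A').obj B'

instance (B' : Alg A') : Algebra A' (rC A A' B') := inferInstanceAs (Algebra A' B')

instance (B' : Alg A') : IsScalarTower A A' (rC A A' B') :=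
  IsScalarTower.of_algebraMap_eq (fun _ => rfl)

variable (M : ModuleCat.{u + 1} A)

/-- the comparison `B' ⊗[A] M → B' ⊗[A'] (A' ⊗[A] M)` -/
noncomputable def e (B' : Alg A') :
    (rC A A' B') ⊗[A] M ≃ₗ[rC A A' B'] (rC A A' B') ⊗[A'] (A' ⊗[A] M) :=
  (TensorProduct.AlgebraTensorModule.cancelBaseChange A A' (rC A A' B') (rC A A' B') M).symm

theorem e_tmul (B' : Alg A') (b : rC A A' B') (m : M) :
    e A A' M B' (b ⊗ₜ m) = b ⊗ₜ[A'] ((1 : A') ⊗ₜ[A] m) := rfl


/-- the comparison morphism of module-valued functors on `A'`-algebras -/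
noncomputable def θ : (restr A A').obj ((underline A).obj M) ⟶
    (underline A').obj (ModuleCat.of A' (A' ⊗[A] M)) :=
  PresheafOfModules.homMk
    { app := fun X => AddCommGrpCat.ofHom (e A A' M X.unop.unop).toLinearMap.toAddMonoidHom
      naturality := by
        intro X Y f
        ext x
        change e A A' M Y.unop.unop
            ((((Alg.restr A A').map f.unop.unop).hom.toLinearMap.rTensor M)
              (x : (rC A A' X.unop.unop) ⊗[A] M)) =
          (f.unop.unop.hom.toLinearMap.rTensor (A' ⊗[A] M)) (e A A' M X.unop.unop x)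
        induction x using TensorProduct.induction_on with
        | zero => simp
        | tmul b m => rfl
        | add x y hx hy => simp only [map_add, hx, hy] }
    (fun X r m => (e A A' M X.unop.unop).map_smul r m)


theorem θ_app_apply (B' : Alg A') (x : (rC A A' B') ⊗[A] M) :
    (θ A A' M).app (pt B') x = e A A' M B' x := rfl

theorem e_natural {M N : ModuleCat.{u + 1} A} (ν : M ⟶ N) (B' : Alg A')
    (x : (rC A A' B') ⊗[A] M) :
    ((ν.hom.baseChange A').baseChange (rC A A' B')) (e A A' M B' x) =
      e A A' N B' (ν.hom.baseChange (rC A A' B') x) := by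
  rw [LinearMap.baseChange_baseChange]
  simp only [LinearMap.comp_apply, e, LinearEquiv.coe_coe, LinearEquiv.apply_symm_apply]

theorem adequate_restr (F : MVF A) (hF : adequate A F) : adequate A' ((restr A A').obj F) := by
  obtain ⟨M, N, ν, i, hi, hex⟩ := (adequate_iff F).1 hF
  refine (adequate_iff _).2 ⟨ModuleCat.of A' (A' ⊗[A] M), ModuleCat.of A' (A' ⊗[A] N),
    ModuleCat.ofHom (ν.hom.baseChange A'), (restr A A').map i ≫ θ A A' M, fun B' => ?_, fun B' y => ?_⟩
  · intro x x' h
    have h' : e A A' M B' (i.app (pt (rC A A' B')) x) = e A A' M B' (i.app (pt (rC A A' B')) x') := h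
    exact hi _ ((e A A' M B').injective h')
  · show ((ν.hom.baseChange A').baseChange (rC A A' B')) y = 0 ↔ _
    obtain ⟨x, rfl⟩ := (e A A' M B').surjective y
    rw [e_natural, LinearEquiv.map_eq_zero_iff]
    refine (hex (rC A A' B') x).trans ?_
    constructor
    · rintro ⟨z, rfl⟩
      exact ⟨z, rfl⟩
    · rintro ⟨z, hz⟩
      have hz' : e A A' M B' (i.app (pt (rC A A' B')) z) = e A A' M B' x := hz
      exact ⟨z, (e A A' M B').injective hz'⟩

end Groth.Agent.Lib.T2H8.AdeqRestr
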