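import Mathlib
import Groth.Agent.Lib.Helper13AdeqD

set_option autoImplicit false
universe u
open CategoryTheory Limits Opposite TensorProduct
open Adeq Groth.Agent.Helper13Adeq

namespace Groth.Agent.Lib.T2H8.AdeqPush
variable (A A' : Type u) [CommRing A] [CommRing A'] [Algebra A A']

variable (M' : ModuleCat.{u + 1} A')

/-- restriction of scalars of an `A'`-module to `A` -/
@[reducible] def modA : Module A M' := Module.compHom M' (algebraMap A A')

attribute [local instance] modA

theorem towerA : IsScalarTower A A' M' :=
  ⟨fun a a' m => by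
    show (a • a') • m = algebraMap A A' a • (a' • m)
    rw [Algebra.smul_def, mul_smul]⟩

attribute [local instance] towerA

/-- `M'` as an `A`-module -/
abbrev rM : ModuleCat.{u + 1} A := ModuleCat.of A M'

/-- the comparison `(A' ⊗[A] B) ⊗[A'] M' → B ⊗[A] M'` -/
noncomputable def ε (B : Type u) [CommRing B] [Algebra A B] :
    (A' ⊗[A] B) ⊗[A'] M' ≃ₗ[A] B ⊗[A] M' :=
  ((TensorProduct.comm A' (A' ⊗[A] B) M').restrictScalars A) ≪≫ₗ
    ((TensorProduct.AlgebraTensorModule.cancelBaseChange A A' A' M' B).restrictScalars A) ≪≫ₗ
      (TensorProduct.comm A M' B)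

theorem ε_tmul (B : Type u) [CommRing B] [Algebra A B] (a' : A') (b : B) (m : M') :
    ε A A' M' B ((a' ⊗ₜ[A] b) ⊗ₜ[A'] m) = b ⊗ₜ[A] (a' • m) := rfl


theorem ε_smul (B : Type u) [CommRing B] [Algebra A B] (r : B) (m : (A' ⊗[A] B) ⊗[A'] M') :
    ε A A' M' B ((((1 : A') ⊗ₜ[A] r) : A' ⊗[A] B) • m) = r • ε A A' M' B m := by
  induction m using TensorProduct.induction_on with
  | zero => simp
  | tmul c m =>
    induction c using TensorProduct.induction_on with
    | zero => simp
    | tmul a' b =>
      rw [TensorProduct.smul_tmul', smul_eq_mul, Algebra.TensorProduct.tmul_mul_tmul, one_mul,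
        ε_tmul, ε_tmul, TensorProduct.smul_tmul', smul_eq_mul]
    | add c d hc hd =>
      simp only [TensorProduct.add_tmul, map_add, smul_add, hc, hd]
  | add x y hx hy => simp only [map_add, smul_add, hx, hy]

/-- the comparison morphism of module-valued functors on `A`-algebras -/
noncomputable def θ : (push A A').obj ((underline A').obj M') ⟶ (underline A).obj (rM A A' M') :=
  PresheafOfModules.homMk
    { app := fun X => AddCommGrpCat.ofHom (ε A A' M' X.unop.unop).toLinearMap.toAddMonoidHom
      naturality := by
        intro X Y f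
        ext x
        change ε A A' M' Y.unop.unop
            ((((Alg.baseChange A A').map f.unop.unop).hom.toLinearMap.rTensor M')
              (x : (A' ⊗[A] X.unop.unop) ⊗[A'] M')) =
          (f.unop.unop.hom.toLinearMap.rTensor (rM A A' M')) (ε A A' M' X.unop.unop x)
        induction x using TensorProduct.induction_on with
        | zero => simp
        | tmul c m =>
          induction c using TensorProduct.induction_on with
          | zero => simp
          | tmul a' b => rfl
          | add c d hc hd =>
            simp only [TensorProduct.add_tmul, map_add, hc, hd]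
        | add x y hx hy => simp only [map_add, hx, hy] }
    (fun X r m => ε_smul A A' M' X.unop.unop r m)


theorem θ_app_apply (B : Alg A) (x : (A' ⊗[A] B) ⊗[A'] M') :
    (θ A A' M').app (pt B) x = ε A A' M' B x := rfl

/-- restriction of scalars of a linear map -/
noncomputable def rν {M' N' : ModuleCat.{u + 1} A'} (ν' : M' ⟶ N') : rM A A' M' ⟶ rM A A' N' :=
  ModuleCat.ofHom (ν'.hom.restrictScalars A)

theorem ε_natural {M' N' : ModuleCat.{u + 1} A'} (ν' : M' ⟶ N') (B : Type u) [CommRing B]
    [Algebra A B] (y : (A' ⊗[A] B) ⊗[A'] M') :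
    ((rν A A' ν').hom.baseChange B) (ε A A' M' B y) =
      ε A A' N' B (ν'.hom.baseChange (A' ⊗[A] B) y) := by
  induction y using TensorProduct.induction_on with
  | zero => simp
  | tmul c m =>
    induction c using TensorProduct.induction_on with
    | zero => simp
    | tmul a' b =>
      rw [ε_tmul, LinearMap.baseChange_tmul, LinearMap.baseChange_tmul, ε_tmul]
      congr 1
      exact ν'.hom.map_smul a' m
    | add c d hc hd =>
      simp only [TensorProduct.add_tmul, map_add, hc, hd]
  | add x y hx hy => simp only [map_add, hx, hy]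

theorem adequate_push (F' : MVF A') (hF' : adequate A' F') : adequate A ((push A A').obj F') := by
  obtain ⟨M', N', ν', i', hi', hex'⟩ := (adequate_iff F').1 hF'
  refine (adequate_iff _).2 ⟨rM A A' M', rM A A' N', rν A A' ν',
    (push A A').map i' ≫ θ A A' M', fun B => ?_, fun B y => ?_⟩
  · intro x x' h
    have h' : ε A A' M' B (i'.app (pt ((Alg.baseChange A A').obj B)) x) =
        ε A A' M' B (i'.app (pt ((Alg.baseChange A A').obj B)) x') := h
    exact hi' _ ((ε A A' M' B).injective h')
  · show ((rν A A' ν').hom.baseChange B) y = 0 ↔ _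
    obtain ⟨x, rfl⟩ := (ε A A' M' B).surjective y
    rw [ε_natural, LinearEquiv.map_eq_zero_iff]
    refine (hex' ((Alg.baseChange A A').obj B) x).trans ?_
    constructor
    · rintro ⟨z, rfl⟩
      exact ⟨z, rfl⟩
    · rintro ⟨z, hz⟩
      have hz' : ε A A' M' B (i'.app (pt ((Alg.baseChange A A').obj B)) z) = ε A A' M' B x := hz
      exact ⟨z, (ε A A' M' B).injective hz'⟩

end Groth.Agent.Lib.T2H8.AdeqPush
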