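import Mathlib
import Groth.Agent.Lib.T2H8AdeqRestr
import Groth.Agent.Lib.T2H8AdeqPush
import Groth.Agent.Lib.T2H8AdeqKerCoker

set_option autoImplicit false
universe u
open CategoryTheory Limits Opposite TensorProduct
open Adeq Groth.Agent.Helper13Adeq

namespace Groth.Agent.Lib.T2H8.AdeqDescent
variable (A A' : Type u) [CommRing A] [CommRing A'] [Algebra A A']

/-- the endofunctor `F ↦ (B ↦ F(A' ⊗ B))` -/
noncomputable abbrev T : MVF A ⥤ MVF A := restr A A' ⋙ push A A'

/-- `A' ⊗ B` as an `A`-algebra -/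
abbrev tB (B : Alg A) : Alg A := (Alg.restr A A').obj ((Alg.baseChange A A').obj B)

/-- `A' ⊗ f` as a map of `A`-algebras -/
abbrev tMap {B B₁ : Alg A} (g : B ⟶ B₁) : tB A A' B ⟶ tB A A' B₁ :=
  (Alg.restr A A').map ((Alg.baseChange A A').map g)

theorem unit_natural {B B₁ : Alg A} (g : B ⟶ B₁) :
    Alg.unit A A' B ≫ tMap A A' g = g ≫ Alg.unit A A' B₁ := by
  apply CommAlgCat.hom_ext
  refine DFunLike.ext _ _ fun b => ?_
  show Algebra.TensorProduct.map (AlgHom.id A' A') g.hom ((1 : A') ⊗ₜ[A] b) = (1 : A') ⊗ₜ[A] g.hom b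
  rw [Algebra.TensorProduct.map_tmul]; rfl

/-- the unit `F ⟶ T F` -/
noncomputable def η (F : MVF A) : F ⟶ (T A A').obj F :=
  PresheafOfModules.homMk
    { app := fun X => F.presheaf.map (ptHom (Alg.unit A A' X.unop.unop))
      naturality := by
        intro X Y f
        change F.presheaf.map f ≫ F.presheaf.map (ptHom (Alg.unit A A' Y.unop.unop)) =
          F.presheaf.map (ptHom (Alg.unit A A' X.unop.unop)) ≫
            F.presheaf.map (ptHom (tMap A A' f.unop.unop))
        rw [← F.presheaf.map_comp, ← F.presheaf.map_comp]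
        have := unit_natural A A' f.unop.unop
        exact congrArg (fun h => F.presheaf.map (ptHom h)) this.symm }
    (fun X r m => by
      exact F.map_smul (ptHom (Alg.unit A A' X.unop.unop)) r m)


theorem η_app_apply (F : MVF A) (B : Alg A) (x : F.obj (pt B)) :
    (η A A' F).app (pt B) x = mapEl F (Alg.unit A A' B) x := rfl

theorem T_map_apply (F : MVF A) {B B₁ : Alg A} (g : B ⟶ B₁) (y : F.obj (pt (tB A A' B))) :
    mapEl ((T A A').obj F) g y = mapEl F (tMap A A' g) y := rfl

theorem T_map_app_apply {F G : MVF A} (φ : F ⟶ G) (B : Alg A) (y : F.obj (pt (tB A A' B))) :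
    ((T A A').map φ).app (pt B) y = φ.app (pt (tB A A' B)) y := rfl

theorem adequate_T (F : MVF A) (h₁ : adequate A' ((restr A A').obj F)) :
    adequate A ((T A A').obj F) :=
  Groth.Agent.Lib.T2H8.AdeqPush.adequate_push A A' _ h₁

theorem adequate_of_descent (F : MVF A) (h₁ : adequate A' ((restr A A').obj F))
    (h₂ : ∀ B : Alg A, Function.Injective (F.map (ptHom (Alg.unit A A' B))) ∧
      ∀ y : F.obj (pt (tB A A' B)),
        F.map (ptHom (Alg.unit A A' (tB A A' B))) y =
          F.map (ptHom (tMap A A' (Alg.unit A A' B))) y →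
        y ∈ Set.range (F.map (ptHom (Alg.unit A A' B)))) :
    adequate A F := by
  have hG₁ : adequate A ((T A A').obj F) := adequate_T A A' F h₁
  have hG₂ : adequate A ((T A A').obj ((T A A').obj F)) :=
    adequate_T A A' _ (Groth.Agent.Lib.T2H8.AdeqRestr.adequate_restr A A' _ hG₁)
  let d : (T A A').obj F ⟶ (T A A').obj ((T A A').obj F) :=
    (T A A').map (η A A' F) - η A A' ((T A A').obj F)
  have hd : ∀ (B : Alg A) (y : F.obj (pt (tB A A' B))), d.app (pt B) y =
      mapEl F (Alg.unit A A' (tB A A' B)) y - mapEl F (tMap A A' (Alg.unit A A' B)) y :=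
    fun B y => rfl
  have hK : adequate A (kernel d) := Groth.Agent.Lib.T2H8.AdeqA.adequate_kernel d hG₁ hG₂
  have key : ∀ (B : Alg A) (y : F.obj (pt (tB A A' B))),
      d.app (pt B) y = 0 ↔ y ∈ Set.range ((η A A' F).app (pt B)) := by
    intro B y
    refine (show d.app (pt B) y = 0 ↔ mapEl F (Alg.unit A A' (tB A A' B)) y =
      mapEl F (tMap A A' (Alg.unit A A' B)) y from ?_).trans ?_
    · rw [hd]; exact sub_eq_zero
    constructor
    · intro h
      exact (h₂ B).2 y h
    · rintro ⟨x, rfl⟩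
      show mapEl F _ (mapEl F (Alg.unit A A' B) x) = mapEl F _ (mapEl F (Alg.unit A A' B) x)
      rw [← mapEl_comp, ← mapEl_comp, unit_natural]
  have e : F ≅ kernel d := PshMod.isoKernel (η A A' F) d (fun X => (h₂ X.unop.unop).1)
    (fun X y => key X.unop.unop y)
  exact (adequate A).prop_of_iso e.symm hK

end Groth.Agent.Lib.T2H8.AdeqDescent
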