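import Mathlib
import Groth.Agent.Lib.T2H8AdeqDescent
import Groth.Agent.Lib.T2H8AdeqAbelian

set_option autoImplicit false
universe u
open CategoryTheory Limits Opposite TensorProduct
open Adeq Groth.Agent.Helper13Adeq

namespace Groth.Agent.Lib.T2H8.AdeqFD
open Groth.Agent.Lib.T2H8.AdeqDescent

variable {A : Type u} [CommRing A]

/-- joint injectivity of the projections of a finite product of module-valued functors -/
theorem pi_ext {κ : Type} [Fintype κ] (G : κ → MVF A) (B : Alg A)
    (y y' : (∏ᶜ G).obj (pt B))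
    (h : ∀ k, (Pi.π G k).app (pt B) y = (Pi.π G k).app (pt B) y') : y = y' := by
  have : PreservesLimitsOfShape (Discrete κ)
      (PresheafOfModules.evaluation.{u + 1} (ringOf A) (pt B)) :=
    PresheafOfModules.instPreservesLimitsOfShapeModuleCatCarrierObjOppositeRingCatEvaluation _ _ _
  have hl : IsLimit ((PresheafOfModules.evaluation.{u + 1} (ringOf A) (pt B)).mapCone
      (limit.cone (Discrete.functor G))) :=
    isLimitOfPreserves _ (limit.isLimit _)
  apply Concrete.isLimit_ext _ hl
  rintro ⟨k⟩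
  exact h k


theorem adequate_of_descent_family {κ : Type} [Fintype κ] (A' : κ → Type u) [∀ k, CommRing (A' k)]
    [∀ k, Algebra A (A' k)] (F : MVF A)
    (h₁ : ∀ k, adequate (A' k) ((restr A (A' k)).obj F))
    (hinj : ∀ (B : Alg A) (x : F.obj (pt B)),
      (∀ k, mapEl F (Alg.unit A (A' k) B) x = 0) → x = 0)
    (hglue : ∀ (B : Alg A) (y : ∀ k, F.obj (pt (tB A (A' k) B))),
      (∀ k l, mapEl F (tMap A (A' k) (Alg.unit A (A' l) B)) (y k) =
        mapEl F (Alg.unit A (A' k) (tB A (A' l) B)) (y l)) →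
      ∃ x : F.obj (pt B), ∀ k, mapEl F (Alg.unit A (A' k) B) x = y k) :
    adequate A F := by
  classical
  let G : κ → MVF A := fun k => (T A (A' k)).obj F
  let G₂ : κ × κ → MVF A := fun kl => (T A (A' kl.2)).obj ((T A (A' kl.1)).obj F)
  have hG : ∀ k, adequate A (G k) := fun k => adequate_T A (A' k) F (h₁ k)
  have hG₂ : ∀ kl, adequate A (G₂ kl) := fun kl =>
    adequate_T A (A' kl.2) _
      (Groth.Agent.Lib.T2H8.AdeqRestr.adequate_restr A (A' kl.2) _ (hG kl.1))
  have hP : adequate A (∏ᶜ G) := (adequate A).prop_product hG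
  have hP₂ : adequate A (∏ᶜ G₂) := (adequate A).prop_product hG₂
  let η₀ : F ⟶ ∏ᶜ G := Pi.lift (fun k => η A (A' k) F)
  let d : ∏ᶜ G ⟶ ∏ᶜ G₂ := Pi.lift (fun kl =>
    Pi.π G kl.1 ≫ η A (A' kl.2) (G kl.1) - Pi.π G kl.2 ≫ (T A (A' kl.2)).map (η A (A' kl.1) F))
  have hK : adequate A (kernel d) := Groth.Agent.Lib.T2H8.AdeqA.adequate_kernel d hP hP₂
  have hη₀ : ∀ (B : Alg A) (x : F.obj (pt B)) (k : κ),
      (Pi.π G k).app (pt B) (η₀.app (pt B) x) = mapEl F (Alg.unit A (A' k) B) x := by
    intro B x k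
    rw [← PshMod.comp_app_apply, Pi.lift_π]
    rfl
  have hd : ∀ (B : Alg A) (y : (∏ᶜ G).obj (pt B)) (k l : κ),
      (Pi.π G₂ (k, l)).app (pt B) (d.app (pt B) y) = 0 ↔
        mapEl F (tMap A (A' k) (Alg.unit A (A' l) B)) ((Pi.π G k).app (pt B) y) =
          mapEl F (Alg.unit A (A' k) (tB A (A' l) B)) ((Pi.π G l).app (pt B) y) := by
    intro B y k l
    rw [← PshMod.comp_app_apply, Pi.lift_π]
    exact sub_eq_zero (G := F.obj (pt (tB A (A' k) (tB A (A' l) B))))
  have e : F ≅ kernel d := by
    refine PshMod.isoKernel η₀ d (fun X => ?_) (fun X y => ?_)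
    · -- injectivity
      rw [injective_iff_map_eq_zero]
      intro x hx
      apply hinj X.unop.unop x
      intro k
      have hx' : η₀.app (pt X.unop.unop) x = 0 := hx
      refine (hη₀ X.unop.unop x k).symm.trans ?_
      rw [hx']
      exact _root_.map_zero _
    · constructor
      · intro hy
        have hy' : d.app (pt X.unop.unop) y = 0 := hy
        obtain ⟨x, hx⟩ := hglue X.unop.unop (fun k => (Pi.π G k).app (pt X.unop.unop) y) (by
          intro k l
          refine (hd X.unop.unop y k l).1 ?_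
          rw [hy']
          exact _root_.map_zero _)
        refine ⟨x, ?_⟩
        apply pi_ext G X.unop.unop
        intro k
        rw [hη₀, hx]
      · rintro ⟨x, rfl⟩
        apply pi_ext G₂ X.unop.unop
        rintro ⟨k, l⟩
        have h0 : (Pi.π G₂ (k, l)).app (pt X.unop.unop) (d.app (pt X.unop.unop)
            (η₀.app (pt X.unop.unop) x)) = 0 := by
          rw [hd, hη₀, hη₀, ← mapEl_comp, ← mapEl_comp, unit_natural]
        refine h0.trans ?_
        exact (_root_.map_zero _).symm
  exact (adequate A).prop_of_iso e.symm hK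

end Groth.Agent.Lib.T2H8.AdeqFD
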