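import Mathlib
import Groth.Prelude.Def_Adeq2
import Groth.Agent.Lib.Helper13AdeqD
import Groth.Agent.Lib.T2H8AdeqSplit2

set_option autoImplicit false
universe u
open CategoryTheory Limits Opposite AlgebraicGeometry
open Adeq Groth.Agent.Helper13Adeq

namespace Groth.Agent.Lib.T2H8.AdeqSheaf

variable (K : Precoverage Scheme.{u}) [BigSite.OSh K] {S : Scheme.{u}}
variable {R : CommRingCat.{u}} (a : Spec R ⟶ S) (M : BigSite.Mod K S)

/-- the object of the big site attached to an algebra -/
noncomputable abbrev ob (B : Alg R) : Over S := (specOver a).obj (op B)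

/-- the morphism of the big site attached to an algebra map -/
noncomputable abbrev obMap {B B' : Alg R} (f : B ⟶ B') : ob a B' ⟶ ob a B := (specOver a).map f.op

theorem ob_hom (B : Alg R) :
    (ob a B).hom = Spec.map (CommRingCat.ofHom (algebraMap R B)) ≫ a := rfl

theorem ob_left (B : Alg R) : (ob a B).left = Spec (CommRingCat.of B) := rfl

theorem obMap_left {B B' : Alg R} (f : B ⟶ B') :
    (obMap a f).left = Spec.map (CommRingCat.ofHom f.hom.toRingHom) := rfl

theorem toMVF_mapEl {B B' : Alg R} (f : B ⟶ B') (x : ((toMVF K a).obj M).obj (pt B)) :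
    mapEl ((toMVF K a).obj M) f x = M.val.map (obMap a f).op x := rfl

section mkIso
variable {A : Type u} [CommRing A]

/-- an isomorphism of module-valued functors from a compatible family of linear bijections -/
theorem nonempty_iso_of_family {F G : MVF A} (s : ∀ B : Alg A, F.obj (pt B) → G.obj (pt B))
    (hadd : ∀ (B : Alg A) (x y : F.obj (pt B)), s B (x + y) = s B x + s B y)
    (hsmul : ∀ (B : Alg A) (b : B) (x : F.obj (pt B)), s B (b • x) = b • s B x)
    (hnat : ∀ {B B' : Alg A} (f : B ⟶ B') (x : F.obj (pt B)),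
      s B' (mapEl F f x) = mapEl G f (s B x))
    (hbij : ∀ B : Alg A, Function.Bijective (s B)) : Nonempty (F ≅ G) := by
  let φ := Groth.Agent.Lib.T2H8.AdeqSplit.homOfFamily s hadd hsmul hnat
  have : IsIso φ := PshMod.isIso_of_bijective φ (fun X => hbij X.unop.unop)
  exact ⟨asIso φ⟩

end mkIso

theorem psh_map_id {C : Type*} [Category C] {Rg : Cᵒᵖ ⥤ RingCat.{u + 1}}
    (P : PresheafOfModules.{u + 1} Rg) (X : Cᵒᵖ) (x : P.obj X) : P.map (𝟙 X) x = x := by
  have := P.map_id X
  exact congrArg (fun ψ => ψ x) this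

theorem psh_map_comp {C : Type*} [Category C] {Rg : Cᵒᵖ ⥤ RingCat.{u + 1}}
    (P : PresheafOfModules.{u + 1} Rg) {X Y Z : Cᵒᵖ} (f : X ⟶ Y) (g : Y ⟶ Z) (x : P.obj X) :
    P.map g (P.map f x) = P.map (f ≫ g) x := by
  have := P.map_comp f g
  exact (congrArg (fun ψ => ψ x) this).symm

section restrIso
variable (R' : Type u) [CommRing R'] [Algebra R R']

theorem algebraMap_restr (B' : Alg R') :
    algebraMap R ((Alg.restr R R').obj B') = (algebraMap R' B').comp (algebraMap R R') := rfl

variable (b : Spec (CommRingCat.of R') ⟶ S)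
  (hb : b = Spec.map (CommRingCat.ofHom (algebraMap R R')) ≫ a)

include hb in
theorem hom_eq (B' : Alg R') :
    (ob b B').hom = 𝟙 (Spec (CommRingCat.of B')) ≫ (ob a ((Alg.restr R R').obj B')).hom := by
  rw [ob_hom, ob_hom, algebraMap_restr, CommRingCat.ofHom_comp, Spec.map_comp, Category.assoc,
    Category.id_comp, hb]

/-- comparison morphism between the two objects of the big site attached to an `R'`-algebra -/
noncomputable def τ (B' : Alg R') : ob b B' ⟶ ob a ((Alg.restr R R').obj B') :=
  Over.homMk (𝟙 (Spec (CommRingCat.of B'))) (hom_eq a R' b hb B').symm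

/-- its inverse -/
noncomputable def τinv (B' : Alg R') : ob a ((Alg.restr R R').obj B') ⟶ ob b B' :=
  Over.homMk (𝟙 (Spec (CommRingCat.of B'))) (by
    have h1 : 𝟙 (Spec (CommRingCat.of B')) ≫ (ob b B').hom = (ob b B').hom := Category.id_comp _
    have h2 := hom_eq a R' b hb B'
    have h3 : 𝟙 (Spec (CommRingCat.of B')) ≫ (ob a ((Alg.restr R R').obj B')).hom =
      (ob a ((Alg.restr R R').obj B')).hom := Category.id_comp _
    exact h1.trans (h2.trans h3))


theorem τ_left (B' : Alg R') : (τ a R' b hb B').left = 𝟙 (Spec (CommRingCat.of B')) := rfl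

theorem τinv_left (B' : Alg R') : (τinv a R' b hb B').left = 𝟙 (Spec (CommRingCat.of B')) := rfl

theorem τ_τinv (B' : Alg R') : τ a R' b hb B' ≫ τinv a R' b hb B' = 𝟙 (ob b B') := by
  apply Over.OverMorphism.ext
  rw [Over.comp_left, τ_left, τinv_left, Over.id_left]
  exact Category.id_comp _

theorem τinv_τ (B' : Alg R') :
    τinv a R' b hb B' ≫ τ a R' b hb B' = 𝟙 (ob a ((Alg.restr R R').obj B')) := by
  apply Over.OverMorphism.ext
  rw [Over.comp_left, τ_left, τinv_left, Over.id_left]
  exact Category.id_comp _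

theorem τ_natural {B' B'' : Alg R'} (f : B' ⟶ B'') :
    τ a R' b hb B'' ≫ obMap a ((Alg.restr R R').map f) = obMap b f ≫ τ a R' b hb B' := by
  apply Over.OverMorphism.ext
  rw [Over.comp_left, Over.comp_left, τ_left, τ_left, obMap_left, obMap_left]
  exact (Category.id_comp _).trans (Category.comp_id _).symm


theorem ORing_map_τ (B' : Alg R') (r : B') :
    (BigSite.ORing K S).obj.map (τ a R' b hb B').op (toSect K a ((Alg.restr R R').obj B') r) =
      toSect K b B' r := by
  apply ULift.ext
  change ((𝟙 (Spec (CommRingCat.of B'))) : Spec (CommRingCat.of B') ⟶ _).appTop.hom _ = _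
  simp
  rfl

/-- the comparison map on sections -/
noncomputable def sB (B' : Alg R') (x : ((restr R R').obj ((toMVF K a).obj M)).obj (pt B')) :
    ((toMVF K b).obj M).obj (pt B') :=
  M.val.map (τ a R' b hb B').op x

theorem sB_add (B' : Alg R') (x y : ((restr R R').obj ((toMVF K a).obj M)).obj (pt B')) :
    sB K a M R' b hb B' (x + y) = sB K a M R' b hb B' x + sB K a M R' b hb B' y :=
  map_add (M.val.map (τ a R' b hb B').op).hom x y

theorem sB_smul (B' : Alg R') (r : B') (x : ((restr R R').obj ((toMVF K a).obj M)).obj (pt B')) :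
    sB K a M R' b hb B' (r • x) = r • sB K a M R' b hb B' x := by
  have h := M.val.map_smul (τ a R' b hb B').op (toSect K a ((Alg.restr R R').obj B') r) x
  rw [ORing_map_τ] at h
  exact h

theorem sB_nat {B' B'' : Alg R'} (f : B' ⟶ B'')
    (x : ((restr R R').obj ((toMVF K a).obj M)).obj (pt B')) :
    sB K a M R' b hb B'' (mapEl ((restr R R').obj ((toMVF K a).obj M)) f x) =
      mapEl ((toMVF K b).obj M) f (sB K a M R' b hb B' x) := by
  change M.val.map (τ a R' b hb B'').op (M.val.map (obMap a ((Alg.restr R R').map f)).op x) =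
    M.val.map (obMap b f).op (M.val.map (τ a R' b hb B').op x)
  rw [psh_map_comp, psh_map_comp, ← op_comp, ← op_comp, τ_natural]

theorem sB_bij (B' : Alg R') : Function.Bijective (sB K a M R' b hb B') := by
  refine Function.bijective_iff_has_inverse.2
    ⟨fun y => M.val.map (τinv a R' b hb B').op y, ?_, ?_⟩
  · intro x
    change M.val.map (τinv a R' b hb B').op (M.val.map (τ a R' b hb B').op x) = x
    rw [psh_map_comp, ← op_comp, τinv_τ, op_id, psh_map_id]
  · intro y
    change M.val.map (τ a R' b hb B').op (M.val.map (τinv a R' b hb B').op y) = y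
    rw [psh_map_comp, ← op_comp, τ_τinv, op_id, psh_map_id]

include hb in
/-- restriction of `F_{M,R}` to `R'`-algebras is `F_{M,R'}` -/
theorem nonempty_restr_iso :
    Nonempty ((restr R R').obj ((toMVF K a).obj M) ≅ (toMVF K b).obj M) :=
  nonempty_iso_of_family (sB K a M R' b hb) (sB_add K a M R' b hb) (sB_smul K a M R' b hb)
    (fun f x => sB_nat K a M R' b hb f x) (sB_bij K a M R' b hb)

include hb in
theorem adequate_restr_iff :
    adequate R' ((restr R R').obj ((toMVF K a).obj M)) ↔ adequate R' ((toMVF K b).obj M) := by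
  obtain ⟨e⟩ := nonempty_restr_iso K a M R' b hb
  exact ⟨fun h => (adequate R').prop_of_iso e h, fun h => (adequate R').prop_of_iso e.symm h⟩

end restrIso

end Groth.Agent.Lib.T2H8.AdeqSheaf
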