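import Mathlib
import Groth.Agent.Lib.T2H8AdeqSheafB
import Groth.Agent.Lib.T2H8AdeqFD

set_option autoImplicit false
universe u
open CategoryTheory Limits Opposite AlgebraicGeometry TensorProduct
open Adeq Groth.Agent.Helper13Adeq

namespace Groth.Agent.Lib.T2H8.AdeqSheaf
open Groth.Agent.Lib.T2H8.AdeqDescent

section pushout
variable (A A' : Type u) [CommRing A] [CommRing A'] [Algebra A A']

/-- the underlying ring map of a map of algebras, in `CommRingCat` -/
abbrev rh {B X : Alg A} (f : B ⟶ X) : CommRingCat.of B ⟶ CommRingCat.of X :=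
  CommRingCat.ofHom f.hom.toRingHom

/-- the left square `A → B`, `A → A'`, `A' ⊗ B` is a pushout -/
theorem isPushout_unit (B : Alg A) :
    IsPushout (CommRingCat.ofHom (algebraMap A B)) (CommRingCat.ofHom (algebraMap A A'))
      (rh A (Alg.unit A A' B))
      (CommRingCat.ofHom (S := A' ⊗[A] B) Algebra.TensorProduct.includeLeftRingHom) :=
  (CommRingCat.isPushout_tensorProduct A A' B).flip

/-- the naturality square of the unit is a pushout -/
theorem isPushout_unit_natural {B X : Alg A} (f : B ⟶ X) :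
    IsPushout (rh A f) (rh A (Alg.unit A A' B)) (rh A (Alg.unit A A' X)) (rh A (tMap A A' f)) := by
  have hl := isPushout_unit A A' B
  have hb := isPushout_unit A A' X
  have e1 : CommRingCat.ofHom (algebraMap A B) ≫ rh A f = CommRingCat.ofHom (algebraMap A X) := by
    ext r
    exact f.hom.commutes r
  have e2 : CommRingCat.ofHom (S := A' ⊗[A] B) Algebra.TensorProduct.includeLeftRingHom ≫
      rh A (tMap A A' f) =
      CommRingCat.ofHom (S := A' ⊗[A] X) Algebra.TensorProduct.includeLeftRingHom := by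
    ext r
    change Algebra.TensorProduct.map (AlgHom.id A' A') f.hom (r ⊗ₜ[A] (1 : B)) = r ⊗ₜ[A] (1 : X)
    rw [Algebra.TensorProduct.map_tmul, map_one]
    rfl
  rw [← e1, ← e2] at hb
  refine IsPushout.of_left hb ?_ hl
  ext b
  change (1 : A') ⊗ₜ[A] f.hom b = Algebra.TensorProduct.map (AlgHom.id A' A') f.hom ((1 : A') ⊗ₜ[A] b)
  rw [Algebra.TensorProduct.map_tmul]
  rfl

end pushout


section overlift
variable {C : Type*} [Category C]

theorem over_lift {S : C} {U X₁ X₂ W Z : Over S} (π₁ : X₁ ⟶ U) (π₂ : X₂ ⟶ U) (p₁ : W ⟶ X₁)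
    (p₂ : W ⟶ X₂) (h : IsPullback p₁.left p₂.left π₁.left π₂.left) (g₁ : Z ⟶ X₁) (g₂ : Z ⟶ X₂)
    (hg : g₁ ≫ π₁ = g₂ ≫ π₂) : ∃ t : Z ⟶ W, t ≫ p₁ = g₁ ∧ t ≫ p₂ = g₂ := by
  have hl : g₁.left ≫ π₁.left = g₂.left ≫ π₂.left := by
    rw [← Over.comp_left, ← Over.comp_left, hg]
  refine ⟨Over.homMk (h.lift g₁.left g₂.left hl) ?_, ?_, ?_⟩
  · rw [← Over.w p₁, ← Category.assoc, h.lift_fst, Over.w]
  · apply Over.OverMorphism.ext
    rw [Over.comp_left]
    exact h.lift_fst _ _ _
  · apply Over.OverMorphism.ext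
    rw [Over.comp_left]
    exact h.lift_snd _ _ _

end overlift


section gen
variable (K : Precoverage Scheme.{u}) [K.IsStableUnderBaseChange]

/-- general: base change of an affine covering along a family of pushouts of rings is a covering -/
theorem cover_of_isPushout {κ : Type*} {R B : CommRingCat.{u}} (f : R ⟶ B)
    {R' P : κ → CommRingCat.{u}} (g : ∀ k, R ⟶ R' k) (h : ∀ k, B ⟶ P k) (i : ∀ k, R' k ⟶ P k)
    (hpo : ∀ k, IsPushout f (g k) (h k) (i k))
    (hcov : Presieve.ofArrows (fun k => Spec (R' k)) (fun k => Spec.map (g k)) ∈ K (Spec R)) :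
    Presieve.ofArrows (fun k => Spec (P k)) (fun k => Spec.map (h k)) ∈ K (Spec B) :=
  Precoverage.mem_coverings_of_isPullback (J := K) (fun k => Spec.map (g k)) hcov (Spec.map f)
    (fun k => Spec.map (h k)) (fun k => Spec.map (i k))
    (fun k => isPullback_SpecMap_of_isPushout _ _ _ _ (hpo k))

end gen

section gensheaf
variable {C : Type (u+1)} [Category.{u} C] {J : GrothendieckTopology C} {Rg : Sheaf J RingCat.{u+1}}
  (M : SheafOfModules.{u+1} Rg)

theorem mod_isSheafFor {U : C} {κ : Type*} (X : κ → C) (π : ∀ k, X k ⟶ U)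
    (hcov : Sieve.generate (Presieve.ofArrows X π) ∈ J U) :
    ∀ (y : ∀ k, M.val.obj (op (X k))),
      (∀ (k l : κ) (Z : C) (g₁ : Z ⟶ X k) (g₂ : Z ⟶ X l), g₁ ≫ π k = g₂ ≫ π l →
        M.val.map g₁.op (y k) = M.val.map g₂.op (y l)) →
      ∃! x : M.val.obj (op U), ∀ k, M.val.map (π k).op x = y k := by
  have h1 := (Presheaf.isSheaf_iff_isSheaf_forget J M.val.presheaf (forget Ab.{u+1})).1 M.isSheaf
  have h2 := (isSheaf_iff_isSheaf_of_type _ _).1 h1
  have h3 := h2 _ hcov
  have h4 := (Presieve.isSheafFor_iff_generate _).2 h3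
  have h5 := (Presieve.isSheafFor_arrows_iff _ _).1 h4
  intro y hy
  exact h5 y (fun k l Z g₁ g₂ hg => hy k l Z g₁ g₂ hg)

end gensheaf

section oversheaf
variable (K : Precoverage Scheme.{u}) [BigSite.OSh K] {S : Scheme.{u}} (M : BigSite.Mod K S)

omit [BigSite.OSh K] in
theorem over_cover_mem {U : Over S} {κ : Type*} (X : κ → Over S) (π : ∀ k, X k ⟶ U)
    (h : Presieve.ofArrows (fun k => (X k).left) (fun k => (π k).left) ∈ K U.left) :
    Sieve.generate (Presieve.ofArrows X π) ∈ (QuotSh.J K S) U := by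
  rw [GrothendieckTopology.mem_over_iff]
  change Sieve.overEquiv U (Sieve.ofArrows X π) ∈ _
  rw [Sieve.overEquiv_ofArrows]
  exact Precoverage.generate_mem_toGrothendieck h

theorem mod_sep_over {U : Over S} {κ : Type*} (X : κ → Over S) (π : ∀ k, X k ⟶ U)
    (h : Presieve.ofArrows (fun k => (X k).left) (fun k => (π k).left) ∈ K U.left)
    (x : M.val.obj (op U)) (hx : ∀ k, M.val.map (π k).op x = 0) : x = 0 := by
  obtain ⟨x₀, -, hu⟩ := mod_isSheafFor M X π (over_cover_mem K X π h) (fun _ => 0)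
    (fun k l Z g₁ g₂ _ => (map_zero _).trans (map_zero _).symm)
  rw [hu x hx, hu 0 (fun k => map_zero _)]

theorem mod_glue_over {U : Over S} {κ : Type*} (X : κ → Over S) (π : ∀ k, X k ⟶ U)
    (h : Presieve.ofArrows (fun k => (X k).left) (fun k => (π k).left) ∈ K U.left)
    (W : κ → κ → Over S) (p₁ : ∀ k l, W k l ⟶ X k) (p₂ : ∀ k l, W k l ⟶ X l)
    (hpb : ∀ k l, IsPullback (p₁ k l).left (p₂ k l).left (π k).left (π l).left)
    (y : ∀ k, M.val.obj (op (X k)))
    (hy : ∀ k l, M.val.map (p₁ k l).op (y k) = M.val.map (p₂ k l).op (y l)) :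
    ∃ x : M.val.obj (op U), ∀ k, M.val.map (π k).op x = y k := by
  obtain ⟨x, hx, -⟩ := mod_isSheafFor M X π (over_cover_mem K X π h) y (by
    intro k l Z g₁ g₂ hg
    obtain ⟨t, ht₁, ht₂⟩ := over_lift (π k) (π l) (p₁ k l) (p₂ k l) (hpb k l) g₁ g₂ hg
    rw [← ht₁, ← ht₂, op_comp, op_comp, ← psh_map_comp, ← psh_map_comp, hy k l])
  exact ⟨x, hx⟩

end oversheaf


section sheaf
variable (K : Precoverage Scheme.{u}) [BigSite.OSh K] [K.IsStableUnderBaseChange] {S : Scheme.{u}}
variable {R : CommRingCat.{u}} (a : Spec R ⟶ S) (M : BigSite.Mod K S)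
variable {κ : Type} (R' : κ → Type u) [∀ k, CommRing (R' k)] [∀ k, Algebra R (R' k)]

omit [BigSite.OSh K] in
theorem cover_baseChange
    (hcov : Presieve.ofArrows (fun k => Spec (CommRingCat.of (R' k)))
      (fun k => Spec.map (CommRingCat.ofHom (algebraMap R (R' k)))) ∈ K (Spec R)) (B : Alg R) :
    Presieve.ofArrows (fun k => Spec (CommRingCat.of (tB R (R' k) B)))
      (fun k => Spec.map (rh R (Alg.unit R (R' k) B))) ∈ K (Spec (CommRingCat.of B)) :=
  cover_of_isPushout K _ _ _ _ (fun k => isPushout_unit R (R' k) B) hcov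

omit [BigSite.OSh K] [K.IsStableUnderBaseChange] in
theorem obMap_isPullback {B₀ B₁ B₂ B₃ : Alg R} (f : B₀ ⟶ B₁) (g : B₀ ⟶ B₂) (h : B₁ ⟶ B₃) (i : B₂ ⟶ B₃)
    (hpo : IsPushout (rh R f) (rh R g) (rh R h) (rh R i)) :
    IsPullback (obMap a h).left (obMap a i).left (obMap a f).left (obMap a g).left :=
  isPullback_SpecMap_of_isPushout _ _ _ _ hpo

theorem toMVF_hinj
    (hcov : Presieve.ofArrows (fun k => Spec (CommRingCat.of (R' k)))
      (fun k => Spec.map (CommRingCat.ofHom (algebraMap R (R' k)))) ∈ K (Spec R))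
    (B : Alg R) (x : ((toMVF K a).obj M).obj (pt B))
    (hx : ∀ k, mapEl ((toMVF K a).obj M) (Alg.unit R (R' k) B) x = 0) : x = 0 :=
  mod_sep_over K M (fun k => ob a (tB R (R' k) B)) (fun k => obMap a (Alg.unit R (R' k) B))
    (cover_baseChange K R' hcov B) x hx

theorem toMVF_hglue
    (hcov : Presieve.ofArrows (fun k => Spec (CommRingCat.of (R' k)))
      (fun k => Spec.map (CommRingCat.ofHom (algebraMap R (R' k)))) ∈ K (Spec R))
    (B : Alg R) (y : ∀ k, ((toMVF K a).obj M).obj (pt (tB R (R' k) B)))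
    (hy : ∀ k l, mapEl ((toMVF K a).obj M) (tMap R (R' k) (Alg.unit R (R' l) B)) (y k) =
      mapEl ((toMVF K a).obj M) (Alg.unit R (R' k) (tB R (R' l) B)) (y l)) :
    ∃ x, ∀ k, mapEl ((toMVF K a).obj M) (Alg.unit R (R' k) B) x = y k :=
  mod_glue_over K M (fun k => ob a (tB R (R' k) B)) (fun k => obMap a (Alg.unit R (R' k) B))
    (cover_baseChange K R' hcov B)
    (fun k l => ob a (tB R (R' k) (tB R (R' l) B)))
    (fun k l => obMap a (tMap R (R' k) (Alg.unit R (R' l) B)))
    (fun k l => obMap a (Alg.unit R (R' k) (tB R (R' l) B)))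
    (fun k l => (obMap_isPullback a _ _ _ _ (isPushout_unit_natural R (R' k) (Alg.unit R (R' l) B))).flip)
    y hy

end sheaf

end Groth.Agent.Lib.T2H8.AdeqSheaf
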