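import Mathlib
import Groth.Agent.Lib.T2H8AdeqSheafC
import Groth.Agent.Lib.T2H8AdeqRestr

set_option autoImplicit false
universe u
open CategoryTheory Limits Opposite AlgebraicGeometry TensorProduct
open Adeq Groth.Agent.Helper13Adeq

namespace Groth.Agent.Lib.T2H8.AdeqSheaf
open Groth.Agent.Lib.T2H8.AdeqDescent

section assembly
variable (K : Precoverage Scheme.{u}) [BigSite.OSh K] {S : Scheme.{u}} (M : BigSite.Mod K S)

/-- adequacy on a chart passes to any affine chart factoring through it -/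
theorem adequate_of_factor {R₁ : CommRingCat.{u}} (a₁ : Spec R₁ ⟶ S)
    (h₁ : adequate R₁ ((toMVF K a₁).obj M)) (R' : Type u) [CommRing R'] (ψ : R₁ →+* R')
    (b : Spec (CommRingCat.of R') ⟶ S) (hb : b = Spec.map (CommRingCat.ofHom ψ) ≫ a₁) :
    adequate R' ((toMVF K b).obj M) := by
  let _ : Algebra R₁ R' := ψ.toAlgebra
  exact (adequate_restr_iff K a₁ M R' b hb).1 (Groth.Agent.Lib.T2H8.AdeqRestr.adequate_restr R₁ R' _ h₁)

variable [K.IsStableUnderBaseChange]

theorem adequate_of_cover {R : CommRingCat.{u}} (a : Spec R ⟶ S) {κ : Type} [Fintype κ]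
    (R' : κ → Type u) [∀ k, CommRing (R' k)] [∀ k, Algebra R (R' k)]
    (hcov : Presieve.ofArrows (fun k => Spec (CommRingCat.of (R' k)))
      (fun k => Spec.map (CommRingCat.ofHom (algebraMap R (R' k)))) ∈ K (Spec R))
    (h : ∀ k, ∃ (R₁ : CommRingCat.{u}) (a₁ : Spec R₁ ⟶ S) (ψ : R₁ →+* R' k),
      adequate R₁ ((toMVF K a₁).obj M) ∧
      Spec.map (CommRingCat.ofHom (algebraMap R (R' k))) ≫ a = Spec.map (CommRingCat.ofHom ψ) ≫ a₁) :
    adequate R ((toMVF K a).obj M) := by
  refine Groth.Agent.Lib.T2H8.AdeqFD.adequate_of_descent_family R' _ (fun k => ?_)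
    (fun B x hx => toMVF_hinj K a M R' hcov B x hx)
    (fun B y hy => toMVF_hglue K a M R' hcov B y hy)
  obtain ⟨R₁, a₁, ψ, h₁, hb⟩ := h k
  exact (adequate_restr_iff K a M (R' k) _ rfl).2
    (adequate_of_factor K M a₁ h₁ (R' k) ψ _ hb)

end assembly
section refine

theorem exists_refinement (P : MorphismProperty Scheme.{u}) [P.IsStableUnderBaseChange]
    [P.IsStableUnderComposition] [Scheme.IsJointlySurjectivePreserving P]
    (hopen : ∀ {X Y : Scheme.{u}} (f : X ⟶ Y), P f → IsOpenMap f)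
    (himm : ∀ {X Y : Scheme.{u}} (f : X ⟶ Y), IsOpenImmersion f → P f)
    {S : Scheme.{u}} {ι : Type*} (R_ : ι → CommRingCat.{u}) (a_ : ∀ i, Spec (R_ i) ⟶ S)
    (hcov : Presieve.ofArrows (fun i => Spec (R_ i)) a_ ∈ Scheme.precoverage P S)
    (R : CommRingCat.{u}) (a : Spec R ⟶ S) :
    ∃ (n : ℕ) (R' : Fin n → CommRingCat.{u}) (φ : ∀ k, R ⟶ R' k) (i : Fin n → ι)
      (ψ : ∀ k, R_ (i k) ⟶ R' k),
      Presieve.ofArrows (fun k => Spec (R' k)) (fun k => Spec.map (φ k)) ∈
        Scheme.precoverage P (Spec R) ∧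
      ∀ k, Spec.map (ψ k) ≫ a_ (i k) = Spec.map (φ k) ≫ a := by
  classical
  let X : ι → Scheme.{u} := fun i => pullback a (a_ i)
  let f : ∀ i, X i ⟶ Spec R := fun i => pullback.fst a (a_ i)
  have hX : Presieve.ofArrows X f ∈ Scheme.precoverage P (Spec R) :=
    Precoverage.mem_coverings_of_isPullback (J := Scheme.precoverage P) a_ hcov a f
      (fun i => pullback.snd a (a_ i)) (fun i => IsPullback.of_hasPullback a (a_ i))
  rw [Scheme.ofArrows_mem_precoverage_iff] at hX
  obtain ⟨hsurj, hP⟩ := hX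
  have hcoc : IsCompactOpenCovered (fun i => ((f i) : X i → Spec R)) (Set.univ) :=
    IsCompactOpenCovered.of_isOpenMap (fun i => (f i).continuous) (fun i => hopen _ (hP i))
      (fun x _ => hsurj x) isOpen_univ isCompact_univ
  obtain ⟨n, idx, V, hV, hU⟩ := hcoc.exists_mem_of_isBasis
    (fun i => (X i).isBasis_affineOpens) (fun _ _ h => IsAffineOpen.isCompact h)
  have hV' : ∀ k, IsAffineOpen (V k) := hV
  refine ⟨n, fun k => Γ(X (idx k), V k), fun k => Spec.preimage ((hV' k).fromSpec ≫ f (idx k)), idx,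
    fun k => Spec.preimage ((hV' k).fromSpec ≫ pullback.snd a (a_ (idx k))), ?_, ?_⟩
  · rw [Scheme.ofArrows_mem_precoverage_iff]
    refine ⟨fun x => ?_, fun k => ?_⟩
    · have hx : x ∈ ⋃ k, (f (idx k)) '' (V k) := by rw [hU]; trivial
      obtain ⟨k, v, hv, rfl⟩ := Set.mem_iUnion.1 hx
      refine ⟨k, ?_⟩
      rw [Spec.map_preimage]
      rw [← (hV' k).range_fromSpec] at hv
      obtain ⟨w, rfl⟩ := hv
      exact ⟨w, rfl⟩
    · rw [Spec.map_preimage]
      exact P.comp_mem _ _ (himm _ inferInstance) (hP _)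
  · intro k
    rw [Spec.map_preimage, Spec.map_preimage, Category.assoc, Category.assoc]
    congr 1
    exact pullback.condition.symm

end refine

section main

/-- adequacy of a module on the big site of a precoverage of open maps containing open immersions
can be tested on any affine chart -/
theorem adequate_chart (P : MorphismProperty Scheme.{u}) [P.IsStableUnderBaseChange]
    [P.IsStableUnderComposition] [Scheme.IsJointlySurjectivePreserving P]
    (hopen : ∀ {X Y : Scheme.{u}} (f : X ⟶ Y), P f → IsOpenMap f)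
    (himm : ∀ {X Y : Scheme.{u}} (f : X ⟶ Y), IsOpenImmersion f → P f)
    [BigSite.OSh (Scheme.precoverage P)] (S : Scheme.{u})
    (M : BigSite.Mod (Scheme.precoverage P) S) (hM : adequateMod (Scheme.precoverage P) S M)
    (R : CommRingCat.{u}) (a : Spec R ⟶ S) :
    adequate R ((toMVF (Scheme.precoverage P) a).obj M) := by
  obtain ⟨ι, R_, a_, hcov, hadq⟩ := hM
  obtain ⟨n, R', φ, i, ψ, hcov', hfac⟩ := exists_refinement P hopen himm R_ a_ hcov R a
  let _ : ∀ k, Algebra R (R' k) := fun k => (φ k).hom.toAlgebra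
  exact adequate_of_cover (Scheme.precoverage P) M a (fun k => R' k) hcov'
    (fun k => ⟨R_ (i k), a_ (i k), (ψ k).hom, hadq (i k), (hfac k).symm⟩)

end main

end Groth.Agent.Lib.T2H8.AdeqSheaf
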