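import Mathlib
import Groth.Agent.Lib.T2H8AdeqSheafD
import Groth.Agent.Lib.T2H8AdeqAbelian

set_option autoImplicit false
universe u
open CategoryTheory Limits Opposite AlgebraicGeometry TensorProduct
open Adeq Groth.Agent.Helper13Adeq

namespace Groth.Agent.Lib.T2H8.AdeqSheaf

section charts
variable (P : MorphismProperty Scheme.{u}) [BigSite.OSh (Scheme.precoverage P)]

/-- adequacy can be checked on all affine charts -/
theorem adequateMod_of_charts (himm : ∀ {X Y : Scheme.{u}} (f : X ⟶ Y), IsOpenImmersion f → P f)
    (S : Scheme.{u}) (M : BigSite.Mod (Scheme.precoverage P) S)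
    (h : ∀ (R : CommRingCat.{u}) (a : Spec R ⟶ S),
      adequate R ((toMVF (Scheme.precoverage P) a).obj M)) :
    adequateMod (Scheme.precoverage P) S M := by
  refine ⟨S.affineOpens, fun U => Γ(S, U.1), fun U => U.2.fromSpec, ?_, fun U => h _ _⟩
  rw [Scheme.ofArrows_mem_precoverage_iff]
  refine ⟨fun x => ?_, fun U => himm _ inferInstance⟩
  obtain ⟨_, ⟨U, hU, rfl⟩, hxU, -⟩ :=
    S.isBasis_affineOpens.exists_subset_of_mem_open (Set.mem_univ x) isOpen_univ
  refine ⟨⟨U, hU⟩, ?_⟩
  rw [IsAffineOpen.range_fromSpec]
  exact hxU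

end charts

section kernel
variable (K : Precoverage Scheme.{u}) [BigSite.OSh K] {S : Scheme.{u}}
variable {R : CommRingCat.{u}} (a : Spec R ⟶ S)

theorem toMVF_map_app {M N : BigSite.Mod K S} (f : M ⟶ N) (B : Alg R)
    (x : ((toMVF K a).obj M).obj (pt B)) :
    ((toMVF K a).map f).app (pt B) x = f.val.app (op (ob a B)) x := rfl

theorem adequate_toMVF_kernel {M N : BigSite.Mod K S} (φ : M ⟶ N)
    (hM : adequate R ((toMVF K a).obj M)) (hN : adequate R ((toMVF K a).obj N)) :
    adequate R ((toMVF K a).obj (kernel φ)) := by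
  let i := (toMVF K a).map (kernel.ι φ)
  let g := (toMVF K a).map φ
  have hinj : ∀ X, Function.Injective (i.app X) := by
    intro X
    have : Mono ((SheafOfModules.evaluation (BigSite.ORing K S)
        (op ((specOver a).obj X.unop))).map (kernel.ι φ)) := inferInstance
    have h := (ModuleCat.mono_iff_injective _).1 this
    intro x y hxy
    exact h hxy
  have hex : ∀ X, Function.Exact (i.app X) (g.app X) := by
    intro X
    let Sc := ShortComplex.mk (kernel.ι φ) φ (kernel.condition φ)
    have hSc : Sc.Exact := Sc.exact_of_f_is_kernel (kernelIsKernel φ)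
    have : (SheafOfModules.evaluation (BigSite.ORing K S)
        (op ((specOver a).obj X.unop))).PreservesZeroMorphisms := by
      unfold SheafOfModules.evaluation
      infer_instance
    have h2 := hSc.map_of_mono_of_preservesKernel
      (SheafOfModules.evaluation (BigSite.ORing K S) (op ((specOver a).obj X.unop)))
      (inferInstanceAs (Mono (kernel.ι φ))) inferInstance
    have h3 := (ShortComplex.moduleCat_exact_iff _).1 h2
    intro y
    constructor
    · intro hy
      obtain ⟨x, hx⟩ := h3 y hy
      exact ⟨x, hx⟩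
    · rintro ⟨x, rfl⟩
      exact (Sc.map (SheafOfModules.evaluation (BigSite.ORing K S)
        (op ((specOver a).obj X.unop)))).moduleCat_zero_apply x
  have e := PshMod.isoKernel i g hinj hex
  exact (adequate R).prop_of_iso e.symm ((adequate R).prop_kernel g hM hN)

end kernel

end Groth.Agent.Lib.T2H8.AdeqSheaf
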