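import Mathlib
import Groth.Agent.Lib.T2H8AdeqSheafE
import Groth.Agent.Lib.T2H8AdeqFamily

set_option autoImplicit false
universe u
open CategoryTheory Limits Opposite AlgebraicGeometry TensorProduct
open Adeq Groth.Agent.Helper13Adeq

namespace Groth.Agent.Lib.T2H8.AdeqSheaf

section shf
variable (K : Precoverage Scheme.{u}) [BigSite.OSh K] {S : Scheme.{u}}
  (Pre : PresheafOfModules.{u + 1} (BigSite.ORing K S).obj)

/-- the sheafification -/
noncomputable abbrev Psh : BigSite.Mod K S :=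
  (PresheafOfModules.sheafification (𝟙 (BigSite.ORing K S).obj)).obj Pre

/-- the unit -/
noncomputable abbrev ηu : Pre ⟶ (PresheafOfModules.restrictScalars (𝟙 (BigSite.ORing K S).obj)).obj (Psh K Pre).val :=
  (PresheafOfModules.sheafificationAdjunction (𝟙 (BigSite.ORing K S).obj)).unit.app Pre

/-- the unit on sections, as a function -/
noncomputable def ηs (U : Over S) (x : Pre.obj (op U)) : (Psh K Pre).val.obj (op U) :=
  (ηu K Pre).app (op U) x

theorem ηs_add (U : Over S) (x y : Pre.obj (op U)) : ηs K Pre U (x + y) = ηs K Pre U x + ηs K Pre U y :=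
  map_add ((ηu K Pre).app (op U)).hom x y

theorem ηs_nat {U V : Over S} (f : V ⟶ U) (x : Pre.obj (op U)) :
    ηs K Pre V (Pre.map f.op x) = (Psh K Pre).val.map f.op (ηs K Pre U x) :=
  PresheafOfModules.naturality_apply (ηu K Pre) f.op x

theorem ηs_smul (U : Over S) (r : (BigSite.ORing K S).obj.obj (op U)) (x : Pre.obj (op U)) :
    ηs K Pre U (r • x) = r • ηs K Pre U x :=
  ((ηu K Pre).app (op U)).hom.map_smul r x

theorem ηs_locInj (U : Over S) (x y : Pre.obj (op U)) (h : ηs K Pre U x = ηs K Pre U y) :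
    ∃ T : Sieve U, T ∈ QuotSh.J K S U ∧
      ∀ (V : Over S) (f : V ⟶ U), T f → Pre.map f.op x = Pre.map f.op y := by
  have := Presheaf.equalizerSieve_mem (QuotSh.J K S) (toSheafify (QuotSh.J K S) Pre.presheaf)
    (X := op U) x y h
  exact ⟨_, this, fun V f hf => hf⟩

theorem ηs_locSurj (U : Over S) (s : (Psh K Pre).val.obj (op U)) :
    ∃ T : Sieve U, T ∈ QuotSh.J K S U ∧
      ∀ (V : Over S) (f : V ⟶ U), T f →
        ∃ t : Pre.obj (op V), ηs K Pre V t = (Psh K Pre).val.map f.op s := by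
  have := Presheaf.imageSieve_mem (QuotSh.J K S) (toSheafify (QuotSh.J K S) Pre.presheaf)
    (U := op U) s
  exact ⟨_, this, fun V f hf => hf⟩


theorem ηs_inj_of_iso {U V : Over S} (e : U ≅ V) (h : Function.Injective (ηs K Pre V)) :
    Function.Injective (ηs K Pre U) := by
  intro x y hxy
  have h1 : Pre.map e.inv.op x = Pre.map e.inv.op y := by
    apply h
    rw [ηs_nat, ηs_nat, hxy]
  have h2 : Pre.map e.hom.op (Pre.map e.inv.op x) = Pre.map e.hom.op (Pre.map e.inv.op y) :=
    congrArg (fun z => Pre.map e.hom.op z) h1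
  rw [psh_map_comp, psh_map_comp, ← op_comp, e.hom_inv_id, op_id, psh_map_id, psh_map_id] at h2
  exact h2

theorem ηs_surj_of_iso {U V : Over S} (e : U ≅ V) (h : Function.Surjective (ηs K Pre V)) :
    Function.Surjective (ηs K Pre U) := by
  intro s
  obtain ⟨t, ht⟩ := h ((Psh K Pre).val.map e.inv.op s)
  refine ⟨Pre.map e.hom.op t, ?_⟩
  rw [ηs_nat, ht, psh_map_comp, ← op_comp, e.hom_inv_id, op_id, psh_map_id]

theorem sieve_mem_iff_left {U V : Over S} (T : Sieve U) (m : V ⟶ U) :
    T m ↔ Sieve.overEquiv U T m.left := by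
  conv_lhs => rw [← (Sieve.overEquiv U).symm_apply_apply T]
  exact Sieve.overEquiv_symm_iff _ _

end shf

section refine2
variable (P : MorphismProperty Scheme.{u}) [P.IsStableUnderBaseChange]
    [P.IsStableUnderComposition] [Scheme.IsJointlySurjectivePreserving P]

theorem exists_refinement' 
    (hopen : ∀ {X Y : Scheme.{u}} (f : X ⟶ Y), P f → IsOpenMap f)
    (himm : ∀ {X Y : Scheme.{u}} (f : X ⟶ Y), IsOpenImmersion f → P f)
    {X : Scheme.{u}} {ι : Type*} (Y : ι → Scheme.{u}) (f : ∀ i, Y i ⟶ X)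
    (hcov : Presieve.ofArrows Y f ∈ Scheme.precoverage P X)
    (B : CommRingCat.{u}) (g : Spec B ⟶ X) :
    ∃ (n : ℕ) (B' : Fin n → CommRingCat.{u}) (φ : ∀ k, B ⟶ B' k) (i : Fin n → ι)
      (ψ : ∀ k, Spec (B' k) ⟶ Y (i k)),
      Presieve.ofArrows (fun k => Spec (B' k)) (fun k => Spec.map (φ k)) ∈
        Scheme.precoverage P (Spec B) ∧
      ∀ k, ψ k ≫ f (i k) = Spec.map (φ k) ≫ g := by
  classical
  let Z : ι → Scheme.{u} := fun i => pullback g (f i)
  let p : ∀ i, Z i ⟶ Spec B := fun i => pullback.fst g (f i)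
  have hX : Presieve.ofArrows Z p ∈ Scheme.precoverage P (Spec B) :=
    Precoverage.mem_coverings_of_isPullback (J := Scheme.precoverage P) f hcov g p
      (fun i => pullback.snd g (f i)) (fun i => IsPullback.of_hasPullback g (f i))
  rw [Scheme.ofArrows_mem_precoverage_iff] at hX
  obtain ⟨hsurj, hP⟩ := hX
  have hcoc : IsCompactOpenCovered (fun i => ((p i) : Z i → Spec B)) (Set.univ) :=
    IsCompactOpenCovered.of_isOpenMap (fun i => (p i).continuous) (fun i => hopen _ (hP i))
      (fun x _ => hsurj x) isOpen_univ isCompact_univ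
  obtain ⟨n, idx, V, hV, hU⟩ := hcoc.exists_mem_of_isBasis
    (fun i => (Z i).isBasis_affineOpens) (fun _ _ h => IsAffineOpen.isCompact h)
  have hV' : ∀ k, IsAffineOpen (V k) := hV
  refine ⟨n, fun k => Γ(Z (idx k), V k), fun k => Spec.preimage ((hV' k).fromSpec ≫ p (idx k)), idx,
    fun k => (hV' k).fromSpec ≫ pullback.snd g (f (idx k)), ?_, ?_⟩
  · rw [Scheme.ofArrows_mem_precoverage_iff]
    refine ⟨fun x => ?_, fun k => ?_⟩
    · have hx : x ∈ ⋃ k, (p (idx k)) '' (V k) := by rw [hU]; trivial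
      obtain ⟨k, v, hv, rfl⟩ := Set.mem_iUnion.1 hx
      refine ⟨k, ?_⟩
      rw [Spec.map_preimage]
      rw [← (hV' k).range_fromSpec] at hv
      obtain ⟨w, rfl⟩ := hv
      exact ⟨w, rfl⟩
    · rw [Spec.map_preimage]
      exact P.comp_mem _ _ (himm _ inferInstance) (hP _)
  · intro k
    rw [Spec.map_preimage, Category.assoc, Category.assoc]
    congr 1
    exact pullback.condition.symm

theorem exists_affine_refinement
    (hopen : ∀ {X Y : Scheme.{u}} (f : X ⟶ Y), P f → IsOpenMap f)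
    (himm : ∀ {X Y : Scheme.{u}} (f : X ⟶ Y), IsOpenImmersion f → P f)
    {X : Scheme.{u}} (Sv : Sieve X) (hS : Sv ∈ (Scheme.precoverage P).toGrothendieck X) :
    ∀ (B : CommRingCat.{u}) (g : Spec B ⟶ X),
      ∃ (κ : Type) (_ : Fintype κ) (B' : κ → CommRingCat.{u}) (φ : ∀ k, B ⟶ B' k),
        Presieve.ofArrows (fun k => Spec (B' k)) (fun k => Spec.map (φ k)) ∈
          Scheme.precoverage P (Spec B) ∧
        ∀ k, Sv (Spec.map (φ k) ≫ g) := by
  have hS' : (Scheme.precoverage P).Saturate X Sv := hS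
  induction hS' with
  | of X R hR =>
    intro B g
    obtain ⟨ι, Y, f, rfl⟩ := R.exists_eq_ofArrows
    obtain ⟨n, B', φ, i, ψ, hcov, hfac⟩ := exists_refinement' P hopen himm Y f hR B g
    exact ⟨Fin n, inferInstance, B', φ, hcov,
      fun k => ⟨Y (i k), ψ k, f (i k), Presieve.ofArrows.mk _, hfac k⟩⟩
  | top X =>
    intro B g
    refine ⟨Unit, inferInstance, fun _ => B, fun _ => 𝟙 B, ?_, fun _ => trivial⟩
    rw [Scheme.ofArrows_mem_precoverage_iff]
    refine ⟨fun x => ⟨(), x, ?_⟩, fun _ => himm _ inferInstance⟩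
    rw [Spec.map_id]
    rfl
  | pullback X Sv hSv Y f ih =>
    intro B g
    obtain ⟨κ, hκ, B', φ, hcov, hmem⟩ := ih (Precoverage.mem_toGrothendieck_iff.2 hSv) B (g ≫ f)
    refine ⟨κ, hκ, B', φ, hcov, fun k => ?_⟩
    rw [Sieve.pullback_apply, Category.assoc]
    exact hmem k
  | transitive X Sv Rv hSv hRv ih₁ ih₂ =>
    intro B g
    obtain ⟨κ, hκ, B', φ, hcov, hmem⟩ := ih₁ (Precoverage.mem_toGrothendieck_iff.2 hSv) B g
    have h2 : ∀ k, ∃ (κ' : Type) (_ : Fintype κ') (B'' : κ' → CommRingCat.{u})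
        (φ' : ∀ l, B' k ⟶ B'' l),
        Presieve.ofArrows (fun l => Spec (B'' l)) (fun l => Spec.map (φ' l)) ∈
          Scheme.precoverage P (Spec (B' k)) ∧
        ∀ l, (Rv.pullback (Spec.map (φ k) ≫ g)) (Spec.map (φ' l) ≫ 𝟙 _) := fun k =>
      ih₂ (hmem k) (Precoverage.mem_toGrothendieck_iff.2 (hRv (hmem k))) (B' k) (𝟙 _)
    choose κ' hκ' B'' φ' hcov' hmem' using h2
    refine ⟨Σ k, κ' k, inferInstance, fun p => B'' p.1 p.2, fun p => φ p.1 ≫ φ' p.1 p.2, ?_, ?_⟩
    · have := Precoverage.comp_mem_coverings (J := Scheme.precoverage P)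
        (fun k => Spec.map (φ k)) hcov (fun k l => Spec.map (φ' k l)) hcov'
      simp only [Spec.map_comp]
      exact this
    · rintro ⟨k, l⟩
      have := hmem' k l
      rw [Sieve.pullback_apply, Category.comp_id] at this
      rw [Spec.map_comp, Category.assoc]
      exact this

end refine2

section baseobj
variable (P : MorphismProperty Scheme.{u}) [P.IsStableUnderBaseChange]
    [P.IsStableUnderComposition] [Scheme.IsJointlySurjectivePreserving P]
    [BigSite.OSh (Scheme.precoverage P)] {S : Scheme.{u}}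
open Groth.Agent.Lib.T2H8.Amitsur (u₀)

omit [BigSite.OSh (Scheme.precoverage P)] in
theorem exists_base_refinement
    (hopen : ∀ {X Y : Scheme.{u}} (f : X ⟶ Y), P f → IsOpenMap f)
    (himm : ∀ {X Y : Scheme.{u}} (f : X ⟶ Y), IsOpenImmersion f → P f)
    (hflat : ∀ {X Y : Scheme.{u}} (f : X ⟶ Y), P f → Flat f)
    {C : CommRingCat.{u}} (a : Spec C ⟶ S) (T : Sieve (ob a (algOf C C)))
    (hT : T ∈ QuotSh.J (Scheme.precoverage P) S (ob a (algOf C C))) :
    ∃ (κ : Type) (_ : Fintype κ) (B' : κ → Type u) (_ : ∀ k, CommRing (B' k))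
      (_ : ∀ k, Algebra C (B' k)),
      (∀ k, Module.Flat C (B' k)) ∧
      (∀ p : PrimeSpectrum C, ∃ k, p ∈ Set.range (PrimeSpectrum.comap (algebraMap C (B' k)))) ∧
      Presieve.ofArrows (fun k => (ob a (algOf C (B' k))).left)
        (fun k => (obMap a (u₀ (A := C) (B' k))).left) ∈
          Scheme.precoverage P (ob a (algOf C C)).left ∧
      ∀ k, T (obMap a (u₀ (A := C) (B' k))) := by
  have h1 : Sieve.overEquiv _ T ∈
      (Scheme.precoverage P).toGrothendieck (Spec (CommRingCat.of C)) :=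
    (GrothendieckTopology.mem_over_iff _ _).1 hT
  obtain ⟨κ, hκ, B', φ, hcov, hmem⟩ :=
    exists_affine_refinement P hopen himm _ h1 (CommRingCat.of C) (𝟙 _)
  let _ : ∀ k, Algebra C (B' k) := fun k => (φ k).hom.toAlgebra
  have hcov' := (Scheme.ofArrows_mem_precoverage_iff P).1 hcov
  refine ⟨κ, hκ, fun k => B' k, inferInstance, inferInstance, ?_, ?_, ?_, ?_⟩
  · intro k
    have : Flat (Spec.map (φ k)) := hflat _ (hcov'.2 k)
    exact (Flat.SpecMap_iff.1 this)
  · intro p
    obtain ⟨k, q, hq⟩ := hcov'.1 p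
    exact ⟨k, q, hq⟩
  · exact hcov
  · intro k
    rw [sieve_mem_iff_left]
    have := hmem k
    rw [Category.comp_id] at this
    exact this

end baseobj

section bij
variable (P : MorphismProperty Scheme.{u}) [P.IsStableUnderBaseChange]
    [P.IsStableUnderComposition] [Scheme.IsJointlySurjectivePreserving P]
    [BigSite.OSh (Scheme.precoverage P)] {S : Scheme.{u}}
    (Pre : PresheafOfModules.{u + 1} (BigSite.ORing (Scheme.precoverage P) S).obj)
open Groth.Agent.Lib.T2H8.Amitsur (u₀)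

omit [P.IsStableUnderBaseChange] [P.IsStableUnderComposition]
  [Scheme.IsJointlySurjectivePreserving P] in
theorem toMVFPre_mapEl {R : CommRingCat.{u}} (a : Spec R ⟶ S) {B B' : Alg R} (f : B ⟶ B')
    (x : ((toMVFPre (Scheme.precoverage P) a).obj Pre).obj (pt B)) :
    mapEl ((toMVFPre (Scheme.precoverage P) a).obj Pre) f x = Pre.map (obMap a f).op x := rfl

theorem base_iso {C : CommRingCat.{u}} (a' : Spec C ⟶ S) :
    Nonempty (Over.mk a' ≅ ob a' (algOf C C)) := by
  have h : (ob a' (algOf C C)).hom = a' := by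
    rw [ob_hom, Algebra.algebraMap_self, CommRingCat.ofHom_id]
    exact (congrArg (· ≫ a') (Spec.map_id _)).trans (Category.id_comp _)
  exact ⟨Over.isoMk (Iso.refl _) (by
    change 𝟙 _ ≫ (ob a' (algOf C C)).hom = a'
    rw [Category.id_comp, h])⟩

variable (hopen : ∀ {X Y : Scheme.{u}} (f : X ⟶ Y), P f → IsOpenMap f)
    (himm : ∀ {X Y : Scheme.{u}} (f : X ⟶ Y), IsOpenImmersion f → P f)
    (hflat : ∀ {X Y : Scheme.{u}} (f : X ⟶ Y), P f → Flat f)
    (hadq : ∀ (R : CommRingCat.{u}) (a : Spec R ⟶ S),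
      adequate R ((toMVFPre (Scheme.precoverage P) a).obj Pre))

include hopen himm hflat hadq in
theorem ηs_inj_base {C : CommRingCat.{u}} (a : Spec C ⟶ S) :
    Function.Injective (ηs (Scheme.precoverage P) Pre (ob a (algOf C C))) := by
  classical
  intro x y hxy
  obtain ⟨T, hT, hTxy⟩ := ηs_locInj (Scheme.precoverage P) Pre _ x y hxy
  obtain ⟨κ, hκ, B', hB1, hB2, hfl, hsj, hcov, hmem⟩ :=
    exists_base_refinement P hopen himm hflat a T hT
  exact Groth.Agent.Lib.T2H8.AdeqFamily.hinj₀ B' (hadq C a) hsj x y (fun k => hTxy _ _ (hmem k))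

include hopen himm hflat hadq in
theorem ηs_inj_all {R : CommRingCat.{u}} (a : Spec R ⟶ S) (B : Alg R) :
    Function.Injective (ηs (Scheme.precoverage P) Pre (ob a B)) := by
  obtain ⟨e⟩ := base_iso (C := CommRingCat.of B) (ob a B).hom
  exact ηs_inj_of_iso (Scheme.precoverage P) Pre e
    (ηs_inj_base P Pre hopen himm hflat hadq (C := CommRingCat.of B) (ob a B).hom)

omit [P.IsStableUnderBaseChange] [P.IsStableUnderComposition]
  [Scheme.IsJointlySurjectivePreserving P] [BigSite.OSh (Scheme.precoverage P)] in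
theorem obMap_comp {R : CommRingCat.{u}} (a : Spec R ⟶ S) {B B' B'' : Alg R} (f : B ⟶ B')
    (g : B' ⟶ B'') : obMap a g ≫ obMap a f = obMap a (f ≫ g) :=
  ((specOver a).map_comp g.op f.op).symm

open Groth.Agent.Lib.T2H8.AdeqFamily in
theorem u₀_incl {A : Type u} [CommRing A] {κ : Type} (C : κ → Type u) [∀ k, CommRing (C k)]
    [∀ k, Algebra A (C k)] (k l : κ) :
    u₀ (A := A) (C k) ≫ inclL C k l = u₀ (A := A) (C l) ≫ inclR C k l := by
  ext

open Groth.Agent.Lib.T2H8.AdeqFamily in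
include hopen himm hflat hadq in
theorem ηs_surj_base {C : CommRingCat.{u}} (a : Spec C ⟶ S) :
    Function.Surjective (ηs (Scheme.precoverage P) Pre (ob a (algOf C C))) := by
  classical
  intro s
  obtain ⟨T, hT, hTs⟩ := ηs_locSurj (Scheme.precoverage P) Pre _ s
  obtain ⟨κ, hκ, B', hB1, hB2, hfl, hsj, hcov, hmem⟩ :=
    exists_base_refinement P hopen himm hflat a T hT
  choose t ht using fun k => hTs _ _ (hmem k)
  have hy : ∀ k l, mapEl ((toMVFPre (Scheme.precoverage P) a).obj Pre) (inclL B' k l) (t k) =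
      mapEl ((toMVFPre (Scheme.precoverage P) a).obj Pre) (inclR B' k l) (t l) := by
    intro k l
    apply ηs_inj_all P Pre hopen himm hflat hadq a (algOf C (B' k ⊗[C] B' l))
    rw [toMVFPre_mapEl, toMVFPre_mapEl, ηs_nat, ηs_nat, ht k, ht l, psh_map_comp, psh_map_comp,
      ← op_comp, ← op_comp, obMap_comp, obMap_comp, u₀_incl]
  obtain ⟨x, hx⟩ := hglue₀ B' (hadq C a) hsj t hy
  refine ⟨x, ?_⟩
  have h0 := mod_sep_over (Scheme.precoverage P) (Psh (Scheme.precoverage P) Pre)
    (fun k => ob a (algOf C (B' k))) (fun k => obMap a (u₀ (A := C) (B' k))) hcov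
    (ηs (Scheme.precoverage P) Pre _ x - s) (fun k => by
      rw [map_sub, ← ηs_nat, ← ht k, sub_eq_zero]
      exact congrArg _ (hx k))
  exact sub_eq_zero.1 h0

include hopen himm hflat hadq in
theorem ηs_surj_all {R : CommRingCat.{u}} (a : Spec R ⟶ S) (B : Alg R) :
    Function.Surjective (ηs (Scheme.precoverage P) Pre (ob a B)) := by
  obtain ⟨e⟩ := base_iso (C := CommRingCat.of B) (ob a B).hom
  exact ηs_surj_of_iso (Scheme.precoverage P) Pre e
    (ηs_surj_base P Pre hopen himm hflat hadq (C := CommRingCat.of B) (ob a B).hom)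

include hopen himm hflat hadq in
/-- `F_{P,a} ≅ F_{P^#,a}` when all charts of `P` are adequate -/
theorem nonempty_sheafify_iso {R : CommRingCat.{u}} (a : Spec R ⟶ S) :
    Nonempty ((toMVFPre (Scheme.precoverage P) a).obj Pre ≅
      (toMVF (Scheme.precoverage P) a).obj (Psh (Scheme.precoverage P) Pre)) :=
  nonempty_iso_of_family (fun B x => ηs (Scheme.precoverage P) Pre (ob a B) x)
    (fun B x y => ηs_add (Scheme.precoverage P) Pre (ob a B) x y)
    (fun B b x => ηs_smul (Scheme.precoverage P) Pre (ob a B) (toSect (Scheme.precoverage P) a B b) x)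
    (fun f x => ηs_nat (Scheme.precoverage P) Pre (obMap a f) x)
    (fun B => ⟨ηs_inj_all P Pre hopen himm hflat hadq a B, ηs_surj_all P Pre hopen himm hflat hadq a B⟩)

include hopen himm hflat hadq in
theorem adequateMod_sheafification :
    adequateMod (Scheme.precoverage P) S (Psh (Scheme.precoverage P) Pre) :=
  adequateMod_of_charts P himm S _ (fun R a => by
    obtain ⟨e⟩ := nonempty_sheafify_iso P Pre hopen himm hflat hadq a
    exact (adequate R).prop_of_iso e (hadq R a))

end bij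

end Groth.Agent.Lib.T2H8.AdeqSheaf
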