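import Mathlib
import Groth.Agent.Lib.T2H8AdeqSheafify
import Groth.Agent.Lib.Helper4ModEpi

set_option autoImplicit false
universe u
open CategoryTheory Limits Opposite AlgebraicGeometry TensorProduct
open Adeq Groth.Agent.Helper13Adeq

attribute [-instance] Groth.Agent.Lib.T2H8.AdeqRestr.instAlgebraCarrierRC
  Groth.Agent.Lib.T2H8.AdeqRestr.instIsScalarTowerCarrierRC

namespace Groth.Agent.Lib.T2H8.AdeqSheaf

section parasitic
variable (P : MorphismProperty Scheme.{u}) [P.IsStableUnderBaseChange]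
    [P.IsStableUnderComposition] [Scheme.IsJointlySurjectivePreserving P]
    [BigSite.OSh (Scheme.precoverage P)] {S : Scheme.{u}}

/-- a section over a flat object vanishes if it vanishes on the flat members of a covering sieve -/
theorem eq_zero_of_sieve
    (hopen : ∀ {X Y : Scheme.{u}} (f : X ⟶ Y), P f → IsOpenMap f)
    (himm : ∀ {X Y : Scheme.{u}} (f : X ⟶ Y), IsOpenImmersion f → P f)
    (hflat : ∀ {X Y : Scheme.{u}} (f : X ⟶ Y), P f → Flat f)
    (M : BigSite.Mod (Scheme.precoverage P) S) (U : Over S) (hU : Flat U.hom)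
    (T : Sieve U) (hT : T ∈ QuotSh.J (Scheme.precoverage P) S U)
    (s : M.val.obj (op U))
    (hs : ∀ (V : Over S) (m : V ⟶ U), T m → Flat V.hom → M.val.map m.op s = 0) : s = 0 := by
  have h1 : Sieve.overEquiv U T ∈ (Scheme.precoverage P).toGrothendieck U.left :=
    (GrothendieckTopology.mem_over_iff _ _).1 hT
  -- Zariski cover of `U` by affine opens
  refine mod_sep_over (Scheme.precoverage P) M
    (fun W : U.left.affineOpens => Over.mk (W.2.fromSpec ≫ U.hom))
    (fun W => Over.homMk W.2.fromSpec rfl) ?_ s (fun W => ?_)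
  · change Presieve.ofArrows (fun W : U.left.affineOpens => Spec Γ(U.left, W.1))
      (fun W => W.2.fromSpec) ∈ Scheme.precoverage P U.left
    rw [Scheme.ofArrows_mem_precoverage_iff]
    refine ⟨fun x => ?_, fun W => himm _ inferInstance⟩
    obtain ⟨_, ⟨W, hW, rfl⟩, hxW, -⟩ :=
      U.left.isBasis_affineOpens.exists_subset_of_mem_open (Set.mem_univ x) isOpen_univ
    refine ⟨⟨W, hW⟩, ?_⟩
    rw [IsAffineOpen.range_fromSpec]
    exact hxW
  · obtain ⟨κ, hκ, B', φ, hcov, hmem⟩ :=
      exists_affine_refinement P hopen himm _ h1 Γ(U.left, W.1) W.2.fromSpec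
    have hcov' := (Scheme.ofArrows_mem_precoverage_iff P).1 hcov
    let jW : Over.mk (W.2.fromSpec ≫ U.hom) ⟶ U := Over.homMk W.2.fromSpec rfl
    let nk : ∀ k, Over.mk (Spec.map (φ k) ≫ W.2.fromSpec ≫ U.hom) ⟶
        Over.mk (W.2.fromSpec ≫ U.hom) := fun k => Over.homMk (Spec.map (φ k)) rfl
    let sW : M.val.obj (op (Over.mk (W.2.fromSpec ≫ U.hom))) := M.val.map jW.op s
    refine mod_sep_over (Scheme.precoverage P) M
      (fun k => Over.mk (Spec.map (φ k) ≫ W.2.fromSpec ≫ U.hom)) nk hcov sW (fun k => ?_)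
    change M.val.map (nk k).op (M.val.map jW.op s) = 0
    rw [psh_map_comp, ← op_comp]
    refine hs _ _ ?_ ?_
    · have := hmem k
      rw [Sieve.overEquiv_iff] at this
      have h2 := T.downward_closed this (Over.homMk (𝟙 _) (by simp) :
        Over.mk (Spec.map (φ k) ≫ W.2.fromSpec ≫ U.hom) ⟶
          Over.mk ((Spec.map (φ k) ≫ W.2.fromSpec) ≫ U.hom))
      have e : nk k ≫ jW = (Over.homMk (𝟙 _) (by simp) :
        Over.mk (Spec.map (φ k) ≫ W.2.fromSpec ≫ U.hom) ⟶
          Over.mk ((Spec.map (φ k) ≫ W.2.fromSpec) ≫ U.hom)) ≫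
          (Over.homMk (Spec.map (φ k) ≫ W.2.fromSpec) :
            Over.mk ((Spec.map (φ k) ≫ W.2.fromSpec) ≫ U.hom) ⟶ U) := by
        apply Over.OverMorphism.ext
        simp [nk, jW]
      rw [e]
      exact h2
    · have h3 : Flat (Spec.map (φ k)) := hflat _ (hcov'.2 k)
      have h4 : Flat U.hom := hU
      change Flat (Spec.map (φ k) ≫ W.2.fromSpec ≫ U.hom)
      infer_instance


theorem parasitic_of_exact
    (hopen : ∀ {X Y : Scheme.{u}} (f : X ⟶ Y), P f → IsOpenMap f)
    (himm : ∀ {X Y : Scheme.{u}} (f : X ⟶ Y), IsOpenImmersion f → P f)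
    (hflat : ∀ {X Y : Scheme.{u}} (f : X ⟶ Y), P f → Flat f)
    (C : ShortComplex (BigSite.Mod (Scheme.precoverage P) S)) (hC : C.Exact)
    (p₁ : parasitic (Scheme.precoverage P) S C.X₁)
    (p₃ : parasitic (Scheme.precoverage P) S C.X₃) :
    parasitic (Scheme.precoverage P) S C.X₂ := by
  intro U hU
  suffices h : ∀ s : C.X₂.val.obj (op U), s = 0 from ⟨fun s s' => (h s).trans (h s').symm⟩
  intro s
  let k : C.X₁ ⟶ kernel C.g := kernel.lift C.g C.f C.zero
  have hk : Epi k := C.exact_iff_epi_kernel_lift.1 hC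
  have hloc := Groth.Agent.Lib.Helper4.ModEpi.isLocallySurjective_of_epi k
  have hgs : C.g.val.app (op U) s = 0 := (p₃ U hU).elim _ _
  -- `s` comes from the kernel
  obtain ⟨κ, hκ⟩ : ∃ κ : (kernel C.g).val.obj (op U), (kernel.ι C.g).val.app (op U) κ = s := by
    let Sc := ShortComplex.mk (kernel.ι C.g) C.g (kernel.condition C.g)
    have hSc : Sc.Exact := Sc.exact_of_f_is_kernel (kernelIsKernel C.g)
    have : (SheafOfModules.evaluation (BigSite.ORing (Scheme.precoverage P) S)
        (op U)).PreservesZeroMorphisms := by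
      unfold SheafOfModules.evaluation
      infer_instance
    have h2 := hSc.map_of_mono_of_preservesKernel
      (SheafOfModules.evaluation (BigSite.ORing (Scheme.precoverage P) S) (op U))
      (inferInstanceAs (Mono (kernel.ι C.g))) inferInstance
    have h3 := (ShortComplex.moduleCat_exact_iff _).1 h2
    obtain ⟨x, hx⟩ := h3 s hgs
    exact ⟨x, hx⟩
  have hT := hloc.imageSieve_mem κ
  refine eq_zero_of_sieve P hopen himm hflat C.X₂ U hU _ hT s (fun V m hm hV => ?_)
  obtain ⟨t, ht⟩ := hm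
  have hnat := PresheafOfModules.naturality_apply (kernel.ι C.g).val m.op κ
  have ht' : (kernel C.g).val.map m.op κ = k.val.app (op V) (0 : C.X₁.val.obj (op V)) := by
    let t' : C.X₁.val.obj (op V) := t
    have ht0 : t' = 0 := (p₁ V hV).elim _ _
    have ht2 : (kernel C.g).val.map m.op κ = k.val.app (op V) t' := ht.symm
    rw [ht2, ht0]
  rw [hκ] at hnat
  refine hnat.symm.trans ?_
  rw [ht', map_zero, map_zero]
  rfl

end parasitic
end Groth.Agent.Lib.T2H8.AdeqSheaf
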