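import Mathlib
import Groth.Agent.Lib.T2H8AdeqH1
import Groth.Agent.Lib.T2H8AdeqParasitic
import Groth.Agent.Lib.T2H8AdeqExt
import Groth.Agent.Lib.T2H8AdeqSheafE

/-!
# Extensions of adequate modules are adequate
-/

set_option autoImplicit false
universe u
open CategoryTheory Limits Opposite AlgebraicGeometry TensorProduct
open Adeq Groth.Agent.Helper13Adeq

attribute [-instance] Groth.Agent.Lib.T2H8.AdeqRestr.instAlgebraCarrierRC
  Groth.Agent.Lib.T2H8.AdeqRestr.instIsScalarTowerCarrierRC

namespace Groth.Agent.Lib.T2H8.AdeqSheaf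
open Groth.Agent.Lib.T2H8.AdeqFamily Groth.Agent.Lib.T2H8.Amitsur Groth.Agent.Lib.T2H8.AdeqH1

section glue0
variable (K : Precoverage Scheme.{u}) [BigSite.OSh K] {S : Scheme.{u}}
variable {R : CommRingCat.{u}} (a : Spec R ⟶ S) (M : BigSite.Mod K S)
variable {κ : Type} (C : κ → Type u) [∀ k, CommRing (C k)] [∀ k, Algebra R (C k)]

theorem isPushout_incl (k l : κ) :
    IsPushout (rh R (u₀ (A := R) (C k))) (rh R (u₀ (A := R) (C l)))
      (rh R (inclL (A := R) C k l)) (rh R (inclR (A := R) C k l)) :=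
  CommRingCat.isPushout_tensorProduct R (C k) (C l)

theorem toMVF_hglue₀
    (hcov : Presieve.ofArrows (fun k => Spec (CommRingCat.of (C k)))
      (fun k => Spec.map (CommRingCat.ofHom (algebraMap R (C k)))) ∈ K (Spec R))
    (y : ∀ k, ((toMVF K a).obj M).obj (pt (algOf R (C k))))
    (hy : ∀ k l, mapEl ((toMVF K a).obj M) (inclL (A := R) C k l) (y k) =
      mapEl ((toMVF K a).obj M) (inclR (A := R) C k l) (y l)) :
    ∃ x : ((toMVF K a).obj M).obj (pt (algOf R R)),
      ∀ k, mapEl ((toMVF K a).obj M) (u₀ (A := R) (C k)) x = y k :=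
  mod_glue_over K M (fun k => ob a (algOf R (C k))) (fun k => obMap a (u₀ (A := R) (C k)))
    hcov
    (fun k l => ob a (algOf R (C k ⊗[R] C l)))
    (fun k l => obMap a (inclL (A := R) C k l))
    (fun k l => obMap a (inclR (A := R) C k l))
    (fun k l => obMap_isPullback a _ _ _ _ (isPushout_incl C k l))
    y hy

end glue0


section surj
variable (P : MorphismProperty Scheme.{u}) [P.IsStableUnderBaseChange]
    [P.IsStableUnderComposition] [Scheme.IsJointlySurjectivePreserving P]
    [BigSite.OSh (Scheme.precoverage P)] {S : Scheme.{u}}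

omit [P.IsStableUnderBaseChange] [P.IsStableUnderComposition]
  [Scheme.IsJointlySurjectivePreserving P] in
/-- sections of the middle term of a short exact sequence: injectivity and exactness on a chart -/
theorem toMVF_inj_exact (C : ShortComplex (BigSite.Mod (Scheme.precoverage P) S)) (hC : C.ShortExact)
    {R : CommRingCat.{u}} (a : Spec R ⟶ S) :
    (∀ B : Alg R, Function.Injective (((toMVF (Scheme.precoverage P) a).map C.f).app (pt B))) ∧
    (∀ B : Alg R, Function.Exact (((toMVF (Scheme.precoverage P) a).map C.f).app (pt B))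
      (((toMVF (Scheme.precoverage P) a).map C.g).app (pt B))) := by
  have hmono : Mono C.f := hC.mono_f
  constructor
  · intro B
    have : Mono ((SheafOfModules.evaluation (BigSite.ORing (Scheme.precoverage P) S)
        (op ((specOver a).obj (op B)))).map C.f) := inferInstance
    have h := (ModuleCat.mono_iff_injective _).1 this
    intro x y hxy
    exact h hxy
  · intro B
    have : (SheafOfModules.evaluation (BigSite.ORing (Scheme.precoverage P) S)
        (op ((specOver a).obj (op B)))).PreservesZeroMorphisms := by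
      unfold SheafOfModules.evaluation
      infer_instance
    have h2 := hC.exact.map_of_mono_of_preservesKernel
      (SheafOfModules.evaluation (BigSite.ORing (Scheme.precoverage P) S)
        (op ((specOver a).obj (op B)))) hmono inferInstance
    have h3 := (ShortComplex.moduleCat_exact_iff _).1 h2
    intro y
    constructor
    · intro hy
      obtain ⟨x, hx⟩ := h3 y hy
      exact ⟨x, hx⟩
    · rintro ⟨x, rfl⟩
      exact (C.map (SheafOfModules.evaluation (BigSite.ORing (Scheme.precoverage P) S)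
        (op ((specOver a).obj (op B))))).moduleCat_zero_apply x


theorem surj_base
    (hopen : ∀ {X Y : Scheme.{u}} (f : X ⟶ Y), P f → IsOpenMap f)
    (himm : ∀ {X Y : Scheme.{u}} (f : X ⟶ Y), IsOpenImmersion f → P f)
    (hflat : ∀ {X Y : Scheme.{u}} (f : X ⟶ Y), P f → Flat f)
    (C : ShortComplex (BigSite.Mod (Scheme.precoverage P) S)) (hC : C.ShortExact)
    (h₁ : adequateMod (Scheme.precoverage P) S C.X₁)
    (h₃ : adequateMod (Scheme.precoverage P) S C.X₃)
    (R : CommRingCat.{u}) (a : Spec R ⟶ S)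
    (x : ((toMVF (Scheme.precoverage P) a).obj C.X₃).obj (pt (algOf R R))) :
    ∃ y : ((toMVF (Scheme.precoverage P) a).obj C.X₂).obj (pt (algOf R R)),
      ((toMVF (Scheme.precoverage P) a).map C.g).app (pt (algOf R R)) y = x := by
  have hepi : Epi C.g := hC.epi_g
  have hloc := Groth.Agent.Lib.Helper4.ModEpi.isLocallySurjective_of_epi C.g
  let U : Over S := ob a (algOf R R)
  let x' : C.X₃.val.obj (op U) := x
  have hT := hloc.imageSieve_mem x'
  have h1 : Sieve.overEquiv U _ ∈ (Scheme.precoverage P).toGrothendieck U.left :=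
    (GrothendieckTopology.mem_over_iff _ _).1 hT
  obtain ⟨κ, hκ, B', φ, hcov, hmem⟩ := exists_affine_refinement P hopen himm _ h1 R (𝟙 _)
  classical
  let _ : ∀ k, Algebra R (B' k) := fun k => (φ k).hom.toAlgebra
  have hcov' := (Scheme.ofArrows_mem_precoverage_iff P).1 hcov
  have hfl : ∀ k, Module.Flat R (B' k) := fun k => by
    have h3 : Flat (Spec.map (φ k)) := hflat _ (hcov'.2 k)
    exact AlgebraicGeometry.Flat.SpecMap_iff.1 h3
  have hsurj : ∀ p : PrimeSpectrum R,
      ∃ k, p ∈ Set.range (PrimeSpectrum.comap (algebraMap R (B' k))) := by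
    intro p
    obtain ⟨k, q, hq⟩ := hcov'.1 p
    exact ⟨k, q, hq⟩
  -- lifts
  have hlift : ∀ k, ∃ t : ((toMVF (Scheme.precoverage P) a).obj C.X₂).obj (pt (algOf R (B' k))),
      ((toMVF (Scheme.precoverage P) a).map C.g).app (pt (algOf R (B' k))) t =
        mapEl ((toMVF (Scheme.precoverage P) a).obj C.X₃) (u₀ (A := R) (B' k)) x := by
    intro k
    have hk := hmem k
    rw [Sieve.overEquiv_iff] at hk
    have hU : U.hom = a := by
      change Spec.map (CommRingCat.ofHom (algebraMap R R)) ≫ a = a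
      rw [Algebra.algebraMap_self, CommRingCat.ofHom_id, Spec.map_id, Category.id_comp]
    let V : Over S := Over.mk ((Spec.map (φ k) ≫ 𝟙 (Spec R)) ≫ U.hom)
    let m : V ⟶ U := Over.homMk (Spec.map (φ k) ≫ 𝟙 (Spec R)) rfl
    let j : ob a (algOf R (B' k)) ⟶ V := Over.homMk (𝟙 _) (by
      change 𝟙 _ ≫ ((Spec.map (φ k) ≫ 𝟙 (Spec R)) ≫ U.hom) = Spec.map (φ k) ≫ a
      rw [hU, Category.id_comp, Category.comp_id])
    have h2 := (Presheaf.imageSieve ((PresheafOfModules.toPresheaf
      (BigSite.ORing (Scheme.precoverage P) S).obj).map C.g.val) x').downward_closed hk j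
    have e : j ≫ m = obMap a (u₀ (A := R) (B' k)) := by
      apply Over.OverMorphism.ext
      change 𝟙 _ ≫ (Spec.map (φ k) ≫ 𝟙 (Spec R)) = Spec.map (φ k)
      rw [Category.id_comp, Category.comp_id]
    change (Presheaf.imageSieve ((PresheafOfModules.toPresheaf
      (BigSite.ORing (Scheme.precoverage P) S).obj).map C.g.val) x').arrows (j ≫ m) at h2
    rw [e] at h2
    obtain ⟨t, ht⟩ := h2
    exact ⟨t, ht⟩
  choose y hy using hlift
  obtain ⟨hi, hex⟩ := toMVF_inj_exact P C hC a
  exact surj_of_H1 (fun k => B' k) _ _ hi hex (adequate_chart P hopen himm S C.X₁ h₁ R a) hsurj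
    (fun y hy => toMVF_hglue₀ _ a C.X₂ (fun k => B' k) hcov y hy)
    (fun x x' h => hinj₀ (fun k => B' k) (adequate_chart P hopen himm S C.X₃ h₃ R a) hsurj x x' h)
    x y hy


theorem surj_chart
    (hopen : ∀ {X Y : Scheme.{u}} (f : X ⟶ Y), P f → IsOpenMap f)
    (himm : ∀ {X Y : Scheme.{u}} (f : X ⟶ Y), IsOpenImmersion f → P f)
    (hflat : ∀ {X Y : Scheme.{u}} (f : X ⟶ Y), P f → Flat f)
    (C : ShortComplex (BigSite.Mod (Scheme.precoverage P) S)) (hC : C.ShortExact)
    (h₁ : adequateMod (Scheme.precoverage P) S C.X₁)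
    (h₃ : adequateMod (Scheme.precoverage P) S C.X₃)
    (R : CommRingCat.{u}) (a : Spec R ⟶ S) (B : Alg R) :
    Function.Surjective (((toMVF (Scheme.precoverage P) a).map C.g).app (pt B)) := by
  intro x
  let b : Spec (CommRingCat.of B) ⟶ S := Spec.map (CommRingCat.ofHom (algebraMap R B)) ≫ a
  let W : Over S := ob b (algOf B B)
  have hW : W.hom = b := by
    change Spec.map (CommRingCat.ofHom (algebraMap B B)) ≫ b = b
    rw [Algebra.algebraMap_self, CommRingCat.ofHom_id, Spec.map_id, Category.id_comp]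
  let e : ob a B ⟶ W := Over.homMk (𝟙 _) (by
    change 𝟙 _ ≫ W.hom = b
    rw [hW, Category.id_comp])
  let e' : W ⟶ ob a B := Over.homMk (𝟙 _) (by
    change 𝟙 _ ≫ b = W.hom
    rw [hW, Category.id_comp])
  have hee' : e ≫ e' = 𝟙 _ := by
    apply Over.OverMorphism.ext
    change 𝟙 _ ≫ 𝟙 _ = 𝟙 _
    rw [Category.id_comp]
  let x₀ : C.X₃.val.obj (op (ob a B)) := x
  let x' : C.X₃.val.obj (op W) := C.X₃.val.map e'.op x₀
  obtain ⟨y', hy'⟩ := surj_base P hopen himm hflat C hC h₁ h₃ (CommRingCat.of B) b x'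
  let y₀ : C.X₂.val.obj (op W) := y'
  have hy₀ : C.g.val.app (op W) y₀ = x' := hy'
  refine ⟨C.X₂.val.map e.op y₀, ?_⟩
  change C.g.val.app (op (ob a B)) (C.X₂.val.map e.op y₀) = x₀
  have hnat := PresheafOfModules.naturality_apply C.g.val e.op y₀
  refine hnat.trans ?_
  rw [hy₀]
  change C.X₃.val.map e.op (C.X₃.val.map e'.op x₀) = x₀
  rw [psh_map_comp, ← op_comp, hee', op_id, psh_map_id]


/-- an extension of adequate modules is adequate -/
theorem adequateMod_of_shortExact
    (hopen : ∀ {X Y : Scheme.{u}} (f : X ⟶ Y), P f → IsOpenMap f)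
    (himm : ∀ {X Y : Scheme.{u}} (f : X ⟶ Y), IsOpenImmersion f → P f)
    (hflat : ∀ {X Y : Scheme.{u}} (f : X ⟶ Y), P f → Flat f)
    (C : ShortComplex (BigSite.Mod (Scheme.precoverage P) S)) (hC : C.ShortExact)
    (h₁ : adequateMod (Scheme.precoverage P) S C.X₁)
    (h₃ : adequateMod (Scheme.precoverage P) S C.X₃) :
    adequateMod (Scheme.precoverage P) S C.X₂ := by
  refine adequateMod_of_charts P himm S C.X₂ (fun R a => ?_)
  obtain ⟨hi, hex⟩ := toMVF_inj_exact P C hC a
  have hsurj := surj_chart P hopen himm hflat C hC h₁ h₃ R a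
  let Sc : ShortComplex (MVF R) := C.map (toMVF (Scheme.precoverage P) a)
  have hSc : Sc.ShortExact :=
    { exact := PshMod.exact_of_app Sc (fun X => hex X.unop.unop)
      mono_f := PresheafOfModules.mono_of_injective (fun X => hi X.unop.unop)
      epi_g := PresheafOfModules.epi_of_surjective (fun X => hsurj X.unop.unop) }
  exact Groth.Agent.Lib.T2H8.AdeqExt.adequate_of_shortExact Sc hSc
    (adequate_chart P hopen himm S C.X₁ h₁ R a) (adequate_chart P hopen himm S C.X₃ h₃ R a)

end surj

end Groth.Agent.Lib.T2H8.AdeqSheaf
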