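import Mathlib
import Groth.Agent.Lib.T2H8OverSigma
import Groth.Agent.Lib.T2H8AdeqSheafify
import Groth.Agent.Lib.T2H8Amitsur

set_option autoImplicit false
universe u
open CategoryTheory Limits Opposite AlgebraicGeometry TensorProduct
open Adeq Groth.Agent.Helper13Adeq

attribute [-instance] Groth.Agent.Lib.T2H8.AdeqRestr.instAlgebraCarrierRC
  Groth.Agent.Lib.T2H8.AdeqRestr.instIsScalarTowerCarrierRC

namespace Groth.Agent.Lib.T2H8.AdeqSheaf
open Groth.Agent.Lib.T2H8.Amitsur (u₀ ι₁ ι₂ amitsur_adequate)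
open Groth.Agent.Lib.T2H8.OverSigma

section chart
variable (K : Precoverage Scheme.{u}) [BigSite.OSh K] {S : Scheme.{u}} (M : BigSite.Mod K S)

/-- the underlying presheaf of types of a module -/
noncomputable abbrev G₀ : (Over S)ᵒᵖ ⥤ Type (u + 1) :=
  M.val.presheaf ⋙ forget Ab.{u + 1}

theorem G₀_map_apply {U V : Over S} (φ : V ⟶ U) (x : M.val.obj (op U)) :
    (G₀ K M).map φ.op x = M.val.map φ.op x := rfl

variable {R : CommRingCat.{u}} (g : Spec R ⟶ S) (B : Type u) [CommRing B] [Algebra R B]

omit [BigSite.OSh K] in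
theorem ob_base_hom : (ob g (algOf R R)).hom = g := by
  rw [ob_hom, Algebra.algebraMap_self, CommRingCat.ofHom_id]
  exact (congrArg (· ≫ g) (Spec.map_id _)).trans (Category.id_comp _)

/-- comparison `(Spec R, g) ⟶ ob g R` -/
noncomputable def θb : Over.mk g ⟶ ob g (algOf R R) :=
  Over.homMk (𝟙 (Spec R)) (by
    change 𝟙 _ ≫ (ob g (algOf R R)).hom = g
    rw [Category.id_comp, ob_base_hom])

/-- comparison `ob g R ⟶ (Spec R, g)` -/
noncomputable def θbinv : ob g (algOf R R) ⟶ Over.mk g :=
  Over.homMk (𝟙 (Spec R)) (by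
    change 𝟙 _ ≫ g = (ob g (algOf R R)).hom
    rw [Category.id_comp, ob_base_hom])

omit [BigSite.OSh K] in
theorem θb_θbinv : θb g ≫ θbinv g = 𝟙 _ := by
  apply Over.OverMorphism.ext
  exact Category.id_comp _

omit [BigSite.OSh K] in
theorem θbinv_θb : θbinv g ≫ θb g = 𝟙 _ := by
  apply Over.OverMorphism.ext
  exact Category.id_comp _

/-- the covering morphism -/
noncomputable abbrev ψ₀ : Over.mk (Spec.map (CommRingCat.ofHom (algebraMap R B)) ≫ g) ⟶ Over.mk g :=
  Over.homMk (Spec.map (CommRingCat.ofHom (algebraMap R B))) rfl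

omit [BigSite.OSh K] in
theorem ψ₀_θb : ψ₀ g B ≫ θb g = obMap g (u₀ (A := R) B) := by
  apply Over.OverMorphism.ext
  exact Category.comp_id _

omit [BigSite.OSh K] in
theorem u₀_θbinv : obMap g (u₀ (A := R) B) ≫ θbinv g = ψ₀ g B := by
  apply Over.OverMorphism.ext
  exact Category.comp_id _

theorem isSheafFor_singleton_chart [Module.FaithfullyFlat R B]
    (hF : adequate R ((toMVF K g).obj M)) :
    Presieve.IsSheafFor (G₀ K M) (Presieve.singleton (ψ₀ g B)) := by
  rw [Presieve.isSheafFor_singleton]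
  intro x hx
  obtain ⟨hinj, hex⟩ := amitsur_adequate ((toMVF K g).obj M) B hF
  let y : ((toMVF K g).obj M).obj (pt (algOf R B)) := x
  have hy : mapEl ((toMVF K g).obj M) (ι₁ (A := R) B) y =
      mapEl ((toMVF K g).obj M) (ι₂ (A := R) B) y := by
    refine hx (obMap g (ι₁ (A := R) B)) (obMap g (ι₂ (A := R) B)) ?_
    apply Over.OverMorphism.ext
    change Spec.map _ ≫ Spec.map _ = Spec.map _ ≫ Spec.map _
    rw [← Spec.map_comp, ← Spec.map_comp]
    congr 1
    ext a
    exact ((ι₁ (A := R) B).hom.commutes a).trans ((ι₂ (A := R) B).hom.commutes a).symm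
  obtain ⟨t₀, ht₀⟩ := hex y hy
  have ht₀' : M.val.map (obMap g (u₀ (A := R) B)).op t₀ = x := ht₀
  let z : M.val.obj (op (Over.mk g)) := M.val.map (θb g).op t₀
  refine ⟨z, ?_, ?_⟩
  · change M.val.map (ψ₀ g B).op (M.val.map (θb g).op t₀) = x
    rw [psh_map_comp, ← op_comp, ψ₀_θb]
    exact ht₀'
  · intro t' ht'
    have ht'' : M.val.map (ψ₀ g B).op t' = x := ht'
    let w : M.val.obj (op (ob g (algOf R R))) := M.val.map (θbinv g).op t'
    have h1 : M.val.map (obMap g (u₀ (A := R) B)).op w = x := by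
      change M.val.map (obMap g (u₀ (A := R) B)).op (M.val.map (θbinv g).op t') = x
      rw [psh_map_comp, ← op_comp, u₀_θbinv]
      exact ht''
    have h2 : w = t₀ := hinj (h1.trans ht₀'.symm)
    change t' = M.val.map (θb g).op t₀
    rw [← h2]
    change t' = M.val.map (θb g).op (M.val.map (θbinv g).op t')
    rw [psh_map_comp, ← op_comp, θb_θbinv, op_id, psh_map_id]

end chart

section main
variable (P : MorphismProperty Scheme.{u}) [P.IsStableUnderBaseChange]
    [P.IsStableUnderComposition] [Scheme.IsJointlySurjectivePreserving P]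
    [BigSite.OSh (Scheme.precoverage P)]

theorem isSheaf_fpqc_of_adequateMod
    (hopen : ∀ {X Y : Scheme.{u}} (f : X ⟶ Y), P f → IsOpenMap f)
    (himm : ∀ {X Y : Scheme.{u}} (f : X ⟶ Y), IsOpenImmersion f → P f)
    (S : Scheme.{u}) (M : BigSite.Mod (Scheme.precoverage P) S)
    (hM : adequateMod (Scheme.precoverage P) S M) :
    Presheaf.IsSheaf (QuotSh.J Scheme.fpqcPrecoverage S)
      ((BigSite.toAbMod (Scheme.precoverage P) S).obj M).obj := by
  rw [Presheaf.isSheaf_iff_isSheaf_forget _ _ (forget Ab.{u + 1}), isSheaf_iff_isSheaf_of_type]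
  change Presieve.IsSheaf (Scheme.fpqcTopology.over S) (G₀ (Scheme.precoverage P) M)
  have hYq : Presieve.IsSheaf Scheme.fpqcTopology (yoneda.obj S) :=
    GrothendieckTopology.Subcanonical.isSheaf_of_isRepresentable _
  have hYz : Presieve.IsSheaf Scheme.zariskiTopology (yoneda.obj S) :=
    GrothendieckTopology.Subcanonical.isSheaf_of_isRepresentable _
  apply isSheaf_over_of_sigma S (G₀ (Scheme.precoverage P) M) Scheme.fpqcTopology hYq
  rw [Scheme.fpqcTopology_eq_propQCTopology, isSheaf_type_propQCTopology_iff]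
  refine ⟨?_, ?_⟩
  · apply isSheaf_sigma_of_over S (G₀ (Scheme.precoverage P) M) Scheme.zariskiTopology hYz
    have h1 : Presieve.IsSheaf (QuotSh.J (Scheme.precoverage P) S)
        (G₀ (Scheme.precoverage P) M) := by
      rw [← isSheaf_iff_isSheaf_of_type, ← Presheaf.isSheaf_iff_isSheaf_forget]
      exact M.isSheaf
    refine Presieve.isSheaf_of_le _ ?_ h1
    intro U T hT
    have hle : Scheme.zariskiTopology ≤ (Scheme.precoverage P).toGrothendieck :=
      Precoverage.toGrothendieck_mono (Scheme.precoverage_mono (fun _ _ f hf => himm f hf))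
    exact hle _ hT
  · intro R R' f hf hs
    apply sigma_isSheafFor
    · have := hf
      have := hs
      exact hYq.isSheafFor _
        (Precoverage.generate_mem_toGrothendieck (Spec.map f).singleton_mem_fpqcPrecoverage)
    · intro g
      have e := functorPullback_singleton S g (Spec.map f)
      let _ : Algebra R R' := f.hom.toAlgebra
      have : Module.FaithfullyFlat R R' := (flat_and_surjective_SpecMap_iff f).1 ⟨hf, hs⟩
      exact Eq.mpr (congrArg (Presieve.IsSheafFor (G₀ (Scheme.precoverage P) M)) e)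
        (isSheafFor_singleton_chart (Scheme.precoverage P) M g R'
          (adequate_chart P hopen himm S M hM R g))

end main

end Groth.Agent.Lib.T2H8.AdeqSheaf
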