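import Mathlib
import Groth.Agent.Lib.T2H8AdeqSheafC

set_option autoImplicit false
universe u
open CategoryTheory Limits Opposite AlgebraicGeometry
open Adeq Groth.Agent.Helper13Adeq

namespace Groth.Agent.Lib.T2H8.AdeqSheaf

section single
variable (K : Precoverage Scheme.{u}) [BigSite.OSh K] {T : Scheme.{u}} (M : BigSite.Mod K T)

theorem mod_exact_single {Θ W W' : Over T} (ω : W ⟶ Θ) (ρ₁ ρ₂ : W' ⟶ W)
    (hω : Presieve.ofArrows (fun _ : Unit => W.left) (fun _ => ω.left) ∈ K Θ.left)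
    {PW : Scheme.{u}} (π₁ π₂ : PW ⟶ W.left) (hpb : IsPullback π₁ π₂ ω.left ω.left)
    (ζ : W'.left ⟶ PW) (h₁ : ζ ≫ π₁ = ρ₁.left) (h₂ : ζ ≫ π₂ = ρ₂.left)
    (hζ : Presieve.ofArrows (fun _ : Unit => W'.left) (fun _ => ζ) ∈ K PW) :
    Function.Injective (M.val.map ω.op) ∧
      ∀ x : M.val.obj (op W),
        @Eq (M.val.obj (op W')) (M.val.map ρ₁.op x) (M.val.map ρ₂.op x) →
        ∃ y : M.val.obj (op Θ), @Eq (M.val.obj (op W)) (M.val.map ω.op y) x := by
  constructor
  · intro x y hxy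
    have := mod_sep_over K M (fun _ : Unit => W) (fun _ => ω) hω (x - y)
      (fun _ => by rw [map_sub, hxy, sub_self])
    exact sub_eq_zero.1 this
  · intro x hx
    have hw2 : π₂ ≫ W.hom = π₁ ≫ W.hom := by
      rw [← Over.w ω, ← Category.assoc, ← Category.assoc, hpb.w]
    let PWo : Over T := Over.mk (π₁ ≫ W.hom)
    let p₁ : PWo ⟶ W := Over.homMk π₁ rfl
    let p₂ : PWo ⟶ W := Over.homMk π₂ hw2
    let ζo : W' ⟶ PWo := Over.homMk ζ (by
      change ζ ≫ π₁ ≫ W.hom = W'.hom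
      rw [← Category.assoc, h₁, Over.w])
    have e₁ : ζo ≫ p₁ = ρ₁ := by
      apply Over.OverMorphism.ext
      exact h₁
    have e₂ : ζo ≫ p₂ = ρ₂ := by
      apply Over.OverMorphism.ext
      exact h₂
    have hpx : M.val.map p₁.op x = M.val.map p₂.op x := by
      let z₁ : M.val.obj (op PWo) := M.val.map p₁.op x
      let z₂ : M.val.obj (op PWo) := M.val.map p₂.op x
      have hz : M.val.map ζo.op z₁ = M.val.map ζo.op z₂ := by
        change M.val.map ζo.op (M.val.map p₁.op x) = M.val.map ζo.op (M.val.map p₂.op x)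
        rw [psh_map_comp, psh_map_comp, ← op_comp, ← op_comp, e₁, e₂]
        exact hx
      have := mod_sep_over K M (fun _ : Unit => W') (fun _ => ζo) hζ (z₁ - z₂)
        (fun _ => by rw [map_sub, hz, sub_self])
      exact sub_eq_zero.1 this
    obtain ⟨y, hy⟩ := mod_glue_over K M (fun _ : Unit => W) (fun _ => ω) hω
      (fun _ _ => PWo) (fun _ _ => p₁) (fun _ _ => p₂) (fun _ _ => hpb) (fun _ => x)
      (fun _ _ => hpx)
    exact ⟨y, hy ()⟩

end single
end Groth.Agent.Lib.T2H8.AdeqSheaf
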