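import Mathlib

set_option autoImplicit false
universe v₁ u₁
open CategoryTheory Limits

namespace Groth.Agent.Lib.T2H8.PushGeo

variable {C : Type u₁} [Category.{v₁} C] [HasPullbacks C]

section G12
variable {S T A Y : C} (f : T ⟶ S) (a : A ⟶ S) (β : Y ⟶ A)

/-- the map `Y ×_S T ⟶ A ×_S T` -/
noncomputable def tY : pullback (β ≫ a) f ⟶ pullback a f :=
  pullback.map (β ≫ a) f a f β (𝟙 T) (𝟙 S) (by simp) (by simp)

@[reassoc]
theorem tY_fst : tY f a β ≫ pullback.fst a f = pullback.fst (β ≫ a) f ≫ β :=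
  pullback.lift_fst _ _ _

@[reassoc]
theorem tY_snd : tY f a β ≫ pullback.snd a f = pullback.snd (β ≫ a) f :=
  (pullback.lift_snd _ _ _).trans (Category.comp_id _)

theorem G1 : IsPullback (tY f a β) (pullback.fst (β ≫ a) f) (pullback.fst a f) β := by
  refine IsPullback.of_right (h₁₂ := pullback.snd a f) (h₂₂ := a) (v₁₃ := f) ?_ (tY_fst f a β)
    (IsPullback.of_hasPullback a f).flip
  rw [tY_snd]
  exact (IsPullback.of_hasPullback (β ≫ a) f).flip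

variable {V W : C} (v : V ⟶ pullback a f) (w₁ : W ⟶ Y) (w₂ : W ⟶ V)
  (hW : IsPullback w₁ w₂ β (v ≫ pullback.fst a f))

include hW in
theorem ω_comm : w₁ ≫ β ≫ a = (w₂ ≫ v ≫ pullback.snd a f) ≫ f := by
  rw [← Category.assoc, hW.w]
  simp only [Category.assoc]
  rw [pullback.condition]

/-- the map `W = Y ×_A V ⟶ Y ×_S T` -/
noncomputable def ω : W ⟶ pullback (β ≫ a) f :=
  pullback.lift w₁ (w₂ ≫ v ≫ pullback.snd a f) (ω_comm f a β v w₁ w₂ hW)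

@[reassoc]
theorem ω_fst : ω f a β v w₁ w₂ hW ≫ pullback.fst (β ≫ a) f = w₁ := pullback.lift_fst _ _ _

@[reassoc]
theorem ω_snd : ω f a β v w₁ w₂ hW ≫ pullback.snd (β ≫ a) f = w₂ ≫ v ≫ pullback.snd a f :=
  pullback.lift_snd _ _ _

@[reassoc]
theorem ω_tY : ω f a β v w₁ w₂ hW ≫ tY f a β = w₂ ≫ v := by
  apply pullback.hom_ext
  · rw [Category.assoc, tY_fst, ω_fst_assoc, hW.w, Category.assoc]
  · rw [Category.assoc, tY_snd, ω_snd, Category.assoc]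

theorem G2 : IsPullback (ω f a β v w₁ w₂ hW) w₂ (tY f a β) v := by
  refine IsPullback.of_right (h₁₂ := pullback.fst (β ≫ a) f) (h₂₂ := pullback.fst a f) (v₁₃ := β)
    ?_ (ω_tY f a β v w₁ w₂ hW) (G1 f a β).flip
  rw [ω_fst]
  exact hW

end G12

section G34
variable {TY TA V W : C} {ω : W ⟶ TY} {w₂ : W ⟶ V} {t : TY ⟶ TA} {v : V ⟶ TA}
  (h : IsPullback ω w₂ t v)

/-- the map `W ×_{TY} W ⟶ V ×_{TA} V` -/
noncomputable def mPP : pullback ω ω ⟶ pullback v v :=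
  pullback.map ω ω v v w₂ w₂ t h.w h.w

@[reassoc]
theorem mPP_fst : mPP h ≫ pullback.fst v v = pullback.fst ω ω ≫ w₂ := pullback.lift_fst _ _ _

@[reassoc]
theorem mPP_snd : mPP h ≫ pullback.snd v v = pullback.snd ω ω ≫ w₂ := pullback.lift_snd _ _ _

theorem G3 : IsPullback (mPP h) (pullback.fst ω ω) (pullback.fst v v) w₂ := by
  have h1 : IsPullback (pullback.snd ω ω ≫ w₂) (pullback.fst ω ω) v (ω ≫ t) :=
    (IsPullback.of_hasPullback ω ω).flip.paste_horiz h.flip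
  refine IsPullback.of_right (h₁₂ := pullback.snd v v) (h₂₂ := v) (v₁₃ := v) ?_ (mPP_fst h)
    (IsPullback.of_hasPullback v v).flip
  rw [mPP_snd, ← h.w]
  exact h1

variable {V' W' : C} (v' : V' ⟶ pullback v v) (w'₁ : W' ⟶ W) (w'₂ : W' ⟶ V')
  (hW' : IsPullback w'₁ w'₂ w₂ (v' ≫ pullback.fst v v))

/-- the map `W' ⟶ W ×_{TY} W` -/
noncomputable def ζ : W' ⟶ pullback ω ω :=
  (G3 h).lift (w'₂ ≫ v') w'₁ (by rw [Category.assoc, hW'.w])

@[reassoc]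
theorem ζ_mPP : ζ h v' w'₁ w'₂ hW' ≫ mPP h = w'₂ ≫ v' := (G3 h).lift_fst _ _ _

@[reassoc]
theorem ζ_fst : ζ h v' w'₁ w'₂ hW' ≫ pullback.fst ω ω = w'₁ := (G3 h).lift_snd _ _ _

theorem G4 : IsPullback (ζ h v' w'₁ w'₂ hW') w'₂ (mPP h) v' := by
  refine IsPullback.of_right (h₁₂ := pullback.fst ω ω) (h₂₂ := pullback.fst v v) (v₁₃ := w₂)
    ?_ (ζ_mPP h v' w'₁ w'₂ hW') (G3 h).flip
  rw [ζ_fst]
  exact hW'

/-- the second component `W' ⟶ W` -/
@[reassoc]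
theorem ζ_snd_w₂ : (ζ h v' w'₁ w'₂ hW' ≫ pullback.snd ω ω) ≫ w₂ = w'₂ ≫ v' ≫ pullback.snd v v := by
  rw [Category.assoc, ← mPP_snd h, ζ_mPP_assoc]

@[reassoc]
theorem ζ_snd_ω : (ζ h v' w'₁ w'₂ hW' ≫ pullback.snd ω ω) ≫ ω = w'₁ ≫ ω := by
  rw [Category.assoc, ← pullback.condition, ζ_fst_assoc]

end G34

end Groth.Agent.Lib.T2H8.PushGeo
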