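import Mathlib
import Groth.Agent.Lib.T2H8AdeqSheafSingle
import Groth.Agent.Lib.T2H8PushGeo

set_option autoImplicit false
universe u
open CategoryTheory Limits Opposite AlgebraicGeometry TensorProduct
open Adeq Groth.Agent.Helper13Adeq

attribute [-instance] Groth.Agent.Lib.T2H8.AdeqRestr.instAlgebraCarrierRC
  Groth.Agent.Lib.T2H8.AdeqRestr.instIsScalarTowerCarrierRC

namespace Groth.Agent.Lib.T2H8.AdeqSheaf
open Groth.Agent.Lib.T2H8.AdeqDescent

section pushgeo
variable {S T : Scheme.{u}} (f : T ⟶ S) {A : CommRingCat.{u}} (a : Spec A ⟶ S)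
variable (C : Type u) [CommRing C] [Algebra A C]
variable (v : Spec (CommRingCat.of C) ⟶ pullback a f)
  (hv : v ≫ pullback.fst a f = Spec.map (CommRingCat.ofHom (algebraMap A C)))

/-- structure morphism of `Spec B` over `Spec A` -/
noncomputable abbrev βm (B : Alg A) : Spec (CommRingCat.of B) ⟶ Spec A :=
  Spec.map (CommRingCat.ofHom (algebraMap A B))

/-- the object `Spec B ×_S T` of the big site of `T` -/
noncomputable abbrev Θ (B : Alg A) : Over T := (Over.pullback f).obj (ob a B)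

theorem Θ_left (B : Alg A) : (Θ f a B).left = pullback (βm B ≫ a) f := rfl

theorem Θ_hom (B : Alg A) : (Θ f a B).hom = pullback.snd (βm B ≫ a) f := rfl

/-- the chart of `T` given by `v` -/
noncomputable abbrev bch : Spec (CommRingCat.of C) ⟶ T := v ≫ pullback.snd a f

/-- base change of `B` to `C` -/
abbrev CB (B : Alg A) : Alg C := (Alg.baseChange A C).obj B

/-- `Spec (C ⊗ B) ⟶ Spec B` -/
noncomputable abbrev w₁m (B : Alg A) : Spec (CommRingCat.of (CB C B)) ⟶ Spec (CommRingCat.of B) :=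
  Spec.map (rh A (Alg.unit A C B))

/-- `Spec (C ⊗ B) ⟶ Spec C` -/
noncomputable abbrev w₂m (B : Alg A) : Spec (CommRingCat.of (CB C B)) ⟶ Spec (CommRingCat.of C) :=
  Spec.map (CommRingCat.ofHom (algebraMap C (CB C B)))

include hv in
theorem hWm (B : Alg A) : IsPullback (w₁m C B) (w₂m C B) (βm B) (v ≫ pullback.fst a f) := by
  rw [hv]
  exact isPullback_SpecMap_of_isPushout _ _ _ _ (isPushout_unit A C B)

/-- `Spec (C ⊗ B) ⟶ Spec B ×_S T` -/
noncomputable irreducible_def ωl (B : Alg A) :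
    Spec (CommRingCat.of (CB C B)) ⟶ pullback (βm B ≫ a) f :=
  PushGeo.ω f a (βm B) v (w₁m C B) (w₂m C B) (hWm f a C v hv B)

theorem ωl_isPullback (B : Alg A) :
    IsPullback (ωl f a C v hv B) (w₂m C B) (PushGeo.tY f a (βm B)) v := by
  rw [ωl_def]
  exact PushGeo.G2 f a (βm B) v (w₁m C B) (w₂m C B) (hWm f a C v hv B)

theorem ωl_fst (B : Alg A) : ωl f a C v hv B ≫ pullback.fst (βm B ≫ a) f = w₁m C B := by
  rw [ωl_def]
  exact PushGeo.ω_fst f a (βm B) v (w₁m C B) (w₂m C B) (hWm f a C v hv B)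

theorem ωl_snd (B : Alg A) :
    ωl f a C v hv B ≫ pullback.snd (βm B ≫ a) f = w₂m C B ≫ v ≫ pullback.snd a f := by
  rw [ωl_def]
  exact PushGeo.ω_snd f a (βm B) v (w₁m C B) (w₂m C B) (hWm f a C v hv B)

/-- the morphism `ω_B` of the big site of `T` -/
noncomputable def ωo (B : Alg A) : ob (bch f a C v) (CB C B) ⟶ Θ f a B :=
  Over.homMk (ωl f a C v hv B) (by
    change ωl f a C v hv B ≫ pullback.snd (βm B ≫ a) f = w₂m C B ≫ v ≫ pullback.snd a f
    exact ωl_snd f a C v hv B)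

theorem ωo_left (B : Alg A) : (ωo f a C v hv B).left = ωl f a C v hv B := rfl


variable (C' : Type u) [CommRing C'] [Algebra A C'] (r₁ r₂ : C →ₐ[A] C')
variable (v' : Spec (CommRingCat.of C') ⟶ pullback v v)
  (hv'₁ : v' ≫ pullback.fst v v = Spec.map (CommRingCat.ofHom r₁.toRingHom))
  (hv'₂ : v' ≫ pullback.snd v v = Spec.map (CommRingCat.ofHom r₂.toRingHom))

/-- the chart of `T` given by `v'` -/
noncomputable abbrev bch' : Spec (CommRingCat.of C') ⟶ T :=
  Spec.map (CommRingCat.ofHom r₁.toRingHom) ≫ bch f a C v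

include hv'₁ hv'₂ in
theorem r₂_bch : Spec.map (CommRingCat.ofHom r₂.toRingHom) ≫ bch f a C v = bch' f a C v C' r₁ := by
  change Spec.map (CommRingCat.ofHom r₂.toRingHom) ≫ v ≫ pullback.snd a f =
    Spec.map (CommRingCat.ofHom r₁.toRingHom) ≫ v ≫ pullback.snd a f
  rw [← hv'₂, ← hv'₁, Category.assoc, Category.assoc, ← Category.assoc (pullback.snd v v),
    ← pullback.condition, Category.assoc]

/-- the ring map `r ⊗ id` -/
abbrev rB (r : C →ₐ[A] C') (B : Alg A) : CB C B →+* CB C' B :=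
  (Algebra.TensorProduct.map r (AlgHom.id A B)).toRingHom

/-- `Spec (C' ⊗ B) ⟶ Spec (C ⊗ B)` -/
noncomputable abbrev ρl (r : C →ₐ[A] C') (B : Alg A) :
    Spec (CommRingCat.of (CB C' B)) ⟶ Spec (CommRingCat.of (CB C B)) :=
  Spec.map (CommRingCat.ofHom (rB C C' r B))

theorem ρl_w₂ (r : C →ₐ[A] C') (B : Alg A) :
    ρl C C' r B ≫ w₂m C B = w₂m C' B ≫ Spec.map (CommRingCat.ofHom r.toRingHom) := by
  rw [← Spec.map_comp, ← Spec.map_comp]
  congr 1

theorem ρl_w₁ (r : C →ₐ[A] C') (B : Alg A) : ρl C C' r B ≫ w₁m C B = w₁m C' B := by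
  rw [← Spec.map_comp]
  congr 1
  ext b
  change Algebra.TensorProduct.map r (AlgHom.id A B) ((1 : C) ⊗ₜ[A] b) = (1 : C') ⊗ₜ[A] b
  rw [Algebra.TensorProduct.map_tmul, map_one]
  rfl


/-- the pushout square `C → C ⊗ B`, `C → C'` -/
theorem isPushout_rB (B : Alg A) :
    IsPushout (CommRingCat.ofHom (algebraMap C (CB C B))) (CommRingCat.ofHom r₁.toRingHom)
      (CommRingCat.ofHom (rB C C' r₁ B)) (CommRingCat.ofHom (algebraMap C' (CB C' B))) := by
  have hl := CommRingCat.isPushout_tensorProduct A C B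
  have hb := CommRingCat.isPushout_tensorProduct A C' B
  have e1 : CommRingCat.ofHom (algebraMap A C) ≫ CommRingCat.ofHom r₁.toRingHom =
      CommRingCat.ofHom (algebraMap A C') := by
    ext x
    exact r₁.commutes x
  have e2 : CommRingCat.ofHom (Algebra.TensorProduct.includeRight (R := A) (A := C) (B := B)).toRingHom ≫
      CommRingCat.ofHom (rB C C' r₁ B) =
      CommRingCat.ofHom (Algebra.TensorProduct.includeRight (R := A) (A := C') (B := B)).toRingHom := by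
    ext b
    change Algebra.TensorProduct.map r₁ (AlgHom.id A B) ((1 : C) ⊗ₜ[A] b) = (1 : C') ⊗ₜ[A] b
    rw [Algebra.TensorProduct.map_tmul, map_one]
    rfl
  rw [← e1, ← e2] at hb
  refine (IsPushout.of_left hb ?_ hl).flip
  rfl

include hv'₁ in
theorem hW'm (B : Alg A) :
    IsPullback (ρl C C' r₁ B) (w₂m C' B) (w₂m C B) (v' ≫ pullback.fst v v) := by
  rw [hv'₁]
  exact isPullback_SpecMap_of_isPushout _ _ _ _ (isPushout_rB C C' r₁ B)

/-- `Spec (C' ⊗ B) ⟶ W ×_Θ W` -/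
noncomputable def ζm (B : Alg A) :
    Spec (CommRingCat.of (CB C' B)) ⟶ pullback (ωl f a C v hv B) (ωl f a C v hv B) :=
  PushGeo.ζ (ωl_isPullback f a C v hv B) v' (ρl C C' r₁ B) (w₂m C' B)
    (hW'm f a C v C' r₁ v' hv'₁ B)

theorem ζm_fst (B : Alg A) :
    ζm (f := f) (a := a) (C := C) (v := v) (hv := hv) (C' := C') (r₁ := r₁) (v' := v')
        (hv'₁ := hv'₁) B ≫
      pullback.fst (ωl f a C v hv B) (ωl f a C v hv B) = ρl C C' r₁ B :=
  PushGeo.ζ_fst _ _ _ _ _

include hv'₁ hv'₂ in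
theorem ρl_ωl (B : Alg A) : ρl C C' r₁ B ≫ ωl f a C v hv B = ρl C C' r₂ B ≫ ωl f a C v hv B := by
  apply pullback.hom_ext
  · have h1 : ωl f a C v hv B ≫ pullback.fst (βm B ≫ a) f = w₁m C B := ωl_fst f a C v hv B
    rw [Category.assoc, Category.assoc, h1, ρl_w₁, ρl_w₁]
  · have h2 : ωl f a C v hv B ≫ pullback.snd (βm B ≫ a) f = w₂m C B ≫ v ≫ pullback.snd a f :=
      ωl_snd f a C v hv B
    have e : ∀ r : C →ₐ[A] C', ρl C C' r B ≫ w₂m C B ≫ v ≫ pullback.snd a f =
        w₂m C' B ≫ Spec.map (CommRingCat.ofHom r.toRingHom) ≫ bch f a C v := by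
      intro r
      rw [← Category.assoc, ρl_w₂, Category.assoc]
    rw [Category.assoc, Category.assoc, h2, e r₁, e r₂]
    congr 1
    exact (r₂_bch (f := f) (a := a) (C := C) (v := v) (C' := C') (r₁ := r₁) (r₂ := r₂) (v' := v')
      (hv'₁ := hv'₁) (hv'₂ := hv'₂)).symm

include hv'₂ in
theorem ζm_snd (B : Alg A) :
    ζm (f := f) (a := a) (C := C) (v := v) (hv := hv) (C' := C') (r₁ := r₁) (v' := v')
        (hv'₁ := hv'₁) B ≫
      pullback.snd (ωl f a C v hv B) (ωl f a C v hv B) = ρl C C' r₂ B := by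
  apply (ωl_isPullback f a C v hv B).hom_ext
  · have := PushGeo.ζ_snd_ω (ωl_isPullback f a C v hv B) v' (ρl C C' r₁ B) (w₂m C' B)
      (hW'm f a C v C' r₁ v' hv'₁ B)
    exact this.trans (ρl_ωl (f := f) (a := a) (C := C) (v := v) (hv := hv) (C' := C') (r₁ := r₁)
      (r₂ := r₂) (v' := v') (hv'₁ := hv'₁) (hv'₂ := hv'₂) B)
  · have := PushGeo.ζ_snd_w₂ (ωl_isPullback f a C v hv B) v' (ρl C C' r₁ B) (w₂m C' B)
      (hW'm f a C v C' r₁ v' hv'₁ B)
    rw [hv'₂] at this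
    exact this.trans (ρl_w₂ C C' r₂ B).symm

end pushgeo
end Groth.Agent.Lib.T2H8.AdeqSheaf
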