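import Mathlib
import Groth.Agent.Lib.T2H8PushGeoB
import Groth.Agent.Lib.T2H8AdeqPush
import Groth.Agent.Lib.T2H8AdeqSheafE

set_option autoImplicit false
universe u
open CategoryTheory Limits Opposite AlgebraicGeometry TensorProduct
open Adeq Groth.Agent.Helper13Adeq

attribute [-instance] Groth.Agent.Lib.T2H8.AdeqRestr.instAlgebraCarrierRC
  Groth.Agent.Lib.T2H8.AdeqRestr.instIsScalarTowerCarrierRC

namespace Groth.Agent.Lib.T2H8.AdeqSheaf

section pushover
variable {S T : Scheme.{u}} (f : T ⟶ S) {A : CommRingCat.{u}} (a : Spec A ⟶ S)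
variable (C : Type u) [CommRing C] [Algebra A C]
variable (v : Spec (CommRingCat.of C) ⟶ pullback a f)
  (hv : v ≫ pullback.fst a f = Spec.map (CommRingCat.ofHom (algebraMap A C)))

theorem pullbackMap_fst {U U' : Over S} (φ : U ⟶ U') :
    ((Over.pullback f).map φ).left ≫ pullback.fst U'.hom f = pullback.fst U.hom f ≫ φ.left :=
  pullback.lift_fst _ _ _

theorem pullbackMap_snd {U U' : Over S} (φ : U ⟶ U') :
    ((Over.pullback f).map φ).left ≫ pullback.snd U'.hom f = pullback.snd U.hom f :=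
  pullback.lift_snd _ _ _

theorem w₁m_natural {B B' : Alg A} (g : B ⟶ B') :
    w₁m C B' ≫ Spec.map (CommRingCat.ofHom g.hom.toRingHom) =
      Spec.map (CommRingCat.ofHom ((Alg.baseChange A C).map g).hom.toRingHom) ≫ w₁m C B := by
  rw [← Spec.map_comp, ← Spec.map_comp]
  congr 1

theorem w₂m_natural {B B' : Alg A} (g : B ⟶ B') :
    Spec.map (CommRingCat.ofHom ((Alg.baseChange A C).map g).hom.toRingHom) ≫ w₂m C B =
      w₂m C B' := by
  rw [← Spec.map_comp]
  congr 1
  ext c
  exact ((Alg.baseChange A C).map g).hom.commutes c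

theorem ωl_natural {B B' : Alg A} (g : B ⟶ B')
    (p : pullback (βm B' ≫ a) f ⟶ pullback (βm B ≫ a) f)
    (hp₁ : p ≫ pullback.fst (βm B ≫ a) f =
      pullback.fst (βm B' ≫ a) f ≫ Spec.map (CommRingCat.ofHom g.hom.toRingHom))
    (hp₂ : p ≫ pullback.snd (βm B ≫ a) f = pullback.snd (βm B' ≫ a) f) :
    ωl f a C v hv B' ≫ p =
      Spec.map (CommRingCat.ofHom ((Alg.baseChange A C).map g).hom.toRingHom) ≫
        ωl f a C v hv B := by
  apply pullback.hom_ext
  · rw [Category.assoc, Category.assoc, hp₁, ← Category.assoc, ωl_fst, ωl_fst]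
    exact w₁m_natural C g
  · rw [Category.assoc, Category.assoc, hp₂, ωl_snd, ωl_snd, ← w₂m_natural C g, Category.assoc]

theorem ωo_natural {B B' : Alg A} (g : B ⟶ B') :
    ωo f a C v hv B' ≫ (Over.pullback f).map (obMap a g) =
      obMap (bch f a C v) ((Alg.baseChange A C).map g) ≫ ωo f a C v hv B := by
  apply Over.OverMorphism.ext
  exact ωl_natural f a C v hv g _ (pullbackMap_fst f (obMap a g)) (pullbackMap_snd f (obMap a g))


variable (C' : Type u) [CommRing C'] [Algebra A C']

theorem rB_natural (r : C →ₐ[A] C') {B B' : Alg A} (g : B ⟶ B') (x : C ⊗[A] B) :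
    rB C C' r B' (((Alg.baseChange A C).map g).hom x) =
      ((Alg.baseChange A C').map g).hom (rB C C' r B x) := by
  induction x using TensorProduct.induction_on with
  | zero => rw [map_zero, map_zero, map_zero, map_zero]
  | tmul c b => rfl
  | add x y hx hy => rw [map_add, map_add, hx, hy, map_add, map_add]

theorem ρl_natural (r : C →ₐ[A] C') {B B' : Alg A} (g : B ⟶ B') :
    ρl C C' r B' ≫ Spec.map (CommRingCat.ofHom ((Alg.baseChange A C).map g).hom.toRingHom) =
      Spec.map (CommRingCat.ofHom ((Alg.baseChange A C').map g).hom.toRingHom) ≫ ρl C C' r B := by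
  rw [← Spec.map_comp, ← Spec.map_comp]
  congr 1
  apply CommRingCat.hom_ext
  apply RingHom.ext
  intro x
  exact rB_natural C C' r g x

variable (b' : Spec (CommRingCat.of C') ⟶ T)

/-- the morphism of the big site of `T` induced by `r ⊗ id` -/
noncomputable def ρo (r : C →ₐ[A] C')
    (hr : Spec.map (CommRingCat.ofHom r.toRingHom) ≫ bch f a C v = b') (B : Alg A) :
    ob b' (CB C' B) ⟶ ob (bch f a C v) (CB C B) :=
  Over.homMk (ρl C C' r B) (by
    change ρl C C' r B ≫ w₂m C B ≫ bch f a C v = w₂m C' B ≫ b'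
    rw [← Category.assoc, ρl_w₂, Category.assoc, hr])

theorem ρo_left (r : C →ₐ[A] C')
    (hr : Spec.map (CommRingCat.ofHom r.toRingHom) ≫ bch f a C v = b') (B : Alg A) :
    (ρo f a C v C' b' r hr B).left = ρl C C' r B := rfl

theorem ρo_natural (r : C →ₐ[A] C')
    (hr : Spec.map (CommRingCat.ofHom r.toRingHom) ≫ bch f a C v = b') {B B' : Alg A}
    (g : B ⟶ B') :
    ρo f a C v C' b' r hr B' ≫ obMap (bch f a C v) ((Alg.baseChange A C).map g) =
      obMap b' ((Alg.baseChange A C').map g) ≫ ρo f a C v C' b' r hr B := by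
  apply Over.OverMorphism.ext
  exact ρl_natural C C' r g

section covers
variable (K : Precoverage Scheme.{u}) [K.IsStableUnderBaseChange]

theorem ωl_cover
    (hcov : Presieve.ofArrows (fun _ : Unit => Spec (CommRingCat.of C)) (fun _ => v) ∈
      K (pullback a f)) (B : Alg A) :
    Presieve.ofArrows (fun _ : Unit => Spec (CommRingCat.of (CB C B)))
      (fun _ => ωl f a C v hv B) ∈ K (pullback (βm B ≫ a) f) :=
  Precoverage.mem_coverings_of_isPullback (J := K) (fun _ : Unit => v) hcov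
    (PushGeo.tY f a (βm B)) (fun _ => ωl f a C v hv B) (fun _ => w₂m C B)
    (fun _ => ωl_isPullback f a C v hv B)

variable (r₁ r₂ : C →ₐ[A] C')
variable (v' : Spec (CommRingCat.of C') ⟶ pullback v v)
  (hv'₁ : v' ≫ pullback.fst v v = Spec.map (CommRingCat.ofHom r₁.toRingHom))
  (hv'₂ : v' ≫ pullback.snd v v = Spec.map (CommRingCat.ofHom r₂.toRingHom))

theorem ζm_cover
    (hcov' : Presieve.ofArrows (fun _ : Unit => Spec (CommRingCat.of C')) (fun _ => v') ∈
      K (pullback v v)) (B : Alg A) :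
    Presieve.ofArrows (fun _ : Unit => Spec (CommRingCat.of (CB C' B)))
      (fun _ => ζm f a C v hv C' r₁ v' hv'₁ B) ∈
        K (pullback (ωl f a C v hv B) (ωl f a C v hv B)) :=
  Precoverage.mem_coverings_of_isPullback (J := K) (fun _ : Unit => v') hcov'
    (PushGeo.mPP (ωl_isPullback f a C v hv B)) (fun _ => ζm f a C v hv C' r₁ v' hv'₁ B)
    (fun _ => w₂m C' B)
    (fun _ => PushGeo.G4 (ωl_isPullback f a C v hv B) v' (ρl C C' r₁ B) (w₂m C' B)
      (hW'm f a C v C' r₁ v' hv'₁ B))

end covers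


section exactness
variable (K : Precoverage Scheme.{u}) [BigSite.OSh K] [K.IsStableUnderBaseChange]
  (M : BigSite.Mod K T)

/-- the components of `f_*M|_A ⟶ push (M|_C)` -/
noncomputable def iFun (B : Alg A)
    (x : ((toMVF K a).obj ((BigSite.pushMod K f).obj M)).obj (pt B)) :
    ((Adeq.push A C).obj ((toMVF K (bch f a C v)).obj M)).obj (pt B) :=
  M.val.map (ωo f a C v hv B).op x

/-- the components of `push (M|_C) ⟶ push (M|_C')` induced by `r` -/
noncomputable def gFun (r : C →ₐ[A] C')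
    (hr : Spec.map (CommRingCat.ofHom r.toRingHom) ≫ bch f a C v = b') (B : Alg A)
    (y : ((Adeq.push A C).obj ((toMVF K (bch f a C v)).obj M)).obj (pt B)) :
    ((Adeq.push A C').obj ((toMVF K b').obj M)).obj (pt B) :=
  M.val.map (ρo f a C v C' b' r hr B).op y

variable (r₁ r₂ : C →ₐ[A] C')
variable (v' : Spec (CommRingCat.of C') ⟶ pullback v v)
  (hv'₁ : v' ≫ pullback.fst v v = Spec.map (CommRingCat.ofHom r₁.toRingHom))
  (hv'₂ : v' ≫ pullback.snd v v = Spec.map (CommRingCat.ofHom r₂.toRingHom))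

theorem iFun_injective
    (hcov : Presieve.ofArrows (fun _ : Unit => Spec (CommRingCat.of C)) (fun _ => v) ∈
      K (pullback a f)) (B : Alg A) :
    Function.Injective (iFun f a C v hv K M B) := by
  intro x y hxy
  let x' : M.val.obj (op (Θ f a B)) := x
  let y' : M.val.obj (op (Θ f a B)) := y
  have h : M.val.map (ωo f a C v hv B).op x' = M.val.map (ωo f a C v hv B).op y' := hxy
  have := mod_sep_over K M (fun _ : Unit => ob (bch f a C v) (CB C B))
    (fun _ => ωo f a C v hv B) (ωl_cover f a C v hv K hcov B) (x' - y')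
    (fun _ => by rw [map_sub, h, sub_self])
  exact sub_eq_zero.1 this

theorem iFun_exact
    (hcov : Presieve.ofArrows (fun _ : Unit => Spec (CommRingCat.of C)) (fun _ => v) ∈
      K (pullback a f))
    (hcov' : Presieve.ofArrows (fun _ : Unit => Spec (CommRingCat.of C')) (fun _ => v') ∈
      K (pullback v v)) (B : Alg A)
    (y : ((Adeq.push A C).obj ((toMVF K (bch f a C v)).obj M)).obj (pt B))
    (hy : gFun f a C v C' (bch' f a C v C' r₁) K M r₁ rfl B y =
      gFun f a C v C' (bch' f a C v C' r₁) K M r₂ (r₂_bch f a C v C' r₁ r₂ v' hv'₁ hv'₂) B y) :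
    ∃ x, iFun f a C v hv K M B x = y :=
  (mod_exact_single K M (ωo f a C v hv B) (ρo f a C v C' (bch' f a C v C' r₁) r₁ rfl B)
    (ρo f a C v C' (bch' f a C v C' r₁) r₂ (r₂_bch f a C v C' r₁ r₂ v' hv'₁ hv'₂) B)
    (ωl_cover f a C v hv K hcov B)
    (pullback.fst (ωl f a C v hv B) (ωl f a C v hv B))
    (pullback.snd (ωl f a C v hv B) (ωl f a C v hv B))
    (IsPullback.of_hasPullback _ _)
    (ζm f a C v hv C' r₁ v' hv'₁ B)
    (ζm_fst f a C v hv C' r₁ v' hv'₁ B)
    (ζm_snd f a C v hv C' r₁ r₂ v' hv'₁ hv'₂ B)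
    (ζm_cover f a C v hv C' K r₁ v' hv'₁ hcov' B)).2 y hy

end exactness

end pushover
end Groth.Agent.Lib.T2H8.AdeqSheaf
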