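import Mathlib
import Groth.Agent.Lib.T2H8AdeqPushOver

set_option autoImplicit false
universe u
open CategoryTheory Limits Opposite AlgebraicGeometry TensorProduct
open Adeq Groth.Agent.Helper13Adeq

attribute [-instance] Groth.Agent.Lib.T2H8.AdeqRestr.instAlgebraCarrierRC
  Groth.Agent.Lib.T2H8.AdeqRestr.instIsScalarTowerCarrierRC

namespace Groth.Agent.Lib.T2H8.AdeqSheaf

section pushmvf
variable (K : Precoverage Scheme.{u}) [BigSite.OSh K] [K.IsStableUnderBaseChange]
variable {S T : Scheme.{u}} (f : T ⟶ S) (M : BigSite.Mod K T)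
variable {A : CommRingCat.{u}} (a : Spec A ⟶ S)
variable (C : Type u) [CommRing C] [Algebra A C]
variable (v : Spec (CommRingCat.of C) ⟶ pullback a f)
  (hv : v ≫ pullback.fst a f = Spec.map (CommRingCat.ofHom (algebraMap A C)))

omit [K.IsStableUnderBaseChange] in
theorem ORing_map_ω (B : Alg A) (b : B) :
    (BigSite.ORing K T).obj.map (ωo f a C v hv B).op
      (((Sheaf.toPushforwardOverPullback (BigSite.ORingAbs K) f).hom.app (op (ob a B))).hom
        (toSect K a B b)) = toSect K (bch f a C v) (CB C B) ((1 : C) ⊗ₜ[A] b) := by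
  apply ULift.ext
  have h1 : (pullback.fst (βm B ≫ a) f).appTop ≫ (ωl f a C v hv B).appTop =
      (w₁m C B).appTop := by
    rw [← Scheme.Hom.comp_appTop, ωl_fst]
  have h2 := Scheme.ΓSpecIso_inv_naturality (rh A (Alg.unit A C B))
  have h3 : (Scheme.ΓSpecIso (CommRingCat.of B)).inv ≫
      (pullback.fst (βm B ≫ a) f).appTop ≫ (ωl f a C v hv B).appTop =
      rh A (Alg.unit A C B) ≫ (Scheme.ΓSpecIso (CommRingCat.of (CB C B))).inv := by
    rw [h1]
    exact h2.symm
  exact congrArg (fun φ => φ.hom b) h3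

omit [K.IsStableUnderBaseChange] in
theorem iFun_add (B : Alg A)
    (x y : ((toMVF K a).obj ((BigSite.pushMod K f).obj M)).obj (pt B)) :
    iFun f a C v hv K M B (x + y) = iFun f a C v hv K M B x + iFun f a C v hv K M B y :=
  map_add (M.val.map (ωo f a C v hv B).op).hom x y

omit [K.IsStableUnderBaseChange] in
theorem iFun_smul (B : Alg A) (b : B)
    (x : ((toMVF K a).obj ((BigSite.pushMod K f).obj M)).obj (pt B)) :
    iFun f a C v hv K M B (b • x) = b • iFun f a C v hv K M B x := by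
  have h := M.val.map_smul (ωo f a C v hv B).op
    (((Sheaf.toPushforwardOverPullback (BigSite.ORingAbs K) f).hom.app (op (ob a B))).hom
        (toSect K a B b)) x
  rw [ORing_map_ω] at h
  exact h

omit [K.IsStableUnderBaseChange] in
theorem iFun_nat {B B' : Alg A} (g : B ⟶ B')
    (x : ((toMVF K a).obj ((BigSite.pushMod K f).obj M)).obj (pt B)) :
    iFun f a C v hv K M B' (mapEl ((toMVF K a).obj ((BigSite.pushMod K f).obj M)) g x) =
      mapEl ((Adeq.push A C).obj ((toMVF K (bch f a C v)).obj M)) g (iFun f a C v hv K M B x) := by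
  change M.val.map (ωo f a C v hv B').op (M.val.map ((Over.pullback f).map (obMap a g)).op x) =
    M.val.map (obMap (bch f a C v) ((Alg.baseChange A C).map g)).op
      (M.val.map (ωo f a C v hv B).op x)
  rw [psh_map_comp, psh_map_comp, ← op_comp, ← op_comp, ωo_natural]


variable (C' : Type u) [CommRing C'] [Algebra A C'] (b' : Spec (CommRingCat.of C') ⟶ T)
variable (r : C →ₐ[A] C') (hr : Spec.map (CommRingCat.ofHom r.toRingHom) ≫ bch f a C v = b')

omit [K.IsStableUnderBaseChange] in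
theorem ORing_map_ρ (B : Alg A) (z : CB C B) :
    (BigSite.ORing K T).obj.map (ρo f a C v C' b' r hr B).op
      (toSect K (bch f a C v) (CB C B) z) = toSect K b' (CB C' B) (rB C C' r B z) := by
  apply ULift.ext
  have h2 := Scheme.ΓSpecIso_inv_naturality (CommRingCat.ofHom (rB C C' r B))
  exact (congrArg (fun φ => φ.hom z) h2).symm

omit [K.IsStableUnderBaseChange] in
theorem gFun_add (B : Alg A)
    (x y : ((Adeq.push A C).obj ((toMVF K (bch f a C v)).obj M)).obj (pt B)) :
    gFun f a C v C' b' K M r hr B (x + y) =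
      gFun f a C v C' b' K M r hr B x + gFun f a C v C' b' K M r hr B y :=
  map_add (M.val.map (ρo f a C v C' b' r hr B).op).hom x y

omit [K.IsStableUnderBaseChange] in
theorem gFun_smul (B : Alg A) (b : B)
    (y : ((Adeq.push A C).obj ((toMVF K (bch f a C v)).obj M)).obj (pt B)) :
    gFun f a C v C' b' K M r hr B (b • y) = b • gFun f a C v C' b' K M r hr B y := by
  have h := M.val.map_smul (ρo f a C v C' b' r hr B).op
    (toSect K (bch f a C v) (CB C B) ((1 : C) ⊗ₜ[A] b)) y
  rw [ORing_map_ρ] at h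
  have e : rB C C' r B ((1 : C) ⊗ₜ[A] b) = (1 : C') ⊗ₜ[A] b := by
    change Algebra.TensorProduct.map r (AlgHom.id A B) ((1 : C) ⊗ₜ[A] b) = (1 : C') ⊗ₜ[A] b
    rw [Algebra.TensorProduct.map_tmul, map_one]
    rfl
  rw [e] at h
  exact h

omit [K.IsStableUnderBaseChange] in
theorem gFun_nat {B B' : Alg A} (g : B ⟶ B')
    (y : ((Adeq.push A C).obj ((toMVF K (bch f a C v)).obj M)).obj (pt B)) :
    gFun f a C v C' b' K M r hr B'
        (mapEl ((Adeq.push A C).obj ((toMVF K (bch f a C v)).obj M)) g y) =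
      mapEl ((Adeq.push A C').obj ((toMVF K b').obj M)) g (gFun f a C v C' b' K M r hr B y) := by
  change M.val.map (ρo f a C v C' b' r hr B').op
      (M.val.map (obMap (bch f a C v) ((Alg.baseChange A C).map g)).op y) =
    M.val.map (obMap b' ((Alg.baseChange A C').map g)).op
      (M.val.map (ρo f a C v C' b' r hr B).op y)
  rw [psh_map_comp, psh_map_comp, ← op_comp, ← op_comp, ρo_natural]

/-- the morphism `f_*M|_A ⟶ push (M|_C)` -/
noncomputable def iHom : (toMVF K a).obj ((BigSite.pushMod K f).obj M) ⟶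
    (Adeq.push A C).obj ((toMVF K (bch f a C v)).obj M) :=
  Groth.Agent.Lib.T2H8.AdeqSplit.homOfFamily (iFun f a C v hv K M) (iFun_add K f M a C v hv)
    (iFun_smul K f M a C v hv) (fun g x => iFun_nat K f M a C v hv g x)

/-- the morphism `push (M|_C) ⟶ push (M|_C')` induced by `r` -/
noncomputable def gHom : (Adeq.push A C).obj ((toMVF K (bch f a C v)).obj M) ⟶
    (Adeq.push A C').obj ((toMVF K b').obj M) :=
  Groth.Agent.Lib.T2H8.AdeqSplit.homOfFamily (gFun f a C v C' b' K M r hr)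
    (gFun_add K f M a C v C' b' r hr) (gFun_smul K f M a C v C' b' r hr)
    (fun g y => gFun_nat K f M a C v C' b' r hr g y)


end pushmvf

theorem psh_map_comp_eq {D : Type*} [Category D] {Rg : Dᵒᵖ ⥤ RingCat.{u + 1}}
    (P : PresheafOfModules.{u + 1} Rg) {X Y₁ Y₂ Z : Dᵒᵖ} (f₁ : X ⟶ Y₁) (g₁ : Y₁ ⟶ Z)
    (f₂ : X ⟶ Y₂) (g₂ : Y₂ ⟶ Z) (h : f₁ ≫ g₁ = f₂ ≫ g₂) (x : P.obj X) :
    @Eq (P.obj Z) (P.map g₁ (P.map f₁ x)) (P.map g₂ (P.map f₂ x)) := by
  have e₁ := psh_map_comp P f₁ g₁ x
  have e₂ := psh_map_comp P f₂ g₂ x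
  rw [h] at e₁
  exact e₁.trans e₂.symm

section pushchart
variable (K : Precoverage Scheme.{u}) [BigSite.OSh K] [K.IsStableUnderBaseChange]
variable {S T : Scheme.{u}} (f : T ⟶ S) (M : BigSite.Mod K T)
variable {A : CommRingCat.{u}} (a : Spec A ⟶ S)
variable (C : Type u) [CommRing C] [Algebra A C]
variable (v : Spec (CommRingCat.of C) ⟶ pullback a f)
  (hv : v ≫ pullback.fst a f = Spec.map (CommRingCat.ofHom (algebraMap A C)))
variable (C' : Type u) [CommRing C'] [Algebra A C']
variable (r₁ r₂ : C →ₐ[A] C')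
variable (v' : Spec (CommRingCat.of C') ⟶ pullback v v)
  (hv'₁ : v' ≫ pullback.fst v v = Spec.map (CommRingCat.ofHom r₁.toRingHom))
  (hv'₂ : v' ≫ pullback.snd v v = Spec.map (CommRingCat.ofHom r₂.toRingHom))

omit [K.IsStableUnderBaseChange] in
theorem ρo_ωo (B : Alg A) :
    ρo f a C v C' (bch' f a C v C' r₁) r₁ rfl B ≫ ωo f a C v hv B =
      ρo f a C v C' (bch' f a C v C' r₁) r₂ (r₂_bch f a C v C' r₁ r₂ v' hv'₁ hv'₂) B ≫
        ωo f a C v hv B := by
  apply Over.OverMorphism.ext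
  exact ρl_ωl f a C v hv C' r₁ r₂ v' hv'₁ hv'₂ B

omit [K.IsStableUnderBaseChange] in
theorem gFun_iFun (B : Alg A)
    (x : ((toMVF K a).obj ((BigSite.pushMod K f).obj M)).obj (pt B)) :
    gFun f a C v C' (bch' f a C v C' r₁) K M r₁ rfl B (iFun f a C v hv K M B x) =
      gFun f a C v C' (bch' f a C v C' r₁) K M r₂ (r₂_bch f a C v C' r₁ r₂ v' hv'₁ hv'₂) B
        (iFun f a C v hv K M B x) :=
  psh_map_comp_eq M.val (ωo f a C v hv B).op (ρo f a C v C' (bch' f a C v C' r₁) r₁ rfl B).op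
    (ωo f a C v hv B).op
    (ρo f a C v C' (bch' f a C v C' r₁) r₂ (r₂_bch f a C v C' r₁ r₂ v' hv'₁ hv'₂) B).op
    (by rw [← op_comp, ← op_comp, ρo_ωo f a C v hv C' r₁ r₂ v' hv'₁ hv'₂ B]) x

include hv hv'₁ hv'₂ in
theorem adequate_pushMod_chart
    (hcov : Presieve.ofArrows (fun _ : Unit => Spec (CommRingCat.of C)) (fun _ => v) ∈
      K (pullback a f))
    (hcov' : Presieve.ofArrows (fun _ : Unit => Spec (CommRingCat.of C')) (fun _ => v') ∈
      K (pullback v v))
    (hC : adequate C ((toMVF K (bch f a C v)).obj M))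
    (hC' : adequate C' ((toMVF K (bch' f a C v C' r₁)).obj M)) :
    adequate A ((toMVF K a).obj ((BigSite.pushMod K f).obj M)) := by
  let i := iHom K f M a C v hv
  let g₁ := gHom K f M a C v C' (bch' f a C v C' r₁) r₁ rfl
  let g₂ := gHom K f M a C v C' (bch' f a C v C' r₁) r₂ (r₂_bch f a C v C' r₁ r₂ v' hv'₁ hv'₂)
  have hG : adequate A ((Adeq.push A C).obj ((toMVF K (bch f a C v)).obj M)) :=
    Groth.Agent.Lib.T2H8.AdeqPush.adequate_push A C _ hC
  have hG' : adequate A ((Adeq.push A C').obj ((toMVF K (bch' f a C v C' r₁)).obj M)) :=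
    Groth.Agent.Lib.T2H8.AdeqPush.adequate_push A C' _ hC'
  have e := PshMod.isoKernel i (g₁ - g₂)
    (fun X => iFun_injective f a C v hv K M hcov X.unop.unop) (fun X y => by
      have hsub : (g₁ - g₂).app X y = g₁.app X y - g₂.app X y := rfl
      constructor
      · intro hy
        have hy' : g₁.app X y = g₂.app X y := sub_eq_zero.1 (hsub.symm.trans hy)
        obtain ⟨x, hx⟩ := iFun_exact f a C v hv C' K M r₁ r₂ v' hv'₁ hv'₂ hcov hcov'
          X.unop.unop y hy'
        exact ⟨x, hx⟩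
      · rintro ⟨x, rfl⟩
        refine hsub.trans (sub_eq_zero.2 ?_)
        exact gFun_iFun K f M a C v hv C' r₁ r₂ v' hv'₁ hv'₂ X.unop.unop x)
  exact (adequate A).prop_of_iso e.symm ((adequate A).prop_kernel (g₁ - g₂) hG hG')

end pushchart

end Groth.Agent.Lib.T2H8.AdeqSheaf
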