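import Mathlib
import Groth.Agent.Lib.T2H8AdeqPushChart

set_option autoImplicit false
universe u
open CategoryTheory Limits Opposite AlgebraicGeometry TensorProduct
open Adeq Groth.Agent.Helper13Adeq

attribute [-instance] Groth.Agent.Lib.T2H8.AdeqRestr.instAlgebraCarrierRC
  Groth.Agent.Lib.T2H8.AdeqRestr.instIsScalarTowerCarrierRC

namespace Groth.Agent.Lib.T2H8.AdeqSheaf

section chart'
variable (K : Precoverage Scheme.{u}) [BigSite.OSh K] [K.IsStableUnderBaseChange]
variable {S T : Scheme.{u}} (f : T ⟶ S) (M : BigSite.Mod K T)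

theorem adequate_pushMod_chart' {A C C' : CommRingCat.{u}} (a : Spec A ⟶ S)
    (α : A ⟶ C) (ρ₁ ρ₂ : C ⟶ C')
    (v : Spec C ⟶ pullback a f) (hv : v ≫ pullback.fst a f = Spec.map α)
    (v' : Spec C' ⟶ pullback v v) (hv'₁ : v' ≫ pullback.fst v v = Spec.map ρ₁)
    (hv'₂ : v' ≫ pullback.snd v v = Spec.map ρ₂)
    (hcov : Presieve.ofArrows (fun _ : Unit => Spec C) (fun _ => v) ∈ K (pullback a f))
    (hcov' : Presieve.ofArrows (fun _ : Unit => Spec C') (fun _ => v') ∈ K (pullback v v))
    (hadq : ∀ (R : CommRingCat.{u}) (b : Spec R ⟶ T), adequate R ((toMVF K b).obj M)) :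
    adequate A ((toMVF K a).obj ((BigSite.pushMod K f).obj M)) := by
  have hα : α ≫ ρ₂ = α ≫ ρ₁ := by
    apply Spec.map_injective
    rw [Spec.map_comp, Spec.map_comp, ← hv'₁, ← hv'₂, ← hv, Category.assoc, Category.assoc,
      ← Category.assoc (pullback.snd v v), ← pullback.condition, Category.assoc]
  let _ : Algebra A C := α.hom.toAlgebra
  let _ : Algebra A C' := (ρ₁.hom.comp α.hom).toAlgebra
  let r₁ : C →ₐ[A] C' := { ρ₁.hom with commutes' := fun _ => rfl }
  let r₂ : C →ₐ[A] C' := { ρ₂.hom with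
    commutes' := fun x => congrArg (fun φ => φ.hom x) hα }
  exact adequate_pushMod_chart K f M a C v hv C' r₁ r₂ v' hv'₁ hv'₂ hcov hcov'
    (hadq _ _) (hadq _ _)

end chart'

section final
variable (P : MorphismProperty Scheme.{u}) [P.IsStableUnderBaseChange]
    [P.IsStableUnderComposition] [Scheme.IsJointlySurjectivePreserving P]
    [IsZariskiLocalAtSource P] [P.ContainsIdentities]
    [BigSite.OSh (Scheme.precoverage P)]

omit [P.IsStableUnderBaseChange] [P.IsStableUnderComposition]
  [Scheme.IsJointlySurjectivePreserving P] [BigSite.OSh (Scheme.precoverage P)] in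
theorem exists_affine_cover_hom (X : Scheme.{u}) [CompactSpace X] :
    ∃ (C : CommRingCat.{u}) (v : Spec C ⟶ X),
      Presieve.ofArrows (fun _ : Unit => Spec C) (fun _ => v) ∈ Scheme.precoverage P X := by
  obtain ⟨Y, p, hsurj, hP, hY⟩ := X.exists_hom_isAffine_of_isZariskiLocalAtSource P
  refine ⟨Γ(Y, ⊤), Y.isoSpec.inv ≫ p, ?_⟩
  rw [Scheme.ofArrows_mem_precoverage_iff]
  refine ⟨fun x => ⟨(), ?_⟩, fun _ => IsZariskiLocalAtSource.comp hP _⟩
  have : Surjective (Y.isoSpec.inv ≫ p) := inferInstance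
  exact this.surj x

theorem adequateMod_pushMod
    (hopen : ∀ {X Y : Scheme.{u}} (f : X ⟶ Y), P f → IsOpenMap f)
    (himm : ∀ {X Y : Scheme.{u}} (f : X ⟶ Y), IsOpenImmersion f → P f)
    {S T : Scheme.{u}} (f : T ⟶ S) [QuasiCompact f] [QuasiSeparated f]
    (M : BigSite.Mod (Scheme.precoverage P) T) (hM : adequateMod (Scheme.precoverage P) T M) :
    adequateMod (Scheme.precoverage P) S ((BigSite.pushMod (Scheme.precoverage P) f).obj M) := by
  apply adequateMod_of_charts P himm S _
  intro A a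
  have : CompactSpace ↥(pullback a f) := inferInstance
  have : QuasiSeparatedSpace ↥(pullback a f) :=
    quasiSeparatedSpace_of_quasiSeparated (pullback.fst a f)
  obtain ⟨C, v, hcov⟩ := exists_affine_cover_hom P (pullback a f)
  have : QuasiCompact v := inferInstance
  have : CompactSpace ↥(pullback v v) := inferInstance
  obtain ⟨C', v', hcov'⟩ := exists_affine_cover_hom P (pullback v v)
  exact adequate_pushMod_chart' (Scheme.precoverage P) f M a
    (Spec.preimage (v ≫ pullback.fst a f)) (Spec.preimage (v' ≫ pullback.fst v v))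
    (Spec.preimage (v' ≫ pullback.snd v v)) v (Spec.map_preimage _).symm v'
    (Spec.map_preimage _).symm (Spec.map_preimage _).symm hcov hcov'
    (fun R b => adequate_chart P hopen himm T M hM R b)

end final

end Groth.Agent.Lib.T2H8.AdeqSheaf
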