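import Mathlib
import Groth.Agent.Lib.T2H8AdeqSheafify

set_option autoImplicit false
universe u w w' v₀ u₀
open CategoryTheory Limits Opposite AlgebraicGeometry TensorProduct
open Adeq Groth.Agent.Helper13Adeq

namespace Groth.Agent.Lib.T2H8.AdeqSheaf

section colim
variable (K : Precoverage Scheme.{u}) [BigSite.OSh K] {S : Scheme.{u}}
variable {R : CommRingCat.{u}} (a : Spec R ⟶ S)

/-- `toMVFPre` commutes with the forgetful functors to presheaves of abelian groups -/
noncomputable def toMVFPreCompToPresheaf :
    toMVFPre K a ⋙ PresheafOfModules.toPresheaf _ ≅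
      PresheafOfModules.toPresheaf (BigSite.ORing K S).obj ⋙
        (Functor.whiskeringLeft _ _ _).obj (specOver a).op :=
  NatIso.ofComponents (fun P => Iso.refl _) (by
    intro P Q ψ
    ext X x
    rfl)

instance toPresheaf_reflectsColimitsOfShape {C : Type*} [Category C] {Rg : Cᵒᵖ ⥤ RingCat.{u₀}}
    (J : Type w) [Category.{w'} J] [HasColimitsOfShape J AddCommGrpCat.{v₀}] :
    ReflectsColimitsOfShape J (PresheafOfModules.toPresheaf.{v₀} Rg) :=
  reflectsColimitsOfShape_of_reflectsIsomorphisms

noncomputable instance toMVFPre_preservesColimitsOfShape (J : Type w) [Category.{w'} J]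
    [HasColimitsOfShape J AddCommGrpCat.{u + 1}] :
    PreservesColimitsOfShape J (toMVFPre K a) := by
  have h1 : PreservesColimitsOfShape J (toMVFPre K a ⋙ PresheafOfModules.toPresheaf _) :=
    preservesColimitsOfShape_of_natIso (toMVFPreCompToPresheaf K a).symm
  exact preservesColimitsOfShape_of_reflects_of_preserves (toMVFPre K a)
    (PresheafOfModules.toPresheaf _)

end colim

section colimMod
variable (P : MorphismProperty Scheme.{u}) [P.IsStableUnderBaseChange]
    [P.IsStableUnderComposition] [Scheme.IsJointlySurjectivePreserving P]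
    [BigSite.OSh (Scheme.precoverage P)] {S : Scheme.{u}}

/-- sheafification -/
noncomputable abbrev Lsh : PresheafOfModules.{u + 1} (BigSite.ORing (Scheme.precoverage P) S).obj ⥤
    BigSite.Mod (Scheme.precoverage P) S :=
  PresheafOfModules.sheafification (𝟙 (BigSite.ORing (Scheme.precoverage P) S).obj)

/-- the forgetful functor -/
noncomputable abbrev Rsh : BigSite.Mod (Scheme.precoverage P) S ⥤
    PresheafOfModules.{u + 1} (BigSite.ORing (Scheme.precoverage P) S).obj :=
  SheafOfModules.forget (BigSite.ORing (Scheme.precoverage P) S) ⋙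
    PresheafOfModules.restrictScalars (𝟙 (BigSite.ORing (Scheme.precoverage P) S).obj)

noncomputable abbrev adjS : Lsh P (S := S) ⊣ Rsh P :=
  PresheafOfModules.sheafificationAdjunction (𝟙 (BigSite.ORing (Scheme.precoverage P) S).obj)

variable (hopen : ∀ {X Y : Scheme.{u}} (f : X ⟶ Y), P f → IsOpenMap f)
    (himm : ∀ {X Y : Scheme.{u}} (f : X ⟶ Y), IsOpenImmersion f → P f)
    (hflat : ∀ {X Y : Scheme.{u}} (f : X ⟶ Y), P f → Flat f)

include hopen himm hflat in
theorem adequateMod_colimit {J : Type (u + 1)} [SmallCategory J]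
    (D : J ⥤ BigSite.Mod (Scheme.precoverage P) S)
    (hD : ∀ j (R : CommRingCat.{u}) (a : Spec R ⟶ S),
      adequate R ((toMVF (Scheme.precoverage P) a).obj (D.obj j))) :
    adequateMod (Scheme.precoverage P) S (colimit D) := by
  let Pre := colimit (D ⋙ Rsh P)
  have e : colimit D ≅ (Lsh P).obj Pre :=
    (HasColimit.isoOfNatIso (Functor.isoWhiskerLeft D (asIso (adjS P (S := S)).counit).symm)) ≪≫
      (preservesColimitIso (Lsh P) (D ⋙ Rsh P)).symm
  have hPre : ∀ (R : CommRingCat.{u}) (a : Spec R ⟶ S),
      adequate R ((toMVFPre (Scheme.precoverage P) a).obj Pre) := by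
    intro R a
    have e2 := preservesColimitIso (toMVFPre (Scheme.precoverage P) a) (D ⋙ Rsh P)
    refine (adequate R).prop_of_iso e2.symm ((adequate R).prop_colimit _ (fun j => ?_))
    exact hD j R a
  exact (adequateMod (Scheme.precoverage P) S).prop_of_iso e.symm
    (adequateMod_sheafification P Pre hopen himm hflat hPre)

include hopen himm hflat in
theorem adequateMod_cokernel {M N : BigSite.Mod (Scheme.precoverage P) S} (φ : M ⟶ N)
    (hM : ∀ (R : CommRingCat.{u}) (a : Spec R ⟶ S),
      adequate R ((toMVF (Scheme.precoverage P) a).obj M))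
    (hN : ∀ (R : CommRingCat.{u}) (a : Spec R ⟶ S),
      adequate R ((toMVF (Scheme.precoverage P) a).obj N)) :
    adequateMod (Scheme.precoverage P) S (cokernel φ) := by
  let Pre := cokernel ((Rsh P).map φ)
  have e : (Lsh P).obj Pre ≅ cokernel φ :=
    (PreservesCokernel.iso (Lsh P) ((Rsh P).map φ)) ≪≫
      cokernel.mapIso ((Lsh P).map ((Rsh P).map φ)) φ (asIso ((adjS P (S := S)).counit.app M))
        (asIso ((adjS P (S := S)).counit.app N)) ((adjS P (S := S)).counit.naturality φ)
  have hPre : ∀ (R : CommRingCat.{u}) (a : Spec R ⟶ S),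
      adequate R ((toMVFPre (Scheme.precoverage P) a).obj Pre) := by
    intro R a
    have e2 := PreservesCokernel.iso (toMVFPre (Scheme.precoverage P) a) ((Rsh P).map φ)
    exact (adequate R).prop_of_iso e2.symm ((adequate R).prop_cokernel _ (hM R a) (hN R a))
  exact (adequateMod (Scheme.precoverage P) S).prop_of_iso e
    (adequateMod_sheafification P Pre hopen himm hflat hPre)

end colimMod
end Groth.Agent.Lib.T2H8.AdeqSheaf
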