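import Mathlib
import Groth.Agent.Lib.T2H8AdeqSheafE

set_option autoImplicit false
universe u
open CategoryTheory Limits Opposite AlgebraicGeometry TensorProduct
open Adeq Groth.Agent.Helper13Adeq

namespace Groth.Agent.Lib.T2H8.AdeqSheaf

section pull
variable (K : Precoverage Scheme.{u}) [BigSite.OSh K] {S T : Scheme.{u}} (f : T ⟶ S)
  (M : BigSite.Mod K S)
variable {R : CommRingCat.{u}} (b : Spec R ⟶ T)

theorem pull_hom_eq (B : Alg R) :
    (ob (b ≫ f) B).hom =
      𝟙 (Spec (CommRingCat.of B)) ≫ ((Over.map f).obj (ob b B)).hom := by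
  rw [Category.id_comp, Over.map_obj_hom, ob_hom, ob_hom]
  exact (Category.assoc _ _ _).symm

/-- comparison morphism -/
noncomputable def σ (B : Alg R) : ob (b ≫ f) B ⟶ (Over.map f).obj (ob b B) :=
  Over.homMk (𝟙 (Spec (CommRingCat.of B))) (pull_hom_eq f b B).symm

noncomputable def σinv (B : Alg R) : (Over.map f).obj (ob b B) ⟶ ob (b ≫ f) B :=
  Over.homMk (𝟙 (Spec (CommRingCat.of B))) (by
    have h1 : 𝟙 (Spec (CommRingCat.of B)) ≫ (ob (b ≫ f) B).hom = (ob (b ≫ f) B).hom :=
      Category.id_comp _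
    have h2 := pull_hom_eq f b B
    have h3 : 𝟙 (Spec (CommRingCat.of B)) ≫ ((Over.map f).obj (ob b B)).hom =
      ((Over.map f).obj (ob b B)).hom := Category.id_comp _
    exact h1.trans (h2.trans h3))

theorem σ_left (B : Alg R) : (σ f b B).left = 𝟙 (Spec (CommRingCat.of B)) := rfl
theorem σinv_left (B : Alg R) : (σinv f b B).left = 𝟙 (Spec (CommRingCat.of B)) := rfl

theorem σ_σinv (B : Alg R) : σ f b B ≫ σinv f b B = 𝟙 (ob (b ≫ f) B) := by
  apply Over.OverMorphism.ext
  rw [Over.comp_left, σ_left, σinv_left, Over.id_left]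
  exact Category.id_comp _

theorem σinv_σ (B : Alg R) : σinv f b B ≫ σ f b B = 𝟙 ((Over.map f).obj (ob b B)) := by
  apply Over.OverMorphism.ext
  rw [Over.comp_left, σ_left, σinv_left, Over.id_left]
  exact Category.id_comp _

theorem σ_natural {B B' : Alg R} (g : B ⟶ B') :
    σ f b B' ≫ (Over.map f).map (obMap b g) = obMap (b ≫ f) g ≫ σ f b B := by
  apply Over.OverMorphism.ext
  rw [Over.comp_left, Over.comp_left, σ_left, σ_left, obMap_left, Over.map_map_left, obMap_left]
  exact (Category.id_comp _).trans (Category.comp_id _).symm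


theorem ORing_map_σ (B : Alg R) (r : B) :
    (BigSite.ORing K S).obj.map (σ f b B).op
      (((Sheaf.pushforwardOverMapIso (BigSite.ORingAbs K) f).inv.hom.app (op (ob b B))).hom
        (toSect K b B r)) = toSect K (b ≫ f) B r := by
  apply ULift.ext
  change ((𝟙 (Spec (CommRingCat.of B))) : Spec (CommRingCat.of B) ⟶ _).appTop.hom _ = _
  simp
  rfl

/-- the comparison map on sections -/
noncomputable def sP (B : Alg R)
    (x : ((toMVF K b).obj ((BigSite.pullMod K f).obj M)).obj (pt B)) :
    ((toMVF K (b ≫ f)).obj M).obj (pt B) :=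
  M.val.map (σ f b B).op x

theorem sP_add (B : Alg R) (x y : ((toMVF K b).obj ((BigSite.pullMod K f).obj M)).obj (pt B)) :
    sP K f M b B (x + y) = sP K f M b B x + sP K f M b B y :=
  map_add (M.val.map (σ f b B).op).hom x y

theorem sP_smul (B : Alg R) (r : B)
    (x : ((toMVF K b).obj ((BigSite.pullMod K f).obj M)).obj (pt B)) :
    sP K f M b B (r • x) = r • sP K f M b B x := by
  have h := M.val.map_smul (σ f b B).op
    (((Sheaf.pushforwardOverMapIso (BigSite.ORingAbs K) f).inv.hom.app (op (ob b B))).hom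
        (toSect K b B r)) x
  rw [ORing_map_σ] at h
  exact h

theorem sP_nat {B B' : Alg R} (g : B ⟶ B')
    (x : ((toMVF K b).obj ((BigSite.pullMod K f).obj M)).obj (pt B)) :
    sP K f M b B' (mapEl ((toMVF K b).obj ((BigSite.pullMod K f).obj M)) g x) =
      mapEl ((toMVF K (b ≫ f)).obj M) g (sP K f M b B x) := by
  change M.val.map (σ f b B').op (M.val.map ((Over.map f).map (obMap b g)).op x) =
    M.val.map (obMap (b ≫ f) g).op (M.val.map (σ f b B).op x)
  rw [psh_map_comp, psh_map_comp, ← op_comp, ← op_comp, σ_natural]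

theorem sP_bij (B : Alg R) : Function.Bijective (sP K f M b B) := by
  refine Function.bijective_iff_has_inverse.2
    ⟨fun y => M.val.map (σinv f b B).op y, ?_, ?_⟩
  · intro x
    change M.val.map (σinv f b B).op (M.val.map (σ f b B).op x) = x
    rw [psh_map_comp, ← op_comp, σinv_σ, op_id, psh_map_id]
  · intro y
    change M.val.map (σ f b B).op (M.val.map (σinv f b B).op y) = y
    rw [psh_map_comp, ← op_comp, σ_σinv, op_id, psh_map_id]

/-- `F_{f^*M, b} ≅ F_{M, b ≫ f}` -/
theorem nonempty_pull_iso :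
    Nonempty ((toMVF K b).obj ((BigSite.pullMod K f).obj M) ≅ (toMVF K (b ≫ f)).obj M) :=
  nonempty_iso_of_family (sP K f M b) (sP_add K f M b) (sP_smul K f M b)
    (fun g x => sP_nat K f M b g x) (sP_bij K f M b)

theorem adequate_pull_iff :
    adequate R ((toMVF K b).obj ((BigSite.pullMod K f).obj M)) ↔
      adequate R ((toMVF K (b ≫ f)).obj M) := by
  obtain ⟨e⟩ := nonempty_pull_iso K f M b
  exact ⟨fun h => (adequate R).prop_of_iso e h, fun h => (adequate R).prop_of_iso e.symm h⟩

end pull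
end Groth.Agent.Lib.T2H8.AdeqSheaf
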