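import Mathlib
import Groth.Agent.Lib.Helper16CechLow

/-!
# Contraction of the Cech complex of a single covering object after "base change"

`C` a category with finite products, `X₀` an object, `G : C ⥤ C` a functor such that `G Y` is
(functorially) a product of `X₀` and `Y`.  Then for every presheaf `P` the Cech complex of
`Y ↦ P (G Y)` for the one-object family `X₀` is exact in positive degrees, and its `0`-cocycles
come from `P (G T)` for every object `T` under `X₀`.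
-/

set_option autoImplicit false
set_option linter.unusedSectionVars false
universe u v u₁
open CategoryTheory CategoryTheory.Limits Opposite

namespace Groth.Agent.Lib.T2H8.CechContract
open Groth.Agent.Lib.Helper16.CechLow

variable {C : Type u₁} [Category.{v} C] [HasFiniteProducts C]

/-- a functorial product with a fixed object -/
structure ProdFunctor (X₀ : C) where
  G : C ⥤ C
  p : ∀ Y, G.obj Y ⟶ X₀
  ε : G ⟶ 𝟭 C
  hp : ∀ {Y Y' : C} (f : Y ⟶ Y'), G.map f ≫ p Y' = p Y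
  lim : ∀ Y, IsLimit (BinaryFan.mk (p Y) (ε.app Y))

variable (X₀ : C)

/-- the one-object family -/
abbrev U₀ : PUnit.{u + 1} → C := fun _ => X₀

/-- the `(n+1)`-fold power -/
noncomputable abbrev Xp (n : ℕ) : C := ∏ᶜ (fun _ : Fin (n + 1) => X₀)

/-- the constant tuple -/
abbrev xc (n : ℕ) : Fin (n + 1) → PUnit.{u + 1} := fun _ => PUnit.unit

/-- the face maps on powers -/
noncomputable abbrev fc {n : ℕ} (i : Fin (n + 2)) : Xp X₀ (n + 1) ⟶ Xp X₀ n :=
  Pi.lift fun a => Pi.π (fun _ : Fin (n + 2) => X₀) (Fin.succAbove i a)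

theorem face_eq {n : ℕ} (i : Fin (n + 2)) :
    face (U₀.{u} X₀) (xc.{u} (n + 1)) i = fc X₀ i := rfl

variable {X₀} (D : ProdFunctor X₀)

namespace ProdFunctor

/-- the lift into `G Y` -/
noncomputable def lft (Y : C) {Z : C} (a : Z ⟶ X₀) (b : Z ⟶ Y) : Z ⟶ D.G.obj Y :=
  BinaryFan.IsLimit.lift (D.lim Y) a b

@[reassoc (attr := simp)]
theorem lft_p (Y : C) {Z : C} (a : Z ⟶ X₀) (b : Z ⟶ Y) : D.lft Y a b ≫ D.p Y = a :=
  BinaryFan.IsLimit.lift_fst (D.lim Y) a b

@[reassoc (attr := simp)]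
theorem lft_ε (Y : C) {Z : C} (a : Z ⟶ X₀) (b : Z ⟶ Y) : D.lft Y a b ≫ D.ε.app Y = b :=
  BinaryFan.IsLimit.lift_snd (D.lim Y) a b

theorem hom_ext (Y : C) {Z : C} {h h' : Z ⟶ D.G.obj Y} (h1 : h ≫ D.p Y = h' ≫ D.p Y)
    (h2 : h ≫ D.ε.app Y = h' ≫ D.ε.app Y) : h = h' :=
  BinaryFan.IsLimit.hom_ext (D.lim Y) h1 h2

@[reassoc]
theorem map_ε {Y Y' : C} (f : Y ⟶ Y') : D.G.map f ≫ D.ε.app Y' = D.ε.app Y ≫ f :=
  D.ε.naturality f

/-- the extra degeneracy `(a; b) ↦ (a; a, b)` -/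
noncomputable def σ (n : ℕ) : D.G.obj (Xp X₀ n) ⟶ D.G.obj (Xp X₀ (n + 1)) :=
  D.lft _ (D.p _) (Pi.lift (Fin.cases (D.p _) (fun a => D.ε.app _ ≫ Pi.π (fun _ : Fin (n + 1) => X₀) a)))

@[reassoc]
theorem σ_p (n : ℕ) : D.σ n ≫ D.p _ = D.p _ := D.lft_p _ _ _

@[reassoc]
theorem σ_ε_zero (n : ℕ) :
    D.σ n ≫ D.ε.app _ ≫ Pi.π (fun _ : Fin (n + 2) => X₀) 0 = D.p _ := by
  rw [σ, lft_ε_assoc, Pi.lift_π]
  rfl

@[reassoc]
theorem σ_ε_succ (n : ℕ) (a : Fin (n + 1)) :
    D.σ n ≫ D.ε.app _ ≫ Pi.π (fun _ : Fin (n + 2) => X₀) a.succ =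
      D.ε.app _ ≫ Pi.π (fun _ : Fin (n + 1) => X₀) a := by
  rw [σ, lft_ε_assoc, Pi.lift_π]
  rfl

theorem I1 (n : ℕ) : D.σ n ≫ D.G.map (fc X₀ 0) = 𝟙 _ := by
  apply D.hom_ext
  · rw [Category.assoc, D.hp, σ_p, Category.id_comp]
  · rw [Category.assoc, D.map_ε, Category.id_comp]
    apply Pi.hom_ext
    intro a
    rw [Category.assoc, Category.assoc, Pi.lift_π]
    exact D.σ_ε_succ n a

theorem I2 (n : ℕ) (i : Fin (n + 2)) :
    D.σ (n + 1) ≫ D.G.map (fc X₀ i.succ) = D.G.map (fc X₀ i) ≫ D.σ n := by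
  apply D.hom_ext
  · rw [Category.assoc, D.hp, σ_p, Category.assoc, σ_p, D.hp]
  · rw [Category.assoc, D.map_ε]
    apply Pi.hom_ext
    intro a
    rw [Category.assoc, Category.assoc, Pi.lift_π]
    refine Fin.cases ?_ (fun a' => ?_) a
    · rw [Fin.succ_succAbove_zero, σ_ε_zero, Category.assoc, Category.assoc, σ_ε_zero, D.hp]
    · rw [Fin.succ_succAbove_succ, σ_ε_succ, Category.assoc, Category.assoc, σ_ε_succ]
      have h := D.map_ε (fc X₀ i)
      have h2 := congrArg (fun t => t ≫ Pi.π (fun _ : Fin (n + 1) => X₀) a') h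
      simp only [Category.assoc, Pi.lift_π] at h2
      exact h2.symm

end ProdFunctor


section exact
variable (P : Cᵒᵖ ⥤ AddCommGrpCat.{u})

theorem Pmap_comp {Y Z W : C} (f : Y ⟶ Z) (g : Z ⟶ W) (x : P.obj (op W)) :
    P.map f.op (P.map g.op x) = P.map (f ≫ g).op x := by
  rw [op_comp, P.map_comp]
  rfl

theorem Pmap_id {Y : C} (x : P.obj (op Y)) : P.map (𝟙 Y).op x = x := by
  rw [op_id, P.map_id]
  rfl

/-- the component of a cochain -/
noncomputable abbrev cmp (n : ℕ) (c : (CK (U₀.{u} X₀) (D.G.op ⋙ P)).X n) :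
    P.obj (op (D.G.obj (Xp X₀ n))) :=
  pr (U₀.{u} X₀) (D.G.op ⋙ P) n (xc.{u} n) c

theorem cmp_d (n : ℕ) (c : (CK (U₀.{u} X₀) (D.G.op ⋙ P)).X n) :
    cmp D P (n + 1) ((CK (U₀.{u} X₀) (D.G.op ⋙ P)).d n (n + 1) c) =
      ∑ i : Fin (n + 2), (-1 : ℤ) ^ (i : ℕ) • P.map (D.G.map (fc X₀ i)).op (cmp D P n c) :=
  d_pr_apply (U₀.{u} X₀) (D.G.op ⋙ P) n (xc.{u} (n + 1)) c

theorem cmp_ext (n : ℕ) (c c' : (CK (U₀.{u} X₀) (D.G.op ⋙ P)).X n)
    (h : cmp D P n c = cmp D P n c') : c = c' := by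
  apply elt_ext
  intro x
  obtain rfl : x = xc.{u} n := Subsingleton.elim _ _
  exact h

/-- a cochain with prescribed component -/
noncomputable def mk (n : ℕ) (y : P.obj (op (D.G.obj (Xp X₀ n)))) :
    (CK (U₀.{u} X₀) (D.G.op ⋙ P)).X n :=
  mkElt (U₀.{u} X₀) (D.G.op ⋙ P) n (fun _ => y)

theorem cmp_mk (n : ℕ) (y : P.obj (op (D.G.obj (Xp X₀ n)))) : cmp D P n (mk D P n y) = y :=
  pr_mkElt (U₀.{u} X₀) (D.G.op ⋙ P) n (fun _ => y) (xc.{u} n)

theorem contract_key (n : ℕ) (y : P.obj (op (D.G.obj (Xp X₀ (n + 1)))))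
    (hy : ∑ j : Fin (n + 3), (-1 : ℤ) ^ (j : ℕ) • P.map (D.G.map (fc X₀ j)).op y = 0) :
    ∑ i : Fin (n + 2), (-1 : ℤ) ^ (i : ℕ) •
      P.map (D.G.map (fc X₀ i)).op (P.map (D.σ n).op y) = y := by
  have h1 := congrArg (P.map (D.σ (n + 1)).op) hy
  rw [map_sum, map_zero, Fin.sum_univ_succ] at h1
  simp only [map_zsmul, Pmap_comp] at h1
  rw [D.I1] at h1
  simp only [D.I2] at h1
  simp only [Fin.val_zero, pow_zero, one_smul, Fin.val_succ, pow_succ, mul_neg, mul_one,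
    neg_smul, Finset.sum_neg_distrib, Pmap_id] at h1
  simp only [Pmap_comp]
  exact (add_neg_eq_zero.1 h1).symm

theorem contract_exact (n : ℕ) : (CK (U₀.{u} X₀) (D.G.op ⋙ P)).ExactAt (n + 1) := by
  rw [HomologicalComplex.exactAt_iff' _ n (n + 1) (n + 2) (by simp) (by simp),
    ShortComplex.ab_exact_iff]
  intro c hc
  have hc' : (CK (U₀.{u} X₀) (D.G.op ⋙ P)).d (n + 1) (n + 2) c = 0 := hc
  refine ⟨mk D P n (P.map (D.σ n).op (cmp D P (n + 1) c)), ?_⟩
  apply cmp_ext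
  change cmp D P (n + 1) ((CK (U₀.{u} X₀) (D.G.op ⋙ P)).d n (n + 1) _) = _
  rw [cmp_d, cmp_mk]
  apply contract_key
  rw [← cmp_d, hc']
  exact map_zero _

end exact


section zero
variable (P : Cᵒᵖ ⥤ AddCommGrpCat.{u})

namespace ProdFunctor

/-- the section of the augmentation `(a; *) ↦ (a; a)` -/
noncomputable def σ₀ (T : C) : D.G.obj T ⟶ D.G.obj (Xp X₀ 0) :=
  D.lft _ (D.p T) (Pi.lift (fun _ => D.p T))

theorem I3 (T : C) (t : Xp X₀ 0 ⟶ T) :
    D.σ 0 ≫ D.G.map (fc X₀ 1) = D.G.map t ≫ D.σ₀ T := by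
  apply D.hom_ext
  · rw [Category.assoc, D.hp, σ_p, Category.assoc, σ₀, lft_p, D.hp]
  · rw [Category.assoc, D.map_ε, Category.assoc, σ₀, lft_ε]
    apply Pi.hom_ext
    intro a
    rw [Category.assoc, Category.assoc, Pi.lift_π, Category.assoc, Pi.lift_π]
    have ha : a = 0 := Fin.fin_one_eq_zero a
    subst ha
    rw [Fin.one_succAbove_zero, σ_ε_zero, D.hp]

end ProdFunctor

theorem contract_zero (T : C) (t : Xp X₀ 0 ⟶ T) (c : (CK (U₀.{u} X₀) (D.G.op ⋙ P)).X 0)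
    (hc : (CK (U₀.{u} X₀) (D.G.op ⋙ P)).d 0 1 c = 0) :
    cmp D P 0 c = P.map (D.G.map t).op (P.map (D.σ₀ T).op (cmp D P 0 c)) := by
  have h0 : cmp D P 1 ((CK (U₀.{u} X₀) (D.G.op ⋙ P)).d 0 1 c) = 0 := by
    rw [hc]
    exact map_zero _
  rw [cmp_d] at h0
  have h1 := congrArg (P.map (D.σ 0).op) h0
  rw [map_sum, map_zero, Fin.sum_univ_succ, Fin.sum_univ_succ] at h1
  simp only [map_zsmul, Pmap_comp, Finset.univ_eq_empty, Finset.sum_empty, add_zero] at h1
  rw [D.I1] at h1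
  have e : (Fin.succ (0 : Fin 1) : Fin 2) = 1 := rfl
  rw [e, D.I3 T t] at h1
  simp only [Fin.val_zero, pow_zero, one_smul, Fin.val_one, pow_one, neg_smul, Pmap_id] at h1
  rw [Pmap_comp]
  exact add_neg_eq_zero.1 h1

end zero


section transported
variable (P : Cᵒᵖ ⥤ AddCommGrpCat.{u})

theorem contract_exact' (F : Cᵒᵖ ⥤ AddCommGrpCat.{u}) (hF : F = D.G.op ⋙ P) (n : ℕ) :
    (CK (U₀.{u} X₀) F).ExactAt (n + 1) := by
  subst hF
  exact contract_exact D P n

theorem contract_zero' (F : Cᵒᵖ ⥤ AddCommGrpCat.{u}) (hF : F = D.G.op ⋙ P) (T : C)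
    (t : Xp X₀ 0 ⟶ T) (c : (CK (U₀.{u} X₀) F).X 0) (hc : (CK (U₀.{u} X₀) F).d 0 1 c = 0) :
    ∃ s : F.obj (op T), pr (U₀.{u} X₀) F 0 (xc.{u} 0) c = F.map t.op s := by
  subst hF
  exact ⟨_, contract_zero D P T t c hc⟩

end transported

section pow
namespace ProdFunctor

theorem lft_ε_π (n : ℕ) {Z : C} (a : Z ⟶ X₀) (b : Z ⟶ Xp X₀ n) (k : Fin (n + 1)) :
    D.lft (Xp X₀ n) a b ≫ D.ε.app (Xp X₀ n) ≫ Pi.π (fun _ : Fin (n + 1) => X₀) k =
      b ≫ Pi.π (fun _ : Fin (n + 1) => X₀) k := by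
  rw [← Category.assoc, lft_ε]

/-- `X₀^{n+2} ≅ G (X₀^{n+1})` -/
noncomputable def powIso (n : ℕ) : Xp X₀ (n + 1) ≅ D.G.obj (Xp X₀ n) where
  hom := D.lft (Xp X₀ n) (Pi.π (fun _ : Fin (n + 2) => X₀) 0) (fc X₀ 0)
  inv := D.σ n ≫ D.ε.app (Xp X₀ (n + 1))
  hom_inv_id := by
    apply Pi.hom_ext
    intro a
    refine Fin.cases ?_ (fun a' => ?_) a
    · rw [Category.assoc, Category.assoc]
      refine (congrArg (fun t => D.lft (Xp X₀ n) (Pi.π (fun _ : Fin (n + 2) => X₀) 0)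
        (fc X₀ 0) ≫ t) (D.σ_ε_zero n)).trans ?_
      rw [lft_p, Category.id_comp]
    · rw [Category.assoc, Category.assoc]
      refine (congrArg (fun t => D.lft (Xp X₀ n) (Pi.π (fun _ : Fin (n + 2) => X₀) 0)
        (fc X₀ 0) ≫ t) (D.σ_ε_succ n a')).trans ?_
      refine (lft_ε_π D n _ _ a').trans ?_
      rw [Pi.lift_π, Category.id_comp]
      rfl
  inv_hom_id := by
    apply D.hom_ext
    · rw [Category.assoc, lft_p, Category.assoc, Category.id_comp]
      exact D.σ_ε_zero n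
    · rw [Category.assoc, lft_ε, Category.id_comp]
      apply Pi.hom_ext
      intro a
      rw [Category.assoc, Category.assoc, Pi.lift_π]
      exact D.σ_ε_succ n a

end ProdFunctor
end pow

section overcat
variable {E : Type u₁} [Category.{v} E] [HasPullbacks E] {X T : E} (π : X ⟶ T)
  [HasFiniteProducts (Over T)]

/-- base change along `π` followed by composition with `π` is the product with `π` in `Over T` -/
noncomputable def overProdFunctor : ProdFunctor (Over.mk π : Over T) where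
  G := Over.pullback π ⋙ Over.map π
  p Y := Over.homMk (pullback.snd Y.hom π) rfl
  ε := (Over.mapPullbackAdj π).counit
  hp f := by
    apply Over.OverMorphism.ext
    simp only [Functor.comp_obj, Functor.comp_map, Over.comp_left, Over.map_map_left,
      Over.pullback_map_left, Over.homMk_left]
    exact pullback.lift_snd _ _ _
  lim Y := BinaryFan.IsLimit.mk _
    (fun {Z} a b => Over.homMk (pullback.lift b.left a.left
      ((Over.w b).trans (Over.w a).symm)) (by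
      change pullback.lift b.left a.left _ ≫ pullback.snd Y.hom π ≫ π = Z.hom
      rw [pullback.lift_snd_assoc]
      exact Over.w a))
    (fun {Z} a b => by
      apply Over.OverMorphism.ext
      change pullback.lift b.left a.left _ ≫ pullback.snd Y.hom π = a.left
      exact pullback.lift_snd _ _ _)
    (fun {Z} a b => by
      apply Over.OverMorphism.ext
      change pullback.lift b.left a.left _ ≫ ((Over.mapPullbackAdj π).counit.app Y).left = b.left
      rw [Over.mapPullbackAdj_counit_app]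
      exact pullback.lift_fst _ _ _)
    (fun {Z} a b m h1 h2 => by
      apply Over.OverMorphism.ext
      apply pullback.hom_ext
      · have h := congrArg CommaMorphism.left h2
        rw [Over.mapPullbackAdj_counit_app] at h
        refine Eq.trans ?_ (pullback.lift_fst _ _ _).symm
        exact h
      · have h := congrArg CommaMorphism.left h1
        refine Eq.trans ?_ (pullback.lift_snd _ _ _).symm
        exact h)

end overcat

end Groth.Agent.Lib.T2H8.CechContract
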