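import Mathlib
import Groth.Agent.Lib.T2H8CechContract
import Groth.Agent.Lib.T2H8CechChase
import Groth.Agent.Lib.T2H8AdeqExtSheaf
import Groth.Agent.Lib.T2H8AdeqPushFinal
import Groth.Agent.Lib.T2H8AdeqFpqc
import Groth.Agent.Lib.T2H8AdeqSheafColim
import Groth.Agent.Lib.T2H8AdeqSheafP

/-!
# Exactness of the Cech complex of an adequate module for a faithfully flat map of affines
-/

set_option autoImplicit false
set_option linter.unusedSectionVars false
universe u
open CategoryTheory Limits Opposite AlgebraicGeometry TensorProduct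
open Adeq Groth.Agent.Helper13Adeq

attribute [-instance] Groth.Agent.Lib.T2H8.AdeqRestr.instAlgebraCarrierRC
  Groth.Agent.Lib.T2H8.AdeqRestr.instIsScalarTowerCarrierRC

namespace Groth.Agent.Lib.T2H8.AdeqCech
open Groth.Agent.Lib.T2H8.CechContract Groth.Agent.Lib.T2H8.CechChase
open Groth.Agent.Lib.Helper16.CechLow Groth.Agent.Lib.T2H8.AdeqSheaf

section generalities

/-- a sheaf of abelian groups is separated for a covering generated by one morphism -/
theorem injective_of_isSheaf {C : Type (u + 1)} [Category.{u} C] (J : GrothendieckTopology C)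
    (F : Cᵒᵖ ⥤ AddCommGrpCat.{u + 1}) (hF : Presheaf.IsSheaf J F) {Y Z : C} (m : Z ⟶ Y)
    (hm : Sieve.generate (Presieve.singleton m) ∈ J Y) : Function.Injective (F.map m.op) := by
  have h1 := (Presheaf.isSheaf_iff_isSheaf_forget J F (forget AddCommGrpCat.{u + 1})).1 hF
  have h2 := (isSheaf_iff_isSheaf_of_type _ _).1 h1
  have h3 := (h2 _ hm).isSeparatedFor
  intro x y hxy
  apply h3.ext
  rintro V f ⟨W, g, m', ⟨⟩, rfl⟩
  change F.map (g ≫ m).op x = F.map (g ≫ m).op y
  rw [op_comp, F.map_comp]
  change F.map g.op (F.map m.op x) = F.map g.op (F.map m.op y)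
  rw [hxy]

end generalities

section sections
variable (K : Precoverage Scheme.{u}) [BigSite.OSh K] {S : Scheme.{u}}

/-- sections of a short exact sequence over any object: injectivity and exactness -/
theorem sect_inj_exact (C : ShortComplex (BigSite.Mod K S)) (hC : C.ShortExact) (U : Over S) :
    Function.Injective (C.f.val.app (op U)) ∧
      Function.Exact (C.f.val.app (op U)) (C.g.val.app (op U)) := by
  have hmono : Mono C.f := hC.mono_f
  constructor
  · have : Mono ((SheafOfModules.evaluation (BigSite.ORing K S) (op U)).map C.f) := inferInstance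
    have h := (ModuleCat.mono_iff_injective _).1 this
    intro x y hxy
    exact h hxy
  · have : (SheafOfModules.evaluation (BigSite.ORing K S) (op U)).PreservesZeroMorphisms := by
      unfold SheafOfModules.evaluation
      infer_instance
    have h2 := hC.exact.map_of_mono_of_preservesKernel
      (SheafOfModules.evaluation (BigSite.ORing K S) (op U)) hmono inferInstance
    have h3 := (ShortComplex.moduleCat_exact_iff _).1 h2
    intro y
    constructor
    · intro hy
      obtain ⟨x, hx⟩ := h3 y hy
      exact ⟨x, hx⟩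
    · rintro ⟨x, rfl⟩
      exact (C.map (SheafOfModules.evaluation (BigSite.ORing K S) (op U))).moduleCat_zero_apply x

end sections


section affine
variable (P : MorphismProperty Scheme.{u}) [P.IsStableUnderBaseChange]
    [P.IsStableUnderComposition] [Scheme.IsJointlySurjectivePreserving P]
    [BigSite.OSh (Scheme.precoverage P)] {S : Scheme.{u}}

/-- an epimorphism with adequate kernel (and adequate target) is surjective on sections over
every object with affine underlying scheme -/
theorem sect_surj_of_affine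
    (hopen : ∀ {X Y : Scheme.{u}} (f : X ⟶ Y), P f → IsOpenMap f)
    (himm : ∀ {X Y : Scheme.{u}} (f : X ⟶ Y), IsOpenImmersion f → P f)
    (hflat : ∀ {X Y : Scheme.{u}} (f : X ⟶ Y), P f → Flat f)
    (C : ShortComplex (BigSite.Mod (Scheme.precoverage P) S)) (hC : C.ShortExact)
    (h₁ : adequateMod (Scheme.precoverage P) S C.X₁)
    (h₃ : adequateMod (Scheme.precoverage P) S C.X₃)
    (U : Over S) [IsAffine U.left] :
    Function.Surjective (C.g.val.app (op U)) := by
  intro x
  let Γ : CommRingCat.{u} := Γ(U.left, ⊤)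
  let e : U.left ≅ Spec Γ := U.left.isoSpec
  let a' : Spec Γ ⟶ S := e.inv ≫ U.hom
  let W : Over S := ob a' (algOf Γ Γ)
  have hW : W.hom = a' := by
    change Spec.map (CommRingCat.ofHom (algebraMap Γ Γ)) ≫ a' = a'
    rw [Algebra.algebraMap_self, CommRingCat.ofHom_id, Spec.map_id, Category.id_comp]
  let i : U ⟶ W := Over.homMk e.hom (by
    change e.hom ≫ W.hom = U.hom
    rw [hW, Iso.hom_inv_id_assoc])
  let j : W ⟶ U := Over.homMk e.inv (by
    change e.inv ≫ U.hom = W.hom
    rw [hW])
  have hij : i ≫ j = 𝟙 U := by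
    apply Over.OverMorphism.ext
    change e.hom ≫ e.inv = 𝟙 _
    rw [Iso.hom_inv_id]
  let x' : C.X₃.val.obj (op W) := C.X₃.val.map j.op x
  obtain ⟨y', hy'⟩ := surj_base P hopen himm hflat C hC h₁ h₃ Γ a' x'
  let y₀ : C.X₂.val.obj (op W) := y'
  have hy₀ : C.g.val.app (op W) y₀ = x' := hy'
  refine ⟨C.X₂.val.map i.op y₀, ?_⟩
  have hnat := PresheafOfModules.naturality_apply C.g.val i.op y₀
  refine hnat.trans ?_
  rw [hy₀]
  change C.X₃.val.map i.op (C.X₃.val.map j.op x) = x
  rw [psh_map_comp, ← op_comp, hij, op_id, psh_map_id]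

end affine


section setup
variable (P : MorphismProperty Scheme.{u}) [P.IsStableUnderBaseChange]
    [P.IsStableUnderComposition] [Scheme.IsJointlySurjectivePreserving P]
    [IsZariskiLocalAtSource P] [P.ContainsIdentities]
    [BigSite.OSh (Scheme.precoverage P)]
variable {T X : Scheme.{u}} (π : X ⟶ T)

/-- the presheaf of abelian groups of a module -/
noncomputable abbrev PN (N : BigSite.Mod (Scheme.precoverage P) T) :
    (Over T)ᵒᵖ ⥤ AddCommGrpCat.{u + 1} :=
  ((BigSite.toAbMod (Scheme.precoverage P) T).obj N).obj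

/-- `π_* π^* N` -/
noncomputable abbrev N' (N : BigSite.Mod (Scheme.precoverage P) T) :
    BigSite.Mod (Scheme.precoverage P) T :=
  (BigSite.pushMod (Scheme.precoverage P) π).obj ((BigSite.pullMod (Scheme.precoverage P) π).obj N)

/-- the unit `N ⟶ π_* π^* N` -/
noncomputable abbrev η (N : BigSite.Mod (Scheme.precoverage P) T) : N ⟶ N' P π N :=
  (BigSite.modAdj (Scheme.precoverage P) π).unit.app N

/-- the cokernel of the unit -/
noncomputable abbrev Qc (N : BigSite.Mod (Scheme.precoverage P) T) :
    BigSite.Mod (Scheme.precoverage P) T := cokernel (η P π N)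

noncomputable abbrev qc (N : BigSite.Mod (Scheme.precoverage P) T) : N' P π N ⟶ Qc P π N :=
  cokernel.π (η P π N)

theorem PN_N' (N : BigSite.Mod (Scheme.precoverage P) T) :
    PN P (N' P π N) = (overProdFunctor π).G.op ⋙ PN P N := rfl

theorem η_app (N : BigSite.Mod (Scheme.precoverage P) T) (Y : Over T) (x : N.val.obj (op Y)) :
    (η P π N).val.app (op Y) x = N.val.map ((overProdFunctor π).ε.app Y).op x := rfl

variable (hopen : ∀ {X Y : Scheme.{u}} (f : X ⟶ Y), P f → IsOpenMap f)
    (himm : ∀ {X Y : Scheme.{u}} (f : X ⟶ Y), IsOpenImmersion f → P f)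
    (hflat : ∀ {X Y : Scheme.{u}} (f : X ⟶ Y), P f → Flat f)

include hopen himm in
theorem adequate_pull {S' : Scheme.{u}} (f : T ⟶ S') (M : BigSite.Mod (Scheme.precoverage P) S')
    (hM : adequateMod (Scheme.precoverage P) S' M) :
    adequateMod (Scheme.precoverage P) T ((BigSite.pullMod (Scheme.precoverage P) f).obj M) :=
  adequateMod_of_charts P himm T _
    (fun R b => (adequate_pull_iff _ f M b).2 (adequate_chart P hopen himm S' M hM R (b ≫ f)))

include hopen himm in
theorem adequate_N' [QuasiCompact π] [QuasiSeparated π]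
    (N : BigSite.Mod (Scheme.precoverage P) T) (hN : adequateMod (Scheme.precoverage P) T N) :
    adequateMod (Scheme.precoverage P) T (N' P π N) :=
  adequateMod_pushMod P hopen himm π _ (adequate_pull P hopen himm π N hN)

include hopen himm hflat in
theorem adequate_Qc [QuasiCompact π] [QuasiSeparated π]
    (N : BigSite.Mod (Scheme.precoverage P) T) (hN : adequateMod (Scheme.precoverage P) T N) :
    adequateMod (Scheme.precoverage P) T (Qc P π N) :=
  adequateMod_cokernel P hopen himm hflat (η P π N)
    (fun R a => adequate_chart P hopen himm T N hN R a)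
    (fun R a => adequate_chart P hopen himm T _ (adequate_N' P π hopen himm N hN) R a)


include hopen himm in
/-- an adequate module is separated for one flat, surjective, quasi-compact morphism -/
theorem adequate_injective (N : BigSite.Mod (Scheme.precoverage P) T)
    (hN : adequateMod (Scheme.precoverage P) T N) {Y Z : Over T} (m : Z ⟶ Y)
    [Flat m.left] [Surjective m.left] [QuasiCompact m.left] :
    Function.Injective (N.val.map m.op) := by
  have hsh := isSheaf_fpqc_of_adequateMod P hopen himm T N hN
  have hcov : Sieve.generate (Presieve.singleton m) ∈ (QuotSh.J Scheme.fpqcPrecoverage T) Y := by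
    have h1 : Presieve.ofArrows (fun _ : Unit => Z.left) (fun _ => m.left) ∈
        Scheme.fpqcPrecoverage Y.left := by
      rw [Presieve.ofArrows_pUnit]
      exact Scheme.Hom.singleton_mem_propQCPrecoverage (P := @Flat) inferInstance
    have h2 := over_cover_mem Scheme.fpqcPrecoverage (fun _ : Unit => Z) (fun _ => m) h1
    rwa [Presieve.ofArrows_pUnit] at h2
  exact injective_of_isSheaf _ _ hsh m hcov

include hopen himm in
theorem η_injective [Flat π] [Surjective π] [QuasiCompact π]
    (N : BigSite.Mod (Scheme.precoverage P) T) (hN : adequateMod (Scheme.precoverage P) T N)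
    (Y : Over T) : Function.Injective ((η P π N).val.app (op Y)) := by
  have h1 : Flat ((overProdFunctor π).ε.app Y).left := by
    change Flat ((Over.mapPullbackAdj π).counit.app Y).left
    rw [Over.mapPullbackAdj_counit_app]
    exact inferInstanceAs (Flat (pullback.fst Y.hom π))
  have h2 : Surjective ((overProdFunctor π).ε.app Y).left := by
    change Surjective ((Over.mapPullbackAdj π).counit.app Y).left
    rw [Over.mapPullbackAdj_counit_app]
    exact inferInstanceAs (Surjective (pullback.fst Y.hom π))
  have h3 : QuasiCompact ((overProdFunctor π).ε.app Y).left := by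
    change QuasiCompact ((Over.mapPullbackAdj π).counit.app Y).left
    rw [Over.mapPullbackAdj_counit_app]
    exact inferInstanceAs (QuasiCompact (pullback.fst Y.hom π))
  exact adequate_injective P hopen himm N hN ((overProdFunctor π).ε.app Y)

include hopen himm in
theorem η_mono [Flat π] [Surjective π] [QuasiCompact π]
    (N : BigSite.Mod (Scheme.precoverage P) T) (hN : adequateMod (Scheme.precoverage P) T N) :
    Mono (η P π N) := by
  have h1 : Mono (η P π N).val :=
    PresheafOfModules.mono_of_injective (fun Y => η_injective P π hopen himm N hN Y.unop)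
  exact (SheafOfModules.forget _).mono_of_mono_map h1

/-- the short exact sequence `0 → N → π_* π^* N → Q → 0` -/
noncomputable abbrev Sc (N : BigSite.Mod (Scheme.precoverage P) T) :
    ShortComplex (BigSite.Mod (Scheme.precoverage P) T) :=
  ShortComplex.mk (η P π N) (qc P π N) (cokernel.condition _)

include hopen himm in
theorem Sc_shortExact [Flat π] [Surjective π] [QuasiCompact π]
    (N : BigSite.Mod (Scheme.precoverage P) T) (hN : adequateMod (Scheme.precoverage P) T N) :
    (Sc P π N).ShortExact :=
  { exact := (Sc P π N).exact_of_g_is_cokernel (cokernelIsCokernel _)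
    mono_f := η_mono P π hopen himm N hN
    epi_g := inferInstanceAs (Epi (cokernel.π (η P π N))) }


/-- the presheaf maps -/
noncomputable abbrev fη (N : BigSite.Mod (Scheme.precoverage P) T) : PN P N ⟶ PN P (N' P π N) :=
  ((BigSite.toAbMod (Scheme.precoverage P) T).map (η P π N)).hom

noncomputable abbrev fq (N : BigSite.Mod (Scheme.precoverage P) T) :
    PN P (N' P π N) ⟶ PN P (Qc P π N) :=
  ((BigSite.toAbMod (Scheme.precoverage P) T).map (qc P π N)).hom

theorem fη_app (N : BigSite.Mod (Scheme.precoverage P) T) (Y : Over T) (x : N.val.obj (op Y)) :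
    (fη P π N).app (op Y) x = (η P π N).val.app (op Y) x := rfl

theorem fq_app (N : BigSite.Mod (Scheme.precoverage P) T) (Y : Over T)
    (x : (N' P π N).val.obj (op Y)) :
    (fq P π N).app (op Y) x = (qc P π N).val.app (op Y) x := rfl

theorem PN_map (N : BigSite.Mod (Scheme.precoverage P) T) {Y Z : Over T} (m : Z ⟶ Y)
    (x : N.val.obj (op Y)) : (PN P N).map m.op x = N.val.map m.op x := rfl

/-- the family -/
abbrev UU : PUnit.{u + 2} → Over T := U₀.{u + 1} (Over.mk π)

/-- the map to the final object -/
noncomputable abbrev ttn (n : ℕ) : Xp (Over.mk π : Over T) n ⟶ Over.mk (𝟙 T) :=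
  Over.homMk (Xp (Over.mk π : Over T) n).hom (Category.comp_id _)

theorem fc_ttn (n : ℕ) (i : Fin (n + 2)) :
    fc (Over.mk π : Over T) i ≫ ttn π n = ttn π (n + 1) := by
  apply Over.OverMorphism.ext
  exact Over.w (fc (Over.mk π : Over T) i)

theorem isAffine_Xp [IsAffine T] [IsAffine X] (n : ℕ) :
    IsAffine (Xp (Over.mk π : Over T) n).left := by
  induction n with
  | zero =>
    let e : Xp (Over.mk π : Over T) 0 ≅ Over.mk π :=
      productUniqueIso (fun _ : Fin 1 => (Over.mk π : Over T))
    have : IsAffine (Over.mk π : Over T).left := inferInstanceAs (IsAffine X)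
    exact IsAffine.of_isIso (h := this) ((Over.forget T).mapIso e).hom
  | succ n ih =>
    let e := (overProdFunctor π).powIso n
    have : IsAffine ((overProdFunctor π).G.obj (Xp (Over.mk π : Over T) n)).left :=
      inferInstanceAs (IsAffine (pullback (Xp (Over.mk π : Over T) n).hom π))
    exact IsAffine.of_isIso (h := this) ((Over.forget T).mapIso e).hom

theorem ttn_zero_props [Flat π] [Surjective π] [QuasiCompact π] :
    Flat (ttn π 0).left ∧ Surjective (ttn π 0).left ∧ QuasiCompact (ttn π 0).left := by
  let e : Xp (Over.mk π : Over T) 0 ≅ Over.mk π :=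
    productUniqueIso (fun _ : Fin 1 => (Over.mk π : Over T))
  have h : (ttn π 0).left = e.hom.left ≫ π := (Over.w e.hom).symm
  have : IsIso e.hom.left := inferInstanceAs (IsIso ((Over.forget T).map e.hom))
  rw [h]
  exact ⟨inferInstance, inferInstance, inferInstance⟩


include hopen himm hflat in
/-- `0`-cocycles of the Cech complex of an adequate module come from global sections -/
theorem Z0 [IsAffine T] [IsAffine X] [Flat π] [Surjective π] [QuasiCompact π] [QuasiSeparated π]
    (N : BigSite.Mod (Scheme.precoverage P) T) (hN : adequateMod (Scheme.precoverage P) T N)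
    (c : (CK (UU π) (PN P N)).X 0) (hc : (CK (UU π) (PN P N)).d 0 1 c = 0) :
    ∃ s : N.val.obj (op (Over.mk (𝟙 T))),
      pr (UU π) (PN P N) 0 (xc.{u + 1} 0) c = N.val.map (ttn π 0).op s := by
  have hSc := Sc_shortExact P π hopen himm N hN
  have hQ := adequate_Qc P π hopen himm hflat N hN
  let φ := (cechComplexFunctor (UU π)).map (fη P π N)
  let c₀ : N.val.obj (op (Xp (Over.mk π : Over T) 0)) := pr (UU π) (PN P N) 0 (xc.{u + 1} 0) c
  let c₂ : (CK (UU π) (PN P (N' P π N))).X 0 := φ.f 0 c
  have hc₂ : (CK (UU π) (PN P (N' P π N))).d 0 1 c₂ = 0 := by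
    have h1 := comm_apply φ 0 c
    have h2 : φ.f 1 ((CK (UU π) (PN P N)).d 0 1 c) = 0 := by rw [hc, map_zero]
    exact h1.symm.trans h2
  have hcmp : pr (UU π) (PN P (N' P π N)) 0 (xc.{u + 1} 0) c₂ =
      (η P π N).val.app (op (Xp (Over.mk π : Over T) 0)) c₀ :=
    cxMap_pr_apply (UU π) (fη P π N) 0 (xc.{u + 1} 0) c
  obtain ⟨s', h3⟩ := contract_zero' (overProdFunctor π) (PN P N) (PN P (N' P π N)) (PN_N' P π N)
    (Over.mk (𝟙 T)) (ttn π 0) c₂ hc₂
  rw [hcmp] at h3
  have h4 : (η P π N).val.app (op (Xp (Over.mk π : Over T) 0)) c₀ =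
      (N' P π N).val.map (ttn π 0).op s' := h3
  -- the image of `s'` in `Q` vanishes
  have h5 : (Qc P π N).val.map (ttn π 0).op ((qc P π N).val.app (op (Over.mk (𝟙 T))) s') = 0 := by
    have hnat := PresheafOfModules.naturality_apply (qc P π N).val (ttn π 0).op s'
    refine hnat.symm.trans ?_
    rw [← h4]
    exact ((sect_inj_exact _ (Sc P π N) hSc (Xp (Over.mk π : Over T) 0)).2 _).2 ⟨c₀, rfl⟩
  obtain ⟨i1, i2, i3⟩ := ttn_zero_props π
  have h6 : (qc P π N).val.app (op (Over.mk (𝟙 T))) s' = 0 :=
    adequate_injective P hopen himm (Qc P π N) hQ (ttn π 0) (h5.trans (map_zero _).symm)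
  obtain ⟨s, hs⟩ := ((sect_inj_exact _ (Sc P π N) hSc (Over.mk (𝟙 T))).2 s').1 h6
  refine ⟨s, ?_⟩
  apply η_injective P π hopen himm N hN (Xp (Over.mk π : Over T) 0)
  have hnat := PresheafOfModules.naturality_apply (η P π N).val (ttn π 0).op s
  have hs' : (η P π N).val.app (op (Over.mk (𝟙 T))) s = s' := hs
  rw [hs'] at hnat
  exact h4.trans hnat.symm


section pieces
variable [IsAffine T] [IsAffine X] [Flat π] [Surjective π] [QuasiCompact π] [QuasiSeparated π]
variable (N : BigSite.Mod (Scheme.precoverage P) T) (hN : adequateMod (Scheme.precoverage P) T N)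

include hopen himm hN in
theorem cxη_inj (n : ℕ) :
    Function.Injective (((cechComplexFunctor (UU π)).map (fη P π N)).f n) :=
  cx_inj (UU π) (fη P π N) (fun n x => η_injective P π hopen himm N hN (Ux (UU π) x)) n

include hopen himm hN in
theorem cx_ηq_exact (n : ℕ) (y : (CK (UU π) (PN P (N' P π N))).X n)
    (hy : ((cechComplexFunctor (UU π)).map (fq P π N)).f n y = 0) :
    ∃ z : (CK (UU π) (PN P N)).X n, ((cechComplexFunctor (UU π)).map (fη P π N)).f n z = y :=
  cx_exact (UU π) (fη P π N) (fq P π N) (fun n x y hy =>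
    ((sect_inj_exact _ (Sc P π N) (Sc_shortExact P π hopen himm N hN) (Ux (UU π) x)).2 y).1 hy)
    n y hy

include hopen himm hN in
theorem cx_ηq_zero (n : ℕ) (z : (CK (UU π) (PN P N)).X n) :
    ((cechComplexFunctor (UU π)).map (fq P π N)).f n
      (((cechComplexFunctor (UU π)).map (fη P π N)).f n z) = 0 :=
  cx_zero (UU π) (fη P π N) (fq P π N) (fun n x z =>
    ((sect_inj_exact _ (Sc P π N) (Sc_shortExact P π hopen himm N hN) (Ux (UU π) x)).2 _).2
      ⟨z, rfl⟩) n z

include hopen himm hflat hN in
theorem cxq_surj (n : ℕ) :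
    Function.Surjective (((cechComplexFunctor (UU π)).map (fq P π N)).f n) :=
  cx_surj (UU π) (fq P π N) (fun m x => by
    have : IsAffine (Ux (UU π) x).left := isAffine_Xp π m
    exact sect_surj_of_affine P hopen himm hflat (Sc P π N) (Sc_shortExact P π hopen himm N hN) hN
      (adequate_Qc P π hopen himm hflat N hN) (Ux (UU π) x)) n

theorem cx_N'_exact (n : ℕ) : (CK (UU π) (PN P (N' P π N))).ExactAt (n + 1) :=
  contract_exact' (overProdFunctor π) (PN P N) (PN P (N' P π N)) (PN_N' P π N) n

include hopen himm hflat hN in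
theorem lift_zero_cocycle (b₃ : (CK (UU π) (PN P (Qc P π N))).X 0)
    (hb₃ : (CK (UU π) (PN P (Qc P π N))).d 0 1 b₃ = 0) :
    ∃ e₂ : (CK (UU π) (PN P (N' P π N))).X 0,
      (CK (UU π) (PN P (N' P π N))).d 0 1 e₂ = 0 ∧
        ((cechComplexFunctor (UU π)).map (fq P π N)).f 0 e₂ = b₃ := by
  have hSc := Sc_shortExact P π hopen himm N hN
  have hQ := adequate_Qc P π hopen himm hflat N hN
  have hTaff : IsAffine (Over.mk (𝟙 T) : Over T).left := inferInstanceAs (IsAffine T)
  obtain ⟨s₃, hs₃⟩ := Z0 P π hopen himm hflat (Qc P π N) hQ b₃ hb₃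
  obtain ⟨s₂, hs₂⟩ := sect_surj_of_affine P hopen himm hflat (Sc P π N) hSc hN hQ
    (Over.mk (𝟙 T)) s₃
  let s₂' : (PN P (N' P π N)).obj (op (Over.mk (𝟙 T))) := s₂
  let y₂ : (PN P (N' P π N)).obj (op (Xp (Over.mk π : Over T) 0)) :=
    (PN P (N' P π N)).map (ttn π 0).op s₂'
  refine ⟨mkElt (UU π) (PN P (N' P π N)) 0 (fun _ => y₂), ?_, ?_⟩
  · apply elt_ext
    intro x
    obtain rfl : x = xc.{u + 1} 1 := Subsingleton.elim _ _
    rw [d_pr_apply, map_zero, Fin.sum_univ_two]
    simp only [pr_mkElt]
    have e0 : (PN P (N' P π N)).map (face (UU π) (xc.{u + 1} 1) 0).op y₂ =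
        (PN P (N' P π N)).map (ttn π 1).op s₂' := by
      have h := Pmap_comp (PN P (N' P π N)) (fc (Over.mk π : Over T) 0) (ttn π 0) s₂'
      rw [fc_ttn] at h
      exact h
    have e1 : (PN P (N' P π N)).map (face (UU π) (xc.{u + 1} 1) 1).op y₂ =
        (PN P (N' P π N)).map (ttn π 1).op s₂' := by
      have h := Pmap_comp (PN P (N' P π N)) (fc (Over.mk π : Over T) 1) (ttn π 0) s₂'
      rw [fc_ttn] at h
      exact h
    rw [e0, e1]
    simp
  · apply elt_ext
    intro x
    obtain rfl : x = xc.{u + 1} 0 := Subsingleton.elim _ _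
    rw [cxMap_pr_apply, pr_mkElt, hs₃]
    have hnat := PresheafOfModules.naturality_apply (qc P π N).val (ttn π 0).op s₂
    have hs₂' : (qc P π N).val.app (op (Over.mk (𝟙 T))) s₂ = s₃ := hs₂
    rw [hs₂'] at hnat
    exact hnat

end pieces

include hopen himm hflat in
/-- the Cech complex of an adequate module for a flat, surjective, quasi-compact map of affine
schemes is exact in positive degrees -/
theorem cech_exact [IsAffine T] [IsAffine X] [Flat π] [Surjective π] [QuasiCompact π]
    [QuasiSeparated π] (n : ℕ) :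
    ∀ (N : BigSite.Mod (Scheme.precoverage P) T), adequateMod (Scheme.precoverage P) T N →
      (CK (UU π) (PN P N)).ExactAt (n + 1) := by
  induction n with
  | zero =>
    intro N hN
    refine chase_core ((cechComplexFunctor (UU π)).map (fη P π N))
      ((cechComplexFunctor (UU π)).map (fq P π N))
      (cxη_inj P π hopen himm N hN) (cx_ηq_exact P π hopen himm N hN)
      0 (cx_N'_exact P π N 0) ?_ (cx_ηq_zero P π hopen himm N hN)
    intro b₃ hb₃ _
    exact lift_zero_cocycle P π hopen himm hflat N hN b₃ hb₃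
  | succ n ih =>
    intro N hN
    exact chase_succ ((cechComplexFunctor (UU π)).map (fη P π N))
      ((cechComplexFunctor (UU π)).map (fq P π N))
      (cxη_inj P π hopen himm N hN) (cx_ηq_exact P π hopen himm N hN)
      (cxq_surj P π hopen himm hflat N hN) (cx_ηq_zero P π hopen himm N hN)
      n (cx_N'_exact P π N (n + 1))
      (ih (Qc P π N) (adequate_Qc P π hopen himm hflat N hN))


theorem PN_pull {S : Scheme.{u}} (a : T ⟶ S) (M : BigSite.Mod (Scheme.precoverage P) S) :
    PN P ((BigSite.pullMod (Scheme.precoverage P) a).obj M) =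
      (Over.map a).op ⋙ ((BigSite.toAbMod (Scheme.precoverage P) S).obj M).obj := rfl

end setup


section final
variable (P : MorphismProperty Scheme.{u}) [P.IsStableUnderBaseChange]
    [P.IsStableUnderComposition] [Scheme.IsJointlySurjectivePreserving P]
    [IsZariskiLocalAtSource P] [P.ContainsIdentities]
    [BigSite.OSh (Scheme.precoverage P)]

/-- Cech exactness for an adequate module on `S`, an affine object `Spec R → S` and a faithfully
flat `R`-algebra `B`. -/
theorem cech_exact_pull
    (hopen : ∀ {X Y : Scheme.{u}} (f : X ⟶ Y), P f → IsOpenMap f)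
    (himm : ∀ {X Y : Scheme.{u}} (f : X ⟶ Y), IsOpenImmersion f → P f)
    (hflat : ∀ {X Y : Scheme.{u}} (f : X ⟶ Y), P f → Flat f)
    (S : Scheme.{u}) (M : BigSite.Mod (Scheme.precoverage P) S)
    (hM : adequateMod (Scheme.precoverage P) S M) (R : CommRingCat.{u}) (a : Spec R ⟶ S)
    (B : Type u) [CommRing B] [Algebra R B] [Module.FaithfullyFlat R B] (n : ℕ) (hn : 0 < n) :
    ((cechComplexFunctor (A := AddCommGrpCat.{u + 1})
        (fun _ : PUnit.{u + 2} =>
          (Over.mk (Spec.map (CommRingCat.ofHom (algebraMap R B))) : Over (Spec R)))).obj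
      ((Over.map a).op ⋙ ((BigSite.toAbMod (Scheme.precoverage P) S).obj M).obj)).ExactAt n := by
  obtain ⟨m, rfl⟩ : ∃ m, n = m + 1 := ⟨n - 1, by omega⟩
  have hff : (CommRingCat.ofHom (algebraMap R B)).hom.FaithfullyFlat :=
    RingHom.faithfullyFlat_algebraMap_iff.2 inferInstance
  obtain ⟨h1, h2⟩ := (flat_and_surjective_SpecMap_iff (CommRingCat.ofHom (algebraMap R B))).2 hff
  have hadq := adequate_pull P hopen himm a M hM
  rw [← PN_pull P a M]
  exact cech_exact P (Spec.map (CommRingCat.ofHom (algebraMap R B))) hopen himm hflat m _ hadq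

end final

end Groth.Agent.Lib.T2H8.AdeqCech
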