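import Mathlib
import Groth.Agent.Lib.T2H8CechEv

/-!
# Cech complexes and product preserving functors

For a functor `Ψ : D' ⥤ D` preserving finite products, a family `U' : ι → D'` and a presheaf `P`
on `D`, the Cech complex of `Ψ.op ⋙ P` for `U'` is exact in a positive degree iff the Cech
complex of `P` for the family `Ψ ∘ U'` is.
-/

set_option autoImplicit false
set_option linter.unusedSectionVars false
universe w v₁ v₂ u₁ u₂
open CategoryTheory CategoryTheory.Limits Opposite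

namespace Groth.Agent.Lib.T2H8.CechTransport
open Groth.Agent.Lib.Helper16.CechLow Groth.Agent.Lib.T2H8.CechChase

section abstract
variable {K K' : CochainComplex AddCommGrpCat.{w} ℕ} (Θ : ∀ n, K.X n ⟶ K'.X n)

theorem exactAt_of_bij
    (hΘd : ∀ n (c : K.X n), Θ (n + 1) (K.d n (n + 1) c) = K'.d n (n + 1) (Θ n c))
    (hbij : ∀ n, Function.Bijective (Θ n)) (n : ℕ) (h : K'.ExactAt (n + 1)) :
    K.ExactAt (n + 1) := by
  rw [exactAt_succ_iff] at h ⊢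
  intro c hc
  have hc' : K'.d (n + 1) (n + 2) (Θ (n + 1) c) = 0 := by
    rw [← hΘd, hc, map_zero]
  obtain ⟨b', hb'⟩ := h _ hc'
  obtain ⟨b, rfl⟩ := (hbij n).2 b'
  refine ⟨b, (hbij (n + 1)).1 ?_⟩
  rw [hΘd, hb']

theorem exactAt_of_bij'
    (hΘd : ∀ n (c : K.X n), Θ (n + 1) (K.d n (n + 1) c) = K'.d n (n + 1) (Θ n c))
    (hbij : ∀ n, Function.Bijective (Θ n)) (n : ℕ) (h : K.ExactAt (n + 1)) :
    K'.ExactAt (n + 1) := by
  rw [exactAt_succ_iff] at h ⊢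
  intro c' hc'
  obtain ⟨c, rfl⟩ := (hbij (n + 1)).2 c'
  have hc : K.d (n + 1) (n + 2) c = 0 := by
    apply (hbij (n + 2)).1
    rw [hΘd, hc', map_zero]
  obtain ⟨b, hb⟩ := h c hc
  exact ⟨Θ n b, by rw [← hΘd, hb]⟩

end abstract

variable {D' : Type u₂} [Category.{v₂} D'] [HasFiniteProducts D']
  {D : Type u₁} [Category.{v₁} D] [HasFiniteProducts D]
  (Ψ : D' ⥤ D) [PreservesFiniteProducts Ψ] {ι : Type w} (U' : ι → D')
  (P : Dᵒᵖ ⥤ AddCommGrpCat.{w})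

/-- the image family -/
abbrev ΨU : ι → D := fun i => Ψ.obj (U' i)

/-- the comparison map -/
noncomputable def κ {n : ℕ} (x : Fin (n + 1) → ι) : Ψ.obj (Ux U' x) ⟶ Ux (ΨU Ψ U') x :=
  Pi.lift (fun a => Ψ.map (Pi.π (U' ∘ x) a))

theorem κ_π {n : ℕ} (x : Fin (n + 1) → ι) (a : Fin (n + 1)) :
    κ Ψ U' x ≫ Pi.π (ΨU Ψ U' ∘ x) a = Ψ.map (Pi.π (U' ∘ x) a) :=
  Pi.lift_π _ _

instance isIso_κ {n : ℕ} (x : Fin (n + 1) → ι) : IsIso (κ Ψ U' x) := by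
  have h : κ Ψ U' x = piComparison Ψ (U' ∘ x) := rfl
  rw [h]
  infer_instance

theorem κ_face {n : ℕ} (x : Fin (n + 2) → ι) (j : Fin (n + 2)) :
    κ Ψ U' x ≫ face (ΨU Ψ U') x j = Ψ.map (face U' x j) ≫ κ Ψ U' (x ∘ Fin.succAbove j) := by
  refine Pi.hom_ext _ _ (fun a => ?_)
  refine (Category.assoc _ _ _).trans ?_
  refine (congrArg (fun t => κ Ψ U' x ≫ t)
    (Pi.lift_π (fun a => Pi.π (ΨU Ψ U' ∘ x) (Fin.succAbove j a)) a)).trans ?_
  refine (κ_π Ψ U' x (Fin.succAbove j a)).trans ?_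
  refine Eq.trans ?_ (Category.assoc _ _ _).symm
  refine Eq.trans ?_ (congrArg (fun t => Ψ.map (face U' x j) ≫ t)
    (κ_π Ψ U' (x ∘ Fin.succAbove j) a)).symm
  rw [← Ψ.map_comp]
  congr 1
  exact (Pi.lift_π (fun a => Pi.π (U' ∘ x) (Fin.succAbove j a)) a).symm

/-- the comparison of Cech cochains -/
noncomputable def Θ (n : ℕ) : (CK (ΨU Ψ U') P).X n ⟶ (CK U' (Ψ.op ⋙ P)).X n :=
  Pi.lift (fun x : Fin (n + 1) → ι => pr (ΨU Ψ U') P n x ≫ P.map (κ Ψ U' x).op)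

theorem Θ_pr (n : ℕ) (x : Fin (n + 1) → ι) :
    Θ Ψ U' P n ≫ pr U' (Ψ.op ⋙ P) n x = pr (ΨU Ψ U') P n x ≫ P.map (κ Ψ U' x).op :=
  Pi.lift_π _ _

theorem Θ_pr_apply (n : ℕ) (x : Fin (n + 1) → ι) (c : (CK (ΨU Ψ U') P).X n) :
    pr U' (Ψ.op ⋙ P) n x (Θ Ψ U' P n c) = P.map (κ Ψ U' x).op (pr (ΨU Ψ U') P n x c) :=
  ConcreteCategory.congr_hom (Θ_pr Ψ U' P n x) c

theorem map_κ_bijective {n : ℕ} (x : Fin (n + 1) → ι) :
    Function.Bijective (P.map (κ Ψ U' x).op) := by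
  have : IsIso (P.map (κ Ψ U' x).op) := inferInstance
  exact (ConcreteCategory.isIso_iff_bijective _).1 this

theorem Θ_bijective (n : ℕ) : Function.Bijective (Θ Ψ U' P n) := by
  constructor
  · intro c c' h
    apply elt_ext
    intro x
    apply (map_κ_bijective Ψ U' P x).1
    rw [← Θ_pr_apply, ← Θ_pr_apply, h]
  · intro c'
    have h1 : ∀ x : Fin (n + 1) → ι, ∃ y : P.obj (op (Ux (ΨU Ψ U') x)),
        P.map (κ Ψ U' x).op y = pr U' (Ψ.op ⋙ P) n x c' :=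
      fun x => (map_κ_bijective Ψ U' P x).2 _
    choose y hy using h1
    refine ⟨mkElt (ΨU Ψ U') P n y, ?_⟩
    apply elt_ext
    intro x
    rw [Θ_pr_apply, pr_mkElt, hy]

theorem pmap_comp' {W W' W'' : D} (m : W' ⟶ W) (m' : W'' ⟶ W')
    (y : P.obj (op W)) : P.map m'.op (P.map m.op y) = P.map (m' ≫ m).op y := by
  rw [op_comp, P.map_comp]
  rfl

theorem Θ_d (n : ℕ) (c : (CK (ΨU Ψ U') P).X n) :
    Θ Ψ U' P (n + 1) ((CK (ΨU Ψ U') P).d n (n + 1) c) =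
      (CK U' (Ψ.op ⋙ P)).d n (n + 1) (Θ Ψ U' P n c) := by
  apply elt_ext
  intro x
  rw [Θ_pr_apply, d_pr_apply, d_pr_apply, map_sum]
  refine Finset.sum_congr rfl (fun j _ => ?_)
  rw [map_zsmul, Θ_pr_apply]
  congr 1
  change P.map (κ Ψ U' x).op (P.map (face (ΨU Ψ U') x j).op _) =
    P.map (Ψ.map (face U' x j)).op (P.map (κ Ψ U' (x ∘ Fin.succAbove j)).op _)
  rw [pmap_comp', pmap_comp', κ_face]

theorem exactAt_image (n : ℕ) (h : (CK U' (Ψ.op ⋙ P)).ExactAt (n + 1)) :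
    (CK (ΨU Ψ U') P).ExactAt (n + 1) :=
  exactAt_of_bij (Θ Ψ U' P) (Θ_d Ψ U' P) (Θ_bijective Ψ U' P) n h

theorem exactAt_preimage (n : ℕ) (h : (CK (ΨU Ψ U') P).ExactAt (n + 1)) :
    (CK U' (Ψ.op ⋙ P)).ExactAt (n + 1) :=
  exactAt_of_bij' (Θ Ψ U' P) (Θ_d Ψ U' P) (Θ_bijective Ψ U' P) n h


/-! ### the same with an isomorphism of families -/

section iso
variable (W : ι → D) (ε : ∀ i, Ψ.obj (U' i) ≅ W i)

/-- the comparison map -/
noncomputable def κ' {n : ℕ} (x : Fin (n + 1) → ι) : Ψ.obj (Ux U' x) ⟶ Ux W x :=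
  Pi.lift (fun a => Ψ.map (Pi.π (U' ∘ x) a) ≫ (ε (x a)).hom)

theorem κ'_π {n : ℕ} (x : Fin (n + 1) → ι) (a : Fin (n + 1)) :
    κ' Ψ U' W ε x ≫ Pi.π (W ∘ x) a = Ψ.map (Pi.π (U' ∘ x) a) ≫ (ε (x a)).hom :=
  Pi.lift_π _ _

theorem κ'_eq {n : ℕ} (x : Fin (n + 1) → ι) :
    κ' Ψ U' W ε x = κ Ψ U' x ≫ Limits.Pi.map (fun a => (ε (x a)).hom) := by
  refine Pi.hom_ext _ _ (fun a => ?_)
  refine (κ'_π Ψ U' W ε x a).trans ?_
  refine Eq.trans ?_ (Category.assoc _ _ _).symm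
  refine Eq.trans ?_ (congrArg (fun t => κ Ψ U' x ≫ t)
    (Limits.Pi.map_π (fun a => (ε (x a)).hom) a)).symm
  refine Eq.trans ?_ (Category.assoc _ _ _)
  exact congrArg (fun t => t ≫ (ε (x a)).hom) (κ_π Ψ U' x a).symm

instance isIso_κ' {n : ℕ} (x : Fin (n + 1) → ι) : IsIso (κ' Ψ U' W ε x) := by
  rw [κ'_eq]
  infer_instance

theorem κ'_face {n : ℕ} (x : Fin (n + 2) → ι) (j : Fin (n + 2)) :
    κ' Ψ U' W ε x ≫ face W x j = Ψ.map (face U' x j) ≫ κ' Ψ U' W ε (x ∘ Fin.succAbove j) := by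
  refine Pi.hom_ext _ _ (fun a => ?_)
  refine (Category.assoc _ _ _).trans ?_
  refine (congrArg (fun t => κ' Ψ U' W ε x ≫ t)
    (Pi.lift_π (fun a => Pi.π (W ∘ x) (Fin.succAbove j a)) a)).trans ?_
  refine (κ'_π Ψ U' W ε x (Fin.succAbove j a)).trans ?_
  refine Eq.trans ?_ (Category.assoc _ _ _).symm
  refine Eq.trans ?_ (congrArg (fun t => Ψ.map (face U' x j) ≫ t)
    (κ'_π Ψ U' W ε (x ∘ Fin.succAbove j) a)).symm
  refine Eq.trans ?_ (Category.assoc _ _ _)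
  refine congrArg (fun t => t ≫ (ε (x (Fin.succAbove j a))).hom) ?_
  rw [← Ψ.map_comp]
  congr 1
  exact (Pi.lift_π (fun a => Pi.π (U' ∘ x) (Fin.succAbove j a)) a).symm

/-- the comparison of Cech cochains -/
noncomputable def Θ' (n : ℕ) : (CK W P).X n ⟶ (CK U' (Ψ.op ⋙ P)).X n :=
  Pi.lift (fun x : Fin (n + 1) → ι => pr W P n x ≫ P.map (κ' Ψ U' W ε x).op)

theorem Θ'_pr (n : ℕ) (x : Fin (n + 1) → ι) :
    Θ' Ψ U' P W ε n ≫ pr U' (Ψ.op ⋙ P) n x = pr W P n x ≫ P.map (κ' Ψ U' W ε x).op :=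
  Pi.lift_π _ _

theorem Θ'_pr_apply (n : ℕ) (x : Fin (n + 1) → ι) (c : (CK W P).X n) :
    pr U' (Ψ.op ⋙ P) n x (Θ' Ψ U' P W ε n c) = P.map (κ' Ψ U' W ε x).op (pr W P n x c) :=
  ConcreteCategory.congr_hom (Θ'_pr Ψ U' P W ε n x) c

theorem map_κ'_bijective {n : ℕ} (x : Fin (n + 1) → ι) :
    Function.Bijective (P.map (κ' Ψ U' W ε x).op) := by
  have : IsIso (P.map (κ' Ψ U' W ε x).op) := inferInstance
  exact (ConcreteCategory.isIso_iff_bijective _).1 this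

theorem Θ'_bijective (n : ℕ) : Function.Bijective (Θ' Ψ U' P W ε n) := by
  constructor
  · intro c c' h
    apply elt_ext
    intro x
    apply (map_κ'_bijective Ψ U' P W ε x).1
    rw [← Θ'_pr_apply, ← Θ'_pr_apply, h]
  · intro c'
    have h1 : ∀ x : Fin (n + 1) → ι, ∃ y : P.obj (op (Ux W x)),
        P.map (κ' Ψ U' W ε x).op y = pr U' (Ψ.op ⋙ P) n x c' :=
      fun x => (map_κ'_bijective Ψ U' P W ε x).2 _
    choose y hy using h1
    refine ⟨mkElt W P n y, ?_⟩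
    apply elt_ext
    intro x
    rw [Θ'_pr_apply, pr_mkElt, hy]

theorem Θ'_d (n : ℕ) (c : (CK W P).X n) :
    Θ' Ψ U' P W ε (n + 1) ((CK W P).d n (n + 1) c) =
      (CK U' (Ψ.op ⋙ P)).d n (n + 1) (Θ' Ψ U' P W ε n c) := by
  apply elt_ext
  intro x
  rw [Θ'_pr_apply, d_pr_apply, d_pr_apply, map_sum]
  refine Finset.sum_congr rfl (fun j _ => ?_)
  rw [map_zsmul, Θ'_pr_apply]
  congr 1
  change P.map (κ' Ψ U' W ε x).op (P.map (face W x j).op _) =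
    P.map (Ψ.map (face U' x j)).op (P.map (κ' Ψ U' W ε (x ∘ Fin.succAbove j)).op _)
  rw [pmap_comp', pmap_comp', κ'_face]

include ε in
theorem exactAt_image_iso (n : ℕ) (h : (CK U' (Ψ.op ⋙ P)).ExactAt (n + 1)) :
    (CK W P).ExactAt (n + 1) :=
  exactAt_of_bij (Θ' Ψ U' P W ε) (Θ'_d Ψ U' P W ε) (Θ'_bijective Ψ U' P W ε) n h

include ε in
theorem exactAt_preimage_iso (n : ℕ) (h : (CK W P).ExactAt (n + 1)) :
    (CK U' (Ψ.op ⋙ P)).ExactAt (n + 1) :=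
  exactAt_of_bij' (Θ' Ψ U' P W ε) (Θ'_d Ψ U' P W ε) (Θ'_bijective Ψ U' P W ε) n h

end iso

end Groth.Agent.Lib.T2H8.CechTransport
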