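import Mathlib
import Groth.Agent.Lib.T2H8Cartan
import Groth.Agent.Lib.T2H8CechTransport
import Groth.Agent.Lib.T2H8AdeqCech

/-!
# Vanishing of the cohomology of an adequate module over an affine object of the big site
-/

set_option autoImplicit false
set_option linter.unusedSectionVars false
set_option linter.style.haveILetI false
universe u
open CategoryTheory CategoryTheory.Limits Opposite AlgebraicGeometry
open Adeq Groth.Agent.Helper13Adeq

attribute [-instance] Groth.Agent.Lib.T2H8.AdeqRestr.instAlgebraCarrierRC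
  Groth.Agent.Lib.T2H8.AdeqRestr.instIsScalarTowerCarrierRC

namespace Groth.Agent.Lib.T2H8.CartanBig
open Groth.Agent.Lib.Helper16.CechLow Groth.Agent.Lib.T2H8.CechChase Groth.Agent.Lib.T2H8.CechEv
open Groth.Agent.Lib.T2H8.CechSurj Groth.Agent.Lib.T2H8.CechSES Groth.Agent.Lib.T2H8.CechTransport
open Groth.Agent.Lib.T2H8.Cartan Groth.Agent.Lib.T2H8.AdeqCech Groth.Agent.Lib.T2H8.CechContract
open Groth.Agent.Lib.T2H8.AdeqSheaf

section general
variable {C : Type (u + 1)} [Category.{u} C] {J : GrothendieckTopology C}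
variable {X : C} {ι : Type*} (Y : ι → Over X)
  (hY : Sieve.ofArrows (fun i => (Y i).left) (fun i => (Y i).hom) ∈ J X)

include hY

lemma isSheafFor_of_sheaf' (P : Sheaf J AddCommGrpCat.{u + 1}) :
    Presieve.IsSheafFor (P.obj ⋙ forget _)
      (Presieve.ofArrows (fun k => (Y k).left) (fun k => (Y k).hom)) := by
  have hP := P.property
  rw [Presheaf.isSheaf_iff_isSheaf_forget J P.obj (forget _), isSheaf_iff_isSheaf_of_type] at hP
  rw [Presieve.isSheafFor_iff_generate]
  exact hP _ hY

lemma glue_site' (P : Sheaf J AddCommGrpCat.{u + 1}) (x : ∀ k, P.obj.obj (op (Y k).left))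
    (hx : ∀ i j (Z : C) (gi : Z ⟶ (Y i).left) (gj : Z ⟶ (Y j).left),
      gi ≫ (Y i).hom = gj ≫ (Y j).hom → P.obj.map gi.op (x i) = P.obj.map gj.op (x j)) :
    ∃ t : P.obj.obj (op X), ∀ k, P.obj.map (Y k).hom.op t = x k := by
  obtain ⟨t, ht, _⟩ := ((Presieve.isSheafFor_arrows_iff _ _).1 (isSheafFor_of_sheaf' Y hY P)) x hx
  exact ⟨t, ht⟩

lemma sep_site' (P : Sheaf J AddCommGrpCat.{u + 1}) (t t' : P.obj.obj (op X))
    (h : ∀ k, P.obj.map (Y k).hom.op t = P.obj.map (Y k).hom.op t') : t = t' := by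
  have hx : Presieve.Arrows.Compatible (P.obj ⋙ forget _) (fun k => (Y k).hom)
      (fun k => P.obj.map (Y k).hom.op t') := by
    intro i j Z gi gj hij
    change P.obj.map gi.op (P.obj.map (Y i).hom.op t') = P.obj.map gj.op (P.obj.map (Y j).hom.op t')
    rw [map_comp_apply, map_comp_apply, hij]
  obtain ⟨t₀, _, ht₀⟩ := ((Presieve.isSheafFor_arrows_iff _ _).1 (isSheafFor_of_sheaf' Y hY P)) _ hx
  exact (ht₀ t h).trans (ht₀ t' (fun _ => rfl)).symm

end general

variable {V : Scheme.{u}}

instance isEquivalence_back (X : Over V) : X.iteratedSliceBackward.IsEquivalence :=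
  inferInstanceAs ((Over.iteratedSliceEquiv X).inverse.IsEquivalence)

instance isEquivalence_fwd (X : Over V) : X.iteratedSliceForward.IsEquivalence :=
  inferInstanceAs ((Over.iteratedSliceEquiv X).functor.IsEquivalence)

variable (P : MorphismProperty Scheme.{u}) [P.IsStableUnderBaseChange]
    [P.IsStableUnderComposition] [Scheme.IsJointlySurjectivePreserving P]
    [IsZariskiLocalAtSource P] [P.ContainsIdentities]
    [BigSite.OSh (Scheme.precoverage P)]

/-- standard coverings: flat surjective morphisms in `P` between affine objects -/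
def Cov {X Y : Over V} (f : Y ⟶ X) : Prop :=
  IsAffine X.left ∧ IsAffine Y.left ∧ Flat f.left ∧ Surjective f.left ∧ P f.left

theorem cov_mem {X Y : Over V} (f : Y ⟶ X) (hf : Cov P f) :
    Sieve.ofArrows (fun i => (fam f i).left) (fun i => (fam f i).hom) ∈
      QuotSh.J (Scheme.precoverage P) V X := by
  obtain ⟨_, _, _, hs, hP⟩ := hf
  have h1 : Presieve.ofArrows (fun _ : PUnit.{u + 2} => Y.left) (fun _ => f.left) ∈
      Scheme.precoverage P X.left := by
    rw [Scheme.ofArrows_mem_precoverage_iff]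
    exact ⟨fun x => ⟨⟨⟩, hs.surj x⟩, fun _ => hP⟩
  exact over_cover_mem (Scheme.precoverage P) (fun _ : PUnit.{u + 2} => Y) (fun _ => f) h1

theorem isAffine_Ux {X Y : Over V} (f : Y ⟶ X) (hf : Cov P f) (n : ℕ)
    (x : Fin (n + 1) → PUnit.{u + 2}) : IsAffine (Ux (fam f) x).left.left := by
  obtain ⟨hX, hY, _, _, _⟩ := hf
  haveI : IsAffine X.left := hX
  haveI : IsAffine Y.left := hY
  let e : X.iteratedSliceForward.obj (∏ᶜ (fun _ : Fin (n + 1) => (Over.mk f : Over X))) ≅
      ∏ᶜ (fun _ : Fin (n + 1) => X.iteratedSliceForward.obj (Over.mk f)) :=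
    PreservesProduct.iso X.iteratedSliceForward _
  have h1 : IsAffine (Xp (Over.mk f.left : Over X.left) n).left := isAffine_Xp f.left n
  exact IsAffine.of_isIso (h := h1) ((Over.forget X.left).mapIso e).hom


theorem subsingleton_of_isEmpty (F : Sheaf (QuotSh.J (Scheme.precoverage P) V) AddCommGrpCat.{u + 1})
    (Z : Over V) (hZ : IsEmpty Z.left) : Subsingleton (F.obj.obj (op Z)) := by
  have h1 : Presieve.ofArrows (fun k : PEmpty.{1} => (k.elim : Over V).left)
      (fun k => (k.elim : (k.elim : Over V) ⟶ Z).left) ∈ Scheme.precoverage P Z.left := by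
    rw [Scheme.ofArrows_mem_precoverage_iff]
    exact ⟨fun x => (hZ.false x).elim, fun k => k.elim⟩
  have h2 := over_cover_mem (Scheme.precoverage P) (fun k : PEmpty.{1} => (k.elim : Over V))
    (fun k => (k.elim : (k.elim : Over V) ⟶ Z)) h1
  have h3 : Sieve.ofArrows (fun k : PEmpty.{1} => ((k.elim : Over Z)).left)
      (fun k => ((k.elim : Over Z)).hom) ∈ QuotSh.J (Scheme.precoverage P) V Z := by
    refine (QuotSh.J (Scheme.precoverage P) V).superset_covering ?_ h2
    rintro W g ⟨_, _, _, ⟨k⟩, _⟩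
    exact k.elim
  refine ⟨fun a b => ?_⟩
  exact sep_site' (fun k : PEmpty.{1} => (k.elim : Over Z)) h3 F a b (fun k => k.elim)

variable (hopen : ∀ {X Y : Scheme.{u}} (f : X ⟶ Y), P f → IsOpenMap f)
    (himm : ∀ {X Y : Scheme.{u}} (f : X ⟶ Y), IsOpenImmersion f → P f)
    (hflat : ∀ {X Y : Scheme.{u}} (f : X ⟶ Y), P f → Flat f)

include hopen himm hflat in
theorem href (X : Over V) (hX : IsAffine X.left)
    {F F' : Sheaf (QuotSh.J (Scheme.precoverage P) V) AddCommGrpCat.{u + 1}} (ψ : F ⟶ F')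
    (s : F'.obj.obj (op X))
    (hT : Presheaf.imageSieve ψ.hom s ∈ QuotSh.J (Scheme.precoverage P) V X) :
    ∃ (Y : Over V) (f : Y ⟶ X), Cov P f ∧ (Presheaf.imageSieve ψ.hom s) f := by
  have h1 : Sieve.overEquiv X (Presheaf.imageSieve ψ.hom s) ∈
      (Scheme.precoverage P).toGrothendieck X.left := (GrothendieckTopology.mem_over_iff _ _).1 hT
  let Γ : CommRingCat.{u} := Γ(X.left, ⊤)
  let e : X.left ≅ Spec Γ := X.left.isoSpec
  obtain ⟨κ, hκ, B', φ, hcov, hmem⟩ := exists_affine_refinement P hopen himm _ h1 Γ e.inv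
  have hcov' := (Scheme.ofArrows_mem_precoverage_iff P).1 hcov
  -- the disjoint union
  let g : κ → Scheme.{u} := fun k => Spec (B' k)
  let f₀ : (∐ g) ⟶ X.left := Sigma.desc (fun k => Spec.map (φ k) ≫ e.inv)
  have hιf₀ : ∀ k, Sigma.ι g k ≫ f₀ = Spec.map (φ k) ≫ e.inv := fun k => Sigma.ι_desc _ _
  let Y : Over V := Over.mk (f₀ ≫ X.hom)
  let f : Y ⟶ X := Over.homMk f₀ rfl
  have hPf₀ : P f₀ := IsZariskiLocalAtSource.sigmaDesc
    (fun k => P.comp_mem _ _ (hcov'.2 k) (himm e.inv inferInstance))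
  have hsurj : Surjective f₀ := by
    refine ⟨fun x => ?_⟩
    obtain ⟨k, y, hy⟩ := hcov'.1 (e.hom x)
    refine ⟨Sigma.ι g k y, ?_⟩
    have h2 : f₀ (Sigma.ι g k y) = (Sigma.ι g k ≫ f₀) y := rfl
    rw [h2, hιf₀]
    change e.inv (Spec.map (φ k) y) = x
    rw [hy]
    change (e.hom ≫ e.inv) x = x
    rw [Iso.hom_inv_id]
    rfl
  have hYaff : IsAffine Y.left := inferInstanceAs (IsAffine (∐ g))
  refine ⟨Y, f, ⟨hX, hYaff, hflat f₀ hPf₀, hsurj, hPf₀⟩, ?_⟩
  -- the local lifts
  let Yk : κ → Over V := fun k => Over.mk ((Spec.map (φ k) ≫ e.inv) ≫ X.hom)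
  let gk : ∀ k, Yk k ⟶ X := fun k => Over.homMk (Spec.map (φ k) ≫ e.inv) rfl
  have hgk : ∀ k, (Presheaf.imageSieve ψ.hom s) (gk k) := by
    intro k
    have hk := hmem k
    rw [Sieve.overEquiv_iff] at hk
    exact hk
  choose t ht using hgk
  let jk : ∀ k, Yk k ⟶ Y := fun k => Over.homMk (Sigma.ι g k) (by
    change Sigma.ι g k ≫ (f₀ ≫ X.hom) = (Spec.map (φ k) ≫ e.inv) ≫ X.hom
    rw [← Category.assoc, hιf₀])
  have hjf : ∀ k, jk k ≫ f = gk k := by
    intro k
    apply Over.OverMorphism.ext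
    exact hιf₀ k
  -- the covering of the disjoint union
  have hc1 : Presieve.ofArrows (fun k => (Yk k).left) (fun k => (jk k).left) ∈
      Scheme.precoverage P Y.left := by
    rw [Scheme.ofArrows_mem_precoverage_iff]
    refine ⟨fun x => ?_, fun k => himm _ (inferInstanceAs (IsOpenImmersion (Sigma.ι g k)))⟩
    obtain ⟨k, y, hy⟩ := (sigmaOpenCover g).exists_eq x
    exact ⟨k, y, hy⟩
  have hc2 : Sieve.ofArrows (fun k => (Over.mk (jk k) : Over Y).left)
      (fun k => (Over.mk (jk k) : Over Y).hom) ∈ QuotSh.J (Scheme.precoverage P) V Y :=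
    over_cover_mem (Scheme.precoverage P) Yk jk hc1
  have hcompat : ∀ k l (Z : Over V) (a : Z ⟶ Yk k) (b : Z ⟶ Yk l),
      a ≫ jk k = b ≫ jk l → F.obj.map a.op (t k) = F.obj.map b.op (t l) := by
    intro k l Z a b hab
    have hab' : a.left ≫ Sigma.ι g k = b.left ≫ Sigma.ι g l := congrArg (fun m => m.left) hab
    by_cases hkl : k = l
    · subst hkl
      have : a = b := by
        apply Over.OverMorphism.ext
        exact (cancel_mono (Sigma.ι g k)).1 hab'
      rw [this]
    · have hZ : IsEmpty Z.left := isEmpty_of_commSq_sigmaι_of_ne ⟨hab'⟩ hkl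
      have := subsingleton_of_isEmpty P F Z hZ
      exact Subsingleton.elim _ _
  obtain ⟨tt, htt⟩ := glue_site' (fun k => (Over.mk (jk k) : Over Y)) hc2 F t hcompat
  refine ⟨tt, ?_⟩
  apply sep_site' (fun k => (Over.mk (jk k) : Over Y)) hc2 F'
  intro k
  change F'.obj.map (jk k).op (ψ.hom.app (op Y) tt) = F'.obj.map (jk k).op (F'.obj.map f.op s)
  rw [← nat_apply, map_comp_apply, hjf]
  have h3 : F.obj.map (jk k).op tt = t k := htt k
  rw [h3]
  exact ht k


omit [P.IsStableUnderBaseChange] [P.IsStableUnderComposition]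
  [Scheme.IsJointlySurjectivePreserving P] [IsZariskiLocalAtSource P] [P.ContainsIdentities]
  [BigSite.OSh (Scheme.precoverage P)] in
theorem pullBig_obj {S : Scheme.{u}} (a : V ⟶ S) (F : BigSite.Ab (Scheme.precoverage P) S) :
    ((BigSite.pullBig (Scheme.precoverage P) a AddCommGrpCat.{u + 1}).obj F).obj =
      (Over.map a).op ⋙ F.obj := rfl

omit [P.IsStableUnderBaseChange] [P.IsStableUnderComposition]
  [Scheme.IsJointlySurjectivePreserving P] [IsZariskiLocalAtSource P] [P.ContainsIdentities]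
  [BigSite.OSh (Scheme.precoverage P)] in
theorem R_back (X : Over V) (G : BigSite.Ab (Scheme.precoverage P) V) :
    X.iteratedSliceBackward.op ⋙ (R (X := X) G) = (Over.map X.hom).op ⋙ G.obj := rfl

theorem PN_two {S : Scheme.{u}} (M : BigSite.Mod (Scheme.precoverage P) S) (a : V ⟶ S)
    (X : Over V) :
    PN P ((BigSite.pullMod (Scheme.precoverage P) X.hom).obj
      ((BigSite.pullMod (Scheme.precoverage P) a).obj M)) =
    X.iteratedSliceBackward.op ⋙ (R (X := X)
      ((BigSite.pullBig (Scheme.precoverage P) a AddCommGrpCat.{u + 1}).obj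
        ((BigSite.toAbMod (Scheme.precoverage P) S).obj M))) := by
  rw [R_back, pullBig_obj, PN_pull]
  exact congrArg (fun F => (Over.map X.hom).op ⋙ F) (PN_pull P a M)

/-- the comparison of the two descriptions of the covering object -/
noncomputable def εiso {X Y : Over V} (f : Y ⟶ X) :
    X.iteratedSliceBackward.obj (Over.mk f.left) ≅ (Over.mk f : Over X) :=
  Over.isoMk (Over.isoMk (Iso.refl _) (by
    change 𝟙 _ ≫ Y.hom = f.left ≫ X.hom
    rw [Category.id_comp, Over.w])) (by
    apply Over.OverMorphism.ext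
    change 𝟙 _ ≫ f.left = f.left
    rw [Category.id_comp])

include hopen himm hflat in
theorem cechExact_adequate {S : Scheme.{u}} (M : BigSite.Mod (Scheme.precoverage P) S)
    (hM : adequateMod (Scheme.precoverage P) S M) (a : V ⟶ S) :
    CechExact (QuotSh.J (Scheme.precoverage P) V) (fun {_ _} f => Cov P f)
      ((BigSite.pullBig (Scheme.precoverage P) a AddCommGrpCat.{u + 1}).obj
        ((BigSite.toAbMod (Scheme.precoverage P) S).obj M)) := by
  intro X Y f hf n
  obtain ⟨hX, hY, hfl, hsj, hP⟩ := hf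
  haveI : IsAffine X.left := hX
  haveI : IsAffine Y.left := hY
  haveI : Flat f.left := hfl
  haveI : Surjective f.left := hsj
  have hN₁ := adequate_pull P hopen himm a M hM
  have hN₂ := adequate_pull P hopen himm X.hom _ hN₁
  have h1 := cech_exact P f.left hopen himm hflat n _ hN₂
  rw [PN_two] at h1
  exact exactAt_image_iso X.iteratedSliceBackward (UU f.left) _ (fam f) (fun _ => εiso f) n h1

include hopen himm hflat in
/-- the cohomology of an adequate module over an affine object vanishes in positive degrees -/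
theorem subsingleton_HU {S : Scheme.{u}} (M : BigSite.Mod (Scheme.precoverage P) S)
    (hM : adequateMod (Scheme.precoverage P) S M) (U : Over S) [IsAffine U.left] (n : ℕ) :
    Subsingleton (BigSite.HU (Scheme.precoverage P)
      ((BigSite.toAbMod (Scheme.precoverage P) S).obj M) (n + 1) U) := by
  refine subsingleton_of_forall_eq 0 (fun x => ?_)
  exact cartan (J := QuotSh.J (Scheme.precoverage P) U.left)
    (fun X : Over U.left => IsAffine X.left) (fun {_ _} f => Cov P f)
    (fun f hf n x => isAffine_Ux P f hf n x)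
    (fun f hf => cov_mem P f hf)
    (fun X hX {F F'} ψ s hT => href P hopen himm hflat X hX ψ s hT)
    Over.mkIdTerminal (inferInstanceAs (IsAffine U.left))
    _ (cechExact_adequate P hopen himm hflat M hM U.hom) n x

end Groth.Agent.Lib.T2H8.CartanBig
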