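import Mathlib
import Groth.Prelude.Def_EtBase
import Groth.Prelude.Def_EtCech
import Groth.Agent.Lib.T2H8CechSES

/-!
# Cech-flasque sheaves on the small etale site: sections of a quotient by a Cech-flasque sheaf
-/

set_option autoImplicit false
set_option linter.unusedSectionVars false
set_option linter.style.haveILetI false
universe u
open CategoryTheory CategoryTheory.Limits Opposite AlgebraicGeometry

namespace Groth.Agent.Lib.T2H8.CechEtale
open Groth.Agent.Lib.Helper16.CechLow Groth.Agent.Lib.T2H8.CechChase Groth.Agent.Lib.T2H8.CechEv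
open Groth.Agent.Lib.T2H8.CechSurj Groth.Agent.Lib.T2H8.CechSES

variable {X : Scheme.{u}}

/-- covering sieves of the small etale site are jointly surjective -/
lemma exists_mem_range_of_mem_smallEtaleTopology {U : X.Etale} {T : Sieve U}
    (hT : T ∈ X.smallEtaleTopology U) (p : U.left) :
    ∃ (Z : X.Etale) (k : Z ⟶ U), T k ∧ p ∈ Set.range k.left := by
  obtain ⟨𝒰, _, h, hle⟩ := (Scheme.mem_smallGrothendieckTopology (P := @Etale) U T).1 hT
  obtain ⟨i, y, hy⟩ := 𝒰.exists_eq p
  exact ⟨_, _, hle _ _ ⟨i⟩, ⟨y, hy⟩⟩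

/-- the Cech-flasque condition -/
def CechFlasque [∀ U : X.Etale, HasFiniteProducts (Over U)] (F : EtCoh.Ab X) : Prop :=
  ∀ (U : X.Etale) (ι : Type (u + 1)) (Uf : ι → Over U),
    (∀ x : ↥(U.left), ∃ (i : ι) (y : ↥((Uf i).left.left)), (Uf i).hom.left.base y = x) →
    ∀ p : ℕ, 0 < p → IsZero (EtCech.cechH Uf F.obj p)

variable [∀ U : X.Etale, HasFiniteProducts (Over U)]

theorem surj_of_cechFlasque (S : ShortComplex (EtCoh.Ab X)) (hS : S.ShortExact)
    (h1 : CechFlasque S.X₁) (W : X.Etale) : Function.Surjective (S.g.hom.app (op W)) := by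
  intro s
  haveI : Epi S.g := hS.epi_g
  have hloc : Sheaf.IsLocallySurjective S.g :=
    (Sheaf.isLocallySurjective_iff_epi' AddCommGrpCat.{u + 1} S.g).2 inferInstance
  have hT : Presheaf.imageSieve S.g.hom s ∈ X.smallEtaleTopology W := hloc.imageSieve_mem s
  let ι' : Type (u + 1) := Σ V : X.Etale, {f : V ⟶ W // (Presheaf.imageSieve S.g.hom s) f}
  let Y : ι' → Over W := fun i => Over.mk i.2.1
  have hlift : ∀ i : ι', ∃ t : S.X₂.obj.obj (op (Y i).left),
      S.g.hom.app (op (Y i).left) t = S.X₃.obj.map (Y i).hom.op s := fun i => i.2.2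
  choose t ht using hlift
  have hY : Sieve.ofArrows (fun i => (Y i).left) (fun i => (Y i).hom) ∈ X.smallEtaleTopology W := by
    refine X.smallEtaleTopology.superset_covering ?_ hT
    intro V f hf
    exact ⟨V, 𝟙 V, f, Presieve.ofArrows.mk (ι := ι') ⟨V, f, hf⟩, Category.id_comp _⟩
  have hjs : ∀ x : ↥(W.left), ∃ (i : ι') (y : ↥((Y i).left.left)), (Y i).hom.left.base y = x := by
    intro x
    obtain ⟨Z, k, hk, y, hy⟩ := exists_mem_range_of_mem_smallEtaleTopology hT x
    exact ⟨⟨Z, k, hk⟩, y, hy⟩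
  have hH1 : (CK Y (R S.X₁)).ExactAt 1 :=
    (HomologicalComplex.exactAt_iff_isZero_homology _ _).2 (h1 W ι' Y hjs 1 Nat.one_pos)
  exact surj_of_H1 Y S hS hY hH1 s t ht

theorem cechFlasque_X₃ (S : ShortComplex (EtCoh.Ab X)) (hS : S.ShortExact)
    (h1 : CechFlasque S.X₁) (h2 : CechFlasque S.X₂) : CechFlasque S.X₃ := by
  intro U ι Uf hU p hp
  obtain ⟨n, rfl⟩ : ∃ n, p = n + 1 := ⟨p - 1, by omega⟩
  refine (HomologicalComplex.exactAt_iff_isZero_homology _ _).1 ?_
  exact exactAt_X₃ Uf S hS (fun m x => surj_of_cechFlasque S hS h1 _) n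
    ((HomologicalComplex.exactAt_iff_isZero_homology _ _).2 (h2 U ι Uf hU (n + 1) (Nat.succ_pos _)))
    ((HomologicalComplex.exactAt_iff_isZero_homology _ _).2 (h1 U ι Uf hU (n + 2) (Nat.succ_pos _)))

end Groth.Agent.Lib.T2H8.CechEtale
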