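import Mathlib
import Groth.Prelude.Def_Adeq2
import Groth.Prelude.Def_EtGm
import Groth.Agent.Lib.T2H8AdeqSheafB
import Groth.Agent.Lib.T2H8AdeqSheafE
import Groth.Agent.Lib.T2H8AdeqAbelian
import Groth.Agent.Lib.T2H8AdeqCech

set_option autoImplicit false
set_option linter.unusedSectionVars false
universe u
open CategoryTheory CategoryTheory.Limits Opposite AlgebraicGeometry TensorProduct
open Adeq Groth.Agent.Helper13Adeq

attribute [-instance] Groth.Agent.Lib.T2H8.AdeqRestr.instAlgebraCarrierRC
  Groth.Agent.Lib.T2H8.AdeqRestr.instIsScalarTowerCarrierRC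

namespace Groth.Agent.Lib.T2H8.GaAdeq
open Groth.Agent.Lib.T2H8.AdeqSheaf

variable (K : Precoverage Scheme.{u}) [BigSite.OSh K] {S : Scheme.{u}}
variable {R : CommRingCat.{u}} (a : Spec R ⟶ S)

/-- the underlying function of sections of the unit module over a chart -/
def dn (B : Alg R) (x : ((toMVF K a).obj (BigSite.unitMod K S)).obj (pt B)) :
    Γ(Spec (CommRingCat.of B), ⊤) :=
  (show ULift.{u + 1} Γ(Spec (CommRingCat.of B), ⊤) from x).down

theorem dn_add (B : Alg R) (x y : ((toMVF K a).obj (BigSite.unitMod K S)).obj (pt B)) :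
    dn K a B (x + y) = dn K a B x + dn K a B y := rfl

theorem dn_smul (B : Alg R) (b : B) (x : ((toMVF K a).obj (BigSite.unitMod K S)).obj (pt B)) :
    dn K a B (b • x) = (Scheme.ΓSpecIso (CommRingCat.of B)).inv b * dn K a B x := rfl

theorem dn_map {B B' : Alg R} (f : B ⟶ B')
    (x : ((toMVF K a).obj (BigSite.unitMod K S)).obj (pt B)) :
    dn K a B' (mapEl ((toMVF K a).obj (BigSite.unitMod K S)) f x) =
      (Spec.map (CommRingCat.ofHom f.hom.toRingHom)).appTop (dn K a B x) := rfl

theorem dn_injective (B : Alg R) : Function.Injective (dn K a B) := by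
  intro x y h
  exact ULift.ext _ _ h

/-- the comparison map on a chart -/
noncomputable def sU (B : Alg R) (x : ((toMVF K a).obj (BigSite.unitMod K S)).obj (pt B)) :
    ((underline R).obj (ModuleCat.of R (ULift.{u + 1} R))).obj (pt B) :=
  (((Scheme.ΓSpecIso (CommRingCat.of B)).hom (dn K a B x) : B) ⊗ₜ[R]
    (ULift.up (1 : R) : ULift.{u + 1} R) : B ⊗[R] (ULift.{u + 1} R))

theorem sU_add (B : Alg R) (x y : ((toMVF K a).obj (BigSite.unitMod K S)).obj (pt B)) :
    sU K a B (x + y) = sU K a B x + sU K a B y := by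
  unfold sU
  rw [dn_add, map_add]
  exact TensorProduct.add_tmul _ _ _

theorem sU_smul (B : Alg R) (b : B) (x : ((toMVF K a).obj (BigSite.unitMod K S)).obj (pt B)) :
    sU K a B (b • x) = b • sU K a B x := by
  unfold sU
  rw [dn_smul, map_mul]
  have h : (Scheme.ΓSpecIso (CommRingCat.of B)).hom ((Scheme.ΓSpecIso (CommRingCat.of B)).inv b) = b := by
    change ((Scheme.ΓSpecIso (CommRingCat.of B)).inv ≫ (Scheme.ΓSpecIso (CommRingCat.of B)).hom) b = b
    rw [Iso.inv_hom_id]
    rfl
  rw [h]
  exact (TensorProduct.smul_tmul' b _ _).symm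

theorem sU_nat {B B' : Alg R} (f : B ⟶ B')
    (x : ((toMVF K a).obj (BigSite.unitMod K S)).obj (pt B)) :
    sU K a B' (mapEl ((toMVF K a).obj (BigSite.unitMod K S)) f x) =
      mapEl ((underline R).obj (ModuleCat.of R (ULift.{u + 1} R))) f (sU K a B x) := by
  rw [underline_mapEl]
  unfold sU
  rw [dn_map]
  have h : (Scheme.ΓSpecIso (CommRingCat.of B')).hom
      ((Spec.map (CommRingCat.ofHom f.hom.toRingHom)).appTop (dn K a B x)) =
      f.hom ((Scheme.ΓSpecIso (CommRingCat.of B)).hom (dn K a B x)) := by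
    have := Scheme.ΓSpecIso_naturality (CommRingCat.ofHom f.hom.toRingHom)
    exact ConcreteCategory.congr_hom this (dn K a B x)
  rw [h]
  rfl

/-- the contraction `B ⊗ R → B` -/
noncomputable def ctr (B : Alg R) : B ⊗[R] (ULift.{u + 1} R) →ₗ[R] B :=
  TensorProduct.lift
    { toFun := fun b =>
        { toFun := fun r => r.down • b
          map_add' := fun r r' => add_smul _ _ _
          map_smul' := fun c r => by
            change (c * r.down) • b = c • (r.down • b)
            rw [mul_smul] }
      map_add' := fun b b' => by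
        ext r
        exact smul_add _ _ _
      map_smul' := fun c b => by
        ext r
        change r.down • (c • b) = c • (r.down • b)
        rw [smul_comm] }

theorem ctr_tmul (B : Alg R) (b : B) (r : ULift.{u + 1} R) :
    ctr B (b ⊗ₜ[R] r) = r.down • b := rfl

theorem sU_bij (B : Alg R) : Function.Bijective (sU K a B) := by
  constructor
  · intro x y h
    apply dn_injective
    have h2 := congrArg (ctr B) h
    unfold sU at h2
    rw [ctr_tmul, ctr_tmul, one_smul, one_smul] at h2
    have hinj : Function.Injective (Scheme.ΓSpecIso (CommRingCat.of B)).hom :=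
      ((ConcreteCategory.isIso_iff_bijective _).1 inferInstance).1
    exact hinj h2
  · intro z
    induction z using TensorProduct.induction_on with
    | zero =>
      refine ⟨0, ?_⟩
      unfold sU
      have : dn K a B 0 = 0 := rfl
      rw [this, map_zero, TensorProduct.zero_tmul]
    | tmul b r =>
      refine ⟨ULift.up ((Scheme.ΓSpecIso (CommRingCat.of B)).inv (r.down • b)), ?_⟩
      unfold sU
      have h1 : dn K a B (ULift.up ((Scheme.ΓSpecIso (CommRingCat.of B)).inv (r.down • b))) =
        (Scheme.ΓSpecIso (CommRingCat.of B)).inv (r.down • b) := rfl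
      have h : (Scheme.ΓSpecIso (CommRingCat.of B)).hom
          ((Scheme.ΓSpecIso (CommRingCat.of B)).inv (r.down • b)) = r.down • b := by
        change ((Scheme.ΓSpecIso (CommRingCat.of B)).inv ≫ (Scheme.ΓSpecIso (CommRingCat.of B)).hom) _ = _
        rw [Iso.inv_hom_id]
        rfl
      rw [h1, h, TensorProduct.smul_tmul]
      congr 1
      apply ULift.ext
      change r.down * 1 = r.down
      rw [mul_one]
    | add z z' hz hz' =>
      obtain ⟨x, rfl⟩ := hz
      obtain ⟨y, rfl⟩ := hz'
      exact ⟨x + y, sU_add K a B x y⟩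

theorem adequate_unit_chart :
    adequate R ((toMVF K a).obj (BigSite.unitMod K S)) := by
  obtain ⟨e⟩ := nonempty_iso_of_family (sU K a) (sU_add K a) (sU_smul K a)
    (fun f x => sU_nat K a f x) (sU_bij K a)
  exact (adequate R).prop_of_iso e.symm
    (Groth.Agent.Lib.T2H8.AdeqAbelian.adequate_underline (ModuleCat.of R (ULift.{u + 1} R)))


section site
open Groth.Agent.Lib.T2H8.AdeqCech Groth.Agent.Lib.Helper16.CechLow
variable (P : MorphismProperty Scheme.{u}) [P.IsStableUnderBaseChange]
    [P.IsStableUnderComposition] [Scheme.IsJointlySurjectivePreserving P]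
    [IsZariskiLocalAtSource P] [P.ContainsIdentities]
    [BigSite.OSh (Scheme.precoverage P)]

theorem adequateMod_unit (himm : ∀ {X Y : Scheme.{u}} (f : X ⟶ Y), IsOpenImmersion f → P f)
    (T : Scheme.{u}) :
    adequateMod (Scheme.precoverage P) T (BigSite.unitMod (Scheme.precoverage P) T) :=
  adequateMod_of_charts P himm T _ (fun _ a => adequate_unit_chart _ a)

/-- the sections of the unit module are the global functions -/
noncomputable def unitIso (T : Scheme.{u}) :
    PN P (BigSite.unitMod (Scheme.precoverage P) T) ≅ (Over.forget T).op ⋙ EtCoh.ΓAdd :=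
  NatIso.ofComponents (fun Y => Iso.refl _) (by
    intro Y Z f
    rfl)


theorem exactAt_of_iso {C : Type*} [Category C] [HasFiniteProducts C] {ι : Type (u + 1)}
    (U : ι → C) {F G : Cᵒᵖ ⥤ AddCommGrpCat.{u + 1}} (e : F ≅ G) (n : ℕ)
    (h : (CK U F).ExactAt n) : (CK U G).ExactAt n := by
  have : IsIso ((cechComplexFunctor U).map e.hom) := inferInstance
  exact (exactAt_iff_of_quasiIsoAt
    ((cechComplexFunctor U).map e.hom) n).1 h

variable (hopen : ∀ {X Y : Scheme.{u}} (f : X ⟶ Y), P f → IsOpenMap f)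
    (himm : ∀ {X Y : Scheme.{u}} (f : X ⟶ Y), IsOpenImmersion f → P f)
    (hflat : ∀ {X Y : Scheme.{u}} (f : X ⟶ Y), P f → Flat f)

include hopen himm hflat in
theorem cechExact_ΓAdd_aux {T X : Scheme.{u}} (π : X ⟶ T) [IsAffine T] [IsAffine X] [Flat π]
    [Surjective π] (n : ℕ) :
    (CK (UU π) ((Over.forget T).op ⋙ EtCoh.ΓAdd)).ExactAt (n + 1) :=
  exactAt_of_iso (UU π) (unitIso P T) (n + 1)
    (cech_exact P π hopen himm hflat n _ (adequateMod_unit P himm T))

end site

/-- Cech exactness of the structure sheaf for a faithfully flat morphism of affine schemes -/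
theorem cechExact_ΓAdd {T X : Scheme.{u}} (π : X ⟶ T) [IsAffine T] [IsAffine X] [Flat π]
    [Surjective π] (n : ℕ) :
    (Groth.Agent.Lib.Helper16.CechLow.CK (Groth.Agent.Lib.T2H8.AdeqCech.UU π)
      ((Over.forget T).op ⋙ EtCoh.ΓAdd)).ExactAt (n + 1) := by
  have : BigSite.OSh (Scheme.precoverage (@Flat ⊓ @LocallyOfFinitePresentation)) :=
    inferInstanceAs (BigSite.OSh Scheme.fppfPrecoverage)
  have : MorphismProperty.ContainsIdentities
      (@Flat ⊓ @LocallyOfFinitePresentation : MorphismProperty Scheme.{u}) :=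
    ⟨fun X => ⟨inferInstance, inferInstance⟩⟩
  exact cechExact_ΓAdd_aux (@Flat ⊓ @LocallyOfFinitePresentation)
    (fun f hf => by obtain ⟨_, _⟩ := hf; exact f.isOpenMap)
    (fun f _ => ⟨inferInstance, inferInstance⟩) (fun f hf => hf.1) π n

end Groth.Agent.Lib.T2H8.GaAdeq
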