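import Mathlib
import Groth.Prelude.Def_EtBase
import Groth.Prelude.Def_EtGm
import Groth.Agent.Lib.T2H8Cartan
import Groth.Agent.Lib.T2H8CechTransport
import Groth.Agent.Lib.T2H8CartanBig
import Groth.Agent.Lib.T2H8GaAdeq
import Groth.Agent.Lib.T2H8CechEtale

set_option autoImplicit false
set_option linter.unusedSectionVars false
set_option linter.style.haveILetI false
universe u
open CategoryTheory CategoryTheory.Limits Opposite AlgebraicGeometry

attribute [-instance] Groth.Agent.Lib.T2H8.AdeqRestr.instAlgebraCarrierRC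
  Groth.Agent.Lib.T2H8.AdeqRestr.instIsScalarTowerCarrierRC

namespace Groth.Agent.Lib.T2H8.GaEtale
open Groth.Agent.Lib.Helper16.CechLow Groth.Agent.Lib.T2H8.CechChase Groth.Agent.Lib.T2H8.CechEv
open Groth.Agent.Lib.T2H8.CechSurj Groth.Agent.Lib.T2H8.CechSES Groth.Agent.Lib.T2H8.CechTransport
open Groth.Agent.Lib.T2H8.Cartan Groth.Agent.Lib.T2H8.AdeqCech Groth.Agent.Lib.T2H8.CechContract

variable {S : Scheme.{u}}



/-- the forgetful functor to schemes over the underlying scheme -/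
noncomputable def Ψ (X : S.Etale) : Over X ⥤ Over X.left :=
  Over.post (Scheme.Etale.forget S) ⋙ ((Scheme.Etale.forget S).obj X).iteratedSliceForward

instance (X : S.Etale) : PreservesFiniteProducts (Ψ X) := by
  haveI : PreservesFiniteLimits (Over.post (X := X) (Scheme.Etale.forget S)) := inferInstance
  haveI : PreservesFiniteProducts (Over.post (X := X) (Scheme.Etale.forget S)) := inferInstance
  haveI : PreservesFiniteLimits ((Scheme.Etale.forget S).obj X).iteratedSliceForward :=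
    inferInstance
  haveI : PreservesFiniteProducts ((Scheme.Etale.forget S).obj X).iteratedSliceForward :=
    inferInstance
  exact inferInstanceAs (PreservesFiniteProducts
    (Over.post (X := X) (Scheme.Etale.forget S) ⋙
      ((Scheme.Etale.forget S).obj X).iteratedSliceForward))

theorem Ψ_obj_left (X : S.Etale) (Y : Over X) : ((Ψ X).obj Y).left = Y.left.left := rfl

theorem Ψ_obj_mk {X Y : S.Etale} (f : Y ⟶ X) : (Ψ X).obj (Over.mk f) = Over.mk f.left := rfl

theorem Ψ_R (X : S.Etale) :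
    (Ψ X).op ⋙ ((Over.forget X.left).op ⋙ EtCoh.ΓAdd) = R (X := X) (EtCoh.Ga S) := rfl


/-- standard coverings: surjective morphisms between affine objects -/
def Cov {X Y : S.Etale} (f : Y ⟶ X) : Prop :=
  IsAffine X.left ∧ IsAffine Y.left ∧ Surjective f.left

theorem cov_mem {X Y : S.Etale} (f : Y ⟶ X) (hf : Cov f) :
    Sieve.ofArrows (fun i => (fam f i).left) (fun i => (fam f i).hom) ∈
      S.smallEtaleTopology X := by
  obtain ⟨_, _, hs⟩ := hf
  refine (Scheme.ofArrows_mem_smallEtaleTopology_iff (fun _ : PUnit.{u + 2} => f)).2 ?_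
  ext x
  simp only [Set.mem_iUnion, Set.mem_range, Set.mem_univ, iff_true]
  obtain ⟨y, hy⟩ := hs.surj x
  exact ⟨⟨⟩, y, hy⟩

theorem isAffine_Ux {X Y : S.Etale} (f : Y ⟶ X) (hf : Cov f) (n : ℕ)
    (x : Fin (n + 1) → PUnit.{u + 2}) : IsAffine (Ux (fam f) x).left.left := by
  obtain ⟨hX, hY, _⟩ := hf
  haveI : IsAffine X.left := hX
  haveI : IsAffine Y.left := hY
  let e : (Ψ X).obj (∏ᶜ (fun _ : Fin (n + 1) => (Over.mk f : Over X))) ≅
      ∏ᶜ (fun _ : Fin (n + 1) => (Ψ X).obj (Over.mk f)) :=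
    PreservesProduct.iso (Ψ X) _
  have h1 : IsAffine (Xp (Over.mk f.left : Over X.left) n).left := isAffine_Xp f.left n
  exact IsAffine.of_isIso (h := h1) ((Over.forget X.left).mapIso e).hom

theorem cechExact_Ga :
    CechExact S.smallEtaleTopology (fun {_ _} f => Cov f) (EtCoh.Ga S) := by
  intro X Y f hf n
  obtain ⟨hX, hY, hs⟩ := hf
  haveI : IsAffine X.left := hX
  haveI : IsAffine Y.left := hY
  haveI : Surjective f.left := hs
  have h := Groth.Agent.Lib.T2H8.GaAdeq.cechExact_ΓAdd f.left n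
  exact exactAt_preimage_iso (Ψ X) (fam f) ((Over.forget X.left).op ⋙ EtCoh.ΓAdd)
    (UU f.left) (fun _ => Iso.refl _) n h


open Groth.Agent.Lib.T2H8.CartanBig Groth.Agent.Lib.T2H8.CechEtale in
theorem subsingleton_of_isEmpty (F : EtCoh.Ab S) (Z : S.Etale) (hZ : IsEmpty Z.left) :
    Subsingleton (F.obj.obj (op Z)) := by
  have h3 : Sieve.ofArrows (fun k : PEmpty.{1} => ((k.elim : Over Z)).left)
      (fun k => ((k.elim : Over Z)).hom) ∈ S.smallEtaleTopology Z := by
    refine (Scheme.ofArrows_mem_smallEtaleTopology_iff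
      (fun k : PEmpty.{1} => ((k.elim : Over Z)).hom)).2 ?_
    ext x
    exact (hZ.false x).elim
  refine ⟨fun a b => ?_⟩
  exact sep_site' (fun k : PEmpty.{1} => (k.elim : Over Z)) h3 F a b (fun k => k.elim)

open Groth.Agent.Lib.T2H8.CartanBig Groth.Agent.Lib.T2H8.CechEtale in
theorem href (X : S.Etale) (hX : IsAffine X.left) {F F' : EtCoh.Ab S} (ψ : F ⟶ F')
    (s : F'.obj.obj (op X)) (hT : Presheaf.imageSieve ψ.hom s ∈ S.smallEtaleTopology X) :
    ∃ (Y : S.Etale) (f : Y ⟶ X), Cov f ∧ (Presheaf.imageSieve ψ.hom s) f := by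
  haveI := hX
  have hpt : ∀ x : X.left, ∃ (Z : S.Etale) (k : Z ⟶ X),
      (Presheaf.imageSieve ψ.hom s) k ∧ x ∈ Set.range k.left :=
    fun x => exists_mem_range_of_mem_smallEtaleTopology hT x
  choose Z k hk hx using hpt
  choose y hy using hx
  have haff : ∀ x, ∃ W : (Z x).left.Opens, IsAffineOpen W ∧ y x ∈ W := by
    intro x
    obtain ⟨_, ⟨W, hW, rfl⟩, hyW, -⟩ :=
      (Z x).left.isBasis_affineOpens.exists_subset_of_mem_open (Set.mem_univ (y x)) isOpen_univ
    exact ⟨W, hW, hyW⟩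
  choose W hW hyW using haff
  let V : X.left → Set X.left := fun x => (k x).left '' (W x : Set (Z x).left)
  have hVo : ∀ x, IsOpen (V x) := fun x => (k x).left.isOpenMap _ (W x).isOpen
  have hVc : (Set.univ : Set X.left) ⊆ ⋃ x, V x :=
    fun x _ => Set.mem_iUnion.2 ⟨x, y x, hyW x, hy x⟩
  obtain ⟨t, ht⟩ := isCompact_univ.elim_finite_subcover V hVo hVc
  let κ : Type u := ↥t
  let g : κ → Scheme.{u} := fun i => ((W i.1 : (Z i.1).left.Opens) : Scheme.{u})
  haveI : ∀ i, IsAffine (g i) := fun i => hW i.1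
  let h₀ : ∀ i : κ, g i ⟶ X.left := fun i => (W i.1).ι ≫ (k i.1).left
  let f₀ : (∐ g) ⟶ X.left := Sigma.desc h₀
  have hιf₀ : ∀ i, Sigma.ι g i ≫ f₀ = h₀ i := fun i => Sigma.ι_desc _ _
  haveI : Etale f₀ := IsZariskiLocalAtSource.sigmaDesc (P := @Etale) (fun i => inferInstance)
  let Y : S.Etale := Scheme.Etale.mk (f₀ ≫ X.hom)
  let f : Y ⟶ X := MorphismProperty.Over.homMk f₀ rfl
  have hsurj : Surjective f₀ := by
    refine ⟨fun x => ?_⟩
    obtain ⟨i, hi, w, hw, hwx⟩ : ∃ i ∈ t, x ∈ V i := by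
      have := ht (Set.mem_univ x)
      simpa using this
    refine ⟨Sigma.ι g ⟨i, hi⟩ ⟨w, hw⟩, ?_⟩
    have h2 : f₀ (Sigma.ι g ⟨i, hi⟩ ⟨w, hw⟩) = (Sigma.ι g ⟨i, hi⟩ ≫ f₀) ⟨w, hw⟩ := rfl
    rw [h2, hιf₀]
    exact hwx
  have hYaff : IsAffine Y.left := inferInstanceAs (IsAffine (∐ g))
  refine ⟨Y, f, ⟨hX, hYaff, hsurj⟩, ?_⟩
  -- the local lifts
  let Yk : κ → S.Etale := fun i => Scheme.Etale.mk ((W i.1).ι ≫ (Z i.1).hom)
  let m : ∀ i, Yk i ⟶ Z i.1 := fun i => MorphismProperty.Over.homMk (W i.1).ι rfl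
  let gk : ∀ i, Yk i ⟶ X := fun i => m i ≫ k i.1
  have hgk : ∀ i, (Presheaf.imageSieve ψ.hom s) (gk i) :=
    fun i => (Presheaf.imageSieve ψ.hom s).downward_closed (hk i.1) (m i)
  choose tl htl using hgk
  let jk : ∀ i, Yk i ⟶ Y := fun i => MorphismProperty.Over.homMk (Sigma.ι g i) (by
    change Sigma.ι g i ≫ (f₀ ≫ X.hom) = (W i.1).ι ≫ (Z i.1).hom
    rw [← Category.assoc, hιf₀, Category.assoc, MorphismProperty.Over.w])
  have hjf : ∀ i, jk i ≫ f = gk i := by
    intro i
    apply MorphismProperty.Over.Hom.ext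
    exact hιf₀ i
  have hc2 : Sieve.ofArrows (fun i => (Over.mk (jk i) : Over Y).left)
      (fun i => (Over.mk (jk i) : Over Y).hom) ∈ S.smallEtaleTopology Y := by
    refine (Scheme.ofArrows_mem_smallEtaleTopology_iff jk).2 ?_
    ext x
    simp only [Set.mem_iUnion, Set.mem_range, Set.mem_univ, iff_true]
    obtain ⟨i, w, hw⟩ := (sigmaOpenCover g).exists_eq x
    exact ⟨i, w, hw⟩
  have hcompat : ∀ i l (Z' : S.Etale) (a : Z' ⟶ Yk i) (b : Z' ⟶ Yk l),
      a ≫ jk i = b ≫ jk l → F.obj.map a.op (tl i) = F.obj.map b.op (tl l) := by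
    intro i l Z' a b hab
    have hab' : a.left ≫ Sigma.ι g i = b.left ≫ Sigma.ι g l := congrArg (fun m => m.left) hab
    by_cases hil : i = l
    · subst hil
      have : a = b := by
        apply MorphismProperty.Over.Hom.ext
        exact (cancel_mono (Sigma.ι g i)).1 hab'
      rw [this]
    · have hZ : IsEmpty Z'.left := isEmpty_of_commSq_sigmaι_of_ne ⟨hab'⟩ hil
      have := subsingleton_of_isEmpty F Z' hZ
      exact Subsingleton.elim _ _
  obtain ⟨tt, htt⟩ := glue_site' (fun i => (Over.mk (jk i) : Over Y)) hc2 F tl hcompat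
  refine ⟨tt, ?_⟩
  apply sep_site' (fun i => (Over.mk (jk i) : Over Y)) hc2 F'
  intro i
  change F'.obj.map (jk i).op (ψ.hom.app (op Y) tt) = F'.obj.map (jk i).op (F'.obj.map f.op s)
  rw [← nat_apply, map_comp_apply, hjf]
  have h3 : F.obj.map (jk i).op tt = tl i := htt i
  rw [h3]
  exact htl i


/-- the etale cohomology of the additive group on an affine scheme vanishes in positive degrees -/
theorem subsingleton_H_Ga (S : Scheme.{u}) [IsAffine S] (n : ℕ) :
    Subsingleton (EtCoh.H S (EtCoh.Ga S) (n + 1)) := by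
  refine subsingleton_of_forall_eq 0 (fun x => ?_)
  exact cartan (J := S.smallEtaleTopology) (fun X : S.Etale => IsAffine X.left)
    (fun {_ _} f => Cov f)
    (fun f hf n x => isAffine_Ux f hf n x) (fun f hf => cov_mem f hf)
    (fun X hX {F F'} ψ s hT => href X hX ψ s hT)
    (MorphismProperty.Over.mkIdTerminal (P := @Etale) (X := S))
    (inferInstanceAs (IsAffine S)) _ cechExact_Ga n x

end Groth.Agent.Lib.T2H8.GaEtale
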