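import Mathlib
import Groth.Prelude.Def_EtBase
import Groth.Prelude.Def_EtGm
import Groth.Agent.Lib.T2H3ArtinSchreier
import Groth.Agent.Lib.T2H8ASCover
import Groth.Agent.Lib.T2H8GaEtale

set_option autoImplicit false
set_option linter.unusedSectionVars false
set_option linter.style.haveILetI false
universe u
open CategoryTheory CategoryTheory.Limits Opposite AlgebraicGeometry

attribute [-instance] Groth.Agent.Lib.T2H8.AdeqRestr.instAlgebraCarrierRC
  Groth.Agent.Lib.T2H8.AdeqRestr.instIsScalarTowerCarrierRC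

namespace Groth.Agent.Lib.T2H8.ASSheaf
open Groth.Agent.Lib.T2H3.ASAlg Groth.Agent.Lib.T2H3.ArtinSchreier

variable {S : Scheme.{u}} (p : ℕ) [Fact p.Prime] (h0 : (p : Γ(S, ⊤)) = 0)

include h0 in
theorem p_zero (U : S.Etale) : (p : Γ(U.left, ⊤)) = 0 := natCast_eq_zero_of_hom p U.hom h0

/-- the function underlying a section of `G_a` -/
def dn {U : S.Etale} (x : (EtCoh.Ga S).obj.obj (op U)) : Γ(U.left, ⊤) :=
  (show ULift.{u + 1} Γ(U.left, ⊤) from x).down

/-- the section of `G_a` attached to a function -/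
def up {U : S.Etale} (a : Γ(U.left, ⊤)) : (EtCoh.Ga S).obj.obj (op U) :=
  (ULift.up a : ULift.{u + 1} Γ(U.left, ⊤))

theorem dn_up {U : S.Etale} (a : Γ(U.left, ⊤)) : dn (up a) = a := rfl
theorem up_dn {U : S.Etale} (x : (EtCoh.Ga S).obj.obj (op U)) : up (dn x) = x := rfl
theorem dn_add {U : S.Etale} (x y : (EtCoh.Ga S).obj.obj (op U)) : dn (x + y) = dn x + dn y := rfl
theorem dn_zero {U : S.Etale} : dn (0 : (EtCoh.Ga S).obj.obj (op U)) = 0 := rfl
theorem up_add {U : S.Etale} (a b : Γ(U.left, ⊤)) : up (a + b) = up a + up b := rfl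
theorem up_zero {U : S.Etale} : up (0 : Γ(U.left, ⊤)) = 0 := rfl
theorem dn_map {U V : S.Etale} (f : V ⟶ U) (x : (EtCoh.Ga S).obj.obj (op U)) :
    dn ((EtCoh.Ga S).obj.map f.op x) = f.left.appTop (dn x) := rfl
theorem dn_injective {U : S.Etale} : Function.Injective (dn (U := U)) := by
  intro x y h
  exact ULift.ext _ _ h

/-- the Artin–Schreier map on sections -/
def asHom (U : S.Etale) : (EtCoh.Ga S).obj.obj (op U) →+ (EtCoh.Ga S).obj.obj (op U) where
  toFun x := up (dn x ^ p - dn x)
  map_zero' := by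
    rw [dn_zero, zero_pow (Fact.out : p.Prime).ne_zero, sub_zero, up_zero]
  map_add' x y := by
    rw [dn_add, add_pow_p (p_zero p h0 U), ← up_add]
    congr 1
    ring

theorem dn_asHom (U : S.Etale) (x : (EtCoh.Ga S).obj.obj (op U)) :
    dn (asHom p h0 U x) = dn x ^ p - dn x := rfl

/-- the Artin–Schreier endomorphism of `G_a` -/
noncomputable def AS : EtCoh.Ga S ⟶ EtCoh.Ga S :=
  ⟨{ app := fun U => AddCommGrpCat.ofHom (asHom p h0 U.unop)
     naturality := by
      intro U V f
      ext x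
      apply dn_injective
      change dn (asHom p h0 V.unop ((EtCoh.Ga S).obj.map f x)) =
        dn ((EtCoh.Ga S).obj.map f (asHom p h0 U.unop x))
      rw [dn_asHom]
      have h1 : ∀ y, dn ((EtCoh.Ga S).obj.map f y) = f.unop.left.appTop (dn y) := fun y => rfl
      rw [h1, h1, dn_asHom, map_sub, map_pow] }⟩

theorem AS_app (U : S.Etale) (x : (EtCoh.Ga S).obj.obj (op U)) :
    dn ((AS p h0).hom.app (op U) x) = dn x ^ p - dn x := rfl


open Groth.Agent.Lib.T2H8.ASCover in
theorem epi_AS : Epi (AS p h0) := by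
  refine (Sheaf.isLocallySurjective_iff_epi' AddCommGrpCat.{u + 1} (AS p h0)).1 ?_
  refine ⟨fun {U} s => ?_⟩
  obtain ⟨V, g, hge, hgs, t, ht⟩ := exists_cover p (p_zero p h0 U) (dn s)
  haveI := hge
  let V' : S.Etale := Scheme.Etale.mk (g ≫ U.hom)
  let g' : V' ⟶ U := MorphismProperty.Over.homMk g rfl
  have hmem : (Presheaf.imageSieve (AS p h0).hom s) g' := by
    refine ⟨up t, ?_⟩
    apply dn_injective
    change dn ((AS p h0).hom.app (op V') (up t)) = dn ((EtCoh.Ga S).obj.map g'.op s)
    rw [AS_app, dn_up, dn_map]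
    exact ht
  have hcov : Sieve.ofArrows (fun _ : PUnit.{1} => V') (fun _ => g') ∈
      S.smallEtaleTopology U := by
    refine (Scheme.ofArrows_mem_smallEtaleTopology_iff (fun _ : PUnit.{1} => g')).2 ?_
    ext x
    simp only [Set.mem_iUnion, Set.mem_range, Set.mem_univ, iff_true]
    obtain ⟨y, hy⟩ := hgs.surj x
    exact ⟨⟨⟩, y, hy⟩
  refine S.smallEtaleTopology.superset_covering ?_ hcov
  rintro W f ⟨_, k, _, ⟨_⟩, rfl⟩
  exact (Presheaf.imageSieve (AS p h0).hom s).downward_closed hmem k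


/-! ### the constant sheaf `ℤ/p` -/

section cast
variable {A : Type u} [CommRing A]

/-- the image of an element of `ℤ/p` in a ring of characteristic `p` -/
def castFn (A : Type u) [CommRing A] (m : ZMod p) : A := ((m.val : ℕ) : A)

theorem natCast_mod (hA : (p : A) = 0) (x : ℕ) : ((x % p : ℕ) : A) = (x : A) := by
  conv_rhs => rw [← Nat.div_add_mod x p]
  rw [Nat.cast_add, Nat.cast_mul, hA, zero_mul, zero_add]

theorem castFn_add (hA : (p : A) = 0) (m m' : ZMod p) :
    castFn p A (m + m') = castFn p A m + castFn p A m' := by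
  unfold castFn
  rw [ZMod.val_add, natCast_mod p hA, Nat.cast_add]

theorem castFn_zero : castFn p A 0 = 0 := by
  unfold castFn
  rw [ZMod.val_zero, Nat.cast_zero]

theorem castFn_map {B : Type u} [CommRing B] (f : A →+* B) (m : ZMod p) :
    f (castFn p A m) = castFn p B m := map_natCast f _

theorem castFn_pow (hA : (p : A) = 0) (m : ZMod p) : castFn p A m ^ p - castFn p A m = 0 := by
  unfold castFn
  rw [val_pow_p hA, sub_self]

end cast

/-- the group of constants -/
abbrev Mp : AddCommGrpCat.{u + 1} := AddCommGrpCat.of (ULift.{u + 1} (ZMod p))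

/-- the constant presheaf -/
abbrev cM : (S.Etale)ᵒᵖ ⥤ AddCommGrpCat.{u + 1} := (Functor.const _).obj (Mp.{u} p)

/-- constants as functions -/
def psiHom (U : S.Etale) : ULift.{u + 1} (ZMod p) →+ (EtCoh.Ga S).obj.obj (op U) where
  toFun m := up (castFn p Γ(U.left, ⊤) m.down)
  map_zero' := by
    change up (castFn p Γ(U.left, ⊤) 0) = 0
    rw [castFn_zero, up_zero]
  map_add' m m' := by
    change up (castFn p Γ(U.left, ⊤) (m.down + m'.down)) = _
    rw [castFn_add p (p_zero p h0 U), up_add]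

theorem dn_psiHom (U : S.Etale) (m : ULift.{u + 1} (ZMod p)) :
    dn (psiHom p h0 U m) = castFn p Γ(U.left, ⊤) m.down := rfl

/-- the presheaf morphism from constants to functions -/
noncomputable def ψ : cM.{u} (S := S) p ⟶ (EtCoh.Ga S).obj where
  app U := AddCommGrpCat.ofHom (psiHom p h0 U.unop)
  naturality := by
    intro U V f
    ext m
    apply dn_injective
    change dn (psiHom p h0 V.unop m) = dn ((EtCoh.Ga S).obj.map f (psiHom p h0 U.unop m))
    have h1 : ∀ y, dn ((EtCoh.Ga S).obj.map f y) = f.unop.left.appTop (dn y) := fun y => rfl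
    rw [h1, dn_psiHom, dn_psiHom]
    exact (castFn_map p f.unop.left.appTop.hom m.down).symm

theorem ψ_app (U : S.Etale) (m : ULift.{u + 1} (ZMod p)) :
    dn ((ψ p h0).app (op U) m) = castFn p Γ(U.left, ⊤) m.down := rfl

/-- the adjunction -/
noncomputable abbrev adj :=
  sheafificationAdjunction S.smallEtaleTopology AddCommGrpCat.{u + 1}

/-- the inclusion of the constant sheaf into `G_a` -/
noncomputable def ι : EtCoh.const S (ZMod p) ⟶ EtCoh.Ga S :=
  ((adj (S := S)).homEquiv (cM p) (EtCoh.Ga S)).symm (ψ p h0)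

/-- the unit -/
noncomputable abbrev η : cM.{u} (S := S) p ⟶ (EtCoh.const S (ZMod p)).obj :=
  (adj (S := S)).unit.app (cM p)

theorem η_ι : η p ≫ (ι p h0).hom = ψ p h0 := by
  have h := (adj (S := S)).homEquiv_unit (X := cM p) (Y := EtCoh.Ga S) (f := ι p h0)
  unfold ι at h ⊢
  rw [Equiv.apply_symm_apply] at h
  exact h.symm

theorem ψ_AS : ψ p h0 ≫ (AS p h0).hom = 0 := by
  ext U m
  apply dn_injective
  change dn ((AS p h0).hom.app U ((ψ p h0).app U m)) = dn 0
  have h1 : ∀ y, dn ((AS p h0).hom.app U y) = dn y ^ p - dn y := fun y => rfl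
  have h2 : dn ((ψ p h0).app U m) = castFn p Γ(U.unop.left, ⊤) m.down := rfl
  rw [h1, h2, castFn_pow p (p_zero p h0 U.unop)]
  rfl

theorem ι_AS : ι p h0 ≫ AS p h0 = 0 := by
  apply ((adj (S := S)).homEquiv (cM p) (EtCoh.Ga S)).injective
  rw [Adjunction.homEquiv_unit, Adjunction.homEquiv_unit]
  change η p ≫ ((ι p h0).hom ≫ (AS p h0).hom) = η p ≫ 0
  rw [← Category.assoc, η_ι, ψ_AS, comp_zero]


/-! ### local injectivity -/

theorem isEmpty_of_subsingleton (X : Scheme.{u}) [Subsingleton Γ(X, ⊤)] : IsEmpty X := by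
  by_contra h
  rw [not_isEmpty_iff] at h
  haveI : Nonempty (⊤ : X.Opens) := ⟨⟨h.some, trivial⟩⟩
  have := X.component_nontrivial ⊤
  exact false_of_nontrivial_of_subsingleton Γ(X, ⊤)

theorem mem_of_isEmpty (U : S.Etale) (hU : IsEmpty U.left) (T : Sieve U) :
    T ∈ S.smallEtaleTopology U := by
  have h3 : Sieve.ofArrows (fun k : PEmpty.{1} => ((k.elim : Over U)).left)
      (fun k => ((k.elim : Over U)).hom) ∈ S.smallEtaleTopology U := by
    refine (Scheme.ofArrows_mem_smallEtaleTopology_iff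
      (fun k : PEmpty.{1} => ((k.elim : Over U)).hom)).2 ?_
    ext x
    exact (hU.false x).elim
  refine S.smallEtaleTopology.superset_covering ?_ h3
  rintro W f ⟨_, _, _, ⟨k⟩, _⟩
  exact k.elim

instance isLocallyInjective_ψ : Presheaf.IsLocallyInjective S.smallEtaleTopology (ψ p h0) where
  equalizerSieve_mem {U} x y h := by
    by_cases hxy : x = y
    · subst hxy
      rw [Presheaf.equalizerSieve_self_eq_top]
      exact S.smallEtaleTopology.top_mem _
    · apply mem_of_isEmpty
      have h1 : castFn p Γ(U.unop.left, ⊤) (ULift.down x) = castFn p Γ(U.unop.left, ⊤) (ULift.down y) :=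
        congrArg dn h
      have hne : ULift.down x ≠ ULift.down y := fun e => hxy (ULift.ext _ _ e)
      have hu := isUnit_val_sub_val (p_zero p h0 U.unop) hne
      unfold castFn at h1
      rw [h1, sub_self] at hu
      haveI : Subsingleton Γ(U.unop.left, ⊤) := subsingleton_of_zero_eq_one (isUnit_zero_iff.1 hu)
      exact isEmpty_of_subsingleton _

instance isLocallySurjective_η : Presheaf.IsLocallySurjective S.smallEtaleTopology (η.{u} (S := S) p) := by
  have h : η.{u} (S := S) p = toSheafify S.smallEtaleTopology (cM p) :=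
    sheafificationAdjunction_unit_app _ _
  rw [h]
  exact Presheaf.isLocallySurjective_toSheafify' _ _

theorem mono_ι : Mono (ι p h0) := by
  haveI : Presheaf.IsLocallyInjective S.smallEtaleTopology (ι p h0).hom :=
    Presheaf.isLocallyInjective_of_isLocallyInjective_of_isLocallySurjective_fac
      S.smallEtaleTopology (ψ p h0) (η_ι p h0)
  haveI : Sheaf.IsLocallyInjective (ι p h0) := ‹_›
  exact Sheaf.mono_of_isLocallyInjective _


/-! ### exactness -/

open Groth.Agent.Lib.T2H8.CechSurj

/-- the kernel of the Artin–Schreier map -/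
noncomputable abbrev K : EtCoh.Ab S := kernel (AS p h0)

/-- the inclusion of the kernel -/
noncomputable abbrev kι : K p h0 ⟶ EtCoh.Ga S := kernel.ι (AS p h0)

/-- the comparison from the constant sheaf -/
noncomputable abbrev φ : EtCoh.const S (ZMod p) ⟶ K p h0 :=
  kernel.lift (AS p h0) (ι p h0) (ι_AS p h0)

theorem φ_kι : φ p h0 ≫ kι p h0 = ι p h0 := kernel.lift_ι _ _ _

theorem kι_pow (U : S.Etale) (k : (K p h0).obj.obj (op U)) :
    dn ((kι p h0).hom.app (op U) k) ^ p = dn ((kι p h0).hom.app (op U) k) := by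
  have hzero : kι p h0 ≫ AS p h0 = 0 := kernel.condition _
  have h1 : (AS p h0).hom.app (op U) ((kι p h0).hom.app (op U) k) = 0 :=
    congrArg (fun m => m.hom.app (op U) k) hzero
  have h2 := congrArg dn h1
  rw [AS_app] at h2
  exact sub_eq_zero.1 h2

theorem fac_kι : (η p ≫ (φ p h0).hom) ≫ (kι p h0).hom = ψ p h0 := by
  rw [Category.assoc]
  have : (φ p h0).hom ≫ (kι p h0).hom = (ι p h0).hom := congrArg (fun m => m.hom) (φ_kι p h0)
  rw [this, η_ι]

theorem fac_kι_apply (U : S.Etale) (m : ULift.{u + 1} (ZMod p)) :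
    (kι p h0).hom.app (op U) ((φ p h0).hom.app (op U) ((η p).app (op U) m)) =
      (ψ p h0).app (op U) m :=
  congrArg (fun t => t.app (op U) m) (fac_kι p h0)

instance isLocallySurjective_ηφ :
    Presheaf.IsLocallySurjective S.smallEtaleTopology (η p ≫ (φ p h0).hom) where
  imageSieve_mem {U} k := by
    let x : Γ(U.left, ⊤) := dn ((kι p h0).hom.app (op U) k)
    have hx : x ^ p = x := kι_pow p h0 U k
    have hpU := p_zero p h0 U
    let Um : Multiplicative (ZMod p) → S.Etale :=
      fun m => Scheme.Etale.mk ((UU x m).ι ≫ U.hom)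
    let jm : ∀ m, Um m ⟶ U := fun m => MorphismProperty.Over.homMk (UU x m).ι rfl
    have hcov : Sieve.ofArrows Um jm ∈ S.smallEtaleTopology U := by
      refine (Scheme.ofArrows_mem_smallEtaleTopology_iff jm).2 ?_
      ext y
      simp only [Set.mem_iUnion, Set.mem_range, Set.mem_univ, iff_true]
      have hy : y ∈ (⨆ m : Multiplicative (ZMod p), UU x m : U.left.Opens) := by
        rw [UU_cover hpU x]
        trivial
      obtain ⟨m, hm⟩ := TopologicalSpace.Opens.mem_iSup.1 hy
      exact ⟨m, ⟨y, hm⟩, rfl⟩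
    refine S.smallEtaleTopology.superset_covering ?_ hcov
    rintro W f ⟨_, g, _, ⟨m⟩, rfl⟩
    refine (Presheaf.imageSieve (η p ≫ (φ p h0).hom) k).downward_closed ?_ g
    refine ⟨(ULift.up (Multiplicative.toAdd m) : ULift.{u + 1} (ZMod p)), ?_⟩
    haveI : Mono (kι p h0) := inferInstance
    apply sect_injective (kι p h0) (Um m)
    change (kι p h0).hom.app (op (Um m)) ((φ p h0).hom.app (op (Um m))
      ((η p).app (op (Um m)) (ULift.up (Multiplicative.toAdd m)))) =
      (kι p h0).hom.app (op (Um m)) ((K p h0).obj.map (jm m).op k)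
    rw [fac_kι_apply, nat_apply]
    apply dn_injective
    rw [ψ_app, dn_map]
    exact (ι_appTop_UU hpU x hx m).symm

theorem epi_φ : Epi (φ p h0) := by
  haveI : Presheaf.IsLocallySurjective S.smallEtaleTopology (φ p h0).hom :=
    Presheaf.isLocallySurjective_of_isLocallySurjective_fac S.smallEtaleTopology
      (f₁ := η p) (f₂ := (φ p h0).hom) rfl
  haveI : Sheaf.IsLocallySurjective (φ p h0) := ‹_›
  exact Sheaf.epi_of_isLocallySurjective _

/-- the Artin–Schreier short complex -/
noncomputable def asComplex : ShortComplex (EtCoh.Ab S) :=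
  ShortComplex.mk (ι p h0) (AS p h0) (ι_AS p h0)

theorem asComplex_shortExact : (asComplex p h0).ShortExact := by
  haveI := mono_ι p h0
  haveI := epi_AS p h0
  haveI := epi_φ p h0
  have hex : (asComplex p h0).Exact := by
    rw [ShortComplex.exact_iff_epi_kernel_lift]
    exact epi_φ p h0
  exact ShortComplex.ShortExact.mk' hex (mono_ι p h0) (epi_AS p h0)


include h0 in
/-- vanishing of the cohomology of `ℤ/p` in degrees `≥ 2` on an affine scheme of
characteristic `p` -/
theorem subsingleton_H_const [IsAffine S] (n : ℕ) :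
    Subsingleton (EtCoh.H S (EtCoh.const S (ZMod p)) (n + 2)) := by
  have hS := asComplex_shortExact p h0
  haveI h1 : Subsingleton (EtCoh.H S (EtCoh.Ga S) (n + 1)) :=
    Groth.Agent.Lib.T2H8.GaEtale.subsingleton_H_Ga S n
  haveI h2 : Subsingleton (EtCoh.H S (EtCoh.Ga S) (n + 1 + 1)) :=
    Groth.Agent.Lib.T2H8.GaEtale.subsingleton_H_Ga S (n + 1)
  refine subsingleton_of_forall_eq 0 (fun x => ?_)
  have hx : x.comp (Abelian.Ext.mk₀ (asComplex p h0).f) (add_zero (n + 2)) = 0 :=
    Subsingleton.elim (α := EtCoh.H S (EtCoh.Ga S) (n + 1 + 1)) _ _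
  obtain ⟨x₃, hx₃⟩ := Abelian.Ext.covariant_sequence_exact₁ _ hS x hx (n₀ := n + 1) rfl
  have h0' : x₃ = 0 := Subsingleton.elim (α := EtCoh.H S (EtCoh.Ga S) (n + 1)) _ _
  rw [← hx₃, h0', Abelian.Ext.zero_comp]
  rfl

end Groth.Agent.Lib.T2H8.ASSheaf
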