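import Mathlib
import Groth.Prelude.Def_HTop2
import Groth.Agent.S0415
import Groth.Agent.S7419
import Groth.Agent.S7423
import Groth.Agent.Lib.Helper20AWN
import Groth.Agent.Lib.Helper20AWNRing

/-!
# Functoriality of the absolute weak normalization of rings, and localization (helper8)

* `UH_baseChange` : the ring-theoretic universal homeomorphism property is stable under base change.
* `hom_unique`, `exists_hom` : maps out of a universal homeomorphism `A → C` into an absolute weak
  normalization `A' → W'`, over a ring map `A → A'`, exist and are unique.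
* `awnMap` : the induced map `awn A → awn A'`.
* `isLocalization_away_awnMap` : `awn` commutes with localization at one element.
-/

set_option autoImplicit false
set_option linter.style.haveILetI false

universe u

namespace Groth.Agent.Lib.T2H8.AWNRingMap

open AlgebraicGeometry CategoryTheory TensorProduct
open Groth.Agent.Lib.Helper20.AWN

instance : MorphismProperty.IsStableUnderBaseChange FlatMor.IsUnivHomeo.{u} := by
  unfold FlatMor.IsUnivHomeo
  infer_instance

instance : MorphismProperty.RespectsIso FlatMor.IsUnivHomeo.{u} := by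
  unfold FlatMor.IsUnivHomeo
  infer_instance

/-- `UH` is stable under base change. -/
theorem UH_baseChange {A A' C : Type u} [CommRing A] [CommRing A'] [CommRing C] [Algebra A A']
    [Algebra A C] (h : UH (algebraMap A C)) :
    UH (Algebra.TensorProduct.includeLeftRingHom : A' →+* A' ⊗[A] C) := by
  rw [← isUnivHomeo_iff_UH] at h ⊢
  have hpo := CommRingCat.isPushout_tensorProduct A A' C
  have hpb := isPullback_SpecMap_of_isPushout _ _ _ _ hpo
  exact MorphismProperty.of_isPullback (P := FlatMor.IsUnivHomeo) hpb.flip h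

section Hom

variable {A A' C W' : Type u} [CommRing A] [CommRing A'] [CommRing C] [CommRing W']

/-- Uniqueness of maps from a universal homeomorphism into an absolute weak normalization. -/
theorem hom_unique (ψ : A →+* C) (hψ : UH ψ) (ρ : A →+* A') (φ' : A' →+* W')
    (hφ' : HTop.IsRingAWN φ') (m₁ m₂ : C →+* W') (h₁ : m₁.comp ψ = φ'.comp ρ)
    (h₂ : m₂.comp ψ = φ'.comp ρ) : m₁ = m₂ := by
  haveI : IsReduced W' := isReduced_of_isRingAWN φ' hφ'
  refine RingHom.ext fun c => ?_
  apply delta_injective (W := W')
  funext q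
  have := hψ.2.2 (AlgebraicClosure q.asIdeal.ResidueField)
    (((Pi.evalRingHom (fun p : PrimeSpectrum W' => AlgebraicClosure p.asIdeal.ResidueField) q).comp
      (delta W')).comp m₁)
    (((Pi.evalRingHom (fun p : PrimeSpectrum W' => AlgebraicClosure p.asIdeal.ResidueField) q).comp
      (delta W')).comp m₂)
    (by rw [RingHom.comp_assoc _ m₁, RingHom.comp_assoc _ m₂, h₁, h₂])
  exact RingHom.congr_fun this c

/-- Existence of maps from a universal homeomorphism into an absolute weak normalization. -/
theorem exists_hom (ψ : A →+* C) (hψ : UH ψ) (ρ : A →+* A') (φ' : A' →+* W')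
    (hφ' : HTop.IsRingAWN φ') : ∃ m : C →+* W', m.comp ψ = φ'.comp ρ := by
  letI : Algebra A A' := ρ.toAlgebra
  letI : Algebra A C := ψ.toAlgebra
  have hbc : UH (Algebra.TensorProduct.includeLeftRingHom : A' →+* A' ⊗[A] C) :=
    UH_baseChange (A := A) (A' := A') (C := C) hψ
  obtain ⟨χ, hχ, -⟩ := hφ'.2 (A' ⊗[A] C) _ ((isUnivHomeo_iff_UH _).mpr hbc)
  refine ⟨χ.comp (Algebra.TensorProduct.includeRight : C →ₐ[A] A' ⊗[A] C).toRingHom, ?_⟩
  refine RingHom.ext fun a => ?_
  have e1 : (Algebra.TensorProduct.includeRight : C →ₐ[A] A' ⊗[A] C) (ψ a) =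
      (Algebra.TensorProduct.includeLeftRingHom : A' →+* A' ⊗[A] C) (ρ a) := by
    have h1 : (Algebra.TensorProduct.includeRight : C →ₐ[A] A' ⊗[A] C) (algebraMap A C a) =
      algebraMap A (A' ⊗[A] C) a := AlgHom.commutes _ a
    have h2 : (Algebra.TensorProduct.includeLeft : A' →ₐ[A] A' ⊗[A] C) (algebraMap A A' a) =
      algebraMap A (A' ⊗[A] C) a := AlgHom.commutes _ a
    exact h1.trans h2.symm
  have e2 := RingHom.congr_fun hχ (ρ a)
  simp only [RingHom.comp_apply] at e2 ⊢
  rw [← e2]
  exact congrArg χ e1

end Hom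

section AwnMap

variable {A A' A'' : Type u} [CommRing A] [CommRing A'] [CommRing A'']

/-- The map induced on absolute weak normalizations. -/
noncomputable def awnMap (ρ : A →+* A') : awn A →+* awn A' :=
  (exists_hom (toAwn A) (UH_toAwn A) ρ (toAwn A') (isRingAWN_toAwn A')).choose

theorem awnMap_comp_toAwn (ρ : A →+* A') : (awnMap ρ).comp (toAwn A) = (toAwn A').comp ρ :=
  (exists_hom (toAwn A) (UH_toAwn A) ρ (toAwn A') (isRingAWN_toAwn A')).choose_spec

theorem awnMap_toAwn (ρ : A →+* A') (a : A) : awnMap ρ (toAwn A a) = toAwn A' (ρ a) :=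
  RingHom.congr_fun (awnMap_comp_toAwn ρ) a

theorem awnMap_unique (ρ : A →+* A') (m : awn A →+* awn A')
    (h : m.comp (toAwn A) = (toAwn A').comp ρ) : m = awnMap ρ :=
  hom_unique (toAwn A) (UH_toAwn A) ρ (toAwn A') (isRingAWN_toAwn A') _ _ h (awnMap_comp_toAwn ρ)

theorem awnMap_id : awnMap (RingHom.id A) = RingHom.id (awn A) :=
  (awnMap_unique _ _ (by rw [RingHom.id_comp, RingHom.comp_id])).symm

theorem awnMap_comp (ρ : A →+* A') (ρ' : A' →+* A'') :
    awnMap (ρ'.comp ρ) = (awnMap ρ').comp (awnMap ρ) :=
  (awnMap_unique _ _ (by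
    rw [RingHom.comp_assoc, awnMap_comp_toAwn, ← RingHom.comp_assoc, awnMap_comp_toAwn,
      RingHom.comp_assoc])).symm

/-- Maps out of a universal homeomorphism into `awn A'`: the comparison maps are compatible with
`awnMap`. -/
theorem cmp_unique {C : Type u} [CommRing C] (ψ : A →+* C) (hψ : UH ψ) (ρ : A →+* A')
    (m₁ m₂ : C →+* awn A') (h₁ : m₁.comp ψ = (toAwn A').comp ρ)
    (h₂ : m₂.comp ψ = (toAwn A').comp ρ) : m₁ = m₂ :=
  hom_unique ψ hψ ρ (toAwn A') (isRingAWN_toAwn A') m₁ m₂ h₁ h₂

end AwnMap

section Localization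

variable {A A' : Type u} [CommRing A] [CommRing A'] [Algebra A A']

/-- The absolute weak normalization commutes with localization at one element. -/
theorem isLocalization_away_awnMap (f : A) [IsLocalization.Away f A'] :
    letI := (awnMap (algebraMap A A')).toAlgebra
    IsLocalization.Away (toAwn A f) (awn A') := by
  letI := (awnMap (algebraMap A A')).toAlgebra
  let W := awn A
  let g : W := toAwn A f
  let B := Localization.Away g
  have hu : IsUnit (((algebraMap W B).comp (toAwn A)) f) := IsLocalization.Away.algebraMap_isUnit g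
  let ψ : A' →+* B := IsLocalization.Away.lift f hu
  have hψ1 : ψ.comp (algebraMap A A') = (algebraMap W B).comp (toAwn A) :=
    IsLocalization.Away.lift_comp f hu
  haveI : IsLocalization ((Submonoid.powers f).map (toAwn A)) B := by
    rw [Submonoid.map_powers]
    exact (inferInstance : IsLocalization.Away g B)
  have hpo := CommRingCat.isPushout_of_isLocalization (toAwn A) ψ hψ1 (Submonoid.powers f)
  have hpb := isPullback_SpecMap_of_isPushout _ _ _ _ hpo
  have hUH : FlatMor.IsUnivHomeo (Spec.map (CommRingCat.ofHom ψ)) :=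
    MorphismProperty.of_isPullback (P := FlatMor.IsUnivHomeo) hpb
      ((isUnivHomeo_iff_UH _).mpr (UH_toAwn A))
  have hW : HTop.IsAWNRing W := isAWNRing_of_isRingAWN (toAwn A) (isRingAWN_toAwn A)
  have hB : HTop.IsAWNRing B := Groth.Agent.S7419.result.1 W g hW
  obtain ⟨χ, hχ, -⟩ := (isRingAWN_toAwn A').2 B ψ hUH
  have hbij : Function.Bijective χ :=
    (Groth.Agent.S7423.result (toAwn A') (isRingAWN_toAwn A') ψ hUH χ hχ).mpr hB
  have hmap : awnMap (algebraMap A A') = χ.comp (algebraMap W B) := by
    symm
    apply awnMap_unique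
    rw [RingHom.comp_assoc, ← hψ1, ← RingHom.comp_assoc, hχ]
  let e : B ≃ₐ[W] awn A' :=
    { RingEquiv.ofBijective χ hbij with
      commutes' := fun w => by
        show χ (algebraMap W B w) = awnMap (algebraMap A A') w
        rw [hmap]
        rfl }
  exact IsLocalization.isLocalization_of_algEquiv (Submonoid.powers g) e

end Localization

end Groth.Agent.Lib.T2H8.AWNRingMap
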