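import Mathlib
import Groth.Prelude.Def_HTop2
import Groth.Agent.S0415
import Groth.Agent.S7420
import Groth.Agent.Lib.Helper20Perfection
import Groth.Agent.Lib.T2H8AWNRingMap

/-!
# The absolute weak normalization of a scheme (helper8)

Glue the spectra of `awn Γ(X, U)` over the affine opens `U` of `X` with Mathlib's relative gluing.
-/

set_option autoImplicit false
set_option linter.style.haveILetI false

universe u

namespace Groth.Agent.Lib.T2H8.AWNSch

open AlgebraicGeometry CategoryTheory Limits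
open Groth.Agent.Lib.Helper20.AWN Groth.Agent.Lib.T2H8.AWNRingMap
open AlgebraicGeometry.Scheme AlgebraicGeometry.Scheme.AffineZariskiSite

variable (X : Scheme.{u})

/-- Restriction maps between sections over affine opens. -/
noncomputable def res {U V : X.AffineZariskiSite} (i : U ⟶ V) :
    Γ(X, V.toOpens) →+* Γ(X, U.toOpens) :=
  (X.presheaf.map (homOfLE (toOpens_mono i.le)).op).hom

theorem res_id (U : X.AffineZariskiSite) (x : Γ(X, U.toOpens)) : res X (𝟙 U) x = x := by
  have : X.presheaf.map (homOfLE (toOpens_mono (𝟙 U : U ⟶ U).le)).op = 𝟙 _ :=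
    X.presheaf.map_id _
  exact ConcreteCategory.congr_hom this x

theorem res_comp {U V W : X.AffineZariskiSite} (i : U ⟶ V) (j : V ⟶ W) (x : Γ(X, W.toOpens)) :
    res X (i ≫ j) x = res X i (res X j x) := by
  have : X.presheaf.map (homOfLE (toOpens_mono (i ≫ j).le)).op =
      X.presheaf.map (homOfLE (toOpens_mono j.le)).op ≫
        X.presheaf.map (homOfLE (toOpens_mono i.le)).op := by
    rw [← X.presheaf.map_comp]
    rfl
  exact ConcreteCategory.congr_hom this x

/-- The presheaf of absolute weak normalizations on the affine opens. -/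
noncomputable def awnDiagram : X.AffineZariskiSiteᵒᵖ ⥤ CommRingCat.{u} where
  obj U := .of (awn Γ(X, U.unop.toOpens))
  map {U V} i := CommRingCat.ofHom (awnMap (res X i.unop))
  map_id U := by
    apply CommRingCat.hom_ext
    symm
    apply awnMap_unique
    refine RingHom.ext fun x => ?_
    show toAwn _ x = toAwn _ (res X (𝟙 U.unop) x)
    exact congrArg _ (res_id X _ x).symm
  map_comp {U V W} i j := by
    apply CommRingCat.hom_ext
    symm
    apply awnMap_unique
    refine RingHom.ext fun x => ?_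
    show awnMap (res X j.unop) (awnMap (res X i.unop) (toAwn _ x)) =
      toAwn _ (res X (j.unop ≫ i.unop) x)
    exact ((congrArg _ (awnMap_toAwn _ x)).trans (awnMap_toAwn _ _)).trans
      (congrArg _ (res_comp X _ _ x).symm)

/-- The structure map to the presheaf of absolute weak normalizations. -/
noncomputable def awnDiagramMap : (toOpensFunctor X).op ⋙ X.presheaf ⟶ awnDiagram X where
  app U := CommRingCat.ofHom (toAwn Γ(X, U.unop.toOpens))
  naturality {U V} i := by
    ext x
    exact (awnMap_toAwn (res X i.unop) x).symm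

lemma coequifibered_awnDiagramMap : (awnDiagramMap X).Coequifibered := by
  refine coequifibered_iff_forall_isLocalizationAway.mpr fun U r => ?_
  letI : Algebra Γ(X, U.1) Γ(X, (U.basicOpen r).1) :=
    (res X (homOfLE (U.basicOpen_le r))).toAlgebra
  haveI : IsLocalization.Away r Γ(X, (U.basicOpen r).1) := U.2.isLocalization_basicOpen r
  exact isLocalization_away_awnMap (A := Γ(X, U.1)) (A' := Γ(X, (U.basicOpen r).1)) r

/-- The relative gluing data. -/
noncomputable def awnGlueData := relativeGluingData (coequifibered_awnDiagramMap X)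

instance : ((awnGlueData X).functor ⋙ Scheme.forget).IsLocallyDirected :=
  Cover.RelativeGluingData.instIsLocallyDirectedI₀CompFunctorForgetOfIsThin ..

/-- The absolute weak normalization of a scheme. -/
noncomputable def awnScheme : Scheme.{u} := (awnGlueData X).glued

/-- The open cover of `awnScheme X` by the `Spec (awn Γ(X, U))`. -/
noncomputable def awnCover : (awnScheme X).OpenCover := (awnGlueData X).cover

/-- The structure morphism. -/
noncomputable def fromAwn : awnScheme X ⟶ X := (awnGlueData X).toBase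

@[reassoc]
lemma ι_fromAwn (U : X.affineOpens) :
    (awnCover X).f U ≫ fromAwn X =
      Spec.map ((awnDiagramMap X).app (.op U)) ≫ U.2.fromSpec :=
  colimit.ι_desc _ _

set_option backward.isDefEq.respectTransparency.types false in
lemma fromAwn_preimage (U : X.affineOpens) :
    fromAwn X ⁻¹ᵁ U = ((awnCover X).f U).opensRange := by
  simpa using! (awnGlueData X).toBase_preimage_eq_opensRange_ι U

set_option backward.isDefEq.respectTransparency false in
/-- Over an affine open, `fromAwn` is `Spec` of `toAwn`, for properties respecting isomorphisms. -/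
lemma fromAwn_restrict_iff (P : MorphismProperty Scheme.{u}) [P.RespectsIso] (U : X.affineOpens) :
    P (fromAwn X ∣_ U) ↔ P (Spec.map ((awnDiagramMap X).app (.op U))) := by
  let ι' : Spec ((awnDiagram X).obj (.op U)) ⟶ awnScheme X := (awnCover X).f U
  haveI : IsOpenImmersion ι' := inferInstanceAs (IsOpenImmersion ((awnCover X).f U))
  have hι' : ι' ≫ fromAwn X = Spec.map ((awnDiagramMap X).app (.op U)) ≫ U.2.fromSpec :=
    ι_fromAwn X U
  let e : ((fromAwn X ⁻¹ᵁ U : (awnScheme X).Opens) : Scheme.{u}) ≅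
      Spec ((awnDiagram X).obj (.op U)) :=
    IsOpenImmersion.isoOfRangeEq (fromAwn X ⁻¹ᵁ U).ι ι'
      (by
        have h1 : Set.range (fromAwn X ⁻¹ᵁ U).ι = (fromAwn X ⁻¹ᵁ (U : X.Opens) : Set _) :=
          Scheme.Opens.range_ι _
        rw [h1, fromAwn_preimage X U]
        rfl)
  have he : e.hom ≫ ι' = (fromAwn X ⁻¹ᵁ U).ι := IsOpenImmersion.isoOfRangeEq_hom_fac _ _ _
  refine P.arrow_mk_iso_iff (Arrow.isoMk e U.2.isoSpec ?_)
  show e.hom ≫ Spec.map ((awnDiagramMap X).app (.op U)) = (fromAwn X ∣_ U) ≫ U.2.isoSpec.hom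
  rw [← cancel_mono U.2.fromSpec, Category.assoc, ← hι', ← Category.assoc, he, Category.assoc,
    IsAffineOpen.isoSpec_hom, IsAffineOpen.toSpecΓ_fromSpec, morphismRestrict_ι]

/-- `fromAwn X` is a universal homeomorphism. -/
theorem isUnivHomeo_fromAwn : FlatMor.IsUnivHomeo (fromAwn X) := by
  apply Groth.Agent.Lib.Helper20.Perfection.isUnivHomeo_of_forall_exists_restrict
  intro x
  obtain ⟨_, ⟨U, hU, rfl⟩, hxU, -⟩ :=
    X.isBasis_affineOpens.exists_subset_of_mem_open (Set.mem_univ x) isOpen_univ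
  refine ⟨U, hxU, (fromAwn_restrict_iff X FlatMor.IsUnivHomeo ⟨U, hU⟩).mpr ?_⟩
  exact (isUnivHomeo_iff_UH _).mpr (UH_toAwn _)

/-- Absolute weak normality of rings is invariant under ring isomorphisms. -/
theorem isAWNRing_of_ringEquiv {B W : Type u} [CommRing B] [CommRing W] (e : B ≃+* W)
    (hW : HTop.IsAWNRing W) : HTop.IsAWNRing B := by
  refine ⟨?_, ?_⟩
  · intro x y hxy
    have hxy' : e x ^ 3 = e y ^ 2 := by rw [← map_pow, ← map_pow, hxy]
    obtain ⟨a, ⟨ha2, ha3⟩, huniq⟩ := hW.1 (e x) (e y) hxy'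
    refine ⟨e.symm a, ⟨?_, ?_⟩, ?_⟩
    · apply e.injective; rw [map_pow, e.apply_symm_apply]; exact ha2
    · apply e.injective; rw [map_pow, e.apply_symm_apply]; exact ha3
    · rintro a' ⟨h2, h3⟩
      have := huniq (e a') ⟨by rw [h2, map_pow], by rw [h3, map_pow]⟩
      rw [← this, e.symm_apply_apply]
  · intro p hp x y hxy
    have hxy' : (p : W) ^ p * e x = e y ^ p := by
      rw [← map_pow, ← hxy, map_mul, map_pow, map_natCast]
    obtain ⟨a, ⟨ha1, ha2⟩, huniq⟩ := hW.2 p hp (e x) (e y) hxy'
    refine ⟨e.symm a, ⟨?_, ?_⟩, ?_⟩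
    · apply e.injective; rw [map_pow, e.apply_symm_apply]; exact ha1
    · apply e.injective; rw [map_mul, map_natCast, e.apply_symm_apply]; exact ha2
    · rintro a' ⟨h1, h2⟩
      have := huniq (e a') ⟨by rw [h1, map_pow], by rw [h2, map_mul, map_natCast]⟩
      rw [← this, e.symm_apply_apply]

theorem isAWNRing_awn (A : Type u) [CommRing A] : HTop.IsAWNRing (awn A) :=
  isAWNRing_of_isRingAWN (toAwn A) (isRingAWN_toAwn A)

set_option backward.isDefEq.respectTransparency false in
/-- `awnScheme X` is absolutely weakly normal. -/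
theorem isAWN_awnScheme : HTop.IsAWN (awnScheme X) := by
  intro x
  obtain ⟨U, y, rfl⟩ := (awnCover X).exists_eq x
  let ι' : Spec ((awnDiagram X).obj (.op U)) ⟶ awnScheme X := (awnCover X).f U
  haveI : IsOpenImmersion ι' := inferInstanceAs (IsOpenImmersion ((awnCover X).f U))
  have hV : IsAffineOpen ι'.opensRange := isAffineOpen_opensRange ι'
  refine ⟨⟨ι'.opensRange, hV⟩, ⟨y, rfl⟩, ?_⟩
  let e1 : Γ(awnScheme X, ι'.opensRange) ≅ (awnDiagram X).obj (.op U) :=
    (IsOpenImmersion.ΓIsoTop ι').symm ≪≫ Scheme.ΓSpecIso _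
  exact isAWNRing_of_ringEquiv e1.commRingCatIsoToRingEquiv (isAWNRing_awn _)

section Univ

variable {X} {Y : Scheme.{u}} (π : Y ⟶ X)

theorem isIntegralHom_of_isUnivHomeo (hπ : FlatMor.IsUnivHomeo π) : IsIntegralHom π :=
  ((Groth.Agent.S0415.result π).mp hπ).1

/-- The square exhibiting `Spec.map (π.app U)` as a base change of `π`. -/
theorem isPullback_SpecMap_app [IsAffineHom π] (U : X.AffineZariskiSite) :
    IsPullback (Spec.map (π.app U.toOpens)) (U.2.preimage π).fromSpec U.2.fromSpec π := by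
  apply IsOpenImmersion.isPullback
  · rw [Scheme.Hom.app_eq_appLE]
    exact (IsAffineOpen.SpecMap_appLE_fromSpec π U.2 (U.2.preimage π) le_rfl).symm
  · rw [IsAffineOpen.opensRange_fromSpec, IsAffineOpen.opensRange_fromSpec]

theorem UH_app (hπ : FlatMor.IsUnivHomeo π) (U : X.AffineZariskiSite) :
    UH (π.app U.toOpens).hom := by
  haveI := isIntegralHom_of_isUnivHomeo π hπ
  rw [← isUnivHomeo_iff_UH]
  exact MorphismProperty.of_isPullback (P := FlatMor.IsUnivHomeo) (isPullback_SpecMap_app π U).flip hπ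

/-- The comparison maps `Γ(Y, π⁻¹U) → awn Γ(X, U)`. -/
noncomputable def chi (hπ : FlatMor.IsUnivHomeo π) (U : X.AffineZariskiSite) :
    Γ(Y, π ⁻¹ᵁ U.toOpens) →+* awn Γ(X, U.toOpens) :=
  (exists_hom (π.app U.toOpens).hom (UH_app π hπ U) (RingHom.id _) (toAwn _)
    (isRingAWN_toAwn _)).choose

theorem chi_comp (hπ : FlatMor.IsUnivHomeo π) (U : X.AffineZariskiSite) :
    (chi π hπ U).comp (π.app U.toOpens).hom = toAwn _ :=
  (exists_hom (π.app U.toOpens).hom (UH_app π hπ U) (RingHom.id _) (toAwn _)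
    (isRingAWN_toAwn _)).choose_spec

theorem chi_app (hπ : FlatMor.IsUnivHomeo π) (U : X.AffineZariskiSite) (a : Γ(X, U.toOpens)) :
    chi π hπ U ((π.app U.toOpens).hom a) = toAwn _ a :=
  RingHom.congr_fun (chi_comp π hπ U) a

theorem chi_unique (hπ : FlatMor.IsUnivHomeo π) (U : X.AffineZariskiSite)
    (m : Γ(Y, π ⁻¹ᵁ U.toOpens) →+* awn Γ(X, U.toOpens))
    (h : m.comp (π.app U.toOpens).hom = toAwn _) : m = chi π hπ U :=
  cmp_unique (π.app U.toOpens).hom (UH_app π hπ U) (RingHom.id _) _ _ h (chi_comp π hπ U)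

/-- Restriction maps on the source. -/
noncomputable def resY {U V : X.AffineZariskiSite} (i : U ⟶ V) :
    Γ(Y, π ⁻¹ᵁ V.toOpens) →+* Γ(Y, π ⁻¹ᵁ U.toOpens) :=
  (Y.presheaf.map (homOfLE (π.preimage_mono (toOpens_mono i.le))).op).hom

theorem resY_app {U V : X.AffineZariskiSite} (i : U ⟶ V) (a : Γ(X, V.toOpens)) :
    resY π i ((π.app V.toOpens).hom a) = (π.app U.toOpens).hom (res X i a) :=
  (ConcreteCategory.congr_hom (π.naturality (homOfLE (toOpens_mono i.le)).op) a).symm

theorem chi_natural (hπ : FlatMor.IsUnivHomeo π) {U V : X.AffineZariskiSite} (i : U ⟶ V)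
    (c : Γ(Y, π ⁻¹ᵁ V.toOpens)) :
    awnMap (res X i) (chi π hπ V c) = chi π hπ U (resY π i c) := by
  have key := cmp_unique (π.app V.toOpens).hom (UH_app π hπ V) (res X i)
    ((awnMap (res X i)).comp (chi π hπ V)) ((chi π hπ U).comp (resY π i)) ?_ ?_
  · exact RingHom.congr_fun key c
  · refine RingHom.ext fun a => ?_
    show awnMap (res X i) (chi π hπ V ((π.app V.toOpens).hom a)) = toAwn _ (res X i a)
    exact (congrArg (awnMap (res X i)) (chi_app π hπ V a)).trans (awnMap_toAwn _ a)
  · refine RingHom.ext fun a => ?_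
    show chi π hπ U (resY π i ((π.app V.toOpens).hom a)) = toAwn _ (res X i a)
    exact (congrArg _ (resY_app π i a)).trans (chi_app π hπ U _)

/-- The local pieces of the comparison morphism. -/
noncomputable def piece (hπ : FlatMor.IsUnivHomeo π) (U : X.AffineZariskiSite) :
    Spec ((awnDiagram X).obj (.op U)) ⟶ Y :=
  Spec.map (CommRingCat.ofHom (chi π hπ U)) ≫
    (IsAffineHom.isAffine_preimage (self :=
      (isIntegralHom_of_isUnivHomeo π hπ).toIsAffineHom) U.toOpens U.2).fromSpec

set_option backward.isDefEq.respectTransparency false in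
theorem piece_natural (hπ : FlatMor.IsUnivHomeo π) {U V : X.AffineZariskiSite} (i : U ⟶ V) :
    Spec.map ((awnDiagram X).map i.op) ≫ piece π hπ V = piece π hπ U := by
  haveI := isIntegralHom_of_isUnivHomeo π hπ
  unfold piece
  have h1 : CommRingCat.ofHom (chi π hπ V) ≫ (awnDiagram X).map i.op =
      Y.presheaf.map (homOfLE (π.preimage_mono (toOpens_mono i.le))).op ≫
        CommRingCat.ofHom (chi π hπ U) := by
    ext c
    exact chi_natural π hπ i c
  rw [← Category.assoc, ← Spec.map_comp, h1, Spec.map_comp, Category.assoc]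
  congr 1
  exact (V.2.preimage π).map_fromSpec (U.2.preimage π) _

set_option backward.isDefEq.respectTransparency false in
/-- The cocone defining the comparison morphism. -/
noncomputable def cocone (hπ : FlatMor.IsUnivHomeo π) : Cocone (awnGlueData X).functor where
  pt := Y
  ι :=
    { app := fun U => piece π hπ U
      naturality := fun U V i => by
        show Spec.map ((awnDiagram X).map i.op) ≫ piece π hπ V = piece π hπ U ≫ 𝟙 _
        rw [Category.comp_id]
        exact piece_natural π hπ i }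

/-- The comparison morphism `awnScheme X ⟶ Y` for a universal homeomorphism `π : Y ⟶ X`. -/
noncomputable def desc (hπ : FlatMor.IsUnivHomeo π) : awnScheme X ⟶ Y :=
  colimit.desc (awnGlueData X).functor (cocone π hπ)

@[reassoc]
theorem ι_desc (hπ : FlatMor.IsUnivHomeo π) (U : X.AffineZariskiSite) :
    (awnCover X).f U ≫ desc π hπ = piece π hπ U :=
  colimit.ι_desc _ _

theorem SpecMap_app_fromSpec [IsAffineHom π] (U : X.AffineZariskiSite) :
    Spec.map (π.app U.toOpens) ≫ U.2.fromSpec = (U.2.preimage π).fromSpec ≫ π :=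
  (isPullback_SpecMap_app π U).w

theorem piece_comp (hπ : FlatMor.IsUnivHomeo π) (U : X.AffineZariskiSite) :
    piece π hπ U ≫ π = Spec.map ((awnDiagramMap X).app (.op U)) ≫ U.2.fromSpec := by
  haveI := isIntegralHom_of_isUnivHomeo π hπ
  unfold piece
  rw [Category.assoc, ← SpecMap_app_fromSpec π U, ← Category.assoc, ← Spec.map_comp]
  congr 2
  ext a
  exact chi_app π hπ U a

theorem desc_comp (hπ : FlatMor.IsUnivHomeo π) : desc π hπ ≫ π = fromAwn X := by
  apply (awnCover X).hom_ext
  intro U
  rw [← Category.assoc]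
  exact ((congrArg (· ≫ π) (ι_desc π hπ U)).trans (piece_comp π hπ U)).trans (ι_fromAwn X U).symm

set_option backward.isDefEq.respectTransparency false in
theorem desc_unique (hπ : FlatMor.IsUnivHomeo π) (h' : awnScheme X ⟶ Y)
    (hh : h' ≫ π = fromAwn X) : h' = desc π hπ := by
  haveI := isIntegralHom_of_isUnivHomeo π hπ
  apply (awnCover X).hom_ext
  intro U
  refine Eq.trans ?_ (ι_desc π hπ U).symm
  let ι' : Spec ((awnDiagram X).obj (.op U)) ⟶ awnScheme X := (awnCover X).f U
  have hι' : ι' ≫ fromAwn X = Spec.map ((awnDiagramMap X).app (.op U)) ≫ U.2.fromSpec :=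
    ι_fromAwn X U
  show ι' ≫ h' = piece π hπ U
  have hU' : IsAffineOpen (π ⁻¹ᵁ U.toOpens) := U.2.preimage π
  have hg : (ι' ≫ h') ≫ π = Spec.map ((awnDiagramMap X).app (.op U)) ≫ U.2.fromSpec := by
    rw [Category.assoc, hh, hι']
  have hr : Set.range (ι' ≫ h').base ⊆ Set.range hU'.fromSpec.base := by
    rw [hU'.range_fromSpec]
    rintro _ ⟨z, rfl⟩
    show π.base ((ι' ≫ h').base z) ∈ U.toOpens
    have e1 : π.base ((ι' ≫ h').base z) = ((ι' ≫ h') ≫ π).base z := rfl
    rw [e1, hg]
    have e2 : (Spec.map ((awnDiagramMap X).app (.op U)) ≫ U.2.fromSpec).base z =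
      U.2.fromSpec.base ((Spec.map ((awnDiagramMap X).app (.op U))).base z) := rfl
    rw [e2]
    have : U.2.fromSpec.base ((Spec.map ((awnDiagramMap X).app (.op U))).base z) ∈
        Set.range U.2.fromSpec.base := ⟨_, rfl⟩
    rwa [U.2.range_fromSpec] at this
  let g' := IsOpenImmersion.lift hU'.fromSpec (ι' ≫ h') hr
  have hg' : g' ≫ hU'.fromSpec = ι' ≫ h' := IsOpenImmersion.lift_fac _ _ _
  obtain ⟨m, hm⟩ : ∃ m, Spec.map m = g' := ⟨Spec.preimage g', Spec.map_preimage g'⟩
  have hm1 : π.app U.toOpens ≫ m = (awnDiagramMap X).app (.op U) := by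
    apply Spec.map_injective
    rw [Spec.map_comp, ← cancel_mono U.2.fromSpec, Category.assoc, SpecMap_app_fromSpec π U,
      ← Category.assoc, hm, hg', hg]
  have hm2 : m.hom = chi π hπ U := by
    apply chi_unique π hπ U m.hom
    refine RingHom.ext fun a => ?_
    exact ConcreteCategory.congr_hom hm1 a
  rw [← hg', ← hm]
  unfold piece
  congr 2
  ext a
  exact RingHom.congr_fun hm2 a

/-- `fromAwn X` is an absolute weak normalization of `X`. -/
theorem isAWNormalization_fromAwn (X : Scheme.{u}) : HTop.IsAWNormalization (fromAwn X) := by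
  refine ⟨isUnivHomeo_fromAwn X, fun Y π hπ => ⟨desc π hπ, desc_comp π hπ, ?_⟩⟩
  intro h' hh
  exact desc_unique π hπ h' hh

end Univ

end Groth.Agent.Lib.T2H8.AWNSch
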