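import Mathlib
import Groth.Prelude.Def_HTop2
import Groth.Agent.S7421
import Groth.Agent.Lib.T2H8AWNSch

/-!
# Characterizations of the absolute weak normalization of a scheme (helper8)
-/

set_option autoImplicit false
set_option linter.style.haveILetI false

universe u

namespace Groth.Agent.Lib.T2H8.AWNSch

open AlgebraicGeometry CategoryTheory Limits
open Groth.Agent.Lib.Helper20.AWN Groth.Agent.Lib.T2H8.AWNRingMap
open AlgebraicGeometry.Scheme AlgebraicGeometry.Scheme.AffineZariskiSite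

/-- Absolute weak normality is invariant under isomorphisms. -/
theorem isAWN_of_iso {Y Z : Scheme.{u}} (e : Y ≅ Z) (hZ : HTop.IsAWN Z) : HTop.IsAWN Y := by
  intro y
  obtain ⟨V, hyV, hV⟩ := hZ (e.hom.base y)
  have hV' : IsAffineOpen (e.hom ⁻¹ᵁ (V : Z.Opens)) := V.2.preimage_of_isIso e.hom
  refine ⟨⟨e.hom ⁻¹ᵁ (V : Z.Opens), hV'⟩, hyV, ?_⟩
  exact isAWNRing_of_ringEquiv (asIso (e.hom.app (V : Z.Opens))).commRingCatIsoToRingEquiv.symm hV

/-- Precomposing an absolute weak normalization with an isomorphism. -/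
theorem isAWNormalization_of_iso {X X' X'' : Scheme.{u}} (ν : X' ⟶ X)
    (hν : HTop.IsAWNormalization ν) (e : X'' ≅ X') : HTop.IsAWNormalization (e.hom ≫ ν) := by
  refine ⟨?_, fun Y π hπ => ?_⟩
  · exact (MorphismProperty.cancel_left_of_respectsIso FlatMor.IsUnivHomeo e.hom ν).mpr hν.1
  · obtain ⟨h, hh, huniq⟩ := hν.2 Y π hπ
    refine ⟨e.hom ≫ h, by beta_reduce; rw [Category.assoc, hh], fun h' hh' => ?_⟩
    beta_reduce at hh'
    have : e.inv ≫ h' = h := huniq _ (by beta_reduce; rw [Category.assoc, hh', Iso.inv_hom_id_assoc])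
    rw [← this, Iso.hom_inv_id_assoc]

/-- A morphism over `X` between two absolute weak normalizations of `X` is an isomorphism. -/
theorem isIso_of_isAWNormalization {X X₁ X₂ : Scheme.{u}} (ν₁ : X₁ ⟶ X) (ν₂ : X₂ ⟶ X)
    (h₁ : HTop.IsAWNormalization ν₁) (h₂ : HTop.IsAWNormalization ν₂) (h : X₁ ⟶ X₂)
    (hh : h ≫ ν₂ = ν₁) : IsIso h := by
  obtain ⟨k, hk, -⟩ := h₂.2 X₁ ν₁ h₁.1
  obtain ⟨a, -, ha⟩ := h₁.2 X₁ ν₁ h₁.1
  obtain ⟨b, -, hb⟩ := h₂.2 X₂ ν₂ h₂.1
  refine ⟨k, ?_, ?_⟩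
  · rw [ha (h ≫ k) (by beta_reduce; rw [Category.assoc, hk, hh]), ha (𝟙 _) (Category.id_comp _)]
  · rw [hb (k ≫ h) (by beta_reduce; rw [Category.assoc, hh, hk]), hb (𝟙 _) (Category.id_comp _)]

/-- Two absolute weak normalizations are isomorphic over the base. -/
theorem exists_iso_of_isAWNormalization {X X₁ X₂ : Scheme.{u}} (ν₁ : X₁ ⟶ X) (ν₂ : X₂ ⟶ X)
    (h₁ : HTop.IsAWNormalization ν₁) (h₂ : HTop.IsAWNormalization ν₂) :
    ∃ e : X₁ ≅ X₂, e.hom ≫ ν₂ = ν₁ := by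
  obtain ⟨h, hh, -⟩ := h₁.2 X₂ ν₂ h₂.1
  haveI := isIso_of_isAWNormalization ν₁ ν₂ h₁ h₂ h hh
  exact ⟨asIso h, hh⟩

/-- The source of an absolute weak normalization is absolutely weakly normal. -/
theorem isAWN_of_isAWNormalization {X Y : Scheme.{u}} (π : Y ⟶ X)
    (hπ : HTop.IsAWNormalization π) : HTop.IsAWN Y := by
  obtain ⟨e, -⟩ := exists_iso_of_isAWNormalization π (fromAwn X) hπ (isAWNormalization_fromAwn X)
  exact isAWN_of_iso e (isAWN_awnScheme X)

theorem bijective_chi_of_isAWN {X Y : Scheme.{u}} (π : Y ⟶ X) (hπ : FlatMor.IsUnivHomeo π)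
    (hY : HTop.IsAWN Y) (U : X.AffineZariskiSite) : Function.Bijective (chi π hπ U) := by
  haveI := isIntegralHom_of_isUnivHomeo π hπ
  have hU' : IsAffineOpen (π ⁻¹ᵁ U.toOpens) := U.2.preimage π
  have hB : HTop.IsAWNRing Γ(Y, π ⁻¹ᵁ U.toOpens) :=
    (Groth.Agent.S7420.result Y).2.mp hY ⟨π ⁻¹ᵁ U.toOpens, hU'⟩
  exact (Groth.Agent.S7423.result (toAwn _) (isRingAWN_toAwn _) (π.app U.toOpens).hom
    ((isUnivHomeo_iff_UH _).mpr (UH_app π hπ U)) (chi π hπ U) (chi_comp π hπ U)).mpr hB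

set_option backward.isDefEq.respectTransparency false in
/-- Over the preimage of an affine open, `desc π hπ` is `Spec` of the comparison map. -/
theorem desc_restrict_iff {X Y : Scheme.{u}} (π : Y ⟶ X) (hπ : FlatMor.IsUnivHomeo π)
    (P : MorphismProperty Scheme.{u}) [P.RespectsIso] (U : X.AffineZariskiSite) :
    P (desc π hπ ∣_ (π ⁻¹ᵁ U.toOpens)) ↔ P (Spec.map (CommRingCat.ofHom (chi π hπ U))) := by
  haveI := isIntegralHom_of_isUnivHomeo π hπ
  have hU' : IsAffineOpen (π ⁻¹ᵁ U.toOpens) := U.2.preimage π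
  let ι' : Spec ((awnDiagram X).obj (.op U)) ⟶ awnScheme X := (awnCover X).f U
  haveI : IsOpenImmersion ι' := inferInstanceAs (IsOpenImmersion ((awnCover X).f U))
  have hι' : ι' ≫ desc π hπ = piece π hπ U := ι_desc π hπ U
  have hpre : desc π hπ ⁻¹ᵁ (π ⁻¹ᵁ U.toOpens) = fromAwn X ⁻¹ᵁ U.toOpens := by
    rw [← Scheme.Hom.comp_preimage, desc_comp]
  let e : ((desc π hπ ⁻¹ᵁ (π ⁻¹ᵁ U.toOpens) : (awnScheme X).Opens) : Scheme.{u}) ≅
      Spec ((awnDiagram X).obj (.op U)) :=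
    IsOpenImmersion.isoOfRangeEq (desc π hπ ⁻¹ᵁ (π ⁻¹ᵁ U.toOpens)).ι ι'
      (by
        have h1 : Set.range (desc π hπ ⁻¹ᵁ (π ⁻¹ᵁ U.toOpens)).ι =
            (desc π hπ ⁻¹ᵁ (π ⁻¹ᵁ U.toOpens) : Set _) := Scheme.Opens.range_ι _
        rw [h1, hpre, fromAwn_preimage X U]
        rfl)
  have he : e.hom ≫ ι' = (desc π hπ ⁻¹ᵁ (π ⁻¹ᵁ U.toOpens)).ι :=
    IsOpenImmersion.isoOfRangeEq_hom_fac _ _ _
  refine P.arrow_mk_iso_iff (Arrow.isoMk e hU'.isoSpec ?_)
  show e.hom ≫ Spec.map (CommRingCat.ofHom (chi π hπ U)) =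
    (desc π hπ ∣_ (π ⁻¹ᵁ U.toOpens)) ≫ hU'.isoSpec.hom
  rw [← cancel_mono hU'.fromSpec, Category.assoc, Category.assoc, IsAffineOpen.isoSpec_hom,
    IsAffineOpen.toSpecΓ_fromSpec, morphismRestrict_ι, ← he, Category.assoc, hι']
  rfl

theorem isIso_desc_of_isAWN {X Y : Scheme.{u}} (π : Y ⟶ X) (hπ : FlatMor.IsUnivHomeo π)
    (hY : HTop.IsAWN Y) : IsIso (desc π hπ) := by
  have hsup : ⨆ U : X.affineOpens, π ⁻¹ᵁ (U : X.Opens) = ⊤ := by
    rw [← Scheme.Hom.preimage_iSup, iSup_affineOpens_eq_top]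
    rfl
  rw [← MorphismProperty.isomorphisms.iff,
    IsZariskiLocalAtTarget.iff_of_iSup_eq_top (P := MorphismProperty.isomorphisms Scheme.{u}) _ hsup]
  intro U
  rw [desc_restrict_iff π hπ (MorphismProperty.isomorphisms Scheme.{u}) U,
    MorphismProperty.isomorphisms.iff, isIso_SpecMap_iff]
  exact bijective_chi_of_isAWN π hπ hY U

/-- A universal homeomorphism from an absolutely weakly normal scheme is an absolute weak
normalization. -/
theorem isAWNormalization_of_isAWN {X Y : Scheme.{u}} (π : Y ⟶ X) (hπ : FlatMor.IsUnivHomeo π)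
    (hY : HTop.IsAWN Y) : HTop.IsAWNormalization π := by
  haveI := isIso_desc_of_isAWN π hπ hY
  have := isAWNormalization_of_iso (fromAwn X) (isAWNormalization_fromAwn X)
    (asIso (desc π hπ)).symm
  have e : (asIso (desc π hπ)).symm.hom ≫ fromAwn X = π := by
    rw [← desc_comp π hπ]
    simp
  rwa [e] at this

theorem isUnivHomeo_id (X : Scheme.{u}) : FlatMor.IsUnivHomeo (𝟙 X) :=
  (Groth.Agent.S0415.result (𝟙 X)).mpr ⟨inferInstance, inferInstance, inferInstance⟩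

/-- A universal homeomorphism from a reduced scheme to an absolutely weakly normal scheme is an
isomorphism. -/
theorem isIso_of_isAWN_of_isReduced {X Y : Scheme.{u}} (π : Y ⟶ X) (hπ : FlatMor.IsUnivHomeo π)
    (hX : HTop.IsAWN X) [IsReduced Y] : IsIso π := by
  haveI := isIntegralHom_of_isUnivHomeo π hπ
  rw [← MorphismProperty.isomorphisms.iff,
    IsZariskiLocalAtTarget.iff_of_iSup_eq_top (P := MorphismProperty.isomorphisms Scheme.{u}) _
      (iSup_affineOpens_eq_top X)]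
  intro U
  rw [MorphismProperty.isomorphisms.iff, isIso_morphismRestrict_iff_isIso_app π U.2,
    ConcreteCategory.isIso_iff_bijective]
  have hA : HTop.IsAWNRing Γ(X, (U : X.Opens)) := (Groth.Agent.S7420.result X).2.mp hX U
  exact bijective_of_UH_of_isAWNRing (π.app (U : X.Opens)).hom (UH_app π hπ ⟨U.1, U.2⟩) hA

theorem isReduced_of_isAWN {X : Scheme.{u}} (hX : HTop.IsAWN X) : IsReduced X :=
  Groth.Agent.S7421.result.2 X fun x => by
    obtain ⟨U, hx, hU⟩ := hX x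
    exact ⟨U, hx, hU.1⟩

end Groth.Agent.Lib.T2H8.AWNSch
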