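import Mathlib

/-!
# Flat base change for kernels of base-changed linear maps (unbundled)
-/

set_option autoImplicit false
universe u v

open TensorProduct

namespace Groth.Agent.Lib.T2H8.AdeqFlat

variable {A B B' : Type*} [CommRing A] [CommRing B] [CommRing B'] [Algebra A B] [Algebra A B']
  [Algebra B B'] [IsScalarTower A B B']
  {M N : Type*} [AddCommGroup M] [Module A M] [AddCommGroup N] [Module A N] (φ : M →ₗ[A] N)

/-- the transition map `B ⊗ M → B' ⊗ M` -/
noncomputable def trans (M : Type*) [AddCommGroup M] [Module A M] : B ⊗[A] M →ₗ[A] B' ⊗[A] M :=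
  (IsScalarTower.toAlgHom A B B').toLinearMap.rTensor M

theorem trans_tmul (b : B) (m : M) : trans (A := A) (B := B) (B' := B') M (b ⊗ₜ m) = algebraMap B B' b ⊗ₜ m := by
  simp [trans]

theorem cancel_tmul (b' : B') (y : B ⊗[A] M) :
    TensorProduct.AlgebraTensorModule.cancelBaseChange A B B' B' M (b' ⊗ₜ[B] y) =
      b' • trans (A := A) (B := B) (B' := B') M y := by
  induction y using TensorProduct.induction_on with
  | zero => simp
  | tmul b m =>
    rw [TensorProduct.AlgebraTensorModule.cancelBaseChange_tmul, trans_tmul, TensorProduct.smul_tmul',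
      Algebra.smul_def, smul_eq_mul, mul_comm]
  | add x y hx hy => rw [TensorProduct.tmul_add, map_add, hx, hy, map_add, smul_add]

theorem cancel_natural (z : B' ⊗[B] (B ⊗[A] M)) :
    (φ.baseChange B') (TensorProduct.AlgebraTensorModule.cancelBaseChange A B B' B' M z) =
      TensorProduct.AlgebraTensorModule.cancelBaseChange A B B' B' N
        ((φ.baseChange B).lTensor B' z) := by
  induction z using TensorProduct.induction_on with
  | zero => simp
  | tmul b' y =>
    induction y using TensorProduct.induction_on with
    | zero => simp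
    | tmul b m => simp
    | add x y hx hy =>
      rw [TensorProduct.tmul_add, map_add, map_add, hx, hy, map_add, map_add]
  | add x y hx hy => rw [map_add, map_add, hx, hy, map_add, map_add]

variable [Module.Flat B B']
  {V : Type*} [AddCommGroup V] [Module B V] {V' : Type*} [AddCommGroup V'] [Module B' V']
  [Module B V'] [IsScalarTower B B' V']

theorem bijective_liftBaseChange_of_exact
    (ι : V →ₗ[B] B ⊗[A] M) (hι : Function.Injective ι) (hex : Function.Exact ι (φ.baseChange B))
    (ι' : V' →ₗ[B'] B' ⊗[A] M) (hι' : Function.Injective ι')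
    (hex' : Function.Exact ι' (φ.baseChange B'))
    (σ : V →ₗ[B] V') (hσ : ∀ v, ι' (σ v) = trans (A := A) (B := B) (B' := B') M (ι v)) :
    Function.Bijective (σ.liftBaseChange B') := by
  have key : ∀ w : B' ⊗[B] V, ι' (σ.liftBaseChange B' w) =
      TensorProduct.AlgebraTensorModule.cancelBaseChange A B B' B' M (ι.lTensor B' w) := by
    intro w
    induction w using TensorProduct.induction_on with
    | zero => simp
    | tmul b' v =>
      rw [LinearMap.liftBaseChange_tmul, map_smul, hσ, LinearMap.lTensor_tmul, cancel_tmul]
    | add x y hx hy => rw [map_add, map_add, hx, hy, map_add, map_add]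
  constructor
  · intro w w' h
    have h1 : ι.lTensor B' w = ι.lTensor B' w' := by
      apply (TensorProduct.AlgebraTensorModule.cancelBaseChange A B B' B' M).injective
      rw [← key, ← key, h]
    exact Module.Flat.lTensor_preserves_injective_linearMap ι hι h1
  · intro v'
    set y := ι' v' with hy
    have hy0 : (φ.baseChange B') y = 0 := (hex' y).2 ⟨v', rfl⟩
    set z := (TensorProduct.AlgebraTensorModule.cancelBaseChange A B B' B' M).symm y with hz
    have hz0 : (φ.baseChange B).lTensor B' z = 0 := by
      apply (TensorProduct.AlgebraTensorModule.cancelBaseChange A B B' B' N).injective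
      rw [← cancel_natural, hz, LinearEquiv.apply_symm_apply, hy0, map_zero]
    have hex2 : Function.Exact (ι.lTensor B') ((φ.baseChange B).lTensor B') :=
      Module.Flat.lTensor_exact B' hex
    obtain ⟨w, hw⟩ := (hex2 z).1 hz0
    refine ⟨w, hι' ?_⟩
    rw [key, hw, hz, LinearEquiv.apply_symm_apply]

end Groth.Agent.Lib.T2H8.AdeqFlat
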