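import Mathlib
import Groth.Agent.Lib.Helper13AdeqD

set_option autoImplicit false
universe u
open CategoryTheory Limits Opposite TensorProduct Polynomial
open Adeq Groth.Agent.Helper13Adeq

namespace Groth.Agent.Lib.T2H8.AdeqLin

variable {B : Type u} [CommRing B] (b : B)

/-- the element `X (X + b)` -/
noncomputable abbrev sEl : B[X] := X * (X + C b)

theorem sEl_monic : (sEl b).Monic := (monic_X).mul (monic_X_add_C b)

/-- `B[X]` localized at `X (X + b)` -/
abbrev B1 : Type u := Localization.Away (sEl b)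

noncomputable instance : Algebra B (B1 b) := inferInstance

instance : IsScalarTower B B[X] (B1 b) := inferInstance

instance flat_B1 : Module.Flat B (B1 b) := Module.Flat.trans B B[X] (B1 b)

theorem faithfullyFlat_B1 : Module.FaithfullyFlat B (B1 b) := by
  refine ⟨fun m hm => ?_⟩
  rw [Ideal.smul_top_eq_map]
  intro h
  have h1 : m.map (algebraMap B (B1 b)) = ⊤ := by
    rwa [Submodule.restrictScalars_eq_top_iff] at h
  rw [IsScalarTower.algebraMap_eq B B[X] (B1 b), ← Ideal.map_map] at h1
  have h2 : ¬ Disjoint (Submonoid.powers (sEl b) : Set B[X]) (m.map (algebraMap B B[X]) : Set B[X]) :=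
    fun hd => ((IsLocalization.map_algebraMap_ne_top_iff_disjoint (Submonoid.powers (sEl b)) (B1 b)
      (m.map (algebraMap B B[X]))).2 hd) h1
  rw [Set.not_disjoint_iff] at h2
  obtain ⟨p, ⟨n, rfl⟩, hp⟩ := h2
  have hmon : ((sEl b) ^ n).Monic := (sEl_monic b).pow n
  rw [SetLike.mem_coe, Polynomial.algebraMap_eq, Ideal.mem_map_C_iff] at hp
  have := hp ((sEl b) ^ n).natDegree
  rw [Polynomial.coeff_natDegree, hmon.leadingCoeff] at this
  exact hm.ne_top ((Ideal.eq_top_iff_one m).2 this)

theorem isUnit_X : IsUnit (algebraMap B[X] (B1 b) X) := by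
  have h := IsLocalization.Away.algebraMap_isUnit (S := B1 b) (sEl b)
  have e : algebraMap B[X] (B1 b) (sEl b) =
      algebraMap B[X] (B1 b) X * algebraMap B[X] (B1 b) (X + C b) := map_mul _ _ _
  rw [e] at h
  exact isUnit_of_mul_isUnit_left h

theorem isUnit_X_add : IsUnit (algebraMap B[X] (B1 b) (X + C b)) := by
  have h := IsLocalization.Away.algebraMap_isUnit (S := B1 b) (sEl b)
  have e : algebraMap B[X] (B1 b) (sEl b) =
      algebraMap B[X] (B1 b) X * algebraMap B[X] (B1 b) (X + C b) := map_mul _ _ _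
  rw [e] at h
  exact isUnit_of_mul_isUnit_right h

theorem algebraMap_b : algebraMap B (B1 b) b =
    algebraMap B[X] (B1 b) (X + C b) - algebraMap B[X] (B1 b) X := by
  rw [← map_sub, add_sub_cancel_left, IsScalarTower.algebraMap_apply B B[X] (B1 b)]
  rfl


variable {A : Type u} [CommRing A]

/-- if `G.bc f` is an isomorphism and `f` is faithfully flat then `G(B) → G(B')` is injective -/
theorem map_injective_of_faithfullyFlat (G : MVF A) {B B' : Alg A} (f : B ⟶ B')
    (hiso : IsIso (G.bc f))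
    (hff : f.hom.toRingHom.FaithfullyFlat) :
    Function.Injective (G.map (ptHom f)) := by
  letI := f.hom.toRingHom.toAlgebra
  haveI : Module.FaithfullyFlat B B' := hff
  have hbij : Function.Bijective (G.bc f) := (ConcreteCategory.isIso_iff_bijective _).1 hiso
  have hmk : Function.Injective (TensorProduct.mk B B' (G.obj (pt B)) 1) :=
    Module.FaithfullyFlat.tensorProduct_mk_injective _
  intro x y hxy
  apply hmk
  apply hbij.1
  have h1 : ∀ z : G.obj (pt B), (G.bc f) (TensorProduct.mk B B' (G.obj (pt B)) 1 z) = G.map (ptHom f) z := by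
    intro z
    have h2 : (1 : B') • G.map (ptHom f) z = G.map (ptHom f) z := one_smul _ _
    refine Eq.trans ?_ h2
    rfl
  rw [h1, h1, hxy]


theorem sub_of_add {F G : MVF A} (φ : ∀ B : Alg A, F.obj (pt B) → G.obj (pt B))
    (hadd : ∀ (B : Alg A) (x y : F.obj (pt B)), φ B (x + y) = φ B x + φ B y)
    (B : Alg A) (p q : F.obj (pt B)) : φ B (p - q) = φ B p - φ B q := by
  have := hadd B (p - q) q
  rw [sub_add_cancel] at this
  rw [this, add_sub_cancel_right]

theorem linear_of_additive_units (F G : MVF A)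
    (φ : ∀ B : Alg A, F.obj (pt B) → G.obj (pt B))
    (hnat : ∀ ⦃B B' : Alg A⦄ (f : B ⟶ B') (x : F.obj (pt B)),
      φ B' (F.map (ptHom f) x) = G.map (ptHom f) (φ B x))
    (hadd : ∀ (B : Alg A) (x y : F.obj (pt B)), φ B (x + y) = φ B x + φ B y)
    (hunit : ∀ (B : Alg A) (v : (B : Type u)ˣ) (x : F.obj (pt B)), φ B ((v : B) • x) = (v : B) • φ B x)
    (hG : ∀ ⦃B B' : Alg A⦄ (f : B ⟶ B'), f.hom.toRingHom.Flat → IsIso (G.bc f))
    (B : Alg A) (b : B) (x : F.obj (pt B)) : φ B (b • x) = b • φ B x := by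
  let B' : Alg A := algOf A (B1 b)
  haveI : IsScalarTower A B (B1 b) := IsScalarTower.of_algebraMap_eq (fun a => by
    rw [IsScalarTower.algebraMap_apply A B[X] (B1 b), IsScalarTower.algebraMap_apply B B[X] (B1 b),
      IsScalarTower.algebraMap_apply A B B[X]])
  let f : B ⟶ B' := CommAlgCat.ofHom (IsScalarTower.toAlgHom A B (B1 b))
  have hfeq : f.hom.toRingHom = algebraMap B (B1 b) := rfl
  have hflat : f.hom.toRingHom.Flat := by
    rw [hfeq]; exact RingHom.flat_algebraMap_iff.2 (flat_B1 b)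
  have hff : f.hom.toRingHom.FaithfullyFlat := by
    rw [hfeq]; exact RingHom.faithfullyFlat_algebraMap_iff.2 (faithfullyFlat_B1 b)
  have hinj := map_injective_of_faithfullyFlat G f (hG f hflat) hff
  apply hinj
  obtain ⟨u, hu⟩ := isUnit_X b
  obtain ⟨v, hv⟩ := isUnit_X_add b
  set y : F.obj (pt B') := F.map (ptHom f) x with hy
  have hfb : f.hom b = (v : B1 b) - (u : B1 b) := by
    rw [hu, hv]; exact algebraMap_b b
  have e1 : G.map (ptHom f) (φ B (b • x)) = φ B' (f.hom b • y) := by
    rw [← hnat]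
    congr 1
    exact F.map_smul (ptHom f) b x
  have e2 : G.map (ptHom f) (b • φ B x) = f.hom b • φ B' y := by
    rw [hy, hnat]
    exact G.map_smul (ptHom f) b (φ B x)
  rw [e1, e2, hfb, sub_smul, sub_smul, sub_of_add φ hadd, hunit B' v, hunit B' u]

end Groth.Agent.Lib.T2H8.AdeqLin
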