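import Mathlib
import Groth.Agent.Lib.T2H8AdeqParasitic
import Groth.Agent.Lib.T2H8AdeqFpqc

set_option autoImplicit false
universe u
open CategoryTheory Limits Opposite AlgebraicGeometry TensorProduct
open Adeq Groth.Agent.Helper13Adeq

attribute [-instance] Groth.Agent.Lib.T2H8.AdeqRestr.instAlgebraCarrierRC
  Groth.Agent.Lib.T2H8.AdeqRestr.instIsScalarTowerCarrierRC

namespace Groth.Agent.Lib.T2H8.AdeqSheaf

section flatvanish
variable {A : Type u} [CommRing A] (F : MVF A)

theorem subsingleton_of_flat (hF : adequate A F)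
    (h0 : Subsingleton (F.obj (pt (algOf A A))))
    (B : Type u) [CommRing B] [Algebra A B] [Module.Flat A B] :
    Subsingleton (F.obj (pt (algOf A B))) := by
  obtain ⟨M, N, ν, i, hi, hex⟩ := (adequate_iff F).1 hF
  have hν : Function.Injective ν.hom := by
    rw [injective_iff_map_eq_zero]
    intro m hm
    let y : ((underline A).obj M).obj (pt (algOf A A)) := (1 : A) ⊗ₜ[A] m
    have hy : ((underline A).map ν).app (pt (algOf A A)) y = 0 := by
      change ν.hom.baseChange A ((1 : A) ⊗ₜ[A] m) = 0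
      rw [LinearMap.baseChange_tmul, hm, TensorProduct.tmul_zero]
    obtain ⟨x₀, hx₀⟩ := (hex (algOf A A) y).1 hy
    have hx0 : x₀ = 0 := h0.elim _ _
    rw [hx0, map_zero] at hx₀
    have h1 : (1 : A) ⊗ₜ[A] m = (0 : A ⊗[A] M) := hx₀.symm
    have h2 := congrArg (TensorProduct.lid A M) h1
    rw [TensorProduct.lid_tmul, one_smul, map_zero] at h2
    exact h2
  refine ⟨fun x x' => ?_⟩
  apply hi (algOf A B)
  have hz : ∀ x : F.obj (pt (algOf A B)), i.app (pt (algOf A B)) x = 0 := by
    intro x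
    have h1 : ((underline A).map ν).app (pt (algOf A B)) (i.app (pt (algOf A B)) x) = 0 :=
      (hex (algOf A B) _).2 ⟨x, rfl⟩
    have h2 : Function.Injective (ν.hom.lTensor B) :=
      Module.Flat.lTensor_preserves_injective_linearMap ν.hom hν
    let y : B ⊗[A] M := i.app (pt (algOf A B)) x
    have h3 : ν.hom.lTensor B y = 0 := h1
    have h4 : y = 0 := h2 (h3.trans (map_zero _).symm)
    exact h4
  rw [hz x, hz x']

end flatvanish

section tfae

theorem subsingleton_of_iso (K : Precoverage Scheme.{u}) [BigSite.OSh K] {S : Scheme.{u}}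
    (M : BigSite.Mod K S) {U V : Over S} (e : U ≅ V) (h : Subsingleton (M.val.obj (op V))) :
    Subsingleton (M.val.obj (op U)) := by
  refine ⟨fun x y => ?_⟩
  have hx : ∀ z : M.val.obj (op U), M.val.map e.hom.op (M.val.map e.inv.op z) = z := by
    intro z
    rw [psh_map_comp, ← op_comp, e.hom_inv_id, op_id, psh_map_id]
  rw [← hx x, ← hx y]
  congr 1
  exact h.elim _ _

variable (P : MorphismProperty Scheme.{u}) [P.IsStableUnderBaseChange]
    [P.IsStableUnderComposition] [Scheme.IsJointlySurjectivePreserving P]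
    [BigSite.OSh (Scheme.precoverage P)] {S : Scheme.{u}}

theorem parasitic_of_affine_cover
    (hopen : ∀ {X Y : Scheme.{u}} (f : X ⟶ Y), P f → IsOpenMap f)
    (himm : ∀ {X Y : Scheme.{u}} (f : X ⟶ Y), IsOpenImmersion f → P f)
    (M : BigSite.Mod (Scheme.precoverage P) S) (hM : adequateMod (Scheme.precoverage P) S M)
    {ι : Type u} (U : ι → S.Opens) (hU : ∀ i, IsAffineOpen (U i)) (hcov : (⨆ i, U i) = ⊤)
    (h0 : ∀ i, Subsingleton (M.val.obj (op (Over.mk (U i).ι)))) :
    parasitic (Scheme.precoverage P) S M := by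
  intro V hV
  suffices h : ∀ s : M.val.obj (op V), s = 0 from ⟨fun s s' => (h s).trans (h s').symm⟩
  intro s
  let I := { p : V.left.affineOpens × ι // p.1.1 ≤ V.hom ⁻¹ᵁ (U p.2) }
  refine mod_sep_over (Scheme.precoverage P) M
    (fun p : I => Over.mk (p.1.1.2.fromSpec ≫ V.hom))
    (fun p => Over.homMk p.1.1.2.fromSpec rfl) ?_ s (fun p => ?_)
  · change Presieve.ofArrows (fun p : I => Spec Γ(V.left, p.1.1.1))
      (fun p => p.1.1.2.fromSpec) ∈ Scheme.precoverage P V.left
    rw [Scheme.ofArrows_mem_precoverage_iff]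
    refine ⟨fun x => ?_, fun p => himm _ inferInstance⟩
    have hx : V.hom x ∈ (⨆ i, U i : S.Opens) := by rw [hcov]; trivial
    obtain ⟨i, hi⟩ := TopologicalSpace.Opens.mem_iSup.1 hx
    obtain ⟨_, ⟨W, hW, rfl⟩, hxW, hWU⟩ :=
      V.left.isBasis_affineOpens.exists_subset_of_mem_open
        (show x ∈ ((V.hom ⁻¹ᵁ U i : V.left.Opens) : Set V.left) from hi) (V.hom ⁻¹ᵁ U i).2
    refine ⟨⟨(⟨W, hW⟩, i), hWU⟩, ?_⟩
    rw [IsAffineOpen.range_fromSpec]
    exact hxW
  · obtain ⟨⟨W, i⟩, hWi⟩ := p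
    have hWi' : W.1 ≤ V.hom ⁻¹ᵁ (U i) := hWi
    let a : Spec Γ(S, U i) ⟶ S := (hU i).fromSpec
    let gW : Spec Γ(V.left, W.1) ⟶ S := W.2.fromSpec ≫ V.hom
    have hrange : Set.range gW ⊆ Set.range a := by
      rintro _ ⟨y, rfl⟩
      rw [IsAffineOpen.range_fromSpec]
      change V.hom (W.2.fromSpec y) ∈ U i
      have hy : W.2.fromSpec y ∈ (W.1 : Set V.left) := by
        rw [← IsAffineOpen.range_fromSpec W.2]
        exact ⟨y, rfl⟩
      exact hWi' hy
    let l : Spec Γ(V.left, W.1) ⟶ Spec Γ(S, U i) := IsOpenImmersion.lift a gW hrange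
    have hl : l ≫ a = gW := IsOpenImmersion.lift_fac a gW hrange
    let φ : Γ(S, U i) ⟶ Γ(V.left, W.1) := Spec.preimage l
    have hφ : Spec.map φ ≫ a = gW := by rw [Spec.map_preimage]; exact hl
    have hAd := adequate_chart P hopen himm S M hM Γ(S, U i) a
    have hflatφ : Flat (Spec.map φ) := by
      refine MorphismProperty.of_postcomp (W := @Flat) (W' := @IsOpenImmersion) (Spec.map φ) a
        (inferInstanceAs (IsOpenImmersion a)) ?_
      rw [hφ]
      have : Flat V.hom := hV
      change Flat (W.2.fromSpec ≫ V.hom)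
      infer_instance
    let _ : Algebra Γ(S, U i) Γ(V.left, W.1) := φ.hom.toAlgebra
    have : Module.Flat Γ(S, U i) Γ(V.left, W.1) := Flat.SpecMap_iff.1 hflatφ
    -- vanishing at the base
    have e1 : Over.mk a ≅ Over.mk (U i).ι :=
      Over.isoMk (hU i).isoSpec.symm (by
        change (hU i).isoSpec.inv ≫ (U i).ι = a
        exact (hU i).isoSpec_inv_ι)
    have e2 : ob a (algOf Γ(S, U i) Γ(S, U i)) ≅ Over.mk a :=
      ⟨θbinv a, θb a, θbinv_θb a, θb_θbinv a⟩
    have hbase : Subsingleton (((toMVF (Scheme.precoverage P) a).obj M).obj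
        (pt (algOf Γ(S, U i) Γ(S, U i)))) :=
      subsingleton_of_iso (Scheme.precoverage P) M (e2 ≪≫ e1) (h0 i)
    have hB := subsingleton_of_flat ((toMVF (Scheme.precoverage P) a).obj M) hAd hbase
      Γ(V.left, W.1)
    have e3 : Over.mk gW ≅ ob a (algOf Γ(S, U i) Γ(V.left, W.1)) :=
      Over.isoMk (Iso.refl _) (by
        change 𝟙 _ ≫ (Spec.map φ ≫ a) = gW
        rw [Category.id_comp, hφ])
    have hfin : Subsingleton (M.val.obj (op (Over.mk gW))) :=
      subsingleton_of_iso (Scheme.precoverage P) M e3 hB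
    exact hfin.elim _ _

end tfae

end Groth.Agent.Lib.T2H8.AdeqSheaf
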