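import Mathlib
import Groth.Prelude.Def_W4stkadequateTF

set_option autoImplicit false
universe u

open CategoryTheory Limits

namespace Groth.Agent.Lib.T2H8.AdTF

variable {A : Type u} [CommRing A] (B : Adeq.Alg A)

theorem map_id (N : ModuleCat.{u} B) : AdeqTF.map B (𝟙 N) = 𝟙 (AdeqTF.ext B N) := by
  apply CommAlgCat.hom_ext
  refine AlgHom.ext fun x => ?_
  show TrivSqZeroExt.map (LinearMap.id) x = x
  rw [TrivSqZeroExt.map_id]; rfl

theorem map_comp {N N' N'' : ModuleCat.{u} B} (g : N ⟶ N') (h : N' ⟶ N'') :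
    AdeqTF.map B (g ≫ h) = AdeqTF.map B g ≫ AdeqTF.map B h := by
  apply CommAlgCat.hom_ext
  refine AlgHom.ext fun x => ?_
  show TrivSqZeroExt.map (h.hom ∘ₗ g.hom) x = TrivSqZeroExt.map h.hom (TrivSqZeroExt.map g.hom x)
  rw [TrivSqZeroExt.map_comp_map]; rfl

theorem map_zero (N N' : ModuleCat.{u} B) :
    AdeqTF.map B (0 : N ⟶ N') = AdeqTF.fst B N ≫ AdeqTF.inl B N' := by
  apply CommAlgCat.hom_ext
  refine AlgHom.ext fun x => ?_
  show TrivSqZeroExt.map (0 : N →ₗ[B] N') x = TrivSqZeroExt.inl (TrivSqZeroExt.fst x)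
  ext <;> simp

theorem inl_fst (N : ModuleCat.{u} B) : AdeqTF.inl B N ≫ AdeqTF.fst B N = 𝟙 B := by
  apply CommAlgCat.hom_ext
  refine AlgHom.ext fun x => ?_
  show TrivSqZeroExt.fst (TrivSqZeroExt.inl x : TrivSqZeroExt B N) = x
  simp

theorem inl_map {N N' : ModuleCat.{u} B} (g : N ⟶ N') :
    AdeqTF.inl B N ≫ AdeqTF.map B g = AdeqTF.inl B N' := by
  apply CommAlgCat.hom_ext
  refine AlgHom.ext fun x => ?_
  show TrivSqZeroExt.map g.hom (TrivSqZeroExt.inl x) = TrivSqZeroExt.inl x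
  ext <;> simp

theorem map_surjective {N N' : ModuleCat.{u} B} (g : N ⟶ N') (hg : Function.Surjective g) :
    Function.Surjective (AdeqTF.map B g) := by
  intro y
  obtain ⟨n, hn⟩ := hg (TrivSqZeroExt.snd y)
  refine ⟨TrivSqZeroExt.inl (TrivSqZeroExt.fst y) + TrivSqZeroExt.inr n, ?_⟩
  show TrivSqZeroExt.map g.hom (TrivSqZeroExt.inl (TrivSqZeroExt.fst y) + TrivSqZeroExt.inr n) = y
  ext
  · simp
  · simp [hn]

variable (F : Adeq.MVF A)

theorem tangentMap_coe {N N' : ModuleCat.{u} B} (g : N ⟶ N') (x : AdeqTF.tangent B N F) :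
    ((AdeqTF.tangentMap B F g x : AdeqTF.tangent B N' F) : F.obj (Adeq.pt (AdeqTF.ext B N'))) =
      F.map (Adeq.ptHom (AdeqTF.map B g)) x.1 := rfl

theorem mem_tangent {N : ModuleCat.{u} B} (x : F.obj (Adeq.pt (AdeqTF.ext B N))) :
    x ∈ AdeqTF.tangent B N F ↔ F.map (Adeq.ptHom (AdeqTF.fst B N)) x = 0 := Iff.rfl

theorem tangentMap_id (N : ModuleCat.{u} B) (x : AdeqTF.tangent B N F) :
    AdeqTF.tangentMap B F (𝟙 N) x = x := by
  apply Subtype.ext
  rw [tangentMap_coe]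
  have e : Adeq.ptHom (AdeqTF.map B (𝟙 N)) = 𝟙 _ := by rw [map_id]; rfl
  rw [F.congr_map_apply e, F.map_id]; rfl

theorem tangentMap_comp {N N' N'' : ModuleCat.{u} B} (g : N ⟶ N') (h : N' ⟶ N'')
    (x : AdeqTF.tangent B N F) :
    AdeqTF.tangentMap B F (g ≫ h) x = AdeqTF.tangentMap B F h (AdeqTF.tangentMap B F g x) := by
  apply Subtype.ext
  rw [tangentMap_coe, tangentMap_coe, tangentMap_coe]
  have e : Adeq.ptHom (AdeqTF.map B (g ≫ h)) = Adeq.ptHom (AdeqTF.map B g) ≫ Adeq.ptHom (AdeqTF.map B h) := by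
    rw [map_comp]; rfl
  rw [F.congr_map_apply e, F.map_comp_apply]

theorem tangentMap_zero (N N' : ModuleCat.{u} B) (x : AdeqTF.tangent B N F) :
    AdeqTF.tangentMap B F (0 : N ⟶ N') x = 0 := by
  apply Subtype.ext
  rw [tangentMap_coe]
  have e : Adeq.ptHom (AdeqTF.map B (0 : N ⟶ N')) =
      Adeq.ptHom (AdeqTF.fst B N) ≫ Adeq.ptHom (AdeqTF.inl B N') := by
    rw [map_zero]; rfl
  rw [F.congr_map_apply e, F.map_comp_apply]
  have hx : F.map (Adeq.ptHom (AdeqTF.fst B N)) x.1 = 0 := x.2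
  rw [hx]
  exact _root_.map_zero _

end Groth.Agent.Lib.T2H8.AdTF
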