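import Mathlib
import Groth.Agent.Lib.T2H8AdeqTF
import Groth.Agent.Lib.Helper13AdeqD

set_option autoImplicit false
universe u

open CategoryTheory Limits

namespace Groth.Agent.Lib.T2H8.AdTF

open Groth.Agent.Helper13Adeq

variable {A : Type u} [CommRing A] (B : Adeq.Alg A)

/-- The map on tangent modules induced by a morphism of module-valued functors. -/
noncomputable def tmap {F G : Adeq.MVF A} (φ : F ⟶ G) (N : ModuleCat.{u} B) :
    AdeqTF.tangent B N F →+ AdeqTF.tangent B N G :=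
  ((φ.app (Adeq.pt (AdeqTF.ext B N))).hom.toAddMonoidHom.comp
      (AdeqTF.tangent B N F).subtype).codRestrict (AdeqTF.tangent B N G)
    (fun x => by
      have hx : mapEl F (AdeqTF.fst B N) x.1 = 0 := x.2
      show mapEl G (AdeqTF.fst B N) (φ.app _ x.1) = 0
      rw [← app_mapEl, hx]
      exact _root_.map_zero (φ.app _).hom)

theorem tmap_coe {F G : Adeq.MVF A} (φ : F ⟶ G) (N : ModuleCat.{u} B)
    (x : AdeqTF.tangent B N F) :
    ((tmap B φ N x : AdeqTF.tangent B N G) : G.obj (Adeq.pt (AdeqTF.ext B N))) =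
      φ.app (Adeq.pt (AdeqTF.ext B N)) x.1 := rfl

theorem tmap_tangentMap {F G : Adeq.MVF A} (φ : F ⟶ G) {N N' : ModuleCat.{u} B} (g : N ⟶ N')
    (x : AdeqTF.tangent B N F) :
    tmap B φ N' (AdeqTF.tangentMap B F g x) = AdeqTF.tangentMap B G g (tmap B φ N x) := by
  apply Subtype.ext
  rw [tmap_coe, tangentMap_coe, tangentMap_coe, tmap_coe]
  exact app_mapEl φ (AdeqTF.map B g) x.1

section SES

variable (C : ShortComplex (Adeq.MVF A)) (hC : C.ShortExact) (N : ModuleCat.{u} B)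

include hC

theorem tmap_f_injective : Function.Injective (tmap B C.f N) := by
  have := hC.mono_f
  intro x y hxy
  apply Subtype.ext
  have := congrArg Subtype.val hxy
  rw [tmap_coe, tmap_coe] at this
  exact PresheafOfModules.injective_of_mono C.f _ this

theorem tmap_g_f (x : AdeqTF.tangent B N C.X₁) : tmap B C.g N (tmap B C.f N x) = 0 := by
  apply Subtype.ext
  rw [tmap_coe, tmap_coe]
  exact (PshMod.exact_app C hC.exact (Adeq.pt (AdeqTF.ext B N)) _).2 ⟨x.1, rfl⟩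

theorem tmap_exact (y : AdeqTF.tangent B N C.X₂) (hy : tmap B C.g N y = 0) :
    ∃ x, tmap B C.f N x = y := by
  have := hC.mono_f
  have hy' : C.g.app (Adeq.pt (AdeqTF.ext B N)) y.1 = 0 := by
    have := congrArg Subtype.val hy
    rwa [tmap_coe] at this
  obtain ⟨x, hx⟩ := (PshMod.exact_app C hC.exact (Adeq.pt (AdeqTF.ext B N)) _).1 hy'
  have hx0 : mapEl C.X₁ (AdeqTF.fst B N) x = 0 := by
    apply PresheafOfModules.injective_of_mono C.f (Adeq.pt B)
    rw [app_mapEl, hx]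
    have : mapEl C.X₂ (AdeqTF.fst B N) y.1 = 0 := y.2
    rw [this]
    exact (_root_.map_zero (C.f.app _).hom).symm
  exact ⟨⟨x, hx0⟩, Subtype.ext hx⟩

theorem tmap_g_surjective : Function.Surjective (tmap B C.g N) := by
  have := hC.epi_g
  intro z
  obtain ⟨y, hy⟩ := PresheafOfModules.surjective_of_epi C.g (Adeq.pt (AdeqTF.ext B N)) z.1
  have hz : mapEl C.X₃ (AdeqTF.fst B N) z.1 = 0 := z.2
  set y' := y - mapEl C.X₂ (AdeqTF.inl B N) (mapEl C.X₂ (AdeqTF.fst B N) y) with hy'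
  have h1 : mapEl C.X₂ (AdeqTF.fst B N) y' = 0 := by
    rw [hy']
    have : mapEl C.X₂ (AdeqTF.fst B N) (mapEl C.X₂ (AdeqTF.inl B N) (mapEl C.X₂ (AdeqTF.fst B N) y))
        = mapEl C.X₂ (AdeqTF.fst B N) y := by
      rw [← mapEl_comp, inl_fst, mapEl_id]
    have h2 : mapEl C.X₂ (AdeqTF.fst B N)
        (y - mapEl C.X₂ (AdeqTF.inl B N) (mapEl C.X₂ (AdeqTF.fst B N) y)) =
        mapEl C.X₂ (AdeqTF.fst B N) y -
          mapEl C.X₂ (AdeqTF.fst B N) (mapEl C.X₂ (AdeqTF.inl B N) (mapEl C.X₂ (AdeqTF.fst B N) y)) :=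
      map_sub (C.X₂.map (Adeq.ptHom (AdeqTF.fst B N))).hom _ _
    rw [h2, this, sub_self]
  refine ⟨⟨y', h1⟩, Subtype.ext ?_⟩
  rw [tmap_coe]
  show C.g.app _ y' = z.1
  rw [hy']
  have h3 : C.g.app (Adeq.pt (AdeqTF.ext B N))
      (y - mapEl C.X₂ (AdeqTF.inl B N) (mapEl C.X₂ (AdeqTF.fst B N) y)) =
      C.g.app _ y - C.g.app _ (mapEl C.X₂ (AdeqTF.inl B N) (mapEl C.X₂ (AdeqTF.fst B N) y)) :=
    map_sub (C.g.app _).hom _ _
  rw [h3, app_mapEl, app_mapEl, hy, hz, mapEl_zero, sub_zero]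

end SES

/-- right exactness of the tangent functor (for all short exact sequences of `B`-modules) -/
def RightExact (F : Adeq.MVF A) : Prop :=
  ∀ (B : Adeq.Alg A) (S : ShortComplex (ModuleCat.{u} B)), S.ShortExact →
    Function.Surjective (AdeqTF.tangentMap B F S.g) ∧
      (AdeqTF.tangentMap B F S.g).ker = (AdeqTF.tangentMap B F S.f).range

theorem tangentMap_g_f (F : Adeq.MVF A) (S : ShortComplex (ModuleCat.{u} B))
    (x : AdeqTF.tangent B S.X₁ F) :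
    AdeqTF.tangentMap B F S.g (AdeqTF.tangentMap B F S.f x) = 0 := by
  rw [← tangentMap_comp, S.zero, tangentMap_zero]

theorem rightExact_X₃ (C : ShortComplex (Adeq.MVF A)) (hC : C.ShortExact)
    (h₁ : RightExact C.X₁) (h₂ : RightExact C.X₂) : RightExact C.X₃ := by
  intro B S hS
  obtain ⟨s₁, k₁⟩ := h₁ B S hS
  obtain ⟨s₂, k₂⟩ := h₂ B S hS
  constructor
  · intro z₂
    obtain ⟨y₂, hy₂⟩ := tmap_g_surjective B C hC S.X₃ z₂
    obtain ⟨y, hy⟩ := s₂ y₂
    refine ⟨tmap B C.g S.X₂ y, ?_⟩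
    rw [← tmap_tangentMap, hy, hy₂]
  · apply le_antisymm
    · intro z hz
      have hz' : AdeqTF.tangentMap B C.X₃ S.g z = 0 := hz
      obtain ⟨y, hy⟩ := tmap_g_surjective B C hC S.X₂ z
      have h1 : tmap B C.g S.X₃ (AdeqTF.tangentMap B C.X₂ S.g y) = 0 := by
        rw [tmap_tangentMap, hy, hz']
      obtain ⟨x₂, hx₂⟩ := tmap_exact B C hC S.X₃ _ h1
      obtain ⟨x, hx⟩ := s₁ x₂
      have h2 : AdeqTF.tangentMap B C.X₂ S.g (y - tmap B C.f S.X₂ x) = 0 := by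
        rw [map_sub, ← tmap_tangentMap, hx, hx₂, sub_self]
      have h3 : y - tmap B C.f S.X₂ x ∈ (AdeqTF.tangentMap B C.X₂ S.g).ker := h2
      rw [k₂] at h3
      obtain ⟨y₁, hy₁⟩ := h3
      refine ⟨tmap B C.g S.X₁ y₁, ?_⟩
      rw [← tmap_tangentMap, hy₁, map_sub, tmap_g_f B C hC, sub_zero, hy]
    · rintro _ ⟨x, rfl⟩
      exact tangentMap_g_f B C.X₃ S x

theorem rightExact_X₂ (C : ShortComplex (Adeq.MVF A)) (hC : C.ShortExact)
    (h₁ : RightExact C.X₁) (h₃ : RightExact C.X₃) : RightExact C.X₂ := by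
  intro B S hS
  obtain ⟨s₁, k₁⟩ := h₁ B S hS
  obtain ⟨s₃, k₃⟩ := h₃ B S hS
  constructor
  · intro y₂
    obtain ⟨z, hz⟩ := s₃ (tmap B C.g S.X₃ y₂)
    obtain ⟨y, hy⟩ := tmap_g_surjective B C hC S.X₂ z
    have h1 : tmap B C.g S.X₃ (AdeqTF.tangentMap B C.X₂ S.g y - y₂) = 0 := by
      rw [map_sub, tmap_tangentMap, hy, hz, sub_self]
    obtain ⟨x₂, hx₂⟩ := tmap_exact B C hC S.X₃ _ h1
    obtain ⟨x, hx⟩ := s₁ x₂
    refine ⟨y - tmap B C.f S.X₂ x, ?_⟩
    rw [map_sub, ← tmap_tangentMap, hx, hx₂]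
    abel
  · apply le_antisymm
    · intro y hy
      have hy' : AdeqTF.tangentMap B C.X₂ S.g y = 0 := hy
      have h1 : tmap B C.g S.X₂ y ∈ (AdeqTF.tangentMap B C.X₃ S.g).ker := by
        show AdeqTF.tangentMap B C.X₃ S.g (tmap B C.g S.X₂ y) = 0
        rw [← tmap_tangentMap, hy', _root_.map_zero]
      rw [k₃] at h1
      obtain ⟨z₁, hz₁⟩ := h1
      obtain ⟨y₁, hy₁⟩ := tmap_g_surjective B C hC S.X₁ z₁
      have h2 : tmap B C.g S.X₂ (y - AdeqTF.tangentMap B C.X₂ S.f y₁) = 0 := by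
        rw [map_sub, tmap_tangentMap, hy₁, hz₁, sub_self]
      obtain ⟨x, hx⟩ := tmap_exact B C hC S.X₂ _ h2
      have h3 : AdeqTF.tangentMap B C.X₁ S.g x = 0 := by
        apply tmap_f_injective B C hC S.X₃
        rw [tmap_tangentMap, hx, map_sub, hy', tangentMap_g_f, sub_zero, _root_.map_zero]
      have h4 : x ∈ (AdeqTF.tangentMap B C.X₁ S.g).ker := h3
      rw [k₁] at h4
      obtain ⟨x₁, hx₁⟩ := h4
      refine ⟨y₁ + tmap B C.f S.X₁ x₁, ?_⟩
      rw [map_add, ← tmap_tangentMap, hx₁, hx]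
      abel
    · rintro _ ⟨x, rfl⟩
      exact tangentMap_g_f B C.X₂ S x

end Groth.Agent.Lib.T2H8.AdTF
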