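import Mathlib
import Groth.Agent.Lib.T2H8CartanBig
import Groth.Agent.Lib.T2H8DerAcyc2
import Groth.Agent.Lib.Helper16BigZar

/-!
# helper8: Zariski cohomology of the restriction of an adequate module equals its big-site cohomology
-/

set_option autoImplicit false
set_option linter.unusedSectionVars false
set_option linter.style.haveILetI false
universe u
open CategoryTheory CategoryTheory.Limits Opposite AlgebraicGeometry
open Adeq Groth.Agent.Helper13Adeq

attribute [-instance] Groth.Agent.Lib.T2H8.AdeqRestr.instAlgebraCarrierRC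
  Groth.Agent.Lib.T2H8.AdeqRestr.instIsScalarTowerCarrierRC

namespace Groth.Agent.Lib.T2H8.AdeqZar
open Groth.Agent.Lib.Helper16.CechLow Groth.Agent.Lib.T2H8.CechChase Groth.Agent.Lib.T2H8.CechEv
open Groth.Agent.Lib.T2H8.CechSurj Groth.Agent.Lib.T2H8.CechSES Groth.Agent.Lib.T2H8.CechTransport
open Groth.Agent.Lib.T2H8.Cartan Groth.Agent.Lib.T2H8.AdeqCech Groth.Agent.Lib.T2H8.CechContract
open Groth.Agent.Lib.T2H8.AdeqSheaf Groth.Agent.Lib.T2H8.CartanBig
open Groth.Agent.Lib.Helper16.Flasque Groth.Agent.Lib.Helper16.BigZar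

variable {S : Scheme.{u}}
variable (P : MorphismProperty Scheme.{u}) [P.IsStableUnderBaseChange]
    [P.IsStableUnderComposition] [Scheme.IsJointlySurjectivePreserving P]
    [IsZariskiLocalAtSource P] [P.ContainsIdentities]
    [BigSite.OSh (Scheme.precoverage P)]
variable (hopen : ∀ {X Y : Scheme.{u}} (f : X ⟶ Y), P f → IsOpenMap f)
    (himm : ∀ {X Y : Scheme.{u}} (f : X ⟶ Y), IsOpenImmersion f → P f)
    (hflat : ∀ {X Y : Scheme.{u}} (f : X ⟶ Y), P f → Flat f)

include hopen himm hflat in
theorem cechExact_adequate' (M : BigSite.Mod (Scheme.precoverage P) S)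
    (hM : adequateMod (Scheme.precoverage P) S M) :
    CechExact (QuotSh.J (Scheme.precoverage P) S) (fun {_ _} f => Cov P f)
      ((BigSite.toAbMod (Scheme.precoverage P) S).obj M) := by
  intro X Y f hf n
  obtain ⟨hX, hY, hfl, hsj, hP⟩ := hf
  haveI : IsAffine X.left := hX
  haveI : IsAffine Y.left := hY
  haveI : Flat f.left := hfl
  haveI : Surjective f.left := hsj
  have hN₂ := adequate_pull P hopen himm X.hom _ hM
  have h1 := cech_exact P f.left hopen himm hflat n _ hN₂
  have e : PN P ((BigSite.pullMod (Scheme.precoverage P) X.hom).obj M) =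
      X.iteratedSliceBackward.op ⋙ (R (X := X)
        ((BigSite.toAbMod (Scheme.precoverage P) S).obj M)) := by
    rw [R_back, PN_pull]
  rw [e] at h1
  exact exactAt_image_iso X.iteratedSliceBackward (UU f.left) _ (fam f) (fun _ => εiso f) n h1

variable [BigSite.ZarCont (Scheme.precoverage P) S]

include hopen himm hflat in
theorem epi_resZar (T : ShortComplex (BigSite.Ab (Scheme.precoverage P) S)) (hT : T.ShortExact)
    (h1 : CechExact (QuotSh.J (Scheme.precoverage P) S) (fun {_ _} f => Cov P f) T.X₁) :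
    Epi ((BigSite.resZar (Scheme.precoverage P) S).map T.g) := by
  suffices h : Sheaf.IsLocallySurjective ((BigSite.resZar (Scheme.precoverage P) S).map T.g) from
    Sheaf.epi_of_isLocallySurjective _
  refine ⟨fun {U} s => ?_⟩
  intro x hx
  obtain ⟨_, ⟨V, hV : IsAffineOpen V, rfl⟩, hxV, hVU⟩ :=
    S.isBasis_affineOpens.exists_subset_of_mem_open hx U.2
  refine ⟨V, homOfLE hVU, ?_, hxV⟩
  have hsurj := surjB (J := QuotSh.J (Scheme.precoverage P) S)
    (fun X : Over S => IsAffine X.left) (fun {_ _} f => Cov P f)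
    (fun f hf => cov_mem P f hf)
    (fun X hX {F F'} ψ s hT => href P hopen himm hflat X hX ψ s hT) T hT h1
    ((BigSite.zarIncl S).obj V) hV
  obtain ⟨t, ht⟩ := hsurj (T.X₃.obj.map ((BigSite.zarIncl S).map (homOfLE hVU)).op s)
  exact ⟨t, ht⟩

include hopen himm hflat in
theorem isZero_RresZar (F : BigSite.Ab (Scheme.precoverage P) S)
    (hF : CechExact (QuotSh.J (Scheme.precoverage P) S) (fun {_ _} f => Cov P f) F) (n : ℕ) :
    IsZero (((BigSite.resZar (Scheme.precoverage P) S).rightDerived (n + 1)).obj F) := by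
  haveI := resZar_preservesFiniteLimits S (Scheme.precoverage P)
  exact rightDerived_vanish (BigSite.resZar (Scheme.precoverage P) S)
    (fun G' : BigSite.Ab (Scheme.precoverage P) S =>
      CechExact (QuotSh.J (Scheme.precoverage P) S) (fun {_ _} f => Cov P f) G')
    (fun I hI => by haveI := hI; exact cechExact_of_injective _ I)
    (fun T hT h1 h2 => cechExact_X₃ (fun X : Over S => IsAffine X.left) (fun {_ _} f => Cov P f)
      (fun f hf n x => isAffine_Ux P f hf n x) (fun f hf => cov_mem P f hf)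
      (fun X hX {F F'} ψ s hT => href P hopen himm hflat X hX ψ s hT) T hT h1 h2)
    (fun T hT h1 => epi_resZar P hopen himm hflat T hT h1) F hF n

open Groth.Agent.Lib.Helper21.DerAcyc Groth.Agent.Lib.Helper23ExtRD Groth.Agent.Lib.Helper23LocSS
  Groth.Agent.Lib.Helper21.FreeAb Groth.Agent.Lib.T2H8.DerAcyc2 in
include hopen himm hflat in
/-- cohomology on the big site agrees with Zariski cohomology of the restriction, for
Cech-exact sheaves. -/
theorem nonempty_H_resZar_of_cechExact (F : BigSite.Ab (Scheme.precoverage P) S)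
    (hF : CechExact (QuotSh.J (Scheme.precoverage P) S) (fun {_ _} f => Cov P f) F) (p : ℕ) :
    Nonempty (EtZar.H ((BigSite.resZar (Scheme.precoverage P) S).obj F) p ≃+
      BigSite.H (Scheme.precoverage P) S F p) := by
  let K := Scheme.precoverage P
  haveI : (BigSite.piZarPull K S).Additive := (BigSite.piZarAdj K S).left_adjoint_additive
  haveI := resZar_preservesFiniteLimits S K
  let E := BigSite.resZar K S
  let ZC := (constantSheaf (Opens.grothendieckTopology S) AddCommGrpCat.{u + 1}).obj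
    (AddCommGrpCat.of (ULift ℤ))
  let ZD := (constantSheaf (QuotSh.J K S) AddCommGrpCat.{u + 1}).obj (AddCommGrpCat.of (ULift ℤ))
  let G : EtZar.Ab S ⥤ AddCommGrpCat.{u + 1} := preadditiveCoyoneda.obj (op ZC)
  let G' : BigSite.Ab K S ⥤ AddCommGrpCat.{u + 1} := preadditiveCoyoneda.obj (op ZD)
  have hE : ∀ I : BigSite.Ab K S, Injective I → ∀ q : ℕ, 0 < q →
      IsZero ((G.rightDerived q).obj (E.obj I)) := by
    intro I hI q hq
    obtain ⟨q, rfl⟩ : ∃ k, q = k + 1 := ⟨q - 1, by lia⟩
    haveI : Injective (E.obj I) := injective_resZar S K I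
    exact Functor.isZero_rightDerived_obj_injective_succ G q (E.obj I)
  have hM : ∀ q : ℕ, 0 < q → IsZero ((E.rightDerived q).obj F) := by
    intro q hq
    obtain ⟨q, rfl⟩ : ∃ k, q = k + 1 := ⟨q - 1, by lia⟩
    exact isZero_RresZar P hopen himm hflat F hF q
  let iso : E ⋙ G ≅ G' :=
    adjCoyonedaIso (BigSite.piZarAdj K S) ZC ≪≫
      coyonedaIsoOfIso ((pullConstIso S K).app (AddCommGrpCat.of (ULift ℤ)))
  obtain ⟨e₁⟩ := nonempty_rightDerived_comp_iso_of_acyclic E G hE F hM p
  let e₂ := (rightDerivedIso iso p).app F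
  obtain ⟨e₃⟩ := rightDerived_coyoneda_iso ZC (E.obj F) p
  obtain ⟨e₄⟩ := rightDerived_coyoneda_iso ZD F p
  exact ⟨(e₃.symm ≪≫ e₁.symm ≪≫ e₂ ≪≫ e₄).addCommGroupIsoToAddEquiv⟩

end Groth.Agent.Lib.T2H8.AdeqZar
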