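import Mathlib

/-!
# T2H8AdicDev: an abstract dévissage

`Good R B`: every finite `B`-module which is `R`-torsion-free is finitely presented.

* `fp_of_restrictScalars`: a module finitely presented over `A'` is finitely presented over a finite
  `A'`-algebra `C` acting compatibly;
* `good_of_finite`: `Good` passes to finite algebras;
* `good_of_package`: if `R` is a valuation domain, `B` is `R`-torsion-free, every nonzero element of
  `B` is a constant times a "primitive" element, and the quotients of `B` by primitive elements are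
  good (and torsion-free, and primitive elements are nonzerodivisors), then `B` is good.
-/

set_option autoImplicit false
set_option linter.unusedSectionVars false
universe u

namespace Groth.Agent.Lib.T2H8.AdicDev

/-- finite modules over `B` which are `R`-torsion-free are finitely presented -/
def Good (R : Type u) (B : Type u) [CommRing R] [CommRing B] [Algebra R B] : Prop :=
  ∀ (M : Type u) [AddCommGroup M] [Module B M] [Module.Finite B M],
    (∀ (r : R) (x : M), r ≠ 0 → algebraMap R B r • x = 0 → x = 0) → Module.FinitePresentation B M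

theorem fp_of_restrictScalars (A' C M : Type*) [CommRing A'] [CommRing C] [Algebra A' C]
    [Module.Finite A' C] [AddCommGroup M] [Module A' M] [Module C M] [IsScalarTower A' C M]
    [Module.FinitePresentation A' M] : Module.FinitePresentation C M := by
  haveI : Module.Finite C M := Module.Finite.of_restrictScalars_finite A' C M
  obtain ⟨n, f, hf⟩ := Module.Finite.exists_fin' C M
  have hker : (LinearMap.ker (f.restrictScalars A')).FG :=
    Module.FinitePresentation.fg_ker (f.restrictScalars A') hf
  have hker' : (LinearMap.ker f).FG := by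
    apply Submodule.FG.of_restrictScalars A'
    rwa [← LinearMap.ker_restrictScalars]
  exact Module.finitePresentation_of_surjective f hf hker'

theorem good_of_finite {R A' C : Type u} [CommRing R] [CommRing A'] [CommRing C] [Algebra R A']
    [Algebra R C] [Algebra A' C] [IsScalarTower R A' C] [Module.Finite A' C] (h : Good R A') :
    Good R C := by
  intro M _ _ _ htf
  letI : Module A' M := Module.compHom M (algebraMap A' C)
  haveI : IsScalarTower A' C M := IsScalarTower.of_algebraMap_smul (fun r x => rfl)
  haveI : Module.Finite A' M := Module.Finite.trans C M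
  haveI : Module.FinitePresentation A' M := by
    apply h M
    intro r x hr hx
    apply htf r x hr
    rw [IsScalarTower.algebraMap_apply R A' C]
    exact hx
  exact fp_of_restrictScalars A' C M

section package

variable {R B : Type u} [CommRing R] [IsDomain R] [CommRing B] [Algebra R B]

/-- a finite torsion-free module killed by a good principal ideal is finitely presented. -/
theorem fp_of_killed (f₀ : B) (hgood : Good R (B ⧸ Ideal.span {f₀}))
    (M : Type u) [AddCommGroup M] [Module B M] [Module.Finite B M]
    (htf : ∀ (r : R) (x : M), r ≠ 0 → algebraMap R B r • x = 0 → x = 0)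
    (hkill : ∀ x : M, f₀ • x = 0) : Module.FinitePresentation B M := by
  have hI : Module.IsTorsionBySet B M (Ideal.span {f₀} : Ideal B) := by
    intro x a
    obtain ⟨a, ha⟩ := a
    obtain ⟨b, rfl⟩ := Ideal.mem_span_singleton'.mp ha
    show (b * f₀) • x = 0
    rw [mul_smul, hkill, smul_zero]
  letI := hI.module
  haveI : IsScalarTower B (B ⧸ Ideal.span {f₀}) M := hI.isScalarTower
  haveI : Module.Finite (B ⧸ Ideal.span {f₀}) M :=
    Module.Finite.of_restrictScalars_finite B (B ⧸ Ideal.span {f₀}) M
  haveI : Module.FinitePresentation (B ⧸ Ideal.span {f₀}) M := by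
    apply hgood M
    intro r x hr hx
    apply htf r x hr
    rw [IsScalarTower.algebraMap_apply R B (B ⧸ Ideal.span {f₀})] at hx
    exact hx
  haveI : Module.FinitePresentation B (B ⧸ Ideal.span {f₀}) := by
    refine Module.finitePresentation_of_surjective
      (Submodule.mkQ (Ideal.span {f₀} : Ideal B)) (Submodule.mkQ_surjective _) ?_
    rw [Submodule.ker_mkQ]
    exact ⟨{f₀}, by simp [Ideal.span]⟩
  exact Module.FinitePresentation.trans B M (B ⧸ Ideal.span {f₀})

variable (hval : ∀ a b : R, a ∣ b ∨ b ∣ a)
  (htfB : ∀ (r : R) (b : B), r ≠ 0 → algebraMap R B r * b = 0 → b = 0)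
  (Prim : B → Prop)
  (hcont : ∀ f : B, f ≠ 0 → ∃ (c : R) (f₀ : B), c ≠ 0 ∧ Prim f₀ ∧ f = algebraMap R B c * f₀)
  (hpack : ∀ f₀ : B, Prim f₀ → f₀ ∈ nonZeroDivisors B ∧
    (∀ (r : R) (b : B), r ≠ 0 → algebraMap R B r * b ∈ Ideal.span {f₀} → b ∈ Ideal.span {f₀}) ∧
    Good R (B ⧸ Ideal.span {f₀}))

include hcont hpack in
/-- Step I: a finite torsion-free module with nonzero annihilator is finitely presented. -/
theorem fp_of_annihilated (M : Type u) [AddCommGroup M] [Module B M] [Module.Finite B M]
    (htf : ∀ (r : R) (x : M), r ≠ 0 → algebraMap R B r • x = 0 → x = 0)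
    (f : B) (hf : f ≠ 0) (hkill : ∀ x : M, f • x = 0) : Module.FinitePresentation B M := by
  obtain ⟨c, f₀, hc, hprim, rfl⟩ := hcont f hf
  refine fp_of_killed f₀ (hpack f₀ hprim).2.2 M htf ?_
  intro x
  apply htf c _ hc
  rw [← mul_smul]
  exact hkill x

include hpack in
/-- Step IIa: a finitely generated ideal containing a primitive element is finitely presented. -/
theorem fp_ideal_of_prim_mem (𝔟 : Ideal B) (h𝔟 : 𝔟.FG) (f₀ : B) (hprim : Prim f₀) (hmem : f₀ ∈ 𝔟) :
    Module.FinitePresentation B 𝔟 := by
  obtain ⟨hnzd, htfC, hgood⟩ := hpack f₀ hprim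
  haveI : Module.Finite B 𝔟 := Module.Finite.iff_fg.mpr h𝔟
  -- the submodule `K = (f₀) ∩ 𝔟 = (f₀)` of `𝔟`
  let K : Submodule B 𝔟 := Submodule.comap 𝔟.subtype (Ideal.span {f₀} : Ideal B)
  have hK : ∀ x : 𝔟, x ∈ K ↔ (x : B) ∈ Ideal.span {f₀} := fun x => Iff.rfl
  -- the quotient is finitely presented
  haveI : Module.FinitePresentation B (𝔟 ⧸ K) := by
    apply fp_of_killed f₀ hgood (𝔟 ⧸ K)
    · intro r x hr hx
      obtain ⟨y, rfl⟩ := Submodule.mkQ_surjective K x
      rw [← map_smul, Submodule.mkQ_apply, Submodule.Quotient.mk_eq_zero, hK] at hx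
      rw [Submodule.mkQ_apply, Submodule.Quotient.mk_eq_zero, hK]
      apply htfC r _ hr
      simpa [Algebra.smul_def] using hx
    · intro x
      obtain ⟨y, rfl⟩ := Submodule.mkQ_surjective K x
      rw [← map_smul, Submodule.mkQ_apply, Submodule.Quotient.mk_eq_zero, hK]
      show ((f₀ • y : 𝔟) : B) ∈ _
      rw [Submodule.coe_smul, smul_eq_mul]
      exact Ideal.mul_mem_right _ _ (Ideal.subset_span rfl)
  -- `K` is free of rank one
  let φ : B →ₗ[B] K :=
    { toFun := fun a => ⟨⟨a * f₀, 𝔟.mul_mem_left a hmem⟩,
        (hK _).mpr (Ideal.mul_mem_left _ a (Ideal.subset_span rfl))⟩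
      map_add' := fun a b => by
        apply Subtype.ext; apply Subtype.ext
        simp [add_mul]
      map_smul' := fun a b => by
        apply Subtype.ext; apply Subtype.ext
        simp [mul_assoc] }
  have hφ : Function.Bijective φ := by
    constructor
    · intro a b hab
      have h1 : a * f₀ = b * f₀ := congrArg (fun z : K => ((z : 𝔟) : B)) hab
      have h2 : (a - b) * f₀ = 0 := by rw [sub_mul, h1, sub_self]
      exact sub_eq_zero.mp ((mem_nonZeroDivisors_iff_right.mp hnzd) _ h2)
    · intro x
      obtain ⟨a, ha⟩ := Ideal.mem_span_singleton'.mp ((hK x.1).mp x.2)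
      refine ⟨a, ?_⟩
      apply Subtype.ext; apply Subtype.ext
      exact ha
  haveI : Module.FinitePresentation B K :=
    Module.FinitePresentation.of_equiv (LinearEquiv.ofBijective φ hφ)
  haveI : Module.FinitePresentation B (LinearMap.ker K.mkQ) := by
    rw [Submodule.ker_mkQ]; infer_instance
  exact Module.finitePresentation_of_ker K.mkQ (Submodule.mkQ_surjective K)

omit [IsDomain R] in
theorem exists_dvd_all {ι : Type*} (hval : ∀ a b : R, a ∣ b ∨ b ∣ a) (S : Finset ι)
    (hS : S.Nonempty) (c : ι → R) : ∃ i ∈ S, ∀ j ∈ S, c i ∣ c j := by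
  induction hS using Finset.Nonempty.cons_induction with
  | singleton a =>
    exact ⟨a, Finset.mem_singleton_self a, fun j hj => by rw [Finset.mem_singleton.mp hj]⟩
  | cons a s ha hs ih =>
    obtain ⟨i, his, hi⟩ := ih
    rcases hval (c a) (c i) with h | h
    · refine ⟨a, Finset.mem_cons_self a s, fun j hj => ?_⟩
      rcases Finset.mem_cons.mp hj with rfl | hj
      · exact dvd_rfl
      · exact h.trans (hi j hj)
    · refine ⟨i, Finset.mem_cons.mpr (Or.inr his), fun j hj => ?_⟩
      rcases Finset.mem_cons.mp hj with rfl | hj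
      · exact h
      · exact hi j hj

include hval htfB hcont hpack in
/-- Step II: finitely generated ideals are finitely presented. -/
theorem fp_ideal (𝔟 : Ideal B) (h𝔟 : 𝔟.FG) : Module.FinitePresentation B 𝔟 := by
  classical
  by_cases hbot : 𝔟 = ⊥
  · subst hbot; infer_instance
  obtain ⟨m, b, hb⟩ := Submodule.fg_iff_exists_fin_generating_family.mp h𝔟
  let S : Finset (Fin m) := Finset.univ.filter (fun i => b i ≠ 0)
  have hS : S.Nonempty := by
    by_contra hne
    rw [Finset.not_nonempty_iff_eq_empty] at hne
    apply hbot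
    rw [← hb, Submodule.span_eq_bot]
    rintro _ ⟨i, rfl⟩
    by_contra hi
    have : i ∈ S := Finset.mem_filter.mpr ⟨Finset.mem_univ _, hi⟩
    rw [hne] at this
    exact absurd this (Finset.notMem_empty _)
  have hdec : ∀ i, ∃ (c : R) (f₀ : B), c ≠ 0 ∧ (b i ≠ 0 → Prim f₀) ∧
      b i = algebraMap R B c * f₀ := by
    intro i
    by_cases hi : b i = 0
    · exact ⟨1, 0, one_ne_zero, fun h => absurd hi h, by rw [hi, mul_zero]⟩
    · obtain ⟨c, f₀, hc, hp, he⟩ := hcont (b i) hi
      exact ⟨c, f₀, hc, fun _ => hp, he⟩
  choose c f₀ hc hp he using hdec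
  obtain ⟨i₀, hi₀S, hi₀⟩ := exists_dvd_all hval S hS c
  have hd : ∀ i, ∃ d : B, b i = algebraMap R B (c i₀) * d ∧ (i = i₀ → d = f₀ i₀) := by
    intro i
    by_cases hi : i ∈ S
    · obtain ⟨e, hce⟩ := hi₀ i hi
      by_cases hii : i = i₀
      · subst hii; exact ⟨f₀ i, he i, fun _ => rfl⟩
      · exact ⟨algebraMap R B e * f₀ i, by rw [he i, hce, map_mul, mul_assoc],
          fun h => absurd h hii⟩
    · have hbi : b i = 0 := by
        by_contra h; exact hi (Finset.mem_filter.mpr ⟨Finset.mem_univ _, h⟩)
      have hii : i ≠ i₀ := fun h => hi (h ▸ hi₀S)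
      exact ⟨0, by rw [hbi, mul_zero], fun h => absurd h hii⟩
  choose d hd1 hd2 using hd
  let 𝔟' : Ideal B := Ideal.span (Set.range d)
  have h𝔟' : 𝔟'.FG := Submodule.fg_span (Set.finite_range d)
  have hprim : Prim (d i₀) := by
    rw [hd2 i₀ rfl]; exact hp i₀ (Finset.mem_filter.mp hi₀S).2
  haveI := fp_ideal_of_prim_mem Prim hpack 𝔟' h𝔟' (d i₀) hprim (Ideal.subset_span ⟨i₀, rfl⟩)
  have hmem : ∀ x ∈ 𝔟', algebraMap R B (c i₀) * x ∈ 𝔟 := by
    intro x hx
    induction hx using Submodule.span_induction with
    | mem y hy =>
      obtain ⟨i, rfl⟩ := hy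
      rw [← hd1 i, ← hb]
      exact Submodule.subset_span ⟨i, rfl⟩
    | zero => rw [mul_zero]; exact 𝔟.zero_mem
    | add y z _ _ hy hz => rw [mul_add]; exact 𝔟.add_mem hy hz
    | smul a y _ hy =>
      rw [smul_eq_mul, mul_left_comm]
      exact 𝔟.mul_mem_left a hy
  let μ : 𝔟' →ₗ[B] 𝔟 :=
    { toFun := fun x => ⟨algebraMap R B (c i₀) * x, hmem x x.2⟩
      map_add' := fun x y => by
        apply Subtype.ext
        simp [mul_add]
      map_smul' := fun a x => by
        apply Subtype.ext
        simp [mul_left_comm] }
  have hμ : Function.Bijective μ := by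
    constructor
    · intro x y hxy
      have h1 : algebraMap R B (c i₀) * (x : B) = algebraMap R B (c i₀) * (y : B) :=
        congrArg (fun z : 𝔟 => (z : B)) hxy
      apply Subtype.ext
      have h2 : algebraMap R B (c i₀) * ((x : B) - y) = 0 := by rw [mul_sub, h1, sub_self]
      exact sub_eq_zero.mp (htfB _ _ (hc i₀) h2)
    · intro y
      have key : ∀ z ∈ Submodule.span B (Set.range b),
          ∃ x ∈ 𝔟', algebraMap R B (c i₀) * x = z := by
        intro z hy'
        induction hy' using Submodule.span_induction with
        | mem z hz =>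
          obtain ⟨i, rfl⟩ := hz
          exact ⟨d i, Ideal.subset_span ⟨i, rfl⟩, (hd1 i).symm⟩
        | zero => exact ⟨0, 𝔟'.zero_mem, mul_zero _⟩
        | add z w _ _ hz hw =>
          obtain ⟨x1, hx1, e1⟩ := hz
          obtain ⟨x2, hx2, e2⟩ := hw
          exact ⟨x1 + x2, 𝔟'.add_mem hx1 hx2, by rw [mul_add, e1, e2]⟩
        | smul a z _ hz =>
          obtain ⟨x1, hx1, e1⟩ := hz
          exact ⟨a * x1, 𝔟'.mul_mem_left a hx1, by rw [mul_left_comm, e1, smul_eq_mul]⟩
      obtain ⟨x, hx, e⟩ := key (y : B) (by rw [hb]; exact y.2)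
      exact ⟨⟨x, hx⟩, Subtype.ext e⟩
  exact Module.FinitePresentation.of_equiv (LinearEquiv.ofBijective μ hμ)

include hval htfB hcont hpack in
/-- Step III: induction on the number of generators. -/
theorem fp_of_generators : ∀ (s : ℕ) (M : Type u) [AddCommGroup M] [Module B M] (v : Fin s → M)
    (_ : Submodule.span B (Set.range v) = ⊤)
    (_ : ∀ (r : R) (x : M), r ≠ 0 → algebraMap R B r • x = 0 → x = 0),
    Module.FinitePresentation B M := by
  classical
  intro s
  induction s with
  | zero =>
    intro M _ _ v hv htf
    haveI : Subsingleton M := by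
      have h1 : (⊤ : Submodule B M) = ⊥ := by
        rw [← hv, Submodule.span_eq_bot]
        rintro _ ⟨i, rfl⟩
        exact i.elim0
      exact (Submodule.subsingleton_iff B).mp (subsingleton_of_bot_eq_top h1.symm)
    infer_instance
  | succ s ih =>
    intro M _ _ v hv htf
    haveI : Module.Finite B M := ⟨⟨Finset.univ.image v, by
      rw [Finset.coe_image, Finset.coe_univ, Set.image_univ]; exact hv⟩⟩
    obtain ⟨v₀, hv₀⟩ : ∃ v₀, v₀ = v 0 := ⟨_, rfl⟩
    let sat : Submodule B M :=
      { carrier := {x | ∃ r : R, r ≠ 0 ∧ algebraMap R B r • x ∈ Submodule.span B {v₀}}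
        add_mem' := by
          rintro x y ⟨r, hr, hx⟩ ⟨r', hr', hy⟩
          refine ⟨r * r', mul_ne_zero hr hr', ?_⟩
          rw [smul_add, map_mul]
          refine Submodule.add_mem _ ?_ ?_
          · rw [mul_comm, mul_smul]
            exact Submodule.smul_mem _ _ hx
          · rw [mul_smul]
            exact Submodule.smul_mem _ _ hy
        zero_mem' := ⟨1, one_ne_zero, by rw [smul_zero]; exact Submodule.zero_mem _⟩
        smul_mem' := by
          rintro a x ⟨r, hr, hx⟩
          refine ⟨r, hr, ?_⟩
          rw [smul_comm]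
          exact Submodule.smul_mem _ _ hx }
    have hsat : ∀ x, x ∈ sat ↔ ∃ r : R, r ≠ 0 ∧ algebraMap R B r • x ∈ Submodule.span B {v₀} :=
      fun x => Iff.rfl
    have hv₀sat : v₀ ∈ sat :=
      (hsat _).mpr ⟨1, one_ne_zero, by rw [map_one, one_smul]; exact Submodule.mem_span_singleton_self _⟩
    -- the quotient
    haveI hQ : Module.FinitePresentation B (M ⧸ sat) := by
      apply ih (M ⧸ sat) (fun i => sat.mkQ (v i.succ))
      · rw [eq_top_iff]
        rintro x -
        obtain ⟨y, rfl⟩ := Submodule.mkQ_surjective sat x
        have hy : y ∈ Submodule.span B (Set.range v) := by rw [hv]; trivial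
        induction hy using Submodule.span_induction with
        | mem z hz =>
          obtain ⟨i, rfl⟩ := hz
          induction i using Fin.cases with
          | zero =>
            have : sat.mkQ (v 0) = 0 := by
              rw [Submodule.mkQ_apply, Submodule.Quotient.mk_eq_zero, ← hv₀]; exact hv₀sat
            rw [this]; exact Submodule.zero_mem _
          | succ j => exact Submodule.subset_span ⟨j, rfl⟩
        | zero => rw [map_zero]; exact Submodule.zero_mem _
        | add z w _ _ hz hw => rw [map_add]; exact Submodule.add_mem _ hz hw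
        | smul a z _ hz => rw [map_smul]; exact Submodule.smul_mem _ a hz
      · intro r x hr hx
        obtain ⟨y, rfl⟩ := Submodule.mkQ_surjective sat x
        rw [← map_smul, Submodule.mkQ_apply, Submodule.Quotient.mk_eq_zero, hsat] at hx
        obtain ⟨r', hr', hx⟩ := hx
        rw [Submodule.mkQ_apply, Submodule.Quotient.mk_eq_zero, hsat]
        refine ⟨r' * r, mul_ne_zero hr' hr, ?_⟩
        rw [map_mul, mul_smul]
        exact hx
    have hsatfg : sat.FG := by
      have := Module.FinitePresentation.fg_ker sat.mkQ (Submodule.mkQ_surjective sat)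
      rwa [Submodule.ker_mkQ] at this
    haveI : Module.Finite B sat := Module.Finite.iff_fg.mpr hsatfg
    have htfsat : ∀ (r : R) (x : sat), r ≠ 0 → algebraMap R B r • x = 0 → x = 0 := by
      intro r x hr hx
      apply Subtype.ext
      apply htf r _ hr
      have := congrArg (fun z : sat => (z : M)) hx
      simpa using this
    haveI hsatfp : Module.FinitePresentation B sat := by
      by_cases hann : ∃ a : B, a ≠ 0 ∧ a • v₀ = 0
      · obtain ⟨a, ha, hav⟩ := hann
        apply fp_of_annihilated Prim hcont hpack sat htfsat a ha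
        intro x
        obtain ⟨r, hr, hx⟩ := (hsat _).mp x.2
        obtain ⟨b, hb⟩ := Submodule.mem_span_singleton.mp hx
        apply Subtype.ext
        apply htf r _ hr
        show algebraMap R B r • ((a • x : sat) : M) = 0
        rw [Submodule.coe_smul, smul_comm, ← hb, smul_comm, hav, smul_zero]
      · push Not at hann
        -- a uniform denominator
        obtain ⟨G, hG⟩ := hsatfg
        have hGr : ∀ y ∈ G, ∃ r : R, r ≠ 0 ∧ algebraMap R B r • y ∈ Submodule.span B {v₀} := by
          intro y hy
          have : y ∈ sat := by rw [← hG]; exact Submodule.subset_span hy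
          exact (hsat y).mp this
        choose! ρ hρ0 hρ using hGr
        obtain ⟨r, hr⟩ : ∃ r, r = ∏ y ∈ G, ρ y := ⟨_, rfl⟩
        have hr0 : r ≠ 0 := by
          rw [hr]; exact Finset.prod_ne_zero_iff.mpr hρ0
        have hrsat : ∀ x ∈ sat, algebraMap R B r • x ∈ Submodule.span B {v₀} := by
          intro x hx
          rw [← hG] at hx
          induction hx using Submodule.span_induction with
          | mem y hy =>
            have : r = (∏ z ∈ G.erase y, ρ z) * ρ y := by
              rw [hr, Finset.prod_erase_mul G ρ hy]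
            rw [this, map_mul, mul_smul]
            exact Submodule.smul_mem _ _ (hρ y hy)
          | zero => rw [smul_zero]; exact Submodule.zero_mem _
          | add y z _ _ hy hz => rw [smul_add]; exact Submodule.add_mem _ hy hz
          | smul a y _ hy => rw [smul_comm]; exact Submodule.smul_mem _ a hy
        have hex : ∀ x : sat, ∃ b : B, algebraMap R B r • (x : M) = b • v₀ := by
          intro x
          obtain ⟨b, hb⟩ := Submodule.mem_span_singleton.mp (hrsat x x.2)
          exact ⟨b, hb.symm⟩
        choose g hg using hex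
        have huniq : ∀ b b' : B, b • v₀ = b' • v₀ → b = b' := by
          intro b b' h
          have h1 : (b - b') • v₀ = 0 := by rw [sub_smul, h, sub_self]
          by_contra hne
          exact hann (b - b') (sub_ne_zero.mpr hne) h1
        let φ : sat →ₗ[B] B :=
          { toFun := g
            map_add' := fun x y => by
              apply huniq
              rw [← hg, Submodule.coe_add, smul_add, hg, hg, add_smul]
            map_smul' := fun a x => by
              apply huniq
              rw [← hg, Submodule.coe_smul, smul_comm, hg, RingHom.id_apply, smul_eq_mul,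
                mul_smul] }
        have hφinj : Function.Injective φ := by
          intro x y hxy
          have h1 : g x = g y := hxy
          have h2 : algebraMap R B r • ((x : M) - y) = 0 := by
            rw [smul_sub, hg, hg, h1, sub_self]
          apply Subtype.ext
          exact sub_eq_zero.mp (htf r _ hr0 h2)
        have hrange : (LinearMap.range φ).FG := by
          rw [LinearMap.range_eq_map]
          exact Submodule.FG.map _ (Module.Finite.fg_top)
        haveI := fp_ideal hval htfB Prim hcont hpack (LinearMap.range φ) hrange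
        exact Module.FinitePresentation.of_equiv (LinearEquiv.ofInjective φ hφinj).symm
    haveI : Module.FinitePresentation B (LinearMap.ker sat.mkQ) := by
      rw [Submodule.ker_mkQ]; exact hsatfp
    exact Module.finitePresentation_of_ker sat.mkQ (Submodule.mkQ_surjective sat)

include hval htfB hcont hpack in
/-- The abstract dévissage. -/
theorem good_of_package : Good R B := by
  intro M _ _ _ htf
  obtain ⟨s, v, hv⟩ := Module.Finite.exists_fin (R := B) (M := M)
  exact fp_of_generators hval htfB Prim hcont hpack s M v hv htf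

end package

end Groth.Agent.Lib.T2H8.AdicDev
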