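import Mathlib
import Groth.Agent.Lib.T2H8AdicDev
import Groth.Agent.Lib.Helper19ComplTwo
import Groth.Agent.Lib.Helper18ComplProd

/-!
# T2H8RPowBase: restricted power series over a complete valuation ring of height one

Basic facts about `A t n := AdicCompletion ((span {t}).map C) (MvPolynomial (Fin n) R)`.
-/

set_option autoImplicit false
set_option linter.unusedSectionVars false
universe u

namespace Groth.Agent.Lib.T2H8.RPowBase

open MvPolynomial

section general

variable {R : Type u} [CommRing R] (t : R) (n : ℕ)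

/-- the ideal of definition of the polynomial ring -/
noncomputable abbrev J : Ideal (MvPolynomial (Fin n) R) :=
  (Ideal.span {t}).map (MvPolynomial.C : R →+* MvPolynomial (Fin n) R)

/-- restricted power series -/
abbrev A : Type u := AdicCompletion (J t n) (MvPolynomial (Fin n) R)

/-- the canonical map from polynomials -/
noncomputable abbrev ofA : MvPolynomial (Fin n) R →ₐ[R] A t n :=
  IsScalarTower.toAlgHom R (MvPolynomial (Fin n) R) (A t n)

theorem ofA_apply (p : MvPolynomial (Fin n) R) :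
    ofA t n p = AdicCompletion.of (J t n) (MvPolynomial (Fin n) R) p := rfl

theorem J_eq : J t n = Ideal.span {(C t : MvPolynomial (Fin n) R)} := by
  simp [J, Ideal.map_span]

theorem J_fg : (J t n).FG :=
  Ideal.FG.map (I := Ideal.span {t}) ⟨{t}, by simp⟩ _

theorem J_pow_eq (k : ℕ) : J t n ^ k = Ideal.span {(C t : MvPolynomial (Fin n) R) ^ k} := by
  rw [J_eq, Ideal.span_singleton_pow]

theorem algebraMap_eq (r : R) : algebraMap R (A t n) r = ofA t n (C r) := rfl

theorem smul_eq (r : R) (x : A t n) : r • x = ofA t n (C r) * x := by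
  rw [Algebra.smul_def, algebraMap_eq]

theorem C_pow_mem (k : ℕ) : (C (t ^ k) : MvPolynomial (Fin n) R) ∈ J t n ^ k := by
  rw [map_pow]
  exact Ideal.pow_mem_pow (Ideal.mem_map_of_mem _ (Ideal.mem_span_singleton_self t)) k

theorem evalₐ_smul_pow (k : ℕ) (y : A t n) :
    AdicCompletion.evalₐ (J t n) k (t ^ k • y) = 0 := by
  rw [smul_eq, map_mul, ofA_apply, AdicCompletion.evalₐ_of,
    Ideal.Quotient.eq_zero_iff_mem.mpr (C_pow_mem t n k), zero_mul]

theorem exists_eq_smul_of_evalₐ_eq_zero (k : ℕ) (x : A t n)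
    (hx : AdicCompletion.evalₐ (J t n) k x = 0) : ∃ y : A t n, x = t ^ k • y := by
  have h1 : AdicCompletion.eval (J t n) (MvPolynomial (Fin n) R) k x = 0 := by
    have h2 := AdicCompletion.factor_evalₐ_eq_eval (I := J t n) x
      (show J t n ^ k ≤ J t n ^ k • ⊤ by simp)
    rw [← h2, hx, map_zero]
  have h3 : x ∈ LinearMap.ker (AdicCompletion.eval (J t n) (MvPolynomial (Fin n) R) k) := h1
  rw [← AdicCompletion.pow_smul_top_eq_ker_eval (J_fg t n)] at h3
  have h4 : (J t n ^ k • ⊤ : Submodule (MvPolynomial (Fin n) R) (A t n)) =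
      (Ideal.span {(C t : MvPolynomial (Fin n) R) ^ k}) • ⊤ :=
    congrArg (fun I : Ideal (MvPolynomial (Fin n) R) =>
      (I • ⊤ : Submodule (MvPolynomial (Fin n) R) (A t n))) (J_pow_eq t n k)
  rw [h4, Submodule.ideal_span_singleton_smul] at h3
  obtain ⟨y, -, hy⟩ := (Submodule.mem_smul_pointwise_iff_exists _ _ _).mp h3
  refine ⟨y, ?_⟩
  rw [← hy, ← map_pow, ← MvPolynomial.algebraMap_eq, algebraMap_smul]

theorem exists_of_add_smul (k : ℕ) (x : A t n) :
    ∃ (p : MvPolynomial (Fin n) R) (y : A t n), x = ofA t n p + t ^ k • y := by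
  obtain ⟨p, hp⟩ := Ideal.Quotient.mk_surjective (AdicCompletion.evalₐ (J t n) k x)
  obtain ⟨y, hy⟩ := exists_eq_smul_of_evalₐ_eq_zero t n k (x - ofA t n p) (by
    rw [map_sub, ofA_apply, AdicCompletion.evalₐ_of, hp, sub_self])
  exact ⟨p, y, by rw [← hy]; ring⟩

theorem exists_eq_C_mul_of_ofA_eq_smul (k : ℕ) (p : MvPolynomial (Fin n) R) (y : A t n)
    (h : ofA t n p = t ^ k • y) : ∃ p' : MvPolynomial (Fin n) R, p = C (t ^ k) * p' := by
  have h1 : Ideal.Quotient.mk (J t n ^ k) p = 0 := by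
    rw [← AdicCompletion.evalₐ_of, ← ofA_apply, h, evalₐ_smul_pow]
  rw [Ideal.Quotient.eq_zero_iff_mem, J_pow_eq, Ideal.mem_span_singleton'] at h1
  obtain ⟨a, ha⟩ := h1
  exact ⟨a, by rw [← ha, map_pow, mul_comm]⟩

theorem isAdicComplete : IsAdicComplete (Ideal.span {t}) (A t n) := by
  have h := AdicCompletion.isAdicComplete (I := J t n) (M := MvPolynomial (Fin n) R) (J_fg t n)
  exact (IsAdicComplete.map_algebraMap_iff (R := R) (S := MvPolynomial (Fin n) R)
    (I := Ideal.span {t}) (M := A t n)).mp h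

theorem smul_pow_mem (I : Ideal R) (M : Type*) [AddCommGroup M] [Module R M] (c : R) (hc : c ∈ I)
    (k : ℕ) (y : M) : c ^ k • y ∈ (I ^ k • ⊤ : Submodule R M) :=
  Submodule.smul_mem_smul (Ideal.pow_mem_pow hc k) Submodule.mem_top

theorem eq_zero_of_forall_smul (x : A t n) (h : ∀ k : ℕ, ∃ y : A t n, x = t ^ k • y) : x = 0 := by
  haveI := isAdicComplete t n
  apply IsHausdorff.haus' (I := Ideal.span {t}) x
  intro k
  rw [SModEq.zero]
  obtain ⟨y, hy⟩ := h k
  rw [hy]
  exact smul_pow_mem _ _ t (Ideal.mem_span_singleton_self t) k y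

theorem isPrecomplete_prod {R : Type*} [CommRing R] (I : Ideal R) (M N : Type*) [AddCommGroup M]
    [Module R M] [AddCommGroup N] [Module R N] [IsPrecomplete I M] [IsPrecomplete I N] :
    IsPrecomplete I (M × N) := by
  refine ⟨fun f hf => ?_⟩
  have h1 : ∀ {m n}, m ≤ n → (f m).1 ≡ (f n).1 [SMOD (I ^ m • ⊤ : Submodule R M)] := by
    intro m n hmn
    have h := hf hmn
    rw [SModEq.sub_mem] at h ⊢
    exact Helper19.map_mem_smul_top (LinearMap.fst R M N) _ h
  have h2 : ∀ {m n}, m ≤ n → (f m).2 ≡ (f n).2 [SMOD (I ^ m • ⊤ : Submodule R N)] := by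
    intro m n hmn
    have h := hf hmn
    rw [SModEq.sub_mem] at h ⊢
    exact Helper19.map_mem_smul_top (LinearMap.snd R M N) _ h
  obtain ⟨L1, hL1⟩ := IsPrecomplete.prec' (I := I) (fun m => (f m).1) h1
  obtain ⟨L2, hL2⟩ := IsPrecomplete.prec' (I := I) (fun m => (f m).2) h2
  refine ⟨(L1, L2), fun k => ?_⟩
  rw [SModEq.sub_mem]
  have e : f k - (L1, L2) = LinearMap.inl R M N ((f k).1 - L1) +
      LinearMap.inr R M N ((f k).2 - L2) := by
    ext <;> simp
  rw [e]
  apply Submodule.add_mem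
  · exact Helper19.map_mem_smul_top (LinearMap.inl R M N) _ ((SModEq.sub_mem).mp (hL1 k))
  · exact Helper19.map_mem_smul_top (LinearMap.inr R M N) _ ((SModEq.sub_mem).mp (hL2 k))

theorem isPrecomplete_span (c : R) (hct : c ∣ t) (i : ℕ) (hi : t ∣ c ^ i) :
    IsPrecomplete (Ideal.span {c}) (A t n) := by
  haveI := isAdicComplete t n
  exact Helper18ComplProd.isPrecomplete_of_pow_le (Ideal.span {t}) (Ideal.span {c}) (A t n)
    ((Ideal.span_singleton_le_span_singleton).mpr hct) i (by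
      rw [Ideal.span_singleton_pow, Ideal.span_singleton_le_span_singleton]; exact hi)

theorem isHausdorff_span (c : R) (i : ℕ) (hi : t ∣ c ^ i) :
    IsHausdorff (Ideal.span {c}) (A t n) := by
  refine ⟨fun x hx => ?_⟩
  haveI := isAdicComplete t n
  apply IsHausdorff.haus' (I := Ideal.span {t}) x
  intro l
  have h1 := hx (i * l)
  rw [SModEq.zero] at h1 ⊢
  have hle : (Ideal.span {c}) ^ (i * l) ≤ (Ideal.span {t}) ^ l := by
    rw [pow_mul]
    apply Ideal.pow_right_mono
    rw [Ideal.span_singleton_pow, Ideal.span_singleton_le_span_singleton]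
    exact hi
  exact Submodule.smul_mono_left hle h1

end general

section domain

variable {R : Type u} [CommRing R] [IsDomain R] (t : R) (n : ℕ)

theorem smul_t_cancel (ht0 : t ≠ 0) (x : A t n) (h : t • x = 0) : x = 0 := by
  apply eq_zero_of_forall_smul t n x
  intro k
  obtain ⟨p, y, hxy⟩ := exists_of_add_smul t n k x
  have h1 : ofA t n (C t * p) = t ^ (k + 1) • (-y) := by
    have h2 : t • x = ofA t n (C t * p) + t ^ (k + 1) • y := by
      rw [hxy, smul_add, smul_smul, ← pow_succ', smul_eq t n t (ofA t n p), ← map_mul]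
    rw [h] at h2
    rw [smul_neg]
    exact eq_neg_of_add_eq_zero_left h2.symm
  obtain ⟨p', hp'⟩ := exists_eq_C_mul_of_ofA_eq_smul t n (k + 1) _ _ h1
  have h2 : p = C (t ^ k) * p' := by
    have hC : (C t : MvPolynomial (Fin n) R) ≠ 0 := by
      intro h0
      exact ht0 (MvPolynomial.C_injective (Fin n) R (by rw [h0, map_zero]))
    apply mul_left_cancel₀ hC
    rw [hp', pow_succ', map_mul, mul_assoc]
  refine ⟨ofA t n p' + y, ?_⟩
  rw [hxy, h2, map_mul, smul_add, smul_eq t n (t ^ k) (ofA t n p')]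

variable [PreValuationRing R] [Ring.KrullDimLE 1 R]

theorem exists_dvd_pow (a b : R) (ha : a ≠ 0) (hb : ¬ IsUnit b) : ∃ j : ℕ, a ∣ b ^ j := by
  have hmem : b ∈ (Ideal.span {a}).radical := by
    rw [Ideal.radical_eq_sInf, Ideal.mem_sInf]
    rintro P ⟨hle, hP⟩
    have hne : P ≠ ⊥ := by
      intro h0
      apply ha
      have h1 : a ∈ P := hle (Ideal.mem_span_singleton_self a)
      rw [h0] at h1
      exact (Ideal.mem_bot).mp h1
    have hmax : P.IsMaximal := hP.isMaximal_of_ne_bot hne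
    rw [IsLocalRing.eq_maximalIdeal hmax]
    exact (IsLocalRing.mem_maximalIdeal b).mpr hb
  obtain ⟨j, hj⟩ := Ideal.mem_radical_iff.mp hmem
  exact ⟨j, Ideal.mem_span_singleton.mp hj⟩

theorem smul_cancel (ht0 : t ≠ 0) (ht : ¬ IsUnit t) (r : R) (hr : r ≠ 0) (x : A t n)
    (h : r • x = 0) : x = 0 := by
  obtain ⟨j, e, he⟩ := exists_dvd_pow r t hr ht
  have h1 : t ^ j • x = 0 := by rw [he, mul_comm, mul_smul, h, smul_zero]
  clear he
  induction j with
  | zero => simpa using h1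
  | succ j ih =>
    apply ih
    apply smul_t_cancel t n ht0
    rw [smul_smul, ← pow_succ']
    exact h1

theorem residue_eq_zero (a : R) (ha : ¬ IsUnit a) : IsLocalRing.residue R a = 0 :=
  (IsLocalRing.residue_eq_zero_iff a).mpr ((IsLocalRing.mem_maximalIdeal a).mpr ha)

theorem isUnit_of_residue_ne_zero (a : R) (ha : IsLocalRing.residue R a ≠ 0) : IsUnit a := by
  by_contra h
  exact ha (residue_eq_zero a h)

theorem J_le_ker (ht : ¬ IsUnit t) :
    J t n ≤ RingHom.ker (MvPolynomial.map (σ := Fin n) (IsLocalRing.residue R)) := by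
  rw [J_eq, Ideal.span_le]
  intro z hz
  rw [Set.mem_singleton_iff] at hz
  rw [hz, SetLike.mem_coe, RingHom.mem_ker, MvPolynomial.map_C, residue_eq_zero t ht, map_zero]

/-- reduction to the residue field -/
noncomputable def kap (ht : ¬ IsUnit t) :
    A t n →+* MvPolynomial (Fin n) (IsLocalRing.ResidueField R) :=
  (Ideal.Quotient.lift (J t n) (MvPolynomial.map (IsLocalRing.residue R))
    (fun a ha => J_le_ker t n ht ha)).comp (AdicCompletion.evalOneₐ (J t n)).toRingHom

theorem kap_ofA (ht : ¬ IsUnit t) (p : MvPolynomial (Fin n) R) :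
    kap t n ht (ofA t n p) = MvPolynomial.map (IsLocalRing.residue R) p := rfl

theorem kap_smul (ht : ¬ IsUnit t) (r : R) (x : A t n) :
    kap t n ht (r • x) = C (IsLocalRing.residue R r) * kap t n ht x := by
  rw [smul_eq, map_mul, kap_ofA, MvPolynomial.map_C]

theorem kap_smul_nonunit (ht : ¬ IsUnit t) (r : R) (hr : ¬ IsUnit r) (x : A t n) :
    kap t n ht (r • x) = 0 := by
  rw [kap_smul, residue_eq_zero r hr, map_zero, zero_mul]

theorem kap_surjective (ht : ¬ IsUnit t) : Function.Surjective (kap t n ht) := by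
  intro q
  obtain ⟨p, hp⟩ := MvPolynomial.map_surjective (IsLocalRing.residue R)
    (IsLocalRing.residue_surjective) q
  exact ⟨ofA t n p, by rw [kap_ofA, hp]⟩

theorem exists_content (ht0 : t ≠ 0) (ht : ¬ IsUnit t) (f : A t n) (hf : f ≠ 0) :
    ∃ (c : R) (f₀ : A t n), c ≠ 0 ∧ kap t n ht f₀ ≠ 0 ∧ f = c • f₀ := by
  have hk : ∃ k : ℕ, ¬ ∃ y : A t n, f = t ^ k • y := by
    by_contra hcon
    push Not at hcon
    exact hf (eq_zero_of_forall_smul t n f hcon)
  obtain ⟨k, hk⟩ := hk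
  obtain ⟨p, y, hpy⟩ := exists_of_add_smul t n k f
  have hp0 : p ≠ 0 := by
    rintro rfl
    exact hk ⟨y, by rw [hpy, map_zero, zero_add]⟩
  obtain ⟨m₀, hm₀, hdiv⟩ := AdicDev.exists_dvd_all (fun a b : R => ValuationRing.dvd_total a b)
    p.support (MvPolynomial.support_nonempty.mpr hp0) (fun m => coeff m p)
  obtain ⟨c, hc⟩ : ∃ c, c = coeff m₀ p := ⟨_, rfl⟩
  rw [← hc] at hdiv
  have hc0 : c ≠ 0 := by rw [hc]; exact MvPolynomial.mem_support_iff.mp hm₀
  have hdiv' : ∀ m, c ∣ coeff m p := by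
    intro m
    by_cases hm : m ∈ p.support
    · exact hdiv m hm
    · rw [MvPolynomial.notMem_support_iff.mp hm]
      exact dvd_zero c
  obtain ⟨p₀, hp₀⟩ := (MvPolynomial.C_dvd_iff_dvd_coeff c p).mpr hdiv'
  have hcoeff : coeff m₀ p₀ = 1 := by
    have h1 : c * coeff m₀ p₀ = c * 1 := by
      rw [← MvPolynomial.coeff_C_mul, ← hp₀, mul_one, hc]
    exact mul_left_cancel₀ hc0 h1
  by_cases hdvd : t ^ k ∣ c
  · exfalso
    obtain ⟨e, he⟩ := hdvd
    apply hk
    refine ⟨ofA t n (C e * p₀) + y, ?_⟩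
    rw [hpy, hp₀, he, smul_add, smul_eq t n (t ^ k) (ofA _ _ _), ← map_mul, map_mul C, mul_assoc]
  · obtain ⟨e, he⟩ : c ∣ t ^ k := (ValuationRing.dvd_total c (t ^ k)).resolve_right hdvd
    have he_nu : ¬ IsUnit e := by
      rintro ⟨u, hu⟩
      exact hdvd ⟨↑u⁻¹, by rw [he, ← hu, mul_assoc, Units.mul_inv, mul_one]⟩
    refine ⟨c, ofA t n p₀ + e • y, hc0, ?_, ?_⟩
    · rw [map_add, kap_ofA, kap_smul_nonunit t n ht e he_nu, add_zero]
      intro h0
      have h1 : coeff m₀ (MvPolynomial.map (IsLocalRing.residue R) p₀) = 1 := by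
        rw [MvPolynomial.coeff_map, hcoeff, map_one]
      rw [h0, coeff_zero] at h1
      exact zero_ne_one h1
    · rw [hpy, hp₀, he, smul_add, smul_smul, smul_eq t n c (ofA _ _ _), ← map_mul]

theorem exists_nonunit_dvd (ht0 : t ≠ 0) (ht : ¬ IsUnit t) (S : Finset R)
    (hS : ∀ a ∈ S, ¬ IsUnit a) :
    ∃ c : R, c ≠ 0 ∧ ¬ IsUnit c ∧ c ∣ t ∧ ∀ a ∈ S, c ∣ a := by
  classical
  induction S using Finset.induction_on with
  | empty => exact ⟨t, ht0, ht, dvd_rfl, by simp⟩
  | insert a s ha ih =>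
    obtain ⟨c, hc0, hcu, hct, hcs⟩ := ih (fun b hb => hS b (Finset.mem_insert_of_mem hb))
    rcases ValuationRing.dvd_total c a with h | h
    · refine ⟨c, hc0, hcu, hct, fun b hb => ?_⟩
      rcases Finset.mem_insert.mp hb with rfl | hb
      · exact h
      · exact hcs b hb
    · refine ⟨a, ?_, hS a (Finset.mem_insert_self a s), h.trans hct, fun b hb => ?_⟩
      · rintro rfl
        exact hc0 (zero_dvd_iff.mp h)
      · rcases Finset.mem_insert.mp hb with rfl | hb
        · exact dvd_rfl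
        · exact h.trans (hcs b hb)

theorem exists_of_kap_eq_zero (ht0 : t ≠ 0) (ht : ¬ IsUnit t) (b : A t n)
    (hb : kap t n ht b = 0) :
    ∃ (c : R) (b' : A t n), c ≠ 0 ∧ ¬ IsUnit c ∧ c ∣ t ∧ b = c • b' := by
  classical
  obtain ⟨p, y, hpy⟩ := exists_of_add_smul t n 1 b
  rw [pow_one] at hpy
  have h1 : MvPolynomial.map (IsLocalRing.residue R) p = 0 := by
    have h2 := hb
    rw [hpy, map_add, kap_ofA, kap_smul_nonunit t n ht t ht, add_zero] at h2
    exact h2
  have hnu : ∀ a ∈ p.support.image (fun m => coeff m p), ¬ IsUnit a := by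
    intro a ha
    obtain ⟨m, -, rfl⟩ := Finset.mem_image.mp ha
    have h2 : IsLocalRing.residue R (coeff m p) = 0 := by
      rw [← MvPolynomial.coeff_map, h1, coeff_zero]
    exact (IsLocalRing.mem_maximalIdeal _).mp ((IsLocalRing.residue_eq_zero_iff _).mp h2)
  obtain ⟨c, hc0, hcu, hct, hcs⟩ := exists_nonunit_dvd t ht0 ht _ hnu
  have hdiv : ∀ m, c ∣ coeff m p := by
    intro m
    by_cases hm : m ∈ p.support
    · exact hcs _ (Finset.mem_image_of_mem _ hm)
    · rw [MvPolynomial.notMem_support_iff.mp hm]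
      exact dvd_zero c
  obtain ⟨p', hp'⟩ := (MvPolynomial.C_dvd_iff_dvd_coeff c p).mpr hdiv
  obtain ⟨e, he⟩ := hct
  refine ⟨c, ofA t n p' + e • y, hc0, hcu, ⟨e, he⟩, ?_⟩
  rw [hpy, hp', smul_add, smul_smul, ← he, smul_eq t n c (ofA t n p'), ← map_mul]

/-- Gauss lemma I: primitive elements are nonzerodivisors. -/
theorem prim_mem_nonZeroDivisors (ht0 : t ≠ 0) (ht : ¬ IsUnit t) (f₀ : A t n)
    (hf₀ : kap t n ht f₀ ≠ 0) : f₀ ∈ nonZeroDivisors (A t n) := by
  rw [mem_nonZeroDivisors_iff_right]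
  intro h hh
  by_contra hne
  obtain ⟨c, h₀, hc0, hh₀, rfl⟩ := exists_content t n ht0 ht h hne
  have h1 : c • (h₀ * f₀) = 0 := by rw [← smul_mul_assoc, hh]
  have h2 := smul_cancel t n ht0 ht c hc0 _ h1
  have h3 : kap t n ht h₀ * kap t n ht f₀ = 0 := by rw [← map_mul, h2, map_zero]
  rcases mul_eq_zero.mp h3 with h4 | h4
  · exact hh₀ h4
  · exact hf₀ h4

/-- Gauss lemma II: the quotient by a primitive element is torsion free. -/
theorem mem_span_of_smul_mem (ht0 : t ≠ 0) (ht : ¬ IsUnit t) (f₀ : A t n)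
    (hf₀ : kap t n ht f₀ ≠ 0) (r : R) (b : A t n) (hr : r ≠ 0)
    (hmem : algebraMap R (A t n) r * b ∈ Ideal.span {f₀}) : b ∈ Ideal.span {f₀} := by
  obtain ⟨h, hh⟩ := Ideal.mem_span_singleton'.mp hmem
  rw [← Algebra.smul_def] at hh
  by_cases hb : b = 0
  · rw [hb]; exact Ideal.zero_mem _
  obtain ⟨c', b₀, hc'0, hb₀, rfl⟩ := exists_content t n ht0 ht b hb
  by_cases hh0 : h = 0
  · exfalso
    rw [hh0, zero_mul] at hh
    exact hb (smul_cancel t n ht0 ht r hr _ hh.symm)
  obtain ⟨c, h₀, hc0, hh₀, rfl⟩ := exists_content t n ht0 ht h hh0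
  have hprod : kap t n ht (h₀ * f₀) ≠ 0 := by
    rw [map_mul]
    exact mul_ne_zero hh₀ hf₀
  have hkey : (r * c') • b₀ = c • (h₀ * f₀) := by
    rw [mul_smul, ← hh, smul_mul_assoc]
  rcases ValuationRing.dvd_total (r * c') c with ⟨u, hu⟩ | ⟨u, hu⟩
  · -- c = r c' u
    have h1 : (r * c') • (b₀ - u • (h₀ * f₀)) = 0 := by
      rw [smul_sub, hkey, hu, mul_smul, sub_self]
    have h2 := smul_cancel t n ht0 ht (r * c') (mul_ne_zero hr hc'0) _ h1
    rw [sub_eq_zero] at h2
    rw [h2, smul_smul, ← smul_mul_assoc]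
    exact Ideal.mul_mem_left _ _ (Ideal.mem_span_singleton_self f₀)
  · -- r c' = c u
    have h1 : c • (u • b₀ - h₀ * f₀) = 0 := by
      rw [smul_sub, ← hkey, hu, mul_smul, sub_self]
    have h2 := smul_cancel t n ht0 ht c hc0 _ h1
    rw [sub_eq_zero] at h2
    have hu_unit : IsUnit u := by
      apply isUnit_of_residue_ne_zero
      intro h0
      apply hprod
      rw [← h2, kap_smul, h0, map_zero, zero_mul]
    obtain ⟨v, rfl⟩ := hu_unit
    have h3 : b₀ = ((↑v⁻¹ : R) • h₀) * f₀ := by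
      rw [smul_mul_assoc, ← h2, smul_smul, Units.inv_mul, one_smul]
    rw [h3, ← smul_mul_assoc]
    exact Ideal.mul_mem_left _ _ (Ideal.mem_span_singleton_self f₀)

/-- in zero variables, primitive elements are units. -/
theorem isUnit_of_prim_zero (ht : ¬ IsUnit t) (f₀ : A t 0) (hf₀ : kap t 0 ht f₀ ≠ 0) :
    IsUnit f₀ := by
  obtain ⟨p, y, hpy⟩ := exists_of_add_smul t 0 1 f₀
  rw [pow_one] at hpy
  obtain ⟨r, hr⟩ : ∃ r : R, p = C r := ⟨_, MvPolynomial.eq_C_of_isEmpty p⟩
  have hru : IsUnit r := by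
    apply isUnit_of_residue_ne_zero
    intro h0
    apply hf₀
    rw [hpy, map_add, kap_ofA, kap_smul_nonunit t 0 ht t ht, add_zero, hr, MvPolynomial.map_C, h0,
      map_zero]
  obtain ⟨v, rfl⟩ := hru
  haveI := AdicCompletion.isAdicComplete_self (J t 0) (J_fg t 0)
  have hjac : ofA t 0 (C t) ∈ (⊥ : Ideal (A t 0)).jacobson := by
    apply IsAdicComplete.le_jacobson_bot ((J t 0).map (algebraMap _ (A t 0)))
    exact Ideal.mem_map_of_mem _ (Ideal.mem_map_of_mem _ (Ideal.mem_span_singleton_self t))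
  have h1 := (Ideal.mem_jacobson_bot.mp hjac) (ofA t 0 (C (↑v⁻¹ : R)) * y)
  have h2 : f₀ = ofA t 0 (C (v : R)) * (ofA t 0 (C t) * (ofA t 0 (C (↑v⁻¹ : R)) * y) + 1) := by
    have h3 : ofA t 0 (C (v : R)) * ofA t 0 (C (↑v⁻¹ : R)) = 1 := by
      rw [← map_mul, ← map_mul, Units.mul_inv, map_one, map_one]
    calc f₀ = ofA t 0 (C (v : R)) + ofA t 0 (C t) * y := by rw [hpy, hr, smul_eq]
      _ = ofA t 0 (C (v : R)) + ofA t 0 (C t) * ((ofA t 0 (C (v : R)) * ofA t 0 (C (↑v⁻¹ : R))) * y) := by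
          rw [h3, one_mul]
      _ = _ := by ring
  rw [h2]
  exact ((v.isUnit.map C).map (ofA t 0)).mul h1

end domain

end Groth.Agent.Lib.T2H8.RPowBase
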