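import Mathlib
import Groth.Agent.Lib.T2H8RPowBase
import Groth.Agent.Lib.Helper19ComplExtend

/-!
# T2H8RPowWeier: Noether normalisation and Weierstrass-type finiteness for restricted power series
-/

set_option autoImplicit false
set_option linter.unusedSectionVars false
universe u

namespace Groth.Agent.Lib.T2H8.RPowWeier

open MvPolynomial

section tau

variable (S : Type*) [CommRing S] {n : ℕ} (e : Fin (n + 1) → ℕ)

/-- the substitution `X_i ↦ X_i + c X_0 ^ e_i`, `X_0 ↦ X_0`. -/
noncomputable def tau (c : S) : MvPolynomial (Fin (n + 1)) S →ₐ[S] MvPolynomial (Fin (n + 1)) S :=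
  aeval fun i ↦ if i = 0 then X 0 else X i + c • X 0 ^ e i

theorem tau_comp_neg (c : S) : (tau S e c).comp (tau S e (-c)) = AlgHom.id _ _ := by
  rw [tau, tau, comp_aeval, ← MvPolynomial.aeval_X_left]
  ext i v
  cases i using Fin.cases <;> simp

theorem tau_tau_neg (c : S) (p : MvPolynomial (Fin (n + 1)) S) :
    tau S e c (tau S e (-c) p) = p := by
  have h := tau_comp_neg S e c
  exact congrArg (fun φ : MvPolynomial (Fin (n + 1)) S →ₐ[S] MvPolynomial (Fin (n + 1)) S => φ p) h

theorem tau_neg_tau (c : S) (p : MvPolynomial (Fin (n + 1)) S) :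
    tau S e (-c) (tau S e c p) = p := by
  have h := tau_tau_neg S e (-c) p
  rwa [neg_neg] at h

theorem tau_X_zero (c : S) : tau S e c (X 0) = X 0 := by
  simp [tau]

theorem tau_X_succ (c : S) (i : Fin n) : tau S e c (X i.succ) = X i.succ + c • X 0 ^ e i.succ := by
  simp [tau, Fin.succ_ne_zero]

variable {S}

theorem map_tau {S' : Type*} [CommRing S'] (φ : S →+* S') (c : S)
    (p : MvPolynomial (Fin (n + 1)) S) :
    MvPolynomial.map φ (tau S e c p) = tau S' e (φ c) (MvPolynomial.map φ p) := by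
  have h : (MvPolynomial.map φ).comp (tau S e c).toRingHom =
      (tau S' e (φ c)).toRingHom.comp (MvPolynomial.map φ) := by
    apply MvPolynomial.ringHom_ext
    · intro a
      simp
    · intro i
      cases i using Fin.cases with
      | zero => simp [tau_X_zero]
      | succ i => simp [tau_X_succ, smul_eq_C_mul]
  exact congrArg (fun ψ : MvPolynomial (Fin (n + 1)) S →+* MvPolynomial (Fin (n + 1)) S' => ψ p) h

variable (S)

/-- the new embedding of `n` variables -/
noncomputable def psi : MvPolynomial (Fin n) S →ₐ[S] MvPolynomial (Fin (n + 1)) S :=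
  (tau S e (-1)).comp (rename Fin.succ)

variable {S}

theorem map_psi {S' : Type*} [CommRing S'] (φ : S →+* S') (p : MvPolynomial (Fin n) S) :
    MvPolynomial.map φ (psi S e p) = psi S' e (MvPolynomial.map φ p) := by
  simp only [psi, AlgHom.comp_apply]
  rw [map_tau, MvPolynomial.map_rename, map_neg, map_one]

variable (S)

/-- the inverse of `finSuccEquiv` as an evaluation -/
theorem eval₂_rename_finSuccEquiv (p : MvPolynomial (Fin (n + 1)) S) :
    Polynomial.eval₂ (rename Fin.succ : MvPolynomial (Fin n) S →ₐ[S] _).toRingHom (X 0)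
      (finSuccEquiv S n p) = p := by
  have h : (Polynomial.eval₂RingHom (rename Fin.succ : MvPolynomial (Fin n) S →ₐ[S] _).toRingHom
      (X 0)).comp (finSuccEquiv S n : MvPolynomial (Fin (n + 1)) S →+* _) = RingHom.id _ := by
    apply MvPolynomial.ringHom_ext
    · intro a
      simp [finSuccEquiv_apply]
    · intro i
      cases i using Fin.cases with
      | zero => simp [finSuccEquiv_X_zero]
      | succ i => simp [finSuccEquiv_X_succ]
  exact congrArg (fun ψ : MvPolynomial (Fin (n + 1)) S →+* MvPolynomial (Fin (n + 1)) S => ψ p) h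

theorem eval₂_psi (p : MvPolynomial (Fin (n + 1)) S) :
    Polynomial.eval₂ (psi S e).toRingHom (X 0) (finSuccEquiv S n (tau S e 1 p)) = p := by
  have h1 : (psi S e).toRingHom = (tau S e (-1)).toRingHom.comp
      (rename Fin.succ : MvPolynomial (Fin n) S →ₐ[S] _).toRingHom := rfl
  have h2 : (X 0 : MvPolynomial (Fin (n + 1)) S) = (tau S e (-1)).toRingHom (X 0) :=
    (tau_X_zero S e (-1)).symm
  rw [h1, h2, ← Polynomial.hom_eval₂, eval₂_rename_finSuccEquiv]
  exact tau_neg_tau S e 1 p

end tau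

/-! ### A copy of Mathlib's (private) Noether normalisation lemmas -/
namespace NN

open Polynomial MvPolynomial Ideal Nat RingHom List

variable {k : Type*} [Field k] {n : ℕ} (f : MvPolynomial (Fin (n + 1)) k)
variable (v w : Fin (n + 1) →₀ ℕ)

local notation3 "up" => 2 + f.totalDegree

variable {f v} in
lemma lt_up (vlt : ∀ i, v i < up) : ∀ l ∈ ofFn v, l < up := by
  grind

local notation3 "r" => fun (i : Fin (n + 1)) ↦ up ^ i.1

noncomputable abbrev T1 (c : k) :
    MvPolynomial (Fin (n + 1)) k →ₐ[k] MvPolynomial (Fin (n + 1)) k :=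
  aeval fun i ↦ if i = 0 then X 0 else X i + c • X 0 ^ r i

lemma t1_comp_t1_neg (c : k) : (T1 f c).comp (T1 f (-c)) = AlgHom.id _ _ := by
  rw [comp_aeval, ← MvPolynomial.aeval_X_left]
  ext i v
  cases i using Fin.cases <;> simp

noncomputable abbrev T := AlgEquiv.ofAlgHom (T1 f 1) (T1 f (-1))
  (t1_comp_t1_neg f 1) (by simpa using t1_comp_t1_neg f (-1))

lemma sum_r_mul_ne (vlt : ∀ i, v i < up) (wlt : ∀ i, w i < up) (ne : v ≠ w) :
    ∑ x : Fin (n + 1), r x * v x ≠ ∑ x : Fin (n + 1), r x * w x := by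
  intro h
  refine ne <| Finsupp.ext <| congrFun <| ofFn_inj.mp ?_
  apply ofDigits_inj_of_len_eq (Nat.lt_add_right f.totalDegree one_lt_two)
    (by simp) (lt_up vlt) (lt_up wlt)
  simpa only [ofDigits_eq_sum_mapIdx, mapIdx_eq_ofFn, get_ofFn, length_ofFn,
    Fin.val_cast, mul_comm, sum_ofFn] using! h

lemma degreeOf_zero_t {a : k} (ha : a ≠ 0) : ((T f) (monomial v a)).degreeOf 0 =
    ∑ i : Fin (n + 1), (r i) * v i := by
  rw [← natDegree_finSuccEquiv, monomial_eq, Finsupp.prod_pow v fun a ↦ X a]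
  simp only [Fin.prod_univ_succ, Fin.sum_univ_succ, map_mul, map_prod, map_pow,
    AlgEquiv.ofAlgHom_apply, MvPolynomial.aeval_C, MvPolynomial.aeval_X, if_pos, Fin.succ_ne_zero,
    ite_false, one_smul, map_add, finSuccEquiv_X_zero, finSuccEquiv_X_succ, algebraMap_eq]
  have h (i : Fin n) :
      (Polynomial.C (X (R := k) i) + Polynomial.X ^ r i.succ) ^ v i.succ ≠ 0 :=
    pow_ne_zero (v i.succ) (leadingCoeff_ne_zero.mp <| by simp [add_comm, leadingCoeff_X_pow_add_C])
  rw [natDegree_mul (by simp [ha]) (mul_ne_zero (by simp) (Finset.prod_ne_zero_iff.mpr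
    (fun i _ ↦ h i))), natDegree_mul (by simp) (Finset.prod_ne_zero_iff.mpr (fun i _ ↦ h i)),
    natDegree_prod _ _ (fun i _ ↦ h i), natDegree_finSuccEquiv, degreeOf_C]
  simpa only [natDegree_pow, zero_add, natDegree_X, mul_one, Fin.val_zero, pow_zero, one_mul,
    add_right_inj] using Finset.sum_congr rfl (fun i _ ↦ by
    rw [add_comm (Polynomial.C _), natDegree_X_pow_add_C, mul_comm])

lemma degreeOf_t_ne_of_ne (hv : v ∈ f.support) (hw : w ∈ f.support) (ne : v ≠ w) :
    (T f <| monomial v <| coeff v f).degreeOf 0 ≠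
    (T f <| monomial w <| coeff w f).degreeOf 0 := by
  rw [degreeOf_zero_t _ _ <| mem_support_iff.mp hv, degreeOf_zero_t _ _ <| mem_support_iff.mp hw]
  refine sum_r_mul_ne f v w (fun i ↦ ?_) (fun i ↦ ?_) ne <;>
  exact lt_of_le_of_lt ((monomial_le_degreeOf i ‹_›).trans (degreeOf_le_totalDegree f i))
    (by lia)

lemma leadingCoeff_finSuccEquiv_t :
    (finSuccEquiv k n ((T f) ((monomial v) (coeff v f)))).leadingCoeff =
    algebraMap k _ (coeff v f) := by
  rw [monomial_eq, Finsupp.prod_fintype]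
  · simp only [map_mul, map_prod, leadingCoeff_mul, leadingCoeff_prod]
    rw [AlgEquiv.ofAlgHom_apply, algHom_C, algebraMap_eq, finSuccEquiv_apply,
      eval₂Hom_C, coe_comp]
    simp only [AlgEquiv.ofAlgHom_apply, Function.comp_apply, leadingCoeff_C, map_pow,
      leadingCoeff_pow, algebraMap_eq]
    have : ∀ j, ((finSuccEquiv k n) ((T1 f) 1 (X j))).leadingCoeff = 1 := fun j ↦ by
      by_cases h : j = 0
      · simp [h, finSuccEquiv_apply]
      · simp only [aeval_eq_bind₁, bind₁_X_right, if_neg h, one_smul, map_add, map_pow]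
        obtain ⟨i, rfl⟩ := Fin.exists_succ_eq.mpr h
        simp [finSuccEquiv_X_succ, finSuccEquiv_X_zero, add_comm]
    simp only [this, one_pow, Finset.prod_const_one, mul_one]
  exact fun i ↦ pow_zero _

lemma T_leadingcoeff_isUnit (fne : f ≠ 0) :
    IsUnit (finSuccEquiv k n (T f f)).leadingCoeff := by
  obtain ⟨v, vin, vs⟩ := Finset.exists_max_image f.support
    (fun v ↦ (T f ((monomial v) (coeff v f))).degreeOf 0) (support_nonempty.mpr fne)
  set h := fun w ↦ (MvPolynomial.monomial w) (coeff w f)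
  simp only [← natDegree_finSuccEquiv] at vs
  replace vs : ∀ x ∈ f.support \ {v}, (finSuccEquiv k n ((T f) (h x))).degree <
      (finSuccEquiv k n ((T f) (h v))).degree := by
    intro x hx
    obtain ⟨h1, h2⟩ := Finset.mem_sdiff.mp hx
    apply degree_lt_degree <| lt_of_le_of_ne (vs x h1) ?_
    simpa only [natDegree_finSuccEquiv]
      using degreeOf_t_ne_of_ne f _ _ h1 vin <| ne_of_not_mem_cons h2
  have coeff : (finSuccEquiv k n ((T f) (h v + ∑ x ∈ f.support \ {v}, h x))).leadingCoeff =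
      (finSuccEquiv k n ((T f) (h v))).leadingCoeff := by
    simp only [map_add, map_sum]
    rw [add_comm]
    apply leadingCoeff_add_of_degree_lt <| (lt_of_le_of_lt <| degree_sum_le _ _) ?_
    have h2 : h v ≠ 0 := by simpa [h] using mem_support_iff.mp vin
    replace h2 : (finSuccEquiv k n ((T f) (h v))) ≠ 0 := fun eq ↦ h2 <|
      by simpa only [map_eq_zero_iff _ (AlgEquiv.injective _)] using eq
    exact (Finset.sup_lt_iff <| Ne.bot_lt (fun x ↦ h2 <| degree_eq_bot.mp x)).mpr vs
  nth_rw 2 [← f.support_sum_monomial_coeff]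
  rw [Finset.sum_eq_add_sum_sdiff_singleton_of_mem vin h]
  rw [leadingCoeff_finSuccEquiv_t] at coeff
  simpa only [coeff, algebraMap_eq] using (mem_support_iff.mp vin).isUnit.map MvPolynomial.C

end NN

/-- Noether normalisation: after a substitution `tau`, the leading coefficient in `X_0` is a unit -/
theorem exists_tau_leadingCoeff_isUnit {k : Type*} [Field k] {n : ℕ}
    (f : MvPolynomial (Fin (n + 1)) k) (hf : f ≠ 0) :
    ∃ e : Fin (n + 1) → ℕ, IsUnit (finSuccEquiv k n (tau k e 1 f)).leadingCoeff :=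
  ⟨fun i => (2 + f.totalDegree) ^ i.1, NN.T_leadingcoeff_isUnit f hf⟩

section ext

open RPowBase

variable {R : Type u} [CommRing R] (t : R)

theorem exists_ext {n m : ℕ} (ψ : MvPolynomial (Fin n) R →ₐ[R] MvPolynomial (Fin m) R) :
    ∃ Ψ : A t n →ₐ[R] A t m, ∀ p, Ψ (ofA t n p) = ofA t m (ψ p) := by
  haveI := AdicCompletion.isAdicComplete_self (J t m) (J_fg t m)
  obtain ⟨Ψ, hΨ⟩ := Helper19.exists_algHom_adicCompletion (R := R) (J t n)
    ((J t m).map (algebraMap (MvPolynomial (Fin m) R) (A t m))) ((ofA t m).comp ψ) (by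
      rw [J_eq t n, Ideal.map_span, Ideal.span_le]
      rintro _ ⟨z, hz, rfl⟩
      rw [Set.mem_singleton_iff] at hz
      rw [hz]
      have h1 : ((ofA t m).comp ψ).toRingHom (C t) =
          algebraMap (MvPolynomial (Fin m) R) (A t m) (C t) := by
        show ofA t m (ψ (C t)) = _
        have h2 : ψ (C t) = C t := by
          rw [← MvPolynomial.algebraMap_eq, ψ.commutes, MvPolynomial.algebraMap_eq]
        rw [h2]
        rfl
      rw [SetLike.mem_coe, h1]
      exact Ideal.mem_map_of_mem _ (Ideal.mem_map_of_mem _ (Ideal.mem_span_singleton_self t)))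
  exact ⟨Ψ, fun p => hΨ p⟩

variable [IsDomain R] [PreValuationRing R] [Ring.KrullDimLE 1 R]

theorem kap_ext (ht : ¬ IsUnit t) {n m : ℕ}
    (ψ : MvPolynomial (Fin n) R →ₐ[R] MvPolynomial (Fin m) R) (Ψ : A t n →ₐ[R] A t m)
    (hΨ : ∀ p, Ψ (ofA t n p) = ofA t m (ψ p))
    (ψk : MvPolynomial (Fin n) (IsLocalRing.ResidueField R) →+*
      MvPolynomial (Fin m) (IsLocalRing.ResidueField R))
    (hψk : ∀ p, MvPolynomial.map (IsLocalRing.residue R) (ψ p) =
      ψk (MvPolynomial.map (IsLocalRing.residue R) p)) (x : A t n) :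
    kap t m ht (Ψ x) = ψk (kap t n ht x) := by
  obtain ⟨p, y, hpy⟩ := exists_of_add_smul t n 1 x
  rw [pow_one] at hpy
  have hL : kap t m ht (Ψ x) = MvPolynomial.map (IsLocalRing.residue R) (ψ p) := by
    rw [hpy, map_add, map_smul, hΨ, map_add, kap_ofA, kap_smul_nonunit t m ht t ht, add_zero]
  have hR : kap t n ht x = MvPolynomial.map (IsLocalRing.residue R) p := by
    rw [hpy, map_add, kap_ofA, kap_smul_nonunit t n ht t ht, add_zero]
  rw [hL, hR, hψk]

/-- Weierstrass-type finiteness: modulo a primitive element, `A t (n+1)` is finite over `A t n`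
(embedded suitably). -/
theorem exists_finite (ht0 : t ≠ 0) (ht : ¬ IsUnit t) (n : ℕ)
    (f₀ : A t (n + 1)) (hf₀ : kap t (n + 1) ht f₀ ≠ 0) :
    ∃ (j : A t n →ₐ[R] A t (n + 1)) (N : ℕ) (b : Fin N → A t (n + 1)),
      ∀ y : A t (n + 1), ∃ (q : A t (n + 1)) (r : Fin N → A t n),
        y = q * f₀ + ∑ i, j (r i) * b i := by
  classical
  obtain ⟨e, he⟩ := exists_tau_leadingCoeff_isUnit (kap t (n + 1) ht f₀) hf₀
  obtain ⟨j, hj⟩ := exists_ext t (psi R e)
  have hjk : ∀ a, kap t (n + 1) ht (j a) =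
      (psi (IsLocalRing.ResidueField R) e).toRingHom (kap t n ht a) :=
    fun a => kap_ext t ht (psi R e) j hj (psi (IsLocalRing.ResidueField R) e).toRingHom
      (fun p => map_psi e (IsLocalRing.residue R) p) a
  have hcompk : (kap t (n + 1) ht).comp j.toRingHom =
      ((psi (IsLocalRing.ResidueField R) e).toRingHom).comp (kap t n ht) := RingHom.ext hjk
  obtain ⟨Xb, hXb⟩ : ∃ Xb : A t (n + 1), Xb = ofA t (n + 1) (X 0) := ⟨_, rfl⟩
  have hkX : kap t (n + 1) ht Xb = X 0 := by rw [hXb, kap_ofA, MvPolynomial.map_X]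
  have hkev : ∀ H : Polynomial (A t n), kap t (n + 1) ht (Polynomial.eval₂ j.toRingHom Xb H) =
      Polynomial.eval₂ (psi (IsLocalRing.ResidueField R) e).toRingHom (X 0)
        (H.map (kap t n ht)) := by
    intro H
    rw [Polynomial.hom_eval₂, Polynomial.eval₂_map, hkX, hcompk]
  -- the monic polynomial
  obtain ⟨G, hG⟩ : ∃ G, G = finSuccEquiv (IsLocalRing.ResidueField R) n
      (tau _ e 1 (kap t (n + 1) ht f₀)) := ⟨_, rfl⟩
  rw [← hG] at he
  have hGev : Polynomial.eval₂ (psi (IsLocalRing.ResidueField R) e).toRingHom (X 0) G =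
      kap t (n + 1) ht f₀ := by
    rw [hG]
    exact eval₂_psi _ e _
  have hFbar : (he.unit⁻¹ • G).Monic := Polynomial.monic_of_isUnit_leadingCoeff_inv_smul he
  obtain ⟨F, hFmap, -, hFmonic⟩ := Polynomial.lifts_and_natDegree_eq_and_monic
    ((Polynomial.mem_lifts _).mpr
      (Polynomial.map_surjective _ (kap_surjective t n ht) (he.unit⁻¹ • G))) hFbar
  obtain ⟨q₀, hq₀⟩ := kap_surjective t (n + 1) ht
    ((psi (IsLocalRing.ResidueField R) e).toRingHom
      (↑he.unit⁻¹ : MvPolynomial (Fin n) (IsLocalRing.ResidueField R)))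
  have hker : kap t (n + 1) ht (Polynomial.eval₂ j.toRingHom Xb F - q₀ * f₀) = 0 := by
    rw [map_sub, map_mul, hkev, hFmap, hq₀, Units.smul_def, Polynomial.smul_eq_C_mul,
      Polynomial.eval₂_mul, Polynomial.eval₂_C, hGev]
    exact sub_self _
  obtain ⟨c, b', hc0, hcu, hct, hcb⟩ := exists_of_kap_eq_zero t (n + 1) ht0 ht _ hker
  obtain ⟨i, hi⟩ := exists_dvd_pow t c ht0 hcu
  obtain ⟨e', he'⟩ := hct
  have happrox : ∀ y : A t (n + 1), ∃ (q : A t (n + 1)) (r : Fin (F.natDegree + 1) → A t n)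
      (y' : A t (n + 1)), y = q * f₀ + ∑ i, j (r i) * Xb ^ (i : ℕ) + c • y' := by
    intro y
    obtain ⟨p, y'', hpy⟩ := exists_of_add_smul t (n + 1) 1 y
    rw [pow_one] at hpy
    obtain ⟨H, hHdef⟩ : ∃ H : Polynomial (A t n),
        H = (finSuccEquiv R n (tau R e 1 p)).map (ofA t n : MvPolynomial (Fin n) R →+* A t n) :=
      ⟨_, rfl⟩
    have hH : Polynomial.eval₂ j.toRingHom Xb H = ofA t (n + 1) p := by
      rw [hHdef, Polynomial.eval₂_map]
      have hcomp : j.toRingHom.comp (ofA t n : MvPolynomial (Fin n) R →+* A t n) =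
          (ofA t (n + 1) : MvPolynomial (Fin (n + 1)) R →+* A t (n + 1)).comp
            (psi R e).toRingHom := RingHom.ext hj
      rw [hcomp, hXb]
      have h5 := Polynomial.hom_eval₂ (finSuccEquiv R n (tau R e 1 p)) (psi R e).toRingHom
        (ofA t (n + 1) : MvPolynomial (Fin (n + 1)) R →+* A t (n + 1)) (X 0)
      rw [eval₂_psi] at h5
      exact h5.symm
    have hdiv := Polynomial.modByMonic_add_div H F
    have hdeg : (H %ₘ F).natDegree < F.natDegree + 1 :=
      Nat.lt_succ_of_le (Polynomial.natDegree_modByMonic_le H hFmonic)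
    have hsum : Polynomial.eval₂ j.toRingHom Xb (H %ₘ F) =
        ∑ i : Fin (F.natDegree + 1), j ((H %ₘ F).coeff i) * Xb ^ (i : ℕ) := by
      rw [Polynomial.eval₂_eq_sum_range' _ hdeg, Finset.sum_range]
      rfl
    refine ⟨q₀ * Polynomial.eval₂ j.toRingHom Xb (H /ₘ F), fun i => (H %ₘ F).coeff i,
      b' * Polynomial.eval₂ j.toRingHom Xb (H /ₘ F) + e' • y'', ?_⟩
    have hF' : Polynomial.eval₂ j.toRingHom Xb F = q₀ * f₀ + c • b' := by
      rw [← hcb]
      ring
    calc y = Polynomial.eval₂ j.toRingHom Xb H + t • y'' := by rw [hH, hpy]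
      _ = Polynomial.eval₂ j.toRingHom Xb (H %ₘ F) + Polynomial.eval₂ j.toRingHom Xb F *
            Polynomial.eval₂ j.toRingHom Xb (H /ₘ F) + t • y'' := by
          rw [← Polynomial.eval₂_mul, ← Polynomial.eval₂_add, hdiv]
      _ = _ := by
          have ht' : t • y'' = c • (e' • y'') := by rw [smul_smul, ← he']
          rw [hsum, hF', ht']
          simp only [Algebra.smul_def]
          ring
  -- successive approximation
  let Φ : (A t (n + 1) × (Fin (F.natDegree + 1) → A t n)) →ₗ[R] A t (n + 1) :=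
    { toFun := fun x => x.1 * f₀ + ∑ i, j (x.2 i) * Xb ^ (i : ℕ)
      map_add' := fun x y => by
        simp only [Prod.fst_add, Prod.snd_add, Pi.add_apply, map_add, add_mul,
          Finset.sum_add_distrib]
        ring
      map_smul' := fun a x => by
        simp only [Prod.smul_fst, Prod.smul_snd, Pi.smul_apply, map_smul, RingHom.id_apply,
          smul_add, Finset.smul_sum, smul_mul_assoc] }
  haveI : IsPrecomplete (Ideal.span {c})
      (A t (n + 1) × (Fin (F.natDegree + 1) → A t n)) := by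
    haveI := isPrecomplete_span t (n + 1) c ⟨e', he'⟩ i hi
    haveI := isPrecomplete_span t n c ⟨e', he'⟩ i hi
    haveI : IsPrecomplete (Ideal.span {c}) (Fin (F.natDegree + 1) → A t n) :=
      Helper19.isPrecomplete_pi_module (Ideal.span {c}) (A t n)
    exact isPrecomplete_prod _ _ _
  haveI : IsHausdorff (Ideal.span {c}) (A t (n + 1)) := isHausdorff_span t (n + 1) c i hi
  have hsurj : Function.Surjective Φ := by
    apply surjective_of_mkQ_comp_surjective (I := Ideal.span {c})
    intro ybar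
    obtain ⟨y, rfl⟩ := Submodule.Quotient.mk_surjective _ ybar
    obtain ⟨q, r, y', hy⟩ := happrox y
    refine ⟨(q, r), ?_⟩
    show Submodule.Quotient.mk (q * f₀ + ∑ i, j (r i) * Xb ^ (i : ℕ)) = Submodule.Quotient.mk y
    rw [Submodule.Quotient.eq, hy]
    have h6 : q * f₀ + ∑ i, j (r i) * Xb ^ (i : ℕ) -
        (q * f₀ + ∑ i, j (r i) * Xb ^ (i : ℕ) + c • y') = c • (-y') := by
      rw [smul_neg]
      abel
    rw [h6]
    exact Submodule.smul_mem_smul (Ideal.mem_span_singleton_self c) Submodule.mem_top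
  refine ⟨j, F.natDegree + 1, fun i => Xb ^ (i : ℕ), fun y => ?_⟩
  obtain ⟨⟨q, r⟩, hqr⟩ := hsurj y
  exact ⟨q, r, hqr.symm⟩

end ext

end Groth.Agent.Lib.T2H8.RPowWeier
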