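import Mathlib
import Groth.Prelude.Def_W4bk4boschfrg79
import Groth.Agent.Lib.T2H8RPowWeier
import Groth.Agent.Lib.Helper19ComplNoeth

/-!
# T2H8RPowFP: finite torsion-free modules over restricted power series rings are finitely presented
-/

set_option autoImplicit false
set_option linter.unusedSectionVars false
universe u

namespace Groth.Agent.Lib.T2H8.RPowFP

open MvPolynomial RPowBase AdicDev

section V

variable {R : Type u} [CommRing R] [IsDomain R] [PreValuationRing R] [Ring.KrullDimLE 1 R] (t : R)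

theorem good_of_quotients (ht0 : t ≠ 0) (ht : ¬ IsUnit t) (n : ℕ)
    (h : ∀ f₀ : A t n, kap t n ht f₀ ≠ 0 → Good R (A t n ⧸ Ideal.span {f₀})) :
    Good R (A t n) := by
  apply good_of_package (R := R) (B := A t n) (fun a b => ValuationRing.dvd_total a b) ?_
    (fun f => kap t n ht f ≠ 0) ?_ ?_
  · intro r b hr hb
    rw [← Algebra.smul_def] at hb
    exact smul_cancel t n ht0 ht r hr b hb
  · intro f hf
    obtain ⟨c, f₀, hc, hf₀, hcf⟩ := exists_content t n ht0 ht f hf
    exact ⟨c, f₀, hc, hf₀, by rw [hcf, Algebra.smul_def]⟩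
  · intro f₀ hf₀
    exact ⟨prim_mem_nonZeroDivisors t n ht0 ht f₀ hf₀,
      fun r b hr hb => mem_span_of_smul_mem t n ht0 ht f₀ hf₀ r b hr hb, h f₀ hf₀⟩

theorem good_zero (ht0 : t ≠ 0) (ht : ¬ IsUnit t) : Good R (A t 0) := by
  apply good_of_quotients t ht0 ht 0
  intro f₀ hf₀
  have hu := isUnit_of_prim_zero t ht f₀ hf₀
  intro M _ _ _ _
  haveI : Subsingleton (A t 0 ⧸ Ideal.span {f₀}) :=
    Ideal.Quotient.subsingleton_iff.mpr (Ideal.span_singleton_eq_top.mpr hu)
  haveI : Subsingleton M := Module.subsingleton (A t 0 ⧸ Ideal.span {f₀}) M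
  infer_instance

theorem good_step (ht0 : t ≠ 0) (ht : ¬ IsUnit t) (n : ℕ) (hn : Good R (A t n)) :
    Good R (A t (n + 1)) := by
  apply good_of_quotients t ht0 ht (n + 1)
  intro f₀ hf₀
  obtain ⟨j, N, b, hb⟩ := RPowWeier.exists_finite t ht0 ht n f₀ hf₀
  letI : Algebra (A t n) (A t (n + 1) ⧸ Ideal.span {f₀}) :=
    ((Ideal.Quotient.mk (Ideal.span {f₀})).comp j.toRingHom).toAlgebra
  haveI : IsScalarTower R (A t n) (A t (n + 1) ⧸ Ideal.span {f₀}) :=
    IsScalarTower.of_algebraMap_eq (fun r => by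
      show algebraMap R (A t (n + 1) ⧸ Ideal.span {f₀}) r =
        Ideal.Quotient.mk _ (j (algebraMap R (A t n) r))
      rw [j.commutes]
      rfl)
  haveI : Module.Finite (A t n) (A t (n + 1) ⧸ Ideal.span {f₀}) := by
    classical
    refine ⟨⟨Finset.univ.image (fun i => Ideal.Quotient.mk (Ideal.span {f₀}) (b i)), ?_⟩⟩
    rw [eq_top_iff]
    rintro y -
    obtain ⟨y, rfl⟩ := Ideal.Quotient.mk_surjective y
    obtain ⟨q, r, hy⟩ := hb y
    rw [hy, map_add, map_mul,
      Ideal.Quotient.eq_zero_iff_mem.mpr (Ideal.mem_span_singleton_self f₀), mul_zero, zero_add,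
      map_sum]
    apply Submodule.sum_mem
    intro i _
    rw [map_mul]
    have h1 : Ideal.Quotient.mk (Ideal.span {f₀}) (j (r i)) *
        Ideal.Quotient.mk (Ideal.span {f₀}) (b i) =
        (r i) • Ideal.Quotient.mk (Ideal.span {f₀}) (b i) := by
      rw [Algebra.smul_def]
      rfl
    rw [h1]
    apply Submodule.smul_mem
    apply Submodule.subset_span
    simp
  exact good_of_finite (R := R) (A' := A t n) (C := A t (n + 1) ⧸ Ideal.span {f₀}) hn

theorem good_V (ht0 : t ≠ 0) (ht : ¬ IsUnit t) : ∀ n : ℕ, Good R (A t n)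
  | 0 => good_zero t ht0 ht
  | n + 1 => good_step t ht0 ht n (good_V ht0 ht n)

theorem not_isUnit_of_complete (hc : IsAdicComplete (Ideal.span {t}) R) : ¬ IsUnit t := by
  intro hu
  have h1 : Ideal.span {t} = ⊤ := Ideal.span_singleton_eq_top.mpr hu
  have h2 : IsHausdorff (⊤ : Ideal R) R := by
    rw [← h1]
    exact hc.toIsHausdorff
  exact not_subsingleton R h2.subsingleton

end V

/-- **Key theorem**: over a base ring of class (N) or (V), finite modules over restricted power
series without `I`-power torsion are finitely presented. -/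
theorem fp_of_isBase {R : Type u} [CommRing R] (I : Ideal R) (hR : AdicRing.IsBase R I) (n : ℕ)
    (M : Type u) [AddCommGroup M] [Module (AdicRing.RPow R I n) M] [Module R M]
    [IsScalarTower R (AdicRing.RPow R I n) M] [Module.Finite (AdicRing.RPow R I n) M]
    (hM : AdicRing.NoPowTorsion I M) : Module.FinitePresentation (AdicRing.RPow R I n) M := by
  obtain ⟨hc, hN | ⟨hdom, hval, hdim, t, ht0, rfl⟩⟩ := hR
  · obtain ⟨hN, -⟩ := hN
    haveI := hN
    haveI : IsNoetherianRing (AdicRing.RPow R I n) :=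
      Helper19.isNoetherianRing_adicCompletion _
    exact Module.finitePresentation_of_finite _ _
  · haveI := hdom
    haveI := hval
    haveI := hdim
    have ht : ¬ IsUnit t := not_isUnit_of_complete t hc
    apply good_V t ht0 ht n M
    intro r x hr hx
    obtain ⟨j, e, he⟩ := exists_dvd_pow r t hr ht
    apply hM x j
    intro a ha
    rw [Ideal.span_singleton_pow, Ideal.mem_span_singleton] at ha
    obtain ⟨a', rfl⟩ := ha
    rw [algebraMap_smul] at hx
    rw [he, mul_assoc, mul_comm, mul_smul, hx, smul_zero]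

end Groth.Agent.Lib.T2H8.RPowFP
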