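import Mathlib
import Groth.Prelude.Def_W4bk4boschfrg79
import Groth.Agent.Lib.T2H8RPowFP

/-!
# T2H8RPowUse: convenience lemmas around the key theorem `RPowFP.fp_of_isBase`
-/

set_option autoImplicit false
set_option linter.unusedSectionVars false
universe u

namespace Groth.Agent.Lib.T2H8.RPowUse

open MvPolynomial RPowBase AdicDev

theorem isNoetherianRing_rpow {R : Type u} [CommRing R] [IsNoetherianRing R] (I : Ideal R) (n : ℕ) :
    IsNoetherianRing (AdicRing.RPow R I n) :=
  Helper19.isNoetherianRing_adicCompletion _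

theorem isNoetherianRing_of_tft {R : Type u} [CommRing R] [IsNoetherianRing R] (I : Ideal R)
    (A : Type u) [CommRing A] [Algebra R A] (hA : AdicRing.TopFiniteType R I A) :
    IsNoetherianRing A := by
  obtain ⟨n, φ, hφ⟩ := hA
  haveI := isNoetherianRing_rpow I n
  exact isNoetherianRing_of_surjective _ _ φ.toRingHom hφ

theorem mem_span_pow_iff {R : Type u} [CommRing R] (t : R) (k : ℕ) (a : R) :
    a ∈ (Ideal.span {t}) ^ k ↔ t ^ k ∣ a := by
  rw [Ideal.span_singleton_pow, Ideal.mem_span_singleton]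

theorem noPowTorsion_of_torsionFree {R : Type u} [CommRing R] [IsDomain R] (t : R) (ht0 : t ≠ 0)
    (M : Type*) [AddCommGroup M] [Module R M]
    (h : ∀ (r : R) (x : M), r ≠ 0 → r • x = 0 → x = 0) :
    AdicRing.NoPowTorsion (Ideal.span {t}) M := by
  intro x k hx
  apply h (t ^ k) x (pow_ne_zero k ht0)
  exact hx _ ((mem_span_pow_iff t k _).mpr dvd_rfl)

theorem smul_pow_eq_zero_of_noPowTorsion {R : Type u} [CommRing R] (t : R)
    (M : Type*) [AddCommGroup M] [Module R M] (h : AdicRing.NoPowTorsion (Ideal.span {t}) M)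
    (x : M) (k : ℕ) (hx : t ^ k • x = 0) : x = 0 := by
  apply h x k
  intro a ha
  obtain ⟨b, rfl⟩ := (mem_span_pow_iff t k a).mp ha
  rw [mul_comm, mul_smul, hx, smul_zero]

theorem noPowTorsion_rpow_V {R : Type u} [CommRing R] [IsDomain R] [PreValuationRing R]
    [Ring.KrullDimLE 1 R] (t : R) (ht0 : t ≠ 0) (ht : ¬ IsUnit t) (n : ℕ) :
    AdicRing.NoPowTorsion (Ideal.span {t}) (AdicRing.RPow R (Ideal.span {t}) n) :=
  noPowTorsion_of_torsionFree t ht0 _ (fun r x hr hx => smul_cancel t n ht0 ht r hr x hx)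

theorem noPowTorsion_submodule {R : Type u} [CommRing R] (I : Ideal R) {P : Type*} [CommRing P]
    [Algebra R P] {M : Type*} [AddCommGroup M] [Module P M] [Module R M] [IsScalarTower R P M]
    (h : AdicRing.NoPowTorsion I M) (N : Submodule P M) : AdicRing.NoPowTorsion I N := by
  intro x k hx
  apply Subtype.ext
  apply h (x : M) k
  intro a ha
  have h1 := hx a ha
  exact congrArg Subtype.val h1

end Groth.Agent.Lib.T2H8.RPowUse
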