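import Mathlib
import Groth.Prelude.Def_W4bk4boschfrg79
import Groth.Agent.Lib.T2H8RPowFP
import Groth.Agent.Lib.T2H8RPowUse

/-!
# T2H8AdjInt: the universal property of `A[f_1, ..., f_n] ⊂ A ⊗ K`
-/

set_option autoImplicit false
set_option linter.unusedSectionVars false
universe u

open scoped TensorProduct

namespace Groth.Agent.Lib.T2H8.AdjInt

theorem isUnit_of_scaleRoots {A D : Type*} [CommRing A] [CommRing D] (φ : A →+* D)
    (p : Polynomial A) (hp : p.Monic) (cA : A) (γ d : D) (hcd : φ cA = d * γ)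
    (hγ : ∀ x : D, γ * x = 0 → x = 0)
    (hroot : Polynomial.eval₂ φ γ (Polynomial.scaleRoots p cA) = 0) : IsUnit d := by
  classical
  have hγN : ∀ (k : ℕ) (x : D), γ ^ k * x = 0 → x = 0 := by
    intro k
    induction k with
    | zero =>
      intro x hx
      rwa [pow_zero, one_mul] at hx
    | succ k ih =>
      intro x hx
      rw [pow_succ, mul_assoc] at hx
      exact hγ x (ih _ hx)
  rw [Polynomial.eval₂_eq_sum_range, Polynomial.natDegree_scaleRoots] at hroot
  have h1 : ∀ j ∈ Finset.range (p.natDegree + 1),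
      φ ((Polynomial.scaleRoots p cA).coeff j) * γ ^ j =
        γ ^ p.natDegree * (φ (p.coeff j) * d ^ (p.natDegree - j)) := by
    intro j hj
    have hjN : j ≤ p.natDegree := Nat.lt_succ_iff.mp (Finset.mem_range.mp hj)
    rw [Polynomial.coeff_scaleRoots, map_mul, map_pow, hcd, mul_pow]
    have e : γ ^ p.natDegree = γ ^ (p.natDegree - j) * γ ^ j := by
      rw [← pow_add, Nat.sub_add_cancel hjN]
    rw [e]
    ring
  rw [Finset.sum_congr rfl h1, ← Finset.mul_sum] at hroot
  have h2 := hγN _ _ hroot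
  rw [Finset.sum_range_succ, Nat.sub_self, pow_zero, mul_one] at h2
  have h3 : φ (p.coeff p.natDegree) = 1 := by
    rw [Polynomial.coeff_natDegree, hp.leadingCoeff, map_one]
  rw [h3] at h2
  have h4 : d ∣ ∑ j ∈ Finset.range p.natDegree, φ (p.coeff j) * d ^ (p.natDegree - j) := by
    apply Finset.dvd_sum
    intro j hj
    have hjN : j < p.natDegree := Finset.mem_range.mp hj
    exact Dvd.dvd.mul_left (dvd_pow_self d (Nat.sub_ne_zero_of_lt hjN)) _
  obtain ⟨e, he⟩ := h4
  rw [he] at h2
  exact IsUnit.of_mul_eq_one (-e) (by linear_combination (-1 : D) * h2)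

section locfacts

variable {R : Type u} [CommRing R] [IsDomain R] (S : Type*) [CommRing S] [Algebra R S]
  (L : Type*) [CommRing L] [Algebra S L] [Algebra R L] [IsScalarTower R S L]
  [IsLocalization (Algebra.algebraMapSubmonoid S (nonZeroDivisors R)) L]

theorem injective_of_torsionFree (h : ∀ (r : R) (s : S), r ≠ 0 → r • s = 0 → s = 0) :
    Function.Injective (algebraMap S L) := by
  rw [injective_iff_map_eq_zero]
  intro s hs
  obtain ⟨⟨_, r, hr, rfl⟩, hm⟩ := (IsLocalization.map_eq_zero_iff
    (Algebra.algebraMapSubmonoid S (nonZeroDivisors R)) L s).mp hs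
  exact h r s (nonZeroDivisors.ne_zero hr) (by rw [Algebra.smul_def]; exact hm)

theorem exists_smul_eq (x : L) : ∃ (r : R) (s : S), r ≠ 0 ∧ r • x = algebraMap S L s := by
  obtain ⟨⟨s, ⟨_, r, hr, rfl⟩⟩, h⟩ :=
    IsLocalization.surj (Algebra.algebraMapSubmonoid S (nonZeroDivisors R)) x
  refine ⟨r, s, nonZeroDivisors.ne_zero hr, ?_⟩
  rw [Algebra.smul_def, IsScalarTower.algebraMap_apply R S L, mul_comm]
  exact h

include S in
theorem isUnit_algebraMap (c : R) (hc : c ≠ 0) : IsUnit (algebraMap R L c) := by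
  rw [IsScalarTower.algebraMap_apply R S L]
  exact IsLocalization.map_units L (⟨algebraMap R S c, Algebra.mem_algebraMapSubmonoid_of_mem
    (⟨c, mem_nonZeroDivisors_of_ne_zero hc⟩ : nonZeroDivisors R)⟩ :
      Algebra.algebraMapSubmonoid S (nonZeroDivisors R))

include S in
theorem smul_cancel (c : R) (hc : c ≠ 0) (x y : L) (h : c • x = c • y) : x = y := by
  rw [Algebra.smul_def, Algebra.smul_def] at h
  exact (isUnit_algebraMap S L c hc).mul_right_inj.mp h

end locfacts

section main

variable (R : Type u) [CommRing R] [IsDomain R] [ValuationRing R] [Ring.KrullDimLE 1 R]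

theorem torsionFree_of_noPowTorsion (t : R) (htu : ¬ IsUnit t) (M : Type*) [AddCommGroup M]
    [Module R M] (h : AdicRing.NoPowTorsion (Ideal.span {t}) M) (r : R) (hr : r ≠ 0) (x : M)
    (hx : r • x = 0) : x = 0 := by
  obtain ⟨k, e, he⟩ := RPowBase.exists_dvd_pow r t hr htu
  apply RPowUse.smul_pow_eq_zero_of_noPowTorsion t M h x k
  rw [he, mul_comm, mul_smul, hx, smul_zero]

theorem main (t : R) (ht : t ≠ 0) [hc' : IsAdicComplete (Ideal.span {t}) R]
    (A : Type u) [CommRing A] [Algebra R A] (hA : AdicRing.NoPowTorsion (Ideal.span {t}) A)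
    (n : ℕ) (f : Fin n → A ⊗[R] FractionRing R) (hf : ∀ i, IsIntegral A (f i))
    (c : R) (hc : c ≠ 0) (g : Fin n → A)
    (hg : ∀ i, algebraMap A (A ⊗[R] FractionRing R) (g i) = c • f i)
    (D : Type u) [CommRing D] [Algebra R D] (hD : AdicRing.NoPowTorsion (Ideal.span {t}) D)
    (φ : A →ₐ[R] D)
    (hgen : (Ideal.span (insert (algebraMap R A c) (Set.range g))).map φ =
          Ideal.span {algebraMap R D c} ∨
      ∃ i, (Ideal.span (insert (algebraMap R A c) (Set.range g))).map φ = Ideal.span {φ (g i)}) :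
    (Ideal.span (insert (algebraMap R A c) (Set.range g))).map φ = Ideal.span {algebraMap R D c} ∧
      ∃! ψ : ↥(Algebra.adjoin A (Set.range f)) →ₐ[R] D,
        ψ.comp (IsScalarTower.toAlgHom R A ↥(Algebra.adjoin A (Set.range f))) = φ := by
  classical
  have htu : ¬ IsUnit t := RPowFP.not_isUnit_of_complete t hc'
  have htfA := torsionFree_of_noPowTorsion R t htu A hA
  have htfD := torsionFree_of_noPowTorsion R t htu D hD
  have hinjA : Function.Injective (algebraMap A (A ⊗[R] FractionRing R)) :=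
    injective_of_torsionFree A _ (fun r s hr h => htfA r hr s h)
  have hinjD : Function.Injective (algebraMap D (D ⊗[R] FractionRing R)) :=
    injective_of_torsionFree D _ (fun r s hr h => htfD r hr s h)
  have hcD : ∀ x : D, algebraMap R D c * x = 0 → x = 0 := fun x hx =>
    htfD c hc x (by rw [Algebra.smul_def]; exact hx)
  have hpart1 : (Ideal.span (insert (algebraMap R A c) (Set.range g))).map φ =
      Ideal.span {algebraMap R D c} := by
    rcases hgen with h | ⟨i, hi⟩
    · exact h
    · have hcmem : algebraMap R D c ∈ Ideal.span {φ (g i)} := by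
        rw [← hi]
        have h1 : φ (algebraMap R A c) ∈
            (Ideal.span (insert (algebraMap R A c) (Set.range g))).map φ :=
          Ideal.mem_map_of_mem _ (Ideal.subset_span (Set.mem_insert _ _))
        rwa [φ.commutes] at h1
      obtain ⟨d, hd⟩ := Ideal.mem_span_singleton'.mp hcmem
      have hγ : ∀ x : D, φ (g i) * x = 0 → x = 0 := by
        intro x hx
        apply hcD
        rw [← hd, mul_assoc, hx, mul_zero]
      obtain ⟨p, hpm, hp⟩ := hf i
      have h1 := Polynomial.scaleRoots_eval₂_eq_zero (algebraMap A (A ⊗[R] FractionRing R))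
        (s := algebraMap R A c) hp
      have h2 : algebraMap A (A ⊗[R] FractionRing R) (algebraMap R A c) * f i =
          algebraMap A _ (g i) := by
        rw [hg i, ← IsScalarTower.algebraMap_apply]
        exact (Algebra.smul_def c (f i)).symm
      rw [h2, Polynomial.eval₂_at_apply] at h1
      have h3 : Polynomial.eval (g i) (Polynomial.scaleRoots p (algebraMap R A c)) = 0 :=
        hinjA (h1.trans (map_zero _).symm)
      have h4 : Polynomial.eval₂ φ.toRingHom (φ (g i))
          (Polynomial.scaleRoots p (algebraMap R A c)) = 0 := by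
        have h5 := Polynomial.eval₂_at_apply (p := Polynomial.scaleRoots p (algebraMap R A c))
          φ.toRingHom (g i)
        rw [h3, map_zero] at h5
        exact h5
      have hdu : IsUnit d := isUnit_of_scaleRoots φ.toRingHom p hpm (algebraMap R A c)
        (φ (g i)) d (by
          show φ (algebraMap R A c) = _
          rw [φ.commutes, hd]) hγ h4
      rw [hi]
      apply le_antisymm
      · apply Ideal.span_le.mpr
        apply Set.singleton_subset_iff.mpr
        apply Ideal.mem_span_singleton'.mpr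
        refine ⟨↑hdu.unit⁻¹, ?_⟩
        rw [← hd, ← mul_assoc, IsUnit.val_inv_mul, one_mul]
      · exact Ideal.span_le.mpr (Set.singleton_subset_iff.mpr hcmem)
  refine ⟨hpart1, ?_⟩
  have hdi : ∀ i, ∃ di : D, di * algebraMap R D c = φ (g i) := by
    intro i
    apply Ideal.mem_span_singleton'.mp
    rw [← hpart1]
    exact Ideal.mem_map_of_mem _
      (Ideal.subset_span (Set.mem_insert_of_mem _ (Set.mem_range_self i)))
  choose dfun hdfun using hdi
  obtain ⟨φK, hφKdef⟩ : ∃ φK : (A ⊗[R] FractionRing R) →ₐ[R] (D ⊗[R] FractionRing R),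
      φK = Algebra.TensorProduct.map φ (AlgHom.id R (FractionRing R)) := ⟨_, rfl⟩
  have hφK : ∀ a : A, φK (algebraMap A _ a) = algebraMap D _ (φ a) := by
    intro a
    rw [hφKdef]
    show Algebra.TensorProduct.map φ (AlgHom.id R (FractionRing R)) (a ⊗ₜ 1) = φ a ⊗ₜ 1
    rw [Algebra.TensorProduct.map_tmul]
    rfl
  have hφKf : ∀ i, φK (f i) = algebraMap D _ (dfun i) := by
    intro i
    have e1 : φK (c • f i) = c • φK (f i) := map_smul φK c (f i)
    have e2 : φK (c • f i) = algebraMap D _ (φ (g i)) := by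
      rw [← hg i]
      exact hφK (g i)
    have e3 : algebraMap D (D ⊗[R] FractionRing R) (φ (g i)) =
        c • algebraMap D (D ⊗[R] FractionRing R) (dfun i) := by
      rw [← hdfun i, map_mul, mul_comm,
        ← IsScalarTower.algebraMap_apply R D (D ⊗[R] FractionRing R)]
      exact (Algebra.smul_def c _).symm
    exact smul_cancel D (D ⊗[R] FractionRing R) c hc _ _ (e1.symm.trans (e2.trans e3))
  obtain ⟨ιD, hιD⟩ : ∃ ιD : D →ₐ[R] (D ⊗[R] FractionRing R),
      ∀ d, ιD d = algebraMap D _ d := ⟨IsScalarTower.toAlgHom R D _, fun d => rfl⟩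
  have hιinj : Function.Injective ιD := fun x y h => hinjD (by rw [← hιD, ← hιD]; exact h)
  have hmemrange : ∀ x ∈ Algebra.adjoin A (Set.range f), φK x ∈ ιD.range := by
    intro x hx
    induction hx using Algebra.adjoin_induction with
    | mem x hx =>
      obtain ⟨i, rfl⟩ := hx
      exact ⟨dfun i, (hιD _).trans (hφKf i).symm⟩
    | algebraMap a => exact ⟨φ a, (hιD _).trans (hφK a).symm⟩
    | add x y _ _ hx hy =>
      rw [map_add]
      exact add_mem hx hy
    | mul x y _ _ hx hy =>
      rw [map_mul]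
      exact mul_mem hx hy
  obtain ⟨ψ₀, hψ₀⟩ : ∃ ψ₀ : ↥(Algebra.adjoin A (Set.range f)) →ₐ[R] ιD.range,
      ∀ x, (ψ₀ x : D ⊗[R] FractionRing R) = φK (x : A ⊗[R] FractionRing R) :=
    ⟨AlgHom.codRestrict (φK.comp ((Algebra.adjoin A (Set.range f)).val.restrictScalars R))
      ιD.range (fun x => hmemrange x x.2), fun x => rfl⟩
  obtain ⟨ψ, hψ⟩ : ∃ ψ : ↥(Algebra.adjoin A (Set.range f)) →ₐ[R] D,
      ∀ x, algebraMap D _ (ψ x) = φK (x : A ⊗[R] FractionRing R) := by
    refine ⟨((AlgEquiv.ofInjective ιD hιinj).symm : ιD.range →ₐ[R] D).comp ψ₀, fun x => ?_⟩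
    rw [← hψ₀, ← hιD]
    exact congrArg Subtype.val ((AlgEquiv.ofInjective ιD hιinj).apply_symm_apply (ψ₀ x))
  have hψA : ψ.comp (IsScalarTower.toAlgHom R A ↥(Algebra.adjoin A (Set.range f))) = φ := by
    apply AlgHom.ext
    intro a
    apply hinjD
    rw [AlgHom.comp_apply, hψ]
    exact hφK a
  refine ⟨ψ, hψA, ?_⟩
  intro ψ' hψ'
  apply AlgHom.ext
  intro x
  obtain ⟨r, a, hr, hra⟩ := exists_smul_eq (R := R) A (A ⊗[R] FractionRing R)
    (x : A ⊗[R] FractionRing R)
  have hx' : r • x = algebraMap A ↥(Algebra.adjoin A (Set.range f)) a := Subtype.ext hra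
  have h1 : ∀ χ : ↥(Algebra.adjoin A (Set.range f)) →ₐ[R] D,
      χ.comp (IsScalarTower.toAlgHom R A ↥(Algebra.adjoin A (Set.range f))) = φ →
        r • χ x = φ a := by
    intro χ hχ
    rw [← map_smul, hx', ← hχ]
    rfl
  have h2 : r • (ψ' x - ψ x) = 0 := by
    rw [smul_sub, h1 ψ' hψ', h1 ψ hψA, sub_self]
  exact sub_eq_zero.mp (htfD r hr _ h2)

end main

end Groth.Agent.Lib.T2H8.AdjInt
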