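import Mathlib
import Groth.Prelude.Def_SGA4b
import Groth.Agent.S0100
import Groth.Agent.Lib.Helper16SmallEtale

/-!
# Inverse image of étale sheaves of sets along a surjective morphism is faithful (helper8)

Stalks of `Type (u+1)`-valued sheaves at geometric points, the stalk of a pullback, and
detection of equality of morphisms on the stalks at the geometric points `ξ ≫ f`.
-/

set_option autoImplicit false
set_option linter.style.haveILetI false
set_option linter.unusedSectionVars false
universe u
open CategoryTheory CategoryTheory.Limits AlgebraicGeometry Opposite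

namespace Groth.Agent.Lib.T2H8.PullFaithful

open Groth.Agent.S0100

variable {X' X : Scheme.{u}} (f : X' ⟶ X) {Ω : Type u} [Field Ω] [IsSepClosed Ω]
  (ξ : Spec (CommRingCat.of Ω) ⟶ X')

set_option backward.isDefEq.respectTransparency.types false in
/-- the key isomorphism of right adjoints (sheaves of sets) -/
noncomputable def skySheafIso :
    (Scheme.pointSmallEtale ξ).skyscraperSheafFunctor (A := Type (u + 1)) ⋙ EtDesc.pushSh f ≅
      (Scheme.pointSmallEtale (ξ ≫ f)).skyscraperSheafFunctor :=
  NatIso.ofComponents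
    (fun M => (fullyFaithfulSheafToPresheaf _ _).preimageIso ((skyIso (fiberIso f ξ)).app M))
    (by
      intro M N g
      apply Sheaf.hom_ext
      exact (skyIso (A := Type (u + 1)) (fiberIso f ξ)).hom.naturality g)

/-- the stalk of the pullback -/
noncomputable def stalkPullIso :
    (Scheme.pointSmallEtale (ξ ≫ f)).sheafFiber (A := Type (u + 1)) ≅
      EtDesc.pullSh f ⋙ (Scheme.pointSmallEtale ξ).sheafFiber :=
  (conjugateIsoEquiv ((EtDesc.adjSh f).comp
    ((Scheme.pointSmallEtale ξ).skyscraperSheafAdjunction (A := Type (u + 1))))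
    ((Scheme.pointSmallEtale (ξ ≫ f)).skyscraperSheafAdjunction (A := Type (u + 1)))).symm
    (skySheafIso f ξ)

omit [IsSepClosed Ω] [Field Ω] in
lemma map_comp_apply' (F : EtDesc.Sh X) {U V W : X.Etale} (a : W ⟶ V) (g : V ⟶ U)
    (s : F.obj.obj (op U)) :
    F.obj.map (a ≫ g).op s = F.obj.map a.op (F.obj.map g.op s) := by
  rw [op_comp, Functor.map_comp]
  rfl

/-- sections of a sheaf of sets which agree étale locally around every point are equal -/
lemma eq_of_locally_eq (F : EtDesc.Sh X) {U : X.Etale} (s t : F.obj.obj (op U))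
    (h : ∀ x : U.left, ∃ (W : X.Etale) (g : W ⟶ U), (∃ w : W.left, g.left w = x) ∧
      F.obj.map g.op s = F.obj.map g.op t) : s = t := by
  let S : Sieve U :=
    { arrows := fun W g => F.obj.map g.op s = F.obj.map g.op t
      downward_closed := by
        intro W W' g hg k
        rw [map_comp_apply', map_comp_apply', hg] }
  have hS : S ∈ X.smallEtaleTopology U := by
    rw [Groth.Agent.Lib.Helper16.SmallEtale.mem_smallEtale_iff]
    intro x
    obtain ⟨W, g, ⟨w, hw⟩, hg⟩ := h x
    exact ⟨W, g, w, hg, hw⟩
  apply (((isSheaf_iff_isSheaf_of_type _ _).1 F.property) _ hS).isSeparatedFor.ext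
  intro W g hg
  exact hg

set_option backward.isDefEq.respectTransparency.types false in
/-- a geometric point of `X'` over a given point of an étale `X`-scheme -/
lemma exists_geometric_point [Surjective f] (U : X.Etale) (p : U.left) :
    ∃ (Ω : Type u) (_ : Field Ω) (_ : IsSepClosed Ω) (ξ : Spec (CommRingCat.of Ω) ⟶ X')
      (x : (Scheme.pointSmallEtale (ξ ≫ f)).fiber.obj U),
      (x.left : Spec (CommRingCat.of Ω) ⟶ U.left) (default : Spec (CommRingCat.of Ω)) = p := by
  obtain ⟨x', hx'⟩ := f.surjective (U.hom p)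
  let Ω := SeparableClosure (X'.residueField x')
  let ξ : Spec (CommRingCat.of Ω) ⟶ X' :=
    Spec.map (CommRingCat.ofHom (algebraMap (X'.residueField x') Ω)) ≫
      X'.fromSpecResidueField x'
  have hξ : ξ default = x' := by
    dsimp only [ξ]
    rw [Scheme.Hom.comp_apply]
    exact Scheme.fromSpecResidueField_apply _ _
  have h2 : U.hom p = (ξ ≫ f) default := by
    rw [Scheme.Hom.comp_apply, hξ, hx']
  obtain ⟨l, hl1, hl2⟩ := Scheme.exists_fac_of_etale_of_isSepClosed U.hom (ξ ≫ f) p h2
  exact ⟨Ω, inferInstance, inferInstance, ξ, Over.homMk l hl1, hl2⟩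

set_option backward.isDefEq.respectTransparency.types false in
theorem faithful [Surjective f] : (EtDesc.pullSh f).Faithful := by
  constructor
  intro F G a b hab
  have key : ∀ (Ω : Type u) [Field Ω] [IsSepClosed Ω] (ξ : Spec (CommRingCat.of Ω) ⟶ X'),
      ((Scheme.pointSmallEtale (ξ ≫ f)).sheafFiber (A := Type (u + 1))).map a =
        ((Scheme.pointSmallEtale (ξ ≫ f)).sheafFiber (A := Type (u + 1))).map b := by
    intro Ω _ _ ξ
    have na := (stalkPullIso f ξ).hom.naturality a
    have nb := (stalkPullIso f ξ).hom.naturality b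
    rw [← cancel_mono ((stalkPullIso f ξ).hom.app G), na, nb]
    simp only [Functor.comp_map, hab]
  apply Sheaf.hom_ext
  ext U s
  induction U using Opposite.rec with | _ U => ?_
  apply eq_of_locally_eq G
  intro p
  obtain ⟨Ω, _, _, ξ, x₀, hx₀⟩ := exists_geometric_point f U p
  let Φ := Scheme.pointSmallEtale (ξ ≫ f)
  have e1 : Φ.toPresheafFiber U x₀ G.obj (a.hom.app (op U) s) =
      Φ.toPresheafFiber U x₀ G.obj (b.hom.app (op U) s) := by
    have n1 := Φ.toPresheafFiber_naturality_apply a.hom U x₀ s
    have n2 := Φ.toPresheafFiber_naturality_apply b.hom U x₀ s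
    rw [← n1, ← n2]
    exact congrArg (fun m => m (Φ.toPresheafFiber U x₀ F.obj s)) (key Ω ξ)
  obtain ⟨W, g, w, hw, hg⟩ := (Φ.toPresheafFiber_eq_iff' U x₀ _ _).mp e1
  refine ⟨W, g, ⟨(w.left : Spec (CommRingCat.of Ω) ⟶ W.left) (default : Spec (CommRingCat.of Ω)), ?_⟩,
    hg⟩
  have e3 : w.left ≫ g.left = x₀.left := congrArg (fun m => m.left) hw
  rw [← hx₀]
  exact congrArg (fun m : Spec (CommRingCat.of Ω) ⟶ U.left => m default) e3

theorem reflectsIsomorphisms [Surjective f] : (EtDesc.pullSh f).ReflectsIsomorphisms := by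
  haveI := faithful f
  infer_instance

end Groth.Agent.Lib.T2H8.PullFaithful
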