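import Mathlib
import Groth.Prelude.Def_EtBCD
import Groth.Prelude.Def_SGA4b
import Groth.Agent.Lib.T2H8IntBC
import Groth.Agent.Lib.T2H8ShStalkA
import Groth.Agent.Lib.T2H8ShStalkB

/-!
# Integral base change in degree zero for sheaves of sets (helper8)

Port of `T2H8FiniteBC`/`T2H8IntBC` from abelian sheaves to sheaves of sets.
-/

set_option autoImplicit false
universe u w

open CategoryTheory CategoryTheory.Limits AlgebraicGeometry Opposite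

namespace Groth.Agent.Lib.T2H8ShBC

open Groth.Agent.Lib.T2H8StalkFiniteCore Groth.Agent.Lib.T2H8GeomPt
open Groth.Agent.Lib.Helper16.SmallEtale Groth.Agent.Lib.T2H8FiniteSplitPt
open Groth.Agent.Lib.T2H8IntPts Groth.Agent.Lib.T2H8IntSep Groth.Agent.Lib.T2H8IntTC
open Groth.Agent.Lib.T2H8IntPPB Groth.Agent.Lib.T2H8EtZarSheaf Groth.Agent.Lib.T2H8IntSurj
open Groth.Agent.S0100 Groth.Agent.S0101 Groth.Agent.Lib.T2H8StalkFinite
open Groth.Agent.Lib.T2H8FiniteBC Groth.Agent.Lib.T2H8IntBC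
open Groth.Agent.Lib.T2H8ShStalkA

section Beta

variable {X Y X' Y' : Scheme.{u}} (f : X ⟶ Y) (g : Y' ⟶ Y) (f' : X' ⟶ Y') (g' : X' ⟶ X)
  (w : g' ≫ f = f' ≫ g) (F : EtDesc.Sh X)

set_option backward.isDefEq.respectTransparency.types false in
/-- the base change map on sections coming from `Y`. -/
lemma baseChange0_unit_apply (V : Y.Etale) (σ : F.obj.obj (op ((EtCoh.bc f).obj V))) :
    (EtBC.baseChange0Sh f g f' g' w F).hom.app (op ((EtCoh.bc g).obj V))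
      (((EtDesc.adjSh g).unit.app ((EtDesc.pushSh f).obj F)).hom.app (op V) σ) =
    ((EtDesc.pullSh g').obj F).obj.map (κ f g f' g' w V).op
      (((EtDesc.adjSh g').unit.app F).hom.app (op ((EtCoh.bc f).obj V)) σ) := by
  let β : (EtDesc.pushSh f).obj F ⟶ (EtDesc.pushSh g).obj ((EtDesc.pushSh f').obj ((EtDesc.pullSh g').obj F)) :=
    (EtDesc.pushSh f).map ((EtDesc.adjSh g').unit.app F) ≫ (EtDesc.pushCompSh f g').hom.app _ ≫
      (EtBC.pushCongrSh w).hom.app _ ≫ (EtDesc.pushCompSh g f').inv.app _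
  have h1 : (EtDesc.adjSh g).unit.app _ ≫
      (EtDesc.pushSh g).map (EtBC.baseChange0Sh f g f' g' w F) = β :=
    (Adjunction.homEquiv_unit (EtDesc.adjSh g) _ _ _).symm.trans
      (Equiv.apply_symm_apply _ _)
  have h2 := congrArg (fun m => m.hom.app (op V) σ) h1
  refine h2.trans ?_
  let M := (EtDesc.pullSh g').obj F
  let τ := ((EtDesc.adjSh g').unit.app F).hom.app (op ((EtCoh.bc f).obj V)) σ
  have e0 : β.hom.app (op V) σ =
      ((EtDesc.pushCompSh g f').inv.app M).hom.app (op V)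
        (((EtBC.pushCongrSh w).hom.app M).hom.app (op V)
          (((EtDesc.pushCompSh f g').hom.app M).hom.app (op V) τ)) := rfl
  have eb : ((EtDesc.pushCompSh f g').hom.app M).hom.app (op V) =
      M.obj.map ((MorphismProperty.Over.pullbackComp (P := EtCoh.etaleMP) (Q := ⊤) g' f).hom.app V).op :=
    rfl
  have ec : ((EtBC.pushCongrSh w).hom.app M).hom.app (op V) =
      M.obj.map ((MorphismProperty.Over.pullbackCongr (P := EtCoh.etaleMP) (Q := ⊤) w).inv.app V).op :=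
    rfl
  have ed : ((EtDesc.pushCompSh g f').inv.app M).hom.app (op V) =
      M.obj.map ((MorphismProperty.Over.pullbackComp (P := EtCoh.etaleMP) (Q := ⊤) f' g).inv.app V).op :=
    rfl
  refine e0.trans ?_
  rw [eb, ec, ed]
  have hκop : (κ f g f' g' w V).op =
      (((MorphismProperty.Over.pullbackComp (P := EtCoh.etaleMP) (Q := ⊤) g' f).hom.app V).op ≫
        ((MorphismProperty.Over.pullbackCongr (P := EtCoh.etaleMP) (Q := ⊤) w).inv.app V).op) ≫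
      ((MorphismProperty.Over.pullbackComp (P := EtCoh.etaleMP) (Q := ⊤) f' g).inv.app V).op := rfl
  have hM : M.obj.map (κ f g f' g' w V).op =
      (M.obj.map ((MorphismProperty.Over.pullbackComp (P := EtCoh.etaleMP) (Q := ⊤) g' f).hom.app V).op ≫
        M.obj.map ((MorphismProperty.Over.pullbackCongr (P := EtCoh.etaleMP) (Q := ⊤) w).inv.app V).op) ≫
      M.obj.map ((MorphismProperty.Over.pullbackComp (P := EtCoh.etaleMP) (Q := ⊤) f' g).inv.app V).op := by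
    exact (congrArg (fun m => M.obj.map m) hκop).trans
      ((M.obj.map_comp _ _).trans ((M.obj.map_comp _ _) =≫ _))
  exact (congrArg (fun m => (ConcreteCategory.hom m) τ) hM).symm

end Beta

section KC

variable {X Y X' Y' : Scheme.{u}} (f : X ⟶ Y) (g : Y' ⟶ Y) (f' : X' ⟶ Y') (g' : X' ⟶ X)
  (w : g' ≫ f = f' ≫ g) (F : EtDesc.Sh X) {Ω : Type u} [Field Ω] [IsSepClosed Ω]

set_option backward.isDefEq.respectTransparency.types false in
/-- the key compatibility: on stalks, the base change map corresponds to the identity under the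
canonical maps `θ` and the stalk isomorphisms of the pullbacks. -/
lemma key_compat (η' : Spec (CommRingCat.of Ω) ⟶ Y') (ξ' : Spec (CommRingCat.of Ω) ⟶ X')
    (hξ' : ξ' ≫ f' = η') (hξ : (ξ' ≫ g') ≫ f = η' ≫ g)
    (p : ToType ((stalkSh (η' ≫ g)).obj ((EtDesc.pushSh f).obj F))) :
    θ f' ξ' η' hξ' ((EtDesc.pullSh g').obj F).obj
      ((stalkSh η').map (EtBC.baseChange0Sh f g f' g' w F)
        ((T2H8ShStalkA.stalkPullIso g η').hom.app ((EtDesc.pushSh f).obj F) p)) =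
    (T2H8ShStalkA.stalkPullIso g' ξ').hom.app F (θ f (ξ' ≫ g') (η' ≫ g) hξ F.obj p) := by
  obtain ⟨V, v, σ, rfl⟩ :=
    (Scheme.pointSmallEtale (η' ≫ g)).toPresheafFiber_jointly_surjective p
  let G := (EtDesc.pushSh f).obj F
  let M := (EtDesc.pullSh g').obj F
  let v₁ := liftPt g η' (η' ≫ g) rfl V v
  let z := liftPt f (ξ' ≫ g') (η' ≫ g) hξ V v
  let σ₁ := ((EtDesc.adjSh g).unit.app G).hom.app (op V) σ
  let τ := ((EtDesc.adjSh g').unit.app F).hom.app (op ((EtCoh.bc f).obj V)) σ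
  have s1 : (T2H8ShStalkA.stalkPullIso g η').hom.app G
      ((Scheme.pointSmallEtale (η' ≫ g)).toPresheafFiber V v G.obj σ) =
      (Scheme.pointSmallEtale η').toPresheafFiber ((EtCoh.bc g).obj V) v₁
        ((EtDesc.pullSh g).obj G).obj σ₁ := by
    have := T2H8ShStalkA.germ_compat g η' G V v σ
    rw [fiberIso_inv_eq_liftPt] at this
    exact this
  have s2 : (stalkSh η').map (EtBC.baseChange0Sh f g f' g' w F)
      ((Scheme.pointSmallEtale η').toPresheafFiber ((EtCoh.bc g).obj V) v₁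
        ((EtDesc.pullSh g).obj G).obj σ₁) =
      (Scheme.pointSmallEtale η').toPresheafFiber ((EtCoh.bc g).obj V) v₁
        ((EtDesc.pushSh f').obj M).obj
        ((EtBC.baseChange0Sh f g f' g' w F).hom.app (op ((EtCoh.bc g).obj V)) σ₁) :=
    (Scheme.pointSmallEtale η').toPresheafFiber_naturality_apply
      (EtBC.baseChange0Sh f g f' g' w F).hom ((EtCoh.bc g).obj V) v₁ σ₁
  have s3 : (EtBC.baseChange0Sh f g f' g' w F).hom.app (op ((EtCoh.bc g).obj V)) σ₁ =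
      M.obj.map (κ f g f' g' w V).op τ := baseChange0_unit_apply f g f' g' w F V σ
  have s4 : ∀ x, θ f' ξ' η' hξ' M.obj
      ((Scheme.pointSmallEtale η').toPresheafFiber ((EtCoh.bc g).obj V) v₁
        ((EtDesc.pushSh f').obj M).obj x) =
      (Scheme.pointSmallEtale ξ').toPresheafFiber ((EtCoh.bc f').obj ((EtCoh.bc g).obj V))
        (liftPt f' ξ' η' hξ' ((EtCoh.bc g).obj V) v₁) M.obj x := fun x =>
    ConcreteCategory.congr_hom (toPresheafFiber_θ f' ξ' η' hξ' M.obj ((EtCoh.bc g).obj V) v₁) x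
  have s5 : (Scheme.pointSmallEtale ξ').toPresheafFiber ((EtCoh.bc f').obj ((EtCoh.bc g).obj V))
        (liftPt f' ξ' η' hξ' ((EtCoh.bc g).obj V) v₁) M.obj (M.obj.map (κ f g f' g' w V).op τ) =
      (Scheme.pointSmallEtale ξ').toPresheafFiber ((EtCoh.bc g').obj ((EtCoh.bc f).obj V))
        ((Scheme.pointSmallEtale ξ').fiber.map (κ f g f' g' w V)
          (liftPt f' ξ' η' hξ' ((EtCoh.bc g).obj V) v₁)) M.obj τ :=
    (Scheme.pointSmallEtale ξ').toPresheafFiber_w_apply (κ f g f' g' w V) _ M.obj τ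
  have s6 := κ_liftPt f g f' g' w η' ξ' hξ' hξ V v
  have r1 : θ f (ξ' ≫ g') (η' ≫ g) hξ F.obj
      ((Scheme.pointSmallEtale (η' ≫ g)).toPresheafFiber V v G.obj σ) =
      (Scheme.pointSmallEtale (ξ' ≫ g')).toPresheafFiber ((EtCoh.bc f).obj V) z F.obj σ :=
    ConcreteCategory.congr_hom (toPresheafFiber_θ f (ξ' ≫ g') (η' ≫ g) hξ F.obj V v) σ
  have r2 : (T2H8ShStalkA.stalkPullIso g' ξ').hom.app F
      ((Scheme.pointSmallEtale (ξ' ≫ g')).toPresheafFiber ((EtCoh.bc f).obj V) z F.obj σ) =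
      (Scheme.pointSmallEtale ξ').toPresheafFiber ((EtCoh.bc g').obj ((EtCoh.bc f).obj V))
        (liftPt g' ξ' (ξ' ≫ g') rfl ((EtCoh.bc f).obj V) z) M.obj τ := by
    have := T2H8ShStalkA.germ_compat g' ξ' F ((EtCoh.bc f).obj V) z σ
    rw [fiberIso_inv_eq_liftPt] at this
    exact this
  refine Eq.trans ?_ ((congrArg _ r1).trans r2).symm
  refine (congrArg _ ((congrArg _ s1).trans s2)).trans ?_
  rw [s3]
  refine (s4 _).trans ?_
  refine s5.trans ?_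
  rw [s6]

end KC

section Misc

lemma isSheaf_forget {Z : Scheme.{u}} (G : EtDesc.Sh Z) :
    Presieve.IsSheaf Z.smallEtaleTopology (G.obj ⋙ forget (Type (u + 1))) :=
  (isSheaf_iff_isSheaf_of_type _ _).mp
    ((Presheaf.isSheaf_iff_isSheaf_forget _ _ (forget (Type (u + 1)))).mp G.property)

/-- transport of an element of a stalk along an equality of geometric points -/
def castStalk {Z : Scheme.{u}} (G : EtDesc.Sh Z) {Ω : Type u} [Field Ω] [IsSepClosed Ω]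
    {ζ₁ ζ₂ : Spec (CommRingCat.of Ω) ⟶ Z} (e : ζ₁ = ζ₂)
    (t : ToType ((stalkSh ζ₁).obj G)) : ToType ((stalkSh ζ₂).obj G) := e ▸ t


end Misc

section Square

variable {X Y X' Y' : Scheme.{u}} (f : X ⟶ Y) (g : Y' ⟶ Y) (f' : X' ⟶ Y') (g' : X' ⟶ X)
  (h : IsPullback g' f' f g) {Ω : Type u} [Field Ω] [IsSepClosed Ω]
  (η' : Spec (CommRingCat.of Ω) ⟶ Y')

set_option backward.isDefEq.respectTransparency.types false in
/-- the stalk isomorphism of a pullback on germs. -/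
lemma stalkPull_germ (ξ' : Spec (CommRingCat.of Ω) ⟶ X') (F : EtDesc.Sh X) (U : X.Etale)
    (ū : (Scheme.pointSmallEtale (ξ' ≫ g')).fiber.obj U) (σ : F.obj.obj (op U)) :
    (T2H8ShStalkA.stalkPullIso g' ξ').hom.app F
      ((Scheme.pointSmallEtale (ξ' ≫ g')).toPresheafFiber U ū F.obj σ) =
    (Scheme.pointSmallEtale ξ').toPresheafFiber ((EtCoh.bc g').obj U)
      (liftPt g' ξ' (ξ' ≫ g') rfl U ū) ((EtDesc.pullSh g').obj F).obj
      (((EtDesc.adjSh g').unit.app F).hom.app (op U) σ) := by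
  have := T2H8ShStalkA.germ_compat g' ξ' F U ū σ
  rw [fiberIso_inv_eq_liftPt] at this
  exact this


end Square

section Main

variable {X Y X' Y' : Scheme.{u}} (f : X ⟶ Y) [IsIntegralHom f] (g : Y' ⟶ Y) (f' : X' ⟶ Y')
  (g' : X' ⟶ X) (h : IsPullback g' f' f g) (F : EtDesc.Sh X) {Ω : Type u} [Field Ω]
  [IsAlgClosed Ω] (η' : Spec (CommRingCat.of Ω) ⟶ Y')

set_option maxHeartbeats 1600000 in
set_option backward.isDefEq.respectTransparency.types false in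
/-- continuity of the family of germs defined by an element of the stalk of `f'_* g'^* F`. -/
theorem continuity
    (y : ToType ((stalkSh η').obj ((EtDesc.pushSh f').obj ((EtDesc.pullSh g').obj F))))
    (ξ' : Spec (CommRingCat.of Ω) ⟶ X') (hξ' : ξ' ≫ f' = η') :
    ∃ (V : Y.Etale) (v : (Scheme.pointSmallEtale (η' ≫ g)).fiber.obj V) (W : X.Etale)
      (a : W ⟶ (EtCoh.bc f).obj V) (σ : F.obj.obj (op W)),
      (∃ wb : (Scheme.pointSmallEtale (ξ' ≫ g')).fiber.obj W,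
        (Scheme.pointSmallEtale (ξ' ≫ g')).fiber.map a wb =
          liftPt f (ξ' ≫ g') (η' ≫ g) (comp_eq f g f' g' h η' ξ' hξ') V v) ∧
      ∀ (ξ₂' : Spec (CommRingCat.of Ω) ⟶ X') (hξ₂' : ξ₂' ≫ f' = η')
        (w₂ : (Scheme.pointSmallEtale (ξ₂' ≫ g')).fiber.obj W),
        (Scheme.pointSmallEtale (ξ₂' ≫ g')).fiber.map a w₂ =
          liftPt f (ξ₂' ≫ g') (η' ≫ g) (comp_eq f g f' g' h η' ξ₂' hξ₂') V v →
        (Scheme.pointSmallEtale (ξ₂' ≫ g')).toPresheafFiber W w₂ F.obj σ =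
          (T2H8ShStalkA.stalkPullIso g' ξ₂').inv.app F
            (θ f' ξ₂' η' hξ₂' ((EtDesc.pullSh g').obj F).obj y) := by
  let M := (EtDesc.pullSh g').obj F
  obtain ⟨V', v', t, rfl⟩ := (Scheme.pointSmallEtale η').toPresheafFiber_jointly_surjective y
  have hθ : ∀ (ξ₂' : Spec (CommRingCat.of Ω) ⟶ X') (hξ₂' : ξ₂' ≫ f' = η'),
      θ f' ξ₂' η' hξ₂' M.obj
        ((Scheme.pointSmallEtale η').toPresheafFiber V' v' ((EtDesc.pushSh f').obj M).obj t) =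
      (Scheme.pointSmallEtale ξ₂').toPresheafFiber ((EtCoh.bc f').obj V')
        (liftPt f' ξ₂' η' hξ₂' V' v') M.obj t := fun ξ₂' hξ₂' =>
    ConcreteCategory.congr_hom (toPresheafFiber_θ f' ξ₂' η' hξ₂' M.obj V' v') t
  obtain ⟨U, ū, σ₀, hσ₀⟩ :=
    (Scheme.pointSmallEtale (ξ' ≫ g')).toPresheafFiber_jointly_surjective (P := F.obj)
      ((T2H8ShStalkA.stalkPullIso g' ξ').inv.app F (θ f' ξ' η' hξ' M.obj
        ((Scheme.pointSmallEtale η').toPresheafFiber V' v' ((EtDesc.pushSh f').obj M).obj t)))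
  have h3 : (Scheme.pointSmallEtale ξ').toPresheafFiber ((EtCoh.bc g').obj U)
      (liftPt g' ξ' (ξ' ≫ g') rfl U ū) M.obj
      (((EtDesc.adjSh g').unit.app F).hom.app (op U) σ₀) =
      (Scheme.pointSmallEtale ξ').toPresheafFiber ((EtCoh.bc f').obj V')
        (liftPt f' ξ' η' hξ' V' v') M.obj t := by
    exact (stalkPull_germ g' ξ' F U ū σ₀).symm.trans
      ((congrArg ((T2H8ShStalkA.stalkPullIso g' ξ').hom.app F) hσ₀).trans
        ((ConcreteCategory.congr_hom ((T2H8ShStalkA.stalkPullIso g' ξ').inv_hom_id_app F) _).trans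
          (hθ ξ' hξ')))
  obtain ⟨N', n', b, c, hb, hc, hbc⟩ := exists_common_of_germ_eq ξ' M.obj _ _ _ _ h3
  obtain ⟨V₁, v₁, D₁, hD₁, ξD₁, hD₁cl, hD₁U, hξD₁, hξD₁ū⟩ :=
    exists_pointed_clopen_bc f (ξ' ≫ g') (η' ≫ g) (comp_eq f g f' g' h η' ξ' hξ') U ū
  -- the etale `X`-scheme `D₁` and its maps
  let U₁ : X.Etale := (EtCoh.bc f).obj V₁
  let O₁ : X.Etale := opn U₁ D₁
  let j₁ : O₁ ⟶ U₁ := opnι U₁ D₁
  have hD₁U' : hD₁ ≫ U.hom = O₁.hom := hD₁U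
  let κ₁ : O₁ ⟶ U := MorphismProperty.Over.homMk hD₁ hD₁U'
  have ho : ξD₁ ≫ O₁.hom = ξ' ≫ g' := by
    change ξD₁ ≫ D₁.ι ≫ pullback.snd V₁.hom f = _
    rw [reassoc_of% hξD₁]
    exact liftPt_left_snd f (ξ' ≫ g') (η' ≫ g) _ V₁ v₁
  let o : (Scheme.pointSmallEtale (ξ' ≫ g')).fiber.obj O₁ := Over.homMk ξD₁ ho
  have hoū : (Scheme.pointSmallEtale (ξ' ≫ g')).fiber.map κ₁ o = ū :=
    Over.OverMorphism.ext hξD₁ū
  let G₁ : X'.Etale := (EtCoh.bc g').obj O₁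
  let γ₁ : (Scheme.pointSmallEtale ξ').fiber.obj G₁ := liftPt g' ξ' (ξ' ≫ g') rfl O₁ o
  obtain ⟨m, ⟨p₁⟩, ⟨p₂⟩⟩ : ∃ m : (Scheme.pointSmallEtale ξ').fiber.Elements,
      Nonempty (m ⟶ ⟨N', n'⟩) ∧ Nonempty (m ⟶ ⟨G₁, γ₁⟩) :=
    ⟨IsCofiltered.min _ _, ⟨IsCofiltered.minToLeft _ _⟩, ⟨IsCofiltered.minToRight _ _⟩⟩
  obtain ⟨N'', n''⟩ := m
  obtain ⟨p₁, hp₁⟩ := p₁
  obtain ⟨p₂, hp₂⟩ := p₂
  have hp₁' : (Scheme.pointSmallEtale ξ').fiber.map p₁ n'' = n' := hp₁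
  have hp₂' : (Scheme.pointSmallEtale ξ').fiber.map p₂ n'' = γ₁ := hp₂
  let α : N'' ⟶ (EtCoh.bc g').obj U := p₁ ≫ b
  let β : N'' ⟶ (EtCoh.bc g').obj U := p₂ ≫ (EtCoh.bc g').map κ₁
  have hα : (Scheme.pointSmallEtale ξ').fiber.map α n'' = liftPt g' ξ' (ξ' ≫ g') rfl U ū := by
    change (Scheme.pointSmallEtale ξ').fiber.map (p₁ ≫ b) n'' = _
    rw [Functor.map_comp]
    change (Scheme.pointSmallEtale ξ').fiber.map b ((Scheme.pointSmallEtale ξ').fiber.map p₁ n'') = _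
    rw [hp₁', hb]
  have hβ : (Scheme.pointSmallEtale ξ').fiber.map β n'' = liftPt g' ξ' (ξ' ≫ g') rfl U ū := by
    change (Scheme.pointSmallEtale ξ').fiber.map (p₂ ≫ (EtCoh.bc g').map κ₁) n'' = _
    rw [Functor.map_comp]
    change (Scheme.pointSmallEtale ξ').fiber.map ((EtCoh.bc g').map κ₁)
      ((Scheme.pointSmallEtale ξ').fiber.map p₂ n'') = _
    rw [hp₂', liftPt_map, hoū]
  obtain ⟨E, hE, hEαβ⟩ := Groth.Agent.Lib.T2H8StalkUnivInj.exists_open_eq α β ξ' n''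
    (hα.trans hβ.symm)
  -- the comparison scheme and the etale map `e`
  obtain ⟨c₁, hc₁⟩ : ∃ c₁ : N''.left ⟶ pullback V'.hom f', c₁ = (p₁ ≫ c).left := ⟨_, rfl⟩
  obtain ⟨c₂, hc₂⟩ : ∃ c₂ : N''.left ⟶ pullback (pullback.snd V₁.hom f) g',
      c₂ = (p₂ ≫ (EtCoh.bc g').map j₁).left := ⟨_, rfl⟩
  obtain ⟨nh, hnh⟩ : ∃ nh : N''.left ⟶ X', nh = N''.hom := ⟨_, rfl⟩
  have hc₁π : c₁ ≫ pullback.snd V'.hom f' = nh := by
    rw [hc₁, hnh]; exact Over.w (p₁ ≫ c).hom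
  have hc₂π : c₂ ≫ pullback.snd (pullback.snd V₁.hom f) g' = nh := by
    rw [hc₂, hnh]; exact Over.w (p₂ ≫ (EtCoh.bc g').map j₁).hom
  haveI : Etale nh := hnh ▸ inferInstance
  obtain ⟨e, he1, he2⟩ : ∃ e : (E : Scheme.{u}) ⟶ pullback (pullback.snd V'.hom f')
      (pullback.snd (pullback.snd V₁.hom f) g'),
      e ≫ pullback.fst _ _ = E.ι ≫ c₁ ∧ e ≫ pullback.snd _ _ = E.ι ≫ c₂ :=
    ⟨pullback.lift (E.ι ≫ c₁) (E.ι ≫ c₂) (by rw [Category.assoc, Category.assoc, hc₁π, hc₂π]),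
      pullback.lift_fst _ _ _, pullback.lift_snd _ _ _⟩
  have heet : Etale e := by
    have h1 : e ≫ pullback.fst (pullback.snd V'.hom f')
        (pullback.snd (pullback.snd V₁.hom f) g') ≫ pullback.snd V'.hom f' = E.ι ≫ nh := by
      rw [reassoc_of% he1, hc₁π]
    have : Etale (e ≫ pullback.fst (pullback.snd V'.hom f')
        (pullback.snd (pullback.snd V₁.hom f) g') ≫ pullback.snd V'.hom f') := by
      rw [h1]; infer_instance
    exact Etale.of_comp e (pullback.fst (pullback.snd V'.hom f')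
        (pullback.snd (pullback.snd V₁.hom f) g') ≫ pullback.snd V'.hom f')
  -- the base point
  obtain ⟨nE, hnE⟩ := exists_lift_open n''.left E hE
  obtain ⟨lT, hlT⟩ : ∃ lT : Zf f (η' ≫ g) ⟶ pullback (pullback.snd V'.hom f')
      (pullback.snd (pullback.snd V₁.hom f) g'), lT = lamT f g f' g' h η' V' v' V₁ v₁ := ⟨_, rfl⟩
  have hlT1 : lT ≫ pullback.fst _ _ = lam₁ f g f' g' h η' V' v' := by
    rw [hlT, lamT, pullback.lift_fst]
  have hlT2 : lT ≫ pullback.snd _ _ = lam₂ f g f' g' h η' V₁ v₁ := by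
    rw [hlT, lamT, pullback.lift_snd]
  have hn''c₁ : n''.left ≫ c₁ = (liftPt f' ξ' η' hξ' V' v').left := by
    rw [hc₁]
    exact congrArg (fun m => m.left) (show (Scheme.pointSmallEtale ξ').fiber.map (p₁ ≫ c) n'' =
      liftPt f' ξ' η' hξ' V' v' from by
        rw [Functor.map_comp]
        change (Scheme.pointSmallEtale ξ').fiber.map c
          ((Scheme.pointSmallEtale ξ').fiber.map p₁ n'') = _
        rw [hp₁', hc])
  have hn''c₂ : n''.left ≫ c₂ = (liftPt g' ξ' (ξ' ≫ g') rfl U₁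
      (liftPt f (ξ' ≫ g') (η' ≫ g) (comp_eq f g f' g' h η' ξ' hξ') V₁ v₁)).left := by
    rw [hc₂]
    exact congrArg (fun m => m.left) (show (Scheme.pointSmallEtale ξ').fiber.map
      (p₂ ≫ (EtCoh.bc g').map j₁) n'' = liftPt g' ξ' (ξ' ≫ g') rfl U₁
        (liftPt f (ξ' ≫ g') (η' ≫ g) (comp_eq f g f' g' h η' ξ' hξ') V₁ v₁) from by
        rw [Functor.map_comp]
        change (Scheme.pointSmallEtale ξ').fiber.map ((EtCoh.bc g').map j₁)
          ((Scheme.pointSmallEtale ξ').fiber.map p₂ n'') = _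
        rw [hp₂', liftPt_map]
        congr 1
        exact Over.OverMorphism.ext hξD₁)
  have hx₀m : nE ≫ e = zpt f (η' ≫ g) (ξ' ≫ g') (comp_eq f g f' g' h η' ξ' hξ') ≫ lT := by
    apply pullback.hom_ext
    · exact (Category.assoc _ _ _).trans ((nE ≫= he1).trans ((Category.assoc _ _ _).symm.trans
        ((hnE =≫ c₁).trans (hn''c₁.trans ((zpt_lam₁ f g f' g' h η' ξ' hξ' V' v').symm.trans
          ((_ ≫= hlT1.symm).trans (Category.assoc _ _ _).symm))))))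
    · exact (Category.assoc _ _ _).trans ((nE ≫= he2).trans ((Category.assoc _ _ _).symm.trans
        ((hnE =≫ c₂).trans (hn''c₂.trans ((zpt_lam₂ f g f' g' h η' ξ' hξ' V₁ v₁).symm.trans
          ((_ ≫= hlT2.symm).trans (Category.assoc _ _ _).symm))))))
  have hx₀ : e (nE default) =
      lT (zpt f (η' ≫ g) (ξ' ≫ g') (comp_eq f g f' g' h η' ξ' hξ') default) :=
    (Scheme.Hom.comp_apply nE e default).symm.trans
      ((congrArg (fun m : Spec (CommRingCat.of Ω) ⟶ pullback (pullback.snd V'.hom f')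
        (pullback.snd (pullback.snd V₁.hom f) g') => m default) hx₀m).trans
        (Scheme.Hom.comp_apply _ lT default))
  obtain ⟨V_T, v_T, D_T, hD_Tcl, hξD_T, hD_T⟩ := exists_clopen_of_etale f (η' ≫ g)
    lT e (ξ' ≫ g') (comp_eq f g f' g' h η' ξ' hξ') (nE default) hx₀
  -- common refinement of `(V_T, v_T)` and `(V₁, v₁)`
  obtain ⟨m', ⟨kT⟩, ⟨k₁⟩⟩ : ∃ m' : (Scheme.pointSmallEtale (η' ≫ g)).fiber.Elements,
      Nonempty (m' ⟶ ⟨V_T, v_T⟩) ∧ Nonempty (m' ⟶ ⟨V₁, v₁⟩) :=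
    ⟨IsCofiltered.min _ _, ⟨IsCofiltered.minToLeft _ _⟩, ⟨IsCofiltered.minToRight _ _⟩⟩
  obtain ⟨V, v⟩ := m'
  obtain ⟨kT, hkT⟩ := kT
  obtain ⟨k₁, hk₁⟩ := k₁
  have hkT' : (Scheme.pointSmallEtale (η' ≫ g)).fiber.map kT v = v_T := hkT
  have hk₁' : (Scheme.pointSmallEtale (η' ≫ g)).fiber.map k₁ v = v₁ := hk₁
  obtain ⟨bT, hbT⟩ : ∃ bT : pullback V.hom f ⟶ pullback V_T.hom f,
      bT = ((EtCoh.bc f).map kT).left := ⟨_, rfl⟩
  obtain ⟨b₁, hb₁⟩ : ∃ b₁ : pullback V.hom f ⟶ pullback V₁.hom f,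
      b₁ = ((EtCoh.bc f).map k₁).left := ⟨_, rfl⟩
  have hb₁snd : b₁ ≫ pullback.snd V₁.hom f = pullback.snd V.hom f := by
    rw [hb₁]; exact bc_map_left_snd f k₁
  let D : (pullback V.hom f).Opens := (bT ⁻¹ᵁ D_T) ⊓ (b₁ ⁻¹ᵁ D₁)
  let UV : X.Etale := (EtCoh.bc f).obj V
  let W : X.Etale := opn UV D
  let a : W ⟶ UV := opnι UV D
  obtain ⟨rr, hrr⟩ : ∃ rr : (D : Scheme.{u}) ⟶ D₁, rr ≫ D₁.ι = D.ι ≫ b₁ :=
    ⟨b₁.resLE D₁ D inf_le_right, Scheme.Hom.resLE_comp_ι _ _⟩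
  have hrX : rr ≫ O₁.hom = W.hom := by
    change rr ≫ D₁.ι ≫ pullback.snd V₁.hom f = D.ι ≫ pullback.snd V.hom f
    rw [reassoc_of% hrr, hb₁snd]
  let r : W ⟶ O₁ := MorphismProperty.Over.homMk rr hrX
  have hrj : r ≫ j₁ = a ≫ (EtCoh.bc f).map k₁ := by
    apply MorphismProperty.Over.Hom.ext
    change rr ≫ D₁.ι = D.ι ≫ ((EtCoh.bc f).map k₁).left
    rw [← hb₁]
    exact hrr
  have hDmem : ∀ (ξ₂ : Spec (CommRingCat.of Ω) ⟶ X) (hh₂ : ξ₂ ≫ f = η' ≫ g),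
      ((liftPt f ξ₂ (η' ≫ g) hh₂ V v).left : Spec (CommRingCat.of Ω) ⟶ pullback V.hom f)
        (default : Spec (CommRingCat.of Ω)) ∈ D ↔
      (((liftPt f ξ₂ (η' ≫ g) hh₂ V_T v_T).left : Spec (CommRingCat.of Ω) ⟶ pullback V_T.hom f)
        (default : Spec (CommRingCat.of Ω)) ∈ D_T ∧
       ((liftPt f ξ₂ (η' ≫ g) hh₂ V₁ v₁).left : Spec (CommRingCat.of Ω) ⟶ pullback V₁.hom f)
        (default : Spec (CommRingCat.of Ω)) ∈ D₁) := by
    intro ξ₂ hh₂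
    have i1 := liftPt_mem_preimage_iff f (η' ≫ g) ξ₂ hh₂ kT v v_T hkT' D_T
    have i2 := liftPt_mem_preimage_iff f (η' ≫ g) ξ₂ hh₂ k₁ v v₁ hk₁' D₁
    rw [← hbT] at i1
    rw [← hb₁] at i2
    exact and_congr i1 i2
  obtain ⟨pq, hpq⟩ : ∃ pq : N''.left ⟶ (D₁ : Scheme.{u}),
      pq = p₂.left ≫ pullback.fst O₁.hom g' := ⟨_, rfl⟩
  obtain ⟨fU₁, hfU₁⟩ : ∃ fU₁ : pullback (pullback.snd V₁.hom f) g' ⟶ pullback V₁.hom f,
      fU₁ = pullback.fst U₁.hom g' := ⟨_, rfl⟩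
  have hpqι : pq ≫ D₁.ι = c₂ ≫ fU₁ := by
    have e1 : ((EtCoh.bc g').map j₁).left ≫ pullback.fst U₁.hom g' =
        pullback.fst O₁.hom g' ≫ D₁.ι := bc_map_left_fst g' j₁
    rw [hpq, hc₂, hfU₁]
    exact ((Category.assoc _ _ _).trans (p₂.left ≫= e1.symm)).trans (Category.assoc _ _ _).symm
  obtain ⟨βl, hβl⟩ : ∃ βl : N''.left ⟶ pullback U.hom g', βl = β.left := ⟨_, rfl⟩
  obtain ⟨fU, hfU⟩ : ∃ fU : pullback U.hom g' ⟶ U.left, fU = pullback.fst U.hom g' := ⟨_, rfl⟩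
  have hβfU : βl ≫ fU = pq ≫ hD₁ := by
    have e1 : ((EtCoh.bc g').map κ₁).left ≫ pullback.fst U.hom g' =
        pullback.fst O₁.hom g' ≫ hD₁ := bc_map_left_fst g' κ₁
    rw [hβl, hfU, hpq]
    exact (Category.assoc _ _ _).trans ((p₂.left ≫= e1).trans (Category.assoc _ _ _).symm)
  refine ⟨V, v, W, a, F.obj.map (r ≫ κ₁).op σ₀, ?_, ?_⟩
  · have hmem : ((liftPt f (ξ' ≫ g') (η' ≫ g) (comp_eq f g f' g' h η' ξ' hξ') V v).left :
        Spec (CommRingCat.of Ω) ⟶ pullback V.hom f) (default : Spec (CommRingCat.of Ω)) ∈ D := by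
      exact (hDmem _ _).mpr ⟨hξD_T, mem_of_fac D₁ ξD₁ _ hξD₁⟩
    obtain ⟨d, hd⟩ := exists_lift_open _ D hmem
    have hdw : d ≫ W.hom = ξ' ≫ g' := by
      change d ≫ D.ι ≫ pullback.snd V.hom f = _
      rw [reassoc_of% hd]
      exact liftPt_left_snd f (ξ' ≫ g') (η' ≫ g) _ V v
    exact ⟨Over.homMk d hdw, Over.OverMorphism.ext hd⟩
  · intro ξ₂' hξ₂' w₂ hw₂
    have hh₂ := comp_eq f g f' g' h η' ξ₂' hξ₂'
    obtain ⟨w₂l, hw₂l'⟩ : ∃ w₂l : Spec (CommRingCat.of Ω) ⟶ D, w₂l = w₂.left := ⟨_, rfl⟩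
    have hw₂l : w₂l ≫ D.ι = (liftPt f (ξ₂' ≫ g') (η' ≫ g) hh₂ V v).left := by
      rw [hw₂l']; exact congrArg (fun m => m.left) hw₂
    have hmem₂ := mem_of_fac D w₂l _ hw₂l
    obtain ⟨hmT, hm₁⟩ := (hDmem _ hh₂).mp hmem₂
    obtain ⟨e₂, he₂⟩ := hD_T (ξ₂' ≫ g') hh₂ hmT
    have hC1 : e₂ ≫ E.ι ≫ c₁ = (liftPt f' ξ₂' η' hξ₂' V' v').left :=
      (e₂ ≫= he1.symm).trans ((Category.assoc _ _ _).symm.trans ((he₂ =≫ _).trans
        ((Category.assoc _ _ _).trans ((_ ≫= hlT1).trans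
          (zpt_lam₁ f g f' g' h η' ξ₂' hξ₂' V' v')))))
    have hC2 : e₂ ≫ E.ι ≫ c₂ = (liftPt g' ξ₂' (ξ₂' ≫ g') rfl U₁
        (liftPt f (ξ₂' ≫ g') (η' ≫ g) hh₂ V₁ v₁)).left :=
      (e₂ ≫= he2.symm).trans ((Category.assoc _ _ _).symm.trans ((he₂ =≫ _).trans
        ((Category.assoc _ _ _).trans ((_ ≫= hlT2).trans
          (zpt_lam₂ f g f' g' h η' ξ₂' hξ₂' V₁ v₁)))))
    let OE : X'.Etale := opn N'' E
    let jE : OE ⟶ N'' := opnι N'' E
    have hnE₂ : e₂ ≫ OE.hom = ξ₂' := by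
      change e₂ ≫ E.ι ≫ N''.hom = ξ₂'
      calc e₂ ≫ E.ι ≫ N''.hom = e₂ ≫ E.ι ≫ (c₁ ≫ pullback.snd V'.hom f') := by rw [hc₁π, hnh]
        _ = (e₂ ≫ E.ι ≫ c₁) ≫ pullback.snd V'.hom f' := by simp only [Category.assoc]
        _ = ξ₂' := by rw [hC1]; exact liftPt_left_snd f' ξ₂' η' hξ₂' V' v'
    let nE₂ : (Scheme.pointSmallEtale ξ₂').fiber.obj OE := Over.homMk e₂ hnE₂
    have hF1 : (Scheme.pointSmallEtale ξ₂').fiber.map (jE ≫ p₁ ≫ c) nE₂ =
        liftPt f' ξ₂' η' hξ₂' V' v' := by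
      apply Over.OverMorphism.ext
      change e₂ ≫ E.ι ≫ (p₁ ≫ c).left = _
      rw [← hc₁]
      exact hC1
    -- the `D₁`-component
    have e3 : (liftPt f (ξ₂' ≫ g') (η' ≫ g) hh₂ V v).left ≫ b₁ =
        (liftPt f (ξ₂' ≫ g') (η' ≫ g) hh₂ V₁ v₁).left := by
      rw [hb₁, ← hk₁', ← liftPt_map]
      rfl
    have hq₂r : e₂ ≫ E.ι ≫ pq = w₂l ≫ rr := by
      rw [← cancel_mono D₁.ι]
      have s1 : (e₂ ≫ E.ι ≫ pq) ≫ D₁.ι = (e₂ ≫ E.ι ≫ c₂) ≫ fU₁ := by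
        calc (e₂ ≫ E.ι ≫ pq) ≫ D₁.ι = e₂ ≫ E.ι ≫ (pq ≫ D₁.ι) := by simp only [Category.assoc]
          _ = (e₂ ≫ E.ι ≫ c₂) ≫ fU₁ := by rw [hpqι]; simp only [Category.assoc]
      have s2 : (e₂ ≫ E.ι ≫ c₂) ≫ fU₁ = (liftPt f (ξ₂' ≫ g') (η' ≫ g) hh₂ V₁ v₁).left := by
        rw [hC2, hfU₁]
        exact liftPt_left_fst g' ξ₂' (ξ₂' ≫ g') rfl U₁ _
      have s3 : (w₂l ≫ rr) ≫ D₁.ι = (liftPt f (ξ₂' ≫ g') (η' ≫ g) hh₂ V₁ v₁).left :=
        (Category.assoc _ _ _).trans ((w₂l ≫= hrr).trans ((Category.assoc _ _ _).symm.trans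
          ((hw₂l =≫ b₁).trans e3)))
      exact s1.trans (s2.trans s3.symm)
    have hF4 : (Scheme.pointSmallEtale ξ₂').fiber.map (jE ≫ β) nE₂ =
        liftPt g' ξ₂' (ξ₂' ≫ g') rfl U
          ((Scheme.pointSmallEtale (ξ₂' ≫ g')).fiber.map (r ≫ κ₁) w₂) := by
      apply Over.OverMorphism.ext
      apply pullback.hom_ext
      · have e4 : (liftPt g' ξ₂' (ξ₂' ≫ g') rfl U
            ((Scheme.pointSmallEtale (ξ₂' ≫ g')).fiber.map (r ≫ κ₁) w₂)).left ≫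
            pullback.fst U.hom g' = w₂l ≫ rr ≫ hD₁ := by
          rw [hw₂l']
          exact liftPt_left_fst g' ξ₂' (ξ₂' ≫ g') rfl U _
        refine Eq.trans ?_ e4.symm
        change (e₂ ≫ E.ι ≫ β.left) ≫ pullback.fst U.hom g' = _
        rw [← hβl, ← hfU]
        calc (e₂ ≫ E.ι ≫ βl) ≫ fU = e₂ ≫ E.ι ≫ (βl ≫ fU) := by simp only [Category.assoc]
          _ = (e₂ ≫ E.ι ≫ pq) ≫ hD₁ := by rw [hβfU]; simp only [Category.assoc]
          _ = w₂l ≫ rr ≫ hD₁ := by rw [hq₂r, Category.assoc]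
      · have e5 : (liftPt g' ξ₂' (ξ₂' ≫ g') rfl U
            ((Scheme.pointSmallEtale (ξ₂' ≫ g')).fiber.map (r ≫ κ₁) w₂)).left ≫
            pullback.snd U.hom g' = ξ₂' := liftPt_left_snd g' ξ₂' (ξ₂' ≫ g') rfl U _
        refine Eq.trans ?_ e5.symm
        exact Over.w ((Scheme.pointSmallEtale ξ₂').fiber.map (jE ≫ β) nE₂)
    -- the chain of germs
    have g1 : (Scheme.pointSmallEtale (ξ₂' ≫ g')).toPresheafFiber W w₂ F.obj
        (F.obj.map (r ≫ κ₁).op σ₀) =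
        (Scheme.pointSmallEtale (ξ₂' ≫ g')).toPresheafFiber U
          ((Scheme.pointSmallEtale (ξ₂' ≫ g')).fiber.map (r ≫ κ₁) w₂) F.obj σ₀ :=
      (Scheme.pointSmallEtale (ξ₂' ≫ g')).toPresheafFiber_w_apply (r ≫ κ₁) w₂ F.obj σ₀
    have g2 := stalkPull_germ g' ξ₂' F U
      ((Scheme.pointSmallEtale (ξ₂' ≫ g')).fiber.map (r ≫ κ₁) w₂) σ₀
    rw [← hF4] at g2
    have g3 := (Scheme.pointSmallEtale ξ₂').toPresheafFiber_w_apply (jE ≫ β) nE₂ M.obj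
      (((EtDesc.adjSh g').unit.app F).hom.app (op U) σ₀)
    have hjE : jE ≫ β = jE ≫ α := by
      apply MorphismProperty.Over.Hom.ext
      exact hEαβ.symm
    have g4 : M.obj.map (jE ≫ β).op (((EtDesc.adjSh g').unit.app F).hom.app (op U) σ₀) =
        M.obj.map (jE ≫ p₁ ≫ c).op t := by
      have m1 : ∀ {T₀ : X'.Etale} (d : N' ⟶ T₀) (x : ToType (M.obj.obj (op T₀))),
          M.obj.map ((jE ≫ p₁) ≫ d).op x = M.obj.map (jE ≫ p₁).op (M.obj.map d.op x) := by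
        intro T₀ d x
        rw [op_comp, Functor.map_comp, ConcreteCategory.comp_apply]
      rw [hjE]
      change M.obj.map ((jE ≫ p₁) ≫ b).op _ = _
      rw [m1, hbc, ← m1, Category.assoc]
    have g5 := (Scheme.pointSmallEtale ξ₂').toPresheafFiber_w_apply (jE ≫ p₁ ≫ c) nE₂ M.obj t
    rw [hF1] at g5
    have g6 : (T2H8ShStalkA.stalkPullIso g' ξ₂').hom.app F
        ((Scheme.pointSmallEtale (ξ₂' ≫ g')).toPresheafFiber W w₂ F.obj
          (F.obj.map (r ≫ κ₁).op σ₀)) =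
        θ f' ξ₂' η' hξ₂' M.obj
          ((Scheme.pointSmallEtale η').toPresheafFiber V' v' ((EtDesc.pushSh f').obj M).obj t) := by
      rw [g1]
      refine g2.trans (g3.symm.trans ?_)
      rw [g4]
      exact g5.trans (hθ ξ₂' hξ₂').symm
    exact (ConcreteCategory.congr_hom ((T2H8ShStalkA.stalkPullIso g' ξ₂').hom_inv_id_app F) _).symm.trans
      (congrArg ((T2H8ShStalkA.stalkPullIso g' ξ₂').inv.app F) g6)

include h in
set_option backward.isDefEq.respectTransparency.types false in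
/-- the degree-zero base change map for an integral morphism is an isomorphism. -/
theorem isIso_baseChange0 : IsIso (EtBC.baseChange0Sh f g f' g' h.w F) := by
  apply Groth.Agent.Lib.T2H8ShStalkB.isIso_of_stalks
  intro Ω _ _ η'
  have hf' : IsIntegralHom f' := MorphismProperty.of_isPullback (P := @IsIntegralHom) h ‹_›
  let G := (EtDesc.pushSh f).obj F
  let M := (EtDesc.pullSh g').obj F
  have hσ : Function.Bijective ((T2H8ShStalkA.stalkPullIso g η').hom.app G) :=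
    ConcreteCategory.bijective_of_isIso _
  have hρ : ∀ ξ' : Spec (CommRingCat.of Ω) ⟶ X',
      Function.Bijective ((T2H8ShStalkA.stalkPullIso g' ξ').hom.app F) :=
    fun ξ' => ConcreteCategory.bijective_of_isIso _
  have hlift : ∀ (ξ : Spec (CommRingCat.of Ω) ⟶ X) (hξ : ξ ≫ f = η' ≫ g),
      ∃ ξ' : Spec (CommRingCat.of Ω) ⟶ X', ξ' ≫ g' = ξ ∧ ξ' ≫ f' = η' :=
    fun ξ hξ => ⟨h.lift ξ η' hξ, h.lift_fst _ _ _, h.lift_snd _ _ _⟩
  constructor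
  · intro x₁ x₂ hx
    obtain ⟨p₁, rfl⟩ := hσ.2 x₁
    obtain ⟨p₂, rfl⟩ := hσ.2 x₂
    congr 1
    apply Groth.Agent.Lib.T2H8IntPts.θ_jointly_injective f (η' ≫ g) F.obj (isSheaf_forget F) p₁ p₂
    intro ξ hξ
    obtain ⟨ξ', rfl, hξ'⟩ := hlift ξ hξ
    have k1 := key_compat f g f' g' h.w F η' ξ' hξ' hξ p₁
    have k2 := key_compat f g f' g' h.w F η' ξ' hξ' hξ p₂
    rw [hx] at k1
    exact (hρ ξ').1 (k1.symm.trans k2)
  · intro y
    let T : ∀ (ξ' : Spec (CommRingCat.of Ω) ⟶ X') (_ : ξ' ≫ f' = η'),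
        ToType ((stalkSh (ξ' ≫ g')).obj F) := fun ξ' hξ' =>
      (T2H8ShStalkA.stalkPullIso g' ξ').inv.app F (θ f' ξ' η' hξ' M.obj y)
    have hT : ∀ (ξ'' ξ' : Spec (CommRingCat.of Ω) ⟶ X') (e : ξ'' = ξ') (h'' : ξ'' ≫ f' = η')
        (h' : ξ' ≫ f' = η') (eq : ξ'' ≫ g' = ξ' ≫ g'),
        castStalk F eq (T ξ'' h'') = T ξ' h' := by
      intro ξ'' ξ' e h'' h' eq
      subst e
      rfl
    let τ : ∀ ξ : {ξ : Spec (CommRingCat.of Ω) ⟶ X // ξ ≫ f = η' ≫ g},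
        ToType ((Scheme.pointSmallEtale ξ.1).presheafFiber.obj F.obj) := fun ξ =>
      castStalk F (h.lift_fst ξ.1 η' ξ.2) (T (h.lift ξ.1 η' ξ.2) (h.lift_snd _ _ _))
    have hτ : ∀ (ξ' : Spec (CommRingCat.of Ω) ⟶ X') (hξ' : ξ' ≫ f' = η')
        (hξ : (ξ' ≫ g') ≫ f = η' ≫ g), τ ⟨ξ' ≫ g', hξ⟩ = T ξ' hξ' := by
      intro ξ' hξ' hξ
      have e : h.lift (ξ' ≫ g') η' hξ = ξ' := by
        apply h.hom_ext
        · exact h.lift_fst _ _ _
        · exact (h.lift_snd _ _ _).trans hξ'.symm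
      exact hT _ _ e _ hξ' _
    have Hc : ∀ ξ : {ξ : Spec (CommRingCat.of Ω) ⟶ X // ξ ≫ f = η' ≫ g},
        ∃ (V : Y.Etale) (v : (Scheme.pointSmallEtale (η' ≫ g)).fiber.obj V) (W : X.Etale)
          (a : W ⟶ (EtCoh.bc f).obj V) (σ : ToType (F.obj.obj (op W))),
          (∃ wb : (Scheme.pointSmallEtale ξ.1).fiber.obj W,
            (Scheme.pointSmallEtale ξ.1).fiber.map a wb = liftPt f ξ.1 (η' ≫ g) ξ.2 V v) ∧
          ∀ (ξ₂ : {ξ : Spec (CommRingCat.of Ω) ⟶ X // ξ ≫ f = η' ≫ g})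
            (w₂ : (Scheme.pointSmallEtale ξ₂.1).fiber.obj W),
            (Scheme.pointSmallEtale ξ₂.1).fiber.map a w₂ = liftPt f ξ₂.1 (η' ≫ g) ξ₂.2 V v →
            (Scheme.pointSmallEtale ξ₂.1).toPresheafFiber W w₂ F.obj σ = τ ξ₂ := by
      rintro ⟨ξ, hξ⟩
      obtain ⟨ξ', rfl, hξ'⟩ := hlift ξ hξ
      obtain ⟨V, v, W, a, σ, hwb, hσ'⟩ := continuity f g f' g' h F η' y ξ' hξ'
      refine ⟨V, v, W, a, σ, hwb, ?_⟩
      rintro ⟨ξ₂, hξ₂⟩ w₂ hw₂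
      obtain ⟨ξ₂', rfl, hξ₂'⟩ := hlift ξ₂ hξ₂
      exact (hσ' ξ₂' hξ₂' w₂ hw₂).trans (hτ ξ₂' hξ₂' hξ₂).symm
    obtain ⟨p, hp⟩ := θ_surjective_of_continuous f (η' ≫ g) F.obj (isSheaf_forget F) τ Hc
    refine ⟨(T2H8ShStalkA.stalkPullIso g η').hom.app G p, ?_⟩
    apply Groth.Agent.Lib.T2H8IntPts.θ_jointly_injective f' η' M.obj (isSheaf_forget M)
    intro ξ' hξ'
    have hξ : (ξ' ≫ g') ≫ f = η' ≫ g := by
      rw [Category.assoc, h.w, reassoc_of% hξ']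
    have k := key_compat f g f' g' h.w F η' ξ' hξ' hξ p
    refine k.trans ?_
    have e1 : θ f (ξ' ≫ g') (η' ≫ g) hξ F.obj p = T ξ' hξ' :=
      (hp ⟨ξ' ≫ g', hξ⟩).trans (hτ ξ' hξ' hξ)
    rw [e1]
    exact ConcreteCategory.congr_hom ((T2H8ShStalkA.stalkPullIso g' ξ').inv_hom_id_app F) _

end Main

end Groth.Agent.Lib.T2H8ShBC
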