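import Mathlib

/-!
# The sheaf of closed sieves classifies subsheaves (helper8)

For a monomorphism `a : F ⟶ G` of sheaves of types, two morphisms `chi a, tru G : G ⟶ Om J` into the
sheaf of closed sieves which agree exactly on the sections in the image of `a`.
-/

set_option autoImplicit false
universe v u
open CategoryTheory Opposite

namespace Groth.Agent.Lib.T2H8ShOmega

variable {C : Type u} [Category.{v} C] (J : GrothendieckTopology C)

/-- the sheaf of closed sieves -/
def Om : Sheaf J (Type (max v u)) :=
  ⟨(Functor.closedSieves J).toFunctor, (isSheaf_iff_isSheaf_of_type _ _).mpr (classifier_isSheaf J)⟩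

variable {J}

lemma isClosed_top (X : C) : J.IsClosed (⊤ : Sieve X) := fun _ _ _ => trivial

/-- the morphism "true" -/
def tru (G : Sheaf J (Type (max v u))) : G ⟶ Om J :=
  ⟨{ app := fun U => TypeCat.ofHom (fun _ => ⟨(⊤ : Sieve U.unop), isClosed_top _⟩)
     naturality := by
      intro U V i
      ext s
      apply Subtype.ext
      change (⊤ : Sieve V.unop) = Sieve.pullback i.unop (⊤ : Sieve U.unop)
      rw [Sieve.pullback_top] }⟩

lemma sieveOfSection_pullback {G : Cᵒᵖ ⥤ Type (max v u)} (R : Subfunctor G) {U V : C} (f : V ⟶ U)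
    (s : G.obj (op U)) :
    (R.sieveOfSection s).pullback f = R.sieveOfSection (G.map f.op s) := by
  ext W g
  change G.map (g ≫ f).op s ∈ R.obj (op W) ↔ G.map g.op (G.map f.op s) ∈ R.obj (op W)
  rw [op_comp, Functor.map_comp]
  rfl

variable {F G : Sheaf J (Type (max v u))} (a : F ⟶ G)

lemma mono_hom [Mono a] : Mono a.hom := (Sheaf.Hom.mono_iff_presheaf_mono J _ a).mp inferInstance

lemma isSheaf_range [Mono a] : Presieve.IsSheaf J (Subfunctor.range a.hom).toFunctor := by
  haveI := mono_hom a
  exact Presieve.isSheaf_iso J (asIso (Subfunctor.toRange a.hom))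
    ((isSheaf_iff_isSheaf_of_type _ _).mp F.property)

lemma isClosed_sieveOfSection [Mono a] {U : C} (s : G.obj.obj (op U)) :
    J.IsClosed ((Subfunctor.range a.hom).sieveOfSection s) := by
  intro V f hf
  have h1 : (Subfunctor.range a.hom).sieveOfSection (G.obj.map f.op s) ∈ J V := by
    rw [← sieveOfSection_pullback]
    exact hf
  exact ((Subfunctor.range a.hom).isSheaf_iff ((isSheaf_iff_isSheaf_of_type _ _).mp G.property)).mp
    (isSheaf_range a) (op V) _ h1

/-- the classifying morphism of a monomorphism -/
def chi [Mono a] : G ⟶ Om J :=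
  ⟨{ app := fun U => TypeCat.ofHom (fun s => ⟨(Subfunctor.range a.hom).sieveOfSection s,
        isClosed_sieveOfSection a s⟩)
     naturality := by
      intro U V i
      ext s
      apply Subtype.ext
      exact (sieveOfSection_pullback (Subfunctor.range a.hom) i.unop s).symm }⟩

lemma chi_eq_tru_iff [Mono a] {U : C} (s : G.obj.obj (op U)) :
    (chi a).hom.app (op U) s = (tru G).hom.app (op U) s ↔ s ∈ Set.range (a.hom.app (op U)) := by
  constructor
  · intro h
    have h1 : (Subfunctor.range a.hom).sieveOfSection s = ⊤ := congrArg Subtype.val h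
    have h2 : (Subfunctor.range a.hom).sieveOfSection s (𝟙 U) := by rw [h1]; trivial
    change G.obj.map (𝟙 U).op s ∈ Set.range (a.hom.app (op U)) at h2
    rwa [op_id, G.obj.map_id] at h2
  · rintro ⟨x, rfl⟩
    apply Subtype.ext
    change (Subfunctor.range a.hom).sieveOfSection (a.hom.app (op U) x) = ⊤
    rw [eq_top_iff]
    intro V f _
    change G.obj.map f.op (a.hom.app (op U) x) ∈ Set.range (a.hom.app (op V))
    exact ⟨F.obj.map f.op x, NatTrans.naturality_apply a.hom f.op x⟩

lemma comp_chi [Mono a] : a ≫ chi a = a ≫ tru G := by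
  apply Sheaf.hom_ext
  ext U x
  exact (chi_eq_tru_iff a (a.hom.app U x)).mpr ⟨x, rfl⟩

end Groth.Agent.Lib.T2H8ShOmega
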