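import Mathlib
import Groth.Prelude.Def_SGA4b
import Groth.Prelude.Def_EtBCD
import Groth.Agent.Lib.T2H8ShOmega
import Groth.Agent.Lib.T2H8ShStalkB
import Groth.Agent.Lib.T2H8ShBC
import Groth.Agent.Lib.T2H8PullFaithful

/-!
# Pullback of global sections of sheaves of sets on the small etale site (helper8)
-/

set_option autoImplicit false
universe u
open CategoryTheory CategoryTheory.Limits AlgebraicGeometry Opposite

namespace Groth.Agent.Lib.T2H8SecPull

open Groth.Agent.Lib.T2H8ShOmega Groth.Agent.Lib.T2H8ShStalkA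

section Basic

variable {X : Scheme.{u}}

lemma injective_app_of_mono {F G : EtDesc.Sh X} (a : F ⟶ G) [Mono a] (U : X.Etaleᵒᵖ) :
    Function.Injective (a.hom.app U) := by
  haveI := mono_hom a
  haveI : Mono (a.hom.app U) := inferInstance
  exact (mono_iff_injective (a.hom.app U)).mp inferInstance

lemma bijective_app_of_isIso {F G : EtDesc.Sh X} (a : F ⟶ G) [IsIso a] (U : X.Etaleᵒᵖ) :
    Function.Bijective (a.hom.app U) := by
  have h1 : IsIso (((sheafSections X.smallEtaleTopology (Type (u + 1))).obj U).map a) :=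
    inferInstance
  exact (isIso_iff_bijective _).mp h1

/-- restriction along morphisms into a terminal object does not depend on the morphism -/
lemma map_eq_of_isTerminal (P : X.Etaleᵒᵖ ⥤ Type (u + 1)) {T U : X.Etale} (hT : IsTerminal T)
    (a b : U ⟶ T) (x : P.obj (op T)) : P.map a.op x = P.map b.op x := by
  rw [hT.hom_ext a b]

end Basic

section Mono

variable {X Y : Scheme.{u}} (f : X ⟶ Y)

lemma ab5_type : AB5OfSize.{u, u} (Type (u + 1)) :=
  AB5OfSize_shrink.{u, u, u + 1, u + 1} (Type (u + 1))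

set_option backward.isDefEq.respectTransparency.types false in
lemma mono_pull_map {G G' : EtDesc.Sh Y} (a : G ⟶ G') [Mono a] :
    Mono ((EtDesc.pullSh f).map a) := by
  apply Groth.Agent.Lib.T2H8ShStalkB.mono_of_stalks
  intro Ω _ _ ξ
  haveI := ab5_type.{u}
  have h1 : Mono ((stalkSh (ξ ≫ f)).map a) := inferInstance
  have nat := (stalkPullIso f ξ).hom.naturality a
  have h2 : Mono ((EtDesc.pullSh f ⋙ stalkSh ξ).map a) := by
    have h3 : Mono ((stalkPullIso f ξ).hom.app G ≫ (EtDesc.pullSh f ⋙ stalkSh ξ).map a) := by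
      rw [← nat]; infer_instance
    have e : (EtDesc.pullSh f ⋙ stalkSh ξ).map a =
        (stalkPullIso f ξ).inv.app G ≫ ((stalkPullIso f ξ).hom.app G ≫
          (EtDesc.pullSh f ⋙ stalkSh ξ).map a) := by simp
    rw [e]; infer_instance
  exact (mono_iff_injective _).mp h2

end Mono

section SecPull

variable {X Y : Scheme.{u}} (f : X ⟶ Y)

lemma secPull_def (F : EtDesc.Sh Y) (s : EtDesc.sect F (EtCoh.top Y)) :
    EtDesc.secPull f F s = ((EtDesc.pullSh f).obj F).obj.map (EtCore.bcTopIso f).inv.op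
      (((EtDesc.adjSh f).unit.app F).hom.app (op (EtCoh.top Y)) s) := rfl

set_option backward.isDefEq.respectTransparency.types false in
/-- naturality of the pullback of global sections. -/
lemma secPull_naturality {F G : EtDesc.Sh Y} (a : F ⟶ G) (s : EtDesc.sect F (EtCoh.top Y)) :
    ((EtDesc.pullSh f).map a).hom.app (op (EtCoh.top X)) (EtDesc.secPull f F s) =
      EtDesc.secPull f G (a.hom.app (op (EtCoh.top Y)) s) := by
  rw [secPull_def, secPull_def]
  have n1 := NatTrans.naturality_apply ((EtDesc.pullSh f).map a).hom (EtCore.bcTopIso f).inv.op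
    (((EtDesc.adjSh f).unit.app F).hom.app (op (EtCoh.top Y)) s)
  refine n1.trans ?_
  congr 1
  have n2 := (EtDesc.adjSh f).unit.naturality a
  exact congrArg (fun m => m.hom.app (op (EtCoh.top Y)) s) n2.symm

end SecPull

section Comp

variable {X Y Z : Scheme.{u}} (g : Z ⟶ X) (f : X ⟶ Y)

/-- iterated base change of the terminal object is terminal -/
noncomputable def bcBcTopIsTerminal :
    IsTerminal ((EtCoh.bc g).obj ((EtCoh.bc f).obj (EtCoh.top Y))) :=
  IsTerminal.isTerminalObj (EtCoh.bc g) _ (EtCore.bcTopIsTerminal f)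

lemma unit_ofNatIsoRight_app {C D : Type*} [Category C] [Category D] {L : C ⥤ D} {R R' : D ⥤ C}
    (adj : L ⊣ R) (iso : R ≅ R') (x : C) :
    (adj.ofNatIsoRight iso).unit.app x = adj.unit.app x ≫ iso.hom.app (L.obj x) := by
  rw [← Adjunction.homEquiv_id, Adjunction.homEquiv_ofNatIsoRight_apply, Adjunction.homEquiv_id]

set_option backward.isDefEq.respectTransparency.types false in
lemma unit_pullCompSh (F : EtDesc.Sh Y) :
    (EtDesc.adjSh (g ≫ f)).unit.app F ≫
      (EtDesc.pushSh (g ≫ f)).map ((EtDesc.pullCompSh g f).hom.app F) =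
    (EtDesc.adjSh f).unit.app F ≫ (EtDesc.pushSh f).map ((EtDesc.adjSh g).unit.app _) ≫
      (EtDesc.pushCompSh f g).hom.app _ := by
  have h0 := Adjunction.unit_leftAdjointUniq_hom_app (EtDesc.adjSh (g ≫ f))
    (((EtDesc.adjSh f).comp (EtDesc.adjSh g)).ofNatIsoRight (EtDesc.pushCompSh f g)) F
  refine h0.trans ?_
  rw [unit_ofNatIsoRight_app, Adjunction.comp_unit_app, Category.assoc]
  rfl

set_option backward.isDefEq.respectTransparency.types false in
/-- pullback of global sections is compatible with composition. -/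
lemma secPull_comp (F : EtDesc.Sh Y) (s : EtDesc.sect F (EtCoh.top Y)) :
    ((EtDesc.pullCompSh g f).hom.app F).hom.app (op (EtCoh.top Z)) (EtDesc.secPull (g ≫ f) F s) =
      EtDesc.secPull g ((EtDesc.pullSh f).obj F) (EtDesc.secPull f F s) := by
  let M := (EtDesc.pullSh g).obj ((EtDesc.pullSh f).obj F)
  let x₀ := ((EtDesc.adjSh g).unit.app ((EtDesc.pullSh f).obj F)).hom.app
    (op ((EtCoh.bc f).obj (EtCoh.top Y))) (((EtDesc.adjSh f).unit.app F).hom.app (op (EtCoh.top Y)) s)
  -- left side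
  have l1 : ((EtDesc.pullCompSh g f).hom.app F).hom.app (op (EtCoh.top Z))
      (EtDesc.secPull (g ≫ f) F s) =
      M.obj.map (EtCore.bcTopIso (g ≫ f)).inv.op
        (((EtDesc.pullCompSh g f).hom.app F).hom.app (op ((EtCoh.bc (g ≫ f)).obj (EtCoh.top Y)))
          (((EtDesc.adjSh (g ≫ f)).unit.app F).hom.app (op (EtCoh.top Y)) s)) :=
    NatTrans.naturality_apply ((EtDesc.pullCompSh g f).hom.app F).hom
      (EtCore.bcTopIso (g ≫ f)).inv.op _
  have l2 : ((EtDesc.pullCompSh g f).hom.app F).hom.app (op ((EtCoh.bc (g ≫ f)).obj (EtCoh.top Y)))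
          (((EtDesc.adjSh (g ≫ f)).unit.app F).hom.app (op (EtCoh.top Y)) s) =
      M.obj.map ((MorphismProperty.Over.pullbackComp (P := EtCoh.etaleMP) (Q := ⊤) g f).hom.app
        (EtCoh.top Y)).op x₀ :=
    congrArg (fun m => m.hom.app (op (EtCoh.top Y)) s) (unit_pullCompSh g f F)
  -- right side
  have r1 : EtDesc.secPull g ((EtDesc.pullSh f).obj F) (EtDesc.secPull f F s) =
      M.obj.map (EtCore.bcTopIso g).inv.op
        (M.obj.map ((EtCoh.bc g).map (EtCore.bcTopIso f).inv).op x₀) := by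
    rw [secPull_def, secPull_def]
    congr 1
    exact NatTrans.naturality_apply ((EtDesc.adjSh g).unit.app ((EtDesc.pullSh f).obj F)).hom
      (EtCore.bcTopIso f).inv.op _
  rw [l1, l2, r1]
  have e1 : ∀ {A B D : Z.Etale} (a : A ⟶ B) (b : B ⟶ D) (x : M.obj.obj (op D)),
      M.obj.map a.op (M.obj.map b.op x) = M.obj.map (a ≫ b).op x := by
    intro A B D a b x
    rw [op_comp, Functor.map_comp]
    rfl
  exact (e1 (EtCore.bcTopIso (g ≫ f)).inv
    ((MorphismProperty.Over.pullbackComp (P := EtCoh.etaleMP) (Q := ⊤) g f).hom.app (EtCoh.top Y)) x₀).trans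
    ((map_eq_of_isTerminal M.obj (bcBcTopIsTerminal g f) _ _ x₀).trans
      (e1 (EtCore.bcTopIso g).inv ((EtCoh.bc g).map (EtCore.bcTopIso f).inv) x₀).symm)

set_option backward.isDefEq.respectTransparency.types false in
/-- pullback of global sections is compatible with composition, `pullVia` form. -/
lemma secPull_pullVia (b : Z ⟶ Y) (w : g ≫ f = b) (F : EtDesc.Sh Y)
    (s : EtDesc.sect F (EtCoh.top Y)) :
    (EtDesc.pullVia g f b w F).hom.hom.app (op (EtCoh.top Z))
      (EtDesc.secPull g ((EtDesc.pullSh f).obj F) (EtDesc.secPull f F s)) =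
      EtDesc.secPull b F s := by
  subst w
  rw [← secPull_comp]
  have h1 : (EtDesc.pullVia g f (g ≫ f) rfl F).hom = (EtDesc.pullCompSh g f).inv.app F := by
    simp [EtDesc.pullVia, EtDesc.pullCongrSh]
  rw [h1]
  exact congrArg (fun m => m.hom.app (op (EtCoh.top Z)) (EtDesc.secPull (g ≫ f) F s))
    ((EtDesc.pullCompSh g f).hom_inv_id_app F)

end Comp

section Surj

variable {X Xb : Scheme.{u}} (p : Xb ⟶ X)

lemma map_iso_bijective {Z : Scheme.{u}} (P : Z.Etaleᵒᵖ ⥤ Type (u + 1)) {A B : Z.Etale} (e : A ≅ B) :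
    Function.Bijective (P.map e.hom.op) := by
  have : IsIso (P.map e.hom.op) := inferInstance
  exact (isIso_iff_bijective _).mp this

lemma map_iso_inv_bijective {Z : Scheme.{u}} (P : Z.Etaleᵒᵖ ⥤ Type (u + 1)) {A B : Z.Etale}
    (e : A ≅ B) : Function.Bijective (P.map e.inv.op) := map_iso_bijective P e.symm

set_option backward.isDefEq.respectTransparency.types false in
/-- pullback of global sections along a surjective morphism is injective. -/
lemma secPull_injective_of_surjective [Surjective p] (F : EtDesc.Sh X) :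
    Function.Injective (EtDesc.secPull p F) := by
  haveI := Groth.Agent.Lib.T2H8.PullFaithful.faithful p
  haveI : Mono ((EtDesc.adjSh p).unit.app F) := inferInstance
  intro s t hst
  rw [secPull_def, secPull_def] at hst
  exact injective_app_of_mono ((EtDesc.adjSh p).unit.app F) _
    ((map_iso_inv_bijective ((EtDesc.pullSh p).obj F).obj (EtCore.bcTopIso p)).1 hst)

end Surj

section BC

variable {X Y Xb Yb : Scheme.{u}} (p : Xb ⟶ X) (h : Y ⟶ X) (pY : Yb ⟶ Y) (hb : Yb ⟶ Xb)
  (w : hb ≫ p = pY ≫ h) (Fb : EtDesc.Sh Xb)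

set_option backward.isDefEq.respectTransparency.types false in
/-- the base change map on global sections. -/
lemma baseChange0Sh_secPull (t : EtDesc.sect Fb (EtCoh.top Xb)) :
    (EtBC.baseChange0Sh p h pY hb w Fb).hom.app (op (EtCoh.top Y))
      (EtDesc.secPull h ((EtDesc.pushSh p).obj Fb) (Fb.obj.map (EtCore.bcTopIso p).hom.op t)) =
    ((EtDesc.pullSh hb).obj Fb).obj.map (EtCore.bcTopIso pY).hom.op (EtDesc.secPull hb Fb t) := by
  let M := (EtDesc.pullSh hb).obj Fb
  let σ : Fb.obj.obj (op ((EtCoh.bc p).obj (EtCoh.top X))) :=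
    Fb.obj.map (EtCore.bcTopIso p).hom.op t
  let x₀ := ((EtDesc.adjSh hb).unit.app Fb).hom.app (op (EtCoh.top Xb)) t
  have n1 : (EtBC.baseChange0Sh p h pY hb w Fb).hom.app (op (EtCoh.top Y))
      (EtDesc.secPull h ((EtDesc.pushSh p).obj Fb) σ) =
      M.obj.map ((EtCoh.bc pY).map (EtCore.bcTopIso h).inv).op
        ((EtBC.baseChange0Sh p h pY hb w Fb).hom.app (op ((EtCoh.bc h).obj (EtCoh.top X)))
          (((EtDesc.adjSh h).unit.app ((EtDesc.pushSh p).obj Fb)).hom.app (op (EtCoh.top X)) σ)) :=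
    NatTrans.naturality_apply (EtBC.baseChange0Sh p h pY hb w Fb).hom
      (EtCore.bcTopIso h).inv.op _
  have n2 := Groth.Agent.Lib.T2H8ShBC.baseChange0_unit_apply p h pY hb w Fb (EtCoh.top X) σ
  have n3 : ((EtDesc.adjSh hb).unit.app Fb).hom.app (op ((EtCoh.bc p).obj (EtCoh.top X))) σ =
      M.obj.map ((EtCoh.bc hb).map (EtCore.bcTopIso p).hom).op x₀ :=
    NatTrans.naturality_apply ((EtDesc.adjSh hb).unit.app Fb).hom (EtCore.bcTopIso p).hom.op t
  have e1 : ∀ {A B D : Yb.Etale} (a : A ⟶ B) (b : B ⟶ D) (x : M.obj.obj (op D)),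
      M.obj.map a.op (M.obj.map b.op x) = M.obj.map (a ≫ b).op x := by
    intro A B D a b x
    rw [op_comp, Functor.map_comp]
    rfl
  refine n1.trans ?_
  rw [n2, n3, secPull_def]
  exact (congrArg _ (e1 _ _ x₀)).trans ((e1 _ _ x₀).trans
    ((map_eq_of_isTerminal M.obj (EtCore.bcTopIsTerminal hb) _ _ x₀).trans
      (e1 (EtCore.bcTopIso pY).hom (EtCore.bcTopIso hb).inv x₀).symm))

end BC

section MonoRange

variable {X Y : Scheme.{u}} (h : Y ⟶ X)

set_option backward.isDefEq.respectTransparency.types false in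
/-- if pullback of global sections along `h` is injective for all sheaves, then a section of `h^* F`
whose image in `h^* G` (for a monomorphism `F ⟶ G`) comes from `X` itself comes from `X`. -/
theorem mem_range_secPull_of_mono
    (hinj : ∀ F : EtDesc.Sh X, Function.Injective (EtDesc.secPull h F))
    {F G : EtDesc.Sh X} (a : F ⟶ G) [Mono a]
    (ξ : EtDesc.sect ((EtDesc.pullSh h).obj F) (EtCoh.top Y))
    (hξ : ((EtDesc.pullSh h).map a).hom.app (op (EtCoh.top Y)) ξ ∈
      Set.range (EtDesc.secPull h G)) :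
    ξ ∈ Set.range (EtDesc.secPull h F) := by
  obtain ⟨σ, hσ⟩ := hξ
  let O : EtDesc.Sh X := Om X.smallEtaleTopology
  let χ : G ⟶ O := chi a
  let τ : G ⟶ O := tru G
  have hχτ : a ≫ χ = a ≫ τ := comp_chi a
  have h1 : EtDesc.secPull h O (χ.hom.app (op (EtCoh.top X)) σ) =
      EtDesc.secPull h O (τ.hom.app (op (EtCoh.top X)) σ) := by
    rw [← secPull_naturality, ← secPull_naturality, hσ]
    have e1 : ∀ b : G ⟶ O, ((EtDesc.pullSh h).map b).hom.app (op (EtCoh.top Y))
        (((EtDesc.pullSh h).map a).hom.app (op (EtCoh.top Y)) ξ) =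
        ((EtDesc.pullSh h).map (a ≫ b)).hom.app (op (EtCoh.top Y)) ξ := by
      intro b
      rw [Functor.map_comp]
      rfl
    rw [e1, e1, hχτ]
  have h2 := hinj O h1
  obtain ⟨t, ht⟩ := (chi_eq_tru_iff a σ).mp h2
  refine ⟨t, ?_⟩
  haveI := mono_pull_map h a
  apply injective_app_of_mono ((EtDesc.pullSh h).map a) (op (EtCoh.top Y))
  rw [secPull_naturality, ht, hσ]

end MonoRange

section Extra

lemma map_hom_inv_apply {Z : Scheme.{u}} (P : Z.Etaleᵒᵖ ⥤ Type (u + 1)) {A B : Z.Etale} (e : A ≅ B)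
    (x : P.obj (op A)) : P.map e.hom.op (P.map e.inv.op x) = x := by
  have h : P.map e.inv.op ≫ P.map e.hom.op = 𝟙 _ := by
    rw [← Functor.map_comp, ← op_comp, e.hom_inv_id, op_id]
    exact P.map_id _
  exact congrArg (fun m => (ConcreteCategory.hom m) x) h

lemma map_inv_hom_apply {Z : Scheme.{u}} (P : Z.Etaleᵒᵖ ⥤ Type (u + 1)) {A B : Z.Etale} (e : A ≅ B)
    (x : P.obj (op B)) : P.map e.inv.op (P.map e.hom.op x) = x :=
  map_hom_inv_apply P e.symm x

end Extra

end Groth.Agent.Lib.T2H8SecPull
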