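import Mathlib
import Groth.Prelude.Def_SGA4b
import Groth.Agent.Lib.T2H8ShStalkB
import Groth.Agent.Lib.T2H8ShBC
import Groth.Agent.Lib.T2H8PullFaithful
import Groth.Agent.Lib.T2H8SecPull

set_option autoImplicit false
universe u
open CategoryTheory CategoryTheory.Limits AlgebraicGeometry Opposite

namespace Groth.Agent.Lib.T2H8Agree

open Groth.Agent.Lib.T2H8ShStalkA Groth.Agent.Lib.Helper16.SmallEtale
open Groth.Agent.Lib.T2H8StalkFiniteCore Groth.Agent.Lib.T2H8FiniteBC Groth.Agent.S0100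

section Basic

variable {Z : Scheme.{u}}

set_option backward.isDefEq.respectTransparency.types false in
/-- the agreement locus of two sections of a sheaf of sets over an etale scheme. -/
def agree (G : EtDesc.Sh Z) {V : Z.Etale} (a b : G.obj.obj (op V)) : Set V.left :=
  {v | ∃ (W : Z.Etale) (g : W ⟶ V) (w : W.left), g.left w = v ∧
    G.obj.map g.op a = G.obj.map g.op b}

set_option backward.isDefEq.respectTransparency.types false in
lemma isOpen_agree (G : EtDesc.Sh Z) {V : Z.Etale} (a b : G.obj.obj (op V)) :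
    IsOpen (agree G a b) := by
  rw [isOpen_iff_forall_mem_open]
  rintro v ⟨W, g, w, rfl, h⟩
  haveI : Etale g.left := inferInstanceAs (Etale g.left)
  refine ⟨Set.range g.left, ?_, g.left.isOpenMap.isOpen_range, ⟨w, rfl⟩⟩
  rintro _ ⟨w', rfl⟩
  exact ⟨W, g, w', rfl, h⟩

set_option backward.isDefEq.respectTransparency.types false in
lemma eq_of_agree_eq_univ (G : EtDesc.Sh Z) {V : Z.Etale} (a b : G.obj.obj (op V))
    (h : ∀ v : V.left, v ∈ agree G a b) : a = b := by
  apply Groth.Agent.Lib.T2H8.PullFaithful.eq_of_locally_eq G a b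
  intro x
  obtain ⟨W, g, w, hw, hg⟩ := h x
  exact ⟨W, g, ⟨w, hw⟩, hg⟩

variable {Ω : Type u} [Field Ω] [IsSepClosed Ω]

set_option backward.isDefEq.respectTransparency.types false in
/-- germ criterion for the agreement locus. -/
lemma mem_agree_iff_germ (G : EtDesc.Sh Z) {V : Z.Etale} (a b : G.obj.obj (op V))
    (ξ : Spec (CommRingCat.of Ω) ⟶ Z) (x₀ : (Scheme.pointSmallEtale ξ).fiber.obj V) :
    (x₀.left : Spec (CommRingCat.of Ω) ⟶ V.left) (default : Spec (CommRingCat.of Ω)) ∈ agree G a b ↔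
      (Scheme.pointSmallEtale ξ).toPresheafFiber V x₀ G.obj a =
        (Scheme.pointSmallEtale ξ).toPresheafFiber V x₀ G.obj b := by
  let Φ := Scheme.pointSmallEtale ξ
  constructor
  · rintro ⟨W, g, w₀, hw₀, hg⟩
    haveI : Etale g.left := inferInstanceAs (Etale g.left)
    obtain ⟨l, hl₁, hl₂⟩ := Scheme.exists_fac_of_etale_of_isSepClosed g.left x₀.left w₀ hw₀
    have hlW : l ≫ W.hom = ξ := by
      have e1 : g.left ≫ V.hom = W.hom := MorphismProperty.Over.w g
      rw [← e1, ← Category.assoc, hl₁]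
      exact Over.w x₀
    let w : Φ.fiber.obj W := Over.homMk l hlW
    have hw : Φ.fiber.map g w = x₀ := by
      apply Over.OverMorphism.ext
      exact hl₁
    have e1 := Φ.toPresheafFiber_w_apply g w G.obj a
    have e2 := Φ.toPresheafFiber_w_apply g w G.obj b
    rw [hw] at e1 e2
    rw [← e1, ← e2, hg]
  · intro h
    obtain ⟨W, g, w, hw, hg⟩ := (Φ.toPresheafFiber_eq_iff' (P := G.obj) V x₀ a b).mp h
    refine ⟨W, g, (w.left : Spec (CommRingCat.of Ω) ⟶ W.left) (default : Spec (CommRingCat.of Ω)),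
      ?_, hg⟩
    have e3 : w.left ≫ g.left = x₀.left := congrArg (fun m => m.left) hw
    rw [← e3]
    rfl

end Basic

section Funct

variable {Z : Scheme.{u}}

set_option backward.isDefEq.respectTransparency.types false in
/-- the agreement locus is compatible with restriction. -/
lemma mem_agree_map_iff (G : EtDesc.Sh Z) {V₁ V : Z.Etale} (h : V₁ ⟶ V) (a b : G.obj.obj (op V))
    (v₁ : V₁.left) :
    v₁ ∈ agree G (G.obj.map h.op a) (G.obj.map h.op b) ↔ h.left v₁ ∈ agree G a b := by
  obtain ⟨Ω, _, _, ξ, x₁, hx₁⟩ := Groth.Agent.Lib.T2H8StalkAlgClosed.exists_geometric_point V₁ v₁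
  subst hx₁
  let Φ := Scheme.pointSmallEtale ξ
  have e1 := Φ.toPresheafFiber_w_apply h x₁ G.obj a
  have e2 := Φ.toPresheafFiber_w_apply h x₁ G.obj b
  have k1 := mem_agree_iff_germ G (G.obj.map h.op a) (G.obj.map h.op b) ξ x₁
  have k2 := mem_agree_iff_germ G a b ξ (Φ.fiber.map h x₁)
  refine k1.trans (Iff.trans ?_ k2.symm)
  rw [e1, e2]

set_option backward.isDefEq.respectTransparency.types false in
/-- a morphism of sheaves preserves agreement. -/
lemma agree_subset_of_hom {G G' : EtDesc.Sh Z} (φ : G ⟶ G') {V : Z.Etale} (a b : G.obj.obj (op V)) :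
    agree G a b ⊆ agree G' (φ.hom.app (op V) a) (φ.hom.app (op V) b) := by
  rintro v ⟨W, g, w, hw, hg⟩
  refine ⟨W, g, w, hw, ?_⟩
  have n1 := NatTrans.naturality_apply φ.hom g.op a
  have n2 := NatTrans.naturality_apply φ.hom g.op b
  rw [← n1, ← n2, hg]

set_option backward.isDefEq.respectTransparency.types false in
/-- an isomorphism of sheaves preserves agreement loci. -/
lemma agree_eq_of_iso {G G' : EtDesc.Sh Z} (φ : G ≅ G') {V : Z.Etale} (a b : G.obj.obj (op V)) :
    agree G' (φ.hom.hom.app (op V) a) (φ.hom.hom.app (op V) b) = agree G a b := by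
  apply Set.Subset.antisymm
  · intro v hv
    have := agree_subset_of_hom φ.inv _ _ hv
    have e : ∀ x : G.obj.obj (op V), φ.inv.hom.app (op V) (φ.hom.hom.app (op V) x) = x := by
      intro x
      have := congrArg (fun m => m.hom.app (op V) x) φ.hom_inv_id
      exact this
    rwa [e, e] at this
  · exact agree_subset_of_hom φ.hom a b

end Funct

section Pull

variable {Z' Z : Scheme.{u}} (p : Z' ⟶ Z)

set_option backward.isDefEq.respectTransparency.types false in
/-- agreement loci and inverse images. -/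
lemma mem_agree_pull_iff (G : EtDesc.Sh Z) {V : Z.Etale} (a b : G.obj.obj (op V))
    (v' : ((EtCoh.bc p).obj V).left) :
    v' ∈ agree ((EtDesc.pullSh p).obj G) (((EtDesc.adjSh p).unit.app G).hom.app (op V) a)
        (((EtDesc.adjSh p).unit.app G).hom.app (op V) b) ↔
      (pullback.fst V.hom p) v' ∈ agree G a b := by
  obtain ⟨Ω, _, _, ξ', x₀', hx₀'⟩ :=
    Groth.Agent.Lib.T2H8StalkAlgClosed.exists_geometric_point ((EtCoh.bc p).obj V) v'
  let u : (Scheme.pointSmallEtale (ξ' ≫ p)).fiber.obj V := (fiberIso p ξ').hom.app V x₀'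
  have hu : u.left = x₀'.left ≫ pullback.fst V.hom p := fiberIso_hom_left p ξ' V x₀'
  have hlift : liftPt p ξ' (ξ' ≫ p) rfl V u = x₀' := by
    apply Over.OverMorphism.ext
    apply pullback.hom_ext
    · exact (liftPt_left_fst p ξ' (ξ' ≫ p) rfl V u).trans hu
    · exact (liftPt_left_snd p ξ' (ξ' ≫ p) rfl V u).trans (Over.w x₀').symm
  subst hx₀'
  have g1 := Groth.Agent.Lib.T2H8ShBC.stalkPull_germ p ξ' G V u a
  have g2 := Groth.Agent.Lib.T2H8ShBC.stalkPull_germ p ξ' G V u b
  rw [hlift] at g1 g2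
  have k1 := mem_agree_iff_germ ((EtDesc.pullSh p).obj G)
    (((EtDesc.adjSh p).unit.app G).hom.app (op V) a)
    (((EtDesc.adjSh p).unit.app G).hom.app (op V) b) ξ' x₀'
  have k2 := mem_agree_iff_germ G a b (ξ' ≫ p) u
  have hinj : Function.Injective ((stalkPullIso p ξ').hom.app G) := by
    have : IsIso ((stalkPullIso p ξ').hom.app G) := inferInstance
    exact ((isIso_iff_bijective _).mp this).1
  have hpt : (u.left : Spec (CommRingCat.of Ω) ⟶ V.left) (default : Spec (CommRingCat.of Ω)) =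
      (pullback.fst V.hom p) ((x₀'.left : Spec (CommRingCat.of Ω) ⟶ ((EtCoh.bc p).obj V).left)
        (default : Spec (CommRingCat.of Ω))) := by
    rw [hu]
    rfl
  rw [← hpt]
  refine k1.trans (Iff.trans ?_ k2.symm)
  rw [← g1, ← g2]
  exact ⟨fun h => hinj h, fun h => by rw [h]⟩

end Pull

section Comp

open Groth.Agent.Lib.T2H8SecPull

variable {Y X' X : Scheme.{u}} (g : Y ⟶ X') (f : X' ⟶ X)

set_option backward.isDefEq.respectTransparency.types false in
/-- the comparison map `U ×_X Y ⟶ U ×_X X'`. -/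
noncomputable def qmap (b : Y ⟶ X) (w : g ≫ f = b) (U : X.Etale) :
    ((EtCoh.bc b).obj U).left ⟶ ((EtCoh.bc f).obj U).left :=
  pullback.lift (pullback.fst U.hom b) (pullback.snd U.hom b ≫ g)
    (pullback.condition.trans ((congrArg (pullback.snd U.hom b ≫ ·) w.symm).trans
      (Category.assoc _ _ _).symm))

set_option backward.isDefEq.respectTransparency.types false in
lemma qmap_fst (b : Y ⟶ X) (w : g ≫ f = b) (U : X.Etale) :
    qmap g f b w U ≫ pullback.fst U.hom f = pullback.fst U.hom b := pullback.lift_fst _ _ _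

set_option backward.isDefEq.respectTransparency.types false in
lemma qmap_snd (b : Y ⟶ X) (w : g ≫ f = b) (U : X.Etale) :
    qmap g f b w U ≫ pullback.snd U.hom f = pullback.snd U.hom b ≫ g := pullback.lift_snd _ _ _

set_option backward.isDefEq.respectTransparency.types false in
lemma pullbackComp_left_fst (U : X.Etale) :
    ((MorphismProperty.Over.pullbackComp (P := EtCoh.etaleMP) (Q := ⊤) g f).hom.app U).left ≫
      pullback.fst ((EtCoh.bc f).obj U).hom g = qmap g f (g ≫ f) rfl U := by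
  let ι := (MorphismProperty.Over.pullbackComp (P := EtCoh.etaleMP) (Q := ⊤) g f).hom.app U
  have h1 : ι.left ≫ pullback.fst ((EtCoh.bc f).obj U).hom g ≫ pullback.fst U.hom f =
      pullback.fst U.hom (g ≫ f) :=
    MorphismProperty.Over.pullbackComp_left_fst_fst (P := EtCoh.etaleMP) (Q := ⊤) g f U
  have e1 : pullback.fst ((EtCoh.bc f).obj U).hom g ≫ pullback.snd U.hom f =
      pullback.snd ((EtCoh.bc f).obj U).hom g ≫ g := pullback.condition
  have hw : ι.left ≫ pullback.snd ((EtCoh.bc f).obj U).hom g = pullback.snd U.hom (g ≫ f) :=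
    MorphismProperty.Over.w ι
  apply pullback.hom_ext
  · exact (Category.assoc _ _ _).trans (h1.trans (qmap_fst g f (g ≫ f) rfl U).symm)
  · exact (Category.assoc _ _ _).trans ((ι.left ≫= e1).trans ((Category.assoc _ _ _).symm.trans
      ((hw =≫ g).trans (qmap_snd g f (g ≫ f) rfl U).symm)))

set_option backward.isDefEq.respectTransparency.types false in
/-- the agreement locus of a pulled back section with a section coming from `X'`, after a further
pullback along `g`. -/
theorem mem_agree_comp_iff (b : Y ⟶ X) (w : g ≫ f = b) (F : EtDesc.Sh X) (U : X.Etale)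
    (t : F.obj.obj (op U)) (s' : EtDesc.sect ((EtDesc.pullSh f).obj F) (EtCoh.top X'))
    (r : (EtCoh.bc b).obj U ⟶ EtCoh.top Y) (r' : (EtCoh.bc f).obj U ⟶ EtCoh.top X')
    (y : ((EtCoh.bc b).obj U).left) :
    y ∈ agree ((EtDesc.pullSh b).obj F) (((EtDesc.adjSh b).unit.app F).hom.app (op U) t)
        (((EtDesc.pullSh b).obj F).obj.map r.op
          ((EtDesc.pullVia g f b w F).hom.hom.app (op (EtCoh.top Y))
            (EtDesc.secPull g ((EtDesc.pullSh f).obj F) s'))) ↔
      (qmap g f b w U) y ∈ agree ((EtDesc.pullSh f).obj F)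
        (((EtDesc.adjSh f).unit.app F).hom.app (op U) t)
        (((EtDesc.pullSh f).obj F).obj.map r'.op s') := by
  subst w
  let F' := (EtDesc.pullSh f).obj F
  let M := (EtDesc.pullSh g).obj F'
  let Φ : (EtDesc.pullSh (g ≫ f)).obj F ≅ M := (EtDesc.pullCompSh g f).app F
  let ι := (MorphismProperty.Over.pullbackComp (P := EtCoh.etaleMP) (Q := ⊤) g f).hom.app U
  let a := ((EtDesc.adjSh f).unit.app F).hom.app (op U) t
  let b' := F'.obj.map r'.op s'
  let A := ((EtDesc.adjSh (g ≫ f)).unit.app F).hom.app (op U) t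
  let σ := EtDesc.secPull g F' s'
  let B := ((EtDesc.pullSh (g ≫ f)).obj F).obj.map r.op
          ((EtDesc.pullVia g f (g ≫ f) rfl F).hom.hom.app (op (EtCoh.top Y)) σ)
  have h1 : (EtDesc.pullVia g f (g ≫ f) rfl F).hom = (EtDesc.pullCompSh g f).inv.app F := by
    simp [EtDesc.pullVia, EtDesc.pullCongrSh]
  -- `Φ A`
  have hA : Φ.hom.hom.app (op ((EtCoh.bc (g ≫ f)).obj U)) A =
      M.obj.map ι.op (((EtDesc.adjSh g).unit.app F').hom.app (op ((EtCoh.bc f).obj U)) a) :=
    congrArg (fun m => m.hom.app (op U) t) (unit_pullCompSh g f F)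
  -- `Φ B`
  have e1 : ∀ {P Q D : Y.Etale} (c : P ⟶ Q) (d : Q ⟶ D) (x : M.obj.obj (op D)),
      M.obj.map c.op (M.obj.map d.op x) = M.obj.map (c ≫ d).op x := by
    intro P Q D c d x
    rw [op_comp, Functor.map_comp]
    rfl
  have hB : Φ.hom.hom.app (op ((EtCoh.bc (g ≫ f)).obj U)) B =
      M.obj.map ι.op (((EtDesc.adjSh g).unit.app F').hom.app (op ((EtCoh.bc f).obj U)) b') := by
    have n1 : Φ.hom.hom.app (op ((EtCoh.bc (g ≫ f)).obj U)) B =
        M.obj.map r.op (Φ.hom.hom.app (op (EtCoh.top Y))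
          ((EtDesc.pullVia g f (g ≫ f) rfl F).hom.hom.app (op (EtCoh.top Y)) σ)) :=
      NatTrans.naturality_apply Φ.hom.hom r.op _
    have n2 : Φ.hom.hom.app (op (EtCoh.top Y))
          ((EtDesc.pullVia g f (g ≫ f) rfl F).hom.hom.app (op (EtCoh.top Y)) σ) = σ := by
      rw [h1]
      exact congrArg (fun m => m.hom.app (op (EtCoh.top Y)) σ)
        ((EtDesc.pullCompSh g f).inv_hom_id_app F)
    have n3 : ((EtDesc.adjSh g).unit.app F').hom.app (op ((EtCoh.bc f).obj U)) b' =
        M.obj.map ((EtCoh.bc g).map r').op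
          (((EtDesc.adjSh g).unit.app F').hom.app (op (EtCoh.top X')) s') :=
      NatTrans.naturality_apply ((EtDesc.adjSh g).unit.app F').hom r'.op s'
    have hσ : σ = M.obj.map (EtCore.bcTopIso g).inv.op
        (((EtDesc.adjSh g).unit.app F').hom.app (op (EtCoh.top X')) s') := rfl
    rw [n1, n2, n3, hσ]
    exact (e1 _ _ _).trans ((map_eq_of_isTerminal M.obj (EtCore.bcTopIsTerminal g) _ _ _).trans
      (e1 _ _ _).symm)
  have k0 := agree_eq_of_iso Φ A B
  have k1 : y ∈ agree ((EtDesc.pullSh (g ≫ f)).obj F) A B ↔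
      y ∈ agree M (Φ.hom.hom.app (op ((EtCoh.bc (g ≫ f)).obj U)) A)
        (Φ.hom.hom.app (op ((EtCoh.bc (g ≫ f)).obj U)) B) := by
    rw [k0]
  refine k1.trans ?_
  rw [hA, hB]
  refine (mem_agree_map_iff M ι _ _ y).trans ?_
  refine (mem_agree_pull_iff g F' a b' (ι.left y)).trans ?_
  have hq : (pullback.fst ((EtCoh.bc f).obj U).hom g) (ι.left y) = (qmap g f (g ≫ f) rfl U) y := by
    rw [← pullbackComp_left_fst g f U]
    rfl
  rw [hq]

/-- the section of `b^* F` over `Y` defined by a section of `f^* F` over `X'` (`g ≫ f = b`). -/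
noncomputable def gam (b : Y ⟶ X) (w : g ≫ f = b) (F : EtDesc.Sh X)
    (s' : EtDesc.sect ((EtDesc.pullSh f).obj F) (EtCoh.top X')) :
    EtDesc.sect ((EtDesc.pullSh b).obj F) (EtCoh.top Y) :=
  (EtDesc.pullVia g f b w F).hom.hom.app (op (EtCoh.top Y))
    (EtDesc.secPull g ((EtDesc.pullSh f).obj F) s')

set_option backward.isDefEq.respectTransparency.types false in
/-- variant of `mem_agree_comp_iff` in terms of `gam`. -/
theorem mem_agree_gam_iff (b : Y ⟶ X) (w : g ≫ f = b) (F : EtDesc.Sh X) (U : X.Etale)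
    (t : F.obj.obj (op U)) (s' : EtDesc.sect ((EtDesc.pullSh f).obj F) (EtCoh.top X'))
    (r : (EtCoh.bc b).obj U ⟶ EtCoh.top Y) (r' : (EtCoh.bc f).obj U ⟶ EtCoh.top X')
    (y : ((EtCoh.bc b).obj U).left) :
    y ∈ agree ((EtDesc.pullSh b).obj F) (((EtDesc.adjSh b).unit.app F).hom.app (op U) t)
        (((EtDesc.pullSh b).obj F).obj.map r.op (gam g f b w F s')) ↔
      (qmap g f b w U) y ∈ agree ((EtDesc.pullSh f).obj F)
        (((EtDesc.adjSh f).unit.app F).hom.app (op U) t)
        (((EtDesc.pullSh f).obj F).obj.map r'.op s') :=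
  mem_agree_comp_iff g f b w F U t s' r r' y

end Comp

end Groth.Agent.Lib.T2H8Agree
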