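import Mathlib
import Groth.Prelude.Def_Smoothing
import Groth.Prelude.Def_Found
import Groth.Agent.Lib.Helper6HomBC
import Groth.Agent.Lib.Helper7QFFF

/-!
# Auxiliary lemmas for the reduction of Popescu's theorem to the field case (helper for S0595)
-/

set_option autoImplicit false
universe u

namespace Groth.Agent.Lib.T2H8.PopAux

open TensorProduct

/-- For a minimal prime of a reduced ring the residue field is the localization. -/
theorem isLocalization_residueField {R : Type u} [CommRing R] [IsReduced R] (𝔭 : Ideal R)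
    [𝔭.IsPrime] (h𝔭 : 𝔭 ∈ minimalPrimes R) : IsLocalization.AtPrime 𝔭.ResidueField 𝔭 := by
  haveI : Ring.KrullDimLE 0 (Localization.AtPrime 𝔭) := .of_isLocalization _ h𝔭 _
  have hF : IsField (Localization.AtPrime 𝔭) := Ring.KrullDimLE.isField_of_isReduced
  have hbot : IsLocalRing.maximalIdeal (Localization.AtPrime 𝔭) = ⊥ :=
    IsLocalRing.isField_iff_maximalIdeal_eq.mp hF
  have hbij : Function.Bijective (algebraMap (Localization.AtPrime 𝔭) 𝔭.ResidueField) := by
    refine ⟨?_, IsLocalRing.residue_surjective⟩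
    rw [RingHom.injective_iff_ker_eq_bot]
    show RingHom.ker (IsLocalRing.residue (Localization.AtPrime 𝔭)) = ⊥
    rw [IsLocalRing.ker_residue, hbot]
  let e : Localization.AtPrime 𝔭 ≃ₐ[R] 𝔭.ResidueField :=
    AlgEquiv.ofBijective (IsScalarTower.toAlgHom R (Localization.AtPrime 𝔭) 𝔭.ResidueField) hbij
  exact IsLocalization.isLocalization_of_algEquiv 𝔭.primeCompl e

/-- Annihilator condition passes to flat algebras. -/
theorem ann_flat {R Λ : Type u} [CommRing R] [CommRing Λ] [Algebra R Λ] [Module.Flat R Λ] (π : R)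
    (hR : ∀ r : R, π ^ 2 * r = 0 → π * r = 0) : ∀ x : Λ, π ^ 2 • x = 0 → π • x = 0 := by
  intro x hx
  let g : R →ₗ[R] R := LinearMap.lsmul R R (π ^ 2)
  have hex : Function.Exact (LinearMap.ker g).subtype g := LinearMap.exact_subtype_ker_map g
  have hex2 := Module.Flat.lTensor_exact Λ hex
  have h1 : (g.lTensor Λ) (x ⊗ₜ[R] (1 : R)) = 0 := by
    rw [LinearMap.lTensor_tmul]
    show x ⊗ₜ[R] (π ^ 2 • (1 : R)) = 0
    rw [TensorProduct.tmul_smul, TensorProduct.smul_tmul', hx, TensorProduct.zero_tmul]
  obtain ⟨y, hy⟩ := (hex2 _).mp h1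
  have h2 : x = TensorProduct.rid R Λ (((LinearMap.ker g).subtype.lTensor Λ) y) := by
    rw [hy, TensorProduct.rid_tmul, one_smul]
  have key : ∀ y : Λ ⊗[R] (LinearMap.ker g),
      π • TensorProduct.rid R Λ (((LinearMap.ker g).subtype.lTensor Λ) y) = 0 := by
    intro y
    induction y using TensorProduct.induction_on with
    | zero => rw [map_zero, map_zero, smul_zero]
    | tmul l n =>
      rw [LinearMap.lTensor_tmul, TensorProduct.rid_tmul, smul_smul]
      have h3 : π ^ 2 * (n : R) = 0 := LinearMap.mem_ker.mp n.2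
      show (π * (n : R)) • l = 0
      rw [hR _ h3, zero_smul]
    | add y₁ y₂ h₁ h₂ => rw [map_add, map_add, smul_add, h₁, h₂, add_zero]
  rw [h2]
  exact key y

/-- quotient base change of a regular homomorphism -/
theorem isRegularHom_quotient {R Λ : Type u} [CommRing R] [IsNoetherianRing R] [CommRing Λ]
    [IsNoetherianRing Λ] [Algebra R Λ] (h : CAlg.IsRegularHom R Λ) (J : Ideal R) :
    CAlg.IsRegularHom (R ⧸ J) (Λ ⧸ J.map (algebraMap R Λ)) :=
  Groth.Agent.Lib.Helper7.QFFF.isRegularHom_of_algEquiv
    (Algebra.TensorProduct.quotIdealMapEquivQuotTensor Λ J).symm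
    (Groth.Agent.Lib.Helper6.HomBC.regularHom_baseChange R Λ (R ⧸ J) (Or.inr inferInstance) h)

/-- an algebra with an elementary standard element is finitely presented -/
theorem finitePresentation_of_markedPresentation {R B : Type u} [CommRing R] [CommRing B]
    [Algebra R B] (P : Smoothing.MarkedPresentation R B) : Algebra.FinitePresentation R B := by
  refine Algebra.FinitePresentation.of_surjective P.surj ?_
  rw [P.ker_eq]
  exact Submodule.fg_span (Set.finite_range _)

theorem isStrictlyStandard_of_isElementaryStandard {R B : Type u} [CommRing R] [CommRing B]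
    [Algebra R B] (b : B) (h : Smoothing.IsElementaryStandard R B b) :
    Smoothing.IsStrictlyStandard R B b := by
  obtain ⟨P, ⟨a', ha'⟩, hk⟩ := h
  refine ⟨P, ?_, hk⟩
  rw [ha']
  exact Ideal.mul_mem_left _ a' (Ideal.subset_span ⟨Fin.castLE P.hcn, rfl⟩)

/-- a finitely presented algebra with unit singular ideal is smooth -/
theorem smooth_of_singularIdeal_eq_top {R B : Type u} [CommRing R] [CommRing B] [Algebra R B]
    [Algebra.FinitePresentation R B] (h : Smoothing.singularIdeal R B = ⊤) :
    Algebra.Smooth R B := by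
  refine ⟨?_, inferInstance⟩
  rw [← Algebra.smoothLocus_eq_univ_iff]
  by_contra hne
  obtain ⟨Q, hQ⟩ : ∃ Q, Q ∉ Algebra.smoothLocus R B := by
    by_contra hcon
    exact hne (Set.eq_univ_of_forall fun Q => by_contra fun hQ => hcon ⟨Q, hQ⟩)
  have h1 : (1 : B) ∈ Smoothing.singularIdeal R B := by rw [h]; trivial
  unfold Smoothing.singularIdeal at h1
  rw [PrimeSpectrum.mem_vanishingIdeal] at h1
  exact Q.2.ne_top ((Ideal.eq_top_iff_one _).mpr (h1 Q hQ))

theorem singularIdeal_eq_top_of_smooth {R B : Type u} [CommRing R] [CommRing B] [Algebra R B]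
    [Algebra.Smooth R B] : Smoothing.singularIdeal R B = ⊤ := by
  unfold Smoothing.singularIdeal
  rw [Algebra.smoothLocus_eq_univ, Set.compl_univ, PrimeSpectrum.vanishingIdeal_empty]

/-- an algebra over the zero ring is smooth -/
theorem smooth_of_subsingleton {R A : Type u} [CommRing R] [CommRing A] [Algebra R A]
    [Subsingleton R] : Algebra.Smooth R A := by
  haveI : Subsingleton A := by
    refine subsingleton_of_zero_eq_one ?_
    rw [← map_one (algebraMap R A), ← map_zero (algebraMap R A)]
    exact congrArg _ (Subsingleton.elim _ _)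
  let e : R ≃ₐ[R] A := AlgEquiv.ofBijective (Algebra.ofId R A)
    ⟨fun _ _ _ => Subsingleton.elim _ _, fun y => ⟨0, Subsingleton.elim _ _⟩⟩
  exact Algebra.Smooth.of_equiv e

end Groth.Agent.Lib.T2H8.PopAux
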