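import Mathlib
import Groth.Agent.Lib.Helper6FSReg
import Groth.Agent.Lib.Helper7RegHomField

/-!
# Field extensions of a perfect field are geometrically reduced (helper for S0595)
-/

set_option autoImplicit false
universe u

namespace Groth.Agent.Lib.T2H8.PopChar0

open TensorProduct

theorem isGeometricallyReduced_of_essFiniteType (k L : Type u) [Field k] [Field L] [Algebra k L]
    [PerfectField k] [Algebra.EssFiniteType k L] : Algebra.IsGeometricallyReduced k L := by
  rw [Algebra.isGeometricallyReduced_field_iff]
  haveI : Algebra.FormallySmooth k L := inferInstance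
  haveI : Algebra.FormallySmooth (AlgebraicClosure k) (AlgebraicClosure k ⊗[k] L) := inferInstance
  haveI : Algebra.EssFiniteType (AlgebraicClosure k) (AlgebraicClosure k ⊗[k] L) := inferInstance
  haveI : IsNoetherianRing (AlgebraicClosure k ⊗[k] L) :=
    Algebra.EssFiniteType.isNoetherianRing (AlgebraicClosure k) _
  haveI : IsRegularRing (AlgebraicClosure k ⊗[k] L) :=
    Groth.Agent.Lib.Helper6.FSReg.isRegularRing_of_formallySmooth (AlgebraicClosure k) _
  exact Groth.Agent.Lib.Helper7.RegHomField.isReduced_of_isRegularRing _

theorem isGeometricallyReduced_of_perfectField (k K : Type u) [Field k] [Field K] [Algebra k K]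
    [PerfectField k] : Algebra.IsGeometricallyReduced k K := by
  apply Algebra.IsGeometricallyReduced.of_forall_fg
  intro B hB
  obtain ⟨s, hs⟩ := hB
  let L : IntermediateField k K := IntermediateField.adjoin k (s : Set K)
  haveI : Algebra.EssFiniteType k L := IntermediateField.essFiniteType_iff.mpr ⟨s, rfl⟩
  haveI := isGeometricallyReduced_of_essFiniteType k L
  have hBL : B ≤ L.toSubalgebra := by
    rw [← hs]
    exact IntermediateField.algebra_adjoin_le_adjoin k _
  exact Algebra.IsGeometricallyReduced.of_injective (Subalgebra.inclusion hBL)
    (Subalgebra.inclusion_injective hBL)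

end Groth.Agent.Lib.T2H8.PopChar0
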