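import Groth.Prelude.Def_Smoothing
import Mathlib

/-!
Helper library for S2033 (`Smoothing.delocalize_weak`): homogenization of relations, the retract
argument showing smoothness at the distinguished prime, and the main theorem.
-/

set_option autoImplicit false
universe u

namespace Groth.Agent.Lib.T2H8.DelocA

open MvPolynomial

/-- a retract of a formally smooth algebra is formally smooth -/
theorem formallySmooth_of_retract {R D E : Type u} [CommRing R] [CommRing D] [CommRing E]
    [Algebra R D] [Algebra R E] (ι : D →ₐ[R] E) (ρ : E →ₐ[R] D)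
    (h : ρ.comp ι = AlgHom.id R D) [Algebra.FormallySmooth R E] :
    Algebra.FormallySmooth R D := by
  refine Algebra.FormallySmooth.of_comp_surjective fun T _ _ I hI f => ?_
  obtain ⟨g, hg⟩ := Algebra.FormallySmooth.comp_surjective R E I hI (f.comp ρ)
  refine ⟨g.comp ι, ?_⟩
  rw [← AlgHom.comp_assoc, hg, AlgHom.comp_assoc, h, AlgHom.comp_id]

section Homog

variable {A : Type*} [CommRing A] {σ : Type*}

/-- homogenization of `f` in degree `N` with the new variable `none` -/
noncomputable def homog (N : ℕ) (f : MvPolynomial σ A) : MvPolynomial (Option σ) A :=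
  ∑ α ∈ f.support, monomial (α.embDomain Function.Embedding.some +
    Finsupp.single none (N - α.sum fun _ e => e)) (coeff α f)

variable {D : Type*} [CommRing D] [Algebra A D]

theorem aeval_homog (N : ℕ) (f : MvPolynomial σ A) (d : σ → D) (u : D) :
    aeval (fun o : Option σ => Option.elim o u d) (homog N f) =
      ∑ α ∈ f.support, algebraMap A D (coeff α f) *
        ((∏ i ∈ α.support, d i ^ α i) * u ^ (N - α.sum fun _ e => e)) := by
  classical
  unfold homog
  rw [map_sum]
  refine Finset.sum_congr rfl fun α _ => ?_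
  rw [aeval_monomial]
  congr 1
  rw [Finsupp.prod_add_index' (fun _ => pow_zero _) (fun _ _ _ => pow_add _ _ _),
    Finsupp.prod_embDomain]
  congr 1
  exact Finsupp.prod_single_index (pow_zero _)

theorem aeval_eq_sum (f : MvPolynomial σ A) (d : σ → D) :
    aeval d f = ∑ α ∈ f.support, algebraMap A D (coeff α f) * ∏ i ∈ α.support, d i ^ α i := by
  rw [aeval_def, eval₂_eq]

/-- `F(d u, u) = u ^ N f(d)` -/
theorem aeval_homog_mul (N : ℕ) (f : MvPolynomial σ A) (hN : f.totalDegree ≤ N) (d : σ → D)
    (u : D) :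
    aeval (fun o : Option σ => Option.elim o u (fun i => d i * u)) (homog N f) =
      u ^ N * aeval d f := by
  rw [aeval_homog, aeval_eq_sum, Finset.mul_sum]
  refine Finset.sum_congr rfl fun α hα => ?_
  have hle : (α.sum fun _ e => e) ≤ N := (le_totalDegree hα).trans hN
  have h1 : ∏ i ∈ α.support, (d i * u) ^ α i =
      (∏ i ∈ α.support, d i ^ α i) * u ^ (α.sum fun _ e => e) := by
    simp_rw [mul_pow]
    rw [Finset.prod_mul_distrib, Finset.prod_pow_eq_pow_sum]
    rfl
  rw [h1]
  have h2 : u ^ N = u ^ (α.sum fun _ e => e) * u ^ (N - α.sum fun _ e => e) := by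
    rw [← pow_add, Nat.add_sub_cancel' hle]
  rw [h2]
  ring

/-- homogeneity -/
theorem aeval_homog_smul (N : ℕ) (f : MvPolynomial σ A) (hN : f.totalDegree ≤ N) (d : σ → D)
    (u t : D) :
    aeval (fun o : Option σ => Option.elim o (t * u) (fun i => t * d i)) (homog N f) =
      t ^ N * aeval (fun o : Option σ => Option.elim o u d) (homog N f) := by
  rw [aeval_homog, aeval_homog, Finset.mul_sum]
  refine Finset.sum_congr rfl fun α hα => ?_
  have hle : (α.sum fun _ e => e) ≤ N := (le_totalDegree hα).trans hN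
  have h1 : ∏ i ∈ α.support, (t * d i) ^ α i =
      t ^ (α.sum fun _ e => e) * (∏ i ∈ α.support, d i ^ α i) := by
    simp_rw [mul_pow]
    rw [Finset.prod_mul_distrib, Finset.prod_pow_eq_pow_sum]
    rfl
  rw [h1, mul_pow]
  have h2 : t ^ N = t ^ (α.sum fun _ e => e) * t ^ (N - α.sum fun _ e => e) := by
    rw [← pow_add, Nat.add_sub_cancel' hle]
  rw [h2]
  ring

end Homog

section Pres

attribute [local instance] MvPolynomial.algebraMvPolynomial

variable {A A' B' : Type u} [CommRing A] [CommRing A'] [CommRing B'] [Algebra A A']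
  (M : Submonoid A) [IsLocalization M A'] [Algebra A' B']

/-- a presentation of a finitely presented algebra over a localization with relations whose
denominators have been cleared -/
theorem exists_presentation [Algebra.FinitePresentation A' B'] :
    ∃ (m c : ℕ) (π : MvPolynomial (Fin m) A' →ₐ[A'] B') (f : Fin c → MvPolynomial (Fin m) A)
      (f' : Fin c → MvPolynomial (Fin m) A') (s : A), Function.Surjective π ∧ s ∈ M ∧
      RingHom.ker π.toRingHom = Ideal.span (Set.range f') ∧
      ∀ j, map (algebraMap A A') (f j) = C (algebraMap A A' s) * f' j := by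
  obtain ⟨m, π, hπ, hfg⟩ := Algebra.FinitePresentation.out (R := A') (A := B')
  obtain ⟨c, f', hf'⟩ := Submodule.fg_iff_exists_fin_generating_family.mp hfg
  obtain ⟨b, hb⟩ := IsLocalization.exist_integer_multiples_of_finite
    (M.map (C (σ := Fin m) (R := A))) f'
  obtain ⟨s, hs, hsb⟩ := b.2
  choose f hf using hb
  refine ⟨m, c, π, f, f', s, hπ, hs, hf'.symm, fun j => ?_⟩
  have h1 := hf j
  rw [MvPolynomial.algebraMap_def] at h1
  rw [h1, Algebra.smul_def, MvPolynomial.algebraMap_def, ← hsb]
  simp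

/-- the universal property of the presentation -/
theorem exists_lift {m c : ℕ} (π : MvPolynomial (Fin m) A' →ₐ[A'] B')
    (f : Fin c → MvPolynomial (Fin m) A) (f' : Fin c → MvPolynomial (Fin m) A') (s : A)
    (hπ : Function.Surjective π) (hs : s ∈ M)
    (hker : RingHom.ker π.toRingHom = Ideal.span (Set.range f'))
    (hf : ∀ j, map (algebraMap A A') (f j) = C (algebraMap A A' s) * f' j)
    {D : Type*} [CommRing D] (j' : A' →+* D) (d : Fin m → D)
    (hd : ∀ j, eval₂ (j'.comp (algebraMap A A')) d (f j) = 0) :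
    ∃ ρ₁ : B' →+* D, ∀ p, ρ₁ (π p) = eval₂ j' d p := by
  have hle : RingHom.ker π.toRingHom ≤ RingHom.ker (eval₂Hom j' d) := by
    rw [hker, Ideal.span_le]
    rintro _ ⟨j, rfl⟩
    show eval₂Hom j' d (f' j) = 0
    have hu : IsUnit (j' (algebraMap A A' s)) :=
      (IsLocalization.map_units A' (⟨s, hs⟩ : M)).map j'
    have h1 : j' (algebraMap A A' s) * eval₂Hom j' d (f' j) = 0 := by
      have h2 := hd j
      rw [← eval₂_map, hf j, eval₂_mul, eval₂_C] at h2
      exact h2
    exact (hu.mul_right_eq_zero).mp h1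
  refine ⟨RingHom.liftOfSurjective π.toRingHom hπ ⟨eval₂Hom j' d, hle⟩, fun p => ?_⟩
  exact RingHom.liftOfSurjective_comp_apply π.toRingHom hπ ⟨eval₂Hom j' d, hle⟩ p

end Pres

section Core

/-- the homogenized algebra -/
abbrev CC {A : Type u} [CommRing A] {m c : ℕ} (f : Fin c → MvPolynomial (Fin m) A) (N : ℕ) :
    Type u :=
  MvPolynomial (Option (Fin m)) A ⧸ Ideal.span (Set.range fun j => homog N (f j))

variable {R A A' B' Λ Λq : Type u} [CommRing R] [CommRing A] [CommRing A'] [CommRing B']
    [CommRing Λ] [CommRing Λq] [Algebra R A] [Algebra A A'] (M : Submonoid A)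
    [IsLocalization M A'] [Algebra A' B'] [Algebra A B'] [IsScalarTower A A' B']
    [Algebra R B'] [IsScalarTower R A B']
    [Algebra A Λ] (𝔮 : Ideal Λ) [𝔮.IsPrime] [Algebra Λ Λq]
    [IsLocalization.AtPrime Λq 𝔮] [Algebra A Λq] [IsScalarTower A Λ Λq]
    {m c : ℕ} (f : Fin c → MvPolynomial (Fin m) A) (N : ℕ)

/-- the map to `Λ` -/
noncomputable def chi (l : Λ) (μ : Fin m → Λ)
    (hFl : ∀ j, aeval (fun o : Option (Fin m) => Option.elim o l μ) (homog N (f j)) = 0) :
    CC f N →ₐ[A] Λ :=
  Ideal.Quotient.liftₐ _ (aeval (fun o : Option (Fin m) => Option.elim o l μ)) (by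
    intro a ha
    have hle : Ideal.span (Set.range fun j => homog N (f j)) ≤
        RingHom.ker (aeval (R := A) (fun o : Option (Fin m) => Option.elim o l μ)).toRingHom := by
      rw [Ideal.span_le]
      rintro _ ⟨j, rfl⟩
      exact hFl j
    exact hle ha)

open scoped Polynomial in
/-- the map to `B'[X]` -/
noncomputable def theta (y : Fin m → B') (hNf : ∀ j, (f j).totalDegree ≤ N)
    (hfy : ∀ j, aeval y (f j) = 0) : CC f N →ₐ[A] B'[X] :=
  Ideal.Quotient.liftₐ _ (aeval (fun o : Option (Fin m) =>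
      Option.elim o (Polynomial.X : B'[X]) (fun i => Polynomial.C (y i) * Polynomial.X))) (by
    intro a ha
    have hle : Ideal.span (Set.range fun j => homog N (f j)) ≤
        RingHom.ker (aeval (R := A) (fun o : Option (Fin m) =>
          Option.elim o (Polynomial.X : B'[X])
            (fun i => Polynomial.C (y i) * Polynomial.X))).toRingHom := by
      rw [Ideal.span_le]
      rintro _ ⟨j, rfl⟩
      show aeval _ (homog N (f j)) = 0
      rw [aeval_homog_mul N (f j) (hNf j)]
      have h2 : aeval (fun i => (Polynomial.C (y i) : B'[X])) (f j) =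
          (IsScalarTower.toAlgHom A B' B'[X]) (aeval y (f j)) := by
        rw [comp_aeval_apply]
        rfl
      rw [h2, hfy j, map_zero, mul_zero]
    exact hle ha)

open scoped Polynomial in
include M in
theorem key_core [Algebra.FormallySmooth R B']
    (hM : ∀ a ∈ M, algebraMap A Λ a ∉ 𝔮) (ψ : B' →ₐ[A] Λq)
    (π : MvPolynomial (Fin m) A' →ₐ[A'] B') (f' : Fin c → MvPolynomial (Fin m) A') (s : A)
    (hπ : Function.Surjective π) (hs : s ∈ M)
    (hker : RingHom.ker π.toRingHom = Ideal.span (Set.range f'))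
    (hf : ∀ j, map (algebraMap A A') (f j) = C (algebraMap A A' s) * f' j)
    (hNf : ∀ j, (f j).totalDegree ≤ N)
    (hfy : ∀ j, aeval (fun i => π (X i)) (f j) = 0)
    (l : Λ) (μ : Fin m → Λ) (hlq : l ∉ 𝔮)
    (hμl : ∀ i, algebraMap Λ Λq (μ i) = ψ (π (X i)) * algebraMap Λ Λq l)
    (hFl : ∀ j, aeval (fun o : Option (Fin m) => Option.elim o l μ) (homog N (f j)) = 0) :
    Algebra.IsSmoothAt R (𝔮.comap (chi f N l μ hFl)) := by
  classical
  haveI : IsLocalRing Λq := IsLocalization.AtPrime.isLocalRing Λq 𝔮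
  set y : Fin m → B' := fun i => π (X i) with hy
  set χ := chi f N l μ hFl with hχ
  set θ := theta (B' := B') f N y hNf hfy with hθ
  let w : Fin m → CC f N := fun i => Ideal.Quotient.mk _ (X (some i))
  let z : CC f N := Ideal.Quotient.mk _ (X none)
  have hχw : ∀ i, χ (w i) = μ i := by
    intro i
    show (Ideal.Quotient.liftₐ _ _ _) (Ideal.Quotient.mk _ (X (some i))) = _
    rw [Ideal.Quotient.liftₐ_apply, Ideal.Quotient.lift_mk]
    simp
  have hχz : χ z = l := by
    show (Ideal.Quotient.liftₐ _ _ _) (Ideal.Quotient.mk _ (X none)) = _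
    rw [Ideal.Quotient.liftₐ_apply, Ideal.Quotient.lift_mk]
    simp
  have hθw : ∀ i, θ (w i) = Polynomial.C (y i) * Polynomial.X := by
    intro i
    show (Ideal.Quotient.liftₐ _ _ _) (Ideal.Quotient.mk _ (X (some i))) = _
    rw [Ideal.Quotient.liftₐ_apply, Ideal.Quotient.lift_mk]
    simp
  have hθz : θ z = Polynomial.X := by
    show (Ideal.Quotient.liftₐ _ _ _) (Ideal.Quotient.mk _ (X none)) = _
    rw [Ideal.Quotient.liftₐ_apply, Ideal.Quotient.lift_mk]
    simp
  let ψ₁ : B'[X] →ₐ[A] Λq := Polynomial.aevalTower ψ (algebraMap Λ Λq l)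
  have hcompat : ∀ x : CC f N, ψ₁ (θ x) = algebraMap Λ Λq (χ x) := by
    have h1 : ψ₁.comp θ = (IsScalarTower.toAlgHom A Λ Λq).comp χ := by
      apply Ideal.Quotient.algHom_ext
      apply MvPolynomial.algHom_ext
      intro o
      cases o with
      | none =>
        show ψ₁ (θ z) = algebraMap Λ Λq (χ z)
        rw [hθz, hχz]
        exact Polynomial.aevalTower_X _ _
      | some i =>
        show ψ₁ (θ (w i)) = algebraMap Λ Λq (χ (w i))
        rw [hθw, hχw, map_mul, hμl i]
        congr 1
        · exact Polynomial.aevalTower_C _ _ _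
        · exact Polynomial.aevalTower_X _ _
    intro x
    exact AlgHom.congr_fun h1 x
  set 𝔮' : Ideal (CC f N) := 𝔮.comap χ with h𝔮'
  haveI h𝔮'p : 𝔮'.IsPrime := Ideal.comap_isPrime χ 𝔮
  set 𝔮'' : Ideal B'[X] := (IsLocalRing.maximalIdeal Λq).comap ψ₁ with h𝔮''
  haveI h𝔮''p : 𝔮''.IsPrime := Ideal.comap_isPrime ψ₁ (IsLocalRing.maximalIdeal Λq)
  have hqq : 𝔮' = 𝔮''.comap θ := by
    ext x
    rw [h𝔮', h𝔮'', Ideal.mem_comap, Ideal.mem_comap, Ideal.mem_comap, hcompat,
      IsLocalization.AtPrime.to_map_mem_maximal_iff Λq 𝔮]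
  haveI : Algebra.FormallySmooth R B'[X] := Algebra.FormallySmooth.comp R B' B'[X]
  haveI : Algebra.FormallySmooth R (Localization.AtPrime 𝔮'') := inferInstance
  have hz𝔮 : z ∉ 𝔮' := by
    rw [h𝔮', Ideal.mem_comap, hχz]; exact hlq
  have hzu : IsUnit (algebraMap (CC f N) (Localization.AtPrime 𝔮') z) :=
    IsLocalization.map_units _ (⟨z, hz𝔮⟩ : 𝔮'.primeCompl)
  obtain ⟨zi, hzi⟩ := hzu.exists_right_inv
  have hMu : ∀ a : M, IsUnit (algebraMap A (Localization.AtPrime 𝔮') (a : A)) := by
    intro a
    rw [IsScalarTower.algebraMap_apply A (CC f N) (Localization.AtPrime 𝔮')]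
    refine IsLocalization.map_units _ (⟨algebraMap A (CC f N) a, ?_⟩ : 𝔮'.primeCompl)
    show algebraMap A (CC f N) a ∉ 𝔮'
    rw [h𝔮', Ideal.mem_comap, AlgHom.commutes]
    exact hM a a.2
  let j' : A' →+* Localization.AtPrime 𝔮' := IsLocalization.lift hMu
  have hj' : ∀ a : A, j' (algebraMap A A' a) = algebraMap A (Localization.AtPrime 𝔮') a :=
    fun a => IsLocalization.lift_eq hMu a
  let d : Fin m → Localization.AtPrime 𝔮' := fun i => algebraMap _ _ (w i) * zi
  have hd : ∀ j, eval₂ (j'.comp (algebraMap A A')) d (f j) = 0 := by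
    intro j
    have hcomp : j'.comp (algebraMap A A') = algebraMap A (Localization.AtPrime 𝔮') :=
      RingHom.ext hj'
    rw [hcomp]
    have h1 := aeval_homog_mul (D := Localization.AtPrime 𝔮') N (f j) (hNf j) d
      (algebraMap _ _ z)
    have h2 : (fun o : Option (Fin m) => Option.elim o
        (algebraMap (CC f N) (Localization.AtPrime 𝔮') z)
        (fun i => d i * algebraMap _ _ z)) =
        fun o => (IsScalarTower.toAlgHom A (CC f N) (Localization.AtPrime 𝔮'))
          (Option.elim o z w) := by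
      funext o
      cases o with
      | none => rfl
      | some i =>
        show algebraMap _ _ (w i) * zi * algebraMap _ _ z = algebraMap _ _ (w i)
        rw [mul_assoc, mul_comm zi, hzi, mul_one]
    rw [h2, ← comp_aeval_apply] at h1
    have h3 : aeval (fun o : Option (Fin m) => Option.elim o z w) (homog N (f j)) =
        (0 : CC f N) := by
      have h4 : aeval (fun o : Option (Fin m) => Option.elim o z w) =
          Ideal.Quotient.mkₐ A (Ideal.span (Set.range fun j => homog N (f j))) := by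
        apply MvPolynomial.algHom_ext
        intro o
        cases o with
        | none => rw [aeval_X]; rfl
        | some i => rw [aeval_X]; rfl
      rw [h4]
      exact Ideal.Quotient.eq_zero_iff_mem.mpr (Ideal.subset_span ⟨j, rfl⟩)
    rw [h3, map_zero] at h1
    have h4 : IsUnit (algebraMap (CC f N) (Localization.AtPrime 𝔮') z ^ N) := hzu.pow N
    exact (h4.mul_right_eq_zero).mp h1.symm
  obtain ⟨ρ₁, hρ₁⟩ := exists_lift M π f f' s hπ hs hker hf j' d hd
  let ρ₀ : B'[X] →+* Localization.AtPrime 𝔮' := Polynomial.eval₂RingHom ρ₁ (algebraMap _ _ z)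
  have hχu : ∀ x : 𝔮'.primeCompl,
      IsUnit (((algebraMap Λ Λq).comp χ.toRingHom) (x : CC f N)) := by
    intro x
    exact IsLocalization.map_units Λq (⟨χ x, x.2⟩ : 𝔮.primeCompl)
  let χl : Localization.AtPrime 𝔮' →+* Λq := IsLocalization.lift hχu
  have hχl : ∀ x : CC f N, χl (algebraMap _ _ x) = algebraMap Λ Λq (χ x) :=
    fun x => IsLocalization.lift_eq hχu x
  have hlocal : ∀ x : Localization.AtPrime 𝔮', IsUnit (χl x) → IsUnit x := by
    intro x hx
    obtain ⟨a, t, rfl⟩ := IsLocalization.exists_mk'_eq 𝔮'.primeCompl x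
    have h1 : IsLocalization.mk' (Localization.AtPrime 𝔮') a t * algebraMap _ _ (t : CC f N) =
        algebraMap _ _ a := IsLocalization.mk'_spec _ a t
    have h2 : IsUnit (algebraMap Λ Λq (χ a)) := by
      rw [← hχl, ← h1, map_mul]
      refine hx.mul ?_
      rw [hχl]
      exact IsLocalization.map_units Λq (⟨χ t, t.2⟩ : 𝔮.primeCompl)
    have h3 : a ∉ 𝔮' := by
      rw [IsLocalization.AtPrime.isUnit_to_map_iff Λq 𝔮] at h2
      exact h2
    have h4 : IsUnit (algebraMap (CC f N) (Localization.AtPrime 𝔮') a) :=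
      IsLocalization.map_units _ (⟨a, h3⟩ : 𝔮'.primeCompl)
    rw [← h1] at h4
    exact isUnit_of_mul_isUnit_left h4
  have hzi' : algebraMap Λ Λq l * χl zi = 1 := by
    rw [← hχz, ← hχl, ← map_mul, hzi, map_one]
  have hπC : ∀ a' : A', π (C a') = algebraMap A' B' a' := by
    intro a'
    rw [← MvPolynomial.algebraMap_eq]
    exact π.commutes a'
  have hχρ₁ : ∀ b : B', χl (ρ₁ b) = ψ b := by
    intro b
    obtain ⟨p, rfl⟩ := hπ b
    rw [hρ₁]
    have h5 : (χl.comp (eval₂Hom j' d)) = (ψ.toRingHom.comp π.toRingHom) := by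
      apply MvPolynomial.ringHom_ext
      · intro a'
        show χl (eval₂ j' d (C a')) = ψ (π (C a'))
        rw [eval₂_C, hπC]
        have h6 : χl.comp j' = ψ.toRingHom.comp (algebraMap A' B') := by
          apply IsLocalization.ringHom_ext M
          ext a
          show χl (j' (algebraMap A A' a)) = ψ (algebraMap A' B' (algebraMap A A' a))
          rw [hj', ← IsScalarTower.algebraMap_apply A A' B', AlgHom.commutes,
            IsScalarTower.algebraMap_apply A (CC f N) (Localization.AtPrime 𝔮'), hχl,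
            AlgHom.commutes, ← IsScalarTower.algebraMap_apply]
        exact RingHom.congr_fun h6 a'
      · intro i
        show χl (eval₂ j' d (X i)) = ψ (π (X i))
        rw [eval₂_X]
        show χl (algebraMap _ _ (w i) * zi) = _
        rw [map_mul, hχl, hχw, hμl i, mul_assoc, hzi', mul_one]
    exact RingHom.congr_fun h5 p
  have hχρ₀ : ∀ p : B'[X], χl (ρ₀ p) = ψ₁ p := by
    have h5 : χl.comp ρ₀ = ψ₁.toRingHom := by
      apply Polynomial.ringHom_ext
      · intro b
        show χl (Polynomial.eval₂ ρ₁ _ (Polynomial.C b)) = ψ₁ (Polynomial.C b)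
        rw [Polynomial.eval₂_C, hχρ₁]
        exact (Polynomial.aevalTower_C _ _ _).symm
      · show χl (Polynomial.eval₂ ρ₁ _ Polynomial.X) = ψ₁ Polynomial.X
        rw [Polynomial.eval₂_X, hχl, hχz]
        exact (Polynomial.aevalTower_X _ _).symm
    intro p
    exact RingHom.congr_fun h5 p
  have hρu : ∀ p : 𝔮''.primeCompl, IsUnit (ρ₀ (p : B'[X])) := by
    intro p
    apply hlocal
    rw [hχρ₀]
    have h5 : ψ₁ p ∉ IsLocalRing.maximalIdeal Λq := p.2
    exact (IsLocalRing.notMem_maximalIdeal).mp h5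
  let ρ : Localization.AtPrime 𝔮'' →+* Localization.AtPrime 𝔮' := IsLocalization.lift hρu
  let ι : Localization.AtPrime 𝔮' →+* Localization.AtPrime 𝔮'' :=
    Localization.localRingHom 𝔮' 𝔮'' θ.toRingHom hqq
  have hρA : ∀ a : A, ρ₀ (algebraMap A B'[X] a) = algebraMap A (Localization.AtPrime 𝔮') a := by
    intro a
    rw [Polynomial.algebraMap_apply]
    show Polynomial.eval₂ ρ₁ _ (Polynomial.C _) = _
    rw [Polynomial.eval₂_C, IsScalarTower.algebraMap_apply A A' B', ← hπC, hρ₁, eval₂_C, hj']
  have hρθ : ∀ x : CC f N, ρ₀ (θ x) = algebraMap _ _ x := by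
    have h5 : ρ₀.comp θ.toRingHom = algebraMap (CC f N) (Localization.AtPrime 𝔮') := by
      apply Ideal.Quotient.ringHom_ext
      apply MvPolynomial.ringHom_ext
      · intro a
        show ρ₀ (θ (algebraMap A (CC f N) a)) = algebraMap _ _ (algebraMap A (CC f N) a)
        rw [AlgHom.commutes, hρA a, ← IsScalarTower.algebraMap_apply]
      · intro o
        cases o with
        | none =>
          show ρ₀ (θ z) = algebraMap _ _ z
          rw [hθz]
          exact Polynomial.eval₂_X _ _
        | some i =>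
          show ρ₀ (θ (w i)) = algebraMap _ _ (w i)
          rw [hθw, map_mul]
          show Polynomial.eval₂ ρ₁ _ (Polynomial.C _) * Polynomial.eval₂ ρ₁ _ Polynomial.X = _
          rw [Polynomial.eval₂_C, Polynomial.eval₂_X, hρ₁, eval₂_X]
          show algebraMap _ _ (w i) * zi * algebraMap _ _ z = algebraMap _ _ (w i)
          rw [mul_assoc, mul_comm zi, hzi, mul_one]
    intro x
    exact RingHom.congr_fun h5 x
  have hρι : ∀ x, ρ (ι x) = x := by
    have h5 : ρ.comp ι = RingHom.id _ := by
      apply IsLocalization.ringHom_ext 𝔮'.primeCompl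
      refine RingHom.ext fun x => ?_
      show ρ (ι (algebraMap _ _ x)) = algebraMap _ _ x
      rw [show ι (algebraMap _ _ x) = algebraMap _ _ (θ x) from
        Localization.localRingHom_to_map _ _ _ _ x, IsLocalization.lift_eq, hρθ]
    intro x
    exact RingHom.congr_fun h5 x
  have hRC : ∀ r : R, algebraMap R (CC f N) r = algebraMap A (CC f N) (algebraMap R A r) :=
    fun r => IsScalarTower.algebraMap_apply R A (CC f N) r
  let ιR : Localization.AtPrime 𝔮' →ₐ[R] Localization.AtPrime 𝔮'' :=
    { toRingHom := ι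
      commutes' := fun r => by
        show ι (algebraMap R _ r) = algebraMap R _ r
        rw [IsScalarTower.algebraMap_apply R (CC f N) (Localization.AtPrime 𝔮'),
          show ι (algebraMap _ _ (algebraMap R (CC f N) r)) =
            algebraMap _ _ (θ (algebraMap R (CC f N) r)) from
            Localization.localRingHom_to_map _ _ _ _ _, hRC, AlgHom.commutes,
          ← IsScalarTower.algebraMap_apply R A B'[X], ← IsScalarTower.algebraMap_apply] }
  let ρR : Localization.AtPrime 𝔮'' →ₐ[R] Localization.AtPrime 𝔮' :=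
    { toRingHom := ρ
      commutes' := fun r => by
        show ρ (algebraMap R _ r) = algebraMap R _ r
        rw [IsScalarTower.algebraMap_apply R B'[X] (Localization.AtPrime 𝔮''),
          IsLocalization.lift_eq, IsScalarTower.algebraMap_apply R A B'[X], hρA,
          IsScalarTower.algebraMap_apply R (CC f N) (Localization.AtPrime 𝔮'), hRC,
          ← IsScalarTower.algebraMap_apply A (CC f N) (Localization.AtPrime 𝔮')] }
  exact formallySmooth_of_retract ιR ρR (AlgHom.ext fun x => hρι x)

end Core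

section Key

theorem key {R A A' B' Λ Λq : Type u} [CommRing R] [CommRing A] [CommRing A'] [CommRing B']
    [CommRing Λ] [CommRing Λq] [Algebra R A] [Algebra A A'] (M : Submonoid A)
    [IsLocalization M A'] [Algebra A' B'] [Algebra A B'] [IsScalarTower A A' B']
    [Algebra.FinitePresentation A' B'] [Algebra R B'] [IsScalarTower R A B']
    [Algebra.FormallySmooth R B'] [Algebra A Λ] (𝔮 : Ideal Λ) [𝔮.IsPrime] [Algebra Λ Λq]
    [IsLocalization.AtPrime Λq 𝔮] [Algebra A Λq] [IsScalarTower A Λ Λq]
    (hM : ∀ a ∈ M, algebraMap A Λ a ∉ 𝔮) (ψ : B' →ₐ[A] Λq) :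
    ∃ (C : Type u) (_ : CommRing C) (_ : Algebra A C) (_ : Algebra R C)
      (_ : IsScalarTower R A C), Algebra.FinitePresentation A C ∧
      ∃ χ : C →ₐ[A] Λ, Algebra.IsSmoothAt R (𝔮.comap χ) := by
  classical
  haveI : IsLocalRing Λq := IsLocalization.AtPrime.isLocalRing Λq 𝔮
  obtain ⟨m, c, π, f, f', s, hπ, hs, hker, hf⟩ := exists_presentation (A := A) (A' := A')
    (B' := B') M
  -- generators
  set y : Fin m → B' := fun i => π (X i) with hy
  have hπy : ∀ p : MvPolynomial (Fin m) A', π p = aeval y p := fun p => by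
    rw [aeval_unique π]; rfl
  have hfy : ∀ j, aeval y (f j) = 0 := by
    intro j
    have h1 : π (f' j) = 0 := by
      have : f' j ∈ RingHom.ker π.toRingHom := by
        rw [hker]; exact Ideal.subset_span ⟨j, rfl⟩
      exact this
    have h2 : aeval y (f j) = π (map (algebraMap A A') (f j)) := by
      rw [hπy, MvPolynomial.aeval_map_algebraMap]
    rw [h2, hf j, map_mul, h1, mul_zero]
  -- denominators for the images of the generators
  obtain ⟨l0, hl0⟩ := IsLocalization.exist_integer_multiples_of_finite 𝔮.primeCompl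
    (fun i => ψ (y i))
  choose μ0 hμ0 using hl0
  have hμ0' : ∀ i, algebraMap Λ Λq (μ0 i) = ψ (y i) * algebraMap Λ Λq l0 := by
    intro i
    rw [hμ0 i, Algebra.smul_def, mul_comm]
  set N : ℕ := (Finset.univ.sup fun j => (f j).totalDegree) + 1 with hN
  have hNf : ∀ j, (f j).totalDegree ≤ N := fun j =>
    (Finset.le_sup (f := fun j => (f j).totalDegree) (Finset.mem_univ j)).trans (Nat.le_succ _)
  set e : Fin c → Λ := fun j =>
    aeval (fun o : Option (Fin m) => Option.elim o (l0 : Λ) μ0) (homog N (f j)) with he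
  have he0 : ∀ j, algebraMap Λ Λq (e j) = 0 := by
    intro j
    have h1 : algebraMap Λ Λq (e j) = aeval (fun o : Option (Fin m) =>
        Option.elim o (algebraMap Λ Λq l0) (fun i => ψ (y i) * algebraMap Λ Λq l0))
        (homog N (f j)) := by
      show (IsScalarTower.toAlgHom A Λ Λq) (e j) = _
      rw [he]
      simp only
      rw [comp_aeval_apply]
      congr 2
      funext o
      cases o with
      | none => rfl
      | some i => exact hμ0' i
    rw [h1, aeval_homog_mul N (f j) (hNf j)]
    have h2 : aeval (fun i => ψ (y i)) (f j) = ψ (aeval y (f j)) := by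
      rw [comp_aeval_apply]
    rw [h2, hfy j, map_zero, mul_zero]
  have het : ∀ j, ∃ t : 𝔮.primeCompl, (t : Λ) * e j = 0 := fun j =>
    (IsLocalization.map_eq_zero_iff 𝔮.primeCompl Λq (e j)).mp (he0 j)
  choose t ht using het
  set T : Λ := ∏ j, (t j : Λ) with hT
  have hTq : T ∈ 𝔮.primeCompl := by
    rw [hT]
    exact Submonoid.prod_mem _ fun j _ => (t j).2
  have hTe : ∀ j, T * e j = 0 := by
    intro j
    rw [hT, ← Finset.mul_prod_erase Finset.univ _ (Finset.mem_univ j), mul_right_comm, ht j,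
      zero_mul]
  set l : Λ := T * l0 with hl
  set μ : Fin m → Λ := fun i => T * μ0 i with hμ
  have hlq : l ∉ 𝔮 := fun h => by
    rcases Ideal.IsPrime.mem_or_mem inferInstance h with h | h
    · exact hTq h
    · exact l0.2 h
  have hμl : ∀ i, algebraMap Λ Λq (μ i) = ψ (y i) * algebraMap Λ Λq l := by
    intro i
    rw [hμ, hl, map_mul, map_mul, hμ0' i]
    ring
  have hFl : ∀ j, aeval (fun o : Option (Fin m) => Option.elim o l μ) (homog N (f j)) = 0 := by
    intro j
    rw [hl, hμ, aeval_homog_smul N (f j) (hNf j), hN, pow_succ, mul_assoc]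
    rw [show T * aeval (fun o : Option (Fin m) => Option.elim o (l0 : Λ) μ0) (homog N (f j)) =
      T * e j from rfl, hTe j, mul_zero]
  refine ⟨CC f N, inferInstance, inferInstance, inferInstance, inferInstance, ?_,
    chi f N l μ hFl, ?_⟩
  · exact Algebra.FinitePresentation.quotient (Submodule.fg_span (Set.finite_range _))
  · exact key_core M 𝔮 f N hM ψ π f' s hπ hs hker hf hNf hfy l μ hlq hμl hFl

end Key

section Main

/-- a smooth point of a finitely presented algebra does not contain the singular ideal -/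
theorem exists_not_mem_of_isSmoothAt' {R D : Type u} [CommRing R] [CommRing D] [Algebra R D]
    [Algebra.FinitePresentation R D] (Q : Ideal D) [Q.IsPrime] (h : Algebra.IsSmoothAt R Q) :
    ∃ d ∈ Smoothing.singularIdeal R D, d ∉ Q := by
  by_contra hcon
  push_neg at hcon
  have hle : Smoothing.singularIdeal R D ≤ Q := hcon
  have h1 : (⟨Q, inferInstance⟩ : PrimeSpectrum D) ∈
      PrimeSpectrum.zeroLocus (Smoothing.singularIdeal R D : Set D) := hle
  unfold Smoothing.singularIdeal at h1
  rw [PrimeSpectrum.zeroLocus_vanishingIdeal_eq_closure,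
    (Algebra.isOpen_smoothLocus (R := R) (A := D)).isClosed_compl.closure_eq] at h1
  exact h1 h

/-- inverting an element of the singular ideal gives a formally smooth algebra -/
theorem formallySmooth_away_of_mem {R D : Type u} [CommRing R] [CommRing D] [Algebra R D]
    [Algebra.FinitePresentation R D] (b : D) (hb : b ∈ Smoothing.singularIdeal R D) :
    Algebra.FormallySmooth R (Localization.Away b) := by
  rw [← Algebra.basicOpen_subset_smoothLocus_iff]
  intro p hp
  by_contra hcon
  unfold Smoothing.singularIdeal at hb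
  rw [PrimeSpectrum.mem_vanishingIdeal] at hb
  exact hp (hb p hcon)

open TensorProduct in
theorem main {R A Λ Rₚ Λq : Type u} [CommRing R] [CommRing A]
    [Algebra R A] [Algebra.FinitePresentation R A] [CommRing Λ] [Algebra R Λ] (φ : A →ₐ[R] Λ)
    (𝔮 : Ideal Λ) [𝔮.IsPrime]
    [CommRing Rₚ] [Algebra R Rₚ] [IsLocalization.AtPrime Rₚ (𝔮.comap (algebraMap R Λ))]
    [CommRing Λq] [Algebra Λ Λq] [IsLocalization.AtPrime Λq 𝔮] [Algebra R Λq]
    [IsScalarTower R Λ Λq] [Algebra Rₚ Λq] [IsScalarTower R Rₚ Λq]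
    (hres : Smoothing.Resolvable Rₚ
      (Algebra.TensorProduct.lift (Algebra.ofId Rₚ Λq) ((IsScalarTower.toAlgHom R Λ Λq).comp φ)
        (fun _ _ => Commute.all _ _) : Rₚ ⊗[R] A →ₐ[Rₚ] Λq) (𝔮.map (algebraMap Λ Λq))) :
    ∃ (C : Type u) (_ : CommRing C) (_ : Algebra R C), Algebra.FinitePresentation R C ∧
      ∃ (g : A →ₐ[R] C) (h : C →ₐ[R] Λ), h.comp g = φ ∧
        ¬ (Smoothing.singularIdeal R C).map h ≤ 𝔮 := by
  classical
  obtain ⟨B, _, _, hfp, g, h, hgh, hle, hnot⟩ := hres
  haveI : IsLocalRing Λq := IsLocalization.AtPrime.isLocalRing Λq 𝔮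
  have hmax : 𝔮.map (algebraMap Λ Λq) = IsLocalRing.maximalIdeal Λq :=
    IsLocalization.AtPrime.map_eq_maximalIdeal 𝔮 Λq
  have hb : ∃ b ∈ Smoothing.singularIdeal Rₚ B, IsUnit (h b) := by
    by_contra hcon
    push_neg at hcon
    apply hnot
    unfold Smoothing.singRad
    rw [hmax, Ideal.IsPrime.radical_le_iff inferInstance, Ideal.map_le_iff_le_comap]
    intro b hb
    exact (IsLocalRing.mem_maximalIdeal _).mpr (hcon b hb)
  obtain ⟨b, hbH, hbu⟩ := hb
  set 𝔭 : Ideal R := 𝔮.comap (algebraMap R Λ) with h𝔭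
  letI algAA' : Algebra A (Rₚ ⊗[R] A) := Algebra.TensorProduct.rightAlgebra
  haveI hloc : IsLocalization (Algebra.algebraMapSubmonoid A 𝔭.primeCompl) (Rₚ ⊗[R] A) :=
    IsLocalization.tensorRight Rₚ 𝔭.primeCompl
  letI algA'B : Algebra (Rₚ ⊗[R] A) B := g.toRingHom.toAlgebra
  haveI t1 : IsScalarTower Rₚ (Rₚ ⊗[R] A) B :=
    IsScalarTower.of_algebraMap_eq (fun x => (g.commutes x).symm)
  letI algAB : Algebra A B :=
    ((algebraMap (Rₚ ⊗[R] A) B).comp (algebraMap A (Rₚ ⊗[R] A))).toAlgebra
  haveI t2 : IsScalarTower A (Rₚ ⊗[R] A) B := IsScalarTower.of_algebraMap_eq (fun _ => rfl)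
  letI algRB : Algebra R B := ((algebraMap Rₚ B).comp (algebraMap R Rₚ)).toAlgebra
  haveI t3 : IsScalarTower R Rₚ B := IsScalarTower.of_algebraMap_eq (fun _ => rfl)
  have hAB : ∀ a : A, algebraMap A B a = g ((1 : Rₚ) ⊗ₜ[R] a) := fun a => rfl
  haveI t4 : IsScalarTower R A B := by
    refine IsScalarTower.of_algebraMap_eq (fun r => ?_)
    show algebraMap Rₚ B (algebraMap R Rₚ r) = g ((1 : Rₚ) ⊗ₜ[R] algebraMap R A r)
    have h1 : (1 : Rₚ) ⊗ₜ[R] algebraMap R A r = algebraMap Rₚ (Rₚ ⊗[R] A) (algebraMap R Rₚ r) := by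
      rw [Algebra.TensorProduct.algebraMap_apply, Algebra.algebraMap_self, RingHom.id_apply,
        Algebra.algebraMap_eq_smul_one r, Algebra.algebraMap_eq_smul_one r,
        TensorProduct.smul_tmul]
    rw [h1, g.commutes]
  -- the localization
  haveI fp1 : Algebra.FinitePresentation B (Localization.Away b) :=
    IsLocalization.Away.finitePresentation b
  haveI fp2 : Algebra.FinitePresentation Rₚ (Localization.Away b) :=
    Algebra.FinitePresentation.trans Rₚ B (Localization.Away b)
  haveI fp3 : Algebra.FinitePresentation (Rₚ ⊗[R] A) (Localization.Away b) :=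
    Algebra.FinitePresentation.of_restrict_scalars_finitePresentation Rₚ (Rₚ ⊗[R] A)
      (Localization.Away b)
  haveI fs1 : Algebra.FormallySmooth R Rₚ := Algebra.FormallySmooth.of_isLocalization 𝔭.primeCompl
  haveI fs2 : Algebra.FormallySmooth Rₚ (Localization.Away b) :=
    formallySmooth_away_of_mem b hbH
  haveI fs3 : Algebra.FormallySmooth R (Localization.Away b) :=
    Algebra.FormallySmooth.comp R Rₚ (Localization.Away b)
  letI algAΛ : Algebra A Λ := φ.toRingHom.toAlgebra
  haveI t5 : IsScalarTower R A Λ := IsScalarTower.of_algebraMap_eq (fun r => (φ.commutes r).symm)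
  letI algAΛq : Algebra A Λq := ((algebraMap Λ Λq).comp φ.toRingHom).toAlgebra
  haveI t6 : IsScalarTower A Λ Λq := IsScalarTower.of_algebraMap_eq (fun _ => rfl)
  have hM : ∀ a ∈ Algebra.algebraMapSubmonoid A 𝔭.primeCompl, algebraMap A Λ a ∉ 𝔮 := by
    rintro _ ⟨r, hr, rfl⟩
    show φ (algebraMap R A r) ∉ 𝔮
    rw [φ.commutes]
    exact hr
  let ψ₀ : Localization.Away b →+* Λq := IsLocalization.Away.lift (g := h.toRingHom) b hbu
  have hψ₀ : ∀ x : B, ψ₀ (algebraMap B (Localization.Away b) x) = h x :=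
    fun x => IsLocalization.Away.lift_eq b hbu x
  let ψ : Localization.Away b →ₐ[A] Λq :=
    { toRingHom := ψ₀
      commutes' := fun a => by
        show ψ₀ (algebraMap A (Localization.Away b) a) = algebraMap Λ Λq (φ a)
        rw [IsScalarTower.algebraMap_apply A B (Localization.Away b), hψ₀, hAB]
        have h2 := AlgHom.congr_fun hgh ((1 : Rₚ) ⊗ₜ[R] a)
        rw [AlgHom.comp_apply] at h2
        rw [h2, Algebra.TensorProduct.lift_tmul, map_one, one_mul]
        rfl }
  obtain ⟨C, _, _, _, _, hCfp, χ, hsm⟩ := key (R := R) (A := A) (A' := Rₚ ⊗[R] A)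
    (B' := Localization.Away b) (Λ := Λ) (Λq := Λq)
    (Algebra.algebraMapSubmonoid A 𝔭.primeCompl) 𝔮 hM ψ
  haveI : Algebra.FinitePresentation R C := Algebra.FinitePresentation.trans R A C
  refine ⟨C, inferInstance, inferInstance, inferInstance, IsScalarTower.toAlgHom R A C,
    χ.restrictScalars R, ?_, ?_⟩
  · ext a
    show χ (algebraMap A C a) = φ a
    rw [χ.commutes]
    rfl
  · intro hle'
    obtain ⟨d, hd, hdq⟩ := exists_not_mem_of_isSmoothAt' (R := R) (𝔮.comap χ) hsm
    exact hdq (hle' (Ideal.mem_map_of_mem _ hd))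

end Main

end Groth.Agent.Lib.T2H8.DelocA
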