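import Groth.Agent.Lib.T2H8DelocA

/-!
Helper library for S2034 (`Smoothing.resolvable_of_dim_zero`): the algebra
`A[x,y,z,t]/(f_j - ∑ y_i t_ij, z y_i)`, smoothness of its localizations at `z d` and `a_i y_i`
by retract arguments, and the main theorem.
-/

set_option autoImplicit false
universe u

namespace Groth.Agent.Lib.T2H8.DimZero

open MvPolynomial Groth.Agent.Lib.T2H8.DelocA

/-- a localization `B_b` which is a retract of a formally smooth algebra is formally smooth -/
theorem formallySmooth_away_of_retract {R B E : Type u} [CommRing R] [CommRing B] [CommRing E]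
    [Algebra R B] [Algebra R E] [Algebra.FormallySmooth R E] (b : B) (ι₀ : B →ₐ[R] E)
    (hb : IsUnit (ι₀ b)) (ρ₀ : E →+* Localization.Away b)
    (hρ : ∀ x, ρ₀ (ι₀ x) = algebraMap B (Localization.Away b) x) :
    Algebra.FormallySmooth R (Localization.Away b) := by
  let ι' : Localization.Away b →+* E := IsLocalization.Away.lift (g := ι₀.toRingHom) b hb
  have hι' : ∀ x : B, ι' (algebraMap B _ x) = ι₀ x := fun x => IsLocalization.Away.lift_eq b hb x
  let ι : Localization.Away b →ₐ[R] E :=
    { toRingHom := ι'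
      commutes' := fun r => by
        show ι' (algebraMap R _ r) = algebraMap R E r
        rw [IsScalarTower.algebraMap_apply R B (Localization.Away b), hι', ι₀.commutes] }
  let ρ : E →ₐ[R] Localization.Away b :=
    { toRingHom := ρ₀
      commutes' := fun r => by
        show ρ₀ (algebraMap R E r) = algebraMap R _ r
        rw [← ι₀.commutes, hρ, ← IsScalarTower.algebraMap_apply] }
  refine formallySmooth_of_retract ι ρ ?_
  have h1 : ρ₀.comp ι' = RingHom.id _ := by
    apply IsLocalization.ringHom_ext (Submonoid.powers b)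
    refine RingHom.ext fun x => ?_
    show ρ₀ (ι' (algebraMap B _ x)) = algebraMap B _ x
    rw [hι', hρ]
  exact AlgHom.ext fun x => RingHom.congr_fun h1 x

/-- an element whose localization is formally smooth lies in the singular ideal -/
theorem mem_singularIdeal_of_formallySmooth_away {R B : Type u} [CommRing R] [CommRing B]
    [Algebra R B] [Algebra.FinitePresentation R B] (b : B)
    (h : Algebra.FormallySmooth R (Localization.Away b)) : b ∈ Smoothing.singularIdeal R B := by
  rw [← Algebra.basicOpen_subset_smoothLocus_iff] at h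
  unfold Smoothing.singularIdeal
  rw [PrimeSpectrum.mem_vanishingIdeal]
  intro p hp
  by_contra hcon
  exact hp (h hcon)

section Constr

variable {A : Type u} [CommRing A] {n m : ℕ} (r : ℕ) (f : Fin m → MvPolynomial (Fin n) A)

/-- the variables of the new algebra -/
abbrev V (n m r : ℕ) : Type := Fin n ⊕ (Fin r ⊕ ((Fin r × Fin m) ⊕ Unit))

/-- the variables `x` -/
abbrev vx {n m r : ℕ} (k : Fin n) : V n m r := Sum.inl k
/-- the variables `y` -/
abbrev vy {n m r : ℕ} (i : Fin r) : V n m r := Sum.inr (Sum.inl i)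
/-- the variables `t` -/
abbrev vt {n m r : ℕ} (i : Fin r) (j : Fin m) : V n m r := Sum.inr (Sum.inr (Sum.inl (i, j)))
/-- the variable `z` -/
abbrev vz {n m r : ℕ} : V n m r := Sum.inr (Sum.inr (Sum.inr ()))

/-- a valuation of the variables -/
def mkV {D : Type*} {n m r : ℕ} (fx : Fin n → D) (fy : Fin r → D) (ft : Fin r → Fin m → D)
    (fz : D) : V n m r → D :=
  Sum.elim fx (Sum.elim fy (Sum.elim (fun p => ft p.1 p.2) (fun _ => fz)))

/-- the relations -/
noncomputable def rel : Fin m ⊕ Fin r → MvPolynomial (V n m r) A :=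
  Sum.elim (fun j => rename vx (f j) - ∑ i, X (vy i) * X (vt i j)) (fun i => X vz * X (vy i))

/-- the algebra `B` -/
abbrev BB : Type u := MvPolynomial (V n m r) A ⧸ Ideal.span (Set.range (rel r f))

theorem finitePresentation_BB : Algebra.FinitePresentation A (BB r f) :=
  Algebra.FinitePresentation.quotient (Submodule.fg_span (Set.finite_range _))

/-- the generators of `B` -/
noncomputable def gen (w : V n m r) : BB r f := Ideal.Quotient.mk _ (X w)

theorem gen_rel1 (j : Fin m) :
    Ideal.Quotient.mk (Ideal.span (Set.range (rel r f))) (rename vx (f j)) =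
      ∑ i, gen r f (vy i) * gen r f (vt i j) := by
  have h1 : rel r f (Sum.inl j) ∈ Ideal.span (Set.range (rel r f)) :=
    Ideal.subset_span ⟨_, rfl⟩
  have h2 := Ideal.Quotient.eq_zero_iff_mem.mpr h1
  have h3 : rel r f (Sum.inl j) = rename vx (f j) - ∑ i, X (vy i) * X (vt i j) := rfl
  rw [h3, map_sub, map_sum, sub_eq_zero] at h2
  rw [h2]
  refine Finset.sum_congr rfl fun i _ => ?_
  rw [map_mul]
  rfl

theorem gen_rel2 (i : Fin r) : gen r f vz * gen r f (vy i) = 0 := by
  have h1 : rel r f (Sum.inr i) ∈ Ideal.span (Set.range (rel r f)) :=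
    Ideal.subset_span ⟨_, rfl⟩
  have h2 := Ideal.Quotient.eq_zero_iff_mem.mpr h1
  have h3 : rel r f (Sum.inr i) = X vz * X (vy i) := rfl
  rw [h3, map_mul] at h2
  exact h2

variable {D : Type*} [CommRing D] [Algebra A D]

/-- maps out of `B` -/
noncomputable def liftB (v : V n m r → D)
    (h1 : ∀ j, aeval (fun k => v (vx k)) (f j) = ∑ i, v (vy i) * v (vt i j))
    (h2 : ∀ i, v vz * v (vy i) = 0) : BB r f →ₐ[A] D :=
  Ideal.Quotient.liftₐ _ (aeval v) (by
    intro a ha
    have hle : Ideal.span (Set.range (rel r f)) ≤ RingHom.ker (aeval (R := A) v).toRingHom := by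
      rw [Ideal.span_le]
      rintro _ ⟨w, rfl⟩
      cases w with
      | inl j =>
        show aeval v (rename vx (f j) - ∑ i, X (vy i) * X (vt i j)) = 0
        rw [map_sub, aeval_rename, map_sum, sub_eq_zero]
        simp only [map_mul, aeval_X]
        exact h1 j
      | inr i =>
        show aeval v (X vz * X (vy i)) = 0
        rw [map_mul, aeval_X, aeval_X]
        exact h2 i
    exact hle ha)

theorem liftB_gen (v : V n m r → D)
    (h1 : ∀ j, aeval (fun k => v (vx k)) (f j) = ∑ i, v (vy i) * v (vt i j))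
    (h2 : ∀ i, v vz * v (vy i) = 0) (w : V n m r) : liftB r f v h1 h2 (gen r f w) = v w := by
  show (Ideal.Quotient.liftₐ _ _ _) (Ideal.Quotient.mk _ (X w)) = _
  rw [Ideal.Quotient.liftₐ_apply, Ideal.Quotient.lift_mk]
  simp

/-- ring homs out of `B` are determined on `A` and the generators -/
theorem ringHom_ext_BB {D' : Type*} [CommRing D'] (φ₁ φ₂ : BB r f →+* D')
    (hA : ∀ a : A, φ₁ (algebraMap A _ a) = φ₂ (algebraMap A _ a))
    (hg : ∀ w, φ₁ (gen r f w) = φ₂ (gen r f w)) : φ₁ = φ₂ := by
  apply Ideal.Quotient.ringHom_ext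
  apply MvPolynomial.ringHom_ext
  · intro a
    exact hA a
  · intro w
    exact hg w

theorem aeval_gen (p : MvPolynomial (Fin n) A) :
    aeval (fun k => gen r f (vx k)) p =
      Ideal.Quotient.mk (Ideal.span (Set.range (rel r f))) (rename vx p) := by
  have h1 : rename vx p = aeval (fun k => (X (vx k) : MvPolynomial (V n m r) A)) p := by
    rw [rename_eq_aeval]
    rfl
  rw [h1]
  exact (comp_aeval_apply _ (Ideal.Quotient.mkₐ A (Ideal.span (Set.range (rel r f)))) p).symm

section PartII

variable {R : Type u} [CommRing R] [Algebra R A] (a : A) (i₀ : Fin r)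

theorem smooth_y [Algebra.FormallySmooth R (Localization.Away a)] :
    Algebra.FormallySmooth R
      (Localization.Away (algebraMap A (BB r f) a * gen r f (vy i₀))) := by
  classical
  let P := MvPolynomial (V n m r) (Localization.Away a)
  let E := Localization.Away (X (vy i₀) : P)
  haveI : Algebra.FormallySmooth R P := Algebra.FormallySmooth.comp R (Localization.Away a) P
  haveI : Algebra.FormallySmooth R E := inferInstance
  have hyu : IsUnit (algebraMap P E (X (vy i₀))) := IsLocalization.Away.algebraMap_isUnit _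
  obtain ⟨u, hu⟩ := hyu.exists_right_inv
  let XE : V n m r → E := fun w => algebraMap P E (X w)
  let FE : Fin m → E := fun j => aeval (fun k => XE (vx k)) (f j)
  let v : V n m r → E := mkV (fun k => XE (vx k)) (fun i => XE (vy i))
    (fun i j => if i = i₀ then
      u * (FE j - ∑ i' ∈ Finset.univ.erase i₀, XE (vy i') * XE (vt i' j)) else XE (vt i j)) 0
  have h1 : ∀ j, aeval (fun k => v (vx k)) (f j) = ∑ i, v (vy i) * v (vt i j) := by
    intro j
    show FE j = ∑ i, XE (vy i) * (if i = i₀ then
      u * (FE j - ∑ i' ∈ Finset.univ.erase i₀, XE (vy i') * XE (vt i' j)) else XE (vt i j))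
    rw [← Finset.add_sum_erase Finset.univ _ (Finset.mem_univ i₀), if_pos rfl]
    have h3 : ∑ i ∈ Finset.univ.erase i₀, XE (vy i) * (if i = i₀ then
        u * (FE j - ∑ i' ∈ Finset.univ.erase i₀, XE (vy i') * XE (vt i' j)) else XE (vt i j)) =
        ∑ i' ∈ Finset.univ.erase i₀, XE (vy i') * XE (vt i' j) :=
      Finset.sum_congr rfl fun i hi => by rw [if_neg (Finset.ne_of_mem_erase hi)]
    rw [h3, ← mul_assoc, hu, one_mul]
    ring
  have h2 : ∀ i, v vz * v (vy i) = 0 := fun i => zero_mul _
  let ι₀ : BB r f →ₐ[A] E := liftB r f v h1 h2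
  have hι₀ : ∀ w, ι₀ (gen r f w) = v w := fun w => liftB_gen r f v h1 h2 w
  set b : BB r f := algebraMap A (BB r f) a * gen r f (vy i₀) with hb
  have hbu : IsUnit (algebraMap (BB r f) (Localization.Away b) b) :=
    IsLocalization.Away.algebraMap_isUnit b
  have hau : IsUnit (algebraMap A (Localization.Away b) a) := by
    rw [IsScalarTower.algebraMap_apply A (BB r f) (Localization.Away b)]
    rw [hb, map_mul] at hbu
    exact isUnit_of_mul_isUnit_left hbu
  have hyu' : IsUnit (algebraMap (BB r f) (Localization.Away b) (gen r f (vy i₀))) := by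
    rw [hb, map_mul] at hbu
    exact isUnit_of_mul_isUnit_right hbu
  let κ : Localization.Away a →+* Localization.Away b :=
    IsLocalization.Away.lift (g := algebraMap A (Localization.Away b)) a hau
  have hκ : ∀ α : A, κ (algebraMap A _ α) = algebraMap A (Localization.Away b) α :=
    fun α => IsLocalization.Away.lift_eq a hau α
  let G : V n m r → Localization.Away b := fun w => algebraMap (BB r f) _ (gen r f w)
  let ρ₁ : P →+* Localization.Away b := eval₂Hom κ G
  have hρ₁X : ∀ w, ρ₁ (X w) = G w := fun w => eval₂_X _ _ _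
  have hρ₁y : IsUnit (ρ₁ (X (vy i₀))) := by
    rw [hρ₁X]
    exact hyu'
  let ρ₀ : E →+* Localization.Away b := IsLocalization.Away.lift (X (vy i₀)) hρ₁y
  have hρ₀ : ∀ p : P, ρ₀ (algebraMap P E p) = ρ₁ p :=
    fun p => IsLocalization.Away.lift_eq (X (vy i₀)) hρ₁y p
  have hρ₀X : ∀ w, ρ₀ (XE w) = G w := fun w => by rw [hρ₀, hρ₁X]
  have hρ₀A : ∀ α : A, ρ₀ (algebraMap A E α) = algebraMap A (Localization.Away b) α := by
    intro α
    rw [IsScalarTower.algebraMap_apply A P E, hρ₀, MvPolynomial.algebraMap_apply]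
    show eval₂ κ G (C _) = _
    rw [eval₂_C, hκ]
  let ρA : E →ₐ[A] Localization.Away b := { toRingHom := ρ₀, commutes' := hρ₀A }
  have hρF : ∀ j, ρ₀ (FE j) = ∑ i, G (vy i) * G (vt i j) := by
    intro j
    show ρA (aeval (fun k => XE (vx k)) (f j)) = _
    rw [comp_aeval_apply]
    have h3 : (fun k => ρA (XE (vx k))) = fun k =>
        (IsScalarTower.toAlgHom A (BB r f) (Localization.Away b)) (gen r f (vx k)) := by
      funext k
      exact hρ₀X (vx k)
    rw [h3, ← comp_aeval_apply, aeval_gen, gen_rel1]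
    show algebraMap (BB r f) (Localization.Away b) _ = _
    rw [map_sum]
    refine Finset.sum_congr rfl fun i _ => ?_
    rw [map_mul]
  have hρu : G (vy i₀) * ρ₀ u = 1 := by
    rw [← hρ₀X, ← map_mul, hu, map_one]
  have hGz : G vz = 0 := by
    have h3 : G vz * G (vy i₀) = 0 := by
      show algebraMap (BB r f) _ (gen r f vz) * algebraMap (BB r f) _ (gen r f (vy i₀)) = 0
      rw [← map_mul, gen_rel2, map_zero]
    exact (hyu'.mul_left_eq_zero).mp h3
  have hρ : ∀ x, ρ₀ (ι₀ x) = algebraMap (BB r f) (Localization.Away b) x := by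
    have h3 : ρ₀.comp ι₀.toRingHom = algebraMap (BB r f) (Localization.Away b) := by
      apply ringHom_ext_BB
      · intro α
        show ρ₀ (ι₀ (algebraMap A _ α)) = algebraMap (BB r f) _ (algebraMap A _ α)
        rw [ι₀.commutes, hρ₀A, ← IsScalarTower.algebraMap_apply]
      · intro w
        show ρ₀ (ι₀ (gen r f w)) = G w
        rw [hι₀]
        rcases w with k | i | ⟨i, j⟩ | _
        · exact hρ₀X _
        · exact hρ₀X _
        · show ρ₀ (if i = i₀ then
            u * (FE j - ∑ i' ∈ Finset.univ.erase i₀, XE (vy i') * XE (vt i' j))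
            else XE (vt i j)) = G (vt i j)
          by_cases hi : i = i₀
          · subst hi
            rw [if_pos rfl, map_mul, map_sub, hρF, map_sum,
              ← Finset.add_sum_erase Finset.univ _ (Finset.mem_univ i)]
            have h4 : ∑ x ∈ Finset.univ.erase i, ρ₀ (XE (vy x) * XE (vt x j)) =
                ∑ x ∈ Finset.univ.erase i, G (vy x) * G (vt x j) :=
              Finset.sum_congr rfl fun x _ => by rw [map_mul, hρ₀X, hρ₀X]
            rw [h4, add_sub_cancel_right, ← mul_assoc, mul_comm (ρ₀ u), hρu, one_mul]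
          · rw [if_neg hi]
            exact hρ₀X _
        · show ρ₀ 0 = G vz
          rw [map_zero, hGz]
    intro x
    exact RingHom.congr_fun h3 x
  have hunit : IsUnit ((ι₀.restrictScalars R) b) := by
    show IsUnit (ι₀ b)
    rw [hb, map_mul, ι₀.commutes, hι₀]
    refine IsUnit.mul ?_ hyu
    rw [IsScalarTower.algebraMap_apply A (Localization.Away a) E]
    exact (IsLocalization.Away.algebraMap_isUnit a).map _
  exact formallySmooth_away_of_retract (R := R) b (ι₀.restrictScalars R) hunit ρ₀ hρ

end PartII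

section PartI

variable {R C : Type u} [CommRing R] [Algebra R A] [CommRing C] [Algebra A C] [Algebra R C]
  [IsScalarTower R A C] (πC : MvPolynomial (Fin n) A →ₐ[A] C) (hπC : Function.Surjective πC)
  (hker : RingHom.ker πC.toRingHom = Ideal.span (Set.range f)) (dh : MvPolynomial (Fin n) A)

include hπC hker in
theorem smooth_z [Algebra.FormallySmooth R (Localization.Away (πC dh))] :
    Algebra.FormallySmooth R (Localization.Away
      (gen r f vz * Ideal.Quotient.mk (Ideal.span (Set.range (rel r f))) (rename vx dh))) := by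
  classical
  set d : C := πC dh with hd
  let P := MvPolynomial (Option (Fin r × Fin m)) (Localization.Away d)
  let E := Localization.Away (X none : P)
  haveI : Algebra.FormallySmooth R P := Algebra.FormallySmooth.comp R (Localization.Away d) P
  haveI : Algebra.FormallySmooth R E := inferInstance
  have hzu : IsUnit (algebraMap P E (X none)) := IsLocalization.Away.algebraMap_isUnit _
  have hπf : ∀ j, πC (f j) = 0 := by
    intro j
    have : f j ∈ RingHom.ker πC.toRingHom := by
      rw [hker]; exact Ideal.subset_span ⟨j, rfl⟩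
    exact this
  have hπa : ∀ p : MvPolynomial (Fin n) A, aeval (fun k => πC (X k)) p = πC p := by
    intro p
    conv_rhs => rw [aeval_unique πC]
    rfl
  let v : V n m r → E := mkV (fun k => algebraMap C E (πC (X k))) (fun _ => 0)
    (fun i j => algebraMap P E (X (some (i, j)))) (algebraMap P E (X none))
  have h1 : ∀ j, aeval (fun k => v (vx k)) (f j) = ∑ i, v (vy i) * v (vt i j) := by
    intro j
    show aeval (fun k => algebraMap C E (πC (X k))) (f j) = ∑ i, 0 * _
    have h3 : (fun k => algebraMap C E (πC (X k))) =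
        fun k => (IsScalarTower.toAlgHom A C E) (πC (X k)) := rfl
    rw [h3, ← comp_aeval_apply, hπa, hπf, map_zero]
    simp
  have h2 : ∀ i, v vz * v (vy i) = 0 := fun i => mul_zero _
  let ι₀ : BB r f →ₐ[A] E := liftB r f v h1 h2
  have hι₀ : ∀ w, ι₀ (gen r f w) = v w := fun w => liftB_gen r f v h1 h2 w
  set dt : BB r f := Ideal.Quotient.mk (Ideal.span (Set.range (rel r f))) (rename vx dh) with hdt
  set b : BB r f := gen r f vz * dt with hb
  have hbu : IsUnit (algebraMap (BB r f) (Localization.Away b) b) :=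
    IsLocalization.Away.algebraMap_isUnit b
  have hzu' : IsUnit (algebraMap (BB r f) (Localization.Away b) (gen r f vz)) := by
    rw [hb, map_mul] at hbu
    exact isUnit_of_mul_isUnit_left hbu
  have hdu' : IsUnit (algebraMap (BB r f) (Localization.Away b) dt) := by
    rw [hb, map_mul] at hbu
    exact isUnit_of_mul_isUnit_right hbu
  let G : V n m r → Localization.Away b := fun w => algebraMap (BB r f) _ (gen r f w)
  have hGy : ∀ i, G (vy i) = 0 := by
    intro i
    have h3 : G vz * G (vy i) = 0 := by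
      show algebraMap (BB r f) _ (gen r f vz) * algebraMap (BB r f) _ (gen r f (vy i)) = 0
      rw [← map_mul, gen_rel2, map_zero]
    exact (hzu'.mul_right_eq_zero).mp h3
  let ev : MvPolynomial (Fin n) A →ₐ[A] Localization.Away b := aeval (fun k => G (vx k))
  have hev : ∀ p, ev p = algebraMap (BB r f) (Localization.Away b)
      (Ideal.Quotient.mk _ (rename vx p)) := by
    intro p
    show aeval (fun k => G (vx k)) p = _
    have h3 : (fun k => G (vx k)) = fun k =>
        (IsScalarTower.toAlgHom A (BB r f) (Localization.Away b)) (gen r f (vx k)) := rfl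
    rw [h3, ← comp_aeval_apply, aeval_gen]
    rfl
  have hle : RingHom.ker πC.toRingHom ≤ RingHom.ker ev.toRingHom := by
    rw [hker, Ideal.span_le]
    rintro _ ⟨j, rfl⟩
    show ev (f j) = 0
    rw [hev, gen_rel1, map_sum]
    refine Finset.sum_eq_zero fun i _ => ?_
    rw [map_mul]
    show G (vy i) * _ = 0
    rw [hGy, zero_mul]
  let κ₀ : C →+* Localization.Away b :=
    RingHom.liftOfSurjective πC.toRingHom hπC ⟨ev.toRingHom, hle⟩
  have hκ₀ : ∀ p, κ₀ (πC p) = ev p := fun p =>
    RingHom.liftOfSurjective_comp_apply πC.toRingHom hπC ⟨ev.toRingHom, hle⟩ p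
  have hκ₀d : IsUnit (κ₀ d) := by
    rw [hd, hκ₀, hev]
    exact hdu'
  let κ : Localization.Away d →+* Localization.Away b := IsLocalization.Away.lift d hκ₀d
  have hκ : ∀ c : C, κ (algebraMap C _ c) = κ₀ c :=
    fun c => IsLocalization.Away.lift_eq d hκ₀d c
  let ρ₁ : P →+* Localization.Away b :=
    eval₂Hom κ (fun o => Option.elim o (G vz) (fun p => G (vt p.1 p.2)))
  have hρ₁n : ρ₁ (X none) = G vz := eval₂_X _ _ _
  have hρ₁s : ∀ i j, ρ₁ (X (some (i, j))) = G (vt i j) := fun i j => eval₂_X _ _ _
  have hρ₁C : ∀ c, ρ₁ (MvPolynomial.C c) = κ c := fun c => eval₂_C _ _ _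
  have hρ₁u : IsUnit (ρ₁ (X none)) := by
    rw [hρ₁n]
    exact hzu'
  let ρ₀ : E →+* Localization.Away b := IsLocalization.Away.lift (X none) hρ₁u
  have hρ₀ : ∀ p : P, ρ₀ (algebraMap P E p) = ρ₁ p :=
    fun p => IsLocalization.Away.lift_eq (X none) hρ₁u p
  have hρ₀C : ∀ c : C, ρ₀ (algebraMap C E c) = κ₀ c := by
    intro c
    rw [IsScalarTower.algebraMap_apply C P E, hρ₀, MvPolynomial.algebraMap_apply, hρ₁C, hκ]
  have hρ : ∀ x, ρ₀ (ι₀ x) = algebraMap (BB r f) (Localization.Away b) x := by
    have h3 : ρ₀.comp ι₀.toRingHom = algebraMap (BB r f) (Localization.Away b) := by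
      apply ringHom_ext_BB
      · intro α
        show ρ₀ (ι₀ (algebraMap A _ α)) = algebraMap (BB r f) _ (algebraMap A _ α)
        rw [ι₀.commutes, IsScalarTower.algebraMap_apply A C E, hρ₀C, ← πC.commutes, hκ₀,
          ev.commutes, ← IsScalarTower.algebraMap_apply]
      · intro w
        show ρ₀ (ι₀ (gen r f w)) = G w
        rw [hι₀]
        rcases w with k | i | ⟨i, j⟩ | _
        · show ρ₀ (algebraMap C E (πC (X k))) = G (vx k)
          rw [hρ₀C, hκ₀]
          exact aeval_X _ _
        · show ρ₀ 0 = G (vy i)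
          rw [map_zero, hGy]
        · show ρ₀ (algebraMap P E (X (some (i, j)))) = G (vt i j)
          rw [hρ₀, hρ₁s]
        · show ρ₀ (algebraMap P E (X none)) = G vz
          rw [hρ₀, hρ₁n]
    intro x
    exact RingHom.congr_fun h3 x
  have hunit : IsUnit ((ι₀.restrictScalars R) b) := by
    show IsUnit (ι₀ b)
    rw [hb, map_mul, hι₀]
    refine IsUnit.mul hzu ?_
    have h3 : ι₀ dt = algebraMap C E d := by
      rw [hdt, ← aeval_gen, comp_aeval_apply]
      have h4 : (fun k => ι₀ (gen r f (vx k))) =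
          fun k => (IsScalarTower.toAlgHom A C E) (πC (X k)) := by
        funext k
        exact hι₀ _
      rw [h4, ← comp_aeval_apply, hπa]
      rfl
    rw [h3, IsScalarTower.algebraMap_apply C (Localization.Away d) E]
    exact (IsLocalization.Away.algebraMap_isUnit d).map _
  exact formallySmooth_away_of_retract (R := R) b (ι₀.restrictScalars R) hunit ρ₀ hρ

end PartI

end Constr

section Main

open TensorProduct in
theorem main {R A Λ Rₚ Λq : Type u} [CommRing R] [IsNoetherianRing R] [CommRing A]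
    [Algebra R A] [Algebra.FinitePresentation R A] [CommRing Λ] [Algebra R Λ] (φ : A →ₐ[R] Λ)
    (𝔮 : Ideal Λ) [𝔮.IsPrime] (hmin : 𝔮 ∈ (Smoothing.singRad R φ).minimalPrimes)
    [CommRing Rₚ] [Algebra R Rₚ] [IsLocalization.AtPrime Rₚ (𝔮.comap (algebraMap R Λ))]
    [CommRing Λq] [Algebra Λ Λq] [IsLocalization.AtPrime Λq 𝔮] [Algebra R Λq]
    [IsScalarTower R Λ Λq] [Algebra Rₚ Λq] [IsScalarTower R Rₚ Λq] (hdim : ringKrullDim Λq = 0)
    (hres : Smoothing.Resolvable Rₚ
      (Algebra.TensorProduct.lift (Algebra.ofId Rₚ Λq) ((IsScalarTower.toAlgHom R Λ Λq).comp φ)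
        (fun _ _ => Commute.all _ _) : Rₚ ⊗[R] A →ₐ[Rₚ] Λq) (𝔮.map (algebraMap Λ Λq))) :
    Smoothing.Resolvable R φ 𝔮 := by
  classical
  obtain ⟨C, _, _, hCfp, g, h, hgh, hnot⟩ := Groth.Agent.Lib.T2H8.DelocA.main φ 𝔮 hres
  obtain ⟨d, hdH, hdq⟩ : ∃ d ∈ Smoothing.singularIdeal R C, h d ∉ 𝔮 := by
    rw [Ideal.map_le_iff_le_comap, SetLike.not_le_iff_exists] at hnot
    exact hnot
  letI algAC : Algebra A C := g.toRingHom.toAlgebra
  haveI t1 : IsScalarTower R A C := IsScalarTower.of_algebraMap_eq (fun x => (g.commutes x).symm)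
  letI algAΛ : Algebra A Λ := φ.toRingHom.toAlgebra
  haveI t2 : IsScalarTower R A Λ := IsScalarTower.of_algebraMap_eq (fun x => (φ.commutes x).symm)
  let hA : C →ₐ[A] Λ :=
    { toRingHom := h.toRingHom
      commutes' := fun x => AlgHom.congr_fun hgh x }
  haveI fpAC : Algebra.FinitePresentation A C :=
    Algebra.FinitePresentation.of_restrict_scalars_finitePresentation R A C
  obtain ⟨n, πC, hπC, hfg⟩ := Algebra.FinitePresentation.out (R := A) (A := C)
  obtain ⟨m, f, hf⟩ := Submodule.fg_iff_exists_fin_generating_family.mp hfg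
  have hker : RingHom.ker πC.toRingHom = Ideal.span (Set.range f) := hf.symm
  obtain ⟨dh, hdh⟩ := hπC d
  haveI : IsNoetherianRing A := Algebra.FiniteType.isNoetherianRing R A
  obtain ⟨r, a, ha⟩ := Submodule.fg_iff_exists_fin_generating_family.mp
    (IsNoetherian.noetherian (Smoothing.singularIdeal R A))
  have haH : ∀ i, a i ∈ Smoothing.singularIdeal R A := fun i => by
    rw [← ha]; exact Ideal.subset_span ⟨i, rfl⟩
  -- nilpotency
  haveI : IsLocalRing Λq := IsLocalization.AtPrime.isLocalRing Λq 𝔮
  haveI : Ring.KrullDimLE 0 Λq := ringKrullDimZero_iff_ringKrullDim_eq_zero.mpr hdim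
  have haq : ∀ i, φ (a i) ∈ 𝔮 := by
    intro i
    refine hmin.1.2 ?_
    exact Ideal.le_radical (Ideal.mem_map_of_mem _ (haH i))
  have hnil : ∀ i, ∃ (N : ℕ) (t : 𝔮.primeCompl), (t : Λ) * φ (a i) ^ N = 0 := by
    intro i
    have h1 : algebraMap Λ Λq (φ (a i)) ∈ IsLocalRing.maximalIdeal Λq :=
      (IsLocalization.AtPrime.to_map_mem_maximal_iff Λq 𝔮 _).mpr (haq i)
    obtain ⟨N, hN⟩ := Ring.KrullDimLE.isNilpotent_iff_mem_maximalIdeal.mpr h1
    rw [← map_pow] at hN
    exact ⟨N, (IsLocalization.map_eq_zero_iff 𝔮.primeCompl Λq _).mp hN⟩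
  choose Ni t ht using hnil
  set N : ℕ := ∑ i, Ni i with hN
  set l : Λ := ∏ i, (t i : Λ) with hl
  have hlq : l ∉ 𝔮 := by
    have : l ∈ 𝔮.primeCompl := by
      rw [hl]
      exact Submonoid.prod_mem _ fun i _ => (t i).2
    exact this
  have hlN : ∀ i, l * φ (a i) ^ N = 0 := by
    intro i
    have h1 : Ni i ≤ N := by
      rw [hN]
      exact Finset.single_le_sum (f := Ni) (fun _ _ => Nat.zero_le _) (Finset.mem_univ i)
    rw [hl, ← Finset.mul_prod_erase Finset.univ _ (Finset.mem_univ i),
      ← Nat.sub_add_cancel h1, pow_add]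
    have h2 : ((t i : Λ) * ∏ x ∈ Finset.univ.erase i, (t x : Λ)) *
          (φ (a i) ^ (N - Ni i) * φ (a i) ^ Ni i)
        = ((t i : Λ) * φ (a i) ^ Ni i) *
          ((∏ x ∈ Finset.univ.erase i, (t x : Λ)) * φ (a i) ^ (N - Ni i)) := by ring
    rw [h2, ht i, zero_mul]
  -- the map to Λ
  have hπf : ∀ j, πC (f j) = 0 := by
    intro j
    have : f j ∈ RingHom.ker πC.toRingHom := by
      rw [hker]; exact Ideal.subset_span ⟨j, rfl⟩
    exact this
  have hπa : ∀ p : MvPolynomial (Fin n) A, aeval (fun k => πC (X k)) p = πC p := by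
    intro p
    conv_rhs => rw [aeval_unique πC]
    rfl
  have hhA : ∀ p : MvPolynomial (Fin n) A, aeval (fun k => hA (πC (X k))) p = hA (πC p) := by
    intro p
    rw [← comp_aeval_apply, hπa]
  let vΛ : V n m r → Λ := mkV (fun k => hA (πC (X k))) (fun i => φ (a i) ^ N) (fun _ _ => 0) l
  have h1 : ∀ j, aeval (fun k => vΛ (vx k)) (f j) = ∑ i, vΛ (vy i) * vΛ (vt i j) := by
    intro j
    show aeval (fun k => hA (πC (X k))) (f j) = ∑ i, φ (a i) ^ N * 0
    rw [hhA, hπf, map_zero]
    simp
  have h2 : ∀ i, vΛ vz * vΛ (vy i) = 0 := fun i => hlN i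
  let χ : BB r f →ₐ[A] Λ := liftB r f vΛ h1 h2
  have hχ : ∀ w, χ (gen r f w) = vΛ w := fun w => liftB_gen r f vΛ h1 h2 w
  haveI fpB : Algebra.FinitePresentation A (BB r f) := finitePresentation_BB r f
  haveI fpRB : Algebra.FinitePresentation R (BB r f) :=
    Algebra.FinitePresentation.trans R A (BB r f)
  -- part (i)
  have hb₁ : gen r f vz * Ideal.Quotient.mk (Ideal.span (Set.range (rel r f))) (rename vx dh) ∈
      Smoothing.singularIdeal R (BB r f) := by
    apply mem_singularIdeal_of_formallySmooth_away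
    haveI : Algebra.FormallySmooth R (Localization.Away (πC dh)) := by
      rw [hdh]
      exact formallySmooth_away_of_mem d hdH
    exact smooth_z r f πC hπC hker dh
  have hχb₁ : χ (gen r f vz *
      Ideal.Quotient.mk (Ideal.span (Set.range (rel r f))) (rename vx dh)) = l * h d := by
    rw [map_mul, hχ, ← aeval_gen, comp_aeval_apply]
    have h3 : (fun k => χ (gen r f (vx k))) = fun k => hA (πC (X k)) := by
      funext k
      exact hχ _
    rw [h3, hhA, hdh]
    rfl
  -- part (ii)
  have hb₂ : ∀ i, algebraMap A (BB r f) (a i) * gen r f (vy i) ∈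
      Smoothing.singularIdeal R (BB r f) := by
    intro i
    apply mem_singularIdeal_of_formallySmooth_away
    haveI : Algebra.FormallySmooth R (Localization.Away (a i)) :=
      formallySmooth_away_of_mem (a i) (haH i)
    exact smooth_y r f (a i) i
  have hχb₂ : ∀ i, χ (algebraMap A (BB r f) (a i) * gen r f (vy i)) = φ (a i) ^ (N + 1) := by
    intro i
    rw [map_mul, χ.commutes, hχ, pow_succ']
    rfl
  refine ⟨BB r f, inferInstance, inferInstance, fpRB, IsScalarTower.toAlgHom R A (BB r f),
    χ.restrictScalars R, ?_, ?_, ?_⟩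
  · ext x
    show χ (algebraMap A (BB r f) x) = φ x
    rw [χ.commutes]
    rfl
  · unfold Smoothing.singRad
    rw [Ideal.radical_le_radical_iff, Ideal.map_le_iff_le_comap, ← ha, Ideal.span_le]
    rintro _ ⟨i, rfl⟩
    show φ (a i) ∈ Ideal.radical _
    refine ⟨N + 1, ?_⟩
    rw [← hχb₂ i]
    exact Ideal.mem_map_of_mem (χ.restrictScalars R) (hb₂ i)
  · intro hle
    have h3 : l * h d ∈ 𝔮 := by
      rw [← hχb₁]
      exact hle (Ideal.le_radical (Ideal.mem_map_of_mem (χ.restrictScalars R) hb₁))
    rcases Ideal.IsPrime.mem_or_mem inferInstance h3 with h4 | h4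
    · exact hlq h4
    · exact hdq h4

end Main

end Groth.Agent.Lib.T2H8.DimZero
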