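import Mathlib
import Groth.Prelude.Def_Smoothing

/-!
# Desingularization lemma: general lemmas (helper8)

Taylor expansion for the substitution `x = r + π² w`, chain rule, the relations `g_j`, the matrix
`N` with `M N = (∑ a_I Δ_I) • 1`, a flatness lemma on annihilators and a determinant trick.
-/

set_option autoImplicit false

namespace Groth.Agent.Lib.T2H8.DesingA

open MvPolynomial

universe u

section Taylor

variable {R : Type u} [CommRing R] {n c : ℕ} (π : R) (r : Fin n → R)
  (N : Matrix (Fin n) (Fin c) R)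

/-- the variables `z_1..z_c` (first) -/
noncomputable def zv (R : Type u) [CommRing R] (n : ℕ) {c : ℕ} (k : Fin c) :
    MvPolynomial (Fin (c + n)) R := X (Fin.castAdd n k)

/-- the variables `y_1..y_n` (last) -/
noncomputable def yv (R : Type u) [CommRing R] {n : ℕ} (c : ℕ) (i : Fin n) :
    MvPolynomial (Fin (c + n)) R := X (Fin.natAdd c i)

/-- `w_i = π y_i + ∑ N_ik z_k` -/
noncomputable def wv (i : Fin n) : MvPolynomial (Fin (c + n)) R :=
  C π * yv R c i + ∑ k, C (N i k) * zv R n k

/-- the substitution `x_i = r_i + π² w_i` -/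
noncomputable def Phi : MvPolynomial (Fin n) R →ₐ[R] MvPolynomial (Fin (c + n)) R :=
  aeval (fun i => C (r i) + C (π ^ 2) * wv π N i)

theorem Phi_X (l : Fin n) : Phi π r N (X l) = C (r l) + C (π ^ 2) * wv π N l := by
  simp [Phi]

theorem Phi_C (a : R) : Phi π r N (C a) = C a := by
  simp [Phi]

theorem taylor (p : MvPolynomial (Fin n) R) : ∃ T : MvPolynomial (Fin (c + n)) R,
    Phi π r N p = C (eval r p) + C (π ^ 2) * ∑ i, C (eval r (pderiv i p)) * wv π N i
      + C (π ^ 4) * T := by
  induction p using MvPolynomial.induction_on with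
  | C a => exact ⟨0, by simp [Phi_C]⟩
  | add p q hp hq =>
    obtain ⟨T1, h1⟩ := hp
    obtain ⟨T2, h2⟩ := hq
    refine ⟨T1 + T2, ?_⟩
    rw [map_add, h1, h2]
    simp only [map_add, add_mul, Finset.sum_add_distrib]
    ring
  | mul_X p l hp =>
    obtain ⟨T, hT⟩ := hp
    refine ⟨(∑ i, C (eval r (pderiv i p)) * wv π N i) * wv π N l +
      T * (C (r l) + C (π ^ 2) * wv π N l), ?_⟩
    rw [map_mul, hT, Phi_X]
    have h1 : ∀ i, eval r (pderiv i (p * X l)) =
        eval r p * (if i = l then 1 else 0) + r l * eval r (pderiv i p) := by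
      intro i
      rw [Derivation.leibniz, pderiv_X, Pi.single_apply]
      by_cases h : i = l
      · subst h; simp
      · rw [if_neg h, if_neg (fun e => h e.symm)]; simp
    have h2 : ∑ i, C (eval r (pderiv i (p * X l))) * wv π N i =
        C (eval r p) * wv π N l + C (r l) * ∑ i, C (eval r (pderiv i p)) * wv π N i := by
      simp_rw [h1]
      simp only [map_add, map_mul, add_mul, Finset.sum_add_distrib, Finset.mul_sum]
      congr 1
      · simp [Finset.sum_ite_eq']
      · refine Finset.sum_congr rfl fun i _ => by ring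
    rw [h2]
    simp only [map_mul, eval_X, map_pow]
    ring

theorem pderiv_natAdd_wv (i l : Fin n) :
    pderiv (Fin.natAdd c i) (wv π N l) = if i = l then C π else 0 := by
  unfold wv yv zv
  simp only [map_add, map_sum, Derivation.leibniz, pderiv_C, pderiv_X, smul_zero, add_zero,
    Pi.single_apply]
  have h1 : ∀ k : Fin c, ¬ (Fin.castAdd n k = Fin.natAdd c i) := by
    intro k h
    have := congrArg Fin.val h
    simp at this
    omega
  simp only [h1, if_false, smul_zero, Finset.sum_const_zero, add_zero]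
  by_cases h : i = l
  · subst h; simp
  · rw [if_neg h, if_neg]
    · simp
    · intro h'
      exact h (Fin.natAdd_injective _ _ h').symm

theorem pderiv_Phi (i : Fin n) (p : MvPolynomial (Fin n) R) :
    pderiv (Fin.natAdd c i) (Phi π r N p) = C (π ^ 3) * Phi π r N (pderiv i p) := by
  induction p using MvPolynomial.induction_on with
  | C a => simp [Phi_C]
  | add p q hp hq => rw [map_add, map_add, hp, hq, map_add, map_add, mul_add]
  | mul_X p l hp =>
    have e1 : pderiv (Fin.natAdd c i) (C (r l) + C (π ^ 2) * wv π N l) =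
        C (π ^ 2) * (if i = l then C π else 0) := by
      rw [map_add, pderiv_C, zero_add, Derivation.leibniz, pderiv_C, pderiv_natAdd_wv]
      simp
    have e2 : pderiv i (p * X l) = p * (if i = l then 1 else 0) + X l * pderiv i p := by
      rw [Derivation.leibniz, pderiv_X, Pi.single_apply]
      simp [eq_comm]
    rw [map_mul, Derivation.leibniz, hp, Phi_X, e1, e2]
    simp only [smul_eq_mul, map_mul, map_add, Phi_X]
    by_cases h : i = l
    · subst h
      simp only [if_true, map_one, map_pow]
      ring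
    · rw [if_neg h, if_neg h]
      simp only [map_zero, map_pow]
      ring

end Taylor

section G

variable {R : Type u} [CommRing R] {n m c : ℕ} (hcm : c ≤ m) (π : R) (r : Fin n → R)
  (N : Matrix (Fin n) (Fin c) R) (f : Fin m → MvPolynomial (Fin n) R) (s : Fin m → R) (u₀ : R)
  (T : Fin c → MvPolynomial (Fin (c + n)) R)

/-- the relations `g_j` -/
noncomputable def gv (j : Fin c) : MvPolynomial (Fin (c + n)) R :=
  C (π * s (Fin.castLE hcm j)) +
    ∑ i, C (eval r (pderiv i (f (Fin.castLE hcm j)))) * yv R c i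
    + C u₀ * zv R n j + C π * T j

theorem Phi_eq_gv (hs : ∀ j, eval r (f j) = π ^ 4 * s j)
    (hN : ∀ j k : Fin c, ∑ i, eval r (pderiv i (f (Fin.castLE hcm j))) * N i k =
      if j = k then π * u₀ else 0)
    (hT : ∀ j : Fin c, Phi π r N (f (Fin.castLE hcm j)) = C (eval r (f (Fin.castLE hcm j))) +
      C (π ^ 2) * ∑ i, C (eval r (pderiv i (f (Fin.castLE hcm j)))) * wv π N i + C (π ^ 4) * T j)
    (j : Fin c) :
    Phi π r N (f (Fin.castLE hcm j)) = C (π ^ 3) * gv hcm π r f s u₀ T j := by
  rw [hT j, hs]
  have key : ∑ i, C (eval r (pderiv i (f (Fin.castLE hcm j)))) * ∑ k, C (N i k) * zv R n k =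
      C (π * u₀) * zv R n j := by
    simp_rw [Finset.mul_sum]
    rw [Finset.sum_comm]
    have h1 : ∀ k : Fin c, ∑ i, C (eval r (pderiv i (f (Fin.castLE hcm j)))) *
        (C (N i k) * zv R n k) = C (if j = k then π * u₀ else 0) * zv R n k := by
      intro k
      rw [← hN j k, map_sum, Finset.sum_mul]
      refine Finset.sum_congr rfl fun i _ => ?_
      rw [map_mul]
      ring
    simp_rw [h1]
    rw [Finset.sum_eq_single j]
    · rw [if_pos rfl]
    · intro k _ hk
      rw [if_neg (fun e => hk e.symm), map_zero, zero_mul]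
    · intro h; exact absurd (Finset.mem_univ j) h
  have h2 : ∑ i, C (eval r (pderiv i (f (Fin.castLE hcm j)))) * wv π N i =
      C π * ∑ i, C (eval r (pderiv i (f (Fin.castLE hcm j)))) * yv R c i +
        C (π * u₀) * zv R n j := by
    rw [← key, Finset.mul_sum, ← Finset.sum_add_distrib]
    refine Finset.sum_congr rfl fun i _ => ?_
    unfold wv
    ring
  rw [h2]
  unfold gv
  simp only [map_mul, map_pow]
  ring

theorem pderiv_castAdd_gv (hu : u₀ - 1 ∈ Ideal.span {π}) (j k : Fin c) :
    pderiv (Fin.castAdd n k) (gv hcm π r f s u₀ T j) - (if j = k then 1 else 0) ∈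
      Ideal.span {(C π : MvPolynomial (Fin (c + n)) R)} := by
  obtain ⟨e, he⟩ := Ideal.mem_span_singleton'.mp hu
  have h1 : ∀ i : Fin n, ¬ (Fin.natAdd c i = Fin.castAdd n k) := by
    intro i h
    have := congrArg Fin.val h
    simp at this
    omega
  have h3 : pderiv (Fin.castAdd n k) (gv hcm π r f s u₀ T j) =
      C u₀ * (if j = k then 1 else 0) + C π * pderiv (Fin.castAdd n k) (T j) := by
    unfold gv yv zv
    simp only [map_add, map_sum, Derivation.leibniz, pderiv_C, pderiv_X, Pi.single_apply, h1,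
      if_false, smul_eq_mul, mul_zero, add_zero, zero_add, Finset.sum_const_zero]
    congr 2
    by_cases h : j = k
    · subst h; simp
    · rw [if_neg h, if_neg]
      intro h'
      exact h (Fin.castAdd_injective _ _ h')
  rw [h3]
  have h4 : C u₀ * (if j = k then (1 : MvPolynomial (Fin (c + n)) R) else 0) +
      C π * pderiv (Fin.castAdd n k) (T j) - (if j = k then 1 else 0) =
      C π * (C e * (if j = k then 1 else 0) + pderiv (Fin.castAdd n k) (T j)) := by
    have : (C u₀ : MvPolynomial (Fin (c + n)) R) = 1 + C e * C π := by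
      rw [← map_mul, he, map_sub, map_one]; ring
    rw [this]; ring
  rw [h4]
  exact Ideal.mul_mem_right _ _ (Ideal.subset_span rfl)

theorem Phi_mem_span (p : MvPolynomial (Fin n) R) (hp : eval r p ∈ Ideal.span {π ^ 4}) :
    Phi π r N p ∈ Ideal.span {(C (π ^ 2) : MvPolynomial (Fin (c + n)) R)} := by
  obtain ⟨T, hT⟩ := taylor π r N p
  obtain ⟨e, he⟩ := Ideal.mem_span_singleton'.mp hp
  rw [hT, ← he]
  rw [Ideal.mem_span_singleton']
  refine ⟨C (e * π ^ 2) + ∑ i, C (eval r (pderiv i p)) * wv π N i + C (π ^ 2) * T, ?_⟩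
  simp only [map_mul, map_pow]
  ring

end G

section Mat

variable {R : Type u} [CommRing R] {n c : ℕ}

theorem exists_N (Mc : Matrix (Fin c) (Fin n) R) (a : (Fin c → Fin n) → R) :
    ∃ N : Matrix (Fin n) (Fin c) R,
      Mc * N = (∑ cols, a cols * (Mc.submatrix id cols).det) • (1 : Matrix (Fin c) (Fin c) R) := by
  classical
  let E : (Fin c → Fin n) → Matrix (Fin n) (Fin c) R := fun cols =>
    (1 : Matrix (Fin n) (Fin n) R).submatrix id cols
  have hE : ∀ cols, Mc * E cols = Mc.submatrix id cols := by
    intro cols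
    ext j k
    simp [E, Matrix.mul_apply, Matrix.one_apply]
  refine ⟨∑ cols, a cols • (E cols * (Mc.submatrix id cols).adjugate), ?_⟩
  rw [Matrix.mul_sum, Finset.sum_smul]
  refine Finset.sum_congr rfl fun cols _ => ?_
  rw [Matrix.mul_smul, ← Matrix.mul_assoc, hE, Matrix.mul_adjugate, smul_smul]

end Mat

section Misc

theorem flat_smul_eq_zero {R M : Type*} [CommRing R] [AddCommGroup M] [Module R M]
    [Module.Flat R M] (a b : R) (hab : ∀ a' : R, a * a' = 0 → b * a' = 0) (x : M)
    (hx : a • x = 0) : b • x = 0 := by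
  have h : ∑ i : Fin 1, (fun _ => a) i • (fun _ => x) i = 0 := by simpa using hx
  obtain ⟨k, A, y, h1, h2⟩ := Module.Flat.isTrivialRelation_of_sum_smul_eq_zero h
  have h3 := h1 0
  simp only at h3
  rw [h3, Finset.smul_sum]
  refine Finset.sum_eq_zero fun j _ => ?_
  have h4 := h2 j
  rw [Fin.sum_univ_one] at h4
  rw [smul_smul, hab _ h4, zero_smul]

theorem exists_kill' {C : Type*} [CommRing C] (J : Ideal C) (hJ : J.FG) (I : Ideal C) (b : C)
    (hb : ∀ y ∈ J, b * y ∈ I * J) :
    ∃ (h : C) (d : ℕ), h - b ^ d ∈ I ∧ ∀ y ∈ J, h * y = 0 := by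
  have : Module.Finite C J := Module.Finite.iff_fg.mpr hJ
  let f : Module.End C J := algebraMap C (Module.End C J) b
  have hrange : LinearMap.range f ≤ I • (⊤ : Submodule C J) := by
    rintro _ ⟨y, rfl⟩
    rw [Submodule.mem_smul_top_iff]
    simpa [f] using hb y y.2
  obtain ⟨p, hpm, -, hcoeff, hp⟩ :=
    LinearMap.exists_monic_and_natDegree_eq_and_coeff_mem_pow_and_aeval_eq_zero C f I hrange
  refine ⟨p.eval b, p.natDegree, ?_, ?_⟩
  · rw [Polynomial.eval_eq_sum_range, Finset.sum_range_succ, hpm.coeff_natDegree, one_mul,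
      add_sub_cancel_right]
    refine I.sum_mem fun i hi => I.mul_mem_right _ (Ideal.pow_le_self ?_ (hcoeff i))
    have := Finset.mem_range.mp hi
    omega
  · intro y hy
    have h1 : Polynomial.aeval f p = algebraMap C (Module.End C J) (p.eval b) := by
      rw [Polynomial.aeval_algebraMap_apply]
      simp
    rw [h1] at hp
    have h2 := congrArg (fun g : Module.End C J => (g ⟨y, hy⟩ : C)) hp
    simpa using h2

end Misc

end Groth.Agent.Lib.T2H8.DesingA
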