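import Mathlib
import Groth.Prelude.Def_Smoothing
import Groth.Agent.Lib.T2H7StdElt
import Groth.Agent.Lib.T2H8DesingA
import Groth.Agent.S2032

/-!
# Desingularization lemma: smoothness of the algebra `B` (helper8)

`B = R[z,y]/(Φ f_1..Φ f_m, g_1..g_c)` with `Φ f_j = π³ g_j` for `j ≤ c`: primes not containing `π`
are smooth points (`π^{3c+4}` is strictly standard), primes containing `π` but not `r₀` are smooth
points (flatness + determinant trick).
-/

set_option autoImplicit false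

namespace Groth.Agent.Lib.T2H8.DesingB

open MvPolynomial

universe u

section Smooth

variable {R : Type u} [CommRing R] {n m c : ℕ} (hcm : c ≤ m) (π : R)
  (f : Fin m → MvPolynomial (Fin n) R)
  (Φ : MvPolynomial (Fin n) R →ₐ[R] MvPolynomial (Fin (c + n)) R)
  (g : Fin c → MvPolynomial (Fin (c + n)) R)

/-- the relations of `B` -/
noncomputable def relB : Fin (m + c) → MvPolynomial (Fin (c + n)) R := Fin.append (Φ ∘ f) g

/-- the algebra `B` -/
abbrev BB : Type u := MvPolynomial (Fin (c + n)) R ⧸ Ideal.span (Set.range (relB f Φ g))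

theorem relB_castAdd (j : Fin m) : relB f Φ g (Fin.castAdd c j) = Φ (f j) := by
  unfold relB; rw [Fin.append_left]; rfl

theorem relB_natAdd (k : Fin c) : relB f Φ g (Fin.natAdd m k) = g k := by
  unfold relB; rw [Fin.append_right]

theorem relB_castLE (h : c ≤ m + c) (j : Fin c) :
    relB f Φ g (Fin.castLE h j) = Φ (f (Fin.castLE hcm j)) := by
  have : Fin.castLE h j = Fin.castAdd c (Fin.castLE hcm j) := Fin.ext rfl
  rw [this, relB_castAdd]

theorem range_relB : Set.range (relB f Φ g) = Set.range (Φ ∘ f) ∪ Set.range g := by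
  ext x
  constructor
  · rintro ⟨j, rfl⟩
    induction j using Fin.addCases with
    | left j => exact Or.inl ⟨j, (relB_castAdd f Φ g j).symm⟩
    | right k => exact Or.inr ⟨k, (relB_natAdd f Φ g k).symm⟩
  · rintro (⟨j, rfl⟩ | ⟨k, rfl⟩)
    · exact ⟨Fin.castAdd c j, relB_castAdd f Φ g j⟩
    · exact ⟨Fin.natAdd m k, relB_natAdd f Φ g k⟩

theorem map_span_le : Ideal.map Φ (Ideal.span (Set.range f)) ≤
    Ideal.span (Set.range (relB f Φ g)) := by
  rw [Ideal.map_span, ← Set.range_comp, range_relB]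
  exact Ideal.span_mono Set.subset_union_left

/-- the marked presentation of `B` with leading relations `Φ f_1, …, Φ f_c` -/
noncomputable def MPB : Smoothing.MarkedPresentation R (BB f Φ g) where
  n := c + n
  m := m + c
  c := c
  hcn := Nat.le_add_right c n
  hcm := le_trans hcm (Nat.le_add_right m c)
  rel := relB f Φ g
  hom := Ideal.Quotient.mkₐ R _
  surj := Ideal.Quotient.mkₐ_surjective R _
  ker_eq := by
    show RingHom.ker (Ideal.Quotient.mk _) = _
    exact Ideal.mk_ker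

theorem minor_eq (hchain : ∀ i p, pderiv (Fin.natAdd c i) (Φ p) = C (π ^ 3) * Φ (pderiv i p))
    (h : c ≤ m + c) (cols : Fin c → Fin n) :
    Smoothing.jacobianMinor (relB f Φ g) (Fin.castLE h) (fun k => Fin.natAdd c (cols k)) =
      C (π ^ (3 * c)) * Φ (Smoothing.jacobianMinor f (Fin.castLE hcm) cols) := by
  unfold Smoothing.jacobianMinor
  have h1 : (Matrix.of fun j k : Fin c =>
      pderiv (Fin.natAdd c (cols k)) (relB f Φ g (Fin.castLE h j))) =
      (C (π ^ 3) : MvPolynomial (Fin (c + n)) R) • Φ.mapMatrix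
        (Matrix.of fun j k : Fin c => pderiv (cols k) (f (Fin.castLE hcm j))) := by
    ext j k
    simp [relB_castLE hcm f Φ g h, hchain]
  rw [h1, Matrix.det_smul, ← AlgHom.map_det, Fintype.card_fin, ← map_pow, ← pow_mul]

include hcm in
theorem isSmoothAt_of_not_mem
    (hg : ∀ j : Fin c, Φ (f (Fin.castLE hcm j)) = C (π ^ 3) * g j)
    (hkill : ∀ j : Fin m, c ≤ (j : ℕ) → C π * f j ∈
      Ideal.span (f '' {j' : Fin m | (j' : ℕ) < c}) ⊔ Ideal.span (Set.range f) ^ 2)
    (ã : (Fin c → Fin n) → MvPolynomial (Fin n) R)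
    (hspan : ∑ cols, ã cols * Smoothing.jacobianMinor f (Fin.castLE hcm) cols - C π ∈
      Ideal.span (Set.range f))
    (hchain : ∀ i p, pderiv (Fin.natAdd c i) (Φ p) = C (π ^ 3) * Φ (pderiv i p))
    (𝔓 : Ideal (BB f Φ g)) [𝔓.IsPrime] (h𝔓 : algebraMap R (BB f Φ g) π ∉ 𝔓) :
    Algebra.IsSmoothAt R 𝔓 := by
  set I := Ideal.span (Set.range (relB f Φ g)) with hI
  have hcm' : c ≤ m + c := le_trans hcm (Nat.le_add_right m c)
  have hpow : algebraMap R (BB f Φ g) (π ^ (3 * c + 1 + 3)) ∉ 𝔓 := by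
    rw [map_pow]
    exact fun h => h𝔓 (Ideal.IsPrime.mem_of_pow_mem inferInstance _ h)
  refine Groth.Agent.Lib.T2H7.StdElt.isSmoothAt_of_isStrictlyStandard _
    ⟨MPB hcm f Φ g, ?_, ?_⟩ 𝔓 hpow
  · -- span condition
    have key : (Ideal.Quotient.mk I) (C (π ^ (3 * c + 1))) =
        ∑ cols, (Ideal.Quotient.mk I) (Φ (ã cols)) * (Ideal.Quotient.mk I)
          (Smoothing.jacobianMinor (relB f Φ g) (Fin.castLE hcm')
            (fun k => Fin.natAdd c (cols k))) := by
      simp_rw [minor_eq hcm π f Φ g hchain hcm']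
      simp_rw [← map_mul]
      rw [← map_sum]
      have h2 : ∑ cols, Φ (ã cols) * (C (π ^ (3 * c)) *
          Φ (Smoothing.jacobianMinor f (Fin.castLE hcm) cols)) =
          C (π ^ (3 * c)) * Φ (∑ cols, ã cols * Smoothing.jacobianMinor f (Fin.castLE hcm) cols) := by
        rw [map_sum, Finset.mul_sum]
        refine Finset.sum_congr rfl fun cols _ => ?_
        rw [map_mul]; ring
      rw [h2]
      symm
      rw [Ideal.Quotient.eq]
      have h3 : C (π ^ (3 * c)) * Φ (∑ cols, ã cols *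
          Smoothing.jacobianMinor f (Fin.castLE hcm) cols) - C (π ^ (3 * c + 1)) =
          C (π ^ (3 * c)) * Φ (∑ cols, ã cols *
            Smoothing.jacobianMinor f (Fin.castLE hcm) cols - C π) := by
        rw [map_sub, algHom_C, pow_succ, map_mul, MvPolynomial.algebraMap_eq]
        ring
      rw [h3]
      exact Ideal.mul_mem_left _ _ (map_span_le f Φ g (Ideal.mem_map_of_mem _ hspan))
    have h4 : algebraMap R (BB f Φ g) (π ^ (3 * c + 1 + 3)) =
        (Ideal.Quotient.mk I) (C (π ^ 3)) * (Ideal.Quotient.mk I) (C (π ^ (3 * c + 1))) := by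
      rw [← map_mul, ← map_mul, ← pow_add, add_comm 3]
      rfl
    rw [h4, key]
    refine Ideal.mul_mem_left _ _ (Ideal.sum_mem _ fun cols _ => Ideal.mul_mem_left _ _ ?_)
    exact Ideal.subset_span ⟨fun k => Fin.natAdd c (cols k), rfl⟩
  · -- kills tail
    suffices key : ∀ (a' : MvPolynomial (Fin (c + n)) R),
        (Ideal.Quotient.mk I) a' = algebraMap R (BB f Φ g) (π ^ (3 * c + 1 + 3)) →
        ∀ j : Fin (m + c), c ≤ (j : ℕ) → a' * relB f Φ g j ∈
          Ideal.span (relB f Φ g '' {j' : Fin (m + c) | (j' : ℕ) < c}) ⊔ I ^ 2 from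
      fun a' ha' j hj => key a' ha' j hj
    intro a' ha' j hj
    have h1 : a' - C (π ^ (3 * c + 1 + 3)) ∈ I := by
      rw [← Ideal.Quotient.eq]
      exact ha'
    have h2 : a' * relB f Φ g j = (a' - C (π ^ (3 * c + 1 + 3))) * relB f Φ g j +
        C (π ^ (3 * c + 1)) * (C (π ^ 3) * relB f Φ g j) := by
      rw [pow_add _ (3 * c + 1) 3, map_mul]; ring
    rw [h2]
    refine Ideal.add_mem _ (Ideal.mem_sup_right ?_) (Ideal.mul_mem_left _ _ ?_)
    · rw [pow_two]
      exact Ideal.mul_mem_mul h1 (Ideal.subset_span ⟨j, rfl⟩)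
    · induction j using Fin.addCases with
      | left j₀ =>
        rw [relB_castAdd]
        have hj₀ : c ≤ (j₀ : ℕ) := by simpa using hj
        have h3 := Ideal.mem_map_of_mem Φ.toRingHom (hkill j₀ hj₀)
        rw [Ideal.map_sup, Ideal.map_pow, Ideal.map_span] at h3
        have h4 : C (π ^ 3) * Φ (f j₀) = C (π ^ 2) * Φ.toRingHom (C π * f j₀) := by
          show _ = _ * Φ (C π * f j₀)
          rw [map_mul, algHom_C, pow_succ, map_mul, MvPolynomial.algebraMap_eq]
          ring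
        rw [h4]
        have hle : Ideal.span (Φ.toRingHom '' (f '' {j' : Fin m | (j' : ℕ) < c})) ⊔
            Ideal.map Φ.toRingHom (Ideal.span (Set.range f)) ^ 2 ≤
            Ideal.span (relB f Φ g '' {j' : Fin (m + c) | (j' : ℕ) < c}) ⊔ I ^ 2 := by
          refine sup_le_sup ?_ ?_
          · refine Ideal.span_mono ?_
            rintro _ ⟨_, ⟨j', hj', rfl⟩, rfl⟩
            exact ⟨Fin.castAdd c j', by simpa using hj', relB_castAdd f Φ g j'⟩
          · exact Ideal.pow_right_mono (map_span_le f Φ g) 2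
        exact Ideal.mul_mem_left _ _ (hle h3)
      | right k =>
        rw [relB_natAdd, ← hg k, ← relB_castLE hcm f Φ g hcm']
        exact Ideal.mem_sup_left (Ideal.subset_span ⟨_, by simp, rfl⟩)


theorem span_g_le : Ideal.span (Set.range g) ≤ Ideal.span (Set.range (relB f Φ g)) := by
  rw [range_relB]; exact Ideal.span_mono Set.subset_union_right

theorem span_relB_eq : Ideal.span (Set.range (relB f Φ g)) =
    Ideal.span (Set.range g) ⊔ Ideal.span (Set.range (Φ ∘ f)) := by
  rw [range_relB, Ideal.span_union, sup_comm]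

/-- the `z`-Jacobian determinant of the `g_j` -/
noncomputable def DD : MvPolynomial (Fin (c + n)) R :=
  Matrix.det (Matrix.of fun j k : Fin c => pderiv (Fin.castLE (Nat.le_add_right c n) k) (g j))

theorem DD_sub_one_mem
    (hD : ∀ j k : Fin c, pderiv (Fin.castAdd n k) (g j) - (if j = k then 1 else 0) ∈
      Ideal.span {(C π : MvPolynomial (Fin (c + n)) R)}) :
    DD g - 1 ∈ Ideal.span {(C π : MvPolynomial (Fin (c + n)) R)} := by
  classical
  rw [← Ideal.Quotient.eq, map_one]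
  unfold DD
  rw [RingHom.map_det]
  have : (Ideal.Quotient.mk (Ideal.span {(C π : MvPolynomial (Fin (c + n)) R)})).mapMatrix
      (Matrix.of fun j k : Fin c => pderiv (Fin.castLE (Nat.le_add_right c n) k) (g j)) = 1 := by
    ext j k
    simp only [RingHom.mapMatrix_apply, Matrix.map_apply, Matrix.of_apply, Matrix.one_apply]
    have := (Ideal.Quotient.eq).mpr (hD j k)
    rw [show Fin.castLE (Nat.le_add_right c n) k = Fin.castAdd n k from rfl, this]
    split_ifs <;> simp
  rw [this, Matrix.det_one]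

theorem exists_pow_mul_eq_zero (r₀ : R) (hr₀ : ∀ x : R, π ^ 2 * x = 0 → π * (r₀ * x) = 0)
    (b : MvPolynomial (Fin (c + n)) R ⧸ Ideal.span (Set.range g)) (hb : (π ^ 3) • b = 0) :
    ∃ k : ℕ, (Ideal.Quotient.mk (Ideal.span (Set.range g)) (DD g)) ^ k *
      ((r₀ ^ 2 * π) • b) = 0 := by
  set x := Ideal.Quotient.mk (Ideal.span (Set.range g)) (DD g) with hx
  let T := Localization.Away x
  have hss : Algebra.IsStandardSmooth R T :=
    Groth.Agent.S2032.isStandardSmooth_of_quotient_localization (Nat.le_add_right c n) g x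
      (IsLocalization.Away.algebraMap_isUnit x)
  have hflat : Module.Flat R T := inferInstance
  have hab : ∀ a' : R, π ^ 3 * a' = 0 → r₀ ^ 2 * π * a' = 0 := by
    intro a' ha'
    have h1 := hr₀ (π * a') (by rw [← ha']; ring)
    have h2 := hr₀ (r₀ * a') (by rw [← h1]; ring)
    rw [← h2]; ring
  have h1 : (π ^ 3) • (IsScalarTower.toAlgHom R _ T b) = 0 := by
    rw [← map_smul, hb, map_zero]
  have h2 := Groth.Agent.Lib.T2H8.DesingA.flat_smul_eq_zero (π ^ 3) (r₀ ^ 2 * π) hab _ h1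
  rw [← map_smul] at h2
  obtain ⟨⟨_, k, rfl⟩, hk⟩ := (IsLocalization.map_eq_zero_iff (Submonoid.powers x) T _).mp h2
  exact ⟨k, hk⟩


include hcm in
theorem isSmoothAt_of_mem
    (hg : ∀ j : Fin c, Φ (f (Fin.castLE hcm j)) = C (π ^ 3) * g j)
    (hD : ∀ j k : Fin c, pderiv (Fin.castAdd n k) (g j) - (if j = k then 1 else 0) ∈
      Ideal.span {(C π : MvPolynomial (Fin (c + n)) R)})
    (hΦ2 : ∀ j, Φ (f j) ∈ Ideal.span {(C (π ^ 2) : MvPolynomial (Fin (c + n)) R)})
    (hkill : ∀ j : Fin m, c ≤ (j : ℕ) → C π * f j ∈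
      Ideal.span (f '' {j' : Fin m | (j' : ℕ) < c}) ⊔ Ideal.span (Set.range f) ^ 2)
    (r₀ : R) (hr₀ : ∀ x : R, π ^ 2 * x = 0 → π * (r₀ * x) = 0)
    (𝔓 : Ideal (BB f Φ g)) [𝔓.IsPrime] (hπ𝔓 : algebraMap R (BB f Φ g) π ∈ 𝔓)
    (hr𝔓 : algebraMap R (BB f Φ g) r₀ ∉ 𝔓) :
    Algebra.IsSmoothAt R 𝔓 := by
  classical
  set I := Ideal.span (Set.range (relB f Φ g)) with hI
  set Ig := Ideal.span (Set.range g) with hIg
  have hle : Ig ≤ I := span_g_le f Φ g
  let B' := MvPolynomial (Fin (c + n)) R ⧸ Ig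
  let ψ : B' →ₐ[R] BB f Φ g := Ideal.Quotient.factorₐ R hle
  have hψmk : ∀ q, ψ (Ideal.Quotient.mk Ig q) = Ideal.Quotient.mk I q := fun q => rfl
  have hψsurj : Function.Surjective ψ := fun y => by
    obtain ⟨q, rfl⟩ := Ideal.Quotient.mk_surjective y
    exact ⟨Ideal.Quotient.mk Ig q, hψmk q⟩
  -- the generators of the kernel
  let F : Fin m → B' := fun j => Ideal.Quotient.mk Ig (Φ (f j))
  set 𝔞 : Ideal B' := Ideal.span (Set.range F) with h𝔞
  have h𝔞map : 𝔞 = Ideal.map (Ideal.Quotient.mk Ig) (Ideal.span (Set.range (Φ ∘ f))) := by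
    rw [Ideal.map_span, ← Set.range_comp]; rfl
  have hψker : ∀ b : B', ψ b = 0 → b ∈ 𝔞 := by
    intro b hb
    obtain ⟨q, rfl⟩ := Ideal.Quotient.mk_surjective b
    rw [hψmk, Ideal.Quotient.eq_zero_iff_mem, hI, span_relB_eq] at hb
    have := Ideal.mem_map_of_mem (Ideal.Quotient.mk Ig) hb
    rw [Ideal.map_sup, Ideal.map_quotient_self, bot_sup_eq, ← h𝔞map] at this
    exact this
  have h𝔞fg : 𝔞.FG := Submodule.fg_span (Set.finite_range _)
  set πB : B' := algebraMap R B' π with hπB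
  have hπBmk : πB = Ideal.Quotient.mk Ig (C π) := rfl
  -- (a) the kernel lies in π² B'
  have hFa : 𝔞 ≤ Ideal.span {πB ^ 2} := by
    rw [h𝔞, Ideal.span_le]
    rintro _ ⟨j, rfl⟩
    have := Ideal.mem_map_of_mem (Ideal.Quotient.mk Ig) (hΦ2 j)
    rw [Ideal.map_span, Set.image_singleton, map_pow] at this
    exact this
  -- leading relations vanish in B'
  have hF0 : ∀ j : Fin c, F (Fin.castLE hcm j) = 0 := by
    intro j
    show Ideal.Quotient.mk Ig (Φ (f (Fin.castLE hcm j))) = 0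
    rw [hg j, Ideal.Quotient.eq_zero_iff_mem]
    exact Ideal.mul_mem_left _ _ (Ideal.subset_span ⟨j, rfl⟩)
  -- (b) π F_j ∈ 𝔞²
  have hFb : ∀ j, πB * F j ∈ 𝔞 * 𝔞 := by
    intro j
    by_cases hj : (j : ℕ) < c
    · have : j = Fin.castLE hcm ⟨j, hj⟩ := Fin.ext rfl
      rw [this, hF0, mul_zero]
      exact Ideal.zero_mem _
    · have h1 := hkill j (not_lt.mp hj)
      let θ : MvPolynomial (Fin n) R →+* B' := (Ideal.Quotient.mk Ig).comp Φ.toRingHom
      have h2 := Ideal.mem_map_of_mem θ h1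
      rw [Ideal.map_sup, Ideal.map_pow, Ideal.map_span, Ideal.map_span] at h2
      have h3 : Ideal.span (θ '' (f '' {j' : Fin m | (j' : ℕ) < c})) = ⊥ := by
        rw [Ideal.span_eq_bot]
        rintro _ ⟨_, ⟨j', hj', rfl⟩, rfl⟩
        have : j' = Fin.castLE hcm ⟨j', hj'⟩ := Fin.ext rfl
        rw [this]
        exact hF0 _
      have h4 : θ '' Set.range f = Set.range F := by
        rw [← Set.range_comp]; rfl
      rw [h3, bot_sup_eq, h4, pow_two] at h2
      have h5 : θ (C π * f j) = πB * F j := by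
        show Ideal.Quotient.mk Ig (Φ (C π * f j)) = _
        rw [map_mul, algHom_C, MvPolynomial.algebraMap_eq, map_mul]
        rfl
      rw [← h5]
      exact h2
  -- the key relation for every generator
  set xD : B' := Ideal.Quotient.mk Ig (DD g) with hxD
  set rB : B' := algebraMap R B' r₀ with hrB
  have hsmul : ∀ (a : R) (y : B'), a • y = algebraMap R B' a * y :=
    fun a y => Algebra.smul_def a y
  have hgen : ∀ j, ∃ k : ℕ, xD ^ k * rB ^ 2 * F j ∈ Ideal.span {πB} * 𝔞 := by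
    intro j
    have h1 : πB * F j ∈ Ideal.span {πB ^ 2} * 𝔞 := Ideal.mul_mono_left hFa (hFb j)
    obtain ⟨G, hG𝔞, hG⟩ := Ideal.mem_span_singleton_mul.mp h1
    obtain ⟨b1, hb1⟩ := Ideal.mem_span_singleton'.mp (hFa (Ideal.subset_span ⟨j, rfl⟩))
    obtain ⟨b2, hb2⟩ := Ideal.mem_span_singleton'.mp (hFa hG𝔞)
    have h2 : (π ^ 3) • (b1 - πB * b2) = 0 := by
      rw [hsmul, map_pow, ← hπB]
      have : πB ^ 3 * (b1 - πB * b2) = πB * (b1 * πB ^ 2) - πB ^ 2 * (b2 * πB ^ 2) := by ring
      rw [this, hb1, hb2, hG, sub_self]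
    obtain ⟨k, hk⟩ := exists_pow_mul_eq_zero π g r₀ hr₀ _ h2
    refine ⟨k, ?_⟩
    rw [hsmul, map_mul, map_pow, ← hπB, ← hrB, ← hxD] at hk
    have h3 : xD ^ k * rB ^ 2 * F j = πB * (xD ^ k * rB ^ 2 * G) +
        πB * (xD ^ k * (rB ^ 2 * πB * (b1 - πB * b2))) := by
      rw [← hb1, ← hb2]; ring
    rw [h3, hk, mul_zero, add_zero]
    exact Ideal.mul_mem_mul (Ideal.subset_span rfl) (Ideal.mul_mem_left _ _ hG𝔞)
  choose kk hkk using hgen
  set K := ∑ j, kk j with hK
  have hall : ∀ y ∈ 𝔞, xD ^ K * rB ^ 2 * y ∈ Ideal.span {πB} * 𝔞 := by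
    intro y hy
    rw [h𝔞] at hy
    induction hy using Submodule.span_induction with
    | mem y hy =>
      obtain ⟨j, rfl⟩ := hy
      have hle : kk j ≤ K := Finset.single_le_sum (fun _ _ => Nat.zero_le _) (Finset.mem_univ j)
      have : xD ^ K * rB ^ 2 * F j = xD ^ (K - kk j) * (xD ^ kk j * rB ^ 2 * F j) := by
        rw [← mul_assoc, ← mul_assoc, ← pow_add, Nat.sub_add_cancel hle]
      rw [this]
      exact Ideal.mul_mem_left _ _ (hkk j)
    | zero => simp
    | add y z _ _ hy hz => rw [mul_add]; exact Ideal.add_mem _ hy hz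
    | smul r y _ hy =>
      rw [smul_eq_mul, mul_left_comm]
      exact Ideal.mul_mem_left _ _ hy
  obtain ⟨h, d, hhd, hhkill⟩ :=
    Groth.Agent.Lib.T2H8.DesingA.exists_kill' 𝔞 h𝔞fg (Ideal.span {πB}) (xD ^ K * rB ^ 2) hall
  -- the element at which we localize
  set x : B' := xD * h with hx
  -- images in B
  have hψπ : ψ πB = algebraMap R (BB f Φ g) π := ψ.commutes π
  have hψr : ψ rB = algebraMap R (BB f Φ g) r₀ := ψ.commutes r₀
  have hmemπ : ∀ y : B', y ∈ Ideal.span {πB} → ψ y ∈ 𝔓 := by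
    intro y hy
    obtain ⟨e, rfl⟩ := Ideal.mem_span_singleton'.mp hy
    rw [map_mul, hψπ]
    exact Ideal.mul_mem_left _ _ hπ𝔓
  have hxD𝔓 : ψ xD ∉ 𝔓 := by
    intro hmem
    have h1 : xD - 1 ∈ Ideal.span {πB} := by
      have := Ideal.mem_map_of_mem (Ideal.Quotient.mk Ig) (DD_sub_one_mem π g hD)
      rw [Ideal.map_span, Set.image_singleton, map_sub, map_one] at this
      exact this
    have h2 := hmemπ _ h1
    rw [map_sub, map_one] at h2
    have : (1 : BB f Φ g) ∈ 𝔓 := by
      have := Ideal.sub_mem _ hmem h2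
      rwa [sub_sub_cancel] at this
    exact (Ideal.IsPrime.ne_top inferInstance) ((Ideal.eq_top_iff_one _).mpr this)
  have hh𝔓 : ψ h ∉ 𝔓 := by
    intro hmem
    have h2 := hmemπ _ hhd
    rw [map_sub] at h2
    have h3 : ψ ((xD ^ K * rB ^ 2) ^ d) ∈ 𝔓 := by
      have := Ideal.sub_mem _ hmem h2
      rwa [sub_sub_cancel] at this
    rw [map_pow] at h3
    have h4 := Ideal.IsPrime.mem_of_pow_mem inferInstance _ h3
    rw [map_mul, map_pow, map_pow, hψr] at h4
    rcases Ideal.IsPrime.mem_or_mem inferInstance h4 with h5 | h5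
    · exact hxD𝔓 (Ideal.IsPrime.mem_of_pow_mem inferInstance _ h5)
    · exact hr𝔓 (Ideal.IsPrime.mem_of_pow_mem inferInstance _ h5)
  have hx𝔓 : ψ x ∉ 𝔓 := by
    rw [hx, map_mul]
    intro hmem
    rcases Ideal.IsPrime.mem_or_mem inferInstance hmem with h5 | h5
    · exact hxD𝔓 h5
    · exact hh𝔓 h5
  -- B_x = B'_x is standard smooth
  let _ : Algebra B' (BB f Φ g) := ψ.toRingHom.toAlgebra
  have : IsScalarTower R B' (BB f Φ g) :=
    IsScalarTower.of_algebraMap_eq (fun r => (ψ.commutes r).symm)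
  have hloc : IsLocalization.Away x (Localization.Away (ψ x)) := by
    refine Groth.Agent.S2032.away_of_surjective_of_kills hψsurj (ψ x) x ?_ ?_ ?_
    · exact dvd_refl _
    · exact ⟨1, by rw [pow_one]; exact dvd_refl _⟩
    · intro k hk
      have := hhkill k (hψker k hk)
      rw [hx, mul_assoc, this, mul_zero]
  have hss : Algebra.IsStandardSmooth R (Localization.Away (ψ x)) := by
    refine Groth.Agent.S2032.isStandardSmooth_of_quotient_localization (Nat.le_add_right c n) g x ?_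
    exact IsLocalization.Away.isUnit_of_dvd x ⟨h, rfl⟩
  have hfs : Algebra.FormallySmooth R (Localization.Away (ψ x)) := inferInstance
  have hfp : Algebra.FinitePresentation R (BB f Φ g) :=
    Algebra.FinitePresentation.quotient (Submodule.fg_span (Set.finite_range _))
  have hsub := (Algebra.basicOpen_subset_smoothLocus_iff (R := R) (A := BB f Φ g)
    (f := ψ x)).mpr hfs
  exact hsub (show (⟨𝔓, inferInstance⟩ : PrimeSpectrum (BB f Φ g)) ∈
    (PrimeSpectrum.basicOpen (ψ x) : Set _) from hx𝔓)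

end Smooth

end Groth.Agent.Lib.T2H8.DesingB
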