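import Mathlib
import Groth.Prelude.Def_Smoothing
import Groth.Agent.Lib.T2H8DesingA
import Groth.Agent.Lib.T2H8DesingB

/-!
# Desingularization lemma (helper8)

`main`: the statement of S2027 (no Noetherian hypothesis needed).
-/

set_option autoImplicit false

namespace Groth.Agent.Lib.T2H8.DesingC

open MvPolynomial Groth.Agent.Lib.T2H8.DesingA Groth.Agent.Lib.T2H8.DesingB

universe u

theorem smul_eq_zero_of_pow_four {R Λ : Type*} [CommRing R] [CommRing Λ] [Algebra R Λ] (π : R)
    (hΛ : ∀ x : Λ, π ^ 2 • x = 0 → π • x = 0) (x : Λ) (hx : π ^ 4 • x = 0) : π • x = 0 := by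
  have h1 : π • (π ^ 2 • x) = 0 := hΛ _ (by rw [smul_smul, ← hx]; congr 1; ring)
  have h2 : π • (π • x) = 0 := hΛ _ (by rw [← h1, smul_smul, smul_smul]; congr 1; ring)
  exact hΛ _ (by rw [← h2, smul_smul]; congr 1; ring)

theorem main {R Λ A : Type u} [CommRing R] [CommRing Λ]
    [Algebra R Λ] (π : R) (hΛ : ∀ x : Λ, π ^ 2 • x = 0 → π • x = 0) [CommRing A] [Algebra R A]
    (φ : A →ₐ[R] Λ)
    (hπ : Smoothing.IsStrictlyStandard R A (algebraMap R A π))
    (ρ : A →ₐ[R] R ⧸ Ideal.span {π ^ 4})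
    (hρ : ∀ (a : A) (r : R), Ideal.Quotient.mk (Ideal.span {π ^ 4}) r = ρ a →
      algebraMap R Λ r - φ a ∈ Ideal.span {algebraMap R Λ (π ^ 4)}) :
    ∃ (B : Type u) (_ : CommRing B) (_ : Algebra R B), Algebra.FinitePresentation R B ∧
      ∃ (α : A →ₐ[R] B) (β : B →ₐ[R] Λ), β.comp α = φ ∧
        ∀ r : R, (∀ x : R, π ^ 2 * x = 0 → π * (r * x) = 0) →
          algebraMap R B r ∈ Smoothing.singularIdeal R B := by
  classical
  obtain ⟨MP, hspan, hkill⟩ := hπ
  obtain ⟨n, m, c, hcn, hcm, f, hom, hsurj, hkereq⟩ := MP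
  simp only at hspan
  have hker : ∀ q, hom q = 0 ↔ q ∈ Ideal.span (Set.range f) := fun q => by
    rw [← hkereq]; rfl
  -- coefficients
  obtain ⟨a, ha⟩ := (Ideal.mem_span_range_iff_exists_fun).mp hspan
  choose ã hã using fun cols => hsurj (a cols)
  have hspan' : ∑ cols, ã cols * Smoothing.jacobianMinor f (Fin.castLE hcm) cols - C π ∈
      Ideal.span (Set.range f) := by
    rw [← hker, map_sub, map_sum, algHom_C, sub_eq_zero, ← ha]
    refine Finset.sum_congr rfl fun cols _ => ?_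
    rw [map_mul, hã]
  -- the point r
  choose r hr using fun i => Ideal.Quotient.mk_surjective (ρ (hom (X i)))
  have hρhom : ∀ q, ρ (hom q) = Ideal.Quotient.mk (Ideal.span {π ^ 4}) (eval r q) := by
    have : ρ.comp hom = (Ideal.Quotient.mkₐ R (Ideal.span {π ^ 4})).comp (aeval r) :=
      MvPolynomial.algHom_ext (fun i => by simp [hr i])
    intro q
    have := congrArg (fun F => F q) this
    simpa [MvPolynomial.aeval_eq_eval] using this
  have hevalmem : ∀ q, hom q = 0 → eval r q ∈ Ideal.span {π ^ 4} := by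
    intro q hq
    rw [← Ideal.Quotient.eq_zero_iff_mem, ← hρhom, hq, map_zero]
  have hfmem : ∀ j, eval r (f j) ∈ Ideal.span {π ^ 4} := fun j =>
    hevalmem _ ((hker _).mpr (Ideal.subset_span ⟨j, rfl⟩))
  have hs : ∀ j, ∃ s, eval r (f j) = π ^ 4 * s := fun j => by
    obtain ⟨s, hs⟩ := Ideal.mem_span_singleton'.mp (hfmem j)
    exact ⟨s, by rw [← hs, mul_comm]⟩
  choose s hs using hs
  -- the unit u₀
  obtain ⟨e, he⟩ := Ideal.mem_span_singleton'.mp (hevalmem _ ((hker _).mpr hspan'))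
  set u₀ : R := 1 + π ^ 3 * e with hu₀
  have hu : u₀ - 1 ∈ Ideal.span {π} := by
    rw [hu₀, add_sub_cancel_left, pow_succ, mul_right_comm]
    exact Ideal.mul_mem_left _ _ (Ideal.subset_span rfl)
  -- the matrices
  let Mc : Matrix (Fin c) (Fin n) R :=
    Matrix.of fun j i => eval r (pderiv i (f (Fin.castLE hcm j)))
  have hminor : ∀ cols : Fin c → Fin n,
      eval r (Smoothing.jacobianMinor f (Fin.castLE hcm) cols) = (Mc.submatrix id cols).det := by
    intro cols
    unfold Smoothing.jacobianMinor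
    rw [RingHom.map_det]
    rfl
  obtain ⟨N, hN⟩ := exists_N Mc (fun cols => eval r (ã cols))
  have hsum : ∑ cols, eval r (ã cols) * (Mc.submatrix id cols).det = π * u₀ := by
    rw [map_sub, map_sum, eval_C] at he
    have h1 : ∑ cols, eval r (ã cols) * (Mc.submatrix id cols).det = π + e * π ^ 4 := by
      rw [he, add_sub_cancel]
      refine Finset.sum_congr rfl fun cols _ => ?_
      rw [map_mul, hminor]
    rw [h1, hu₀]; ring
  rw [hsum] at hN
  have hN' : ∀ j k : Fin c, ∑ i, eval r (pderiv i (f (Fin.castLE hcm j))) * N i k =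
      if j = k then π * u₀ else 0 := by
    intro j k
    have := congrFun (congrFun hN j) k
    rw [Matrix.mul_apply, Matrix.smul_apply, Matrix.one_apply] at this
    rw [show (∑ i, eval r (pderiv i (f (Fin.castLE hcm j))) * N i k) = ∑ i, Mc j i * N i k from rfl,
      this]
    split_ifs <;> simp
  -- Taylor remainders and the relations g
  choose T hT using fun j : Fin c => taylor π r N (f (Fin.castLE hcm j))
  set g := gv hcm π r f s u₀ T with hgdef
  have hg := Phi_eq_gv hcm π r N f s u₀ T hs hN' hT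
  have hD := pderiv_castAdd_gv hcm π r f s u₀ T hu
  have hΦ2 := fun j => Phi_mem_span (c := c) π r N (f j) (hfmem j)
  have hkill' : ∀ j : Fin m, c ≤ (j : ℕ) → C π * f j ∈
      Ideal.span (f '' {j' : Fin m | (j' : ℕ) < c}) ⊔ Ideal.span (Set.range f) ^ 2 :=
    fun j hj => hkill (C π) (by simp [algHom_C]) j hj
  have hchain := pderiv_Phi (c := c) π r N
  set Φ := Phi (c := c) π r N with hΦdef
  set I := Ideal.span (Set.range (relB f Φ g)) with hI
  refine ⟨BB f Φ g, inferInstance, inferInstance,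
    Algebra.FinitePresentation.quotient (Submodule.fg_span (Set.finite_range _)), ?_⟩
  -- α
  have hα0 : ∀ q : MvPolynomial (Fin n) R, q ∈ RingHom.ker hom.toRingHom →
      ((Ideal.Quotient.mkₐ R I).comp Φ) q = 0 := by
    intro q hq
    rw [hkereq] at hq
    show Ideal.Quotient.mk I (Φ q) = 0
    rw [Ideal.Quotient.eq_zero_iff_mem]
    exact map_span_le f Φ g (Ideal.mem_map_of_mem _ hq)
  let α : A →ₐ[R] BB f Φ g :=
    (Ideal.Quotient.liftₐ (RingHom.ker hom.toRingHom) ((Ideal.Quotient.mkₐ R I).comp Φ) hα0).comp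
      (Ideal.quotientKerAlgEquivOfSurjective hsurj).symm.toAlgHom
  have hα : ∀ q, α (hom q) = Ideal.Quotient.mk I (Φ q) := by
    intro q
    have h1 : (Ideal.quotientKerAlgEquivOfSurjective hsurj).symm (hom q) =
        Ideal.Quotient.mk _ q := by
      rw [AlgEquiv.symm_apply_eq]
      rfl
    show Ideal.Quotient.liftₐ _ _ hα0 ((Ideal.quotientKerAlgEquivOfSurjective hsurj).symm (hom q)) = _
    rw [h1]
    rfl
  -- β
  choose ν hν using fun i => Ideal.mem_span_singleton'.mp (hρ (hom (X i)) (r i) (hr i))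
  let β₀ : MvPolynomial (Fin (c + n)) R →ₐ[R] Λ :=
    aeval (Fin.append (fun _ : Fin c => (0 : Λ)) (fun i => - (algebraMap R Λ π * ν i)))
  have hβz : ∀ k, β₀ (zv R n k) = 0 := fun k => by
    simp [β₀, zv, Fin.append_left]
  have hβy : ∀ i, β₀ (yv R c i) = - (algebraMap R Λ π * ν i) := fun i => by
    simp [β₀, yv, Fin.append_right]
  have hβw : ∀ i, β₀ (wv π N i) = - (algebraMap R Λ (π ^ 2) * ν i) := fun i => by
    unfold wv
    rw [map_add, map_mul, map_sum, hβy, algHom_C]
    simp only [map_mul, hβz, mul_zero, Finset.sum_const_zero, add_zero, map_pow]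
    ring
  have hβΦ : ∀ q, β₀ (Φ q) = φ (hom q) := by
    have : β₀.comp Φ = φ.comp hom := by
      refine MvPolynomial.algHom_ext (fun i => ?_)
      show β₀ (Φ (X i)) = φ (hom (X i))
      rw [hΦdef, Phi_X, map_add, map_mul, algHom_C, algHom_C, hβw]
      have := hν i
      simp only [map_pow] at this ⊢
      linear_combination (-1 : Λ) * this
    exact fun q => congrArg (fun F => F q) this
  have hβg : ∀ j, β₀ (g j) = 0 := by
    intro j
    have h1 : β₀ (g j) = π • (algebraMap R Λ (s (Fin.castLE hcm j)) -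
        ∑ i, algebraMap R Λ (eval r (pderiv i (f (Fin.castLE hcm j)))) * ν i + β₀ (T j)) := by
      rw [hgdef]
      unfold gv
      simp only [map_add, map_mul, map_sum, algHom_C, hβy, hβz, mul_zero, add_zero,
        Algebra.smul_def, mul_add, mul_sub, Finset.mul_sum]
      congr 1
      rw [sub_eq_add_neg, ← Finset.sum_neg_distrib]
      congr 1
      refine Finset.sum_congr rfl fun i _ => by ring
    have h2 : π ^ 3 • β₀ (g j) = 0 := by
      rw [Algebra.smul_def, ← algHom_C β₀, ← map_mul, ← hg j, hβΦ,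
        (hker _).mpr (Ideal.subset_span ⟨_, rfl⟩), map_zero]
    rw [h1] at h2 ⊢
    rw [smul_smul, ← pow_succ] at h2
    exact smul_eq_zero_of_pow_four π hΛ _ h2
  have hβ0 : ∀ q ∈ I, β₀ q = 0 := by
    intro q hq
    have hle : I ≤ RingHom.ker β₀.toRingHom := by
      rw [hI, Ideal.span_le]
      rintro _ ⟨j, rfl⟩
      show β₀ _ = 0
      induction j using Fin.addCases with
      | left j => rw [relB_castAdd, hβΦ, (hker _).mpr (Ideal.subset_span ⟨_, rfl⟩), map_zero]
      | right k => rw [relB_natAdd, hβg]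
    exact hle hq
  let β : BB f Φ g →ₐ[R] Λ := Ideal.Quotient.liftₐ I β₀ hβ0
  refine ⟨α, β, ?_, ?_⟩
  · ext a
    obtain ⟨q, rfl⟩ := hsurj a
    show β (α (hom q)) = φ (hom q)
    rw [hα]
    show β₀ (Φ q) = _
    exact hβΦ q
  · intro r₀ hr₀
    unfold Smoothing.singularIdeal
    rw [PrimeSpectrum.mem_vanishingIdeal]
    intro 𝔓 h𝔓
    by_contra hr
    apply h𝔓
    show Algebra.IsSmoothAt R 𝔓.asIdeal
    by_cases hπ𝔓 : algebraMap R (BB f Φ g) π ∈ 𝔓.asIdeal
    · exact isSmoothAt_of_mem hcm π f Φ g hg hD hΦ2 hkill' r₀ hr₀ 𝔓.asIdeal hπ𝔓 hr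
    · exact isSmoothAt_of_not_mem hcm π f Φ g hg hkill' ã hspan' hchain 𝔓.asIdeal hπ𝔓

end Groth.Agent.Lib.T2H8.DesingC
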