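import Mathlib
import Groth.Prelude.Def_Smoothing
import Groth.Agent.Lib.T2H8DesingC
import Groth.Agent.Lib.T2H6StdBaseChange

/-!
# Desingularization lemma over a base `D` (helper8)

`main`: the statement of S2028, obtained from `DesingC.main` over the base `D`.
-/

set_option autoImplicit false

namespace Groth.Agent.Lib.T2H8.DesingD

open Groth.Agent.Lib.T2H8.DesingA TensorProduct

universe u

/-- at a smooth point `𝔮` of a finitely presented algebra `D` over a Noetherian ring `R` in which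
`Ann(π²) = Ann(π)`, some `d' ∉ 𝔮` multiplies `Ann_D(π²)` into `Ann_D(π)` -/
theorem exists_mul_ann {R D : Type u} [CommRing R] [IsNoetherianRing R] [CommRing D] [Algebra R D]
    [Algebra.FinitePresentation R D] (π : R) (hR : ∀ r : R, π ^ 2 * r = 0 → π * r = 0)
    (𝔮 : Ideal D) [𝔮.IsPrime] (h𝔮 : Algebra.IsSmoothAt R 𝔮) :
    ∃ d' : D, d' ∉ 𝔮 ∧ ∀ x : D, (algebraMap R D π) ^ 2 * x = 0 →
      algebraMap R D π * (d' * x) = 0 := by
  classical
  obtain ⟨f, hf𝔮, hsm⟩ := Algebra.IsSmoothAt.exists_notMem_smooth R 𝔮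
  have hflat : Module.Flat R (Localization.Away f) := inferInstance
  have hnoeth : IsNoetherianRing D := Algebra.FiniteType.isNoetherianRing R D
  let K : Ideal D := LinearMap.ker (LinearMap.mul D D (algebraMap R D π ^ 2))
  have hKmem : ∀ x, x ∈ K ↔ algebraMap R D π ^ 2 * x = 0 := fun x => by
    simp [K, LinearMap.mem_ker]
  obtain ⟨s, hs⟩ := (isNoetherianRing_iff_ideal_fg D).mp hnoeth K
  have hgen : ∀ x ∈ K, ∃ N : ℕ, f ^ N * (algebraMap R D π * x) = 0 := by
    intro x hx
    rw [hKmem] at hx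
    have h1 : (π ^ 2) • (algebraMap D (Localization.Away f) x) = 0 := by
      rw [Algebra.smul_def, IsScalarTower.algebraMap_apply R D (Localization.Away f), ← map_mul,
        map_pow, hx, map_zero]
    have h2 := flat_smul_eq_zero (π ^ 2) π hR _ h1
    have h3 : algebraMap D (Localization.Away f) (algebraMap R D π * x) = 0 := by
      rw [map_mul, ← IsScalarTower.algebraMap_apply, ← Algebra.smul_def]
      exact h2
    obtain ⟨⟨_, N, rfl⟩, hN⟩ :=
      (IsLocalization.map_eq_zero_iff (Submonoid.powers f) (Localization.Away f) _).mp h3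
    exact ⟨N, hN⟩
  choose! NN hNN using hgen
  refine ⟨f ^ (∑ x ∈ s, NN x), fun h => hf𝔮 (Ideal.IsPrime.mem_of_pow_mem inferInstance _ h), ?_⟩
  have key : ∀ y ∈ Ideal.span (s : Set D),
      algebraMap R D π * (f ^ (∑ x ∈ s, NN x) * y) = 0 := by
    intro y hy
    induction hy using Submodule.span_induction with
    | mem y hy =>
      have hyK : y ∈ K := by rw [← hs]; exact Ideal.subset_span hy
      have hle : NN y ≤ ∑ x ∈ s, NN x := Finset.single_le_sum (fun _ _ => Nat.zero_le _) hy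
      have : algebraMap R D π * (f ^ (∑ x ∈ s, NN x) * y) =
          f ^ (∑ x ∈ s, NN x - NN y) * (f ^ NN y * (algebraMap R D π * y)) := by
        rw [← mul_assoc (f ^ _), ← pow_add, Nat.sub_add_cancel hle]; ring
      rw [this, hNN y hyK, mul_zero]
    | zero => simp
    | add y z _ _ hy hz => rw [mul_add, mul_add, hy, hz, add_zero]
    | smul r y _ hy =>
      rw [smul_eq_mul]
      have : algebraMap R D π * (f ^ (∑ x ∈ s, NN x) * (r * y)) =
          r * (algebraMap R D π * (f ^ (∑ x ∈ s, NN x) * y)) := by ring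
      rw [this, hy, mul_zero]
  intro x hx
  exact key x (by rw [hs]; exact (hKmem x).mpr hx)

/-- smoothness at a prime composes -/
theorem isSmoothAt_comp {R D B : Type u} [CommRing R] [CommRing D] [Algebra R D] [CommRing B]
    [Algebra R B] [Algebra D B] [IsScalarTower R D B] (𝔓 : Ideal B) [𝔓.IsPrime]
    (h1 : Algebra.IsSmoothAt R (𝔓.comap (algebraMap D B)))
    (h2 : Algebra.IsSmoothAt D 𝔓) : Algebra.IsSmoothAt R 𝔓 := by
  set 𝔮 := 𝔓.comap (algebraMap D B) with h𝔮
  let _ : Algebra (Localization.AtPrime 𝔮) (Localization.AtPrime 𝔓) :=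
    (Localization.localRingHom 𝔮 𝔓 (algebraMap D B) rfl).toAlgebra
  have t1 : IsScalarTower D (Localization.AtPrime 𝔮) (Localization.AtPrime 𝔓) := by
    refine IsScalarTower.of_algebraMap_eq (fun d => ?_)
    show _ = Localization.localRingHom 𝔮 𝔓 (algebraMap D B) rfl (algebraMap D _ d)
    rw [Localization.localRingHom_to_map]
    exact (IsScalarTower.algebraMap_apply D B (Localization.AtPrime 𝔓) d)
  have t2 : IsScalarTower R (Localization.AtPrime 𝔮) (Localization.AtPrime 𝔓) := by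
    refine IsScalarTower.of_algebraMap_eq (fun r => ?_)
    rw [IsScalarTower.algebraMap_apply R D (Localization.AtPrime 𝔓),
      IsScalarTower.algebraMap_apply D (Localization.AtPrime 𝔮) (Localization.AtPrime 𝔓),
      ← IsScalarTower.algebraMap_apply R D (Localization.AtPrime 𝔮)]
  have h3 : Algebra.FormallySmooth (Localization.AtPrime 𝔮) (Localization.AtPrime 𝔓) :=
    Algebra.FormallySmooth.localization_base (R := D) 𝔮.primeCompl
  have h1' : Algebra.FormallySmooth R (Localization.AtPrime 𝔮) := h1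
  exact Algebra.FormallySmooth.comp R (Localization.AtPrime 𝔮) (Localization.AtPrime 𝔓)

theorem main {R Λ A D : Type u} [CommRing R] [IsNoetherianRing R]
    [CommRing Λ] [Algebra R Λ] (π : R) (hR : ∀ r : R, π ^ 2 * r = 0 → π * r = 0)
    (hΛ : ∀ x : Λ, π ^ 2 • x = 0 → π • x = 0) [CommRing A] [Algebra R A]
    [Algebra.FinitePresentation R A] [CommRing D] [Algebra R D] [Algebra.FinitePresentation R D]
    (φ : A →ₐ[R] Λ) (δ : D →ₐ[R] Λ) (hπ : Smoothing.IsStrictlyStandard R A (algebraMap R A π))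
    (ψ : A →ₐ[R] D ⧸ Ideal.span {algebraMap R D (π ^ 4)})
    (hψ : ∀ (a : A) (d : D), Ideal.Quotient.mk (Ideal.span {algebraMap R D (π ^ 4)}) d = ψ a →
      δ d - φ a ∈ Ideal.span {algebraMap R Λ (π ^ 4)}) :
    ∃ (B : Type u) (_ : CommRing B) (_ : Algebra R B) (_ : Algebra D B) (_ : IsScalarTower R D B),
      Algebra.FinitePresentation R B ∧
      ∃ (α : A →ₐ[R] B) (β : B →ₐ[R] Λ), β.comp α = φ ∧
        β.comp (IsScalarTower.toAlgHom R D B) = δ ∧
        (Smoothing.singularIdeal R D).map (algebraMap D B) ≤ Smoothing.singularIdeal D B ∧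
        (Smoothing.singularIdeal R D).map (algebraMap D B) ≤ Smoothing.singularIdeal R B := by
  classical
  letI algDΛ : Algebra D Λ := δ.toRingHom.toAlgebra
  haveI : IsScalarTower R D Λ := IsScalarTower.of_algebraMap_eq (fun r => (δ.commutes r).symm)
  have hδalg : ∀ d : D, algebraMap D Λ d = δ d := fun d => rfl
  set πD : D := algebraMap R D π with hπD
  have hΛ' : ∀ x : Λ, πD ^ 2 • x = 0 → πD • x = 0 := by
    intro x hx
    rw [hπD, ← map_pow, algebraMap_smul] at hx
    rw [hπD, algebraMap_smul]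
    exact hΛ x hx
  -- the maps on D ⊗ A
  let φ' : D ⊗[R] A →ₐ[D] Λ :=
    Algebra.TensorProduct.lift (Algebra.ofId D Λ) φ (fun _ _ => Commute.all _ _)
  have hφ' : ∀ d a, φ' (d ⊗ₜ a) = δ d * φ a := fun d a => by
    simp [φ', Algebra.ofId_apply, hδalg]
  have eI : Ideal.span {algebraMap R D (π ^ 4)} = Ideal.span {πD ^ 4} := by rw [map_pow]
  let ψ' : A →ₐ[R] D ⧸ Ideal.span {πD ^ 4} :=
    (Ideal.quotientEquivAlgOfEq R eI).toAlgHom.comp ψ
  let ρ' : D ⊗[R] A →ₐ[D] D ⧸ Ideal.span {πD ^ 4} :=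
    Algebra.TensorProduct.lift (Algebra.ofId D _) ψ' (fun _ _ => Commute.all _ _)
  have hρ'tmul : ∀ d a, ρ' (d ⊗ₜ a) = Ideal.Quotient.mk _ d * ψ' a := fun d a => by
    simp [ρ', Algebra.ofId_apply]
  have hψ'lift : ∀ (a : A) (e : D), Ideal.Quotient.mk (Ideal.span {πD ^ 4}) e = ψ' a →
      δ e - φ a ∈ Ideal.span {algebraMap R Λ (π ^ 4)} := by
    intro a e he
    refine hψ a e ?_
    have h1 : (Ideal.quotientEquivAlgOfEq R eI) (ψ a) = Ideal.Quotient.mk _ e := he.symm
    have h2 := congrArg (Ideal.quotientEquivAlgOfEq R eI).symm h1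
    rw [AlgEquiv.symm_apply_apply] at h2
    rw [h2]
    rfl
  set J : Ideal Λ := Ideal.span {algebraMap R Λ (π ^ 4)} with hJ
  have hJD : ∀ d : D, d ∈ Ideal.span {πD ^ 4} → δ d ∈ J := by
    intro d hd
    obtain ⟨e, rfl⟩ := Ideal.mem_span_singleton'.mp hd
    rw [map_mul, map_pow, hπD, δ.commutes, ← map_pow]
    exact Ideal.mul_mem_left _ _ (Ideal.subset_span rfl)
  have hexists : ∀ a' : D ⊗[R] A, ∃ d₀ : D, Ideal.Quotient.mk (Ideal.span {πD ^ 4}) d₀ = ρ' a' ∧
      δ d₀ - φ' a' ∈ J := by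
    intro a'
    induction a' using TensorProduct.induction_on with
    | zero => exact ⟨0, by simp, by simp⟩
    | tmul d a =>
      obtain ⟨e, he⟩ := Ideal.Quotient.mk_surjective (ψ' a)
      refine ⟨d * e, by rw [map_mul, he, hρ'tmul], ?_⟩
      rw [hφ', map_mul, ← mul_sub]
      exact Ideal.mul_mem_left _ _ (hψ'lift a e he)
    | add x y hx hy =>
      obtain ⟨d1, h1, h1'⟩ := hx
      obtain ⟨d2, h2, h2'⟩ := hy
      refine ⟨d1 + d2, by rw [map_add, map_add, h1, h2], ?_⟩
      rw [map_add, map_add, add_sub_add_comm]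
      exact Ideal.add_mem _ h1' h2'
  have hρ' : ∀ (a' : D ⊗[R] A) (d : D), Ideal.Quotient.mk (Ideal.span {πD ^ 4}) d = ρ' a' →
      algebraMap D Λ d - φ' a' ∈ Ideal.span {algebraMap D Λ (πD ^ 4)} := by
    intro a' d hd
    have eJ : algebraMap D Λ (πD ^ 4) = algebraMap R Λ (π ^ 4) := by
      rw [hδalg, map_pow, hπD, δ.commutes, ← map_pow]
    rw [eJ, hδalg]
    obtain ⟨d₀, h1, h2⟩ := hexists a'
    have h3 : d - d₀ ∈ Ideal.span {πD ^ 4} := by
      rw [← Ideal.Quotient.eq, hd, h1]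
    have h4 := hJD _ h3
    rw [map_sub] at h4
    have : δ d - φ' a' = (δ d - δ d₀) + (δ d₀ - φ' a') := by ring
    rw [this]
    exact Ideal.add_mem _ h4 h2
  -- π is strictly standard in D ⊗ A over D
  have hπ' : Smoothing.IsStrictlyStandard D (D ⊗[R] A) (algebraMap D (D ⊗[R] A) πD) := by
    have h := Groth.Agent.Lib.T2H6.StdBaseChange.isStrictlyStandard_BC (R' := D)
      (algebraMap R A π) hπ
    have e : (1 : D) ⊗ₜ[R] (algebraMap R A π) = algebraMap D (D ⊗[R] A) πD := by
      calc (1 : D) ⊗ₜ[R] (algebraMap R A π) = (1 : D) ⊗ₜ[R] (π • (1 : A)) := by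
            rw [Algebra.algebraMap_eq_smul_one]
        _ = (π • (1 : D)) ⊗ₜ[R] (1 : A) := by
            rw [TensorProduct.tmul_smul, TensorProduct.smul_tmul']
        _ = πD ⊗ₜ[R] (1 : A) := by rw [hπD, Algebra.algebraMap_eq_smul_one]
        _ = algebraMap D (D ⊗[R] A) πD := by
            rw [Algebra.TensorProduct.algebraMap_apply]; rfl
    rw [← e]
    exact h
  obtain ⟨B, instB, algDB, hfp, α', β', hβα, hsing⟩ :=
    Groth.Agent.Lib.T2H8.DesingC.main (R := D) (Λ := Λ) (A := D ⊗[R] A) πD hΛ' φ' hπ' ρ' hρ'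
  letI algRB : Algebra R B := ((algebraMap D B).comp (algebraMap R D)).toAlgebra
  haveI towB : IsScalarTower R D B := IsScalarTower.of_algebraMap_eq (fun _ => rfl)
  have hfpR : Algebra.FinitePresentation R B := Algebra.FinitePresentation.trans R D B
  refine ⟨B, instB, algRB, algDB, towB, hfpR,
    (α'.restrictScalars R).comp Algebra.TensorProduct.includeRight, β'.restrictScalars R, ?_, ?_, ?_⟩
  · ext a
    show β' (α' ((1 : D) ⊗ₜ a)) = φ a
    have := congrArg (fun F => F ((1 : D) ⊗ₜ[R] a)) hβα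
    simp only [AlgHom.comp_apply] at this
    rw [this, hφ', map_one, one_mul]
  · ext d
    show β' (algebraMap D B d) = δ d
    rw [β'.commutes]
    rfl
  -- the two inclusions
  have hsm : ∀ (d : D), d ∈ Smoothing.singularIdeal R D → ∀ 𝔓 : PrimeSpectrum B,
      algebraMap D B d ∉ 𝔓.asIdeal →
      Algebra.IsSmoothAt R (𝔓.asIdeal.comap (algebraMap D B)) ∧ Algebra.IsSmoothAt D 𝔓.asIdeal := by
    intro d hd 𝔓 hd𝔓
    have hq : Algebra.IsSmoothAt R (𝔓.asIdeal.comap (algebraMap D B)) := by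
      by_contra hns
      unfold Smoothing.singularIdeal at hd
      rw [PrimeSpectrum.mem_vanishingIdeal] at hd
      exact hd𝔓 (hd ⟨𝔓.asIdeal.comap (algebraMap D B), inferInstance⟩ hns)
    refine ⟨hq, ?_⟩
    obtain ⟨d', hd'q, hd'⟩ := exists_mul_ann π hR _ hq
    have h1 := hsing d' hd'
    by_contra hns
    unfold Smoothing.singularIdeal at h1
    rw [PrimeSpectrum.mem_vanishingIdeal] at h1
    exact hd'q (h1 𝔓 hns)
  constructor
  · rw [Ideal.map_le_iff_le_comap]
    intro d hd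
    show algebraMap D B d ∈ Smoothing.singularIdeal D B
    unfold Smoothing.singularIdeal
    rw [PrimeSpectrum.mem_vanishingIdeal]
    intro 𝔓 h𝔓
    by_contra hd𝔓
    exact h𝔓 (hsm d hd 𝔓 hd𝔓).2
  · rw [Ideal.map_le_iff_le_comap]
    intro d hd
    show algebraMap D B d ∈ Smoothing.singularIdeal R B
    unfold Smoothing.singularIdeal
    rw [PrimeSpectrum.mem_vanishingIdeal]
    intro 𝔓 h𝔓
    by_contra hd𝔓
    obtain ⟨h1, h2⟩ := hsm d hd 𝔓 hd𝔓
    exact h𝔓 (isSmoothAt_comp 𝔓.asIdeal h1 h2)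

end Groth.Agent.Lib.T2H8.DesingD
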