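import Mathlib
import Groth.Prelude.Def_Smoothing
import Groth.Agent.Lib.T2H7StdElt

/-!
# Lifting lemma: the dilatation-type algebra `D` (helper8)

`D = R[x,z]/(f_j - π z_j, W)` with `W` a set of admissible relations (`∑ v_j z_j - π w` for syzygies
`∑ v_j f_j = π² w`). Primes of `D` not containing `π` are smooth points.
-/

set_option autoImplicit false

namespace Groth.Agent.Lib.T2H8.LiftA

open MvPolynomial

universe u

section Local

theorem mem_map_of_mul_mem {S : Type*} [CommRing S] (Q : Ideal S) [Q.IsPrime] (J : Ideal S)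
    (x u : S) (hu : u ∉ Q) (hux : u * x ∈ J) :
    algebraMap S (Localization.AtPrime Q) x ∈ J.map (algebraMap S (Localization.AtPrime Q)) := by
  have hunit : IsUnit (algebraMap S (Localization.AtPrime Q) u) :=
    IsLocalization.map_units (Localization.AtPrime Q) (⟨u, hu⟩ : Q.primeCompl)
  have h1 := Ideal.mem_map_of_mem (algebraMap S (Localization.AtPrime Q)) hux
  rw [map_mul] at h1
  have h2 := Ideal.mul_mem_left _ (↑hunit.unit⁻¹ : Localization.AtPrime Q) h1
  rwa [← mul_assoc, IsUnit.val_inv_mul, one_mul] at h2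

/-- two ideals with the same generators up to multipliers outside `Q` have the same extension to
the local ring at `Q` -/
theorem map_eq_map_of_forall_mul_mem {S : Type*} [CommRing S] (Q : Ideal S) [Q.IsPrime]
    (J : Ideal S) (T : Set S) (hJ : J ≤ Ideal.span T)
    (hT : ∀ x ∈ T, ∃ u, u ∉ Q ∧ u * x ∈ J) :
    J.map (algebraMap S (Localization.AtPrime Q)) =
      (Ideal.span T).map (algebraMap S (Localization.AtPrime Q)) := by
  refine le_antisymm (Ideal.map_mono hJ) ?_
  rw [Ideal.map_le_iff_le_comap, Ideal.span_le]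
  intro x hx
  obtain ⟨u, hu, hux⟩ := hT x hx
  exact mem_map_of_mul_mem Q J x u hu hux

end Local

section Defs

variable {R : Type u} [CommRing R] {n m : ℕ} (π : R) (f : Fin m → MvPolynomial (Fin n) R)

/-- inclusion of `R[x]` into `R[x,z]` -/
noncomputable def iota (R : Type u) [CommRing R] (n m : ℕ) :
    MvPolynomial (Fin n) R →ₐ[R] MvPolynomial (Fin (n + m)) R :=
  rename (Fin.castAdd m)

/-- the variables `z_j` -/
noncomputable def zz (R : Type u) [CommRing R] (n : ℕ) {m : ℕ} (j : Fin m) :
    MvPolynomial (Fin (n + m)) R := X (Fin.natAdd n j)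

/-- the relations `f_j - π z_j` -/
noncomputable def qq (j : Fin m) : MvPolynomial (Fin (n + m)) R :=
  iota R n m (f j) - C π * zz R n j

/-- the relation attached to a syzygy `∑ v_j f_j = π² w` -/
noncomputable def adm (v : Fin m → MvPolynomial (Fin n) R) (w : MvPolynomial (Fin n) R) :
    MvPolynomial (Fin (n + m)) R :=
  ∑ j, iota R n m (v j) * zz R n j - C π * iota R n m w

/-- admissible relations -/
def IsAdm (ρ : MvPolynomial (Fin (n + m)) R) : Prop :=
  ∃ (v : Fin m → MvPolynomial (Fin n) R) (w : MvPolynomial (Fin n) R),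
    ∑ j, v j * f j = C (π ^ 2) * w ∧ ρ = adm π v w

theorem iota_C (a : R) : iota R n m (C a) = C a := by
  simp [iota]

theorem pi_mul_adm (v : Fin m → MvPolynomial (Fin n) R) (w : MvPolynomial (Fin n) R)
    (h : ∑ j, v j * f j = C (π ^ 2) * w) :
    C π * adm π v w = - ∑ j, iota R n m (v j) * qq π f j := by
  have h1 := congrArg (iota R n m) h
  rw [map_sum, map_mul, iota_C] at h1
  simp only [map_mul] at h1
  unfold adm qq
  simp only [mul_sub, Finset.sum_sub_distrib, Finset.mul_sum]
  rw [h1, map_pow]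
  have : ∀ j : Fin m, C π * (iota R n m (v j) * zz R n j) =
      iota R n m (v j) * (C π * zz R n j) := fun j => by ring
  simp_rw [this]
  ring

theorem pi_mul_mem_of_isAdm (ρ : MvPolynomial (Fin (n + m)) R) (h : IsAdm π f ρ) :
    C π * ρ ∈ Ideal.span (Set.range (qq π f)) := by
  obtain ⟨v, w, hvw, rfl⟩ := h
  rw [pi_mul_adm π f v w hvw]
  refine Ideal.neg_mem_iff _ |>.mpr (Ideal.sum_mem _ fun j _ => Ideal.mul_mem_left _ _ ?_)
  exact Ideal.subset_span ⟨j, rfl⟩

theorem pderiv_natAdd_iota (k : Fin m) (p : MvPolynomial (Fin n) R) :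
    pderiv (Fin.natAdd n k) (iota R n m p) = 0 := by
  induction p using MvPolynomial.induction_on with
  | C a => simp [iota_C]
  | add p q hp hq => rw [map_add, map_add, hp, hq, add_zero]
  | mul_X p i hp =>
    rw [map_mul, Derivation.leibniz, hp]
    have : iota R n m (X i) = X (Fin.castAdd m i) := by simp [iota]
    rw [this, pderiv_X, Pi.single_apply, if_neg]
    · simp
    · intro h
      have := congrArg Fin.val h
      simp at this
      omega

theorem pderiv_castAdd_iota (i : Fin n) (p : MvPolynomial (Fin n) R) :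
    pderiv (Fin.castAdd m i) (iota R n m p) = iota R n m (pderiv i p) :=
  pderiv_rename (Fin.castAdd_injective n m) i p

theorem pderiv_natAdd_zz (k j : Fin m) :
    pderiv (Fin.natAdd n k) (zz R n j) = if j = k then 1 else 0 := by
  unfold zz
  rw [pderiv_X, Pi.single_apply]
  by_cases h : j = k
  · subst h; simp
  · rw [if_neg h, if_neg]
    intro h'
    exact h (Fin.natAdd_injective _ _ h')

theorem pderiv_castAdd_zz (i : Fin n) (j : Fin m) :
    pderiv (Fin.castAdd m i) (zz R n j) = 0 := by
  unfold zz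
  rw [pderiv_X, Pi.single_apply, if_neg]
  intro h
  have := congrArg Fin.val h
  simp at this
  omega

theorem pderiv_natAdd_qq (k j : Fin m) :
    pderiv (Fin.natAdd n k) (qq π f j) = if j = k then - C π else 0 := by
  unfold qq
  rw [map_sub, pderiv_natAdd_iota, Derivation.leibniz, pderiv_C, pderiv_natAdd_zz]
  split_ifs <;> simp

theorem pderiv_castAdd_qq (i : Fin n) (j : Fin m) :
    pderiv (Fin.castAdd m i) (qq π f j) = iota R n m (pderiv i (f j)) := by
  unfold qq
  rw [map_sub, pderiv_castAdd_iota, Derivation.leibniz, pderiv_C, pderiv_castAdd_zz]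
  simp

end Defs

section SmoothB

variable {R : Type u} [CommRing R] {n m : ℕ} (π : R) (f : Fin m → MvPolynomial (Fin n) R)
  (W : Set (MvPolynomial (Fin (n + m)) R))

/-- the ideal of relations of `D` -/
noncomputable def ID : Ideal (MvPolynomial (Fin (n + m)) R) :=
  Ideal.span (Set.range (qq π f) ∪ W)

/-- the algebra `D` -/
abbrev DD : Type u := MvPolynomial (Fin (n + m)) R ⧸ ID π f W

theorem isSmoothAt_of_pi_not_mem (hW : ∀ ρ ∈ W, IsAdm π f ρ)
    (Q : Ideal (DD π f W)) [Q.IsPrime] (hπ : algebraMap R (DD π f W) π ∉ Q) :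
    Algebra.IsSmoothAt R Q := by
  classical
  let φ : MvPolynomial (Fin (n + m)) R →ₐ[R] DD π f W := Ideal.Quotient.mkₐ R (ID π f W)
  have hφ : Function.Surjective φ := Ideal.Quotient.mkₐ_surjective R _
  have hker : RingHom.ker φ.toRingHom = ID π f W := by
    show RingHom.ker (Ideal.Quotient.mk _) = _
    exact Ideal.mk_ker
  have hCπ : (C π : MvPolynomial (Fin (n + m)) R) ∉ Q.comap φ.toRingHom := hπ
  haveI : (Q.comap φ.toRingHom).IsPrime := Ideal.comap_isPrime _ _
  refine Groth.Agent.Lib.T2H7.StdElt.isSmoothAt_of_minor_not_mem (qq π f) (Fin.natAdd n) φ hφ Q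
    ?_ ?_
  · rw [hker]
    unfold ID
    have hQ : Q.IsPrime := inferInstance
    have hQ' : (Q.comap φ.toRingHom).IsPrime := Ideal.comap_isPrime φ.toRingHom Q
    refine @map_eq_map_of_forall_mul_mem _ _ _ hQ' _ _
      (Ideal.span_mono Set.subset_union_left) ?_
    rintro x (⟨j, rfl⟩ | hx)
    · exact ⟨1, fun h => (Ideal.IsPrime.ne_top inferInstance) ((Ideal.eq_top_iff_one _).mpr h),
        by rw [one_mul]; exact Ideal.subset_span ⟨j, rfl⟩⟩
    · exact ⟨C π, hCπ, pi_mul_mem_of_isAdm π f x (hW x hx)⟩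
  · have h1 : (Matrix.of fun j k : Fin m => pderiv (Fin.natAdd n k) (qq π f j)) =
        (- C π : MvPolynomial (Fin (n + m)) R) • (1 : Matrix (Fin m) (Fin m) _) := by
      ext j k
      simp [pderiv_natAdd_qq, Matrix.one_apply]
    rw [h1, Matrix.det_smul, Matrix.det_one, mul_one, map_pow, map_neg]
    intro h
    have := Ideal.IsPrime.mem_of_pow_mem inferInstance _ h
    rw [Ideal.neg_mem_iff] at this
    exact hπ this

end SmoothB

end Groth.Agent.Lib.T2H8.LiftA
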