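import Mathlib
import Groth.Prelude.Def_Smoothing
import Groth.Agent.Lib.T2H7StdElt
import Groth.Agent.Lib.T2H8LiftA
import Groth.Agent.Lib.T2H8DesingA

/-!
# Lifting lemma: smoothness of `D` on a chart (helper8)

`isSmoothAt_of_chart`: if `a f_ℓ = ∑ h_ℓt f_{rows t} + π² g_ℓ` and the chart relations `p_ℓ` lie in the
relation ideal of `D`, then every prime of `D` not containing `a` and the Jacobian minor of
`f_{rows}` is a smooth point (flatness + Jacobian criterion).
-/

set_option autoImplicit false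

namespace Groth.Agent.Lib.T2H8.LiftB

open MvPolynomial Groth.Agent.Lib.T2H8.LiftA

universe u

section Chart

variable {R : Type u} [CommRing R] {n m : ℕ} (π : R)
  (f : Fin m → MvPolynomial (Fin n) R)
  {c : ℕ} (hcm : c ≤ m) (σ : Equiv.Perm (Fin m)) (cols : Fin c → Fin n)
  (a : MvPolynomial (Fin n) R) (h : Fin m → Fin c → MvPolynomial (Fin n) R)
  (gg : Fin m → MvPolynomial (Fin n) R)

/-- the chosen rows -/
def rows (t : Fin c) : Fin m := σ (Fin.castLE hcm t)

theorem rows_injective : Function.Injective (rows hcm σ) := fun t t' h => by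
  have := σ.injective h
  exact Fin.castLE_injective hcm this

/-- supported admissible relation -/
noncomputable def admS (v' : Fin c → MvPolynomial (Fin n) R) (w : MvPolynomial (Fin n) R) :
    MvPolynomial (Fin (n + m)) R :=
  ∑ t, iota R n m (v' t) * zz R n (rows hcm σ t) - C π * iota R n m w

/-- the chart relations `p_ℓ` -/
noncomputable def pp (ℓ : Fin m) : MvPolynomial (Fin (n + m)) R :=
  iota R n m a * zz R n ℓ - ∑ t, iota R n m (h ℓ t) * zz R n (rows hcm σ t) -
    C π * iota R n m (gg ℓ)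

/-- extension by zero of a vector indexed by the rows -/
noncomputable def extv (v' : Fin c → MvPolynomial (Fin n) R) (j : Fin m) :
    MvPolynomial (Fin n) R :=
  ∑ t, if rows hcm σ t = j then v' t else 0

theorem sum_extv {S : Type*} [CommRing S] {Θ : Type*} [FunLike Θ (MvPolynomial (Fin n) R) S]
    [AddMonoidHomClass Θ (MvPolynomial (Fin n) R) S] (θ : Θ)
    (v' : Fin c → MvPolynomial (Fin n) R) (F : Fin m → S) :
    ∑ j, θ (extv hcm σ v' j) * F j = ∑ t, θ (v' t) * F (rows hcm σ t) := by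
  unfold extv
  simp_rw [map_sum, Finset.sum_mul]
  rw [Finset.sum_comm]
  refine Finset.sum_congr rfl fun t _ => ?_
  rw [Finset.sum_eq_single (rows hcm σ t)]
  · rw [if_pos rfl]
  · intro j _ hj
    rw [if_neg (fun e => hj e.symm), map_zero, zero_mul]
  · intro h; exact absurd (Finset.mem_univ _) h

theorem admS_eq_adm (v' : Fin c → MvPolynomial (Fin n) R) (w : MvPolynomial (Fin n) R) :
    admS π hcm σ v' w = adm π (extv hcm σ v') w := by
  unfold admS adm
  rw [sum_extv hcm σ (iota R n m) v' (zz R n)]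

theorem isAdm_admS (v' : Fin c → MvPolynomial (Fin n) R) (w : MvPolynomial (Fin n) R)
    (hv : ∑ t, v' t * f (rows hcm σ t) = C (π ^ 2) * w) :
    IsAdm π f (admS π hcm σ v' w) := by
  refine ⟨extv hcm σ v', w, ?_, admS_eq_adm π hcm σ v' w⟩
  have := sum_extv hcm σ (RingHom.id _) v' f
  simp only [RingHom.id_apply] at this
  rw [this, hv]

theorem pp_eq (ℓ : Fin m) :
    pp π hcm σ a h gg ℓ = adm π (fun j => (if j = ℓ then a else 0) - extv hcm σ (h ℓ) j) (gg ℓ) := by
  unfold pp adm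
  congr 1
  simp only [map_sub, sub_mul, Finset.sum_sub_distrib]
  congr 1
  · rw [Finset.sum_eq_single ℓ]
    · rw [if_pos rfl]
    · intro j _ hj
      rw [if_neg hj, map_zero, zero_mul]
    · intro h; exact absurd (Finset.mem_univ _) h
  · exact (sum_extv hcm σ (iota R n m) (h ℓ) (zz R n)).symm

theorem isAdm_pp
    (h4 : ∀ ℓ, a * f ℓ = ∑ t, h ℓ t * f (rows hcm σ t) + C (π ^ 2) * gg ℓ) (ℓ : Fin m) :
    IsAdm π f (pp π hcm σ a h gg ℓ) := by
  refine ⟨_, gg ℓ, ?_, pp_eq π hcm σ a h gg ℓ⟩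
  simp only [sub_mul, Finset.sum_sub_distrib]
  have h1 := sum_extv hcm σ (RingHom.id _) (h ℓ) f
  simp only [RingHom.id_apply] at h1
  rw [h1, Finset.sum_eq_single ℓ]
  · rw [if_pos rfl, h4 ℓ]; ring
  · intro j _ hj
    rw [if_neg hj, zero_mul]
  · intro h; exact absurd (Finset.mem_univ _) h

/-- the key identity -/
theorem key_identity
    (h4 : ∀ ℓ, a * f ℓ = ∑ t, h ℓ t * f (rows hcm σ t) + C (π ^ 2) * gg ℓ) (ℓ : Fin m) :
    iota R n m a * qq π f ℓ = ∑ t, iota R n m (h ℓ t) * qq π f (rows hcm σ t) -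
      C π * pp π hcm σ a h gg ℓ := by
  have h1 := congrArg (iota R n m) (h4 ℓ)
  rw [map_mul, map_add, map_sum, map_mul, iota_C] at h1
  simp only [map_mul] at h1
  unfold qq pp
  simp only [mul_sub, Finset.sum_sub_distrib, Finset.mul_sum]
  rw [h1, map_pow]
  have : ∀ t : Fin c, C π * (iota R n m (h ℓ t) * zz R n (rows hcm σ t)) =
      iota R n m (h ℓ t) * (C π * zz R n (rows hcm σ t)) := fun t => by ring
  simp_rw [this]
  ring


/-- chart relations -/
noncomputable def GG (j : Fin m) : MvPolynomial (Fin (n + m)) R :=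
  if (j : ℕ) < c then qq π f (σ j) else pp π hcm σ a h gg (σ j)

/-- chart columns -/
def colsFull (j : Fin m) : Fin (n + m) :=
  if hj : (j : ℕ) < c then Fin.castAdd m (cols ⟨j, hj⟩) else Fin.natAdd n (σ j)

theorem pderiv_natAdd_pp (k ℓ : Fin m) (hk : ∀ t, rows hcm σ t ≠ k) :
    pderiv (Fin.natAdd n k) (pp π hcm σ a h gg ℓ) = if ℓ = k then iota R n m a else 0 := by
  unfold pp
  simp only [map_sub, map_sum, Derivation.leibniz, pderiv_natAdd_iota, pderiv_natAdd_zz, pderiv_C,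
    smul_zero, add_zero, smul_eq_mul, hk, if_false, mul_zero, Finset.sum_const_zero, sub_zero]
  split_ifs <;> simp

theorem GG_of_lt (j : Fin m) (hj : (j : ℕ) < c) : GG π f hcm σ a h gg j = qq π f (σ j) := by
  unfold GG; rw [if_pos hj]

theorem GG_of_not_lt (j : Fin m) (hj : ¬ (j : ℕ) < c) :
    GG π f hcm σ a h gg j = pp π hcm σ a h gg (σ j) := by
  unfold GG; rw [if_neg hj]

theorem rows_ne_of_not_lt (j : Fin m) (hj : ¬ (j : ℕ) < c) (t : Fin c) : rows hcm σ t ≠ σ j := by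
  intro e
  have := σ.injective e
  apply hj
  rw [← this]
  exact t.2

theorem det_chart :
    Matrix.det (Matrix.of fun j k : Fin m =>
      pderiv (colsFull σ cols k) (GG π f hcm σ a h gg j)) =
    iota R n m (Smoothing.jacobianMinor f (rows hcm σ) cols) *
      (iota R n m a) ^ (Fintype.card {j : Fin m // ¬ (j : ℕ) < c}) := by
  classical
  rw [Matrix.twoBlockTriangular_det' _ (fun j : Fin m => (j : ℕ) < c)]
  · congr 1
    · -- first block
      let e : Fin c ≃ {j : Fin m // (j : ℕ) < c} :=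
        { toFun := fun t => ⟨Fin.castLE hcm t, t.2⟩
          invFun := fun j => ⟨j.1.1, j.2⟩
          left_inv := fun t => rfl
          right_inv := fun j => rfl }
      rw [← Matrix.det_submatrix_equiv_self e]
      unfold Smoothing.jacobianMinor
      rw [AlgHom.map_det]
      congr 1
      ext t t'
      simp only [Matrix.submatrix_apply, Matrix.toSquareBlockProp_def, Matrix.of_apply,
        AlgHom.mapMatrix_apply, Matrix.map_apply]
      have h1 : ((e t : Fin m) : ℕ) < c := (e t).2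
      have h2 : ((e t' : Fin m) : ℕ) < c := (e t').2
      rw [GG_of_lt π f hcm σ a h gg _ h1]
      unfold colsFull
      rw [dif_pos h2, pderiv_castAdd_qq]
      rfl
    · -- second block
      have hB : (Matrix.toSquareBlockProp (Matrix.of fun j k : Fin m =>
          pderiv (colsFull σ cols k) (GG π f hcm σ a h gg j))
          fun j : Fin m => ¬ (j : ℕ) < c) = Matrix.diagonal (fun _ => iota R n m a) := by
        ext ⟨i, hi⟩ ⟨j, hj⟩
        simp only [Matrix.toSquareBlockProp_def, Matrix.of_apply, Matrix.diagonal_apply]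
        rw [GG_of_not_lt π f hcm σ a h gg _ hi]
        unfold colsFull
        rw [dif_neg hj, pderiv_natAdd_pp π hcm σ a h gg _ _ (rows_ne_of_not_lt hcm σ j hj)]
        by_cases hij : i = j
        · subst hij; simp
        · rw [if_neg (fun e => hij (σ.injective e)), if_neg]
          intro e
          exact hij (Subtype.mk.inj e)
      rw [hB, Matrix.det_diagonal, Finset.prod_const, Finset.card_univ]
  · intro i hi j hj
    simp only [Matrix.of_apply]
    rw [GG_of_lt π f hcm σ a h gg _ hi]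
    unfold colsFull
    rw [dif_neg hj, pderiv_natAdd_qq, if_neg]
    intro e
    have := σ.injective e
    exact hj (this ▸ hi)


/-- the chart ideal -/
noncomputable def cI : Ideal (MvPolynomial (Fin (n + m)) R) :=
  Ideal.span (Set.range (GG π f hcm σ a h gg))

theorem qq_rows_mem (t : Fin c) : qq π f (rows hcm σ t) ∈ cI π f hcm σ a h gg := by
  have : qq π f (rows hcm σ t) = GG π f hcm σ a h gg (Fin.castLE hcm t) :=
    (GG_of_lt π f hcm σ a h gg _ t.2).symm
  rw [this]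
  exact Ideal.subset_span ⟨_, rfl⟩

theorem isSmoothAt_chart (Q'' : Ideal (MvPolynomial (Fin (n + m)) R ⧸ cI π f hcm σ a h gg))
    [Q''.IsPrime]
    (ha : Ideal.Quotient.mk (cI π f hcm σ a h gg) (iota R n m a) ∉ Q'')
    (hΔ : Ideal.Quotient.mk (cI π f hcm σ a h gg)
      (iota R n m (Smoothing.jacobianMinor f (rows hcm σ) cols)) ∉ Q'') :
    Algebra.IsSmoothAt R Q'' := by
  let φ : MvPolynomial (Fin (n + m)) R →ₐ[R] _ := Ideal.Quotient.mkₐ R (cI π f hcm σ a h gg)
  have hφ : Function.Surjective φ := Ideal.Quotient.mkₐ_surjective R _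
  have hker : RingHom.ker φ.toRingHom = cI π f hcm σ a h gg := by
    show RingHom.ker (Ideal.Quotient.mk _) = _
    exact Ideal.mk_ker
  refine Groth.Agent.Lib.T2H7.StdElt.isSmoothAt_of_minor_not_mem (GG π f hcm σ a h gg)
    (colsFull σ cols) φ hφ Q'' ?_ ?_
  · rw [hker]; rfl
  · rw [det_chart, map_mul, map_pow]
    intro hmem
    rcases Ideal.IsPrime.mem_or_mem inferInstance hmem with h1 | h1
    · exact hΔ h1
    · exact ha (Ideal.IsPrime.mem_of_pow_mem inferInstance _ h1)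

theorem exists_flat_mult (hR : ∀ r : R, π ^ 2 * r = 0 → π * r = 0)
    (Q'' : Ideal (MvPolynomial (Fin (n + m)) R ⧸ cI π f hcm σ a h gg)) [Q''.IsPrime]
    (hsm : Algebra.IsSmoothAt R Q'') :
    ∃ s : MvPolynomial (Fin (n + m)) R, Ideal.Quotient.mk (cI π f hcm σ a h gg) s ∉ Q'' ∧
      ∀ t : MvPolynomial (Fin (n + m)) R, C (π ^ 2) * t ∈ cI π f hcm σ a h gg →
        ∃ N : ℕ, s ^ N * (C π * t) ∈ cI π f hcm σ a h gg := by
  have hfp : Algebra.FinitePresentation R
      (MvPolynomial (Fin (n + m)) R ⧸ cI π f hcm σ a h gg) :=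
    Algebra.FinitePresentation.quotient (Submodule.fg_span (Set.finite_range _))
  obtain ⟨s'', hs'', hsm'⟩ := Algebra.IsSmoothAt.exists_notMem_smooth R Q''
  obtain ⟨s, rfl⟩ := Ideal.Quotient.mk_surjective s''
  refine ⟨s, hs'', ?_⟩
  intro t ht
  set D'' := MvPolynomial (Fin (n + m)) R ⧸ cI π f hcm σ a h gg
  set x : D'' := Ideal.Quotient.mk (cI π f hcm σ a h gg) s with hx
  have hflat : Module.Flat R (Localization.Away x) := inferInstance
  have h0 : Ideal.Quotient.mk (cI π f hcm σ a h gg) (C (π ^ 2) * t) = 0 :=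
    Ideal.Quotient.eq_zero_iff_mem.mpr ht
  have h1 : (π ^ 2) • (algebraMap D'' (Localization.Away x)
      (Ideal.Quotient.mk (cI π f hcm σ a h gg) t)) = 0 := by
    rw [Algebra.smul_def, IsScalarTower.algebraMap_apply R D'' (Localization.Away x), ← map_mul]
    have : algebraMap R D'' (π ^ 2) * Ideal.Quotient.mk (cI π f hcm σ a h gg) t =
        Ideal.Quotient.mk (cI π f hcm σ a h gg) (C (π ^ 2) * t) := by
      rw [map_mul]; rfl
    rw [this, h0, map_zero]
  have h2 := Groth.Agent.Lib.T2H8.DesingA.flat_smul_eq_zero (π ^ 2) π hR _ h1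
  have h3 : algebraMap D'' (Localization.Away x)
      (Ideal.Quotient.mk (cI π f hcm σ a h gg) (C π * t)) = 0 := by
    have : Ideal.Quotient.mk (cI π f hcm σ a h gg) (C π * t) =
        algebraMap R D'' π * Ideal.Quotient.mk (cI π f hcm σ a h gg) t := by
      rw [map_mul]; rfl
    rw [this, map_mul, ← IsScalarTower.algebraMap_apply, ← Algebra.smul_def]
    exact h2
  obtain ⟨⟨_, N, rfl⟩, hN⟩ :=
    (IsLocalization.map_eq_zero_iff (Submonoid.powers x) (Localization.Away x) _).mp h3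
  refine ⟨N, ?_⟩
  rw [← Ideal.Quotient.eq_zero_iff_mem, map_mul, map_pow]
  exact hN


theorem iota_map_le :
    (Ideal.span (Set.range fun t => f (rows hcm σ t)) ⊔ Ideal.span {C (π ^ 2)}).map
      (iota R n m) ≤ cI π f hcm σ a h gg ⊔ Ideal.span {C π} := by
  rw [Ideal.map_sup, Ideal.map_span, Ideal.map_span]
  refine sup_le (Ideal.span_le.mpr ?_) (Ideal.span_le.mpr ?_)
  · rintro _ ⟨_, ⟨t, rfl⟩, rfl⟩
    have : iota R n m (f (rows hcm σ t)) = qq π f (rows hcm σ t) + zz R n (rows hcm σ t) * C π := by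
      unfold qq; ring
    show iota R n m (f (rows hcm σ t)) ∈ _
    rw [this]
    exact Ideal.add_mem _ (Ideal.mem_sup_left (qq_rows_mem π f hcm σ a h gg t))
      (Ideal.mem_sup_right (Ideal.mul_mem_left _ _ (Ideal.subset_span rfl)))
  · rintro _ ⟨_, rfl, rfl⟩
    show iota R n m (C (π ^ 2)) ∈ _
    rw [iota_C, pow_two, map_mul]
    exact Ideal.mem_sup_right (Ideal.mul_mem_left _ _ (Ideal.subset_span rfl))

theorem delta_mul_mem (v' : Fin c → MvPolynomial (Fin n) R) (w : MvPolynomial (Fin n) R)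
    (hv : ∑ t, v' t * f (rows hcm σ t) = C (π ^ 2) * w) (t₀ : Fin c) :
    Smoothing.jacobianMinor f (rows hcm σ) cols * v' t₀ ∈
      Ideal.span (Set.range fun t => f (rows hcm σ t)) ⊔ Ideal.span {C (π ^ 2)} := by
  classical
  set J₀ := Ideal.span (Set.range fun t => f (rows hcm σ t)) ⊔
    Ideal.span {(C (π ^ 2) : MvPolynomial (Fin n) R)} with hJ₀
  let Mx : Matrix (Fin c) (Fin c) (MvPolynomial (Fin n) R) :=
    Matrix.of fun t t' => pderiv (cols t') (f (rows hcm σ t))
  have hdet : Smoothing.jacobianMinor f (rows hcm σ) cols = Mx.det := rfl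
  have hy : ∀ t', ∑ t, v' t * Mx t t' ∈ J₀ := by
    intro t'
    have h1 := congrArg (pderiv (cols t')) hv
    rw [map_sum] at h1
    simp only [Derivation.leibniz, pderiv_C, smul_eq_mul, mul_zero, add_zero] at h1
    rw [Finset.sum_add_distrib] at h1
    have h2 : ∑ t, v' t * Mx t t' = C (π ^ 2) * pderiv (cols t') w -
        ∑ t, f (rows hcm σ t) * pderiv (cols t') (v' t) := by
      rw [← h1]
      show ∑ t, v' t * pderiv (cols t') (f (rows hcm σ t)) = _
      ring
    rw [h2]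
    refine Ideal.sub_mem _ (Ideal.mem_sup_right (Ideal.mul_mem_right _ _ (Ideal.subset_span rfl)))
      (Ideal.sum_mem _ fun t _ => Ideal.mem_sup_left (Ideal.mul_mem_right _ _
        (Ideal.subset_span ⟨t, rfl⟩)))
  have hadj : ∀ t, ∑ t', Mx t t' * Mx.adjugate t' t₀ = if t = t₀ then Mx.det else 0 := by
    intro t
    have := congrFun (congrFun (Matrix.mul_adjugate Mx) t) t₀
    rw [Matrix.mul_apply, Matrix.smul_apply, Matrix.one_apply] at this
    rw [this]
    split_ifs <;> simp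
  have h3 : Mx.det * v' t₀ = ∑ t', (∑ t, v' t * Mx t t') * Mx.adjugate t' t₀ := by
    simp_rw [Finset.sum_mul]
    rw [Finset.sum_comm]
    simp_rw [mul_assoc, ← Finset.mul_sum, hadj]
    rw [Finset.sum_eq_single t₀]
    · rw [if_pos rfl, mul_comm]
    · intro t _ ht
      rw [if_neg ht, mul_zero]
    · intro h; exact absurd (Finset.mem_univ _) h
  rw [hdet, h3]
  exact Ideal.sum_mem _ fun t' _ => Ideal.mul_mem_right _ _ (hy t')

theorem lemmaA (Q' : Ideal (MvPolynomial (Fin (n + m)) R)) [Q'.IsPrime]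
    (s : MvPolynomial (Fin (n + m)) R) (hs : s ∉ Q')
    (hflat : ∀ t : MvPolynomial (Fin (n + m)) R, C (π ^ 2) * t ∈ cI π f hcm σ a h gg →
        ∃ N : ℕ, s ^ N * (C π * t) ∈ cI π f hcm σ a h gg)
    (hΔ : iota R n m (Smoothing.jacobianMinor f (rows hcm σ) cols) ∉ Q')
    (v' : Fin c → MvPolynomial (Fin n) R) (w : MvPolynomial (Fin n) R)
    (hv : ∑ t, v' t * f (rows hcm σ t) = C (π ^ 2) * w) :
    ∃ u, u ∉ Q' ∧ u * admS π hcm σ v' w ∈ cI π f hcm σ a h gg := by
  set 𝔠 := cI π f hcm σ a h gg with h𝔠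
  set Δ := Smoothing.jacobianMinor f (rows hcm σ) cols with hΔdef
  set ρ := admS π hcm σ v' w with hρ
  -- (i)
  have h1 : C π * ρ ∈ 𝔠 := by
    have hv' : ∑ j, extv hcm σ v' j * f j = C (π ^ 2) * w := by
      have := sum_extv hcm σ (RingHom.id _) v' f
      simp only [RingHom.id_apply] at this
      rw [this, hv]
    rw [hρ, admS_eq_adm, pi_mul_adm π f _ w hv', sum_extv hcm σ (iota R n m) v' (qq π f)]
    exact (Ideal.neg_mem_iff _).mpr (Ideal.sum_mem _ fun t _ => Ideal.mul_mem_left _ _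
      (qq_rows_mem π f hcm σ a h gg t))
  -- (iii)
  have h2 : iota R n m Δ * ρ ∈ 𝔠 ⊔ Ideal.span {C π} := by
    have e : iota R n m Δ * ρ = ∑ t, iota R n m (Δ * v' t) * zz R n (rows hcm σ t) -
        C π * (iota R n m Δ * iota R n m w) := by
      rw [hρ]; unfold admS
      rw [mul_sub, Finset.mul_sum]
      congr 1
      · refine Finset.sum_congr rfl fun t _ => ?_
        rw [map_mul]; ring
      · ring
    rw [e]
    refine Ideal.sub_mem _ (Ideal.sum_mem _ fun t _ => Ideal.mul_mem_right _ _ ?_)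
      (Ideal.mem_sup_right (Ideal.mul_mem_right _ _ (Ideal.subset_span rfl)))
    exact iota_map_le π f hcm σ a h gg
      (Ideal.mem_map_of_mem _ (delta_mul_mem π f hcm σ cols v' w hv t))
  obtain ⟨γ, hγ, y, hy, hsum⟩ := Submodule.mem_sup.mp h2
  obtain ⟨t'', rfl⟩ := Ideal.mem_span_singleton'.mp hy
  -- (iv)
  have h3 : C (π ^ 2) * t'' ∈ 𝔠 := by
    have : C (π ^ 2) * t'' = iota R n m Δ * (C π * ρ) - C π * γ := by
      have : t'' * C π = iota R n m Δ * ρ - γ := by rw [← hsum]; ring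
      rw [pow_two, map_mul]
      linear_combination (C π) * this
    rw [this]
    exact Ideal.sub_mem _ (Ideal.mul_mem_left _ _ h1) (Ideal.mul_mem_left _ _ hγ)
  obtain ⟨N, hN⟩ := hflat t'' h3
  refine ⟨s ^ N * iota R n m Δ, ?_, ?_⟩
  · intro hmem
    rcases Ideal.IsPrime.mem_or_mem inferInstance hmem with h5 | h5
    · exact hs (Ideal.IsPrime.mem_of_pow_mem inferInstance _ h5)
    · exact hΔ h5
  · have : s ^ N * iota R n m Δ * ρ = s ^ N * γ + s ^ N * (C π * t'') := by
      rw [mul_assoc, ← hsum]; ring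
    rw [this]
    exact Ideal.add_mem _ (Ideal.mul_mem_left _ _ hγ) hN


theorem adm_reduce (v : Fin m → MvPolynomial (Fin n) R) (w : MvPolynomial (Fin n) R) :
    iota R n m a * adm π v w - ∑ ℓ, iota R n m (v ℓ) * pp π hcm σ a h gg ℓ =
      admS π hcm σ (fun t => ∑ ℓ, v ℓ * h ℓ t) (a * w - ∑ ℓ, v ℓ * gg ℓ) := by
  unfold adm pp admS
  simp only [map_sum, map_mul, map_sub, mul_sub, Finset.mul_sum, Finset.sum_sub_distrib,
    Finset.sum_mul]
  rw [Finset.sum_comm (f := fun t ℓ => iota R n m (v ℓ) * iota R n m (h ℓ t) *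
    zz R n (rows hcm σ t))]
  have e1 : ∀ ℓ : Fin m, iota R n m a * (iota R n m (v ℓ) * zz R n ℓ) =
      iota R n m (v ℓ) * (iota R n m a * zz R n ℓ) := fun ℓ => by ring
  have e2 : ∀ ℓ : Fin m, ∀ t : Fin c, iota R n m (v ℓ) * (iota R n m (h ℓ t) *
      zz R n (rows hcm σ t)) = iota R n m (v ℓ) * iota R n m (h ℓ t) * zz R n (rows hcm σ t) :=
    fun ℓ t => by ring
  have e3 : ∀ ℓ : Fin m, iota R n m (v ℓ) * (C π * iota R n m (gg ℓ)) =
      C π * (iota R n m (v ℓ) * iota R n m (gg ℓ)) := fun ℓ => by ring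
  simp_rw [e1, e2, e3]
  ring

theorem sum_reduce (v : Fin m → MvPolynomial (Fin n) R) (w : MvPolynomial (Fin n) R)
    (h4 : ∀ ℓ, a * f ℓ = ∑ t, h ℓ t * f (rows hcm σ t) + C (π ^ 2) * gg ℓ)
    (hv : ∑ j, v j * f j = C (π ^ 2) * w) :
    ∑ t, (∑ ℓ, v ℓ * h ℓ t) * f (rows hcm σ t) = C (π ^ 2) * (a * w - ∑ ℓ, v ℓ * gg ℓ) := by
  simp_rw [Finset.sum_mul]
  rw [Finset.sum_comm]
  have e1 : ∀ ℓ : Fin m, ∑ t, v ℓ * h ℓ t * f (rows hcm σ t) =
      v ℓ * (a * f ℓ - C (π ^ 2) * gg ℓ) := by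
    intro ℓ
    rw [h4 ℓ, add_sub_cancel_right, Finset.mul_sum]
    refine Finset.sum_congr rfl fun t _ => by ring
  simp_rw [e1]
  have e2 : ∀ ℓ : Fin m, v ℓ * (a * f ℓ - C (π ^ 2) * gg ℓ) =
      a * (v ℓ * f ℓ) - C (π ^ 2) * (v ℓ * gg ℓ) := fun ℓ => by ring
  simp_rw [e2]
  rw [Finset.sum_sub_distrib, ← Finset.mul_sum, ← Finset.mul_sum, hv]
  ring

theorem isSmoothAt_of_chart (hR : ∀ r : R, π ^ 2 * r = 0 → π * r = 0)
    (W : Set (MvPolynomial (Fin (n + m)) R)) (hW : ∀ ρ ∈ W, IsAdm π f ρ)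
    (h4 : ∀ ℓ, a * f ℓ = ∑ t, h ℓ t * f (rows hcm σ t) + C (π ^ 2) * gg ℓ)
    (hpp : ∀ ℓ, pp π hcm σ a h gg ℓ ∈ ID π f W)
    (Q : Ideal (DD π f W)) [Q.IsPrime]
    (ha : Ideal.Quotient.mk (ID π f W) (iota R n m a) ∉ Q)
    (hΔ : Ideal.Quotient.mk (ID π f W)
      (iota R n m (Smoothing.jacobianMinor f (rows hcm σ) cols)) ∉ Q) :
    Algebra.IsSmoothAt R Q := by
  classical
  set 𝔠 := cI π f hcm σ a h gg with h𝔠
  have h𝔠le : 𝔠 ≤ ID π f W := by
    rw [h𝔠]; unfold cI
    rw [Ideal.span_le]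
    rintro _ ⟨j, rfl⟩
    by_cases hj : (j : ℕ) < c
    · rw [GG_of_lt π f hcm σ a h gg j hj]
      exact Ideal.subset_span (Or.inl ⟨_, rfl⟩)
    · rw [GG_of_not_lt π f hcm σ a h gg j hj]
      exact hpp _
  let φ : MvPolynomial (Fin (n + m)) R →ₐ[R] DD π f W := Ideal.Quotient.mkₐ R (ID π f W)
  have hφ : Function.Surjective φ := Ideal.Quotient.mkₐ_surjective R _
  have hker : RingHom.ker φ.toRingHom = ID π f W := by
    show RingHom.ker (Ideal.Quotient.mk _) = _
    exact Ideal.mk_ker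
  have hQ' : (Q.comap φ.toRingHom).IsPrime := Ideal.comap_isPrime φ.toRingHom Q
  set Q' := Q.comap φ.toRingHom with hQ'def
  have hmemQ' : ∀ x, x ∈ Q' ↔ Ideal.Quotient.mk (ID π f W) x ∈ Q := fun x => Iff.rfl
  let fac : (MvPolynomial (Fin (n + m)) R ⧸ 𝔠) →ₐ[R] DD π f W := Ideal.Quotient.factorₐ R h𝔠le
  have hQ'' : (Q.comap fac.toRingHom).IsPrime := Ideal.comap_isPrime fac.toRingHom Q
  set Q'' := Q.comap fac.toRingHom with hQ''def
  have hmemQ'' : ∀ x, Ideal.Quotient.mk 𝔠 x ∈ Q'' ↔ Ideal.Quotient.mk (ID π f W) x ∈ Q :=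
    fun x => Iff.rfl
  have hsm'' : Algebra.IsSmoothAt R Q'' :=
    isSmoothAt_chart π f hcm σ cols a h gg Q'' ((hmemQ'' _).not.mpr ha) ((hmemQ'' _).not.mpr hΔ)
  obtain ⟨s, hs, hflat⟩ := exists_flat_mult π f hcm σ a h gg hR Q'' hsm''
  have hs' : s ∉ Q' := fun hmem => hs ((hmemQ'' s).mpr ((hmemQ' s).mp hmem))
  have hΔ' : iota R n m (Smoothing.jacobianMinor f (rows hcm σ) cols) ∉ Q' := hΔ
  have ha' : iota R n m a ∉ Q' := ha
  have hA := lemmaA π f hcm σ cols a h gg Q' s hs' hflat hΔ'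
  -- multipliers for the chart relations
  have hP : ∀ ℓ, ∃ u, u ∉ Q' ∧ u * pp π hcm σ a h gg ℓ ∈ 𝔠 := by
    intro ℓ
    by_cases hj : ((σ.symm ℓ : Fin m) : ℕ) < c
    · -- ℓ is one of the rows
      have hℓ : ℓ = rows hcm σ ⟨(σ.symm ℓ : Fin m), hj⟩ := by
        unfold rows
        have : Fin.castLE hcm ⟨(σ.symm ℓ : Fin m), hj⟩ = σ.symm ℓ := Fin.ext rfl
        rw [this, Equiv.apply_symm_apply]
      set t₁ : Fin c := ⟨(σ.symm ℓ : Fin m), hj⟩ with ht₁
      have e : pp π hcm σ a h gg ℓ =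
          admS π hcm σ (fun t => (if t = t₁ then a else 0) - h ℓ t) (gg ℓ) := by
        unfold pp admS
        congr 1
        simp only [map_sub, sub_mul, Finset.sum_sub_distrib]
        congr 1
        rw [Finset.sum_eq_single t₁]
        · rw [if_pos rfl, ← hℓ]
        · intro t _ ht
          rw [if_neg ht, map_zero, zero_mul]
        · intro h; exact absurd (Finset.mem_univ _) h
      rw [e]
      refine hA _ _ ?_
      simp only [sub_mul, Finset.sum_sub_distrib]
      rw [Finset.sum_eq_single t₁]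
      · rw [if_pos rfl, ← hℓ, h4 ℓ]; ring
      · intro t _ ht
        rw [if_neg ht, zero_mul]
      · intro h; exact absurd (Finset.mem_univ _) h
    · refine ⟨1, fun h1 => (Ideal.IsPrime.ne_top hQ') ((Ideal.eq_top_iff_one _).mpr h1), ?_⟩
      rw [one_mul]
      have : pp π hcm σ a h gg ℓ = GG π f hcm σ a h gg (σ.symm ℓ) := by
        rw [GG_of_not_lt π f hcm σ a h gg _ hj, Equiv.apply_symm_apply]
      rw [this]
      exact Ideal.subset_span ⟨_, rfl⟩
  choose uP huP huP' using hP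
  set U := ∏ ℓ, uP ℓ with hU
  have hUQ : U ∉ Q' := by
    rw [hU]
    intro hmem
    obtain ⟨ℓ, -, hℓ⟩ := (Ideal.IsPrime.prod_mem_iff).mp hmem
    exact huP ℓ hℓ
  have hUpp : ∀ ℓ, U * pp π hcm σ a h gg ℓ ∈ 𝔠 := by
    intro ℓ
    have : U = (∏ ℓ' ∈ Finset.univ.erase ℓ, uP ℓ') * uP ℓ := by
      rw [hU, Finset.prod_erase_mul _ _ (Finset.mem_univ ℓ)]
    rw [this, mul_assoc]
    exact Ideal.mul_mem_left _ _ (huP' ℓ)
  -- the relations q
  have hq : ∀ ℓ, (U * iota R n m a) * qq π f ℓ ∈ 𝔠 := by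
    intro ℓ
    rw [mul_assoc, key_identity π f hcm σ a h gg h4 ℓ, mul_sub]
    refine Ideal.sub_mem _ (Ideal.mul_mem_left _ _ (Ideal.sum_mem _ fun t _ =>
      Ideal.mul_mem_left _ _ (qq_rows_mem π f hcm σ a h gg t))) ?_
    have : U * (C π * pp π hcm σ a h gg ℓ) = C π * (U * pp π hcm σ a h gg ℓ) := by ring
    rw [this]
    exact Ideal.mul_mem_left _ _ (hUpp ℓ)
  -- general admissible relations
  have hB : ∀ ρ, IsAdm π f ρ → ∃ u, u ∉ Q' ∧ u * ρ ∈ 𝔠 := by
    rintro _ ⟨v, w, hv, rfl⟩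
    obtain ⟨u₁, hu₁, hu₁'⟩ := hA _ _ (sum_reduce π f hcm σ a h gg v w h4 hv)
    rw [← adm_reduce] at hu₁'
    refine ⟨u₁ * U * iota R n m a, ?_, ?_⟩
    · intro hmem
      rcases Ideal.IsPrime.mem_or_mem hQ' hmem with h5 | h5
      · rcases Ideal.IsPrime.mem_or_mem hQ' h5 with h6 | h6
        · exact hu₁ h6
        · exact hUQ h6
      · exact ha' h5
    · have : u₁ * U * iota R n m a * adm π v w =
          U * (u₁ * (iota R n m a * adm π v w - ∑ ℓ, iota R n m (v ℓ) * pp π hcm σ a h gg ℓ)) +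
          u₁ * ∑ ℓ, iota R n m (v ℓ) * (U * pp π hcm σ a h gg ℓ) := by
        have hS : ∑ ℓ, iota R n m (v ℓ) * (U * pp π hcm σ a h gg ℓ) =
            U * ∑ ℓ, iota R n m (v ℓ) * pp π hcm σ a h gg ℓ := by
          rw [Finset.mul_sum]
          refine Finset.sum_congr rfl fun ℓ _ => by ring
        rw [hS]
        ring
      rw [this]
      refine Ideal.add_mem _ (Ideal.mul_mem_left _ _ hu₁') (Ideal.mul_mem_left _ _
        (Ideal.sum_mem _ fun ℓ _ => Ideal.mul_mem_left _ _ (hUpp ℓ)))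
  -- conclusion
  refine Groth.Agent.Lib.T2H7.StdElt.isSmoothAt_of_minor_not_mem (GG π f hcm σ a h gg)
    (colsFull σ cols) φ hφ Q ?_ ?_
  · rw [hker]
    show Ideal.map _ 𝔠 = _
    unfold ID
    refine @map_eq_map_of_forall_mul_mem _ _ _ hQ' _ _ h𝔠le ?_
    rintro x (⟨j, rfl⟩ | hx)
    · refine ⟨U * iota R n m a, ?_, hq j⟩
      intro hmem
      rcases Ideal.IsPrime.mem_or_mem hQ' hmem with h5 | h5
      · exact hUQ h5
      · exact ha' h5
    · exact hB x (hW x hx)
  · rw [det_chart, map_mul, map_pow]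
    intro hmem
    rcases Ideal.IsPrime.mem_or_mem inferInstance hmem with h1 | h1
    · exact hΔ h1
    · exact ha (Ideal.IsPrime.mem_of_pow_mem inferInstance _ h1)

end Chart

end Groth.Agent.Lib.T2H8.LiftB
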