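import Mathlib
import Groth.Prelude.Def_Smoothing
import Groth.Agent.Lib.T2H7StdElt
import Groth.Agent.Lib.T2H8LiftA
import Groth.Agent.Lib.T2H8LiftB

/-!
# The lifting lemma (helper8)

`main`: the statement of S2024 (Stacks 07CP (a)-(c)). `exists_chart`: at a smooth point of
`C = (R/π²)[x]/(f̄)` some relations `f_{rows}` generate the relation ideal up to a multiplier and
modulo `π²`, with a nonvanishing Jacobian minor. The family of charts is indexed by generators of
the conductor ideals `bb`.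
-/

set_option autoImplicit false

namespace Groth.Agent.Lib.T2H8.LiftC

open MvPolynomial Groth.Agent.Lib.T2H8.LiftA Groth.Agent.Lib.T2H8.LiftB

universe u

section Point

variable {R : Type u} [CommRing R] (π : R) {C' : Type u} [CommRing C']
  [Algebra (R ⧸ Ideal.span {π ^ 2}) C'] {n m : ℕ}
  (φb : MvPolynomial (Fin n) (R ⧸ Ideal.span {π ^ 2}) →ₐ[R ⧸ Ideal.span {π ^ 2}] C')
  (hφb : Function.Surjective φb)
  (fb : Fin m → MvPolynomial (Fin n) (R ⧸ Ideal.span {π ^ 2}))
  (hkerb : RingHom.ker φb.toRingHom = Ideal.span (Set.range fb))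
  (f : Fin m → MvPolynomial (Fin n) R)
  (hf : ∀ j, MvPolynomial.map (Ideal.Quotient.mk (Ideal.span {π ^ 2})) (f j) = fb j)

theorem ker_map_mk : RingHom.ker (MvPolynomial.map (σ := Fin n)
    (Ideal.Quotient.mk (Ideal.span {π ^ 2}))) =
    Ideal.span {(C (π ^ 2) : MvPolynomial (Fin n) R)} := by
  rw [MvPolynomial.ker_map, Ideal.mk_ker, Ideal.map_span, Set.image_singleton]

include hf in
theorem map_minor {c : ℕ} (rows : Fin c → Fin m) (cols : Fin c → Fin n) :
    MvPolynomial.map (Ideal.Quotient.mk (Ideal.span {π ^ 2}))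
      (Smoothing.jacobianMinor f rows cols) = Smoothing.jacobianMinor fb rows cols := by
  unfold Smoothing.jacobianMinor
  rw [RingHom.map_det]
  congr 1
  ext j k
  simp only [RingHom.mapMatrix_apply, Matrix.map_apply, Matrix.of_apply]
  rw [← pderiv_map, hf]

include hφb hkerb hf in
theorem exists_chart (𝔭 : Ideal C') [𝔭.IsPrime]
    (hsm : Algebra.IsSmoothAt (R ⧸ Ideal.span {π ^ 2}) 𝔭) :
    ∃ (c : ℕ) (hcm : c ≤ m) (σ : Equiv.Perm (Fin m)) (cols : Fin c → Fin n)
      (a₀ : MvPolynomial (Fin n) R),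
      φb (MvPolynomial.map (Ideal.Quotient.mk (Ideal.span {π ^ 2})) a₀) ∉ 𝔭 ∧
      φb (MvPolynomial.map (Ideal.Quotient.mk (Ideal.span {π ^ 2}))
        (Smoothing.jacobianMinor f (rows hcm σ) cols)) ∉ 𝔭 ∧
      ∀ ℓ, a₀ * f ℓ ∈ Ideal.span (Set.range fun t => f (rows hcm σ t)) ⊔
        Ideal.span {C (π ^ 2)} := by
  obtain ⟨c, rows', cols', hmin, ab, hab, hgen⟩ :=
    Groth.Agent.Lib.T2H7.JacCritC.exists_rows_cols fb φb hφb hkerb 𝔭 hsm
  have hcm : c ≤ m := by simpa using Fintype.card_le_of_embedding rows'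
  obtain ⟨σ, hσ⟩ := Groth.Agent.Lib.T2H7.StdElt.exists_perm_extending (Fin.castLEEmb hcm) rows'
  have hrows : ∀ t, rows hcm σ t = rows' t := fun t => hσ t
  have hrows' : rows hcm σ = rows' := funext hrows
  obtain ⟨a₀, ha₀⟩ := MvPolynomial.map_surjective
    (Ideal.Quotient.mk (Ideal.span {π ^ 2})) Ideal.Quotient.mk_surjective ab
  refine ⟨c, hcm, σ, cols', a₀, by rw [ha₀]; exact hab, ?_, ?_⟩
  · rw [map_minor π fb f hf, hrows']
    exact hmin
  · intro ℓ
    obtain ⟨hb, hhb⟩ := (Ideal.mem_span_range_iff_exists_fun).mp (hgen ℓ)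
    choose hl hhl using fun t => MvPolynomial.map_surjective
      (Ideal.Quotient.mk (Ideal.span {π ^ 2})) Ideal.Quotient.mk_surjective (hb t)
    have h1 : a₀ * f ℓ - ∑ t, hl t * f (rows hcm σ t) ∈
        Ideal.span {(C (π ^ 2) : MvPolynomial (Fin n) R)} := by
      rw [← ker_map_mk, RingHom.mem_ker, map_sub, map_mul, map_sum, ha₀, hf, ← hhb, sub_eq_zero]
      refine Finset.sum_congr rfl fun t _ => ?_
      rw [map_mul, hhl, hf, hrows]
      rfl
    have h2 : a₀ * f ℓ = ∑ t, hl t * f (rows hcm σ t) +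
        (a₀ * f ℓ - ∑ t, hl t * f (rows hcm σ t)) := by ring
    rw [h2]
    refine Ideal.add_mem _ (Ideal.mem_sup_left (Ideal.sum_mem _ fun t _ =>
      Ideal.mul_mem_left _ _ (Ideal.subset_span ⟨t, rfl⟩))) (Ideal.mem_sup_right h1)

end Point


section Family

variable {R : Type u} [CommRing R] (π : R) {n m : ℕ} (f : Fin m → MvPolynomial (Fin n) R)

/-- index of the possible sets of rows -/
abbrev Tau (m : ℕ) := Fin (m + 1) × Equiv.Perm (Fin m)

theorem Tau.hcm {m : ℕ} (τ : Tau m) : τ.1.val ≤ m := Nat.lt_succ_iff.mp τ.1.2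

/-- the ideal generated by the chosen rows and `π²` -/
noncomputable def JJ (τ : Tau m) : Ideal (MvPolynomial (Fin n) R) :=
  Ideal.span (Set.range fun t : Fin τ.1.val => f (rows τ.hcm τ.2 t)) ⊔ Ideal.span {C (π ^ 2)}

/-- the conductor of the relation ideal into `JJ` -/
noncomputable def bb (τ : Tau m) : Ideal (MvPolynomial (Fin n) R) where
  carrier := {a | ∀ ℓ, a * f ℓ ∈ JJ π f τ}
  add_mem' := fun {x y} hx hy ℓ => by rw [add_mul]; exact Ideal.add_mem _ (hx ℓ) (hy ℓ)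
  zero_mem' := fun ℓ => by rw [zero_mul]; exact Ideal.zero_mem _
  smul_mem' := fun r x hx ℓ => by
    rw [smul_eq_mul, mul_assoc]; exact Ideal.mul_mem_left _ _ (hx ℓ)

theorem mem_bb (τ : Tau m) (a : MvPolynomial (Fin n) R) :
    a ∈ bb π f τ ↔ ∀ ℓ, a * f ℓ ∈ JJ π f τ := Iff.rfl

variable [IsNoetherianRing R]

theorem bb_fg (τ : Tau m) : (bb π f τ).FG :=
  (isNoetherianRing_iff_ideal_fg _).mp inferInstance _

/-- generators of the conductor -/
noncomputable def gens (τ : Tau m) : Finset (MvPolynomial (Fin n) R) :=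
  Classical.choose (bb_fg π f τ)

theorem span_gens (τ : Tau m) : Ideal.span (gens π f τ : Set (MvPolynomial (Fin n) R)) = bb π f τ :=
  Classical.choose_spec (bb_fg π f τ)

/-- index of the charts -/
abbrev KK := Σ τ : Tau m, {a // a ∈ gens π f τ}

theorem exists_hg (k : KK π f) :
    ∃ (h : Fin m → Fin k.1.1.val → MvPolynomial (Fin n) R) (gg : Fin m → MvPolynomial (Fin n) R),
      ∀ ℓ, k.2.1 * f ℓ = ∑ t, h ℓ t * f (rows k.1.hcm k.1.2 t) + C (π ^ 2) * gg ℓ := by
  have hmem : k.2.1 ∈ bb π f k.1 := by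
    rw [← span_gens]; exact Ideal.subset_span k.2.2
  have : ∀ ℓ, ∃ (h : Fin k.1.1.val → MvPolynomial (Fin n) R) (gg : MvPolynomial (Fin n) R),
      k.2.1 * f ℓ = ∑ t, h t * f (rows k.1.hcm k.1.2 t) + C (π ^ 2) * gg := by
    intro ℓ
    obtain ⟨y, hy, z, hz, hyz⟩ := Submodule.mem_sup.mp ((mem_bb π f k.1 _).mp hmem ℓ)
    obtain ⟨h, hh⟩ := (Ideal.mem_span_range_iff_exists_fun).mp hy
    obtain ⟨gg, hgg⟩ := Ideal.mem_span_singleton'.mp hz
    exact ⟨h, gg, by rw [← hyz, ← hh, ← hgg, mul_comm gg]⟩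
  choose h gg hhg using this
  exact ⟨h, gg, hhg⟩

noncomputable def hh (k : KK π f) : Fin m → Fin k.1.1.val → MvPolynomial (Fin n) R :=
  Classical.choose (exists_hg π f k)

noncomputable def ggg (k : KK π f) : Fin m → MvPolynomial (Fin n) R :=
  Classical.choose (Classical.choose_spec (exists_hg π f k))

theorem h4 (k : KK π f) : ∀ ℓ, k.2.1 * f ℓ =
    ∑ t, hh π f k ℓ t * f (rows k.1.hcm k.1.2 t) + C (π ^ 2) * ggg π f k ℓ :=
  Classical.choose_spec (Classical.choose_spec (exists_hg π f k))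

/-- the extra relations of `D` -/
noncomputable def WW : Set (MvPolynomial (Fin (n + m)) R) :=
  Set.range fun x : KK π f × Fin m =>
    pp π x.1.1.hcm x.1.1.2 x.1.2.1 (hh π f x.1) (ggg π f x.1) x.2

theorem WW_finite : (WW π f).Finite := Set.finite_range _

theorem WW_adm : ∀ ρ ∈ WW π f, IsAdm π f ρ := by
  rintro _ ⟨⟨k, ℓ⟩, rfl⟩
  exact isAdm_pp π f k.1.hcm k.1.2 k.2.1 (hh π f k) (ggg π f k) (h4 π f k) ℓ

theorem pp_mem (k : KK π f) (ℓ : Fin m) :
    pp π k.1.hcm k.1.2 k.2.1 (hh π f k) (ggg π f k) ℓ ∈ ID π f (WW π f) :=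
  Ideal.subset_span (Or.inr ⟨⟨k, ℓ⟩, rfl⟩)

/-- a chart in the family for every point of the conductor locus -/
theorem exists_k {c : ℕ} (hcm : c ≤ m) (σ : Equiv.Perm (Fin m)) (a₀ : MvPolynomial (Fin n) R)
    (ha₀ : ∀ ℓ, a₀ * f ℓ ∈ Ideal.span (Set.range fun t => f (rows hcm σ t)) ⊔
        Ideal.span {C (π ^ 2)})
    (𝔭 : Ideal (MvPolynomial (Fin n) R)) [𝔭.IsPrime] (h𝔭 : a₀ ∉ 𝔭) :
    ∃ a : MvPolynomial (Fin n) R, ∃ ha : a ∈ gens π f (⟨c, Nat.lt_succ_of_le hcm⟩, σ),
      a ∉ 𝔭 := by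
  by_contra hcon
  push_neg at hcon
  have hle : bb π f (⟨c, Nat.lt_succ_of_le hcm⟩, σ) ≤ 𝔭 := by
    rw [← span_gens, Ideal.span_le]
    intro a ha
    exact hcon a ha
  exact h𝔭 (hle ha₀)

end Family


section Main

theorem main {R Λ C' : Type u} [CommRing R] [IsNoetherianRing R] [CommRing Λ]
    [Algebra R Λ] (π : R) (hR : ∀ r : R, π ^ 2 * r = 0 → π * r = 0)
    (hΛ : ∀ x : Λ, π ^ 2 • x = 0 → π • x = 0) [CommRing C'] [Algebra R C']
    [Algebra (R ⧸ Ideal.span {π ^ 2}) C'] [IsScalarTower R (R ⧸ Ideal.span {π ^ 2}) C']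
    [Algebra.FinitePresentation (R ⧸ Ideal.span {π ^ 2}) C']
    (g : C' →ₐ[R] Λ ⧸ Ideal.span {algebraMap R Λ (π ^ 2)}) :
    ∃ (D : Type u) (_ : CommRing D) (_ : Algebra R D), Algebra.FinitePresentation R D ∧
      ∃ (δ : D →ₐ[R] Λ) (ψ : C' →ₐ[R] D ⧸ Ideal.span {algebraMap R D π}),
        (∀ (c : C') (d : D) (l : Λ), Ideal.Quotient.mk (Ideal.span {algebraMap R D π}) d = ψ c →
          Ideal.Quotient.mk (Ideal.span {algebraMap R Λ (π ^ 2)}) l = g c →
            δ d - l ∈ Ideal.span {algebraMap R Λ π}) ∧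
        (∀ (Q : Ideal D) [Q.IsPrime], algebraMap R D π ∉ Q → Algebra.IsSmoothAt R Q) ∧
        (∀ (Q : Ideal (D ⧸ Ideal.span {algebraMap R D π})) [Q.IsPrime],
          Algebra.IsSmoothAt (R ⧸ Ideal.span {π ^ 2}) (Q.comap ψ) →
            Algebra.IsSmoothAt R (Q.comap (Ideal.Quotient.mk (Ideal.span {algebraMap R D π})))) := by
  classical
  obtain ⟨n, φb, hφb, hfg⟩ :=
    Algebra.FinitePresentation.out (R := R ⧸ Ideal.span {π ^ 2}) (A := C')
  obtain ⟨m, fb, hfb⟩ := Submodule.fg_iff_exists_fin_generating_family.mp hfg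
  have hkerb : RingHom.ker φb.toRingHom = Ideal.span (Set.range fb) := hfb.symm
  set mapq : MvPolynomial (Fin n) R →+* MvPolynomial (Fin n) (R ⧸ Ideal.span {π ^ 2}) :=
    MvPolynomial.map (Ideal.Quotient.mk (Ideal.span {π ^ 2})) with hmapq
  have hmapq_surj : Function.Surjective mapq :=
    MvPolynomial.map_surjective _ Ideal.Quotient.mk_surjective
  choose f hf using fun j => hmapq_surj (fb j)
  let hom : MvPolynomial (Fin n) R →ₐ[R] C' :=
    (φb.restrictScalars R).comp (MvPolynomial.mapAlgHom (Ideal.Quotient.mkₐ R (Ideal.span {π ^ 2})))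
  have hhom : ∀ p, hom p = φb (mapq p) := fun p => rfl
  have hsurj : Function.Surjective hom := fun y => by
    obtain ⟨pb, rfl⟩ := hφb y
    obtain ⟨p, rfl⟩ := hmapq_surj pb
    exact ⟨p, rfl⟩
  have hkerhom : ∀ p, hom p = 0 → p ∈ Ideal.span (Set.range f) ⊔ Ideal.span {C (π ^ 2)} := by
    intro p hp
    have h1 : mapq p ∈ Ideal.span (Set.range fb) := by
      rw [← hkerb]; exact hp
    have h2 : Ideal.span (Set.range fb) = Ideal.map mapq (Ideal.span (Set.range f)) := by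
      rw [Ideal.map_span, ← Set.range_comp]
      congr 2
      funext j
      exact (hf j).symm
    rw [h2] at h1
    obtain ⟨y, hy, hyp⟩ := (Ideal.mem_map_iff_of_surjective mapq hmapq_surj).mp h1
    have h3 : p - y ∈ Ideal.span {(C (π ^ 2) : MvPolynomial (Fin n) R)} := by
      rw [← ker_map_mk, RingHom.mem_ker, map_sub, ← hmapq, hyp, sub_self]
    have : p = y + (p - y) := by ring
    rw [this]
    exact Ideal.add_mem _ (Ideal.mem_sup_left hy) (Ideal.mem_sup_right h3)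
  have hhomf : ∀ j, hom (f j) = 0 := by
    intro j
    rw [hhom, hf j]
    have : fb j ∈ RingHom.ker φb.toRingHom := by
      rw [hkerb]; exact Ideal.subset_span ⟨j, rfl⟩
    exact this
  set W := WW π f with hWdef
  have hWadm := WW_adm π f
  have hfp : Algebra.FinitePresentation R (DD π f W) := by
    refine Algebra.FinitePresentation.quotient (Submodule.fg_span ?_)
    exact (Set.finite_range _).union (WW_finite π f)
  refine ⟨DD π f W, inferInstance, inferInstance, hfp, ?_⟩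
  -- the map to Λ
  choose lam hlam using fun i => Ideal.Quotient.mk_surjective (g (hom (X i)))
  let evl : MvPolynomial (Fin n) R →ₐ[R] Λ := aeval lam
  have hevl : ∀ p, Ideal.Quotient.mk (Ideal.span {algebraMap R Λ (π ^ 2)}) (evl p) = g (hom p) := by
    have : (Ideal.Quotient.mkₐ R (Ideal.span {algebraMap R Λ (π ^ 2)})).comp evl = g.comp hom :=
      MvPolynomial.algHom_ext (fun i => by simp [evl, hlam i])
    exact fun p => congrArg (fun F => F p) this
  have hmu : ∀ j, ∃ μ, evl (f j) = algebraMap R Λ (π ^ 2) * μ := by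
    intro j
    have h1 : evl (f j) ∈ Ideal.span {algebraMap R Λ (π ^ 2)} := by
      rw [← Ideal.Quotient.eq_zero_iff_mem, hevl, hhomf, map_zero]
    obtain ⟨μ, hμ⟩ := Ideal.mem_span_singleton'.mp h1
    exact ⟨μ, by rw [← hμ, mul_comm]⟩
  choose mu hmu using hmu
  let δ₀ : MvPolynomial (Fin (n + m)) R →ₐ[R] Λ :=
    aeval (Fin.append lam (fun j => algebraMap R Λ π * mu j))
  have hδι : ∀ p, δ₀ (iota R n m p) = evl p := by
    intro p
    show aeval _ (rename _ p) = aeval lam p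
    rw [aeval_rename]
    congr 2
    funext i
    simp [Fin.append_left]
  have hδz : ∀ j, δ₀ (zz R n j) = algebraMap R Λ π * mu j := by
    intro j
    simp [δ₀, zz, Fin.append_right]
  have hδC : ∀ r : R, δ₀ (C r) = algebraMap R Λ r := fun r => algHom_C δ₀ r
  have hδq : ∀ j, δ₀ (qq π f j) = 0 := by
    intro j
    unfold qq
    rw [map_sub, map_mul, hδι, hδz, hδC, hmu, map_pow]
    ring
  have hδadm : ∀ ρ, IsAdm π f ρ → δ₀ ρ = 0 := by
    rintro _ ⟨v, w, hvw, rfl⟩
    have e1 : δ₀ (adm π v w) = π • (∑ j, evl (v j) * mu j - evl w) := by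
      unfold adm
      rw [map_sub, map_sum, map_mul, hδC, hδι, Algebra.smul_def, mul_sub, Finset.mul_sum]
      congr 1
      refine Finset.sum_congr rfl fun j _ => ?_
      rw [map_mul, hδι, hδz]; ring
    rw [e1]
    refine hΛ _ ?_
    have e2 := congrArg evl hvw
    rw [map_sum, map_mul, algHom_C] at e2
    rw [Algebra.smul_def, mul_sub, Finset.mul_sum, ← e2, sub_eq_zero]
    refine Finset.sum_congr rfl fun j _ => ?_
    rw [map_mul, hmu]; ring
  have hδID : ∀ x ∈ ID π f W, δ₀ x = 0 := by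
    intro x hx
    have hle : ID π f W ≤ RingHom.ker δ₀.toRingHom := by
      unfold ID
      rw [Ideal.span_le]
      rintro y (⟨j, rfl⟩ | hy)
      · exact hδq j
      · exact hδadm y (hWadm y hy)
    exact hle hx
  let δ : DD π f W →ₐ[R] Λ := Ideal.Quotient.liftₐ (ID π f W) δ₀ hδID
  have hδmk : ∀ x, δ (Ideal.Quotient.mk (ID π f W) x) = δ₀ x := fun x => rfl
  -- the map from C'
  set πD : DD π f W := algebraMap R (DD π f W) π with hπD
  let ψ₀ : MvPolynomial (Fin n) R →ₐ[R] DD π f W ⧸ Ideal.span {πD} :=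
    (Ideal.Quotient.mkₐ R (Ideal.span {πD})).comp
      ((Ideal.Quotient.mkₐ R (ID π f W)).comp (iota R n m))
  have hψ₀app : ∀ p, ψ₀ p = Ideal.Quotient.mk (Ideal.span {πD})
      (Ideal.Quotient.mk (ID π f W) (iota R n m p)) := fun p => rfl
  have hψ₀ : ∀ p : MvPolynomial (Fin n) R, p ∈ RingHom.ker hom.toRingHom → ψ₀ p = 0 := by
    intro p hp
    have hp' := hkerhom p hp
    have hle : Ideal.span (Set.range f) ⊔ Ideal.span {C (π ^ 2)} ≤ RingHom.ker ψ₀.toRingHom := by
      refine sup_le (Ideal.span_le.mpr ?_) (Ideal.span_le.mpr ?_)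
      · rintro _ ⟨j, rfl⟩
        show ψ₀ (f j) = 0
        rw [hψ₀app, Ideal.Quotient.eq_zero_iff_mem, Ideal.mem_span_singleton']
        refine ⟨Ideal.Quotient.mk (ID π f W) (zz R n j), ?_⟩
        have h1 : iota R n m (f j) = qq π f j + zz R n j * C π := by unfold qq; ring
        rw [h1, map_add, map_mul]
        have h2 : Ideal.Quotient.mk (ID π f W) (qq π f j) = 0 :=
          Ideal.Quotient.eq_zero_iff_mem.mpr (Ideal.subset_span (Or.inl ⟨j, rfl⟩))
        rw [h2, zero_add]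
        rfl
      · rintro _ rfl
        show ψ₀ (C (π ^ 2)) = 0
        rw [hψ₀app, iota_C, Ideal.Quotient.eq_zero_iff_mem, Ideal.mem_span_singleton']
        refine ⟨πD, ?_⟩
        rw [pow_two, map_mul, map_mul]
        rfl
    exact hle hp'
  let ψ : C' →ₐ[R] DD π f W ⧸ Ideal.span {πD} :=
    (Ideal.Quotient.liftₐ (RingHom.ker hom.toRingHom) ψ₀ hψ₀).comp
      (Ideal.quotientKerAlgEquivOfSurjective hsurj).symm.toAlgHom
  have hψ : ∀ p, ψ (hom p) = Ideal.Quotient.mk (Ideal.span {πD})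
      (Ideal.Quotient.mk (ID π f W) (iota R n m p)) := by
    intro p
    have h1 : (Ideal.quotientKerAlgEquivOfSurjective hsurj).symm (hom p) =
        Ideal.Quotient.mk _ p := by
      rw [AlgEquiv.symm_apply_eq]
      rfl
    show Ideal.Quotient.liftₐ _ _ hψ₀ ((Ideal.quotientKerAlgEquivOfSurjective hsurj).symm (hom p)) = _
    rw [h1]
    rfl
  refine ⟨δ, ψ, ?_, ?_, ?_⟩
  · -- compatibility
    intro c' d l h1 h2
    obtain ⟨p, rfl⟩ := hsurj c'
    rw [hψ, Ideal.Quotient.eq, Ideal.mem_span_singleton'] at h1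
    obtain ⟨e, he⟩ := h1
    rw [← hevl, Ideal.Quotient.eq, Ideal.mem_span_singleton'] at h2
    obtain ⟨e', he'⟩ := h2
    have h3 : δ d = δ e * algebraMap R Λ π + evl p := by
      have : d = e * πD + Ideal.Quotient.mk (ID π f W) (iota R n m p) := by rw [he]; ring
      rw [this, map_add, map_mul, hδmk, hδι, hπD, δ.commutes]
    rw [Ideal.mem_span_singleton']
    refine ⟨δ e - e' * algebraMap R Λ π, ?_⟩
    rw [h3]
    have : l = e' * algebraMap R Λ (π ^ 2) + evl p := by rw [he']; ring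
    rw [this, map_pow]
    ring
  · intro Q _ hQ
    exact isSmoothAt_of_pi_not_mem π f W hWadm Q hQ
  · intro Q _ hsm
    obtain ⟨c, hcm, σ, cols, a₀, ha₀, hΔ, hmem⟩ :=
      exists_chart π φb hφb fb hkerb f hf (Q.comap ψ) hsm
    have hprime : ((Q.comap ψ).comap hom).IsPrime := Ideal.comap_isPrime _ _
    have ha₀' : a₀ ∉ (Q.comap ψ).comap hom := ha₀
    obtain ⟨a, ha, ha𝔭⟩ := @exists_k _ _ π n m f _ c hcm σ a₀ hmem _ hprime ha₀'
    let k : KK π f := ⟨(⟨c, Nat.lt_succ_of_le hcm⟩, σ), ⟨a, ha⟩⟩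
    have hmemQ : ∀ p : MvPolynomial (Fin n) R,
        Ideal.Quotient.mk (ID π f W) (iota R n m p) ∈
          Q.comap (Ideal.Quotient.mk (Ideal.span {πD})) ↔ hom p ∈ Q.comap ψ := by
      intro p
      rw [Ideal.mem_comap, Ideal.mem_comap, hψ]
    refine isSmoothAt_of_chart π f k.1.hcm k.1.2 cols k.2.1 (hh π f k) (ggg π f k) hR W hWadm
      (h4 π f k) (pp_mem π f k) _ ?_ ?_
    · rw [hmemQ]
      exact ha𝔭
    · rw [hmemQ]
      exact hΔ

end Main

end Groth.Agent.Lib.T2H8.LiftC
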