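import Mathlib
import Groth.Prelude.Def_Smoothing
import Groth.Agent.Lib.T2H8LiftC
import Groth.Agent.Lib.T2H8DesingD

/-!
# Desingularization via the lifting lemma (helper8)

`main`: the statement of S19959. Also `exists_not_mem_of_isSmoothAt` (a smooth point of a f.p.
algebra does not contain the singular ideal), `pow_ann`, `lifting'`.
-/

set_option autoImplicit false

namespace Groth.Agent.Lib.T2H8.LiftD

universe u

/-- the lifting lemma with the square of `π` given as a separate element -/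
theorem lifting' {R Λ C' : Type u} [CommRing R] [IsNoetherianRing R] [CommRing Λ]
    [Algebra R Λ] (π p2 : R) (hp2 : p2 = π ^ 2) (hR : ∀ r : R, π ^ 2 * r = 0 → π * r = 0)
    (hΛ : ∀ x : Λ, π ^ 2 • x = 0 → π • x = 0) [CommRing C'] [Algebra R C']
    [Algebra (R ⧸ Ideal.span {p2}) C'] [IsScalarTower R (R ⧸ Ideal.span {p2}) C']
    [Algebra.FinitePresentation (R ⧸ Ideal.span {p2}) C']
    (g : C' →ₐ[R] Λ ⧸ Ideal.span {algebraMap R Λ p2}) :
    ∃ (D : Type u) (_ : CommRing D) (_ : Algebra R D), Algebra.FinitePresentation R D ∧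
      ∃ (δ : D →ₐ[R] Λ) (ψ : C' →ₐ[R] D ⧸ Ideal.span {algebraMap R D π}),
        (∀ (c : C') (d : D) (l : Λ), Ideal.Quotient.mk (Ideal.span {algebraMap R D π}) d = ψ c →
          Ideal.Quotient.mk (Ideal.span {algebraMap R Λ p2}) l = g c →
            δ d - l ∈ Ideal.span {algebraMap R Λ π}) ∧
        (∀ (Q : Ideal D) [Q.IsPrime], algebraMap R D π ∉ Q → Algebra.IsSmoothAt R Q) ∧
        (∀ (Q : Ideal (D ⧸ Ideal.span {algebraMap R D π})) [Q.IsPrime],
          Algebra.IsSmoothAt (R ⧸ Ideal.span {p2}) (Q.comap ψ) →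
            Algebra.IsSmoothAt R (Q.comap (Ideal.Quotient.mk (Ideal.span {algebraMap R D π})))) := by
  subst hp2
  exact Groth.Agent.Lib.T2H8.LiftC.main π hR hΛ g

theorem isSmoothAt_congr {R D : Type*} [CommRing R] [CommRing D] [Algebra R D] {I J : Ideal D}
    [hI : I.IsPrime] [hJ : J.IsPrime] (e : I = J) :
    Algebra.IsSmoothAt R I ↔ Algebra.IsSmoothAt R J := by
  subst e
  rfl

/-- a smooth point of a finitely presented algebra does not contain the singular ideal -/
theorem exists_not_mem_of_isSmoothAt {R D : Type u} [CommRing R] [CommRing D] [Algebra R D]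
    [Algebra.FinitePresentation R D] (Q : Ideal D) [Q.IsPrime] (h : Algebra.IsSmoothAt R Q) :
    ∃ d ∈ Smoothing.singularIdeal R D, d ∉ Q := by
  by_contra hcon
  push_neg at hcon
  have hle : Smoothing.singularIdeal R D ≤ Q := hcon
  have h1 : (⟨Q, inferInstance⟩ : PrimeSpectrum D) ∈
      PrimeSpectrum.zeroLocus (Smoothing.singularIdeal R D : Set D) := hle
  unfold Smoothing.singularIdeal at h1
  rw [PrimeSpectrum.zeroLocus_vanishingIdeal_eq_closure,
    (Algebra.isOpen_smoothLocus (R := R) (A := D)).isClosed_compl.closure_eq] at h1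
  exact h1 h

theorem pow_ann {M : Type*} {R : Type*} [CommRing R] [AddCommGroup M] [Module R M] (π : R)
    (h : ∀ x : M, π ^ 2 • x = 0 → π • x = 0) (k : ℕ) (x : M) (hx : π ^ (k + 1) • x = 0) :
    π • x = 0 := by
  induction k generalizing x with
  | zero => simpa using hx
  | succ k ih =>
    have h1 : π ^ 2 • (π ^ k • x) = 0 := by
      rw [smul_smul, ← pow_add, add_comm 2 k]; exact hx
    have h2 := h _ h1
    rw [smul_smul, ← pow_succ'] at h2
    exact ih x h2


theorem main {R Λ A C' : Type u} [CommRing R] [IsNoetherianRing R] [CommRing Λ]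
    [Algebra R Λ] (π : R) (hR : ∀ r : R, π ^ 2 * r = 0 → π * r = 0)
    (hΛ : ∀ x : Λ, π ^ 2 • x = 0 → π • x = 0) [CommRing A] [Algebra R A]
    [Algebra.FinitePresentation R A] (φ : A →ₐ[R] Λ)
    (hπ : Smoothing.IsStrictlyStandard R A (algebraMap R A π))
    [CommRing C'] [Algebra R C'] [Algebra (R ⧸ Ideal.span {π ^ 8}) C']
    [IsScalarTower R (R ⧸ Ideal.span {π ^ 8}) C']
    [Algebra.FinitePresentation (R ⧸ Ideal.span {π ^ 8}) C']
    (γ : A →ₐ[R] C') (g : C' →ₐ[R] Λ ⧸ Ideal.span {algebraMap R Λ (π ^ 8)})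
    (hfac : ∀ a : A, g (γ a) = Ideal.Quotient.mk (Ideal.span {algebraMap R Λ (π ^ 8)}) (φ a)) :
    ∃ (B : Type u) (_ : CommRing B) (_ : Algebra R B), Algebra.FinitePresentation R B ∧
      ∃ (α : A →ₐ[R] B) (β : B →ₐ[R] Λ), β.comp α = φ ∧
        (∀ (Q : Ideal B) [Q.IsPrime], algebraMap R B π ∉ Q → Algebra.IsSmoothAt R Q) ∧
        (Smoothing.singularIdeal (R ⧸ Ideal.span {π ^ 8}) C').map g ≤
          ((Smoothing.singularIdeal R B).map β).radical.map
            (Ideal.Quotient.mk (Ideal.span {algebraMap R Λ (π ^ 8)})) := by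
  classical
  -- annihilators of π⁴ and π⁸
  have hR4 : ∀ r : R, (π ^ 4) ^ 2 * r = 0 → π ^ 4 * r = 0 := by
    intro r hr
    have h1 : π • r = 0 := pow_ann (M := R) π (fun x hx => hR x hx) 7 r (by
      rw [smul_eq_mul, ← hr]; ring)
    rw [smul_eq_mul] at h1
    rw [pow_succ, mul_assoc, h1, mul_zero]
  have hΛ4 : ∀ x : Λ, (π ^ 4) ^ 2 • x = 0 → π ^ 4 • x = 0 := by
    intro x hx
    have h1 : π • x = 0 := pow_ann π hΛ 7 x (by rw [← hx]; congr 1; ring)
    rw [pow_succ, mul_smul, h1, smul_zero]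
  obtain ⟨D, instD, algD, hfpD, δ, ψ', hcompat, hsmD, hsmC⟩ :=
    lifting' (R := R) (Λ := Λ) (C' := C') (π ^ 4) (π ^ 8) (by ring) hR4 hΛ4 g
  -- apply the relative desingularization lemma
  have hψ : ∀ (a : A) (d : D), Ideal.Quotient.mk (Ideal.span {algebraMap R D (π ^ 4)}) d =
      (ψ'.comp γ) a → δ d - φ a ∈ Ideal.span {algebraMap R Λ (π ^ 4)} := by
    intro a d hd
    exact hcompat (γ a) d (φ a) hd (hfac a).symm
  obtain ⟨B, instB, algRB, algDB, towB, hfpB, α, β, hβα, hβδ, hincl1, hincl2⟩ :=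
    Groth.Agent.Lib.T2H8.DesingD.main π hR hΛ φ δ hπ (ψ'.comp γ) hψ
  refine ⟨B, instB, algRB, hfpB, α, β, hβα, ?_, ?_⟩
  · -- smooth outside π
    intro Q _ hQ
    have hQD : algebraMap R D (π ^ 4) ∉ Q.comap (algebraMap D B) := by
      intro hmem
      rw [Ideal.mem_comap, ← IsScalarTower.algebraMap_apply, map_pow] at hmem
      exact hQ (Ideal.IsPrime.mem_of_pow_mem inferInstance _ hmem)
    have h1 := hsmD (Q.comap (algebraMap D B)) hQD
    obtain ⟨d, hd, hdQ⟩ := exists_not_mem_of_isSmoothAt _ h1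
    have h2 : algebraMap D B d ∈ Smoothing.singularIdeal R B :=
      hincl2 (Ideal.mem_map_of_mem _ hd)
    by_contra hns
    unfold Smoothing.singularIdeal at h2
    rw [PrimeSpectrum.mem_vanishingIdeal] at h2
    exact hdQ (h2 ⟨Q, inferInstance⟩ hns)
  · -- the singular ideal of C'
    have hβalg : ∀ d : D, β (algebraMap D B d) = δ d := fun d =>
      congrArg (fun F => F d) hβδ
    have hπD : algebraMap R D π ∈ Smoothing.singularIdeal R D := by
      unfold Smoothing.singularIdeal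
      rw [PrimeSpectrum.mem_vanishingIdeal]
      intro Q hQ
      by_contra hmem
      apply hQ
      refine hsmD Q.asIdeal ?_
      rw [map_pow]
      exact fun h => hmem (Ideal.IsPrime.mem_of_pow_mem inferInstance _ h)
    rw [Ideal.map_le_iff_le_comap]
    intro c hc
    rw [Ideal.mem_comap]
    obtain ⟨l, hl⟩ := Ideal.Quotient.mk_surjective (g c)
    rw [← hl]
    refine Ideal.mem_map_of_mem _ ?_
    rw [Ideal.radical_eq_sInf, Ideal.mem_sInf]
    rintro 𝔮 ⟨h𝔮le, h𝔮prime⟩
    have hδ𝔮 : ∀ d ∈ Smoothing.singularIdeal R D, δ d ∈ 𝔮 := by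
      intro d hd
      rw [← hβalg]
      exact h𝔮le (Ideal.mem_map_of_mem _ (hincl2 (Ideal.mem_map_of_mem _ hd)))
    have hπ𝔮 : algebraMap R Λ π ∈ 𝔮 := by
      have := hδ𝔮 _ hπD
      rwa [δ.commutes] at this
    have hQDprime : (𝔮.comap δ).IsPrime := Ideal.comap_isPrime _ _
    set QD := 𝔮.comap δ with hQD
    have hns : ¬ Algebra.IsSmoothAt R QD := by
      intro hsm
      obtain ⟨d, hd, hdQ⟩ := exists_not_mem_of_isSmoothAt _ hsm
      exact hdQ (hδ𝔮 d hd)
    have hπ4 : algebraMap R D (π ^ 4) ∈ QD := by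
      rw [hQD, Ideal.mem_comap, δ.commutes, map_pow]
      exact Ideal.pow_mem_of_mem _ hπ𝔮 _ (by norm_num)
    set mk4 := Ideal.Quotient.mk (Ideal.span {algebraMap R D (π ^ 4)}) with hmk4
    have hker : RingHom.ker mk4 ≤ QD := by
      rw [hmk4, Ideal.mk_ker, Ideal.span_le]
      rintro _ rfl
      exact hπ4
    have hQbar : (QD.map mk4).IsPrime :=
      Ideal.map_isPrime_of_surjective Ideal.Quotient.mk_surjective hker
    have hcomap : (QD.map mk4).comap mk4 = QD := by
      rw [Ideal.comap_map_of_surjective mk4 Ideal.Quotient.mk_surjective]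
      apply le_antisymm
      · exact sup_le le_rfl (by rw [← RingHom.ker_eq_comap_bot]; exact hker)
      · exact le_sup_left
    have hnsC : ¬ Algebra.IsSmoothAt (R ⧸ Ideal.span {π ^ 8}) ((QD.map mk4).comap ψ') := by
      intro hsm
      have := hsmC (QD.map mk4) hsm
      exact hns ((isSmoothAt_congr hcomap).mp this)
    have hc' : c ∈ (QD.map mk4).comap ψ' := by
      unfold Smoothing.singularIdeal at hc
      rw [PrimeSpectrum.mem_vanishingIdeal] at hc
      exact hc ⟨(QD.map mk4).comap ψ', inferInstance⟩ hnsC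
    obtain ⟨d, hd⟩ := Ideal.Quotient.mk_surjective (ψ' c)
    have hdQ : d ∈ QD := by
      rw [← hcomap, Ideal.mem_comap]
      show mk4 d ∈ _
      rw [hmk4, hd]
      exact hc'
    have h5 := hcompat c d l hd hl
    have h6 : δ d - l ∈ 𝔮 := by
      obtain ⟨e, he⟩ := Ideal.mem_span_singleton'.mp h5
      rw [← he, map_pow]
      exact Ideal.mul_mem_left _ _ (Ideal.pow_mem_of_mem _ hπ𝔮 _ (by norm_num))
    have h7 : δ d ∈ 𝔮 := hdQ
    have : l = δ d - (δ d - l) := by ring
    rw [this]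
    exact Ideal.sub_mem _ h7 h6

end Groth.Agent.Lib.T2H8.LiftD
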