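import Mathlib
import Groth.Prelude.Def_Smoothing
import Groth.Agent.Lib.T2H8LiftD

/-!
# Resolving modulo `π⁸` (helper8)

`flcore`: if `π` is strictly standard in `A`, `Ann(π) = Ann(π²)` in `R` and `Λ`, `π ∈ 𝔮`, and the problem
obtained by reducing `R → A → Λ ⊇ 𝔮` modulo `π⁸` (any presentation of the quotients) is resolvable,
then `R → A → Λ ⊇ 𝔮` is resolvable. `isSmoothAt_quotient`: smoothness at a prime passes to `A/IA`
over `R/I`.
-/

set_option autoImplicit false

namespace Groth.Agent.Lib.T2H8.ResA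

universe u

section BCS

variable {R R' A A' : Type u} [CommRing R] [CommRing R'] [CommRing A] [CommRing A']
  [Algebra R R'] [Algebra R A] [Algebra R' A'] [Algebra R A'] [IsScalarTower R R' A']
  (qA : A →ₐ[R] A')

/-- smoothness at a prime passes to the quotient by an ideal of the base -/
theorem isSmoothAt_quotient (hqR : Function.Surjective (algebraMap R R'))
    (hqA : Function.Surjective qA)
    (hk : RingHom.ker qA.toRingHom = (RingHom.ker (algebraMap R R')).map (algebraMap R A))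
    (𝔭' : Ideal A') [𝔭'.IsPrime]
    (hsm : Algebra.IsSmoothAt R (𝔭'.comap qA.toRingHom)) : Algebra.IsSmoothAt R' 𝔭' := by
  set 𝔭 := 𝔭'.comap qA.toRingHom with h𝔭
  let L := Localization.AtPrime 𝔭
  let L' := Localization.AtPrime 𝔭'
  have hsmL : Algebra.FormallySmooth R L := hsm
  show Algebra.FormallySmooth R' L'
  let ℓ : L →+* L' := Localization.localRingHom 𝔭 𝔭' qA.toRingHom rfl
  have hℓ : ∀ a : A, ℓ (algebraMap A L a) = algebraMap A' L' (qA a) := fun a =>
    Localization.localRingHom_to_map 𝔭 𝔭' qA.toRingHom rfl a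
  refine Algebra.FormallySmooth.iff_comp_surjective.mpr fun T _ _ J hJ f => ?_
  letI algRT : Algebra R T := ((algebraMap R' T).comp (algebraMap R R')).toAlgebra
  haveI towT : IsScalarTower R R' T := IsScalarTower.of_algebraMap_eq (fun _ => rfl)
  haveI towTJ : IsScalarTower R R' (T ⧸ J) := IsScalarTower.of_algebraMap_eq (fun _ => rfl)
  have hRL' : ∀ r : R, algebraMap R L' r = algebraMap A' L' (qA (algebraMap R A r)) := by
    intro r
    rw [qA.commutes, ← IsScalarTower.algebraMap_apply]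
  let ℓa : L →ₐ[R] L' :=
    { ℓ with
      commutes' := fun r => by
        show ℓ (algebraMap R L r) = algebraMap R L' r
        rw [IsScalarTower.algebraMap_apply R A L, hℓ, hRL'] }
  obtain ⟨g, hg⟩ := Algebra.FormallySmooth.comp_surjective R L J hJ ((f.restrictScalars R).comp ℓa)
  have hg' : ∀ x : L, Ideal.Quotient.mk J (g x) = f (ℓ x) := fun x =>
    congrArg (fun F => F x) hg
  -- the map A' → T
  let k₀ : A →+* T := (g : L →+* T).comp (algebraMap A L)
  have hk₀ : RingHom.ker qA.toRingHom ≤ RingHom.ker k₀ := by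
    rw [hk, Ideal.map_le_iff_le_comap]
    intro i hi
    rw [Ideal.mem_comap, RingHom.mem_ker]
    show g (algebraMap A L (algebraMap R A i)) = 0
    rw [← IsScalarTower.algebraMap_apply, g.commutes]
    show algebraMap R' T (algebraMap R R' i) = 0
    rw [(RingHom.mem_ker).mp hi, map_zero]
  let k : A' →+* T := (qA.toRingHom.liftOfSurjective hqA) ⟨k₀, hk₀⟩
  have hkq : ∀ a : A, k (qA a) = g (algebraMap A L a) := fun a =>
    RingHom.liftOfSurjective_comp_apply qA.toRingHom hqA ⟨k₀, hk₀⟩ a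
  have hunit : ∀ s : 𝔭'.primeCompl, IsUnit (k s) := by
    rintro ⟨s', hs'⟩
    obtain ⟨s, rfl⟩ := hqA s'
    show IsUnit (k (qA s))
    rw [hkq]
    have hs : s ∈ 𝔭.primeCompl := hs'
    exact (IsLocalization.map_units L ⟨s, hs⟩).map g
  let ft : L' →+* T := IsLocalization.lift hunit
  have hft : ∀ a' : A', ft (algebraMap A' L' a') = k a' := fun a' => IsLocalization.lift_eq hunit a'
  let fa : L' →ₐ[R'] T :=
    { ft with
      commutes' := fun r' => by
        obtain ⟨r, rfl⟩ := hqR r'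
        show ft (algebraMap R' L' (algebraMap R R' r)) = algebraMap R' T (algebraMap R R' r)
        rw [← IsScalarTower.algebraMap_apply R R' L', hRL', hft, hkq,
          ← IsScalarTower.algebraMap_apply, g.commutes]
        rfl }
  refine ⟨fa, ?_⟩
  apply AlgHom.coe_ringHom_injective
  refine IsLocalization.ringHom_ext 𝔭'.primeCompl ?_
  ext a'
  obtain ⟨a, rfl⟩ := hqA a'
  show Ideal.Quotient.mk J (ft (algebraMap A' L' (qA a))) = f (algebraMap A' L' (qA a))
  rw [hft, hkq, hg', hℓ]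

end BCS


section SL

theorem formallySmooth_of_bijective {S S' T : Type*} [CommRing S] [CommRing S'] [CommRing T]
    [Algebra S S'] [Algebra S' T] [Algebra S T] [IsScalarTower S S' T]
    (hbij : Function.Bijective (algebraMap S S')) (h : Algebra.FormallySmooth S' T) :
    Algebra.FormallySmooth S T := by
  have : Algebra.FormallySmooth S S' :=
    Algebra.FormallySmooth.of_equiv (AlgEquiv.ofBijective (Algebra.ofId S S') hbij)
  exact Algebra.FormallySmooth.comp S S' T

theorem isSmoothAt_of_bijective {S S' T : Type*} [CommRing S] [CommRing S'] [CommRing T]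
    [Algebra S S'] [Algebra S' T] [Algebra S T] [IsScalarTower S S' T]
    (hbij : Function.Bijective (algebraMap S S')) (𝔭 : Ideal T) [𝔭.IsPrime]
    (h : Algebra.IsSmoothAt S' 𝔭) : Algebra.IsSmoothAt S 𝔭 :=
  formallySmooth_of_bijective (T := Localization.AtPrime 𝔭) hbij h

theorem singularIdeal_le_of_bijective {S S' T : Type u} [CommRing S] [CommRing S'] [CommRing T]
    [Algebra S S'] [Algebra S' T] [Algebra S T] [IsScalarTower S S' T]
    (hbij : Function.Bijective (algebraMap S S')) :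
    Smoothing.singularIdeal S' T ≤ Smoothing.singularIdeal S T := by
  intro x hx
  unfold Smoothing.singularIdeal at hx ⊢
  rw [PrimeSpectrum.mem_vanishingIdeal] at hx ⊢
  intro 𝔭 h𝔭
  refine hx 𝔭 (fun hsm => h𝔭 ?_)
  exact isSmoothAt_of_bijective hbij 𝔭.asIdeal hsm

end SL


section FLcore

theorem flcore {R A Λ : Type u} [CommRing R] [IsNoetherianRing R] [CommRing A] [Algebra R A]
    [Algebra.FinitePresentation R A] [CommRing Λ] [Algebra R Λ] (φ : A →ₐ[R] Λ) (𝔮 : Ideal Λ)
    [𝔮.IsPrime] (π : R) (hπ𝔮 : algebraMap R Λ π ∈ 𝔮)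
    (hR : ∀ x : R, π ^ 2 * x = 0 → π * x = 0)
    (hΛ : ∀ x : Λ, π ^ 2 • x = 0 → π • x = 0)
    (hstd : Smoothing.IsStrictlyStandard R A (algebraMap R A π))
    {R' A' Λ' : Type u} [CommRing R'] [CommRing A'] [CommRing Λ'] [Algebra R R'] [Algebra R' A']
    [Algebra R' Λ'] [Algebra R A'] [IsScalarTower R R' A'] [Algebra R Λ'] [IsScalarTower R R' Λ']
    (qA : A →ₐ[R] A') (qΛ : Λ →ₐ[R] Λ')
    (hqR : Function.Surjective (algebraMap R R'))
    (hkR : RingHom.ker (algebraMap R R') = Ideal.span {π ^ 8})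
    (hqA : Function.Surjective qA)
    (hkA : RingHom.ker qA.toRingHom = Ideal.span {algebraMap R A (π ^ 8)})
    (hqΛ : Function.Surjective qΛ)
    (hkΛ : RingHom.ker qΛ.toRingHom = Ideal.span {algebraMap R Λ (π ^ 8)})
    (φ' : A' →ₐ[R'] Λ') (hφ' : ∀ a, φ' (qA a) = qΛ (φ a))
    (hres : Smoothing.Resolvable R' φ' (𝔮.map qΛ)) : Smoothing.Resolvable R φ 𝔮 := by
  classical
  obtain ⟨Cb, instC, algC, hfpC, gb, hb, hcomp, hle, hnle⟩ := hres
  letI algRC : Algebra R Cb := ((algebraMap R' Cb).comp (algebraMap R R')).toAlgebra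
  haveI towC : IsScalarTower R R' Cb := IsScalarTower.of_algebraMap_eq (fun _ => rfl)
  -- the isomorphism R/π⁸ ≃ R'
  let eR : (R ⧸ Ideal.span {π ^ 8}) →+* R' :=
    Ideal.Quotient.lift (Ideal.span {π ^ 8}) (algebraMap R R')
      (fun x hx => by rw [← hkR] at hx; exact hx)
  have heR : ∀ r, eR (Ideal.Quotient.mk _ r) = algebraMap R R' r := fun r => rfl
  have heRbij : Function.Bijective eR := by
    constructor
    · rw [injective_iff_map_eq_zero]
      intro x hx
      obtain ⟨r, rfl⟩ := Ideal.Quotient.mk_surjective x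
      rw [heR] at hx
      rw [Ideal.Quotient.eq_zero_iff_mem, ← hkR]
      exact hx
    · intro y
      obtain ⟨r, rfl⟩ := hqR y
      exact ⟨Ideal.Quotient.mk _ r, heR r⟩
  letI algSR' : Algebra (R ⧸ Ideal.span {π ^ 8}) R' := eR.toAlgebra
  haveI towSR' : IsScalarTower R (R ⧸ Ideal.span {π ^ 8}) R' :=
    IsScalarTower.of_algebraMap_eq (fun r => rfl)
  letI algSC : Algebra (R ⧸ Ideal.span {π ^ 8}) Cb := ((algebraMap R' Cb).comp eR).toAlgebra
  haveI towSC : IsScalarTower (R ⧸ Ideal.span {π ^ 8}) R' Cb :=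
    IsScalarTower.of_algebraMap_eq (fun _ => rfl)
  haveI towRSC : IsScalarTower R (R ⧸ Ideal.span {π ^ 8}) Cb :=
    IsScalarTower.of_algebraMap_eq (fun r => rfl)
  have hfpR' : Algebra.FinitePresentation R R' := by
    refine Algebra.FinitePresentation.of_surjective (f := Algebra.ofId R R') hqR ?_
    have : RingHom.ker (Algebra.ofId R R').toRingHom = Ideal.span {π ^ 8} := hkR
    rw [this]
    exact Submodule.fg_span (Set.finite_singleton _)
  have hfpRC : Algebra.FinitePresentation R Cb := Algebra.FinitePresentation.trans R R' Cb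
  have hfpSC : Algebra.FinitePresentation (R ⧸ Ideal.span {π ^ 8}) Cb :=
    Algebra.FinitePresentation.of_restrict_scalars_finitePresentation R _ Cb
  -- the isomorphism Λ/π⁸ ≃ Λ'
  let eΛ : (Λ ⧸ Ideal.span {algebraMap R Λ (π ^ 8)}) →ₐ[R] Λ' :=
    Ideal.Quotient.liftₐ _ qΛ (fun x hx => by rw [← hkΛ] at hx; exact hx)
  have heΛ : ∀ l, eΛ (Ideal.Quotient.mk _ l) = qΛ l := fun l => rfl
  have heΛbij : Function.Bijective eΛ := by
    constructor
    · rw [injective_iff_map_eq_zero]
      intro x hx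
      obtain ⟨l, rfl⟩ := Ideal.Quotient.mk_surjective x
      rw [heΛ] at hx
      rw [Ideal.Quotient.eq_zero_iff_mem, ← hkΛ]
      exact hx
    · intro y
      obtain ⟨l, rfl⟩ := hqΛ y
      exact ⟨Ideal.Quotient.mk _ l, heΛ l⟩
  let eΛ' := AlgEquiv.ofBijective eΛ heΛbij
  have heΛ'symm : ∀ l, eΛ'.symm (qΛ l) = Ideal.Quotient.mk _ l := by
    intro l
    rw [AlgEquiv.symm_apply_eq]
    rfl
  let g : Cb →ₐ[R] Λ ⧸ Ideal.span {algebraMap R Λ (π ^ 8)} :=
    eΛ'.symm.toAlgHom.comp (hb.restrictScalars R)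
  have hg : ∀ c, eΛ (g c) = hb c := fun c => eΛ'.apply_symm_apply (hb c)
  let γ : A →ₐ[R] Cb := (gb.restrictScalars R).comp qA
  have hfac : ∀ a : A, g (γ a) = Ideal.Quotient.mk _ (φ a) := by
    intro a
    show eΛ'.symm (hb (gb (qA a))) = _
    have : hb (gb (qA a)) = φ' (qA a) := congrArg (fun F => F (qA a)) hcomp
    rw [this, hφ', heΛ'symm]
  obtain ⟨B, instB, algB, hfpB, α, β, hβα, hsmB, hincl⟩ :=
    Groth.Agent.Lib.T2H8.LiftD.main π hR hΛ φ hstd γ g hfac
  set 𝔥 : Ideal Λ := Smoothing.singRad R β with h𝔥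
  have h𝔥def : 𝔥 = ((Smoothing.singularIdeal R B).map β).radical := rfl
  have h𝔥rad : 𝔥.IsRadical := by rw [h𝔥def]; exact Ideal.radical_isRadical _
  -- (F1)
  have hF1 : algebraMap R Λ π ∈ 𝔥 := by
    have h1 : algebraMap R B π ∈ Smoothing.singularIdeal R B := by
      unfold Smoothing.singularIdeal
      rw [PrimeSpectrum.mem_vanishingIdeal]
      intro Q hQ
      by_contra hmem
      exact hQ (hsmB Q.asIdeal hmem)
    rw [h𝔥def]
    refine Ideal.le_radical ?_
    have := Ideal.mem_map_of_mem β h1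
    rwa [β.commutes] at this
  -- (F2)
  have hF2 : ∀ c ∈ Smoothing.singularIdeal R' Cb, hb c ∈ 𝔥.map qΛ := by
    intro c hc
    have hc' : c ∈ Smoothing.singularIdeal (R ⧸ Ideal.span {π ^ 8}) Cb :=
      singularIdeal_le_of_bijective (S := R ⧸ Ideal.span {π ^ 8}) (S' := R') (T := Cb) heRbij hc
    have h1 := hincl (Ideal.mem_map_of_mem g hc')
    obtain ⟨y, hy, hyc⟩ := (Ideal.mem_map_iff_of_surjective _ Ideal.Quotient.mk_surjective).mp h1
    have h2 : hb c = qΛ y := by rw [← hg c, ← hyc]; rfl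
    rw [h2]
    exact Ideal.mem_map_of_mem _ hy
  -- (F3)
  have hF3 : Smoothing.singRad R' hb ≤ (𝔥.map qΛ).radical := by
    unfold Smoothing.singRad
    refine Ideal.radical_mono ?_
    rw [Ideal.map_le_iff_le_comap]
    intro c hc
    exact hF2 c hc
  -- (F4)
  have hkerle : RingHom.ker qΛ.toRingHom ≤ 𝔥 := by
    rw [hkΛ, Ideal.span_le]
    rintro _ rfl
    rw [map_pow]
    exact Ideal.pow_mem_of_mem _ hF1 _ (by norm_num)
  have hF4 : ∀ l : Λ, qΛ l ∈ (𝔥.map qΛ).radical → l ∈ 𝔥 := by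
    intro l hl
    obtain ⟨N, hN⟩ := hl
    rw [← map_pow] at hN
    obtain ⟨y, hy, hyl⟩ := (Ideal.mem_map_iff_of_surjective _ hqΛ).mp hN
    have h1 : l ^ N - y ∈ RingHom.ker qΛ.toRingHom := by
      rw [RingHom.mem_ker]
      show qΛ (l ^ N - y) = 0
      rw [map_sub, hyl, sub_self]
    have h2 : l ^ N ∈ 𝔥 := by
      have := Ideal.add_mem _ (hkerle h1) hy
      rwa [sub_add_cancel] at this
    exact h𝔥rad ⟨N, h2⟩
  refine ⟨B, instB, algB, hfpB, α, β, hβα, ?_, ?_⟩
  · -- the singular locus of A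
    show Smoothing.singRad R φ ≤ 𝔥
    unfold Smoothing.singRad
    rw [h𝔥rad.radical_le_iff, Ideal.map_le_iff_le_comap]
    intro a ha
    rw [Ideal.mem_comap]
    refine hF4 _ (hF3 (hle ?_))
    rw [← hφ']
    unfold Smoothing.singRad
    refine Ideal.le_radical (Ideal.mem_map_of_mem _ ?_)
    -- base change of the singular ideal
    unfold Smoothing.singularIdeal at ha ⊢
    rw [PrimeSpectrum.mem_vanishingIdeal] at ha ⊢
    intro 𝔭' h𝔭'
    have hprime : (𝔭'.asIdeal.comap qA.toRingHom).IsPrime := Ideal.comap_isPrime _ _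
    refine ha ⟨𝔭'.asIdeal.comap qA.toRingHom, hprime⟩ (fun hsm => h𝔭' ?_)
    refine isSmoothAt_quotient qA hqR hqA ?_ 𝔭'.asIdeal hsm
    rw [hkA, hkR, Ideal.map_span, Set.image_singleton]
  · -- not contained in 𝔮
    intro hcon
    have hcon' : 𝔥 ≤ 𝔮 := hcon
    have hkerq : RingHom.ker qΛ.toRingHom ≤ 𝔮 := hkerle.trans hcon'
    have hprime : (𝔮.map qΛ).IsPrime := Ideal.map_isPrime_of_surjective hqΛ hkerq
    apply hnle
    refine hF3.trans ?_
    have h1 : (𝔥.map qΛ).radical ≤ (𝔮.map qΛ).radical :=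
      Ideal.radical_mono (Ideal.map_mono hcon')
    rwa [hprime.radical] at h1

end FLcore

end Groth.Agent.Lib.T2H8.ResA
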