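import Mathlib
import Groth.Prelude.Def_Smoothing
import Groth.Agent.Lib.T2H8ResA
import Groth.Agent.Lib.T2H6StdBaseChange

/-!
# Resolving modulo eighth powers of strictly standard elements (helper8)

`main`: the statement of S6822, by induction on the number of elements (`G`), peeling off the last
element with `step` (an application of `ResA.flcore` over the base `R/I`).
-/

set_option autoImplicit false

namespace Groth.Agent.Lib.T2H8.ResB

open TensorProduct

universe u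

section Transport

theorem isStrictlyStandard_of_equiv {S A₁ A₂ : Type u} [CommRing S] [CommRing A₁] [CommRing A₂]
    [Algebra S A₁] [Algebra S A₂] (e : A₁ ≃ₐ[S] A₂) (a : A₁)
    (h : Smoothing.IsStrictlyStandard S A₁ a) : Smoothing.IsStrictlyStandard S A₂ (e a) := by
  obtain ⟨MP, hspan, hkill⟩ := h
  let MP₂ : Smoothing.MarkedPresentation S A₂ :=
    { n := MP.n, m := MP.m, c := MP.c, hcn := MP.hcn, hcm := MP.hcm, rel := MP.rel
      hom := e.toAlgHom.comp MP.hom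
      surj := e.surjective.comp MP.surj
      ker_eq := by
        rw [← MP.ker_eq]
        ext x
        simp only [RingHom.mem_ker]
        show e (MP.hom x) = 0 ↔ MP.hom x = 0
        exact e.map_eq_zero_iff }
  refine ⟨MP₂, ?_, ?_⟩
  · have h1 := Ideal.mem_map_of_mem e.toAlgHom.toRingHom hspan
    rw [Ideal.map_span, ← Set.range_comp] at h1
    exact h1
  · intro a' ha' j hj
    refine hkill a' ?_ j hj
    exact e.injective ha'

theorem isStrictlyStandard_quotient {R A : Type u} [CommRing R] [CommRing A] [Algebra R A]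
    [Algebra.FinitePresentation R A] (I : Ideal R) (p : R)
    (h : Smoothing.IsStrictlyStandard R A (algebraMap R A p)) :
    Smoothing.IsStrictlyStandard (R ⧸ I) (A ⧸ I.map (algebraMap R A))
      (algebraMap (R ⧸ I) (A ⧸ I.map (algebraMap R A)) (Ideal.Quotient.mk I p)) := by
  have h1 := Groth.Agent.Lib.T2H6.StdBaseChange.isStrictlyStandard_BC (R' := R ⧸ I)
    (algebraMap R A p) h
  have h2 := isStrictlyStandard_of_equiv
    (Algebra.TensorProduct.quotIdealMapEquivQuotTensor A I).symm _ h1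
  have e : (Algebra.TensorProduct.quotIdealMapEquivQuotTensor A I).symm
      ((1 : R ⧸ I) ⊗ₜ[R] (algebraMap R A p)) =
      algebraMap (R ⧸ I) (A ⧸ I.map (algebraMap R A)) (Ideal.Quotient.mk I p) := by
    rw [AlgEquiv.symm_apply_eq]
    show _ = Algebra.TensorProduct.quotIdealMapEquivQuotTensor A I
      (Ideal.Quotient.mk _ (algebraMap R A p))
    rw [Algebra.TensorProduct.quotIdealMapEquivQuotTensor_mk]
  rw [e] at h2
  exact h2

end Transport


section Level

variable {R A Λ : Type u} [CommRing R] [CommRing A] [Algebra R A] [CommRing Λ] [Algebra R Λ]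
  (φ : A →ₐ[R] Λ) (I : Ideal R)

theorem map_le_comap_phi :
    I.map (algebraMap R A) ≤ Ideal.comap φ.toRingHom (I.map (algebraMap R Λ)) := by
  rw [Ideal.map_le_iff_le_comap]
  intro i hi
  rw [Ideal.mem_comap, Ideal.mem_comap]
  show φ (algebraMap R A i) ∈ _
  rw [φ.commutes]
  exact Ideal.mem_map_of_mem _ hi

/-- the induced map on quotients -/
noncomputable def phiI : (A ⧸ I.map (algebraMap R A)) →ₐ[R ⧸ I] (Λ ⧸ I.map (algebraMap R Λ)) :=
  { Ideal.quotientMap (I.map (algebraMap R Λ)) φ.toRingHom (map_le_comap_phi φ I) with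
    commutes' := fun rb => by
      obtain ⟨r, rfl⟩ := Ideal.Quotient.mk_surjective rb
      show Ideal.quotientMap (I.map (algebraMap R Λ)) φ.toRingHom (map_le_comap_phi φ I)
        (Ideal.Quotient.mk _ (algebraMap R A r)) = Ideal.Quotient.mk _ (algebraMap R Λ r)
      rw [Ideal.quotientMap_mk]
      show Ideal.Quotient.mk _ (φ (algebraMap R A r)) = _
      rw [φ.commutes] }

theorem phiI_mk (a : A) : phiI φ I (Ideal.Quotient.mk _ a) = Ideal.Quotient.mk _ (φ a) := rfl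

end Level


section Step

variable {R A Λ : Type u} [CommRing R] [IsNoetherianRing R] [CommRing A] [Algebra R A]
  [Algebra.FinitePresentation R A] [CommRing Λ] [Algebra R Λ]
  (φ : A →ₐ[R] Λ) (I : Ideal R)

theorem finitePresentation_quotient :
    Algebra.FinitePresentation (R ⧸ I) (A ⧸ I.map (algebraMap R A)) := by
  have hfg : (I.map (algebraMap R A)).FG :=
    Ideal.FG.map ((isNoetherianRing_iff_ideal_fg R).mp inferInstance I) _
  have h1 : Algebra.FinitePresentation R (A ⧸ I.map (algebraMap R A)) :=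
    Algebra.FinitePresentation.quotient hfg
  exact Algebra.FinitePresentation.of_restrict_scalars_finitePresentation R (R ⧸ I) _

theorem step (𝔮 : Ideal Λ) [𝔮.IsPrime] (hI𝔮 : I.map (algebraMap R Λ) ≤ 𝔮) (p : R)
    (hp𝔮 : algebraMap R Λ p ∈ 𝔮)
    (hR : ∀ x : R, p ^ 2 * x ∈ I → p * x ∈ I)
    (hΛ : ∀ x : Λ, algebraMap R Λ p ^ 2 * x ∈ I.map (algebraMap R Λ) →
      algebraMap R Λ p * x ∈ I.map (algebraMap R Λ))
    (hstd : Smoothing.IsStrictlyStandard R A (algebraMap R A p))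
    {R' A' Λ' : Type u} [CommRing R'] [CommRing A'] [CommRing Λ'] [Algebra R R'] [Algebra R' A']
    [Algebra R' Λ'] [Algebra R A'] [IsScalarTower R R' A'] [Algebra R Λ'] [IsScalarTower R R' Λ']
    (qA : A →ₐ[R] A') (qΛ : Λ →ₐ[R] Λ')
    (hqR : Function.Surjective (algebraMap R R'))
    (hkR : RingHom.ker (algebraMap R R') = I ⊔ Ideal.span {p ^ 8})
    (hqA : Function.Surjective qA)
    (hkA : RingHom.ker qA.toRingHom = (I ⊔ Ideal.span {p ^ 8}).map (algebraMap R A))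
    (hqΛ : Function.Surjective qΛ)
    (hkΛ : RingHom.ker qΛ.toRingHom = (I ⊔ Ideal.span {p ^ 8}).map (algebraMap R Λ))
    (φ' : A' →ₐ[R'] Λ') (hφ' : ∀ a, φ' (qA a) = qΛ (φ a))
    (hres : Smoothing.Resolvable R' φ' (𝔮.map qΛ)) :
    Smoothing.Resolvable (R ⧸ I) (phiI φ I)
      (𝔮.map (Ideal.Quotient.mk (I.map (algebraMap R Λ)))) := by
  classical
  -- algebra structures over R/I
  have hIker : ∀ i ∈ I, algebraMap R R' i = 0 := by
    intro i hi
    have : i ∈ RingHom.ker (algebraMap R R') := by rw [hkR]; exact Ideal.mem_sup_left hi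
    exact this
  letI algR₁R' : Algebra (R ⧸ I) R' := (Ideal.Quotient.lift I (algebraMap R R') hIker).toAlgebra
  haveI tow1 : IsScalarTower R (R ⧸ I) R' := IsScalarTower.of_algebraMap_eq (fun _ => rfl)
  letI algR₁A' : Algebra (R ⧸ I) A' :=
    ((algebraMap R' A').comp (algebraMap (R ⧸ I) R')).toAlgebra
  haveI tow2 : IsScalarTower (R ⧸ I) R' A' := IsScalarTower.of_algebraMap_eq (fun _ => rfl)
  letI algR₁Λ' : Algebra (R ⧸ I) Λ' :=
    ((algebraMap R' Λ').comp (algebraMap (R ⧸ I) R')).toAlgebra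
  haveI tow3 : IsScalarTower (R ⧸ I) R' Λ' := IsScalarTower.of_algebraMap_eq (fun _ => rfl)
  have halgA' : ∀ r : R, algebraMap (R ⧸ I) A' (Ideal.Quotient.mk I r) = algebraMap R A' r := by
    intro r
    rw [IsScalarTower.algebraMap_apply R R' A']
    rfl
  have halgΛ' : ∀ r : R, algebraMap (R ⧸ I) Λ' (Ideal.Quotient.mk I r) = algebraMap R Λ' r := by
    intro r
    rw [IsScalarTower.algebraMap_apply R R' Λ']
    rfl
  -- the maps from the quotients
  have hkA' : ∀ a ∈ I.map (algebraMap R A), qA.toRingHom a = 0 := by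
    intro a ha
    have : a ∈ RingHom.ker qA.toRingHom := by
      rw [hkA]; exact Ideal.map_mono le_sup_left ha
    exact this
  have hkΛ' : ∀ l ∈ I.map (algebraMap R Λ), qΛ.toRingHom l = 0 := by
    intro l hl
    have : l ∈ RingHom.ker qΛ.toRingHom := by
      rw [hkΛ]; exact Ideal.map_mono le_sup_left hl
    exact this
  let qA₁ : (A ⧸ I.map (algebraMap R A)) →ₐ[R ⧸ I] A' :=
    { Ideal.Quotient.lift (I.map (algebraMap R A)) qA.toRingHom hkA' with
      commutes' := fun rb => by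
        obtain ⟨r, rfl⟩ := Ideal.Quotient.mk_surjective rb
        show qA (algebraMap R A r) = algebraMap (R ⧸ I) A' (Ideal.Quotient.mk I r)
        rw [halgA', qA.commutes] }
  have hqA₁ : ∀ a, qA₁ (Ideal.Quotient.mk _ a) = qA a := fun a => rfl
  let qΛ₁ : (Λ ⧸ I.map (algebraMap R Λ)) →ₐ[R ⧸ I] Λ' :=
    { Ideal.Quotient.lift (I.map (algebraMap R Λ)) qΛ.toRingHom hkΛ' with
      commutes' := fun rb => by
        obtain ⟨r, rfl⟩ := Ideal.Quotient.mk_surjective rb
        show qΛ (algebraMap R Λ r) = algebraMap (R ⧸ I) Λ' (Ideal.Quotient.mk I r)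
        rw [halgΛ', qΛ.commutes] }
  have hqΛ₁ : ∀ l, qΛ₁ (Ideal.Quotient.mk _ l) = qΛ l := fun l => rfl
  haveI : Algebra.FinitePresentation (R ⧸ I) (A ⧸ I.map (algebraMap R A)) :=
    finitePresentation_quotient I
  have hprime : (𝔮.map (Ideal.Quotient.mk (I.map (algebraMap R Λ)))).IsPrime :=
    Ideal.map_isPrime_of_surjective Ideal.Quotient.mk_surjective (by rw [Ideal.mk_ker]; exact hI𝔮)
  set pb : R ⧸ I := Ideal.Quotient.mk I p with hpb
  refine Groth.Agent.Lib.T2H8.ResA.flcore (phiI φ I)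
    (𝔮.map (Ideal.Quotient.mk (I.map (algebraMap R Λ)))) pb ?_ ?_ ?_ ?_ qA₁ qΛ₁ ?_ ?_ ?_ ?_ ?_ ?_
    φ' ?_ ?_
  · -- π ∈ 𝔮
    exact Ideal.mem_map_of_mem _ hp𝔮
  · -- annihilators in R/I
    intro x hx
    obtain ⟨x₀, rfl⟩ := Ideal.Quotient.mk_surjective x
    rw [hpb, ← map_pow, ← map_mul, Ideal.Quotient.eq_zero_iff_mem] at hx
    rw [hpb, ← map_mul, Ideal.Quotient.eq_zero_iff_mem]
    exact hR x₀ hx
  · -- annihilators in Λ/IΛ
    intro x hx
    obtain ⟨x₀, rfl⟩ := Ideal.Quotient.mk_surjective x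
    have e : ∀ (k : ℕ), pb ^ k • (Ideal.Quotient.mk (I.map (algebraMap R Λ)) x₀) =
        Ideal.Quotient.mk _ (algebraMap R Λ p ^ k * x₀) := by
      intro k
      rw [Algebra.smul_def, map_mul, map_pow, map_pow]
      rfl
    have e1 := e 1
    rw [pow_one, pow_one] at e1
    rw [e 2, Ideal.Quotient.eq_zero_iff_mem] at hx
    rw [e1, Ideal.Quotient.eq_zero_iff_mem]
    exact hΛ x₀ hx
  · exact isStrictlyStandard_quotient I p hstd
  · -- surjectivity of R/I → R'
    intro y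
    obtain ⟨r, rfl⟩ := hqR y
    exact ⟨Ideal.Quotient.mk I r, rfl⟩
  · -- kernel of R/I → R'
    ext x
    obtain ⟨x₀, rfl⟩ := Ideal.Quotient.mk_surjective x
    rw [RingHom.mem_ker]
    show algebraMap R R' x₀ = 0 ↔ _
    have e : (Ideal.span {pb ^ 8} : Ideal (R ⧸ I)) =
        (Ideal.span {p ^ 8}).map (Ideal.Quotient.mk I) := by
      rw [Ideal.map_span, Set.image_singleton, map_pow]
    rw [← RingHom.mem_ker, hkR, e, Ideal.mem_quotient_iff_mem_sup, sup_comm]
  · -- surjectivity of qA₁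
    intro y
    obtain ⟨a, rfl⟩ := hqA y
    exact ⟨Ideal.Quotient.mk _ a, rfl⟩
  · -- kernel of qA₁
    ext x
    obtain ⟨x₀, rfl⟩ := Ideal.Quotient.mk_surjective x
    rw [RingHom.mem_ker]
    show qA x₀ = 0 ↔ _
    have e : algebraMap (R ⧸ I) (A ⧸ I.map (algebraMap R A)) (pb ^ 8) =
        Ideal.Quotient.mk _ (algebraMap R A (p ^ 8)) := by
      rw [hpb, ← map_pow]; rfl
    rw [e, ← Set.image_singleton, ← Ideal.map_span, Ideal.mem_quotient_iff_mem_sup]
    have : (qA x₀ = 0) ↔ x₀ ∈ RingHom.ker qA.toRingHom := Iff.rfl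
    rw [this, hkA, Ideal.map_sup, Ideal.map_span, Set.image_singleton, sup_comm]
  · -- surjectivity of qΛ₁
    intro y
    obtain ⟨l, rfl⟩ := hqΛ y
    exact ⟨Ideal.Quotient.mk _ l, rfl⟩
  · -- kernel of qΛ₁
    ext x
    obtain ⟨x₀, rfl⟩ := Ideal.Quotient.mk_surjective x
    rw [RingHom.mem_ker]
    show qΛ x₀ = 0 ↔ _
    have e : algebraMap (R ⧸ I) (Λ ⧸ I.map (algebraMap R Λ)) (pb ^ 8) =
        Ideal.Quotient.mk _ (algebraMap R Λ (p ^ 8)) := by
      rw [hpb, ← map_pow]; rfl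
    rw [e, ← Set.image_singleton, ← Ideal.map_span, Ideal.mem_quotient_iff_mem_sup]
    have : (qΛ x₀ = 0) ↔ x₀ ∈ RingHom.ker qΛ.toRingHom := Iff.rfl
    rw [this, hkΛ, Ideal.map_sup, Ideal.map_span, Set.image_singleton, sup_comm]
  · -- compatibility
    intro x
    obtain ⟨a, rfl⟩ := Ideal.Quotient.mk_surjective x
    rw [hqA₁, phiI_mk, hqΛ₁, hφ']
  · -- the resolution
    have e : (𝔮.map (Ideal.Quotient.mk (I.map (algebraMap R Λ)))).map qΛ₁ = 𝔮.map qΛ := by
      apply le_antisymm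
      · rw [Ideal.map_le_iff_le_comap, Ideal.map_le_iff_le_comap]
        intro l hl
        exact Ideal.mem_map_of_mem qΛ hl
      · rw [Ideal.map_le_iff_le_comap]
        intro l hl
        rw [Ideal.mem_comap, ← hqΛ₁]
        exact Ideal.mem_map_of_mem _ (Ideal.mem_map_of_mem _ hl)
    rw [e]
    exact hres

end Step


section Induction

variable {R A Λ : Type u} [CommRing R] [IsNoetherianRing R] [CommRing A] [Algebra R A]
  [Algebra.FinitePresentation R A] [CommRing Λ] [Algebra R Λ]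
  (φ : A →ₐ[R] Λ) (𝔮 : Ideal Λ) [𝔮.IsPrime] (π : ℕ → R)

/-- the ideal generated by the eighth powers of the first `i` elements -/
def II (i : ℕ) : Ideal R := Ideal.span ((fun j => π j ^ 8) '' Set.Iio i)

theorem II_zero : II π 0 = ⊥ := by
  unfold II
  have : Set.Iio (0 : ℕ) = ∅ := by ext x; simp
  rw [this, Set.image_empty, Ideal.span_empty]

theorem II_succ (i : ℕ) : II π (i + 1) = II π i ⊔ Ideal.span {π i ^ 8} := by
  unfold II
  have : Set.Iio (i + 1) = insert i (Set.Iio i) := by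
    ext x; simp only [Set.mem_Iio, Set.mem_insert_iff]; omega
  rw [this, Set.image_insert_eq, Ideal.span_insert, sup_comm]

omit [IsNoetherianRing R] in
theorem II_map_le (r : ℕ) (hπ𝔮 : ∀ i < r, algebraMap R Λ (π i) ∈ 𝔮) :
    (II π r).map (algebraMap R Λ) ≤ 𝔮 := by
  rw [Ideal.map_le_iff_le_comap]
  unfold II
  rw [Ideal.span_le]
  rintro _ ⟨j, hj, rfl⟩
  show algebraMap R Λ (π j ^ 8) ∈ 𝔮
  rw [map_pow]
  exact Ideal.pow_mem_of_mem _ (hπ𝔮 j hj) _ (by norm_num)

theorem G (r : ℕ) (hr : 1 ≤ r) :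
    (∀ i < r, algebraMap R Λ (π i) ∈ 𝔮) →
    (∀ i < r, ∀ x : R, π i ^ 2 * x ∈ II π i → π i * x ∈ II π i) →
    (∀ i < r, ∀ x : Λ, algebraMap R Λ (π i) ^ 2 * x ∈ (II π i).map (algebraMap R Λ) →
      algebraMap R Λ (π i) * x ∈ (II π i).map (algebraMap R Λ)) →
    (∀ i < r, Smoothing.IsStrictlyStandard R A (algebraMap R A (π i))) →
    ∀ {R' A' Λ' : Type u} [CommRing R'] [CommRing A'] [CommRing Λ'] [Algebra R R'] [Algebra R' A']
      [Algebra R' Λ'] [Algebra R A'] [IsScalarTower R R' A'] [Algebra R Λ'] [IsScalarTower R R' Λ']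
      (qA : A →ₐ[R] A') (qΛ : Λ →ₐ[R] Λ'),
      Function.Surjective (algebraMap R R') →
      RingHom.ker (algebraMap R R') = II π r →
      Function.Surjective qA →
      RingHom.ker qA.toRingHom = (II π r).map (algebraMap R A) →
      Function.Surjective qΛ →
      RingHom.ker qΛ.toRingHom = (II π r).map (algebraMap R Λ) →
      ∀ (φ' : A' →ₐ[R'] Λ'), (∀ a, φ' (qA a) = qΛ (φ a)) →
      Smoothing.Resolvable R' φ' (𝔮.map qΛ) → Smoothing.Resolvable R φ 𝔮 := by
  induction r, hr using Nat.le_induction with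
  | base =>
    intro hπ𝔮 hR hΛ hstd R' A' Λ' _ _ _ _ _ _ _ _ _ _ qA qΛ hqR hkR hqA hkA hqΛ hkΛ φ' hφ' hres
    have e1 : II π 1 = Ideal.span {π 0 ^ 8} := by rw [II_succ, II_zero, bot_sup_eq]
    refine Groth.Agent.Lib.T2H8.ResA.flcore φ 𝔮 (π 0) (hπ𝔮 0 Nat.one_pos) ?_ ?_
      (hstd 0 Nat.one_pos) qA qΛ hqR (hkR.trans e1) hqA ?_ hqΛ ?_ φ' hφ' hres
    · intro x hx
      have := hR 0 Nat.one_pos x (by rw [II_zero, Ideal.mem_bot]; exact hx)
      rwa [II_zero, Ideal.mem_bot] at this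
    · intro x hx
      have := hΛ 0 Nat.one_pos x (by
        rw [II_zero, Ideal.map_bot, Ideal.mem_bot, ← map_pow, ← Algebra.smul_def]; exact hx)
      rwa [II_zero, Ideal.map_bot, Ideal.mem_bot, ← Algebra.smul_def] at this
    · rw [hkA, e1, Ideal.map_span, Set.image_singleton]
    · rw [hkΛ, e1, Ideal.map_span, Set.image_singleton]
  | succ r hr ih =>
    intro hπ𝔮 hR hΛ hstd R' A' Λ' _ _ _ _ _ _ _ _ _ _ qA qΛ hqR hkR hqA hkA hqΛ hkΛ φ' hφ' hres
    have hlt : r < r + 1 := Nat.lt_succ_self r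
    have hstep := step φ (II π r) 𝔮 (II_map_le 𝔮 π r (fun i hi => hπ𝔮 i (Nat.lt_succ_of_lt hi)))
      (π r) (hπ𝔮 r hlt) (hR r hlt) (hΛ r hlt) (hstd r hlt) qA qΛ hqR
      (hkR.trans (II_succ π r)) hqA (by rw [hkA, II_succ]) hqΛ (by rw [hkΛ, II_succ]) φ' hφ' hres
    refine ih (fun i hi => hπ𝔮 i (Nat.lt_succ_of_lt hi)) (fun i hi => hR i (Nat.lt_succ_of_lt hi))
      (fun i hi => hΛ i (Nat.lt_succ_of_lt hi)) (fun i hi => hstd i (Nat.lt_succ_of_lt hi))
      (R' := R ⧸ II π r) (A' := A ⧸ (II π r).map (algebraMap R A))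
      (Λ' := Λ ⧸ (II π r).map (algebraMap R Λ))
      (Ideal.Quotient.mkₐ R _) (Ideal.Quotient.mkₐ R _) Ideal.Quotient.mk_surjective ?_
      Ideal.Quotient.mk_surjective ?_ Ideal.Quotient.mk_surjective ?_ (phiI φ (II π r))
      (fun a => rfl) hstep
    · exact Ideal.mk_ker
    · exact Ideal.mk_ker
    · exact Ideal.mk_ker

end Induction


section Main

theorem main {R A Λ : Type u} [CommRing R] [IsNoetherianRing R]
    [CommRing A] [Algebra R A] [Algebra.FinitePresentation R A] [CommRing Λ] [Algebra R Λ]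
    (φ : A →ₐ[R] Λ) (𝔮 : Ideal Λ) [𝔮.IsPrime] {r : ℕ} (hr : 0 < r) (π : Fin r → R)
    (hπ𝔮 : ∀ i, algebraMap R Λ (π i) ∈ 𝔮)
    (hR : ∀ i : Fin r, ∀ x : R ⧸ Ideal.span (Set.range fun j : {j : Fin r // (j : ℕ) < (i : ℕ)} => π j ^ 8),
      Ideal.Quotient.mk _ (π i) ^ 2 * x = 0 → Ideal.Quotient.mk _ (π i) * x = 0)
    (hΛ : ∀ i : Fin r, ∀ x : Λ ⧸ Ideal.span (Set.range fun j : {j : Fin r // (j : ℕ) < (i : ℕ)} =>
        algebraMap R Λ (π j) ^ 8),
      Ideal.Quotient.mk _ (algebraMap R Λ (π i)) ^ 2 * x = 0 → Ideal.Quotient.mk _ (algebraMap R Λ (π i)) * x = 0)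
    (hstd : ∀ i, Smoothing.IsStrictlyStandard R A (algebraMap R A (π i)))
    (K : Ideal R) (hK : K = Ideal.span (Set.range fun i => π i ^ 8))
    (φK : (A ⧸ K.map (algebraMap R A)) →ₐ[R ⧸ K] (Λ ⧸ K.map (algebraMap R Λ)))
    (hφK : ∀ a : A, φK (Ideal.Quotient.mk _ a) = Ideal.Quotient.mk _ (φ a))
    (hres : Smoothing.Resolvable (R ⧸ K) φK (𝔮.map (Ideal.Quotient.mk (K.map (algebraMap R Λ))))) :
    Smoothing.Resolvable R φ 𝔮 := by
  classical
  let π' : ℕ → R := fun j => if h : j < r then π ⟨j, h⟩ else 0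
  have hπ' : ∀ (j : ℕ) (h : j < r), π' j = π ⟨j, h⟩ := fun j h => dif_pos h
  -- the ideals
  have hII : ∀ i : Fin r, II π' i =
      Ideal.span (Set.range fun j : {j : Fin r // (j : ℕ) < (i : ℕ)} => π j ^ 8) := by
    intro i
    unfold II
    congr 1
    ext x
    constructor
    · rintro ⟨j, hj, rfl⟩
      have hjr : j < r := lt_trans hj i.2
      exact ⟨⟨⟨j, hjr⟩, hj⟩, by simp only [hπ' j hjr]⟩
    · rintro ⟨⟨j, hj⟩, rfl⟩
      exact ⟨j, hj, by simp only [hπ' j j.2]⟩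
  have hIIΛ : ∀ i : Fin r, (II π' i).map (algebraMap R Λ) =
      Ideal.span (Set.range fun j : {j : Fin r // (j : ℕ) < (i : ℕ)} =>
        algebraMap R Λ (π j) ^ 8) := by
    intro i
    rw [hII, Ideal.map_span, ← Set.range_comp]
    congr 2
    funext j
    simp only [Function.comp, map_pow]
  have hIIr : II π' r = K := by
    rw [hK]
    unfold II
    congr 1
    ext x
    constructor
    · rintro ⟨j, hj, rfl⟩
      exact ⟨⟨j, hj⟩, by simp only [hπ' j hj]⟩
    · rintro ⟨j, rfl⟩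
      exact ⟨j, j.2, by simp only [hπ' j j.2]⟩
  refine G φ 𝔮 π' r hr ?_ ?_ ?_ ?_ (R' := R ⧸ K) (A' := A ⧸ K.map (algebraMap R A))
    (Λ' := Λ ⧸ K.map (algebraMap R Λ)) (Ideal.Quotient.mkₐ R _) (Ideal.Quotient.mkₐ R _)
    Ideal.Quotient.mk_surjective ?_ Ideal.Quotient.mk_surjective ?_
    Ideal.Quotient.mk_surjective ?_ φK hφK hres
  · intro i hi
    rw [hπ' i hi]
    exact hπ𝔮 _
  · intro i hi x hx
    rw [hπ' i hi, hII ⟨i, hi⟩] at hx ⊢
    rw [← Ideal.Quotient.eq_zero_iff_mem, map_mul, map_pow] at hx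
    rw [← Ideal.Quotient.eq_zero_iff_mem, map_mul]
    exact hR ⟨i, hi⟩ _ hx
  · intro i hi x hx
    rw [hπ' i hi, hIIΛ ⟨i, hi⟩] at hx ⊢
    rw [← Ideal.Quotient.eq_zero_iff_mem, map_mul, map_pow] at hx
    rw [← Ideal.Quotient.eq_zero_iff_mem, map_mul]
    exact hΛ ⟨i, hi⟩ _ hx
  · intro i hi
    rw [hπ' i hi]
    exact hstd _
  · rw [hIIr]; exact Ideal.mk_ker
  · rw [hIIr]; exact Ideal.mk_ker
  · rw [hIIr]; exact Ideal.mk_ker

end Main

end Groth.Agent.Lib.T2H8.ResB
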