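import Mathlib
import Groth.Agent.Lib.Helper10SymKaehler
import Groth.Agent.Lib.Helper26SymSmooth
import Groth.Agent.Lib.Helper13SymLoc
import Groth.Agent.Lib.Helper13SymFT

set_option autoImplicit false
universe u

namespace Groth.Agent.Lib.T2H8.SymKaehler

open TensorProduct

/-- If `N ⊕ Ω[T/R]` is free over `T` then `Ω[Sym_T(N)/R]` is free. -/
theorem free_kaehler_sym {R T : Type u} [CommRing R] [CommRing T] [Algebra R T]
    {N : Type u} [AddCommGroup N] [Module T N]
    [Algebra R (SymmetricAlgebra T N)] [IsScalarTower R T (SymmetricAlgebra T N)]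
    (hfree : Module.Free T (N × Ω[T⁄R])) :
    Module.Free (SymmetricAlgebra T N) Ω[SymmetricAlgebra T N⁄R] := by
  have hproj : Module.Projective T (N × Ω[T⁄R]) := inferInstance
  have hN : Module.Projective T N :=
    Module.Projective.of_split (LinearMap.inl T N Ω[T⁄R]) (LinearMap.fst T N Ω[T⁄R])
      (by ext; simp)
  haveI : Algebra.FormallySmooth T (SymmetricAlgebra T N) :=
    Groth.Agent.Lib.Helper26.SymSmooth.formallySmooth
      (SymmetricAlgebra.isSymmetricAlgebra_ι (R := T) (M := N))
  have hinj : Function.Injective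
      (KaehlerDifferential.mapBaseChange R T (SymmetricAlgebra T N)) := by
    rw [injective_iff_map_eq_zero]
    intro x hx
    obtain ⟨y, rfl⟩ := (Algebra.H1Cotangent.exact_δ_mapBaseChange R T (SymmetricAlgebra T N) x).mp hx
    rw [Subsingleton.elim y 0, map_zero]
  let eN : SymmetricAlgebra T N ⊗[T] N ≃ₗ[SymmetricAlgebra T N] Ω[SymmetricAlgebra T N⁄T] :=
    LinearEquiv.ofBijective _ (Groth.Agent.Lib.Helper10.kaehler_symmetricAlgebra_bijective T N)
  haveI : Module.Projective (SymmetricAlgebra T N) Ω[SymmetricAlgebra T N⁄T] :=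
    Module.Projective.of_equiv eN
  obtain ⟨σ, hσ⟩ := Module.projective_lifting_property
    (KaehlerDifferential.map R T (SymmetricAlgebra T N) (SymmetricAlgebra T N)) LinearMap.id
    (KaehlerDifferential.map_surjective R T (SymmetricAlgebra T N))
  let E := ((KaehlerDifferential.exact_mapBaseChange_map R T (SymmetricAlgebra T N)).splitSurjectiveEquiv
    hinj ⟨σ, hσ⟩).1
  -- chain of equivalences
  let E2 : ((SymmetricAlgebra T N ⊗[T] Ω[T⁄R]) × Ω[SymmetricAlgebra T N⁄T]) ≃ₗ[SymmetricAlgebra T N]
      ((SymmetricAlgebra T N ⊗[T] Ω[T⁄R]) × (SymmetricAlgebra T N ⊗[T] N)) :=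
    LinearEquiv.prodCongr (LinearEquiv.refl _ _) eN.symm
  let E3 : (SymmetricAlgebra T N ⊗[T] (Ω[T⁄R] × N)) ≃ₗ[SymmetricAlgebra T N]
      ((SymmetricAlgebra T N ⊗[T] Ω[T⁄R]) × (SymmetricAlgebra T N ⊗[T] N)) :=
    TensorProduct.prodRight T (SymmetricAlgebra T N) (SymmetricAlgebra T N) Ω[T⁄R] N
  let E4 : (SymmetricAlgebra T N ⊗[T] (Ω[T⁄R] × N)) ≃ₗ[SymmetricAlgebra T N]
      (SymmetricAlgebra T N ⊗[T] (N × Ω[T⁄R])) :=
    TensorProduct.AlgebraTensorModule.congr (LinearEquiv.refl _ _)
      (LinearEquiv.prodComm T Ω[T⁄R] N)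
  haveI : Module.Free (SymmetricAlgebra T N) (SymmetricAlgebra T N ⊗[T] (N × Ω[T⁄R])) :=
    inferInstance
  exact Module.Free.of_equiv (E4.symm.trans (E3.trans (E2.symm.trans E.symm)))

theorem free_tensor_cotangent_prod {R A T : Type u} [CommRing R] [CommRing A] [Algebra R A]
    [CommRing T] [Algebra R T] [Algebra A T] [IsScalarTower R A T]
    {ι : Type} (P : Algebra.Generators R A ι) (a : A) [IsLocalization.Away a T]
    [Algebra.FormallySmooth R T] :
    Module.Free T ((T ⊗[A] (P.toExtension.Cotangent × A)) × Ω[T⁄R]) := by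
  set Q := (Algebra.Generators.localizationAway T a).comp P with hQ
  haveI : Algebra.FormallySmooth R Q.toExtension.Ring :=
    inferInstanceAs (Algebra.FormallySmooth R (MvPolynomial (Unit ⊕ ι) R))
  obtain ⟨l, hl⟩ := (Algebra.Extension.formallySmooth_iff_split_injection Q.toExtension).mp
    inferInstance
  let E1 : Q.toExtension.CotangentSpace ≃ₗ[T] Q.toExtension.Cotangent × Ω[T⁄R] :=
    (Q.toExtension.exact_cotangentComplex_toKaehler.splitInjectiveEquiv
      Q.toExtension.toKaehler_surjective ⟨l, hl⟩).1
  obtain ⟨x, hx⟩ := Algebra.Generators.Cotangent.surjective_map_ofComp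
    (Algebra.Generators.localizationAway T a) P (Algebra.Generators.cMulXSubOneCotangent T a)
  let E2 := Algebra.Generators.cotangentCompLocalizationAwayEquiv a P hx
  let E3 : (Algebra.Generators.localizationAway T a).toExtension.Cotangent ≃ₗ[T] T :=
    (Algebra.Generators.basisCotangentAway T a).equivFun.trans (LinearEquiv.funUnique Unit T T)
  let E4 : T ⊗[A] (P.toExtension.Cotangent × A) ≃ₗ[T]
      (T ⊗[A] P.toExtension.Cotangent) × (T ⊗[A] A) :=
    TensorProduct.prodRight A T T P.toExtension.Cotangent A
  let E5 : T ⊗[A] A ≃ₗ[T] T := TensorProduct.AlgebraTensorModule.rid A T T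
  haveI : Module.Free T Q.toExtension.CotangentSpace :=
    Module.Free.of_basis Q.cotangentSpaceBasis
  let E6 : T ⊗[A] (P.toExtension.Cotangent × A) ≃ₗ[T] Q.toExtension.Cotangent :=
    (E4.trans (LinearEquiv.prodCongr (LinearEquiv.refl T _) (E5.trans E3.symm))).trans E2.symm
  exact Module.Free.of_equiv (E1.trans (LinearEquiv.prodCongr E6.symm (LinearEquiv.refl T _)))

/-- transport of freeness of Kähler differentials along a bijective algebra map -/
theorem free_kaehler_of_bijective {R S S' : Type u} [CommRing R] [CommRing S] [CommRing S']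
    [Algebra R S] [Algebra R S'] [Algebra S S'] [IsScalarTower R S S']
    (h : Function.Bijective (algebraMap S S')) (hfree : Module.Free S Ω[S⁄R]) :
    Module.Free S' Ω[S'⁄R] := by
  haveI : Algebra.FormallyEtale S S' :=
    Algebra.FormallyEtale.of_equiv (AlgEquiv.ofBijective (Algebra.ofId S S') h)
  haveI : Module.Free S' (S' ⊗[S] Ω[S⁄R]) := inferInstance
  exact Module.Free.of_equiv (KaehlerDifferential.tensorKaehlerEquivOfFormallyEtale R S S')

section Main

variable {R A : Type u} [CommRing R] [CommRing A] [Algebra R A]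
variable {ι : Type} (P : Algebra.Generators R A ι)

/-- The algebra `C = Sym_A (I/I² ⊕ A)`. -/
def CC : Type u := SymmetricAlgebra A (P.toExtension.Cotangent × A)

noncomputable instance : CommRing (CC P) :=
  inferInstanceAs (CommRing (SymmetricAlgebra A (P.toExtension.Cotangent × A)))
noncomputable instance : Algebra A (CC P) :=
  inferInstanceAs (Algebra A (SymmetricAlgebra A (P.toExtension.Cotangent × A)))
noncomputable instance : Algebra R (CC P) :=
  ((algebraMap A (CC P)).comp (algebraMap R A)).toAlgebra
instance : IsScalarTower R A (CC P) := IsScalarTower.of_algebraMap_eq (fun _ => rfl)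

theorem free_kaehler_away_aux (a : A) {T : Type u} [CommRing T] [Algebra A T] [Algebra R T]
    [IsScalarTower R A T] [IsLocalization.Away a T] [Algebra.FormallySmooth R T] :
    Module.Free (Localization.Away (algebraMap A (CC P) a))
      Ω[Localization.Away (algebraMap A (CC P) a)⁄R] := by
  have hS : Module.Free (SymmetricAlgebra T (T ⊗[A] (P.toExtension.Cotangent × A)))
      Ω[SymmetricAlgebra T (T ⊗[A] (P.toExtension.Cotangent × A))⁄R] :=
    free_kaehler_sym (free_tensor_cotangent_prod P a)
  -- `S` is a localization of `C`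
  let f : (P.toExtension.Cotangent × A) →ₗ[A] (T ⊗[A] (P.toExtension.Cotangent × A)) :=
    TensorProduct.mk A T _ 1
  letI algCS : Algebra (CC P) (SymmetricAlgebra T (T ⊗[A] (P.toExtension.Cotangent × A))) :=
    (Groth.Agent.Helper13SymLoc.symMapₐ (R' := T) f).toRingHom.toAlgebra
  haveI hloc : IsLocalization.Away (algebraMap A (CC P) a)
      (SymmetricAlgebra T (T ⊗[A] (P.toExtension.Cotangent × A))) :=
    Groth.Agent.Helper13SymLoc.isLocalization_symMapₐ (R' := T) a f
  haveI : IsScalarTower R (CC P) (SymmetricAlgebra T (T ⊗[A] (P.toExtension.Cotangent × A))) := by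
    refine IsScalarTower.of_algebraMap_eq (fun r => ?_)
    change algebraMap R (SymmetricAlgebra T (T ⊗[A] (P.toExtension.Cotangent × A))) r =
      Groth.Agent.Helper13SymLoc.symMapₐ (R' := T) f
        (algebraMap A (SymmetricAlgebra A (P.toExtension.Cotangent × A)) (algebraMap R A r))
    rw [AlgHom.commutes, IsScalarTower.algebraMap_apply R T (SymmetricAlgebra T _),
      IsScalarTower.algebraMap_apply R A T,
      ← IsScalarTower.algebraMap_apply A T (SymmetricAlgebra T _)]
  let e : (SymmetricAlgebra T (T ⊗[A] (P.toExtension.Cotangent × A))) ≃ₐ[CC P]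
      Localization.Away (algebraMap A (CC P) a) :=
    IsLocalization.algEquiv (Submonoid.powers (algebraMap A (CC P) a)) _ _
  letI algSL : Algebra (SymmetricAlgebra T (T ⊗[A] (P.toExtension.Cotangent × A)))
      (Localization.Away (algebraMap A (CC P) a)) :=
    e.toAlgHom.toRingHom.toAlgebra
  haveI : IsScalarTower R (SymmetricAlgebra T (T ⊗[A] (P.toExtension.Cotangent × A)))
      (Localization.Away (algebraMap A (CC P) a)) := by
    refine IsScalarTower.of_algebraMap_eq (fun r => ?_)
    change _ = e (algebraMap R (SymmetricAlgebra T (T ⊗[A] (P.toExtension.Cotangent × A))) r)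
    rw [IsScalarTower.algebraMap_apply R (CC P) (SymmetricAlgebra T _), e.commutes,
      ← IsScalarTower.algebraMap_apply]
  exact free_kaehler_of_bijective
    (S := SymmetricAlgebra T (T ⊗[A] (P.toExtension.Cotangent × A))) e.bijective hS

theorem free_kaehler_away (a : A) [Algebra.Smooth R (Localization.Away a)] :
    Module.Free (Localization.Away (algebraMap A (CC P) a))
      Ω[Localization.Away (algebraMap A (CC P) a)⁄R] :=
  free_kaehler_away_aux P a (T := Localization.Away a)

theorem main {R A : Type u} [CommRing R] [CommRing A] [Algebra R A]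
    [Algebra.FinitePresentation R A] :
    ∃ (C : Type u) (_ : CommRing C) (_ : Algebra A C) (_ : Algebra R C) (_ : IsScalarTower R A C),
      Algebra.FiniteType A C ∧ Nonempty (C →ₐ[A] A) ∧
      ∀ a : A, Algebra.Smooth R (Localization.Away a) →
        Module.Free (Localization.Away (algebraMap A C a))
          Ω[Localization.Away (algebraMap A C a)⁄R] := by
  obtain ⟨n, f, hf, hker⟩ := Algebra.FinitePresentation.out (R := R) (A := A)
  let P : Algebra.Generators R A (Fin n) := Algebra.Generators.ofAlgHom f hf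
  refine ⟨CC P, inferInstance, inferInstance, inferInstance, inferInstance, ?_, ?_, ?_⟩
  · haveI : Module.Finite A P.toExtension.Cotangent :=
      Algebra.Extension.Cotangent.finite P.fg_ker_of_finitePresentation
    exact Groth.Agent.Helper13SymLoc.finiteType_symmetricAlgebra (R := A)
      (M := P.toExtension.Cotangent × A)
  · exact ⟨(SymmetricAlgebra.algebraMapInv :
      SymmetricAlgebra A (P.toExtension.Cotangent × A) →ₐ[A] A)⟩
  · intro a ha
    exact free_kaehler_away P a

end Main

end Groth.Agent.Lib.T2H8.SymKaehler
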