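import Mathlib
import Groth.Prelude.Def_Smoothing
import Groth.Agent.Lib.T2H7StdElt

set_option autoImplicit false
universe u

namespace Groth.Agent.Lib.T2H8.StrictStd

open TensorProduct MvPolynomial

theorem exists_leftInverse_of_minors {T : Type*} [CommRing T] {n c : ℕ}
    (M : Matrix (Fin n) (Fin c) T) (β : (Fin c → Fin n) → T)
    (h : ∑ cols : Fin c → Fin n, β cols * (Matrix.of fun k j => M (cols k) j).det = 1) :
    ∃ L : (Fin n → T) →ₗ[T] (Fin c → T), ∀ w, L (M.mulVec w) = w := by
  classical
  let proj : (Fin c → Fin n) → (Fin n → T) →ₗ[T] (Fin c → T) := fun cols =>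
    LinearMap.pi (fun k => LinearMap.proj (cols k))
  let L : (Fin n → T) →ₗ[T] (Fin c → T) :=
    ∑ cols : Fin c → Fin n, β cols •
      ((Matrix.of fun k j => M (cols k) j).adjugate.mulVecLin ∘ₗ proj cols)
  refine ⟨L, fun w => ?_⟩
  have hproj : ∀ cols, proj cols (M.mulVec w) = (Matrix.of fun k j => M (cols k) j).mulVec w := by
    intro cols
    ext k
    simp [proj, Matrix.mulVec, dotProduct]
  simp only [L, LinearMap.sum_apply, LinearMap.smul_apply, LinearMap.comp_apply, hproj,
    Matrix.mulVecLin_apply, Matrix.mulVec_mulVec, Matrix.adjugate_mul, Matrix.smul_mulVec,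
    Matrix.one_mulVec]
  simp only [smul_smul, ← Finset.sum_smul, h, one_smul]

section Cot

variable {R A : Type u} [CommRing R] [CommRing A] [Algebra R A]

/-- images in the cotangent module of a generating family of the kernel span it -/
theorem mk_mem_span (E : Algebra.Extension R A) {κ : Type*} (g : κ → E.Ring)
    (hg : ∀ k, g k ∈ E.ker) (y : E.Ring) (hy : y ∈ Ideal.span (Set.range g))
    (hy' : y ∈ E.ker) :
    Algebra.Extension.Cotangent.mk (P := E) ⟨y, hy'⟩ ∈
      Submodule.span A (Set.range fun k =>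
        Algebra.Extension.Cotangent.mk (P := E) ⟨g k, hg k⟩) := by
  induction hy using Submodule.span_induction with
  | mem x hx =>
    obtain ⟨k, rfl⟩ := hx
    exact Submodule.subset_span ⟨k, rfl⟩
  | zero =>
    have : (⟨0, hy'⟩ : E.ker) = 0 := rfl
    rw [this, map_zero]
    exact Submodule.zero_mem _
  | add x z hx hz ihx ihz =>
    have hx' : x ∈ E.ker := (Ideal.span_le.mpr (by rintro _ ⟨k, rfl⟩; exact hg k)) hx
    have hz' : z ∈ E.ker := (Ideal.span_le.mpr (by rintro _ ⟨k, rfl⟩; exact hg k)) hz
    have : (⟨x + z, hy'⟩ : E.ker) = ⟨x, hx'⟩ + ⟨z, hz'⟩ := rfl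
    rw [this, map_add]
    exact Submodule.add_mem _ (ihx hx') (ihz hz')
  | smul r x hx ihx =>
    have hx' : x ∈ E.ker := (Ideal.span_le.mpr (by rintro _ ⟨k, rfl⟩; exact hg k)) hx
    have : (⟨r • x, hy'⟩ : E.ker) = r • ⟨x, hx'⟩ := rfl
    rw [this, map_smul, ← algebraMap_smul A r]
    exact Submodule.smul_mem _ _ (ihx hx')

variable (MP : Smoothing.MarkedPresentation R A)

/-- the generators attached to a marked presentation -/
noncomputable def gens : Algebra.Generators R A (Fin MP.n) :=
  Algebra.Generators.ofAlgHom MP.hom MP.surj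

theorem algebraMap_gens (p : MvPolynomial (Fin MP.n) R) :
    algebraMap (gens MP).toExtension.Ring A p = MP.hom p := by
  change algebraMap (gens MP).Ring A p = MP.hom p
  rw [Algebra.Generators.algebraMap_apply]
  have : aeval (gens MP).val = MP.hom := by
    apply MvPolynomial.algHom_ext
    intro i
    simp [gens, Algebra.Generators.ofAlgHom, Algebra.Generators.ofSurjective]
  rw [this]

theorem mem_ker_gens (p : (gens MP).toExtension.Ring) :
    p ∈ (gens MP).toExtension.ker ↔ MP.hom p = 0 := by
  rw [RingHom.mem_ker, algebraMap_gens]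

theorem mem_span_rel_iff (p : MvPolynomial (Fin MP.n) R) :
    p ∈ Ideal.span (Set.range MP.rel) ↔ MP.hom p = 0 := by
  rw [← MP.ker_eq]; rfl

theorem ker_gens : (gens MP).toExtension.ker =
    (Ideal.span (Set.range (MP.rel : Fin MP.m → (gens MP).toExtension.Ring)) :
      Ideal (gens MP).toExtension.Ring) := by
  ext p
  rw [mem_ker_gens]
  exact (mem_span_rel_iff MP p).symm

theorem rel_mem (j : Fin MP.m) :
    (MP.rel j : (gens MP).toExtension.Ring) ∈ (gens MP).toExtension.ker := by
  rw [ker_gens]; exact Ideal.subset_span ⟨j, rfl⟩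

/-- the class of a relation in the cotangent module -/
noncomputable def rho (j : Fin MP.m) : (gens MP).toExtension.Cotangent :=
  Algebra.Extension.Cotangent.mk ⟨MP.rel j, rel_mem MP j⟩

theorem span_rho : Submodule.span A (Set.range (rho MP)) = ⊤ := by
  rw [eq_top_iff]
  rintro x -
  obtain ⟨⟨y, hy⟩, rfl⟩ := Algebra.Extension.Cotangent.mk_surjective x
  have hy2 : y ∈ (Ideal.span (Set.range (MP.rel : Fin MP.m → (gens MP).toExtension.Ring)) :
      Ideal (gens MP).toExtension.Ring) := by rw [← ker_gens]; exact hy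
  exact mk_mem_span (gens MP).toExtension MP.rel (rel_mem MP) y hy2 hy

theorem tail_mem (a : A) (hkill : Smoothing.KillsTail MP a) (j : Fin MP.m) (hj : MP.c ≤ (j : ℕ)) :
    a • rho MP j ∈ Submodule.span A (Set.range fun i : Fin MP.c => rho MP (Fin.castLE MP.hcm i)) := by
  obtain ⟨a', ha'⟩ := MP.surj a
  have h1 := hkill a' ha' j hj
  obtain ⟨y, hy, z, hz, hyz⟩ := Submodule.mem_sup.mp h1
  have himg : MP.rel '' {j' : Fin MP.m | (j' : ℕ) < MP.c} =
      Set.range fun i : Fin MP.c => MP.rel (Fin.castLE MP.hcm i) := by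
    ext r
    constructor
    · rintro ⟨j', hj', rfl⟩
      exact ⟨⟨j', hj'⟩, by simp⟩
    · rintro ⟨i, rfl⟩
      exact ⟨Fin.castLE MP.hcm i, by simp, rfl⟩
  rw [himg] at hy
  let y' : (gens MP).toExtension.Ring := y
  let z' : (gens MP).toExtension.Ring := z
  let a'' : (gens MP).toExtension.Ring := a'
  have hy3 : y' ∈ (Ideal.span (Set.range fun i : Fin MP.c =>
      (MP.rel (Fin.castLE MP.hcm i) : (gens MP).toExtension.Ring)) :
        Ideal (gens MP).toExtension.Ring) := hy
  have hyk : y' ∈ (gens MP).toExtension.ker := by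
    rw [ker_gens]
    exact (Ideal.span_mono (by rintro _ ⟨i, rfl⟩; exact ⟨_, rfl⟩)) hy3
  have hzk2 : z' ∈ (gens MP).toExtension.ker ^ 2 := by rw [ker_gens]; exact hz
  have hzk : z' ∈ (gens MP).toExtension.ker := Ideal.pow_le_self two_ne_zero hzk2
  have h2 : a • rho MP j = Algebra.Extension.Cotangent.mk (P := (gens MP).toExtension)
      ⟨y', hyk⟩ + Algebra.Extension.Cotangent.mk (P := (gens MP).toExtension) ⟨z', hzk⟩ := by
    rw [← map_add]
    have h3 : (⟨y', hyk⟩ + ⟨z', hzk⟩ : (gens MP).toExtension.ker) =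
        a'' • ⟨MP.rel j, rel_mem MP j⟩ := by
      apply Subtype.ext
      change y + z = a' * MP.rel j
      exact hyz
    rw [h3, map_smul]
    have h4 : a'' • (Algebra.Extension.Cotangent.mk (P := (gens MP).toExtension)
        ⟨MP.rel j, rel_mem MP j⟩) =
        (algebraMap (gens MP).toExtension.Ring A a'') •
          (Algebra.Extension.Cotangent.mk (P := (gens MP).toExtension)
            ⟨MP.rel j, rel_mem MP j⟩) := (algebraMap_smul A a'' _).symm
    rw [h4, algebraMap_gens, ha']
    rfl
  rw [h2, (Algebra.Extension.Cotangent.mk_eq_zero_iff ⟨z', hzk⟩).mpr hzk2, add_zero]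
  exact mk_mem_span (gens MP).toExtension (fun i : Fin MP.c => MP.rel (Fin.castLE MP.hcm i))
    (fun i => rel_mem MP _) y' hy3 hyk

end Cot

section Main

variable {R A : Type u} [CommRing R] [CommRing A] [Algebra R A]
variable (MP : Smoothing.MarkedPresentation R A)
variable (a : A) (T : Type u) [CommRing T] [Algebra A T] [Algebra R T] [IsScalarTower R A T]

/-- the map `T^c → T ⊗ I/I²` given by the leading relations -/
noncomputable def phi : (Fin MP.c → T) →ₗ[T] T ⊗[A] (gens MP).toExtension.Cotangent :=
  Fintype.linearCombination T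
    (fun i : Fin MP.c => (1 : T) ⊗ₜ[A] rho MP (Fin.castLE MP.hcm i))

theorem one_tmul_mem_range_phi (y : (gens MP).toExtension.Cotangent)
    (hy : y ∈ Submodule.span A (Set.range fun i : Fin MP.c => rho MP (Fin.castLE MP.hcm i))) :
    (1 : T) ⊗ₜ[A] y ∈ LinearMap.range (phi MP T) := by
  induction hy using Submodule.span_induction with
  | mem x hx =>
    obtain ⟨i, rfl⟩ := hx
    refine ⟨Pi.single i 1, ?_⟩
    simp [phi, Fintype.linearCombination_apply]
  | zero => rw [TensorProduct.tmul_zero]; exact Submodule.zero_mem _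
  | add x z _ _ hx hz => rw [TensorProduct.tmul_add]; exact Submodule.add_mem _ hx hz
  | smul r x _ hx =>
    have : (1 : T) ⊗ₜ[A] (r • x) = algebraMap A T r • ((1 : T) ⊗ₜ[A] x) := by
      rw [TensorProduct.tmul_smul, algebraMap_smul]
    rw [this]
    exact Submodule.smul_mem _ _ hx

/-- the Jacobian matrix of the leading relations, with entries in `T` -/
noncomputable def jac : Matrix (Fin MP.n) (Fin MP.c) T :=
  Matrix.of fun i j => algebraMap A T (MP.hom (pderiv i (MP.rel (Fin.castLE MP.hcm j))))

/-- the basis of `T ⊗ (A ⊗ Ω_P)` -/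
noncomputable def bT : Module.Basis (Fin MP.n) T (T ⊗[A] (gens MP).toExtension.CotangentSpace) :=
  (gens MP).cotangentSpaceBasis.baseChange T

theorem repr_cc_rho (j : Fin MP.m) (i : Fin MP.n) :
    (bT MP T).repr ((gens MP).toExtension.cotangentComplex.baseChange T
      ((1 : T) ⊗ₜ[A] rho MP j)) i = algebraMap A T (MP.hom (pderiv i (MP.rel j))) := by
  rw [LinearMap.baseChange_tmul, rho, Algebra.Extension.cotangentComplex_mk, bT,
    Module.Basis.baseChange_repr_tmul]
  erw [Algebra.Generators.cotangentSpaceBasis_repr_one_tmul]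
  rw [Algebra.smul_def, mul_one]
  congr 1
  rw [← algebraMap_gens]
  exact ((gens MP).algebraMap_apply _).symm

theorem equivFun_cc_phi (w : Fin MP.c → T) :
    (bT MP T).equivFun ((gens MP).toExtension.cotangentComplex.baseChange T (phi MP T w)) =
      (jac MP T).mulVec w := by
  ext i
  simp only [phi, Fintype.linearCombination_apply, map_sum, map_smul, Module.Basis.equivFun_apply,
    Finset.sum_apply, Pi.smul_apply, repr_cc_rho,
    Matrix.mulVec, dotProduct, jac, Matrix.of_apply, smul_eq_mul]
  exact Finset.sum_congr rfl fun j _ => mul_comm _ _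

variable [IsLocalization.Away a T]

theorem phi_surjective (hkill : Smoothing.KillsTail MP a) : Function.Surjective (phi MP T) := by
  rw [← LinearMap.range_eq_top, eq_top_iff]
  rintro x -
  obtain ⟨u, hu⟩ := (IsLocalization.Away.algebraMap_isUnit (S := T) a).exists_left_inv
  have key : ∀ y : (gens MP).toExtension.Cotangent,
      (1 : T) ⊗ₜ[A] y ∈ LinearMap.range (phi MP T) := by
    intro y
    have hy : y ∈ Submodule.span A (Set.range (rho MP)) := by rw [span_rho]; trivial
    induction hy using Submodule.span_induction with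
    | mem x hx =>
      obtain ⟨j, rfl⟩ := hx
      by_cases hj : (j : ℕ) < MP.c
      · refine one_tmul_mem_range_phi MP T _ (Submodule.subset_span ⟨⟨j, hj⟩, ?_⟩)
        simp
      · have h2 := one_tmul_mem_range_phi MP T _ (tail_mem MP a hkill j (not_lt.mp hj))
        have h3 : (1 : T) ⊗ₜ[A] rho MP j = u • ((1 : T) ⊗ₜ[A] (a • rho MP j)) := by
          rw [TensorProduct.tmul_smul, ← algebraMap_smul T a ((1 : T) ⊗ₜ[A] rho MP j), smul_smul,
            hu, one_smul]
        rw [h3]
        exact Submodule.smul_mem _ _ h2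
    | zero => rw [TensorProduct.tmul_zero]; exact Submodule.zero_mem _
    | add x z _ _ hx hz => rw [TensorProduct.tmul_add]; exact Submodule.add_mem _ hx hz
    | smul r x _ hx =>
      have : (1 : T) ⊗ₜ[A] (r • x) = algebraMap A T r • ((1 : T) ⊗ₜ[A] x) := by
        rw [TensorProduct.tmul_smul, algebraMap_smul]
      rw [this]
      exact Submodule.smul_mem _ _ hx
  induction x using TensorProduct.induction_on with
  | zero => exact Submodule.zero_mem _
  | add x y hx hy => exact Submodule.add_mem _ hx hy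
  | tmul t y =>
    have h1 : t ⊗ₜ[A] y = t • ((1 : T) ⊗ₜ[A] y) := by
      rw [TensorProduct.smul_tmul', smul_eq_mul, mul_one]
    rw [h1]
    exact Submodule.smul_mem _ _ (key y)

theorem exists_beta
    (hspan : a ∈ Ideal.span (Set.range fun cols : Fin MP.c → Fin MP.n =>
      MP.hom (Smoothing.jacobianMinor MP.rel (Fin.castLE MP.hcm) cols))) :
    ∃ β : (Fin MP.c → Fin MP.n) → T,
      ∑ cols, β cols * (Matrix.of fun k j => jac MP T (cols k) j).det = 1 := by
  obtain ⟨b, hb⟩ := Ideal.mem_span_range_iff_exists_fun.mp hspan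
  obtain ⟨u, hu⟩ := (IsLocalization.Away.algebraMap_isUnit (S := T) a).exists_left_inv
  refine ⟨fun cols => u * algebraMap A T (b cols), ?_⟩
  have hdet : ∀ cols : Fin MP.c → Fin MP.n,
      (Matrix.of fun k j => jac MP T (cols k) j).det =
        algebraMap A T (MP.hom (Smoothing.jacobianMinor MP.rel (Fin.castLE MP.hcm) cols)) := by
    intro cols
    rw [Smoothing.jacobianMinor]
    have h1 := RingHom.map_det ((algebraMap A T).comp MP.hom.toRingHom)
      (Matrix.of fun j k : Fin MP.c => pderiv (cols k) (MP.rel (Fin.castLE MP.hcm j)))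
    change algebraMap A T (MP.hom _) = _ at h1
    rw [h1, ← Matrix.det_transpose]
    congr 1
  simp only [hdet, mul_assoc, ← Finset.mul_sum, ← map_mul, ← map_sum, hb, hu]

theorem main_aux
    (hspan : a ∈ Ideal.span (Set.range fun cols : Fin MP.c → Fin MP.n =>
      MP.hom (Smoothing.jacobianMinor MP.rel (Fin.castLE MP.hcm) cols)))
    (hkill : Smoothing.KillsTail MP a) :
    Nonempty ((Ω[T⁄R] × (Fin MP.c → T)) ≃ₗ[T] (Fin MP.n → T)) := by
  obtain ⟨β, hβ⟩ := exists_beta MP a T hspan
  obtain ⟨L, hL⟩ := exists_leftInverse_of_minors (jac MP T) β hβ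
  have hsurj := phi_surjective MP a T hkill
  have hinj : Function.Injective (phi MP T) := by
    rw [injective_iff_map_eq_zero]
    intro w hw
    have h1 := equivFun_cc_phi MP T w
    rw [hw, map_zero, map_zero] at h1
    rw [← hL w, ← h1, map_zero]
  let eφ : (Fin MP.c → T) ≃ₗ[T] T ⊗[A] (gens MP).toExtension.Cotangent :=
    LinearEquiv.ofBijective (phi MP T) ⟨hinj, hsurj⟩
  let r : T ⊗[A] (gens MP).toExtension.CotangentSpace →ₗ[T]
      T ⊗[A] (gens MP).toExtension.Cotangent :=
    (phi MP T) ∘ₗ L ∘ₗ (bT MP T).equivFun.toLinearMap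
  have hr : r ∘ₗ (gens MP).toExtension.cotangentComplex.baseChange T = LinearMap.id := by
    apply LinearMap.ext
    intro x
    obtain ⟨w, rfl⟩ := hsurj x
    simp only [r, LinearMap.comp_apply, LinearEquiv.coe_coe, LinearMap.id_apply]
    rw [equivFun_cc_phi, hL]
  have hex : Function.Exact ((gens MP).toExtension.cotangentComplex.baseChange T)
      ((gens MP).toExtension.toKaehler.baseChange T) := by
    have := lTensor_exact T (gens MP).toExtension.exact_cotangentComplex_toKaehler
      (gens MP).toExtension.toKaehler_surjective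
    rwa [← LinearMap.baseChange_eq_ltensor, ← LinearMap.baseChange_eq_ltensor] at this
  have hsurjK : Function.Surjective ((gens MP).toExtension.toKaehler.baseChange T) := by
    have := LinearMap.lTensor_surjective T (gens MP).toExtension.toKaehler_surjective
    rwa [← LinearMap.baseChange_eq_ltensor] at this
  let E1 := (hex.splitInjectiveEquiv hsurjK ⟨r, hr⟩).1
  haveI : Algebra.FormallyEtale A T := Algebra.FormallyEtale.of_isLocalization (Submonoid.powers a)
  let eΩ : T ⊗[A] Ω[A⁄R] ≃ₗ[T] Ω[T⁄R] := KaehlerDifferential.tensorKaehlerEquivOfFormallyEtale R A T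
  exact ⟨((LinearEquiv.prodCongr eΩ.symm eφ).trans (LinearEquiv.prodComm T _ _)).trans
    (E1.symm.trans (bT MP T).equivFun)⟩

end Main

section Final

variable {R A : Type u} [CommRing R] [CommRing A] [Algebra R A]

theorem finitePresentation_of_marked (MP : Smoothing.MarkedPresentation R A) :
    Algebra.FinitePresentation R A := by
  refine Algebra.FinitePresentation.of_surjective MP.surj ?_
  rw [MP.ker_eq]
  exact Submodule.fg_span (Set.finite_range _)

theorem main (a : A) (ha : Smoothing.IsStrictlyStandard R A a) :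
    Algebra.Smooth R (Localization.Away a) ∧
      ∃ p q : ℕ, Nonempty ((Ω[Localization.Away a⁄R] × (Fin p → Localization.Away a))
        ≃ₗ[Localization.Away a] (Fin q → Localization.Away a)) := by
  have ha' := ha
  obtain ⟨MP, hspan, hkill⟩ := ha
  haveI := finitePresentation_of_marked MP
  refine ⟨?_, MP.c, MP.n, main_aux MP a (Localization.Away a) hspan hkill⟩
  rw [← Algebra.basicOpen_subset_smoothLocus_iff_smooth]
  intro q hq
  exact Groth.Agent.Lib.T2H7.StdElt.isSmoothAt_of_isStrictlyStandard a ha' q.asIdeal hq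

end Final

end Groth.Agent.Lib.T2H8.StrictStd
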