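import Mathlib
import Groth.Prelude.Def_Smoothing
import Groth.Agent.Lib.T2H7JacCrit
import Groth.Agent.Lib.T2H8StrictStd

set_option autoImplicit false
universe u

namespace Groth.Agent.Lib.T2H8.StrictStdConv

open TensorProduct MvPolynomial Groth.Agent.Lib.T2H8.StrictStd

theorem span_minors_eq_top {T : Type u} [CommRing T] {n c : ℕ}
    (J : Matrix (Fin n) (Fin c) T) (L : Matrix (Fin c) (Fin n) T) (hLJ : L * J = 1) :
    Ideal.span (Set.range fun cols : Fin c → Fin n => (Matrix.of fun k j => J (cols k) j).det) = ⊤ := by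
  by_contra hne
  obtain ⟨𝔪, h𝔪, hle⟩ := Ideal.exists_le_maximal _ hne
  letI : Field (T ⧸ 𝔪) := Ideal.Quotient.field 𝔪
  let π : T →+* T ⧸ 𝔪 := Ideal.Quotient.mk 𝔪
  have h1 : (L.map π) * (J.map π) = 1 := by
    rw [← Matrix.map_mul, hLJ, Matrix.map_one π (map_zero π) (map_one π)]
  have h2 : (J.map π).transpose * (L.map π).transpose = 1 := by
    rw [← Matrix.transpose_mul, h1, Matrix.transpose_one]
  have hli : LinearIndependent (T ⧸ 𝔪) (J.map π).transpose.row := by
    rw [← Matrix.vecMul_injective_iff]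
    intro v w hvw
    have := congrArg (fun u => Matrix.vecMul u (L.map π).transpose) hvw
    simpa [Matrix.vecMul_vecMul, h2] using this
  obtain ⟨I, hI⟩ :=
    (Groth.Agent.Lib.T2H7.JacCrit.linearIndependent_row_iff_exists_minor _).mp hli
  apply hI
  have h3 : ((J.map π).transpose.submatrix id I) =
      ((Matrix.of fun k j => J (I k) j).map π).transpose := by
    ext j k
    simp
  rw [h3, Matrix.det_transpose]
  have h4 := (RingHom.map_det π (Matrix.of fun k j => J (I k) j)).symm
  rw [RingHom.mapMatrix_apply] at h4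
  rw [h4]
  exact Ideal.Quotient.eq_zero_iff_mem.mpr (hle (Ideal.subset_span ⟨I, rfl⟩))

theorem baseChange_cotangentComplex_injective {R A T : Type u} [CommRing R] [CommRing A]
    [Algebra R A] [CommRing T] [Algebra A T] [Algebra R T] [IsScalarTower R A T]
    {ι : Type} (G : Algebra.Generators R A ι) (a : A) [IsLocalization.Away a T]
    [Algebra.FormallySmooth R T] :
    Function.Injective (G.toExtension.cotangentComplex.baseChange T) := by
  haveI : Module.Flat A T := IsLocalization.flat T (Submonoid.powers a)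
  have hsub : Subsingleton (T ⊗[A] G.toExtension.H1Cotangent) := by
    let e1 : T ⊗[A] G.toExtension.H1Cotangent ≃ₗ[T] T ⊗[A] Algebra.H1Cotangent R A :=
      TensorProduct.AlgebraTensorModule.congr (LinearEquiv.refl T T) G.equivH1Cotangent
    let e2 := Algebra.tensorH1CotangentOfIsLocalization R T (Submonoid.powers a)
    exact (e1.trans e2).toEquiv.subsingleton
  rw [injective_iff_map_eq_zero]
  intro x hx
  have hk := Module.Flat.ker_lTensor_eq T T G.toExtension.cotangentComplex
  have hx' : x ∈ LinearMap.ker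
      (TensorProduct.AlgebraTensorModule.lTensor T T G.toExtension.cotangentComplex) := hx
  rw [hk] at hx'
  obtain ⟨z, rfl⟩ := hx'
  have hz : z = 0 := Subsingleton.elim (α := T ⊗[A] G.toExtension.H1Cotangent) z 0
  rw [hz, map_zero]

section LA

variable {T : Type u} [CommRing T]

/-- kernels correspond under compatible equivalences -/
noncomputable def kerEquivOfComm {V V' W W' : Type*} [AddCommGroup V] [AddCommGroup V']
    [AddCommGroup W] [AddCommGroup W'] [Module T V] [Module T V'] [Module T W] [Module T W']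
    (Φ : V ≃ₗ[T] V') (Ψ : W ≃ₗ[T] W') (g : V →ₗ[T] W) (g' : V' →ₗ[T] W')
    (h : ∀ v, Ψ (g v) = g' (Φ v)) : LinearMap.ker g ≃ₗ[T] LinearMap.ker g' :=
  LinearEquiv.ofLinear
    (LinearMap.codRestrict _ (Φ.toLinearMap ∘ₗ (LinearMap.ker g).subtype) (fun v => by
      rw [LinearMap.mem_ker, LinearMap.comp_apply, LinearEquiv.coe_coe, ← h]
      simp))
    (LinearMap.codRestrict _ (Φ.symm.toLinearMap ∘ₗ (LinearMap.ker g').subtype) (fun v => by
      rw [LinearMap.mem_ker]
      apply Ψ.injective
      rw [LinearMap.comp_apply, LinearEquiv.coe_coe, h]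
      simp))
    (by ext v; simp)
    (by ext v; simp)

/-- Schanuel-type statement: if `Ω ⊕ P ≃ V₁` and `g₀ : V₀ → Ω` is a split surjection, then the
kernel of `V₀ × V₁ → Ω` is isomorphic to `V₀ × P`. -/
theorem nonempty_ker_equiv {V₀ V₁ Ω P : Type*} [AddCommGroup V₀] [AddCommGroup V₁]
    [AddCommGroup Ω] [AddCommGroup P] [Module T V₀] [Module T V₁] [Module T Ω] [Module T P]
    (g₀ : V₀ →ₗ[T] Ω) (s : Ω →ₗ[T] V₀) (hs : g₀ ∘ₗ s = LinearMap.id)
    (ε : (Ω × P) ≃ₗ[T] V₁) :
    Nonempty (LinearMap.ker (g₀ ∘ₗ LinearMap.fst T V₀ V₁) ≃ₗ[T] (V₀ × P)) := by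
  have hs' : ∀ ω, g₀ (s ω) = ω := fun ω => congrArg (fun f : Ω →ₗ[T] Ω => f ω) hs
  let K := LinearMap.ker (g₀ ∘ₗ LinearMap.fst T V₀ V₁)
  let p1 : K →ₗ[T] V₀ := LinearMap.fst T V₀ V₁ ∘ₗ K.subtype
  let p2 : K →ₗ[T] Ω × P := ε.symm.toLinearMap ∘ₗ LinearMap.snd T V₀ V₁ ∘ₗ K.subtype
  let toFun : K →ₗ[T] (V₀ × P) :=
    (p1 + s ∘ₗ LinearMap.fst T Ω P ∘ₗ p2).prod (LinearMap.snd T Ω P ∘ₗ p2)
  let raw : (V₀ × P) →ₗ[T] V₀ × V₁ :=
    (LinearMap.fst T V₀ P - s ∘ₗ g₀ ∘ₗ LinearMap.fst T V₀ P).prod
      (ε.toLinearMap ∘ₗ ((g₀ ∘ₗ LinearMap.fst T V₀ P).prod (LinearMap.snd T V₀ P)))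
  let invFun : (V₀ × P) →ₗ[T] K :=
    LinearMap.codRestrict _ raw (fun y => by
      rw [LinearMap.mem_ker]
      simp [raw, hs'])
  refine ⟨LinearEquiv.ofLinear toFun invFun ?_ ?_⟩
  · ext y <;> simp [toFun, invFun, raw, p1, p2, hs', K]
  · ext x
    · have hx : g₀ x.1.1 = 0 := x.2
      simp [toFun, invFun, raw, p1, p2, hs', hx, K]
    · have hx : g₀ x.1.1 = 0 := x.2
      simp [toFun, invFun, raw, p1, p2, hs', hx, K]

end LA

section Gen

variable {R A T : Type u} [CommRing R] [CommRing A] [Algebra R A] [CommRing T] [Algebra A T]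
  [Algebra R T] [IsScalarTower R A T]

theorem nonempty_cotangent_equiv {n₀ q p : ℕ} (G : Algebra.Generators R A (Fin (n₀ + q)))
    (hval : ∀ l : Fin q, G.val (Fin.natAdd n₀ l) = 0)
    (a : A) [IsLocalization.Away a T] [Algebra.FormallySmooth R T]
    (ε : (Ω[T⁄R] × (Fin p → T)) ≃ₗ[T] (Fin q → T)) :
    Nonempty ((T ⊗[A] G.toExtension.Cotangent) ≃ₗ[T] ((Fin n₀ → T) × (Fin p → T))) := by
  classical
  have hinj := baseChange_cotangentComplex_injective (T := T) G a
  have hex : Function.Exact (G.toExtension.cotangentComplex.baseChange T)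
      (G.toExtension.toKaehler.baseChange T) := by
    have := lTensor_exact T G.toExtension.exact_cotangentComplex_toKaehler
      G.toExtension.toKaehler_surjective
    rwa [← LinearMap.baseChange_eq_ltensor, ← LinearMap.baseChange_eq_ltensor] at this
  have hsurjK : Function.Surjective (G.toExtension.toKaehler.baseChange T) := by
    have := LinearMap.lTensor_surjective T G.toExtension.toKaehler_surjective
    rwa [← LinearMap.baseChange_eq_ltensor] at this
  let e1 : (T ⊗[A] G.toExtension.Cotangent) ≃ₗ[T]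
      LinearMap.ker (G.toExtension.toKaehler.baseChange T) :=
    (LinearEquiv.ofInjective _ hinj).trans
      (LinearEquiv.ofEq _ _ (LinearMap.exact_iff.mp hex).symm)
  let bT : Module.Basis (Fin (n₀ + q)) T (T ⊗[A] G.toExtension.CotangentSpace) :=
    G.cotangentSpaceBasis.baseChange T
  let Φ : (T ⊗[A] G.toExtension.CotangentSpace) ≃ₗ[T] ((Fin n₀ → T) × (Fin q → T)) :=
    (bT.equivFun.trans (LinearEquiv.funCongrLeft T T finSumFinEquiv)).trans
      (LinearEquiv.sumArrowLequivProdArrow (Fin n₀) (Fin q) T T)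
  haveI : Algebra.FormallyEtale A T := Algebra.FormallyEtale.of_isLocalization (Submonoid.powers a)
  let Ψ : T ⊗[A] Ω[A⁄R] ≃ₗ[T] Ω[T⁄R] := KaehlerDifferential.tensorKaehlerEquivOfFormallyEtale R A T
  let g₀ : (Fin n₀ → T) →ₗ[T] Ω[T⁄R] := Fintype.linearCombination T
    (fun i => KaehlerDifferential.D R T (algebraMap A T (G.val (Fin.castAdd q i))))
  have hcomm : ∀ v, Ψ (G.toExtension.toKaehler.baseChange T v) =
      (g₀ ∘ₗ LinearMap.fst T (Fin n₀ → T) (Fin q → T)) (Φ v) := by
    intro v
    have : Ψ.toLinearMap ∘ₗ G.toExtension.toKaehler.baseChange T =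
        (g₀ ∘ₗ LinearMap.fst T (Fin n₀ → T) (Fin q → T)) ∘ₗ Φ.toLinearMap := by
      apply bT.ext
      intro i
      have hb : bT i = (1 : T) ⊗ₜ[A] G.cotangentSpaceBasis i := by
        simp [bT, Module.Basis.baseChange_apply]
      have hΦ : Φ (bT i) = ((fun i₀ => (Pi.single i (1 : T) : Fin (n₀ + q) → T) (Fin.castAdd q i₀)),
          (fun l => (Pi.single i (1 : T) : Fin (n₀ + q) → T) (Fin.natAdd n₀ l))) := by
        simp only [Φ, LinearEquiv.trans_apply]
        ext j <;> simp [LinearEquiv.funCongrLeft, LinearEquiv.sumArrowLequivProdArrow,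
          Finsupp.single_apply, Pi.single_apply, eq_comm]
      simp only [LinearMap.comp_apply, LinearEquiv.coe_coe, hΦ, LinearMap.fst_apply]
      rw [hb, LinearMap.baseChange_tmul, Algebra.Generators.toKaehler_cotangentSpaceBasis]
      simp only [Ψ, KaehlerDifferential.tensorKaehlerEquivOfFormallyEtale_apply,
        KaehlerDifferential.mapBaseChange_tmul, one_smul, KaehlerDifferential.map_D, g₀,
        Fintype.linearCombination_apply]
      induction i using Fin.addCases with
      | left i₀ =>
        rw [Finset.sum_eq_single i₀]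
        · simp
        · intro j _ hj
          have : Fin.castAdd q i₀ ≠ Fin.castAdd q j := fun h => hj (Fin.castAdd_injective _ _ h).symm
          simp [Pi.single_apply, this.symm]
        · simp
      | right l =>
        rw [hval l, map_zero, map_zero]
        symm
        apply Finset.sum_eq_zero
        intro j _
        have : Fin.castAdd q j ≠ Fin.natAdd n₀ l := by
          intro h
          have := congrArg Fin.val h
          simp at this
          omega
        simp [Pi.single_apply, this]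
    exact congrArg (fun f => f v) this
  let e2 := kerEquivOfComm Φ Ψ (G.toExtension.toKaehler.baseChange T)
    (g₀ ∘ₗ LinearMap.fst T (Fin n₀ → T) (Fin q → T)) hcomm
  have hg₀ : Function.Surjective g₀ := by
    intro ω
    obtain ⟨v, hv⟩ := hsurjK (Ψ.symm ω)
    refine ⟨(Φ v).1, ?_⟩
    have := hcomm v
    rw [hv, LinearEquiv.apply_symm_apply] at this
    exact this.symm
  obtain ⟨s, hs⟩ := Module.projective_lifting_property g₀ LinearMap.id hg₀
  obtain ⟨e3⟩ := nonempty_ker_equiv g₀ s hs ε
  exact ⟨(e1.trans e2).trans e3⟩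

end Gen

/-- If the `1 ⊗ m_i` span `T ⊗ M` over `T = A_a`, every element of `M` is pushed into the
`A`-span of the `m_i` by a power of `a`. -/
theorem exists_pow_smul_mem_span {A T : Type u} [CommRing A] [CommRing T] [Algebra A T] (a : A)
    [IsLocalization.Away a T] {M : Type u} [AddCommGroup M] [Module A M] {c : ℕ}
    (m : Fin c → M)
    (hspan : Submodule.span T (Set.range fun i => (1 : T) ⊗ₜ[A] m i) = ⊤) (x : M) :
    ∃ N : ℕ, ∀ N' : ℕ, N ≤ N' → a ^ N' • x ∈ Submodule.span A (Set.range m) := by
  have hx : (1 : T) ⊗ₜ[A] x ∈ Submodule.span T (Set.range fun i => (1 : T) ⊗ₜ[A] m i) := by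
    rw [hspan]; trivial
  obtain ⟨t, ht⟩ := (Submodule.mem_span_range_iff_exists_fun T).mp hx
  obtain ⟨b, hb⟩ := IsLocalization.exist_integer_multiples (Submonoid.powers a)
    (Finset.univ : Finset (Fin c)) t
  obtain ⟨k, hk⟩ := b.2
  have hk : a ^ k = (b : A) := hk
  have hb' : ∀ i, ∃ y : A, algebraMap A T y = algebraMap A T (a ^ k) * t i := by
    intro i
    obtain ⟨y, hy⟩ := hb i (Finset.mem_univ i)
    refine ⟨y, ?_⟩
    rw [hy, hk, Algebra.smul_def]
  choose y hy using hb'
  have h1 : (1 : T) ⊗ₜ[A] (a ^ k • x - ∑ i, y i • m i) = 0 := by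
    rw [TensorProduct.tmul_sub, TensorProduct.tmul_smul, TensorProduct.tmul_sum, sub_eq_zero]
    rw [← algebraMap_smul T (a ^ k) ((1 : T) ⊗ₜ[A] x), ← ht, Finset.smul_sum]
    apply Finset.sum_congr rfl
    intro i _
    rw [TensorProduct.tmul_smul, ← algebraMap_smul T (y i) ((1 : T) ⊗ₜ[A] m i), hy i, mul_smul]
  have h2 := (IsLocalizedModule.eq_zero_iff (Submonoid.powers a)
    (TensorProduct.mk A T M 1)).mp h1
  obtain ⟨⟨_, k', rfl⟩, hk'⟩ := h2
  refine ⟨k' + k, fun N' hN' => ?_⟩
  obtain ⟨d, rfl⟩ := Nat.exists_eq_add_of_le hN'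
  have h3 : a ^ k' • (a ^ k • x) = a ^ k' • ∑ i, y i • m i := by
    have : a ^ k' • (a ^ k • x - ∑ i, y i • m i) = 0 := hk'
    rwa [smul_sub, sub_eq_zero] at this
  have h4 : a ^ (k' + k + d) • x = a ^ d • (a ^ k' • (a ^ k • x)) := by
    rw [smul_smul, smul_smul, ← pow_add, ← pow_add]
    congr 2
    omega
  rw [h4, h3]
  refine Submodule.smul_mem _ _ (Submodule.smul_mem _ _ (Submodule.sum_mem _ fun i _ => ?_))
  exact Submodule.smul_mem _ _ (Submodule.subset_span ⟨i, rfl⟩)

section KT

variable {R A : Type u} [CommRing R] [CommRing A] [Algebra R A]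
variable (MP : Smoothing.MarkedPresentation R A)

theorem killsTail_of_smul_mem (a₀ : A)
    (h : ∀ j : Fin MP.m, MP.c ≤ (j : ℕ) → a₀ • rho MP j ∈
      Submodule.span A (Set.range fun i : Fin MP.c => rho MP (Fin.castLE MP.hcm i))) :
    Smoothing.KillsTail MP a₀ := by
  intro a' ha' j hj
  obtain ⟨cf, hcf⟩ := (Submodule.mem_span_range_iff_exists_fun A).mp (h j hj)
  have hl : ∀ i, ∃ p : MvPolynomial (Fin MP.n) R, MP.hom p = cf i := fun i => MP.surj (cf i)
  choose ct hct using hl
  let a'' : (gens MP).toExtension.Ring := a'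
  let ct' : Fin MP.c → (gens MP).toExtension.Ring := ct
  let w : (gens MP).toExtension.ker :=
    a'' • ⟨MP.rel j, rel_mem MP j⟩ - ∑ i, ct' i • ⟨MP.rel (Fin.castLE MP.hcm i), rel_mem MP _⟩
  have hw0 : Algebra.Extension.Cotangent.mk (P := (gens MP).toExtension) w = 0 := by
    simp only [w, map_sub, map_sum, map_smul]
    rw [sub_eq_zero]
    have e1 : a'' • Algebra.Extension.Cotangent.mk (P := (gens MP).toExtension)
        ⟨MP.rel j, rel_mem MP j⟩ = a₀ • rho MP j := by
      rw [← algebraMap_smul A a'', algebraMap_gens, ha']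
      rfl
    rw [e1, ← hcf]
    apply Finset.sum_congr rfl
    intro i _
    have e2 : ct' i • Algebra.Extension.Cotangent.mk (P := (gens MP).toExtension)
        ⟨MP.rel (Fin.castLE MP.hcm i), rel_mem MP _⟩ = cf i • rho MP (Fin.castLE MP.hcm i) := by
      rw [← algebraMap_smul A (ct' i), algebraMap_gens, hct i]
      rfl
    rw [e2]
  have hw2 : (w : (gens MP).toExtension.Ring) ∈ (gens MP).toExtension.ker ^ 2 :=
    (Algebra.Extension.Cotangent.mk_eq_zero_iff w).mp hw0
  have hw3 : ∀ z : (gens MP).toExtension.Ring, z ∈ (gens MP).toExtension.ker ^ 2 →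
      z ∈ (Ideal.span (Set.range (MP.rel : Fin MP.m → (gens MP).toExtension.Ring)) :
        Ideal (gens MP).toExtension.Ring) ^ 2 := by
    intro z hz
    rwa [ker_gens] at hz
  have hw2 := hw3 _ hw2
  have hwval : (w : (gens MP).toExtension.Ring) =
      a' * MP.rel j - ∑ i, ct i * MP.rel (Fin.castLE MP.hcm i) := by
    simp only [w, Submodule.coe_sub, Submodule.coe_smul, Submodule.coe_sum, smul_eq_mul]
    rfl
  have hfin : a' * MP.rel j = (∑ i, ct i * MP.rel (Fin.castLE MP.hcm i)) +
      (a' * MP.rel j - ∑ i, ct i * MP.rel (Fin.castLE MP.hcm i)) := by ring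
  rw [hfin]
  refine Ideal.add_mem _ (Ideal.mem_sup_left ?_) (Ideal.mem_sup_right ?_)
  · refine Ideal.sum_mem _ fun i _ => Ideal.mul_mem_left _ _ (Ideal.subset_span ?_)
    exact ⟨Fin.castLE MP.hcm i, by simp, rfl⟩
  · rw [← hwval]
    exact hw2

end KT

section Minors

variable {R A : Type u} [CommRing R] [CommRing A] [Algebra R A]
variable (MP : Smoothing.MarkedPresentation R A)
variable (a : A) (T : Type u) [CommRing T] [Algebra A T] [Algebra R T] [IsScalarTower R A T]
  [IsLocalization.Away a T]

theorem det_jac (cols : Fin MP.c → Fin MP.n) :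
    (Matrix.of fun k j => jac MP T (cols k) j).det =
      algebraMap A T (MP.hom (Smoothing.jacobianMinor MP.rel (Fin.castLE MP.hcm) cols)) := by
  rw [Smoothing.jacobianMinor]
  have h1 := RingHom.map_det ((algebraMap A T).comp MP.hom.toRingHom)
    (Matrix.of fun j k : Fin MP.c => pderiv (cols k) (MP.rel (Fin.castLE MP.hcm j)))
  change algebraMap A T (MP.hom _) = _ at h1
  rw [h1, ← Matrix.det_transpose]
  congr 1

/-- if the leading Jacobian has a left inverse over `T = A_a`, a power of `a` lies in the ideal of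
leading minors -/
theorem exists_pow_mem_span_minors (L : (Fin MP.n → T) →ₗ[T] (Fin MP.c → T))
    (hL : ∀ w, L ((jac MP T).mulVec w) = w) :
    ∃ N : ℕ, ∀ N' : ℕ, N ≤ N' → a ^ N' ∈ Ideal.span (Set.range fun cols : Fin MP.c → Fin MP.n =>
      MP.hom (Smoothing.jacobianMinor MP.rel (Fin.castLE MP.hcm) cols)) := by
  classical
  have hmat : LinearMap.toMatrix' L * jac MP T = 1 := by
    apply Matrix.toLin'.injective
    rw [Matrix.toLin'_mul, Matrix.toLin'_toMatrix', Matrix.toLin'_one]
    apply LinearMap.ext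
    intro w
    simp only [LinearMap.comp_apply, Matrix.toLin'_apply, LinearMap.id_apply]
    exact hL w
  have htop := span_minors_eq_top (jac MP T) (LinearMap.toMatrix' L) hmat
  have h1 : (1 : T) ∈ Ideal.span (Set.range fun cols : Fin MP.c → Fin MP.n =>
      (Matrix.of fun k j => jac MP T (cols k) j).det) := by rw [htop]; trivial
  obtain ⟨t, ht⟩ := Ideal.mem_span_range_iff_exists_fun.mp h1
  obtain ⟨b, hb⟩ := IsLocalization.exist_integer_multiples (Submonoid.powers a)
    (Finset.univ : Finset (Fin MP.c → Fin MP.n)) t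
  obtain ⟨k, hk⟩ := b.2
  have hk : a ^ k = (b : A) := hk
  have hb' : ∀ cols, ∃ y : A, algebraMap A T y = algebraMap A T (a ^ k) * t cols := by
    intro cols
    obtain ⟨y, hy⟩ := hb cols (Finset.mem_univ cols)
    refine ⟨y, ?_⟩
    rw [hy, hk, Algebra.smul_def]
  choose y hy using hb'
  have h2 : algebraMap A T (a ^ k) = algebraMap A T (∑ cols, y cols *
      MP.hom (Smoothing.jacobianMinor MP.rel (Fin.castLE MP.hcm) cols)) := by
    rw [map_sum]
    have : algebraMap A T (a ^ k) = algebraMap A T (a ^ k) * 1 := by rw [mul_one]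
    rw [this, ← ht, Finset.mul_sum]
    apply Finset.sum_congr rfl
    intro cols _
    rw [map_mul, hy, det_jac, mul_assoc]
  obtain ⟨⟨_, k', rfl⟩, hk'⟩ := (IsLocalization.eq_iff_exists (Submonoid.powers a) T).mp h2
  refine ⟨k' + k, fun N' hN' => ?_⟩
  obtain ⟨d, rfl⟩ := Nat.exists_eq_add_of_le hN'
  have h3 : a ^ (k' + k + d) = a ^ d * (a ^ k' * ∑ cols, y cols *
      MP.hom (Smoothing.jacobianMinor MP.rel (Fin.castLE MP.hcm) cols)) := by
    have hk'' : a ^ k' * a ^ k = a ^ k' * ∑ cols, y cols *
      MP.hom (Smoothing.jacobianMinor MP.rel (Fin.castLE MP.hcm) cols) := hk'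
    rw [← hk'']
    ring
  rw [h3]
  refine Ideal.mul_mem_left _ _ (Ideal.mul_mem_left _ _ (Ideal.sum_mem _ fun cols _ => ?_))
  exact Ideal.mul_mem_left _ _ (Ideal.subset_span ⟨cols, rfl⟩)

end Minors

section Asm

variable {R A : Type u} [CommRing R] [CommRing A] [Algebra R A]

/-- the key statement: if for a marked presentation the leading relations give a basis of
`T ⊗ I/I²` (`T = A_a` formally smooth), then large powers of `a` are strictly standard -/
theorem exists_pow_of_basis (MP : Smoothing.MarkedPresentation R A)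
    (a : A) (T : Type u) [CommRing T] [Algebra A T] [Algebra R T] [IsScalarTower R A T]
    [IsLocalization.Away a T] [Algebra.FormallySmooth R T]
    (hbij : Function.Bijective (phi MP T)) :
    ∃ e₀ : ℕ, ∀ N : ℕ, e₀ ≤ N → Smoothing.IsStrictlyStandard R A (a ^ N) := by
  classical
  -- a retraction of the cotangent complex
  have hinj := baseChange_cotangentComplex_injective (T := T) (gens MP) a
  have hex : Function.Exact ((gens MP).toExtension.cotangentComplex.baseChange T)
      ((gens MP).toExtension.toKaehler.baseChange T) := by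
    have := lTensor_exact T (gens MP).toExtension.exact_cotangentComplex_toKaehler
      (gens MP).toExtension.toKaehler_surjective
    rwa [← LinearMap.baseChange_eq_ltensor, ← LinearMap.baseChange_eq_ltensor] at this
  have hsurjK : Function.Surjective ((gens MP).toExtension.toKaehler.baseChange T) := by
    have := LinearMap.lTensor_surjective T (gens MP).toExtension.toKaehler_surjective
    rwa [← LinearMap.baseChange_eq_ltensor] at this
  haveI : Algebra.FormallyEtale A T := Algebra.FormallyEtale.of_isLocalization (Submonoid.powers a)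
  haveI : Module.Projective T (T ⊗[A] Ω[A⁄R]) :=
    Module.Projective.of_equiv (KaehlerDifferential.tensorKaehlerEquivOfFormallyEtale R A T).symm
  obtain ⟨σ, hσ⟩ := Module.projective_lifting_property
    ((gens MP).toExtension.toKaehler.baseChange T) LinearMap.id hsurjK
  obtain ⟨r, hr⟩ := ((hex.split_tfae'.out 0 1 rfl rfl).mp ⟨hinj, σ, hσ⟩).2
  let eφ : (Fin MP.c → T) ≃ₗ[T] T ⊗[A] (gens MP).toExtension.Cotangent :=
    LinearEquiv.ofBijective (phi MP T) hbij
  let L : (Fin MP.n → T) →ₗ[T] (Fin MP.c → T) :=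
    eφ.symm.toLinearMap ∘ₗ r ∘ₗ (bT MP T).equivFun.symm.toLinearMap
  have hL : ∀ w, L ((jac MP T).mulVec w) = w := by
    intro w
    simp only [L, LinearMap.comp_apply, LinearEquiv.coe_coe]
    rw [← equivFun_cc_phi, LinearEquiv.symm_apply_apply]
    have : r ((gens MP).toExtension.cotangentComplex.baseChange T (phi MP T w)) = phi MP T w :=
      congrArg (fun f => f (phi MP T w)) hr
    rw [this]
    exact eφ.symm_apply_apply w
  obtain ⟨N₁, hN₁⟩ := exists_pow_mem_span_minors MP a T L hL
  -- the tail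
  have hspanT : Submodule.span T (Set.range fun i : Fin MP.c =>
      (1 : T) ⊗ₜ[A] rho MP (Fin.castLE MP.hcm i)) = ⊤ := by
    rw [eq_top_iff]
    rintro x -
    obtain ⟨w, rfl⟩ := hbij.2 x
    simp only [phi, Fintype.linearCombination_apply]
    exact Submodule.sum_mem _ fun i _ => Submodule.smul_mem _ _ (Submodule.subset_span ⟨i, rfl⟩)
  have htail := fun j : Fin MP.m => exists_pow_smul_mem_span a
    (fun i : Fin MP.c => rho MP (Fin.castLE MP.hcm i)) hspanT (rho MP j)
  choose Nj hNj using htail
  refine ⟨N₁ + ∑ j, Nj j, fun N hN => ⟨MP, hN₁ N (by omega), ?_⟩⟩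
  apply killsTail_of_smul_mem
  intro j _
  apply hNj j N
  have : Nj j ≤ ∑ j, Nj j := Finset.single_le_sum (fun _ _ => Nat.zero_le _) (Finset.mem_univ j)
  omega

theorem exists_marked_of_equiv {n : ℕ} (hom : MvPolynomial (Fin n) R →ₐ[R] A)
    (hsurj : Function.Surjective hom) (hfg : (RingHom.ker hom.toRingHom).FG)
    (a : A) (T : Type u) [CommRing T] [Algebra A T] [Algebra R T] [IsScalarTower R A T]
    [IsLocalization.Away a T] (c : ℕ) (hcn : c ≤ n)
    (e : (T ⊗[A] (Algebra.Generators.ofAlgHom hom hsurj).toExtension.Cotangent) ≃ₗ[T]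
      (Fin c → T)) :
    ∃ MP : Smoothing.MarkedPresentation R A, Function.Bijective (phi MP T) := by
  classical
  obtain ⟨m', h, hh⟩ := Submodule.fg_iff_exists_fin_generating_family.mp hfg
  -- an auxiliary marked presentation giving access to the API
  let MP₀ : Smoothing.MarkedPresentation R A :=
    { n := n, m := m', c := 0, hcn := Nat.zero_le _, hcm := Nat.zero_le _, rel := h, hom := hom,
      surj := hsurj, ker_eq := hh.symm }
  let b : Module.Basis (Fin c) T (T ⊗[A] (gens MP₀).toExtension.Cotangent) :=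
    Module.Basis.ofEquivFun e
  have hloc : ∀ i, ∃ (k : ℕ) (x : (gens MP₀).toExtension.Cotangent),
      algebraMap A T (a ^ k) • b i = (1 : T) ⊗ₜ[A] x := by
    intro i
    obtain ⟨⟨x, ⟨_, k, rfl⟩⟩, hx⟩ := IsLocalizedModule.surj (Submonoid.powers a)
      (TensorProduct.mk A T (gens MP₀).toExtension.Cotangent 1) (b i)
    refine ⟨k, x, ?_⟩
    rw [algebraMap_smul]
    exact hx
  choose k x hkx using hloc
  have hx : ∀ i, ∃ f : (gens MP₀).toExtension.ker,
      Algebra.Extension.Cotangent.mk (P := (gens MP₀).toExtension) f = x i :=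
    fun i => Algebra.Extension.Cotangent.mk_surjective (x i)
  choose f hf using hx
  let u : Fin c → Tˣ := fun i =>
    ((IsLocalization.Away.algebraMap_isUnit (S := T) a).pow (k i)).unit
  have hu : ∀ i, ((u i : Tˣ) : T) = algebraMap A T (a ^ k i) := fun i => by
    simp [u, map_pow]
  let b' := b.unitsSMul u
  have hb' : ∀ i, b' i = (1 : T) ⊗ₜ[A] Algebra.Extension.Cotangent.mk
      (P := (gens MP₀).toExtension) (f i) := by
    intro i
    rw [Module.Basis.unitsSMul_apply, hf, ← hkx, Units.smul_def, hu]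
  let fv : Fin c → MvPolynomial (Fin n) R := fun i => (f i).1
  have hfv : ∀ i, hom (fv i) = 0 := fun i => (mem_ker_gens MP₀ (f i).1).mp (f i).2
  let MP : Smoothing.MarkedPresentation R A :=
    { n := n, m := c + m', c := c, hcn := hcn, hcm := Nat.le_add_right _ _,
      rel := Fin.append fv h, hom := hom, surj := hsurj,
      ker_eq := by
        apply le_antisymm
        · rw [← hh]
          apply Ideal.span_mono
          rintro _ ⟨j, rfl⟩
          exact ⟨Fin.natAdd c j, Fin.append_right fv h j⟩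
        · rw [Ideal.span_le]
          rintro _ ⟨i, rfl⟩
          induction i using Fin.addCases with
          | left i => rw [Fin.append_left]; exact hfv i
          | right j =>
            rw [Fin.append_right, ← hh]
            exact Ideal.subset_span ⟨j, rfl⟩ }
  refine ⟨MP, ?_⟩
  have hrho : ∀ i : Fin c, rho MP (Fin.castLE MP.hcm i) =
      Algebra.Extension.Cotangent.mk (P := (gens MP₀).toExtension) (f i) := by
    intro i
    unfold rho
    congr 1
    apply Subtype.ext
    change Fin.append fv h (Fin.castAdd m' i) = fv i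
    exact Fin.append_left fv h i
  have hphi : ∀ w, phi MP T w = b'.equivFun.symm w := by
    intro w
    rw [Module.Basis.equivFun_symm_apply]
    simp only [phi, Fintype.linearCombination_apply]
    apply Finset.sum_congr rfl
    intro i _
    rw [hrho, hb']
    rfl
  have : (phi MP T : (Fin c → T) → _) = b'.equivFun.symm := funext hphi
  rw [this]
  exact b'.equivFun.symm.bijective

theorem isStrictlyStandard_zero [Algebra.FinitePresentation R A] :
    Smoothing.IsStrictlyStandard R A (0 : A) := by
  obtain ⟨n, f, hf, hfg⟩ := Algebra.FinitePresentation.out (R := R) (A := A)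
  obtain ⟨m', h, hh⟩ := Submodule.fg_iff_exists_fin_generating_family.mp hfg
  let MP₀ : Smoothing.MarkedPresentation R A :=
    { n := n, m := m', c := 0, hcn := Nat.zero_le _, hcm := Nat.zero_le _, rel := h, hom := f,
      surj := hf, ker_eq := hh.symm }
  refine ⟨MP₀, Ideal.zero_mem _, ?_⟩
  intro a' ha' j _
  refine Ideal.mem_sup_right ?_
  rw [pow_two]
  refine Ideal.mul_mem_mul ?_ (Ideal.subset_span ⟨j, rfl⟩)
  change a' ∈ Ideal.span (Set.range h)
  rw [Ideal.span, hh]
  exact ha'

theorem main [Algebra.FinitePresentation R A] (a : A) [Algebra.Smooth R (Localization.Away a)]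
    (p q : ℕ) (ε : (Ω[Localization.Away a⁄R] × (Fin p → Localization.Away a))
      ≃ₗ[Localization.Away a] (Fin q → Localization.Away a)) :
    ∃ e₀ : ℕ, ∀ n : ℕ, e₀ ≤ n → Smoothing.IsStrictlyStandard R A (a ^ n) := by
  classical
  by_cases hT : Subsingleton (Localization.Away a)
  · -- `a` is nilpotent
    have h1 : algebraMap A (Localization.Away a) 1 = algebraMap A (Localization.Away a) 0 :=
      Subsingleton.elim _ _
    obtain ⟨⟨_, k, rfl⟩, hk⟩ := (IsLocalization.eq_iff_exists (Submonoid.powers a) _).mp h1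
    refine ⟨k, fun n hn => ?_⟩
    obtain ⟨d, rfl⟩ := Nat.exists_eq_add_of_le hn
    have : a ^ (k + d) = 0 := by
      have hk' : a ^ k * 1 = a ^ k * 0 := hk
      rw [pow_add]
      rw [mul_one, mul_zero] at hk'
      rw [hk', zero_mul]
    rw [this]
    exact isStrictlyStandard_zero
  · haveI : Nontrivial (Localization.Away a) := not_subsingleton_iff_nontrivial.mp hT
    have hpq : p ≤ q := by
      have := card_le_of_injective (Localization.Away a)
        (ε.toLinearMap ∘ₗ LinearMap.inr (Localization.Away a) Ω[Localization.Away a⁄R]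
          (Fin p → Localization.Away a))
        (ε.injective.comp LinearMap.inr_injective)
      simpa using this
    obtain ⟨n₀, f₀, hf₀, -⟩ := Algebra.FinitePresentation.out (R := R) (A := A)
    let hom₁ : MvPolynomial (Fin (n₀ + q)) R →ₐ[R] A :=
      aeval (Fin.append (fun i => f₀ (X i)) (fun _ : Fin q => (0 : A)))
    have hsurj₁ : Function.Surjective hom₁ := by
      intro y
      obtain ⟨P, rfl⟩ := hf₀ y
      refine ⟨rename (Fin.castAdd q) P, ?_⟩
      simp only [hom₁, aeval_rename]
      have : (Fin.append (fun i => f₀ (X i)) (fun _ : Fin q => (0 : A))) ∘ Fin.castAdd q =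
          fun i => f₀ (X i) := by
        funext i
        simp [Fin.append_left]
      rw [this]
      have h2 : aeval (fun i => f₀ (X i)) = f₀ := by
        apply MvPolynomial.algHom_ext
        intro i
        simp
      rw [h2]
    have hfg₁ : (RingHom.ker hom₁.toRingHom).FG :=
      Algebra.FinitePresentation.ker_fG_of_surjective hom₁ hsurj₁
    have hval : ∀ l : Fin q, (Algebra.Generators.ofAlgHom hom₁ hsurj₁).val (Fin.natAdd n₀ l) = 0 := by
      intro l
      simp [Algebra.Generators.ofAlgHom, Algebra.Generators.ofSurjective, hom₁, Fin.append_right]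
    haveI : Algebra.FormallySmooth R (Localization.Away a) :=
      (inferInstance : Algebra.Smooth R (Localization.Away a)).1
    obtain ⟨e⟩ := nonempty_cotangent_equiv (T := Localization.Away a)
      (Algebra.Generators.ofAlgHom hom₁ hsurj₁) hval a ε
    let e' : (Localization.Away a ⊗[A]
        (Algebra.Generators.ofAlgHom hom₁ hsurj₁).toExtension.Cotangent) ≃ₗ[Localization.Away a]
        (Fin (n₀ + p) → Localization.Away a) :=
      (e.trans (LinearEquiv.sumArrowLequivProdArrow (Fin n₀) (Fin p) (Localization.Away a)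
        (Localization.Away a)).symm).trans
        (LinearEquiv.funCongrLeft (Localization.Away a) (Localization.Away a) finSumFinEquiv.symm)
    obtain ⟨MP, hbij⟩ := exists_marked_of_equiv hom₁ hsurj₁ hfg₁ a (Localization.Away a)
      (n₀ + p) (by omega) e'
    exact exists_pow_of_basis MP a (Localization.Away a) hbij

end Asm

end Groth.Agent.Lib.T2H8.StrictStdConv
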