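import Mathlib
import Groth.Agent.Lib.T2H8DimZero
import Groth.Agent.Lib.T2H8SymKaehler
import Groth.Agent.S2031

/-!
Helper library for S6823: the algebra `B = A'[z_ij]/(ξ_i - ∑ z_ij α_j)` (`BB`), smoothness of its
localizations at `α_j` and at roots of `ξ_i` (`smooth_alpha`, `smooth_root`), smoothness and
strict standardness for `C = Sym_B(I/I² ⊕ B)` (`formallySmooth_away`, `exists_strictlyStandard`),
and the packaged construction `exists_C` over `k[x_1..x_d]`.
-/

set_option autoImplicit false
universe u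

namespace Groth.Agent.Lib.T2H8.SepC

open MvPolynomial Groth.Agent.Lib.T2H8.DimZero

section Constr

variable {A' : Type u} [CommRing A'] {d r : ℕ} (ξ : Fin d → A') (α : Fin r → A')

/-- the relations `ξ_i - ∑ z_ij α_j` -/
noncomputable def rel (i : Fin d) : MvPolynomial (Fin d × Fin r) A' :=
  C (ξ i) - ∑ j, X (i, j) * C (α j)

/-- the algebra `A'[z_ij]/(ξ_i - ∑ z_ij α_j)` -/
abbrev BB : Type u := MvPolynomial (Fin d × Fin r) A' ⧸ Ideal.span (Set.range (rel ξ α))

theorem finitePresentation_BB : Algebra.FinitePresentation A' (BB ξ α) :=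
  Algebra.FinitePresentation.quotient (Submodule.fg_span (Set.finite_range _))

/-- the generators of `BB` -/
noncomputable def gen (w : Fin d × Fin r) : BB ξ α := Ideal.Quotient.mk _ (X w)

theorem gen_rel (i : Fin d) :
    algebraMap A' (BB ξ α) (ξ i) = ∑ j, gen ξ α (i, j) * algebraMap A' (BB ξ α) (α j) := by
  have h1 : rel ξ α i ∈ Ideal.span (Set.range (rel ξ α)) := Ideal.subset_span ⟨_, rfl⟩
  have h2 := Ideal.Quotient.eq_zero_iff_mem.mpr h1
  have h3 : rel ξ α i = C (ξ i) - ∑ j, X (i, j) * C (α j) := rfl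
  rw [h3, map_sub, map_sum, sub_eq_zero] at h2
  refine Eq.trans ?_ (h2.trans ?_)
  · rfl
  · refine Finset.sum_congr rfl fun j _ => ?_
    rw [map_mul]
    rfl

variable {D : Type*} [CommRing D] [Algebra A' D]

/-- maps out of `BB` -/
noncomputable def liftB (v : Fin d × Fin r → D)
    (h : ∀ i, algebraMap A' D (ξ i) = ∑ j, v (i, j) * algebraMap A' D (α j)) :
    BB ξ α →ₐ[A'] D :=
  Ideal.Quotient.liftₐ _ (aeval v) (by
    intro a ha
    have hle : Ideal.span (Set.range (rel ξ α)) ≤ RingHom.ker (aeval (R := A') v).toRingHom := by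
      rw [Ideal.span_le]
      rintro _ ⟨i, rfl⟩
      show aeval v (C (ξ i) - ∑ j, X (i, j) * C (α j)) = 0
      rw [map_sub, map_sum, sub_eq_zero, aeval_C]
      simp only [map_mul, aeval_X, aeval_C]
      exact h i
    exact hle ha)

theorem liftB_gen (v : Fin d × Fin r → D)
    (h : ∀ i, algebraMap A' D (ξ i) = ∑ j, v (i, j) * algebraMap A' D (α j))
    (w : Fin d × Fin r) : liftB ξ α v h (gen ξ α w) = v w := by
  show (Ideal.Quotient.liftₐ _ _ _) (Ideal.Quotient.mk _ (X w)) = _
  rw [Ideal.Quotient.liftₐ_apply, Ideal.Quotient.lift_mk]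
  simp

/-- ring homs out of `BB` are determined on `A'` and the generators -/
theorem ringHom_ext_BB {D' : Type*} [CommRing D'] (φ₁ φ₂ : BB ξ α →+* D')
    (hA : ∀ a : A', φ₁ (algebraMap A' _ a) = φ₂ (algebraMap A' _ a))
    (hg : ∀ w, φ₁ (gen ξ α w) = φ₂ (gen ξ α w)) : φ₁ = φ₂ := by
  apply Ideal.Quotient.ringHom_ext
  apply MvPolynomial.ringHom_ext
  · intro a
    exact hA a
  · intro w
    exact hg w


section Smooth

variable {R : Type u} [CommRing R] [Algebra R A'] (j₀ : Fin r)

theorem smooth_alpha [Algebra.FormallySmooth R (Localization.Away (α j₀))] :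
    Algebra.FormallySmooth R (Localization.Away (algebraMap A' (BB ξ α) (α j₀))) := by
  classical
  let Aα := Localization.Away (α j₀)
  let P := MvPolynomial (Fin d × Fin r) Aα
  haveI : Algebra.FormallySmooth R P := Algebra.FormallySmooth.comp R Aα P
  have hαu : IsUnit (algebraMap A' Aα (α j₀)) := IsLocalization.Away.algebraMap_isUnit _
  obtain ⟨u, hu⟩ := hαu.exists_right_inv
  let cA : A' → P := fun x => C (algebraMap A' Aα x)
  have hcA : ∀ x : A', algebraMap A' P x = cA x := fun x => by
    rw [IsScalarTower.algebraMap_apply A' Aα P, MvPolynomial.algebraMap_eq]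
  let v : Fin d × Fin r → P := fun w => if w.2 = j₀ then
      C u * (cA (ξ w.1) - ∑ j' ∈ Finset.univ.erase j₀, X (w.1, j') * cA (α j')) else X w
  have h1 : ∀ i, algebraMap A' P (ξ i) = ∑ j, v (i, j) * algebraMap A' P (α j) := by
    intro i
    simp only [hcA]
    show cA (ξ i) = ∑ j, (if j = j₀ then
      C u * (cA (ξ i) - ∑ j' ∈ Finset.univ.erase j₀, X (i, j') * cA (α j')) else X (i, j)) * cA (α j)
    rw [← Finset.add_sum_erase Finset.univ _ (Finset.mem_univ j₀), if_pos rfl]
    have h3 : ∑ j ∈ Finset.univ.erase j₀, (if j = j₀ then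
        C u * (cA (ξ i) - ∑ j' ∈ Finset.univ.erase j₀, X (i, j') * cA (α j')) else X (i, j)) *
          cA (α j) = ∑ j' ∈ Finset.univ.erase j₀, X (i, j') * cA (α j') :=
      Finset.sum_congr rfl fun j hj => by rw [if_neg (Finset.ne_of_mem_erase hj)]
    have h4 : C u * cA (α j₀) = (1 : P) := by
      show C u * C (algebraMap A' Aα (α j₀)) = 1
      rw [← C_mul, mul_comm, hu, C_1]
    rw [h3, mul_right_comm, h4, one_mul]
    ring
  let ι₀ : BB ξ α →ₐ[A'] P := liftB ξ α v h1
  have hι₀ : ∀ w, ι₀ (gen ξ α w) = v w := fun w => liftB_gen ξ α v h1 w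
  set b : BB ξ α := algebraMap A' (BB ξ α) (α j₀) with hb
  have hbu : IsUnit (algebraMap (BB ξ α) (Localization.Away b) b) :=
    IsLocalization.Away.algebraMap_isUnit b
  have hau : IsUnit (algebraMap A' (Localization.Away b) (α j₀)) := by
    rw [IsScalarTower.algebraMap_apply A' (BB ξ α) (Localization.Away b)]
    exact hbu
  let κ : Aα →+* Localization.Away b :=
    IsLocalization.Away.lift (g := algebraMap A' (Localization.Away b)) (α j₀) hau
  have hκ : ∀ x : A', κ (algebraMap A' _ x) = algebraMap A' (Localization.Away b) x :=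
    fun x => IsLocalization.Away.lift_eq (α j₀) hau x
  let G : Fin d × Fin r → Localization.Away b := fun w => algebraMap (BB ξ α) _ (gen ξ α w)
  let ρ₀ : P →+* Localization.Away b := eval₂Hom κ G
  have hρ₀X : ∀ w, ρ₀ (X w) = G w := fun w => eval₂_X _ _ _
  have hρ₀c : ∀ x : A', ρ₀ (cA x) = algebraMap A' (Localization.Away b) x := by
    intro x
    show eval₂ κ G (C _) = _
    rw [eval₂_C, hκ]
  have hρ₀u : algebraMap A' (Localization.Away b) (α j₀) * ρ₀ (C u) = 1 := by
    rw [← hρ₀c, ← map_mul]
    show ρ₀ (C (algebraMap A' Aα (α j₀)) * C u) = 1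
    rw [← C_mul, hu, C_1, map_one]
  have hrel : ∀ i, algebraMap A' (Localization.Away b) (ξ i) =
      ∑ j, G (i, j) * algebraMap A' (Localization.Away b) (α j) := by
    intro i
    rw [IsScalarTower.algebraMap_apply A' (BB ξ α) (Localization.Away b), gen_rel, map_sum]
    refine Finset.sum_congr rfl fun j _ => ?_
    rw [map_mul, ← IsScalarTower.algebraMap_apply]
  have hρ : ∀ x, ρ₀ (ι₀ x) = algebraMap (BB ξ α) (Localization.Away b) x := by
    have h3 : ρ₀.comp ι₀.toRingHom = algebraMap (BB ξ α) (Localization.Away b) := by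
      apply ringHom_ext_BB
      · intro x
        show ρ₀ (ι₀ (algebraMap A' _ x)) = algebraMap (BB ξ α) _ (algebraMap A' _ x)
        rw [ι₀.commutes, hcA, hρ₀c, ← IsScalarTower.algebraMap_apply]
      · rintro ⟨i, j⟩
        show ρ₀ (ι₀ (gen ξ α (i, j))) = G (i, j)
        rw [hι₀]
        show ρ₀ (if j = j₀ then
          C u * (cA (ξ i) - ∑ j' ∈ Finset.univ.erase j₀, X (i, j') * cA (α j')) else X (i, j)) = _
        by_cases hj : j = j₀
        · subst hj
          rw [if_pos rfl, map_mul, map_sub, hρ₀c, hrel, map_sum,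
            ← Finset.add_sum_erase Finset.univ _ (Finset.mem_univ j)]
          have h4 : ∑ x ∈ Finset.univ.erase j, ρ₀ (X (i, x) * cA (α x)) =
              ∑ x ∈ Finset.univ.erase j, G (i, x) * algebraMap A' (Localization.Away b) (α x) :=
            Finset.sum_congr rfl fun x _ => by rw [map_mul, hρ₀X, hρ₀c]
          rw [h4, add_sub_cancel_right, mul_comm (ρ₀ (C u)), mul_assoc, hρ₀u, mul_one]
        · rw [if_neg hj]
          exact hρ₀X _
    intro x
    exact RingHom.congr_fun h3 x
  have hunit : IsUnit ((ι₀.restrictScalars R) b) := by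
    show IsUnit (ι₀ b)
    rw [hb, ι₀.commutes, IsScalarTower.algebraMap_apply A' Aα P]
    exact hαu.map _
  exact formallySmooth_away_of_retract (R := R) b (ι₀.restrictScalars R) hunit ρ₀ hρ


theorem smooth_root [Algebra.FinitePresentation R (BB ξ α)]
    (hα : ∀ j, Algebra.FormallySmooth R (Localization.Away (α j)))
    (i : Fin d) (x : A') (n : ℕ) (hx : x ^ n = ξ i) :
    Algebra.FormallySmooth R (Localization.Away (algebraMap A' (BB ξ α) x)) := by
  rw [← Algebra.basicOpen_subset_smoothLocus_iff]
  intro P hP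
  have hxP : algebraMap A' (BB ξ α) x ∉ P.asIdeal := hP
  have hex : ∃ j, algebraMap A' (BB ξ α) (α j) ∉ P.asIdeal := by
    by_contra hcon
    push_neg at hcon
    apply hxP
    have h1 : algebraMap A' (BB ξ α) (ξ i) ∈ P.asIdeal := by
      rw [gen_rel]
      exact Ideal.sum_mem _ fun j _ => Ideal.mul_mem_left _ _ (hcon j)
    rw [← hx, map_pow] at h1
    exact P.isPrime.mem_of_pow_mem n h1
  obtain ⟨j, hj⟩ := hex
  haveI := hα j
  have h2 := (Algebra.basicOpen_subset_smoothLocus_iff (R := R)
    (f := algebraMap A' (BB ξ α) (α j))).mpr (smooth_alpha ξ α j)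
  exact h2 hj

end Smooth

end Constr


section Sym

open TensorProduct Groth.Agent.Lib.T2H8.SymKaehler

variable {R A : Type u} [CommRing R] [CommRing A] [Algebra R A]
variable {ι : Type} (P : Algebra.Generators R A ι)

theorem formallySmooth_away_aux (a : A) {T : Type u} [CommRing T] [Algebra A T] [Algebra R T]
    [IsScalarTower R A T] [IsLocalization.Away a T] [Algebra.FormallySmooth R T] :
    Algebra.FormallySmooth R (Localization.Away (algebraMap A (CC P) a)) := by
  have hfree := free_tensor_cotangent_prod P a (T := T)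
  have hproj : Module.Projective T ((T ⊗[A] (P.toExtension.Cotangent × A)) × Ω[T⁄R]) :=
    inferInstance
  haveI hN : Module.Projective T (T ⊗[A] (P.toExtension.Cotangent × A)) :=
    Module.Projective.of_split (LinearMap.inl T _ Ω[T⁄R]) (LinearMap.fst T _ Ω[T⁄R])
      (by ext <;> simp)
  haveI : Algebra.FormallySmooth T (SymmetricAlgebra T (T ⊗[A] (P.toExtension.Cotangent × A))) :=
    Groth.Agent.Lib.Helper26.SymSmooth.formallySmooth
      (SymmetricAlgebra.isSymmetricAlgebra_ι (R := T) (M := T ⊗[A] (P.toExtension.Cotangent × A)))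
  haveI hS : Algebra.FormallySmooth R
      (SymmetricAlgebra T (T ⊗[A] (P.toExtension.Cotangent × A))) :=
    Algebra.FormallySmooth.comp R T _
  -- `S` is a localization of `C`
  let f : (P.toExtension.Cotangent × A) →ₗ[A] (T ⊗[A] (P.toExtension.Cotangent × A)) :=
    TensorProduct.mk A T _ 1
  letI algCS : Algebra (CC P) (SymmetricAlgebra T (T ⊗[A] (P.toExtension.Cotangent × A))) :=
    (Groth.Agent.Helper13SymLoc.symMapₐ (R' := T) f).toRingHom.toAlgebra
  haveI hloc : IsLocalization.Away (algebraMap A (CC P) a)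
      (SymmetricAlgebra T (T ⊗[A] (P.toExtension.Cotangent × A))) :=
    Groth.Agent.Helper13SymLoc.isLocalization_symMapₐ (R' := T) a f
  haveI : IsScalarTower R (CC P) (SymmetricAlgebra T (T ⊗[A] (P.toExtension.Cotangent × A))) := by
    refine IsScalarTower.of_algebraMap_eq (fun r => ?_)
    change algebraMap R (SymmetricAlgebra T (T ⊗[A] (P.toExtension.Cotangent × A))) r =
      Groth.Agent.Helper13SymLoc.symMapₐ (R' := T) f
        (algebraMap A (SymmetricAlgebra A (P.toExtension.Cotangent × A)) (algebraMap R A r))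
    rw [AlgHom.commutes, IsScalarTower.algebraMap_apply R T (SymmetricAlgebra T _),
      IsScalarTower.algebraMap_apply R A T,
      ← IsScalarTower.algebraMap_apply A T (SymmetricAlgebra T _)]
  let e : (SymmetricAlgebra T (T ⊗[A] (P.toExtension.Cotangent × A))) ≃ₐ[CC P]
      Localization.Away (algebraMap A (CC P) a) :=
    IsLocalization.algEquiv (Submonoid.powers (algebraMap A (CC P) a)) _ _
  exact Algebra.FormallySmooth.of_equiv (e.restrictScalars R)

theorem formallySmooth_away (a : A) [Algebra.FormallySmooth R (Localization.Away a)] :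
    Algebra.FormallySmooth R (Localization.Away (algebraMap A (CC P) a)) :=
  formallySmooth_away_aux P a (T := Localization.Away a)


theorem finitePresentation_CC [IsNoetherianRing R] [Algebra.FinitePresentation R A] [Finite ι] :
    Algebra.FinitePresentation R (CC P) := by
  haveI : Module.Finite A P.toExtension.Cotangent :=
    Algebra.Extension.Cotangent.finite P.fg_ker_of_finitePresentation
  haveI : Algebra.FiniteType A (CC P) :=
    Groth.Agent.Helper13SymLoc.finiteType_symmetricAlgebra (R := A)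
      (M := P.toExtension.Cotangent × A)
  haveI : Algebra.FiniteType R (CC P) := Algebra.FiniteType.trans (S := A) inferInstance inferInstance
  exact Algebra.FinitePresentation.of_finiteType.mp inferInstance

theorem exists_strictlyStandard [IsNoetherianRing R] [Algebra.FinitePresentation R A] [Finite ι]
    (b : A) [Algebra.FormallySmooth R (Localization.Away b)] :
    ∃ e₀ : ℕ, ∀ n : ℕ, e₀ ≤ n →
      Smoothing.IsStrictlyStandard R (CC P) (algebraMap A (CC P) b ^ n) := by
  haveI := finitePresentation_CC P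
  haveI : Algebra.Smooth R (Localization.Away b) := ⟨inferInstance, inferInstance⟩
  haveI hfs := formallySmooth_away P b
  haveI : Algebra.Smooth R (Localization.Away (algebraMap A (CC P) b)) :=
    ⟨inferInstance, inferInstance⟩
  haveI hfree := free_kaehler_away P b
  let Ca := Localization.Away (algebraMap A (CC P) b)
  haveI : Module.Finite Ca Ω[Ca⁄R] := inferInstance
  let bas := Module.Free.chooseBasis Ca Ω[Ca⁄R]
  let I := Module.Free.ChooseBasisIndex Ca Ω[Ca⁄R]
  let q := Fintype.card I
  let e1 : Ω[Ca⁄R] ≃ₗ[Ca] (I → Ca) := bas.equivFun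
  let e2 : (I → Ca) ≃ₗ[Ca] (Fin q → Ca) :=
    LinearEquiv.funCongrLeft Ca Ca (Fintype.equivFin I).symm
  let e3 : (Ω[Ca⁄R] × (Fin 0 → Ca)) ≃ₗ[Ca] Ω[Ca⁄R] := LinearEquiv.prodUnique
  exact Groth.Agent.S2031.result (R := R) (A := CC P) (algebraMap A (CC P) b) 0 q
    (e3.trans (e1.trans e2))

end Sym


section Main

open TensorProduct Groth.Agent.Lib.T2H8.SymKaehler

variable {k A : Type u} [Field k] [CommRing A] [Algebra k A] [Algebra.FinitePresentation k A]

theorem exists_C (d r n : ℕ) (a : Fin r → A) (ha : ∀ j, a j ∈ Smoothing.singularIdeal k A) :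
    ∃ (C : Type u) (_ : CommRing C) (_ : Algebra (MvPolynomial (Fin d) k) C) (gA : A →+* C),
      (∀ x : k, gA (algebraMap k A x) =
        algebraMap (MvPolynomial (Fin d) k) C (MvPolynomial.C x)) ∧
      Algebra.FinitePresentation (MvPolynomial (Fin d) k) C ∧
      (∃ c : ℕ, 0 < c ∧ ∀ i : Fin d, Smoothing.IsStrictlyStandard (MvPolynomial (Fin d) k) C
        (algebraMap (MvPolynomial (Fin d) k) C (X i ^ c))) ∧
      (∀ j, gA (a j) ∈ Smoothing.singularIdeal (MvPolynomial (Fin d) k) C) ∧
      ∀ (Λ : Type u) [CommRing Λ] [Algebra k Λ] [Algebra (MvPolynomial (Fin d) k) Λ]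
        [IsScalarTower k (MvPolynomial (Fin d) k) Λ] (φ : A →ₐ[k] Λ) (lam : Fin d → Fin r → Λ),
        (∀ i, algebraMap (MvPolynomial (Fin d) k) Λ (X i) ^ n = ∑ j, lam i j * φ (a j)) →
        ∃ ψ : C →ₐ[MvPolynomial (Fin d) k] Λ, ∀ x, ψ (gA x) = φ x := by
  classical
  let R := MvPolynomial (Fin d) k
  let A' := R ⊗[k] A
  let ξ : Fin d → A' := fun i => algebraMap R A' (X i ^ n)
  let α : Fin r → A' := fun j => (1 : R) ⊗ₜ[k] a j
  let B := BB ξ α
  haveI : Algebra.FinitePresentation R A' := inferInstance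
  haveI hBA' : Algebra.FinitePresentation A' B := finitePresentation_BB ξ α
  haveI : Algebra.FinitePresentation R B := Algebra.FinitePresentation.trans R A' B
  have hα : ∀ j, Algebra.FormallySmooth R (Localization.Away (α j)) := by
    intro j
    haveI := Groth.Agent.Lib.T2H8.DelocA.formallySmooth_away_of_mem (a j) (ha j)
    haveI : Algebra.FormallySmooth R (R ⊗[k] Localization.Away (a j)) := inferInstance
    exact Algebra.FormallySmooth.of_equiv
      (IsLocalization.Away.tensorProductEquivTMulRight k R (a j) (Localization.Away (a j)))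
  obtain ⟨m, f, hf, hker⟩ := Algebra.FinitePresentation.out (R := R) (A := B)
  let P : Algebra.Generators R B (Fin m) := Algebra.Generators.ofAlgHom f hf
  haveI hCfp : Algebra.FinitePresentation R (CC P) := finitePresentation_CC P
  let gA : A →+* CC P := (algebraMap B (CC P)).comp ((algebraMap A' B).comp
    (Algebra.TensorProduct.includeRight : A →ₐ[k] A').toRingHom)
  have hgA : ∀ x : A, gA x = algebraMap B (CC P) (algebraMap A' B ((1 : R) ⊗ₜ[k] x)) := fun x => rfl
  refine ⟨CC P, inferInstance, inferInstance, gA, ?_, hCfp, ?_, ?_, ?_⟩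
  · intro x
    rw [hgA]
    have h1 : ((1 : R) ⊗ₜ[k] algebraMap k A x : A') = algebraMap R A' (MvPolynomial.C x) := by
      rw [Algebra.TensorProduct.algebraMap_apply, Algebra.algebraMap_self, RingHom.id_apply,
        Algebra.algebraMap_eq_smul_one, TensorProduct.tmul_smul, TensorProduct.smul_tmul',
        MvPolynomial.smul_eq_C_mul, mul_one]
    rw [h1, ← IsScalarTower.algebraMap_apply R A' B, ← IsScalarTower.algebraMap_apply R B (CC P)]
  · have hsm : ∀ i : Fin d, Algebra.FormallySmooth R
        (Localization.Away (algebraMap A' B (algebraMap R A' (X i)))) := fun i =>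
      smooth_root ξ α hα i (algebraMap R A' (X i)) n (by rw [← map_pow])
    have hex : ∀ i : Fin d, ∃ e₀ : ℕ, ∀ n : ℕ, e₀ ≤ n → Smoothing.IsStrictlyStandard R (CC P)
        (algebraMap B (CC P) (algebraMap A' B (algebraMap R A' (X i))) ^ n) := fun i => by
      haveI := hsm i
      exact exists_strictlyStandard P _
    choose e₀ he₀ using hex
    refine ⟨1 + ∑ i, e₀ i, by omega, fun i => ?_⟩
    have h1 := he₀ i (1 + ∑ i, e₀ i)
      ((Finset.single_le_sum (fun _ _ => Nat.zero_le _) (Finset.mem_univ i)).trans (by omega))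
    rw [← IsScalarTower.algebraMap_apply R A' B, ← IsScalarTower.algebraMap_apply R B (CC P),
      ← map_pow] at h1
    exact h1
  · intro j
    rw [hgA]
    haveI := hα j
    haveI := smooth_alpha (R := R) ξ α j
    exact mem_singularIdeal_of_formallySmooth_away _ (formallySmooth_away P (algebraMap A' B (α j)))
  · intro Λ _ _ _ _ φ lam hlam
    let L : A' →ₐ[R] Λ := Algebra.TensorProduct.lift (Algebra.ofId R Λ) φ
      (fun _ _ => Commute.all _ _)
    letI algA'Λ : Algebra A' Λ := L.toRingHom.toAlgebra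
    have hL : ∀ x : A', algebraMap A' Λ x = L x := fun x => rfl
    haveI : IsScalarTower R A' Λ := IsScalarTower.of_algebraMap_eq (fun r => (L.commutes r).symm)
    have h : ∀ i, algebraMap A' Λ (ξ i) = ∑ j, lam i j * algebraMap A' Λ (α j) := by
      intro i
      show algebraMap A' Λ (algebraMap R A' (X i ^ n)) = _
      rw [← IsScalarTower.algebraMap_apply R A' Λ, map_pow, hlam i]
      refine Finset.sum_congr rfl fun j _ => ?_
      rw [hL]
      show _ = lam i j * L ((1 : R) ⊗ₜ[k] a j)
      rw [Algebra.TensorProduct.lift_tmul, map_one, one_mul]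
    let ψB : B →ₐ[A'] Λ := liftB ξ α (fun w => lam w.1 w.2) h
    let retr : CC P →ₐ[B] B := (SymmetricAlgebra.algebraMapInv :
      SymmetricAlgebra B (P.toExtension.Cotangent × B) →ₐ[B] B)
    refine ⟨(ψB.restrictScalars R).comp (retr.restrictScalars R), fun x => ?_⟩
    show ψB (retr (gA x)) = φ x
    rw [hgA, retr.commutes]
    show ψB (algebraMap A' B _) = _
    rw [ψB.commutes, hL, Algebra.TensorProduct.lift_tmul, map_one, one_mul]

end Main

end Groth.Agent.Lib.T2H8.SepC
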