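import Mathlib
import Groth.Prelude.Def_Smoothing

/-!
Helper library for S6823: a geometrically reduced field extension `K/k` is ind-smooth
(`indSmooth_of_geomReduced`), via Mac Lane's criterion (`linearIndepOn_pow`) and formal smoothness
of separably generated extensions.
-/

set_option autoImplicit false
universe u

namespace Groth.Agent.Lib.T2H8.SepA

open TensorProduct

/-- in a geometrically reduced extension of characteristic `p`, `p`-th powers of linearly
independent elements are linearly independent -/
theorem linearIndepOn_pow {k K : Type u} [Field k] [Field K] [Algebra k K]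
    [Algebra.IsGeometricallyReduced k K] (p : ℕ) [hp : Fact p.Prime] [CharP k p]
    (s : Finset K) (hs : LinearIndepOn k _root_.id (s : Set K)) :
    LinearIndepOn k (· ^ p) (s : Set K) := by
  classical
  let Ω := AlgebraicClosure k
  haveI : CharP Ω p := charP_of_injective_algebraMap (algebraMap k Ω).injective p
  haveI hred : IsReduced (Ω ⊗[k] K) := inferInstance
  haveI : Nontrivial (Ω ⊗[k] K) := inferInstance
  haveI : CharP (Ω ⊗[k] K) p :=
    charP_of_injective_algebraMap (algebraMap Ω (Ω ⊗[k] K)).injective p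
  rw [linearIndepOn_finset_iff]
  intro c hc i hi
  have hroot : ∀ x : K, ∃ b : Ω, b ^ p = algebraMap k Ω (c x) := fun x =>
    IsAlgClosed.exists_pow_nat_eq _ hp.out.pos
  choose b hb using hroot
  have hli : LinearIndependent Ω (fun x : (s : Set K) => (1 : Ω) ⊗ₜ[k] (x : K)) :=
    Module.Flat.linearIndependent_one_tmul (S := Ω) hs
  have ht : (∑ x ∈ s, b x ⊗ₜ[k] x : Ω ⊗[k] K) ^ p = 0 := by
    rw [sum_pow_char]
    have h1 : ∀ x ∈ s, (b x ⊗ₜ[k] x : Ω ⊗[k] K) ^ p = (1 : Ω) ⊗ₜ[k] (c x • x ^ p) := by
      intro x _
      rw [Algebra.TensorProduct.tmul_pow, hb, Algebra.algebraMap_eq_smul_one,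
        TensorProduct.smul_tmul]
    rw [Finset.sum_congr rfl h1, ← TensorProduct.tmul_sum, hc, TensorProduct.tmul_zero]
  have ht0 : (∑ x ∈ s, b x ⊗ₜ[k] x : Ω ⊗[k] K) = 0 := by
    exact pow_eq_zero_iff (hp.out.ne_zero) |>.mp ht
  have h2 : ∑ x ∈ s.attach, b x • ((1 : Ω) ⊗ₜ[k] (x : K)) = 0 := by
    rw [← ht0, ← Finset.sum_attach s]
    refine Finset.sum_congr rfl fun x _ => ?_
    rw [TensorProduct.smul_tmul', smul_eq_mul, mul_one]
  have h3 := (Fintype.linearIndependent_iff (v := fun x : (s : Set K) =>
    (1 : Ω) ⊗ₜ[k] (x : K))).mp hli (fun x => b x)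
  have h4 : b i = 0 := h3 (by rw [Finset.univ_eq_attach]; exact h2) ⟨i, hi⟩
  have h5 : algebraMap k Ω (c i) = 0 := by
    rw [← hb, h4, zero_pow hp.out.ne_zero]
  exact (map_eq_zero_iff _ (algebraMap k Ω).injective).mp h5


/-- a finitely generated geometrically reduced field extension is formally smooth -/
theorem formallySmooth_of_geomReduced {k L : Type u} [Field k] [Field L] [Algebra k L]
    [Algebra.EssFiniteType k L] [Algebra.IsGeometricallyReduced k L] :
    Algebra.FormallySmooth k L := by
  obtain _ | ⟨p, hp, hpk⟩ := CharP.exists' k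
  · exact Algebra.FormallySmooth.of_perfectField
  · haveI := hp
    obtain ⟨s, hs, H⟩ :=
      exists_isTranscendenceBasis_and_isSeparable_of_linearIndepOn_pow_of_essFiniteType
        (k := k) (K := L) p hp.out (fun s hs => linearIndepOn_pow p s hs)
    have : Algebra.IsSeparable (↥(IntermediateField.adjoin k (Set.range ((↑) : s → L)))) L := by
      convert! H <;> simp
    exact .of_algebraicIndependent_of_isSeparable hs.1


/-- a geometrically reduced field extension is ind-smooth -/
theorem indSmooth_of_geomReduced {k K : Type u} [Field k] [Field K] [Algebra k K]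
    [Algebra.IsGeometricallyReduced k K] : Smoothing.IndSmooth k K := by
  intro A _ _ hfp f
  haveI := hfp
  let D := A ⧸ RingHom.ker f.toRingHom
  let ι : D →ₐ[k] K := Ideal.Quotient.liftₐ (RingHom.ker f.toRingHom) f (fun a ha => ha)
  have hι : Function.Injective ι := by
    intro x y hxy
    obtain ⟨x, rfl⟩ := Ideal.Quotient.mk_surjective x
    obtain ⟨y, rfl⟩ := Ideal.Quotient.mk_surjective y
    rw [Ideal.Quotient.eq]
    show f (x - y) = 0
    rw [map_sub, sub_eq_zero]
    exact hxy
  haveI : (RingHom.ker f.toRingHom).IsPrime := RingHom.ker_isPrime _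
  haveI : IsDomain D := Ideal.Quotient.isDomain _
  haveI : Algebra.FiniteType k D := inferInstance
  haveI : Algebra.FinitePresentation k D := Algebra.FinitePresentation.of_finiteType.mp inferInstance
  let L := Localization.AtPrime (⊥ : Ideal D)
  haveI : IsFractionRing D L := by
    show IsLocalization (nonZeroDivisors D) (Localization.AtPrime (⊥ : Ideal D))
    convert!
      (inferInstance :
        IsLocalization (⊥ : Ideal D).primeCompl (Localization.AtPrime (⊥ : Ideal D)))
    ext; simp [Ideal.primeCompl]
  letI : Field L := IsFractionRing.toField D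
  let ιL : L →ₐ[k] K := IsFractionRing.liftAlgHom (g := ι) hι
  haveI : Algebra.IsGeometricallyReduced k L :=
    Algebra.IsGeometricallyReduced.of_injective ιL (RingHom.injective ιL.toRingHom)
  haveI : Algebra.EssFiniteType k L := Algebra.EssFiniteType.comp k D L
  haveI : Algebra.FormallySmooth k L := formallySmooth_of_geomReduced
  haveI : Algebra.IsSmoothAt k (⊥ : Ideal D) := ‹Algebra.FormallySmooth k L›
  obtain ⟨g, hg, hsm⟩ := Algebra.IsSmoothAt.exists_notMem_smooth k (⊥ : Ideal D)
  have hg0 : g ≠ 0 := fun h => hg (h ▸ Submodule.zero_mem _)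
  have hunit : ∀ y : Submonoid.powers g, IsUnit (ι y) := by
    rintro ⟨_, n, rfl⟩
    rw [map_pow]
    refine IsUnit.pow _ (IsUnit.mk0 _ ?_)
    rw [Ne, map_eq_zero_iff _ hι]
    exact hg0
  refine ⟨Localization.Away g, inferInstance, inferInstance, hsm,
    (IsScalarTower.toAlgHom k D (Localization.Away g)).comp (Ideal.Quotient.mkₐ k _),
    IsLocalization.liftAlgHom (M := Submonoid.powers g) (f := ι) hunit, ?_⟩
  ext a
  show IsLocalization.liftAlgHom (M := Submonoid.powers g) (f := ι) hunit
    (algebraMap D (Localization.Away g) (Ideal.Quotient.mk _ a)) = f a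
  rw [IsLocalization.liftAlgHom_apply, IsLocalization.lift_eq]
  rfl

end Groth.Agent.Lib.T2H8.SepA
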