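import Mathlib
import Groth.Agent.Lib.Helper5RLR

set_option autoImplicit false
universe u

namespace Groth.Agent.Lib.T2H8.SmoothParams

open IsLocalRing

section Pow

variable {R : Type u} [CommRing R] [IsLocalRing R] [IsNoetherianRing R]
variable {ι : Type} [DecidableEq ι]

/-- the ideal generated by `x j ^ e j` for `j ∈ s` -/
def J (x : ι → R) (s : Finset ι) (e : ι → ℕ) : Ideal R :=
  Ideal.span ((fun j => x j ^ e j) '' (s : Set ι))

theorem J_insert (x : ι → R) (s : Finset ι) (e : ι → ℕ) (k : ι) :
    J x (insert k s) e = Ideal.span {x k ^ e k} ⊔ J x s e := by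
  unfold J
  rw [Finset.coe_insert, Set.image_insert_eq, Ideal.span_insert]

theorem J_update (x : ι → R) (s : Finset ι) (e : ι → ℕ) (k : ι) (hk : k ∉ s) (m : ℕ) :
    J x s (Function.update e k m) = J x s e := by
  unfold J
  congr 1
  apply Set.image_congr
  intro j hj
  have : j ≠ k := fun h => hk (h ▸ hj)
  simp [Function.update_of_ne this]

theorem image_eq_range (x : ι → maximalIdeal R) (s : Finset ι) :
    (fun j => (x j : R)) '' (s : Set ι) =
      Set.range fun i : Fin s.card => ((x (s.equivFin.symm i) : maximalIdeal R) : R) := by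
  ext r
  constructor
  · rintro ⟨j, hj, rfl⟩
    exact ⟨s.equivFin ⟨j, hj⟩, by simp⟩
  · rintro ⟨i, rfl⟩
    exact ⟨_, (s.equivFin.symm i).2, rfl⟩

theorem J_one_prime [IsRegularLocalRing R] (x : ι → maximalIdeal R)
    (hli : LinearIndependent (ResidueField R) (fun i => (maximalIdeal R).toCotangent (x i)))
    (s : Finset ι) :
    (Ideal.span ((fun j => (x j : R)) '' (s : Set ι))).IsPrime := by
  have hli' : LinearIndependent (ResidueField R)
      (fun i : Fin s.card => (maximalIdeal R).toCotangent (x (s.equivFin.symm i))) :=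
    hli.comp (fun i : Fin s.card => ((s.equivFin.symm i : s) : ι))
      (Subtype.val_injective.comp s.equivFin.symm.injective)
  have := Groth.Agent.Lib.Helper5.isPrime_span_range_of_linearIndependent
    (fun i : Fin s.card => x (s.equivFin.symm i)) hli'
  rw [image_eq_range]
  exact this

theorem notMem_J_one [IsRegularLocalRing R] (x : ι → maximalIdeal R)
    (hli : LinearIndependent (ResidueField R) (fun i => (maximalIdeal R).toCotangent (x i)))
    (s : Finset ι) (k : ι) (hk : k ∉ s) :
    (x k : R) ∉ Ideal.span ((fun j => (x j : R)) '' (s : Set ι)) := by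
  intro hmem
  rw [image_eq_range] at hmem
  have h1 := Groth.Agent.Lib.Helper5.toCotangent_mem_cotV (x k) hmem
  rw [Groth.Agent.Lib.Helper5.cotV_span_range] at h1
  have h2 := hli.notMem_span_image (s := (s : Set ι)) (x := k) (by simpa using hk)
  apply h2
  refine Submodule.span_mono ?_ h1
  rintro _ ⟨i, rfl⟩
  exact ⟨_, (s.equivFin.symm i).2, rfl⟩

theorem pow_regular [IsRegularLocalRing R] (x : ι → maximalIdeal R)
    (hli : LinearIndependent (ResidueField R) (fun i => (maximalIdeal R).toCotangent (x i))) :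
    ∀ (n : ℕ) (s : Finset ι) (e : ι → ℕ) (k : ι), k ∉ s → (∀ j ∈ s, 1 ≤ e j) →
      ∑ j ∈ s, e j ≤ n →
      ∀ a : R, a * (x k : R) ∈ J (fun j => (x j : R)) s e → a ∈ J (fun j => (x j : R)) s e := by
  intro n
  induction n using Nat.strong_induction_on with
  | _ n ih =>
  intro s e k hk he hsum a ha
  by_cases hall : ∀ j ∈ s, e j = 1
  · -- all exponents one
    have hJ : J (fun j => (x j : R)) s e = Ideal.span ((fun j => (x j : R)) '' (s : Set ι)) := by
      unfold J
      congr 1
      apply Set.image_congr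
      intro j hj
      simp [hall j (Finset.mem_coe.mp hj)]
    rw [hJ] at ha ⊢
    have hp := J_one_prime x hli s
    rcases hp.mem_or_mem ha with h | h
    · exact h
    · exact absurd h (notMem_J_one x hli s k hk)
  · push_neg at hall
    obtain ⟨k0, hk0s, hk0⟩ := hall
    have hk0e : 2 ≤ e k0 := by
      have := he k0 hk0s
      omega
    set s' := s.erase k0 with hs'
    have hk0s' : k0 ∉ s' := Finset.notMem_erase k0 s
    have hs : s = insert k0 s' := (Finset.insert_erase hk0s).symm
    have hsum' : ∑ j ∈ s, e j = e k0 + ∑ j ∈ s', e j := by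
      rw [hs, Finset.sum_insert hk0s']
    have hkk0 : k ≠ k0 := fun h => hk (h ▸ hk0s)
    have hks' : k ∉ s' := fun h => hk (Finset.mem_of_mem_erase h)
    have he' : ∀ j ∈ s', 1 ≤ e j := fun j hj => he j (Finset.mem_of_mem_erase hj)
    set xx : ι → R := fun j => (x j : R) with hxx
    -- the three instances of the induction hypothesis
    have ih1 : ∀ w : R, w * xx k0 ∈ J xx s' e → w ∈ J xx s' e :=
      ih (∑ j ∈ s', e j) (by omega) s' e k0 hk0s' he' le_rfl
    have ih1' : ∀ (m : ℕ) (w : R), xx k0 ^ m * w ∈ J xx s' e → w ∈ J xx s' e := by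
      intro m
      induction m with
      | zero => intro w hw; simpa using hw
      | succ m ihm =>
        intro w hw
        apply ihm
        apply ih1
        rw [pow_succ] at hw
        convert hw using 1
        ring
    -- J for modified exponents
    have hJm : ∀ m : ℕ, J xx s (Function.update e k0 m) = Ideal.span {xx k0 ^ m} ⊔ J xx s' e := by
      intro m
      rw [hs, J_insert, J_update _ _ _ _ hk0s']
      simp
    have hJe : J xx s e = Ideal.span {xx k0 ^ e k0} ⊔ J xx s' e := by
      have := hJm (e k0)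
      rwa [Function.update_eq_self] at this
    have hsumm : ∀ m : ℕ, ∑ j ∈ s, Function.update e k0 m j = m + ∑ j ∈ s', e j := by
      intro m
      rw [hs, Finset.sum_insert hk0s']
      congr 1
      · simp
      · apply Finset.sum_congr rfl
        intro j hj
        have : j ≠ k0 := fun h => hk0s' (h ▸ hj)
        simp [Function.update_of_ne this]
    have hem : ∀ m : ℕ, 1 ≤ m → ∀ j ∈ s, 1 ≤ Function.update e k0 m j := by
      intro m hm j hj
      by_cases hjk : j = k0
      · subst hjk; simpa using hm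
      · rw [Function.update_of_ne hjk]; exact he j hj
    have ih2 : ∀ w : R, w * xx k ∈ Ideal.span {xx k0 ^ (e k0 - 1)} ⊔ J xx s' e →
        w ∈ Ideal.span {xx k0 ^ (e k0 - 1)} ⊔ J xx s' e := by
      intro w hw
      rw [← hJm] at hw ⊢
      exact ih (e k0 - 1 + ∑ j ∈ s', e j) (by omega) s _ k hk (hem _ (by omega))
        (by rw [hsumm]) w hw
    have ih3 : ∀ w : R, w * xx k ∈ Ideal.span {xx k0 ^ 1} ⊔ J xx s' e →
        w ∈ Ideal.span {xx k0 ^ 1} ⊔ J xx s' e := by
      intro w hw
      rw [← hJm] at hw ⊢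
      exact ih (1 + ∑ j ∈ s', e j) (by omega) s _ k hk (hem _ le_rfl)
        (by rw [hsumm]) w hw
    -- now the computation
    rw [hJe] at ha ⊢
    have hle : Ideal.span {xx k0 ^ e k0} ⊔ J xx s' e ≤
        Ideal.span {xx k0 ^ (e k0 - 1)} ⊔ J xx s' e := by
      refine sup_le_sup_right ?_ _
      rw [Ideal.span_singleton_le_span_singleton]
      exact pow_dvd_pow _ (by omega)
    have h1 := ih2 a (hle ha)
    obtain ⟨y, hy, c, hc, hyc⟩ := Submodule.mem_sup.mp h1
    obtain ⟨b, rfl⟩ := Ideal.mem_span_singleton'.mp hy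
    obtain ⟨y', hy', c', hc', hyc'⟩ := Submodule.mem_sup.mp ha
    obtain ⟨r, rfl⟩ := Ideal.mem_span_singleton'.mp hy'
    have hpow : xx k0 ^ e k0 = xx k0 ^ (e k0 - 1) * xx k0 := by
      rw [← pow_succ]
      congr 1
      omega
    have h2 : xx k0 ^ (e k0 - 1) * (b * xx k - r * xx k0) ∈ J xx s' e := by
      have : xx k0 ^ (e k0 - 1) * (b * xx k - r * xx k0) = c' - c * xx k := by
        rw [hpow] at hyc'
        have h3 : a * xx k = (b * xx k0 ^ (e k0 - 1) + c) * xx k := by rw [hyc]
        linear_combination -h3 - hyc'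
      rw [this]
      exact Ideal.sub_mem _ hc' (Ideal.mul_mem_right _ _ hc)
    have h3 := ih1' _ _ h2
    have h4 : b * xx k ∈ Ideal.span {xx k0 ^ 1} ⊔ J xx s' e := by
      have : b * xx k = r * xx k0 ^ 1 + (b * xx k - r * xx k0) := by ring
      rw [this]
      exact Ideal.add_mem _ (Ideal.mem_sup_left (Ideal.mul_mem_left _ _ (Ideal.subset_span rfl)))
        (Ideal.mem_sup_right h3)
    have h5 := ih3 b h4
    obtain ⟨y'', hy'', c'', hc'', hyc''⟩ := Submodule.mem_sup.mp h5
    obtain ⟨r', rfl⟩ := Ideal.mem_span_singleton'.mp hy''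
    have h6 : a = (r' * xx k0 ^ e k0) + (c'' * xx k0 ^ (e k0 - 1) + c) := by
      rw [← hyc, ← hyc'', hpow]
      ring
    rw [h6]
    exact Ideal.add_mem _ (Ideal.mem_sup_left (Ideal.mul_mem_left _ _ (Ideal.subset_span rfl)))
      (Ideal.mem_sup_right (Ideal.add_mem _ (Ideal.mul_mem_right _ _ hc'') hc))

end Pow

section Glob

variable {Λ : Type u} [CommRing Λ]

theorem exists_mul_mem_of_map_mem (q : Ideal Λ) [q.IsPrime] (J : Ideal Λ) (x : Λ)
    (h : algebraMap Λ (Localization.AtPrime q) x ∈
      J.map (algebraMap Λ (Localization.AtPrime q))) :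
    ∃ u ∉ q, u * x ∈ J := by
  rw [IsLocalization.mem_map_algebraMap_iff q.primeCompl] at h
  obtain ⟨⟨y, s⟩, hys⟩ := h
  rw [← map_mul] at hys
  obtain ⟨c, hc⟩ := (IsLocalization.eq_iff_exists q.primeCompl _).mp hys
  refine ⟨((c * s : q.primeCompl) : Λ), (c * s).2, ?_⟩
  have : ((c * s : q.primeCompl) : Λ) * x = c * y := by
    rw [Submonoid.coe_mul]
    linear_combination hc
  rw [this]
  exact Ideal.mul_mem_left _ _ y.2

theorem exists_good_multiplier [IsNoetherianRing Λ] (q : Ideal Λ) [q.IsPrime] (J : Ideal Λ)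
    (a' : Λ) (hL : ∀ x : Λ, (∃ m, a' ^ m * x ∈ J) → ∃ u ∉ q, u * x ∈ J) :
    ∃ s ∉ q, ∀ x : Λ, (s * a') ^ 2 * x ∈ J → (s * a') * x ∈ J := by
  classical
  -- the a'-power torsion ideal
  let T : Ideal Λ :=
    { carrier := {x | ∃ m, a' ^ m * x ∈ J}
      add_mem' := by
        rintro x y ⟨m, hm⟩ ⟨m', hm'⟩
        refine ⟨m + m', ?_⟩
        have : a' ^ (m + m') * (x + y) = a' ^ m' * (a' ^ m * x) + a' ^ m * (a' ^ m' * y) := by
          ring
        rw [this]
        exact Ideal.add_mem _ (Ideal.mul_mem_left _ _ hm) (Ideal.mul_mem_left _ _ hm')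
      zero_mem' := ⟨0, by simp⟩
      smul_mem' := by
        rintro c x ⟨m, hm⟩
        refine ⟨m, ?_⟩
        rw [smul_eq_mul, mul_left_comm]
        exact Ideal.mul_mem_left _ _ hm }
  have hTmem : ∀ x, x ∈ T ↔ ∃ m, a' ^ m * x ∈ J := fun x => Iff.rfl
  obtain ⟨F, hF⟩ := (isNoetherianRing_iff_ideal_fg Λ).mp inferInstance T
  have hu : ∀ f : Λ, ∃ u : Λ, f ∈ T → u ∉ q ∧ u * f ∈ J := by
    intro f
    by_cases hf : f ∈ T
    · obtain ⟨u, hu, huf⟩ := hL f hf
      exact ⟨u, fun _ => ⟨hu, huf⟩⟩
    · exact ⟨0, fun h => absurd h hf⟩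
  choose u hu using hu
  have hFT : ∀ f ∈ F, f ∈ T := fun f hf => hF ▸ Ideal.subset_span hf
  set s0 : Λ := ∏ f ∈ F, u f with hs0
  have hs0q : s0 ∉ q := by
    rw [hs0]
    intro h
    obtain ⟨f, hf, hfq⟩ := (Ideal.IsPrime.prod_mem_iff).mp h
    exact (hu f (hFT f hf)).1 hfq
  have hs0T : ∀ x ∈ T, s0 * x ∈ J := by
    intro x hx
    rw [← hF] at hx
    induction hx using Submodule.span_induction with
    | mem f hf =>
      have := (hu f (hFT f hf)).2
      rw [hs0, ← Finset.mul_prod_erase F u hf, mul_right_comm]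
      exact Ideal.mul_mem_right _ _ this
    | zero => simp
    | add y z _ _ hy hz => rw [mul_add]; exact Ideal.add_mem _ hy hz
    | smul r y _ hy =>
      rw [smul_eq_mul, mul_left_comm]
      exact Ideal.mul_mem_left _ _ hy
  -- stabilization of the annihilators of powers of s0 modulo J
  let Ann : ℕ →o Ideal Λ :=
    { toFun := fun k =>
        { carrier := {x | s0 ^ k * x ∈ J}
          add_mem' := by
            intro x y hx hy
            change s0 ^ k * (x + y) ∈ J
            rw [mul_add]; exact Ideal.add_mem _ hx hy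
          zero_mem' := by change s0 ^ k * 0 ∈ J; simp
          smul_mem' := by
            intro c x hx
            change s0 ^ k * (c • x) ∈ J
            rw [smul_eq_mul, mul_left_comm]
            exact Ideal.mul_mem_left _ _ hx }
      monotone' := by
        intro k k' hkk' x hx
        change s0 ^ k' * x ∈ J
        obtain ⟨m, rfl⟩ := Nat.exists_eq_add_of_le hkk'
        rw [pow_add, mul_right_comm, mul_comm]
        exact Ideal.mul_mem_left _ _ hx }
  obtain ⟨k, hk⟩ := monotone_stabilizes_iff_noetherian.mpr (inferInstance : IsNoetherian Λ Λ) Ann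
  have hAnn : ∀ (m : ℕ) (x : Λ), x ∈ Ann m ↔ s0 ^ m * x ∈ J := fun m x => Iff.rfl
  set s : Λ := s0 ^ (k + 1) with hs
  have hsq : s ∉ q := fun h => hs0q (Ideal.IsPrime.mem_of_pow_mem inferInstance _ h)
  have hsT : ∀ x ∈ T, s * x ∈ J := by
    intro x hx
    rw [hs, pow_succ, mul_assoc]
    exact Ideal.mul_mem_left _ _ (hs0T x hx)
  have hs3 : ∀ x : Λ, s ^ 3 * x ∈ J → s * x ∈ J := by
    intro x hx
    rw [hs, ← pow_mul, ← hAnn] at hx
    rw [hs, ← hAnn]
    have h1 : Ann k = Ann ((k + 1) * 3) := hk _ (by nlinarith)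
    have h2 : Ann k = Ann (k + 1) := hk _ (by omega)
    rw [← h2, h1]
    exact hx
  refine ⟨s, hsq, ?_⟩
  intro x hx
  have h1 : s ^ 2 * x ∈ T := by
    refine ⟨2, ?_⟩
    convert hx using 1
    ring
  have h2 : s ^ 3 * x ∈ J := by
    have := hsT _ h1
    convert this using 1
    ring
  have h3 := hs3 x h2
  rw [mul_right_comm]
  exact Ideal.mul_mem_right _ _ h3

theorem span_image_unit_mul {A : Type*} [CommRing A] {ι : Type*} (s : Set ι) (g v : ι → A)
    (hv : ∀ j, IsUnit (v j)) :
    Ideal.span ((fun j => v j * g j) '' s) = Ideal.span (g '' s) := by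
  apply le_antisymm
  · rw [Ideal.span_le]
    rintro _ ⟨j, hj, rfl⟩
    exact Ideal.mul_mem_left _ _ (Ideal.subset_span ⟨j, hj, rfl⟩)
  · rw [Ideal.span_le]
    rintro _ ⟨j, hj, rfl⟩
    obtain ⟨w, hw⟩ := (hv j).exists_left_inv
    have : g j = w * (v j * g j) := by rw [← mul_assoc, hw, one_mul]
    rw [this]
    exact Ideal.mul_mem_left _ _ (Ideal.subset_span ⟨j, hj, rfl⟩)

variable (q : Ideal Λ) [q.IsPrime]

theorem exists_params [IsRegularLocalRing (Localization.AtPrime q)] {d : ℕ}
    (hd : ringKrullDim (Localization.AtPrime q) = d) :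
    ∃ a : Fin d → Λ, (∀ i, a i ∈ q) ∧
      Ideal.span (Set.range fun i => algebraMap Λ (Localization.AtPrime q) (a i)) =
        maximalIdeal (Localization.AtPrime q) := by
  classical
  have hreg : ((maximalIdeal (Localization.AtPrime q)).spanFinrank : WithBot ℕ∞) =
      ringKrullDim (Localization.AtPrime q) := IsRegularLocalRing.spanFinrank_maximalIdeal
  rw [hd] at hreg
  have hreg' : (maximalIdeal (Localization.AtPrime q)).spanFinrank = d := by exact_mod_cast hreg
  have hfg : (maximalIdeal (Localization.AtPrime q)).FG :=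
    (isNoetherianRing_iff_ideal_fg _).mp inferInstance _
  obtain ⟨s, hcard, hspan⟩ := Submodule.FG.exists_span_finset_card_eq_spanFinrank hfg
  rw [hreg'] at hcard
  let eqv : Fin d ≃ s := (Finset.equivFinOfCardEq hcard).symm
  let g : Fin d → Localization.AtPrime q := fun i => (eqv i : Localization.AtPrime q)
  have hg : Ideal.span (Set.range g) = maximalIdeal (Localization.AtPrime q) := by
    rw [← hspan]
    congr 1
    ext r
    constructor
    · rintro ⟨i, rfl⟩
      exact (eqv i).2
    · intro hr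
      exact ⟨eqv.symm ⟨r, hr⟩, by simp [g]⟩
  have hsurj := fun i => IsLocalization.surj q.primeCompl (g i)
  choose at' hat using hsurj
  refine ⟨fun i => (at' i).1, ?_, ?_⟩
  · intro i
    have h1 : g i ∈ maximalIdeal (Localization.AtPrime q) := by
      rw [← hg]; exact Ideal.subset_span ⟨i, rfl⟩
    have h2 : algebraMap Λ (Localization.AtPrime q) (at' i).1 ∈
        maximalIdeal (Localization.AtPrime q) := by
      rw [← hat i]; exact Ideal.mul_mem_right _ _ h1
    exact (IsLocalization.AtPrime.to_map_mem_maximal_iff _ q _).mp h2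
  · rw [← hg]
    have := span_image_unit_mul (Set.univ : Set (Fin d)) g
      (fun i => algebraMap Λ (Localization.AtPrime q) (at' i).2)
      (fun i => IsLocalization.map_units _ (at' i).2)
    rw [Set.image_univ, Set.image_univ] at this
    rw [← this]
    congr 2
    ext i
    rw [← hat i, mul_comm]

theorem local_torsion [IsRegularLocalRing (Localization.AtPrime q)] {d : ℕ}
    (hd : ringKrullDim (Localization.AtPrime q) = d) (a : Fin d → Λ) (ha : ∀ i, a i ∈ q)
    (hspan : Ideal.span (Set.range fun i => algebraMap Λ (Localization.AtPrime q) (a i)) =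
        maximalIdeal (Localization.AtPrime q))
    (π : Fin d → Λ) (hπ : ∀ i, ∃ u, u ∉ q ∧ π i = u * a i) (e : ℕ) (he : 0 < e) (k : Fin d)
    (t : Λ) (ht : t ∉ q) (x : Λ)
    (hx : ∃ m, (t * a k) ^ m * x ∈ Ideal.span ((fun j => π j ^ e) '' {j | j < k})) :
    ∃ u ∉ q, u * x ∈ Ideal.span ((fun j => π j ^ e) '' {j | j < k}) := by
  classical
  apply exists_mul_mem_of_map_mem
  set φ := algebraMap Λ (Localization.AtPrime q) with hφ
  have ham : ∀ i, φ (a i) ∈ maximalIdeal (Localization.AtPrime q) := fun i =>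
    (IsLocalization.AtPrime.to_map_mem_maximal_iff _ q _).mpr (ha i)
  let xx : Fin d → maximalIdeal (Localization.AtPrime q) := fun i => ⟨φ (a i), ham i⟩
  have hli := Groth.Agent.Lib.Helper5.linearIndependent_toCotangent_of_span_eq hd xx hspan
  choose u hu hπu using hπ
  have hunit : ∀ w : Λ, w ∉ q → IsUnit (φ w) := fun w hw =>
    IsLocalization.map_units (Localization.AtPrime q) (⟨w, hw⟩ : q.primeCompl)
  -- the extended ideal
  have hmap : Ideal.map φ (Ideal.span ((fun j => π j ^ e) '' {j | j < k})) =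
      J (fun j => (xx j : Localization.AtPrime q)) (Finset.univ.filter (· < k)) (fun _ => e) := by
    rw [Ideal.map_span, Set.image_image]
    unfold J
    have h1 : (fun j => φ (π j ^ e)) = fun j => (φ (u j)) ^ e * (φ (a j)) ^ e := by
      ext j
      rw [hπu j, map_pow, map_mul, mul_pow]
    rw [h1]
    have h2 := span_image_unit_mul {j : Fin d | j < k} (fun j => (φ (a j)) ^ e)
      (fun j => (φ (u j)) ^ e) (fun j => (hunit _ (hu j)).pow e)
    rw [h2]
    congr 2
    ext j
    simp
  rw [hmap]
  obtain ⟨m, hm⟩ := hx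
  have hm' := Ideal.mem_map_of_mem φ hm
  rw [hmap, map_mul, map_pow, map_mul] at hm'
  have hk : k ∉ Finset.univ.filter (· < k) := by simp
  have key := pow_regular xx hli (∑ j ∈ Finset.univ.filter (· < k), e)
    (Finset.univ.filter (· < k)) (fun _ => e) k hk (fun _ _ => he) le_rfl
  have key' : ∀ (m : ℕ) (w : Localization.AtPrime q),
      w * (φ (a k)) ^ m ∈ J (fun j => (xx j : Localization.AtPrime q))
        (Finset.univ.filter (· < k)) (fun _ => e) →
      w ∈ J (fun j => (xx j : Localization.AtPrime q))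
        (Finset.univ.filter (· < k)) (fun _ => e) := by
    intro m
    induction m with
    | zero => intro w hw; simpa using hw
    | succ m ihm =>
      intro w hw
      apply ihm
      apply key
      rw [pow_succ, ← mul_assoc] at hw
      exact hw
  have h3 : (φ t ^ m * φ x) * (φ (a k)) ^ m ∈ J (fun j => (xx j : Localization.AtPrime q))
      (Finset.univ.filter (· < k)) (fun _ => e) := by
    convert hm' using 1
    ring
  have h4 := key' m _ h3
  obtain ⟨w, hw⟩ := ((hunit t ht).pow m).exists_left_inv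
  have : φ x = w * (φ t ^ m * φ x) := by rw [← mul_assoc, hw, one_mul]
  rw [this]
  exact Ideal.mul_mem_left _ _ h4

theorem exists_seq [IsNoetherianRing Λ] [IsRegularLocalRing (Localization.AtPrime q)] {d : ℕ}
    (hd : ringKrullDim (Localization.AtPrime q) = d) (I : Ideal Λ) (n e : ℕ) (hn : 0 < n)
    (he : 0 < e)
    (hpow : (q ^ n).map (algebraMap Λ (Localization.AtPrime q)) ≤
      I.map (algebraMap Λ (Localization.AtPrime q)))
    (a : Fin d → Λ) (ha : ∀ i, a i ∈ q)
    (hspan : Ideal.span (Set.range fun i => algebraMap Λ (Localization.AtPrime q) (a i)) =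
        maximalIdeal (Localization.AtPrime q)) :
    ∀ k ≤ d, ∃ π : Fin d → Λ, (∀ i, ∃ u, u ∉ q ∧ π i = u * a i) ∧
      (∀ i : Fin d, (i : ℕ) < k → π i ^ n ∈ I) ∧
      (∀ i : Fin d, (i : ℕ) < k → ∀ x : Λ,
        π i ^ 2 * x ∈ Ideal.span ((fun j => π j ^ e) '' {j | j < i}) →
        π i * x ∈ Ideal.span ((fun j => π j ^ e) '' {j | j < i})) := by
  classical
  intro k
  induction k with
  | zero =>
    intro _
    refine ⟨a, fun i => ⟨1, ?_, by simp⟩, fun i hi => absurd hi (Nat.not_lt_zero _),
      fun i hi => absurd hi (Nat.not_lt_zero _)⟩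
    exact fun h => (inferInstance : q.IsPrime).ne_top ((Ideal.eq_top_iff_one _).mpr h)
  | succ k ih =>
    intro hk
    obtain ⟨π, hπa, hπI, hπann⟩ := ih (by omega)
    set kk : Fin d := ⟨k, by omega⟩ with hkk
    -- choose t
    have h1 : algebraMap Λ (Localization.AtPrime q) (a kk ^ n) ∈
        I.map (algebraMap Λ (Localization.AtPrime q)) :=
      hpow (Ideal.mem_map_of_mem _ (Ideal.pow_mem_pow (ha kk) n))
    obtain ⟨t, ht, htI⟩ := exists_mul_mem_of_map_mem q I _ h1
    obtain ⟨s, hs, hsann⟩ := exists_good_multiplier q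
      (Ideal.span ((fun j => π j ^ e) '' {j | j < kk})) (t * a kk)
      (fun x hx => local_torsion q hd a ha hspan π hπa e he kk t ht x hx)
    have hJ : ∀ i : Fin d, i ≤ kk →
        Ideal.span ((fun j => Function.update π kk (s * (t * a kk)) j ^ e) '' {j | j < i}) =
          Ideal.span ((fun j => π j ^ e) '' {j | j < i}) := by
      intro i hi
      congr 1
      apply Set.image_congr
      intro j hj
      have : j ≠ kk := fun h => by
        rw [h] at hj
        exact absurd (lt_of_lt_of_le hj hi) (lt_irrefl _)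
      simp [Function.update_of_ne this]
    refine ⟨Function.update π kk (s * (t * a kk)), ?_, ?_, ?_⟩
    · intro i
      by_cases hi : i = kk
      · subst hi
        refine ⟨s * t, ?_, by simp [mul_assoc]⟩
        intro h
        rcases (inferInstance : q.IsPrime).mem_or_mem h with h | h
        · exact hs h
        · exact ht h
      · rw [Function.update_of_ne hi]
        exact hπa i
    · intro i hi
      by_cases hik : i = kk
      · subst hik
        rw [Function.update_self]
        obtain ⟨n', rfl⟩ := Nat.exists_eq_succ_of_ne_zero hn.ne'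
        have : (s * (t * a kk)) ^ (n' + 1) = s ^ (n' + 1) * t ^ n' * (t * a kk ^ (n' + 1)) := by
          ring
        rw [this]
        exact Ideal.mul_mem_left _ _ htI
      · rw [Function.update_of_ne hik]
        apply hπI
        have : (i : ℕ) ≠ k := fun h => hik (Fin.ext h)
        omega
    · intro i hi x hx
      have hile : i ≤ kk := by
        rw [Fin.le_def]
        simp only [hkk]
        omega
      rw [hJ i hile] at hx ⊢
      by_cases hik : i = kk
      · subst hik
        rw [Function.update_self] at hx ⊢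
        exact hsann x hx
      · rw [Function.update_of_ne hik] at hx ⊢
        apply hπann i _ x hx
        have : (i : ℕ) ≠ k := fun h => hik (Fin.ext h)
        omega

theorem main [IsNoetherianRing Λ] (I : Ideal Λ) (hIq : I ≤ q) (n e d : ℕ) (hn : 0 < n)
    (he : 0 < e)
    (hpow : (q ^ n).map (algebraMap Λ (Localization.AtPrime q)) ≤
      I.map (algebraMap Λ (Localization.AtPrime q)))
    [IsRegularLocalRing (Localization.AtPrime q)]
    (hd : ringKrullDim (Localization.AtPrime q) = d) :
    ∃ (N : ℕ) (π : Fin d → Λ), 0 < N ∧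
      Ideal.span (Set.range fun i => algebraMap Λ (Localization.AtPrime q) (π i)) =
        q.map (algebraMap Λ (Localization.AtPrime q)) ∧
      (∀ i, π i ^ N ∈ I) ∧
      ∀ i : Fin d, ∀ x : Λ ⧸ Ideal.span (Set.range fun j : {j : Fin d // (j : ℕ) < (i : ℕ)} =>
          π j ^ e),
        Ideal.Quotient.mk _ (π i) ^ 2 * x = 0 → Ideal.Quotient.mk _ (π i) * x = 0 := by
  obtain ⟨a, ha, hspan⟩ := exists_params q hd
  obtain ⟨π, hπa, hπI, hπann⟩ := exists_seq q hd I n e hn he hpow a ha hspan d le_rfl
  refine ⟨n, π, hn, ?_, fun i => hπI i i.2, ?_⟩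
  · rw [Localization.AtPrime.map_eq_maximalIdeal, ← hspan]
    choose u hu hπu using hπa
    have := span_image_unit_mul (Set.univ : Set (Fin d))
      (fun i => algebraMap Λ (Localization.AtPrime q) (a i))
      (fun i => algebraMap Λ (Localization.AtPrime q) (u i))
      (fun i => IsLocalization.map_units (Localization.AtPrime q) (⟨u i, hu i⟩ : q.primeCompl))
    rw [Set.image_univ, Set.image_univ] at this
    rw [← this]
    congr 2
    ext i
    rw [hπu i, map_mul]
  · intro i x hx
    have hK : Ideal.span (Set.range fun j : {j : Fin d // (j : ℕ) < (i : ℕ)} => π j ^ e) =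
        Ideal.span ((fun j => π j ^ e) '' {j | j < i}) := by
      congr 1
      ext r
      constructor
      · rintro ⟨⟨j, hj⟩, rfl⟩
        exact ⟨j, Fin.lt_def.mpr hj, rfl⟩
      · rintro ⟨j, hj, rfl⟩
        exact ⟨⟨j, Fin.lt_def.mp hj⟩, rfl⟩
    obtain ⟨y, rfl⟩ := Ideal.Quotient.mk_surjective x
    rw [← map_pow, ← map_mul, Ideal.Quotient.eq_zero_iff_mem, hK] at hx
    rw [← map_mul, Ideal.Quotient.eq_zero_iff_mem, hK]
    exact hπann i i.2 y hx

end Glob

end Groth.Agent.Lib.T2H8.SmoothParams
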