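import Groth.Agent.S2082
import Groth.Agent.Lib.Helper5RLR3
import Groth.Agent.Lib.T2H8SmoothParams

/-!
Helper library for S6823: flatness of a regular local ring over the polynomial ring on a regular
system of parameters (`flat_localization`), a power of a minimal prime lies in the ideal after
localization (`exists_pow_map_le`), and the parameter lemma S2109 with `N = n` (`main_n`).
-/

set_option autoImplicit false
universe u

namespace Groth.Agent.Lib.T2H8.SepB

open MvPolynomial IsLocalRing

variable {k Λ : Type u} [Field k] [CommRing Λ] [IsNoetherianRing Λ] (𝔮 : Ideal Λ) [𝔮.IsPrime]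
  [IsRegularLocalRing (Localization.AtPrime 𝔮)] {d : ℕ}
  (hd : ringKrullDim (Localization.AtPrime 𝔮) = d)
  [Algebra (MvPolynomial (Fin d) k) Λ]
  (hπ : Ideal.span (Set.range fun i : Fin d => algebraMap Λ (Localization.AtPrime 𝔮)
      (algebraMap (MvPolynomial (Fin d) k) Λ (X i))) = maximalIdeal (Localization.AtPrime 𝔮))

include hd hπ in
/-- a regular system of parameters makes the regular local ring flat over the polynomial ring -/
theorem flat_localization :
    Module.Flat (MvPolynomial (Fin d) k) (Localization.AtPrime 𝔮) := by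
  classical
  set 𝔪 : Ideal (MvPolynomial (Fin d) k) :=
    (maximalIdeal (Localization.AtPrime 𝔮)).comap
      (algebraMap (MvPolynomial (Fin d) k) (Localization.AtPrime 𝔮)) with h𝔪
  haveI h𝔪p : 𝔪.IsPrime := Ideal.comap_isPrime _ _
  have hunits : ∀ y : 𝔪.primeCompl, IsUnit (algebraMap (MvPolynomial (Fin d) k)
      (Localization.AtPrime 𝔮) (y : MvPolynomial (Fin d) k)) := by
    intro y
    have h1 : algebraMap (MvPolynomial (Fin d) k) (Localization.AtPrime 𝔮) y ∉
        maximalIdeal (Localization.AtPrime 𝔮) := y.2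
    exact IsLocalRing.notMem_maximalIdeal.mp h1
  letI algR'L : Algebra (Localization.AtPrime 𝔪) (Localization.AtPrime 𝔮) :=
    (IsLocalization.lift hunits).toAlgebra
  have hlift : ∀ r : MvPolynomial (Fin d) k, algebraMap (Localization.AtPrime 𝔪)
      (Localization.AtPrime 𝔮) (algebraMap _ (Localization.AtPrime 𝔪) r) =
      algebraMap (MvPolynomial (Fin d) k) (Localization.AtPrime 𝔮) r :=
    fun r => IsLocalization.lift_eq hunits r
  haveI tower : IsScalarTower (MvPolynomial (Fin d) k) (Localization.AtPrime 𝔪)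
      (Localization.AtPrime 𝔮) :=
    IsScalarTower.of_algebraMap_eq (fun r => (hlift r).symm)
  haveI hloc : IsLocalHom (algebraMap (Localization.AtPrime 𝔪) (Localization.AtPrime 𝔮)) := by
    constructor
    intro x hx
    obtain ⟨r, s, rfl⟩ := IsLocalization.exists_mk'_eq 𝔪.primeCompl x
    have h1 : IsLocalization.mk' (Localization.AtPrime 𝔪) r s *
        algebraMap _ (Localization.AtPrime 𝔪) (s : MvPolynomial (Fin d) k) =
        algebraMap _ (Localization.AtPrime 𝔪) r := IsLocalization.mk'_spec _ r s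
    have h2 : IsUnit (algebraMap (MvPolynomial (Fin d) k) (Localization.AtPrime 𝔮) r) := by
      rw [← hlift, ← h1, map_mul, hlift]
      exact hx.mul (hunits s)
    have h3 : r ∉ 𝔪 := fun hr => (IsLocalRing.notMem_maximalIdeal.mpr h2) hr
    have h4 : IsUnit (algebraMap _ (Localization.AtPrime 𝔪) r) :=
      IsLocalization.map_units _ (⟨r, h3⟩ : 𝔪.primeCompl)
    rw [← h1] at h4
    exact isUnit_of_mul_isUnit_left h4
  -- the maximal ideal of R' generates the maximal ideal of L
  have hXm : ∀ i : Fin d, (X i : MvPolynomial (Fin d) k) ∈ 𝔪 := by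
    intro i
    show algebraMap (MvPolynomial (Fin d) k) (Localization.AtPrime 𝔮) (X i) ∈
      maximalIdeal (Localization.AtPrime 𝔮)
    rw [← hπ, IsScalarTower.algebraMap_apply (MvPolynomial (Fin d) k) Λ (Localization.AtPrime 𝔮)]
    exact Ideal.subset_span ⟨i, rfl⟩
  have hmap : (maximalIdeal (Localization.AtPrime 𝔪)).map
      (algebraMap (Localization.AtPrime 𝔪) (Localization.AtPrime 𝔮)) =
      maximalIdeal (Localization.AtPrime 𝔮) := by
    apply le_antisymm (IsLocalRing.map_maximalIdeal_le _)
    rw [← hπ, Ideal.span_le]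
    rintro _ ⟨i, rfl⟩
    show algebraMap Λ (Localization.AtPrime 𝔮) (algebraMap (MvPolynomial (Fin d) k) Λ (X i)) ∈ _
    rw [← IsScalarTower.algebraMap_apply (MvPolynomial (Fin d) k) Λ (Localization.AtPrime 𝔮),
      ← hlift]
    refine Ideal.mem_map_of_mem _ ?_
    rw [← Localization.AtPrime.map_eq_maximalIdeal]
    exact Ideal.mem_map_of_mem _ (hXm i)
  -- dimensions
  have hdimR : ringKrullDim (MvPolynomial (Fin d) k) = d := by
    rw [MvPolynomial.ringKrullDim_of_isNoetherianRing, ringKrullDim_eq_zero_of_field]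
    simp
  have hdimR' : ringKrullDim (Localization.AtPrime 𝔪) ≤ d := by
    rw [IsLocalization.AtPrime.ringKrullDim_eq_height 𝔪 (Localization.AtPrime 𝔪), ← hdimR]
    exact Ideal.height_le_ringKrullDim_of_ne_top h𝔪p.ne_top
  haveI hlo : (maximalIdeal (Localization.AtPrime 𝔮)).LiesOver
      (maximalIdeal (Localization.AtPrime 𝔪)) :=
    ⟨(IsLocalRing.maximalIdeal_comap _).symm⟩
  have hge : (d : WithBot ℕ∞) ≤ ringKrullDim (Localization.AtPrime 𝔪) := by
    have h1 := Ideal.height_le_height_add_of_liesOver (maximalIdeal (Localization.AtPrime 𝔪))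
      (maximalIdeal (Localization.AtPrime 𝔮))
    rw [hmap] at h1
    have h2 : (Ideal.map (Ideal.Quotient.mk (maximalIdeal (Localization.AtPrime 𝔮)))
        (maximalIdeal (Localization.AtPrime 𝔮))) = ⊥ := by
      rw [Ideal.map_quotient_self]
    rw [h2, Ideal.height_bot, add_zero] at h1
    rw [← hd, ← IsLocalRing.maximalIdeal_height_eq_ringKrullDim,
      ← IsLocalRing.maximalIdeal_height_eq_ringKrullDim]
    exact WithBot.coe_le_coe.mpr h1
  have hdimR'eq : ringKrullDim (Localization.AtPrime 𝔪) = d := le_antisymm hdimR' hge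
  have hquot : ringKrullDim (Localization.AtPrime 𝔮 ⧸
      (maximalIdeal (Localization.AtPrime 𝔪)).map
        (algebraMap (Localization.AtPrime 𝔪) (Localization.AtPrime 𝔮))) = 0 := by
    rw [hmap]
    exact ringKrullDim_eq_zero_of_field (ResidueField (Localization.AtPrime 𝔮))
  haveI : LocCoh.IsCohenMacaulayLocalRing (Localization.AtPrime 𝔮) :=
    Groth.Agent.Lib.Helper5.isCohenMacaulayLocalRing_of_isRegularLocalRing _
  haveI hfl : Module.Flat (Localization.AtPrime 𝔪) (Localization.AtPrime 𝔮) := by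
    apply Groth.Agent.S2082.result
    rw [hquot, add_zero, hd, hdimR'eq]
  exact Module.Flat.trans (MvPolynomial (Fin d) k) (Localization.AtPrime 𝔪)
    (Localization.AtPrime 𝔮)


/-- some power of a minimal prime lies in the ideal, after localizing -/
theorem exists_pow_map_le {Λ : Type u} [CommRing Λ] [IsNoetherianRing Λ] (I 𝔮 : Ideal Λ)
    [𝔮.IsPrime] (h : 𝔮 ∈ I.minimalPrimes) :
    ∃ n : ℕ, 0 < n ∧ (𝔮 ^ n).map (algebraMap Λ (Localization.AtPrime 𝔮)) ≤
      I.map (algebraMap Λ (Localization.AtPrime 𝔮)) := by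
  have hrad := IsLocalization.AtPrime.radical_map_of_mem_minimalPrimes
    (A := Localization.AtPrime 𝔮) 𝔮 I h
  haveI : IsNoetherianRing (Localization.AtPrime 𝔮) :=
    IsLocalization.isNoetherianRing 𝔮.primeCompl _ inferInstance
  obtain ⟨n, hn⟩ := Ideal.exists_radical_pow_le_of_fg
    (I.map (algebraMap Λ (Localization.AtPrime 𝔮))) (IsNoetherian.noetherian _)
  refine ⟨n + 1, Nat.succ_pos n, ?_⟩
  rw [Ideal.map_pow, ← hrad]
  exact (Ideal.pow_le_pow_right (Nat.le_succ n)).trans hn

/-- the parameter lemma with explicit exponent -/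
theorem main_n {Λ : Type u} [CommRing Λ] [IsNoetherianRing Λ] (I q : Ideal Λ)
    [q.IsPrime] (hIq : I ≤ q) (n e d : ℕ) (hn : 0 < n) (he : 0 < e)
    (hpow : (q ^ n).map (algebraMap Λ (Localization.AtPrime q)) ≤
      I.map (algebraMap Λ (Localization.AtPrime q)))
    [IsRegularLocalRing (Localization.AtPrime q)] (hd : ringKrullDim (Localization.AtPrime q) = d) :
    ∃ (π : Fin d → Λ),
      Ideal.span (Set.range fun i => algebraMap Λ (Localization.AtPrime q) (π i)) =
        q.map (algebraMap Λ (Localization.AtPrime q)) ∧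
      (∀ i, π i ^ n ∈ I) ∧
      ∀ i : Fin d, ∀ y : Λ,
        π i ^ 2 * y ∈ Ideal.span (Set.range fun j : {j : Fin d // (j : ℕ) < (i : ℕ)} => π j ^ e) →
        π i * y ∈ Ideal.span (Set.range fun j : {j : Fin d // (j : ℕ) < (i : ℕ)} => π j ^ e) := by
  obtain ⟨a, ha, hspan⟩ := Groth.Agent.Lib.T2H8.SmoothParams.exists_params q hd
  obtain ⟨π, hπa, hπI, hπann⟩ :=
    Groth.Agent.Lib.T2H8.SmoothParams.exists_seq q hd I n e hn he hpow a ha hspan d le_rfl
  refine ⟨π, ?_, fun i => hπI i i.2, ?_⟩
  · rw [Localization.AtPrime.map_eq_maximalIdeal, ← hspan]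
    choose u hu hπu using hπa
    have := Groth.Agent.Lib.T2H8.SmoothParams.span_image_unit_mul (Set.univ : Set (Fin d))
      (fun i => algebraMap Λ (Localization.AtPrime q) (a i))
      (fun i => algebraMap Λ (Localization.AtPrime q) (u i))
      (fun i => IsLocalization.map_units (Localization.AtPrime q) (⟨u i, hu i⟩ : q.primeCompl))
    rw [Set.image_univ, Set.image_univ] at this
    rw [← this]
    congr 2
    ext i
    rw [hπu i, map_mul]
  · intro i y hy
    have hK : Ideal.span (Set.range fun j : {j : Fin d // (j : ℕ) < (i : ℕ)} => π j ^ e) =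
        Ideal.span ((fun j => π j ^ e) '' {j | j < i}) := by
      congr 1
      ext r
      constructor
      · rintro ⟨⟨j, hj⟩, rfl⟩
        exact ⟨j, Fin.lt_def.mpr hj, rfl⟩
      · rintro ⟨j, hj, rfl⟩
        exact ⟨⟨j, Fin.lt_def.mp hj⟩, rfl⟩
    rw [hK] at hy ⊢
    exact hπann i i.2 y hy

end Groth.Agent.Lib.T2H8.SepB
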