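import Mathlib
import Groth.Agent.S2034
import Groth.Agent.Lib.T2H8SepA
import Groth.Agent.Lib.T2H8SepB
import Groth.Agent.Lib.T2H3IndSmooth3

/-!
Helper library for S6823: the reduced problem over the Artinian ring `k[x_1..x_d]/K`
(`(x_i^e) ≤ K ≤ (x_i)`): `pbar`/`qbar` residue maps, nilpotence, flatness and ind-smoothness of
`Λ_𝔮/KΛ_𝔮` over `k[x]/K` (`indSmooth_quot`), zero-dimensionality (`dim_quot`), and the resolution of
the reduced problem (`resolvable_reduced`).
-/

set_option autoImplicit false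
universe u

namespace Groth.Agent.Lib.T2H8.SepD

open MvPolynomial IsLocalRing

section Rbar

variable {k : Type u} [Field k] {d : ℕ} (K : Ideal (MvPolynomial (Fin d) k))

theorem mem_idealOfVars_iff (p : MvPolynomial (Fin d) k) :
    p ∈ idealOfVars (Fin d) k ↔ constantCoeff p = 0 := by
  have h := mem_pow_idealOfVars_iff' (σ := Fin d) (R := k) 1 p
  rw [pow_one] at h
  rw [h]
  constructor
  · intro h1
    exact h1 0 (by simp)
  · intro h1 x hx
    have hx0 : x = 0 := by
      have : Finsupp.degree x = 0 := by omega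
      exact (Finsupp.degree_eq_zero_iff x).mp this
    rw [hx0]
    exact h1

variable (hK2 : K ≤ idealOfVars (Fin d) k)

/-- evaluation at the origin on the quotient -/
noncomputable def pbar : MvPolynomial (Fin d) k ⧸ K →+* k :=
  Ideal.Quotient.lift K constantCoeff (fun p hp => (mem_idealOfVars_iff p).mp (hK2 hp))

theorem pbar_mk (p : MvPolynomial (Fin d) k) :
    pbar K hK2 (Ideal.Quotient.mk K p) = constantCoeff p := rfl

theorem pbar_surjective : Function.Surjective (pbar K hK2) := fun x =>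
  ⟨Ideal.Quotient.mk K (C x), by rw [pbar_mk, constantCoeff_C]⟩

theorem ker_pbar : RingHom.ker (pbar K hK2) =
    Ideal.span (Set.range fun i : Fin d => Ideal.Quotient.mk K (X i)) := by
  have h1 : Ideal.span (Set.range fun i : Fin d => Ideal.Quotient.mk K (X i)) =
      (idealOfVars (Fin d) k).map (Ideal.Quotient.mk K) := by
    rw [idealOfVars, Ideal.map_span, ← Set.range_comp]
    rfl
  rw [h1]
  ext x
  obtain ⟨p, rfl⟩ := Ideal.Quotient.mk_surjective x
  rw [RingHom.mem_ker, pbar_mk, Ideal.mem_quotient_iff_mem hK2, mem_idealOfVars_iff]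

include hK2 in
theorem ker_pbar_nilpotent (e : ℕ) (hK1 : ∀ i : Fin d, X i ^ e ∈ K) :
    ∃ N : ℕ, RingHom.ker (pbar K hK2) ^ N = ⊥ := by
  have hfg : (RingHom.ker (pbar K hK2)).FG := by
    rw [ker_pbar]
    exact Submodule.fg_span (Set.finite_range _)
  have hnil : IsNilpotent (RingHom.ker (pbar K hK2)) := by
    rw [hfg.isNilpotent_iff_le_nilradical, ker_pbar, Ideal.span_le]
    rintro _ ⟨i, rfl⟩
    refine ⟨e, ?_⟩
    rw [← map_pow]
    exact Ideal.Quotient.eq_zero_iff_mem.mpr (hK1 i)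
  obtain ⟨N, hN⟩ := hnil
  exact ⟨N, hN⟩

include hK2 in
theorem isUnit_of_notMem_ker (e : ℕ) (hK1 : ∀ i : Fin d, X i ^ e ∈ K)
    (x : MvPolynomial (Fin d) k ⧸ K) (hx : x ∉ RingHom.ker (pbar K hK2)) : IsUnit x := by
  obtain ⟨N, hN⟩ := ker_pbar_nilpotent K hK2 e hK1
  obtain ⟨p, rfl⟩ := Ideal.Quotient.mk_surjective x
  rw [RingHom.mem_ker, pbar_mk] at hx
  have h1 : Ideal.Quotient.mk K p =
      Ideal.Quotient.mk K (C (constantCoeff p)) + Ideal.Quotient.mk K (p - C (constantCoeff p)) := by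
    rw [← map_add]
    congr 1
    ring
  rw [h1]
  refine IsNilpotent.isUnit_add_left_of_commute ?_ ?_ (Commute.all _ _)
  · refine ⟨N, ?_⟩
    have h2 : Ideal.Quotient.mk K (p - C (constantCoeff p)) ∈ RingHom.ker (pbar K hK2) := by
      rw [RingHom.mem_ker, pbar_mk, map_sub, constantCoeff_C, sub_self]
    have h3 := Ideal.pow_mem_pow h2 N
    rw [hN] at h3
    exact h3
  · exact ((IsUnit.mk0 _ hx).map C).map (Ideal.Quotient.mk K)

end Rbar


section Local

variable {k Λ : Type u} [Field k] [CommRing Λ] [IsNoetherianRing Λ] [Algebra k Λ] {d : ℕ}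
  [Algebra (MvPolynomial (Fin d) k) Λ] [IsScalarTower k (MvPolynomial (Fin d) k) Λ]
  (𝔮 : Ideal Λ) [𝔮.IsPrime] [IsRegularLocalRing (Localization.AtPrime 𝔮)]
  (hd : ringKrullDim (Localization.AtPrime 𝔮) = d)
  (hπ : Ideal.span (Set.range fun i : Fin d => algebraMap Λ (Localization.AtPrime 𝔮)
      (algebraMap (MvPolynomial (Fin d) k) Λ (X i))) = maximalIdeal (Localization.AtPrime 𝔮))
  (K : Ideal (MvPolynomial (Fin d) k)) (hK2 : K ≤ idealOfVars (Fin d) k)

include hπ in
theorem algebraMap_mem_maximalIdeal (p : MvPolynomial (Fin d) k) (hp : p ∈ idealOfVars (Fin d) k) :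
    algebraMap (MvPolynomial (Fin d) k) (Localization.AtPrime 𝔮) p ∈
      maximalIdeal (Localization.AtPrime 𝔮) := by
  have h1 : idealOfVars (Fin d) k ≤ (maximalIdeal (Localization.AtPrime 𝔮)).comap
      (algebraMap (MvPolynomial (Fin d) k) (Localization.AtPrime 𝔮)) := by
    rw [idealOfVars, Ideal.span_le]
    rintro _ ⟨i, rfl⟩
    show algebraMap (MvPolynomial (Fin d) k) (Localization.AtPrime 𝔮) (X i) ∈
      maximalIdeal (Localization.AtPrime 𝔮)
    rw [← hπ, IsScalarTower.algebraMap_apply (MvPolynomial (Fin d) k) Λ (Localization.AtPrime 𝔮)]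
    exact Ideal.subset_span ⟨i, rfl⟩
  exact h1 hp

include hπ hK2 in
theorem map_le_maximalIdeal :
    K.map (algebraMap (MvPolynomial (Fin d) k) (Localization.AtPrime 𝔮)) ≤
      RingHom.ker (algebraMap (Localization.AtPrime 𝔮) 𝔮.ResidueField) := by
  rw [Ideal.map_le_iff_le_comap]
  intro p hp
  rw [Ideal.mem_comap, RingHom.mem_ker]
  have := algebraMap_mem_maximalIdeal 𝔮 hπ p (hK2 hp)
  rw [← IsLocalRing.ker_residue] at this
  exact this

/-- the residue map on the quotient -/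
noncomputable def qbar : (Localization.AtPrime 𝔮 ⧸
    K.map (algebraMap (MvPolynomial (Fin d) k) (Localization.AtPrime 𝔮))) →+* 𝔮.ResidueField :=
  Ideal.Quotient.lift _ (algebraMap (Localization.AtPrime 𝔮) 𝔮.ResidueField)
    (fun x hx => map_le_maximalIdeal 𝔮 hπ K hK2 hx)

theorem qbar_mk (x : Localization.AtPrime 𝔮) :
    qbar 𝔮 hπ K hK2 (Ideal.Quotient.mk _ x) = algebraMap (Localization.AtPrime 𝔮) 𝔮.ResidueField x :=
  rfl

theorem qbar_surjective : Function.Surjective (qbar 𝔮 hπ K hK2) := by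
  intro x
  obtain ⟨y, rfl⟩ := IsLocalRing.residue_surjective x
  exact ⟨Ideal.Quotient.mk _ y, rfl⟩

theorem qbar_comm (r : MvPolynomial (Fin d) k ⧸ K) :
    qbar 𝔮 hπ K hK2 (algebraMap (MvPolynomial (Fin d) k ⧸ K) _ r) =
      algebraMap k 𝔮.ResidueField (pbar K hK2 r) := by
  obtain ⟨p, rfl⟩ := Ideal.Quotient.mk_surjective r
  rw [pbar_mk]
  show algebraMap (Localization.AtPrime 𝔮) 𝔮.ResidueField
    (algebraMap (MvPolynomial (Fin d) k) (Localization.AtPrime 𝔮) p) = _
  have h1 : p = C (constantCoeff p) + (p - C (constantCoeff p)) := by ring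
  have h2 : algebraMap (Localization.AtPrime 𝔮) 𝔮.ResidueField
      (algebraMap (MvPolynomial (Fin d) k) (Localization.AtPrime 𝔮) (p - C (constantCoeff p))) = 0 := by
    have h3 := algebraMap_mem_maximalIdeal 𝔮 hπ (p - C (constantCoeff p))
      ((mem_idealOfVars_iff _).mpr (by rw [map_sub, constantCoeff_C, sub_self]))
    rw [← IsLocalRing.ker_residue] at h3
    exact h3
  have h4 : algebraMap (MvPolynomial (Fin d) k) (Localization.AtPrime 𝔮) (C (constantCoeff p)) =
      algebraMap k (Localization.AtPrime 𝔮) (constantCoeff p) := by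
    rw [IsScalarTower.algebraMap_apply (MvPolynomial (Fin d) k) Λ (Localization.AtPrime 𝔮),
      IsScalarTower.algebraMap_apply k Λ (Localization.AtPrime 𝔮),
      IsScalarTower.algebraMap_apply k (MvPolynomial (Fin d) k) Λ, MvPolynomial.algebraMap_eq]
  conv_lhs => rw [h1]
  rw [map_add, map_add, h2, add_zero, h4, ← IsScalarTower.algebraMap_apply]


theorem ker_qbar : RingHom.ker (qbar 𝔮 hπ K hK2) =
    (RingHom.ker (pbar K hK2)).map (algebraMap (MvPolynomial (Fin d) k ⧸ K)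
      (Localization.AtPrime 𝔮 ⧸
        K.map (algebraMap (MvPolynomial (Fin d) k) (Localization.AtPrime 𝔮)))) := by
  unfold qbar
  rw [Ideal.ker_quotient_lift, ker_pbar, Ideal.map_span, ← Set.range_comp]
  have h1 : RingHom.ker (algebraMap (Localization.AtPrime 𝔮) 𝔮.ResidueField) =
      maximalIdeal (Localization.AtPrime 𝔮) := IsLocalRing.ker_residue
  rw [h1, ← hπ, Ideal.map_span, ← Set.range_comp]
  congr 2

include hd hπ in
theorem flat_quot : Module.Flat (MvPolynomial (Fin d) k ⧸ K)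
    (Localization.AtPrime 𝔮 ⧸
      K.map (algebraMap (MvPolynomial (Fin d) k) (Localization.AtPrime 𝔮))) := by
  haveI : Module.Flat (MvPolynomial (Fin d) k) (Localization.AtPrime 𝔮) :=
    Groth.Agent.Lib.T2H8.SepB.flat_localization 𝔮 hd hπ
  exact Module.Flat.of_linearEquiv
    (Algebra.TensorProduct.quotIdealMapEquivQuotTensor (Localization.AtPrime 𝔮) K).toLinearEquiv

include hd hπ hK2 in
theorem indSmooth_quot [Algebra.IsGeometricallyReduced k 𝔮.ResidueField]
    (e : ℕ) (hK1 : ∀ i : Fin d, X i ^ e ∈ K) :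
    Smoothing.IndSmooth (MvPolynomial (Fin d) k ⧸ K)
      (Localization.AtPrime 𝔮 ⧸
        K.map (algebraMap (MvPolynomial (Fin d) k) (Localization.AtPrime 𝔮))) := by
  obtain ⟨N, hN⟩ := ker_pbar_nilpotent K hK2 e hK1
  haveI := flat_quot 𝔮 hd hπ K
  exact Groth.Agent.Lib.T2H3.IndSmooth.indSmooth_of_surj_pow N (pbar K hK2) (qbar 𝔮 hπ K hK2)
    (pbar_surjective K hK2) (qbar_surjective 𝔮 hπ K hK2) (qbar_comm 𝔮 hπ K hK2)
    (ker_qbar 𝔮 hπ K hK2) hN Groth.Agent.Lib.T2H8.SepA.indSmooth_of_geomReduced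

include hπ hK2 in
theorem ker_qbar_nilpotent (e : ℕ) (hK1 : ∀ i : Fin d, X i ^ e ∈ K) :
    ∃ N : ℕ, RingHom.ker (qbar 𝔮 hπ K hK2) ^ N = ⊥ := by
  obtain ⟨N, hN⟩ := ker_pbar_nilpotent K hK2 e hK1
  refine ⟨N, ?_⟩
  rw [ker_qbar, ← Ideal.map_pow, hN, Ideal.map_bot]

include hπ hK2 in
theorem dim_quot (e : ℕ) (hK1 : ∀ i : Fin d, X i ^ e ∈ K) :
    ringKrullDim (Localization.AtPrime 𝔮 ⧸
      K.map (algebraMap (MvPolynomial (Fin d) k) (Localization.AtPrime 𝔮))) = 0 := by
  obtain ⟨N, hN⟩ := ker_qbar_nilpotent 𝔮 hπ K hK2 e hK1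
  haveI hmax : (RingHom.ker (qbar 𝔮 hπ K hK2)).IsMaximal :=
    RingHom.ker_isMaximal_of_surjective _ (qbar_surjective 𝔮 hπ K hK2)
  haveI : Nontrivial (Localization.AtPrime 𝔮 ⧸
      K.map (algebraMap (MvPolynomial (Fin d) k) (Localization.AtPrime 𝔮))) :=
    (qbar 𝔮 hπ K hK2).domain_nontrivial
  rw [← ringKrullDimZero_iff_ringKrullDim_eq_zero, Ring.krullDimLE_zero_iff]
  intro P hP
  have h1 : RingHom.ker (qbar 𝔮 hπ K hK2) ≤ P := by
    intro x hx
    have h2 : x ^ N ∈ P := by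
      have h3 := Ideal.pow_mem_pow hx N
      rw [hN] at h3
      rw [(Submodule.mem_bot _).mp h3]
      exact P.zero_mem
    exact hP.mem_of_pow_mem N h2
  rw [← hmax.eq_of_le hP.ne_top h1]
  exact hmax


include hπ in
theorem algebraMap_mem_of_mem_idealOfVars (p : MvPolynomial (Fin d) k)
    (hp : p ∈ idealOfVars (Fin d) k) : algebraMap (MvPolynomial (Fin d) k) Λ p ∈ 𝔮 := by
  have h1 := algebraMap_mem_maximalIdeal 𝔮 hπ p hp
  rw [IsScalarTower.algebraMap_apply (MvPolynomial (Fin d) k) Λ (Localization.AtPrime 𝔮),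
    IsLocalization.AtPrime.to_map_mem_maximal_iff (Localization.AtPrime 𝔮) 𝔮] at h1
  exact h1

include hπ hK2 in
theorem map_le_q : K.map (algebraMap (MvPolynomial (Fin d) k) Λ) ≤ 𝔮 := by
  rw [Ideal.map_le_iff_le_comap]
  intro p hp
  exact algebraMap_mem_of_mem_idealOfVars 𝔮 hπ p (hK2 hp)

theorem map_map_eq : (K.map (algebraMap (MvPolynomial (Fin d) k) Λ)).map
    (algebraMap Λ (Localization.AtPrime 𝔮)) =
    K.map (algebraMap (MvPolynomial (Fin d) k) (Localization.AtPrime 𝔮)) := by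
  rw [Ideal.map_map, ← IsScalarTower.algebraMap_eq]


open TensorProduct in
include hd hπ hK2 in
theorem resolvable_reduced [Algebra.IsGeometricallyReduced k 𝔮.ResidueField]
    (e : ℕ) (hK1 : ∀ i : Fin d, X i ^ e ∈ K)
    {Ab : Type u} [CommRing Ab] [Algebra (MvPolynomial (Fin d) k ⧸ K) Ab]
    [Algebra.FinitePresentation (MvPolynomial (Fin d) k ⧸ K) Ab]
    (φb : Ab →ₐ[MvPolynomial (Fin d) k ⧸ K]
      (Λ ⧸ K.map (algebraMap (MvPolynomial (Fin d) k) Λ))) :
    Smoothing.Resolvable (MvPolynomial (Fin d) k ⧸ K) φb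
      (𝔮.map (Ideal.Quotient.mk (K.map (algebraMap (MvPolynomial (Fin d) k) Λ)))) := by
  classical
  have hJ𝔮 := map_le_q 𝔮 hπ K hK2
  haveI hqbP : (𝔮.map (Ideal.Quotient.mk (K.map (algebraMap (MvPolynomial (Fin d) k) Λ)))).IsPrime :=
    Ideal.map_isPrime_of_surjective Ideal.Quotient.mk_surjective (by rw [Ideal.mk_ker]; exact hJ𝔮)
  by_cases hle : Smoothing.singRad (MvPolynomial (Fin d) k ⧸ K) φb ≤
      𝔮.map (Ideal.Quotient.mk (K.map (algebraMap (MvPolynomial (Fin d) k) Λ)))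
  swap
  · exact ⟨Ab, inferInstance, inferInstance, inferInstance, AlgHom.id _ _, φb, AlgHom.comp_id _,
      le_rfl, hle⟩
  -- notation
  obtain ⟨N, hN⟩ := ker_qbar_nilpotent 𝔮 hπ K hK2 e hK1
  have hle' : K.map (algebraMap (MvPolynomial (Fin d) k) Λ) ≤
      (K.map (algebraMap (MvPolynomial (Fin d) k) (Localization.AtPrime 𝔮))).comap
        (algebraMap Λ (Localization.AtPrime 𝔮)) := by
    rw [← Ideal.map_le_iff_le_comap, map_map_eq]
  letI algΛbLq : Algebra (Λ ⧸ K.map (algebraMap (MvPolynomial (Fin d) k) Λ))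
      (Localization.AtPrime 𝔮 ⧸
        K.map (algebraMap (MvPolynomial (Fin d) k) (Localization.AtPrime 𝔮))) :=
    (Ideal.quotientMap _ (algebraMap Λ (Localization.AtPrime 𝔮)) hle').toAlgebra
  have halg : ∀ x : Λ, algebraMap (Λ ⧸ K.map (algebraMap (MvPolynomial (Fin d) k) Λ))
      (Localization.AtPrime 𝔮 ⧸
        K.map (algebraMap (MvPolynomial (Fin d) k) (Localization.AtPrime 𝔮)))
      (Ideal.Quotient.mk _ x) = Ideal.Quotient.mk _ (algebraMap Λ (Localization.AtPrime 𝔮) x) :=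
    fun x => rfl
  haveI tower : IsScalarTower (MvPolynomial (Fin d) k ⧸ K)
      (Λ ⧸ K.map (algebraMap (MvPolynomial (Fin d) k) Λ))
      (Localization.AtPrime 𝔮 ⧸
        K.map (algebraMap (MvPolynomial (Fin d) k) (Localization.AtPrime 𝔮))) := by
    refine IsScalarTower.of_algebraMap_eq (fun r => ?_)
    obtain ⟨r, rfl⟩ := Ideal.Quotient.mk_surjective r
    show Ideal.Quotient.mk _ (algebraMap (MvPolynomial (Fin d) k) (Localization.AtPrime 𝔮) r) =
      algebraMap (Λ ⧸ K.map (algebraMap (MvPolynomial (Fin d) k) Λ)) _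
        (Ideal.Quotient.mk _ (algebraMap (MvPolynomial (Fin d) k) Λ r))
    rw [halg, ← IsScalarTower.algebraMap_apply]
  -- the element-wise key fact: images of `𝔮` lie in `ker qbar`
  have hqker : ∀ y ∈ 𝔮, Ideal.Quotient.mk
      (K.map (algebraMap (MvPolynomial (Fin d) k) (Localization.AtPrime 𝔮)))
      (algebraMap Λ (Localization.AtPrime 𝔮) y) ∈ RingHom.ker (qbar 𝔮 hπ K hK2) := by
    intro y hy
    rw [RingHom.mem_ker, qbar_mk]
    have h1 : algebraMap Λ (Localization.AtPrime 𝔮) y ∈ maximalIdeal (Localization.AtPrime 𝔮) :=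
      (IsLocalization.AtPrime.to_map_mem_maximal_iff (Localization.AtPrime 𝔮) 𝔮 y).mpr hy
    rw [← IsLocalRing.ker_residue] at h1
    exact h1
  -- minimality
  have hmin : 𝔮.map (Ideal.Quotient.mk (K.map (algebraMap (MvPolynomial (Fin d) k) Λ))) ∈
      (Smoothing.singRad (MvPolynomial (Fin d) k ⧸ K) φb).minimalPrimes := by
    refine ⟨⟨hqbP, hle⟩, ?_⟩
    rintro P ⟨hP, -⟩ hPq x hx
    obtain ⟨y, rfl⟩ := Ideal.Quotient.mk_surjective x
    rw [Ideal.mem_quotient_iff_mem hJ𝔮] at hx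
    have h1 := Ideal.pow_mem_pow (hqker y hx) N
    rw [hN, Submodule.mem_bot, ← map_pow, ← map_pow, Ideal.Quotient.eq_zero_iff_mem,
      ← map_map_eq] at h1
    obtain ⟨s, hs, hsy⟩ :=
      Groth.Agent.Lib.T2H8.SmoothParams.exists_mul_mem_of_map_mem 𝔮 _ _ h1
    have h2 : Ideal.Quotient.mk (K.map (algebraMap (MvPolynomial (Fin d) k) Λ)) s *
        Ideal.Quotient.mk _ y ^ N ∈ P := by
      rw [← map_pow, ← map_mul, Ideal.Quotient.eq_zero_iff_mem.mpr hsy]
      exact P.zero_mem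
    have h3 : Ideal.Quotient.mk (K.map (algebraMap (MvPolynomial (Fin d) k) Λ)) s ∉ P := by
      intro h4
      have h5 := hPq h4
      rw [Ideal.mem_quotient_iff_mem hJ𝔮] at h5
      exact hs h5
    exact hP.mem_of_pow_mem N ((hP.mem_or_mem h2).resolve_left h3)
  -- localization of the base
  haveI locR : IsLocalization.AtPrime (MvPolynomial (Fin d) k ⧸ K)
      ((𝔮.map (Ideal.Quotient.mk (K.map (algebraMap (MvPolynomial (Fin d) k) Λ)))).comap
        (algebraMap (MvPolynomial (Fin d) k ⧸ K)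
          (Λ ⧸ K.map (algebraMap (MvPolynomial (Fin d) k) Λ)))) := by
    apply IsLocalization.of_le_isUnit
    intro x hx
    refine isUnit_of_notMem_ker K hK2 e hK1 x (fun hxk => hx ?_)
    have h1 : RingHom.ker (pbar K hK2) ≤
        (𝔮.map (Ideal.Quotient.mk (K.map (algebraMap (MvPolynomial (Fin d) k) Λ)))).comap
        (algebraMap (MvPolynomial (Fin d) k ⧸ K)
          (Λ ⧸ K.map (algebraMap (MvPolynomial (Fin d) k) Λ))) := by
      rw [ker_pbar, Ideal.span_le]
      rintro _ ⟨i, rfl⟩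
      rw [SetLike.mem_coe, Ideal.mem_comap]
      show Ideal.Quotient.mk (K.map (algebraMap (MvPolynomial (Fin d) k) Λ))
        (algebraMap (MvPolynomial (Fin d) k) Λ (X i)) ∈
        𝔮.map (Ideal.Quotient.mk (K.map (algebraMap (MvPolynomial (Fin d) k) Λ)))
      rw [Ideal.mem_quotient_iff_mem hJ𝔮]
      exact algebraMap_mem_of_mem_idealOfVars 𝔮 hπ _ (Ideal.subset_span ⟨i, rfl⟩)
    exact h1 hxk
  -- localization of `Λ ⧸ J`
  haveI locΛ : IsLocalization.AtPrime (Localization.AtPrime 𝔮 ⧸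
      K.map (algebraMap (MvPolynomial (Fin d) k) (Localization.AtPrime 𝔮)))
      (𝔮.map (Ideal.Quotient.mk (K.map (algebraMap (MvPolynomial (Fin d) k) Λ)))) := by
    have h1 := IsLocalization.of_surjective 𝔮.primeCompl (Localization.AtPrime 𝔮)
      (Ideal.Quotient.mk (K.map (algebraMap (MvPolynomial (Fin d) k) Λ)))
      Ideal.Quotient.mk_surjective
      (Ideal.Quotient.mk (K.map (algebraMap (MvPolynomial (Fin d) k) (Localization.AtPrime 𝔮))))
      Ideal.Quotient.mk_surjective (RingHom.ext fun x => (halg x).symm)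
      (by rw [Ideal.mk_ker, Ideal.mk_ker, map_map_eq])
    have h2 : 𝔮.primeCompl.map
        (Ideal.Quotient.mk (K.map (algebraMap (MvPolynomial (Fin d) k) Λ))) =
        (𝔮.map (Ideal.Quotient.mk (K.map (algebraMap (MvPolynomial (Fin d) k) Λ)))).primeCompl := by
      ext x
      obtain ⟨y, rfl⟩ := Ideal.Quotient.mk_surjective x
      constructor
      · rintro ⟨z, hz, hzy⟩
        rw [← hzy]
        exact fun hmem => hz ((Ideal.mem_quotient_iff_mem hJ𝔮).mp hmem)
      · intro hy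
        have hy' : Ideal.Quotient.mk _ y ∉
          𝔮.map (Ideal.Quotient.mk (K.map (algebraMap (MvPolynomial (Fin d) k) Λ))) := hy
        rw [Ideal.mem_quotient_iff_mem hJ𝔮] at hy'
        exact ⟨y, hy', rfl⟩
    rw [h2] at h1
    exact h1
  have hdim := dim_quot 𝔮 hπ K hK2 e hK1
  haveI : IsScalarTower (MvPolynomial (Fin d) k ⧸ K) (MvPolynomial (Fin d) k ⧸ K)
      (Localization.AtPrime 𝔮 ⧸
        K.map (algebraMap (MvPolynomial (Fin d) k) (Localization.AtPrime 𝔮))) :=
    ⟨fun x y z => mul_smul x y z⟩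
  refine Groth.Agent.S2034.result (Rₚ := MvPolynomial (Fin d) k ⧸ K)
    (Λq := Localization.AtPrime 𝔮 ⧸
      K.map (algebraMap (MvPolynomial (Fin d) k) (Localization.AtPrime 𝔮))) φb _ hmin hdim ?_
  -- the local resolution
  have hind := indSmooth_quot 𝔮 hd hπ K hK2 e hK1
  obtain ⟨D, _, _, hD, g, h, hcomp⟩ := hind ((MvPolynomial (Fin d) k ⧸ K) ⊗[MvPolynomial (Fin d) k ⧸ K] Ab)
    inferInstance (Algebra.TensorProduct.lift (Algebra.ofId _ _)
      ((IsScalarTower.toAlgHom (MvPolynomial (Fin d) k ⧸ K)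
        (Λ ⧸ K.map (algebraMap (MvPolynomial (Fin d) k) Λ)) _).comp φb)
      (fun _ _ => Commute.all _ _))
  haveI := hD
  have htop : Smoothing.singRad (MvPolynomial (Fin d) k ⧸ K) h = ⊤ := by
    unfold Smoothing.singRad Smoothing.singularIdeal
    rw [Algebra.smoothLocus_eq_univ, Set.compl_univ, PrimeSpectrum.vanishingIdeal_empty,
      Ideal.map_top, Ideal.radical_top]
  refine ⟨D, inferInstance, inferInstance, hD.finitePresentation, g, h, hcomp, ?_, ?_⟩
  · rw [htop]
    exact le_top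
  · rw [htop]
    intro hcon
    have h1 : 𝔮.map (Ideal.Quotient.mk (K.map (algebraMap (MvPolynomial (Fin d) k) Λ))) ≤
        (RingHom.ker (qbar 𝔮 hπ K hK2)).comap (algebraMap _ _) := by
      rw [Ideal.map_le_iff_le_comap]
      intro y hy
      exact hqker y hy
    have h2 : (1 : Localization.AtPrime 𝔮 ⧸
        K.map (algebraMap (MvPolynomial (Fin d) k) (Localization.AtPrime 𝔮))) ∈
        RingHom.ker (qbar 𝔮 hπ K hK2) :=
      (Ideal.map_le_iff_le_comap.mpr h1) (hcon Submodule.mem_top)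
    rw [RingHom.mem_ker, map_one] at h2
    exact one_ne_zero h2

end Local

end Groth.Agent.Lib.T2H8.SepD
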