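import Mathlib
import Groth.Agent.S6822
import Groth.Agent.Lib.T2H8SepC
import Groth.Agent.Lib.T2H8SepD
import Groth.Agent.Lib.T2H8ResB
import Groth.Agent.Lib.T2H8StrictStdConv

/-!
Helper library for S6823 (`Smoothing.resolvable_of_regular_of_separable_residueField`): monomial
ideal nonzerodivisor lemma, conversion of annihilator conditions, transfer of a resolution over
`k[x_1..x_d]` to one over `k`, and the main theorem `main` (Stacks 07F9-style argument: base change
to `k[x]`, Elkik's algebra `C`, the parameter lemma, the lifting lemma S6822 and the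
zero-dimensional case via ind-smoothness of separable residue field extensions).
-/

set_option autoImplicit false
universe u

namespace Groth.Agent.Lib.T2H8.SepE

open MvPolynomial IsLocalRing

section Mono

variable {k : Type u} [Field k] {σ : Type} (S : Set σ) (m : ℕ)

/-- a variable outside `S` is a nonzerodivisor modulo the monomial ideal `(x_j^m : j ∈ S)` -/
theorem X_mul_mem (i : σ) (hi : i ∉ S) (p : MvPolynomial σ k)
    (h : X i * p ∈ Ideal.span ((fun j => (X j : MvPolynomial σ k) ^ m) '' S)) :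
    p ∈ Ideal.span ((fun j => (X j : MvPolynomial σ k) ^ m) '' S) := by
  classical
  have himg : (fun j => (X j : MvPolynomial σ k) ^ m) '' S =
      (fun s => monomial s (1 : k)) '' ((fun j => Finsupp.single j m) '' S) := by
    rw [Set.image_image]
    congr 1
    funext j
    rw [X_pow_eq_monomial]
  rw [himg, mem_ideal_span_monomial_image] at h ⊢
  intro xi hxi
  have h1 : Finsupp.single i 1 + xi ∈ (X i * p).support := by
    rw [support_X_mul]
    exact Finset.mem_map.mpr ⟨xi, hxi, rfl⟩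
  obtain ⟨si, ⟨j, hj, rfl⟩, hle⟩ := h _ h1
  refine ⟨_, ⟨j, hj, rfl⟩, ?_⟩
  have hji : j ≠ i := fun hji => hi (hji ▸ hj)
  intro t
  by_cases ht : t = j
  · subst ht
    have := hle t
    simp only [Finsupp.add_apply, Finsupp.single_apply, if_neg (Ne.symm hji), zero_add,
      if_true] at this
    simpa using this
  · show (Finsupp.single j m) t ≤ xi t
    rw [Finsupp.single_apply, if_neg (Ne.symm ht)]
    exact Nat.zero_le _

theorem X_pow_mul_mem (i : σ) (hi : i ∉ S) (c : ℕ) (p : MvPolynomial σ k)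
    (h : X i ^ c * p ∈ Ideal.span ((fun j => (X j : MvPolynomial σ k) ^ m) '' S)) :
    p ∈ Ideal.span ((fun j => (X j : MvPolynomial σ k) ^ m) '' S) := by
  induction c with
  | zero => simpa using h
  | succ c ih =>
    apply ih
    apply X_mul_mem S m i hi
    rw [← mul_assoc, ← pow_succ']
    exact h

end Mono

theorem pow_mul_mem {Λ : Type*} [CommRing Λ] (J : Ideal Λ) (π : Λ)
    (h : ∀ y, π ^ 2 * y ∈ J → π * y ∈ J) (m : ℕ) (y : Λ) (hy : π ^ (m + 1) * y ∈ J) :
    π * y ∈ J := by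
  induction m generalizing y with
  | zero => simpa using hy
  | succ m ih =>
    have h1 : π ^ 2 * (π ^ m * y) ∈ J := by
      rw [← mul_assoc, ← pow_add, add_comm 2 m]
      exact hy
    have h2 := h _ h1
    rw [← mul_assoc, ← pow_succ'] at h2
    exact ih y h2


section Transfer

variable {k : Type u} [Field k] {d : ℕ}

theorem singularIdeal_le {D : Type u} [CommRing D] [Algebra k D]
    [Algebra (MvPolynomial (Fin d) k) D] [IsScalarTower k (MvPolynomial (Fin d) k) D] :
    Smoothing.singularIdeal (MvPolynomial (Fin d) k) D ≤ Smoothing.singularIdeal k D := by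
  unfold Smoothing.singularIdeal
  apply PrimeSpectrum.vanishingIdeal_anti_mono
  rw [Set.compl_subset_compl]
  intro P hP
  have h1 : Algebra.FormallySmooth (MvPolynomial (Fin d) k) (Localization.AtPrime P.asIdeal) := hP
  show Algebra.FormallySmooth k (Localization.AtPrime P.asIdeal)
  exact Algebra.FormallySmooth.comp k (MvPolynomial (Fin d) k) _

/-- transfer of a resolution over `k[x]` to one over `k` -/
theorem resolvable_of_poly {A Λ C : Type u} [CommRing A] [Algebra k A] [CommRing Λ] [Algebra k Λ]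
    [Algebra (MvPolynomial (Fin d) k) Λ] [IsScalarTower k (MvPolynomial (Fin d) k) Λ]
    [CommRing C] [Algebra (MvPolynomial (Fin d) k) C]
    (φ : A →ₐ[k] Λ) (𝔮 : Ideal Λ) (gA : A →+* C)
    (hgAk : ∀ x : k, gA (algebraMap k A x) =
      algebraMap (MvPolynomial (Fin d) k) C (MvPolynomial.C x))
    (ψ : C →ₐ[MvPolynomial (Fin d) k] Λ) (hψ : ∀ x, ψ (gA x) = φ x)
    {r : ℕ} (a : Fin r → A) (ha : Ideal.span (Set.range a) = Smoothing.singularIdeal k A)
    (hgAH : ∀ j, gA (a j) ∈ Smoothing.singularIdeal (MvPolynomial (Fin d) k) C)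
    (hres : Smoothing.Resolvable (MvPolynomial (Fin d) k) ψ 𝔮) :
    Smoothing.Resolvable k φ 𝔮 := by
  obtain ⟨D, _, _, hDfp, g, h, hcomp, hle, hnot⟩ := hres
  haveI := hDfp
  letI algkD : Algebra k D :=
    ((algebraMap (MvPolynomial (Fin d) k) D).comp (algebraMap k (MvPolynomial (Fin d) k))).toAlgebra
  haveI : IsScalarTower k (MvPolynomial (Fin d) k) D :=
    IsScalarTower.of_algebraMap_eq (fun x => rfl)
  haveI : Algebra.FinitePresentation k D :=
    Algebra.FinitePresentation.trans k (MvPolynomial (Fin d) k) D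
  let g' : A →ₐ[k] D :=
    { toRingHom := g.toRingHom.comp gA
      commutes' := fun x => by
        show g (gA (algebraMap k A x)) = algebraMap k D x
        rw [hgAk, g.commutes]
        rfl }
  let h' : D →ₐ[k] Λ := h.restrictScalars k
  have hsub : Smoothing.singRad (MvPolynomial (Fin d) k) h ≤ Smoothing.singRad k h' := by
    unfold Smoothing.singRad
    apply Ideal.radical_mono
    show (Smoothing.singularIdeal (MvPolynomial (Fin d) k) D).map h.toRingHom ≤
      (Smoothing.singularIdeal k D).map h.toRingHom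
    exact Ideal.map_mono singularIdeal_le
  refine ⟨D, inferInstance, algkD, inferInstance, g', h', ?_, ?_, fun hcon => hnot (hsub.trans hcon)⟩
  · ext x
    show h (g (gA x)) = φ x
    rw [← hψ]
    exact DFunLike.congr_fun hcomp (gA x)
  · refine le_trans ?_ (hle.trans hsub)
    unfold Smoothing.singRad
    rw [Ideal.radical_le_radical_iff, Ideal.map_le_iff_le_comap, ← ha, Ideal.span_le]
    rintro _ ⟨j, rfl⟩
    rw [SetLike.mem_coe, Ideal.mem_comap, ← hψ]
    exact Ideal.le_radical (Ideal.mem_map_of_mem _ (hgAH j))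

end Transfer


section Conv

theorem hR_poly {k : Type u} [Field k] {d : ℕ} (c : ℕ) (i : Fin d)
    (x : MvPolynomial (Fin d) k ⧸ Ideal.span (Set.range
      fun j : {j : Fin d // (j : ℕ) < (i : ℕ)} => ((X (j : Fin d) : MvPolynomial (Fin d) k) ^ c) ^ 8))
    (hx : Ideal.Quotient.mk _ (X i ^ c) ^ 2 * x = 0) : Ideal.Quotient.mk _ (X i ^ c) * x = 0 := by
  obtain ⟨p, rfl⟩ := Ideal.Quotient.mk_surjective x
  have hJ : Ideal.span (Set.range
      fun j : {j : Fin d // (j : ℕ) < (i : ℕ)} => ((X (j : Fin d) : MvPolynomial (Fin d) k) ^ c) ^ 8) =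
      Ideal.span ((fun j => (X j : MvPolynomial (Fin d) k) ^ (c * 8)) ''
        {j : Fin d | (j : ℕ) < (i : ℕ)}) := by
    congr 1
    ext q
    constructor
    · rintro ⟨⟨j, hj⟩, rfl⟩
      exact ⟨j, hj, by simp only [pow_mul]⟩
    · rintro ⟨j, hj, rfl⟩
      exact ⟨⟨j, hj⟩, by simp only [pow_mul]⟩
  rw [← map_pow, ← map_mul, Ideal.Quotient.eq_zero_iff_mem, hJ, ← pow_mul] at hx
  have hp := X_pow_mul_mem {j : Fin d | (j : ℕ) < (i : ℕ)} (c * 8) i
    (by simp) (c * 2) p hx
  rw [← hJ] at hp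
  rw [Ideal.Quotient.eq_zero_iff_mem.mpr hp, mul_zero]

theorem hΛ_gen {Λ : Type u} [CommRing Λ] {d : ℕ} (π f : Fin d → Λ) (c : ℕ) (hc : 0 < c)
    (hf : ∀ j, f j = π j ^ c) (i : Fin d)
    (hann : ∀ y : Λ,
      π i ^ 2 * y ∈ Ideal.span (Set.range fun j : {j : Fin d // (j : ℕ) < (i : ℕ)} =>
        π j ^ (c * 8)) →
      π i * y ∈ Ideal.span (Set.range fun j : {j : Fin d // (j : ℕ) < (i : ℕ)} => π j ^ (c * 8)))
    (x : Λ ⧸ Ideal.span (Set.range fun j : {j : Fin d // (j : ℕ) < (i : ℕ)} => f j ^ 8))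
    (hx : Ideal.Quotient.mk _ (f i) ^ 2 * x = 0) : Ideal.Quotient.mk _ (f i) * x = 0 := by
  have hfun : f = fun j => π j ^ c := funext hf
  subst hfun
  obtain ⟨y, rfl⟩ := Ideal.Quotient.mk_surjective x
  have hJ : Ideal.span (Set.range fun j : {j : Fin d // (j : ℕ) < (i : ℕ)} =>
      (π j ^ c) ^ 8) =
      Ideal.span (Set.range fun j : {j : Fin d // (j : ℕ) < (i : ℕ)} => π j ^ (c * 8)) := by
    congr 2
    funext j
    rw [pow_mul]
  rw [← map_pow, ← map_mul, Ideal.Quotient.eq_zero_iff_mem] at hx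
  rw [← map_mul, Ideal.Quotient.eq_zero_iff_mem]
  simp only [] at hx ⊢
  rw [hJ] at hx ⊢
  obtain ⟨c', rfl⟩ : ∃ c', c = c' + 1 := ⟨c - 1, by omega⟩
  have h1 : π i ^ ((c' + 1) * 2 - 1 + 1) * y ∈
      Ideal.span (Set.range fun j : {j : Fin d // (j : ℕ) < (i : ℕ)} => π j ^ ((c' + 1) * 8)) := by
    have : (c' + 1) * 2 - 1 + 1 = (c' + 1) * 2 := by omega
    rw [this, pow_mul]
    exact hx
  have h2 := pow_mul_mem _ (π i) hann _ y h1
  rw [pow_succ, mul_assoc]
  exact Ideal.mul_mem_left _ _ h2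

end Conv


section Main

open Groth.Agent.Lib.T2H8.ResB

theorem main {k A Λ : Type u} [Field k] [CommRing A]
    [Algebra k A] [Algebra.FinitePresentation k A] [CommRing Λ] [Algebra k Λ] [IsNoetherianRing Λ]
    (φ : A →ₐ[k] Λ) (𝔮 : Ideal Λ) [𝔮.IsPrime] (hmin : 𝔮 ∈ (Smoothing.singRad k φ).minimalPrimes)
    [IsRegularLocalRing (Localization.AtPrime 𝔮)]
    [Algebra.IsGeometricallyReduced k 𝔮.ResidueField] : Smoothing.Resolvable k φ 𝔮 := by
  classical
  obtain ⟨d, hd⟩ : ∃ d : ℕ, ringKrullDim (Localization.AtPrime 𝔮) = d :=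
    ⟨_, (IsRegularLocalRing.spanFinrank_maximalIdeal).symm⟩
  -- generators of the singular ideal
  haveI : IsNoetherianRing A := Algebra.FiniteType.isNoetherianRing k A
  obtain ⟨r, a, ha⟩ := Submodule.fg_iff_exists_fin_generating_family.mp
    ((isNoetherianRing_iff_ideal_fg A).mp inferInstance (Smoothing.singularIdeal k A))
  have ha_span : Ideal.span (Set.range a) = Smoothing.singularIdeal k A := ha
  have ha_mem : ∀ j, a j ∈ Smoothing.singularIdeal k A := fun j => by
    rw [← ha_span]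
    exact Ideal.subset_span ⟨j, rfl⟩
  -- the ideal `I` and the exponent `n`
  have hminI : 𝔮 ∈ ((Smoothing.singularIdeal k A).map φ).minimalPrimes := by
    rw [← Ideal.radical_minimalPrimes]
    exact hmin
  have hI𝔮 : (Smoothing.singularIdeal k A).map φ ≤ 𝔮 := hminI.1.2
  obtain ⟨n, hn, hpow⟩ := Groth.Agent.Lib.T2H8.SepB.exists_pow_map_le _ 𝔮 hminI
  -- the algebra `C`
  obtain ⟨C, _, _, gA, hgAk, hCfp, ⟨c, hc, hstd⟩, hgAH, huniv⟩ :=
    Groth.Agent.Lib.T2H8.SepC.exists_C d r n a ha_mem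
  haveI := hCfp
  -- parameters
  obtain ⟨π, hπspan, hπI, hπann⟩ := Groth.Agent.Lib.T2H8.SepB.main_n _ 𝔮 hI𝔮 n (c * 8) d hn
    (by omega) hpow hd
  have hlamex : ∀ i, ∃ lam : Fin r → Λ, π i ^ n = ∑ j, lam j * φ (a j) := by
    intro i
    have h1 := hπI i
    rw [← ha_span, Ideal.map_span, ← Set.range_comp] at h1
    obtain ⟨lam, hlam⟩ := (Ideal.mem_span_range_iff_exists_fun).mp h1
    exact ⟨lam, hlam.symm⟩
  choose lam hlam using hlamex
  -- the algebra structure
  letI algRΛ : Algebra (MvPolynomial (Fin d) k) Λ := (aeval π : MvPolynomial (Fin d) k →ₐ[k] Λ).toRingHom.toAlgebra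
  haveI : IsScalarTower k (MvPolynomial (Fin d) k) Λ :=
    IsScalarTower.of_algebraMap_eq (fun x => ((aeval π : MvPolynomial (Fin d) k →ₐ[k] Λ).commutes x).symm)
  have hX : ∀ i, algebraMap (MvPolynomial (Fin d) k) Λ (X i) = π i := fun i => aeval_X π i
  obtain ⟨ψ, hψ⟩ := huniv Λ φ lam (fun i => by rw [hX]; exact hlam i)
  apply resolvable_of_poly φ 𝔮 gA hgAk ψ hψ a ha_span hgAH
  -- the regular system of parameters
  have hπ : Ideal.span (Set.range fun i : Fin d => algebraMap Λ (Localization.AtPrime 𝔮)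
      (algebraMap (MvPolynomial (Fin d) k) Λ (X i))) = maximalIdeal (Localization.AtPrime 𝔮) := by
    simp only [hX]
    rw [hπspan, Localization.AtPrime.map_eq_maximalIdeal]
  have hπ𝔮 : ∀ i, π i ∈ 𝔮 := fun i => by
    rw [← hX]
    exact Groth.Agent.Lib.T2H8.SepD.algebraMap_mem_of_mem_idealOfVars 𝔮 hπ _
      (Ideal.subset_span ⟨i, rfl⟩)
  -- the reduced problem
  have key : ∀ K : Ideal (MvPolynomial (Fin d) k), K ≤ idealOfVars (Fin d) k →
      (∀ i : Fin d, X i ^ (c * 8) ∈ K) →
      Smoothing.Resolvable (MvPolynomial (Fin d) k ⧸ K) (phiI ψ K)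
        (𝔮.map (Ideal.Quotient.mk (K.map (algebraMap (MvPolynomial (Fin d) k) Λ)))) := by
    intro K hK2 hK1
    haveI := finitePresentation_quotient (A := C) K
    exact Groth.Agent.Lib.T2H8.SepD.resolvable_reduced 𝔮 hd hπ K hK2 (c * 8) hK1 (phiI ψ K)
  rcases Nat.eq_zero_or_pos d with hd0 | hdpos
  · refine Groth.Agent.S6822.result ψ 𝔮 (r := 1) Nat.one_pos (fun _ => 0) ?_ ?_ ?_ ?_
      (Ideal.span (Set.range fun _ : Fin 1 => (0 : MvPolynomial (Fin d) k) ^ 8)) rfl
      (phiI ψ _) (fun a => phiI_mk ψ _ a) (key _ ?_ ?_)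
    · intro i
      simp
    · intro i x _
      simp
    · intro i x _
      simp
    · intro i
      simp only [map_zero]
      exact Groth.Agent.Lib.T2H8.StrictStdConv.isStrictlyStandard_zero
    · rw [Ideal.span_le]
      rintro _ ⟨_, rfl⟩
      simp
    · intro i
      exact absurd i.2 (by omega)
  · refine Groth.Agent.S6822.result ψ 𝔮 (r := d) hdpos (fun i => X i ^ c) ?_ ?_ ?_ hstd
      (Ideal.span (Set.range fun i : Fin d => ((X i : MvPolynomial (Fin d) k) ^ c) ^ 8)) rfl
      (phiI ψ _) (fun a => phiI_mk ψ _ a) (key _ ?_ ?_)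
    · intro i
      show algebraMap (MvPolynomial (Fin d) k) Λ (X i ^ c) ∈ 𝔮
      rw [map_pow, hX]
      exact Ideal.pow_mem_of_mem 𝔮 (hπ𝔮 i) c hc
    · exact fun i x hx => hR_poly c i x hx
    · exact fun i x hx => hΛ_gen π (fun j => algebraMap (MvPolynomial (Fin d) k) Λ (X j ^ c)) c hc
        (fun j => by rw [map_pow, hX]) i (hπann i) x hx
    · rw [Ideal.span_le]
      rintro _ ⟨i, rfl⟩
      have h0 : (X i : MvPolynomial (Fin d) k) ∈ idealOfVars (Fin d) k :=
        Ideal.subset_span ⟨i, rfl⟩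
      exact Ideal.pow_mem_of_mem _ (Ideal.pow_mem_of_mem _ h0 c hc) 8 (by norm_num)
    · intro i
      rw [pow_mul]
      exact Ideal.subset_span ⟨i, rfl⟩

end Main

end Groth.Agent.Lib.T2H8.SepE
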