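import Mathlib
import Groth.Agent.S6822
import Groth.Agent.Lib.T2H6StdBaseChange
import Groth.Agent.Lib.T2H8SepE
import Groth.Agent.Lib.T2H8ResB
import Groth.Agent.Lib.T2H8StrictStdConv
import Groth.Agent.Lib.T2H8DelocA
import Groth.Agent.Lib.T2H8DimZero

/-!
# Transfer from a smooth base `R` to `k`, and the lifting step (helper for S6824)
-/

set_option autoImplicit false
universe u

namespace Groth.Agent.Lib.T2H8.InsepACL

open MvPolynomial TensorProduct

section Transfer

theorem singularIdeal_le {k R D : Type u} [CommRing k] [CommRing R] [Algebra k R]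
    [Algebra.FormallySmooth k R] [CommRing D] [Algebra k D] [Algebra R D] [IsScalarTower k R D] :
    Smoothing.singularIdeal R D ≤ Smoothing.singularIdeal k D := by
  unfold Smoothing.singularIdeal
  apply PrimeSpectrum.vanishingIdeal_anti_mono
  rw [Set.compl_subset_compl]
  intro P hP
  have h1 : Algebra.FormallySmooth R (Localization.AtPrime P.asIdeal) := hP
  show Algebra.FormallySmooth k (Localization.AtPrime P.asIdeal)
  exact Algebra.FormallySmooth.comp k R _

/-- transfer of a resolution over a smooth `k`-algebra `R` to one over `k` -/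
theorem resolvable_of_smooth {k R A Λ C : Type u} [CommRing k] [CommRing R] [Algebra k R]
    [Algebra.FinitePresentation k R] [Algebra.FormallySmooth k R]
    [CommRing A] [Algebra k A] [CommRing Λ] [Algebra k Λ]
    [Algebra R Λ] [IsScalarTower k R Λ] [CommRing C] [Algebra R C]
    (φ : A →ₐ[k] Λ) (𝔮 : Ideal Λ) (gA : A →+* C)
    (hgAk : ∀ x : k, gA (algebraMap k A x) = algebraMap R C (algebraMap k R x))
    (ψ : C →ₐ[R] Λ) (hψ : ∀ x, ψ (gA x) = φ x)
    {r : ℕ} (a : Fin r → A) (ha : Ideal.span (Set.range a) = Smoothing.singularIdeal k A)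
    (hgAH : ∀ j, gA (a j) ∈ Smoothing.singularIdeal R C)
    (hres : Smoothing.Resolvable R ψ 𝔮) :
    Smoothing.Resolvable k φ 𝔮 := by
  obtain ⟨D, _, _, hDfp, g, h, hcomp, hle, hnot⟩ := hres
  haveI := hDfp
  letI algkD : Algebra k D := ((algebraMap R D).comp (algebraMap k R)).toAlgebra
  haveI : IsScalarTower k R D := IsScalarTower.of_algebraMap_eq (fun x => rfl)
  haveI : Algebra.FinitePresentation k D := Algebra.FinitePresentation.trans k R D
  let g' : A →ₐ[k] D :=
    { toRingHom := g.toRingHom.comp gA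
      commutes' := fun x => by
        show g (gA (algebraMap k A x)) = algebraMap k D x
        rw [hgAk, g.commutes]
        rfl }
  let h' : D →ₐ[k] Λ := h.restrictScalars k
  have hsub : Smoothing.singRad R h ≤ Smoothing.singRad k h' := by
    unfold Smoothing.singRad
    apply Ideal.radical_mono
    show (Smoothing.singularIdeal R D).map h.toRingHom ≤
      (Smoothing.singularIdeal k D).map h.toRingHom
    exact Ideal.map_mono singularIdeal_le
  refine ⟨D, inferInstance, algkD, inferInstance, g', h', ?_, ?_, fun hcon => hnot (hsub.trans hcon)⟩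
  · ext x
    show h (g (gA x)) = φ x
    rw [← hψ]
    exact DFunLike.congr_fun hcomp (gA x)
  · refine le_trans ?_ (hle.trans hsub)
    unfold Smoothing.singRad
    rw [Ideal.radical_le_radical_iff, Ideal.map_le_iff_le_comap, ← ha, Ideal.span_le]
    rintro _ ⟨j, rfl⟩
    rw [SetLike.mem_coe, Ideal.mem_comap, ← hψ]
    exact Ideal.le_radical (Ideal.mem_map_of_mem _ (hgAH j))

theorem mem_singularIdeal_baseChange {S R C : Type u} [CommRing S] [CommRing R] [Algebra S R]
    [CommRing C] [Algebra S C] [Algebra.FinitePresentation S C] (x : C)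
    (hx : x ∈ Smoothing.singularIdeal S C) :
    (1 : R) ⊗ₜ[S] x ∈ Smoothing.singularIdeal R (R ⊗[S] C) := by
  haveI := Groth.Agent.Lib.T2H8.DelocA.formallySmooth_away_of_mem x hx
  haveI : Algebra.FormallySmooth R (R ⊗[S] Localization.Away x) := inferInstance
  have h : Algebra.FormallySmooth R (Localization.Away ((1 : R) ⊗ₜ[S] x)) :=
    Algebra.FormallySmooth.of_equiv
      (IsLocalization.Away.tensorProductEquivTMulRight S R x (Localization.Away x))
  exact Groth.Agent.Lib.T2H8.DimZero.mem_singularIdeal_of_formallySmooth_away _ h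

end Transfer

section ACL

open Groth.Agent.Lib.T2H8.ResB

variable {k A Λ : Type u} [Field k] [CommRing A] [Algebra k A] [Algebra.FinitePresentation k A]
  [CommRing Λ] [Algebra k Λ]

theorem acl (φ : A →ₐ[k] Λ) (𝔮 : Ideal Λ) [𝔮.IsPrime] {d r : ℕ} (a : Fin r → A)
    (ha : Ideal.span (Set.range a) = Smoothing.singularIdeal k A)
    {C : Type u} [CommRing C] [Algebra (MvPolynomial (Fin d) k) C]
    [Algebra.FinitePresentation (MvPolynomial (Fin d) k) C] (gA : A →+* C)
    (hgAk : ∀ x : k, gA (algebraMap k A x) =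
      algebraMap (MvPolynomial (Fin d) k) C (MvPolynomial.C x))
    (c : ℕ) (hc : 0 < c)
    (hstd : ∀ i : Fin d, Smoothing.IsStrictlyStandard (MvPolynomial (Fin d) k) C
      (algebraMap (MvPolynomial (Fin d) k) C (X i ^ c)))
    (hgAH : ∀ j, gA (a j) ∈ Smoothing.singularIdeal (MvPolynomial (Fin d) k) C)
    {R : Type u} [CommRing R] [IsNoetherianRing R] [Algebra k R] [Algebra.FinitePresentation k R]
    [Algebra.FormallySmooth k R] [Algebra (MvPolynomial (Fin d) k) R]
    [IsScalarTower k (MvPolynomial (Fin d) k) R]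
    [Algebra R Λ] [IsScalarTower k R Λ] [Algebra (MvPolynomial (Fin d) k) Λ]
    [IsScalarTower (MvPolynomial (Fin d) k) R Λ]
    (ψ : C →ₐ[MvPolynomial (Fin d) k] Λ) (hψ : ∀ x, ψ (gA x) = φ x)
    (hγ𝔮 : ∀ i : Fin d, algebraMap (MvPolynomial (Fin d) k) Λ (X i) ∈ 𝔮)
    (hR : ∀ i : Fin d, ∀ y : R,
      algebraMap (MvPolynomial (Fin d) k) R (X i) ^ 2 * y ∈ Ideal.span (Set.range
        fun j : {j : Fin d // (j : ℕ) < (i : ℕ)} =>
          algebraMap (MvPolynomial (Fin d) k) R (X (j : Fin d)) ^ (c * 8)) →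
      algebraMap (MvPolynomial (Fin d) k) R (X i) * y ∈ Ideal.span (Set.range
        fun j : {j : Fin d // (j : ℕ) < (i : ℕ)} =>
          algebraMap (MvPolynomial (Fin d) k) R (X (j : Fin d)) ^ (c * 8)))
    (hΛ : ∀ i : Fin d, ∀ y : Λ,
      algebraMap (MvPolynomial (Fin d) k) Λ (X i) ^ 2 * y ∈ Ideal.span (Set.range
        fun j : {j : Fin d // (j : ℕ) < (i : ℕ)} =>
          algebraMap (MvPolynomial (Fin d) k) Λ (X (j : Fin d)) ^ (c * 8)) →
      algebraMap (MvPolynomial (Fin d) k) Λ (X i) * y ∈ Ideal.span (Set.range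
        fun j : {j : Fin d // (j : ℕ) < (i : ℕ)} =>
          algebraMap (MvPolynomial (Fin d) k) Λ (X (j : Fin d)) ^ (c * 8)))
    (K : Ideal R) (hK : K = Ideal.span (Set.range fun i : Fin d =>
      (algebraMap (MvPolynomial (Fin d) k) R (X i) ^ c) ^ 8))
    (hred : Smoothing.Resolvable (R ⧸ K)
      (phiI (Algebra.TensorProduct.lift (Algebra.ofId R Λ) ψ (fun _ _ => Commute.all _ _) :
        R ⊗[MvPolynomial (Fin d) k] C →ₐ[R] Λ) K)
      (𝔮.map (Ideal.Quotient.mk (K.map (algebraMap R Λ))))) :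
    Smoothing.Resolvable k φ 𝔮 := by
  classical
  obtain ⟨ψR, hψR⟩ : ∃ ψR : R ⊗[MvPolynomial (Fin d) k] C →ₐ[R] Λ,
      ψR = Algebra.TensorProduct.lift (Algebra.ofId R Λ) ψ (fun _ _ => Commute.all _ _) :=
    ⟨_, rfl⟩
  rw [← hψR] at hred
  have hψRt : ∀ (s : R) (x : C), ψR (s ⊗ₜ x) = algebraMap R Λ s * ψ x := by
    intro s x
    rw [hψR, Algebra.TensorProduct.lift_tmul]
    rfl
  let gA' : A →+* R ⊗[MvPolynomial (Fin d) k] C :=
    (Algebra.TensorProduct.includeRight :
      C →ₐ[MvPolynomial (Fin d) k] R ⊗[MvPolynomial (Fin d) k] C).toRingHom.comp gA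
  have hgA' : ∀ x, gA' x = (1 : R) ⊗ₜ[MvPolynomial (Fin d) k] gA x := fun x => rfl
  have htm : ∀ q : MvPolynomial (Fin d) k,
      (1 : R) ⊗ₜ[MvPolynomial (Fin d) k] algebraMap (MvPolynomial (Fin d) k) C q =
      algebraMap R (R ⊗[MvPolynomial (Fin d) k] C) (algebraMap (MvPolynomial (Fin d) k) R q) := by
    intro q
    rw [Algebra.TensorProduct.algebraMap_apply, Algebra.algebraMap_self, RingHom.id_apply,
      Algebra.algebraMap_eq_smul_one, Algebra.algebraMap_eq_smul_one (A := R),
      TensorProduct.tmul_smul, TensorProduct.smul_tmul']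
  apply resolvable_of_smooth φ 𝔮 gA' ?_ ψR ?_ a ha ?_
  rotate_left
  · intro x
    rw [hgA', hgAk, htm]
    congr 1
    rw [IsScalarTower.algebraMap_apply k (MvPolynomial (Fin d) k) R, MvPolynomial.algebraMap_eq]
  · intro x
    rw [hgA', hψRt, map_one, one_mul, hψ]
  · intro j
    rw [hgA']
    exact mem_singularIdeal_baseChange _ (hgAH j)
  -- the lifting step
  have hmapX : ∀ i : Fin d, algebraMap R Λ (algebraMap (MvPolynomial (Fin d) k) R (X i)) =
      algebraMap (MvPolynomial (Fin d) k) Λ (X i) := fun i =>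
    (IsScalarTower.algebraMap_apply (MvPolynomial (Fin d) k) R Λ (X i)).symm
  rcases Nat.eq_zero_or_pos d with hd0 | hdpos
  · subst hd0
    have hK0 : K = Ideal.span (Set.range fun _ : Fin 1 => (0 : R) ^ 8) := by
      rw [hK]
      have h1 : (Set.range fun i : Fin 0 =>
          (algebraMap (MvPolynomial (Fin 0) k) R (X i) ^ c) ^ 8) = ∅ := Set.range_eq_empty _
      rw [h1, Ideal.span_empty]
      symm
      rw [Ideal.span_eq_bot]
      rintro _ ⟨_, rfl⟩
      simp
    refine Groth.Agent.S6822.result ψR 𝔮 (r := 1) Nat.one_pos (fun _ => 0) ?_ ?_ ?_ ?_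
      K hK0 (phiI ψR K) (fun a => phiI_mk ψR K a) hred
    · intro i
      simp
    · intro i x _
      simp
    · intro i x _
      simp
    · intro i
      simp only [map_zero]
      exact Groth.Agent.Lib.T2H8.StrictStdConv.isStrictlyStandard_zero
  · refine Groth.Agent.S6822.result ψR 𝔮 (r := d) hdpos
      (fun i => algebraMap (MvPolynomial (Fin d) k) R (X i) ^ c) ?_ ?_ ?_ ?_
      K hK (phiI ψR K) (fun a => phiI_mk ψR K a) hred
    · intro i
      show algebraMap R Λ (algebraMap (MvPolynomial (Fin d) k) R (X i) ^ c) ∈ 𝔮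
      rw [map_pow, hmapX]
      exact Ideal.pow_mem_of_mem 𝔮 (hγ𝔮 i) c hc
    · exact fun i x hx => Groth.Agent.Lib.T2H8.SepE.hΛ_gen
        (fun j => algebraMap (MvPolynomial (Fin d) k) R (X j))
        (fun j => algebraMap (MvPolynomial (Fin d) k) R (X j) ^ c) c hc (fun j => rfl) i (hR i) x hx
    · exact fun i x hx => Groth.Agent.Lib.T2H8.SepE.hΛ_gen
        (fun j => algebraMap (MvPolynomial (Fin d) k) Λ (X j))
        (fun j => algebraMap R Λ (algebraMap (MvPolynomial (Fin d) k) R (X j) ^ c)) c hc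
        (fun j => by rw [map_pow, hmapX]) i (hΛ i) x hx
    · intro i
      have h1 := Groth.Agent.Lib.T2H6.StdBaseChange.isStrictlyStandard_BC (R' := R)
        (algebraMap (MvPolynomial (Fin d) k) C (X i ^ c)) (hstd i)
      rw [htm, map_pow] at h1
      exact h1

end ACL

end Groth.Agent.Lib.T2H8.InsepACL
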