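import Mathlib
import Groth.Agent.Lib.T2H8InsepACL

/-!
# If the singular ideal extends to the unit ideal, the map factors through a smooth algebra
(helper for S0595; Stacks 07CF-type lemma)
-/

set_option autoImplicit false
universe u

namespace Groth.Agent.Lib.T2H8.PopTop

open TensorProduct MvPolynomial

theorem exists_smooth_of_map_eq_top {R A Λ : Type u} [CommRing R] [CommRing A] [Algebra R A]
    [Algebra.FinitePresentation R A] [CommRing Λ] [Algebra R Λ] (f : A →ₐ[R] Λ)
    (htop : (Smoothing.singularIdeal R A).map f = ⊤) :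
    ∃ (B : Type u) (_ : CommRing B) (_ : Algebra R B), Algebra.Smooth R B ∧
      ∃ (g : A →ₐ[R] B) (h : B →ₐ[R] Λ), h.comp g = f := by
  classical
  have h1 : (1 : Λ) ∈ Submodule.span Λ (f '' (Smoothing.singularIdeal R A : Set A)) := by
    have : (1 : Λ) ∈ (Smoothing.singularIdeal R A).map f := by rw [htop]; trivial
    exact this
  obtain ⟨c, t, ht, -, hsum⟩ := Submodule.mem_span_iff_exists_finset_subset.mp h1
  have hex : ∀ y : {y // y ∈ t}, ∃ a ∈ Smoothing.singularIdeal R A, f a = y.1 := fun y => ht y.2
  choose a ha hfa using hex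
  let P := MvPolynomial {y // y ∈ t} R
  let A' := P ⊗[R] A
  haveI : Algebra.FinitePresentation R A' := Algebra.FinitePresentation.trans R P A'
  have hmem : ∀ y, ((1 : P) ⊗ₜ[R] (a y) : A') ∈ Smoothing.singularIdeal R A' := fun y =>
    Groth.Agent.Lib.T2H8.InsepACL.singularIdeal_le (k := R) (R := P) (D := A')
      (Groth.Agent.Lib.T2H8.InsepACL.mem_singularIdeal_baseChange (S := R) (R := P) (a y) (ha y))
  let a' : A' := ∑ y, ((X y : P) ⊗ₜ[R] (1 : A)) * ((1 : P) ⊗ₜ[R] (a y))
  have ha' : a' ∈ Smoothing.singularIdeal R A' :=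
    Ideal.sum_mem _ fun y _ => Ideal.mul_mem_left _ _ (hmem y)
  let F : A' →ₐ[R] Λ := Algebra.TensorProduct.lift (aeval fun y : {y // y ∈ t} => c y.1) f
    (fun _ _ => Commute.all _ _)
  have hF : F a' = 1 := by
    rw [map_sum, ← hsum, ← Finset.sum_coe_sort t]
    refine Finset.sum_congr rfl fun y _ => ?_
    rw [map_mul]
    show (Algebra.TensorProduct.lift (aeval fun y : {y // y ∈ t} => c y.1) f
      (fun _ _ => Commute.all _ _)) _ * (Algebra.TensorProduct.lift (aeval fun y : {y // y ∈ t} => c y.1) f
      (fun _ _ => Commute.all _ _)) _ = _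
    rw [Algebra.TensorProduct.lift_tmul, Algebra.TensorProduct.lift_tmul, aeval_X, map_one, map_one,
      mul_one, one_mul, hfa, smul_eq_mul]
  haveI hfs : Algebra.FormallySmooth R (Localization.Away a') :=
    Groth.Agent.Lib.T2H8.DelocA.formallySmooth_away_of_mem a' ha'
  haveI : Algebra.FinitePresentation A' (Localization.Away a') :=
    IsLocalization.Away.finitePresentation a'
  haveI : Algebra.FinitePresentation R (Localization.Away a') :=
    Algebra.FinitePresentation.trans R A' (Localization.Away a')
  have hunit : ∀ y : Submonoid.powers a', IsUnit (F y) := by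
    rintro ⟨_, n, rfl⟩
    show IsUnit (F (a' ^ n))
    rw [map_pow, hF, one_pow]
    exact isUnit_one
  let h : Localization.Away a' →ₐ[R] Λ := IsLocalization.liftAlgHom (M := Submonoid.powers a') (f := F) hunit
  let g : A →ₐ[R] Localization.Away a' :=
    (IsScalarTower.toAlgHom R A' (Localization.Away a')).comp Algebra.TensorProduct.includeRight
  refine ⟨Localization.Away a', inferInstance, inferInstance, ⟨hfs, inferInstance⟩, g, h, ?_⟩
  ext x
  show IsLocalization.liftAlgHom (M := Submonoid.powers a') (f := F) hunit (algebraMap A' (Localization.Away a') ((1 : P) ⊗ₜ[R] x)) = f x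
  rw [IsLocalization.liftAlgHom_apply, IsLocalization.lift_eq]
  show (Algebra.TensorProduct.lift (aeval fun y : {y // y ∈ t} => c y.1) f
      (fun _ _ => Commute.all _ _)) _ = _
  rw [Algebra.TensorProduct.lift_tmul, map_one, one_mul]

end Groth.Agent.Lib.T2H8.PopTop
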