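import Mathlib
import Groth.Agent.S2036
import Groth.Agent.S2082
import Groth.Agent.Lib.Helper19H1Inj
import Groth.Agent.Lib.Helper7H1Fields
import Groth.Agent.Lib.Helper5RLR
import Groth.Agent.Lib.Helper5RLR3

/-!
# Flatness and regular quotient from a differential basis (helper8, S9288)

`k` a field of characteristic `p`, `(A, m, K)` a Noetherian local `k`-algebra geometrically regular
over `k`, `φ : k[y₁..y_m] → A` with the `dyᵢ` a basis of `Ω_{F/k}` for a subfield `F ⊆ K`.  Then
`A` is flat over `k[y]` and `A/𝔭A` is regular (`𝔭 = φ⁻¹ m`).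

* `cls B : m_B →ₗ[B] H₁(L_{K/B})`, the class of `x ∈ m_B`, with kernel `m_B²`, natural in `B`.
* `h1_map_comp`: functoriality of `Algebra.H1Cotangent.map`.
* `key`: if `H₁(L_{K/k}) → H₁(L_{K/A})` is injective (S9282+S2036) and
  `F₀ ⊗ Ω_{A₀/k} → Ω_{F₀/k}` is injective, then `m₀/m₀² ⊗ K → m/m²` is injective on a regular
  system of parameters (uses S9319 for `k ⊆ F₀ ⊆ K`).
* `flat_and_regular`: quotient by part of a regular system of parameters + miracle flatness (S2082).
* `main`: the instance `A₀ = k[y]_𝔭`.
-/

set_option autoImplicit false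
universe u

namespace Groth.Agent.Lib.T2H8.GeomRegFlat

open IsLocalRing Algebra TensorProduct

section cls

variable (B : Type u) [CommRing B] [IsLocalRing B]

/-- the extension computing `H₁(L_{K/B})`. -/
noncomputable abbrev PB : Extension B (ResidueField B) :=
  (Generators.self B (ResidueField B)).toExtension

lemma C_mem_ker (x : B) (hx : x ∈ maximalIdeal B) :
    algebraMap B (PB B).Ring x ∈ (PB B).ker := by
  show algebraMap (PB B).Ring (ResidueField B) (algebraMap B (PB B).Ring x) = 0
  rw [← IsScalarTower.algebraMap_apply]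
  exact (residue_eq_zero_iff x).2 hx

/-- The class of an element of the maximal ideal in `H₁(L_{K/B})`. -/
noncomputable def cls : maximalIdeal B →ₗ[B] Algebra.H1Cotangent B (ResidueField B) where
  toFun x := ⟨Extension.Cotangent.mk ⟨algebraMap B (PB B).Ring x.1, C_mem_ker B x.1 x.2⟩, by
    rw [LinearMap.mem_ker, Extension.cotangentComplex_mk]
    show (1 : ResidueField B) ⊗ₜ[_] (KaehlerDifferential.D B _ (algebraMap B (PB B).Ring x.1)) = 0
    rw [Derivation.map_algebraMap, TensorProduct.tmul_zero]⟩
  map_add' x y := by
    apply Subtype.ext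
    show Extension.Cotangent.mk _ = Extension.Cotangent.mk _ + Extension.Cotangent.mk _
    rw [← map_add]
    congr 1
    apply Subtype.ext
    exact map_add _ _ _
  map_smul' b x := by
    apply Subtype.ext
    show Extension.Cotangent.mk _ = b • Extension.Cotangent.mk _
    rw [← algebraMap_smul (PB B).Ring b
      (Extension.Cotangent.mk (P := PB B)
        ⟨algebraMap B (PB B).Ring x.1, C_mem_ker B x.1 x.2⟩), ← map_smul]
    congr 1
    apply Subtype.ext
    show algebraMap B (PB B).Ring (b • x.1) = algebraMap B (PB B).Ring b * algebraMap B (PB B).Ring x.1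
    rw [smul_eq_mul, map_mul]

lemma cls_val (x : maximalIdeal B) :
    (cls B x).1 = Extension.Cotangent.mk ⟨algebraMap B (PB B).Ring x.1, C_mem_ker B x.1 x.2⟩ := rfl

/-- If the class vanishes then the element lies in `m²`. -/
lemma mem_sq_of_cls_eq_zero (x : maximalIdeal B) (h : cls B x = 0) :
    x.1 ∈ maximalIdeal B ^ 2 := by
  have h1 : (cls B x).1 = 0 := by rw [h]; rfl
  rw [cls_val, Extension.Cotangent.mk_eq_zero_iff] at h1
  -- evaluation hom
  let s : ResidueField B → B := Function.surjInv (residue_surjective (R := B))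
  have hs : ∀ κ, residue B (s κ) = κ := Function.surjInv_eq _
  let ev : (PB B).Ring →ₐ[B] B := (MvPolynomial.aeval s : MvPolynomial (ResidueField B) B →ₐ[B] B)
  have hev : ∀ q : (PB B).Ring, residue B (ev q) = algebraMap (PB B).Ring (ResidueField B) q := by
    intro q
    have : ((IsScalarTower.toAlgHom B B (ResidueField B)).comp ev)
        = IsScalarTower.toAlgHom B (PB B).Ring (ResidueField B) := by
      apply MvPolynomial.algHom_ext
      intro κ
      show residue B (MvPolynomial.aeval s (MvPolynomial.X κ)) = algebraMap (PB B).Ring (ResidueField B) (MvPolynomial.X κ)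
      rw [MvPolynomial.aeval_X, hs]
      show κ = MvPolynomial.aeval (Generators.self B (ResidueField B)).val (MvPolynomial.X κ)
      rw [MvPolynomial.aeval_X]
      rfl
    exact congrArg (fun g : (PB B).Ring →ₐ[B] ResidueField B => g q) this
  have hker : (PB B).ker.map ev.toRingHom ≤ maximalIdeal B := by
    rw [Ideal.map_le_iff_le_comap]
    intro q hq
    rw [Ideal.mem_comap]
    show ev q ∈ maximalIdeal B
    rw [← residue_eq_zero_iff, hev]
    exact hq
  have h2 : ev (algebraMap B (PB B).Ring x.1) ∈ ((PB B).ker ^ 2).map ev.toRingHom :=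
    Ideal.mem_map_of_mem _ h1
  rw [Ideal.map_pow, AlgHom.commutes] at h2
  exact Ideal.pow_right_mono hker 2 h2

/-- If the element lies in `m²` then the class vanishes. -/
lemma cls_eq_zero_of_mem_sq (x : maximalIdeal B) (h : x.1 ∈ maximalIdeal B ^ 2) :
    cls B x = 0 := by
  apply Subtype.ext
  rw [cls_val]
  show _ = (0 : (PB B).Cotangent)
  rw [Extension.Cotangent.mk_eq_zero_iff]
  have hle : (maximalIdeal B).map (algebraMap B (PB B).Ring) ≤ (PB B).ker := by
    rw [Ideal.map_le_iff_le_comap]
    intro a ha
    exact C_mem_ker B a ha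
  have h2 : algebraMap B (PB B).Ring x.1 ∈ ((maximalIdeal B) ^ 2).map (algebraMap B (PB B).Ring) :=
    Ideal.mem_map_of_mem _ h
  rw [Ideal.map_pow] at h2
  exact Ideal.pow_right_mono hle 2 h2

lemma cls_eq_zero_iff (x : maximalIdeal B) :
    cls B x = 0 ↔ (maximalIdeal B).toCotangent x = 0 := by
  rw [Ideal.toCotangent_eq_zero]
  exact ⟨mem_sq_of_cls_eq_zero B x, cls_eq_zero_of_mem_sq B x⟩

/-- transfer of linear independence between two quotients of `M` with the same kernel. -/
lemma li_transfer {M V W : Type*} [AddCommGroup M] [Module B M]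
    [AddCommGroup V] [Module B V] [Module (ResidueField B) V] [IsScalarTower B (ResidueField B) V]
    [AddCommGroup W] [Module B W] [Module (ResidueField B) W] [IsScalarTower B (ResidueField B) W]
    (f : M →ₗ[B] V) (g : M →ₗ[B] W) (hfg : ∀ m, f m = 0 → g m = 0) {r : ℕ} (x : Fin r → M)
    (hg : LinearIndependent (ResidueField B) (fun i => g (x i))) :
    LinearIndependent (ResidueField B) (fun i => f (x i)) := by
  rw [Fintype.linearIndependent_iff] at hg ⊢
  intro c hc
  choose a ha using fun i => residue_surjective (c i)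
  have h1V : ∑ i, c i • f (x i) = f (∑ i, a i • x i) := by
    rw [map_sum]
    refine Finset.sum_congr rfl fun i _ => ?_
    rw [map_smul, ← ha i]
    exact (algebraMap_smul (ResidueField B) (a i) (f (x i)))
  have h1W : ∑ i, c i • g (x i) = g (∑ i, a i • x i) := by
    rw [map_sum]
    refine Finset.sum_congr rfl fun i _ => ?_
    rw [map_smul, ← ha i]
    exact (algebraMap_smul (ResidueField B) (a i) (g (x i)))
  rw [h1V] at hc
  have h2 := hfg _ hc
  rw [← h1W] at h2
  exact hg c h2

end cls

section nat

variable (B B' : Type u) [CommRing B] [CommRing B'] [IsLocalRing B] [IsLocalRing B']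
  [Algebra B B'] [IsLocalHom (algebraMap B B')]

lemma map_mem_max (a : B) (ha : a ∈ maximalIdeal B) : algebraMap B B' a ∈ maximalIdeal B' := by
  rw [mem_maximalIdeal, mem_nonunits_iff] at ha ⊢
  exact fun h => ha (isUnit_of_map_unit (algebraMap B B') a h)

lemma map_cls (x : maximalIdeal B) :
    Algebra.H1Cotangent.map B B' (ResidueField B) (ResidueField B') (cls B x)
      = cls B' ⟨algebraMap B B' x.1, map_mem_max B B' x.1 x.2⟩ := by
  apply Subtype.ext
  rw [cls_val]
  show (Extension.H1Cotangent.map _ (cls B x)).1 = _
  rw [Extension.H1Cotangent.map_apply_coe, cls_val, Extension.Cotangent.map_mk]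
  congr 1
  apply Subtype.ext
  show Extension.Hom.toAlgHom _ (algebraMap B (PB B).Ring x.1) = _
  rw [Extension.Hom.toAlgHom_apply, Extension.Hom.toRingHom_algebraMap]

end nat

section comp

variable (R R' R'' S S' S'' : Type u) [CommRing R] [CommRing R'] [CommRing R''] [CommRing S]
  [CommRing S'] [CommRing S''] [Algebra R S] [Algebra R' S'] [Algebra R'' S'']
  [Algebra R R'] [Algebra R' R''] [Algebra R R''] [IsScalarTower R R' R'']
  [Algebra S S'] [Algebra S' S''] [Algebra S S''] [IsScalarTower S S' S'']
  [Algebra R S'] [IsScalarTower R R' S'] [IsScalarTower R S S']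
  [Algebra R' S''] [IsScalarTower R' R'' S''] [IsScalarTower R' S' S'']
  [Algebra R S''] [IsScalarTower R R'' S''] [IsScalarTower R S S'']

lemma h1_map_comp (x : Algebra.H1Cotangent R S) :
    Algebra.H1Cotangent.map R' R'' S' S'' (Algebra.H1Cotangent.map R R' S S' x)
      = Algebra.H1Cotangent.map R R'' S S'' x := by
  show Extension.H1Cotangent.map _ (Extension.H1Cotangent.map _ x) = Extension.H1Cotangent.map _ x
  rw [← Extension.H1Cotangent.map_comp_apply]
  exact LinearMap.congr_fun (Extension.H1Cotangent.map_eq _ _) x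

end comp

section tmul

lemma linearIndependent_one_tmul {F K V : Type*} [Field F] [Field K] [Algebra F K]
    [AddCommGroup V] [Module F V] {ι : Type*} (v : ι → V) (hv : LinearIndependent F v) :
    LinearIndependent K (fun i => (1 : K) ⊗ₜ[F] v i) := by
  classical
  let b := Module.Basis.extend hv.linearIndepOn_id
  let j : ι → (hv.linearIndepOn_id.extend (Set.subset_univ _)) :=
    fun i => ⟨v i, Module.Basis.subset_extend _ ⟨i, rfl⟩⟩
  have hj : Function.Injective j := fun a c h => hv.injective (congrArg Subtype.val h)
  have h1 := ((b.baseChange K).linearIndependent).comp j hj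
  have h2 : (⇑(b.baseChange K) ∘ j) = fun i => (1 : K) ⊗ₜ[F] v i := by
    funext i
    simp [b, j]
  rwa [h2] at h1

end tmul

section partI

variable (k : Type u) [Field k] (A₀ A : Type u) [CommRing A₀] [CommRing A] [IsLocalRing A₀]
  [IsLocalRing A] [Algebra k A₀] [Algebra k A] [Algebra A₀ A] [IsScalarTower k A₀ A]
  [IsLocalHom (algebraMap A₀ A)]

theorem key
    (hinjA : Function.Injective
      (Algebra.H1Cotangent.map k A (ResidueField A) (ResidueField A)))
    (hinj0 : Function.Injective (KaehlerDifferential.mapBaseChange k A₀ (ResidueField A₀)))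
    {r : ℕ} (x : Fin r → maximalIdeal A₀)
    (hx : LinearIndependent (ResidueField A₀) (fun i => (maximalIdeal A₀).toCotangent (x i))) :
    LinearIndependent (ResidueField A) (fun i => (maximalIdeal A).toCotangent
      (⟨algebraMap A₀ A (x i).1, map_mem_max A₀ A (x i).1 (x i).2⟩ : maximalIdeal A)) := by
  -- Step 1: classes come from `H₁(F₀/k)`
  have hδ : ∀ z : Algebra.H1Cotangent A₀ (ResidueField A₀),
      Algebra.H1Cotangent.δ k A₀ (ResidueField A₀) z = 0 := by
    intro z
    apply hinj0
    rw [map_zero]
    exact (Algebra.H1Cotangent.exact_δ_mapBaseChange k A₀ (ResidueField A₀)).apply_apply_eq_zero z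
  have hsurj : ∀ z : Algebra.H1Cotangent A₀ (ResidueField A₀),
      ∃ h : Algebra.H1Cotangent k (ResidueField A₀),
        Algebra.H1Cotangent.map k A₀ (ResidueField A₀) (ResidueField A₀) h = z := by
    intro z
    exact ((Algebra.H1Cotangent.exact_map_δ k A₀ (ResidueField A₀)) z).mp (hδ z)
  choose h hh using fun i => hsurj (cls A₀ (x i))
  -- Step 2: the `h i` are linearly independent
  have hcls0 : LinearIndependent (ResidueField A₀) (fun i => cls A₀ (x i)) :=
    li_transfer A₀ (cls A₀) (maximalIdeal A₀).toCotangent
      (fun m hm => (cls_eq_zero_iff A₀ m).mp hm) x hx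
  have hhli : LinearIndependent (ResidueField A₀) h := by
    apply LinearIndependent.of_comp
      (Algebra.H1Cotangent.map k A₀ (ResidueField A₀) (ResidueField A₀))
    have : (⇑(Algebra.H1Cotangent.map k A₀ (ResidueField A₀) (ResidueField A₀)) ∘ h)
        = fun i => cls A₀ (x i) := funext hh
    rw [this]
    exact hcls0
  -- Step 3: images in `H₁(K/k)`
  have h3 := (linearIndependent_one_tmul (K := ResidueField A) h hhli).map'
    ((Algebra.H1Cotangent.map k k (ResidueField A₀) (ResidueField A)).liftBaseChange
      (ResidueField A))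
    (LinearMap.ker_eq_bot.mpr Groth.Agent.Lib.Helper7.H1Nat.injective_liftBaseChange_map_fields)
  -- Step 4
  have h4 := h3.map' (Algebra.H1Cotangent.map k A (ResidueField A) (ResidueField A))
    (LinearMap.ker_eq_bot.mpr hinjA)
  -- Step 5
  have h5 : (⇑(Algebra.H1Cotangent.map k A (ResidueField A) (ResidueField A)) ∘
      (⇑((Algebra.H1Cotangent.map k k (ResidueField A₀) (ResidueField A)).liftBaseChange
        (ResidueField A)) ∘ fun i => (1 : ResidueField A) ⊗ₜ[ResidueField A₀] h i))
      = fun i => cls A (⟨algebraMap A₀ A (x i).1, map_mem_max A₀ A (x i).1 (x i).2⟩ :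
        maximalIdeal A) := by
    funext i
    simp only [Function.comp_apply, LinearMap.liftBaseChange_tmul, one_smul]
    rw [h1_map_comp k k A (ResidueField A₀) (ResidueField A) (ResidueField A),
      ← h1_map_comp k A₀ A (ResidueField A₀) (ResidueField A₀) (ResidueField A), hh, map_cls]
  rw [h5] at h4
  -- Step 6
  exact li_transfer A (maximalIdeal A).toCotangent (cls A)
    (fun m hm => (cls_eq_zero_iff A m).mpr hm) _ h4

lemma exists_fin_span (F : Type u) [CommRing F] [IsRegularLocalRing F] (d : ℕ)
    (hd : ringKrullDim F = d) : ∃ x : Fin d → F, Ideal.span (Set.range x) = maximalIdeal F := by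
  classical
  have hreg : ((maximalIdeal F).spanFinrank : WithBot ℕ∞) = ringKrullDim F :=
    IsRegularLocalRing.spanFinrank_maximalIdeal
  rw [hd] at hreg
  have hreg' : (maximalIdeal F).spanFinrank = d := by exact_mod_cast hreg
  have hfg : (maximalIdeal F).FG := (isNoetherianRing_iff_ideal_fg F).mp inferInstance _
  obtain ⟨s, hcard, hspan⟩ := Submodule.FG.exists_span_finset_card_eq_spanFinrank hfg
  have hsd : s.card = d := hcard.trans hreg'
  refine ⟨fun i => (s.equivFin.symm (Fin.cast hsd.symm i)).1, ?_⟩
  have hrange : Set.range (fun i : Fin d => ((s.equivFin.symm (Fin.cast hsd.symm i)).1 : F)) =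
      (s : Set F) := by
    ext a
    constructor
    · rintro ⟨i, rfl⟩
      exact (s.equivFin.symm (Fin.cast hsd.symm i)).2
    · intro ha
      refine ⟨Fin.cast hsd (s.equivFin ⟨a, ha⟩), ?_⟩
      simp
  rw [hrange]
  exact hspan

theorem flat_and_regular [IsRegularLocalRing A₀] [IsRegularLocalRing A]
    (hinjA : Function.Injective
      (Algebra.H1Cotangent.map k A (ResidueField A) (ResidueField A)))
    (hinj0 : Function.Injective (KaehlerDifferential.mapBaseChange k A₀ (ResidueField A₀))) :
    Module.Flat A₀ A ∧ IsRegularLocalRing (A ⧸ (maximalIdeal A₀).map (algebraMap A₀ A)) := by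
  obtain ⟨d, hd⟩ := Groth.Agent.Lib.Helper5.exists_nat_ringKrullDim_eq A₀
  obtain ⟨x0, hx0⟩ := exists_fin_span A₀ d hd
  have hx0m : ∀ i, x0 i ∈ maximalIdeal A₀ := fun i => hx0 ▸ Ideal.subset_span ⟨i, rfl⟩
  let x : Fin d → maximalIdeal A₀ := fun i => ⟨x0 i, hx0m i⟩
  have hli0 := Groth.Agent.Lib.Helper5.linearIndependent_toCotangent_of_span_eq hd x hx0
  have hli := key k A₀ A hinjA hinj0 x hli0
  obtain ⟨J, hJdef⟩ : ∃ J, J = (maximalIdeal A₀).map (algebraMap A₀ A) := ⟨_, rfl⟩
  have hJ : J = Ideal.span (Set.range fun i =>
      ((⟨algebraMap A₀ A (x i).1, map_mem_max A₀ A (x i).1 (x i).2⟩ : maximalIdeal A) : A)) := by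
    rw [hJdef]
    have h1 : (maximalIdeal A₀).map (algebraMap A₀ A)
        = Ideal.span ((algebraMap A₀ A) '' Set.range x0) := by
      conv_lhs => rw [← hx0]
      exact Ideal.map_span _ _
    rw [h1, ← Set.range_comp]
    rfl
  have hJle : J ≤ maximalIdeal A := by
    rw [hJdef, Ideal.map_le_iff_le_comap]
    intro a ha
    exact map_mem_max A₀ A a ha
  haveI : Nontrivial (A ⧸ J) := Ideal.Quotient.nontrivial_iff.mpr (fun h => by
    rw [h] at hJle
    exact (maximalIdeal.isMaximal A).ne_top (top_le_iff.mp hJle))
  haveI : IsLocalRing (A ⧸ J) :=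
    IsLocalRing.of_surjective' (Ideal.Quotient.mk J) Ideal.Quotient.mk_surjective
  obtain ⟨hreg, hdim⟩ :=
    Groth.Agent.Lib.Helper5.isRegularLocalRing_quotient_of_linearIndependent' _ hli J hJ
  rw [← hJdef]
  refine ⟨?_, hreg⟩
  haveI := Groth.Agent.Lib.Helper5.isCohenMacaulayLocalRing_of_isRegularLocalRing (R := A)
  apply Groth.Agent.S2082.result
  rw [hd, ← hJdef, ← hdim, add_comm]

end partI

section spanD

open MvPolynomial

variable (k : Type u) [Field k] {m : ℕ}

lemma span_D_localization (M : Submonoid (MvPolynomial (Fin m) k)) (S : Type u) [CommRing S]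
    [Algebra (MvPolynomial (Fin m) k) S] [IsLocalization M S] [Algebra k S]
    [IsScalarTower k (MvPolynomial (Fin m) k) S] :
    Submodule.span S (Set.range fun i : Fin m =>
      KaehlerDifferential.D k S (algebraMap (MvPolynomial (Fin m) k) S (X i))) = ⊤ := by
  obtain ⟨N, hN⟩ : ∃ N, N = Submodule.span S (Set.range fun i : Fin m =>
      KaehlerDifferential.D k S (algebraMap (MvPolynomial (Fin m) k) S (X i))) := ⟨_, rfl⟩
  rw [← hN]
  have hq : ∀ q : MvPolynomial (Fin m) k,
      KaehlerDifferential.D k S (algebraMap (MvPolynomial (Fin m) k) S q) ∈ N := by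
    intro q
    induction q using MvPolynomial.induction_on with
    | C a =>
      have : algebraMap (MvPolynomial (Fin m) k) S (C a) = algebraMap k S a :=
        (IsScalarTower.algebraMap_apply k (MvPolynomial (Fin m) k) S a).symm
      rw [this, Derivation.map_algebraMap]
      exact zero_mem _
    | add p q hp hq =>
      rw [map_add, map_add]
      exact add_mem hp hq
    | mul_X p i hp =>
      rw [map_mul, Derivation.leibniz]
      refine add_mem (N.smul_mem _ ?_) (N.smul_mem _ hp)
      rw [hN]
      exact Submodule.subset_span ⟨i, rfl⟩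
  rw [_root_.eq_top_iff, ← KaehlerDifferential.span_range_derivation k S, Submodule.span_le]
  rintro _ ⟨a, rfl⟩
  obtain ⟨q, s, rfl⟩ := IsLocalization.exists_mk'_eq M a
  have hu : IsUnit (algebraMap (MvPolynomial (Fin m) k) S s) := IsLocalization.map_units S s
  have h1 : IsLocalization.mk' S q s * algebraMap (MvPolynomial (Fin m) k) S s
      = algebraMap (MvPolynomial (Fin m) k) S q := IsLocalization.mk'_spec S q s
  have h2 := congrArg (KaehlerDifferential.D k S) h1
  rw [Derivation.leibniz] at h2
  have h3 : algebraMap (MvPolynomial (Fin m) k) S s •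
      KaehlerDifferential.D k S (IsLocalization.mk' S q s) ∈ N := by
    have : algebraMap (MvPolynomial (Fin m) k) S s •
        KaehlerDifferential.D k S (IsLocalization.mk' S q s)
        = KaehlerDifferential.D k S (algebraMap (MvPolynomial (Fin m) k) S q)
          - IsLocalization.mk' S q s •
            KaehlerDifferential.D k S (algebraMap (MvPolynomial (Fin m) k) S s) := by
      rw [← h2]; abel
    rw [this]
    exact sub_mem (hq q) (N.smul_mem _ (hq s))
  obtain ⟨u, hu'⟩ := hu
  have h4 : KaehlerDifferential.D k S (IsLocalization.mk' S q s)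
      = (↑u⁻¹ : S) • (algebraMap (MvPolynomial (Fin m) k) S s •
        KaehlerDifferential.D k S (IsLocalization.mk' S q s)) := by
    rw [← hu', smul_smul, Units.inv_mul, one_smul]
  show KaehlerDifferential.D k S (IsLocalization.mk' S q s) ∈ N
  rw [h4]
  exact N.smul_mem _ h3

end spanD

section partII

open MvPolynomial

variable (k : Type u) [Field k] (A : Type u) [CommRing A] [IsLocalRing A] [Algebra k A]
  {m : ℕ} (φ : MvPolynomial (Fin m) k →ₐ[k] A)

/-- the prime `φ⁻¹(m_A)`. -/
noncomputable abbrev pr : Ideal (MvPolynomial (Fin m) k) := Ideal.comap φ.toRingHom (maximalIdeal A)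

lemma isUnit_phi (y : (pr k A φ).primeCompl) : IsUnit (φ.toRingHom y) :=
  (IsLocalRing.notMem_maximalIdeal).mp (fun h => y.2 h)

/-- the induced algebra structure `P_𝔭 → A`. -/
@[reducible] noncomputable def algA₀ : Algebra (Localization.AtPrime (pr k A φ)) A :=
  (IsLocalization.lift (M := (pr k A φ).primeCompl) (g := φ.toRingHom)
    (isUnit_phi k A φ)).toAlgebra

attribute [local instance] algA₀

lemma algebraMap_A₀_apply (q : MvPolynomial (Fin m) k) :
    algebraMap (Localization.AtPrime (pr k A φ)) A
      (algebraMap (MvPolynomial (Fin m) k) (Localization.AtPrime (pr k A φ)) q) = φ q :=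
  IsLocalization.lift_eq _ q

instance towerk : IsScalarTower k (Localization.AtPrime (pr k A φ)) A :=
  IsScalarTower.of_algebraMap_eq (fun c => by
    rw [IsScalarTower.algebraMap_apply k (MvPolynomial (Fin m) k)
      (Localization.AtPrime (pr k A φ)), algebraMap_A₀_apply]
    exact (φ.commutes c).symm)

instance localHom : IsLocalHom (algebraMap (Localization.AtPrime (pr k A φ)) A) := by
  apply ((IsLocalRing.local_hom_TFAE _).out 0 2).mpr
  rw [← Localization.AtPrime.map_eq_maximalIdeal, Ideal.map_map, Ideal.map_le_iff_le_comap]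
  intro q hq
  rw [Ideal.mem_comap, RingHom.comp_apply, algebraMap_A₀_apply]
  exact hq

variable (F : IntermediateField k (ResidueField A))
  (hφ : ∀ i : Fin m, residue A (φ (X i)) ∈ F)

include hφ in
lemma residue_phi_mem (q : MvPolynomial (Fin m) k) : residue A (φ q) ∈ F := by
  induction q using MvPolynomial.induction_on with
  | C a =>
    have : φ (C a) = algebraMap k A a := φ.commutes a
    rw [this]
    exact F.algebraMap_mem a
  | add p q hp hq =>
    rw [map_add, map_add]
    exact add_mem hp hq
  | mul_X p i hp =>
    rw [map_mul, map_mul]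
    exact mul_mem hp (hφ i)

include hφ in
lemma algebraMap_F₀_mem (z : ResidueField (Localization.AtPrime (pr k A φ))) :
    algebraMap (ResidueField (Localization.AtPrime (pr k A φ))) (ResidueField A) z ∈ F := by
  obtain ⟨a, rfl⟩ := residue_surjective z
  obtain ⟨q, s, rfl⟩ := IsLocalization.exists_mk'_eq (pr k A φ).primeCompl a
  have h1 : algebraMap (ResidueField (Localization.AtPrime (pr k A φ))) (ResidueField A)
      (residue _ (IsLocalization.mk' (Localization.AtPrime (pr k A φ)) q s))
      = residue A (algebraMap (Localization.AtPrime (pr k A φ)) A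
        (IsLocalization.mk' (Localization.AtPrime (pr k A φ)) q s)) := rfl
  rw [h1]
  have h2 : algebraMap (Localization.AtPrime (pr k A φ)) A
      (IsLocalization.mk' (Localization.AtPrime (pr k A φ)) q s) * φ s = φ q := by
    rw [← algebraMap_A₀_apply k A φ s, ← map_mul, IsLocalization.mk'_spec, algebraMap_A₀_apply]
  have h3 : residue A (φ s) ≠ 0 := by
    rw [Ne, residue_eq_zero_iff]
    exact fun h => s.2 h
  have h4 : residue A (algebraMap (Localization.AtPrime (pr k A φ)) A
      (IsLocalization.mk' (Localization.AtPrime (pr k A φ)) q s))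
      = residue A (φ q) / residue A (φ s) := by
    rw [eq_div_iff h3, ← map_mul, h2]
  rw [h4]
  exact div_mem (residue_phi_mem k A φ F hφ q) (residue_phi_mem k A φ F hφ s)

include hφ in
lemma hinj0
    (hb1 : LinearIndependent F
      (fun i : Fin m => KaehlerDifferential.D k F ⟨residue A (φ (X i)), hφ i⟩)) :
    Function.Injective (KaehlerDifferential.mapBaseChange k (Localization.AtPrime (pr k A φ))
      (ResidueField (Localization.AtPrime (pr k A φ)))) := by
  let j : ResidueField (Localization.AtPrime (pr k A φ)) →+* F :=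
    (algebraMap (ResidueField (Localization.AtPrime (pr k A φ))) (ResidueField A)).codRestrict F
      (algebraMap_F₀_mem k A φ F hφ)
  letI : Algebra (ResidueField (Localization.AtPrime (pr k A φ))) F := j.toAlgebra
  haveI : IsScalarTower k (ResidueField (Localization.AtPrime (pr k A φ))) F :=
    IsScalarTower.of_algebraMap_eq (fun c => by
      apply Subtype.ext
      show algebraMap k (ResidueField A) c
        = algebraMap (ResidueField (Localization.AtPrime (pr k A φ))) (ResidueField A)
          (algebraMap k (ResidueField (Localization.AtPrime (pr k A φ))) c)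
      exact IsScalarTower.algebraMap_apply k (ResidueField (Localization.AtPrime (pr k A φ)))
        (ResidueField A) c)
  rw [injective_iff_map_eq_zero]
  intro z hz
  have hspan : Submodule.span (ResidueField (Localization.AtPrime (pr k A φ)))
      (Set.range fun i : Fin m =>
        (1 : ResidueField (Localization.AtPrime (pr k A φ))) ⊗ₜ[Localization.AtPrime (pr k A φ)]
          KaehlerDifferential.D k (Localization.AtPrime (pr k A φ))
            (algebraMap (MvPolynomial (Fin m) k) (Localization.AtPrime (pr k A φ)) (X i))) = ⊤ := by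
    have h0 := span_D_localization k (pr k A φ).primeCompl (Localization.AtPrime (pr k A φ))
    have h1 := congrArg (Submodule.baseChange
      (ResidueField (Localization.AtPrime (pr k A φ)))) h0
    rw [Submodule.baseChange_span, Submodule.baseChange_top, ← Set.range_comp] at h1
    exact h1
  have hzmem : z ∈ Submodule.span (ResidueField (Localization.AtPrime (pr k A φ)))
      (Set.range fun i : Fin m =>
        (1 : ResidueField (Localization.AtPrime (pr k A φ))) ⊗ₜ[Localization.AtPrime (pr k A φ)]
          KaehlerDifferential.D k (Localization.AtPrime (pr k A φ))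
            (algebraMap (MvPolynomial (Fin m) k) (Localization.AtPrime (pr k A φ)) (X i))) := by
    rw [hspan]; exact Submodule.mem_top
  obtain ⟨c, rfl⟩ := (Submodule.mem_span_range_iff_exists_fun _).mp hzmem
  rw [map_sum] at hz
  simp only [map_smul, KaehlerDifferential.mapBaseChange_tmul, one_smul,
    KaehlerDifferential.map_D] at hz
  have hz2 := congrArg (KaehlerDifferential.map k k
    (ResidueField (Localization.AtPrime (pr k A φ))) F) hz
  rw [map_sum, map_zero] at hz2
  simp only [map_smul, KaehlerDifferential.map_D] at hz2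
  have hj : ∀ i, algebraMap (ResidueField (Localization.AtPrime (pr k A φ))) F
      (algebraMap (Localization.AtPrime (pr k A φ))
        (ResidueField (Localization.AtPrime (pr k A φ)))
        (algebraMap (MvPolynomial (Fin m) k) (Localization.AtPrime (pr k A φ)) (X i)))
      = ⟨residue A (φ (X i)), hφ i⟩ := by
    intro i
    apply Subtype.ext
    show algebraMap (ResidueField (Localization.AtPrime (pr k A φ))) (ResidueField A)
      (residue _ (algebraMap (MvPolynomial (Fin m) k) (Localization.AtPrime (pr k A φ)) (X i)))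
      = residue A (φ (X i))
    rw [← algebraMap_A₀_apply k A φ (X i)]
    rfl
  have hz3 : ∑ i, (j (c i)) • KaehlerDifferential.D k F ⟨residue A (φ (X i)), hφ i⟩ = 0 := by
    rw [← hz2]
    refine Finset.sum_congr rfl fun i _ => ?_
    rw [hj i]
    exact algebraMap_smul F (c i) _
  have hc := (Fintype.linearIndependent_iff.mp hb1) (fun i => j (c i)) hz3
  have hc0 : ∀ i, c i = 0 := fun i => (map_eq_zero_iff j j.injective).mp (hc i)
  simp [hc0]

lemma isRegularLocalRing_of_geomReg [IsNoetherianRing A] (hA : CAlg.IsGeometricallyRegular k A) :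
    IsRegularLocalRing A := by
  haveI : IsRegularRing (TensorProduct k k A) := hA k (Module.Finite.self k)
  haveI : IsRegularRing A :=
    IsRegularRing.of_ringEquiv (Algebra.TensorProduct.lid k A).toRingEquiv
  exact IsRegularLocalRing.of_isRegularRing_of_isLocalRing A

theorem main (p : ℕ) [Fact p.Prime] [CharP k p] [IsNoetherianRing A]
    (hA : CAlg.IsGeometricallyRegular k A)
    (hb : LinearIndependent F
      (fun i : Fin m => KaehlerDifferential.D k F ⟨residue A (φ (X i)), hφ i⟩)) :
    letI := φ.toRingHom.toAlgebra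
    Module.Flat (MvPolynomial (Fin m) k) A ∧
      IsRegularLocalRing (A ⧸ Ideal.map φ.toRingHom
        (Ideal.comap φ.toRingHom (IsLocalRing.maximalIdeal A))) := by
  letI algPA : Algebra (MvPolynomial (Fin m) k) A := φ.toRingHom.toAlgebra
  haveI : IsRegularLocalRing A := isRegularLocalRing_of_geomReg k A hA
  haveI : IsRegularLocalRing (Localization.AtPrime (pr k A φ)) := inferInstance
  have hinjA : Function.Injective
      (Algebra.H1Cotangent.map k A (ResidueField A) (ResidueField A)) :=
    Groth.Agent.Lib.Helper19.H1Inj.injective_h1Cotangent_map k A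
      ((Groth.Agent.S2036.result p).mp hA)
  obtain ⟨hflat0, hreg0⟩ := flat_and_regular k (Localization.AtPrime (pr k A φ)) A hinjA
    (hinj0 k A φ F hφ hb)
  haveI : IsScalarTower (MvPolynomial (Fin m) k) (Localization.AtPrime (pr k A φ)) A :=
    IsScalarTower.of_algebraMap_eq (fun q => (algebraMap_A₀_apply k A φ q).symm)
  constructor
  · haveI : Module.Flat (MvPolynomial (Fin m) k) (Localization.AtPrime (pr k A φ)) :=
      IsLocalization.flat _ (pr k A φ).primeCompl
    exact Module.Flat.trans (MvPolynomial (Fin m) k) (Localization.AtPrime (pr k A φ)) A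
  · have h : (maximalIdeal (Localization.AtPrime (pr k A φ))).map
        (algebraMap (Localization.AtPrime (pr k A φ)) A)
        = Ideal.map φ.toRingHom (Ideal.comap φ.toRingHom (IsLocalRing.maximalIdeal A)) := by
      rw [← Localization.AtPrime.map_eq_maximalIdeal, Ideal.map_map]
      congr 1
      exact RingHom.ext (algebraMap_A₀_apply k A φ)
    rw [← h]
    exact hreg0

end partII

end Groth.Agent.Lib.T2H8.GeomRegFlat
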