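import Mathlib
import Groth.Agent.Lib.T2H8SepC

/-!
# Elkik's algebra `C` over `k[x_1..x_d]` with a natural universal map (helper for S6824)

Variant of `SepC.exists_C`: the maps out of `C` are given by a function `Ψ` which is natural in
the target.
-/

set_option autoImplicit false
universe u

namespace Groth.Agent.Lib.T2H8.InsepC

open MvPolynomial TensorProduct Groth.Agent.Lib.T2H8.SepC Groth.Agent.Lib.T2H8.SymKaehler

section Psi

variable {k A : Type u} [Field k] [CommRing A] [Algebra k A] (d r n : ℕ) (a : Fin r → A)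

variable (k A) in
/-- the elements `x_i^n` of `k[x] ⊗ A` -/
noncomputable def xi : Fin d → MvPolynomial (Fin d) k ⊗[k] A :=
  fun i => algebraMap (MvPolynomial (Fin d) k) (MvPolynomial (Fin d) k ⊗[k] A) (X i ^ n)

variable (k) in
/-- the elements `1 ⊗ a_j` of `k[x] ⊗ A` -/
noncomputable def al : Fin r → MvPolynomial (Fin d) k ⊗[k] A :=
  fun j => (1 : MvPolynomial (Fin d) k) ⊗ₜ[k] a j

variable {Λ : Type u} [CommRing Λ] [Algebra k Λ] [Algebra (MvPolynomial (Fin d) k) Λ]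
  [IsScalarTower k (MvPolynomial (Fin d) k) Λ]

/-- the map `k[x] ⊗ A → Λ` -/
noncomputable def LL (φ : A →ₐ[k] Λ) :
    MvPolynomial (Fin d) k ⊗[k] A →ₐ[MvPolynomial (Fin d) k] Λ :=
  Algebra.TensorProduct.lift (Algebra.ofId (MvPolynomial (Fin d) k) Λ) φ
    (fun _ _ => Commute.all _ _)

theorem LL_tmul (φ : A →ₐ[k] Λ) (q : MvPolynomial (Fin d) k) (x : A) :
    LL d φ (q ⊗ₜ[k] x) = algebraMap (MvPolynomial (Fin d) k) Λ q * φ x := by
  unfold LL
  rw [Algebra.TensorProduct.lift_tmul]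
  rfl

theorem hrel (φ : A →ₐ[k] Λ) (lam : Fin d → Fin r → Λ)
    (hlam : ∀ i, algebraMap (MvPolynomial (Fin d) k) Λ (X i) ^ n = ∑ j, lam i j * φ (a j)) :
    letI algA'Λ : Algebra (MvPolynomial (Fin d) k ⊗[k] A) Λ := (LL d φ).toRingHom.toAlgebra
    ∀ i, algebraMap (MvPolynomial (Fin d) k ⊗[k] A) Λ (xi k A d n i) =
      ∑ j, (fun w : Fin d × Fin r => lam w.1 w.2) (i, j) *
        algebraMap (MvPolynomial (Fin d) k ⊗[k] A) Λ (al k d r a j) := by
  intro i
  show LL d φ (algebraMap (MvPolynomial (Fin d) k) _ (X i ^ n)) =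
    ∑ j, lam i j * LL d φ ((1 : MvPolynomial (Fin d) k) ⊗ₜ[k] a j)
  rw [(LL d φ).commutes, map_pow, hlam i]
  refine Finset.sum_congr rfl fun j _ => ?_
  rw [LL_tmul, map_one, one_mul]

/-- the map `B → Λ` -/
noncomputable def psiB (φ : A →ₐ[k] Λ) (lam : Fin d → Fin r → Λ)
    (hlam : ∀ i, algebraMap (MvPolynomial (Fin d) k) Λ (X i) ^ n = ∑ j, lam i j * φ (a j)) :
    BB (xi k A d n) (al k d r a) →ₐ[MvPolynomial (Fin d) k] Λ :=
  letI algA'Λ : Algebra (MvPolynomial (Fin d) k ⊗[k] A) Λ := (LL d φ).toRingHom.toAlgebra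
  haveI : IsScalarTower (MvPolynomial (Fin d) k) (MvPolynomial (Fin d) k ⊗[k] A) Λ :=
    IsScalarTower.of_algebraMap_eq (fun q => ((LL d φ).commutes q).symm)
  (liftB (xi k A d n) (al k d r a) (fun w => lam w.1 w.2)
    (hrel d r n a φ lam hlam)).restrictScalars (MvPolynomial (Fin d) k)

theorem psiB_algebraMap (φ : A →ₐ[k] Λ) (lam : Fin d → Fin r → Λ)
    (hlam : ∀ i, algebraMap (MvPolynomial (Fin d) k) Λ (X i) ^ n = ∑ j, lam i j * φ (a j))
    (x : MvPolynomial (Fin d) k ⊗[k] A) :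
    psiB d r n a φ lam hlam (algebraMap _ (BB (xi k A d n) (al k d r a)) x) = LL d φ x := by
  letI algA'Λ : Algebra (MvPolynomial (Fin d) k ⊗[k] A) Λ := (LL d φ).toRingHom.toAlgebra
  exact (liftB (xi k A d n) (al k d r a) (fun w => lam w.1 w.2)
    (hrel d r n a φ lam hlam)).commutes x

theorem psiB_gen (φ : A →ₐ[k] Λ) (lam : Fin d → Fin r → Λ)
    (hlam : ∀ i, algebraMap (MvPolynomial (Fin d) k) Λ (X i) ^ n = ∑ j, lam i j * φ (a j))
    (w : Fin d × Fin r) :
    psiB d r n a φ lam hlam (gen (xi k A d n) (al k d r a) w) = lam w.1 w.2 := by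
  letI algA'Λ : Algebra (MvPolynomial (Fin d) k ⊗[k] A) Λ := (LL d φ).toRingHom.toAlgebra
  exact liftB_gen (xi k A d n) (al k d r a) (fun w => lam w.1 w.2) (hrel d r n a φ lam hlam) w

end Psi

section Nat

variable {k A : Type u} [Field k] [CommRing A] [Algebra k A] (d r n : ℕ) (a : Fin r → A)
  {Λ₁ : Type u} [CommRing Λ₁] [Algebra k Λ₁] [Algebra (MvPolynomial (Fin d) k) Λ₁]
  [IsScalarTower k (MvPolynomial (Fin d) k) Λ₁]
  {Λ₂ : Type u} [CommRing Λ₂] [Algebra k Λ₂] [Algebra (MvPolynomial (Fin d) k) Λ₂]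
  [IsScalarTower k (MvPolynomial (Fin d) k) Λ₂]

theorem psiB_natural (θ : Λ₁ →+* Λ₂)
    (hθ : ∀ q : MvPolynomial (Fin d) k, θ (algebraMap _ Λ₁ q) = algebraMap _ Λ₂ q)
    (φ₁ : A →ₐ[k] Λ₁) (lam₁ : Fin d → Fin r → Λ₁)
    (h₁ : ∀ i, algebraMap (MvPolynomial (Fin d) k) Λ₁ (X i) ^ n = ∑ j, lam₁ i j * φ₁ (a j))
    (φ₂ : A →ₐ[k] Λ₂) (lam₂ : Fin d → Fin r → Λ₂)
    (h₂ : ∀ i, algebraMap (MvPolynomial (Fin d) k) Λ₂ (X i) ^ n = ∑ j, lam₂ i j * φ₂ (a j))
    (hφ : ∀ x, θ (φ₁ x) = φ₂ x) (hl : ∀ i j, θ (lam₁ i j) = lam₂ i j)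
    (b : BB (xi k A d n) (al k d r a)) :
    θ (psiB d r n a φ₁ lam₁ h₁ b) = psiB d r n a φ₂ lam₂ h₂ b := by
  have h : θ.comp (psiB d r n a φ₁ lam₁ h₁ : BB (xi k A d n) (al k d r a) →+* Λ₁) =
      (psiB d r n a φ₂ lam₂ h₂ : BB (xi k A d n) (al k d r a) →+* Λ₂) := by
    apply ringHom_ext_BB
    · intro x
      show θ (psiB d r n a φ₁ lam₁ h₁ (algebraMap _ _ x)) =
        psiB d r n a φ₂ lam₂ h₂ (algebraMap _ _ x)
      rw [psiB_algebraMap, psiB_algebraMap]
      induction x using TensorProduct.induction_on with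
      | zero => simp
      | tmul q y => rw [LL_tmul, LL_tmul, map_mul, hθ, hφ]
      | add x y hx hy => rw [map_add, map_add, map_add, hx, hy]
    · intro w
      show θ (psiB d r n a φ₁ lam₁ h₁ (gen _ _ w)) = psiB d r n a φ₂ lam₂ h₂ (gen _ _ w)
      rw [psiB_gen, psiB_gen, hl]
  exact RingHom.congr_fun h b

end Nat

section Main

variable {k A : Type u} [Field k] [CommRing A] [Algebra k A] [Algebra.FinitePresentation k A]

theorem exists_C' (d r n : ℕ) (a : Fin r → A) (ha : ∀ j, a j ∈ Smoothing.singularIdeal k A) :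
    ∃ (C : Type u) (_ : CommRing C) (_ : Algebra (MvPolynomial (Fin d) k) C) (gA : A →+* C),
      (∀ x : k, gA (algebraMap k A x) =
        algebraMap (MvPolynomial (Fin d) k) C (MvPolynomial.C x)) ∧
      Algebra.FinitePresentation (MvPolynomial (Fin d) k) C ∧
      (∃ c : ℕ, 0 < c ∧ ∀ i : Fin d, Smoothing.IsStrictlyStandard (MvPolynomial (Fin d) k) C
        (algebraMap (MvPolynomial (Fin d) k) C (X i ^ c))) ∧
      (∀ j, gA (a j) ∈ Smoothing.singularIdeal (MvPolynomial (Fin d) k) C) ∧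
      ∃ Ψ : ∀ (Λ : Type u) [CommRing Λ] [Algebra k Λ] [Algebra (MvPolynomial (Fin d) k) Λ]
          [IsScalarTower k (MvPolynomial (Fin d) k) Λ] (φ : A →ₐ[k] Λ) (lam : Fin d → Fin r → Λ),
          (∀ i, algebraMap (MvPolynomial (Fin d) k) Λ (X i) ^ n = ∑ j, lam i j * φ (a j)) →
          (C →ₐ[MvPolynomial (Fin d) k] Λ),
        (∀ (Λ : Type u) [CommRing Λ] [Algebra k Λ] [Algebra (MvPolynomial (Fin d) k) Λ]
          [IsScalarTower k (MvPolynomial (Fin d) k) Λ] (φ : A →ₐ[k] Λ) (lam : Fin d → Fin r → Λ)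
          (h : ∀ i, algebraMap (MvPolynomial (Fin d) k) Λ (X i) ^ n = ∑ j, lam i j * φ (a j))
          (x : A), Ψ Λ φ lam h (gA x) = φ x) ∧
        ∀ (Λ₁ Λ₂ : Type u) [CommRing Λ₁] [Algebra k Λ₁] [Algebra (MvPolynomial (Fin d) k) Λ₁]
          [IsScalarTower k (MvPolynomial (Fin d) k) Λ₁]
          [CommRing Λ₂] [Algebra k Λ₂] [Algebra (MvPolynomial (Fin d) k) Λ₂]
          [IsScalarTower k (MvPolynomial (Fin d) k) Λ₂] (θ : Λ₁ →+* Λ₂)
          (_ : ∀ q : MvPolynomial (Fin d) k, θ (algebraMap _ Λ₁ q) = algebraMap _ Λ₂ q)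
          (φ₁ : A →ₐ[k] Λ₁) (lam₁ : Fin d → Fin r → Λ₁)
          (h₁ : ∀ i, algebraMap (MvPolynomial (Fin d) k) Λ₁ (X i) ^ n = ∑ j, lam₁ i j * φ₁ (a j))
          (φ₂ : A →ₐ[k] Λ₂) (lam₂ : Fin d → Fin r → Λ₂)
          (h₂ : ∀ i, algebraMap (MvPolynomial (Fin d) k) Λ₂ (X i) ^ n = ∑ j, lam₂ i j * φ₂ (a j)),
          (∀ x, θ (φ₁ x) = φ₂ x) → (∀ i j, θ (lam₁ i j) = lam₂ i j) →
          ∀ c : C, θ (Ψ Λ₁ φ₁ lam₁ h₁ c) = Ψ Λ₂ φ₂ lam₂ h₂ c := by
  classical
  let R := MvPolynomial (Fin d) k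
  let A' := R ⊗[k] A
  let ξ : Fin d → A' := xi k A d n
  let α : Fin r → A' := al k d r a
  let B := BB ξ α
  haveI : Algebra.FinitePresentation R A' := inferInstance
  haveI hBA' : Algebra.FinitePresentation A' B := finitePresentation_BB ξ α
  haveI : Algebra.FinitePresentation R B := Algebra.FinitePresentation.trans R A' B
  have hα : ∀ j, Algebra.FormallySmooth R (Localization.Away (α j)) := by
    intro j
    haveI := Groth.Agent.Lib.T2H8.DelocA.formallySmooth_away_of_mem (a j) (ha j)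
    haveI : Algebra.FormallySmooth R (R ⊗[k] Localization.Away (a j)) := inferInstance
    exact Algebra.FormallySmooth.of_equiv
      (IsLocalization.Away.tensorProductEquivTMulRight k R (a j) (Localization.Away (a j)))
  obtain ⟨m, f, hf, hker⟩ := Algebra.FinitePresentation.out (R := R) (A := B)
  let P : Algebra.Generators R B (Fin m) := Algebra.Generators.ofAlgHom f hf
  haveI hCfp : Algebra.FinitePresentation R (CC P) := finitePresentation_CC P
  let gA : A →+* CC P := (algebraMap B (CC P)).comp ((algebraMap A' B).comp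
    (Algebra.TensorProduct.includeRight : A →ₐ[k] A').toRingHom)
  have hgA : ∀ x : A, gA x = algebraMap B (CC P) (algebraMap A' B ((1 : R) ⊗ₜ[k] x)) := fun x => rfl
  let retr : CC P →ₐ[B] B := (SymmetricAlgebra.algebraMapInv :
    SymmetricAlgebra B (P.toExtension.Cotangent × B) →ₐ[B] B)
  refine ⟨CC P, inferInstance, inferInstance, gA, ?_, hCfp, ?_, ?_,
    fun Λ _ _ _ _ φ lam hlam => (psiB d r n a φ lam hlam).comp (retr.restrictScalars R), ?_, ?_⟩
  · intro x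
    rw [hgA]
    have h1 : ((1 : R) ⊗ₜ[k] algebraMap k A x : A') = algebraMap R A' (MvPolynomial.C x) := by
      rw [Algebra.TensorProduct.algebraMap_apply, Algebra.algebraMap_self, RingHom.id_apply,
        Algebra.algebraMap_eq_smul_one, TensorProduct.tmul_smul, TensorProduct.smul_tmul',
        MvPolynomial.smul_eq_C_mul, mul_one]
    rw [h1, ← IsScalarTower.algebraMap_apply R A' B, ← IsScalarTower.algebraMap_apply R B (CC P)]
  · have hsm : ∀ i : Fin d, Algebra.FormallySmooth R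
        (Localization.Away (algebraMap A' B (algebraMap R A' (X i)))) := fun i =>
      smooth_root ξ α hα i (algebraMap R A' (X i)) n (by rw [← map_pow]; rfl)
    have hex : ∀ i : Fin d, ∃ e₀ : ℕ, ∀ n : ℕ, e₀ ≤ n → Smoothing.IsStrictlyStandard R (CC P)
        (algebraMap B (CC P) (algebraMap A' B (algebraMap R A' (X i))) ^ n) := fun i => by
      haveI := hsm i
      exact exists_strictlyStandard P _
    choose e₀ he₀ using hex
    refine ⟨1 + ∑ i, e₀ i, by omega, fun i => ?_⟩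
    have h1 := he₀ i (1 + ∑ i, e₀ i)
      ((Finset.single_le_sum (fun _ _ => Nat.zero_le _) (Finset.mem_univ i)).trans (by omega))
    rw [← IsScalarTower.algebraMap_apply R A' B, ← IsScalarTower.algebraMap_apply R B (CC P),
      ← map_pow] at h1
    exact h1
  · intro j
    rw [hgA]
    haveI := hα j
    haveI := smooth_alpha (R := R) ξ α j
    exact Groth.Agent.Lib.T2H8.DimZero.mem_singularIdeal_of_formallySmooth_away _
      (formallySmooth_away P (algebraMap A' B (α j)))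
  · intro Λ _ _ _ _ φ lam hlam x
    show psiB d r n a φ lam hlam (retr (gA x)) = φ x
    rw [hgA, retr.commutes]
    show psiB d r n a φ lam hlam (algebraMap A' B _) = _
    rw [psiB_algebraMap, LL_tmul, map_one, one_mul]
  · intro Λ₁ Λ₂ _ _ _ _ _ _ _ _ θ hθ φ₁ lam₁ h₁ φ₂ lam₂ h₂ hφ hl c
    show θ (psiB d r n a φ₁ lam₁ h₁ (retr c)) = psiB d r n a φ₂ lam₂ h₂ (retr c)
    exact psiB_natural d r n a θ hθ φ₁ lam₁ h₁ φ₂ lam₂ h₂ hφ hl (retr c)

end Main

end Groth.Agent.Lib.T2H8.InsepC
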