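import Mathlib

/-!
# Coefficientwise description of ideals `((P_l t_l)^e : l ∈ s)` in `O[t_1..t_d]` (helper for S6824)

* `Jc`, `JJ`: the coefficient ideals and the ideal generated by the `(C (P l) * X l) ^ e`.
* `coeff_mem_of_mem`, `mem_of_coeff_mem`: `f ∈ JJ ↔ ∀ ν, coeff ν f ∈ Jc ν`.
* `mul_mem_imp`, `pow_mul_mem_imp`: `C (P i) * X i` is a nonzerodivisor modulo `JJ` when `P i`
  is a nonzerodivisor modulo all coefficient ideals.
* `span_pow_le`: `(x_1, …, x_d)^(d e + 1) ≤ (x_1^e, …, x_d^e)`.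
-/

set_option autoImplicit false
universe u

namespace Groth.Agent.Lib.T2H8.InsepCoeff

open MvPolynomial

section Coeff

variable {O : Type*} [CommRing O] {d : ℕ} (P : Fin d → O) (e : ℕ) (s : Set (Fin d))

/-- the coefficient ideal in multidegree `ν` -/
def Jc (ν : Fin d →₀ ℕ) : Ideal O :=
  Ideal.span ((fun l => P l ^ e) '' {l | l ∈ s ∧ e ≤ ν l})

/-- the ideal generated by the `(P_l t_l)^e`, `l ∈ s` -/
noncomputable def JJ : Ideal (MvPolynomial (Fin d) O) :=
  Ideal.span ((fun l => (C (P l) * X l) ^ e) '' s)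

theorem Jc_mono {ν μ : Fin d →₀ ℕ} (h : ν ≤ μ) : Jc P e s ν ≤ Jc P e s μ := by
  apply Ideal.span_mono
  apply Set.image_mono
  rintro l ⟨hl, hle⟩
  exact ⟨hl, hle.trans (h l)⟩

theorem gen_eq (l : Fin d) :
    (C (P l) * X l : MvPolynomial (Fin d) O) ^ e = monomial (Finsupp.single l e) (P l ^ e) := by
  rw [mul_pow, ← C_pow, X_pow_eq_monomial, C_mul_monomial, mul_one]

theorem coeff_mem_of_mem {f : MvPolynomial (Fin d) O} (hf : f ∈ JJ P e s) :
    ∀ ν : Fin d →₀ ℕ, coeff ν f ∈ Jc P e s ν := by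
  unfold JJ at hf
  induction hf using Submodule.span_induction with
  | mem x hx =>
    intro ν
    obtain ⟨l, hl, rfl⟩ := hx
    show coeff ν ((C (P l) * X l) ^ e) ∈ _
    rw [gen_eq, coeff_monomial]
    split_ifs with h
    · apply Ideal.subset_span
      refine ⟨l, ⟨hl, ?_⟩, rfl⟩
      rw [← h]
      simp
    · exact Ideal.zero_mem _
  | zero => intro ν; simp
  | add x y _ _ hx hy => intro ν; rw [coeff_add]; exact Ideal.add_mem _ (hx ν) (hy ν)
  | smul a x _ hx =>
    intro ν
    rw [smul_eq_mul, coeff_mul]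
    apply Ideal.sum_mem
    rintro ⟨μ, μ'⟩ hμ
    have hμ := Finset.HasAntidiagonal.mem_antidiagonal.mp hμ
    apply Ideal.mul_mem_left
    have hle : μ' ≤ ν := by
      rw [← hμ]
      exact le_add_self
    exact Jc_mono P e s hle (hx μ')

theorem monomial_mem (ν : Fin d →₀ ℕ) {c : O} (hc : c ∈ Jc P e s ν) :
    monomial ν c ∈ JJ P e s := by
  unfold Jc at hc
  induction hc using Submodule.span_induction with
  | mem x hx =>
    obtain ⟨l, ⟨hl, hle⟩, rfl⟩ := hx
    have hν : ν = (ν - Finsupp.single l e) + Finsupp.single l e := by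
      rw [tsub_add_cancel_of_le]
      exact Finsupp.single_le_iff.mpr hle
    have h1 : monomial ν (P l ^ e) =
        monomial (ν - Finsupp.single l e) (1 : O) * (C (P l) * X l) ^ e := by
      rw [gen_eq, monomial_mul, one_mul, ← hν]
    rw [h1]
    exact Ideal.mul_mem_left _ _ (Ideal.subset_span ⟨l, hl, rfl⟩)
  | zero => simp
  | add x y _ _ hx hy => rw [map_add]; exact Ideal.add_mem _ hx hy
  | smul a x _ hx =>
    rw [smul_eq_mul, ← C_mul_monomial]
    exact Ideal.mul_mem_left _ _ hx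

theorem mem_of_coeff_mem {f : MvPolynomial (Fin d) O}
    (hf : ∀ ν : Fin d →₀ ℕ, coeff ν f ∈ Jc P e s ν) : f ∈ JJ P e s := by
  rw [f.as_sum]
  apply Ideal.sum_mem
  intro ν _
  exact monomial_mem P e s ν (hf ν)

theorem mul_mem_imp (i : Fin d) (hi : i ∉ s)
    (hreg : ∀ ν : Fin d →₀ ℕ, ∀ b : O, P i * b ∈ Jc P e s ν → b ∈ Jc P e s ν)
    (g : MvPolynomial (Fin d) O) (hg : C (P i) * X i * g ∈ JJ P e s) : g ∈ JJ P e s := by
  apply mem_of_coeff_mem
  intro ν
  apply hreg
  have h1 := coeff_mem_of_mem P e s hg (ν + Finsupp.single i 1)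
  have h2 : coeff (ν + Finsupp.single i 1) (C (P i) * X i * g) = P i * coeff ν g := by
    rw [mul_assoc, coeff_C_mul, mul_comm (X i) g, coeff_mul_X]
  have h3 : Jc P e s (ν + Finsupp.single i 1) = Jc P e s ν := by
    unfold Jc
    congr 2
    ext l
    constructor
    · rintro ⟨hl, hle⟩
      refine ⟨hl, ?_⟩
      have hne : i ≠ l := fun h => hi (h ▸ hl)
      simpa [Finsupp.single_apply, hne] using hle
    · rintro ⟨hl, hle⟩
      exact ⟨hl, hle.trans (by simp)⟩
  rw [h2, h3] at h1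
  exact h1

theorem pow_mul_mem_imp (i : Fin d) (hi : i ∉ s)
    (hreg : ∀ ν : Fin d →₀ ℕ, ∀ b : O, P i * b ∈ Jc P e s ν → b ∈ Jc P e s ν) (m : ℕ) :
    ∀ g : MvPolynomial (Fin d) O, (C (P i) * X i) ^ m * g ∈ JJ P e s → g ∈ JJ P e s := by
  induction m with
  | zero => intro g hg; simpa using hg
  | succ m ih =>
    intro g hg
    apply ih
    apply mul_mem_imp P e s i hi hreg
    rw [← mul_assoc, ← pow_succ']
    exact hg

end Coeff

section SpanPow

variable {R : Type*} [CommRing R] {ι : Type*} [DecidableEq ι]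

theorem span_pow_le_finset (x : ι → R) (e : ℕ) (t : Finset ι) :
    Ideal.span (x '' (t : Set ι)) ^ (t.card * e + 1) ≤
      Ideal.span ((fun i => x i ^ e) '' (t : Set ι)) := by
  induction t using Finset.induction_on with
  | empty => simp
  | insert i t hi ih =>
    rw [Finset.coe_insert, Set.image_insert_eq, Set.image_insert_eq, Ideal.span_insert,
      Ideal.span_insert, Finset.card_insert_of_notMem hi, add_mul, one_mul,
      show t.card * e + e + 1 = e + (t.card * e + 1) by ring]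
    refine Ideal.sup_pow_add_le_pow_sup_pow.trans (sup_le_sup ?_ ih)
    rw [Ideal.span_singleton_pow]

theorem span_pow_le {d : ℕ} (x : Fin d → R) (e : ℕ) :
    Ideal.span (Set.range x) ^ (d * e + 1) ≤ Ideal.span (Set.range fun i => x i ^ e) := by
  classical
  have h := span_pow_le_finset x e (Finset.univ : Finset (Fin d))
  simpa using h

end SpanPow

end Groth.Agent.Lib.T2H8.InsepCoeff
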