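import Mathlib
import Groth.Agent.Lib.Helper19CoeffField

/-!
# Artinian local algebras as directed unions of essentially finite type subalgebras (S6854)

`k` a field of characteristic `p`, `Λ` an Artinian local `k`-algebra with residue field `K`,
`H₁(L_{K/k})` finite over `K`.  We construct a coefficient field `σ : K → Λ` such that the image
of `k` lies in `T σ lam F = ℤ[σ(F), lam]` for a finitely generated subextension `F` (`claim`, by
induction on the nilpotency order, correcting `σ` by derivations: `exists_derivation_extend`,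
`step`), and then show that for `F` large `T σ lam F` is an Artinian local subalgebra,
essentially of finite type, over which `Λ` is free (`main`).
-/

set_option autoImplicit false
universe u

namespace Groth.Agent.Lib.T2H8.ArtUnion

open Groth.Agent.Lib.Helper19 Module TensorProduct

/-- lifting ring homs from a field of characteristic `p` along surjections with nilpotent
kernel (formal smoothness over `𝔽_p`) -/
theorem exists_lift_charP (p : ℕ) [Fact p.Prime] {L B C : Type u} [Field L] [CharP L p]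
    [CommRing B] [CommRing C] [CharP B p] (g : L →+* C) (π : B →+* C)
    (hπ : Function.Surjective π) (hnil : IsNilpotent (RingHom.ker π)) :
    ∃ f : L →+* B, π.comp f = g := by
  letI : Algebra (ZMod p) L := ZMod.algebra L p
  letI : Algebra (ZMod p) B := ZMod.algebra B p
  letI : Algebra (ZMod p) C := (g.comp (algebraMap (ZMod p) L)).toAlgebra
  haveI : Algebra.FormallySmooth (ZMod p) L := PBasis.formallySmooth_zmod p L
  have hg : ∀ r : ZMod p, g (algebraMap (ZMod p) L r) = algebraMap (ZMod p) C r := fun r => rfl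
  have hπc : ∀ r : ZMod p, π (algebraMap (ZMod p) B r) = algebraMap (ZMod p) C r := fun r =>
    RingHom.congr_fun
      (Subsingleton.elim (π.comp (algebraMap (ZMod p) B)) (algebraMap (ZMod p) C)) r
  let g' : L →ₐ[ZMod p] C := { g with commutes' := hg }
  let π' : B →ₐ[ZMod p] C := { π with commutes' := hπc }
  have hnil' : IsNilpotent (RingHom.ker (π' : B →+* C)) := hnil
  let s := Algebra.FormallySmooth.liftOfSurjective g' π' hπ hnil'
  refine ⟨s, RingHom.ext fun x => ?_⟩
  exact Algebra.FormallySmooth.liftOfSurjective_apply g' π' hπ hnil' x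

section Dense

variable {Λ : Type u} [CommRing Λ] (𝔪 : Ideal Λ) (S : Subring Λ) {d : ℕ} (lam : Fin d → Λ)
  (hlam : Ideal.span (Set.range lam) = 𝔪) (hS1 : ∀ i, lam i ∈ S)
  (hS2 : ∀ x : Λ, ∃ s ∈ S, x - s ∈ 𝔪)

include hlam hS1 hS2 in
theorem dense_approx_one (b : Λ) (hb : b ∈ 𝔪) : ∃ t ∈ S, t ∈ 𝔪 ∧ b - t ∈ 𝔪 ^ 2 := by
  have hb' : b ∈ Ideal.span (Set.range lam) := by rw [hlam]; exact hb
  induction hb' using Submodule.span_induction with
  | mem x hx =>
    obtain ⟨i, rfl⟩ := hx
    refine ⟨lam i, hS1 i, ?_, by simp⟩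
    rw [← hlam]
    exact Ideal.subset_span ⟨i, rfl⟩
  | zero => exact ⟨0, Subring.zero_mem _, Ideal.zero_mem _, by simp⟩
  | add x y _ _ hx hy =>
    have hx' : x ∈ 𝔪 := by rw [← hlam]; assumption
    have hy' : y ∈ 𝔪 := by rw [← hlam]; assumption
    obtain ⟨t1, h1, h1', h1''⟩ := hx hx'
    obtain ⟨t2, h2, h2', h2''⟩ := hy hy'
    refine ⟨t1 + t2, Subring.add_mem _ h1 h2, Ideal.add_mem _ h1' h2', ?_⟩
    have : x + y - (t1 + t2) = (x - t1) + (y - t2) := by ring
    rw [this]
    exact Ideal.add_mem _ h1'' h2''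
  | smul c x _ hx =>
    have hx' : x ∈ 𝔪 := by rw [← hlam]; assumption
    obtain ⟨t1, h1, h1', h1''⟩ := hx hx'
    obtain ⟨s, hs, hcs⟩ := hS2 c
    refine ⟨s * t1, Subring.mul_mem _ hs h1, Ideal.mul_mem_left _ _ h1', ?_⟩
    have : c • x - s * t1 = c * (x - t1) + (c - s) * t1 := by
      rw [smul_eq_mul]; ring
    rw [this]
    refine Ideal.add_mem _ (Ideal.mul_mem_left _ _ h1'') ?_
    rw [pow_two]
    exact Ideal.mul_mem_mul hcs h1'

include hlam hS1 hS2 in
theorem dense_approx (j : ℕ) : ∀ x ∈ 𝔪 ^ j,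
    ∃ t ∈ S, t ∈ 𝔪 ^ j ∧ x - t ∈ 𝔪 ^ (j + 1) := by
  induction j with
  | zero =>
    intro x _
    obtain ⟨s, hs, hxs⟩ := hS2 x
    refine ⟨s, hs, by simp, ?_⟩
    rw [zero_add, pow_one]
    exact hxs
  | succ j ih =>
    intro x hx
    rw [pow_succ] at hx
    refine Submodule.mul_induction_on hx ?_ ?_
    · intro a ha b hb
      obtain ⟨ta, hta, hta', hta''⟩ := ih a ha
      obtain ⟨tb, htb, htb', htb''⟩ := dense_approx_one 𝔪 S lam hlam hS1 hS2 b hb
      refine ⟨ta * tb, Subring.mul_mem _ hta htb, ?_, ?_⟩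
      · rw [pow_succ]
        exact Ideal.mul_mem_mul hta' htb'
      · have : a * b - ta * tb = a * (b - tb) + (a - ta) * tb := by ring
        rw [this]
        refine Ideal.add_mem _ ?_ ?_
        · have h1 := Ideal.mul_mem_mul ha htb''
          rw [← pow_add] at h1
          exact h1
        · have h1 := Ideal.mul_mem_mul hta'' htb'
          rw [← pow_succ] at h1
          exact h1
    · intro x y hx hy
      obtain ⟨t1, h1, h1', h1''⟩ := hx
      obtain ⟨t2, h2, h2', h2''⟩ := hy
      refine ⟨t1 + t2, Subring.add_mem _ h1 h2, Ideal.add_mem _ h1' h2', ?_⟩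
      have : x + y - (t1 + t2) = (x - t1) + (y - t2) := by ring
      rw [this]
      exact Ideal.add_mem _ h1'' h2''

include hlam hS1 hS2 in
theorem dense_approx' (j : ℕ) : ∀ x : Λ, ∃ t ∈ S, x - t ∈ 𝔪 ^ j := by
  induction j with
  | zero => exact fun x => ⟨0, Subring.zero_mem _, by simp⟩
  | succ j ih =>
    intro x
    obtain ⟨t, ht, hxt⟩ := ih x
    obtain ⟨t', ht', -, h'⟩ := dense_approx 𝔪 S lam hlam hS1 hS2 j (x - t) hxt
    refine ⟨t + t', Subring.add_mem _ ht ht', ?_⟩
    have : x - (t + t') = x - t - t' := by ring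
    rw [this]
    exact h'

include hlam hS1 hS2 in
/-- a subring containing generators of a nilpotent ideal and surjecting onto the quotient is
everything -/
theorem dense_eq_top (n : ℕ) (hn : 𝔪 ^ n = ⊥) : S = ⊤ := by
  rw [eq_top_iff]
  intro x _
  obtain ⟨t, ht, hxt⟩ := dense_approx' 𝔪 S lam hlam hS1 hS2 n x
  rw [hn, Ideal.mem_bot, sub_eq_zero] at hxt
  rw [hxt]
  exact ht

end Dense

/-- fractions: if a subring `A₀` contains generators of a nilpotent ideal `𝔪'` and every element
is a fraction of elements of `A₀` modulo `𝔪'`, then every element is a fraction. -/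
theorem frac_dense {A' : Type u} [CommRing A'] (𝔪' : Ideal A') (n : ℕ) (hn : 𝔪' ^ n = ⊥)
    (A₀ : Subring A') {d : ℕ} (lam' : Fin d → A')
    (hlam' : Ideal.span (Set.range lam') = 𝔪') (h1 : ∀ i, lam' i ∈ A₀)
    (h2 : ∀ a : A', ∃ b ∈ A₀, ∃ m ∈ A₀, IsUnit m ∧ a * m - b ∈ 𝔪') :
    ∀ a : A', ∃ m ∈ A₀, IsUnit m ∧ a * m ∈ A₀ := by
  let B : Subring A' :=
    { carrier := {a | ∃ m ∈ A₀, IsUnit m ∧ a * m ∈ A₀}
      zero_mem' := ⟨1, A₀.one_mem, isUnit_one, by rw [zero_mul]; exact A₀.zero_mem⟩
      one_mem' := ⟨1, A₀.one_mem, isUnit_one, by rw [one_mul]; exact A₀.one_mem⟩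
      add_mem' := by
        rintro a a' ⟨m, hm, hu, h⟩ ⟨m', hm', hu', h'⟩
        refine ⟨m * m', A₀.mul_mem hm hm', hu.mul hu', ?_⟩
        have : (a + a') * (m * m') = (a * m) * m' + (a' * m') * m := by ring
        rw [this]
        exact A₀.add_mem (A₀.mul_mem h hm') (A₀.mul_mem h' hm)
      mul_mem' := by
        rintro a a' ⟨m, hm, hu, h⟩ ⟨m', hm', hu', h'⟩
        refine ⟨m * m', A₀.mul_mem hm hm', hu.mul hu', ?_⟩
        have : (a * a') * (m * m') = (a * m) * (a' * m') := by ring
        rw [this]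
        exact A₀.mul_mem h h'
      neg_mem' := by
        rintro a ⟨m, hm, hu, h⟩
        exact ⟨m, hm, hu, by rw [neg_mul]; exact A₀.neg_mem h⟩ }
  have hB : B = ⊤ := by
    refine dense_eq_top 𝔪' B lam' hlam'
      (fun i => ⟨1, A₀.one_mem, isUnit_one, by rw [mul_one]; exact h1 i⟩) ?_ n hn
    intro a
    obtain ⟨b, hb, m, hm, hu, h⟩ := h2 a
    obtain ⟨mi, hmi⟩ := hu.exists_right_inv
    refine ⟨b * mi, ⟨m, hm, hu, ?_⟩, ?_⟩
    · have : b * mi * m = b := by rw [mul_assoc, mul_comm mi m, hmi, mul_one]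
      rw [this]
      exact hb
    · have : a - b * mi = (a * m - b) * mi := by rw [sub_mul, mul_assoc, hmi, mul_one]
      rw [this]
      exact Ideal.mul_mem_right _ _ h
  intro a
  have : a ∈ B := hB ▸ Subring.mem_top a
  exact this

section Gen

variable {k : Type u} [Field k] {K : Type u} [Field K] [Algebra k K]
variable {Λ : Type u} [CommRing Λ]

/-- the subring generated by `σ(F)` and the `lam i` -/
def T (σ : K →+* Λ) {d : ℕ} (lam : Fin d → Λ) (F : IntermediateField k K) : Subring Λ :=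
  Subring.closure ((fun x => σ x) '' (F : Set K) ∪ Set.range lam)

theorem T_mono (σ : K →+* Λ) {d : ℕ} (lam : Fin d → Λ) {F F' : IntermediateField k K}
    (h : F ≤ F') : T σ lam F ≤ T σ lam F' := by
  apply Subring.closure_mono
  apply Set.union_subset_union_left
  exact Set.image_mono h

theorem sigma_mem_T (σ : K →+* Λ) {d : ℕ} (lam : Fin d → Λ) (F : IntermediateField k K)
    {x : K} (hx : x ∈ F) : σ x ∈ T σ lam F :=
  Subring.subset_closure (Or.inl ⟨x, hx, rfl⟩)

theorem lam_mem_T (σ : K →+* Λ) {d : ℕ} (lam : Fin d → Λ) (F : IntermediateField k K)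
    (i : Fin d) : lam i ∈ T σ lam F :=
  Subring.subset_closure (Or.inr ⟨i, rfl⟩)

theorem exists_fg_of_mem_T_top (σ : K →+* Λ) {d : ℕ} (lam : Fin d → Λ) {x : Λ}
    (hx : x ∈ T (k := k) σ lam ⊤) :
    ∃ F : IntermediateField k K, F.FG ∧ x ∈ T σ lam F := by
  unfold T at hx
  induction hx using Subring.closure_induction with
  | mem y hy =>
    rcases hy with ⟨c, -, rfl⟩ | ⟨i, rfl⟩
    · refine ⟨IntermediateField.adjoin k {c},
        IntermediateField.fg_adjoin_of_finite (Set.finite_singleton c), ?_⟩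
      exact sigma_mem_T σ lam _ (IntermediateField.mem_adjoin_simple_self k c)
    · exact ⟨⊥, IntermediateField.fg_bot, lam_mem_T σ lam _ i⟩
  | zero => exact ⟨⊥, IntermediateField.fg_bot, Subring.zero_mem _⟩
  | one => exact ⟨⊥, IntermediateField.fg_bot, Subring.one_mem _⟩
  | add a b _ _ ha hb =>
    obtain ⟨F1, hF1, h1⟩ := ha
    obtain ⟨F2, hF2, h2⟩ := hb
    exact ⟨F1 ⊔ F2, IntermediateField.fg_sup hF1 hF2,
      Subring.add_mem _ (T_mono σ lam le_sup_left h1) (T_mono σ lam le_sup_right h2)⟩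
  | neg a _ ha =>
    obtain ⟨F1, hF1, h1⟩ := ha
    exact ⟨F1, hF1, Subring.neg_mem _ h1⟩
  | mul a b _ _ ha hb =>
    obtain ⟨F1, hF1, h1⟩ := ha
    obtain ⟨F2, hF2, h2⟩ := hb
    exact ⟨F1 ⊔ F2, IntermediateField.fg_sup hF1 hF2,
      Subring.mul_mem _ (T_mono σ lam le_sup_left h1) (T_mono σ lam le_sup_right h2)⟩

section Surj

variable (res : Λ →+* K) (σ : K →+* Λ) (hσ : ∀ x, res (σ x) = x) {d : ℕ} (lam : Fin d → Λ)
  (hlam : Ideal.span (Set.range lam) = RingHom.ker res)

include hσ in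
theorem sub_sigma_mem_ker (c : Λ) : c - σ (res c) ∈ RingHom.ker res := by
  rw [RingHom.mem_ker, map_sub, hσ, sub_self]

include hlam in
theorem lam_mem_ker (i : Fin d) : lam i ∈ RingHom.ker res := by
  rw [← hlam]
  exact Ideal.subset_span ⟨i, rfl⟩

include hσ hlam in
theorem T_top_eq_top (n : ℕ) (hn : RingHom.ker res ^ n = ⊥) : T (k := k) σ lam ⊤ = ⊤ :=
  dense_eq_top (RingHom.ker res) (T (k := k) σ lam ⊤) lam hlam (lam_mem_T σ lam _)
    (fun x => ⟨σ (res x), sigma_mem_T σ lam _ trivial, sub_sigma_mem_ker res σ hσ x⟩) n hn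

include hσ hlam in
/-- every element lies in `T σ lam F` for some finitely generated `F` -/
theorem exists_fg_mem_T (n : ℕ) (hn : RingHom.ker res ^ n = ⊥) (x : Λ) :
    ∃ F : IntermediateField k K, F.FG ∧ x ∈ T σ lam F := by
  apply exists_fg_of_mem_T_top
  rw [T_top_eq_top (k := k) res σ hσ lam hlam n hn]
  trivial

include hσ hlam in
theorem exists_fg_forall_mem_T (n : ℕ) (hn : RingHom.ker res ^ n = ⊥) (E : Finset Λ) :
    ∃ F : IntermediateField k K, F.FG ∧ ∀ x ∈ E, x ∈ T σ lam F := by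
  classical
  induction E using Finset.induction_on with
  | empty => exact ⟨⊥, IntermediateField.fg_bot, by simp⟩
  | insert a s _ ih =>
    obtain ⟨F1, hF1, h1⟩ := ih
    obtain ⟨F2, hF2, h2⟩ := exists_fg_mem_T (k := k) res σ hσ lam hlam n hn a
    refine ⟨F1 ⊔ F2, IntermediateField.fg_sup hF1 hF2, ?_⟩
    intro x hx
    rcases Finset.mem_insert.mp hx with rfl | hx
    · exact T_mono σ lam le_sup_right h2
    · exact T_mono σ lam le_sup_left (h1 x hx)

include hσ hlam in
theorem res_mem_of_mem_T (F : IntermediateField k K) {x : Λ} (hx : x ∈ T σ lam F) :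
    res x ∈ F := by
  have h : T σ lam F ≤ (F.toSubalgebra.toSubring).comap res := by
    apply Subring.closure_le.mpr
    rintro _ (⟨y, hy, rfl⟩ | ⟨i, rfl⟩)
    · show res (σ y) ∈ F
      rw [hσ]
      exact hy
    · show res (lam i) ∈ F
      rw [RingHom.mem_ker.mp (lam_mem_ker res lam hlam i)]
      exact F.zero_mem
  exact h hx

end Surj

end Gen


section LemX

open KaehlerDifferential

/-- extending derivations along a field extension with finite `H₁(L_{K/k})`, up to finitely
many correction terms. -/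
theorem exists_derivation_extend {k K : Type u} [Field k] [Field K] [Algebra k K]
    (hH : Module.Finite K (Algebra.H1Cotangent k K))
    {M : Type u} [AddCommGroup M] [Module k M] [Module K M] [IsScalarTower k K M]
    (Dθ : Derivation ℤ k M) :
    ∃ (D : Derivation ℤ K M) (ι : Type u) (J : Finset ι) (c : ι → k → k) (f : ι → M),
      ∀ a : k, Dθ a = D (algebraMap k K a) + ∑ j ∈ J, (algebraMap k K (c j a)) • f j := by
  classical
  let u : K ⊗[k] Ω[k⁄ℤ] →ₗ[K] Ω[K⁄ℤ] := KaehlerDifferential.mapBaseChange ℤ k K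
  let θ : K ⊗[k] Ω[k⁄ℤ] →ₗ[K] M := Dθ.liftKaehlerDifferential.liftBaseChange K
  let b : Basis (Module.Free.ChooseBasisIndex k Ω[k⁄ℤ]) k Ω[k⁄ℤ] :=
    Module.Free.chooseBasis k Ω[k⁄ℤ]
  let bK := Algebra.TensorProduct.basis K b
  have hfin : (LinearMap.ker u).FG := by
    have hex := Algebra.H1Cotangent.exact_δ_mapBaseChange ℤ k K
    have h1 : LinearMap.ker u = LinearMap.range (Algebra.H1Cotangent.δ ℤ k K) :=
      (LinearMap.exact_iff.mp hex)
    rw [h1]
    exact Module.Finite.iff_fg.mp (Module.Finite.range _)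
  obtain ⟨S, hS⟩ := hfin
  let J₀ : Finset (Module.Free.ChooseBasisIndex k Ω[k⁄ℤ]) :=
    S.biUnion fun s => (bK.repr s).support
  have hker : LinearMap.ker u ≤ Submodule.span K (bK '' (J₀ : Set _)) := by
    rw [← hS, Submodule.span_le]
    intro s hs
    rw [SetLike.mem_coe, Basis.mem_span_image]
    intro j hj
    exact Finset.mem_coe.mpr (Finset.mem_biUnion.mpr ⟨s, hs, hj⟩)
  let V₁ : Submodule K (K ⊗[k] Ω[k⁄ℤ]) := Submodule.span K (bK '' ((J₀ : Set _)ᶜ))
  have hdisj : Disjoint (LinearMap.ker u) V₁ :=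
    (bK.linearIndependent.disjoint_span_image disjoint_compl_right).mono_left hker
  let fV : ↥V₁ →ₗ[K] Ω[K⁄ℤ] := u ∘ₗ V₁.subtype
  have hinj : LinearMap.ker fV = ⊥ := by
    apply LinearMap.ker_eq_bot'.mpr
    intro v hv
    have h0 : (v : K ⊗[k] Ω[k⁄ℤ]) = 0 :=
      Submodule.disjoint_def.mp hdisj v.1 (LinearMap.mem_ker.mpr hv) v.2
    exact Subtype.ext h0
  obtain ⟨r, hr⟩ := LinearMap.exists_leftInverse_of_injective (K := K) (V := ↥V₁) (V' := Ω[K⁄ℤ]) fV hinj
  let Dt : Ω[K⁄ℤ] →ₗ[K] M := θ ∘ₗ V₁.subtype ∘ₗ r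
  let φ : K ⊗[k] Ω[k⁄ℤ] →ₗ[K] M := θ - Dt ∘ₗ u
  have hφ : ∀ j, j ∉ J₀ → φ (bK j) = 0 := by
    intro j hj
    have hmem : bK j ∈ V₁ := Submodule.subset_span ⟨j, hj, rfl⟩
    have h1 : r (u (bK j)) = ⟨bK j, hmem⟩ := LinearMap.congr_fun hr ⟨bK j, hmem⟩
    show θ (bK j) - θ (V₁.subtype (r (u (bK j)))) = 0
    rw [h1]
    exact sub_self _
  have key : ∀ w, φ w = ∑ j ∈ J₀, (bK.repr w j) • φ (bK j) := by
    intro w
    conv_lhs => rw [← bK.linearCombination_repr w]
    rw [Finsupp.linearCombination_apply, map_finsuppSum]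
    simp only [map_smul]
    rw [Finsupp.sum_of_support_subset (s := (bK.repr w).support ∪ J₀) _
      Finset.subset_union_left _ (by intro i _; simp)]
    symm
    apply Finset.sum_subset Finset.subset_union_right
    intro j _ hj
    rw [hφ j hj, smul_zero]
  refine ⟨Dt.compDer (KaehlerDifferential.D ℤ K), _, J₀,
    fun j a => b.repr (KaehlerDifferential.D ℤ k a) j, fun j => φ (bK j), fun a => ?_⟩
  have h1 : θ ((1 : K) ⊗ₜ[k] KaehlerDifferential.D ℤ k a) = Dθ a := by
    show (1 : K) • Dθ.liftKaehlerDifferential (KaehlerDifferential.D ℤ k a) = Dθ a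
    rw [Derivation.liftKaehlerDifferential_comp_D, one_smul]
  have h2 : u ((1 : K) ⊗ₜ[k] KaehlerDifferential.D ℤ k a) =
      KaehlerDifferential.D ℤ K (algebraMap k K a) := by
    show KaehlerDifferential.mapBaseChange ℤ k K _ = _
    rw [KaehlerDifferential.mapBaseChange_tmul, KaehlerDifferential.map_D, one_smul]
  have h3 := key ((1 : K) ⊗ₜ[k] KaehlerDifferential.D ℤ k a)
  have h4 : φ ((1 : K) ⊗ₜ[k] KaehlerDifferential.D ℤ k a) =
      Dθ a - Dt (KaehlerDifferential.D ℤ K (algebraMap k K a)) := by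
    show θ _ - Dt (u _) = _
    rw [h1, h2]
  rw [h4] at h3
  have h5 : ∀ j, bK.repr ((1 : K) ⊗ₜ[k] KaehlerDifferential.D ℤ k a) j =
      algebraMap k K (b.repr (KaehlerDifferential.D ℤ k a) j) := by
    intro j
    rw [Algebra.TensorProduct.basis_repr_tmul, one_smul, Finsupp.mapRange_apply]
  simp only [h5] at h3
  show Dθ a = Dt (KaehlerDifferential.D ℤ K (algebraMap k K a)) + _
  rw [← h3]
  abel

end LemX


section Step

variable {k : Type u} [Field k] {K : Type u} [Field K] [Algebra k K]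

theorem fg_finset_sup {ι : Type*} (J : Finset ι) (Fj : ι → IntermediateField k K)
    (h : ∀ j ∈ J, (Fj j).FG) : (J.sup Fj).FG := by
  classical
  induction J using Finset.induction_on with
  | empty =>
    rw [Finset.sup_empty]
    exact IntermediateField.fg_bot
  | insert a s _ ih =>
    rw [Finset.sup_insert]
    exact IntermediateField.fg_sup (h a (Finset.mem_insert_self a s))
      (ih fun j hj => h j (Finset.mem_insert_of_mem hj))

theorem step {Λ : Type u} [CommRing Λ] [Algebra k Λ] (p : ℕ) [Fact p.Prime] [CharP k p]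
    (hH : Module.Finite K (Algebra.H1Cotangent k K)) (res : Λ →+* K)
    (hres : ∀ a : k, res (algebraMap k Λ a) = algebraMap k K a)
    {d : ℕ} (lam : Fin d → Λ) (hlam : Ideal.span (Set.range lam) = RingHom.ker res)
    (n : ℕ) (hn : RingHom.ker res ^ n = ⊥)
    (I : Ideal Λ) (hI : I ≤ RingHom.ker res)
    (hIm : ∀ x ∈ I, ∀ y ∈ RingHom.ker res, x * y = 0)
    (σ₀ : K →+* Λ) (hσ₀ : ∀ x, res (σ₀ x) = x) (F' : IntermediateField k K) (hF' : F'.FG)
    (happ : ∀ a : k, ∃ t ∈ T σ₀ lam F', algebraMap k Λ a - t ∈ I) :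
    ∃ σ : K →+* Λ, (∀ x, res (σ x) = x) ∧ ∃ F : IntermediateField k K, F.FG ∧
      ∀ a : k, algebraMap k Λ a ∈ T σ lam F := by
  classical
  have hI2 : I ^ 2 = ⊥ := by
    rw [eq_bot_iff, pow_two, Ideal.mul_le]
    intro x hx y hy
    rw [Ideal.mem_bot]
    exact hIm x hx y (hI hy)
  haveI : Nontrivial Λ := res.domain_nontrivial
  haveI : CharP Λ p := charP_of_injective_algebraMap (algebraMap k Λ).injective p
  let S₀ : Subring Λ := T σ₀ lam F'
  let π : Λ →+* Λ ⧸ I := Ideal.Quotient.mk I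
  let q : ↥S₀ →+* Λ ⧸ I := π.comp S₀.subtype
  let π' : ↥S₀ →+* ↥q.range := q.rangeRestrict
  have hπ' : Function.Surjective π' := q.rangeRestrict_surjective
  have hmemC : ∀ a : k, (π.comp (algebraMap k Λ)) a ∈ q.range := by
    intro a
    obtain ⟨t, ht, hat⟩ := happ a
    exact ⟨⟨t, ht⟩, (Ideal.Quotient.eq.mpr hat).symm⟩
  let g : k →+* ↥q.range := (π.comp (algebraMap k Λ)).codRestrict q.range hmemC
  have hnil : IsNilpotent (RingHom.ker π') := by
    refine ⟨2, ?_⟩
    rw [Ideal.zero_eq_bot, eq_bot_iff, pow_two, Ideal.mul_le]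
    have hxI : ∀ z ∈ RingHom.ker π', (z : Λ) ∈ I := by
      intro z hz
      have h1 : Ideal.Quotient.mk I (z : Λ) = 0 :=
        congrArg Subtype.val (RingHom.mem_ker.mp hz)
      exact Ideal.Quotient.eq_zero_iff_mem.mp h1
    intro x hx y hy
    rw [Ideal.mem_bot]
    apply Subtype.ext
    show (x : Λ) * (y : Λ) = 0
    exact hIm _ (hxI x hx) _ (hI (hxI y hy))
  obtain ⟨τ, hτ⟩ := exists_lift_charP p g π' hπ' hnil
  let τ₀ : k →+* Λ := S₀.subtype.comp τ
  have hτ₀S : ∀ a, τ₀ a ∈ T σ₀ lam F' := fun a => (τ a).2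
  have hτ₀I : ∀ a, τ₀ a - algebraMap k Λ a ∈ I := by
    intro a
    have h1 : Ideal.Quotient.mk I (τ₀ a) = Ideal.Quotient.mk I (algebraMap k Λ a) :=
      congrArg Subtype.val (RingHom.congr_fun hτ a)
    exact Ideal.Quotient.eq.mp h1
  have hτ₀res : ∀ a, res (τ₀ a) = algebraMap k K a := by
    intro a
    have := hI (hτ₀I a)
    rw [RingHom.mem_ker, map_sub, hres, sub_eq_zero] at this
    exact this
  let f₀ : k →ₐ[ℤ] Λ := τ₀.toIntAlgHom
  have e : (Ideal.Quotient.mkₐ ℤ I).comp f₀ = IsScalarTower.toAlgHom ℤ k (Λ ⧸ I) := by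
    apply AlgHom.ext
    intro a
    show Ideal.Quotient.mk I (τ₀ a) = Ideal.Quotient.mk I (algebraMap k Λ a)
    exact Ideal.Quotient.eq.mpr (hτ₀I a)
  let Dθ : Derivation ℤ k I := derivationToSquareZeroOfLift I hI2 f₀ e
  have hDθ : ∀ a, (Dθ a : Λ) = τ₀ a - algebraMap k Λ a := fun a =>
    derivationToSquareZeroOfLift_apply I hI2 f₀ e a
  letI algK : Algebra K Λ := σ₀.toAlgebra
  have hsmul : ∀ (x : K) (m : ↥I), ((x • m : ↥I) : Λ) = σ₀ x * m := fun x m => rfl
  have hksmul : ∀ (a : k) (m : ↥I), ((a • m : ↥I) : Λ) = algebraMap k Λ a * m :=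
    fun a m => Algebra.smul_def a (m : Λ)
  have hdiff : ∀ (y : Λ) (m : Λ), m ∈ I → y * m = σ₀ (res y) * m := by
    intro y m hm
    have h := hIm m hm (y - σ₀ (res y)) (sub_sigma_mem_ker res σ₀ hσ₀ y)
    linear_combination h
  haveI : IsScalarTower k K ↥I := ⟨fun a x m => by
    apply Subtype.ext
    rw [hsmul, hksmul, hsmul, Algebra.smul_def, map_mul]
    have h := hdiff (algebraMap k Λ a) (σ₀ x * m) (I.mul_mem_left _ m.2)
    rw [hres] at h
    rw [h]
    ring⟩
  obtain ⟨D, ι, J, c, f, hD⟩ := exists_derivation_extend hH Dθ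
  have hDI : ∀ x, (D x : Λ) ∈ I := fun x => (D x).2
  have hDmul : ∀ x y : K, (D (x * y) : Λ) = σ₀ x * D y + σ₀ y * D x := by
    intro x y
    rw [D.leibniz]
    rfl
  let Φ : Λ →+* Λ :=
    { toFun := fun y => y - D (res y)
      map_one' := by
        show (1 : Λ) - D (res 1) = 1
        rw [map_one, Derivation.map_one_eq_zero]
        simp
      map_mul' := by
        intro y z
        show y * z - D (res (y * z)) = (y - D (res y)) * (z - D (res z))
        have h1 := hdiff y (D (res z)) (hDI _)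
        have h2 := hdiff z (D (res y)) (hDI _)
        have h3 : (D (res y) : Λ) * (D (res z) : Λ) = 0 := hIm _ (hDI _) _ (hI (hDI _))
        rw [map_mul, hDmul]
        linear_combination h1 + h2 - h3
      map_zero' := by
        show (0 : Λ) - D (res 0) = 0
        rw [map_zero, map_zero]
        simp
      map_add' := by
        intro y z
        show y + z - D (res (y + z)) = (y - D (res y)) + (z - D (res z))
        rw [map_add, map_add, Submodule.coe_add]
        ring }
  have hΦres : ∀ y, res (Φ y) = res y := by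
    intro y
    show res (y - D (res y)) = res y
    rw [map_sub, RingHom.mem_ker.mp (hI (hDI _)), sub_zero]
  let σ : K →+* Λ := Φ.comp σ₀
  have hσ : ∀ x, res (σ x) = x := fun x => by
    show res (Φ (σ₀ x)) = x
    rw [hΦres, hσ₀]
  have hσ_apply : ∀ x, σ x = σ₀ x - D x := fun x => by
    show σ₀ x - D (res (σ₀ x)) = σ₀ x - D x
    rw [hσ₀]
  have hΦlam : ∀ i, Φ (lam i) = lam i := fun i => by
    show lam i - D (res (lam i)) = lam i
    rw [RingHom.mem_ker.mp (lam_mem_ker res lam hlam i), map_zero]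
    simp
  have hΦS : ∀ t ∈ T σ₀ lam F', Φ t ∈ T σ lam F' := by
    have h : T σ₀ lam F' ≤ (T σ lam F').comap Φ := by
      apply Subring.closure_le.mpr
      rintro _ (⟨y, hy, rfl⟩ | ⟨i, rfl⟩)
      · exact sigma_mem_T σ lam F' hy
      · show Φ (lam i) ∈ T σ lam F'
        rw [hΦlam]
        exact lam_mem_T σ lam F' i
    exact fun t ht => h ht
  choose Fj hFj hfj using fun j : ι =>
    exists_fg_mem_T (k := k) res σ hσ lam hlam n hn (f j : Λ)
  refine ⟨σ, hσ, F' ⊔ J.sup Fj,
    IntermediateField.fg_sup hF' (fg_finset_sup J Fj fun j _ => hFj j), fun a => ?_⟩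
  have h1 : algebraMap k Λ a =
      Φ (τ₀ a) - ∑ j ∈ J, σ (algebraMap k K (c j a)) * (f j : Λ) := by
    have h2 := congrArg Subtype.val (hD a)
    rw [hDθ] at h2
    rw [Submodule.coe_add, Submodule.coe_sum] at h2
    simp only [hsmul] at h2
    have h3 : ∀ j, σ (algebraMap k K (c j a)) * (f j : Λ) =
        σ₀ (algebraMap k K (c j a)) * (f j : Λ) := by
      intro j
      rw [hσ_apply, sub_mul, hIm _ (hDI _) _ (hI (f j).2), sub_zero]
    simp only [h3]
    show algebraMap k Λ a = (τ₀ a - D (res (τ₀ a))) - _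
    rw [hτ₀res]
    linear_combination (-1 : Λ) * h2
  rw [h1]
  refine Subring.sub_mem _ (T_mono σ lam le_sup_left (hΦS _ (hτ₀S a)))
    (Subring.sum_mem _ fun j hj => ?_)
  refine Subring.mul_mem _ (sigma_mem_T σ lam _ (IntermediateField.algebraMap_mem _ _)) ?_
  exact T_mono σ lam ((Finset.le_sup hj).trans le_sup_right) (hfj j)

end Step


section Claim

variable {k : Type u} [Field k] {K : Type u} [Field K] [Algebra k K]

/-- existence of a coefficient field `σ` such that the structure map of `k` lands in the subring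
generated by `σ(F)` (for a finitely generated subextension `F`) and generators of the maximal
ideal. -/
theorem claim (p : ℕ) [Fact p.Prime] [CharP k p]
    (hH : Module.Finite K (Algebra.H1Cotangent k K)) :
    ∀ (n : ℕ) {Λ : Type u} [CommRing Λ] [Algebra k Λ] (res : Λ →+* K)
      (_ : ∀ a : k, res (algebraMap k Λ a) = algebraMap k K a) (_ : Function.Surjective res)
      {d : ℕ} (lam : Fin d → Λ) (_ : Ideal.span (Set.range lam) = RingHom.ker res)
      (_ : RingHom.ker res ^ (n + 1) = ⊥),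
      ∃ σ : K →+* Λ, (∀ x, res (σ x) = x) ∧ ∃ F : IntermediateField k K, F.FG ∧
        ∀ a : k, algebraMap k Λ a ∈ T σ lam F := by
  intro n
  induction n with
  | zero =>
    intro Λ _ _ res hres hsurj d lam hlam hn
    rw [zero_add, pow_one] at hn
    have hinj : Function.Injective res := (RingHom.injective_iff_ker_eq_bot res).mpr hn
    let e : Λ ≃+* K := RingEquiv.ofBijective res ⟨hinj, hsurj⟩
    refine ⟨e.symm.toRingHom, fun x => e.apply_symm_apply x, ⊥, IntermediateField.fg_bot,
      fun a => ?_⟩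
    have : algebraMap k Λ a = e.symm.toRingHom (algebraMap k K a) := by
      apply hinj
      rw [hres]
      exact (e.apply_symm_apply _).symm
    rw [this]
    exact sigma_mem_T _ lam ⊥ (IntermediateField.algebraMap_mem _ _)
  | succ n ih =>
    intro Λ _ _ res hres hsurj d lam hlam hn
    let I : Ideal Λ := RingHom.ker res ^ (n + 1)
    have hI : I ≤ RingHom.ker res := Ideal.pow_le_self (Nat.succ_ne_zero n)
    have hIm : ∀ x ∈ I, ∀ y ∈ RingHom.ker res, x * y = 0 := by
      intro x hx y hy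
      have := Ideal.mul_mem_mul hx hy
      rw [← pow_succ, hn, Ideal.mem_bot] at this
      exact this
    have hI2 : I ^ 2 = ⊥ := by
      rw [eq_bot_iff, pow_two, Ideal.mul_le]
      intro x hx y hy
      rw [Ideal.mem_bot]
      exact hIm x hx y (hI hy)
    let π : Λ →+* Λ ⧸ I := Ideal.Quotient.mk I
    let res' : Λ ⧸ I →+* K :=
      Ideal.Quotient.lift I res (fun x hx => RingHom.mem_ker.mp (hI hx))
    have hres'π : ∀ x, res' (π x) = res x := fun x => Ideal.Quotient.lift_mk I res _
    have hres' : ∀ a : k, res' (algebraMap k (Λ ⧸ I) a) = algebraMap k K a := fun a => by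
      show res' (π (algebraMap k Λ a)) = _
      rw [hres'π, hres]
    have hsurj' : Function.Surjective res' := fun y => by
      obtain ⟨x, rfl⟩ := hsurj y
      exact ⟨π x, hres'π x⟩
    let lam' : Fin d → Λ ⧸ I := fun i => π (lam i)
    have hkermap : RingHom.ker res' = (RingHom.ker res).map π := by
      apply le_antisymm
      · intro x' hx'
        obtain ⟨x, rfl⟩ := Ideal.Quotient.mk_surjective x'
        have hx0 : res x = 0 := by
          rw [← hres'π]
          exact RingHom.mem_ker.mp hx'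
        exact Ideal.mem_map_of_mem π (RingHom.mem_ker.mpr hx0)
      · rw [Ideal.map_le_iff_le_comap]
        intro x hx
        rw [Ideal.mem_comap, RingHom.mem_ker, hres'π]
        exact RingHom.mem_ker.mp hx
    have hlam' : Ideal.span (Set.range lam') = RingHom.ker res' := by
      rw [hkermap, ← hlam, Ideal.map_span, ← Set.range_comp]
      rfl
    have hn' : RingHom.ker res' ^ (n + 1) = ⊥ := by
      rw [hkermap, ← Ideal.map_pow]
      exact Ideal.map_quotient_self I
    obtain ⟨σ', hσ', F', hF', hmem'⟩ := ih res' hres' hsurj' lam' hlam' hn'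
    haveI : Nontrivial Λ := res.domain_nontrivial
    haveI : CharP Λ p := charP_of_injective_algebraMap (algebraMap k Λ).injective p
    haveI : CharP K p := charP_of_injective_algebraMap (algebraMap k K).injective p
    have hnilπ : IsNilpotent (RingHom.ker π) := by
      refine ⟨2, ?_⟩
      rw [Ideal.mk_ker]
      exact hI2
    obtain ⟨σ₀, hσ₀π⟩ := exists_lift_charP p σ' π Ideal.Quotient.mk_surjective hnilπ
    have hσ₀ : ∀ x, res (σ₀ x) = x := fun x => by
      rw [← hres'π, show π (σ₀ x) = σ' x from RingHom.congr_fun hσ₀π x, hσ']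
    have happ : ∀ a : k, ∃ t ∈ T σ₀ lam F', algebraMap k Λ a - t ∈ I := by
      intro a
      have hle : T σ' lam' F' ≤ (T σ₀ lam F').map π := by
        apply Subring.closure_le.mpr
        rintro _ (⟨y, hy, rfl⟩ | ⟨i, rfl⟩)
        · exact ⟨σ₀ y, sigma_mem_T σ₀ lam F' hy, RingHom.congr_fun hσ₀π y⟩
        · exact ⟨lam i, lam_mem_T σ₀ lam F' i, rfl⟩
      obtain ⟨t, ht, hta⟩ := hle (hmem' a)
      refine ⟨t, ht, ?_⟩
      have h1 : Ideal.Quotient.mk I (algebraMap k Λ a) = Ideal.Quotient.mk I t := hta.symm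
      exact Ideal.Quotient.eq.mp h1
    exact step p hH res hres lam hlam (n + 1 + 1) hn I hI hIm σ₀ hσ₀ F' hF' happ

end Claim


section PartB

variable {k : Type u} [Field k] {K : Type u} [Field K] [Algebra k K] {Λ : Type u} [CommRing Λ]
variable (σ : K →+* Λ) {d : ℕ} (lam : Fin d → Λ)

/-- evaluation hom -/
noncomputable def Ψ : MvPolynomial (Fin d) K →+* Λ := MvPolynomial.eval₂Hom σ lam

/-- evaluation hom on polynomials with coefficients in `F` -/
noncomputable def ΨF (F : IntermediateField k K) : MvPolynomial (Fin d) F →+* Λ :=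
  MvPolynomial.eval₂Hom (σ.comp (algebraMap F K)) lam

theorem Ψ_map (F : IntermediateField k K) (P : MvPolynomial (Fin d) F) :
    Ψ σ lam (MvPolynomial.map (algebraMap F K) P) = ΨF σ lam F P :=
  MvPolynomial.eval₂_map (algebraMap F K) lam σ P

theorem T_eq_range (F : IntermediateField k K) : T σ lam F = (ΨF σ lam F).range := by
  apply le_antisymm
  · apply Subring.closure_le.mpr
    rintro _ (⟨x, hx, rfl⟩ | ⟨i, rfl⟩)
    · exact ⟨MvPolynomial.C ⟨x, hx⟩, MvPolynomial.eval₂Hom_C _ _ _⟩
    · exact ⟨MvPolynomial.X i, MvPolynomial.eval₂Hom_X' _ _ _⟩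
  · rintro _ ⟨P, rfl⟩
    induction P using MvPolynomial.induction_on with
    | C a =>
      rw [show ΨF σ lam F (MvPolynomial.C a) = σ (a : K) from MvPolynomial.eval₂Hom_C _ _ _]
      exact sigma_mem_T σ lam F a.2
    | add p q hp hq =>
      rw [map_add]
      exact Subring.add_mem _ hp hq
    | mul_X p i hp =>
      rw [map_mul, show ΨF σ lam F (MvPolynomial.X i) = lam i from
        MvPolynomial.eval₂Hom_X' _ _ _]
      exact Subring.mul_mem _ hp (lam_mem_T σ lam F i)

theorem Ψ_surjective (res : Λ →+* K) (hσ : ∀ x, res (σ x) = x)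
    (hlam : Ideal.span (Set.range lam) = RingHom.ker res) (n : ℕ)
    (hn : RingHom.ker res ^ n = ⊥) : Function.Surjective (Ψ σ lam) := by
  have h := dense_eq_top (RingHom.ker res) (Ψ σ lam).range lam hlam
    (fun i => ⟨MvPolynomial.X i, MvPolynomial.eval₂Hom_X' _ _ _⟩)
    (fun x => ⟨σ (res x), ⟨MvPolynomial.C (res x), MvPolynomial.eval₂Hom_C _ _ _⟩,
      sub_sigma_mem_ker res σ hσ x⟩) n hn
  intro y
  have : y ∈ (Ψ σ lam).range := h ▸ Subring.mem_top y
  exact this

section Coord

variable (F : IntermediateField k K) {ι : Type*} (b : Basis ι F K)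

/-- coordinates of a polynomial over `K` with respect to an `F`-basis of `K` -/
noncomputable def co (i : ι) (P : MvPolynomial (Fin d) K) : MvPolynomial (Fin d) F :=
  ∑ μ ∈ P.support, MvPolynomial.monomial μ (b.coord i (P.coeff μ))

theorem coeff_co (i : ι) (P : MvPolynomial (Fin d) K) (ν : Fin d →₀ ℕ) :
    (co F b i P).coeff ν = b.coord i (P.coeff ν) := by
  classical
  unfold co
  rw [MvPolynomial.coeff_sum]
  simp only [MvPolynomial.coeff_monomial]
  rw [Finset.sum_ite_eq']
  split_ifs with h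
  · rfl
  · rw [MvPolynomial.notMem_support_iff.mp h, map_zero]

/-- `co` as an additive hom -/
noncomputable def coHom (i : ι) : MvPolynomial (Fin d) K →+ MvPolynomial (Fin d) F where
  toFun := co F b i
  map_zero' := by
    refine MvPolynomial.ext _ _ fun ν => ?_
    rw [coeff_co]
    simp
  map_add' P Q := by
    refine MvPolynomial.ext _ _ fun ν => ?_
    simp only [coeff_co, MvPolynomial.coeff_add, map_add]

theorem co_sum {α : Type*} (i : ι) (s : Finset α) (f : α → MvPolynomial (Fin d) K) :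
    co F b i (∑ a ∈ s, f a) = ∑ a ∈ s, co F b i (f a) :=
  map_sum (coHom F b i) f s

theorem co_map_mul (i : ι) (g : MvPolynomial (Fin d) F) (Q : MvPolynomial (Fin d) K) :
    co F b i (MvPolynomial.map (algebraMap F K) g * Q) = g * co F b i Q := by
  classical
  refine MvPolynomial.ext _ _ fun ν => ?_
  rw [coeff_co, MvPolynomial.coeff_mul, MvPolynomial.coeff_mul, map_sum]
  apply Finset.sum_congr rfl
  intro x _
  rw [MvPolynomial.coeff_map, coeff_co, ← Algebra.smul_def, map_smul, smul_eq_mul]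

theorem co_C (i : ι) (c : K) :
    co F b i (MvPolynomial.C c : MvPolynomial (Fin d) K) = MvPolynomial.C (b.coord i c) := by
  classical
  refine MvPolynomial.ext _ _ fun ν => ?_
  rw [coeff_co, MvPolynomial.coeff_C, MvPolynomial.coeff_C]
  split_ifs
  · rfl
  · exact map_zero _

theorem co_mem_of_mem_map (IF : Ideal (MvPolynomial (Fin d) F)) (P : MvPolynomial (Fin d) K)
    (hP : P ∈ Ideal.map (MvPolynomial.map (algebraMap F K)) IF) (i : ι) :
    co F b i P ∈ IF := by
  unfold Ideal.map at hP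
  obtain ⟨f, t, ht, -, rfl⟩ := Submodule.mem_span_iff_exists_finset_subset.mp hP
  rw [co_sum]
  refine Ideal.sum_mem _ fun a ha => ?_
  obtain ⟨g, hg, rfl⟩ := ht ha
  rw [smul_eq_mul, mul_comm, co_map_mul]
  exact Ideal.mul_mem_right _ _ hg

theorem linIndep
    (hker : RingHom.ker (Ψ σ lam) ≤
      Ideal.map (MvPolynomial.map (algebraMap F K)) (RingHom.ker (ΨF σ lam F)))
    (s : Finset ι) (g : ι → Λ) (hg : ∀ i ∈ s, g i ∈ T σ lam F)
    (h0 : ∑ i ∈ s, g i * σ (b i) = 0) : ∀ i ∈ s, g i = 0 := by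
  classical
  have hg' : ∀ i ∈ s, ∃ P, ΨF σ lam F P = g i := fun i hi => by
    have := hg i hi
    rw [T_eq_range] at this
    exact this
  choose! Pp hPp using hg'
  let P : MvPolynomial (Fin d) K :=
    ∑ i ∈ s, MvPolynomial.map (algebraMap F K) (Pp i) * MvPolynomial.C (b i)
  have hP : P ∈ RingHom.ker (Ψ σ lam) := by
    rw [RingHom.mem_ker, map_sum, ← h0]
    apply Finset.sum_congr rfl
    intro i hi
    rw [map_mul, Ψ_map, hPp i hi]
    congr 1
    exact MvPolynomial.eval₂Hom_C _ _ _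
  intro j hj
  have hco := co_mem_of_mem_map F b _ P (hker hP) j
  have hPj : co F b j P = Pp j := by
    rw [co_sum]
    simp only [co_map_mul, co_C]
    rw [Finset.sum_eq_single j]
    · simp [Basis.coord_apply]
    · intro i _ hij
      simp [Basis.coord_apply, Finsupp.single_apply, hij]
    · intro h
      exact absurd hj h
  rw [hPj, RingHom.mem_ker, hPp j hj] at hco
  exact hco

end Coord

end PartB


section SubAlg

variable {k : Type u} [Field k] {K : Type u} [Field K] [Algebra k K] {Λ : Type u} [CommRing Λ]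
  [Algebra k Λ]
variable (res : Λ →+* K) (σ : K →+* Λ) (hσ : ∀ x, res (σ x) = x) {d : ℕ} (lam : Fin d → Λ)
  (hlam : Ideal.span (Set.range lam) = RingHom.ker res) (n : ℕ)
  (hn : RingHom.ker res ^ n = ⊥)
  (F : IntermediateField k K) (A : Subalgebra k Λ) (hA : ∀ x, x ∈ A ↔ x ∈ T σ lam F)

include hσ hlam hn hA in
theorem free_A (hker : RingHom.ker (Ψ σ lam) ≤
      Ideal.map (MvPolynomial.map (algebraMap F K)) (RingHom.ker (ΨF σ lam F))) :
    Module.Free ↥A Λ := by
  classical
  let b : Basis (Basis.ofVectorSpaceIndex F K) F K := Basis.ofVectorSpace F K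
  let v : Basis.ofVectorSpaceIndex F K → Λ := fun i => σ (b i)
  have hli : LinearIndependent ↥A v := by
    rw [linearIndependent_iff']
    intro s g hg i hi
    have h0 : ∑ i ∈ s, (g i : Λ) * σ (b i) = 0 := by
      rw [← hg]
      apply Finset.sum_congr rfl
      intro i _
      rw [Algebra.smul_def]
      rfl
    have := linIndep σ lam F b hker s (fun i => (g i : Λ)) (fun i _ => (hA _).mp (g i).2) h0 i hi
    exact Subtype.ext this
  have hsp : ⊤ ≤ Submodule.span ↥A (Set.range v) := by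
    rintro y -
    obtain ⟨P, rfl⟩ := Ψ_surjective σ lam res hσ hlam n hn y
    induction P using MvPolynomial.induction_on' with
    | monomial μ c =>
      have hL : (μ.prod fun n e => lam n ^ e) ∈ T σ lam F := by
        unfold Finsupp.prod
        exact Subring.prod_mem _ fun n _ => Subring.pow_mem _ (lam_mem_T σ lam F n) _
      have hc := (b.linearCombination_repr c).symm
      rw [Finsupp.linearCombination_apply, Finsupp.sum] at hc
      have hσc := congrArg σ hc
      rw [map_sum] at hσc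
      rw [show Ψ σ lam (MvPolynomial.monomial μ c) = σ c * μ.prod fun n e => lam n ^ e from
        MvPolynomial.eval₂Hom_monomial _ _ _ _, hσc, Finset.sum_mul]
      refine Submodule.sum_mem _ fun i _ => ?_
      have hmem : σ ((b.repr c i : F) : K) * (μ.prod fun n e => lam n ^ e) ∈ A :=
        (hA _).mpr (Subring.mul_mem _ (sigma_mem_T σ lam F (b.repr c i).2) hL)
      have : σ ((b.repr c i) • b i) * (μ.prod fun n e => lam n ^ e) =
          (⟨_, hmem⟩ : ↥A) • v i := by
        have e1 : (b.repr c i) • b i = ((b.repr c i : F) : K) * b i := Algebra.smul_def _ _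
        have e2 : (⟨_, hmem⟩ : ↥A) • v i =
            (σ ((b.repr c i : F) : K) * (μ.prod fun n e => lam n ^ e)) * σ (b i) :=
          Algebra.smul_def _ _
        rw [e1, e2, map_mul]
        ring
      rw [this]
      exact Submodule.smul_mem _ _ (Submodule.subset_span ⟨i, rfl⟩)
    | add p q hp hq =>
      rw [map_add]
      exact Submodule.add_mem _ hp hq
  exact Module.Free.of_basis (Basis.mk hli hsp)

include hσ hlam hn hA in
theorem isUnit_of_res_ne_zero (a : ↥A) (ha : res (a : Λ) ≠ 0) : IsUnit a := by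
  have hc : res (a : Λ) ∈ F := res_mem_of_mem_T res σ hσ lam hlam F ((hA _).mp a.2)
  let u : ↥A := ⟨σ (res (a : Λ))⁻¹, (hA _).mpr (sigma_mem_T σ lam F (F.inv_mem hc))⟩
  have hnil : IsNilpotent (1 - a * u) := by
    refine ⟨n, ?_⟩
    apply Subtype.ext
    have hmem : ((1 - a * u : ↥A) : Λ) ∈ RingHom.ker res := by
      rw [RingHom.mem_ker]
      show res (1 - (a : Λ) * σ (res (a : Λ))⁻¹) = 0
      rw [map_sub, map_one, map_mul, hσ, mul_inv_cancel₀ ha, sub_self]
    have h := Ideal.pow_mem_pow hmem n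
    rw [hn, Ideal.mem_bot] at h
    rw [SubmonoidClass.coe_pow]
    exact h
  have h1 : IsUnit (a * u) := by
    have := hnil.isUnit_one_sub
    rwa [sub_sub_cancel] at this
  exact isUnit_of_mul_isUnit_left h1

include hσ hlam hn hA in
theorem isLocalRing_A : IsLocalRing ↥A := by
  haveI : Nontrivial Λ := res.domain_nontrivial
  haveI : Nontrivial ↥A := ⟨⟨0, 1, fun h => zero_ne_one (congrArg Subtype.val h)⟩⟩
  apply IsLocalRing.of_isUnit_or_isUnit_one_sub_self
  intro a
  by_cases h : res (a : Λ) = 0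
  · right
    apply isUnit_of_res_ne_zero res σ hσ lam hlam n hn F A hA
    show res (1 - (a : Λ)) ≠ 0
    rw [map_sub, map_one, h, sub_zero]
    exact one_ne_zero
  · left
    exact isUnit_of_res_ne_zero res σ hσ lam hlam n hn F A hA a h

include hσ hlam hn hA in
theorem mem_maximalIdeal_A [IsLocalRing ↥A] (a : ↥A) :
    a ∈ IsLocalRing.maximalIdeal ↥A ↔ res (a : Λ) = 0 := by
  rw [IsLocalRing.mem_maximalIdeal, mem_nonunits_iff]
  constructor
  · intro h
    by_contra h'
    exact h (isUnit_of_res_ne_zero res σ hσ lam hlam n hn F A hA a h')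
  · intro h hu
    obtain ⟨b, hb⟩ := hu.exists_right_inv
    have h1 : res (a : Λ) * res (b : Λ) = 1 := by
      rw [← map_mul]
      have := congrArg (fun z : ↥A => res (z : Λ)) hb
      simpa using this
    rw [h, zero_mul] at h1
    exact zero_ne_one h1

include hσ hlam hn hA in
theorem map_maximalIdeal_A [IsLocalRing ↥A] :
    (IsLocalRing.maximalIdeal ↥A).map (algebraMap ↥A Λ) = RingHom.ker res := by
  apply le_antisymm
  · rw [Ideal.map_le_iff_le_comap]
    intro a ha
    rw [Ideal.mem_comap, RingHom.mem_ker]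
    exact (mem_maximalIdeal_A res σ hσ lam hlam n hn F A hA a).mp ha
  · rw [← hlam, Ideal.span_le]
    rintro _ ⟨i, rfl⟩
    have hi : lam i ∈ A := (hA _).mpr (lam_mem_T σ lam F i)
    have h1 : (⟨lam i, hi⟩ : ↥A) ∈ IsLocalRing.maximalIdeal ↥A :=
      (mem_maximalIdeal_A res σ hσ lam hlam n hn F A hA _).mpr
        (RingHom.mem_ker.mp (lam_mem_ker res lam hlam i))
    exact Ideal.mem_map_of_mem (algebraMap ↥A Λ) h1

include hσ hlam hn hA in
theorem isArtinianRing_A [IsLocalRing ↥A] : IsArtinianRing ↥A := by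
  have hmemA : ∀ P, ΨF σ lam F P ∈ A := fun P =>
    (hA _).mpr (by rw [T_eq_range]; exact ⟨P, rfl⟩)
  let φ : MvPolynomial (Fin d) F →+* ↥A := (ΨF σ lam F).codRestrict A hmemA
  have hφ : Function.Surjective φ := by
    intro a
    have : (a : Λ) ∈ (ΨF σ lam F).range := by
      rw [← T_eq_range]
      exact (hA _).mp a.2
    obtain ⟨P, hP⟩ := this
    exact ⟨P, Subtype.ext hP⟩
  haveI : IsNoetherianRing ↥A := isNoetherianRing_of_surjective _ _ φ hφ
  have hdim : Ring.KrullDimLE 0 ↥A := by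
    rw [Ring.krullDimLE_zero_iff]
    intro P hP
    have hle : IsLocalRing.maximalIdeal ↥A ≤ P := by
      intro a ha
      have h0 := (mem_maximalIdeal_A res σ hσ lam hlam n hn F A hA a).mp ha
      have hpow : a ^ n = 0 := by
        apply Subtype.ext
        have h := Ideal.pow_mem_pow (RingHom.mem_ker.mpr h0) n
        rw [hn, Ideal.mem_bot] at h
        rw [SubmonoidClass.coe_pow]
        exact h
      exact hP.mem_of_pow_mem n (hpow ▸ P.zero_mem)
    have := (IsLocalRing.maximalIdeal.isMaximal ↥A).eq_of_le hP.ne_top hle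
    rw [← this]
    exact IsLocalRing.maximalIdeal.isMaximal ↥A
  exact isArtinianRing_iff_isNoetherianRing_krullDimLE_zero.mpr ⟨inferInstance, hdim⟩

include hσ hlam in
theorem mem_span_lam (x : Λ) (hx : x ∈ T σ lam F) :
    ∃ g : Fin d → Λ, (∀ i, g i ∈ T σ lam F) ∧ x = σ (res x) + ∑ i, g i * lam i := by
  have hx' := hx
  unfold T at hx'
  induction hx' using Subring.closure_induction with
  | mem y hy =>
    rcases hy with ⟨c, hc, rfl⟩ | ⟨i, rfl⟩
    · refine ⟨fun _ => 0, fun _ => Subring.zero_mem _, ?_⟩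
      rw [hσ]
      simp
    · classical
      refine ⟨fun j => if j = i then 1 else 0, fun j => ?_, ?_⟩
      · dsimp only
        split_ifs
        · exact Subring.one_mem _
        · exact Subring.zero_mem _
      · rw [RingHom.mem_ker.mp (lam_mem_ker res lam hlam i), map_zero, zero_add]
        simp
  | zero => exact ⟨fun _ => 0, fun _ => Subring.zero_mem _, by simp⟩
  | one => exact ⟨fun _ => 0, fun _ => Subring.zero_mem _, by simp⟩
  | add a b ha hb iha ihb =>
    obtain ⟨g1, hg1, e1⟩ := iha ha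
    obtain ⟨g2, hg2, e2⟩ := ihb hb
    refine ⟨fun i => g1 i + g2 i, fun i => Subring.add_mem _ (hg1 i) (hg2 i), ?_⟩
    rw [map_add, map_add]
    simp only [add_mul, Finset.sum_add_distrib]
    linear_combination e1 + e2
  | neg a ha iha =>
    obtain ⟨g1, hg1, e1⟩ := iha ha
    refine ⟨fun i => - g1 i, fun i => Subring.neg_mem _ (hg1 i), ?_⟩
    rw [map_neg, map_neg]
    simp only [neg_mul, Finset.sum_neg_distrib]
    linear_combination (-1 : Λ) * e1
  | mul a b ha hb iha ihb =>
    obtain ⟨g1, hg1, e1⟩ := iha ha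
    obtain ⟨g2, hg2, e2⟩ := ihb hb
    have ha' : a ∈ T σ lam F := ha
    have hb' : b ∈ T σ lam F := hb
    have hra : σ (res a) ∈ T σ lam F :=
      sigma_mem_T σ lam F (res_mem_of_mem_T res σ hσ lam hlam F ha')
    refine ⟨fun i => σ (res a) * g2 i + g1 i * b, fun i => Subring.add_mem _
      (Subring.mul_mem _ hra (hg2 i)) (Subring.mul_mem _ (hg1 i) hb'), ?_⟩
    rw [map_mul, map_mul]
    simp only [add_mul, Finset.sum_add_distrib]
    have s1 : ∑ i, σ (res a) * g2 i * lam i = σ (res a) * ∑ i, g2 i * lam i := by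
      rw [Finset.mul_sum]
      exact Finset.sum_congr rfl fun i _ => by ring
    have s2 : ∑ i, g1 i * b * lam i = (∑ i, g1 i * lam i) * b := by
      rw [Finset.sum_mul]
      exact Finset.sum_congr rfl fun i _ => by ring
    rw [s1, s2]
    linear_combination b * e1 + σ (res a) * e2

include hσ hlam hn hA in
theorem essFiniteType_A (hres : ∀ a : k, res (algebraMap k Λ a) = algebraMap k K a)
    (hF : F.FG) [IsLocalRing ↥A] : Algebra.EssFiniteType k ↥A := by
  classical
  obtain ⟨sF, hsF⟩ := hF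
  have hfin : (Subtype.val ⁻¹' ((fun x => σ x) '' (sF : Set K) ∪ Set.range lam) :
      Set ↥A).Finite :=
    Set.Finite.preimage (Set.injOn_of_injective Subtype.val_injective)
      (((Finset.finite_toSet sF).image _).union (Set.finite_range lam))
  rw [Algebra.essFiniteType_iff]
  refine ⟨hfin.toFinset, ?_⟩
  rw [Set.Finite.coe_toFinset]
  let A₀ : Subalgebra k ↥A :=
    Algebra.adjoin k (Subtype.val ⁻¹' ((fun x => σ x) '' (sF : Set K) ∪ Set.range lam))
  have hlift : ∀ r ∈ Algebra.adjoin k (sF : Set K),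
      ∃ r' : ↥A, r' ∈ A₀ ∧ res (r' : Λ) = r := by
    intro r hr
    induction hr using Algebra.adjoin_induction with
    | mem x hx =>
      have hxF : x ∈ F := hsF ▸ IntermediateField.subset_adjoin k _ hx
      refine ⟨⟨σ x, (hA _).mpr (sigma_mem_T σ lam F hxF)⟩, Algebra.subset_adjoin ?_, hσ x⟩
      exact Or.inl ⟨x, hx, rfl⟩
    | algebraMap c => exact ⟨algebraMap k ↥A c, Subalgebra.algebraMap_mem _ c, hres c⟩
    | add x y _ _ hx hy =>
      obtain ⟨x', hx', ex⟩ := hx
      obtain ⟨y', hy', ey⟩ := hy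
      exact ⟨x' + y', Subalgebra.add_mem _ hx' hy', by rw [← ex, ← ey]; exact map_add res _ _⟩
    | mul x y _ _ hx hy =>
      obtain ⟨x', hx', ex⟩ := hx
      obtain ⟨y', hy', ey⟩ := hy
      exact ⟨x' * y', Subalgebra.mul_mem _ hx' hy', by rw [← ex, ← ey]; exact map_mul res _ _⟩
  let lam' : Fin d → ↥A := fun i => ⟨lam i, (hA _).mpr (lam_mem_T σ lam F i)⟩
  have hlam' : Ideal.span (Set.range lam') = IsLocalRing.maximalIdeal ↥A := by
    apply le_antisymm
    · rw [Ideal.span_le]
      rintro _ ⟨i, rfl⟩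
      exact (mem_maximalIdeal_A res σ hσ lam hlam n hn F A hA _).mpr
        (RingHom.mem_ker.mp (lam_mem_ker res lam hlam i))
    · intro a ha
      have h0 := (mem_maximalIdeal_A res σ hσ lam hlam n hn F A hA a).mp ha
      obtain ⟨g, hg, e⟩ := mem_span_lam res σ hσ lam hlam F (a : Λ) ((hA _).mp a.2)
      rw [h0, map_zero, zero_add] at e
      have : a = ∑ i, (⟨g i, (hA _).mpr (hg i)⟩ : ↥A) * lam' i := by
        apply Subtype.ext
        rw [e]
        simp [lam']
      rw [this]
      exact Ideal.sum_mem _ fun i _ => Ideal.mul_mem_left _ _ (Ideal.subset_span ⟨i, rfl⟩)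
  have hnA : IsLocalRing.maximalIdeal ↥A ^ n = ⊥ := by
    rw [eq_bot_iff]
    intro a ha
    have h1 : algebraMap ↥A Λ a ∈ ((IsLocalRing.maximalIdeal ↥A) ^ n).map (algebraMap ↥A Λ) :=
      Ideal.mem_map_of_mem _ ha
    rw [Ideal.map_pow, map_maximalIdeal_A res σ hσ lam hlam n hn F A hA, hn, Ideal.mem_bot] at h1
    rw [Ideal.mem_bot]
    exact Subtype.ext h1
  have h1 : ∀ i, lam' i ∈ A₀.toSubring := fun i => Algebra.subset_adjoin (Or.inr ⟨i, rfl⟩)
  have h2 : ∀ a : ↥A, ∃ b ∈ A₀.toSubring, ∃ m ∈ A₀.toSubring,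
      IsUnit m ∧ a * m - b ∈ IsLocalRing.maximalIdeal ↥A := by
    intro a
    have hc : res (a : Λ) ∈ F := res_mem_of_mem_T res σ hσ lam hlam F ((hA _).mp a.2)
    rw [← hsF, IntermediateField.mem_adjoin_iff_div] at hc
    obtain ⟨r, hr, s, hs, e⟩ := hc
    obtain ⟨r', hr', er⟩ := hlift r hr
    obtain ⟨s', hs', es⟩ := hlift s hs
    by_cases hs0 : s = 0
    · refine ⟨0, Subring.zero_mem _, 1, Subring.one_mem _, isUnit_one, ?_⟩
      rw [mul_one, sub_zero]
      apply (mem_maximalIdeal_A res σ hσ lam hlam n hn F A hA a).mpr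
      rw [e, hs0, div_zero]
    · refine ⟨r', hr', s', hs', isUnit_of_res_ne_zero res σ hσ lam hlam n hn F A hA s'
        (by rw [es]; exact hs0), ?_⟩
      apply (mem_maximalIdeal_A res σ hσ lam hlam n hn F A hA _).mpr
      show res ((a : Λ) * (s' : Λ) - (r' : Λ)) = 0
      rw [map_sub, map_mul, es, er, e, div_mul_cancel₀ _ hs0, sub_self]
  intro a
  obtain ⟨m, hm, hu, h⟩ := frac_dense (IsLocalRing.maximalIdeal ↥A) n hnA A₀.toSubring lam'
    hlam' h1 h2 a
  exact ⟨m, hm, hu, h⟩

end SubAlg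


section Main

/-- An Artinian local algebra over a field `k` of characteristic `p`, with residue field `K`
such that `H₁(L_{K/k})` is finite-dimensional, is a directed union of Artinian local
subalgebras `A`, essentially of finite type over `k`, with `A → Λ` flat and `𝔪_A Λ = 𝔪_Λ`. -/
theorem main {k Λ : Type u} [Field k] (p : ℕ) [Fact p.Prime]
    [CharP k p] [CommRing Λ] [Algebra k Λ] [IsArtinianRing Λ] [IsLocalRing Λ]
    (hH : Module.Finite (IsLocalRing.ResidueField Λ)
      (Algebra.H1Cotangent k (IsLocalRing.ResidueField Λ)))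
    (E : Finset Λ) :
    ∃ (A : Subalgebra k Λ) (_ : IsLocalRing A), (↑E : Set Λ) ⊆ A ∧ IsArtinianRing A ∧
      Module.Flat A Λ ∧ Algebra.EssFiniteType k A ∧
      (IsLocalRing.maximalIdeal A).map (algebraMap A Λ) = IsLocalRing.maximalIdeal Λ := by
  classical
  let K := IsLocalRing.ResidueField Λ
  let res : Λ →+* K := IsLocalRing.residue Λ
  have hres : ∀ a : k, res (algebraMap k Λ a) = algebraMap k K a := fun a => rfl
  have hsurj : Function.Surjective res := IsLocalRing.residue_surjective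
  have hkerres : RingHom.ker res = IsLocalRing.maximalIdeal Λ := IsLocalRing.ker_residue
  obtain ⟨n, hn⟩ : ∃ n : ℕ, RingHom.ker res ^ n = ⊥ := by
    have h := IsArtinianRing.isNilpotent_jacobson_bot (R := Λ)
    rw [IsLocalRing.jacobson_eq_maximalIdeal ⊥ bot_ne_top] at h
    obtain ⟨n, hn⟩ := h
    exact ⟨n, by rw [hkerres]; exact hn⟩
  have hn1 : RingHom.ker res ^ (n + 1) = ⊥ := by rw [pow_succ, hn, Ideal.bot_mul]
  obtain ⟨d, lam, hlam⟩ : ∃ (d : ℕ) (lam : Fin d → Λ),
      Ideal.span (Set.range lam) = RingHom.ker res :=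
    Submodule.fg_iff_exists_fin_generating_family.mp
      (IsNoetherian.noetherian (RingHom.ker res))
  obtain ⟨σ, hσ, F₀, hF₀, hk⟩ := claim p hH n res hres hsurj lam hlam hn1
  obtain ⟨FE, hFE, hE⟩ := exists_fg_forall_mem_T (k := k) res σ hσ lam hlam n hn E
  obtain ⟨G, hG⟩ : (RingHom.ker (Ψ σ lam)).FG := IsNoetherian.noetherian _
  let cs : Finset K := G.biUnion fun g => g.coeffs
  let FG' : IntermediateField k K := IntermediateField.adjoin k (cs : Set K)
  let F : IntermediateField k K := F₀ ⊔ FE ⊔ FG'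
  have hF : F.FG := IntermediateField.fg_sup (IntermediateField.fg_sup hF₀ hFE)
    (IntermediateField.fg_adjoin_finset cs)
  have hker : RingHom.ker (Ψ σ lam) ≤
      Ideal.map (MvPolynomial.map (algebraMap F K)) (RingHom.ker (ΨF σ lam F)) := by
    rw [← hG, Submodule.span_le]
    intro g hg
    have hrange : g ∈ Set.range (MvPolynomial.map (algebraMap F K)) := by
      rw [MvPolynomial.mem_range_map_iff_coeffs_subset]
      intro c hc
      have hcF : c ∈ F := by
        have : c ∈ FG' := IntermediateField.subset_adjoin k _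
          (Finset.mem_coe.mpr (Finset.mem_biUnion.mpr ⟨g, hg, hc⟩))
        exact (le_sup_right : FG' ≤ F) this
      exact ⟨⟨c, hcF⟩, rfl⟩
    obtain ⟨g', rfl⟩ := hrange
    apply Ideal.mem_map_of_mem
    rw [RingHom.mem_ker, ← Ψ_map]
    have : MvPolynomial.map (algebraMap F K) g' ∈ RingHom.ker (Ψ σ lam) := by
      rw [← hG]
      exact Submodule.subset_span hg
    exact RingHom.mem_ker.mp this
  let A : Subalgebra k Λ :=
    { (T σ lam F).toSubsemiring with
      algebraMap_mem' := fun a =>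
        T_mono σ lam (le_sup_left.trans le_sup_left : F₀ ≤ F) (hk a) }
  have hA : ∀ x, x ∈ A ↔ x ∈ T σ lam F := fun x => Iff.rfl
  haveI hloc : IsLocalRing ↥A := isLocalRing_A res σ hσ lam hlam n hn F A hA
  refine ⟨A, hloc, ?_, isArtinianRing_A res σ hσ lam hlam n hn F A hA, ?_,
    essFiniteType_A res σ hσ lam hlam n hn F A hA hres hF, ?_⟩
  · intro x hx
    exact (hA x).mpr (T_mono σ lam ((le_sup_right : FE ≤ F₀ ⊔ FE).trans le_sup_left)
      (hE x (Finset.mem_coe.mp hx)))
  · haveI := free_A res σ hσ lam hlam n hn F A hA hker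
    infer_instance
  · rw [map_maximalIdeal_A res σ hσ lam hlam n hn F A hA, hkerres]

end Main

end Groth.Agent.Lib.T2H8.ArtUnion
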