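import Mathlib
import Groth.Agent.Lib.T2H8ArtUnion

/-!
# Uniform version of the directed union of Artinian subalgebras, and global generators
(helper for S6824)

* `artplus`: in the situation of S6854 (with an arbitrary residue map `res : L → K` with nilpotent
  kernel generated by `lam`), there are a coefficient field `σ` and a finitely generated
  subextension `F₁` such that for *every* finitely generated `F ⊇ F₁` the subring
  `T σ lam F = σ(F)[lam]` is a good subalgebra.
* `glob`: if every element of `L` is a fraction of images of elements of a ring `Λ₀`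
  (denominators becoming units), then every finitely generated `F` is contained in a subextension
  generated by residues of elements `g ∈ Λ₀` whose images lie in the coefficient field `σ(K)`.
-/

set_option autoImplicit false
universe u

namespace Groth.Agent.Lib.T2H8.InsepArt

open Groth.Agent.Lib.T2H8.ArtUnion

variable {k : Type u} [Field k] {K : Type u} [Field K] [Algebra k K]
  {L : Type u} [CommRing L] [Algebra k L]

theorem artplus (p : ℕ) [Fact p.Prime] [CharP k p]
    (hH : Module.Finite K (Algebra.H1Cotangent k K))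
    (res : L →+* K) (hres : ∀ a : k, res (algebraMap k L a) = algebraMap k K a)
    (hsurj : Function.Surjective res) {d : ℕ} (lam : Fin d → L)
    (hlam : Ideal.span (Set.range lam) = RingHom.ker res) (n : ℕ)
    (hn : RingHom.ker res ^ n = ⊥) :
    ∃ σ : K →+* L, (∀ x, res (σ x) = x) ∧ ∃ F₁ : IntermediateField k K, F₁.FG ∧
      ∀ F : IntermediateField k K, F₁ ≤ F → F.FG →
        ∃ (A : Subalgebra k L) (_ : IsLocalRing A), (∀ x, x ∈ A ↔ x ∈ T σ lam F) ∧
          IsArtinianRing A ∧ Module.Free A L ∧ Algebra.EssFiniteType k A ∧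
          (IsLocalRing.maximalIdeal A).map (algebraMap A L) = RingHom.ker res := by
  classical
  have hn1 : RingHom.ker res ^ (n + 1) = ⊥ := by rw [pow_succ, hn, Ideal.bot_mul]
  obtain ⟨σ, hσ, F₀, hF₀, hk⟩ := claim p hH n res hres hsurj lam hlam hn1
  refine ⟨σ, hσ, ?_⟩
  obtain ⟨G, hG⟩ : (RingHom.ker (Ψ σ lam)).FG := IsNoetherian.noetherian _
  let cs : Finset K := G.biUnion fun g => g.coeffs
  let FG' : IntermediateField k K := IntermediateField.adjoin k (cs : Set K)
  refine ⟨F₀ ⊔ FG', IntermediateField.fg_sup hF₀ (IntermediateField.fg_adjoin_finset cs), ?_⟩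
  intro F hF₁ hF
  have hker : RingHom.ker (Ψ σ lam) ≤
      Ideal.map (MvPolynomial.map (algebraMap F K)) (RingHom.ker (ΨF σ lam F)) := by
    rw [← hG, Submodule.span_le]
    intro g hg
    have hrange : g ∈ Set.range (MvPolynomial.map (algebraMap F K)) := by
      rw [MvPolynomial.mem_range_map_iff_coeffs_subset]
      intro c hc
      have hcF : c ∈ F := by
        have : c ∈ FG' := IntermediateField.subset_adjoin k _
          (Finset.mem_coe.mpr (Finset.mem_biUnion.mpr ⟨g, hg, hc⟩))
        exact hF₁ ((le_sup_right : FG' ≤ F₀ ⊔ FG') this)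
      exact ⟨⟨c, hcF⟩, rfl⟩
    obtain ⟨g', rfl⟩ := hrange
    apply Ideal.mem_map_of_mem
    rw [RingHom.mem_ker, ← Ψ_map]
    have : MvPolynomial.map (algebraMap F K) g' ∈ RingHom.ker (Ψ σ lam) := by
      rw [← hG]
      exact Submodule.subset_span hg
    exact RingHom.mem_ker.mp this
  let A : Subalgebra k L :=
    { (T σ lam F).toSubsemiring with
      algebraMap_mem' := fun a =>
        T_mono σ lam ((le_sup_left : F₀ ≤ F₀ ⊔ FG').trans hF₁) (hk a) }
  have hA : ∀ x, x ∈ A ↔ x ∈ T σ lam F := fun x => Iff.rfl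
  haveI hloc : IsLocalRing ↥A := isLocalRing_A res σ hσ lam hlam n hn F A hA
  refine ⟨A, hloc, hA, isArtinianRing_A res σ hσ lam hlam n hn F A hA,
    free_A res σ hσ lam hlam n hn F A hA hker,
    essFiniteType_A res σ hσ lam hlam n hn F A hA hres hF,
    map_maximalIdeal_A res σ hσ lam hlam n hn F A hA⟩

section Glob

theorem pow_eq_sigma (k : Type u) [Field k] {K : Type u} [Field K] [Algebra k K]
    {L : Type u} [CommRing L] [Algebra k L] (p : ℕ) [Fact p.Prime] [CharP k p]
    (res : L →+* K) (σ : K →+* L) (hσ : ∀ x, res (σ x) = x) (n : ℕ)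
    (hn : RingHom.ker res ^ n = ⊥) (x : L) : x ^ p ^ n = σ (res x ^ p ^ n) := by
  haveI : Nontrivial L := res.domain_nontrivial
  haveI : CharP L p := charP_of_injective_algebraMap (algebraMap k L).injective p
  have hμ : x - σ (res x) ∈ RingHom.ker res := sub_sigma_mem_ker res σ hσ x
  have h1 : (x - σ (res x)) ^ p ^ n = 0 := by
    have h2 : (x - σ (res x)) ^ n = 0 := by
      have := Ideal.pow_mem_pow hμ n
      rwa [hn, Ideal.mem_bot] at this
    have hle : n ≤ p ^ n := (Nat.lt_pow_self (Fact.out : p.Prime).one_lt).le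
    obtain ⟨m, hm⟩ := Nat.exists_eq_add_of_le hle
    rw [hm, pow_add, h2, zero_mul]
  have h3 : x = σ (res x) + (x - σ (res x)) := by ring
  conv_lhs => rw [h3]
  rw [add_pow_char_pow, h1, add_zero, map_pow]

theorem glob {k : Type u} [Field k] {K : Type u} [Field K] [Algebra k K]
    {L : Type u} [CommRing L] [Algebra k L] (p : ℕ) [Fact p.Prime] [CharP k p]
    (res : L →+* K) (σ : K →+* L) (hσ : ∀ x, res (σ x) = x) (n : ℕ)
    (hn : RingHom.ker res ^ n = ⊥)
    {Λ₀ : Type u} [CommRing Λ₀] (ι : Λ₀ →+* L)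
    (hfrac : ∀ x : L, ∃ l s : Λ₀, IsUnit (ι s) ∧ x * ι s = ι l)
    (F : IntermediateField k K) (hF : F.FG) :
    ∃ G : Finset Λ₀, (∀ g ∈ G, ι g = σ (res (ι g))) ∧
      F ≤ IntermediateField.adjoin k ((fun g => res (ι g)) '' (G : Set Λ₀)) := by
  classical
  obtain ⟨S₀, hS₀⟩ := hF
  have hch : ∀ θ : K, ∃ l s : Λ₀, IsUnit (ι s) ∧ σ θ * ι s = ι l := fun θ => hfrac (σ θ)
  choose l s hs hls using hch
  set q := p ^ n with hq
  have h1 : ∀ θ, ι (s θ ^ q) = σ (res (ι (s θ)) ^ q) := by
    intro θ
    rw [map_pow, hq, pow_eq_sigma k p res σ hσ n hn]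
  have hqpos : 0 < q := pow_pos (Fact.out : p.Prime).pos n
  have h2 : ∀ θ, ι (l θ * s θ ^ (q - 1)) = σ (θ * res (ι (s θ)) ^ q) := by
    intro θ
    rw [map_mul σ, ← h1, map_mul, ← hls, map_pow, map_pow, mul_assoc, ← pow_succ']
    congr 3
    omega
  refine ⟨S₀.biUnion fun θ => {s θ ^ q, l θ * s θ ^ (q - 1)}, ?_, ?_⟩
  · intro g hg
    rw [Finset.mem_biUnion] at hg
    obtain ⟨θ, -, hgθ⟩ := hg
    rw [Finset.mem_insert, Finset.mem_singleton] at hgθ
    rcases hgθ with rfl | rfl
    · rw [h1, hσ]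
    · rw [h2, hσ]
  · rw [← hS₀, IntermediateField.adjoin_le_iff]
    intro θ hθ
    have hc : res (ι (s θ)) ^ q ≠ 0 := by
      apply pow_ne_zero
      exact ((hs θ).map res).ne_zero
    set F' := IntermediateField.adjoin k
      ((fun g => res (ι g)) '' ((S₀.biUnion fun θ => {s θ ^ q, l θ * s θ ^ (q - 1)} : Finset Λ₀) :
        Set Λ₀)) with hF'
    have m1 : res (ι (s θ)) ^ q ∈ F' := by
      apply IntermediateField.subset_adjoin
      refine ⟨s θ ^ q, ?_, ?_⟩
      · rw [Finset.mem_coe, Finset.mem_biUnion]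
        exact ⟨θ, hθ, by simp⟩
      · simp only
        rw [h1, hσ]
    have m2 : θ * res (ι (s θ)) ^ q ∈ F' := by
      apply IntermediateField.subset_adjoin
      refine ⟨l θ * s θ ^ (q - 1), ?_, ?_⟩
      · rw [Finset.mem_coe, Finset.mem_biUnion]
        exact ⟨θ, hθ, by simp⟩
      · simp only
        rw [h2, hσ]
    have : θ = θ * res (ι (s θ)) ^ q / res (ι (s θ)) ^ q := by
      field_simp
    rw [SetLike.mem_coe, this]
    exact F'.div_mem m2 m1

end Glob

end Groth.Agent.Lib.T2H8.InsepArt
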