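import Mathlib

set_option autoImplicit false
universe u

namespace Groth.Agent.Lib.T2H8.InsepAux

section Nak

theorem eq_top_of_sup_smul_top {R M : Type*} [CommRing R] [AddCommGroup M] [Module R M]
    (I : Ideal R) (N : Submodule R M) (n : ℕ) (hI : I ^ n = ⊥)
    (h : N ⊔ I • (⊤ : Submodule R M) = ⊤) : N = ⊤ := by
  have key : ∀ j : ℕ, (⊤ : Submodule R M) ≤ N ⊔ (I ^ j) • (⊤ : Submodule R M) := by
    intro j
    induction j with
    | zero =>
      rw [pow_zero, Ideal.one_eq_top, Submodule.top_smul]
      exact le_sup_right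
    | succ j ih =>
      calc (⊤ : Submodule R M) = N ⊔ I • (⊤ : Submodule R M) := h.symm
        _ ≤ N ⊔ I • (N ⊔ (I ^ j) • (⊤ : Submodule R M)) := by
            gcongr
        _ = N ⊔ (I • N ⊔ I • ((I ^ j) • (⊤ : Submodule R M))) := by rw [Submodule.smul_sup]
        _ ≤ N ⊔ (I ^ (j + 1)) • (⊤ : Submodule R M) := by
            rw [pow_succ', Submodule.mul_smul]
            refine sup_le le_sup_left (sup_le ?_ le_sup_right)
            exact le_trans Submodule.smul_le_right le_sup_left
  have h1 := key n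
  rw [hI, Submodule.bot_smul, sup_bot_eq] at h1
  exact top_le_iff.mp h1

end Nak

section Diff

open KaehlerDifferential

theorem span_D_adjoin (k : Type u) [Field k] {K : Type u} [Field K] [Algebra k K] (S : Set K) :
    Submodule.span (IntermediateField.adjoin k S)
      (Set.range fun s : S => D k (IntermediateField.adjoin k S)
        ⟨s.1, IntermediateField.subset_adjoin k S s.2⟩) = ⊤ := by
  set F := IntermediateField.adjoin k S with hF
  set W := Submodule.span F (Set.range fun s : S => D k F
        ⟨s.1, IntermediateField.subset_adjoin k S s.2⟩) with hW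
  have key : ∀ x (hx : x ∈ IntermediateField.adjoin k S), D k F ⟨x, hx⟩ ∈ W := by
    intro x hx
    induction hx using IntermediateField.adjoin_induction with
    | mem x hx => exact Submodule.subset_span ⟨⟨x, hx⟩, rfl⟩
    | algebraMap x =>
      have : (⟨algebraMap k K x, F.algebraMap_mem x⟩ : F) = algebraMap k F x := rfl
      rw [this, Derivation.map_algebraMap]
      exact W.zero_mem
    | add x y hx hy ihx ihy =>
      have : (⟨x + y, add_mem hx hy⟩ : F) = ⟨x, hx⟩ + ⟨y, hy⟩ := rfl
      rw [this, map_add]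
      exact W.add_mem ihx ihy
    | inv x hx ih =>
      have : (⟨x⁻¹, inv_mem hx⟩ : F) = (⟨x, hx⟩ : F)⁻¹ := rfl
      rw [this, Derivation.leibniz_inv]
      exact W.smul_mem _ ih
    | mul x y hx hy ihx ihy =>
      have : (⟨x * y, mul_mem hx hy⟩ : F) = ⟨x, hx⟩ * ⟨y, hy⟩ := rfl
      rw [this, Derivation.leibniz]
      exact W.add_mem (W.smul_mem _ ihy) (W.smul_mem _ ihx)
  rw [eq_top_iff, ← KaehlerDifferential.span_range_derivation k F, Submodule.span_le]
  rintro _ ⟨x, rfl⟩
  exact key x.1 x.2

end Diff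

section LinAlg

variable {F V : Type*} [Field F] [AddCommGroup V] [Module F V]

theorem exists_basis_subfamily {ι : Type*} [Finite ι] (v : ι → V)
    (hv : Submodule.span F (Set.range v) = ⊤) :
    ∃ (t : ℕ) (f : Fin t → ι), LinearIndependent F (v ∘ f) ∧
      Submodule.span F (Set.range (v ∘ f)) = ⊤ := by
  obtain ⟨κ, a, ha, hsp, hli⟩ := exists_linearIndependent' F v
  haveI : Finite κ := Finite.of_injective a ha
  let e := Finite.equivFin κ
  refine ⟨Nat.card κ, a ∘ e.symm, ?_, ?_⟩
  · have : v ∘ (a ∘ e.symm) = (v ∘ a) ∘ e.symm := rfl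
    rw [this]
    exact hli.comp _ e.symm.injective
  · have : v ∘ (a ∘ e.symm) = (v ∘ a) ∘ e.symm := rfl
    rw [this, Set.range_comp, e.symm.surjective.range_eq, Set.image_univ, hsp, hv]

theorem exists_sel {d₁ d : ℕ} (v : Fin d₁ → V) (hv : LinearIndependent F v) (w : Fin d → V)
    (hw : Submodule.span F (Set.range w) = ⊤) (hd : Module.finrank F V = d) :
    ∃ (d' : ℕ) (sel : Fin d' → Fin d), d₁ + d' = d ∧
      Submodule.span F (Set.range v ∪ Set.range (w ∘ sel)) = ⊤ := by
  classical
  let vw : Fin d₁ ⊕ Fin d → V := Sum.elim v w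
  have hs : LinearIndepOn F vw (Set.range (Sum.inl : Fin d₁ → Fin d₁ ⊕ Fin d)) := by
    rw [linearIndepOn_range_iff Sum.inl_injective]
    exact hv
  obtain ⟨b, -, hsb, hspan, hli⟩ := exists_linearIndepOn_extension hs (Set.subset_univ _)
  have hsp : Submodule.span F (vw '' b) = ⊤ := by
    rw [eq_top_iff, ← hw, Submodule.span_le]
    rintro _ ⟨i, rfl⟩
    exact hspan ⟨Sum.inr i, Set.mem_univ _, rfl⟩
  have hsp' : Submodule.span F (Set.range fun x : b => vw x) = ⊤ := by
    rw [← hsp]
    congr 1
    ext y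
    constructor
    · rintro ⟨x, rfl⟩
      exact ⟨x.1, x.2, rfl⟩
    · rintro ⟨x, hx, rfl⟩
      exact ⟨⟨x, hx⟩, rfl⟩
  have hcard : Nat.card b = d := by
    have hli' : LinearIndependent F (fun x : b => vw x) := hli
    let B := Module.Basis.mk hli' (by rw [hsp'])
    exact (Module.finrank_eq_nat_card_basis B).symm.trans hd
  let T : Set (Fin d) := {i | Sum.inr i ∈ b}
  have hb : b = (Sum.inl '' (Set.univ : Set (Fin d₁))) ∪ (Sum.inr '' T) := by
    ext x
    constructor
    · intro hx
      rcases x with j | i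
      · exact Or.inl ⟨j, Set.mem_univ _, rfl⟩
      · exact Or.inr ⟨i, hx, rfl⟩
    · rintro (⟨j, -, rfl⟩ | ⟨i, hi, rfl⟩)
      · exact hsb ⟨j, rfl⟩
      · exact hi
  have hdisj : Disjoint (Sum.inl '' (Set.univ : Set (Fin d₁)) : Set (Fin d₁ ⊕ Fin d))
      (Sum.inr '' T) := by
    rw [Set.disjoint_left]
    rintro _ ⟨j, -, rfl⟩ ⟨i, -, hi⟩
    exact Sum.inr_ne_inl hi
  have hcount : d₁ + T.ncard = d := by
    have h1 : b.ncard = d := by rw [← Nat.card_coe_set_eq]; exact hcard
    have h2 : b.ncard = d₁ + T.ncard := by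
      conv_lhs => rw [hb]
      rw [Set.ncard_union_eq hdisj (Set.toFinite _) (Set.toFinite _),
        Set.ncard_image_of_injective _ Sum.inl_injective,
        Set.ncard_image_of_injective _ Sum.inr_injective, Set.ncard_univ, Nat.card_fin]
    omega
  let e : T ≃ Fin T.ncard := Finite.equivFinOfCardEq (Nat.card_coe_set_eq T)
  refine ⟨T.ncard, fun j => (e.symm j).1, hcount, ?_⟩
  rw [← hsp]
  congr 1
  ext y
  constructor
  · rintro (⟨j, rfl⟩ | ⟨j, rfl⟩)
    · exact ⟨Sum.inl j, hsb ⟨j, rfl⟩, rfl⟩
    · exact ⟨Sum.inr (e.symm j).1, (e.symm j).2, rfl⟩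
  · rintro ⟨x, hx, rfl⟩
    rcases x with j | i
    · exact Or.inl ⟨j, rfl⟩
    · refine Or.inr ⟨e ⟨i, hx⟩, ?_⟩
      simp [vw]

end LinAlg

section ET

open IsLocalRing

theorem etale_of_local {R₀ D : Type u} [CommRing R₀] [CommRing D] [Algebra R₀ D] [IsLocalRing R₀]
    [IsLocalRing D] [IsNoetherianRing R₀] [IsLocalHom (algebraMap R₀ D)] [Module.Flat R₀ D]
    [Algebra.EssFiniteType R₀ D] (n : ℕ) (hn : maximalIdeal R₀ ^ n = ⊥)
    (H : (maximalIdeal R₀).map (algebraMap R₀ D) = maximalIdeal D)
    [Algebra.FormallyUnramified (ResidueField R₀) (ResidueField D)] : Algebra.Etale R₀ D := by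
  classical
  haveI : Algebra.EssFiniteType R₀ (ResidueField D) := .comp _ D _
  haveI : Algebra.EssFiniteType (ResidueField R₀) (ResidueField D) := .of_comp R₀ _ _
  haveI : Module.Finite (ResidueField R₀) (ResidueField D) :=
    Algebra.FormallyUnramified.finite_of_free _ _
  haveI : Algebra.IsSeparable (ResidueField R₀) (ResidueField D) :=
    Algebra.FormallyUnramified.isSeparable _ _
  haveI : Algebra.FormallyUnramified R₀ D := Algebra.FormallyUnramified.of_map_maximalIdeal H
  haveI : Module.Finite R₀ D := by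
    obtain ⟨s, hs⟩ :=
      (Module.Finite.fg_top : (⊤ : Submodule (ResidueField R₀) (ResidueField D)).FG)
    choose lift hlift using (fun x : ResidueField D => residue_surjective x)
    let N : Submodule R₀ D := Submodule.span R₀ (lift '' (s : Set (ResidueField D)))
    let π : D →ₗ[R₀] ResidueField D := (IsScalarTower.toAlgHom R₀ D (ResidueField D)).toLinearMap
    have hπ : ∀ x, π x = residue D x := fun x => rfl
    have hmap : N.map π = ⊤ := by
      rw [Submodule.map_span, ← Set.image_comp]
      have h1 : (π ∘ lift) '' (s : Set (ResidueField D)) = (s : Set (ResidueField D)) := by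
        ext y
        constructor
        · rintro ⟨z, hz, rfl⟩
          simpa [hπ, hlift] using hz
        · intro hy
          exact ⟨y, hy, by simp [hπ, hlift]⟩
      rw [h1, ← Submodule.restrictScalars_span R₀ (ResidueField R₀) residue_surjective, hs]
      rfl
    have hN : N = ⊤ := by
      apply eq_top_of_sup_smul_top (maximalIdeal R₀) N n hn
      rw [eq_top_iff]
      intro x _
      have hx : π x ∈ N.map π := by rw [hmap]; trivial
      obtain ⟨x', hx', hxx'⟩ := hx
      have hdec : x = x' + (x - x') := by ring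
      rw [hdec]
      refine Submodule.add_mem_sup hx' ?_
      rw [Ideal.smul_top_eq_map, H]
      show x - x' ∈ maximalIdeal D
      rw [← residue_eq_zero_iff, map_sub, sub_eq_zero]
      exact hxx'.symm
    refine ⟨⟨s.image lift, ?_⟩⟩
    rw [Finset.coe_image]
    exact hN
  haveI : Algebra.FinitePresentation R₀ D :=
    Algebra.FinitePresentation.of_finiteType.mp inferInstance
  exact Algebra.Etale.of_formallyUnramified_of_flat

end ET

section Unr

theorem formallyUnramified_of_span {k K₀ KD F : Type u} [CommRing k] [CommRing K₀] [CommRing KD]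
    [CommRing F] [Algebra k K₀] [Algebra k KD] [Algebra K₀ KD] [IsScalarTower k K₀ KD]
    [Algebra k F] [Algebra F KD] [IsScalarTower k F KD]
    (hsurj : Function.Surjective (algebraMap F KD)) {ι : Type*} (v : ι → F)
    (hv : Submodule.span F (Set.range fun j => KaehlerDifferential.D k F (v j)) = ⊤)
    (hrange : ∀ j, algebraMap F KD (v j) ∈ Set.range (algebraMap K₀ KD)) :
    Algebra.FormallyUnramified K₀ KD := by
  have hm0 : KaehlerDifferential.map k K₀ F KD = 0 := by
    apply LinearMap.ext_on hv
    rintro _ ⟨j, rfl⟩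
    obtain ⟨z, hz⟩ := hrange j
    rw [KaehlerDifferential.map_D, LinearMap.zero_apply, ← hz]
    exact Derivation.map_algebraMap _ _
  have hD0 : ∀ x : KD, KaehlerDifferential.D K₀ KD x = 0 := by
    intro x
    obtain ⟨c, rfl⟩ := hsurj x
    rw [← KaehlerDifferential.map_D k K₀ F KD, hm0, LinearMap.zero_apply]
  constructor
  refine subsingleton_of_forall_eq 0 fun ω => ?_
  have hω : ω ∈ Submodule.span KD (Set.range (KaehlerDifferential.D K₀ KD)) := by
    rw [KaehlerDifferential.span_range_derivation]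
    trivial
  have hle : Submodule.span KD (Set.range (KaehlerDifferential.D K₀ KD)) ≤ ⊥ := by
    rw [Submodule.span_le]
    rintro _ ⟨x, rfl⟩
    rw [hD0 x]
    exact Submodule.zero_mem _
  exact (Submodule.mem_bot _).mp (hle hω)

end Unr

end Groth.Agent.Lib.T2H8.InsepAux
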