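import Mathlib
import Groth.Agent.Lib.T2H8GeomRegFlat
import Groth.Agent.Lib.T2H8SmoothParams
import Groth.Agent.Lib.T2H8InsepAux

/-!
# Choice of a smooth `k`-algebra `R₂ → Λ` with `(R₂)_𝔭 → Λ_𝔮` flat and `𝔭Λ_𝔮 = 𝔮Λ_𝔮`
(helper for S6824)
-/

set_option autoImplicit false
universe u

namespace Groth.Agent.Lib.T2H8.InsepFlat

open MvPolynomial IsLocalRing

theorem sub_C_constantCoeff_mem {σ : Type*} {R : Type*} [CommRing R] (f : MvPolynomial σ R) :
    f - C (constantCoeff f) ∈ Ideal.span (Set.range (X : σ → MvPolynomial σ R)) := by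
  have h := mem_pow_idealOfVars_iff' (σ := σ) (R := R) 1 (f - C (constantCoeff f))
  rw [pow_one] at h
  show f - C (constantCoeff f) ∈ idealOfVars σ R
  rw [h]
  intro x hx
  have hx0 : x = 0 := by
    have : Finsupp.degree x = 0 := by omega
    exact (Finsupp.degree_eq_zero_iff x).mp this
  rw [hx0, coeff_sub, ← constantCoeff_eq, constantCoeff_C, sub_self]

section Core

variable {k : Type u} [Field k] {Λ : Type u} [CommRing Λ] [Algebra k Λ] [IsNoetherianRing Λ]
  (𝔮 : Ideal Λ) [𝔮.IsPrime] {R₁ : Type u} [CommRing R₁] [Algebra k R₁] [IsRegularRing R₁]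

theorem core [IsRegularLocalRing (Localization.AtPrime 𝔮)] {d' d₁ d : ℕ}
    (hd : ringKrullDim (Localization.AtPrime 𝔮) = d)
    (φ₁ : R₁ →ₐ[k] Λ) (ξ : Fin d' → Λ) (hξ : ∀ i, ξ i ∈ 𝔮)
    (φ₂ : MvPolynomial (Fin d') R₁ →ₐ[k] Λ)
    (hφ₂C : ∀ q, φ₂ (C q) = φ₁ q) (hφ₂X : ∀ i, φ₂ (X i) = ξ i)
    (𝔭₁ : Ideal R₁) [𝔭₁.IsPrime] (h𝔭₁ : ∀ q, q ∈ 𝔭₁ ↔ φ₁ q ∈ 𝔮)
    (pp : Fin d₁ → R₁) (hpp𝔭 : ∀ i, pp i ∈ 𝔭₁)
    (hppspan : Ideal.span (Set.range fun i => algebraMap R₁
      (Localization.AtPrime 𝔭₁) (pp i)) = maximalIdeal (Localization.AtPrime 𝔭₁))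
    (hdd' : d₁ + d' = d)
    (hgen : Ideal.span (Set.range (fun i : Fin d₁ =>
        algebraMap Λ (Localization.AtPrime 𝔮) (φ₁ (pp i))) ∪
      Set.range (fun i : Fin d' => algebraMap Λ (Localization.AtPrime 𝔮) (ξ i))) =
      maximalIdeal (Localization.AtPrime 𝔮)) :
    ringKrullDim (Localization.AtPrime (𝔮.comap φ₂)) = d ∧
      ((𝔮.comap φ₂).map φ₂).map (algebraMap Λ (Localization.AtPrime 𝔮)) =
        maximalIdeal (Localization.AtPrime 𝔮) := by
  classical
  obtain ⟨𝔭, h𝔭⟩ : ∃ 𝔭 : Ideal (MvPolynomial (Fin d') R₁),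
      𝔭 = 𝔮.comap φ₂ := ⟨_, rfl⟩
  have hC𝔭 : ∀ q, C q ∈ 𝔭 ↔ q ∈ 𝔭₁ := by
    intro q
    rw [h𝔭, Ideal.mem_comap, hφ₂C, h𝔭₁]
  have hX𝔭 : ∀ i, X i ∈ 𝔭 := by
    intro i
    rw [h𝔭, Ideal.mem_comap, hφ₂X]
    exact hξ _
  have hmapeq : (𝔭.map φ₂).map (algebraMap Λ (Localization.AtPrime 𝔮)) =
      maximalIdeal (Localization.AtPrime 𝔮) := by
    apply le_antisymm
    · rw [← Localization.AtPrime.map_eq_maximalIdeal (I := 𝔮)]
      apply Ideal.map_mono
      rw [h𝔭]
      exact Ideal.map_comap_le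
    · rw [← hgen, Ideal.span_le]
      rintro _ (⟨i, rfl⟩ | ⟨i, rfl⟩)
      · have h1 : C (pp i) ∈ 𝔭 := (hC𝔭 _).mpr (hpp𝔭 i)
        have h2 := Ideal.mem_map_of_mem (algebraMap Λ (Localization.AtPrime 𝔮))
          (Ideal.mem_map_of_mem φ₂ h1)
        rw [hφ₂C] at h2
        exact h2
      · have h2 := Ideal.mem_map_of_mem (algebraMap Λ (Localization.AtPrime 𝔮))
          (Ideal.mem_map_of_mem φ₂ (hX𝔭 i))
        rw [hφ₂X] at h2
        exact h2
  haveI h𝔭prime : 𝔭.IsPrime := by
    rw [h𝔭]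
    exact Ideal.comap_isPrime φ₂ 𝔮
  have hdim : ringKrullDim (Localization.AtPrime 𝔭) = d := by
    haveI : IsRegularLocalRing (Localization.AtPrime 𝔭) := inferInstance
    let g : Localization.AtPrime 𝔭 →+* Localization.AtPrime 𝔮 :=
      Localization.localRingHom 𝔭 𝔮 φ₂.toRingHom h𝔭
    have hg : ∀ y, g (algebraMap _ (Localization.AtPrime 𝔭) y) =
        algebraMap Λ (Localization.AtPrime 𝔮) (φ₂ y) := fun y =>
      Localization.localRingHom_to_map 𝔭 𝔮 φ₂.toRingHom h𝔭 y
    have hmapg : (maximalIdeal (Localization.AtPrime 𝔭)).map g =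
        maximalIdeal (Localization.AtPrime 𝔮) := by
      rw [← Localization.AtPrime.map_eq_maximalIdeal (I := 𝔭), Ideal.map_map, ← hmapeq]
      have h0 : Ideal.map (algebraMap Λ (Localization.AtPrime 𝔮)) (Ideal.map φ₂ 𝔭) =
          Ideal.map ((algebraMap Λ (Localization.AtPrime 𝔮)).comp φ₂.toRingHom) 𝔭 :=
        Ideal.map_map φ₂.toRingHom (algebraMap Λ (Localization.AtPrime 𝔮))
      rw [h0]
      congr 1
      exact RingHom.ext hg
    -- generators
    obtain ⟨S, hSdef⟩ : ∃ S : Set (Localization.AtPrime 𝔭), S =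
        Set.range (fun i : Fin d₁ => algebraMap (MvPolynomial (Fin d') R₁)
          (Localization.AtPrime 𝔭) (C (pp i))) ∪
        Set.range (fun i : Fin d' => algebraMap (MvPolynomial (Fin d') R₁)
          (Localization.AtPrime 𝔭) (X i)) := ⟨_, rfl⟩
    have hS : Ideal.span S = maximalIdeal (Localization.AtPrime 𝔭) := by
      apply le_antisymm
      · rw [hSdef, Ideal.span_le]
        rintro _ (⟨i, rfl⟩ | ⟨i, rfl⟩)
        · exact (IsLocalization.AtPrime.to_map_mem_maximal_iff (Localization.AtPrime 𝔭) 𝔭 _).mpr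
            ((hC𝔭 _).mpr (hpp𝔭 i))
        · exact (IsLocalization.AtPrime.to_map_mem_maximal_iff (Localization.AtPrime 𝔭) 𝔭 _).mpr
            (hX𝔭 i)
      · rw [← Localization.AtPrime.map_eq_maximalIdeal (I := 𝔭), Ideal.map_le_iff_le_comap]
        intro f hf
        rw [Ideal.mem_comap]
        have hdec : f = C (constantCoeff f) + (f - C (constantCoeff f)) := by ring
        have h1 := sub_C_constantCoeff_mem f
        have h1' : f - C (constantCoeff f) ∈ 𝔭 := by
          have hle : Ideal.span (Set.range (X : Fin d' → MvPolynomial (Fin d')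
              R₁)) ≤ 𝔭 := by
            rw [Ideal.span_le]
            rintro _ ⟨i, rfl⟩
            exact hX𝔭 i
          exact hle h1
        have h2 : C (constantCoeff f) ∈ 𝔭 := by
          have := 𝔭.sub_mem hf h1'
          rwa [sub_sub_cancel] at this
        have h3 : constantCoeff f ∈ 𝔭₁ := (hC𝔭 _).mp h2
        have h4 : algebraMap R₁
            (Localization.AtPrime (𝔭₁)) (constantCoeff f) ∈
            (Ideal.span (Set.range pp)).map (algebraMap R₁
              (Localization.AtPrime (𝔭₁))) := by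
          rw [Ideal.map_span, ← Set.range_comp]
          show _ ∈ Ideal.span (Set.range fun i => algebraMap R₁
            (Localization.AtPrime (𝔭₁)) (pp i))
          rw [hppspan]
          exact (IsLocalization.AtPrime.to_map_mem_maximal_iff _
            (𝔭₁) _).mpr h3
        obtain ⟨s, hs, hsf⟩ := Groth.Agent.Lib.T2H8.SmoothParams.exists_mul_mem_of_map_mem
          (𝔭₁) _ _ h4
        have h5 : (C s * C (constantCoeff f) : MvPolynomial (Fin d') R₁) ∈
            Ideal.span (Set.range fun i => (C (pp i) :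
              MvPolynomial (Fin d') R₁)) := by
          rw [← C_mul]
          have := Ideal.mem_map_of_mem (C : R₁ →+*
            MvPolynomial (Fin d') R₁) hsf
          rwa [Ideal.map_span, ← Set.range_comp] at this
        have hsu : IsUnit (algebraMap (MvPolynomial (Fin d') R₁)
            (Localization.AtPrime 𝔭) (C s)) :=
          IsLocalization.map_units (Localization.AtPrime 𝔭)
            (⟨C s, fun h => hs ((hC𝔭 s).mp h)⟩ : 𝔭.primeCompl)
        have h6 : algebraMap (MvPolynomial (Fin d') R₁)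
            (Localization.AtPrime 𝔭) (C s * C (constantCoeff f)) ∈ Ideal.span S := by
          have := Ideal.mem_map_of_mem (algebraMap (MvPolynomial (Fin d') R₁)
            (Localization.AtPrime 𝔭)) h5
          rw [Ideal.map_span, ← Set.range_comp] at this
          rw [hSdef]
          exact Ideal.span_mono Set.subset_union_left this
        rw [map_mul] at h6
        have h7 : algebraMap (MvPolynomial (Fin d') R₁)
            (Localization.AtPrime 𝔭) (C (constantCoeff f)) ∈ Ideal.span S := by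
          obtain ⟨w', hw'⟩ := hsu.exists_left_inv
          have : algebraMap (MvPolynomial (Fin d') R₁)
              (Localization.AtPrime 𝔭) (C (constantCoeff f)) =
              w' * (algebraMap (MvPolynomial (Fin d') R₁)
                (Localization.AtPrime 𝔭) (C s) *
              algebraMap (MvPolynomial (Fin d') R₁)
                (Localization.AtPrime 𝔭) (C (constantCoeff f))) := by
            rw [← mul_assoc, hw', one_mul]
          rw [this]
          exact Ideal.mul_mem_left _ _ h6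
        have h8 : algebraMap (MvPolynomial (Fin d') R₁)
            (Localization.AtPrime 𝔭) (f - C (constantCoeff f)) ∈ Ideal.span S := by
          have := Ideal.mem_map_of_mem (algebraMap (MvPolynomial (Fin d') R₁)
            (Localization.AtPrime 𝔭)) h1
          rw [Ideal.map_span, ← Set.range_comp] at this
          rw [hSdef]
          exact Ideal.span_mono Set.subset_union_right this
        rw [hdec, map_add]
        exact Ideal.add_mem _ h7 h8
    have hSfin : S.Finite := by
      rw [hSdef]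
      exact (Set.finite_range _).union (Set.finite_range _)
    have hle : (maximalIdeal (Localization.AtPrime 𝔭)).spanFinrank ≤ d := by
      rw [← hS]
      refine (Submodule.spanFinrank_span_le_ncard_of_finite hSfin).trans ?_
      rw [hSdef]
      refine (Set.ncard_union_le _ _).trans ?_
      rw [← hdd']
      apply add_le_add
      · rw [← Set.image_univ]
        refine (Set.ncard_image_le (Set.toFinite _)).trans ?_
        rw [Set.ncard_univ, Nat.card_fin]
      · rw [← Set.image_univ]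
        refine (Set.ncard_image_le (Set.toFinite _)).trans ?_
        rw [Set.ncard_univ, Nat.card_fin]
    have hge : d ≤ (maximalIdeal (Localization.AtPrime 𝔭)).spanFinrank := by
      have h1 : ((maximalIdeal (Localization.AtPrime 𝔮)).spanFinrank : WithBot ℕ∞) = d := by
        rw [← hd]
        exact IsRegularLocalRing.spanFinrank_maximalIdeal
      have h1' : (maximalIdeal (Localization.AtPrime 𝔮)).spanFinrank = d := by exact_mod_cast h1
      rw [← h1', ← hmapg]
      exact Ideal.spanFinrank_map_le_of_fg g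
        ((isNoetherianRing_iff_ideal_fg _).mp inferInstance _)
    have h2 : ((maximalIdeal (Localization.AtPrime 𝔭)).spanFinrank : WithBot ℕ∞) =
        ringKrullDim (Localization.AtPrime 𝔭) := IsRegularLocalRing.spanFinrank_maximalIdeal
    rw [← h2, le_antisymm hle hge]
  subst h𝔭
  exact ⟨hdim, hmapeq⟩

end Core


section Main

attribute [local instance] Groth.Agent.Lib.T2H8.GeomRegFlat.algA₀

open Groth.Agent.Lib.T2H8.GeomRegFlat

variable {k : Type u} [Field k] {Λ : Type u} [CommRing Λ] [Algebra k Λ] [IsNoetherianRing Λ]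
  (𝔮 : Ideal Λ) [𝔮.IsPrime]

theorem flat_main (p : ℕ) [Fact p.Prime] [CharP k p]
    (hLq : CAlg.IsGeometricallyRegular k (Localization.AtPrime 𝔮)) {d : ℕ}
    (hd : ringKrullDim (Localization.AtPrime 𝔮) = d)
    (π₀ : Fin d → Λ) (hπ₀ : ∀ i, π₀ i ∈ 𝔮)
    (hπ₀span : Ideal.span (Set.range fun i => algebraMap Λ (Localization.AtPrime 𝔮) (π₀ i)) =
      maximalIdeal (Localization.AtPrime 𝔮))
    (G : Finset Λ) (F' : IntermediateField k (ResidueField (Localization.AtPrime 𝔮)))
    (hF' : F' = IntermediateField.adjoin k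
      ((fun g => residue (Localization.AtPrime 𝔮) (algebraMap Λ (Localization.AtPrime 𝔮) g)) ''
        (G : Set Λ))) :
    ∃ (R₂ : Type u) (_ : CommRing R₂) (_ : Algebra k R₂), IsRegularRing R₂ ∧
      Algebra.FinitePresentation k R₂ ∧ Algebra.FormallySmooth k R₂ ∧
      ∃ φ₂ : R₂ →ₐ[k] Λ,
        ringKrullDim (Localization.AtPrime (𝔮.comap φ₂)) = d ∧
        ((𝔮.comap φ₂).map φ₂).map (algebraMap Λ (Localization.AtPrime 𝔮)) =
          maximalIdeal (Localization.AtPrime 𝔮) ∧
        (∀ f, φ₂ f ∈ Algebra.adjoin k ((G : Set Λ) ∪ Set.range π₀)) ∧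
        ∃ (t : ℕ) (y : Fin t → R₂)
          (hmem : ∀ j, residue (Localization.AtPrime 𝔮)
            (algebraMap Λ (Localization.AtPrime 𝔮) (φ₂ (y j))) ∈ F'),
          (∀ j, φ₂ (y j) ∈ G) ∧
          Submodule.span F' (Set.range fun j => KaehlerDifferential.D k F'
            ⟨residue (Localization.AtPrime 𝔮) (algebraMap Λ (Localization.AtPrime 𝔮) (φ₂ (y j))),
              hmem j⟩) = ⊤ := by
  classical
  haveI : IsRegularLocalRing (Localization.AtPrime 𝔮) :=
    isRegularLocalRing_of_geomReg k (Localization.AtPrime 𝔮) hLq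
  -- the residue map
  let ρ : Λ → ResidueField (Localization.AtPrime 𝔮) := fun g =>
    residue (Localization.AtPrime 𝔮) (algebraMap Λ (Localization.AtPrime 𝔮) g)
  have hρmem : ∀ g ∈ G, ρ g ∈ F' := by
    intro g hg
    rw [hF']
    exact IntermediateField.subset_adjoin k _ ⟨g, hg, rfl⟩
  -- Step 1: the differential basis
  let vG : {g // g ∈ G} → Ω[F'⁄k] := fun g => KaehlerDifferential.D k F' ⟨ρ g.1, hρmem g.1 g.2⟩
  have hvG : Submodule.span F' (Set.range vG) = ⊤ := by
    subst hF'
    have h0 := Groth.Agent.Lib.T2H8.InsepAux.span_D_adjoin k (ρ '' (G : Set Λ))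
    rw [eq_top_iff, ← h0, Submodule.span_le]
    rintro _ ⟨⟨s, g, hg, rfl⟩, rfl⟩
    exact Submodule.subset_span ⟨⟨g, hg⟩, rfl⟩
  obtain ⟨t, f, hli, hsp⟩ := Groth.Agent.Lib.T2H8.InsepAux.exists_basis_subfamily vG hvG
  let lamb : Fin t → Λ := fun j => (f j).1
  have hlambG : ∀ j, lamb j ∈ G := fun j => (f j).2
  have hmem : ∀ j, residue (Localization.AtPrime 𝔮)
      (algebraMap Λ (Localization.AtPrime 𝔮) (lamb j)) ∈ F' := fun j => hρmem _ (hlambG j)
  -- Step 2
  let φ₁ : MvPolynomial (Fin t) k →ₐ[k] Λ := aeval lamb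
  let φ₁' : MvPolynomial (Fin t) k →ₐ[k] Localization.AtPrime 𝔮 :=
    (IsScalarTower.toAlgHom k Λ (Localization.AtPrime 𝔮)).comp φ₁
  have hφ₁' : ∀ q, φ₁' q = algebraMap Λ (Localization.AtPrime 𝔮) (φ₁ q) := fun q => rfl
  have hφ₁X : ∀ i, φ₁' (X i) = algebraMap Λ (Localization.AtPrime 𝔮) (lamb i) := by
    intro i
    rw [hφ₁']
    show algebraMap Λ _ (aeval lamb (X i)) = _
    rw [aeval_X]
  have hφ : ∀ i : Fin t, residue (Localization.AtPrime 𝔮) (φ₁' (X i)) ∈ F' := by
    intro i
    rw [hφ₁X]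
    exact hmem i
  have hb : LinearIndependent F' (fun i : Fin t => KaehlerDifferential.D k F'
      ⟨residue (Localization.AtPrime 𝔮) (φ₁' (X i)), hφ i⟩) := by
    have : (fun i : Fin t => KaehlerDifferential.D k F'
        ⟨residue (Localization.AtPrime 𝔮) (φ₁' (X i)), hφ i⟩) = vG ∘ f := by
      funext i
      show _ = KaehlerDifferential.D k F' ⟨ρ (f i).1, _⟩
      congr 2
      exact congrArg (residue (Localization.AtPrime 𝔮)) (hφ₁X i)
    rw [this]
    exact hli
  have hspanlamb : Submodule.span F' (Set.range fun j => KaehlerDifferential.D k F'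
        ⟨residue (Localization.AtPrime 𝔮) (algebraMap Λ (Localization.AtPrime 𝔮) (lamb j)),
          hmem j⟩) = ⊤ := hsp
  have hinj0' := hinj0 k (Localization.AtPrime 𝔮) φ₁' F' hφ hb
  have hinjA : Function.Injective (Algebra.H1Cotangent.map k (Localization.AtPrime 𝔮)
      (ResidueField (Localization.AtPrime 𝔮)) (ResidueField (Localization.AtPrime 𝔮))) :=
    Groth.Agent.Lib.Helper19.H1Inj.injective_h1Cotangent_map k (Localization.AtPrime 𝔮)
      ((Groth.Agent.S2036.result p).mp hLq)
  -- parameters of `A₀₁`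
  haveI : IsRegularLocalRing (Localization.AtPrime (pr k (Localization.AtPrime 𝔮) φ₁')) :=
    inferInstance
  obtain ⟨d₁, hd₁⟩ := Groth.Agent.Lib.Helper5.exists_nat_ringKrullDim_eq
    (Localization.AtPrime (pr k (Localization.AtPrime 𝔮) φ₁'))
  obtain ⟨pp, hpp𝔭, hppspan⟩ := Groth.Agent.Lib.T2H8.SmoothParams.exists_params
    (pr k (Localization.AtPrime 𝔮) φ₁') hd₁
  have hppm : ∀ i, algebraMap (MvPolynomial (Fin t) k)
      (Localization.AtPrime (pr k (Localization.AtPrime 𝔮) φ₁')) (pp i) ∈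
      maximalIdeal (Localization.AtPrime (pr k (Localization.AtPrime 𝔮) φ₁')) := fun i => by
    rw [← hppspan]
    exact Ideal.subset_span ⟨i, rfl⟩
  let x : Fin d₁ → maximalIdeal (Localization.AtPrime (pr k (Localization.AtPrime 𝔮) φ₁')) :=
    fun i => ⟨_, hppm i⟩
  have hli0 := Groth.Agent.Lib.Helper5.linearIndependent_toCotangent_of_span_eq hd₁ x hppspan
  have hliq := key k (Localization.AtPrime (pr k (Localization.AtPrime 𝔮) φ₁'))
    (Localization.AtPrime 𝔮) hinjA hinj0' x hli0
  -- the images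
  have hx1 : ∀ i, algebraMap (Localization.AtPrime (pr k (Localization.AtPrime 𝔮) φ₁'))
      (Localization.AtPrime 𝔮) (x i).1 = φ₁' (pp i) := fun i =>
    algebraMap_A₀_apply k (Localization.AtPrime 𝔮) φ₁' (pp i)
  have hppLq : ∀ i, φ₁' (pp i) ∈ maximalIdeal (Localization.AtPrime 𝔮) := fun i => hpp𝔭 i
  have hπ₀Lq : ∀ i, algebraMap Λ (Localization.AtPrime 𝔮) (π₀ i) ∈
      maximalIdeal (Localization.AtPrime 𝔮) := fun i =>
    (IsLocalization.AtPrime.to_map_mem_maximal_iff (Localization.AtPrime 𝔮) 𝔮 (π₀ i)).mpr (hπ₀ i)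
  let v : Fin d₁ → CotangentSpace (Localization.AtPrime 𝔮) := fun i =>
    (maximalIdeal (Localization.AtPrime 𝔮)).toCotangent ⟨φ₁' (pp i), hppLq i⟩
  let w : Fin d → CotangentSpace (Localization.AtPrime 𝔮) := fun i =>
    (maximalIdeal (Localization.AtPrime 𝔮)).toCotangent ⟨_, hπ₀Lq i⟩
  have hv : LinearIndependent (ResidueField (Localization.AtPrime 𝔮)) v := by
    have : v = fun i => (maximalIdeal (Localization.AtPrime 𝔮)).toCotangent
        (⟨algebraMap (Localization.AtPrime (pr k (Localization.AtPrime 𝔮) φ₁'))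
          (Localization.AtPrime 𝔮) (x i).1,
          map_mem_max _ _ (x i).1 (x i).2⟩ : maximalIdeal (Localization.AtPrime 𝔮)) := by
      funext i
      show (maximalIdeal (Localization.AtPrime 𝔮)).toCotangent _ = _
      congr 1
      exact Subtype.ext (hx1 i).symm
    rw [this]
    exact hliq
  have hw : Submodule.span (ResidueField (Localization.AtPrime 𝔮)) (Set.range w) = ⊤ := by
    have h1 : Set.range w = (maximalIdeal (Localization.AtPrime 𝔮)).toCotangent ''
        (Set.range fun i : Fin d => (⟨_, hπ₀Lq i⟩ : maximalIdeal (Localization.AtPrime 𝔮))) := by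
      rw [← Set.range_comp]
      rfl
    rw [h1, CotangentSpace.span_image_eq_top_iff]
    apply Submodule.map_injective_of_injective
      (maximalIdeal (Localization.AtPrime 𝔮)).injective_subtype
    rw [Submodule.map_span, Submodule.map_top, Submodule.range_subtype, ← Set.range_comp]
    exact hπ₀span
  have hfin : Module.finrank (ResidueField (Localization.AtPrime 𝔮))
      (CotangentSpace (Localization.AtPrime 𝔮)) = d := by
    have h1 := (IsRegularLocalRing.iff_finrank_cotangentSpace (Localization.AtPrime 𝔮)).mp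
      inferInstance
    rw [hd] at h1
    exact_mod_cast h1
  obtain ⟨d', sel, hdd', hsel⟩ := Groth.Agent.Lib.T2H8.InsepAux.exists_sel v hv w hw hfin
  -- the span in `Lq`
  have hgen : Ideal.span (Set.range (fun i : Fin d₁ => φ₁' (pp i)) ∪
      Set.range (fun i : Fin d' => algebraMap Λ (Localization.AtPrime 𝔮) (π₀ (sel i)))) =
      maximalIdeal (Localization.AtPrime 𝔮) := by
    have h1 : Set.range v ∪ Set.range (w ∘ sel) =
        (maximalIdeal (Localization.AtPrime 𝔮)).toCotangent ''
        (Set.range (fun i : Fin d₁ =>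
          (⟨φ₁' (pp i), hppLq i⟩ : maximalIdeal (Localization.AtPrime 𝔮))) ∪
        Set.range (fun i : Fin d' =>
          (⟨_, hπ₀Lq (sel i)⟩ : maximalIdeal (Localization.AtPrime 𝔮)))) := by
      rw [Set.image_union, ← Set.range_comp, ← Set.range_comp]
      rfl
    rw [h1, CotangentSpace.span_image_eq_top_iff] at hsel
    have h2 := congrArg (Submodule.map (maximalIdeal (Localization.AtPrime 𝔮)).subtype) hsel
    rw [Submodule.map_span, Submodule.map_top, Submodule.range_subtype, Set.image_union,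
      ← Set.range_comp, ← Set.range_comp] at h2
    exact h2
  have hgen' : Ideal.span (Set.range (fun i : Fin d₁ =>
        algebraMap Λ (Localization.AtPrime 𝔮) (φ₁ (pp i))) ∪
      Set.range (fun i : Fin d' => algebraMap Λ (Localization.AtPrime 𝔮) (π₀ (sel i)))) =
      maximalIdeal (Localization.AtPrime 𝔮) := hgen
  have hcore := core 𝔮 hd φ₁ (fun i => π₀ (sel i)) (fun i => hπ₀ _)
    (aevalTower (aeval lamb : MvPolynomial (Fin t) k →ₐ[k] Λ) (fun i => π₀ (sel i)))
    (fun q => aevalTower_C _ _ q) (fun i => aevalTower_X _ _ i)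
    (pr k (Localization.AtPrime 𝔮) φ₁')
    (fun q => by
      show φ₁' q ∈ maximalIdeal (Localization.AtPrime 𝔮) ↔ φ₁ q ∈ 𝔮
      rw [hφ₁', IsLocalization.AtPrime.to_map_mem_maximal_iff (Localization.AtPrime 𝔮) 𝔮])
    pp hpp𝔭 hppspan hdd' hgen'
  obtain ⟨φ₂, hφ₂⟩ : ∃ φ₂ : MvPolynomial (Fin d') (MvPolynomial (Fin t) k) →ₐ[k] Λ,
      φ₂ = aevalTower (aeval lamb : MvPolynomial (Fin t) k →ₐ[k] Λ) (fun i => π₀ (sel i)) :=
    ⟨_, rfl⟩
  rw [← hφ₂] at hcore
  have hφ₂C : ∀ q, φ₂ (C q) = φ₁ q := by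
    intro q
    rw [hφ₂]
    exact aevalTower_C _ _ q
  have hφ₂X : ∀ i, φ₂ (X i) = π₀ (sel i) := by
    intro i
    rw [hφ₂]
    exact aevalTower_X _ _ i
  have hy : ∀ j : Fin t, φ₂ (C (X j)) = lamb j := by
    intro j
    rw [hφ₂C]
    exact aeval_X lamb j
  have hadj : ∀ f, φ₂ f ∈ Algebra.adjoin k ((G : Set Λ) ∪ Set.range π₀) := by
    intro f
    induction f using MvPolynomial.induction_on with
    | C q =>
      rw [hφ₂C]
      have h1 : φ₁ q ∈ Algebra.adjoin k (Set.range lamb) := by
        rw [Algebra.adjoin_range_eq_range_aeval]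
        exact ⟨q, rfl⟩
      refine Algebra.adjoin_mono ?_ h1
      rintro _ ⟨j, rfl⟩
      exact Or.inl (hlambG j)
    | add f g hf hg =>
      rw [map_add]
      exact add_mem hf hg
    | mul_X f i hf =>
      rw [map_mul, hφ₂X]
      exact mul_mem hf (Algebra.subset_adjoin (Or.inr ⟨_, rfl⟩))
  refine ⟨MvPolynomial (Fin d') (MvPolynomial (Fin t) k), inferInstance, inferInstance,
    inferInstance, inferInstance,
    Algebra.FormallySmooth.comp k (MvPolynomial (Fin t) k) _, φ₂, hcore.1, hcore.2, hadj, t,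
    fun j => C (X j), fun j => by rw [hy]; exact hmem j, fun j => by rw [hy]; exact hlambG j, ?_⟩
  simp only [hy]
  exact hspanlamb

end Main

end Groth.Agent.Lib.T2H8.InsepFlat
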