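import Mathlib
import Groth.Agent.S2036
import Groth.Agent.S2082
import Groth.Agent.Lib.Helper19H1Inj
import Groth.Agent.Lib.Helper5RLR
import Groth.Agent.Lib.Helper5RLR3
import Groth.Agent.Lib.Helper28FibreTrans
import Groth.Agent.Lib.T2H8ArtUnion
import Groth.Agent.Lib.T2H8InsepArt
import Groth.Agent.Lib.T2H8InsepAux
import Groth.Agent.Lib.T2H8InsepFlat
import Groth.Agent.Lib.T2H8SmoothParams

/-!
# The Artinian subalgebra `D ⊆ Λ_𝔮/𝔮^n Λ_𝔮`, étale over `R₀ = (R₂)_𝔭/𝔭^n` (helper for S6824)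
-/

set_option autoImplicit false
universe u

namespace Groth.Agent.Lib.T2H8.InsepD

open IsLocalRing Groth.Agent.Lib.T2H8.ArtUnion

theorem h1fin {k : Type u} [Field k] (p : ℕ) [Fact p.Prime] [CharP k p] (B : Type u)
    [CommRing B] [IsLocalRing B] [IsNoetherianRing B] [Algebra k B]
    (hB : CAlg.IsGeometricallyRegular k B) :
    Module.Finite (ResidueField B) (Algebra.H1Cotangent k (ResidueField B)) := by
  have hinj := Groth.Agent.Lib.Helper19.H1Inj.injective_h1Cotangent_map k B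
    ((Groth.Agent.S2036.result p).mp hB)
  haveI : Algebra.FinitePresentation B (ResidueField B) :=
    Algebra.FinitePresentation.quotient ((isNoetherianRing_iff_ideal_fg B).mp inferInstance _)
  haveI : Subsingleton Ω[ResidueField B⁄B] :=
    KaehlerDifferential.subsingleton_of_surjective B (ResidueField B) residue_surjective
  haveI : Module.Finite (ResidueField B) (Algebra.H1Cotangent B (ResidueField B)) := inferInstance
  exact Module.Finite.of_injective
    (Algebra.H1Cotangent.map k B (ResidueField B) (ResidueField B)) hinj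

variable {k : Type u} [Field k] {Λ : Type u} [CommRing Λ] [Algebra k Λ] [IsNoetherianRing Λ]
  (𝔮 : Ideal Λ) [𝔮.IsPrime]

theorem dpack (p : ℕ) [Fact p.Prime] [CharP k p]
    (hLq : CAlg.IsGeometricallyRegular k (Localization.AtPrime 𝔮)) {d : ℕ}
    (hd : ringKrullDim (Localization.AtPrime 𝔮) = d) (n₂ : ℕ) (hn₂ : 0 < n₂) (E₀ : Finset Λ) :
    ∃ (R₂ : Type u) (_ : CommRing R₂) (_ : Algebra k R₂), IsRegularRing R₂ ∧
      Algebra.FinitePresentation k R₂ ∧ Algebra.FormallySmooth k R₂ ∧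
      ∃ φ₂ : R₂ →ₐ[k] Λ,
        ringKrullDim (Localization.AtPrime (𝔮.comap φ₂)) = d ∧
        ((𝔮.comap φ₂).map φ₂).map (algebraMap Λ (Localization.AtPrime 𝔮)) =
          maximalIdeal (Localization.AtPrime 𝔮) ∧
        ∃ (R₀ : Type u) (_ : CommRing R₀) (_ : Algebra R₂ R₀),
          (∀ (T : Type u) [CommRing T] (χ : R₂ →+* T), (∀ s, s ∉ 𝔮.comap φ₂ → IsUnit (χ s)) →
            (∀ x ∈ (𝔮.comap φ₂) ^ n₂, χ x = 0) →
            ∃ χ₀ : R₀ →+* T, ∀ f, χ₀ (algebraMap R₂ R₀ f) = χ f) ∧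
          (∀ (T : Type u) [CommRing T] (f₁ f₂ : R₀ →+* T),
            (∀ x : R₂, f₁ (algebraMap R₂ R₀ x) = f₂ (algebraMap R₂ R₀ x)) → f₁ = f₂) ∧
          ∃ (D : Subalgebra k (Localization.AtPrime 𝔮 ⧸ maximalIdeal (Localization.AtPrime 𝔮) ^ n₂))
            (_ : Algebra R₀ D), Algebra.Etale R₀ D ∧
            @Module.FaithfullyFlat D
              (Localization.AtPrime 𝔮 ⧸ maximalIdeal (Localization.AtPrime 𝔮) ^ n₂) _ _
              Algebra.toModule ∧
            (∀ f : R₂, ((algebraMap R₀ D (algebraMap R₂ R₀ f) : D) :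
              Localization.AtPrime 𝔮 ⧸ maximalIdeal (Localization.AtPrime 𝔮) ^ n₂) =
                Ideal.Quotient.mk _ (algebraMap Λ (Localization.AtPrime 𝔮) (φ₂ f))) ∧
            ∀ e ∈ E₀, Ideal.Quotient.mk (maximalIdeal (Localization.AtPrime 𝔮) ^ n₂)
              (algebraMap Λ (Localization.AtPrime 𝔮) e) ∈ D := by
  classical
  haveI hregLq : IsRegularLocalRing (Localization.AtPrime 𝔮) :=
    Groth.Agent.Lib.T2H8.GeomRegFlat.isRegularLocalRing_of_geomReg k (Localization.AtPrime 𝔮) hLq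
  obtain ⟨π₀, hπ₀, hπ₀span⟩ := Groth.Agent.Lib.T2H8.SmoothParams.exists_params 𝔮 hd
  -- the Artinian quotient
  have hpowle : maximalIdeal (Localization.AtPrime 𝔮) ^ n₂ ≤
      maximalIdeal (Localization.AtPrime 𝔮) := Ideal.pow_le_self (by omega)
  let res : (Localization.AtPrime 𝔮 ⧸ maximalIdeal (Localization.AtPrime 𝔮) ^ n₂) →+*
      ResidueField (Localization.AtPrime 𝔮) :=
    Ideal.Quotient.lift _ (residue (Localization.AtPrime 𝔮)) (fun x hx => by
      rw [residue_eq_zero_iff]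
      exact hpowle hx)
  have hresmk : ∀ x, res (Ideal.Quotient.mk _ x) = residue (Localization.AtPrime 𝔮) x :=
    fun x => rfl
  let ιA : Λ →ₐ[k] (Localization.AtPrime 𝔮 ⧸ maximalIdeal (Localization.AtPrime 𝔮) ^ n₂) :=
    (Ideal.Quotient.mkₐ k _).comp (IsScalarTower.toAlgHom k Λ (Localization.AtPrime 𝔮))
  let ι : Λ →+* (Localization.AtPrime 𝔮 ⧸ maximalIdeal (Localization.AtPrime 𝔮) ^ n₂) :=
    ιA.toRingHom
  have hι : ∀ x, ι x = Ideal.Quotient.mk _ (algebraMap Λ (Localization.AtPrime 𝔮) x) :=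
    fun x => rfl
  have hres : ∀ a : k, res (algebraMap k _ a) =
      algebraMap k (ResidueField (Localization.AtPrime 𝔮)) a := fun a => rfl
  have hsurj : Function.Surjective res := by
    intro x
    obtain ⟨y, rfl⟩ := residue_surjective x
    exact ⟨Ideal.Quotient.mk _ y, rfl⟩
  let lam : Fin d → (Localization.AtPrime 𝔮 ⧸ maximalIdeal (Localization.AtPrime 𝔮) ^ n₂) :=
    fun i => ι (π₀ i)
  have hker : RingHom.ker res = (maximalIdeal (Localization.AtPrime 𝔮)).map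
      (Ideal.Quotient.mk (maximalIdeal (Localization.AtPrime 𝔮) ^ n₂)) := by
    ext x
    obtain ⟨y, rfl⟩ := Ideal.Quotient.mk_surjective x
    rw [RingHom.mem_ker, hresmk, residue_eq_zero_iff, Ideal.mem_quotient_iff_mem hpowle]
  have hlam : Ideal.span (Set.range lam) = RingHom.ker res := by
    have h1 := congrArg (Ideal.map
      (Ideal.Quotient.mk (maximalIdeal (Localization.AtPrime 𝔮) ^ n₂))) hπ₀span
    rw [Ideal.map_span, ← Set.range_comp] at h1
    rw [hker, ← h1]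
    rfl
  have hn : RingHom.ker res ^ n₂ = ⊥ := by
    rw [hker, ← Ideal.map_pow, Ideal.map_quotient_self]
  have hH := h1fin p (Localization.AtPrime 𝔮) hLq
  obtain ⟨σ, hσ, F₁, hF₁, hgood⟩ :=
    Groth.Agent.Lib.T2H8.InsepArt.artplus p hH res hres hsurj lam hlam n₂ hn
  obtain ⟨FE, hFEfg, hFE⟩ := exists_fg_forall_mem_T (k := k) res σ hσ lam hlam n₂ hn
    (E₀.image ι)
  have hfrac : ∀ x : (Localization.AtPrime 𝔮 ⧸ maximalIdeal (Localization.AtPrime 𝔮) ^ n₂),
      ∃ l s : Λ, IsUnit (ι s) ∧ x * ι s = ι l := by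
    intro x
    obtain ⟨w, rfl⟩ := Ideal.Quotient.mk_surjective x
    obtain ⟨l, s, rfl⟩ := IsLocalization.exists_mk'_eq 𝔮.primeCompl w
    refine ⟨l, s, ?_, ?_⟩
    · rw [hι]
      exact (IsLocalization.map_units (Localization.AtPrime 𝔮) s).map _
    · rw [hι, hι, ← map_mul, IsLocalization.mk'_spec]
  obtain ⟨G, hG, hGle⟩ := Groth.Agent.Lib.T2H8.InsepArt.glob p res σ hσ n₂ hn ι hfrac
    (F₁ ⊔ FE) (IntermediateField.fg_sup hF₁ hFEfg)
  obtain ⟨F', hF'def⟩ : ∃ F' : IntermediateField k (ResidueField (Localization.AtPrime 𝔮)),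
      F' = IntermediateField.adjoin k
        ((fun g => residue (Localization.AtPrime 𝔮) (algebraMap Λ (Localization.AtPrime 𝔮) g)) ''
          (G : Set Λ)) := ⟨_, rfl⟩
  have hGle' : F₁ ⊔ FE ≤ F' := by
    rw [hF'def]
    exact hGle
  have hF'fg : F'.FG := by
    rw [hF'def]
    exact IntermediateField.fg_adjoin_of_finite ((Finset.finite_toSet G).image _)
  obtain ⟨D, hDloc, hDT, hDart, hDfree, hDeft, hDmax⟩ :=
    hgood F' (le_sup_left.trans hGle') hF'fg
  obtain ⟨R₂, _, _, hR₂reg, hR₂fp, hR₂fs, φ₂, hdimA₀, hmapeq, hadj, t, y, hymem, hyG, hyspan⟩ :=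
    Groth.Agent.Lib.T2H8.InsepFlat.flat_main 𝔮 p hLq hd π₀ hπ₀ hπ₀span G F' hF'def
  have hmem𝔭 : ∀ f, f ∈ 𝔮.comap φ₂ ↔ φ₂ f ∈ 𝔮 := fun f => Ideal.mem_comap
  haveI := hDloc
  haveI := hR₂reg
  -- membership in `D`
  have hGD : ∀ g ∈ G, ι g ∈ D := by
    intro g hg
    rw [hDT, hG g hg]
    apply sigma_mem_T
    rw [hF'def]
    exact IntermediateField.subset_adjoin k _ ⟨g, hg, rfl⟩
  have hπD : ∀ i, ι (π₀ i) ∈ D := fun i => (hDT _).mpr (lam_mem_T σ lam F' i)
  have hφD : ∀ f : R₂, ιA (φ₂ f) ∈ D := by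
    intro f
    have h1 : Algebra.adjoin k ((G : Set Λ) ∪ Set.range π₀) ≤ D.comap ιA := by
      apply Algebra.adjoin_le
      rintro x (hx | ⟨i, rfl⟩)
      · exact hGD x hx
      · exact hπD i
    exact h1 (hadj f)
  have hED : ∀ e ∈ E₀, ι e ∈ D := by
    intro e he
    rw [hDT]
    apply T_mono σ lam (le_sup_right.trans hGle')
    exact hFE _ (Finset.mem_image_of_mem ι he)
  have hresφ : ∀ f : R₂, res (ι (φ₂ f)) = 0 ↔ f ∈ 𝔮.comap φ₂ := by
    intro f
    rw [hι, hresmk, residue_eq_zero_iff,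
      IsLocalization.AtPrime.to_map_mem_maximal_iff (Localization.AtPrime 𝔮) 𝔮, hmem𝔭]
  have hunitD : ∀ a : D, res (a : Localization.AtPrime 𝔮 ⧸
      maximalIdeal (Localization.AtPrime 𝔮) ^ n₂) ≠ 0 → IsUnit a := fun a ha =>
    isUnit_of_res_ne_zero res σ hσ lam hlam n₂ hn F' D hDT a ha
  have hmaxD : ∀ a : D, a ∈ maximalIdeal D ↔ res (a : Localization.AtPrime 𝔮 ⧸
      maximalIdeal (Localization.AtPrime 𝔮) ^ n₂) = 0 := fun a =>
    mem_maximalIdeal_A res σ hσ lam hlam n₂ hn F' D hDT a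
  let χDA : R₂ →ₐ[k] D := (ιA.comp φ₂).codRestrict D hφD
  have hχDA : ∀ f, ((χDA f : D) : Localization.AtPrime 𝔮 ⧸
      maximalIdeal (Localization.AtPrime 𝔮) ^ n₂) = ι (φ₂ f) := fun f => rfl
  -- the universal property of `R₀`
  have hUP : ∀ (T : Type u) [CommRing T] (χ : R₂ →+* T), (∀ s, s ∉ 𝔮.comap φ₂ → IsUnit (χ s)) →
      (∀ x ∈ (𝔮.comap φ₂) ^ n₂, χ x = 0) →
      ∃ χ₀ : (Localization.AtPrime (𝔮.comap φ₂) ⧸ maximalIdeal (Localization.AtPrime (𝔮.comap φ₂)) ^ n₂) →+* T,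
        ∀ f, χ₀ (algebraMap R₂ _ f) = χ f := by
    intro T _ χ hu hv
    let χ₁ : Localization.AtPrime (𝔮.comap φ₂) →+* T :=
      IsLocalization.lift (M := (𝔮.comap φ₂).primeCompl) (g := χ) (fun s => hu s.1 s.2)
    have hχ₁ : ∀ f, χ₁ (algebraMap R₂ _ f) = χ f := fun f => IsLocalization.lift_eq _ f
    have hk : ∀ x ∈ maximalIdeal (Localization.AtPrime (𝔮.comap φ₂)) ^ n₂, χ₁ x = 0 := by
      have h1 : maximalIdeal (Localization.AtPrime (𝔮.comap φ₂)) ^ n₂ ≤ RingHom.ker χ₁ := by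
        rw [← Localization.AtPrime.map_eq_maximalIdeal (I := 𝔮.comap φ₂), ← Ideal.map_pow,
          Ideal.map_le_iff_le_comap]
        intro x hx
        rw [Ideal.mem_comap, RingHom.mem_ker, hχ₁]
        exact hv x hx
      exact fun x hx => h1 hx
    exact ⟨Ideal.Quotient.lift _ χ₁ hk, fun f => hχ₁ f⟩
  have hepi : ∀ (T : Type u) [CommRing T]
      (f₁ f₂ : (Localization.AtPrime (𝔮.comap φ₂) ⧸
        maximalIdeal (Localization.AtPrime (𝔮.comap φ₂)) ^ n₂) →+* T),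
      (∀ x : R₂, f₁ (algebraMap R₂ _ x) = f₂ (algebraMap R₂ _ x)) → f₁ = f₂ := by
    intro T _ f₁ f₂ hf
    apply Ideal.Quotient.ringHom_ext
    apply IsLocalization.ringHom_ext (𝔮.comap φ₂).primeCompl
    exact RingHom.ext hf
  have hunitχ : ∀ s, s ∉ 𝔮.comap φ₂ → IsUnit (χDA.toRingHom s) := by
    intro s hs
    apply hunitD
    show res (ι (φ₂ s)) ≠ 0
    rw [Ne, hresφ]
    exact hs
  have hvanχ : ∀ x ∈ (𝔮.comap φ₂) ^ n₂, χDA.toRingHom x = 0 := by
    intro x hx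
    apply Subtype.ext
    show ι (φ₂ x) = 0
    rw [hι, Ideal.Quotient.eq_zero_iff_mem]
    have h1 : (𝔮.comap φ₂) ^ n₂ ≤ (maximalIdeal (Localization.AtPrime 𝔮) ^ n₂).comap
        ((algebraMap Λ (Localization.AtPrime 𝔮)).comp φ₂.toRingHom) := by
      rw [← Ideal.map_le_iff_le_comap, Ideal.map_pow]
      apply Ideal.pow_right_mono
      rw [Ideal.map_le_iff_le_comap]
      intro z hz
      rw [Ideal.mem_comap]
      show algebraMap Λ (Localization.AtPrime 𝔮) (φ₂ z) ∈ _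
      rw [IsLocalization.AtPrime.to_map_mem_maximal_iff (Localization.AtPrime 𝔮) 𝔮]
      exact (hmem𝔭 z).mp hz
    exact h1 hx
  obtain ⟨δ₀, hδ₀⟩ := hUP D χDA.toRingHom hunitχ hvanχ
  letI algR₀D : Algebra (Localization.AtPrime (𝔮.comap φ₂) ⧸ maximalIdeal (Localization.AtPrime (𝔮.comap φ₂)) ^ n₂) D :=
    δ₀.toAlgebra
  have hδ₀' : ∀ f : R₂, algebraMap (Localization.AtPrime (𝔮.comap φ₂) ⧸
      maximalIdeal (Localization.AtPrime (𝔮.comap φ₂)) ^ n₂) D (algebraMap R₂ _ f) = χDA f := hδ₀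
  -- local ring structure of `R₀`
  have hpowle0 : maximalIdeal (Localization.AtPrime (𝔮.comap φ₂)) ^ n₂ ≤ maximalIdeal (Localization.AtPrime (𝔮.comap φ₂)) := Ideal.pow_le_self (by omega)
  haveI hR₀loc : IsLocalRing (Localization.AtPrime (𝔮.comap φ₂) ⧸ maximalIdeal (Localization.AtPrime (𝔮.comap φ₂)) ^ n₂) := Groth.Agent.Lib.Helper5.isLocalRing_quotient
    (fun h => (maximalIdeal.isMaximal (Localization.AtPrime (𝔮.comap φ₂))).ne_top (top_le_iff.mp (h ▸ hpowle0)))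
  have hmaxR₀ : maximalIdeal (Localization.AtPrime (𝔮.comap φ₂) ⧸ maximalIdeal (Localization.AtPrime (𝔮.comap φ₂)) ^ n₂) = (maximalIdeal (Localization.AtPrime (𝔮.comap φ₂))).map (Ideal.Quotient.mk _) :=
    Groth.Agent.Lib.Helper5.maximalIdeal_quotient_eq_map _
  have hmaxR₀' : maximalIdeal (Localization.AtPrime (𝔮.comap φ₂) ⧸ maximalIdeal (Localization.AtPrime (𝔮.comap φ₂)) ^ n₂) = (𝔮.comap φ₂).map (algebraMap R₂ (Localization.AtPrime (𝔮.comap φ₂) ⧸ maximalIdeal (Localization.AtPrime (𝔮.comap φ₂)) ^ n₂)) := by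
    rw [hmaxR₀, ← Localization.AtPrime.map_eq_maximalIdeal (I := 𝔮.comap φ₂), Ideal.map_map]
    rfl
  have hnR₀ : maximalIdeal (Localization.AtPrime (𝔮.comap φ₂) ⧸ maximalIdeal (Localization.AtPrime (𝔮.comap φ₂)) ^ n₂) ^ n₂ = ⊥ := by
    rw [hmaxR₀, ← Ideal.map_pow, Ideal.map_quotient_self]
  haveI hlocalhom : IsLocalHom (algebraMap (Localization.AtPrime (𝔮.comap φ₂) ⧸ maximalIdeal (Localization.AtPrime (𝔮.comap φ₂)) ^ n₂) D) := by
    apply ((IsLocalRing.local_hom_TFAE _).out 0 2).mpr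
    rw [hmaxR₀', Ideal.map_map, Ideal.map_le_iff_le_comap]
    intro x hx
    rw [Ideal.mem_comap, RingHom.comp_apply, hδ₀', hmaxD, hχDA, hresφ]
    exact hx
  haveI towerkR₀D : IsScalarTower k (Localization.AtPrime (𝔮.comap φ₂) ⧸ maximalIdeal (Localization.AtPrime (𝔮.comap φ₂)) ^ n₂) D := by
    refine IsScalarTower.of_algebraMap_eq (R := k) (S := (Localization.AtPrime (𝔮.comap φ₂) ⧸ maximalIdeal (Localization.AtPrime (𝔮.comap φ₂)) ^ n₂)) (A := D) (fun c => ?_)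
    rw [IsScalarTower.algebraMap_apply k R₂ (Localization.AtPrime (𝔮.comap φ₂) ⧸ maximalIdeal (Localization.AtPrime (𝔮.comap φ₂)) ^ n₂), hδ₀', χDA.commutes]
  haveI := hDeft
  haveI hessft : Algebra.EssFiniteType (Localization.AtPrime (𝔮.comap φ₂) ⧸ maximalIdeal (Localization.AtPrime (𝔮.comap φ₂)) ^ n₂) D := Algebra.EssFiniteType.of_comp k (Localization.AtPrime (𝔮.comap φ₂) ⧸ maximalIdeal (Localization.AtPrime (𝔮.comap φ₂)) ^ n₂) D
  -- `Lq` is flat over `A₀`
  let g : Localization.AtPrime (𝔮.comap φ₂) →+* Localization.AtPrime 𝔮 := Localization.localRingHom (𝔮.comap φ₂) 𝔮 φ₂.toRingHom rfl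
  have hg : ∀ y, g (algebraMap R₂ (Localization.AtPrime (𝔮.comap φ₂)) y) = algebraMap Λ (Localization.AtPrime 𝔮) (φ₂ y) := fun y =>
    Localization.localRingHom_to_map (𝔮.comap φ₂) 𝔮 φ₂.toRingHom rfl y
  letI algA₀Lq : Algebra (Localization.AtPrime (𝔮.comap φ₂)) (Localization.AtPrime 𝔮) := g.toAlgebra
  haveI : IsLocalHom (algebraMap (Localization.AtPrime (𝔮.comap φ₂)) (Localization.AtPrime 𝔮)) :=
    Localization.isLocalHom_localRingHom (𝔮.comap φ₂) 𝔮 φ₂.toRingHom rfl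
  have hmapeq' : (𝔮.comap φ₂).map ((algebraMap Λ (Localization.AtPrime 𝔮)).comp φ₂.toRingHom) = maximalIdeal (Localization.AtPrime 𝔮) := by
    rw [← hmapeq]
    exact (Ideal.map_map φ₂.toRingHom (algebraMap Λ (Localization.AtPrime 𝔮))).symm
  have hmapg : (maximalIdeal (Localization.AtPrime (𝔮.comap φ₂))).map (algebraMap (Localization.AtPrime (𝔮.comap φ₂)) (Localization.AtPrime 𝔮)) = maximalIdeal (Localization.AtPrime 𝔮) := by
    rw [← Localization.AtPrime.map_eq_maximalIdeal (I := 𝔮.comap φ₂), Ideal.map_map, ← hmapeq']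
    congr 1
    exact RingHom.ext hg
  haveI : IsRegularLocalRing (Localization.AtPrime (𝔮.comap φ₂)) := inferInstance
  haveI := Groth.Agent.Lib.Helper5.isCohenMacaulayLocalRing_of_isRegularLocalRing (R := Localization.AtPrime 𝔮)
  haveI hflatA₀ : Module.Flat (Localization.AtPrime (𝔮.comap φ₂)) (Localization.AtPrime 𝔮) := by
    apply Groth.Agent.S2082.result
    rw [hmapg, hd, hdimA₀]
    have h0 : ringKrullDim (Localization.AtPrime 𝔮 ⧸ maximalIdeal (Localization.AtPrime 𝔮)) = 0 :=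
      ringKrullDim_eq_zero_of_field (ResidueField (Localization.AtPrime 𝔮))
    rw [h0, add_zero]
  have hI' : (maximalIdeal (Localization.AtPrime (𝔮.comap φ₂)) ^ n₂).map (algebraMap (Localization.AtPrime (𝔮.comap φ₂)) (Localization.AtPrime 𝔮)) = maximalIdeal (Localization.AtPrime 𝔮) ^ n₂ := by
    rw [Ideal.map_pow, hmapg]
  haveI hflat1 : Module.Flat (Localization.AtPrime (𝔮.comap φ₂) ⧸ maximalIdeal (Localization.AtPrime (𝔮.comap φ₂)) ^ n₂) (Localization.AtPrime 𝔮 ⧸ (maximalIdeal (Localization.AtPrime (𝔮.comap φ₂)) ^ n₂).map (algebraMap (Localization.AtPrime (𝔮.comap φ₂)) (Localization.AtPrime 𝔮))) :=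
    Module.Flat.of_linearEquiv
      (Algebra.TensorProduct.quotIdealMapEquivQuotTensor (Localization.AtPrime 𝔮) (maximalIdeal (Localization.AtPrime (𝔮.comap φ₂)) ^ n₂)).toLinearEquiv
  letI algR₀L : Algebra (Localization.AtPrime (𝔮.comap φ₂) ⧸ maximalIdeal (Localization.AtPrime (𝔮.comap φ₂)) ^ n₂) (Localization.AtPrime 𝔮 ⧸ maximalIdeal (Localization.AtPrime 𝔮) ^ n₂) := ((algebraMap D (Localization.AtPrime 𝔮 ⧸ maximalIdeal (Localization.AtPrime 𝔮) ^ n₂)).comp (algebraMap (Localization.AtPrime (𝔮.comap φ₂) ⧸ maximalIdeal (Localization.AtPrime (𝔮.comap φ₂)) ^ n₂) D)).toAlgebra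
  haveI towerR₀DL : IsScalarTower (Localization.AtPrime (𝔮.comap φ₂) ⧸ maximalIdeal (Localization.AtPrime (𝔮.comap φ₂)) ^ n₂) D (Localization.AtPrime 𝔮 ⧸ maximalIdeal (Localization.AtPrime 𝔮) ^ n₂) := IsScalarTower.of_algebraMap_eq (fun x => rfl)
  have hδL : ∀ a₀ : Localization.AtPrime (𝔮.comap φ₂), algebraMap (Localization.AtPrime (𝔮.comap φ₂) ⧸ maximalIdeal (Localization.AtPrime (𝔮.comap φ₂)) ^ n₂) (Localization.AtPrime 𝔮 ⧸ maximalIdeal (Localization.AtPrime 𝔮) ^ n₂) (Ideal.Quotient.mk _ a₀) = Ideal.Quotient.mk _ (g a₀) := by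
    have h1 : ((algebraMap (Localization.AtPrime (𝔮.comap φ₂) ⧸ maximalIdeal (Localization.AtPrime (𝔮.comap φ₂)) ^ n₂) (Localization.AtPrime 𝔮 ⧸ maximalIdeal (Localization.AtPrime 𝔮) ^ n₂)).comp (Ideal.Quotient.mk (maximalIdeal (Localization.AtPrime (𝔮.comap φ₂)) ^ n₂))) =
        (Ideal.Quotient.mk (maximalIdeal (Localization.AtPrime 𝔮) ^ n₂)).comp g := by
      apply IsLocalization.ringHom_ext (𝔮.comap φ₂).primeCompl
      refine RingHom.ext fun f => ?_
      show algebraMap D (Localization.AtPrime 𝔮 ⧸ maximalIdeal (Localization.AtPrime 𝔮) ^ n₂) (algebraMap (Localization.AtPrime (𝔮.comap φ₂) ⧸ maximalIdeal (Localization.AtPrime (𝔮.comap φ₂)) ^ n₂) D (algebraMap R₂ (Localization.AtPrime (𝔮.comap φ₂) ⧸ maximalIdeal (Localization.AtPrime (𝔮.comap φ₂)) ^ n₂) f)) =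
        Ideal.Quotient.mk _ (g (algebraMap R₂ (Localization.AtPrime (𝔮.comap φ₂)) f))
      rw [hδ₀', hg]
      rfl
    exact fun a₀ => RingHom.congr_fun h1 a₀
  haveI hflatL : Module.Flat (Localization.AtPrime (𝔮.comap φ₂) ⧸ maximalIdeal (Localization.AtPrime (𝔮.comap φ₂)) ^ n₂) (Localization.AtPrime 𝔮 ⧸ maximalIdeal (Localization.AtPrime 𝔮) ^ n₂) := by
    let E : (Localization.AtPrime 𝔮 ⧸ (maximalIdeal (Localization.AtPrime (𝔮.comap φ₂)) ^ n₂).map (algebraMap (Localization.AtPrime (𝔮.comap φ₂)) (Localization.AtPrime 𝔮))) ≃+* (Localization.AtPrime 𝔮 ⧸ maximalIdeal (Localization.AtPrime 𝔮) ^ n₂) :=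
      Ideal.quotEquivOfEq hI'
    let El : (Localization.AtPrime 𝔮 ⧸ (maximalIdeal (Localization.AtPrime (𝔮.comap φ₂)) ^ n₂).map (algebraMap (Localization.AtPrime (𝔮.comap φ₂)) (Localization.AtPrime 𝔮))) →ₗ[(Localization.AtPrime (𝔮.comap φ₂) ⧸ maximalIdeal (Localization.AtPrime (𝔮.comap φ₂)) ^ n₂)] (Localization.AtPrime 𝔮 ⧸ maximalIdeal (Localization.AtPrime 𝔮) ^ n₂) :=
      { toFun := E
        map_add' := map_add E
        map_smul' := fun r x => by
          obtain ⟨a₀, rfl⟩ := Ideal.Quotient.mk_surjective r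
          rw [RingHom.id_apply, Algebra.smul_def, Algebra.smul_def, map_mul, hδL]
          rfl }
    exact Module.Flat.of_linearEquiv (LinearEquiv.ofBijective El E.bijective).symm
  -- `L` is faithfully flat over `D`
  have hpowleq : maximalIdeal (Localization.AtPrime 𝔮) ^ n₂ ≤ maximalIdeal (Localization.AtPrime 𝔮) := Ideal.pow_le_self (by omega)
  haveI hLloc : IsLocalRing (Localization.AtPrime 𝔮 ⧸ maximalIdeal (Localization.AtPrime 𝔮) ^ n₂) := Groth.Agent.Lib.Helper5.isLocalRing_quotient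
    (fun h => (maximalIdeal.isMaximal (Localization.AtPrime 𝔮)).ne_top (top_le_iff.mp (h ▸ hpowleq)))
  haveI : IsLocalHom (algebraMap D (Localization.AtPrime 𝔮 ⧸ maximalIdeal (Localization.AtPrime 𝔮) ^ n₂)) := ⟨fun a ha => hunitD a (fun h0 => by
    have h1 := ha.map res
    rw [show res (algebraMap D (Localization.AtPrime 𝔮 ⧸ maximalIdeal (Localization.AtPrime 𝔮) ^ n₂) a) = 0 from h0] at h1
    exact not_isUnit_zero h1)⟩
  haveI := hDfree
  haveI hff : @Module.FaithfullyFlat D (Localization.AtPrime 𝔮 ⧸ maximalIdeal (Localization.AtPrime 𝔮) ^ n₂) _ _ Algebra.toModule := Module.FaithfullyFlat.of_flat_of_isLocalHom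
  haveI hflatD : Module.Flat (Localization.AtPrime (𝔮.comap φ₂) ⧸ maximalIdeal (Localization.AtPrime (𝔮.comap φ₂)) ^ n₂) D :=
    Groth.Agent.Lib.Helper28.flat_of_faithfullyFlat_of_flat_comp (Localization.AtPrime (𝔮.comap φ₂) ⧸ maximalIdeal (Localization.AtPrime (𝔮.comap φ₂)) ^ n₂) D (Localization.AtPrime 𝔮 ⧸ maximalIdeal (Localization.AtPrime 𝔮) ^ n₂)
  -- `𝔪_{R₀} D = 𝔪_D`
  have hH : (maximalIdeal (Localization.AtPrime (𝔮.comap φ₂) ⧸ maximalIdeal (Localization.AtPrime (𝔮.comap φ₂)) ^ n₂)).map (algebraMap (Localization.AtPrime (𝔮.comap φ₂) ⧸ maximalIdeal (Localization.AtPrime (𝔮.comap φ₂)) ^ n₂) D) = maximalIdeal D := by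
    have hR : (maximalIdeal D).map (algebraMap D (Localization.AtPrime 𝔮 ⧸ maximalIdeal (Localization.AtPrime 𝔮) ^ n₂)) = (𝔮.comap φ₂).map
        ((Ideal.Quotient.mk (maximalIdeal (Localization.AtPrime 𝔮) ^ n₂)).comp
          ((algebraMap Λ (Localization.AtPrime 𝔮)).comp φ₂.toRingHom)) := by
      rw [hDmax, hker]
      have h0 := congrArg (Ideal.map (Ideal.Quotient.mk (maximalIdeal (Localization.AtPrime 𝔮) ^ n₂))) hmapeq'
      rw [Ideal.map_map] at h0
      exact h0.symm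
    have hL : ((maximalIdeal (Localization.AtPrime (𝔮.comap φ₂) ⧸ maximalIdeal (Localization.AtPrime (𝔮.comap φ₂)) ^ n₂)).map (algebraMap (Localization.AtPrime (𝔮.comap φ₂) ⧸ maximalIdeal (Localization.AtPrime (𝔮.comap φ₂)) ^ n₂) D)).map (algebraMap D (Localization.AtPrime 𝔮 ⧸ maximalIdeal (Localization.AtPrime 𝔮) ^ n₂)) =
        (𝔮.comap φ₂).map (((algebraMap D (Localization.AtPrime 𝔮 ⧸ maximalIdeal (Localization.AtPrime 𝔮) ^ n₂)).comp (algebraMap (Localization.AtPrime (𝔮.comap φ₂) ⧸ maximalIdeal (Localization.AtPrime (𝔮.comap φ₂)) ^ n₂) D)).comp (algebraMap R₂ (Localization.AtPrime (𝔮.comap φ₂) ⧸ maximalIdeal (Localization.AtPrime (𝔮.comap φ₂)) ^ n₂))) := by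
      rw [hmaxR₀', Ideal.map_map, Ideal.map_map]
    have h1 : ((maximalIdeal (Localization.AtPrime (𝔮.comap φ₂) ⧸ maximalIdeal (Localization.AtPrime (𝔮.comap φ₂)) ^ n₂)).map (algebraMap (Localization.AtPrime (𝔮.comap φ₂) ⧸ maximalIdeal (Localization.AtPrime (𝔮.comap φ₂)) ^ n₂) D)).map (algebraMap D (Localization.AtPrime 𝔮 ⧸ maximalIdeal (Localization.AtPrime 𝔮) ^ n₂)) =
        (maximalIdeal D).map (algebraMap D (Localization.AtPrime 𝔮 ⧸ maximalIdeal (Localization.AtPrime 𝔮) ^ n₂)) := by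
      rw [hL, hR]
      congr 1
      refine RingHom.ext fun f => ?_
      show algebraMap D (Localization.AtPrime 𝔮 ⧸ maximalIdeal (Localization.AtPrime 𝔮) ^ n₂) (algebraMap (Localization.AtPrime (𝔮.comap φ₂) ⧸ maximalIdeal (Localization.AtPrime (𝔮.comap φ₂)) ^ n₂) D (algebraMap R₂ (Localization.AtPrime (𝔮.comap φ₂) ⧸ maximalIdeal (Localization.AtPrime (𝔮.comap φ₂)) ^ n₂) f)) = _
      rw [hδ₀']
      rfl
    have h2 := congrArg (Ideal.comap (algebraMap D (Localization.AtPrime 𝔮 ⧸ maximalIdeal (Localization.AtPrime 𝔮) ^ n₂))) h1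
    rwa [Ideal.comap_map_eq_self_of_faithfullyFlat, Ideal.comap_map_eq_self_of_faithfullyFlat] at h2
  -- the residue field extension is unramified
  haveI hunr : Algebra.FormallyUnramified (ResidueField (Localization.AtPrime (𝔮.comap φ₂) ⧸ maximalIdeal (Localization.AtPrime (𝔮.comap φ₂)) ^ n₂)) (ResidueField D) := by
    have hσD : ∀ c : F', (σ.comp (algebraMap F' (ResidueField (Localization.AtPrime 𝔮)))) c ∈ D := fun c =>
      (hDT _).mpr (sigma_mem_T σ lam F' c.2)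
    let s₀ : F' →+* D := (σ.comp (algebraMap F' (ResidueField (Localization.AtPrime 𝔮)))).codRestrict D hσD
    have hs₀ : ∀ c : F', ((s₀ c : D) : (Localization.AtPrime 𝔮 ⧸ maximalIdeal (Localization.AtPrime 𝔮) ^ n₂)) = σ (c : ResidueField (Localization.AtPrime 𝔮)) := fun c => rfl
    let s : F' →+* ResidueField D := (residue D).comp s₀
    letI algF'κ : Algebra F' (ResidueField D) := s.toAlgebra
    have halgF' : ∀ c : F', algebraMap F' (ResidueField D) c = residue D (s₀ c) := fun c => rfl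
    have hreseq : ∀ a b : D, res (a : (Localization.AtPrime 𝔮 ⧸ maximalIdeal (Localization.AtPrime 𝔮) ^ n₂)) = res (b : (Localization.AtPrime 𝔮 ⧸ maximalIdeal (Localization.AtPrime 𝔮) ^ n₂)) → residue D a = residue D b := by
      intro a b hab
      rw [← sub_eq_zero, ← map_sub, residue_eq_zero_iff, hmaxD]
      show res ((a : (Localization.AtPrime 𝔮 ⧸ maximalIdeal (Localization.AtPrime 𝔮) ^ n₂)) - (b : (Localization.AtPrime 𝔮 ⧸ maximalIdeal (Localization.AtPrime 𝔮) ^ n₂))) = 0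
      rw [map_sub, hab, sub_self]
    haveI tower1 : IsScalarTower k F' (ResidueField D) := by
      refine IsScalarTower.of_algebraMap_eq (R := k) (S := F') (A := ResidueField D) (fun c => ?_)
      show residue D (algebraMap k D c) = residue D (s₀ (algebraMap k F' c))
      apply hreseq
      show res (algebraMap k (Localization.AtPrime 𝔮 ⧸ maximalIdeal (Localization.AtPrime 𝔮) ^ n₂) c) = res (σ (algebraMap k (ResidueField (Localization.AtPrime 𝔮)) c))
      rw [hres, hσ]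
    haveI tower2 : IsScalarTower k (ResidueField (Localization.AtPrime (𝔮.comap φ₂) ⧸ maximalIdeal (Localization.AtPrime (𝔮.comap φ₂)) ^ n₂)) (ResidueField D) := by
      refine IsScalarTower.of_algebraMap_eq (R := k) (S := ResidueField (Localization.AtPrime (𝔮.comap φ₂) ⧸ maximalIdeal (Localization.AtPrime (𝔮.comap φ₂)) ^ n₂))
        (A := ResidueField D) (fun c => ?_)
      show residue D (algebraMap k D c) =
        algebraMap (ResidueField (Localization.AtPrime (𝔮.comap φ₂) ⧸ maximalIdeal (Localization.AtPrime (𝔮.comap φ₂)) ^ n₂)) (ResidueField D) (residue (Localization.AtPrime (𝔮.comap φ₂) ⧸ maximalIdeal (Localization.AtPrime (𝔮.comap φ₂)) ^ n₂) (algebraMap k (Localization.AtPrime (𝔮.comap φ₂) ⧸ maximalIdeal (Localization.AtPrime (𝔮.comap φ₂)) ^ n₂) c))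
      rw [IsScalarTower.algebraMap_apply k (Localization.AtPrime (𝔮.comap φ₂) ⧸ maximalIdeal (Localization.AtPrime (𝔮.comap φ₂)) ^ n₂) D]
      rfl
    have hsurjF : Function.Surjective (algebraMap F' (ResidueField D)) := by
      intro x
      obtain ⟨a, rfl⟩ := residue_surjective x
      have hc : res (a : (Localization.AtPrime 𝔮 ⧸ maximalIdeal (Localization.AtPrime 𝔮) ^ n₂)) ∈ F' := res_mem_of_mem_T res σ hσ lam hlam F' ((hDT _).mp a.2)
      refine ⟨⟨res (a : (Localization.AtPrime 𝔮 ⧸ maximalIdeal (Localization.AtPrime 𝔮) ^ n₂)), hc⟩, ?_⟩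
      rw [halgF']
      apply hreseq
      rw [hs₀, hσ]
    refine Groth.Agent.Lib.T2H8.InsepAux.formallyUnramified_of_span (k := k)
      (K₀ := ResidueField (Localization.AtPrime (𝔮.comap φ₂) ⧸ maximalIdeal (Localization.AtPrime (𝔮.comap φ₂)) ^ n₂)) (KD := ResidueField D) (F := F') hsurjF
      (fun j => (⟨residue (Localization.AtPrime 𝔮) (algebraMap Λ (Localization.AtPrime 𝔮) (φ₂ (y j))), hymem j⟩ : F')) hyspan ?_
    intro j
    refine ⟨residue (Localization.AtPrime (𝔮.comap φ₂) ⧸ maximalIdeal (Localization.AtPrime (𝔮.comap φ₂)) ^ n₂) (algebraMap R₂ (Localization.AtPrime (𝔮.comap φ₂) ⧸ maximalIdeal (Localization.AtPrime (𝔮.comap φ₂)) ^ n₂) (y j)), ?_⟩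
    rw [halgF']
    have h1 : s₀ ⟨residue (Localization.AtPrime 𝔮) (algebraMap Λ (Localization.AtPrime 𝔮) (φ₂ (y j))), hymem j⟩ = χDA (y j) := by
      apply Subtype.ext
      rw [hs₀, hχDA]
      exact (hG _ (hyG j)).symm
    rw [h1, ← hδ₀']
    rfl
  have hetale : Algebra.Etale (Localization.AtPrime (𝔮.comap φ₂) ⧸ maximalIdeal (Localization.AtPrime (𝔮.comap φ₂)) ^ n₂) D :=
    Groth.Agent.Lib.T2H8.InsepAux.etale_of_local n₂ hnR₀ hH
  refine ⟨R₂, inferInstance, inferInstance, hR₂reg, hR₂fp, hR₂fs, φ₂, hdimA₀, hmapeq,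
    (Localization.AtPrime (𝔮.comap φ₂) ⧸ maximalIdeal (Localization.AtPrime (𝔮.comap φ₂)) ^ n₂), inferInstance, inferInstance, hUP, hepi, D, algR₀D, hetale, hff, ?_, hED⟩
  intro f
  rw [hδ₀']
  rfl

end Groth.Agent.Lib.T2H8.InsepD
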