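import Mathlib
import Groth.Agent.S2034
import Groth.Agent.Lib.T2H8ResB
import Groth.Agent.Lib.T2H8SmoothParams

/-!
# The reduced problem over `R/K` with zero-dimensional `Λ_𝔮/KΛ_𝔮` (helper for S6824)

If `Λ_𝔮/KΛ_𝔮` has nilpotent maximal ideal and the localized problem admits a smooth resolution
`B'` over `(R/K)_𝔭`, then the problem `R/K → C/KC → Λ/KΛ ⊇ 𝔮/KΛ` can be resolved.
-/

set_option autoImplicit false
universe u

namespace Groth.Agent.Lib.T2H8.InsepFinal

open IsLocalRing TensorProduct Groth.Agent.Lib.T2H8.ResB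

variable {R Cr Λ : Type u} [CommRing R] [IsNoetherianRing R] (K : Ideal R)
  [CommRing Cr] [Algebra R Cr] [Algebra.FinitePresentation R Cr]
  [CommRing Λ] [Algebra R Λ] (ψ : Cr →ₐ[R] Λ) (𝔮 : Ideal Λ) [𝔮.IsPrime]

theorem map_map_eq : (K.map (algebraMap R Λ)).map (algebraMap Λ (Localization.AtPrime 𝔮)) =
    K.map (algebraMap R (Localization.AtPrime 𝔮)) := by
  rw [Ideal.map_map, ← IsScalarTower.algebraMap_eq]

theorem final (hK𝔮 : K.map (algebraMap R Λ) ≤ 𝔮)
    [h𝔮b : (𝔮.map (Ideal.Quotient.mk (K.map (algebraMap R Λ)))).IsPrime]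
    (m : ℕ) (hm : maximalIdeal (Localization.AtPrime 𝔮) ^ m ≤
      K.map (algebraMap R (Localization.AtPrime 𝔮)))
    {Rₚ : Type u} [CommRing Rₚ] [Algebra (R ⧸ K) Rₚ]
    [IsLocalization.AtPrime Rₚ ((𝔮.map (Ideal.Quotient.mk (K.map (algebraMap R Λ)))).comap
      (algebraMap (R ⧸ K) (Λ ⧸ K.map (algebraMap R Λ))))]
    (B' : Type u) [CommRing B'] [Algebra Rₚ B'] [Algebra.FinitePresentation Rₚ B']
    [Algebra.FormallySmooth Rₚ B']
    (g₁ : Cr →+* B')
    (hg₁ : ∀ r : R, g₁ (algebraMap R Cr r) =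
      algebraMap Rₚ B' (algebraMap (R ⧸ K) Rₚ (Ideal.Quotient.mk K r)))
    (h : B' →+* (Localization.AtPrime 𝔮 ⧸ K.map (algebraMap R (Localization.AtPrime 𝔮))))
    (hh : ∀ r : R, h (algebraMap Rₚ B' (algebraMap (R ⧸ K) Rₚ (Ideal.Quotient.mk K r))) =
      Ideal.Quotient.mk _ (algebraMap R (Localization.AtPrime 𝔮) r))
    (hcomp : ∀ c : Cr, h (g₁ c) =
      Ideal.Quotient.mk _ (algebraMap Λ (Localization.AtPrime 𝔮) (ψ c))) :
    Smoothing.Resolvable (R ⧸ K) (phiI ψ K)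
      (𝔮.map (Ideal.Quotient.mk (K.map (algebraMap R Λ)))) := by
  classical
  have hJ𝔮 := hK𝔮
  haveI := finitePresentation_quotient (A := Cr) K
  by_cases hle : Smoothing.singRad (R ⧸ K) (phiI ψ K) ≤
      𝔮.map (Ideal.Quotient.mk (K.map (algebraMap R Λ)))
  swap
  · exact ⟨_, inferInstance, inferInstance, inferInstance, AlgHom.id _ _, phiI ψ K,
      AlgHom.comp_id _, le_rfl, hle⟩
  -- the algebra `Λ/KΛ → Λ_𝔮/KΛ_𝔮`
  have hle' : K.map (algebraMap R Λ) ≤
      (K.map (algebraMap R (Localization.AtPrime 𝔮))).comap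
        (algebraMap Λ (Localization.AtPrime 𝔮)) := by
    rw [← Ideal.map_le_iff_le_comap, map_map_eq]
  letI algΛbLq : Algebra (Λ ⧸ K.map (algebraMap R Λ))
      (Localization.AtPrime 𝔮 ⧸ K.map (algebraMap R (Localization.AtPrime 𝔮))) :=
    (Ideal.quotientMap _ (algebraMap Λ (Localization.AtPrime 𝔮)) hle').toAlgebra
  have halg : ∀ x : Λ, algebraMap (Λ ⧸ K.map (algebraMap R Λ))
      (Localization.AtPrime 𝔮 ⧸ K.map (algebraMap R (Localization.AtPrime 𝔮)))
      (Ideal.Quotient.mk _ x) = Ideal.Quotient.mk _ (algebraMap Λ (Localization.AtPrime 𝔮) x) :=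
    fun x => rfl
  haveI tower : IsScalarTower (R ⧸ K) (Λ ⧸ K.map (algebraMap R Λ))
      (Localization.AtPrime 𝔮 ⧸ K.map (algebraMap R (Localization.AtPrime 𝔮))) := by
    refine IsScalarTower.of_algebraMap_eq (fun r => ?_)
    obtain ⟨r, rfl⟩ := Ideal.Quotient.mk_surjective r
    show Ideal.Quotient.mk _ (algebraMap R (Localization.AtPrime 𝔮) r) =
      algebraMap (Λ ⧸ K.map (algebraMap R Λ)) _
        (Ideal.Quotient.mk _ (algebraMap R Λ r))
    rw [halg, ← IsScalarTower.algebraMap_apply]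
  -- images of `𝔮` are nilpotent
  have hqnil : ∀ y ∈ 𝔮, Ideal.Quotient.mk (K.map (algebraMap R (Localization.AtPrime 𝔮)))
      (algebraMap Λ (Localization.AtPrime 𝔮) y) ^ m = 0 := by
    intro y hy
    have h1 : algebraMap Λ (Localization.AtPrime 𝔮) y ∈ maximalIdeal (Localization.AtPrime 𝔮) :=
      (IsLocalization.AtPrime.to_map_mem_maximal_iff (Localization.AtPrime 𝔮) 𝔮 y).mpr hy
    rw [← map_pow, Ideal.Quotient.eq_zero_iff_mem]
    exact hm (Ideal.pow_mem_pow h1 m)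
  -- minimality
  have hmin : 𝔮.map (Ideal.Quotient.mk (K.map (algebraMap R Λ))) ∈
      (Smoothing.singRad (R ⧸ K) (phiI ψ K)).minimalPrimes := by
    refine ⟨⟨h𝔮b, hle⟩, ?_⟩
    rintro P ⟨hP, -⟩ hPq x hx
    obtain ⟨y, rfl⟩ := Ideal.Quotient.mk_surjective x
    rw [Ideal.mem_quotient_iff_mem hJ𝔮] at hx
    have h1 := hqnil y hx
    rw [← map_pow, ← map_pow, Ideal.Quotient.eq_zero_iff_mem, ← map_map_eq] at h1
    obtain ⟨s, hs, hsy⟩ :=
      Groth.Agent.Lib.T2H8.SmoothParams.exists_mul_mem_of_map_mem 𝔮 _ _ h1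
    have h2 : Ideal.Quotient.mk (K.map (algebraMap R Λ)) s *
        Ideal.Quotient.mk _ y ^ m ∈ P := by
      rw [← map_pow, ← map_mul, Ideal.Quotient.eq_zero_iff_mem.mpr hsy]
      exact P.zero_mem
    have h3 : Ideal.Quotient.mk (K.map (algebraMap R Λ)) s ∉ P := by
      intro h4
      have h5 := hPq h4
      rw [Ideal.mem_quotient_iff_mem hJ𝔮] at h5
      exact hs h5
    exact hP.mem_of_pow_mem m ((hP.mem_or_mem h2).resolve_left h3)
  -- localization of `Λ ⧸ J`
  haveI locΛ : IsLocalization.AtPrime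
      (Localization.AtPrime 𝔮 ⧸ K.map (algebraMap R (Localization.AtPrime 𝔮)))
      (𝔮.map (Ideal.Quotient.mk (K.map (algebraMap R Λ)))) := by
    have h1 := IsLocalization.of_surjective 𝔮.primeCompl (Localization.AtPrime 𝔮)
      (Ideal.Quotient.mk (K.map (algebraMap R Λ)))
      Ideal.Quotient.mk_surjective
      (Ideal.Quotient.mk (K.map (algebraMap R (Localization.AtPrime 𝔮))))
      Ideal.Quotient.mk_surjective (RingHom.ext fun x => (halg x).symm)
      (by rw [Ideal.mk_ker, Ideal.mk_ker, map_map_eq])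
    have h2 : 𝔮.primeCompl.map
        (Ideal.Quotient.mk (K.map (algebraMap R Λ))) =
        (𝔮.map (Ideal.Quotient.mk (K.map (algebraMap R Λ)))).primeCompl := by
      ext x
      obtain ⟨y, rfl⟩ := Ideal.Quotient.mk_surjective x
      constructor
      · rintro ⟨z, hz, hzy⟩
        rw [← hzy]
        exact fun hmem => hz ((Ideal.mem_quotient_iff_mem hJ𝔮).mp hmem)
      · intro hy
        have hy' : Ideal.Quotient.mk _ y ∉
          𝔮.map (Ideal.Quotient.mk (K.map (algebraMap R Λ))) := hy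
        rw [Ideal.mem_quotient_iff_mem hJ𝔮] at hy'
        exact ⟨y, hy', rfl⟩
    rw [h2] at h1
    exact h1
  haveI hlocq : IsLocalRing
      (Localization.AtPrime 𝔮 ⧸ K.map (algebraMap R (Localization.AtPrime 𝔮))) :=
    IsLocalization.AtPrime.isLocalRing _ (𝔮.map (Ideal.Quotient.mk (K.map (algebraMap R Λ))))
  have hmaxq : (𝔮.map (Ideal.Quotient.mk (K.map (algebraMap R Λ)))).map (algebraMap _
      (Localization.AtPrime 𝔮 ⧸ K.map (algebraMap R (Localization.AtPrime 𝔮)))) =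
      maximalIdeal _ :=
    IsLocalization.AtPrime.map_eq_maximalIdeal _ _
  -- the maximal ideal is nil
  have hnilmax : ∀ z ∈ maximalIdeal
      (Localization.AtPrime 𝔮 ⧸ K.map (algebraMap R (Localization.AtPrime 𝔮))), z ^ m = 0 := by
    intro z hz
    obtain ⟨w, rfl⟩ := Ideal.Quotient.mk_surjective z
    have hw : w ∈ maximalIdeal (Localization.AtPrime 𝔮) := by
      by_contra hw
      have hu : IsUnit w := IsLocalRing.notMem_maximalIdeal.mp hw
      exact (IsLocalRing.mem_maximalIdeal _).mp hz (hu.map _)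
    rw [← map_pow, Ideal.Quotient.eq_zero_iff_mem]
    exact hm (Ideal.pow_mem_pow hw m)
  have hdim : ringKrullDim
      (Localization.AtPrime 𝔮 ⧸ K.map (algebraMap R (Localization.AtPrime 𝔮))) = 0 := by
    rw [← ringKrullDimZero_iff_ringKrullDim_eq_zero, Ring.krullDimLE_zero_iff]
    intro P hP
    have h1 : maximalIdeal _ ≤ P := by
      intro x hx
      have h2 : x ^ m ∈ P := by
        rw [hnilmax x hx]
        exact P.zero_mem
      exact hP.mem_of_pow_mem m h2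
    rw [← (maximalIdeal.isMaximal _).eq_of_le hP.ne_top h1]
    exact maximalIdeal.isMaximal _
  -- the algebra `Rₚ → Λ_𝔮/KΛ_𝔮`
  have hunit : ∀ y : ((𝔮.map (Ideal.Quotient.mk (K.map (algebraMap R Λ)))).comap
      (algebraMap (R ⧸ K) (Λ ⧸ K.map (algebraMap R Λ)))).primeCompl,
      IsUnit (algebraMap (R ⧸ K)
        (Localization.AtPrime 𝔮 ⧸ K.map (algebraMap R (Localization.AtPrime 𝔮))) y) := by
    intro y
    rw [IsScalarTower.algebraMap_apply (R ⧸ K) (Λ ⧸ K.map (algebraMap R Λ))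
      (Localization.AtPrime 𝔮 ⧸ K.map (algebraMap R (Localization.AtPrime 𝔮)))]
    exact IsLocalization.map_units _
      (⟨algebraMap (R ⧸ K) (Λ ⧸ K.map (algebraMap R Λ)) y, y.2⟩ :
        (𝔮.map (Ideal.Quotient.mk (K.map (algebraMap R Λ)))).primeCompl)
  letI algRpΛq : Algebra Rₚ
      (Localization.AtPrime 𝔮 ⧸ K.map (algebraMap R (Localization.AtPrime 𝔮))) :=
    (IsLocalization.lift (M := ((𝔮.map (Ideal.Quotient.mk (K.map (algebraMap R Λ)))).comap
      (algebraMap (R ⧸ K) (Λ ⧸ K.map (algebraMap R Λ)))).primeCompl) (S := Rₚ)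
      (g := algebraMap (R ⧸ K)
        (Localization.AtPrime 𝔮 ⧸ K.map (algebraMap R (Localization.AtPrime 𝔮)))) hunit).toAlgebra
  have hRpΛq : ∀ x : R ⧸ K, algebraMap Rₚ
      (Localization.AtPrime 𝔮 ⧸ K.map (algebraMap R (Localization.AtPrime 𝔮)))
      (algebraMap (R ⧸ K) Rₚ x) = algebraMap (R ⧸ K) _ x := fun x => IsLocalization.lift_eq _ x
  haveI tower2 : IsScalarTower (R ⧸ K) Rₚ
      (Localization.AtPrime 𝔮 ⧸ K.map (algebraMap R (Localization.AtPrime 𝔮))) :=
    IsScalarTower.of_algebraMap_eq (fun x => (hRpΛq x).symm)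
  refine Groth.Agent.S2034.result (Rₚ := Rₚ)
    (Λq := Localization.AtPrime 𝔮 ⧸ K.map (algebraMap R (Localization.AtPrime 𝔮)))
    (phiI ψ K) _ hmin hdim ?_
  -- the resolution
  have hhRp : ∀ x : Rₚ, h (algebraMap Rₚ B' x) = algebraMap Rₚ
      (Localization.AtPrime 𝔮 ⧸ K.map (algebraMap R (Localization.AtPrime 𝔮))) x := by
    have h1 : (h.comp (algebraMap Rₚ B')) = algebraMap Rₚ
        (Localization.AtPrime 𝔮 ⧸ K.map (algebraMap R (Localization.AtPrime 𝔮))) := by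
      apply IsLocalization.ringHom_ext ((𝔮.map (Ideal.Quotient.mk (K.map (algebraMap R Λ)))).comap
        (algebraMap (R ⧸ K) (Λ ⧸ K.map (algebraMap R Λ)))).primeCompl
      refine RingHom.ext fun x => ?_
      obtain ⟨r, rfl⟩ := Ideal.Quotient.mk_surjective x
      show h (algebraMap Rₚ B' (algebraMap (R ⧸ K) Rₚ (Ideal.Quotient.mk K r))) =
        algebraMap Rₚ _ (algebraMap (R ⧸ K) Rₚ (Ideal.Quotient.mk K r))
      rw [hh, hRpΛq]
      rfl
    exact fun x => RingHom.congr_fun h1 x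
  let hAlg : B' →ₐ[Rₚ]
      (Localization.AtPrime 𝔮 ⧸ K.map (algebraMap R (Localization.AtPrime 𝔮))) :=
    { toRingHom := h, commutes' := hhRp }
  letI algRbB' : Algebra (R ⧸ K) B' := ((algebraMap Rₚ B').comp (algebraMap (R ⧸ K) Rₚ)).toAlgebra
  haveI tower3 : IsScalarTower (R ⧸ K) Rₚ B' := IsScalarTower.of_algebraMap_eq (fun x => rfl)
  have hker : ∀ x ∈ K.map (algebraMap R Cr), g₁ x = 0 := by
    have h1 : K.map (algebraMap R Cr) ≤ RingHom.ker g₁ := by
      rw [Ideal.map_le_iff_le_comap]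
      intro κ hκ
      rw [Ideal.mem_comap, RingHom.mem_ker, hg₁, Ideal.Quotient.eq_zero_iff_mem.mpr hκ, map_zero,
        map_zero]
    exact fun x hx => h1 hx
  let g₀ : (Cr ⧸ K.map (algebraMap R Cr)) →ₐ[R ⧸ K] B' :=
    { toRingHom := Ideal.Quotient.lift _ g₁ hker
      commutes' := fun x => by
        obtain ⟨r, rfl⟩ := Ideal.Quotient.mk_surjective x
        show Ideal.Quotient.lift _ g₁ hker (Ideal.Quotient.mk _ (algebraMap R Cr r)) = _
        rw [Ideal.Quotient.lift_mk, hg₁]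
        rfl }
  have hg₀ : ∀ c : Cr, g₀ (Ideal.Quotient.mk _ c) = g₁ c := fun c => rfl
  let g : Rₚ ⊗[R ⧸ K] (Cr ⧸ K.map (algebraMap R Cr)) →ₐ[Rₚ] B' :=
    Algebra.TensorProduct.lift (Algebra.ofId Rₚ B') g₀ (fun _ _ => Commute.all _ _)
  have htop : Smoothing.singRad Rₚ hAlg = ⊤ := by
    haveI : Algebra.Smooth Rₚ B' := ⟨inferInstance, inferInstance⟩
    unfold Smoothing.singRad Smoothing.singularIdeal
    rw [Algebra.smoothLocus_eq_univ, Set.compl_univ, PrimeSpectrum.vanishingIdeal_empty,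
      Ideal.map_top, Ideal.radical_top]
  refine ⟨B', inferInstance, inferInstance, inferInstance, g, hAlg, ?_, ?_, ?_⟩
  · apply Algebra.TensorProduct.ext'
    intro x y
    obtain ⟨c, rfl⟩ := Ideal.Quotient.mk_surjective y
    show h (g (x ⊗ₜ Ideal.Quotient.mk _ c)) = _
    rw [Algebra.TensorProduct.lift_tmul, Algebra.TensorProduct.lift_tmul, map_mul, hg₀, hcomp]
    show h (algebraMap Rₚ B' x) * _ = algebraMap Rₚ _ x * _
    rw [hhRp]
    rfl
  · rw [htop]
    exact le_top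
  · rw [htop, hmaxq]
    intro hcon
    exact (maximalIdeal.isMaximal _).ne_top (top_le_iff.mp hcon)

end Groth.Agent.Lib.T2H8.InsepFinal
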