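import Mathlib

/-!
# Multipliers from a submonoid making annihilator conditions hold (helper for S6824)

Submonoid versions of `T2H8SmoothParams.exists_good_multiplier` / `exists_seq`:
given elements `a i` of a Noetherian ring such that `a k`-power torsion modulo the ideals
`(π_j^e : j < k)` is killed by elements of a submonoid `S`, one can replace `a i` by multiples
`π i = u i * a i`, `u i ∈ S`, such that `Ann(π_i) = Ann(π_i²)` modulo `(π_j^e : j < i)`.
-/

set_option autoImplicit false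
universe u

namespace Groth.Agent.Lib.T2H8.InsepSeq

variable {Λ : Type u} [CommRing Λ]

theorem exists_good_multiplier_S [IsNoetherianRing Λ] (S : Submonoid Λ) (J : Ideal Λ)
    (a' : Λ) (hL : ∀ x : Λ, (∃ m, a' ^ m * x ∈ J) → ∃ u ∈ S, u * x ∈ J) :
    ∃ s ∈ S, ∀ x : Λ, (s * a') ^ 2 * x ∈ J → (s * a') * x ∈ J := by
  classical
  let T : Ideal Λ :=
    { carrier := {x | ∃ m, a' ^ m * x ∈ J}
      add_mem' := by
        rintro x y ⟨m, hm⟩ ⟨m', hm'⟩
        refine ⟨m + m', ?_⟩
        have : a' ^ (m + m') * (x + y) = a' ^ m' * (a' ^ m * x) + a' ^ m * (a' ^ m' * y) := by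
          ring
        rw [this]
        exact Ideal.add_mem _ (Ideal.mul_mem_left _ _ hm) (Ideal.mul_mem_left _ _ hm')
      zero_mem' := ⟨0, by simp⟩
      smul_mem' := by
        rintro c x ⟨m, hm⟩
        refine ⟨m, ?_⟩
        rw [smul_eq_mul, mul_left_comm]
        exact Ideal.mul_mem_left _ _ hm }
  have hTmem : ∀ x, x ∈ T ↔ ∃ m, a' ^ m * x ∈ J := fun x => Iff.rfl
  obtain ⟨F, hF⟩ := (isNoetherianRing_iff_ideal_fg Λ).mp inferInstance T
  have hu : ∀ f : Λ, ∃ u : Λ, f ∈ T → u ∈ S ∧ u * f ∈ J := by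
    intro f
    by_cases hf : f ∈ T
    · obtain ⟨u, hu, huf⟩ := hL f hf
      exact ⟨u, fun _ => ⟨hu, huf⟩⟩
    · exact ⟨0, fun h => absurd h hf⟩
  choose u hu using hu
  have hFT : ∀ f ∈ F, f ∈ T := fun f hf => hF ▸ Ideal.subset_span hf
  set s0 : Λ := ∏ f ∈ F, u f with hs0
  have hs0q : s0 ∈ S := by
    rw [hs0]
    exact S.prod_mem (fun f hf => (hu f (hFT f hf)).1)
  have hs0T : ∀ x ∈ T, s0 * x ∈ J := by
    intro x hx
    rw [← hF] at hx
    induction hx using Submodule.span_induction with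
    | mem f hf =>
      have := (hu f (hFT f hf)).2
      rw [hs0, ← Finset.mul_prod_erase F u hf, mul_right_comm]
      exact Ideal.mul_mem_right _ _ this
    | zero => simp
    | add y z _ _ hy hz => rw [mul_add]; exact Ideal.add_mem _ hy hz
    | smul r y _ hy =>
      rw [smul_eq_mul, mul_left_comm]
      exact Ideal.mul_mem_left _ _ hy
  let Ann : ℕ →o Ideal Λ :=
    { toFun := fun k =>
        { carrier := {x | s0 ^ k * x ∈ J}
          add_mem' := by
            intro x y hx hy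
            change s0 ^ k * (x + y) ∈ J
            rw [mul_add]; exact Ideal.add_mem _ hx hy
          zero_mem' := by change s0 ^ k * 0 ∈ J; simp
          smul_mem' := by
            intro c x hx
            change s0 ^ k * (c • x) ∈ J
            rw [smul_eq_mul, mul_left_comm]
            exact Ideal.mul_mem_left _ _ hx }
      monotone' := by
        intro k k' hkk' x hx
        change s0 ^ k' * x ∈ J
        obtain ⟨m, rfl⟩ := Nat.exists_eq_add_of_le hkk'
        rw [pow_add, mul_right_comm, mul_comm]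
        exact Ideal.mul_mem_left _ _ hx }
  obtain ⟨k, hk⟩ := monotone_stabilizes_iff_noetherian.mpr (inferInstance : IsNoetherian Λ Λ) Ann
  have hAnn : ∀ (m : ℕ) (x : Λ), x ∈ Ann m ↔ s0 ^ m * x ∈ J := fun m x => Iff.rfl
  set s : Λ := s0 ^ (k + 1) with hs
  have hsq : s ∈ S := S.pow_mem hs0q _
  have hsT : ∀ x ∈ T, s * x ∈ J := by
    intro x hx
    rw [hs, pow_succ, mul_assoc]
    exact Ideal.mul_mem_left _ _ (hs0T x hx)
  have hs3 : ∀ x : Λ, s ^ 3 * x ∈ J → s * x ∈ J := by
    intro x hx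
    rw [hs, ← pow_mul, ← hAnn] at hx
    rw [hs, ← hAnn]
    have h1 : Ann k = Ann ((k + 1) * 3) := hk _ (by nlinarith)
    have h2 : Ann k = Ann (k + 1) := hk _ (by omega)
    rw [← h2, h1]
    exact hx
  refine ⟨s, hsq, ?_⟩
  intro x hx
  have h1 : s ^ 2 * x ∈ T := by
    refine ⟨2, ?_⟩
    convert hx using 1
    ring
  have h2 : s ^ 3 * x ∈ J := by
    have := hsT _ h1
    convert this using 1
    ring
  have h3 := hs3 x h2
  rw [mul_right_comm]
  exact Ideal.mul_mem_right _ _ h3

theorem exists_seq_S [IsNoetherianRing Λ] (S : Submonoid Λ) {d : ℕ} (a : Fin d → Λ) (e : ℕ)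
    (HL : ∀ (kk : Fin d) (π : Fin d → Λ), (∀ i, ∃ u ∈ S, π i = u * a i) → ∀ x : Λ,
      (∃ m, (a kk) ^ m * x ∈ Ideal.span ((fun j => π j ^ e) '' {j | j < kk})) →
      ∃ u ∈ S, u * x ∈ Ideal.span ((fun j => π j ^ e) '' {j | j < kk})) :
    ∀ k ≤ d, ∃ π : Fin d → Λ, (∀ i, ∃ u ∈ S, π i = u * a i) ∧
      (∀ i : Fin d, (i : ℕ) < k → ∀ x : Λ,
        π i ^ 2 * x ∈ Ideal.span ((fun j => π j ^ e) '' {j | j < i}) →
        π i * x ∈ Ideal.span ((fun j => π j ^ e) '' {j | j < i})) := by
  classical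
  intro k
  induction k with
  | zero =>
    intro _
    exact ⟨a, fun i => ⟨1, S.one_mem, by simp⟩, fun i hi => absurd hi (Nat.not_lt_zero _)⟩
  | succ k ih =>
    intro hk
    obtain ⟨π, hπa, hπann⟩ := ih (by omega)
    set kk : Fin d := ⟨k, by omega⟩ with hkk
    obtain ⟨s, hs, hsann⟩ := exists_good_multiplier_S S
      (Ideal.span ((fun j => π j ^ e) '' {j | j < kk})) (a kk) (HL kk π hπa)
    have hJ : ∀ i : Fin d, i ≤ kk →
        Ideal.span ((fun j => Function.update π kk (s * a kk) j ^ e) '' {j | j < i}) =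
          Ideal.span ((fun j => π j ^ e) '' {j | j < i}) := by
      intro i hi
      congr 1
      apply Set.image_congr
      intro j hj
      have : j ≠ kk := fun h => by
        rw [h] at hj
        exact absurd (lt_of_lt_of_le hj hi) (lt_irrefl _)
      simp [Function.update_of_ne this]
    refine ⟨Function.update π kk (s * a kk), ?_, ?_⟩
    · intro i
      by_cases hi : i = kk
      · subst hi
        exact ⟨s, hs, by simp⟩
      · rw [Function.update_of_ne hi]
        exact hπa i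
    · intro i hi x hx
      have hile : i ≤ kk := by
        rw [Fin.le_def]
        simp only [hkk]
        omega
      rw [hJ i hile] at hx ⊢
      by_cases hik : i = kk
      · subst hik
        rw [Function.update_self] at hx ⊢
        exact hsann x hx
      · rw [Function.update_of_ne hik] at hx ⊢
        apply hπann i _ x hx
        have : (i : ℕ) ≠ k := fun h => hik (Fin.ext h)
        omega

theorem span_range_subtype_eq {d : ℕ} (f : Fin d → Λ) (i : Fin d) :
    Ideal.span (Set.range fun j : {j : Fin d // (j : ℕ) < (i : ℕ)} => f j) =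
      Ideal.span (f '' {j | j < i}) := by
  congr 1
  ext r
  constructor
  · rintro ⟨⟨j, hj⟩, rfl⟩
    exact ⟨j, Fin.lt_def.mpr hj, rfl⟩
  · rintro ⟨j, hj, rfl⟩
    exact ⟨⟨j, Fin.lt_def.mp hj⟩, rfl⟩

theorem main_S [IsNoetherianRing Λ] (S : Submonoid Λ) {d : ℕ} (a : Fin d → Λ) (e : ℕ)
    (HL : ∀ (kk : Fin d) (π : Fin d → Λ), (∀ i, ∃ u ∈ S, π i = u * a i) → ∀ x : Λ,
      (∃ m, (a kk) ^ m * x ∈ Ideal.span ((fun j => π j ^ e) '' {j | j < kk})) →
      ∃ u ∈ S, u * x ∈ Ideal.span ((fun j => π j ^ e) '' {j | j < kk})) :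
    ∃ π : Fin d → Λ, (∀ i, ∃ u ∈ S, π i = u * a i) ∧
      ∀ i : Fin d, ∀ y : Λ,
        π i ^ 2 * y ∈ Ideal.span (Set.range fun j : {j : Fin d // (j : ℕ) < (i : ℕ)} => π j ^ e) →
        π i * y ∈ Ideal.span (Set.range fun j : {j : Fin d // (j : ℕ) < (i : ℕ)} => π j ^ e) := by
  obtain ⟨π, hπa, hπann⟩ := exists_seq_S S a e HL d le_rfl
  refine ⟨π, hπa, fun i y hy => ?_⟩
  rw [span_range_subtype_eq (fun j => π j ^ e) i] at hy ⊢
  exact hπann i i.2 y hy

end Groth.Agent.Lib.T2H8.InsepSeq
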