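import Mathlib
import Groth.Agent.Lib.T2H8InsepSeq
import Groth.Agent.Lib.T2H8SmoothParams

/-!
# Globalising local relations with control modulo a power of the maximal ideal (helper for S6824)

`Λ` Noetherian, `𝔮` prime with `Λ_𝔮` regular of dimension `d`, `a_i ∈ 𝔮` generating `𝔮Λ_𝔮`,
`b_j ∈ Λ` with `𝔪^N ≤ (b_j)Λ_𝔮`, and local coefficients `Dt i j ∈ Λ_𝔮` with
`a_i^N ≡ ∑ Dt i j b_j` modulo `𝔪^(N+n)`.  Then there are `u_i ∉ 𝔮` and global coefficients
`lam i j ∈ Λ` with `(u_i a_i)^N = ∑ lam i j b_j` in `Λ`, `lam i j ≡ u_i^N Dt i j` modulo `𝔪^n`, and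
the annihilator conditions `Ann(π_i) = Ann(π_i²)` modulo `(π_j^e : j < i)` for `π_i = u_i a_i`.
-/

set_option autoImplicit false
universe u

namespace Groth.Agent.Lib.T2H8.InsepLside

open IsLocalRing

variable {Λ : Type u} [CommRing Λ] (𝔮 : Ideal Λ) [𝔮.IsPrime]

/-- Step A+B for one index. -/
theorem exists_glob {r : ℕ} (b : Fin r → Λ) (N n : ℕ) (x : Λ)
    (Dt : Fin r → Localization.AtPrime 𝔮)
    (hD : algebraMap Λ (Localization.AtPrime 𝔮) x -
      ∑ j, Dt j * algebraMap Λ (Localization.AtPrime 𝔮) (b j) ∈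
        maximalIdeal (Localization.AtPrime 𝔮) ^ (N + n))
    (hpow : maximalIdeal (Localization.AtPrime 𝔮) ^ N ≤
      Ideal.span (Set.range fun j => algebraMap Λ (Localization.AtPrime 𝔮) (b j))) :
    ∃ (δ : Λ) (l : Fin r → Λ), δ ∉ 𝔮 ∧ δ * x = ∑ j, l j * b j ∧
      ∀ j, algebraMap Λ (Localization.AtPrime 𝔮) (l j) -
        algebraMap Λ (Localization.AtPrime 𝔮) δ * Dt j ∈
          maximalIdeal (Localization.AtPrime 𝔮) ^ n := by
  classical
  -- Step A
  have h1 : algebraMap Λ (Localization.AtPrime 𝔮) x - ∑ j, Dt j * algebraMap Λ (Localization.AtPrime 𝔮) (b j) ∈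
      maximalIdeal (Localization.AtPrime 𝔮) ^ n • Submodule.span (Localization.AtPrime 𝔮) (Set.range fun j => algebraMap Λ (Localization.AtPrime 𝔮) (b j)) := by
    have h2 : maximalIdeal (Localization.AtPrime 𝔮) ^ (N + n) ≤ maximalIdeal (Localization.AtPrime 𝔮) ^ n * Ideal.span (Set.range fun j => algebraMap Λ (Localization.AtPrime 𝔮) (b j)) := by
      rw [add_comm, pow_add]
      exact Ideal.mul_mono_right hpow
    exact h2 hD
  rw [Submodule.mem_ideal_smul_span_iff_exists_sum] at h1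
  obtain ⟨ε, hε, hsum⟩ := h1
  rw [Finsupp.sum_fintype _ _ (fun i => by simp)] at hsum
  let μ : Fin r → (Localization.AtPrime 𝔮) := fun j => Dt j + ε j
  have hμ : algebraMap Λ (Localization.AtPrime 𝔮) x = ∑ j, μ j * algebraMap Λ (Localization.AtPrime 𝔮) (b j) := by
    simp only [μ, add_mul, Finset.sum_add_distrib]
    simp only [smul_eq_mul] at hsum
    rw [hsum]
    ring
  -- Step B
  obtain ⟨s₁, hs₁⟩ := IsLocalization.exist_integer_multiples 𝔮.primeCompl
    (Finset.univ : Finset (Fin r)) μ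
  have hl' : ∀ j, ∃ l' : Λ, algebraMap Λ (Localization.AtPrime 𝔮) l' = algebraMap Λ (Localization.AtPrime 𝔮) s₁ * μ j := by
    intro j
    obtain ⟨l', hl'⟩ := hs₁ j (Finset.mem_univ j)
    exact ⟨l', by rw [hl', Algebra.smul_def]⟩
  choose l' hl' using hl'
  have h0 : algebraMap Λ (Localization.AtPrime 𝔮) ((s₁ : Λ) * x - ∑ j, l' j * b j) = 0 := by
    rw [map_sub, map_mul, map_sum, hμ, Finset.mul_sum, sub_eq_zero]
    refine Finset.sum_congr rfl fun j _ => ?_
    rw [map_mul, hl']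
    ring
  obtain ⟨s₂, hs₂⟩ := (IsLocalization.map_eq_zero_iff 𝔮.primeCompl (Localization.AtPrime 𝔮) _).mp h0
  refine ⟨s₂ * s₁, fun j => s₂ * l' j, (s₂ * s₁).2, ?_, ?_⟩
  · have : (s₂ : Λ) * ((s₁ : Λ) * x) = s₂ * ∑ j, l' j * b j := by
      linear_combination hs₂
    rw [mul_assoc, this, Finset.mul_sum]
    refine Finset.sum_congr rfl fun j _ => ?_
    ring
  · intro j
    have : algebraMap Λ (Localization.AtPrime 𝔮) ((s₂ : Λ) * l' j) - algebraMap Λ (Localization.AtPrime 𝔮) ((s₂ : Λ) * s₁) * Dt j =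
        algebraMap Λ (Localization.AtPrime 𝔮) ((s₂ : Λ) * s₁) * ε j := by
      rw [map_mul, map_mul, hl']
      simp only [μ]
      ring
    rw [this]
    exact Ideal.mul_mem_left _ _ (hε j)

theorem main [IsNoetherianRing Λ] [IsRegularLocalRing (Localization.AtPrime 𝔮)] {d : ℕ}
    (hd : ringKrullDim (Localization.AtPrime 𝔮) = d) (a : Fin d → Λ) (ha : ∀ i, a i ∈ 𝔮)
    (hspan : Ideal.span (Set.range fun i => algebraMap Λ (Localization.AtPrime 𝔮) (a i)) =
      maximalIdeal (Localization.AtPrime 𝔮))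
    {r : ℕ} (b : Fin r → Λ) (N n e : ℕ) (hN : 0 < N) (he : 0 < e)
    (Dt : Fin d → Fin r → Localization.AtPrime 𝔮)
    (hD : ∀ i, algebraMap Λ (Localization.AtPrime 𝔮) (a i) ^ N -
      ∑ j, Dt i j * algebraMap Λ (Localization.AtPrime 𝔮) (b j) ∈
        maximalIdeal (Localization.AtPrime 𝔮) ^ (N + n))
    (hpow : maximalIdeal (Localization.AtPrime 𝔮) ^ N ≤
      Ideal.span (Set.range fun j => algebraMap Λ (Localization.AtPrime 𝔮) (b j))) :
    ∃ (u : Fin d → Λ) (lam : Fin d → Fin r → Λ), (∀ i, u i ∉ 𝔮) ∧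
      (∀ i, (u i * a i) ^ N = ∑ j, lam i j * b j) ∧
      (∀ i j, algebraMap Λ (Localization.AtPrime 𝔮) (lam i j) -
        algebraMap Λ (Localization.AtPrime 𝔮) (u i) ^ N * Dt i j ∈
          maximalIdeal (Localization.AtPrime 𝔮) ^ n) ∧
      ∀ i : Fin d, ∀ y : Λ,
        (u i * a i) ^ 2 * y ∈ Ideal.span (Set.range
          fun j : {j : Fin d // (j : ℕ) < (i : ℕ)} => (u j * a j) ^ e) →
        (u i * a i) * y ∈ Ideal.span (Set.range
          fun j : {j : Fin d // (j : ℕ) < (i : ℕ)} => (u j * a j) ^ e) := by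
  classical
  have hg : ∀ i, ∃ (δ : Λ) (l : Fin r → Λ), δ ∉ 𝔮 ∧ δ * a i ^ N = ∑ j, l j * b j ∧
      ∀ j, algebraMap Λ (Localization.AtPrime 𝔮) (l j) - algebraMap Λ (Localization.AtPrime 𝔮) δ * Dt i j ∈ maximalIdeal (Localization.AtPrime 𝔮) ^ n := by
    intro i
    apply exists_glob 𝔮 b N n (a i ^ N) (Dt i) _ hpow
    rw [map_pow]
    exact hD i
  choose δ l hδ hl hlD using hg
  -- Step C
  let a' : Fin d → Λ := fun i => δ i * a i
  have ha' : ∀ i, a' i ∈ 𝔮 := fun i => Ideal.mul_mem_left _ _ (ha i)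
  have hspan' : Ideal.span (Set.range fun i => algebraMap Λ (Localization.AtPrime 𝔮) (a' i)) = maximalIdeal (Localization.AtPrime 𝔮) := by
    have h := Groth.Agent.Lib.T2H8.SmoothParams.span_image_unit_mul (Set.univ : Set (Fin d))
      (fun i => algebraMap Λ (Localization.AtPrime 𝔮) (a i)) (fun i => algebraMap Λ (Localization.AtPrime 𝔮) (δ i))
      (fun i => IsLocalization.map_units (Localization.AtPrime 𝔮) (⟨δ i, hδ i⟩ : 𝔮.primeCompl))
    rw [Set.image_univ, Set.image_univ] at h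
    rw [← hspan, ← h]
    congr 2
    funext i
    simp only [a', map_mul]
  obtain ⟨π, hπa, -, hπann⟩ := Groth.Agent.Lib.T2H8.SmoothParams.exists_seq 𝔮 hd ⊤ 1 e
    Nat.one_pos he (by rw [Ideal.map_top]; exact le_top) a' ha' hspan' d le_rfl
  choose v hv hπv using hπa
  refine ⟨fun i => v i * δ i, fun i j => (v i * δ i) ^ (N - 1) * v i * l i j, ?_, ?_, ?_, ?_⟩
  · intro i h
    rcases (inferInstance : 𝔮.IsPrime).mem_or_mem h with h | h
    · exact hv i h
    · exact hδ i h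
  · intro i
    obtain ⟨N', rfl⟩ : ∃ N', N = N' + 1 := ⟨N - 1, by omega⟩
    simp only [Nat.add_sub_cancel]
    have h1 : ∑ j, (v i * δ i) ^ N' * v i * l i j * b j =
        (v i * δ i) ^ N' * v i * ∑ j, l i j * b j := by
      rw [Finset.mul_sum]
      refine Finset.sum_congr rfl fun j _ => ?_
      ring
    rw [h1, ← hl i]
    ring
  · intro i j
    obtain ⟨N', rfl⟩ : ∃ N', N = N' + 1 := ⟨N - 1, by omega⟩
    simp only [Nat.add_sub_cancel]
    have h1 : algebraMap Λ (Localization.AtPrime 𝔮) ((v i * δ i) ^ N' * v i * l i j) -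
        algebraMap Λ (Localization.AtPrime 𝔮) (v i * δ i) ^ (N' + 1) * Dt i j =
        algebraMap Λ (Localization.AtPrime 𝔮) ((v i * δ i) ^ N' * v i) *
          (algebraMap Λ (Localization.AtPrime 𝔮) (l i j) - algebraMap Λ (Localization.AtPrime 𝔮) (δ i) * Dt i j) := by
      simp only [map_mul, map_pow]
      ring
    rw [h1]
    exact Ideal.mul_mem_left _ _ (hlD i j)
  · have hfun : π = fun i => v i * δ i * a i := by
      funext i
      rw [hπv i]
      simp only [a']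
      ring
    intro i y hy
    rw [InsepSeq.span_range_subtype_eq (fun j => (v j * δ j * a j) ^ e) i] at hy ⊢
    have := hπann i i.2 y
    rw [hfun] at this
    exact this hy

end Groth.Agent.Lib.T2H8.InsepLside
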