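import Mathlib
import Groth.Agent.Lib.T2H8InsepCoeff
import Groth.Agent.Lib.T2H8InsepSeq
import Groth.Agent.Lib.T2H8SmoothParams

/-!
# Annihilator conditions for `γ_i = P_i t_i` in `R₂[t_1..t_d]` (helper for S6824)

`R₂` Noetherian, `𝔭` a prime with `(R₂)_𝔭` regular local of dimension `d`, `P_1..P_d ∈ 𝔭`
generating the maximal ideal of `(R₂)_𝔭`.  After multiplying the `P_i` by elements outside `𝔭`,
the elements `γ_i = P_i t_i` of `R₂[t]` satisfy `Ann(γ_i) = Ann(γ_i²)` modulo
`(γ_1^e, …, γ_{i-1}^e)`.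
-/

set_option autoImplicit false
universe u

namespace Groth.Agent.Lib.T2H8.InsepRside

open MvPolynomial IsLocalRing

attribute [local instance] MvPolynomial.algebraMvPolynomial

variable {R₂ : Type u} [CommRing R₂] [IsNoetherianRing R₂] (𝔭 : Ideal R₂) [𝔭.IsPrime]

theorem HL [IsRegularLocalRing (Localization.AtPrime 𝔭)] {d : ℕ}
    (hd : ringKrullDim (Localization.AtPrime 𝔭) = d) (P : Fin d → R₂) (hP : ∀ i, P i ∈ 𝔭)
    (hspan : Ideal.span (Set.range fun i => algebraMap R₂ (Localization.AtPrime 𝔭) (P i)) =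
      maximalIdeal (Localization.AtPrime 𝔭))
    (e : ℕ) (he : 0 < e) (kk : Fin d) (π : Fin d → MvPolynomial (Fin d) R₂)
    (hπ : ∀ i, ∃ u ∈ 𝔭.primeCompl.map (C : R₂ →+* MvPolynomial (Fin d) R₂),
      π i = u * (C (P i) * X i))
    (x : MvPolynomial (Fin d) R₂)
    (hx : ∃ m, (C (P kk) * X kk) ^ m * x ∈ Ideal.span ((fun j => π j ^ e) '' {j | j < kk})) :
    ∃ u ∈ 𝔭.primeCompl.map (C : R₂ →+* MvPolynomial (Fin d) R₂),
      u * x ∈ Ideal.span ((fun j => π j ^ e) '' {j | j < kk}) := by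
  classical
  obtain ⟨m, hx⟩ := hx
  choose U hU hπU using hπ
  have hU' : ∀ i, ∃ u ∈ 𝔭.primeCompl, C u = U i := fun i => Submonoid.mem_map.mp (hU i)
  choose u hu hCu using hU'
  set O := Localization.AtPrime 𝔭 with hO
  set S : Submonoid (MvPolynomial (Fin d) R₂) :=
    𝔭.primeCompl.map (C : R₂ →+* MvPolynomial (Fin d) R₂) with hS
  let ι : MvPolynomial (Fin d) R₂ →+* MvPolynomial (Fin d) O := algebraMap _ _
  have hι : ∀ f, ι f = map (algebraMap R₂ O) f := fun f => rfl
  let v : Fin d → O := fun i => if i = kk then 1 else algebraMap R₂ O (u i)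
  have hv : ∀ i, IsUnit (v i) := by
    intro i
    by_cases hi : i = kk
    · simp [v, hi]
    · simp only [v, if_neg hi]
      exact IsLocalization.map_units O (⟨u i, hu i⟩ : 𝔭.primeCompl)
  let Q : Fin d → O := fun i => v i * algebraMap R₂ O (P i)
  set s : Set (Fin d) := {j | j < kk} with hs
  have hkk : kk ∉ s := lt_irrefl kk
  have hιπ : ∀ j ∈ s, ι (π j) = C (Q j) * X j := by
    intro j hj
    have hne : j ≠ kk := ne_of_lt hj
    rw [hπU, ← hCu, hι, map_mul, map_mul, map_C, map_C, map_X]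
    simp only [Q, v, if_neg hne, C_mul]
    ring
  have hιa : ι (C (P kk) * X kk) = C (Q kk) * X kk := by
    rw [hι, map_mul, map_C, map_X]
    simp [Q, v]
  have hJmap : (Ideal.span ((fun j => π j ^ e) '' s)).map ι = InsepCoeff.JJ Q e s := by
    rw [Ideal.map_span, ← Set.image_comp]
    unfold InsepCoeff.JJ
    congr 1
    apply Set.image_congr
    intro j hj
    simp only [Function.comp_apply]
    rw [map_pow, hιπ j hj]
  have h1 : (C (Q kk) * X kk) ^ m * ι x ∈ InsepCoeff.JJ Q e s := by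
    rw [← hJmap, ← hιa, ← map_pow, ← map_mul]
    exact Ideal.mem_map_of_mem ι hx
  -- regular system of parameters
  have hPm : ∀ i, algebraMap R₂ O (P i) ∈ maximalIdeal O := fun i =>
    (IsLocalization.AtPrime.to_map_mem_maximal_iff O 𝔭 (P i)).mpr (hP i)
  have hQm : ∀ i, Q i ∈ maximalIdeal O := fun i => Ideal.mul_mem_left _ _ (hPm i)
  let xq : Fin d → maximalIdeal O := fun i => ⟨Q i, hQm i⟩
  have hspanQ : Ideal.span (Set.range fun i => (xq i : O)) = maximalIdeal O := by
    have h := Groth.Agent.Lib.T2H8.SmoothParams.span_image_unit_mul (Set.univ : Set (Fin d))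
      (fun i => algebraMap R₂ O (P i)) v hv
    rw [Set.image_univ, Set.image_univ] at h
    show Ideal.span (Set.range fun i => v i * algebraMap R₂ O (P i)) = maximalIdeal O
    rw [h]
    exact hspan
  have hli := Groth.Agent.Lib.Helper5.linearIndependent_toCotangent_of_span_eq hd xq hspanQ
  have hreg : ∀ ν : Fin d →₀ ℕ, ∀ b : O, Q kk * b ∈ InsepCoeff.Jc Q e s ν →
      b ∈ InsepCoeff.Jc Q e s ν := by
    intro ν b hb
    let sf : Finset (Fin d) := Finset.univ.filter (fun l => l < kk ∧ e ≤ ν l)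
    have hsf : kk ∉ sf := by
      simp only [sf, Finset.mem_filter, Finset.mem_univ, true_and, not_and]
      intro h
      exact absurd h (lt_irrefl _)
    have hJ : Groth.Agent.Lib.T2H8.SmoothParams.J (fun j => (xq j : O)) sf (fun _ => e) =
        InsepCoeff.Jc Q e s ν := by
      unfold Groth.Agent.Lib.T2H8.SmoothParams.J InsepCoeff.Jc
      congr 2
      ext l
      simp [sf, s]
    rw [← hJ] at hb ⊢
    apply Groth.Agent.Lib.T2H8.SmoothParams.pow_regular xq hli (∑ j ∈ sf, e) sf (fun _ => e) kk hsf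
      (fun _ _ => he) le_rfl b
    rw [mul_comm]
    exact hb
  have h2 := InsepCoeff.pow_mul_mem_imp Q e s kk hkk hreg m (ι x) h1
  rw [← hJmap] at h2
  have h3 : algebraMap (MvPolynomial (Fin d) R₂) (MvPolynomial (Fin d) O) x ∈
      (Ideal.span ((fun j => π j ^ e) '' s)).map
        (algebraMap (MvPolynomial (Fin d) R₂) (MvPolynomial (Fin d) O)) := h2
  rw [IsLocalization.mem_map_algebraMap_iff S] at h3
  obtain ⟨⟨y, t⟩, hyt⟩ := h3
  rw [← map_mul] at hyt
  obtain ⟨c, hc⟩ := (IsLocalization.eq_iff_exists S _).mp hyt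
  refine ⟨c * t, S.mul_mem c.2 t.2, ?_⟩
  have h4 : ((c : MvPolynomial (Fin d) R₂) * t) * x = c * y := by
    linear_combination hc
  rw [h4]
  exact Ideal.mul_mem_left _ _ y.2

theorem main [IsRegularLocalRing (Localization.AtPrime 𝔭)] {d : ℕ}
    (hd : ringKrullDim (Localization.AtPrime 𝔭) = d) (P : Fin d → R₂) (hP : ∀ i, P i ∈ 𝔭)
    (hspan : Ideal.span (Set.range fun i => algebraMap R₂ (Localization.AtPrime 𝔭) (P i)) =
      maximalIdeal (Localization.AtPrime 𝔭))
    (e : ℕ) (he : 0 < e) :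
    ∃ u : Fin d → R₂, (∀ i, u i ∉ 𝔭) ∧
      ∀ i : Fin d, ∀ y : MvPolynomial (Fin d) R₂,
        (C (u i * P i) * X i) ^ 2 * y ∈ Ideal.span (Set.range
          fun j : {j : Fin d // (j : ℕ) < (i : ℕ)} => (C (u j * P j) * X (j : Fin d)) ^ e) →
        (C (u i * P i) * X i) * y ∈ Ideal.span (Set.range
          fun j : {j : Fin d // (j : ℕ) < (i : ℕ)} => (C (u j * P j) * X (j : Fin d)) ^ e) := by
  obtain ⟨π, hπa, hπann⟩ := InsepSeq.main_S
    (𝔭.primeCompl.map (C : R₂ →+* MvPolynomial (Fin d) R₂)) (fun i => C (P i) * X i) e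
    (fun kk π hπ x hx => HL 𝔭 hd P hP hspan e he kk π hπ x hx)
  choose U hU hπU using hπa
  have hU' : ∀ i, ∃ u ∈ 𝔭.primeCompl, C u = U i := fun i => Submonoid.mem_map.mp (hU i)
  choose u hu hCu using hU'
  refine ⟨u, hu, ?_⟩
  have hπ : ∀ i, C (u i * P i) * X i = π i := by
    intro i
    rw [hπU, ← hCu, C_mul]
    ring
  simp only [hπ]
  exact hπann

end Groth.Agent.Lib.T2H8.InsepRside
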