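import Mathlib
import Groth.Agent.Lib.Helper6FSLoc4
import Groth.Agent.Lib.T2H8SepB
import Groth.Agent.Lib.T2H8SmoothParams
import Groth.Agent.Lib.T2H8GeomRegFlat
import Groth.Agent.Lib.T2H8InsepCoeff
import Groth.Agent.Lib.T2H8InsepRside
import Groth.Agent.Lib.T2H8InsepLside
import Groth.Agent.Lib.T2H8InsepC
import Groth.Agent.Lib.T2H8InsepACL
import Groth.Agent.Lib.T2H8InsepFinal
import Groth.Agent.Lib.T2H8InsepD

/-!
# S6824: resolution at a prime with inseparable residue field (geometrically regular case)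
-/

set_option autoImplicit false
universe u

namespace Groth.Agent.Lib.T2H8.InsepMain

open MvPolynomial IsLocalRing TensorProduct

theorem main {k A Λ : Type u} [Field k] (p : ℕ) [Fact p.Prime] [CharP k p] [CommRing A]
    [Algebra k A] [Algebra.FinitePresentation k A] [CommRing Λ] [Algebra k Λ] [IsNoetherianRing Λ]
    (hreg : CAlg.IsGeometricallyRegular k Λ) (φ : A →ₐ[k] Λ) (𝔮 : Ideal Λ) [𝔮.IsPrime]
    (hmin : 𝔮 ∈ (Smoothing.singRad k φ).minimalPrimes) : Smoothing.Resolvable k φ 𝔮 := by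
  classical
  have hLq : CAlg.IsGeometricallyRegular k (Localization.AtPrime 𝔮) :=
    Groth.Agent.Lib.Helper6.FSLoc4.isGeometricallyRegular_localization 𝔮.primeCompl hreg
  haveI hregLq : IsRegularLocalRing (Localization.AtPrime 𝔮) :=
    Groth.Agent.Lib.T2H8.GeomRegFlat.isRegularLocalRing_of_geomReg k (Localization.AtPrime 𝔮) hLq
  obtain ⟨d, hd⟩ : ∃ d : ℕ, ringKrullDim (Localization.AtPrime 𝔮) = d :=
    ⟨_, (IsRegularLocalRing.spanFinrank_maximalIdeal).symm⟩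
  -- generators of the singular ideal
  haveI : IsNoetherianRing A := Algebra.FiniteType.isNoetherianRing k A
  obtain ⟨r, a, ha⟩ := Submodule.fg_iff_exists_fin_generating_family.mp
    ((isNoetherianRing_iff_ideal_fg A).mp inferInstance (Smoothing.singularIdeal k A))
  have ha_span : Ideal.span (Set.range a) = Smoothing.singularIdeal k A := ha
  have ha_mem : ∀ j, a j ∈ Smoothing.singularIdeal k A := fun j => by
    rw [← ha_span]
    exact Ideal.subset_span ⟨j, rfl⟩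
  have hminI : 𝔮 ∈ ((Smoothing.singularIdeal k A).map φ).minimalPrimes := by
    rw [← Ideal.radical_minimalPrimes]
    exact hmin
  obtain ⟨N, hN, hpow0⟩ := Groth.Agent.Lib.T2H8.SepB.exists_pow_map_le _ 𝔮 hminI
  have hpow : maximalIdeal (Localization.AtPrime 𝔮) ^ N ≤
      Ideal.span (Set.range fun j => algebraMap Λ (Localization.AtPrime 𝔮) (φ (a j))) := by
    have h1 : ((Smoothing.singularIdeal k A).map φ).map (algebraMap Λ (Localization.AtPrime 𝔮)) =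
        Ideal.span (Set.range fun j => algebraMap Λ (Localization.AtPrime 𝔮) (φ (a j))) := by
      rw [← ha_span, Ideal.map_span, Ideal.map_span, ← Set.range_comp, ← Set.range_comp]
      rfl
    rw [← h1, ← Localization.AtPrime.map_eq_maximalIdeal (I := 𝔮), ← Ideal.map_pow]
    exact hpow0
  -- the algebra `C`
  obtain ⟨Cel, _, _, gA, hgAk, hCfp, ⟨c, hc, hstd⟩, hgAH, Ψ, hΨ1, hΨnat⟩ :=
    Groth.Agent.Lib.T2H8.InsepC.exists_C' d r N a ha_mem
  haveI := hCfp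
  obtain ⟨e, he_def⟩ : ∃ e : ℕ, e = c * 8 := ⟨_, rfl⟩
  have he : 0 < e := by omega
  obtain ⟨n, hn_def⟩ : ∃ n : ℕ, n = d * e + 1 := ⟨_, rfl⟩
  -- the Artinian subalgebra
  obtain ⟨sA, hsA⟩ := (Algebra.FiniteType.out : (⊤ : Subalgebra k A).FG)
  obtain ⟨R₂, _, _, hR₂reg, hR₂fp, hR₂fs, φ₂, hdimA₀, hmapeq, R₀, _, _, hUP, hepi, D, algR₀D,
    hetale, hff, hcompat, hED⟩ :=
    Groth.Agent.Lib.T2H8.InsepD.dpack 𝔮 p hLq hd (N + n) (by omega) (sA.image φ)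
  haveI := hR₂reg
  haveI := hR₂fp
  haveI := hR₂fs
  haveI := hetale
  haveI := hff
  -- the map `A → D`
  let ιA : Λ →ₐ[k] (Localization.AtPrime 𝔮 ⧸ maximalIdeal (Localization.AtPrime 𝔮) ^ (N + n)) :=
    (Ideal.Quotient.mkₐ k _).comp (IsScalarTower.toAlgHom k Λ (Localization.AtPrime 𝔮))
  have hιA : ∀ x, ιA x = Ideal.Quotient.mk _ (algebraMap Λ (Localization.AtPrime 𝔮) x) := fun x => rfl
  have huAmem : ∀ x : A, (ιA.comp φ) x ∈ D := by
    have h1 : (⊤ : Subalgebra k A) ≤ D.comap (ιA.comp φ) := by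
      rw [← hsA]
      apply Algebra.adjoin_le
      intro x hx
      exact hED _ (Finset.mem_image_of_mem φ hx)
    exact fun x => h1 Algebra.mem_top
  let uA : A →ₐ[k] D := (ιA.comp φ).codRestrict D huAmem
  have huA : ∀ x, ((uA x : D) : (Localization.AtPrime 𝔮 ⧸ maximalIdeal (Localization.AtPrime 𝔮) ^ (N + n))) = Ideal.Quotient.mk _ (algebraMap Λ (Localization.AtPrime 𝔮) (φ x)) := fun x => rfl
  -- parameters on the `R₂` side
  haveI : IsRegularLocalRing (Localization.AtPrime (𝔮.comap φ₂)) := inferInstance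
  obtain ⟨P, hP𝔭, hPspan⟩ := Groth.Agent.Lib.T2H8.SmoothParams.exists_params (𝔮.comap φ₂) hdimA₀
  obtain ⟨u₂, hu₂, hRann⟩ :=
    Groth.Agent.Lib.T2H8.InsepRside.main (𝔮.comap φ₂) hdimA₀ P hP𝔭 hPspan e he
  -- the local homomorphism `A₀ → Λ_𝔮`
  let g : Localization.AtPrime (𝔮.comap φ₂) →+* Localization.AtPrime 𝔮 := Localization.localRingHom (𝔮.comap φ₂) 𝔮 φ₂.toRingHom rfl
  have hg : ∀ y, g (algebraMap R₂ (Localization.AtPrime (𝔮.comap φ₂)) y) = algebraMap Λ (Localization.AtPrime 𝔮) (φ₂ y) := fun y =>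
    Localization.localRingHom_to_map (𝔮.comap φ₂) 𝔮 φ₂.toRingHom rfl y
  have hmapeq' : (𝔮.comap φ₂).map ((algebraMap Λ (Localization.AtPrime 𝔮)).comp φ₂.toRingHom) = maximalIdeal (Localization.AtPrime 𝔮) := by
    rw [← hmapeq]
    exact (Ideal.map_map φ₂.toRingHom (algebraMap Λ (Localization.AtPrime 𝔮))).symm
  have hmapg : (maximalIdeal (Localization.AtPrime (𝔮.comap φ₂))).map g = maximalIdeal (Localization.AtPrime 𝔮) := by
    rw [← Localization.AtPrime.map_eq_maximalIdeal (I := 𝔮.comap φ₂), Ideal.map_map, ← hmapeq']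
    congr 1
    exact RingHom.ext hg
  have hu₂unit : ∀ i, IsUnit (algebraMap R₂ (Localization.AtPrime (𝔮.comap φ₂)) (u₂ i)) := fun i =>
    IsLocalization.map_units (Localization.AtPrime (𝔮.comap φ₂)) (⟨u₂ i, hu₂ i⟩ : (𝔮.comap φ₂).primeCompl)
  have hPspan' : Ideal.span (Set.range fun i => algebraMap R₂ (Localization.AtPrime (𝔮.comap φ₂)) (u₂ i * P i)) =
      maximalIdeal (Localization.AtPrime (𝔮.comap φ₂)) := by
    have h := Groth.Agent.Lib.T2H8.SmoothParams.span_image_unit_mul (Set.univ : Set (Fin d))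
      (fun i => algebraMap R₂ (Localization.AtPrime (𝔮.comap φ₂)) (P i)) (fun i => algebraMap R₂ (Localization.AtPrime (𝔮.comap φ₂)) (u₂ i)) hu₂unit
    rw [Set.image_univ, Set.image_univ] at h
    rw [← hPspan, ← h]
    congr 2
    funext i
    rw [map_mul]
  -- parameters on the `Λ` side
  let aΛ : Fin d → Λ := fun i => φ₂ (u₂ i * P i)
  have haΛ𝔮 : ∀ i, aΛ i ∈ 𝔮 := fun i => by
    have h1 : u₂ i * P i ∈ 𝔮.comap φ₂ := Ideal.mul_mem_left _ _ (hP𝔭 i)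
    exact h1
  have haΛspan : Ideal.span (Set.range fun i => algebraMap Λ (Localization.AtPrime 𝔮) (aΛ i)) = maximalIdeal (Localization.AtPrime 𝔮) := by
    rw [← hmapg, ← hPspan', Ideal.map_span, ← Set.range_comp]
    congr 2
    funext i
    exact (hg _).symm
  -- the coefficients `d_ij`
  have hDval : ∀ z : D, algebraMap D (Localization.AtPrime 𝔮 ⧸ maximalIdeal (Localization.AtPrime 𝔮) ^ (N + n)) z = (z : (Localization.AtPrime 𝔮 ⧸ maximalIdeal (Localization.AtPrime 𝔮) ^ (N + n))) := fun z => rfl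
  have hchi : ∀ i : Fin d, ∃ dd : Fin r → D,
      (algebraMap R₀ D (algebraMap R₂ R₀ (u₂ i * P i))) ^ N = ∑ j, dd j * uA (a j) := by
    intro i
    have hmemL : (algebraMap D (Localization.AtPrime 𝔮 ⧸ maximalIdeal (Localization.AtPrime 𝔮) ^ (N + n))) ((algebraMap R₀ D (algebraMap R₂ R₀ (u₂ i * P i))) ^ N) ∈
        (Ideal.span (Set.range fun j => uA (a j))).map (algebraMap D (Localization.AtPrime 𝔮 ⧸ maximalIdeal (Localization.AtPrime 𝔮) ^ (N + n))) := by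
      have h0 : algebraMap D (Localization.AtPrime 𝔮 ⧸ maximalIdeal (Localization.AtPrime 𝔮) ^ (N + n)) (algebraMap R₀ D (algebraMap R₂ R₀ (u₂ i * P i))) =
          Ideal.Quotient.mk _ (algebraMap Λ (Localization.AtPrime 𝔮) (aΛ i)) := hcompat _
      rw [map_pow, h0, ← map_pow, Ideal.map_span, ← Set.range_comp]
      have h1 : algebraMap Λ (Localization.AtPrime 𝔮) (aΛ i) ^ N ∈
          Ideal.span (Set.range fun j => algebraMap Λ (Localization.AtPrime 𝔮) (φ (a j))) := by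
        apply hpow
        apply Ideal.pow_mem_pow
        rw [← haΛspan]
        exact Ideal.subset_span ⟨i, rfl⟩
      have h2 := Ideal.mem_map_of_mem (Ideal.Quotient.mk (maximalIdeal (Localization.AtPrime 𝔮) ^ (N + n))) h1
      rw [Ideal.map_span, ← Set.range_comp] at h2
      exact h2
    have h3 : (algebraMap R₀ D (algebraMap R₂ R₀ (u₂ i * P i))) ^ N ∈
        Ideal.span (Set.range fun j => uA (a j)) := by
      rw [← Ideal.comap_map_eq_self_of_faithfullyFlat (B := (Localization.AtPrime 𝔮 ⧸ maximalIdeal (Localization.AtPrime 𝔮) ^ (N + n)))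
        (Ideal.span (Set.range fun j => uA (a j)))]
      exact hmemL
    obtain ⟨dd, hdd⟩ := Ideal.mem_span_range_iff_exists_fun.mp h3
    exact ⟨dd, hdd.symm⟩
  choose dd hdd using hchi
  have hDtex : ∀ i j, ∃ z : Localization.AtPrime 𝔮, Ideal.Quotient.mk (maximalIdeal (Localization.AtPrime 𝔮) ^ (N + n)) z =
      ((dd i j : D) : (Localization.AtPrime 𝔮 ⧸ maximalIdeal (Localization.AtPrime 𝔮) ^ (N + n))) := fun i j => Ideal.Quotient.mk_surjective _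
  choose Dt hDt using hDtex
  have hDLq : ∀ i, algebraMap Λ (Localization.AtPrime 𝔮) (aΛ i) ^ N -
      ∑ j, Dt i j * algebraMap Λ (Localization.AtPrime 𝔮) (φ (a j)) ∈ maximalIdeal (Localization.AtPrime 𝔮) ^ (N + n) := by
    intro i
    rw [← Ideal.Quotient.eq_zero_iff_mem, map_sub, map_pow, map_sum, sub_eq_zero]
    have h1 := congrArg (algebraMap D (Localization.AtPrime 𝔮 ⧸ maximalIdeal (Localization.AtPrime 𝔮) ^ (N + n))) (hdd i)
    rw [map_pow, map_sum] at h1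
    have h0 : algebraMap D (Localization.AtPrime 𝔮 ⧸ maximalIdeal (Localization.AtPrime 𝔮) ^ (N + n)) (algebraMap R₀ D (algebraMap R₂ R₀ (u₂ i * P i))) =
        Ideal.Quotient.mk _ (algebraMap Λ (Localization.AtPrime 𝔮) (aΛ i)) := hcompat _
    rw [h0] at h1
    rw [h1]
    refine Finset.sum_congr rfl fun j _ => ?_
    rw [map_mul, map_mul, hDt, hDval]
    rfl
  obtain ⟨u, lamΛ, hu, hpowΛ, hcong, hΛann⟩ :=
    Groth.Agent.Lib.T2H8.InsepLside.main 𝔮 hd aΛ haΛ𝔮 haΛspan (fun j => φ (a j)) N n e hN he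
      Dt hDLq hpow
  -- the ring `R = R₂[t_1..t_d]`
  haveI hRfs : Algebra.FormallySmooth k (MvPolynomial (Fin d) R₂) :=
    Algebra.FormallySmooth.comp k R₂ _
  let ΦR : MvPolynomial (Fin d) R₂ →ₐ[k] Λ := aevalTower φ₂ u
  have hΦRC : ∀ f : R₂, ΦR (C f) = φ₂ f := fun f => aevalTower_C _ _ f
  have hΦRX : ∀ i, ΦR (X i) = u i := fun i => aevalTower_X _ _ i
  let γ : Fin d → MvPolynomial (Fin d) R₂ := fun i => C (u₂ i * P i) * X i
  have hΦRγ : ∀ i, ΦR (γ i) = u i * aΛ i := fun i => by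
    show ΦR (C (u₂ i * P i) * X i) = _
    rw [map_mul, hΦRC, hΦRX, mul_comm]
  let ζ : MvPolynomial (Fin d) k →ₐ[k] MvPolynomial (Fin d) R₂ := aeval γ
  letI algkxR : Algebra (MvPolynomial (Fin d) k) (MvPolynomial (Fin d) R₂) := ζ.toRingHom.toAlgebra
  haveI towerkkxR : IsScalarTower k (MvPolynomial (Fin d) k) (MvPolynomial (Fin d) R₂) :=
    IsScalarTower.of_algebraMap_eq (fun x => (ζ.commutes x).symm)
  have hXR : ∀ i, algebraMap (MvPolynomial (Fin d) k) (MvPolynomial (Fin d) R₂) (X i) = γ i :=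
    fun i => aeval_X γ i
  letI algRΛ : Algebra (MvPolynomial (Fin d) R₂) Λ := ΦR.toRingHom.toAlgebra
  haveI towerkRΛ : IsScalarTower k (MvPolynomial (Fin d) R₂) Λ :=
    IsScalarTower.of_algebraMap_eq (fun x => (ΦR.commutes x).symm)
  have hRΛ : ∀ f, algebraMap (MvPolynomial (Fin d) R₂) Λ f = ΦR f := fun f => rfl
  letI algkxΛ : Algebra (MvPolynomial (Fin d) k) Λ :=
    ((algebraMap (MvPolynomial (Fin d) R₂) Λ).comp
      (algebraMap (MvPolynomial (Fin d) k) (MvPolynomial (Fin d) R₂))).toAlgebra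
  haveI towerkxRΛ : IsScalarTower (MvPolynomial (Fin d) k) (MvPolynomial (Fin d) R₂) Λ :=
    IsScalarTower.of_algebraMap_eq (fun x => rfl)
  haveI towerkkxΛ : IsScalarTower k (MvPolynomial (Fin d) k) Λ := by
    refine IsScalarTower.of_algebraMap_eq (R := k) (S := MvPolynomial (Fin d) k) (A := Λ)
      (fun x => ?_)
    rw [IsScalarTower.algebraMap_apply (MvPolynomial (Fin d) k) (MvPolynomial (Fin d) R₂) Λ,
      ← IsScalarTower.algebraMap_apply k (MvPolynomial (Fin d) k) (MvPolynomial (Fin d) R₂),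
      ← IsScalarTower.algebraMap_apply k (MvPolynomial (Fin d) R₂) Λ]
  have hXΛ : ∀ i, algebraMap (MvPolynomial (Fin d) k) Λ (X i) = u i * aΛ i := fun i => by
    rw [IsScalarTower.algebraMap_apply (MvPolynomial (Fin d) k) (MvPolynomial (Fin d) R₂) Λ,
      hXR, hRΛ, hΦRγ]
  -- the map `ψ : C → Λ`
  have hΛrel : ∀ i, algebraMap (MvPolynomial (Fin d) k) Λ (X i) ^ N = ∑ j, lamΛ i j * φ (a j) :=
    fun i => by rw [hXΛ]; exact hpowΛ i
  obtain ⟨ψ, hψdef⟩ : ∃ ψ : Cel →ₐ[MvPolynomial (Fin d) k] Λ, ψ = Ψ Λ φ lamΛ hΛrel := ⟨_, rfl⟩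
  have hψgA : ∀ x, ψ (gA x) = φ x := fun x => by rw [hψdef]; exact hΨ1 Λ φ lamΛ hΛrel x
  -- the ideal `K`
  obtain ⟨K, hK⟩ : ∃ K : Ideal (MvPolynomial (Fin d) R₂), K = Ideal.span (Set.range fun i : Fin d =>
      (algebraMap (MvPolynomial (Fin d) k) (MvPolynomial (Fin d) R₂) (X i) ^ c) ^ 8) := ⟨_, rfl⟩
  refine Groth.Agent.Lib.T2H8.InsepACL.acl φ 𝔮 a ha_span gA hgAk c hc hstd hgAH
    (R := MvPolynomial (Fin d) R₂) ψ hψgA ?_ ?_ ?_ K hK ?_
  · intro i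
    rw [hXΛ]
    exact Ideal.mul_mem_left _ _ (haΛ𝔮 i)
  · intro i y hy
    simp only [hXR] at hy ⊢
    rw [← he_def] at hy ⊢
    exact hRann i y hy
  · intro i y hy
    simp only [hXΛ] at hy ⊢
    rw [← he_def] at hy ⊢
    exact hΛann i y hy
  -- the reduced problem
  obtain ⟨ψR, hψR⟩ : ∃ ψR : (MvPolynomial (Fin d) R₂) ⊗[MvPolynomial (Fin d) k] Cel →ₐ[MvPolynomial (Fin d) R₂] Λ,
      ψR = Algebra.TensorProduct.lift (Algebra.ofId (MvPolynomial (Fin d) R₂) Λ) ψ (fun _ _ => Commute.all _ _) :=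
    ⟨_, rfl⟩
  rw [← hψR]
  have hψRt : ∀ (s : MvPolynomial (Fin d) R₂) (x : Cel), ψR (s ⊗ₜ x) = algebraMap (MvPolynomial (Fin d) R₂) Λ s * ψ x := by
    intro s x
    rw [hψR, Algebra.TensorProduct.lift_tmul]
    rfl
  have hγK : ∀ i, (γ i ^ c) ^ 8 ∈ K := fun i => by
    rw [hK]
    simp only [hXR]
    exact Ideal.subset_span ⟨i, rfl⟩
  have hK𝔮 : K.map (algebraMap (MvPolynomial (Fin d) R₂) Λ) ≤ 𝔮 := by
    rw [hK, Ideal.map_span, Ideal.span_le]
    rintro _ ⟨_, ⟨i, rfl⟩, rfl⟩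
    simp only [hXR]
    show algebraMap (MvPolynomial (Fin d) R₂) Λ ((γ i ^ c) ^ 8) ∈ 𝔮
    rw [map_pow, map_pow, hRΛ, hΦRγ]
    exact Ideal.pow_mem_of_mem _ (Ideal.pow_mem_of_mem _ (Ideal.mul_mem_left _ _ (haΛ𝔮 i)) c hc)
      8 (by norm_num)
  haveI h𝔮b : (𝔮.map (Ideal.Quotient.mk (K.map (algebraMap (MvPolynomial (Fin d) R₂) Λ)))).IsPrime :=
    Ideal.map_isPrime_of_surjective Ideal.Quotient.mk_surjective (by rw [Ideal.mk_ker]; exact hK𝔮)
  have huunit : ∀ i, IsUnit (algebraMap Λ (Localization.AtPrime 𝔮) (u i)) := fun i =>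
    IsLocalization.map_units (Localization.AtPrime 𝔮) (⟨u i, hu i⟩ : 𝔮.primeCompl)
  have hxspan : Ideal.span (Set.range fun i => algebraMap Λ (Localization.AtPrime 𝔮) (u i * aΛ i)) =
      maximalIdeal (Localization.AtPrime 𝔮) := by
    have h := Groth.Agent.Lib.T2H8.SmoothParams.span_image_unit_mul (Set.univ : Set (Fin d))
      (fun i => algebraMap Λ (Localization.AtPrime 𝔮) (aΛ i)) (fun i => algebraMap Λ (Localization.AtPrime 𝔮) (u i)) huunit
    rw [Set.image_univ, Set.image_univ] at h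
    rw [← haΛspan, ← h]
    congr 2
    funext i
    rw [map_mul]
  have hRLq : ∀ f : MvPolynomial (Fin d) R₂, algebraMap (MvPolynomial (Fin d) R₂) (Localization.AtPrime 𝔮) f = algebraMap Λ (Localization.AtPrime 𝔮) (ΦR f) := fun f =>
    IsScalarTower.algebraMap_apply (MvPolynomial (Fin d) R₂) Λ (Localization.AtPrime 𝔮) f
  have hm : maximalIdeal (Localization.AtPrime 𝔮) ^ n ≤ K.map (algebraMap (MvPolynomial (Fin d) R₂) (Localization.AtPrime 𝔮)) := by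
    rw [hn_def, ← hxspan]
    refine (Groth.Agent.Lib.T2H8.InsepCoeff.span_pow_le _ e).trans ?_
    rw [Ideal.span_le]
    rintro _ ⟨i, rfl⟩
    have h1 : algebraMap Λ (Localization.AtPrime 𝔮) (u i * aΛ i) ^ e = algebraMap (MvPolynomial (Fin d) R₂) (Localization.AtPrime 𝔮) ((γ i ^ c) ^ 8) := by
      have h0 : ΦR ((γ i ^ c) ^ 8) = (u i * aΛ i) ^ e := by
        rw [map_pow, map_pow, hΦRγ, he_def, pow_mul]
      rw [hRLq, h0, map_pow]
    show algebraMap Λ (Localization.AtPrime 𝔮) (u i * aΛ i) ^ e ∈ _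
    rw [h1]
    exact Ideal.mem_map_of_mem _ (hγK i)
  -- the localization `Rₚ`
  obtain ⟨Rₚ, _, _, hRₚloc⟩ : ∃ (Rₚ : Type u) (_ : CommRing Rₚ) (_ : Algebra ((MvPolynomial (Fin d) R₂) ⧸ K) Rₚ),
      IsLocalization.AtPrime Rₚ ((𝔮.map (Ideal.Quotient.mk (K.map (algebraMap (MvPolynomial (Fin d) R₂) Λ)))).comap
        (algebraMap ((MvPolynomial (Fin d) R₂) ⧸ K) (Λ ⧸ K.map (algebraMap (MvPolynomial (Fin d) R₂) Λ)))) :=
    ⟨Localization.AtPrime ((𝔮.map (Ideal.Quotient.mk (K.map (algebraMap (MvPolynomial (Fin d) R₂) Λ)))).comap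
        (algebraMap ((MvPolynomial (Fin d) R₂) ⧸ K) (Λ ⧸ K.map (algebraMap (MvPolynomial (Fin d) R₂) Λ)))), inferInstance, inferInstance,
      inferInstance⟩
  haveI := hRₚloc
  let ν : (MvPolynomial (Fin d) R₂) →+* Rₚ := (algebraMap ((MvPolynomial (Fin d) R₂) ⧸ K) Rₚ).comp (Ideal.Quotient.mk K)
  have hνunit : ∀ f : MvPolynomial (Fin d) R₂, ΦR f ∉ 𝔮 → IsUnit (ν f) := by
    intro f hf
    have h1 : Ideal.Quotient.mk K f ∈ ((𝔮.map (Ideal.Quotient.mk (K.map (algebraMap (MvPolynomial (Fin d) R₂) Λ)))).comap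
        (algebraMap ((MvPolynomial (Fin d) R₂) ⧸ K) (Λ ⧸ K.map (algebraMap (MvPolynomial (Fin d) R₂) Λ)))).primeCompl := by
      intro h2
      have h3 : Ideal.Quotient.mk (K.map (algebraMap (MvPolynomial (Fin d) R₂) Λ)) (ΦR f) ∈
          𝔮.map (Ideal.Quotient.mk (K.map (algebraMap (MvPolynomial (Fin d) R₂) Λ))) := h2
      rw [Ideal.mem_quotient_iff_mem hK𝔮] at h3
      exact hf h3
    exact IsLocalization.map_units Rₚ ⟨_, h1⟩
  have hνK : ∀ κ ∈ K, ν κ = 0 := by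
    intro κ hκ
    show algebraMap ((MvPolynomial (Fin d) R₂) ⧸ K) Rₚ (Ideal.Quotient.mk K κ) = 0
    rw [Ideal.Quotient.eq_zero_iff_mem.mpr hκ, map_zero]
  let χ : R₂ →+* Rₚ := ν.comp (C : R₂ →+* MvPolynomial (Fin d) R₂)
  have hχ : ∀ f, χ f = ν (C f) := fun f => rfl
  have hχunit : ∀ s, s ∉ 𝔮.comap φ₂ → IsUnit (χ s) := by
    intro s hs
    apply hνunit
    rw [hΦRC]
    exact hs
  have hνX : ∀ i, IsUnit (ν (X i)) := fun i => hνunit _ (by rw [hΦRX]; exact hu i)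
  have hχP : ∀ i, χ (u₂ i * P i) ^ e = 0 := by
    intro i
    have h1 : ν (γ i) ^ e = 0 := by
      rw [← map_pow, he_def, pow_mul]
      exact hνK _ (hγK i)
    have h2 : ν (γ i) = χ (u₂ i * P i) * ν (X i) := by
      show ν (C (u₂ i * P i) * X i) = _
      exact map_mul ν _ _
    rw [h2, mul_pow] at h1
    exact ((hνX i).pow e).mul_left_eq_zero.mp h1
  have hχvan : ∀ x ∈ (𝔮.comap φ₂) ^ (N + n), χ x = 0 := by
    let χ₁ : Localization.AtPrime (𝔮.comap φ₂) →+* Rₚ := IsLocalization.lift (M := (𝔮.comap φ₂).primeCompl) (g := χ)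
      (fun s => hχunit s.1 s.2)
    have hχ₁ : ∀ f, χ₁ (algebraMap R₂ (Localization.AtPrime (𝔮.comap φ₂)) f) = χ f := fun f => IsLocalization.lift_eq _ f
    have hle1 : maximalIdeal (Localization.AtPrime (𝔮.comap φ₂)) ^ (N + n) ≤ RingHom.ker χ₁ := by
      refine (Ideal.pow_le_pow_right (Nat.le_add_left n N)).trans ?_
      rw [hn_def, ← hPspan']
      refine (Groth.Agent.Lib.T2H8.InsepCoeff.span_pow_le _ e).trans ?_
      rw [Ideal.span_le]
      rintro _ ⟨i, rfl⟩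
      show algebraMap R₂ (Localization.AtPrime (𝔮.comap φ₂)) (u₂ i * P i) ^ e ∈ RingHom.ker χ₁
      rw [RingHom.mem_ker, map_pow, hχ₁, hχP]
    intro x hx
    rw [← hχ₁]
    apply hle1
    rw [← Localization.AtPrime.map_eq_maximalIdeal (I := 𝔮.comap φ₂), ← Ideal.map_pow]
    exact Ideal.mem_map_of_mem _ hx
  obtain ⟨ρ₀, hρ₀⟩ := hUP Rₚ χ hχunit hχvan
  letI algR₀Rₚ : Algebra R₀ Rₚ := ρ₀.toAlgebra
  have hR₀Rₚ : ∀ f : R₂, algebraMap R₀ Rₚ (algebraMap R₂ R₀ f) = χ f := hρ₀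
  -- the map `Rₚ → Λ_𝔮/KΛ_𝔮`
  have hunitτ : ∀ y : ((𝔮.map (Ideal.Quotient.mk (K.map (algebraMap (MvPolynomial (Fin d) R₂) Λ)))).comap (algebraMap ((MvPolynomial (Fin d) R₂) ⧸ K) (Λ ⧸ K.map (algebraMap (MvPolynomial (Fin d) R₂) Λ)))).primeCompl, IsUnit (algebraMap ((MvPolynomial (Fin d) R₂) ⧸ K) (Localization.AtPrime 𝔮 ⧸ K.map (algebraMap (MvPolynomial (Fin d) R₂) (Localization.AtPrime 𝔮))) y) := by
    rintro ⟨y, hy⟩
    obtain ⟨f, rfl⟩ := Ideal.Quotient.mk_surjective y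
    have h1 : ΦR f ∉ 𝔮 := by
      intro h2
      apply hy
      show Ideal.Quotient.mk (K.map (algebraMap (MvPolynomial (Fin d) R₂) Λ)) (ΦR f) ∈
        𝔮.map (Ideal.Quotient.mk (K.map (algebraMap (MvPolynomial (Fin d) R₂) Λ)))
      exact Ideal.mem_map_of_mem _ h2
    show IsUnit (Ideal.Quotient.mk _ (algebraMap (MvPolynomial (Fin d) R₂) (Localization.AtPrime 𝔮) f))
    rw [hRLq]
    exact (IsLocalization.map_units (Localization.AtPrime 𝔮) (⟨ΦR f, h1⟩ : 𝔮.primeCompl)).map _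
  let τ : Rₚ →+* (Localization.AtPrime 𝔮 ⧸ K.map (algebraMap (MvPolynomial (Fin d) R₂) (Localization.AtPrime 𝔮))) := IsLocalization.lift (M := ((𝔮.map (Ideal.Quotient.mk (K.map (algebraMap (MvPolynomial (Fin d) R₂) Λ)))).comap (algebraMap ((MvPolynomial (Fin d) R₂) ⧸ K) (Λ ⧸ K.map (algebraMap (MvPolynomial (Fin d) R₂) Λ)))).primeCompl) (g := algebraMap ((MvPolynomial (Fin d) R₂) ⧸ K) (Localization.AtPrime 𝔮 ⧸ K.map (algebraMap (MvPolynomial (Fin d) R₂) (Localization.AtPrime 𝔮))))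
    hunitτ
  have hτ : ∀ x : (MvPolynomial (Fin d) R₂) ⧸ K, τ (algebraMap ((MvPolynomial (Fin d) R₂) ⧸ K) Rₚ x) = algebraMap ((MvPolynomial (Fin d) R₂) ⧸ K) (Localization.AtPrime 𝔮 ⧸ K.map (algebraMap (MvPolynomial (Fin d) R₂) (Localization.AtPrime 𝔮))) x :=
    fun x => IsLocalization.lift_eq _ x
  have hτν : ∀ f : MvPolynomial (Fin d) R₂, τ (ν f) = Ideal.Quotient.mk _ (algebraMap Λ (Localization.AtPrime 𝔮) (ΦR f)) := by
    intro f
    show τ (algebraMap ((MvPolynomial (Fin d) R₂) ⧸ K) Rₚ (Ideal.Quotient.mk K f)) = _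
    rw [hτ, ← hRLq]
    rfl
  letI algRₚΛq : Algebra Rₚ (Localization.AtPrime 𝔮 ⧸ K.map (algebraMap (MvPolynomial (Fin d) R₂) (Localization.AtPrime 𝔮))) := τ.toAlgebra
  letI algR₀Λq : Algebra R₀ (Localization.AtPrime 𝔮 ⧸ K.map (algebraMap (MvPolynomial (Fin d) R₂) (Localization.AtPrime 𝔮))) := (τ.comp ρ₀).toAlgebra
  haveI towerR₀RₚΛq : IsScalarTower R₀ Rₚ (Localization.AtPrime 𝔮 ⧸ K.map (algebraMap (MvPolynomial (Fin d) R₂) (Localization.AtPrime 𝔮))) := IsScalarTower.of_algebraMap_eq (fun x => rfl)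
  have hleK : maximalIdeal (Localization.AtPrime 𝔮) ^ (N + n) ≤ K.map (algebraMap (MvPolynomial (Fin d) R₂) (Localization.AtPrime 𝔮)) :=
    (Ideal.pow_le_pow_right (Nat.le_add_left n N)).trans hm
  let κL : (Localization.AtPrime 𝔮 ⧸ maximalIdeal (Localization.AtPrime 𝔮) ^ (N + n)) →+* (Localization.AtPrime 𝔮 ⧸ K.map (algebraMap (MvPolynomial (Fin d) R₂) (Localization.AtPrime 𝔮))) := Ideal.Quotient.factor hleK
  have hκL : ∀ z : Localization.AtPrime 𝔮, κL (Ideal.Quotient.mk _ z) = Ideal.Quotient.mk _ z := fun z => rfl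
  have hagree : ∀ f : R₂, κL (algebraMap D (Localization.AtPrime 𝔮 ⧸ maximalIdeal (Localization.AtPrime 𝔮) ^ (N + n)) (algebraMap R₀ D (algebraMap R₂ R₀ f))) =
      τ (ρ₀ (algebraMap R₂ R₀ f)) := by
    intro f
    rw [hρ₀, hχ, hτν, hΦRC]
    have h0 : algebraMap D (Localization.AtPrime 𝔮 ⧸ maximalIdeal (Localization.AtPrime 𝔮) ^ (N + n)) (algebraMap R₀ D (algebraMap R₂ R₀ f)) =
        Ideal.Quotient.mk _ (algebraMap Λ (Localization.AtPrime 𝔮) (φ₂ f)) := hcompat f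
    rw [h0, hκL]
  let gD : D →ₐ[R₀] (Localization.AtPrime 𝔮 ⧸ K.map (algebraMap (MvPolynomial (Fin d) R₂) (Localization.AtPrime 𝔮))) :=
    { toRingHom := κL.comp (algebraMap D (Localization.AtPrime 𝔮 ⧸ maximalIdeal (Localization.AtPrime 𝔮) ^ (N + n)))
      commutes' := fun r₀ => RingHom.congr_fun
        (hepi (Localization.AtPrime 𝔮 ⧸ K.map (algebraMap (MvPolynomial (Fin d) R₂) (Localization.AtPrime 𝔮))) (κL.comp ((algebraMap D (Localization.AtPrime 𝔮 ⧸ maximalIdeal (Localization.AtPrime 𝔮) ^ (N + n))).comp (algebraMap R₀ D))) (τ.comp ρ₀) hagree) r₀ }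
  have hgD : ∀ w : D, gD w = κL (w : (Localization.AtPrime 𝔮 ⧸ maximalIdeal (Localization.AtPrime 𝔮) ^ (N + n))) := fun w => rfl
  let hAlg : Rₚ ⊗[R₀] D →ₐ[Rₚ] (Localization.AtPrime 𝔮 ⧸ K.map (algebraMap (MvPolynomial (Fin d) R₂) (Localization.AtPrime 𝔮))) :=
    Algebra.TensorProduct.lift (Algebra.ofId Rₚ (Localization.AtPrime 𝔮 ⧸ K.map (algebraMap (MvPolynomial (Fin d) R₂) (Localization.AtPrime 𝔮)))) gD (fun _ _ => Commute.all _ _)
  have hht : ∀ (z : Rₚ) (w : D), hAlg (z ⊗ₜ w) = τ z * κL (w : (Localization.AtPrime 𝔮 ⧸ maximalIdeal (Localization.AtPrime 𝔮) ^ (N + n))) := by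
    intro z w
    show Algebra.TensorProduct.lift (Algebra.ofId Rₚ (Localization.AtPrime 𝔮 ⧸ K.map (algebraMap (MvPolynomial (Fin d) R₂) (Localization.AtPrime 𝔮)))) gD (fun _ _ => Commute.all _ _)
      (z ⊗ₜ w) = _
    rw [Algebra.TensorProduct.lift_tmul]
    rfl
  -- algebra structures on `B' = Rₚ ⊗ D`
  let βR : (MvPolynomial (Fin d) R₂) →+* (Rₚ ⊗[R₀] D) := (algebraMap Rₚ (Rₚ ⊗[R₀] D)).comp ν
  letI algRB' : Algebra (MvPolynomial (Fin d) R₂) (Rₚ ⊗[R₀] D) :=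
    @RingHom.toAlgebra (MvPolynomial (Fin d) R₂) (Rₚ ⊗[R₀] D) _ _ βR
  letI algkxB' : Algebra (MvPolynomial (Fin d) k) (Rₚ ⊗[R₀] D) :=
    @RingHom.toAlgebra (MvPolynomial (Fin d) k) (Rₚ ⊗[R₀] D) _ _
      (βR.comp (algebraMap (MvPolynomial (Fin d) k) (MvPolynomial (Fin d) R₂)))
  haveI towerkxRB' : IsScalarTower (MvPolynomial (Fin d) k) (MvPolynomial (Fin d) R₂) (Rₚ ⊗[R₀] D) := IsScalarTower.of_algebraMap_eq (fun x => rfl)
  letI algkB' : Algebra k (Rₚ ⊗[R₀] D) :=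
    @RingHom.toAlgebra k (Rₚ ⊗[R₀] D) _ _ (βR.comp (algebraMap k (MvPolynomial (Fin d) R₂)))
  haveI towerkkxB' : IsScalarTower k (MvPolynomial (Fin d) k) (Rₚ ⊗[R₀] D) := by
    refine IsScalarTower.of_algebraMap_eq (R := k) (S := MvPolynomial (Fin d) k) (A := (Rₚ ⊗[R₀] D)) (fun x => ?_)
    show βR (algebraMap k (MvPolynomial (Fin d) R₂) x) = βR (algebraMap (MvPolynomial (Fin d) k) (MvPolynomial (Fin d) R₂) (algebraMap k (MvPolynomial (Fin d) k) x))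
    rw [← IsScalarTower.algebraMap_apply k (MvPolynomial (Fin d) k) (MvPolynomial (Fin d) R₂)]
  have hβ : ∀ f : MvPolynomial (Fin d) R₂, algebraMap (MvPolynomial (Fin d) R₂) (Rₚ ⊗[R₀] D) f = (ν f) ⊗ₜ[R₀] (1 : D) := fun f => rfl
  have hmove : ∀ f : R₂, (1 : Rₚ) ⊗ₜ[R₀] (algebraMap R₀ D (algebraMap R₂ R₀ f)) =
      (χ f) ⊗ₜ[R₀] (1 : D) := by
    intro f
    rw [Algebra.algebraMap_eq_smul_one, ← TensorProduct.smul_tmul, Algebra.smul_def, mul_one,
      hR₀Rₚ]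
  have halgkD : ∀ x : k, algebraMap k D x = algebraMap R₀ D (algebraMap R₂ R₀ (algebraMap k R₂ x)) := by
    intro x
    apply Subtype.ext
    have h0 : algebraMap D (Localization.AtPrime 𝔮 ⧸ maximalIdeal (Localization.AtPrime 𝔮) ^ (N + n)) (algebraMap R₀ D (algebraMap R₂ R₀ (algebraMap k R₂ x))) =
        Ideal.Quotient.mk _ (algebraMap Λ (Localization.AtPrime 𝔮) (φ₂ (algebraMap k R₂ x))) := hcompat _
    show algebraMap k (Localization.AtPrime 𝔮 ⧸ maximalIdeal (Localization.AtPrime 𝔮) ^ (N + n)) x = algebraMap D (Localization.AtPrime 𝔮 ⧸ maximalIdeal (Localization.AtPrime 𝔮) ^ (N + n)) _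
    rw [h0, φ₂.commutes, ← IsScalarTower.algebraMap_apply k Λ (Localization.AtPrime 𝔮)]
    rfl
  let uB : A →ₐ[k] (Rₚ ⊗[R₀] D) :=
    { toRingHom := (Algebra.TensorProduct.includeRight : D →ₐ[R₀] (Rₚ ⊗[R₀] D)).toRingHom.comp uA.toRingHom
      commutes' := fun x => by
        show (1 : Rₚ) ⊗ₜ[R₀] (uA (algebraMap k A x)) = βR (algebraMap k (MvPolynomial (Fin d) R₂) x)
        rw [uA.commutes, halgkD, hmove, hχ]
        show _ = (ν (algebraMap k (MvPolynomial (Fin d) R₂) x)) ⊗ₜ[R₀] (1 : D)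
        rw [IsScalarTower.algebraMap_apply k R₂ (MvPolynomial (Fin d) R₂), MvPolynomial.algebraMap_eq] }
  have huB : ∀ x, uB x = (1 : Rₚ) ⊗ₜ[R₀] (uA x) := fun x => rfl
  let lamB : Fin d → Fin r → (Rₚ ⊗[R₀] D) := fun i j => (ν (X i) ^ N) ⊗ₜ[R₀] (dd i j)
  have hB : ∀ i, algebraMap (MvPolynomial (Fin d) k) (Rₚ ⊗[R₀] D) (X i) ^ N = ∑ j, lamB i j * uB (a j) := by
    intro i
    have h1 : algebraMap (MvPolynomial (Fin d) k) (Rₚ ⊗[R₀] D) (X i) = (ν (γ i)) ⊗ₜ[R₀] (1 : D) := by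
      show βR (algebraMap (MvPolynomial (Fin d) k) (MvPolynomial (Fin d) R₂) (X i)) = _
      rw [hXR]
      rfl
    have h2 : ∀ j, lamB i j * uB (a j) = (ν (X i) ^ N) ⊗ₜ[R₀] (dd i j * uA (a j)) := by
      intro j
      rw [huB]
      show ((ν (X i) ^ N) ⊗ₜ[R₀] (dd i j)) * ((1 : Rₚ) ⊗ₜ[R₀] (uA (a j))) = _
      rw [Algebra.TensorProduct.tmul_mul_tmul, mul_one]
    have h3 : ν (γ i) = χ (u₂ i * P i) * ν (X i) := by
      show ν (C (u₂ i * P i) * X i) = _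
      exact map_mul ν _ _
    rw [h1, Algebra.TensorProduct.tmul_pow, one_pow]
    simp only [h2]
    have hpowD : (algebraMap R₀ D (algebraMap R₂ R₀ (u₂ i * P i))) ^ N =
        algebraMap R₀ D (algebraMap R₂ R₀ ((u₂ i * P i) ^ N)) := by
      rw [map_pow, map_pow]
    rw [← TensorProduct.tmul_sum, ← hdd i, hpowD]
    have h4 : (ν (X i) ^ N) ⊗ₜ[R₀] (algebraMap R₀ D (algebraMap R₂ R₀ ((u₂ i * P i) ^ N))) =
        ((ν (X i) ^ N) ⊗ₜ[R₀] (1 : D)) *
          ((1 : Rₚ) ⊗ₜ[R₀] (algebraMap R₀ D (algebraMap R₂ R₀ ((u₂ i * P i) ^ N)))) := by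
      rw [Algebra.TensorProduct.tmul_mul_tmul, mul_one, one_mul]
    rw [h4, hmove, Algebra.TensorProduct.tmul_mul_tmul, mul_one, h3, mul_pow, map_pow, mul_comm]
  obtain ⟨ψB', hψB'⟩ : ∃ ψB' : Cel →ₐ[MvPolynomial (Fin d) k] (Rₚ ⊗[R₀] D), ψB' = Ψ (Rₚ ⊗[R₀] D) uB lamB hB := ⟨_, rfl⟩
  let g₁ : (MvPolynomial (Fin d) R₂) ⊗[MvPolynomial (Fin d) k] Cel →+* (Rₚ ⊗[R₀] D) :=
    (Algebra.TensorProduct.productMap
      (IsScalarTower.toAlgHom (MvPolynomial (Fin d) k) (MvPolynomial (Fin d) R₂) (Rₚ ⊗[R₀] D)) ψB').toRingHom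
  have hg₁t : ∀ (s : MvPolynomial (Fin d) R₂) (x : Cel), g₁ (s ⊗ₜ x) = algebraMap (MvPolynomial (Fin d) R₂) (Rₚ ⊗[R₀] D) s * ψB' x := by
    intro s x
    show Algebra.TensorProduct.productMap
      (IsScalarTower.toAlgHom (MvPolynomial (Fin d) k) (MvPolynomial (Fin d) R₂) (Rₚ ⊗[R₀] D)) ψB' (s ⊗ₜ x) = _
    rw [Algebra.TensorProduct.productMap_apply_tmul]
    rfl
  have hg₁ : ∀ f : MvPolynomial (Fin d) R₂, g₁ (algebraMap (MvPolynomial (Fin d) R₂) ((MvPolynomial (Fin d) R₂) ⊗[MvPolynomial (Fin d) k] Cel) f) =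
      algebraMap Rₚ (Rₚ ⊗[R₀] D) (algebraMap ((MvPolynomial (Fin d) R₂) ⧸ K) Rₚ (Ideal.Quotient.mk K f)) := by
    intro f
    have h1 : algebraMap (MvPolynomial (Fin d) R₂) ((MvPolynomial (Fin d) R₂) ⊗[MvPolynomial (Fin d) k] Cel) f = f ⊗ₜ (1 : Cel) := rfl
    rw [h1, hg₁t, map_one, mul_one]
    rfl
  have hh : ∀ f : MvPolynomial (Fin d) R₂, hAlg.toRingHom (algebraMap Rₚ (Rₚ ⊗[R₀] D) (algebraMap ((MvPolynomial (Fin d) R₂) ⧸ K) Rₚ (Ideal.Quotient.mk K f))) =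
      Ideal.Quotient.mk _ (algebraMap (MvPolynomial (Fin d) R₂) (Localization.AtPrime 𝔮) f) := by
    intro f
    have h1 : hAlg (algebraMap Rₚ (Rₚ ⊗[R₀] D) (ν f)) = τ (ν f) := hAlg.commutes _
    have h2 : hAlg.toRingHom (algebraMap Rₚ (Rₚ ⊗[R₀] D) (algebraMap ((MvPolynomial (Fin d) R₂) ⧸ K) Rₚ (Ideal.Quotient.mk K f))) = hAlg (algebraMap Rₚ (Rₚ ⊗[R₀] D) (ν f)) := rfl
    rw [h2, h1, hτν, hRLq]
  -- the comparison `h ∘ ψB' = θ ∘ ψ`
  let θΛ : Λ →+* (Localization.AtPrime 𝔮 ⧸ K.map (algebraMap (MvPolynomial (Fin d) R₂) (Localization.AtPrime 𝔮))) :=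
    (Ideal.Quotient.mk _).comp (algebraMap Λ (Localization.AtPrime 𝔮))
  have hθΛ : ∀ q : MvPolynomial (Fin d) k, θΛ (algebraMap (MvPolynomial (Fin d) k) Λ q) =
      algebraMap (MvPolynomial (Fin d) k) (Localization.AtPrime 𝔮 ⧸ K.map (algebraMap (MvPolynomial (Fin d) R₂) (Localization.AtPrime 𝔮))) q := by
    intro q
    show Ideal.Quotient.mk _ (algebraMap Λ (Localization.AtPrime 𝔮) (algebraMap (MvPolynomial (Fin d) k) Λ q)) = _
    rw [← IsScalarTower.algebraMap_apply (MvPolynomial (Fin d) k) Λ (Localization.AtPrime 𝔮)]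
    rfl
  let φq : A →ₐ[k] (Localization.AtPrime 𝔮 ⧸ K.map (algebraMap (MvPolynomial (Fin d) R₂) (Localization.AtPrime 𝔮))) :=
    (Ideal.Quotient.mkₐ k _).comp ((IsScalarTower.toAlgHom k Λ (Localization.AtPrime 𝔮)).comp φ)
  have hφq : ∀ x, φq x = θΛ (φ x) := fun x => rfl
  have hq : ∀ i, algebraMap (MvPolynomial (Fin d) k) (Localization.AtPrime 𝔮 ⧸ K.map (algebraMap (MvPolynomial (Fin d) R₂) (Localization.AtPrime 𝔮))) (X i) ^ N =
      ∑ j, θΛ (lamΛ i j) * φq (a j) := by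
    intro i
    rw [← hθΛ, ← map_pow, hΛrel i, map_sum]
    refine Finset.sum_congr rfl fun j _ => ?_
    rw [map_mul, hφq]
  have hθh : ∀ q : MvPolynomial (Fin d) k, hAlg.toRingHom (algebraMap (MvPolynomial (Fin d) k) (Rₚ ⊗[R₀] D) q) =
      algebraMap (MvPolynomial (Fin d) k) (Localization.AtPrime 𝔮 ⧸ K.map (algebraMap (MvPolynomial (Fin d) R₂) (Localization.AtPrime 𝔮))) q := by
    intro q
    have h1 : algebraMap (MvPolynomial (Fin d) k) (Rₚ ⊗[R₀] D) q =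
        algebraMap Rₚ (Rₚ ⊗[R₀] D) (algebraMap ((MvPolynomial (Fin d) R₂) ⧸ K) Rₚ (Ideal.Quotient.mk K (algebraMap (MvPolynomial (Fin d) k) (MvPolynomial (Fin d) R₂) q))) := rfl
    rw [h1, hh, hRLq, ← hθΛ]
    rfl
  have hφ : ∀ x : A, hAlg.toRingHom (uB x) = φq x := by
    intro x
    rw [huB]
    show hAlg ((1 : Rₚ) ⊗ₜ[R₀] (uA x)) = _
    rw [hht, map_one, one_mul, huA, hκL]
    rfl
  have hl : ∀ i j, hAlg.toRingHom (lamB i j) = θΛ (lamΛ i j) := by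
    intro i j
    show hAlg ((ν (X i) ^ N) ⊗ₜ[R₀] (dd i j)) = _
    rw [hht, map_pow, hτν, hΦRX, ← hDt, hκL, ← map_pow, ← map_mul]
    show Ideal.Quotient.mk _ _ = Ideal.Quotient.mk _ (algebraMap Λ (Localization.AtPrime 𝔮) (lamΛ i j))
    symm
    rw [Ideal.Quotient.eq]
    exact hm (hcong i j)
  have hkey : ∀ x : Cel, hAlg.toRingHom (ψB' x) = θΛ (ψ x) := by
    intro x
    rw [hψB', hψdef]
    exact (hΨnat (Rₚ ⊗[R₀] D) _ hAlg.toRingHom hθh uB lamB hB φq (fun i j => θΛ (lamΛ i j)) hq hφ hl x).trans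
      (hΨnat Λ _ θΛ hθΛ φ lamΛ hΛrel φq (fun i j => θΛ (lamΛ i j)) hq (fun x => rfl) (fun i j => rfl) x).symm
  have hcomp : ∀ c : (MvPolynomial (Fin d) R₂) ⊗[MvPolynomial (Fin d) k] Cel, hAlg.toRingHom (g₁ c) =
      Ideal.Quotient.mk _ (algebraMap Λ (Localization.AtPrime 𝔮) (ψR c)) := by
    intro c
    induction c using TensorProduct.induction_on with
    | zero => rw [map_zero, map_zero, map_zero, map_zero, map_zero]
    | tmul s x =>
      rw [hg₁t, hψRt, map_mul, map_mul, map_mul, hkey]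
      congr 1
      have h1 : algebraMap (MvPolynomial (Fin d) R₂) (Rₚ ⊗[R₀] D) s =
        algebraMap Rₚ (Rₚ ⊗[R₀] D) (algebraMap ((MvPolynomial (Fin d) R₂) ⧸ K) Rₚ (Ideal.Quotient.mk K s)) := rfl
      rw [h1, hh, hRLq]
      rfl
    | add x y hx hy => rw [map_add, map_add, map_add, map_add, map_add, hx, hy]
  exact Groth.Agent.Lib.T2H8.InsepFinal.final K ψR 𝔮 hK𝔮 n hm (Rₚ ⊗[R₀] D) g₁ hg₁ hAlg.toRingHom hh hcomp

end Groth.Agent.Lib.T2H8.InsepMain
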