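import Mathlib
import Groth.Agent.S6823
import Groth.Agent.S6824
import Groth.Agent.Lib.T2H8PopTop
import Groth.Agent.Lib.T2H8PopChar0

/-!
# Popescu's theorem over a field (helper for S0595)
-/

set_option autoImplicit false
universe u

namespace Groth.Agent.Lib.T2H8.PopField

open TensorProduct

theorem resolvable_field {k A Λ : Type u} [Field k] [CommRing A] [Algebra k A]
    [Algebra.FinitePresentation k A] [CommRing Λ] [Algebra k Λ] [IsNoetherianRing Λ]
    (hreg : CAlg.IsGeometricallyRegular k Λ) (φ : A →ₐ[k] Λ) (𝔮 : Ideal Λ) [𝔮.IsPrime]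
    (hmin : 𝔮 ∈ (Smoothing.singRad k φ).minimalPrimes) : Smoothing.Resolvable k φ 𝔮 := by
  obtain ⟨p, hp⟩ := CharP.exists k
  rcases CharP.char_is_prime_or_zero k p with hpp | hp0
  · haveI : Fact p.Prime := ⟨hpp⟩
    exact Groth.Agent.S6824.result p hreg φ 𝔮 hmin
  · subst hp0
    haveI : CharZero k := CharP.charP_to_charZero k
    have hLq : CAlg.IsGeometricallyRegular k (Localization.AtPrime 𝔮) :=
      Groth.Agent.Lib.Helper6.FSLoc4.isGeometricallyRegular_localization 𝔮.primeCompl hreg
    haveI hregLq : IsRegularLocalRing (Localization.AtPrime 𝔮) :=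
      Groth.Agent.Lib.T2H8.GeomRegFlat.isRegularLocalRing_of_geomReg k (Localization.AtPrime 𝔮) hLq
    haveI : Algebra.IsGeometricallyReduced k 𝔮.ResidueField :=
      Groth.Agent.Lib.T2H8.PopChar0.isGeometricallyReduced_of_perfectField k 𝔮.ResidueField
    exact Groth.Agent.S6823.result φ 𝔮 hmin

theorem field_case {k Λ : Type u} [Field k] [CommRing Λ] [Algebra k Λ] [IsNoetherianRing Λ]
    (hreg : CAlg.IsGeometricallyRegular k Λ) : Smoothing.IndSmooth k Λ := by
  have key : ∀ J : Ideal Λ, ∀ (A : Type u) [CommRing A] [Algebra k A],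
      Algebra.FinitePresentation k A → ∀ f : A →ₐ[k] Λ, Smoothing.singRad k f = J →
      ∃ (B : Type u) (_ : CommRing B) (_ : Algebra k B),
        Algebra.Smooth k B ∧ ∃ (g : A →ₐ[k] B) (h : B →ₐ[k] Λ), h.comp g = f := by
    intro J
    induction J using WellFoundedGT.induction with
    | ind J IH =>
      intro A _ _ hA f hJ
      haveI := hA
      by_cases htop : J = ⊤
      · apply Groth.Agent.Lib.T2H8.PopTop.exists_smooth_of_map_eq_top f
        rw [← Ideal.radical_eq_top]
        rw [← htop, ← hJ]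
        rfl
      · obtain ⟨M, hM, hJM⟩ := Ideal.exists_le_maximal J htop
        obtain ⟨𝔮, h𝔮, -⟩ := Ideal.exists_minimalPrimes_le hJM
        haveI : 𝔮.IsPrime := h𝔮.1.1
        rw [← hJ] at h𝔮
        obtain ⟨B, _, _, hBfp, g, h, hcomp, hle, hnle⟩ := resolvable_field hreg f 𝔮 h𝔮
        have hlt : J < Smoothing.singRad k h := by
          rw [← hJ]
          refine lt_of_le_of_ne hle fun heq => hnle ?_
          rw [← heq]
          exact h𝔮.1.2
        obtain ⟨B', _, _, hB', g', h', hcomp'⟩ := IH _ hlt B hBfp h rfl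
        refine ⟨B', inferInstance, inferInstance, hB', g'.comp g, h', ?_⟩
        rw [← AlgHom.comp_assoc, hcomp', hcomp]
  intro A _ _ hA f
  exact key _ A hA f rfl

end Groth.Agent.Lib.T2H8.PopField
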