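import Groth.Agent.S2025
import Groth.Agent.S6860
import Groth.Agent.Lib.T2H7StdElt

/-!
Helper library for S2029 (`Smoothing.delocalize_base`): standard smooth data with prescribed
generators, rescaling of generators by units, clearing denominators in polynomial rings over a
localization, and the construction of the algebra `B` with an elementary standard element of `S`.
-/

set_option autoImplicit false
universe u

namespace Groth.Agent.Lib.T2H8.DelocB

open MvPolynomial Algebra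

/-- standard smooth data with prescribed elements among the generators -/
theorem exists_std_data {R₀ B₀ : Type u} [CommRing R₀] [CommRing B₀] [Algebra R₀ B₀]
    [Algebra.IsStandardSmooth R₀ B₀] {n : ℕ} (e : Fin n → B₀) :
    ∃ (N c : ℕ) (val : Fin N → B₀) (rel : Fin c → MvPolynomial (Fin N) R₀)
      (cols : Fin c ↪ Fin N) (k : Fin n ↪ Fin N),
      Function.Surjective (aeval (R := R₀) val) ∧
      RingHom.ker (aeval (R := R₀) val).toRingHom = Ideal.span (Set.range rel) ∧
      IsUnit (aeval val (Matrix.det (Matrix.of fun j i => pderiv (cols i) (rel j)))) ∧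
      ∀ i, val (k i) = e i := by
  classical
  obtain ⟨ι, σ, hσ, hι, ⟨P⟩⟩ := Algebra.IsStandardSmooth.out (R := R₀) (S := B₀)
  let P₁ : SubmersivePresentation R₀ B₀ (Fin n ⊕ ι) (Fin n ⊕ σ) :=
    (Groth.Agent.S6860.Qpres e).comp P
  haveI : Fintype ι := Fintype.ofFinite ι
  haveI : Fintype σ := Fintype.ofFinite σ
  let eι : Fin (Fintype.card (Fin n ⊕ ι)) ≃ Fin n ⊕ ι := (Fintype.equivFin _).symm
  let eσ : Fin (Fintype.card (Fin n ⊕ σ)) ≃ Fin n ⊕ σ := (Fintype.equivFin _).symm
  let P₂ := P₁.reindex eι eσ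
  refine ⟨_, _, P₂.val, P₂.relation, ⟨P₂.map, P₂.map_inj⟩,
    ⟨fun i => eι.symm (Sum.inl i), fun i j hij => Sum.inl_injective (eι.symm.injective hij)⟩,
    ?_, ?_, ?_, ?_⟩
  · have := P₂.algebraMap_surjective
    rw [Generators.algebraMap_eq] at this
    exact this
  · rw [P₂.span_range_relation_eq_ker, Generators.ker_eq_ker_aeval_val]
    rfl
  · have h1 := P₂.jacobian_isUnit
    rw [PreSubmersivePresentation.jacobian_eq_jacobiMatrix_det, Generators.algebraMap_apply,
      ← Matrix.det_transpose] at h1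
    convert h1 using 3
    ext j i
    simp [PreSubmersivePresentation.jacobiMatrix_apply]
  · intro i
    show P₂.val (eι.symm (Sum.inl i)) = e i
    have h1 : P₂.val (eι.symm (Sum.inl i)) = P₁.val (Sum.inl i) := by
      show (P₁.val ∘ eι) (eι.symm (Sum.inl i)) = _
      simp
    rw [h1]
    have h2 : P₁.val (Sum.inl i) = (Groth.Agent.S6860.Qpres e).val i := rfl
    rw [h2, Groth.Agent.S6860.Qpres_val]

section Rescale

variable {R₀ B₀ : Type*} [CommRing R₀] [CommRing B₀] [Algebra R₀ B₀] {N c : ℕ}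

/-- rescaling the variables -/
noncomputable def Th (ui : Fin N → R₀) :
    MvPolynomial (Fin N) R₀ →ₐ[R₀] MvPolynomial (Fin N) R₀ :=
  aeval (fun j => C (ui j) * X j)

theorem Th_X (ui : Fin N → R₀) (j : Fin N) : Th ui (X j) = C (ui j) * X j := aeval_X _ _

theorem Th_Th (u ui : Fin N → R₀) (hu : ∀ j, u j * ui j = 1) (p : MvPolynomial (Fin N) R₀) :
    Th u (Th ui p) = p := by
  have h1 : (Th u).comp (Th ui) = AlgHom.id R₀ _ := by
    apply MvPolynomial.algHom_ext
    intro j
    show Th u (Th ui (X j)) = X j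
    rw [Th_X, map_mul, Th_X]
    have h2 : Th u (C (ui j)) = C (ui j) := by
      rw [← MvPolynomial.algebraMap_eq]
      exact (Th u).commutes _
    rw [h2, ← mul_assoc, ← C_mul, mul_comm (ui j), hu j, C_1, one_mul]
  exact AlgHom.congr_fun h1 p

theorem aeval_Th (val : Fin N → B₀) (u ui : Fin N → R₀) (hu : ∀ j, u j * ui j = 1)
    (p : MvPolynomial (Fin N) R₀) :
    aeval (fun j => u j • val j) (Th ui p) = aeval val p := by
  have h1 : (aeval (R := R₀) (fun j => u j • val j)).comp (Th ui) = aeval val := by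
    apply MvPolynomial.algHom_ext
    intro j
    show aeval (fun j => u j • val j) (Th ui (X j)) = aeval val (X j)
    rw [Th_X, map_mul, aeval_X, aeval_X, aeval_C, Algebra.smul_def, ← mul_assoc, ← map_mul,
      mul_comm (ui j), hu j, map_one, one_mul]
  exact AlgHom.congr_fun h1 p

theorem pderiv_Th (ui : Fin N → R₀) (i : Fin N) (p : MvPolynomial (Fin N) R₀) :
    pderiv i (Th ui p) = C (ui i) * Th ui (pderiv i p) := by
  classical
  induction p using MvPolynomial.induction_on with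
  | C a =>
    have h2 : Th ui (C a) = C a := by
      rw [← MvPolynomial.algebraMap_eq]
      exact (Th ui).commutes _
    rw [h2, pderiv_C, map_zero, mul_zero]
  | add p q hp hq =>
    rw [map_add, map_add, hp, hq, map_add, map_add, mul_add]
  | mul_X p j hp =>
    rw [map_mul, Th_X, pderiv_mul, hp, pderiv_mul, pderiv_C, zero_mul, zero_add, pderiv_X,
      pderiv_mul, pderiv_X, map_add, map_mul, map_mul, Th_X]
    by_cases hij : i = j
    · subst hij
      simp only [Pi.single_eq_same, map_one]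
      ring
    · rw [Pi.single_eq_of_ne (Ne.symm hij)]
      simp only [map_zero, mul_zero, add_zero]
      ring

theorem rescale (val : Fin N → B₀) (rel : Fin c → MvPolynomial (Fin N) R₀) (cols : Fin c → Fin N)
    (u ui : Fin N → R₀) (hu : ∀ j, u j * ui j = 1)
    (hsurj : Function.Surjective (aeval (R := R₀) val))
    (hker : RingHom.ker (aeval (R := R₀) val).toRingHom = Ideal.span (Set.range rel))
    (hunit : IsUnit (aeval val (Matrix.det (Matrix.of fun j i => pderiv (cols i) (rel j))))) :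
    Function.Surjective (aeval (R := R₀) (fun j => u j • val j)) ∧
    RingHom.ker (aeval (R := R₀) (fun j => u j • val j)).toRingHom =
      Ideal.span (Set.range fun j => Th ui (rel j)) ∧
    IsUnit (aeval (fun j => u j • val j)
      (Matrix.det (Matrix.of fun j i => pderiv (cols i) (Th ui (rel j))))) := by
  classical
  have hu' : ∀ j, ui j * u j = 1 := fun j => by rw [mul_comm]; exact hu j
  refine ⟨?_, ?_, ?_⟩
  · intro b
    obtain ⟨p, rfl⟩ := hsurj b
    exact ⟨Th ui p, aeval_Th val u ui hu p⟩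
  · apply le_antisymm
    · intro p hp
      have h1 : aeval val (Th u p) = 0 := by
        have h2 := aeval_Th val u ui hu (Th u p)
        rw [Th_Th ui u hu'] at h2
        rw [← h2]
        exact hp
      have h2 : Th u p ∈ Ideal.span (Set.range rel) := by
        rw [← hker]
        exact h1
      have h3 : Th ui (Th u p) ∈ Ideal.map (Th ui).toRingHom (Ideal.span (Set.range rel)) :=
        Ideal.mem_map_of_mem _ h2
      rw [Th_Th ui u hu', Ideal.map_span, ← Set.range_comp] at h3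
      exact h3
    · rw [Ideal.span_le]
      rintro _ ⟨j, rfl⟩
      show aeval (fun j => u j • val j) (Th ui (rel j)) = 0
      rw [aeval_Th val u ui hu]
      have : rel j ∈ RingHom.ker (aeval (R := R₀) val).toRingHom := by
        rw [hker]; exact Ideal.subset_span ⟨j, rfl⟩
      exact this
  · have h1 : (Matrix.of fun j i => pderiv (cols i) (Th ui (rel j))) =
        Matrix.of fun j i => C (ui (cols i)) *
          ((Th ui).toRingHom.mapMatrix (Matrix.of fun j i => pderiv (cols i) (rel j))) j i := by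
      ext j i
      simp only [Matrix.of_apply]
      rw [pderiv_Th]
      rfl
    rw [h1, Matrix.det_mul_row, ← RingHom.map_det, map_mul, map_prod]
    refine IsUnit.mul ?_ ?_
    · refine IsUnit.prod_iff.mpr fun i _ => ?_   -- placeholder
      rw [aeval_C]
      exact ((IsUnit.of_mul_eq_one _ (hu' (cols i)))).map _
    · show IsUnit (aeval (fun j => u j • val j) (Th ui _))
      rw [aeval_Th val u ui hu]
      exact hunit

end Rescale

section Clear

attribute [local instance] MvPolynomial.algebraMvPolynomial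

variable {R Rₛ : Type u} [CommRing R] [CommRing Rₛ] [Algebra R Rₛ] (S : Submonoid R)
  [IsLocalization S Rₛ] {N : ℕ}

theorem clear_mem (I : Ideal (MvPolynomial (Fin N) R)) (p : MvPolynomial (Fin N) R)
    (hp : map (algebraMap R Rₛ) p ∈ I.map (map (algebraMap R Rₛ))) :
    ∃ s ∈ S, C s * p ∈ I := by
  have hp' : algebraMap (MvPolynomial (Fin N) R) (MvPolynomial (Fin N) Rₛ) p ∈
      I.map (algebraMap (MvPolynomial (Fin N) R) (MvPolynomial (Fin N) Rₛ)) := hp
  rw [IsLocalization.mem_map_algebraMap_iff (S.map (C (σ := Fin N) (R := R)))] at hp'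
  obtain ⟨⟨x₁, m⟩, hx⟩ := hp'
  rw [← map_mul] at hx
  obtain ⟨cc, hcc⟩ := (IsLocalization.eq_iff_exists (S.map (C (σ := Fin N) (R := R))) _).mp hx
  obtain ⟨s₁, hs₁, hs₁'⟩ := cc.2
  obtain ⟨s₂, hs₂, hs₂'⟩ := m.2
  refine ⟨s₁ * s₂, S.mul_mem hs₁ hs₂, ?_⟩
  have h1 : C (s₁ * s₂) * p = (cc : MvPolynomial (Fin N) R) * (p * (m : MvPolynomial (Fin N) R)) := by
    rw [C_mul, ← hs₁', ← hs₂']
    show C s₁ * C s₂ * p = C s₁ * (p * C s₂)
    ring
  rw [h1, hcc]
  exact Ideal.mul_mem_left _ _ x₁.2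

theorem clear_family {c : ℕ} (q : Fin c → MvPolynomial (Fin N) Rₛ) :
    ∃ s ∈ S, ∃ F : Fin c → MvPolynomial (Fin N) R,
      ∀ j, map (algebraMap R Rₛ) (F j) = C (algebraMap R Rₛ s) * q j := by
  obtain ⟨b, hb⟩ := IsLocalization.exist_integer_multiples_of_finite
    (S.map (C (σ := Fin N) (R := R))) q
  obtain ⟨s, hs, hsb⟩ := b.2
  choose F hF using hb
  refine ⟨s, hs, F, fun j => ?_⟩
  have h1 := hF j
  rw [MvPolynomial.algebraMap_def] at h1
  rw [h1, Algebra.smul_def, MvPolynomial.algebraMap_def, ← hsb]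
  simp

end Clear

section Tensor

open TensorProduct

variable {R Rₛ Λ : Type u} [CommRing R] [CommRing Rₛ] [Algebra R Rₛ] (S : Submonoid R)
  [IsLocalization S Rₛ] [CommRing Λ] [Algebra R Λ]

theorem tmul_eq_zero (x : Λ) (hx : (1 : Rₛ) ⊗ₜ[R] x = 0) : ∃ s ∈ S, s • x = 0 := by
  letI : Algebra Λ (Rₛ ⊗[R] Λ) := Algebra.TensorProduct.rightAlgebra
  haveI : IsLocalization (Algebra.algebraMapSubmonoid Λ S) (Rₛ ⊗[R] Λ) :=
    IsLocalization.tensorRight Rₛ S
  have h1 : algebraMap Λ (Rₛ ⊗[R] Λ) x = 0 := hx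
  obtain ⟨m, hm⟩ := (IsLocalization.map_eq_zero_iff (Algebra.algebraMapSubmonoid Λ S)
    (Rₛ ⊗[R] Λ) x).mp h1
  obtain ⟨s, hs, hs'⟩ := m.2
  refine ⟨s, hs, ?_⟩
  rw [Algebra.smul_def, hs']
  exact hm

theorem exists_tmul (y : Rₛ ⊗[R] Λ) :
    ∃ s ∈ S, ∃ μ : Λ, algebraMap R (Rₛ ⊗[R] Λ) s * y = 1 ⊗ₜ μ := by
  letI : Algebra Λ (Rₛ ⊗[R] Λ) := Algebra.TensorProduct.rightAlgebra
  haveI : IsLocalization (Algebra.algebraMapSubmonoid Λ S) (Rₛ ⊗[R] Λ) :=
    IsLocalization.tensorRight Rₛ S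
  obtain ⟨⟨μ, m⟩, hm⟩ := IsLocalization.surj (Algebra.algebraMapSubmonoid Λ S) y
  obtain ⟨s, hs, hs'⟩ := m.2
  refine ⟨s, hs, μ, ?_⟩
  have h1 : algebraMap Λ (Rₛ ⊗[R] Λ) (m : Λ) = algebraMap R (Rₛ ⊗[R] Λ) s := by
    rw [← hs']
    show (1 : Rₛ) ⊗ₜ[R] (algebraMap R Λ s) = _
    rw [Algebra.TensorProduct.algebraMap_apply, Algebra.algebraMap_eq_smul_one s,
      Algebra.algebraMap_eq_smul_one s, TensorProduct.smul_tmul]
  rw [mul_comm, ← h1]
  exact hm

end Tensor

section Core

open TensorProduct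

variable {R A Λ Rₛ B₀ : Type u} [CommRing R] [CommRing A] [Algebra R A] [CommRing Λ]
  [Algebra R Λ] (φ : A →ₐ[R] Λ) (S : Submonoid R) [CommRing Rₛ] [Algebra R Rₛ]
  [IsLocalization S Rₛ] [CommRing B₀] [Algebra Rₛ B₀] [Algebra R B₀] [IsScalarTower R Rₛ B₀]
  (g₀ : A →ₐ[R] B₀) (h₀ : B₀ →ₐ[R] Rₛ ⊗[R] Λ)
  {n t : ℕ} (πA : MvPolynomial (Fin n) R →ₐ[R] A) (hπA : Function.Surjective πA)
  (gk : Fin t → MvPolynomial (Fin n) R)
  (hkerA : RingHom.ker πA.toRingHom = Ideal.span (Set.range gk))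
  {N c : ℕ} (val : Fin N → B₀) (rel : Fin c → MvPolynomial (Fin N) Rₛ) (cols : Fin c ↪ Fin N)
  (k : Fin n ↪ Fin N)
  (hsurj : Function.Surjective (aeval (R := Rₛ) val))
  (hker : RingHom.ker (aeval (R := Rₛ) val).toRingHom = Ideal.span (Set.range rel))
  (hunit : IsUnit (aeval val (Matrix.det (Matrix.of fun j i => pderiv (cols i) (rel j)))))
  (hk : ∀ i, val (k i) = g₀ (πA (X i)))
  (μ : Fin N → Λ) (hμ : ∀ j, h₀ (val j) = 1 ⊗ₜ μ j) (hμk : ∀ i, μ (k i) = φ (πA (X i)))

include hμ in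
theorem h₀_aeval (p : MvPolynomial (Fin N) R) :
    h₀ (aeval val p) = (1 : Rₛ) ⊗ₜ[R] aeval μ p := by
  rw [comp_aeval_apply]
  have h1 : (fun j => h₀ (val j)) = fun j =>
      (Algebra.TensorProduct.includeRight : Λ →ₐ[R] Rₛ ⊗[R] Λ) (μ j) := by
    funext j
    rw [hμ j]
    rfl
  rw [h1, ← comp_aeval_apply]
  rfl

include hk in
theorem aeval_val_rename (p : MvPolynomial (Fin n) R) :
    aeval val (rename k p) = g₀ (πA p) := by
  rw [aeval_rename]
  have h1 : (val ∘ k) = fun i => (g₀.comp πA) (X i) := by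
    funext i
    exact hk i
  rw [h1, ← comp_aeval_apply, aeval_X_left_apply]
  rfl

include hμk in
theorem aeval_μ_rename (p : MvPolynomial (Fin n) R) :
    aeval μ (rename k p) = φ (πA p) := by
  rw [aeval_rename]
  have h1 : (μ ∘ k) = fun i => (φ.comp πA) (X i) := by
    funext i
    exact hμk i
  rw [h1, ← comp_aeval_apply, aeval_X_left_apply]
  rfl

include hμ hk hsurj hker hunit hkerA in
/-- the relations with cleared denominators and the standard element -/
theorem core_data :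
    ∃ (F : Fin c → MvPolynomial (Fin N) R) (s : R) (a' : MvPolynomial (Fin N) R),
      s ∈ S ∧ (∀ j, aeval μ (F j) = 0) ∧
      (∀ l, C s * rename k (gk l) ∈ Ideal.span (Set.range F)) ∧
      C s - a' * Matrix.det (Matrix.of fun j i => pderiv (cols i) (F j)) ∈
        Ideal.span (Set.range F) := by
  classical
  -- step 1
  obtain ⟨s₁, hs₁, F0, hF0⟩ := clear_family (Rₛ := Rₛ) S rel
  have hrel0 : ∀ j, aeval val (rel j) = 0 := by
    intro j
    have : rel j ∈ RingHom.ker (aeval (R := Rₛ) val).toRingHom := by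
      rw [hker]; exact Ideal.subset_span ⟨j, rfl⟩
    exact this
  have hF0val : ∀ j, aeval (R := R) val (F0 j) = 0 := by
    intro j
    rw [← MvPolynomial.aeval_map_algebraMap Rₛ, hF0 j, map_mul, hrel0, mul_zero]
  have htors : ∀ j, ∃ s ∈ S, s • aeval μ (F0 j) = 0 := by
    intro j
    apply tmul_eq_zero (Rₛ := Rₛ) S
    rw [← h₀_aeval h₀ val μ hμ, hF0val, map_zero]
  choose s₂ hs₂ hs₂' using htors
  set sF : R := ∏ j, s₂ j with hsF
  have hsFS : sF ∈ S := Submonoid.prod_mem _ fun j _ => hs₂ j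
  set F : Fin c → MvPolynomial (Fin N) R := fun j => C sF * F0 j with hF
  have hFμ : ∀ j, aeval μ (F j) = 0 := by
    intro j
    show aeval μ (C sF * F0 j) = 0
    rw [map_mul, aeval_C, ← Algebra.smul_def, hsF,
      ← Finset.mul_prod_erase Finset.univ _ (Finset.mem_univ j), mul_comm, mul_smul, hs₂' j,
      smul_zero]
  set sh : Rₛ := algebraMap R Rₛ (sF * s₁) with hsh
  have hshu : IsUnit sh := IsLocalization.map_units Rₛ (⟨sF * s₁, S.mul_mem hsFS hs₁⟩ : S)
  obtain ⟨shi, hshi⟩ := hshu.exists_left_inv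
  have hFmap : ∀ j, map (algebraMap R Rₛ) (F j) = C sh * rel j := by
    intro j
    show map (algebraMap R Rₛ) (C sF * F0 j) = _
    rw [map_mul, map_C, hF0 j, ← mul_assoc, ← C_mul, ← map_mul]
  have hK : Ideal.span (Set.range rel) =
      (Ideal.span (Set.range F)).map (map (algebraMap R Rₛ)) := by
    rw [Ideal.map_span, ← Set.range_comp]
    apply le_antisymm
    · rw [Ideal.span_le]
      rintro _ ⟨j, rfl⟩
      have h1 : rel j = C shi * (map (algebraMap R Rₛ) (F j)) := by
        rw [hFmap, ← mul_assoc, ← C_mul, hshi, C_1, one_mul]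
      rw [h1]
      exact Ideal.mul_mem_left _ _ (Ideal.subset_span ⟨j, rfl⟩)
    · rw [Ideal.span_le]
      rintro _ ⟨j, rfl⟩
      show map (algebraMap R Rₛ) (F j) ∈ _
      rw [hFmap]
      exact Ideal.mul_mem_left _ _ (Ideal.subset_span ⟨j, rfl⟩)
  -- step 6
  have hG : ∀ l, ∃ s ∈ S, C s * rename k (gk l) ∈ Ideal.span (Set.range F) := by
    intro l
    apply clear_mem (Rₛ := Rₛ) S
    rw [← hK, ← hker]
    show aeval val (map (algebraMap R Rₛ) (rename k (gk l))) = 0
    rw [MvPolynomial.aeval_map_algebraMap, aeval_val_rename g₀ πA val k hk]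
    have : gk l ∈ RingHom.ker πA.toRingHom := by
      rw [hkerA]; exact Ideal.subset_span ⟨l, rfl⟩
    rw [show πA (gk l) = 0 from this, map_zero]
  choose s₃ hs₃ hs₃' using hG
  -- step 7
  set minor : MvPolynomial (Fin N) R :=
    Matrix.det (Matrix.of fun j i => pderiv (cols i) (F j)) with hminor
  have hminor_map : map (algebraMap R Rₛ) minor =
      C sh ^ c * Matrix.det (Matrix.of fun j i => pderiv (cols i) (rel j)) := by
    rw [hminor, RingHom.map_det]
    have h1 : (map (algebraMap R Rₛ)).mapMatrix (Matrix.of fun j i => pderiv (cols i) (F j)) =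
        Matrix.of fun j i => C sh * (Matrix.of fun j i => pderiv (cols i) (rel j)) j i := by
      ext j i
      simp only [RingHom.mapMatrix_apply, Matrix.map_apply, Matrix.of_apply]
      rw [← pderiv_map, hFmap, pderiv_C_mul]
    rw [h1, Matrix.det_mul_column]
    simp
  have hminor_unit : IsUnit (aeval val (map (algebraMap R Rₛ) minor)) := by
    rw [hminor_map, map_mul, map_pow, aeval_C]
    exact ((hshu.map _).pow c).mul hunit
  obtain ⟨w, hw⟩ := hminor_unit.exists_left_inv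
  obtain ⟨q, rfl⟩ := hsurj w
  have hq : q * map (algebraMap R Rₛ) minor - 1 ∈ Ideal.span (Set.range rel) := by
    rw [← hker]
    show aeval val (q * map (algebraMap R Rₛ) minor - 1) = 0
    rw [map_sub, map_mul, hw, map_one, sub_self]
  obtain ⟨sq, hsq, Q0, hQ0⟩ := clear_family (Rₛ := Rₛ) S (fun _ : Fin 1 => q)
  have h4 : ∃ s ∈ S, C s * (Q0 0 * minor - C sq) ∈ Ideal.span (Set.range F) := by
    apply clear_mem (Rₛ := Rₛ) S
    rw [← hK]
    have h5 : map (algebraMap R Rₛ) (Q0 0 * minor - C sq) =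
        C (algebraMap R Rₛ sq) * (q * map (algebraMap R Rₛ) minor - 1) := by
      rw [map_sub, map_mul, hQ0 0, map_C]
      ring
    rw [h5]
    exact Ideal.mul_mem_left _ _ hq
  obtain ⟨s₄, hs₄, hs₄'⟩ := h4
  -- step 8
  set s₃p : R := ∏ l, s₃ l with hs₃p
  have hs₃pS : s₃p ∈ S := Submonoid.prod_mem _ fun l _ => hs₃ l
  refine ⟨F, s₃p * (s₄ * sq), C s₃p * (C s₄ * Q0 0), S.mul_mem hs₃pS (S.mul_mem hs₄ hsq), hFμ,
    ?_, ?_⟩
  · intro l
    have h5 : C (s₃p * (s₄ * sq)) * rename k (gk l) =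
        (C (∏ x ∈ Finset.univ.erase l, s₃ x) * C (s₄ * sq)) * (C (s₃ l) * rename k (gk l)) := by
      rw [hs₃p, ← Finset.mul_prod_erase Finset.univ _ (Finset.mem_univ l), C_mul, C_mul]
      ring
    rw [h5]
    exact Ideal.mul_mem_left _ _ (hs₃' l)
  · have h5 : C (s₃p * (s₄ * sq)) - C s₃p * (C s₄ * Q0 0) * minor =
        (- C s₃p) * (C s₄ * (Q0 0 * minor - C sq)) := by
      rw [C_mul, C_mul]
      ring
    rw [h5]
    exact Ideal.mul_mem_left _ _ hs₄'

include hμ hk hsurj hker hunit hkerA hμk hπA in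
theorem core' : ∃ (B : Type u) (_ : CommRing B) (_ : Algebra R B) (α : A →ₐ[R] B)
    (β : B →ₐ[R] Λ), β.comp α = φ ∧
      ∃ s ∈ S, Smoothing.IsElementaryStandard R B (algebraMap R B s) := by
  classical
  obtain ⟨F, s, a', hsS, hFμ, hGs, hmin⟩ := core_data S g₀ h₀ πA gk hkerA val rel cols k
    hsurj hker hunit hk μ hμ
  let G : Fin t → MvPolynomial (Fin N) R := fun l => rename k (gk l)
  let rels : Fin (c + t) → MvPolynomial (Fin N) R := Fin.append F G
  let I : Ideal (MvPolynomial (Fin N) R) := Ideal.span (Set.range rels)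
  let φ' : MvPolynomial (Fin N) R →ₐ[R] (MvPolynomial (Fin N) R ⧸ I) := Ideal.Quotient.mkₐ R I
  have hφ' : Function.Surjective φ' := Ideal.Quotient.mkₐ_surjective R I
  have hkerφ' : RingHom.ker φ'.toRingHom = Ideal.span (Set.range rels) :=
    Ideal.Quotient.mkₐ_ker R I
  have hrelsF : ∀ j, rels (Fin.castAdd t j) = F j := fun j => Fin.append_left F G j
  have hrelsG : ∀ l, rels (Fin.natAdd c l) = G l := fun l => Fin.append_right F G l
  have hFI : ∀ j, F j ∈ I := fun j => Ideal.subset_span ⟨Fin.castAdd t j, hrelsF j⟩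
  have hGI : ∀ l, G l ∈ I := fun l => Ideal.subset_span ⟨Fin.natAdd c l, hrelsG l⟩
  have hspanF : Ideal.span (Set.range F) ≤ I :=
    Ideal.span_le.mpr (by rintro _ ⟨j, rfl⟩; exact hFI j)
  have hπgk : ∀ l, πA (gk l) = 0 := by
    intro l
    have : gk l ∈ RingHom.ker πA.toRingHom := by
      rw [hkerA]; exact Ideal.subset_span ⟨l, rfl⟩
    exact this
  -- β
  have hβker : ∀ p ∈ I, aeval μ p = 0 := by
    intro p hp
    have hle : I ≤ RingHom.ker (aeval (R := R) μ).toRingHom := by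
      rw [Ideal.span_le]
      rintro _ ⟨i, rfl⟩
      refine Fin.addCases (fun j => ?_) (fun l => ?_) i
      · show aeval μ (rels (Fin.castAdd t j)) = 0
        rw [hrelsF]
        exact hFμ j
      · show aeval μ (rels (Fin.natAdd c l)) = 0
        rw [hrelsG]
        show aeval μ (rename k (gk l)) = 0
        rw [aeval_μ_rename φ πA k μ hμk, hπgk, map_zero]
    exact hle hp
  let β : (MvPolynomial (Fin N) R ⧸ I) →ₐ[R] Λ := Ideal.Quotient.liftₐ I (aeval μ) hβker
  -- α
  let α₀ : MvPolynomial (Fin n) R →ₐ[R] (MvPolynomial (Fin N) R ⧸ I) := φ'.comp (rename k)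
  have hα₀ : ∀ p ∈ RingHom.ker πA, α₀ p = 0 := by
    intro p hp
    have hp' : p ∈ Ideal.span (Set.range gk) := by
      rw [← hkerA]; exact hp
    have hle : Ideal.span (Set.range gk) ≤ RingHom.ker α₀.toRingHom := by
      rw [Ideal.span_le]
      rintro _ ⟨l, rfl⟩
      show φ' (rename k (gk l)) = 0
      exact Ideal.Quotient.eq_zero_iff_mem.mpr (hGI l)
    exact hle hp'
  let α : A →ₐ[R] (MvPolynomial (Fin N) R ⧸ I) :=
    (Ideal.Quotient.liftₐ (RingHom.ker πA) α₀ hα₀).comp
      (Ideal.quotientKerAlgEquivOfSurjective hπA).symm.toAlgHom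
  have hα : ∀ p, α (πA p) = φ' (rename k p) := by
    intro p
    show (Ideal.Quotient.liftₐ _ α₀ hα₀)
      ((Ideal.quotientKerAlgEquivOfSurjective hπA).symm (πA p)) = _
    have h1 : (Ideal.quotientKerAlgEquivOfSurjective hπA).symm (πA p) =
        Ideal.Quotient.mk _ p := by
      rw [AlgEquiv.symm_apply_eq]
      rfl
    rw [h1]
    rfl
  have hβα : β.comp α = φ := by
    ext a
    obtain ⟨p, rfl⟩ := hπA a
    show β (α (πA p)) = φ (πA p)
    rw [hα]
    show aeval μ (rename k p) = _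
    exact aeval_μ_rename φ πA k μ hμk p
  refine ⟨MvPolynomial (Fin N) R ⧸ I, inferInstance, inferInstance, α, β, hβα, s, hsS, ?_⟩
  let rows : Fin c ↪ Fin (c + t) := Fin.castAddEmb t
  have hrows : rels ∘ rows = F := by
    funext j
    exact hrelsF j
  have hminor : Smoothing.jacobianMinor rels rows cols =
      Matrix.det (Matrix.of fun j i => pderiv (cols i) (F j)) := by
    unfold Smoothing.jacobianMinor
    congr 1
    ext j i
    simp only [Matrix.of_apply]
    rw [show rels (rows j) = F j from hrelsF j]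
  refine Groth.Agent.Lib.T2H7.StdElt.isElementaryStandard_of_data rels φ' hφ' hkerφ' rows cols
    (algebraMap R _ s) (φ' a') ?_ ?_
  · rw [hminor, ← map_mul]
    have h1 : algebraMap R (MvPolynomial (Fin N) R ⧸ I) s = φ' (C s) := rfl
    rw [h1, ← sub_eq_zero, ← map_sub]
    exact Ideal.Quotient.eq_zero_iff_mem.mpr (hspanF hmin)
  · intro a₁ ha₁ ℓ
    have h1 : a₁ - C s ∈ Ideal.span (Set.range rels) := by
      rw [← hkerφ']
      show φ' (a₁ - C s) = 0
      rw [map_sub, ha₁]
      exact sub_self _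
    have h2 : a₁ * rels ℓ = (a₁ - C s) * rels ℓ + C s * rels ℓ := by ring
    rw [h2]
    refine Ideal.add_mem _ (Ideal.mem_sup_right ?_) (Ideal.mem_sup_left ?_)
    · rw [pow_two]
      exact Ideal.mul_mem_mul h1 (Ideal.subset_span ⟨ℓ, rfl⟩)
    · rw [hrows]
      refine Fin.addCases (fun j => ?_) (fun l => ?_) ℓ
      · rw [hrelsF]
        exact Ideal.mul_mem_left _ _ (Ideal.subset_span ⟨j, rfl⟩)
      · rw [hrelsG]
        exact hGs l

end Core

section Main

open TensorProduct in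
theorem main {R A Λ Rₛ B' : Type u} [CommRing R] [CommRing A] [Algebra R A]
    [Algebra.FinitePresentation R A] [CommRing Λ] [Algebra R Λ] (φ : A →ₐ[R] Λ) (S : Submonoid R)
    [CommRing Rₛ] [Algebra R Rₛ] [IsLocalization S Rₛ] [CommRing B'] [Algebra Rₛ B']
    [Algebra.Smooth Rₛ B'] (g : Rₛ ⊗[R] A →ₐ[Rₛ] B') (h : B' →ₐ[Rₛ] Rₛ ⊗[R] Λ)
    (hgh : h.comp g = Algebra.TensorProduct.map (AlgHom.id Rₛ Rₛ) φ) :
    ∃ (B : Type u) (_ : CommRing B) (_ : Algebra R B) (α : A →ₐ[R] B) (β : B →ₐ[R] Λ),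
      β.comp α = φ ∧ ∃ s ∈ S, Smoothing.IsElementaryStandard R B (algebraMap R B s) := by
  classical
  obtain ⟨B'', _, _, _, _, hsm, ⟨ret⟩, hstd⟩ := Groth.Agent.S2025.result (R := Rₛ) (A := B')
  letI algRB'' : Algebra R B'' := ((algebraMap Rₛ B'').comp (algebraMap R Rₛ)).toAlgebra
  haveI t1 : IsScalarTower R Rₛ B'' := IsScalarTower.of_algebraMap_eq (fun _ => rfl)
  have h1tmul : ∀ r : R, (1 : Rₛ) ⊗ₜ[R] algebraMap R A r =
      algebraMap Rₛ (Rₛ ⊗[R] A) (algebraMap R Rₛ r) := by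
    intro r
    rw [Algebra.TensorProduct.algebraMap_apply, Algebra.algebraMap_self, RingHom.id_apply,
      Algebra.algebraMap_eq_smul_one r, Algebra.algebraMap_eq_smul_one r,
      TensorProduct.smul_tmul]
  let g₀ : A →ₐ[R] B'' :=
    { toRingHom := (algebraMap B' B'').comp (g.toRingHom.comp
        (Algebra.TensorProduct.includeRight : A →ₐ[R] Rₛ ⊗[R] A).toRingHom)
      commutes' := fun r => by
        show algebraMap B' B'' (g ((1 : Rₛ) ⊗ₜ[R] algebraMap R A r)) = algebraMap R B'' r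
        rw [h1tmul, g.commutes, ← IsScalarTower.algebraMap_apply Rₛ B' B'']
        rfl }
  have hg₀ : ∀ a, g₀ a = algebraMap B' B'' (g ((1 : Rₛ) ⊗ₜ[R] a)) := fun a => rfl
  let h₀ : B'' →ₐ[R] Rₛ ⊗[R] Λ :=
    { toRingHom := h.toRingHom.comp ret.toRingHom
      commutes' := fun r => by
        show h (ret (algebraMap R B'' r)) = algebraMap R (Rₛ ⊗[R] Λ) r
        rw [IsScalarTower.algebraMap_apply R Rₛ B'', IsScalarTower.algebraMap_apply Rₛ B' B'',
          ret.commutes, Algebra.algebraMap_self, RingHom.id_apply, h.commutes,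
          ← IsScalarTower.algebraMap_apply] }
  have hh₀ : ∀ b, h₀ b = h (ret b) := fun b => rfl
  have hgh₀ : ∀ a, h₀ (g₀ a) = (1 : Rₛ) ⊗ₜ[R] φ a := by
    intro a
    rw [hh₀, hg₀, ret.commutes]
    have h2 := AlgHom.congr_fun hgh ((1 : Rₛ) ⊗ₜ[R] a)
    rw [AlgHom.comp_apply] at h2
    rw [Algebra.algebraMap_self, RingHom.id_apply, h2, Algebra.TensorProduct.map_tmul]
    rfl
  -- presentation of A
  obtain ⟨n, πA, hπA, hfg⟩ := Algebra.FinitePresentation.out (R := R) (A := A)
  obtain ⟨t, gk, hgk⟩ := Submodule.fg_iff_exists_fin_generating_family.mp hfg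
  have hkerA : RingHom.ker πA.toRingHom = Ideal.span (Set.range gk) := hgk.symm
  obtain ⟨N, c, val, rel, cols, k, hsurj, hker, hunit, hk⟩ :=
    exists_std_data (R₀ := Rₛ) (B₀ := B'') (fun i => g₀ (πA (X i)))
  -- rescaling data
  have hres : ∀ j : Fin N, ∃ s ∈ S, ∃ μ : Λ,
      algebraMap R (Rₛ ⊗[R] Λ) s * h₀ (val j) = (1 : Rₛ) ⊗ₜ[R] μ ∧
      ∀ i, k i = j → s = 1 ∧ μ = φ (πA (X i)) := by
    intro j
    by_cases hj : ∃ i, k i = j
    · obtain ⟨i, rfl⟩ := hj
      refine ⟨1, S.one_mem, φ (πA (X i)), ?_, ?_⟩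
      · rw [map_one, one_mul, hk, hgh₀]
      · intro i' hi'
        have := k.injective hi'
        subst this
        exact ⟨rfl, rfl⟩
    · obtain ⟨s, hs, μ, hμ⟩ := exists_tmul (Rₛ := Rₛ) S (h₀ (val j))
      exact ⟨s, hs, μ, hμ, fun i hi => absurd ⟨i, hi⟩ hj⟩
  choose su hsu μ hμ hμ' using hres
  have huu : ∀ j, ∃ ui : Rₛ, algebraMap R Rₛ (su j) * ui = 1 := fun j =>
    (IsLocalization.map_units Rₛ (⟨su j, hsu j⟩ : S)).exists_right_inv
  choose ui hui using huu
  obtain ⟨hsurj', hker', hunit'⟩ := rescale val rel cols (fun j => algebraMap R Rₛ (su j)) ui hui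
    hsurj hker hunit
  have hval' : ∀ j, algebraMap R Rₛ (su j) • val j = algebraMap R B'' (su j) * val j := by
    intro j
    rw [Algebra.smul_def, ← IsScalarTower.algebraMap_apply]
  refine core' φ S g₀ h₀ πA hπA gk hkerA (fun j => algebraMap R Rₛ (su j) • val j)
    (fun j => Th ui (rel j)) cols k hsurj' hker' hunit' ?_ μ ?_ ?_
  · intro i
    show algebraMap R Rₛ (su (k i)) • val (k i) = _
    rw [(hμ' (k i) i rfl).1, map_one, one_smul, hk]
  · intro j
    show h₀ (algebraMap R Rₛ (su j) • val j) = _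
    rw [hval', map_mul, h₀.commutes, hμ j]
  · intro i
    exact (hμ' (k i) i rfl).2

end Main

end Groth.Agent.Lib.T2H8.DelocB
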