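import Mathlib
import Groth.Agent.S2022
import Groth.Agent.S2024
import Groth.Agent.S2028
import Groth.Agent.S2029
import Groth.Agent.Lib.T2H8PopAux
import Groth.Agent.Lib.T2H8PopField

/-!
# Popescu's theorem: reduction to the field case, inductive step (helper for S0595)
-/

set_option autoImplicit false
universe u

namespace Groth.Agent.Lib.T2H8.PopStep

open TensorProduct Groth.Agent.Lib.T2H8

theorem step (R Λ : Type u) [CommRing R] [IsNoetherianRing R] [CommRing Λ] [IsNoetherianRing Λ]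
    [Algebra R Λ] (hreg : CAlg.IsRegularHom R Λ)
    (IH : ∀ J : Ideal R, J ≠ ⊥ → Smoothing.IndSmooth (R ⧸ J) (Λ ⧸ J.map (algebraMap R Λ))) :
    Smoothing.IndSmooth R Λ := by
  classical
  haveI hflat : Module.Flat R Λ := hreg.1
  by_cases hnil : nilradical R = ⊥
  swap
  · exact Groth.Agent.S2022.result (nilradical R) (IsNoetherianRing.isNilpotent_nilradical R)
      (IH _ hnil)
  haveI : IsReduced R := nilradical_eq_bot_iff.mp hnil
  intro A _ _ hA φ
  haveI := hA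
  by_cases hsub : Subsingleton R
  · exact ⟨A, inferInstance, inferInstance, PopAux.smooth_of_subsingleton, AlgHom.id R A, φ,
      AlgHom.comp_id φ⟩
  haveI : Nontrivial R := not_subsingleton_iff_nontrivial.mp hsub
  obtain ⟨⟨𝔭, h𝔭⟩⟩ := Ideal.nonempty_minimalPrimes (bot_ne_top : (⊥ : Ideal R) ≠ ⊤)
  haveI : 𝔭.IsPrime := h𝔭.1.1
  haveI := PopAux.isLocalization_residueField 𝔭 h𝔭
  obtain ⟨hfibN, hfibG⟩ := hreg.2 𝔭
  haveI := hfibN
  have hInd : Smoothing.IndSmooth 𝔭.ResidueField (𝔭.Fiber Λ) := PopField.field_case hfibG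
  obtain ⟨B', _, _, hB', g', h', hcomp'⟩ := hInd (𝔭.ResidueField ⊗[R] A) inferInstance
    (Algebra.TensorProduct.map (AlgHom.id _ _) φ)
  haveI := hB'
  obtain ⟨B, _, _, α, β, hαβ, s, hs, hstd⟩ := Groth.Agent.S2029.result φ 𝔭.primeCompl g' h' hcomp'
  obtain ⟨P, -, -⟩ := id hstd
  haveI hBfp : Algebra.FinitePresentation R B := PopAux.finitePresentation_of_markedPresentation P
  have hss : Smoothing.IsStrictlyStandard R B (algebraMap R B s) :=
    PopAux.isStrictlyStandard_of_isElementaryStandard _ hstd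
  have hs0 : s ≠ 0 := fun h0 => hs (h0 ▸ 𝔭.zero_mem)
  have hred : ∀ (t : R) (r : R), t ^ 2 * r = 0 → t * r = 0 := by
    intro t r h
    apply IsNilpotent.eq_zero
    refine ⟨2, ?_⟩
    rw [mul_pow, pow_two r, ← mul_assoc, h, zero_mul]
  obtain ⟨ϖ, hϖ⟩ : ∃ ϖ : R, ϖ = s ^ 4 := ⟨_, rfl⟩
  have hϖ0 : Ideal.span {ϖ ^ 2} ≠ (⊥ : Ideal R) := by
    rw [Ne, Ideal.span_singleton_eq_bot]
    intro h0
    refine hs0 (IsNilpotent.eq_zero ⟨8, ?_⟩)
    rw [← h0, hϖ]
    ring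
  have hIndJ := IH _ hϖ0
  let f₁ : (R ⧸ Ideal.span {ϖ ^ 2}) ⊗[R] B →ₐ[R ⧸ Ideal.span {ϖ ^ 2}]
      (Λ ⧸ (Ideal.span {ϖ ^ 2}).map (algebraMap R Λ)) :=
    Algebra.TensorProduct.lift (Algebra.ofId _ _) ((Ideal.Quotient.mkₐ R _).comp β)
      (fun _ _ => Commute.all _ _)
  obtain ⟨Cb, _, _, hCb, g₁, h₁, hcomp₁⟩ := hIndJ ((R ⧸ Ideal.span {ϖ ^ 2}) ⊗[R] B) inferInstance f₁
  haveI := hCb
  haveI : Algebra.FinitePresentation (R ⧸ Ideal.span {ϖ ^ 2}) Cb := hCb.finitePresentation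
  haveI : Algebra.FormallySmooth (R ⧸ Ideal.span {ϖ ^ 2}) Cb := hCb.formallySmooth
  letI algRCb : Algebra R Cb :=
    ((algebraMap (R ⧸ Ideal.span {ϖ ^ 2}) Cb).comp (Ideal.Quotient.mk _)).toAlgebra
  haveI : IsScalarTower R (R ⧸ Ideal.span {ϖ ^ 2}) Cb := IsScalarTower.of_algebraMap_eq (fun _ => rfl)
  have hIeq : (Ideal.span {ϖ ^ 2}).map (algebraMap R Λ) = Ideal.span {algebraMap R Λ (ϖ ^ 2)} := by
    rw [Ideal.map_span, Set.image_singleton]
  let gC : Cb →ₐ[R] Λ ⧸ Ideal.span {algebraMap R Λ (ϖ ^ 2)} :=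
    (Ideal.quotientEquivAlgOfEq R hIeq).toAlgHom.comp (h₁.restrictScalars R)
  obtain ⟨D, _, _, hDfp, δ, ψ, hcompat, hsm1, hsm2⟩ :=
    Groth.Agent.S2024.result ϖ (hred ϖ) (PopAux.ann_flat ϖ (hred ϖ)) gC
  haveI := hDfp
  haveI hDsm : Algebra.Smooth R D := by
    refine ⟨?_, inferInstance⟩
    rw [← Algebra.smoothLocus_eq_univ_iff]
    refine Set.eq_univ_of_forall fun Q' => ?_
    haveI := Q'.2
    by_cases hQ : algebraMap R D ϖ ∈ Q'.asIdeal
    · let Q : Ideal (D ⧸ Ideal.span {algebraMap R D ϖ}) := Q'.asIdeal.map (Ideal.Quotient.mk _)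
      have hker : RingHom.ker (Ideal.Quotient.mk (Ideal.span {algebraMap R D ϖ})) ≤ Q'.asIdeal := by
        rw [Ideal.mk_ker, Ideal.span_singleton_le_iff_mem]
        exact hQ
      haveI : Q.IsPrime := Ideal.map_isPrime_of_surjective Ideal.Quotient.mk_surjective hker
      have hQeq : Q.comap (Ideal.Quotient.mk (Ideal.span {algebraMap R D ϖ})) = Q'.asIdeal := by
        rw [Ideal.comap_map_of_surjective _ Ideal.Quotient.mk_surjective, sup_eq_left]
        exact hker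
      have h3 : Algebra.IsSmoothAt (R ⧸ Ideal.span {ϖ ^ 2}) (Q.comap ψ) := by
        show Algebra.FormallySmooth _ (Localization.AtPrime (Q.comap ψ))
        haveI : Algebra.FormallySmooth Cb (Localization.AtPrime (Q.comap ψ)) :=
          Algebra.FormallySmooth.of_isLocalization (Q.comap ψ).primeCompl
        exact Algebra.FormallySmooth.comp _ Cb _
      have h4 := hsm2 Q h3
      have htr : ∀ (I : Ideal D) [I.IsPrime], I = Q'.asIdeal → Algebra.IsSmoothAt R I →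
          Algebra.IsSmoothAt R Q'.asIdeal := by
        intro I _ hI h
        subst hI
        exact h
      exact htr _ hQeq h4
    · exact hsm1 Q'.asIdeal hQ
  subst hϖ
  let ιB : B →ₐ[R] (R ⧸ Ideal.span {(s ^ 4) ^ 2}) ⊗[R] B := Algebra.TensorProduct.includeRight
  let ψ' : B →ₐ[R] D ⧸ Ideal.span {algebraMap R D (s ^ 4)} :=
    ψ.comp ((g₁.restrictScalars R).comp ιB)
  have hψ' : ∀ (b : B) (d : D), Ideal.Quotient.mk (Ideal.span {algebraMap R D (s ^ 4)}) d = ψ' b →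
      δ d - β b ∈ Ideal.span {algebraMap R Λ (s ^ 4)} := by
    intro b d hd
    refine hcompat (g₁ (1 ⊗ₜ b)) d (β b) hd ?_
    show _ = Ideal.quotientEquivAlgOfEq R hIeq (h₁ (g₁ (1 ⊗ₜ b)))
    have h5 : h₁ (g₁ (1 ⊗ₜ b)) = f₁ (1 ⊗ₜ b) := DFunLike.congr_fun hcomp₁ _
    rw [h5]
    show _ = Ideal.quotientEquivAlgOfEq R hIeq
      (Algebra.TensorProduct.lift (Algebra.ofId _ _) ((Ideal.Quotient.mkₐ R _).comp β)
      (fun _ _ => Commute.all _ _) (1 ⊗ₜ b))
    rw [Algebra.TensorProduct.lift_tmul, map_one, one_mul]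
    rfl
  obtain ⟨B₂, _, _, _, _, hB₂fp, α₂, β₂, hαβ₂, hδ₂, -, hsing⟩ :=
    Groth.Agent.S2028.result s (hred s) (PopAux.ann_flat s (hred s)) β δ hss ψ' hψ'
  haveI := hB₂fp
  have htop : Smoothing.singularIdeal R B₂ = ⊤ := by
    rw [eq_top_iff, ← Ideal.map_top (algebraMap D B₂),
      ← PopAux.singularIdeal_eq_top_of_smooth (R := R) (B := D)]
    exact hsing
  exact ⟨B₂, inferInstance, inferInstance, PopAux.smooth_of_singularIdeal_eq_top htop, α₂.comp α, β₂,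
    by rw [← AlgHom.comp_assoc, hαβ₂, hαβ]⟩

end Groth.Agent.Lib.T2H8.PopStep
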