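import Mathlib
import Groth.Agent.Lib.T2H8PopStep

/-!
# Popescu's theorem (factorization form) (helper for S0595)
-/

set_option autoImplicit false
universe u

namespace Groth.Agent.Lib.T2H8.PopMain

open TensorProduct Groth.Agent.Lib.T2H8

theorem popescu (R Λ : Type u) [CommRing R] [IsNoetherianRing R] [CommRing Λ] [IsNoetherianRing Λ]
    [Algebra R Λ] (hreg : CAlg.IsRegularHom R Λ) : Smoothing.IndSmooth R Λ := by
  have key : ∀ I : Ideal R, ∀ (R' : Type u) [CommRing R'] (π : R →+* R'), Function.Surjective π →
      RingHom.ker π = I → ∀ (Λ' : Type u) [CommRing Λ'] [IsNoetherianRing Λ'] [Algebra R' Λ'],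
      CAlg.IsRegularHom R' Λ' → Smoothing.IndSmooth R' Λ' := by
    intro I
    induction I using WellFoundedGT.induction with
    | ind I IH =>
      intro R' _ π hsurj hker Λ' _ _ _ hreg'
      haveI : IsNoetherianRing R' := isNoetherianRing_of_surjective R R' π hsurj
      refine PopStep.step R' Λ' hreg' fun J' hJ' => ?_
      have hlt : I < J'.comap π := by
        rw [← hker]
        refine lt_of_le_of_ne (Ideal.comap_mono bot_le) fun heq => hJ' ?_
        rw [eq_bot_iff]
        intro x hx
        obtain ⟨r, rfl⟩ := hsurj x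
        have h1 : r ∈ J'.comap π := hx
        rw [← heq] at h1
        exact h1
      refine IH (J'.comap π) hlt (R' ⧸ J') ((Ideal.Quotient.mk J').comp π)
        (Ideal.Quotient.mk_surjective.comp hsurj) ?_ (Λ' ⧸ J'.map (algebraMap R' Λ'))
        (PopAux.isRegularHom_quotient hreg' J')
      rw [← RingHom.comap_ker, Ideal.mk_ker]
  exact key ⊥ R (RingHom.id R) Function.surjective_id (RingHom.ker_eq_bot_iff_eq_zero _ |>.mpr fun _ h => h) Λ hreg

end Groth.Agent.Lib.T2H8.PopMain
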