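import Mathlib
import Groth.Agent.S0536
import Groth.Agent.S0525
import Groth.Agent.Lib.Helper19ComplNoeth
import Groth.Agent.Lib.T2H8PopMain

/-!
# Approximation for Henselian pairs with regular completion map (S0597)
-/

set_option autoImplicit false
universe u

namespace Groth.Agent.Lib.T2H8.ApproxPair

open TensorProduct MvPolynomial

theorem evalₐ_eq_zero_iff {A : Type u} [CommRing A] (I : Ideal A) (hfg : I.FG) (n : ℕ)
    (x : AdicCompletion I A) :
    AdicCompletion.evalₐ I n x = 0 ↔ x ∈ (I ^ n).map (algebraMap A (AdicCompletion I A)) := by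
  rw [← Submodule.restrictScalars_mem A, ← Ideal.smul_top_eq_map,
    AdicCompletion.pow_smul_top_eq_ker_eval hfg, LinearMap.mem_ker]
  constructor
  · intro h
    rw [← AdicCompletion.factor_evalₐ_eq_eval I x (le_of_eq (Ideal.mul_top _).symm),
      h, map_zero]
  · intro h
    rw [← AdicCompletion.factor_eval_eq_evalₐ I x (le_of_eq (Ideal.mul_top _)),
      h, map_zero]

/-- Abstract form: approximation from ind-smoothness. -/
theorem approx_of_indSmooth (A : Type u) [CommRing A] (I : Ideal A) (hfg : I.FG) [HenselianRing A I]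
    (hind : Smoothing.IndSmooth A (AdicCompletion I A)) (n m : ℕ)
    (F : Fin m → MvPolynomial (Fin n) A) (a : Fin n → (AdicCompletion I A))
    (ha : ∀ j, MvPolynomial.eval a (MvPolynomial.map (algebraMap A (AdicCompletion I A)) (F j)) = 0)
    (N : ℕ) :
    ∃ b : Fin n → A, (∀ j, MvPolynomial.eval b (F j) = 0) ∧
      ∀ i, a i - algebraMap A (AdicCompletion I A) (b i) ∈
        (I ^ N).map (algebraMap A (AdicCompletion I A)) := by
  classical
  let K : Ideal (MvPolynomial (Fin n) A) := Ideal.span (Set.range F)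
  haveI : Algebra.FinitePresentation A (MvPolynomial (Fin n) A ⧸ K) :=
    Algebra.FinitePresentation.quotient (Submodule.fg_span (Set.finite_range F))
  let f₀ : MvPolynomial (Fin n) A →ₐ[A] AdicCompletion I A := aeval a
  have hf₀ : ∀ x ∈ K, f₀ x = 0 := by
    intro x hx
    have hle : K ≤ RingHom.ker f₀.toRingHom := by
      rw [Ideal.span_le]
      rintro _ ⟨j, rfl⟩
      show aeval a (F j) = 0
      rw [aeval_def, ← eval_map]
      exact ha j
    exact hle hx
  let f : (MvPolynomial (Fin n) A ⧸ K) →ₐ[A] AdicCompletion I A := Ideal.Quotient.liftₐ K f₀ hf₀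
  obtain ⟨C, _, _, hC, g, h, hcomp⟩ := hind (MvPolynomial (Fin n) A ⧸ K) inferInstance f
  haveI := hC
  haveI hH : HenselianRing A (I ^ (N + 1)) :=
    (Groth.Agent.S0525.result A I (I ^ (N + 1))
      (Ideal.radical_pow I (Nat.succ_ne_zero N)).symm).mp inferInstance
  obtain ⟨τ, hτ⟩ := Groth.Agent.S0536.result A C A (I ^ (N + 1))
    ((AdicCompletion.evalₐ I (N + 1)).comp h)
  let c : Fin n → C := fun i => g (Ideal.Quotient.mk K (X i))
  refine ⟨fun i => τ (c i), ?_, ?_⟩
  · intro j
    have h1 : (τ.comp (g.comp (Ideal.Quotient.mkₐ A K))) = aeval (fun i => τ (c i)) := by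
      apply MvPolynomial.algHom_ext
      intro i
      rw [aeval_X]
      rfl
    have h2 : MvPolynomial.eval (fun i => τ (c i)) (F j) = aeval (fun i => τ (c i)) (F j) :=
      rfl
    rw [h2, ← h1]
    show τ (g (Ideal.Quotient.mk K (F j))) = 0
    have h3 : Ideal.Quotient.mk K (F j) = 0 :=
      Ideal.Quotient.eq_zero_iff_mem.mpr (Ideal.subset_span ⟨j, rfl⟩)
    rw [h3, map_zero, map_zero]
  · intro i
    have h1 : a i = h (c i) := by
      have := DFunLike.congr_fun hcomp (Ideal.Quotient.mk K (X i))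
      show a i = h (g (Ideal.Quotient.mk K (X i)))
      rw [show h (g (Ideal.Quotient.mk K (X i))) = f (Ideal.Quotient.mk K (X i)) from this]
      show a i = f₀ (X i)
      exact (aeval_X a i).symm
    have h2 : Ideal.Quotient.mk (I ^ (N + 1)) (τ (c i)) = AdicCompletion.evalₐ I (N + 1) (h (c i)) :=
      DFunLike.congr_fun hτ (c i)
    have h3 : AdicCompletion.evalₐ I (N + 1) (a i - algebraMap A (AdicCompletion I A) (τ (c i))) = 0 := by
      rw [map_sub, AlgHom.commutes, h1, ← h2]
      exact sub_self _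
    have h4 := (evalₐ_eq_zero_iff I hfg (N + 1) _).mp h3
    exact Ideal.map_mono (Ideal.pow_le_pow_right (Nat.le_succ N)) h4

theorem approx (A : Type u) [CommRing A] [IsNoetherianRing A]
    (I : Ideal A) [HenselianRing A I] (hreg : CAlg.IsRegularHom A (AdicCompletion I A)) (n m : ℕ)
    (F : Fin m → MvPolynomial (Fin n) A) (a : Fin n → (AdicCompletion I A))
    (ha : ∀ j, MvPolynomial.eval a (MvPolynomial.map (algebraMap A (AdicCompletion I A)) (F j)) = 0)
    (N : ℕ) :
    ∃ b : Fin n → A, (∀ j, MvPolynomial.eval b (F j) = 0) ∧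
      ∀ i, a i - algebraMap A (AdicCompletion I A) (b i) ∈
        (I ^ N).map (algebraMap A (AdicCompletion I A)) := by
  haveI : IsNoetherianRing (AdicCompletion I A) :=
    Groth.Agent.Lib.Helper19.isNoetherianRing_adicCompletion I
  exact approx_of_indSmooth A I (Ideal.fg_of_isNoetherianRing I)
    (Groth.Agent.Lib.T2H8.PopMain.popescu A _ hreg) n m F a ha N

end Groth.Agent.Lib.T2H8.ApproxPair
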