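import Mathlib
import Groth.Agent.Lib.Helper20FPD
import Groth.Agent.Lib.T2H8ApproxPair

/-!
# Artin approximation for functors preserving filtered colimits (S13503, S14050)
-/

set_option autoImplicit false
universe u

namespace Groth.Agent.Lib.T2H8.ApproxFun

open CategoryTheory Limits

/-- the morphism of `Under A` attached to an algebra hom -/
noncomputable def underHom {A B C : Type u} [CommRing A] [CommRing B] [CommRing C] [Algebra A B]
    [Algebra A C] (f : B →ₐ[A] C) :
    Under.mk (CommRingCat.ofHom (algebraMap A B)) ⟶ Under.mk (CommRingCat.ofHom (algebraMap A C)) :=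
  Under.homMk (CommRingCat.ofHom f.toRingHom) (by
    ext a
    exact f.commutes a)

/-- an element of the value of a functor preserving filtered colimits comes from a finitely
presented algebra -/
theorem exists_fp_of_preserves (A Bh : Type u) [CommRing A] [CommRing Bh] [Algebra A Bh]
    (Φ : Under (CommRingCat.of A) ⥤ Type u)
    (hΦ : ∀ (J : Type u) [SmallCategory J] [IsFiltered J], PreservesColimitsOfShape J Φ)
    (ξ : Φ.obj (Under.mk (CommRingCat.ofHom (algebraMap A Bh)))) :
    ∃ (B : Type u) (_ : CommRing B) (_ : Algebra A B) (_ : Algebra.FinitePresentation A B)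
      (f : B →ₐ[A] Bh) (ξB : Φ.obj (Under.mk (CommRingCat.ofHom (algebraMap A B)))),
      Φ.map (underHom f) ξB = ξ := by
  classical
  let Good : ∀ (C : Type u) [CommRing C], (A →+* C) → Prop := fun _ _ _ => True
  have hkey : ∀ d : Groth.Agent.Lib.Helper20.FPD.D A Bh, Groth.Agent.Lib.Helper20.FPD.Rel d →
      ∃ d' : Groth.Agent.Lib.Helper20.FPD.D A Bh, Groth.Agent.Lib.Helper20.FPD.le d d' ∧
        Groth.Agent.Lib.Helper20.FPD.Rel d' ∧
        Good (Groth.Agent.Lib.Helper20.FPD.Q d') (algebraMap A (Groth.Agent.Lib.Helper20.FPD.Q d')) :=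
    fun d hd => ⟨d, Groth.Agent.Lib.Helper20.FPD.le_refl' d, hd, trivial⟩
  haveI : IsFiltered (Groth.Agent.Lib.Helper20.FPD.J A Bh Good) :=
    Groth.Agent.Lib.Helper20.FPD.isFiltered_J hkey
  haveI := hΦ (Groth.Agent.Lib.Helper20.FPD.J A Bh Good)
  have hcol := isColimitOfPreserves Φ (Groth.Agent.Lib.Helper20.FPD.isColimitCocone hkey)
  obtain ⟨j, y, hy⟩ := Types.jointly_surjective_of_isColimit hcol ξ
  exact ⟨Groth.Agent.Lib.Helper20.FPD.Q j.1, inferInstance, inferInstance,
    Groth.Agent.Lib.Helper20.FPD.finitePresentation_Q j.1,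
    Groth.Agent.Lib.Helper20.FPD.iota j.1 j.2.1, y, hy⟩

/-- abstract approximation for a Henselian pair whose completion is ind-smooth -/
theorem approx_hens (A : Type u) [CommRing A] (I : Ideal A) [HenselianRing A I]
    (hind : Smoothing.IndSmooth A (AdicCompletion I A)) (B : Type u) [CommRing B] [Algebra A B]
    [Algebra.FinitePresentation A B] (f : B →ₐ[A] AdicCompletion I A) (n : ℕ) (hn : 1 ≤ n) :
    ∃ σ : B →ₐ[A] A, ∀ x, Ideal.Quotient.mk (I ^ n) (σ x) = AdicCompletion.evalₐ I n (f x) := by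
  obtain ⟨C, _, _, hC, g, h, hcomp⟩ := hind B inferInstance f
  haveI := hC
  haveI hH : HenselianRing A (I ^ n) :=
    (Groth.Agent.S0525.result A I (I ^ n)
      (Ideal.radical_pow I (by omega)).symm).mp inferInstance
  obtain ⟨τ, hτ⟩ := Groth.Agent.S0536.result A C A (I ^ n) ((AdicCompletion.evalₐ I n).comp h)
  refine ⟨τ.comp g, fun x => ?_⟩
  have h1 := DFunLike.congr_fun hτ (g x)
  have h2 : h (g x) = f x := DFunLike.congr_fun hcomp x
  show Ideal.Quotient.mk (I ^ n) (τ (g x)) = _
  rw [← h2]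
  exact h1

theorem functor_approx (A : Type u) [CommRing A] (I : Ideal A) [HenselianRing A I]
    (hind : Smoothing.IndSmooth A (AdicCompletion I A))
    (Φ : Under (CommRingCat.of A) ⥤ Type u)
    (hΦ : ∀ (J : Type u) [SmallCategory J] [IsFiltered J], PreservesColimitsOfShape J Φ)
    (n : ℕ) (hn : 1 ≤ n)
    (π : Under.mk (CommRingCat.ofHom (algebraMap A (AdicCompletion I A))) ⟶
      Under.mk (CommRingCat.ofHom (algebraMap A (A ⧸ I ^ n))))
    (hπ : π.right = CommRingCat.ofHom
      (AdicCompletion.evalₐ I n : AdicCompletion I A →ₐ[A] A ⧸ I ^ n).toRingHom)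
    (ρ : Under.mk (𝟙 (CommRingCat.of A)) ⟶
      Under.mk (CommRingCat.ofHom (algebraMap A (A ⧸ I ^ n))))
    (ξ : Φ.obj (Under.mk (CommRingCat.ofHom (algebraMap A (AdicCompletion I A))))) :
    ∃ η : Φ.obj (Under.mk (𝟙 (CommRingCat.of A))), Φ.map ρ η = Φ.map π ξ := by
  obtain ⟨B, _, _, hB, f, ξB, hξB⟩ := exists_fp_of_preserves A (AdicCompletion I A) Φ hΦ ξ
  haveI := hB
  obtain ⟨σ, hσ⟩ := approx_hens A I hind B f n hn
  let σU : Under.mk (CommRingCat.ofHom (algebraMap A B)) ⟶ Under.mk (𝟙 (CommRingCat.of A)) :=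
    Under.homMk (CommRingCat.ofHom σ.toRingHom) (by
      ext a
      exact σ.commutes a)
  refine ⟨Φ.map σU ξB, ?_⟩
  rw [← hξB]
  have hcomp : σU ≫ ρ = underHom f ≫ π := by
    apply Under.UnderMorphism.ext
    have hρ : ρ.right = CommRingCat.ofHom (algebraMap A (A ⧸ I ^ n)) := by
      have := Under.w ρ
      simpa using this
    show CommRingCat.ofHom σ.toRingHom ≫ ρ.right = CommRingCat.ofHom f.toRingHom ≫ π.right
    rw [hρ, hπ]
    apply CommRingCat.hom_ext
    refine RingHom.ext fun x => ?_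
    exact hσ x
  rw [← FunctorToTypes.map_comp_apply, ← FunctorToTypes.map_comp_apply, hcomp]

end Groth.Agent.Lib.T2H8.ApproxFun
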