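import Mathlib
import Groth.Agent.Lib.T2H8ApproxPair
import Groth.Agent.Lib.Helper7ExcLoc

/-!
# Artin approximation for Henselian local G-rings (S0596)
-/

set_option autoImplicit false
universe u

namespace Groth.Agent.Lib.T2H8.ApproxLocal

open IsLocalRing

/-- the completion map of a local G-ring is regular -/
theorem isRegularHom_cpl_of_isGRing (R : Type u) [CommRing R] [IsLocalRing R]
    (hG : CAlg.IsGRing R) : CAlg.IsRegularHom R (AdicCompletion (maximalIdeal R) R) := by
  haveI := hG.1
  haveI : IsNoetherianRing (Localization.AtPrime (maximalIdeal R)) :=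
    IsLocalization.isNoetherianRing (maximalIdeal R).primeCompl _ inferInstance
  have hunits : (maximalIdeal R).primeCompl ≤ IsUnit.submonoid R := by
    intro x hx
    have h1 : x ∉ maximalIdeal R := hx
    rw [IsLocalRing.mem_maximalIdeal, mem_nonunits_iff, not_not] at h1
    exact h1
  let e : R ≃+* Localization.AtPrime (maximalIdeal R) :=
    (IsLocalization.atUnits R (maximalIdeal R).primeCompl
      (S := Localization.AtPrime (maximalIdeal R)) hunits).toRingEquiv
  exact Groth.Agent.Lib.Helper7.ExcLoc.isRegularHom_cpl_of_ringEquiv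
    (Localization.AtPrime (maximalIdeal R)) R e (hG.2 (maximalIdeal R))

theorem approx (R : Type u) [CommRing R] [HenselianLocalRing R]
    (hG : CAlg.IsGRing R) (n m : ℕ) (F : Fin m → MvPolynomial (Fin n) R)
    (a : Fin n → (AdicCompletion (IsLocalRing.maximalIdeal R) R))
    (ha : ∀ j, MvPolynomial.eval a (MvPolynomial.map (algebraMap R (AdicCompletion (IsLocalRing.maximalIdeal R) R)) (F j)) = 0) (N : ℕ) :
    ∃ b : Fin n → R, (∀ j, MvPolynomial.eval b (F j) = 0) ∧
      ∀ i, a i - algebraMap R (AdicCompletion (IsLocalRing.maximalIdeal R) R) (b i) ∈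
        (IsLocalRing.maximalIdeal R ^ N).map (algebraMap R (AdicCompletion (IsLocalRing.maximalIdeal R) R)) := by
  haveI := hG.1
  exact Groth.Agent.Lib.T2H8.ApproxPair.approx R (maximalIdeal R)
    (isRegularHom_cpl_of_isGRing R hG) n m F a ha N

end Groth.Agent.Lib.T2H8.ApproxLocal
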