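import Mathlib
import Groth.Agent.Lib.T2H8ApproxLocal
import Groth.Agent.Lib.Helper3HzD
import Groth.Agent.Lib.Helper3HzE
import Groth.Agent.Lib.Helper22SpreadIso
import Groth.Agent.S0505
import Groth.Agent.S0507
import Groth.Agent.S0510

/-!
# Étale-local solutions approximating formal solutions over a local G-ring (S6825)
-/

set_option autoImplicit false
universe u

namespace Groth.Agent.Lib.T2H8.EtaleSol

open IsLocalRing MvPolynomial Groth.Agent.Lib.Helper3.Hz Groth.Agent.Lib.T2H8

/-- Part 1: a smooth algebra through which the formal solution factors, and a lift to the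
henselization congruent modulo `m^(N+1)`. -/
theorem exists_lift_henselization {R : Type u} [CommRing R] [IsLocalRing R] (hG : CAlg.IsGRing R)
    {n m : ℕ} (F : Fin m → MvPolynomial (Fin n) R)
    (a : Fin n → AdicCompletion (maximalIdeal R) R) (ha : ∀ j, aeval a (F j) = 0) (N : ℕ) :
    ∃ (gS : Rh R →ₐ[R] AdicCompletion (maximalIdeal R) R) (z : Fin n → Rh R),
      (∀ j, aeval z (F j) = 0) ∧
      ∀ i, a i - gS (z i) ∈ (maximalIdeal R ^ (N + 1)).map
        (algebraMap R (AdicCompletion (maximalIdeal R) R)) := by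
  classical
  haveI := hG.1
  have hfg : (maximalIdeal R).FG := (maximalIdeal R).fg_of_isNoetherianRing
  have hreg := ApproxLocal.isRegularHom_cpl_of_isGRing R hG
  haveI : IsNoetherianRing (AdicCompletion (maximalIdeal R) R) :=
    Groth.Agent.Lib.Helper19.isNoetherianRing_adicCompletion _
  have hind := PopMain.popescu R (AdicCompletion (maximalIdeal R) R) hreg
  -- the algebra `B`
  let K : Ideal (MvPolynomial (Fin n) R) := Ideal.span (Set.range F)
  haveI : Algebra.FinitePresentation R (MvPolynomial (Fin n) R ⧸ K) :=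
    Algebra.FinitePresentation.quotient (Submodule.fg_span (Set.finite_range F))
  let f₀ : MvPolynomial (Fin n) R →ₐ[R] AdicCompletion (maximalIdeal R) R := aeval a
  have hf₀ : ∀ x ∈ K, f₀ x = 0 := by
    intro x hx
    have hle : K ≤ RingHom.ker f₀.toRingHom := by
      rw [Ideal.span_le]
      rintro _ ⟨j, rfl⟩
      exact ha j
    exact hle hx
  let f : (MvPolynomial (Fin n) R ⧸ K) →ₐ[R] AdicCompletion (maximalIdeal R) R :=
    Ideal.Quotient.liftₐ K f₀ hf₀
  obtain ⟨C, _, _, hC, g, h, hcomp⟩ := hind (MvPolynomial (Fin n) R ⧸ K) inferInstance f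
  haveI := hC
  let c : Fin n → C := fun i => g (Ideal.Quotient.mk K (X i))
  have hac : ∀ i, a i = h (c i) := by
    intro i
    have h1 := DFunLike.congr_fun hcomp (Ideal.Quotient.mk K (X i))
    show a i = h (g (Ideal.Quotient.mk K (X i)))
    rw [show h (g (Ideal.Quotient.mk K (X i))) = f (Ideal.Quotient.mk K (X i)) from h1]
    show a i = f₀ (X i)
    exact (aeval_X a i).symm
  have hFc : ∀ j, aeval c (F j) = 0 := by
    intro j
    have h1 : (g.comp (Ideal.Quotient.mkₐ R K)) = aeval c := by
      apply MvPolynomial.algHom_ext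
      intro i
      rw [aeval_X]
      rfl
    rw [← h1]
    show g (Ideal.Quotient.mk K (F j)) = 0
    have h3 : Ideal.Quotient.mk K (F j) = 0 :=
      Ideal.Quotient.eq_zero_iff_mem.mpr (Ideal.subset_span ⟨j, rfl⟩)
    rw [h3, map_zero]
  -- the henselization
  haveI hS : Hensel.IsHenselization R (Rh R) := isHenselization
  haveI : HenselianLocalRing (Rh R) := henselian
  have hmax : (maximalIdeal R).map (algebraMap R (Rh R)) = maximalIdeal (Rh R) :=
    Groth.Agent.S0507.result R (Rh R)
  obtain ⟨I', hI'def⟩ : ∃ I' : Ideal (Rh R), I' = (maximalIdeal R ^ (N + 1)).map (algebraMap R (Rh R)) :=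
    ⟨_, rfl⟩
  have hI' : I' = maximalIdeal (Rh R) ^ (N + 1) := by rw [hI'def, ← hmax, Ideal.map_pow]
  haveI : HenselianRing (Rh R) I' :=
    (Groth.Agent.S0525.result (Rh R) (maximalIdeal (Rh R)) I'
      (by rw [hI', Ideal.radical_pow _ (Nat.succ_ne_zero N)])).mp inferInstance
  have hle : maximalIdeal R ^ (N + 1) ≤ I'.comap (Algebra.ofId R (Rh R)) := by
    rw [hI'def]
    exact Ideal.le_comap_map
  let e : (R ⧸ maximalIdeal R ^ (N + 1)) →ₐ[R] (Rh R ⧸ I') :=
    Ideal.quotientMapₐ I' (Algebra.ofId R (Rh R)) hle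
  have he : Function.Injective e := by
    subst hI'def
    exact (Groth.Agent.S0510.result R (Rh R) (N + 1)).1
  let σb : C →ₐ[R] (Rh R ⧸ I') := e.comp ((AdicCompletion.evalₐ (maximalIdeal R) (N + 1)).comp h)
  obtain ⟨τ, hτ⟩ := Groth.Agent.S0536.result R C (Rh R) I' σb
  -- the map from the henselization to the completion
  haveI : IsAdicComplete (maximalIdeal (AdicCompletion (maximalIdeal R) R))
      (AdicCompletion (maximalIdeal R) R) := AdicCompletion.isAdicComplete_of_fg hfg
  haveI : HenselianLocalRing (AdicCompletion (maximalIdeal R) R) :=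
    { is_henselian := fun p hp a₀ h₁ h₂ =>
        HenselianRing.is_henselian (I := maximalIdeal (AdicCompletion (maximalIdeal R) R)) p hp a₀ h₁
          (h₂.map _) }
  obtain ⟨gS, hgS, -⟩ := hS.universal (AdicCompletion (maximalIdeal R) R)
    (algebraMap R (AdicCompletion (maximalIdeal R) R)) inferInstance
  let gSₐ : Rh R →ₐ[R] AdicCompletion (maximalIdeal R) R :=
    { gS with commutes' := fun r => RingHom.congr_fun hgS r }
  -- the key comparison
  have hkey : ∀ z : Rh R, Ideal.Quotient.mk I' z =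
      e (AdicCompletion.evalₐ (maximalIdeal R) (N + 1) (gS z)) := by
    have hne : I' ≠ ⊤ := by
      rw [hI']
      intro htop
      have h1 : maximalIdeal (Rh R) ^ (N + 1) ≤ maximalIdeal (Rh R) := Ideal.pow_le_self (Nat.succ_ne_zero N)
      rw [htop, top_le_iff] at h1
      exact (maximalIdeal.isMaximal (Rh R)).ne_top h1
    haveI : Nontrivial (Rh R ⧸ I') := Ideal.Quotient.nontrivial_iff.mpr hne
    haveI : IsLocalRing (Rh R ⧸ I') :=
      IsLocalRing.of_surjective' (Ideal.Quotient.mk I') Ideal.Quotient.mk_surjective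
    haveI : HenselianLocalRing (Rh R ⧸ I') := Groth.Agent.S0505.result (Rh R) (Rh R ⧸ I')
    haveI hloc1 : IsLocalHom (Ideal.Quotient.mk I') :=
      IsLocalHom.of_surjective _ Ideal.Quotient.mk_surjective
    let f1 : R →+* (Rh R ⧸ I') := (Ideal.Quotient.mk I').comp (algebraMap R (Rh R))
    haveI hf1 : IsLocalHom f1 := RingHom.isLocalHom_comp _ _
    obtain ⟨g0, -, huniq⟩ := hS.universal (Rh R ⧸ I') f1 hf1
    have h1 : Ideal.Quotient.mk I' = g0 := huniq _ rfl
    have h2 : (e.toRingHom.comp
        ((AdicCompletion.evalₐ (maximalIdeal R) (N + 1)).toRingHom.comp gS)) = g0 := by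
      apply huniq
      ext r
      show e (AdicCompletion.evalₐ _ _ (gS (algebraMap R (Rh R) r))) =
        Ideal.Quotient.mk I' (algebraMap R (Rh R) r)
      have h3 : gS (algebraMap R (Rh R) r) = algebraMap R _ r := RingHom.congr_fun hgS r
      rw [h3, AlgHom.commutes, AlgHom.commutes]
      rfl
    intro z
    exact (RingHom.congr_fun h1 z).trans (RingHom.congr_fun h2 z).symm
  have hcong : ∀ x : C, h x - gS (τ x) ∈ (maximalIdeal R ^ (N + 1)).map
      (algebraMap R (AdicCompletion (maximalIdeal R) R)) := by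
    intro x
    rw [← ApproxPair.evalₐ_eq_zero_iff _ hfg, map_sub, sub_eq_zero]
    apply he
    rw [← hkey (τ x)]
    exact (DFunLike.congr_fun hτ x).symm
  refine ⟨gSₐ, fun i => τ (c i), ?_, ?_⟩
  · intro j
    rw [← MvPolynomial.comp_aeval_apply, hFc, map_zero]
  · intro i
    rw [hac]
    exact hcong (c i)

theorem main {R : Type u} [CommRing R] [IsLocalRing R] (hG : CAlg.IsGRing R)
    {n m : ℕ} (F : Fin m → MvPolynomial (Fin n) R)
    (a : Fin n → AdicCompletion (IsLocalRing.maximalIdeal R) R) (ha : ∀ j, MvPolynomial.aeval a (F j) = 0)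
    (N : ℕ) :
    ∃ (R' : Type u) (_ : CommRing R') (_ : Algebra R R'), Algebra.Etale R R' ∧
      ∃ (ψ : R' →ₐ[R] AdicCompletion (IsLocalRing.maximalIdeal R) R) (m' : Ideal R'), m'.IsMaximal ∧
        m'.comap (algebraMap R R') = IsLocalRing.maximalIdeal R ∧
        (∀ x : R', ∃ r : R, x - algebraMap R R' r ∈ m') ∧
        (∀ x ∈ m', ψ x ∈ (IsLocalRing.maximalIdeal R).map
          (algebraMap R (AdicCompletion (IsLocalRing.maximalIdeal R) R))) ∧
        ∃ b : Fin n → R', (∀ j, MvPolynomial.aeval b (F j) = 0) ∧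
          ∀ i, a i - ψ (b i) ∈ (IsLocalRing.maximalIdeal R ^ N).map
            (algebraMap R (AdicCompletion (IsLocalRing.maximalIdeal R) R)) := by
  classical
  haveI := hG.1
  obtain ⟨gS, z, hz, hza⟩ := exists_lift_henselization hG F a ha N
  -- a common stage
  obtain ⟨i, y, hy⟩ := exists_ofL_fin z
  have hzero : ∀ j, ofL i (aeval y (F j)) = 0 := by
    intro j
    have h1 : ofL i (aeval y (F j)) = ofLₐ i (aeval y (F j)) := rfl
    rw [h1, MvPolynomial.comp_aeval_apply]
    have h2 : (fun k => ofLₐ i (y k)) = z := funext hy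
    rw [h2, hz]
  have hex : ∀ j, ∃ (i' : Idx R) (hii' : i ≤ i'), fmap' i i' hii' (aeval y (F j)) = 0 :=
    fun j => ofL_eq_zero (hzero j)
  choose jj hjj hjj0 using hex
  obtain ⟨i', hi'⟩ := Finset.exists_le (insert i (Finset.univ.image jj))
  have hii' : i ≤ i' := hi' _ (Finset.mem_insert_self _ _)
  have hjji' : ∀ j, jj j ≤ i' := fun j =>
    hi' _ (Finset.mem_insert_of_mem (Finset.mem_image_of_mem _ (Finset.mem_univ j)))
  let y' : Fin n → i'.L := fun k => fmap i i' hii' (y k)
  have hy' : ∀ k, ofL i' (y' k) = z k := fun k => (ofL_fmap hii' (y k)).trans (hy k)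
  have hFy' : ∀ j, aeval y' (F j) = 0 := by
    intro j
    have h1 : aeval y' (F j) = fmap i i' hii' (aeval y (F j)) :=
      (MvPolynomial.comp_aeval_apply y (fmap i i' hii') (F j)).symm
    rw [h1]
    have h2 : fmap i i' hii' = (fmap (jj j) i' (hjji' j)).comp (fmap i (jj j) (hjj j)) :=
      Subsingleton.elim _ _
    rw [h2, AlgHom.comp_apply]
    have h3 : fmap i (jj j) (hjj j) (aeval y (F j)) = 0 := hjj0 j
    rw [h3, map_zero]
  -- the finitely presented algebra and its map to the local ring
  let K : Ideal (MvPolynomial (Fin n) R) := Ideal.span (Set.range F)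
  haveI : Algebra.FinitePresentation R (MvPolynomial (Fin n) R ⧸ K) :=
    Algebra.FinitePresentation.quotient (Submodule.fg_span (Set.finite_range F))
  have hK : ∀ x ∈ K, (aeval y' : MvPolynomial (Fin n) R →ₐ[R] i'.L) x = 0 := by
    intro x hx
    have hle : K ≤ RingHom.ker (aeval y' : MvPolynomial (Fin n) R →ₐ[R] i'.L).toRingHom := by
      rw [Ideal.span_le]
      rintro _ ⟨j, rfl⟩
      exact hFy' j
    exact hle hx
  let ψB : (MvPolynomial (Fin n) R ⧸ K) →ₐ[R] i'.L := Ideal.Quotient.liftₐ K (aeval y') hK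
  obtain ⟨t, ht, φ, hφ⟩ := Groth.Agent.Lib.Helper22.SpreadIso.exists_lift_away (R := R)
    (T := i'.C) (L := i'.L) i'.Q.primeCompl ψB
  have htunit : IsUnit (Algebra.ofId i'.C i'.L t) :=
    IsLocalization.map_units i'.L (⟨t, ht⟩ : i'.Q.primeCompl)
  let χ : Localization.Away t →ₐ[i'.C] i'.L :=
    IsLocalization.Away.liftAlgHom (f := Algebra.ofId i'.C i'.L) t htunit
  let χR : Localization.Away t →ₐ[R] i'.L := χ.restrictScalars R
  let ψ : Localization.Away t →ₐ[R] AdicCompletion (maximalIdeal R) R :=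
    gS.comp ((ofLₐ i').comp χR)
  let m' : Ideal (Localization.Away t) := (maximalIdeal i'.L).comap χR
  haveI : Algebra.Etale i'.C (Localization.Away t) := Algebra.Etale.of_isLocalizationAway t
  haveI : Algebra.Etale R (Localization.Away t) := Algebra.Etale.comp R i'.C _
  have hsub : ∀ x : Localization.Away t, ∃ r : R, x - algebraMap R _ r ∈ m' := by
    intro x
    obtain ⟨r, hr⟩ := i'.exists_sub_mem (χR x)
    refine ⟨r, ?_⟩
    show χR (x - algebraMap R _ r) ∈ maximalIdeal i'.L
    rw [map_sub, AlgHom.commutes]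
    exact hr
  have hlocR : (maximalIdeal i'.L).comap (algebraMap R i'.L) = maximalIdeal R :=
    ((IsLocalRing.local_hom_TFAE (algebraMap R i'.L)).out 0 4).mp (Idx.isLocalHom i')
  have hcomap : m'.comap (algebraMap R (Localization.Away t)) = maximalIdeal R := by
    rw [← hlocR]
    ext r
    show χR (algebraMap R _ r) ∈ maximalIdeal i'.L ↔ algebraMap R i'.L r ∈ maximalIdeal i'.L
    rw [AlgHom.commutes]
  have hmax : m'.IsMaximal := by
    rw [Ideal.isMaximal_iff]
    refine ⟨?_, ?_⟩
    · intro h1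
      have h2 : χR 1 ∈ maximalIdeal i'.L := h1
      rw [map_one] at h2
      exact (maximalIdeal.isMaximal _).ne_top ((Ideal.eq_top_iff_one _).mpr h2)
    · intro J x hJ hx hxJ
      obtain ⟨r, hr⟩ := hsub x
      have hr' : r ∉ maximalIdeal R := by
        intro hrm
        apply hx
        have h2 : algebraMap R (Localization.Away t) r ∈ m' := by
          rw [← hcomap] at hrm
          exact hrm
        have h3 := Ideal.add_mem _ hr h2
        rwa [sub_add_cancel] at h3
      have hru : IsUnit r := by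
        rw [IsLocalRing.mem_maximalIdeal, mem_nonunits_iff, not_not] at hr'
        exact hr'
      have h3 : algebraMap R (Localization.Away t) r ∈ J := by
        have h4 := Ideal.sub_mem J hxJ (hJ hr)
        rwa [sub_sub_cancel] at h4
      rw [← Ideal.eq_top_iff_one]
      exact Ideal.eq_top_of_isUnit_mem J h3 (hru.map _)
  have hψm : ∀ x ∈ m', ψ x ∈ (maximalIdeal R).map
      (algebraMap R (AdicCompletion (maximalIdeal R) R)) := by
    intro x hx
    have h1 : χR x ∈ maximalIdeal i'.L := hx
    have h2 : ofL i' (χR x) ∈ maximalIdeal (Rh R) := ofL_mem_maximalIdeal_iff.mpr h1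
    haveI hS : Hensel.IsHenselization R (Rh R) := isHenselization
    rw [← Groth.Agent.S0507.result R (Rh R)] at h2
    have h3 := Ideal.mem_map_of_mem gS.toRingHom h2
    rw [Ideal.map_map] at h3
    have h4 : gS.toRingHom.comp (algebraMap R (Rh R)) =
        algebraMap R (AdicCompletion (maximalIdeal R) R) := gS.comp_algebraMap
    rw [h4] at h3
    exact h3
  let b : Fin n → Localization.Away t := fun k => φ (Ideal.Quotient.mk K (X k))
  have hb : ∀ j, aeval b (F j) = 0 := by
    intro j
    have h1 : (φ.comp (Ideal.Quotient.mkₐ R K)) = aeval b := by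
      apply MvPolynomial.algHom_ext
      intro k
      rw [aeval_X]
      rfl
    rw [← h1]
    show φ (Ideal.Quotient.mk K (F j)) = 0
    have h3 : Ideal.Quotient.mk K (F j) = 0 :=
      Ideal.Quotient.eq_zero_iff_mem.mpr (Ideal.subset_span ⟨j, rfl⟩)
    rw [h3, map_zero]
  have hψb : ∀ k, ψ (b k) = gS (z k) := by
    intro k
    show gS (ofLₐ i' (χR (φ (Ideal.Quotient.mk K (X k))))) = _
    have h1 : χR (φ (Ideal.Quotient.mk K (X k))) = ψB (Ideal.Quotient.mk K (X k)) := hφ χ _
    rw [h1]
    have h2 : ψB (Ideal.Quotient.mk K (X k)) = y' k := by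
      show aeval y' (X k) = _
      exact aeval_X _ _
    rw [h2]
    show gS (ofL i' (y' k)) = _
    rw [hy']
  refine ⟨Localization.Away t, inferInstance, inferInstance, inferInstance, ψ, m', hmax, hcomap,
    hsub, hψm, b, hb, fun k => ?_⟩
  rw [hψb]
  exact Ideal.map_mono (Ideal.pow_le_pow_right (Nat.le_succ N)) (hza k)

end Groth.Agent.Lib.T2H8.EtaleSol
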