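import Mathlib
import Groth.Agent.Lib.T2H8EtaleSol
import Groth.Agent.Lib.T2H1Spread

/-!
# Étale solutions over a Noetherian ring whose localization at a prime is a G-ring (S6843)
-/

set_option autoImplicit false
universe u

namespace Groth.Agent.Lib.T2H8.EtaleSolLoc

open IsLocalRing MvPolynomial Groth.Agent.Lib.Helper3.Hz Groth.Agent.Lib.T2H8

/-- the formal solution is approximated by a solution in a stage of the henselization -/
theorem exists_stage {R : Type u} [CommRing R] [IsLocalRing R] (hG : CAlg.IsGRing R)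
    {n m : ℕ} (F : Fin m → MvPolynomial (Fin n) R)
    (a : Fin n → AdicCompletion (maximalIdeal R) R) (ha : ∀ j, aeval a (F j) = 0) (N : ℕ) :
    ∃ (gS : Rh R →ₐ[R] AdicCompletion (maximalIdeal R) R) (i : Idx R) (y : Fin n → i.L),
      (∀ j, aeval y (F j) = 0) ∧
      ∀ k, a k - gS (ofL i (y k)) ∈ (maximalIdeal R ^ (N + 1)).map
        (algebraMap R (AdicCompletion (maximalIdeal R) R)) := by
  classical
  haveI := hG.1
  obtain ⟨gS, z, hz, hza⟩ := EtaleSol.exists_lift_henselization hG F a ha N
  -- a common stage
  obtain ⟨i, y, hy⟩ := exists_ofL_fin z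
  have hzero : ∀ j, ofL i (aeval y (F j)) = 0 := by
    intro j
    have h1 : ofL i (aeval y (F j)) = ofLₐ i (aeval y (F j)) := rfl
    rw [h1, MvPolynomial.comp_aeval_apply]
    have h2 : (fun k => ofLₐ i (y k)) = z := funext hy
    rw [h2, hz]
  have hex : ∀ j, ∃ (i' : Idx R) (hii' : i ≤ i'), fmap' i i' hii' (aeval y (F j)) = 0 :=
    fun j => ofL_eq_zero (hzero j)
  choose jj hjj hjj0 using hex
  obtain ⟨i', hi'⟩ := Finset.exists_le (insert i (Finset.univ.image jj))
  have hii' : i ≤ i' := hi' _ (Finset.mem_insert_self _ _)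
  have hjji' : ∀ j, jj j ≤ i' := fun j =>
    hi' _ (Finset.mem_insert_of_mem (Finset.mem_image_of_mem _ (Finset.mem_univ j)))
  let y' : Fin n → i'.L := fun k => fmap i i' hii' (y k)
  have hy' : ∀ k, ofL i' (y' k) = z k := fun k => (ofL_fmap hii' (y k)).trans (hy k)
  have hFy' : ∀ j, aeval y' (F j) = 0 := by
    intro j
    have h1 : aeval y' (F j) = fmap i i' hii' (aeval y (F j)) :=
      (MvPolynomial.comp_aeval_apply y (fmap i i' hii') (F j)).symm
    rw [h1]
    have h2 : fmap i i' hii' = (fmap (jj j) i' (hjji' j)).comp (fmap i (jj j) (hjj j)) :=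
      Subsingleton.elim _ _
    rw [h2, AlgHom.comp_apply]
    have h3 : fmap i (jj j) (hjj j) (aeval y (F j)) = 0 := hjj0 j
    rw [h3, map_zero]
  refine ⟨gS, i', y', hFy', fun k => ?_⟩
  rw [hy']
  exact hza k

theorem aeval_map_algebraMap' {R A L : Type*} [CommRing R] [CommRing A] [CommRing L] [Algebra R A]
    [Algebra A L] [Algebra R L] [IsScalarTower R A L] {σ : Type*} (y : σ → L)
    (p : MvPolynomial σ R) :
    aeval y (MvPolynomial.map (algebraMap R A) p) = aeval y p := by
  rw [aeval_def, aeval_def, eval₂_map, ← IsScalarTower.algebraMap_eq]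

theorem main {R : Type u} [CommRing R] [IsNoetherianRing R]
    (p : Ideal R) [p.IsPrime] (hG : CAlg.IsGRing (Localization.AtPrime p)) {n m : ℕ}
    (F : Fin m → MvPolynomial (Fin n) R)
    (a : Fin n → AdicCompletion (IsLocalRing.maximalIdeal (Localization.AtPrime p)) (Localization.AtPrime p))
    (ha : ∀ j, MvPolynomial.aeval a (MvPolynomial.map (algebraMap R (Localization.AtPrime p)) (F j)) = 0) (N : ℕ) :
    ∃ (R' : Type u) (_ : CommRing R') (_ : Algebra R R'), Algebra.Etale R R' ∧
      ∃ (ψ : R' →+* AdicCompletion (IsLocalRing.maximalIdeal (Localization.AtPrime p)) (Localization.AtPrime p))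
        (p' : Ideal R'), p'.IsPrime ∧
        (∀ r : R, ψ (algebraMap R R' r) =
          algebraMap (Localization.AtPrime p) _ (algebraMap R (Localization.AtPrime p) r)) ∧
        p'.comap (algebraMap R R') = p ∧
        (∀ x : R', ∃ r s : R, s ∉ p ∧ algebraMap R R' s * x - algebraMap R R' r ∈ p') ∧
        (∀ x ∈ p', ψ x ∈ (IsLocalRing.maximalIdeal (Localization.AtPrime p)).map
          (algebraMap (Localization.AtPrime p)
            (AdicCompletion (IsLocalRing.maximalIdeal (Localization.AtPrime p)) (Localization.AtPrime p)))) ∧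
        ∃ b : Fin n → R', (∀ j, MvPolynomial.aeval b (F j) = 0) ∧
          ∀ i, a i - ψ (b i) ∈ (IsLocalRing.maximalIdeal (Localization.AtPrime p) ^ N).map
            (algebraMap (Localization.AtPrime p)
              (AdicCompletion (IsLocalRing.maximalIdeal (Localization.AtPrime p)) (Localization.AtPrime p))) := by
  classical
  obtain ⟨gS, i, y, hFy, hya⟩ := exists_stage hG
    (fun j => MvPolynomial.map (algebraMap R (Localization.AtPrime p)) (F j)) a ha N
  obtain ⟨D, _, _, ψD, hDet, hψD, hDloc⟩ :=
    Groth.Agent.Lib.T2H1.Spread.exists_etale_descent p (Localization.AtPrime p) i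
  haveI := hDet
  letI algDL : Algebra D i.L := ψD.toAlgebra
  letI algRL : Algebra R i.L :=
    ((algebraMap (Localization.AtPrime p) i.L).comp (algebraMap R (Localization.AtPrime p))).toAlgebra
  haveI towRAL : IsScalarTower R (Localization.AtPrime p) i.L :=
    IsScalarTower.of_algebraMap_eq (fun _ => rfl)
  haveI towRDL : IsScalarTower R D i.L :=
    IsScalarTower.of_algebraMap_eq (fun r => (RingHom.congr_fun hψD r).symm)
  haveI hP : ((maximalIdeal i.L).comap ψD).IsPrime := Ideal.comap_isPrime _ _
  haveI hloc : IsLocalization.AtPrime i.L ((maximalIdeal i.L).comap ψD) := hDloc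
  -- the finitely presented algebra
  let K : Ideal (MvPolynomial (Fin n) R) := Ideal.span (Set.range F)
  haveI : Algebra.FinitePresentation R (MvPolynomial (Fin n) R ⧸ K) :=
    Algebra.FinitePresentation.quotient (Submodule.fg_span (Set.finite_range F))
  have hFyR : ∀ j, (aeval y : MvPolynomial (Fin n) R →ₐ[R] i.L) (F j) = 0 := by
    intro j
    rw [← aeval_map_algebraMap' (A := Localization.AtPrime p)]
    exact hFy j
  have hK : ∀ x ∈ K, (aeval y : MvPolynomial (Fin n) R →ₐ[R] i.L) x = 0 := by
    intro x hx
    have hle : K ≤ RingHom.ker (aeval y : MvPolynomial (Fin n) R →ₐ[R] i.L).toRingHom := by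
      rw [Ideal.span_le]
      rintro _ ⟨j, rfl⟩
      exact hFyR j
    exact hle hx
  let ψB : (MvPolynomial (Fin n) R ⧸ K) →ₐ[R] i.L := Ideal.Quotient.liftₐ K (aeval y) hK
  obtain ⟨t, ht, φ, hφ⟩ := Groth.Agent.Lib.Helper22.SpreadIso.exists_lift_away (R := R)
    (T := D) (L := i.L) ((maximalIdeal i.L).comap ψD).primeCompl ψB
  have htunit : IsUnit (Algebra.ofId D i.L t) :=
    IsLocalization.map_units i.L (⟨t, ht⟩ : ((maximalIdeal i.L).comap ψD).primeCompl)
  let χ : Localization.Away t →ₐ[D] i.L :=
    IsLocalization.Away.liftAlgHom (f := Algebra.ofId D i.L) t htunit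
  let χR : Localization.Away t →ₐ[R] i.L := χ.restrictScalars R
  let ψ : Localization.Away t →+* AdicCompletion (maximalIdeal (Localization.AtPrime p)) (Localization.AtPrime p) :=
    gS.toRingHom.comp ((ofL i).comp χR.toRingHom)
  let p' : Ideal (Localization.Away t) := (maximalIdeal i.L).comap χR
  haveI : Algebra.Etale D (Localization.Away t) := Algebra.Etale.of_isLocalizationAway t
  haveI : Algebra.Etale R (Localization.Away t) := Algebra.Etale.comp R D _
  have hp' : p'.IsPrime := Ideal.comap_isPrime _ _
  have hψR : ∀ r : R, ψ (algebraMap R (Localization.Away t) r) =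
      algebraMap (Localization.AtPrime p) _ (algebraMap R (Localization.AtPrime p) r) := by
    intro r
    show gS (ofL i (χR (algebraMap R (Localization.Away t) r))) = _
    rw [AlgHom.commutes]
    show gS (ofL i (algebraMap (Localization.AtPrime p) i.L (algebraMap R (Localization.AtPrime p) r))) = _
    rw [← algebraMap_eq i, AlgHom.commutes]
  have hlocA : (maximalIdeal i.L).comap (algebraMap (Localization.AtPrime p) i.L) =
      maximalIdeal (Localization.AtPrime p) :=
    ((IsLocalRing.local_hom_TFAE (algebraMap (Localization.AtPrime p) i.L)).out 0 4).mp (Idx.isLocalHom i)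
  have hcomap : p'.comap (algebraMap R (Localization.Away t)) = p := by
    have h1 : (maximalIdeal (Localization.AtPrime p)).comap (algebraMap R (Localization.AtPrime p)) = p :=
      IsLocalization.AtPrime.comap_maximalIdeal (Localization.AtPrime p) p
    rw [← h1, ← hlocA]
    ext r
    show χR (algebraMap R _ r) ∈ maximalIdeal i.L ↔
      algebraMap (Localization.AtPrime p) i.L (algebraMap R (Localization.AtPrime p) r) ∈ maximalIdeal i.L
    rw [AlgHom.commutes]
    rfl
  have hsub : ∀ x : Localization.Away t, ∃ r s : R, s ∉ p ∧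
      algebraMap R (Localization.Away t) s * x - algebraMap R (Localization.Away t) r ∈ p' := by
    intro x
    obtain ⟨α, hα⟩ := i.exists_sub_mem (χR x)
    obtain ⟨⟨r, s⟩, hrs⟩ := IsLocalization.surj p.primeCompl α
    refine ⟨r, s.1, s.2, ?_⟩
    show χR (algebraMap R (Localization.Away t) s.1 * x - algebraMap R (Localization.Away t) r) ∈ maximalIdeal i.L
    rw [map_sub, map_mul, AlgHom.commutes, AlgHom.commutes]
    have h1 : algebraMap R i.L r = algebraMap (Localization.AtPrime p) i.L α * algebraMap R i.L s.1 := by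
      show algebraMap (Localization.AtPrime p) i.L (algebraMap R (Localization.AtPrime p) r) =
        algebraMap (Localization.AtPrime p) i.L α *
          algebraMap (Localization.AtPrime p) i.L (algebraMap R (Localization.AtPrime p) s.1)
      rw [← map_mul, hrs]
    rw [h1, mul_comm (algebraMap (Localization.AtPrime p) i.L α), ← mul_sub]
    exact Ideal.mul_mem_left _ _ hα
  have hψm : ∀ x ∈ p', ψ x ∈ (maximalIdeal (Localization.AtPrime p)).map
      (algebraMap (Localization.AtPrime p)
        (AdicCompletion (maximalIdeal (Localization.AtPrime p)) (Localization.AtPrime p))) := by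
    intro x hx
    have h1 : χR x ∈ maximalIdeal i.L := hx
    have h2 : ofL i (χR x) ∈ maximalIdeal (Rh (Localization.AtPrime p)) :=
      ofL_mem_maximalIdeal_iff.mpr h1
    haveI hS : Hensel.IsHenselization (Localization.AtPrime p) (Rh (Localization.AtPrime p)) :=
      isHenselization
    rw [← Groth.Agent.S0507.result (Localization.AtPrime p) (Rh (Localization.AtPrime p))] at h2
    have h3 := Ideal.mem_map_of_mem gS.toRingHom h2
    rw [Ideal.map_map] at h3
    have h4 : gS.toRingHom.comp (algebraMap (Localization.AtPrime p) (Rh (Localization.AtPrime p))) =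
        algebraMap (Localization.AtPrime p)
          (AdicCompletion (maximalIdeal (Localization.AtPrime p)) (Localization.AtPrime p)) :=
      gS.comp_algebraMap
    rw [h4] at h3
    exact h3
  let b : Fin n → Localization.Away t := fun k => φ (Ideal.Quotient.mk K (X k))
  have hb : ∀ j, aeval b (F j) = 0 := by
    intro j
    have h1 : (φ.comp (Ideal.Quotient.mkₐ R K)) = aeval b := by
      apply MvPolynomial.algHom_ext
      intro k
      rw [aeval_X]
      rfl
    rw [← h1]
    show φ (Ideal.Quotient.mk K (F j)) = 0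
    have h3 : Ideal.Quotient.mk K (F j) = 0 :=
      Ideal.Quotient.eq_zero_iff_mem.mpr (Ideal.subset_span ⟨j, rfl⟩)
    rw [h3, map_zero]
  have hψb : ∀ k, ψ (b k) = gS (ofL i (y k)) := by
    intro k
    show gS (ofL i (χR (φ (Ideal.Quotient.mk K (X k))))) = _
    have h1 : χR (φ (Ideal.Quotient.mk K (X k))) = ψB (Ideal.Quotient.mk K (X k)) := hφ χ _
    rw [h1]
    have h2 : ψB (Ideal.Quotient.mk K (X k)) = y k := by
      show aeval y (X k) = _
      exact aeval_X _ _
    rw [h2]
  refine ⟨Localization.Away t, inferInstance, inferInstance, inferInstance, ψ, p', hp', hψR, hcomap,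
    hsub, hψm, b, hb, fun k => ?_⟩
  rw [hψb]
  exact Ideal.map_mono (Ideal.pow_le_pow_right (Nat.le_succ N)) (hya k)

end Groth.Agent.Lib.T2H8.EtaleSolLoc
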