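import Mathlib
import Groth.Agent.Lib.T2H8ApproxFun
import Groth.Agent.Lib.T2H8EtaleSolLoc
import Groth.Agent.Lib.Helper7PolyGRing2
import Groth.Agent.S0600

/-!
# Artin approximation for functors at a maximal ideal of a G-ring (S18340)
-/

set_option autoImplicit false
universe u

namespace Groth.Agent.Lib.T2H8.ApproxMax

open CategoryTheory Limits IsLocalRing MvPolynomial Groth.Agent.Lib.Helper3.Hz Groth.Agent.Lib.T2H8

theorem isGRing_field (k : Type u) [Field k] : CAlg.IsGRing k := by
  refine ⟨inferInstance, fun p _ => ?_⟩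
  have hp : p = ⊥ := Ideal.eq_bot_of_prime p
  haveI : IsAdicComplete (maximalIdeal (Localization.AtPrime p)) (Localization.AtPrime p) := by
    have h1 : maximalIdeal (Localization.AtPrime p) = ⊥ := by
      rw [← Localization.AtPrime.map_eq_maximalIdeal, eq_bot_iff, Ideal.map_le_iff_le_comap]
      intro x hx
      have hx0 : x = 0 := by
        have h2 : x ∈ (⊥ : Ideal k) := hp ▸ hx
        exact h2
      rw [hx0]
      exact Ideal.zero_mem _
    rw [h1]
    infer_instance
  exact Groth.Agent.Lib.Helper7.QFFF.isRegularHom_cpl_of_isAdicComplete _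

/-- a finite family of elements of the henselization satisfying polynomial equations comes from
a stage where the equations hold -/
theorem exists_stage_of_fin {R : Type u} [CommRing R] [IsLocalRing R] {n m : ℕ}
    (F : Fin m → MvPolynomial (Fin n) R) (z : Fin n → Rh R) (hz : ∀ j, aeval z (F j) = 0) :
    ∃ (i : Idx R) (y : Fin n → i.L), (∀ j, aeval y (F j) = 0) ∧ ∀ k, ofL i (y k) = z k := by
  classical
  -- a common stage
  obtain ⟨i, y, hy⟩ := exists_ofL_fin z
  have hzero : ∀ j, ofL i (aeval y (F j)) = 0 := by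
    intro j
    have h1 : ofL i (aeval y (F j)) = ofLₐ i (aeval y (F j)) := rfl
    rw [h1, MvPolynomial.comp_aeval_apply]
    have h2 : (fun k => ofLₐ i (y k)) = z := funext hy
    rw [h2, hz]
  have hex : ∀ j, ∃ (i' : Idx R) (hii' : i ≤ i'), fmap' i i' hii' (aeval y (F j)) = 0 :=
    fun j => ofL_eq_zero (hzero j)
  choose jj hjj hjj0 using hex
  obtain ⟨i', hi'⟩ := Finset.exists_le (insert i (Finset.univ.image jj))
  have hii' : i ≤ i' := hi' _ (Finset.mem_insert_self _ _)
  have hjji' : ∀ j, jj j ≤ i' := fun j =>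
    hi' _ (Finset.mem_insert_of_mem (Finset.mem_image_of_mem _ (Finset.mem_univ j)))
  let y' : Fin n → i'.L := fun k => fmap i i' hii' (y k)
  have hy' : ∀ k, ofL i' (y' k) = z k := fun k => (ofL_fmap hii' (y k)).trans (hy k)
  have hFy' : ∀ j, aeval y' (F j) = 0 := by
    intro j
    have h1 : aeval y' (F j) = fmap i i' hii' (aeval y (F j)) :=
      (MvPolynomial.comp_aeval_apply y (fmap i i' hii') (F j)).symm
    rw [h1]
    have h2 : fmap i i' hii' = (fmap (jj j) i' (hjji' j)).comp (fmap i (jj j) (hjj j)) :=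
      Subsingleton.elim _ _
    rw [h2, AlgHom.comp_apply]
    have h3 : fmap i (jj j) (hjj j) (aeval y (F j)) = 0 := hjj0 j
    rw [h3, map_zero]
  exact ⟨i', y', hFy', hy'⟩

/-- abstract étale approximation at a maximal ideal of a G-ring -/
theorem approx_etale_max (A : Type u) [CommRing A] (hG : CAlg.IsGRing A) (m : Ideal A) [m.IsMaximal]
    (B : Type u) [CommRing B] [Algebra A B] [Algebra.FinitePresentation A B]
    (f : B →ₐ[A] AdicCompletion m A) (N : ℕ) :
    ∃ (A' : Type u) (_ : CommRing A') (_ : Algebra A A') (_ : Algebra.Etale A A')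
      (σ : B →ₐ[A] A') (ψ : A' →ₐ[A] A ⧸ m ^ (N + 1)),
      ∀ x : B, ψ (σ x) = AdicCompletion.evalₐ m (N + 1) (f x) := by
  classical
  haveI := hG.1
  have hreg := Groth.Agent.S0600.result A hG m
  haveI : IsNoetherianRing (AdicCompletion m A) :=
    Groth.Agent.Lib.Helper19.isNoetherianRing_adicCompletion _
  have hind := PopMain.popescu A (AdicCompletion m A) hreg
  obtain ⟨C, _, _, hC, g, h, hcomp⟩ := hind B inferInstance f
  haveI := hC
  -- the local ring and its henselization
  haveI : IsNoetherianRing (Localization.AtPrime m) :=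
    IsLocalization.isNoetherianRing m.primeCompl _ inferInstance
  letI algAS : Algebra A (Rh (Localization.AtPrime m)) :=
    ((algebraMap (Localization.AtPrime m) (Rh (Localization.AtPrime m))).comp
      (algebraMap A (Localization.AtPrime m))).toAlgebra
  haveI towAS : IsScalarTower A (Localization.AtPrime m) (Rh (Localization.AtPrime m)) :=
    IsScalarTower.of_algebraMap_eq (fun _ => rfl)
  haveI hS : Hensel.IsHenselization (Localization.AtPrime m) (Rh (Localization.AtPrime m)) :=
    isHenselization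
  haveI : HenselianLocalRing (Rh (Localization.AtPrime m)) := henselian
  have hmax : (maximalIdeal (Localization.AtPrime m)).map
      (algebraMap (Localization.AtPrime m) (Rh (Localization.AtPrime m))) =
      maximalIdeal (Rh (Localization.AtPrime m)) :=
    Groth.Agent.S0507.result (Localization.AtPrime m) (Rh (Localization.AtPrime m))
  obtain ⟨I', hI'def⟩ : ∃ I' : Ideal (Rh (Localization.AtPrime m)),
      I' = (maximalIdeal (Localization.AtPrime m) ^ (N + 1)).map
        (algebraMap (Localization.AtPrime m) (Rh (Localization.AtPrime m))) := ⟨_, rfl⟩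
  have hI' : I' = maximalIdeal (Rh (Localization.AtPrime m)) ^ (N + 1) := by
    rw [hI'def, ← hmax, Ideal.map_pow]
  haveI : HenselianRing (Rh (Localization.AtPrime m)) I' :=
    (Groth.Agent.S0525.result (Rh (Localization.AtPrime m))
      (maximalIdeal (Rh (Localization.AtPrime m))) I'
      (by rw [hI', Ideal.radical_pow _ (Nat.succ_ne_zero N)])).mp inferInstance
  have hle : maximalIdeal (Localization.AtPrime m) ^ (N + 1) ≤
      I'.comap (Algebra.ofId (Localization.AtPrime m) (Rh (Localization.AtPrime m))) := by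
    rw [hI'def]
    exact Ideal.le_comap_map
  let e₂ : (Localization.AtPrime m ⧸ maximalIdeal (Localization.AtPrime m) ^ (N + 1)) →ₐ[Localization.AtPrime m]
      (Rh (Localization.AtPrime m) ⧸ I') :=
    Ideal.quotientMapₐ I' (Algebra.ofId (Localization.AtPrime m) (Rh (Localization.AtPrime m))) hle
  have he₂ : Function.Bijective e₂ := by
    subst hI'def
    exact Groth.Agent.S0510.result (Localization.AtPrime m) (Rh (Localization.AtPrime m)) (N + 1)
  let e₁ : (A ⧸ m ^ (N + 1)) ≃ₐ[A] (Localization.AtPrime m ⧸ maximalIdeal (Localization.AtPrime m) ^ (N + 1)) :=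
    IsLocalization.AtPrime.equivQuotMaximalIdealPow m (Localization.AtPrime m) (N + 1)
  let e : (A ⧸ m ^ (N + 1)) →ₐ[A] (Rh (Localization.AtPrime m) ⧸ I') :=
    (e₂.restrictScalars A).comp e₁.toAlgHom
  have he : Function.Bijective e := he₂.comp e₁.bijective
  let σb : C →ₐ[A] (Rh (Localization.AtPrime m) ⧸ I') :=
    e.comp ((AdicCompletion.evalₐ m (N + 1)).comp h)
  obtain ⟨τ, hτ⟩ := Groth.Agent.S0536.result A C (Rh (Localization.AtPrime m)) I' σb
  -- a presentation of `B`
  obtain ⟨n, pres, hsurj, hker⟩ := Algebra.FinitePresentation.out (R := A) (A := B)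
  obtain ⟨mm, F, hF⟩ := Submodule.fg_iff_exists_fin_generating_family.mp hker
  have hFspan : Ideal.span (Set.range F) = RingHom.ker pres.toRingHom := hF
  have hFker : ∀ j, pres (F j) = 0 := by
    intro j
    have h1 : F j ∈ RingHom.ker pres.toRingHom := by
      rw [← hFspan]
      exact Ideal.subset_span ⟨j, rfl⟩
    exact h1
  let z : Fin n → Rh (Localization.AtPrime m) := fun k => τ (g (pres (X k)))
  have hτz : τ.comp (g.comp pres) = aeval z := by
    apply MvPolynomial.algHom_ext
    intro k
    rw [aeval_X]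
    rfl
  have hz : ∀ j, aeval z (MvPolynomial.map (algebraMap A (Localization.AtPrime m)) (F j)) = 0 := by
    intro j
    rw [EtaleSolLoc.aeval_map_algebraMap', ← hτz]
    show τ (g (pres (F j))) = 0
    rw [hFker, map_zero, map_zero]
  obtain ⟨i, y, hFy, hyz⟩ := exists_stage_of_fin
    (fun j => MvPolynomial.map (algebraMap A (Localization.AtPrime m)) (F j)) z hz
  -- spreading out
  obtain ⟨D, _, _, ψD, hDet, hψD, hDloc⟩ :=
    Groth.Agent.Lib.T2H1.Spread.exists_etale_descent m (Localization.AtPrime m) i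
  haveI := hDet
  letI algDL : Algebra D i.L := ψD.toAlgebra
  letI algAL : Algebra A i.L :=
    ((algebraMap (Localization.AtPrime m) i.L).comp (algebraMap A (Localization.AtPrime m))).toAlgebra
  haveI towAAL : IsScalarTower A (Localization.AtPrime m) i.L :=
    IsScalarTower.of_algebraMap_eq (fun _ => rfl)
  haveI towADL : IsScalarTower A D i.L :=
    IsScalarTower.of_algebraMap_eq (fun r => (RingHom.congr_fun hψD r).symm)
  haveI hP : ((maximalIdeal i.L).comap ψD).IsPrime := Ideal.comap_isPrime _ _
  haveI hloc : IsLocalization.AtPrime i.L ((maximalIdeal i.L).comap ψD) := hDloc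
  have hFyA : ∀ j, (aeval y : MvPolynomial (Fin n) A →ₐ[A] i.L) (F j) = 0 := by
    intro j
    rw [← EtaleSolLoc.aeval_map_algebraMap' (A := Localization.AtPrime m)]
    exact hFy j
  have hyker : ∀ x ∈ RingHom.ker pres.toRingHom,
      (aeval y : MvPolynomial (Fin n) A →ₐ[A] i.L) x = 0 := by
    intro x hx
    have hle2 : RingHom.ker pres.toRingHom ≤
        RingHom.ker (aeval y : MvPolynomial (Fin n) A →ₐ[A] i.L).toRingHom := by
      rw [← hFspan, Ideal.span_le]
      rintro _ ⟨j, rfl⟩
      exact hFyA j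
    exact hle2 hx
  let ψB : B →ₐ[A] i.L :=
    (Ideal.Quotient.liftₐ (RingHom.ker pres.toRingHom) (aeval y) hyker).comp
      (Ideal.quotientKerAlgEquivOfSurjective hsurj).symm.toAlgHom
  have hψB : ∀ p : MvPolynomial (Fin n) A, ψB (pres p) = aeval y p := by
    intro p
    have h1 : (Ideal.quotientKerAlgEquivOfSurjective hsurj).symm (pres p) =
        Ideal.Quotient.mk (RingHom.ker pres.toRingHom) p := by
      rw [AlgEquiv.symm_apply_eq]
      rfl
    show Ideal.Quotient.liftₐ (RingHom.ker pres.toRingHom) (aeval y) hyker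
      ((Ideal.quotientKerAlgEquivOfSurjective hsurj).symm (pres p)) = _
    rw [h1]
    rfl
  obtain ⟨t, ht, φ, hφ⟩ := Groth.Agent.Lib.Helper22.SpreadIso.exists_lift_away (R := A)
    (T := D) (L := i.L) ((maximalIdeal i.L).comap ψD).primeCompl ψB
  have htunit : IsUnit (Algebra.ofId D i.L t) :=
    IsLocalization.map_units i.L (⟨t, ht⟩ : ((maximalIdeal i.L).comap ψD).primeCompl)
  let χ : Localization.Away t →ₐ[D] i.L :=
    IsLocalization.Away.liftAlgHom (f := Algebra.ofId D i.L) t htunit
  let χA : Localization.Away t →ₐ[A] i.L := χ.restrictScalars A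
  haveI : Algebra.Etale D (Localization.Away t) := Algebra.Etale.of_isLocalizationAway t
  haveI : Algebra.Etale A (Localization.Away t) := Algebra.Etale.comp A D _
  let ofLA : i.L →ₐ[A] Rh (Localization.AtPrime m) :=
    { ofL i with
      commutes' := fun r => by
        show ofL i (algebraMap (Localization.AtPrime m) i.L (algebraMap A (Localization.AtPrime m) r)) =
          algebraMap (Localization.AtPrime m) (Rh (Localization.AtPrime m))
            (algebraMap A (Localization.AtPrime m) r)
        rw [← algebraMap_eq i] }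
  let eE : (A ⧸ m ^ (N + 1)) ≃ₐ[A] (Rh (Localization.AtPrime m) ⧸ I') := AlgEquiv.ofBijective e he
  let ψ : Localization.Away t →ₐ[A] A ⧸ m ^ (N + 1) :=
    eE.symm.toAlgHom.comp ((Ideal.Quotient.mkₐ A I').comp (ofLA.comp χA))
  refine ⟨Localization.Away t, inferInstance, inferInstance, inferInstance, φ, ψ, fun x => ?_⟩
  apply he.1
  show e (eE.symm (Ideal.Quotient.mk I' (ofL i (χA (φ x))))) = _
  have h1 : e (eE.symm (Ideal.Quotient.mk I' (ofL i (χA (φ x))))) =
      Ideal.Quotient.mk I' (ofL i (χA (φ x))) := eE.apply_symm_apply _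
  rw [h1]
  have h2 : χA (φ x) = ψB x := hφ χ x
  rw [h2]
  have h3 : ofLA.comp ψB = τ.comp g := by
    have h4 : (ofLA.comp ψB).comp pres = (τ.comp g).comp pres := by
      apply MvPolynomial.algHom_ext
      intro k
      show ofL i (ψB (pres (X k))) = τ (g (pres (X k)))
      rw [hψB, aeval_X]
      exact hyz k
    apply AlgHom.ext
    intro b
    obtain ⟨p, rfl⟩ := hsurj b
    exact DFunLike.congr_fun h4 p
  have h5 : ofL i (ψB x) = τ (g x) := DFunLike.congr_fun h3 x
  rw [h5]
  have h6 := DFunLike.congr_fun hτ (g x)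
  have h7 : h (g x) = f x := DFunLike.congr_fun hcomp x
  rw [← h7]
  exact h6

/-- an element of the value of a functor on commutative algebras preserving filtered colimits comes
from a finitely presented algebra -/
theorem exists_fp_of_preserves_commAlgCat (A Bh : Type u) [CommRing A] [CommRing Bh] [Algebra A Bh]
    (F : CommAlgCat.{u} A ⥤ Type u) [Limits.PreservesFilteredColimits F]
    (ξ : F.obj (CommAlgCat.of A Bh)) :
    ∃ (B : Type u) (_ : CommRing B) (_ : Algebra A B) (_ : Algebra.FinitePresentation A B)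
      (f : B →ₐ[A] Bh) (ξB : F.obj (CommAlgCat.of A B)), F.map (CommAlgCat.ofHom f) ξB = ξ := by
  let E := commAlgCatEquivUnder (CommRingCat.of A)
  let Φ : Under (CommRingCat.of A) ⥤ Type u := E.inverse ⋙ F
  have hΦ : ∀ (J : Type u) [SmallCategory J] [IsFiltered J], PreservesColimitsOfShape J Φ := by
    intro J _ _
    haveI : PreservesColimitsOfShape J F :=
      PreservesFilteredColimitsOfSize.preserves_filtered_colimits J
    infer_instance
  let ξΦ : Φ.obj (Under.mk (CommRingCat.ofHom (algebraMap A Bh))) :=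
    F.map (E.unit.app (CommAlgCat.of A Bh)) ξ
  obtain ⟨B, _, _, hB, f, ξB, hξB⟩ := ApproxFun.exists_fp_of_preserves A Bh Φ hΦ ξΦ
  refine ⟨B, inferInstance, inferInstance, hB, f,
    F.map (E.unitInv.app (CommAlgCat.of A B)) ξB, ?_⟩
  have hnat : E.unitInv.app (CommAlgCat.of A B) ≫ CommAlgCat.ofHom f =
      E.inverse.map (ApproxFun.underHom f) ≫ E.unitInv.app (CommAlgCat.of A Bh) := by
    have h1 : E.functor.map (CommAlgCat.ofHom f) = ApproxFun.underHom f := rfl
    rw [← h1]
    exact (E.unitInv.naturality (CommAlgCat.ofHom f)).symm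
  have h2 : F.map (E.inverse.map (ApproxFun.underHom f)) ξB = ξΦ := hξB
  have h3 : E.unit.app (CommAlgCat.of A Bh) ≫ E.unitInv.app (CommAlgCat.of A Bh) = 𝟙 _ :=
    E.unitIso.hom_inv_id_app _
  calc F.map (CommAlgCat.ofHom f) (F.map (E.unitInv.app (CommAlgCat.of A B)) ξB)
      = F.map (E.unitInv.app (CommAlgCat.of A B) ≫ CommAlgCat.ofHom f) ξB :=
        (FunctorToTypes.map_comp_apply F _ _ ξB).symm
    _ = F.map (E.inverse.map (ApproxFun.underHom f) ≫ E.unitInv.app (CommAlgCat.of A Bh)) ξB := by
        rw [hnat]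
        rfl
    _ = F.map (E.unitInv.app (CommAlgCat.of A Bh))
          (F.map (E.inverse.map (ApproxFun.underHom f)) ξB) :=
        FunctorToTypes.map_comp_apply F _ _ ξB
    _ = F.map (E.unitInv.app (CommAlgCat.of A Bh)) (F.map (E.unit.app (CommAlgCat.of A Bh)) ξ) :=
        congrArg _ h2
    _ = F.map (E.unit.app (CommAlgCat.of A Bh) ≫ E.unitInv.app (CommAlgCat.of A Bh)) ξ :=
        (FunctorToTypes.map_comp_apply F _ _ ξ).symm
    _ = ξ := by rw [h3, FunctorToTypes.map_id_apply]

theorem functor_approx_max (k : Type u) [Field k]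
    (A : Type u) [CommRing A] [Algebra k A] [Algebra.FiniteType k A] (m : Ideal A) [m.IsMaximal]
    (F : CommAlgCat.{u} A ⥤ Type u) [Limits.PreservesFilteredColimits F]
    (ξ : F.obj (CommAlgCat.of A (AdicCompletion m A))) (N : ℕ) :
    ∃ (A' : Type u) (_ : CommRing A') (_ : Algebra A A') (_ : Algebra.Etale A A')
      (ψ : A' →ₐ[A] (A ⧸ m ^ (N + 1))) (_ : Function.Surjective ψ) (ξ' : F.obj (CommAlgCat.of A A')),
      F.map (CommAlgCat.ofHom ψ) ξ' =
        F.map (CommAlgCat.ofHom (AdicCompletion.evalₐ m (N + 1))) ξ := by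
  have hA : CAlg.IsGRing A :=
    Groth.Agent.Lib.Helper7.PolyGRing2.isGRing_of_finiteType k (isGRing_field k) A
  obtain ⟨B, _, _, hB, f, ξB, hξB⟩ := exists_fp_of_preserves_commAlgCat A (AdicCompletion m A) F ξ
  haveI := hB
  obtain ⟨A', _, _, hA', σ, ψ, hσψ⟩ := approx_etale_max A hA m B f N
  have hsurj : Function.Surjective ψ := by
    intro y
    obtain ⟨a, rfl⟩ := Ideal.Quotient.mk_surjective y
    exact ⟨algebraMap A A' a, ψ.commutes a⟩
  refine ⟨A', inferInstance, inferInstance, hA', ψ, hsurj, F.map (CommAlgCat.ofHom σ) ξB, ?_⟩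
  rw [← hξB, ← FunctorToTypes.map_comp_apply, ← FunctorToTypes.map_comp_apply,
    ← CommAlgCat.ofHom_comp, ← CommAlgCat.ofHom_comp]
  have h1 : ψ.comp σ = (AdicCompletion.evalₐ m (N + 1)).comp f := AlgHom.ext hσψ
  rw [h1]

end Groth.Agent.Lib.T2H8.ApproxMax
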