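import Mathlib
import Groth.Agent.Lib.T2H8ApproxMax

/-!
# Étale approximation at a prime, with an abstract localization (helper8)
-/

set_option autoImplicit false
universe u

namespace Groth.Agent.Lib.T2H8.ApproxPrime

open IsLocalRing MvPolynomial Groth.Agent.Lib.Helper3.Hz Groth.Agent.Lib.T2H8 TensorProduct

/-- abstract étale approximation at a prime `P` of `D₀` whose local ring `A` is a G-ring -/
theorem approx_etale_loc (D₀ : Type u) [CommRing D₀] (P : Ideal D₀) [P.IsPrime]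
    (A : Type u) [CommRing A] [IsLocalRing A] [Algebra D₀ A] [IsLocalization.AtPrime A P]
    (hG : CAlg.IsGRing A)
    (B : Type u) [CommRing B] [Algebra D₀ B] [Algebra.FinitePresentation D₀ B]
    (f : B →ₐ[D₀] AdicCompletion (maximalIdeal A) A) (N : ℕ) :
    ∃ (D' : Type u) (_ : CommRing D') (_ : Algebra D₀ D') (_ : Algebra.Etale D₀ D')
      (σ : B →ₐ[D₀] D') (ψ : D' →ₐ[D₀] A ⧸ maximalIdeal A ^ (N + 1)),
      ∀ x : B, ψ (σ x) = AdicCompletion.evalₐ (maximalIdeal A) (N + 1) (f x) := by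
  classical
  haveI := hG.1
  have hreg := Groth.Agent.S0600.result A hG (maximalIdeal A)
  haveI : IsNoetherianRing (AdicCompletion (maximalIdeal A) A) :=
    Groth.Agent.Lib.Helper19.isNoetherianRing_adicCompletion _
  have hind := PopMain.popescu A (AdicCompletion (maximalIdeal A) A) hreg
  -- base change of `B` to `A`
  let fA : A ⊗[D₀] B →ₐ[A] AdicCompletion (maximalIdeal A) A :=
    Algebra.TensorProduct.lift (Algebra.ofId A _) f (fun _ _ => Commute.all _ _)
  obtain ⟨C, _, _, hC, g, h, hcomp⟩ := hind (A ⊗[D₀] B) inferInstance fA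
  haveI := hC
  -- the henselization
  letI algDS : Algebra D₀ (Rh A) := ((algebraMap A (Rh A)).comp (algebraMap D₀ A)).toAlgebra
  haveI towDS : IsScalarTower D₀ A (Rh A) := IsScalarTower.of_algebraMap_eq (fun _ => rfl)
  haveI hS : Hensel.IsHenselization A (Rh A) := isHenselization
  haveI : HenselianLocalRing (Rh A) := henselian
  have hmax : (maximalIdeal A).map (algebraMap A (Rh A)) = maximalIdeal (Rh A) :=
    Groth.Agent.S0507.result A (Rh A)
  obtain ⟨I', hI'def⟩ : ∃ I' : Ideal (Rh A),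
      I' = (maximalIdeal A ^ (N + 1)).map (algebraMap A (Rh A)) := ⟨_, rfl⟩
  have hI' : I' = maximalIdeal (Rh A) ^ (N + 1) := by
    rw [hI'def, ← hmax, Ideal.map_pow]
  haveI : HenselianRing (Rh A) I' :=
    (Groth.Agent.S0525.result (Rh A) (maximalIdeal (Rh A)) I'
      (by rw [hI', Ideal.radical_pow _ (Nat.succ_ne_zero N)])).mp inferInstance
  have hle : maximalIdeal A ^ (N + 1) ≤ I'.comap (Algebra.ofId A (Rh A)) := by
    rw [hI'def]
    exact Ideal.le_comap_map
  let e : (A ⧸ maximalIdeal A ^ (N + 1)) →ₐ[A] (Rh A ⧸ I') :=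
    Ideal.quotientMapₐ I' (Algebra.ofId A (Rh A)) hle
  have he : Function.Bijective e := by
    subst hI'def
    exact Groth.Agent.S0510.result A (Rh A) (N + 1)
  let σb : C →ₐ[A] (Rh A ⧸ I') :=
    e.comp ((AdicCompletion.evalₐ (maximalIdeal A) (N + 1)).comp h)
  obtain ⟨τ, hτ⟩ := Groth.Agent.S0536.result A C (Rh A) I' σb
  -- a presentation of `B`
  obtain ⟨n, pres, hsurj, hker⟩ := Algebra.FinitePresentation.out (R := D₀) (A := B)
  obtain ⟨mm, F, hF⟩ := Submodule.fg_iff_exists_fin_generating_family.mp hker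
  have hFspan : Ideal.span (Set.range F) = RingHom.ker pres.toRingHom := hF
  have hFker : ∀ j, pres (F j) = 0 := by
    intro j
    have h1 : F j ∈ RingHom.ker pres.toRingHom := by
      rw [← hFspan]
      exact Ideal.subset_span ⟨j, rfl⟩
    exact h1
  -- the `D₀`-algebra map `B → Rh A`
  let κ : B →ₐ[D₀] Rh A :=
    { toRingHom := (τ.toRingHom.comp g.toRingHom).comp
        (Algebra.TensorProduct.includeRight : B →ₐ[D₀] A ⊗[D₀] B).toRingHom
      commutes' := fun r => by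
        show τ (g ((Algebra.TensorProduct.includeRight : B →ₐ[D₀] A ⊗[D₀] B)
          (algebraMap D₀ B r))) = _
        rw [AlgHom.commutes, IsScalarTower.algebraMap_apply D₀ A (A ⊗[D₀] B), AlgHom.commutes,
          AlgHom.commutes]
        rfl }
  have hκ : ∀ b : B, κ b = τ (g ((1 : A) ⊗ₜ[D₀] b)) := fun b => rfl
  let z : Fin n → Rh A := fun k => κ (pres (X k))
  have hκz : κ.comp pres = aeval z := by
    apply MvPolynomial.algHom_ext
    intro k
    rw [aeval_X]
    rfl
  have hz : ∀ j, aeval z (MvPolynomial.map (algebraMap D₀ A) (F j)) = 0 := by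
    intro j
    rw [EtaleSolLoc.aeval_map_algebraMap', ← hκz]
    show κ (pres (F j)) = 0
    rw [hFker, map_zero]
  obtain ⟨i, y, hFy, hyz⟩ := ApproxMax.exists_stage_of_fin
    (fun j => MvPolynomial.map (algebraMap D₀ A) (F j)) z hz
  -- spreading out
  obtain ⟨D, _, _, ψD, hDet, hψD, hDloc⟩ :=
    Groth.Agent.Lib.T2H1.Spread.exists_etale_descent P A i
  haveI := hDet
  letI algDL : Algebra D i.L := ψD.toAlgebra
  letI algAL : Algebra D₀ i.L :=
    ((algebraMap A i.L).comp (algebraMap D₀ A)).toAlgebra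
  haveI towAAL : IsScalarTower D₀ A i.L :=
    IsScalarTower.of_algebraMap_eq (fun _ => rfl)
  haveI towADL : IsScalarTower D₀ D i.L :=
    IsScalarTower.of_algebraMap_eq (fun r => (RingHom.congr_fun hψD r).symm)
  haveI hP : ((maximalIdeal i.L).comap ψD).IsPrime := Ideal.comap_isPrime _ _
  haveI hloc : IsLocalization.AtPrime i.L ((maximalIdeal i.L).comap ψD) := hDloc
  have hFyA : ∀ j, (aeval y : MvPolynomial (Fin n) D₀ →ₐ[D₀] i.L) (F j) = 0 := by
    intro j
    rw [← EtaleSolLoc.aeval_map_algebraMap' (A := A)]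
    exact hFy j
  have hyker : ∀ x ∈ RingHom.ker pres.toRingHom,
      (aeval y : MvPolynomial (Fin n) D₀ →ₐ[D₀] i.L) x = 0 := by
    intro x hx
    have hle2 : RingHom.ker pres.toRingHom ≤
        RingHom.ker (aeval y : MvPolynomial (Fin n) D₀ →ₐ[D₀] i.L).toRingHom := by
      rw [← hFspan, Ideal.span_le]
      rintro _ ⟨j, rfl⟩
      exact hFyA j
    exact hle2 hx
  let ψB : B →ₐ[D₀] i.L :=
    (Ideal.Quotient.liftₐ (RingHom.ker pres.toRingHom) (aeval y) hyker).comp
      (Ideal.quotientKerAlgEquivOfSurjective hsurj).symm.toAlgHom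
  have hψB : ∀ p : MvPolynomial (Fin n) D₀, ψB (pres p) = aeval y p := by
    intro p
    have h1 : (Ideal.quotientKerAlgEquivOfSurjective hsurj).symm (pres p) =
        Ideal.Quotient.mk (RingHom.ker pres.toRingHom) p := by
      rw [AlgEquiv.symm_apply_eq]
      rfl
    show Ideal.Quotient.liftₐ (RingHom.ker pres.toRingHom) (aeval y) hyker
      ((Ideal.quotientKerAlgEquivOfSurjective hsurj).symm (pres p)) = _
    rw [h1]
    rfl
  obtain ⟨t, ht, φ, hφ⟩ := Groth.Agent.Lib.Helper22.SpreadIso.exists_lift_away (R := D₀)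
    (T := D) (L := i.L) ((maximalIdeal i.L).comap ψD).primeCompl ψB
  have htunit : IsUnit (Algebra.ofId D i.L t) :=
    IsLocalization.map_units i.L (⟨t, ht⟩ : ((maximalIdeal i.L).comap ψD).primeCompl)
  let χ : Localization.Away t →ₐ[D] i.L :=
    IsLocalization.Away.liftAlgHom (f := Algebra.ofId D i.L) t htunit
  let χA : Localization.Away t →ₐ[D₀] i.L := χ.restrictScalars D₀
  haveI : Algebra.Etale D (Localization.Away t) := Algebra.Etale.of_isLocalizationAway t
  haveI : Algebra.Etale D₀ (Localization.Away t) := Algebra.Etale.comp D₀ D _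
  let ofLA : i.L →ₐ[D₀] Rh A :=
    { ofL i with
      commutes' := fun r => by
        show ofL i (algebraMap A i.L (algebraMap D₀ A r)) =
          algebraMap A (Rh A) (algebraMap D₀ A r)
        rw [← algebraMap_eq i] }
  let eE : (A ⧸ maximalIdeal A ^ (N + 1)) ≃ₐ[A] (Rh A ⧸ I') := AlgEquiv.ofBijective e he
  let ψ : Localization.Away t →ₐ[D₀] A ⧸ maximalIdeal A ^ (N + 1) :=
    (eE.symm.toAlgHom.restrictScalars D₀).comp ((Ideal.Quotient.mkₐ D₀ I').comp (ofLA.comp χA))
  refine ⟨Localization.Away t, inferInstance, inferInstance, inferInstance, φ, ψ, fun x => ?_⟩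
  apply he.1
  show e (eE.symm (Ideal.Quotient.mk I' (ofL i (χA (φ x))))) = _
  have h1 : e (eE.symm (Ideal.Quotient.mk I' (ofL i (χA (φ x))))) =
      Ideal.Quotient.mk I' (ofL i (χA (φ x))) := eE.apply_symm_apply _
  rw [h1]
  have h2 : χA (φ x) = ψB x := hφ χ x
  rw [h2]
  have h3 : ofLA.comp ψB = κ := by
    have h4 : (ofLA.comp ψB).comp pres = κ.comp pres := by
      apply MvPolynomial.algHom_ext
      intro k
      show ofL i (ψB (pres (X k))) = κ (pres (X k))
      rw [hψB, aeval_X]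
      exact hyz k
    apply AlgHom.ext
    intro b
    obtain ⟨p, rfl⟩ := hsurj b
    exact DFunLike.congr_fun h4 p
  have h5 : ofL i (ψB x) = κ x := DFunLike.congr_fun h3 x
  rw [h5, hκ]
  have h6 := DFunLike.congr_fun hτ (g ((1 : A) ⊗ₜ[D₀] x))
  have h7 : h (g ((1 : A) ⊗ₜ[D₀] x)) = f x := by
    have := DFunLike.congr_fun hcomp ((1 : A) ⊗ₜ[D₀] x)
    rw [AlgHom.comp_apply] at this
    rw [this]
    show Algebra.TensorProduct.lift (Algebra.ofId A _) f (fun _ _ => Commute.all _ _)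
      ((1 : A) ⊗ₜ[D₀] x) = _
    rw [Algebra.TensorProduct.lift_tmul, map_one, one_mul]
  rw [← h7]
  exact h6


/-- relative form with unbundled ring maps -/
theorem approx_etale_rel {R₀ D₀ C₀ : Type u} [CommRing R₀] [CommRing D₀] [CommRing C₀]
    (a₁ : R₀ →+* D₀) (a₂ : R₀ →+* C₀) (ha₂ : a₂.FinitePresentation)
    (P : Ideal D₀) [P.IsPrime] (A : Type u) [CommRing A] [IsLocalRing A] [Algebra D₀ A]
    [IsLocalization.AtPrime A P] (hG : CAlg.IsGRing A)
    (φ₀ : C₀ →+* AdicCompletion (maximalIdeal A) A)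
    (hφ₀ : φ₀.comp a₂ = (algebraMap D₀ (AdicCompletion (maximalIdeal A) A)).comp a₁)
    (N : ℕ) :
    ∃ (D' : Type u) (_ : CommRing D') (_ : Algebra D₀ D') (_ : Algebra.Etale D₀ D')
      (σ₀ : C₀ →+* D') (ψ : D' →ₐ[D₀] A ⧸ maximalIdeal A ^ (N + 1)),
      σ₀.comp a₂ = (algebraMap D₀ D').comp a₁ ∧
      ∀ t, ψ (σ₀ t) = AdicCompletion.evalₐ (maximalIdeal A) (N + 1) (φ₀ t) := by
  classical
  letI algRD : Algebra R₀ D₀ := a₁.toAlgebra
  letI algRC : Algebra R₀ C₀ := a₂.toAlgebra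
  haveI : Algebra.FinitePresentation R₀ C₀ := ha₂
  letI algRÂ : Algebra R₀ (AdicCompletion (maximalIdeal A) A) :=
    ((algebraMap D₀ (AdicCompletion (maximalIdeal A) A)).comp a₁).toAlgebra
  haveI tow : IsScalarTower R₀ D₀ (AdicCompletion (maximalIdeal A) A) :=
    IsScalarTower.of_algebraMap_eq (fun _ => rfl)
  let φ₀' : C₀ →ₐ[R₀] AdicCompletion (maximalIdeal A) A :=
    { φ₀ with commutes' := fun r => RingHom.congr_fun hφ₀ r }
  let f : D₀ ⊗[R₀] C₀ →ₐ[D₀] AdicCompletion (maximalIdeal A) A :=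
    Algebra.TensorProduct.lift (Algebra.ofId D₀ _) φ₀' (fun _ _ => Commute.all _ _)
  obtain ⟨D', _, _, hD', σ, ψ, hσψ⟩ := approx_etale_loc D₀ P A hG (D₀ ⊗[R₀] C₀) f N
  refine ⟨D', inferInstance, inferInstance, hD',
    σ.toRingHom.comp (Algebra.TensorProduct.includeRight : C₀ →ₐ[R₀] D₀ ⊗[R₀] C₀).toRingHom,
    ψ, ?_, fun t => ?_⟩
  · ext r
    show σ ((Algebra.TensorProduct.includeRight : C₀ →ₐ[R₀] D₀ ⊗[R₀] C₀) (algebraMap R₀ C₀ r)) =
      algebraMap D₀ D' (algebraMap R₀ D₀ r)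
    rw [AlgHom.commutes, IsScalarTower.algebraMap_apply R₀ D₀ (D₀ ⊗[R₀] C₀), AlgHom.commutes]
  · show ψ (σ ((1 : D₀) ⊗ₜ[R₀] t)) = _
    rw [hσψ]
    congr 1
    show Algebra.TensorProduct.lift (Algebra.ofId D₀ _) φ₀' (fun _ _ => Commute.all _ _)
      ((1 : D₀) ⊗ₜ[R₀] t) = _
    rw [Algebra.TensorProduct.lift_tmul, map_one, one_mul]
    rfl

end Groth.Agent.Lib.T2H8.ApproxPrime
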