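import Mathlib

/-!
# Isomorphic truncations give isomorphic adic completions (helper8)
-/

set_option autoImplicit false
universe u

namespace Groth.Agent.Lib.T2H8.CplEquiv

theorem factor_evalₐ {B : Type*} [CommRing B] (K : Ideal B) {m n : ℕ} (hmn : m ≤ n)
    (x : AdicCompletion K B) :
    Ideal.Quotient.factor (Ideal.pow_le_pow_right hmn) (AdicCompletion.evalₐ K n x) =
      AdicCompletion.evalₐ K m x := by
  induction x using AdicCompletion.induction_on with
  | h a =>
    rw [AdicCompletion.evalₐ_mk, AdicCompletion.evalₐ_mk, Ideal.Quotient.factor_mk]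
    exact AdicCompletion.Ideal.mk_eq_mk K hmn a

/-- an algebra map inducing bijections on all truncations induces an isomorphism of completions -/
theorem nonempty_adicCompletion_algEquiv {A B B' : Type*} [CommRing A] [CommRing B] [CommRing B']
    [Algebra A B] [Algebra A B'] (g : B →ₐ[A] B') (K : Ideal B) (K' : Ideal B')
    (hK : ∀ n, K ^ n ≤ (K' ^ n).comap g)
    (hbij : ∀ n, Function.Bijective (Ideal.quotientMapₐ (K' ^ n) g (hK n))) :
    Nonempty (AdicCompletion K B ≃ₐ[A] AdicCompletion K' B') := by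
  let e : ∀ n, (B ⧸ K ^ n) ≃ₐ[A] (B' ⧸ K' ^ n) := fun n =>
    AlgEquiv.ofBijective (Ideal.quotientMapₐ (K' ^ n) g (hK n)) (hbij n)
  have he : ∀ n (b : B), e n (Ideal.Quotient.mk _ b) = Ideal.Quotient.mk _ (g b) := fun n b => rfl
  have hesymm : ∀ n (b : B), (e n).symm (Ideal.Quotient.mk _ (g b)) = Ideal.Quotient.mk _ b := by
    intro n b
    rw [AlgEquiv.symm_apply_eq, he]
  have hcompat : ∀ {m n : ℕ} (hmn : m ≤ n) (z : B ⧸ K ^ n),
      Ideal.Quotient.factor (Ideal.pow_le_pow_right hmn) (e n z) =
        e m (Ideal.Quotient.factor (Ideal.pow_le_pow_right hmn) z) := by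
    intro m n hmn z
    obtain ⟨b, rfl⟩ := Ideal.Quotient.mk_surjective z
    rw [he, Ideal.Quotient.factor_mk, Ideal.Quotient.factor_mk, he]
  have hcompat' : ∀ {m n : ℕ} (hmn : m ≤ n) (z : B' ⧸ K' ^ n),
      Ideal.Quotient.factor (Ideal.pow_le_pow_right hmn) ((e n).symm z) =
        (e m).symm (Ideal.Quotient.factor (Ideal.pow_le_pow_right hmn) z) := by
    intro m n hmn z
    obtain ⟨w, rfl⟩ := (e n).surjective z
    rw [AlgEquiv.symm_apply_apply, hcompat hmn, AlgEquiv.symm_apply_apply]
  let F : AdicCompletion K B →ₐ[A] AdicCompletion K' B' :=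
    AdicCompletion.liftAlgHom K'
      (fun n => (e n).toAlgHom.comp ((AdicCompletion.evalₐ K n).restrictScalars A))
      (by
        intro m n hmn
        apply AlgHom.ext
        intro x
        show Ideal.Quotient.factor (Ideal.pow_le_pow_right hmn) (e n (AdicCompletion.evalₐ K n x)) =
          e m (AdicCompletion.evalₐ K m x)
        rw [hcompat hmn, factor_evalₐ K hmn])
  let G : AdicCompletion K' B' →ₐ[A] AdicCompletion K B :=
    AdicCompletion.liftAlgHom K
      (fun n => (e n).symm.toAlgHom.comp ((AdicCompletion.evalₐ K' n).restrictScalars A))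
      (by
        intro m n hmn
        apply AlgHom.ext
        intro x
        show Ideal.Quotient.factor (Ideal.pow_le_pow_right hmn)
            ((e n).symm (AdicCompletion.evalₐ K' n x)) =
          (e m).symm (AdicCompletion.evalₐ K' m x)
        rw [hcompat' hmn, factor_evalₐ K' hmn])
  have hF : ∀ n x, AdicCompletion.evalₐ K' n (F x) = e n (AdicCompletion.evalₐ K n x) :=
    fun n x => AdicCompletion.evalₐ_liftAlgHom _ _ _ n x
  have hG : ∀ n x, AdicCompletion.evalₐ K n (G x) = (e n).symm (AdicCompletion.evalₐ K' n x) :=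
    fun n x => AdicCompletion.evalₐ_liftAlgHom _ _ _ n x
  refine ⟨AlgEquiv.ofAlgHom F G ?_ ?_⟩
  · apply AlgHom.ext
    intro x
    apply AdicCompletion.ext_evalₐ
    intro n
    show AdicCompletion.evalₐ K' n (F (G x)) = AdicCompletion.evalₐ K' n x
    rw [hF, hG, AlgEquiv.apply_symm_apply]
  · apply AlgHom.ext
    intro x
    apply AdicCompletion.ext_evalₐ
    intro n
    show AdicCompletion.evalₐ K n (G (F x)) = AdicCompletion.evalₐ K n x
    rw [hG, hF, AlgEquiv.symm_apply_apply]

end Groth.Agent.Lib.T2H8.CplEquiv
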