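import Mathlib
import Groth.Agent.Lib.T2H8CplEquiv
import Groth.Agent.Lib.T2H8ApproxPair

/-!
# Maps between completions close to an isomorphism (helper8)
-/

set_option autoImplicit false
universe u

namespace Groth.Agent.Lib.T2H8.CplAuto

open IsLocalRing

/-- a surjective endomorphism of a Noetherian ring is injective -/
theorem injective_of_surjective_ringEnd {T : Type*} [CommRing T] [IsNoetherianRing T]
    (ρ : T →+* T) (h : Function.Surjective ρ) : Function.Injective ρ := by
  have hmono : Monotone (fun n : ℕ => RingHom.ker (ρ ^ n)) := by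
    apply monotone_nat_of_le_succ
    intro n x hx
    rw [RingHom.mem_ker] at hx ⊢
    rw [pow_succ']
    show ρ ((ρ ^ n) x) = 0
    rw [hx, map_zero]
  obtain ⟨n, hn⟩ := monotone_stabilizes_iff_noetherian.mpr (inferInstance : IsNoetherian T T)
    ⟨fun n : ℕ => RingHom.ker (ρ ^ n), hmono⟩
  have hsurj : Function.Surjective (ρ ^ n) := by
    rw [RingHom.coe_pow]
    exact h.iterate n
  rw [injective_iff_map_eq_zero]
  intro x hx
  obtain ⟨y, rfl⟩ := hsurj x
  have h1 : y ∈ RingHom.ker (ρ ^ (n + 1)) := by
    rw [RingHom.mem_ker, pow_succ']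
    exact hx
  have h2 : RingHom.ker (ρ ^ n) = RingHom.ker (ρ ^ (n + 1)) := hn (n + 1) (Nat.le_succ n)
  rw [← h2] at h1
  exact h1

/-- a ring map between complete Noetherian local rings congruent to an isomorphism modulo the
square of the maximal ideal is bijective -/
theorem bijective_of_congr_equiv {T T' : Type*} [CommRing T] [CommRing T'] [IsLocalRing T]
    [IsLocalRing T'] [IsNoetherianRing T] [IsNoetherianRing T']
    [IsAdicComplete (maximalIdeal T) T] [IsAdicComplete (maximalIdeal T') T']
    (φ : T ≃+* T') (θ : T →+* T') (h : ∀ x, θ x - φ x ∈ maximalIdeal T' ^ 2) :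
    Function.Bijective θ ∧ (maximalIdeal T).map θ = maximalIdeal T' := by
  have hφm : ∀ x, x ∈ maximalIdeal T → φ x ∈ maximalIdeal T' := by
    intro x hx
    rw [← IsLocalRing.map_ringEquiv_maximalIdeal φ]
    exact Ideal.mem_map_of_mem _ hx
  have hsq : maximalIdeal T' ^ 2 ≤ maximalIdeal T' := Ideal.pow_le_self (by norm_num)
  have hle : (maximalIdeal T).map θ ≤ maximalIdeal T' := by
    rw [Ideal.map_le_iff_le_comap]
    intro x hx
    have h1 : θ x = (θ x - φ x) + φ x := by ring
    show θ x ∈ maximalIdeal T'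
    rw [h1]
    exact Ideal.add_mem _ (hsq (h x)) (hφm x hx)
  have hge : maximalIdeal T' ≤ (maximalIdeal T).map θ := by
    apply Submodule.le_of_le_smul_of_le_jacobson_bot (I := maximalIdeal T')
      (IsNoetherian.noetherian _) (IsLocalRing.maximalIdeal_le_jacobson ⊥)
    intro y hy
    have hx : φ.symm y ∈ maximalIdeal T := by
      rw [← IsLocalRing.map_ringEquiv_maximalIdeal φ.symm]
      exact Ideal.mem_map_of_mem _ hy
    have h1 : y = θ (φ.symm y) - (θ (φ.symm y) - φ (φ.symm y)) := by
      rw [RingEquiv.apply_symm_apply]; ring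
    rw [h1]
    refine Submodule.sub_mem _ (Submodule.mem_sup_left (Ideal.mem_map_of_mem _ hx))
      (Submodule.mem_sup_right ?_)
    have h2 := h (φ.symm y)
    rw [pow_two] at h2
    exact h2
  have hmap : (maximalIdeal T).map θ = maximalIdeal T' := le_antisymm hle hge
  refine ⟨⟨?_, ?_⟩, hmap⟩
  · -- injective
    have hsurj : Function.Surjective θ := by
      haveI : IsHausdorff ((maximalIdeal T).map θ) T' := by rw [hmap]; infer_instance
      apply surjective_of_mk_map_comp_surjective (I := maximalIdeal T) θ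
      intro z
      obtain ⟨y, rfl⟩ := Ideal.Quotient.mk_surjective z
      refine ⟨φ.symm y, ?_⟩
      show Ideal.Quotient.mk _ (θ (φ.symm y)) = Ideal.Quotient.mk _ y
      rw [Ideal.Quotient.eq, hmap]
      have h2 := h (φ.symm y)
      rw [RingEquiv.apply_symm_apply] at h2
      exact hsq h2
    have hρ : Function.Injective (φ.symm.toRingHom.comp θ) :=
      injective_of_surjective_ringEnd _ (φ.symm.surjective.comp hsurj)
    exact Function.Injective.of_comp hρ
  · haveI : IsHausdorff ((maximalIdeal T).map θ) T' := by rw [hmap]; infer_instance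
    apply surjective_of_mk_map_comp_surjective (I := maximalIdeal T) θ
    intro z
    obtain ⟨y, rfl⟩ := Ideal.Quotient.mk_surjective z
    refine ⟨φ.symm y, ?_⟩
    show Ideal.Quotient.mk _ (θ (φ.symm y)) = Ideal.Quotient.mk _ y
    rw [Ideal.Quotient.eq, hmap]
    have h2 := h (φ.symm y)
    rw [RingEquiv.apply_symm_apply] at h2
    exact hsq h2

/-- extending a ring map continuous for the adic topologies to the completion -/
theorem exists_lift_completion {B A : Type*} [CommRing B] [CommRing A] (mB : Ideal B) (m : Ideal A)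
    (hfg : m.FG) (κ : B →+* AdicCompletion m A)
    (hκ : ∀ b ∈ mB, κ b ∈ m.map (algebraMap A (AdicCompletion m A))) :
    ∃ θ : AdicCompletion mB B →+* AdicCompletion m A,
      (∀ b, θ (algebraMap B _ b) = κ b) ∧
      ∀ (k : ℕ) (x : AdicCompletion mB B) (b : B),
        AdicCompletion.evalₐ mB k x = Ideal.Quotient.mk _ b →
        AdicCompletion.evalₐ m k (θ x) = AdicCompletion.evalₐ m k (κ b) := by
  have hmap : mB.map κ ≤ m.map (algebraMap A (AdicCompletion m A)) :=
    Ideal.map_le_iff_le_comap.mpr hκ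
  have hk : ∀ k : ℕ, ∀ b ∈ mB ^ k,
      ((AdicCompletion.evalₐ m k).toRingHom.comp κ) b = 0 := by
    intro k b hb
    show AdicCompletion.evalₐ m k (κ b) = 0
    rw [ApproxPair.evalₐ_eq_zero_iff m hfg, Ideal.map_pow]
    have h1 : κ b ∈ (mB ^ k).map κ := Ideal.mem_map_of_mem _ hb
    rw [Ideal.map_pow] at h1
    exact Ideal.pow_right_mono hmap k h1
  let f : ∀ k : ℕ, AdicCompletion mB B →+* A ⧸ m ^ k := fun k =>
    (Ideal.Quotient.lift (mB ^ k) ((AdicCompletion.evalₐ m k).toRingHom.comp κ) (hk k)).comp
      (AdicCompletion.evalₐ mB k).toRingHom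
  have hf : ∀ (k : ℕ) (x : AdicCompletion mB B) (b : B),
      AdicCompletion.evalₐ mB k x = Ideal.Quotient.mk _ b →
      f k x = AdicCompletion.evalₐ m k (κ b) := by
    intro k x b hxb
    show Ideal.Quotient.lift (mB ^ k) _ (hk k) (AdicCompletion.evalₐ mB k x) = _
    rw [hxb, Ideal.Quotient.lift_mk]
    rfl
  have hcompat : ∀ {k n : ℕ} (hle : k ≤ n),
      (Ideal.Quotient.factorPow m hle).comp (f n) = f k := by
    intro k n hle
    refine RingHom.ext fun x => ?_
    obtain ⟨b, hb⟩ := Ideal.Quotient.mk_surjective (AdicCompletion.evalₐ mB n x)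
    have h1 : AdicCompletion.evalₐ mB k x = Ideal.Quotient.mk _ b := by
      rw [← CplEquiv.factor_evalₐ mB hle x, ← hb, Ideal.Quotient.factor_mk]
    rw [RingHom.comp_apply, hf n x b hb.symm, hf k x b h1]
    exact CplEquiv.factor_evalₐ m hle (κ b)
  refine ⟨AdicCompletion.liftRingHom m f hcompat, fun b => ?_, fun k x b hxb => ?_⟩
  · apply AdicCompletion.ext_evalₐ
    intro k
    rw [AdicCompletion.evalₐ_liftRingHom]
    apply hf
    rw [AdicCompletion.algebraMap_apply, AdicCompletion.evalₐ_of]
    rfl
  · rw [AdicCompletion.evalₐ_liftRingHom]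
    exact hf k x b hxb

end Groth.Agent.Lib.T2H8.CplAuto
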