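import Mathlib
import Groth.Agent.Lib.T2H8CplAuto

/-!
# Presenting a complete local algebra with residue field `k` as a quotient of the completion of
a local ring essentially of finite type (helper8)
-/

set_option autoImplicit false
universe u

namespace Groth.Agent.Lib.T2H8.CohenPres

open IsLocalRing

theorem isMaximal_of_residue_surjective {k T : Type*} [Field k] [CommRing T] [Algebra k T]
    (I : Ideal T) (hI : I ≠ ⊤) (h : ∀ t : T, ∃ c : k, t - algebraMap k T c ∈ I) :
    I.IsMaximal := by
  rw [Ideal.isMaximal_iff]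
  refine ⟨fun h1 => hI ((Ideal.eq_top_iff_one _).mpr h1), ?_⟩
  intro J x hIJ hx hxJ
  obtain ⟨c, hc⟩ := h x
  have hc0 : c ≠ 0 := by
    rintro rfl
    rw [map_zero, sub_zero] at hc
    exact hx hc
  have h3 : algebraMap k T c ∈ J := by
    have h4 := Ideal.sub_mem J hxJ (hIJ hc)
    rwa [sub_sub_cancel] at h4
  rw [← Ideal.eq_top_iff_one]
  exact Ideal.eq_top_of_isUnit_mem J h3 ((IsUnit.mk0 c hc0).map _)

/-- a finite type algebra mapping to `R` through which a given map factors and whose image
generates the maximal ideal -/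
theorem exists_presentation {k R B : Type u} [Field k] [CommRing R] [Algebra k R] [IsLocalRing R]
    [IsNoetherianRing R]
    (hres : Function.Surjective (fun c : k => IsLocalRing.residue R (algebraMap k R c)))
    [CommRing B] [Algebra k B] [Algebra.FiniteType k B] (g : B →ₐ[k] R) :
    ∃ (P : Type u) (_ : CommRing P) (_ : Algebra k P) (_ : Algebra.FiniteType k P)
      (ι : B →ₐ[k] P) (ev : P →ₐ[k] R) (m₀ : Ideal P) (_ : m₀.IsMaximal),
      ev.comp ι = g ∧ m₀ = (maximalIdeal R).comap ev ∧ m₀.map ev = maximalIdeal R := by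
  classical
  obtain ⟨n, x, hx⟩ := Submodule.fg_iff_exists_fin_generating_family.mp
    (maximalIdeal R).fg_of_isNoetherianRing
  have hxspan : Ideal.span (Set.range x) = maximalIdeal R := hx
  letI algBR : Algebra B R := g.toRingHom.toAlgebra
  haveI : IsScalarTower k B R := IsScalarTower.of_algebraMap_eq (fun c => (g.commutes c).symm)
  let ev : MvPolynomial (Fin n) B →ₐ[k] R :=
    (MvPolynomial.aeval x : MvPolynomial (Fin n) B →ₐ[B] R).restrictScalars k
  let ι : B →ₐ[k] MvPolynomial (Fin n) B := IsScalarTower.toAlgHom k B (MvPolynomial (Fin n) B)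
  have hevX : ∀ i, ev (MvPolynomial.X i) = x i := fun i => MvPolynomial.aeval_X x i
  have hevι : ev.comp ι = g := by
    apply AlgHom.ext
    intro b
    show MvPolynomial.aeval x (algebraMap B (MvPolynomial (Fin n) B) b) = g b
    rw [AlgHom.commutes]
    rfl
  have hne : (maximalIdeal R).comap ev ≠ ⊤ := by
    intro h
    have h1 : (1 : MvPolynomial (Fin n) B) ∈ (maximalIdeal R).comap ev := by
      rw [h]
      trivial
    rw [Ideal.mem_comap, map_one] at h1
    exact (maximalIdeal.isMaximal R).ne_top ((Ideal.eq_top_iff_one _).mpr h1)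
  have hmax : ((maximalIdeal R).comap ev).IsMaximal := by
    apply isMaximal_of_residue_surjective (k := k) _ hne
    intro t
    obtain ⟨c, hc⟩ := hres (IsLocalRing.residue R (ev t))
    refine ⟨c, ?_⟩
    rw [Ideal.mem_comap, map_sub, AlgHom.commutes]
    exact Ideal.Quotient.eq.mp hc.symm
  haveI : Algebra.FiniteType k (MvPolynomial (Fin n) B) :=
    Algebra.FiniteType.trans (S := B) inferInstance inferInstance
  refine ⟨MvPolynomial (Fin n) B, inferInstance, inferInstance, inferInstance, ι, ev,
    (maximalIdeal R).comap ev, hmax, hevι, rfl, ?_⟩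
  apply le_antisymm
  · rw [Ideal.map_le_iff_le_comap]
  · rw [← hxspan, Ideal.span_le]
    rintro _ ⟨i, rfl⟩
    rw [← hevX i]
    apply Ideal.mem_map_of_mem
    rw [Ideal.mem_comap, hevX]
    exact Ideal.subset_span ⟨i, rfl⟩

/-- the completion of the local ring of `P` at `m₀` surjects onto `R` -/
theorem exists_surjection {k R P : Type u} [Field k] [CommRing R] [Algebra k R] [IsLocalRing R]
    [IsNoetherianRing R] [IsAdicComplete (maximalIdeal R) R]
    (hres : Function.Surjective (fun c : k => IsLocalRing.residue R (algebraMap k R c)))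
    [CommRing P] [Algebra k P] [IsNoetherianRing P] (ev : P →ₐ[k] R)
    (m₀ : Ideal P) [m₀.IsMaximal] (hm₀ : m₀ = (maximalIdeal R).comap ev)
    (hmap : m₀.map ev = maximalIdeal R) :
    ∃ π : AdicCompletion (maximalIdeal (Localization.AtPrime m₀)) (Localization.AtPrime m₀) →+* R,
      Function.Surjective π ∧
      (∀ p : P, π (algebraMap P _ p) = ev p) ∧
      (maximalIdeal (AdicCompletion (maximalIdeal (Localization.AtPrime m₀))
        (Localization.AtPrime m₀))).map π = maximalIdeal R := by
  classical
  have hmem : ∀ p : P, p ∈ m₀ ↔ ev p ∈ maximalIdeal R := by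
    intro p
    rw [hm₀]
    rfl
  have hfg : (maximalIdeal R).FG := (maximalIdeal R).fg_of_isNoetherianRing
  have hunits : ∀ s : m₀.primeCompl, IsUnit (ev.toRingHom s) := by
    intro s
    by_contra hnu
    exact s.2 ((hmem _).mpr ((IsLocalRing.mem_maximalIdeal _).mpr hnu))
  let evΛ : Localization.AtPrime m₀ →+* R :=
    IsLocalization.lift (M := m₀.primeCompl) (g := ev.toRingHom) hunits
  have hevΛ : ∀ p : P, evΛ (algebraMap P (Localization.AtPrime m₀) p) = ev p := fun p =>
    IsLocalization.lift_eq hunits p
  have hevΛm : ∀ b ∈ maximalIdeal (Localization.AtPrime m₀), evΛ b ∈ maximalIdeal R := by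
    intro b hb
    obtain ⟨p, s, rfl⟩ := IsLocalization.exists_mk'_eq m₀.primeCompl b
    have hp : p ∈ m₀ := (IsLocalization.AtPrime.mk'_mem_maximal_iff
      (Localization.AtPrime m₀) m₀ p s).mp hb
    have h1 : evΛ (IsLocalization.mk' (Localization.AtPrime m₀) p s) * ev s = ev p := by
      rw [← hevΛ, ← hevΛ, ← map_mul, IsLocalization.mk'_spec]
    have h2 : ev p ∈ maximalIdeal R := (hmem p).mp hp
    rw [IsLocalRing.mem_maximalIdeal] at h2 ⊢
    intro hu
    apply h2
    rw [← h1]
    exact hu.mul (hunits s)
  let κ : Localization.AtPrime m₀ →+* AdicCompletion (maximalIdeal R) R :=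
    (algebraMap R (AdicCompletion (maximalIdeal R) R)).comp evΛ
  have hκ : ∀ b ∈ maximalIdeal (Localization.AtPrime m₀),
      κ b ∈ (maximalIdeal R).map (algebraMap R (AdicCompletion (maximalIdeal R) R)) :=
    fun b hb => Ideal.mem_map_of_mem _ (hevΛm b hb)
  obtain ⟨θ, hθalg, -⟩ := CplAuto.exists_lift_completion
    (maximalIdeal (Localization.AtPrime m₀)) (maximalIdeal R) hfg κ hκ
  let π : AdicCompletion (maximalIdeal (Localization.AtPrime m₀)) (Localization.AtPrime m₀) →+* R :=
    ((AdicCompletion.ofAlgEquiv (maximalIdeal R)).symm : AdicCompletion (maximalIdeal R) R →+* R).comp θ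
  have hπ : ∀ p : P, π (algebraMap P _ p) = ev p := by
    intro p
    show (AdicCompletion.ofAlgEquiv (maximalIdeal R)).symm (θ (algebraMap P _ p)) = ev p
    rw [IsScalarTower.algebraMap_apply P (Localization.AtPrime m₀)
      (AdicCompletion (maximalIdeal (Localization.AtPrime m₀)) (Localization.AtPrime m₀)), hθalg]
    show (AdicCompletion.ofAlgEquiv (maximalIdeal R)).symm
      (algebraMap R (AdicCompletion (maximalIdeal R) R) (evΛ (algebraMap P _ p))) = ev p
    rw [AlgEquiv.commutes, hevΛ]
    rfl
  haveI : IsNoetherianRing (Localization.AtPrime m₀) :=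
    IsLocalization.isNoetherianRing m₀.primeCompl _ inferInstance
  have hπmap : (maximalIdeal (AdicCompletion (maximalIdeal (Localization.AtPrime m₀))
      (Localization.AtPrime m₀))).map π = maximalIdeal R := by
    have hmΛ : maximalIdeal (Localization.AtPrime m₀) =
        m₀.map (algebraMap P (Localization.AtPrime m₀)) :=
      Localization.AtPrime.map_eq_maximalIdeal.symm
    have h1 : maximalIdeal (AdicCompletion (maximalIdeal (Localization.AtPrime m₀))
        (Localization.AtPrime m₀)) = (m₀.map (algebraMap P (Localization.AtPrime m₀))).map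
          (algebraMap (Localization.AtPrime m₀) _) :=
      AdicCompletion.maximalIdeal_eq_map.trans (congrArg (Ideal.map _) hmΛ)
    rw [h1, Ideal.map_map, Ideal.map_map, ← hmap]
    congr 1
    exact RingHom.ext hπ
  refine ⟨π, ?_, hπ, hπmap⟩
  haveI : IsHausdorff ((maximalIdeal (AdicCompletion (maximalIdeal (Localization.AtPrime m₀))
      (Localization.AtPrime m₀))).map π) R := by
    rw [hπmap]
    infer_instance
  apply surjective_of_mk_map_comp_surjective π
    (I := maximalIdeal (AdicCompletion (maximalIdeal (Localization.AtPrime m₀))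
      (Localization.AtPrime m₀)))
  intro y
  obtain ⟨r, rfl⟩ := Ideal.Quotient.mk_surjective y
  obtain ⟨c, hc⟩ := hres (IsLocalRing.residue R r)
  refine ⟨algebraMap P _ (algebraMap k P c), ?_⟩
  show Ideal.Quotient.mk _ (π (algebraMap P _ (algebraMap k P c))) = Ideal.Quotient.mk _ r
  rw [hπ, AlgHom.commutes, Ideal.Quotient.eq, hπmap]
  exact Ideal.Quotient.eq.mp hc

end Groth.Agent.Lib.T2H8.CohenPres
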