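import Mathlib
import Groth.Agent.Lib.T2H8CplAuto
import Groth.Agent.Lib.T2H8CplEquiv
import Groth.Agent.Lib.T2H8ApproxPair
import Groth.Agent.Lib.Helper26HzNoeth
import Groth.Agent.Lib.T2H6FlatCancel
import Groth.Agent.Lib.Helper19ComplNoeth

/-!
# Étaleness at a point from an isomorphism of completions (helper8)
-/

set_option autoImplicit false
universe u

namespace Groth.Agent.Lib.T2H8.EtaleAtCpl

open IsLocalRing TensorProduct

theorem evalₐ_eq_zero_iff_mem_pow {A : Type u} [CommRing A] [IsLocalRing A] [IsNoetherianRing A]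
    (j : ℕ) (w : AdicCompletion (maximalIdeal A) A) :
    AdicCompletion.evalₐ (maximalIdeal A) j w = 0 ↔
      w ∈ maximalIdeal (AdicCompletion (maximalIdeal A) A) ^ j := by
  rw [ApproxPair.evalₐ_eq_zero_iff _ (maximalIdeal A).fg_of_isNoetherianRing,
    AdicCompletion.maximalIdeal_eq_map, Ideal.map_pow]

theorem isUnit_of_isUnit_evalₐ {A : Type u} [CommRing A] [IsLocalRing A] [IsNoetherianRing A]
    (k : ℕ) (hk : 1 ≤ k) (w : AdicCompletion (maximalIdeal A) A)
    (h : IsUnit (AdicCompletion.evalₐ (maximalIdeal A) k w)) : IsUnit w := by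
  by_contra hnu
  have hw : w ∈ maximalIdeal (AdicCompletion (maximalIdeal A) A) :=
    (IsLocalRing.mem_maximalIdeal _).mpr hnu
  have h0 : AdicCompletion.evalₐ (maximalIdeal A) 1 w = 0 := by
    rw [evalₐ_eq_zero_iff_mem_pow, pow_one]
    exact hw
  have h1 := h.map (Ideal.Quotient.factor (Ideal.pow_le_pow_right hk) :
    (A ⧸ maximalIdeal A ^ k) →+* (A ⧸ maximalIdeal A ^ 1))
  rw [CplEquiv.factor_evalₐ (maximalIdeal A) hk w, h0] at h1
  haveI : Nontrivial (A ⧸ maximalIdeal A ^ 1) :=
    Ideal.Quotient.nontrivial_iff.mpr (by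
      rw [pow_one]
      exact (maximalIdeal.isMaximal A).ne_top)
  exact not_isUnit_zero h1

/-- Local algebra core: from an isomorphism of completions congruent modulo `m^2` to the map
induced by `B → A'' → Â`, the local homomorphism `B → A''` is flat, unramified with trivial
residue field extension. -/
theorem flat_of_cpl_congr
    {B A A'' : Type u} [CommRing B] [CommRing A] [CommRing A'']
    [IsLocalRing B] [IsLocalRing A] [IsLocalRing A''] [IsNoetherianRing B] [IsNoetherianRing A]
    [Algebra A A''] [IsLocalHom (algebraMap A A'')]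
    [Algebra.FormallyUnramified A A''] [Algebra.EssFiniteType A A'']
    [Algebra B A''] [IsLocalHom (algebraMap B A'')]
    (γ : A'' →ₐ[A] AdicCompletion (maximalIdeal A) A)
    (φ : AdicCompletion (maximalIdeal B) B ≃+* AdicCompletion (maximalIdeal A) A)
    (k : ℕ) (hk : 2 ≤ k)
    (hcong : ∀ b : B, AdicCompletion.evalₐ (maximalIdeal A) k (γ (algebraMap B A'' b)) =
      AdicCompletion.evalₐ (maximalIdeal A) k (φ (algebraMap B _ b))) :
    Module.Flat B A'' ∧ (maximalIdeal B).map (algebraMap B A'') = maximalIdeal A'' ∧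
      ∀ z : A'', ∃ b : B, z - algebraMap B A'' b ∈ maximalIdeal A'' := by
  classical
  have hfgA : (maximalIdeal A).FG := (maximalIdeal A).fg_of_isNoetherianRing
  haveI : IsNoetherianRing (AdicCompletion (maximalIdeal A) A) :=
    Groth.Agent.Lib.Helper19.isNoetherianRing_adicCompletion _
  haveI : IsNoetherianRing (AdicCompletion (maximalIdeal B) B) :=
    Groth.Agent.Lib.Helper19.isNoetherianRing_adicCompletion _
  have hmA : maximalIdeal (AdicCompletion (maximalIdeal A) A) =
      (maximalIdeal A).map (algebraMap A (AdicCompletion (maximalIdeal A) A)) :=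
    AdicCompletion.maximalIdeal_eq_map
  have hmB : maximalIdeal (AdicCompletion (maximalIdeal B) B) =
      (maximalIdeal B).map (algebraMap B (AdicCompletion (maximalIdeal B) B)) :=
    AdicCompletion.maximalIdeal_eq_map
  have hU : (maximalIdeal A).map (algebraMap A A'') = maximalIdeal A'' :=
    Algebra.FormallyUnramified.map_maximalIdeal
  -- `γ` is local
  have hγm : ∀ z ∈ maximalIdeal A'', γ z ∈ maximalIdeal (AdicCompletion (maximalIdeal A) A) := by
    intro z hz
    rw [← hU] at hz
    rw [hmA]
    have h1 : (maximalIdeal A).map (algebraMap A A'') ≤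
        ((maximalIdeal A).map (algebraMap A (AdicCompletion (maximalIdeal A) A))).comap
          γ.toRingHom := by
      rw [Ideal.map_le_iff_le_comap]
      intro a ha
      show γ (algebraMap A A'' a) ∈
        (maximalIdeal A).map (algebraMap A (AdicCompletion (maximalIdeal A) A))
      rw [AlgHom.commutes]
      exact Ideal.mem_map_of_mem _ ha
    exact h1 hz
  have hγloc : IsLocalHom γ.toRingHom := by
    constructor
    intro z hz
    by_contra hnu
    have h1 : z ∈ maximalIdeal A'' := (IsLocalRing.mem_maximalIdeal _).mpr hnu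
    exact (IsLocalRing.mem_maximalIdeal _).mp (hγm z h1) hz
  have hαm : ∀ b ∈ maximalIdeal B, algebraMap B A'' b ∈ maximalIdeal A'' := by
    intro b hb
    rw [IsLocalRing.mem_maximalIdeal] at hb ⊢
    exact fun h => hb (isUnit_of_map_unit (algebraMap B A'') b h)
  let κ : B →+* AdicCompletion (maximalIdeal A) A := γ.toRingHom.comp (algebraMap B A'')
  have hκ : ∀ b ∈ maximalIdeal B,
      κ b ∈ (maximalIdeal A).map (algebraMap A (AdicCompletion (maximalIdeal A) A)) := by
    intro b hb
    rw [← hmA]
    exact hγm _ (hαm b hb)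
  obtain ⟨θ, hθalg, hθev⟩ :=
    CplAuto.exists_lift_completion (maximalIdeal B) (maximalIdeal A) hfgA κ hκ
  -- `φ` respects the powers of the maximal ideals
  have hφpow : ∀ (j : ℕ) (w : AdicCompletion (maximalIdeal B) B),
      w ∈ maximalIdeal (AdicCompletion (maximalIdeal B) B) ^ j →
      φ w ∈ maximalIdeal (AdicCompletion (maximalIdeal A) A) ^ j := by
    intro j w hw
    have h2 := Ideal.mem_map_of_mem φ hw
    rw [Ideal.map_pow, IsLocalRing.map_ringEquiv_maximalIdeal φ] at h2
    exact h2
  have hsub : ∀ (j : ℕ) (x : AdicCompletion (maximalIdeal B) B) (b : B),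
      AdicCompletion.evalₐ (maximalIdeal B) j x = Ideal.Quotient.mk _ b →
      x - algebraMap B _ b ∈ maximalIdeal (AdicCompletion (maximalIdeal B) B) ^ j := by
    intro j x b hb
    rw [← evalₐ_eq_zero_iff_mem_pow, map_sub, AlgHom.commutes, hb, sub_eq_zero]
    rfl
  have hθφ : ∀ x, θ x - φ x ∈ maximalIdeal (AdicCompletion (maximalIdeal A) A) ^ 2 := by
    intro x
    obtain ⟨b, hb⟩ := Ideal.Quotient.mk_surjective (AdicCompletion.evalₐ (maximalIdeal B) k x)
    have h1 : AdicCompletion.evalₐ (maximalIdeal A) k (θ x) =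
        AdicCompletion.evalₐ (maximalIdeal A) k (κ b) := hθev k x b hb.symm
    have h2 : AdicCompletion.evalₐ (maximalIdeal A) k (φ x) =
        AdicCompletion.evalₐ (maximalIdeal A) k (φ (algebraMap B _ b)) := by
      rw [← sub_eq_zero, ← map_sub, ← map_sub, evalₐ_eq_zero_iff_mem_pow]
      exact hφpow k _ (hsub k x b hb.symm)
    have h3 : AdicCompletion.evalₐ (maximalIdeal A) k (θ x - φ x) = 0 := by
      rw [map_sub, h1, h2, sub_eq_zero]
      exact hcong b
    exact Ideal.pow_le_pow_right hk ((evalₐ_eq_zero_iff_mem_pow k _).mp h3)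
  obtain ⟨hθbij, hθmax⟩ := CplAuto.bijective_of_congr_equiv φ θ hθφ
  -- flatness of `B → Â`
  letI algBÂ : Algebra B (AdicCompletion (maximalIdeal A) A) := κ.toAlgebra
  haveI : Module.Flat B (AdicCompletion (maximalIdeal A) A) := by
    let θl : AdicCompletion (maximalIdeal B) B ≃ₗ[B] AdicCompletion (maximalIdeal A) A :=
      { (RingEquiv.ofBijective θ hθbij).toAddEquiv with
        map_smul' := fun b x => by
          show θ (b • x) = κ b * θ x
          rw [Algebra.smul_def, map_mul, hθalg] }
    exact Module.Flat.of_linearEquiv θl.symm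
  letI algA''Â : Algebra A'' (AdicCompletion (maximalIdeal A) A) := γ.toRingHom.toAlgebra
  haveI : IsScalarTower B A'' (AdicCompletion (maximalIdeal A) A) :=
    IsScalarTower.of_algebraMap_eq (fun _ => rfl)
  haveI : Module.Flat A'' (AdicCompletion (maximalIdeal A) A) :=
    Groth.Agent.Lib.Helper26.HzNoeth.ringHom_flat_of_unramified γ
  haveI : IsLocalHom (algebraMap A'' (AdicCompletion (maximalIdeal A) A)) := hγloc
  haveI : Module.FaithfullyFlat A'' (AdicCompletion (maximalIdeal A) A) :=
    Module.FaithfullyFlat.of_flat_of_isLocalHom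
  have hflat : Module.Flat B A'' :=
    Groth.Agent.Lib.T2H6.FlatCancel.flat_of_faithfullyFlat_tower B A''
      (AdicCompletion (maximalIdeal A) A)
  refine ⟨hflat, ?_, ?_⟩
  · apply le_antisymm
    · rw [Ideal.map_le_iff_le_comap]
      exact hαm
    · have hJ : ((maximalIdeal B).map (algebraMap B A'')).map
          (algebraMap A'' (AdicCompletion (maximalIdeal A) A)) =
          maximalIdeal (AdicCompletion (maximalIdeal A) A) := by
        rw [Ideal.map_map]
        have h1 : (algebraMap A'' (AdicCompletion (maximalIdeal A) A)).comp (algebraMap B A'') =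
            θ.comp (algebraMap B (AdicCompletion (maximalIdeal B) B)) :=
          RingHom.ext fun b => (hθalg b).symm
        rw [h1, ← Ideal.map_map, ← hmB, hθmax]
      rw [← Ideal.comap_map_eq_self_of_faithfullyFlat
        (B := AdicCompletion (maximalIdeal A) A) ((maximalIdeal B).map (algebraMap B A'')), hJ]
      intro z hz
      exact hγm z hz
  · intro z
    obtain ⟨x, hx⟩ := hθbij.2 (γ z)
    obtain ⟨b, hb⟩ := Ideal.Quotient.mk_surjective (AdicCompletion.evalₐ (maximalIdeal B) 1 x)
    refine ⟨b, ?_⟩
    have h1 : x - algebraMap B _ b ∈ maximalIdeal (AdicCompletion (maximalIdeal B) B) := by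
      have := hsub 1 x b hb.symm
      rwa [pow_one] at this
    have h2 : θ (x - algebraMap B _ b) ∈ maximalIdeal (AdicCompletion (maximalIdeal A) A) := by
      rw [← hθmax]
      exact Ideal.mem_map_of_mem θ h1
    rw [map_sub, hx, hθalg] at h2
    by_contra hnm
    have hunit : IsUnit (z - algebraMap B A'' b) := by
      by_contra hnu
      exact hnm ((IsLocalRing.mem_maximalIdeal _).mpr hnu)
    have h3 : IsUnit (γ (z - algebraMap B A'' b)) := hunit.map γ
    rw [map_sub] at h3
    exact (IsLocalRing.mem_maximalIdeal _).mp h2 h3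


/-- flat + unramified with trivial residue field extension + essentially of finite presentation
implies formally étale (for local rings). -/
theorem formallyEtale_of_flat_of_unramified
    {B A'' P : Type u} [CommRing B] [CommRing A''] [CommRing P] [IsLocalRing B] [IsLocalRing A'']
    [Algebra B A''] [IsLocalHom (algebraMap B A'')] [Module.Flat B A'']
    [Algebra B P] [Algebra P A''] [IsScalarTower B P A''] [Algebra.FinitePresentation B P]
    (M : Submonoid P) [IsLocalization M A'']
    (hm : (maximalIdeal B).map (algebraMap B A'') = maximalIdeal A'')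
    (hres : ∀ z : A'', ∃ b : B, z - algebraMap B A'' b ∈ maximalIdeal A'') :
    Algebra.FormallyEtale B A'' := by
  haveI : Algebra.EssFiniteType P A'' := Algebra.EssFiniteType.of_isLocalization A'' M
  haveI : Algebra.EssFiniteType B A'' := Algebra.EssFiniteType.comp B P A''
  haveI : Algebra.IsSeparable (ResidueField B) (ResidueField A'') := by
    refine ⟨fun x => ?_⟩
    obtain ⟨z, rfl⟩ := IsLocalRing.residue_surjective x
    obtain ⟨b, hb⟩ := hres z
    have h1 : IsLocalRing.residue A'' z =
        algebraMap (ResidueField B) (ResidueField A'') (IsLocalRing.residue B b) := by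
      show _ = IsLocalRing.ResidueField.map (algebraMap B A'') (IsLocalRing.residue B b)
      rw [IsLocalRing.ResidueField.map_residue]
      exact Ideal.Quotient.eq.mpr hb
    rw [h1]
    exact isSeparable_algebraMap _
  haveI : Algebra.FormallyUnramified B A'' := Algebra.FormallyUnramified.of_map_maximalIdeal hm
  haveI : Algebra.FormallyEtale (ResidueField B) (ResidueField B ⊗[B] A'') :=
    Algebra.FormallyEtale.of_formallyUnramified_of_field _ _
  haveI : Algebra.FormallySmooth B A'' :=
    Algebra.FormallySmooth.of_formallySmooth_residueField_tensor M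
  exact Algebra.FormallyEtale.iff_formallyUnramified_and_formallySmooth.mpr
    ⟨inferInstance, inferInstance⟩

/-- plumbing: the local ring at `Q'` is essentially of finite presentation over the local ring
at the prime below. -/
theorem formallyEtale_atPrime_aux {C₀ D' : Type u} [CommRing C₀] [CommRing D'] [Algebra C₀ D']
    [Algebra.FinitePresentation C₀ D']
    (Py : Ideal C₀) [Py.IsPrime] (Q' : Ideal D') [Q'.IsPrime]
    (hQ : Q'.comap (algebraMap C₀ D') = Py)
    (B : Type u) [CommRing B] [IsLocalRing B] [Algebra C₀ B] [IsLocalization.AtPrime B Py]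
    (A'' : Type u) [CommRing A''] [IsLocalRing A''] [Algebra D' A'']
    [IsLocalization.AtPrime A'' Q']
    [Algebra C₀ A''] [IsScalarTower C₀ D' A''] [Algebra B A''] [IsScalarTower C₀ B A'']
    [IsLocalHom (algebraMap B A'')] [Module.Flat B A'']
    (P : Type u) [CommRing P] [Algebra D' P] [Algebra C₀ P] [IsScalarTower C₀ D' P]
    [IsLocalization (Algebra.algebraMapSubmonoid D' Py.primeCompl) P]
    (hm : (maximalIdeal B).map (algebraMap B A'') = maximalIdeal A'')
    (hres : ∀ z : A'', ∃ b : B, z - algebraMap B A'' b ∈ maximalIdeal A'') :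
    Algebra.FormallyEtale C₀ A'' := by
  letI algBP : Algebra B P := localizationAlgebra Py.primeCompl D'
  haveI towCBP : IsScalarTower C₀ B P := isScalarTower_localizationAlgebra
    Py.primeCompl D'
  have hle : Algebra.algebraMapSubmonoid D' Py.primeCompl ≤ Q'.primeCompl := by
    rintro _ ⟨t, ht, rfl⟩ hmem
    apply ht
    rw [← hQ]
    exact hmem
  have hunits : ∀ x : Algebra.algebraMapSubmonoid D' Py.primeCompl,
      IsUnit ((Algebra.ofId D' A'') x) := by
    intro x
    exact IsLocalization.map_units A'' (⟨x.1, hle x.2⟩ : Q'.primeCompl)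
  let f : P →ₐ[D'] A'' := IsLocalization.liftAlgHom
    (M := Algebra.algebraMapSubmonoid D' Py.primeCompl) (f := Algebra.ofId D' A'') hunits
  letI algPA : Algebra P A'' := f.toRingHom.toAlgebra
  haveI towD'PA : IsScalarTower D' P A'' :=
    IsScalarTower.of_algebraMap_eq (fun d => (f.commutes d).symm)
  haveI towCPA : IsScalarTower C₀ P A'' := IsScalarTower.to₁₃₄ C₀ D' P A''
  haveI towBPA : IsScalarTower B P A'' := IsScalarTower.of_algebraMap_eq' (by
    apply IsLocalization.ringHom_ext Py.primeCompl
    rw [RingHom.comp_assoc, ← IsScalarTower.algebraMap_eq C₀ B P,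
      ← IsScalarTower.algebraMap_eq C₀ P A'', ← IsScalarTower.algebraMap_eq C₀ B A''])
  haveI locPA : IsLocalization (Algebra.algebraMapSubmonoid P Q'.primeCompl) A'' :=
    IsLocalization.isLocalization_of_submonoid_le P A''
      (Algebra.algebraMapSubmonoid D' Py.primeCompl) Q'.primeCompl hle
  haveI : Algebra.FinitePresentation B P := by
    haveI hpo : Algebra.IsPushout C₀ B D' P :=
      (Algebra.isPushout_of_isLocalization Py.primeCompl B D' P).symm
    exact Algebra.FinitePresentation.equiv (Algebra.IsPushout.equiv C₀ B D' P)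
  haveI : Algebra.FormallyEtale B A'' :=
    formallyEtale_of_flat_of_unramified (Algebra.algebraMapSubmonoid P Q'.primeCompl) hm hres
  haveI : Algebra.FormallyEtale C₀ B := Algebra.FormallyEtale.of_isLocalization Py.primeCompl
  exact Algebra.FormallyEtale.comp C₀ B A''

theorem formallyEtale_atPrime {C₀ D' : Type u} [CommRing C₀] [CommRing D'] [Algebra C₀ D']
    [Algebra.FinitePresentation C₀ D']
    (Py : Ideal C₀) [Py.IsPrime] (Q' : Ideal D') [Q'.IsPrime]
    (hQ : Q'.comap (algebraMap C₀ D') = Py)
    (B : Type u) [CommRing B] [IsLocalRing B] [Algebra C₀ B] [IsLocalization.AtPrime B Py]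
    (A'' : Type u) [CommRing A''] [IsLocalRing A''] [Algebra D' A'']
    [IsLocalization.AtPrime A'' Q']
    [Algebra C₀ A''] [IsScalarTower C₀ D' A''] [Algebra B A''] [IsScalarTower C₀ B A'']
    [IsLocalHom (algebraMap B A'')] [Module.Flat B A'']
    (hm : (maximalIdeal B).map (algebraMap B A'') = maximalIdeal A'')
    (hres : ∀ z : A'', ∃ b : B, z - algebraMap B A'' b ∈ maximalIdeal A'') :
    Algebra.FormallyEtale C₀ A'' :=
  formallyEtale_atPrime_aux Py Q' hQ B A''
    (Localization (Algebra.algebraMapSubmonoid D' Py.primeCompl)) hm hres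

end Groth.Agent.Lib.T2H8.EtaleAtCpl
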