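import Mathlib
import Groth.Agent.Lib.Helper7PolyGRing2
import Groth.Agent.Lib.Helper7ExcLoc

/-!
# Local algebra for elementary étale neighbourhoods (helper8)
-/

set_option autoImplicit false
universe u

namespace Groth.Agent.Lib.T2H8.NbhdLocal

open IsLocalRing

/-- an unramified local algebra `A''` over `A` with a retraction `A'' → A/m^N` of the
canonical map is congruent to `A` modulo `m''^N`. -/
theorem local_congr {A A'' : Type u} [CommRing A] [CommRing A''] [IsLocalRing A]
    [IsLocalRing A''] [Algebra A A''] [IsLocalHom (algebraMap A A'')]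
    [Algebra.FormallyUnramified A A''] [Algebra.EssFiniteType A A'']
    (N : ℕ) (hN : N ≠ 0) (ψ : A'' →+* A ⧸ maximalIdeal A ^ N)
    (hψ : ∀ c : A, ψ (algebraMap A A'' c) = Ideal.Quotient.mk _ c) :
    (∀ z : A'', ∃ c : A, algebraMap A A'' c - z ∈ maximalIdeal A'') ∧
    (∀ (z : A'') (c : A), ψ z = Ideal.Quotient.mk _ c →
      Ideal.Quotient.mk (maximalIdeal A'' ^ N) z =
        Ideal.Quotient.mk (maximalIdeal A'' ^ N) (algebraMap A A'' c)) := by
  have hne : maximalIdeal A ^ N ≠ ⊤ := by
    intro h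
    have h1 : maximalIdeal A ^ N ≤ maximalIdeal A := Ideal.pow_le_self hN
    rw [h] at h1
    exact (maximalIdeal.isMaximal A).ne_top (top_le_iff.mp h1)
  haveI : Nontrivial (A ⧸ maximalIdeal A ^ N) := Ideal.Quotient.nontrivial_iff.mpr hne
  have hU : (maximalIdeal A).map (algebraMap A A'') = maximalIdeal A'' :=
    Algebra.FormallyUnramified.map_maximalIdeal
  have hsurj : ∀ z : A'', ∃ c : A, algebraMap A A'' c - z ∈ maximalIdeal A'' := by
    intro z
    obtain ⟨c, hc⟩ := Ideal.Quotient.mk_surjective (ψ z)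
    refine ⟨c, ?_⟩
    by_contra hmem
    have hunit : IsUnit (algebraMap A A'' c - z) := by
      by_contra hnu
      exact hmem ((IsLocalRing.mem_maximalIdeal _).mpr hnu)
    have h2 := hunit.map ψ
    rw [map_sub, hψ, hc, sub_self] at h2
    exact not_isUnit_zero h2
  refine ⟨hsurj, ?_⟩
  -- the submodule statement
  let S : Submodule A A'' := LinearMap.range (Algebra.linearMap A A'')
  have h1 : S ⊔ maximalIdeal A • (⊤ : Submodule A A'') = ⊤ := by
    rw [eq_top_iff]
    intro z _
    obtain ⟨c, hc⟩ := hsurj z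
    have hz : z = algebraMap A A'' c - (algebraMap A A'' c - z) := by ring
    rw [hz]
    refine Submodule.sub_mem _ (Submodule.mem_sup_left ⟨c, rfl⟩) (Submodule.mem_sup_right ?_)
    rw [Ideal.smul_top_eq_map, Submodule.restrictScalars_mem, hU]
    exact hc
  have hk : ∀ k : ℕ, S ⊔ (maximalIdeal A ^ k) • (⊤ : Submodule A A'') = ⊤ := by
    intro k
    induction k with
    | zero =>
      rw [pow_zero, Ideal.one_eq_top, Submodule.top_smul]
      exact sup_top_eq _
    | succ k ih =>
      rw [eq_top_iff]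
      calc (⊤ : Submodule A A'') = S ⊔ maximalIdeal A • (⊤ : Submodule A A'') := h1.symm
        _ = S ⊔ maximalIdeal A • (S ⊔ (maximalIdeal A ^ k) • (⊤ : Submodule A A'')) := by rw [ih]
        _ = S ⊔ (maximalIdeal A • S ⊔
              maximalIdeal A • ((maximalIdeal A ^ k) • (⊤ : Submodule A A''))) := by
            rw [Submodule.smul_sup]
        _ ≤ S ⊔ (maximalIdeal A ^ (k + 1)) • (⊤ : Submodule A A'') := by
            refine sup_le le_sup_left (sup_le (le_sup_of_le_left Submodule.smul_le_right)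
              (le_sup_of_le_right ?_))
            rw [← Submodule.mul_smul, ← pow_succ']
  intro z c hzc
  have hw : (z - algebraMap A A'' c) ∈ S ⊔ (maximalIdeal A ^ N) • (⊤ : Submodule A A'') := by
    rw [hk N]
    trivial
  obtain ⟨s, hs, w', hw', hsum⟩ := Submodule.mem_sup.mp hw
  obtain ⟨c', rfl⟩ := hs
  rw [Ideal.smul_top_eq_map, Submodule.restrictScalars_mem] at hw'
  have hψw' : ψ w' = 0 := by
    have h2 := Ideal.mem_map_of_mem ψ hw'
    rw [Ideal.map_map] at h2
    have h3 : ψ.comp (algebraMap A A'') = Ideal.Quotient.mk (maximalIdeal A ^ N) :=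
      RingHom.ext hψ
    rw [h3, Ideal.map_quotient_self] at h2
    exact h2
  have hc' : c' ∈ maximalIdeal A ^ N := by
    rw [← Ideal.Quotient.eq_zero_iff_mem, ← hψ c']
    have h4 : ψ (Algebra.linearMap A A'' c' + w') = 0 := by
      rw [hsum, map_sub, hzc, hψ, sub_self]
    rw [map_add, hψw', add_zero] at h4
    exact h4
  rw [Ideal.Quotient.eq, ← hsum, ← hU, ← Ideal.map_pow]
  exact Ideal.add_mem _ (Ideal.mem_map_of_mem _ hc') hw'

/-- a local ring essentially of finite type over a local G-ring is a G-ring -/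
theorem isGRing_of_isLocalization_finiteType {R₀ D₀ : Type u} [CommRing R₀] [CommRing D₀]
    (a₁ : R₀ →+* D₀) (ha₁ : a₁.FiniteType)
    (P : Ideal D₀) [P.IsPrime] (p₀ : Ideal R₀) [p₀.IsPrime] (hp : P.comap a₁ = p₀)
    (R₁ : Type u) [CommRing R₁] [Algebra R₀ R₁] [IsLocalization.AtPrime R₁ p₀]
    (hG : CAlg.IsGRing R₁)
    (A : Type u) [CommRing A] [Algebra D₀ A] [IsLocalization.AtPrime A P] : CAlg.IsGRing A := by
  let M : Submonoid R₀ := p₀.primeCompl
  let D₁ := Localization (M.map a₁)
  let g : R₁ →+* D₁ := IsLocalization.map D₁ a₁ (Submonoid.le_comap_map M)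
  have hg : g.FiniteType := RingHom.finiteType_localizationPreserves a₁ M R₁ D₁ ha₁
  letI algR₁D₁ : Algebra R₁ D₁ := g.toAlgebra
  haveI : Algebra.FiniteType R₁ D₁ := hg
  have hD₁ : CAlg.IsGRing D₁ :=
    Groth.Agent.Lib.Helper7.PolyGRing2.isGRing_of_finiteType R₁ hG D₁
  have hle : M.map a₁ ≤ P.primeCompl := by
    rintro _ ⟨r, hr, rfl⟩
    intro hmem
    apply hr
    rw [← hp]
    exact hmem
  letI algD₁A : Algebra D₁ A :=
    IsLocalization.localizationAlgebraOfSubmonoidLe D₁ A (M.map a₁) P.primeCompl hle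
  haveI : IsScalarTower D₀ D₁ A :=
    IsLocalization.localization_isScalarTower_of_submonoid_le D₁ A (M.map a₁) P.primeCompl hle
  haveI hlocA : IsLocalization (P.primeCompl.map (algebraMap D₀ D₁)) A :=
    IsLocalization.isLocalization_of_submonoid_le D₁ A (M.map a₁) P.primeCompl hle
  have h2 := Groth.Agent.Lib.Helper7.ExcLoc.isGRing_localization D₁ hD₁
    (P.primeCompl.map (algebraMap D₀ D₁))
  let e : Localization (P.primeCompl.map (algebraMap D₀ D₁)) ≃ₐ[D₁] A :=
    IsLocalization.algEquiv (P.primeCompl.map (algebraMap D₀ D₁)) _ _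
  exact Groth.Agent.Lib.Helper7.PolyGRing2.isGRing_of_ringEquiv e.toRingEquiv h2

end Groth.Agent.Lib.T2H8.NbhdLocal
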