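import Mathlib
import Groth.Agent.Lib.T2H8EtaleAtCpl
import Groth.Agent.Lib.T2H8NbhdLocal

/-!
# Truncations of étale neighbourhoods mapping to the completion (helper8)
-/

set_option autoImplicit false
universe u

namespace Groth.Agent.Lib.T2H8.NbhdTrunc

open IsLocalRing

/-- elements of `D₀` are dense in the completion of its local ring at a maximal ideal -/
theorem exists_sub_mem_pow {D₀ : Type u} [CommRing D₀] (P₀ : Ideal D₀) [P₀.IsMaximal]
    (A : Type u) [CommRing A] [IsLocalRing A] [Algebra D₀ A] [IsLocalization.AtPrime A P₀]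
    [IsNoetherianRing A] (n : ℕ) (x : AdicCompletion (maximalIdeal A) A) :
    ∃ d₀ : D₀, algebraMap D₀ (AdicCompletion (maximalIdeal A) A) d₀ - x ∈
      maximalIdeal (AdicCompletion (maximalIdeal A) A) ^ n := by
  obtain ⟨a, ha⟩ := Ideal.Quotient.mk_surjective (AdicCompletion.evalₐ (maximalIdeal A) n x)
  obtain ⟨q, hq⟩ := (IsLocalization.AtPrime.equivQuotMaximalIdealPow P₀ A n).surjective
    (Ideal.Quotient.mk _ a)
  obtain ⟨d₀, rfl⟩ := Ideal.Quotient.mk_surjective q
  rw [IsLocalization.AtPrime.equivQuotMaximalIdealPow_apply_mk] at hq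
  refine ⟨d₀, ?_⟩
  rw [← EtaleAtCpl.evalₐ_eq_zero_iff_mem_pow, map_sub,
    IsScalarTower.algebraMap_apply D₀ A (AdicCompletion (maximalIdeal A) A), AlgHom.commutes,
    ← ha, sub_eq_zero]
  exact hq

/-- an element of an étale neighbourhood whose image in the completion lies in `m^n` lies in
the `n`-th power of the maximal ideal of the neighbourhood -/
theorem mem_pow_of_map_mem_pow {D₀ D' : Type u} [CommRing D₀] [CommRing D'] [Algebra D₀ D']
    [Algebra.Etale D₀ D']
    (P₀ : Ideal D₀) [P₀.IsPrime] (A : Type u) [CommRing A] [IsLocalRing A] [Algebra D₀ A]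
    [IsLocalization.AtPrime A P₀] [IsNoetherianRing A]
    (ψ : D' →ₐ[D₀] AdicCompletion (maximalIdeal A) A)
    (Q' : Ideal D') [Q'.IsMaximal]
    (hQ' : ∀ d : D', d ∈ Q' ↔ ψ d ∈ maximalIdeal (AdicCompletion (maximalIdeal A) A))
    (n : ℕ) (d : D') (hd : ψ d ∈ maximalIdeal (AdicCompletion (maximalIdeal A) A) ^ n) :
    d ∈ Q' ^ n := by
  classical
  rcases Nat.eq_zero_or_pos n with hn | hn
  · rw [hn, pow_zero, Ideal.one_eq_top]
    trivial
  haveI : IsLocalRing (Localization.AtPrime Q') := IsLocalization.AtPrime.isLocalRing _ Q'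
  have hunitÂ : ∀ w : AdicCompletion (maximalIdeal A) A,
      w ∉ maximalIdeal (AdicCompletion (maximalIdeal A) A) → IsUnit w := by
    intro w hw
    by_contra h
    exact hw ((IsLocalRing.mem_maximalIdeal _).mpr h)
  have hψD₀ : ∀ d : D₀, ψ (algebraMap D₀ D' d) =
      algebraMap A (AdicCompletion (maximalIdeal A) A) (algebraMap D₀ A d) := by
    intro d
    rw [AlgHom.commutes, ← IsScalarTower.algebraMap_apply]
  have hunitsP : ∀ s : P₀.primeCompl, IsUnit (algebraMap D₀ (Localization.AtPrime Q') s) := by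
    intro s
    have h1 : algebraMap D₀ D' (s : D₀) ∉ Q' := by
      rw [hQ', hψD₀]
      intro hmem
      have h2 : IsUnit (algebraMap D₀ A (s : D₀)) := IsLocalization.map_units A s
      exact (IsLocalRing.mem_maximalIdeal _).mp hmem (h2.map _)
    exact IsLocalization.map_units (Localization.AtPrime Q')
      (⟨algebraMap D₀ D' (s : D₀), h1⟩ : Q'.primeCompl)
  let β : A →+* Localization.AtPrime Q' :=
    IsLocalization.lift (M := P₀.primeCompl) (g := algebraMap D₀ (Localization.AtPrime Q')) hunitsP
  letI algAA'' : Algebra A (Localization.AtPrime Q') := β.toAlgebra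
  haveI towD₀AA'' : IsScalarTower D₀ A (Localization.AtPrime Q') :=
    IsScalarTower.of_algebraMap_eq (fun d => (IsLocalization.lift_eq hunitsP d).symm)
  have hunitsQ : ∀ s : Q'.primeCompl, IsUnit (ψ.toRingHom s) := by
    intro s
    apply hunitÂ
    intro hmem
    exact s.2 ((hQ' _).mpr hmem)
  let γ₀ : Localization.AtPrime Q' →+* AdicCompletion (maximalIdeal A) A :=
    IsLocalization.lift (M := Q'.primeCompl) (g := ψ.toRingHom) hunitsQ
  have hγ₀ : ∀ d : D', γ₀ (algebraMap D' (Localization.AtPrime Q') d) = ψ d := fun d =>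
    IsLocalization.lift_eq hunitsQ d
  have hγ₀β : γ₀.comp (algebraMap A (Localization.AtPrime Q')) =
      algebraMap A (AdicCompletion (maximalIdeal A) A) := by
    apply IsLocalization.ringHom_ext P₀.primeCompl
    refine RingHom.ext fun d => ?_
    show γ₀ (algebraMap A (Localization.AtPrime Q') (algebraMap D₀ A d)) =
      algebraMap A _ (algebraMap D₀ A d)
    rw [← IsScalarTower.algebraMap_apply D₀ A (Localization.AtPrime Q'),
      IsScalarTower.algebraMap_apply D₀ D' (Localization.AtPrime Q'), hγ₀, hψD₀]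
  haveI : Algebra.FormallyUnramified D' (Localization.AtPrime Q') :=
    Algebra.FormallyUnramified.of_isLocalization Q'.primeCompl
  haveI : Algebra.FormallyUnramified D₀ (Localization.AtPrime Q') :=
    Algebra.FormallyUnramified.comp D₀ D' _
  haveI : Algebra.FormallyUnramified A (Localization.AtPrime Q') :=
    Algebra.FormallyUnramified.of_restrictScalars D₀ A _
  haveI : Algebra.EssFiniteType D' (Localization.AtPrime Q') :=
    Algebra.EssFiniteType.of_isLocalization _ Q'.primeCompl
  haveI : Algebra.EssFiniteType D₀ (Localization.AtPrime Q') :=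
    Algebra.EssFiniteType.comp D₀ D' _
  haveI : Algebra.EssFiniteType A (Localization.AtPrime Q') :=
    Algebra.EssFiniteType.of_comp D₀ A _
  haveI : IsLocalHom (algebraMap A (Localization.AtPrime Q')) := by
    constructor
    intro a ha
    have h1 : IsUnit (γ₀ (algebraMap A (Localization.AtPrime Q') a)) := ha.map γ₀
    rw [show γ₀ (algebraMap A (Localization.AtPrime Q') a) = algebraMap A _ a from
      RingHom.congr_fun hγ₀β a] at h1
    exact isUnit_of_map_unit (algebraMap A (AdicCompletion (maximalIdeal A) A)) a h1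
  let ψN : Localization.AtPrime Q' →+* A ⧸ maximalIdeal A ^ n :=
    (AdicCompletion.evalₐ (maximalIdeal A) n).toRingHom.comp γ₀
  have hψN : ∀ c : A, ψN (algebraMap A (Localization.AtPrime Q') c) = Ideal.Quotient.mk _ c := by
    intro c
    show AdicCompletion.evalₐ (maximalIdeal A) n
      (γ₀ (algebraMap A (Localization.AtPrime Q') c)) = _
    rw [show γ₀ (algebraMap A (Localization.AtPrime Q') c) = algebraMap A _ c from
      RingHom.congr_fun hγ₀β c, AlgHom.commutes]
    rfl
  obtain ⟨-, hcongr⟩ := NbhdLocal.local_congr n (Nat.pos_iff_ne_zero.mp hn) ψN hψN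
  have h1 : ψN (algebraMap D' (Localization.AtPrime Q') d) = Ideal.Quotient.mk _ (0 : A) := by
    show AdicCompletion.evalₐ (maximalIdeal A) n
      (γ₀ (algebraMap D' (Localization.AtPrime Q') d)) = _
    rw [hγ₀, map_zero, EtaleAtCpl.evalₐ_eq_zero_iff_mem_pow]
    exact hd
  have h2 := hcongr _ 0 h1
  rw [map_zero, map_zero, Ideal.Quotient.eq_zero_iff_mem] at h2
  rw [← IsLocalization.AtPrime.under_maximalIdeal_pow Q' (Localization.AtPrime Q') n]
  exact h2

end Groth.Agent.Lib.T2H8.NbhdTrunc
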