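import Mathlib
import Groth.Agent.Lib.T2H8ApproxPrimeB
import Groth.Agent.Lib.T2H8EtaleAtCpl
import Groth.Agent.Lib.T2H8NbhdTrunc
import Groth.Agent.Lib.T2H8ARApprox
import Groth.Agent.Lib.T2H8CohenPres

/-!
# Algebraization core: a finite type algebra with an ideal approximating a complete local ring
together with its associated graded ring (helper8)
-/

set_option autoImplicit false
universe u

namespace Groth.Agent.Lib.T2H8.AlgzCore

open IsLocalRing

theorem pi_mem_smul_top {T : Type*} [CommRing T] (I : Ideal T) {r : ℕ} (v : Fin r → T)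
    (hv : ∀ j, v j ∈ I) : v ∈ I • (⊤ : Submodule T (Fin r → T)) := by
  classical
  have h : v = ∑ j, v j • (Pi.single j (1 : T) : Fin r → T) := by
    funext i
    simp [Finset.sum_apply, Pi.single_apply]
  rw [h]
  exact Submodule.sum_mem _ fun j _ => Submodule.smul_mem_smul (hv j) Submodule.mem_top

section
variable {P : Type u} [CommRing P] (m₀ : Ideal P) [m₀.IsMaximal]
  (Λ : Type u) [CommRing Λ] [IsLocalRing Λ] [Algebra P Λ] [IsLocalization.AtPrime Λ m₀]
  [IsNoetherianRing Λ]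

local notation "Λh" => AdicCompletion (maximalIdeal Λ) Λ
local notation "mh" => maximalIdeal (AdicCompletion (maximalIdeal Λ) Λ)

include m₀ in
theorem core_local (hG : CAlg.IsGRing Λ)
    {R : Type u} [CommRing R] [IsLocalRing R]
    (π : Λh →+* R) (hπ : Function.Surjective π)
    (hπm : (mh).map π = maximalIdeal R) (N : ℕ) :
    ∃ (D' : Type u) (_ : CommRing D') (_ : Algebra P D') (_ : Algebra.Etale P D')
      (φ : D' →+* R) (p : Ideal D') (_ : p.IsMaximal) (I' : Ideal D'),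
      (∀ d₀ : P, φ (algebraMap P D' d₀) = π (algebraMap P Λh d₀)) ∧
      (∀ d, d ∈ p ↔ φ d ∈ maximalIdeal R) ∧
      I' ≤ p ∧
      (∀ n, ∀ t ∈ p ^ n, φ t ∈ maximalIdeal R ^ n) ∧
      (∀ n, ∀ a' ∈ maximalIdeal R ^ n, ∃ d₀ : P, algebraMap P D' d₀ ∈ p ^ n ∧
        φ (algebraMap P D' d₀) - a' ∈ maximalIdeal R ^ (n + 1)) ∧
      (∀ n, ∀ t ∈ p ^ n, (φ t ∈ maximalIdeal R ^ (n + 1) ↔ t ∈ I' ⊔ p ^ (n + 1))) ∧
      (∀ t, φ t ∈ maximalIdeal R ^ (N + 1) ↔ t ∈ I' ⊔ p ^ (N + 1)) ∧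
      (∀ (n : ℕ) (r : R), ∃ d₀ : P, φ (algebraMap P D' d₀) - r ∈ maximalIdeal R ^ n) := by
  classical
  haveI hNĈ : IsNoetherianRing Λh :=
    Groth.Agent.Lib.Helper19.isNoetherianRing_adicCompletion _
  -- facts on π
  have hπ1 : ∀ n, (mh ^ n).map π = maximalIdeal R ^ n := by
    intro n
    rw [Ideal.map_pow, hπm]
  have hπ2 : ∀ n w, w ∈ mh ^ n → π w ∈ maximalIdeal R ^ n := by
    intro n w hw
    rw [← hπ1 n]
    exact Ideal.mem_map_of_mem _ hw
  have hπ3 : ∀ n, ∀ a' ∈ maximalIdeal R ^ n, ∃ w ∈ mh ^ n, π w = a' := by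
    intro n a' ha'
    rw [← hπ1 n] at ha'
    exact (Ideal.mem_map_iff_of_surjective π hπ).mp ha'
  have hπ4 : ∀ w, π w ∈ maximalIdeal R → w ∈ mh := by
    intro w hw
    by_contra hnot
    have hu : IsUnit w := by
      by_contra h
      exact hnot ((IsLocalRing.mem_maximalIdeal _).mpr h)
    exact (IsLocalRing.mem_maximalIdeal _).mp hw (hu.map π)
  have hc1 : ∀ n w, (π w ∈ maximalIdeal R ^ (n + 1) ↔ w ∈ RingHom.ker π ⊔ mh ^ (n + 1)) := by
    intro n w
    constructor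
    · intro h
      obtain ⟨w', hw', hww'⟩ := hπ3 (n + 1) _ h
      have h1 : w - w' ∈ RingHom.ker π := by
        rw [RingHom.mem_ker, map_sub, hww', sub_self]
      have h2 : w = (w - w') + w' := by ring
      rw [h2]
      exact Submodule.add_mem_sup h1 hw'
    · intro h
      obtain ⟨a, ha, b, hb, rfl⟩ := Submodule.mem_sup.mp h
      rw [map_add, (RingHom.mem_ker).mp ha, zero_add]
      exact hπ2 _ _ hb
  -- generators of the kernel and of the relations
  obtain ⟨r, f, hf⟩ := Submodule.fg_iff_exists_fin_generating_family.mp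
    ((isNoetherianRing_iff_ideal_fg _).mp hNĈ (RingHom.ker π))
  have hfker : ∀ j, π (f j) = 0 := by
    intro j
    have h1 : f j ∈ RingHom.ker π := by
      rw [← hf]
      exact Submodule.subset_span ⟨j, rfl⟩
    exact (RingHom.mem_ker).mp h1
  let β : (Fin r → Λh) →ₗ[Λh] Λh := Fintype.linearCombination Λh f
  have hβrange : LinearMap.range β = RingHom.ker π :=
    (Fintype.range_linearCombination Λh f).trans hf
  obtain ⟨s, ρ, hρ⟩ := Submodule.fg_iff_exists_fin_generating_family.mp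
    (IsNoetherian.noetherian (LinearMap.ker β))
  let α : (Fin s → Λh) →ₗ[Λh] (Fin r → Λh) := Fintype.linearCombination Λh ρ
  have hex : LinearMap.ker β = LinearMap.range α :=
    ((Fintype.range_linearCombination Λh ρ).trans hρ).symm
  have hρrel : ∀ i, ∑ j, ρ i j * f j = 0 := by
    intro i
    have h1 : ρ i ∈ LinearMap.ker β := by
      rw [← hρ]
      exact Submodule.subset_span ⟨i, rfl⟩
    have h2 : β (ρ i) = 0 := LinearMap.mem_ker.mp h1
    rw [Fintype.linearCombination_apply] at h2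
    simpa [smul_eq_mul] using h2
  obtain ⟨c, hc⟩ := ARApprox.exists_stable (I := mh) α β hex
  -- the system of equations
  let ι := Fin r ⊕ Fin s × Fin r
  let eqs : Fin s → MvPolynomial ι P := fun i =>
    ∑ j, MvPolynomial.X (Sum.inr (i, j)) * MvPolynomial.X (Sum.inl j)
  let Ieq : Ideal (MvPolynomial ι P) := Ideal.span (Set.range eqs)
  have hIeqfg : Ieq.FG := Submodule.fg_span (Set.finite_range eqs)
  haveI : Algebra.FinitePresentation P (MvPolynomial ι P ⧸ Ieq) :=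
    Algebra.FinitePresentation.quotient hIeqfg
  let sol : ι → Λh := Sum.elim f (fun ij => ρ ij.1 ij.2)
  have hsol : ∀ a ∈ Ieq, (MvPolynomial.aeval sol : MvPolynomial ι P →ₐ[P] Λh) a = 0 := by
    have h1 : Ieq ≤ RingHom.ker (MvPolynomial.aeval sol : MvPolynomial ι P →ₐ[P] Λh).toRingHom := by
      rw [Ideal.span_le]
      rintro _ ⟨i, rfl⟩
      rw [SetLike.mem_coe, RingHom.mem_ker]
      show MvPolynomial.aeval sol (eqs i) = 0
      simp only [eqs, map_sum, map_mul, MvPolynomial.aeval_X, sol, Sum.elim_inl, Sum.elim_inr]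
      exact hρrel i
    exact fun a ha => h1 ha
  let fp : (MvPolynomial ι P ⧸ Ieq) →ₐ[P] Λh :=
    Ideal.Quotient.liftₐ Ieq (MvPolynomial.aeval sol) hsol
  have hfpX : ∀ x : ι, fp (Ideal.Quotient.mk Ieq (MvPolynomial.X x)) = sol x := by
    intro x
    show (MvPolynomial.aeval sol : MvPolynomial ι P →ₐ[P] Λh) (MvPolynomial.X x) = sol x
    rw [MvPolynomial.aeval_X]
  obtain ⟨D', _, _, hD', σ, ψ, happ⟩ := ApproxPrimeB.approx_etale_loc' P m₀ Λ hG
    (MvPolynomial ι P ⧸ Ieq) fp (max c N)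
  haveI := hD'
  let f' : Fin r → D' := fun j => σ (Ideal.Quotient.mk Ieq (MvPolynomial.X (Sum.inl j)))
  let ρ' : Fin s → Fin r → D' := fun i j =>
    σ (Ideal.Quotient.mk Ieq (MvPolynomial.X (Sum.inr (i, j))))
  have hrel' : ∀ i, ∑ j, ρ' i j * f' j = 0 := by
    intro i
    have h1 : ∑ j, ρ' i j * f' j = σ (Ideal.Quotient.mk Ieq (eqs i)) := by
      simp only [ρ', f', eqs, map_sum, map_mul]
    have h2 : eqs i ∈ Ieq := Ideal.subset_span ⟨i, rfl⟩
    rw [h1, Ideal.Quotient.eq_zero_iff_mem.mpr h2, map_zero]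
  have hcloseX : ∀ x : ι, ψ (σ (Ideal.Quotient.mk Ieq (MvPolynomial.X x))) - sol x ∈
      mh ^ (max c N + 1) := by
    intro x
    rw [← EtaleAtCpl.evalₐ_eq_zero_iff_mem_pow, map_sub, happ, hfpX, sub_self]
  have hclose_f : ∀ j, ψ (f' j) - f j ∈ mh ^ (max c N + 1) := fun j => hcloseX (Sum.inl j)
  have hclose_ρ : ∀ i j, ψ (ρ' i j) - ρ i j ∈ mh ^ (max c N + 1) :=
    fun i j => hcloseX (Sum.inr (i, j))
  have hpowle : ∀ {a b : ℕ}, a ≤ b → mh ^ b ≤ mh ^ a := fun h => Ideal.pow_le_pow_right h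
  have hψP : ∀ d₀ : P, ψ (algebraMap P D' d₀) = algebraMap P Λh d₀ := fun d₀ => ψ.commutes d₀
  -- the maximal ideal
  obtain ⟨p, hpdef⟩ : ∃ p : Ideal D', p = Ideal.comap ψ.toRingHom mh := ⟨_, rfl⟩
  have hpmem : ∀ d, d ∈ p ↔ ψ d ∈ mh := by
    intro d
    rw [hpdef]
    rfl
  haveI hpmax : p.IsMaximal := by
    let q : D' →+* (Λh ⧸ mh) := (Ideal.Quotient.mk mh).comp ψ.toRingHom
    have hq : Function.Surjective q := by
      intro y
      obtain ⟨w, rfl⟩ := Ideal.Quotient.mk_surjective y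
      obtain ⟨d₀, hd₀⟩ := NbhdTrunc.exists_sub_mem_pow m₀ Λ 1 w
      refine ⟨algebraMap P D' d₀, ?_⟩
      show Ideal.Quotient.mk mh (ψ (algebraMap P D' d₀)) = Ideal.Quotient.mk mh w
      rw [hψP, Ideal.Quotient.eq]
      rwa [pow_one] at hd₀
    have h1 : p = (⊥ : Ideal (Λh ⧸ mh)).comap q := by
      ext d
      rw [hpmem, Ideal.mem_comap, Ideal.mem_bot]
      exact Ideal.Quotient.eq_zero_iff_mem.symm
    rw [h1]
    haveI : (⊥ : Ideal (Λh ⧸ mh)).IsMaximal := by
      letI := Ideal.Quotient.field mh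
      exact Ideal.bot_isMaximal
    exact Ideal.comap_isMaximal_of_surjective q hq
  have hψpow : ∀ n t, t ∈ p ^ n → ψ t ∈ mh ^ n := by
    intro n t ht
    have h1 : (p ^ n).map ψ.toRingHom ≤ mh ^ n := by
      rw [Ideal.map_pow, hpdef]
      exact Ideal.pow_right_mono Ideal.map_comap_le n
    exact h1 (Ideal.mem_map_of_mem _ ht)
  have hpowψ : ∀ n t, ψ t ∈ mh ^ n → t ∈ p ^ n := fun n t h =>
    NbhdTrunc.mem_pow_of_map_mem_pow m₀ Λ ψ p hpmem n t h
  obtain ⟨I', hI'def⟩ : ∃ I' : Ideal D', I' = Ideal.span (Set.range f') := ⟨_, rfl⟩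
  obtain ⟨J', hJ'def⟩ : ∃ J' : Ideal Λh, J' = Ideal.span (Set.range fun j => ψ (f' j)) := ⟨_, rfl⟩
  have hfmh : ∀ j, f j ∈ mh := fun j => hπ4 _ (by rw [hfker j]; exact Ideal.zero_mem _)
  have hI'p : I' ≤ p := by
    rw [hI'def, Ideal.span_le]
    rintro _ ⟨j, rfl⟩
    rw [SetLike.mem_coe, hpmem]
    have h1 : ψ (f' j) = f j + (ψ (f' j) - f j) := by ring
    rw [h1]
    refine Ideal.add_mem _ (hfmh j) ?_
    have h2 := hpowle (a := 1) (b := max c N + 1) (by omega) (hclose_f j)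
    rwa [pow_one] at h2
  have hI'J' : ∀ a ∈ I', ψ a ∈ J' := by
    have h1 : I' ≤ J'.comap ψ.toRingHom := by
      rw [hI'def, Ideal.span_le]
      rintro _ ⟨j, rfl⟩
      show ψ (f' j) ∈ J'
      rw [hJ'def]
      exact Ideal.subset_span ⟨j, rfl⟩
    exact fun a ha => h1 ha
  -- (c2)
  have hc2 : ∀ n t, (t ∈ I' ⊔ p ^ (n + 1) ↔ ψ t ∈ J' ⊔ mh ^ (n + 1)) := by
    intro n t
    constructor
    · intro h
      obtain ⟨a, ha, b, hb, rfl⟩ := Submodule.mem_sup.mp h
      rw [map_add]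
      exact Submodule.add_mem_sup (hI'J' a ha) (hψpow _ _ hb)
    · intro h
      obtain ⟨a, ha, v, hv, hav⟩ := Submodule.mem_sup.mp h
      rw [hJ'def] at ha
      obtain ⟨w, hw⟩ := Ideal.mem_span_range_iff_exists_fun.mp ha
      choose d hd using fun j => NbhdTrunc.exists_sub_mem_pow m₀ Λ (n + 1) (w j)
      have h1 : ψ (t - ∑ j, algebraMap P D' (d j) * f' j) ∈ mh ^ (n + 1) := by
        have h2 : ψ (t - ∑ j, algebraMap P D' (d j) * f' j) =
            v - ∑ j, (algebraMap P Λh (d j) - w j) * ψ (f' j) := by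
          rw [map_sub, map_sum, ← hav, ← hw]
          simp only [map_mul, hψP, sub_mul, Finset.sum_sub_distrib]
          ring
        rw [h2]
        refine Ideal.sub_mem _ hv (Ideal.sum_mem _ fun j _ => ?_)
        exact Ideal.mul_mem_right _ _ (hd j)
      have h3 := hpowψ _ _ h1
      have h4 : t = ∑ j, algebraMap P D' (d j) * f' j +
          (t - ∑ j, algebraMap P D' (d j) * f' j) := by ring
      rw [h4]
      refine Submodule.add_mem_sup (Ideal.sum_mem _ fun j _ => ?_) h3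
      rw [hI'def]
      exact Ideal.mul_mem_left _ _ (Ideal.subset_span ⟨j, rfl⟩)
  -- (c3)
  let β' : (Fin r → Λh) →ₗ[Λh] Λh := Fintype.linearCombination Λh (fun j => ψ (f' j))
  have hβ'range : LinearMap.range β' = J' := by
    rw [hJ'def]
    exact Fintype.range_linearCombination Λh _
  let α' : (Fin s → Λh) →ₗ[Λh] (Fin r → Λh) :=
    Fintype.linearCombination Λh (fun i => (fun j => ψ (ρ' i j)))
  have hsmul_top : ∀ n, mh ^ n • (⊤ : Submodule Λh Λh) = mh ^ n := by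
    intro n
    show mh ^ n * (⊤ : Ideal Λh) = mh ^ n
    rw [Ideal.mul_top]
  have hα' : ∀ x, α' x - α x ∈ mh ^ (c + 1) • (⊤ : Submodule Λh (Fin r → Λh)) := by
    intro x
    apply pi_mem_smul_top
    intro j
    have h1 : (α' x - α x) j = ∑ i, x i * (ψ (ρ' i j) - ρ i j) := by
      simp only [α', α, Fintype.linearCombination_apply, Pi.sub_apply, Finset.sum_apply,
        Pi.smul_apply, smul_eq_mul, mul_sub, Finset.sum_sub_distrib]
    rw [h1]
    refine Ideal.sum_mem _ fun i _ => Ideal.mul_mem_left _ _ ?_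
    exact hpowle (by omega) (hclose_ρ i j)
  have hβ' : ∀ ℓ, β' ℓ - β ℓ ∈ mh ^ (c + 1) • (⊤ : Submodule Λh Λh) := by
    intro ℓ
    rw [hsmul_top]
    have h1 : β' ℓ - β ℓ = ∑ j, ℓ j * (ψ (f' j) - f j) := by
      simp only [β', β, Fintype.linearCombination_apply, smul_eq_mul, mul_sub,
        Finset.sum_sub_distrib]
    rw [h1]
    refine Ideal.sum_mem _ fun j _ => Ideal.mul_mem_left _ _ ?_
    exact hpowle (by omega) (hclose_f j)
  have hcomp : ∀ x, β' (α' x) = 0 := by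
    intro x
    have h1 : ∀ i, β' (fun j => ψ (ρ' i j)) = 0 := by
      intro i
      show Fintype.linearCombination Λh (fun j => ψ (f' j)) (fun j => ψ (ρ' i j)) = 0
      rw [Fintype.linearCombination_apply]
      simp only [smul_eq_mul]
      rw [← map_zero ψ, ← hrel' i, map_sum]
      simp only [map_mul]
    have h2 : α' x = ∑ i, x i • (fun j => ψ (ρ' i j)) := rfl
    rw [h2, map_sum]
    refine Finset.sum_eq_zero fun i _ => ?_
    rw [map_smul, h1 i, smul_zero]
  have hc3 : ∀ n x, x ∈ mh ^ n →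
      (x ∈ RingHom.ker π ⊔ mh ^ (n + 1) ↔ x ∈ J' ⊔ mh ^ (n + 1)) := by
    intro n x hx
    have h1 := hc α' β' hα' hβ' hcomp n x (by rw [hsmul_top]; exact hx)
    rw [hsmul_top, hβrange, hβ'range] at h1
    exact h1
  -- level N + 1
  have hJJ' : RingHom.ker π ⊔ mh ^ (N + 1) = J' ⊔ mh ^ (N + 1) := by
    apply le_antisymm
    · refine sup_le ?_ le_sup_right
      rw [← hf]
      show Ideal.span (Set.range f) ≤ _
      rw [Ideal.span_le]
      rintro _ ⟨j, rfl⟩
      have h1 : f j = ψ (f' j) - (ψ (f' j) - f j) := by ring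
      rw [SetLike.mem_coe, h1]
      refine Ideal.sub_mem _ (Ideal.mem_sup_left ?_) (Ideal.mem_sup_right ?_)
      · rw [hJ'def]
        exact Ideal.subset_span ⟨j, rfl⟩
      · exact hpowle (by omega) (hclose_f j)
    · refine sup_le ?_ le_sup_right
      rw [hJ'def, Ideal.span_le]
      rintro _ ⟨j, rfl⟩
      have h1 : ψ (f' j) = f j + (ψ (f' j) - f j) := by ring
      show ψ (f' j) ∈ _
      rw [h1]
      refine Ideal.add_mem _ (Ideal.mem_sup_left ?_) (Ideal.mem_sup_right ?_)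
      · rw [RingHom.mem_ker]
        exact hfker j
      · exact hpowle (by omega) (hclose_f j)
  -- assemble
  refine ⟨D', inferInstance, inferInstance, hD', π.comp ψ.toRingHom, p, hpmax, I', ?_, ?_, hI'p,
    ?_, ?_, ?_, ?_, ?_⟩
  · intro d₀
    show π (ψ (algebraMap P D' d₀)) = _
    rw [hψP]
  · intro d
    rw [hpmem]
    constructor
    · intro h
      have h1 := hπ2 1 _ (by rw [pow_one]; exact h)
      rwa [pow_one] at h1
    · intro h
      exact hπ4 _ h
  · intro n t ht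
    exact hπ2 n _ (hψpow n t ht)
  · intro n a' ha'
    obtain ⟨w, hw, rfl⟩ := hπ3 n a' ha'
    obtain ⟨d₀, hd₀⟩ := NbhdTrunc.exists_sub_mem_pow m₀ Λ (n + 1) w
    refine ⟨d₀, hpowψ n _ ?_, ?_⟩
    · rw [hψP]
      have h1 : algebraMap P Λh d₀ = w + (algebraMap P Λh d₀ - w) := by ring
      rw [h1]
      exact Ideal.add_mem _ hw (hpowle (Nat.le_succ n) hd₀)
    · show π (ψ (algebraMap P D' d₀)) - π w ∈ _
      rw [hψP, ← map_sub]
      exact hπ2 _ _ hd₀
  · intro n t ht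
    show π (ψ t) ∈ _ ↔ _
    rw [hc1, hc3 n _ (hψpow n t ht), hc2]
  · intro t
    show π (ψ t) ∈ _ ↔ _
    rw [hc1, hJJ', hc2]
  · intro n r
    obtain ⟨w, rfl⟩ := hπ r
    obtain ⟨d₀, hd₀⟩ := NbhdTrunc.exists_sub_mem_pow m₀ Λ n w
    refine ⟨d₀, ?_⟩
    show π (ψ (algebraMap P D' d₀)) - π w ∈ _
    rw [hψP, ← map_sub]
    exact hπ2 _ _ hd₀

end

/-- the common source: a finite type `k`-algebra `T` with a maximal ideal `p`, an ideal `I'` and a
map `φ₁ : T → R` such that `R` and `T ⧸ I'` have the same associated graded ring and the same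
truncation at level `N + 1` -/
theorem exists_common_source {k R B : Type u} [Field k] [CommRing R] [Algebra k R] [IsLocalRing R]
    [IsNoetherianRing R] [IsAdicComplete (maximalIdeal R) R]
    (hres : Function.Surjective (fun c : k => IsLocalRing.residue R (algebraMap k R c)))
    [CommRing B] [Algebra k B] [Algebra.FiniteType k B] (g : B →ₐ[k] R) (N : ℕ) :
    ∃ (T : Type u) (_ : CommRing T) (_ : Algebra k T) (_ : Algebra.FiniteType k T)
      (p : Ideal T) (_ : p.IsMaximal) (I' : Ideal T) (φ₁ : T →ₐ[k] R) (gT : B →ₐ[k] T),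
      I' ≤ p ∧ φ₁.comp gT = g ∧
      (∀ t, t ∈ p ↔ φ₁ t ∈ maximalIdeal R) ∧
      (∀ t : T, ∃ c : k, t - algebraMap k T c ∈ p) ∧
      (∀ n, ∀ t ∈ p ^ n, φ₁ t ∈ maximalIdeal R ^ n) ∧
      (∀ n, ∀ a' ∈ maximalIdeal R ^ n, ∃ a ∈ p ^ n, φ₁ a - a' ∈ maximalIdeal R ^ (n + 1)) ∧
      (∀ n, ∀ t ∈ p ^ n, (φ₁ t ∈ maximalIdeal R ^ (n + 1) ↔ t ∈ I' ⊔ p ^ (n + 1))) ∧
      (∀ t, φ₁ t ∈ maximalIdeal R ^ (N + 1) ↔ t ∈ I' ⊔ p ^ (N + 1)) ∧
      (∀ (n : ℕ) (r : R), ∃ t, φ₁ t - r ∈ maximalIdeal R ^ n) := by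
  classical
  obtain ⟨P, _, _, hPft, ι, ev, m₀, hm₀max, hevι, hm₀, hmap⟩ :=
    CohenPres.exists_presentation hres g
  haveI := hPft
  haveI := hm₀max
  haveI : IsNoetherianRing P := Algebra.FiniteType.isNoetherianRing k P
  obtain ⟨π, hπsurj, hπP, hπm⟩ := CohenPres.exists_surjection hres ev m₀ hm₀ hmap
  have hGP : CAlg.IsGRing P :=
    Groth.Agent.Lib.Helper7.PolyGRing2.isGRing_of_finiteType k (ApproxMax.isGRing_field k) P
  have hGΛ : CAlg.IsGRing (Localization.AtPrime m₀) :=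
    Groth.Agent.Lib.Helper7.ExcLoc.isGRing_localization P hGP m₀.primeCompl
  haveI : IsNoetherianRing (Localization.AtPrime m₀) := hGΛ.1
  obtain ⟨D', _, _, hD', φ, p, hpmax, I', hφP, hp, hI'p, h1, h2, h3, h4, h5⟩ :=
    core_local m₀ (Localization.AtPrime m₀) hGΛ π hπsurj hπm N
  haveI := hD'
  letI algkD : Algebra k D' := ((algebraMap P D').comp (algebraMap k P)).toAlgebra
  haveI : IsScalarTower k P D' := IsScalarTower.of_algebraMap_eq (fun _ => rfl)
  haveI : Algebra.FiniteType k D' := Algebra.FiniteType.trans (S := P) inferInstance inferInstance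
  let φ₁ : D' →ₐ[k] R :=
    { φ with
      commutes' := fun c => by
        show φ (algebraMap P D' (algebraMap k P c)) = algebraMap k R c
        rw [hφP, hπP, AlgHom.commutes] }
  have hφ₁ : ∀ t, φ₁ t = φ t := fun _ => rfl
  let gT : B →ₐ[k] D' := (IsScalarTower.toAlgHom k P D').comp ι
  refine ⟨D', inferInstance, algkD, inferInstance, p, hpmax, I', φ₁, gT, hI'p, ?_, hp, ?_, h1, ?_,
    h3, h4, ?_⟩
  · apply AlgHom.ext
    intro b
    show φ (algebraMap P D' (ι b)) = g b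
    rw [hφP, hπP, ← hevι]
    rfl
  · intro t
    obtain ⟨c, hc⟩ := hres (IsLocalRing.residue R (φ₁ t))
    refine ⟨c, (hp _).mpr ?_⟩
    show φ₁ (t - algebraMap k D' c) ∈ _
    rw [map_sub, AlgHom.commutes]
    exact Ideal.Quotient.eq.mp hc.symm
  · intro n a' ha'
    obtain ⟨d₀, hd1, hd2⟩ := h2 n a' ha'
    exact ⟨_, hd1, hd2⟩
  · intro n r
    obtain ⟨d₀, hd⟩ := h5 n r
    exact ⟨_, hd⟩

end Groth.Agent.Lib.T2H8.AlgzCore
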