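import Mathlib
import Groth.Prelude.Def_AssocGr

/-!
# Functoriality of the associated graded ring of a filtration (helper8)
-/

set_option autoImplicit false
universe u

namespace Groth.Agent.Lib.T2H8.GrFunct

open Polynomial

section

variable {A A' : Type u} [CommRing A] [CommRing A'] (𝓕 : FiltBl.IdealFiltration A)
  (𝓕' : FiltBl.IdealFiltration A') (φ : A →+* A')
  (hφ : ∀ n a, a ∈ 𝓕.F n → φ a ∈ 𝓕'.F n)

/-- the map of Rees algebras induced by a filtered ring map -/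
noncomputable def reesMap : 𝓕.rees →+* 𝓕'.rees :=
  ((Polynomial.mapRingHom φ).comp (𝓕.rees.val : 𝓕.rees →+* A[X])).codRestrict 𝓕'.rees
    (fun f n => by
      show (Polynomial.map φ (f : A[X])).coeff n ∈ 𝓕'.F n
      rw [Polynomial.coeff_map]
      exact hφ n _ (f.2 n))

theorem coe_reesMap (f : 𝓕.rees) :
    ((reesMap 𝓕 𝓕' φ hφ f : 𝓕'.rees) : A'[X]) = Polynomial.map φ (f : A[X]) := rfl

/-- the map of associated graded rings induced by a filtered ring map -/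
noncomputable def grMap : AssocGr.GrRing 𝓕 →+* AssocGr.GrRing 𝓕' :=
  (Ideal.Quotient.lift (AssocGr.succIdeal 𝓕)
    ((Ideal.Quotient.mk (AssocGr.succIdeal 𝓕')).comp (reesMap 𝓕 𝓕' φ hφ)) (by
      intro f hf
      rw [RingHom.comp_apply, Ideal.Quotient.eq_zero_iff_mem, AssocGr.mem_succIdeal_iff]
      intro n
      rw [coe_reesMap, Polynomial.coeff_map]
      exact hφ (n + 1) _ (hf n)) :
    (↥𝓕.rees ⧸ AssocGr.succIdeal 𝓕) →+* (↥𝓕'.rees ⧸ AssocGr.succIdeal 𝓕'))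

theorem grMap_mkG (f : 𝓕.rees) :
    grMap 𝓕 𝓕' φ hφ (AssocGr.mkG 𝓕 f) = AssocGr.mkG 𝓕' (reesMap 𝓕 𝓕' φ hφ f) := rfl

theorem grMap_eq_zero_iff (f : 𝓕.rees) :
    grMap 𝓕 𝓕' φ hφ (AssocGr.mkG 𝓕 f) = 0 ↔ ∀ n, φ ((f : A[X]).coeff n) ∈ 𝓕'.F (n + 1) := by
  rw [grMap_mkG, AssocGr.mkG_eq_zero_iff, AssocGr.mem_succIdeal_iff]
  simp only [coe_reesMap, Polynomial.coeff_map]

theorem grMap_mem_gr {n : ℕ} {x : AssocGr.GrRing 𝓕} (hx : x ∈ AssocGr.gr 𝓕 n) :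
    grMap 𝓕 𝓕' φ hφ x ∈ AssocGr.gr 𝓕' n := by
  obtain ⟨f, hf, rfl⟩ := (AssocGr.mem_gr_iff 𝓕 n x).mp hx
  rw [grMap_mkG]
  apply AssocGr.mkG_mem_gr
  rw [Rees.mem_deg_iff] at hf ⊢
  intro m hm
  rw [coe_reesMap, Polynomial.coeff_map, hf m hm, map_zero]

theorem grMap_algebraMap (r : A) :
    grMap 𝓕 𝓕' φ hφ (algebraMap A (AssocGr.GrRing 𝓕) r) =
      algebraMap A' (AssocGr.GrRing 𝓕') (φ r) := by
  rw [← (AssocGr.mkG 𝓕).commutes r, grMap_mkG, ← (AssocGr.mkG 𝓕').commutes (φ r)]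
  congr 1
  apply Subtype.ext
  rw [coe_reesMap]
  show Polynomial.map φ (algebraMap A A[X] r) = algebraMap A' A'[X] (φ r)
  rw [Polynomial.algebraMap_apply, Polynomial.algebraMap_apply, Polynomial.map_C]
  rfl

/-- the filtered map is surjective on graded pieces -/
def GrSurj : Prop := ∀ n, ∀ a' ∈ 𝓕'.F n, ∃ a ∈ 𝓕.F n, φ a - a' ∈ 𝓕'.F (n + 1)

variable {𝓕 𝓕' φ}

theorem exists_mem_gr_grMap_eq (hs : GrSurj 𝓕 𝓕' φ) {n : ℕ} {y : AssocGr.GrRing 𝓕'}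
    (hy : y ∈ AssocGr.gr 𝓕' n) : ∃ x ∈ AssocGr.gr 𝓕 n, grMap 𝓕 𝓕' φ hφ x = y := by
  obtain ⟨f', hf', rfl⟩ := (AssocGr.mem_gr_iff 𝓕' n y).mp hy
  obtain ⟨a, ha, haa⟩ := hs n ((f' : A'[X]).coeff n) (f'.2 n)
  refine ⟨(AssocGr.inDeg 𝓕 n ⟨a, ha⟩ : AssocGr.GrRing 𝓕), (AssocGr.inDeg 𝓕 n ⟨a, ha⟩).2, ?_⟩
  rw [AssocGr.coe_inDeg, grMap_mkG, ← sub_eq_zero, ← map_sub, AssocGr.mkG_eq_zero_iff,
    AssocGr.mem_succIdeal_iff]
  intro m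
  rw [Subalgebra.coe_sub, coeff_sub, coe_reesMap, AssocGr.coe_coe_monom, Polynomial.map_monomial,
    coeff_monomial]
  by_cases hm : n = m
  · subst hm
    rw [if_pos rfl]
    exact haa
  · rw [if_neg hm, (Rees.mem_deg_iff _ _ _).mp hf' m (Ne.symm hm), sub_zero]
    exact Ideal.zero_mem _

theorem grMap_surjective (hs : GrSurj 𝓕 𝓕' φ) : Function.Surjective (grMap 𝓕 𝓕' φ hφ) := by
  intro y
  obtain ⟨f', rfl⟩ := AssocGr.mkG_surjective 𝓕' y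
  have h : ∀ n, ∃ x, grMap 𝓕 𝓕' φ hφ x = AssocGr.mkG 𝓕' (AssocGr.term 𝓕' f' n) := fun n => by
    obtain ⟨x, -, hx⟩ := exists_mem_gr_grMap_eq hφ hs
      (AssocGr.mkG_mem_gr 𝓕' (AssocGr.term_mem_deg 𝓕' f' n))
    exact ⟨x, hx⟩
  choose x hx using h
  refine ⟨∑ n ∈ (f' : A'[X]).support, x n, ?_⟩
  rw [map_sum]
  conv_rhs => rw [← AssocGr.sum_term 𝓕' f', map_sum]
  exact Finset.sum_congr rfl fun n _ => hx n

end

/-- two graded-surjective filtered maps out of the same filtered ring with the same graded kernel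
have isomorphic associated graded rings -/
theorem exists_equiv {T R₁ R₂ : Type u} [CommRing T] [CommRing R₁] [CommRing R₂]
    (𝓕T : FiltBl.IdealFiltration T) (𝓕₁ : FiltBl.IdealFiltration R₁)
    (𝓕₂ : FiltBl.IdealFiltration R₂) (φ₁ : T →+* R₁) (φ₂ : T →+* R₂)
    (h₁ : ∀ n a, a ∈ 𝓕T.F n → φ₁ a ∈ 𝓕₁.F n) (h₂ : ∀ n a, a ∈ 𝓕T.F n → φ₂ a ∈ 𝓕₂.F n)
    (hs₁ : GrSurj 𝓕T 𝓕₁ φ₁) (hs₂ : GrSurj 𝓕T 𝓕₂ φ₂)
    (hker : ∀ n, ∀ t ∈ 𝓕T.F n, (φ₁ t ∈ 𝓕₁.F (n + 1) ↔ φ₂ t ∈ 𝓕₂.F (n + 1))) :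
    ∃ e : AssocGr.GrRing 𝓕₁ ≃+* AssocGr.GrRing 𝓕₂,
      (∀ (n : ℕ) (x : AssocGr.GrRing 𝓕₁), x ∈ AssocGr.gr 𝓕₁ n → e x ∈ AssocGr.gr 𝓕₂ n) ∧
      ∀ t : T, e (algebraMap R₁ (AssocGr.GrRing 𝓕₁) (φ₁ t)) =
        algebraMap R₂ (AssocGr.GrRing 𝓕₂) (φ₂ t) := by
  have hsurj₁ := grMap_surjective h₁ hs₁
  have hsurj₂ := grMap_surjective h₂ hs₂
  have hkereq : RingHom.ker (grMap 𝓕T 𝓕₁ φ₁ h₁) = RingHom.ker (grMap 𝓕T 𝓕₂ φ₂ h₂) := by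
    ext x
    obtain ⟨f, rfl⟩ := AssocGr.mkG_surjective 𝓕T x
    rw [RingHom.mem_ker, RingHom.mem_ker, grMap_eq_zero_iff, grMap_eq_zero_iff]
    constructor
    · intro h n
      exact (hker n _ (f.2 n)).mp (h n)
    · intro h n
      exact (hker n _ (f.2 n)).mpr (h n)
  let e : AssocGr.GrRing 𝓕₁ ≃+* AssocGr.GrRing 𝓕₂ :=
    (RingHom.quotientKerEquivOfSurjective hsurj₁).symm.trans
      ((Ideal.quotEquivOfEq hkereq).trans (RingHom.quotientKerEquivOfSurjective hsurj₂))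
  have he : ∀ x, e (grMap 𝓕T 𝓕₁ φ₁ h₁ x) = grMap 𝓕T 𝓕₂ φ₂ h₂ x := by
    intro x
    have h3 : (RingHom.quotientKerEquivOfSurjective hsurj₁).symm (grMap 𝓕T 𝓕₁ φ₁ h₁ x) =
        Ideal.Quotient.mk _ x := (RingEquiv.symm_apply_eq _).mpr rfl
    show (RingHom.quotientKerEquivOfSurjective hsurj₂) ((Ideal.quotEquivOfEq hkereq)
      ((RingHom.quotientKerEquivOfSurjective hsurj₁).symm (grMap 𝓕T 𝓕₁ φ₁ h₁ x))) = _
    rw [h3, Ideal.quotEquivOfEq_mk]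
    rfl
  refine ⟨e, ?_, ?_⟩
  · intro n x hx
    obtain ⟨t, ht, rfl⟩ := exists_mem_gr_grMap_eq h₁ hs₁ hx
    rw [he]
    exact grMap_mem_gr 𝓕T 𝓕₂ φ₂ h₂ ht
  · intro t
    rw [← grMap_algebraMap 𝓕T 𝓕₁ φ₁ h₁, he, grMap_algebraMap]

end Groth.Agent.Lib.T2H8.GrFunct
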