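import Mathlib
import Groth.Agent.Lib.T2H8AlgzCore
import Groth.Agent.Lib.T2H8GrFunct
import Groth.Agent.Lib.T2H8ApproxMax

/-!
# Algebraization of formal objects: approximation with graded isomorphism (helper8)
-/

set_option autoImplicit false
universe u

namespace Groth.Agent.Lib.T2H8.AlgzMain

open IsLocalRing CategoryTheory CategoryTheory.Limits

/-- the image of `I^n` in `S ⧸ I^(n+1)` as a `k`-subspace -/
noncomputable def grV (k : Type*) {S : Type*} [CommRing k] [CommRing S] [Algebra k S]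
    (I : Ideal S) (n : ℕ) : Submodule k (S ⧸ I ^ (n + 1)) :=
  Submodule.map (Ideal.Quotient.mkₐ k (I ^ (n + 1))).toLinearMap ((I ^ n).restrictScalars k)

theorem mem_grV {k S : Type*} [CommRing k] [CommRing S] [Algebra k S] (I : Ideal S) (n : ℕ)
    (y : S ⧸ I ^ (n + 1)) :
    y ∈ grV k I n ↔ ∃ x ∈ I ^ n, Ideal.Quotient.mk (I ^ (n + 1)) x = y := by
  constructor
  · rintro ⟨x, hx, rfl⟩
    exact ⟨x, hx, rfl⟩
  · rintro ⟨x, hx, rfl⟩
    exact ⟨x, hx, rfl⟩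

theorem exists_surj {k T S : Type*} [CommRing k] [CommRing T] [CommRing S] [Algebra k T]
    [Algebra k S] (p : Ideal T) (I : Ideal S) (φ : T →ₐ[k] S) (n : ℕ)
    (h : ∀ t ∈ p ^ n, φ t ∈ I ^ n)
    (hs : ∀ a' ∈ I ^ n, ∃ a ∈ p ^ n, φ a - a' ∈ I ^ (n + 1)) :
    ∃ ℓ : ↥((p ^ n).restrictScalars k) →ₗ[k] ↥(grV k I n), Function.Surjective ℓ ∧
      ∀ t, ℓ t = 0 ↔ φ (t : T) ∈ I ^ (n + 1) := by
  let ℓ₀ : ↥((p ^ n).restrictScalars k) →ₗ[k] (S ⧸ I ^ (n + 1)) :=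
    ((Ideal.Quotient.mkₐ k (I ^ (n + 1))).toLinearMap ∘ₗ φ.toLinearMap).domRestrict
      ((p ^ n).restrictScalars k)
  have hℓ₀ : ∀ t, ℓ₀ t = Ideal.Quotient.mk (I ^ (n + 1)) (φ (t : T)) := fun _ => rfl
  let ℓ : ↥((p ^ n).restrictScalars k) →ₗ[k] ↥(grV k I n) :=
    LinearMap.codRestrict (grV k I n) ℓ₀ (fun t => (mem_grV I n _).mpr ⟨φ (t : T), h _ t.2, rfl⟩)
  have hℓ : ∀ t, (ℓ t : S ⧸ I ^ (n + 1)) = Ideal.Quotient.mk (I ^ (n + 1)) (φ (t : T)) :=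
    fun _ => rfl
  refine ⟨ℓ, ?_, ?_⟩
  · rintro ⟨y, hy⟩
    obtain ⟨x, hx, rfl⟩ := (mem_grV I n y).mp hy
    obtain ⟨a, ha, hax⟩ := hs x hx
    refine ⟨⟨a, ha⟩, Subtype.ext ?_⟩
    rw [hℓ]
    exact Ideal.Quotient.eq.mpr hax
  · intro t
    rw [← Submodule.coe_eq_zero, hℓ, Ideal.Quotient.eq_zero_iff_mem]

theorem grV_equiv {k T S₁ S₂ : Type*} [CommRing k] [CommRing T] [CommRing S₁] [CommRing S₂]
    [Algebra k T] [Algebra k S₁] [Algebra k S₂] (p : Ideal T) (I₁ : Ideal S₁) (I₂ : Ideal S₂)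
    (φ₁ : T →ₐ[k] S₁) (φ₂ : T →ₐ[k] S₂) (n : ℕ)
    (h₁ : ∀ t ∈ p ^ n, φ₁ t ∈ I₁ ^ n) (h₂ : ∀ t ∈ p ^ n, φ₂ t ∈ I₂ ^ n)
    (hs₁ : ∀ a' ∈ I₁ ^ n, ∃ a ∈ p ^ n, φ₁ a - a' ∈ I₁ ^ (n + 1))
    (hs₂ : ∀ a' ∈ I₂ ^ n, ∃ a ∈ p ^ n, φ₂ a - a' ∈ I₂ ^ (n + 1))
    (hker : ∀ t ∈ p ^ n, (φ₁ t ∈ I₁ ^ (n + 1) ↔ φ₂ t ∈ I₂ ^ (n + 1))) :
    Nonempty (grV k I₁ n ≃ₗ[k] grV k I₂ n) := by
  obtain ⟨ℓ₁, hsurj₁, hk₁⟩ := exists_surj p I₁ φ₁ n h₁ hs₁
  obtain ⟨ℓ₂, hsurj₂, hk₂⟩ := exists_surj p I₂ φ₂ n h₂ hs₂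
  have hkereq : LinearMap.ker ℓ₁ = LinearMap.ker ℓ₂ := by
    ext t
    rw [LinearMap.mem_ker, LinearMap.mem_ker, hk₁, hk₂]
    exact hker _ t.2
  exact ⟨(ℓ₁.quotKerEquivOfSurjective hsurj₁).symm ≪≫ₗ (Submodule.quotEquivOfEq _ _ hkereq) ≪≫ₗ
    (ℓ₂.quotKerEquivOfSurjective hsurj₂)⟩

theorem map_map {k : Type u} [Field k] (F : CommAlgCat.{u} k ⥤ Type u)
    {X Y Z : Type u} [CommRing X] [Algebra k X] [CommRing Y] [Algebra k Y] [CommRing Z]
    [Algebra k Z] (f : X →ₐ[k] Y) (g : Y →ₐ[k] Z) (x : F.obj (CommAlgCat.of k X)) :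
    F.map (CommAlgCat.ofHom g) (F.map (CommAlgCat.ofHom f) x) =
      F.map (CommAlgCat.ofHom (g.comp f)) x := by
  rw [CommAlgCat.ofHom_comp, FunctorToTypes.map_comp_apply]

theorem main_strong (k : Type u) [Field k]
    (F : CommAlgCat.{u} k ⥤ Type u)
    (hF : ∀ (J : Type u) [SmallCategory J] [IsFiltered J], PreservesColimitsOfShape J F)
    (R : Type u) [CommRing R] [Algebra k R] [IsLocalRing R] [IsNoetherianRing R]
    [IsAdicComplete (IsLocalRing.maximalIdeal R) R]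
    (hres : Function.Surjective (fun c : k => IsLocalRing.residue R (algebraMap k R c)))
    (ξ : F.obj (CommAlgCat.of k R)) (N : ℕ) :
    ∃ (A : Type u) (_ : CommRing A) (_ : Algebra k A) (_ : Algebra.FiniteType k A)
      (m : Ideal A) (_ : m.IsMaximal)
      (_ : Function.Surjective (fun c : k => Ideal.Quotient.mk m (algebraMap k A c)))
      (η : F.obj (CommAlgCat.of k A))
      (φ : (R ⧸ IsLocalRing.maximalIdeal R ^ (N + 1)) ≃ₐ[k] (A ⧸ m ^ (N + 1))),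
      F.map (CommAlgCat.ofHom (φ.toAlgHom.comp
          (Ideal.Quotient.mkₐ k (IsLocalRing.maximalIdeal R ^ (N + 1))))) ξ =
        F.map (CommAlgCat.ofHom (Ideal.Quotient.mkₐ k (m ^ (N + 1)))) η ∧
      (∀ n, Nonempty (grV k (maximalIdeal R) n ≃ₗ[k] grV k m n)) ∧
      ∃ e : AssocGr.GrRing (FiltBl.IdealFiltration.adic (IsLocalRing.maximalIdeal R)) ≃+*
          AssocGr.GrRing (FiltBl.IdealFiltration.adic m),
        (∀ (n : ℕ) (x : AssocGr.GrRing (FiltBl.IdealFiltration.adic (IsLocalRing.maximalIdeal R))),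
            x ∈ AssocGr.gr (FiltBl.IdealFiltration.adic (IsLocalRing.maximalIdeal R)) n →
              e x ∈ AssocGr.gr (FiltBl.IdealFiltration.adic m) n) ∧
        (∀ c : k, e (algebraMap R _ (algebraMap k R c)) = algebraMap A _ (algebraMap k A c)) := by
  classical
  haveI : PreservesFilteredColimits F := ⟨fun J _ _ => hF J⟩
  obtain ⟨B, _, _, hBfp, gB, ξB, hξB⟩ := ApproxMax.exists_fp_of_preserves_commAlgCat k R F ξ
  haveI := hBfp
  obtain ⟨T, _, _, hTft, p, hpmax, I', φ₁, gT, hI'p, hcomp, hp, hpres, h1, h2, h3, h4, h5⟩ :=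
    AlgzCore.exists_common_source hres gB N
  haveI := hTft
  haveI := hpmax
  let mkA : T →ₐ[k] T ⧸ I' := Ideal.Quotient.mkₐ k I'
  have hmkA : Function.Surjective mkA := Ideal.Quotient.mkₐ_surjective k I'
  obtain ⟨m, hmdef⟩ : ∃ m : Ideal (T ⧸ I'), m = p.map (Ideal.Quotient.mk I') := ⟨_, rfl⟩
  have hm_pow : ∀ n (t : T), Ideal.Quotient.mk I' t ∈ m ^ n ↔ t ∈ I' ⊔ p ^ n := by
    intro n t
    rw [hmdef, ← Ideal.map_pow, Ideal.mem_map_iff_of_surjective _ Ideal.Quotient.mk_surjective]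
    constructor
    · rintro ⟨u, hu, hut⟩
      have h6 : t - u ∈ I' := Ideal.Quotient.eq.mp hut.symm
      have h7 : t = (t - u) + u := by ring
      rw [h7]
      exact Submodule.add_mem_sup h6 hu
    · intro h
      obtain ⟨i, hi, u, hu, rfl⟩ := Submodule.mem_sup.mp h
      refine ⟨u, hu, ?_⟩
      rw [map_add, Ideal.Quotient.eq_zero_iff_mem.mpr hi, zero_add]
  have hmne : m ≠ ⊤ := by
    intro htop
    have h6 : Ideal.Quotient.mk I' (1 : T) ∈ m ^ 1 := by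
      rw [pow_one, htop]
      trivial
    rw [hm_pow, pow_one, sup_eq_right.mpr hI'p] at h6
    exact hpmax.ne_top ((Ideal.eq_top_iff_one _).mpr h6)
  have hm_res : ∀ a : T ⧸ I', ∃ c : k, a - algebraMap k (T ⧸ I') c ∈ m := by
    intro a
    obtain ⟨t, rfl⟩ := Ideal.Quotient.mk_surjective a
    obtain ⟨c, hc⟩ := hpres t
    refine ⟨c, ?_⟩
    show Ideal.Quotient.mk I' t - Ideal.Quotient.mk I' (algebraMap k T c) ∈ m
    rw [← map_sub, hmdef]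
    exact Ideal.mem_map_of_mem _ hc
  haveI hmmax : m.IsMaximal := CohenPres.isMaximal_of_residue_surjective (k := k) m hmne hm_res
  have hres_m : Function.Surjective
      (fun c : k => Ideal.Quotient.mk m (algebraMap k (T ⧸ I') c)) := by
    intro y
    obtain ⟨a, rfl⟩ := Ideal.Quotient.mk_surjective y
    obtain ⟨c, hc⟩ := hm_res a
    refine ⟨c, Ideal.Quotient.eq.mpr ?_⟩
    have h6 : algebraMap k (T ⧸ I') c - a = -(a - algebraMap k (T ⧸ I') c) := by ring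
    rw [h6]
    exact m.neg_mem hc
  -- the truncated isomorphism
  let q₁ : T →ₐ[k] R ⧸ maximalIdeal R ^ (N + 1) := (Ideal.Quotient.mkₐ k _).comp φ₁
  let q₂ : T →ₐ[k] (T ⧸ I') ⧸ m ^ (N + 1) := (Ideal.Quotient.mkₐ k _).comp mkA
  have hq₁ : Function.Surjective q₁ := by
    intro y
    obtain ⟨r, rfl⟩ := Ideal.Quotient.mk_surjective y
    obtain ⟨t, ht⟩ := h5 (N + 1) r
    exact ⟨t, Ideal.Quotient.eq.mpr ht⟩
  have hq₂ : Function.Surjective q₂ := (Ideal.Quotient.mkₐ_surjective k _).comp hmkA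
  have hkerq : RingHom.ker q₁ = RingHom.ker q₂ := by
    ext t
    rw [RingHom.mem_ker, RingHom.mem_ker]
    show Ideal.Quotient.mk _ (φ₁ t) = 0 ↔ Ideal.Quotient.mk _ (Ideal.Quotient.mk I' t) = 0
    rw [Ideal.Quotient.eq_zero_iff_mem, Ideal.Quotient.eq_zero_iff_mem, h4, hm_pow]
  let φ : (R ⧸ maximalIdeal R ^ (N + 1)) ≃ₐ[k] ((T ⧸ I') ⧸ m ^ (N + 1)) :=
    (Ideal.quotientKerAlgEquivOfSurjective hq₁).symm.trans
      ((Ideal.quotientEquivAlgOfEq k hkerq).trans (Ideal.quotientKerAlgEquivOfSurjective hq₂))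
  have hφq : ∀ t, φ (q₁ t) = q₂ t := by
    intro t
    show (Ideal.quotientKerAlgEquivOfSurjective hq₂) ((Ideal.quotientEquivAlgOfEq k hkerq)
      ((Ideal.quotientKerAlgEquivOfSurjective hq₁).symm (q₁ t))) = q₂ t
    rw [Ideal.quotientKerAlgEquivOfSurjective_symm_apply, Ideal.quotientEquivAlgOfEq_mk,
      Ideal.quotientKerAlgEquivOfSurjective_mk]
  -- graded data
  have h₂ : ∀ n (a : T), a ∈ p ^ n → Ideal.Quotient.mk I' a ∈ m ^ n := fun n a ha =>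
    (hm_pow n a).mpr (Ideal.mem_sup_right ha)
  have hs₂ : ∀ n, ∀ a' ∈ m ^ n, ∃ a ∈ p ^ n, Ideal.Quotient.mk I' a - a' ∈ m ^ (n + 1) := by
    intro n a' ha'
    obtain ⟨t, rfl⟩ := Ideal.Quotient.mk_surjective a'
    obtain ⟨i, hi, u, hu, rfl⟩ := Submodule.mem_sup.mp ((hm_pow n t).mp ha')
    refine ⟨u, hu, ?_⟩
    rw [map_add, Ideal.Quotient.eq_zero_iff_mem.mpr hi, zero_add, sub_self]
    exact Ideal.zero_mem _
  have hker : ∀ n, ∀ t ∈ p ^ n,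
      (φ₁ t ∈ maximalIdeal R ^ (n + 1) ↔ Ideal.Quotient.mk I' t ∈ m ^ (n + 1)) := by
    intro n t ht
    rw [h3 n t ht, hm_pow]
  refine ⟨T ⧸ I', inferInstance, inferInstance, inferInstance, m, hmmax, hres_m,
    F.map (CommAlgCat.ofHom (mkA.comp gT)) ξB, φ, ?_, ?_, ?_⟩
  · rw [← hξB, map_map, map_map]
    have hcomp2 : (φ.toAlgHom.comp (Ideal.Quotient.mkₐ k (maximalIdeal R ^ (N + 1)))).comp gB =
        (Ideal.Quotient.mkₐ k (m ^ (N + 1))).comp (mkA.comp gT) := by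
      apply AlgHom.ext
      intro b
      have hb : gB b = φ₁ (gT b) := by
        rw [← hcomp]
        rfl
      show φ (Ideal.Quotient.mk _ (gB b)) = q₂ (gT b)
      rw [hb]
      exact hφq (gT b)
    rw [hcomp2]
  · intro n
    exact grV_equiv p (maximalIdeal R) m φ₁ mkA n (h1 n) (h₂ n) (h2 n) (hs₂ n) (hker n)
  · obtain ⟨e, he1, he2⟩ := GrFunct.exists_equiv (FiltBl.IdealFiltration.adic p)
      (FiltBl.IdealFiltration.adic (maximalIdeal R)) (FiltBl.IdealFiltration.adic m)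
      φ₁.toRingHom (Ideal.Quotient.mk I') h1 h₂ h2 hs₂ hker
    refine ⟨e, he1, fun c => ?_⟩
    have h6 := he2 (algebraMap k T c)
    have h7 : φ₁.toRingHom (algebraMap k T c) = algebraMap k R c := φ₁.commutes c
    rw [h7] at h6
    exact h6

end Groth.Agent.Lib.T2H8.AlgzMain
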