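import Mathlib
import Groth.Agent.Lib.T2H8AlgzMain
import Groth.Agent.Lib.T2H8ApproxPair

/-!
# Algebraization of versal formal objects (helper8)
-/

set_option autoImplicit false
universe u

namespace Groth.Agent.Lib.T2H8.AlgzVersal

open IsLocalRing CategoryTheory CategoryTheory.Limits

section QuotPow

variable {A : Type*} [CommRing A] (m : Ideal A) [hm : m.IsMaximal]

theorem map_mk_isMaximal (n : ℕ) (hn : n ≠ 0) :
    (m.map (Ideal.Quotient.mk (m ^ n))).IsMaximal := by
  refine (Ideal.map_eq_top_or_isMaximal_of_surjective _ Ideal.Quotient.mk_surjective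
    hm).resolve_left ?_
  intro htop
  have h1 := Ideal.comap_map_of_surjective (Ideal.Quotient.mk (m ^ n))
    Ideal.Quotient.mk_surjective m
  rw [htop, Ideal.comap_top] at h1
  have h2 : Ideal.comap (Ideal.Quotient.mk (m ^ n)) ⊥ ≤ m := by
    intro x hx
    rw [Ideal.mem_comap, Ideal.mem_bot, Ideal.Quotient.eq_zero_iff_mem] at hx
    exact Ideal.pow_le_self hn hx
  rw [sup_eq_left.mpr h2] at h1
  exact hm.ne_top h1.symm

theorem isLocalRing_quot_pow (n : ℕ) (hn : n ≠ 0) : IsLocalRing (A ⧸ m ^ n) := by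
  refine IsLocalRing.of_unique_max_ideal
    ⟨m.map (Ideal.Quotient.mk _), map_mk_isMaximal m n hn, ?_⟩
  intro M hM
  haveI := hM
  have hc : (M.comap (Ideal.Quotient.mk (m ^ n))).IsMaximal :=
    Ideal.comap_isMaximal_of_surjective _ Ideal.Quotient.mk_surjective
  haveI := hc.isPrime
  have hle : m ≤ M.comap (Ideal.Quotient.mk (m ^ n)) := by
    apply Ideal.IsPrime.le_of_pow_le (n := n)
    intro x hx
    rw [Ideal.mem_comap, Ideal.Quotient.eq_zero_iff_mem.mpr hx]
    exact M.zero_mem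
  have heq : m = M.comap (Ideal.Quotient.mk (m ^ n)) := hm.eq_of_le hc.ne_top hle
  calc M = (M.comap (Ideal.Quotient.mk (m ^ n))).map (Ideal.Quotient.mk (m ^ n)) :=
        (Ideal.map_comap_of_surjective _ Ideal.Quotient.mk_surjective M).symm
    _ = m.map (Ideal.Quotient.mk (m ^ n)) := congrArg (Ideal.map (Ideal.Quotient.mk (m ^ n))) heq.symm

theorem maximalIdeal_quot_pow (n : ℕ) (hn : n ≠ 0) [IsLocalRing (A ⧸ m ^ n)] :
    maximalIdeal (A ⧸ m ^ n) = m.map (Ideal.Quotient.mk _) :=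
  (IsLocalRing.eq_maximalIdeal (map_mk_isMaximal m n hn)).symm

theorem isArtinianRing_quot_pow [IsNoetherianRing A] (n : ℕ) (hn : n ≠ 0) :
    IsArtinianRing (A ⧸ m ^ n) := by
  haveI := isLocalRing_quot_pow m n hn
  rw [isArtinianRing_iff_isNilpotent_maximalIdeal, maximalIdeal_quot_pow m n hn]
  refine ⟨n, ?_⟩
  rw [← Ideal.map_pow, Ideal.map_quotient_self, Ideal.zero_eq_bot]

theorem residue_surjective_quot_pow {k : Type*} [Field k] [Algebra k A]
    (hsurj : Function.Surjective (fun c : k => Ideal.Quotient.mk m (algebraMap k A c)))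
    (n : ℕ) (hn : n ≠ 0) [IsLocalRing (A ⧸ m ^ n)] :
    Function.Surjective
      (fun c : k => IsLocalRing.residue (A ⧸ m ^ n) (algebraMap k (A ⧸ m ^ n) c)) := by
  intro y
  obtain ⟨b, rfl⟩ := IsLocalRing.residue_surjective y
  obtain ⟨a, rfl⟩ := Ideal.Quotient.mk_surjective b
  obtain ⟨c, hc⟩ := hsurj (Ideal.Quotient.mk m a)
  refine ⟨c, ?_⟩
  show IsLocalRing.residue (A ⧸ m ^ n) (Ideal.Quotient.mk (m ^ n) (algebraMap k A c)) =
    IsLocalRing.residue (A ⧸ m ^ n) (Ideal.Quotient.mk (m ^ n) a)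
  refine Ideal.Quotient.eq.mpr ?_
  rw [maximalIdeal_quot_pow m n hn, ← map_sub]
  exact Ideal.mem_map_of_mem _ (Ideal.Quotient.eq.mp hc)

end QuotPow

/-- a compatible tower of maps built from successive lifts, starting at level two -/
theorem exists_tower {k : Type u} [Field k] (F : CommAlgCat.{u} k ⥤ Type u)
    {R A : Type u} [CommRing R] [Algebra k R] [CommRing A] [Algebra k A] (m : Ideal A)
    (ξ : F.obj (CommAlgCat.of k R)) (η : F.obj (CommAlgCat.of k A))
    (hstep : ∀ (j : ℕ) (g : R →ₐ[k] A ⧸ m ^ (j + 1 + 1)),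
      F.map (CommAlgCat.ofHom g) ξ =
        F.map (CommAlgCat.ofHom (Ideal.Quotient.mkₐ k (m ^ (j + 1 + 1)))) η →
      ∃ g' : R →ₐ[k] A ⧸ m ^ (j + 1 + 1 + 1),
        (Ideal.Quotient.factorₐ k (Ideal.pow_le_pow_right
          (Nat.le_add_right (j + 1 + 1) 1))).comp g' = g ∧
        F.map (CommAlgCat.ofHom g') ξ =
          F.map (CommAlgCat.ofHom (Ideal.Quotient.mkₐ k (m ^ (j + 1 + 1 + 1)))) η)
    (g₂ : R →ₐ[k] A ⧸ m ^ (0 + 1 + 1))
    (hg₂ : F.map (CommAlgCat.ofHom g₂) ξ =
      F.map (CommAlgCat.ofHom (Ideal.Quotient.mkₐ k (m ^ (0 + 1 + 1)))) η) :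
    ∃ G : (j : ℕ) → R →ₐ[k] A ⧸ m ^ j,
      G (0 + 1 + 1) = g₂ ∧
      (∀ {i j : ℕ} (hle : i ≤ j),
        (Ideal.Quotient.factorₐ k (Ideal.pow_le_pow_right hle)).comp (G j) = G i) ∧
      ∀ j, F.map (CommAlgCat.ofHom (G j)) ξ =
        F.map (CommAlgCat.ofHom (Ideal.Quotient.mkₐ k (m ^ j))) η := by
  classical
  let Lev : ℕ → Type u := fun j => {g : R →ₐ[k] A ⧸ m ^ (j + 1 + 1) //
    F.map (CommAlgCat.ofHom g) ξ =
      F.map (CommAlgCat.ofHom (Ideal.Quotient.mkₐ k (m ^ (j + 1 + 1)))) η}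
  let step : ∀ j, Lev j → Lev (j + 1) := fun j g =>
    ⟨Classical.choose (hstep j g.1 g.2), (Classical.choose_spec (hstep j g.1 g.2)).2⟩
  let s' : ∀ j, Lev j := fun j => Nat.rec (motive := Lev) ⟨g₂, hg₂⟩ step j
  have hs'succ : ∀ j, (Ideal.Quotient.factorₐ k (Ideal.pow_le_pow_right
      (Nat.le_add_right (j + 1 + 1) 1))).comp (s' (j + 1)).1 = (s' j).1 := fun j =>
    (Classical.choose_spec (hstep j (s' j).1 (s' j).2)).1
  have hfac : ∀ {a b c : ℕ} (hab : a ≤ b) (hbc : b ≤ c) (z : A ⧸ m ^ c),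
      Ideal.Quotient.factorₐ k (Ideal.pow_le_pow_right hab)
        (Ideal.Quotient.factorₐ k (Ideal.pow_le_pow_right hbc) z) =
      Ideal.Quotient.factorₐ k (Ideal.pow_le_pow_right (hab.trans hbc)) z := by
    intro a b c hab hbc z
    obtain ⟨y, rfl⟩ := Ideal.Quotient.mk_surjective z
    rfl
  have hfacid : ∀ {a : ℕ} (haa : a ≤ a) (z : A ⧸ m ^ a),
      Ideal.Quotient.factorₐ k (Ideal.pow_le_pow_right haa) z = z := by
    intro a haa z
    obtain ⟨y, rfl⟩ := Ideal.Quotient.mk_surjective z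
    rfl
  have hs'le : ∀ (i j : ℕ) (hle : i ≤ j) (x : R),
      Ideal.Quotient.factorₐ k (Ideal.pow_le_pow_right
        (by omega : i + 1 + 1 ≤ j + 1 + 1)) ((s' j).1 x) = (s' i).1 x := by
    intro i j hle
    induction j, hle using Nat.le_induction with
    | base =>
      intro x
      exact hfacid (le_refl _) _
    | succ j hle ih =>
      intro x
      have h1 := congrArg (fun f => f x) (hs'succ j)
      simp only [AlgHom.comp_apply] at h1
      rw [← ih x, ← h1]
      exact (hfac (by omega : i + 1 + 1 ≤ j + 1 + 1) (Nat.le_add_right (j + 1 + 1) 1) _).symm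
  let G : (j : ℕ) → R →ₐ[k] A ⧸ m ^ j := fun j =>
    (Ideal.Quotient.factorₐ k (Ideal.pow_le_pow_right (by omega : j ≤ j + 1 + 1))).comp (s' j).1
  have hGx : ∀ j x, G j x = Ideal.Quotient.factorₐ k (Ideal.pow_le_pow_right
      (by omega : j ≤ j + 1 + 1)) ((s' j).1 x) := fun _ _ => rfl
  refine ⟨G, ?_, ?_, ?_⟩
  · apply AlgHom.ext
    intro x
    exact (hGx (0 + 1 + 1) x).trans (hs'le 0 (0 + 1 + 1) (by omega) x)
  · intro i j hle
    apply AlgHom.ext
    intro x
    show Ideal.Quotient.factorₐ k (Ideal.pow_le_pow_right hle) (G j x) = G i x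
    refine (congrArg _ (hGx j x)).trans ?_
    refine Eq.trans ?_ (hGx i x).symm
    have h1 : j ≤ j + 1 + 1 := by omega
    have h2 : i ≤ i + 1 + 1 := by omega
    have h3 : i + 1 + 1 ≤ j + 1 + 1 := by omega
    exact (hfac hle h1 _).trans ((hfac h2 h3 _).symm.trans (congrArg _ (hs'le i j hle x)))
  · intro j
    have h1 : F.map (CommAlgCat.ofHom (G j)) ξ =
        F.map (CommAlgCat.ofHom (Ideal.Quotient.factorₐ k (Ideal.pow_le_pow_right
          (by omega : j ≤ j + 1 + 1)))) (F.map (CommAlgCat.ofHom (s' j).1) ξ) := by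
      rw [AlgzMain.map_map]
    rw [h1, (s' j).2, AlgzMain.map_map]
    rfl

/-- finite dimensionality of the graded pieces of a Noetherian local algebra with residue
field `k` -/
theorem finite_grV {k R : Type*} [Field k] [CommRing R] [Algebra k R] [IsLocalRing R]
    [IsNoetherianRing R]
    (hres : Function.Surjective (fun c : k => IsLocalRing.residue R (algebraMap k R c)))
    (n : ℕ) : Module.Finite k (AlgzMain.grV k (maximalIdeal R) n) := by
  classical
  obtain ⟨s, g, hg⟩ := Submodule.fg_iff_exists_fin_generating_family.mp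
    ((maximalIdeal R ^ n).fg_of_isNoetherianRing)
  have hgmem : ∀ i, g i ∈ maximalIdeal R ^ n := fun i => by
    rw [← hg]
    exact Submodule.subset_span ⟨i, rfl⟩
  let S : Submodule k (R ⧸ maximalIdeal R ^ (n + 1)) :=
    Submodule.span k (Set.range fun i => Ideal.Quotient.mk (maximalIdeal R ^ (n + 1)) (g i))
  haveI : Module.Finite k S := Module.Finite.span_of_finite k (Set.finite_range _)
  have hle : AlgzMain.grV k (maximalIdeal R) n ≤ S := by
    intro y hy
    obtain ⟨x, hx, rfl⟩ := (AlgzMain.mem_grV _ n y).mp hy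
    rw [← hg] at hx
    obtain ⟨r, rfl⟩ := (Ideal.mem_span_range_iff_exists_fun).mp hx
    choose c hc using fun i => hres (IsLocalRing.residue R (r i))
    have hu : ∀ i, r i - algebraMap k R (c i) ∈ maximalIdeal R := fun i =>
      Ideal.Quotient.eq.mp (hc i).symm
    have h1 : Ideal.Quotient.mk (maximalIdeal R ^ (n + 1)) (∑ i, r i * g i) =
        ∑ i, c i • Ideal.Quotient.mk (maximalIdeal R ^ (n + 1)) (g i) := by
      rw [map_sum]
      refine Finset.sum_congr rfl fun i _ => ?_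
      rw [Algebra.smul_def]
      show Ideal.Quotient.mk (maximalIdeal R ^ (n + 1)) (r i * g i) =
        Ideal.Quotient.mk (maximalIdeal R ^ (n + 1)) (algebraMap k R (c i)) *
          Ideal.Quotient.mk (maximalIdeal R ^ (n + 1)) (g i)
      rw [← map_mul, Ideal.Quotient.eq, ← sub_mul, pow_succ']
      exact Ideal.mul_mem_mul (hu i) (hgmem i)
    rw [h1]
    exact Submodule.sum_mem _ fun i _ =>
      Submodule.smul_mem _ _ (Submodule.subset_span ⟨i, rfl⟩)
  exact Submodule.finiteDimensional_of_le hle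

theorem main (k : Type u) [Field k]
    (F : CommAlgCat.{u} k ⥤ Type u)
    (hF : ∀ (J : Type u) [SmallCategory J] [IsFiltered J], PreservesColimitsOfShape J F)
    (R : Type u) [CommRing R] [Algebra k R] [IsLocalRing R] [IsNoetherianRing R]
    [IsAdicComplete (IsLocalRing.maximalIdeal R) R]
    (hres : Function.Surjective (fun c : k => IsLocalRing.residue R (algebraMap k R c)))
    (ξ : F.obj (CommAlgCat.of k R))
    (hvers : ∀ (B B₀ : Type u) [CommRing B] [Algebra k B] [IsLocalRing B] [IsArtinianRing B]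
        [CommRing B₀] [Algebra k B₀] [IsLocalRing B₀] [IsArtinianRing B₀],
        Function.Surjective (fun c : k => IsLocalRing.residue B (algebraMap k B c)) →
        ∀ (π : B →ₐ[k] B₀), Function.Surjective π →
          ∀ (g₀ : R →ₐ[k] B₀) (y : F.obj (CommAlgCat.of k B)),
            F.map (CommAlgCat.ofHom π) y = F.map (CommAlgCat.ofHom g₀) ξ →
              ∃ g : R →ₐ[k] B, π.comp g = g₀ ∧ F.map (CommAlgCat.ofHom g) ξ = y) :
    ∃ (A : Type u) (_ : CommRing A) (_ : Algebra k A) (_ : Algebra.FiniteType k A)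
      (m : Ideal A) (_ : m.IsMaximal)
      (_ : Function.Surjective (fun c : k => Ideal.Quotient.mk m (algebraMap k A c)))
      (η : F.obj (CommAlgCat.of k A))
      (α : R ≃+* AdicCompletion m A),
      (∀ c : k, α (algebraMap k R c) = algebraMap A (AdicCompletion m A) (algebraMap k A c)) ∧
      ∀ (n : ℕ) (ψ : R →ₐ[k] A ⧸ m ^ (n + 1)),
        ψ.toRingHom = (AdicCompletion.evalₐ m (n + 1) :
            AdicCompletion m A →ₐ[A] A ⧸ m ^ (n + 1)).toRingHom.comp α.toRingHom →
          F.map (CommAlgCat.ofHom ψ) ξ =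
            F.map (CommAlgCat.ofHom (Ideal.Quotient.mkₐ k (m ^ (n + 1)))) η := by
  classical
  obtain ⟨A, _, _, hAft, m, hmmax, hsurj, η, φ, hφ, hdim, -⟩ :=
    AlgzMain.main_strong k F hF R hres ξ (0 + 1)
  haveI := hAft
  haveI := hmmax
  haveI : IsNoetherianRing A := Algebra.FiniteType.isNoetherianRing k A
  -- the lifting step from versality
  have hstep : ∀ (j : ℕ) (g : R →ₐ[k] A ⧸ m ^ (j + 1 + 1)),
      F.map (CommAlgCat.ofHom g) ξ =
        F.map (CommAlgCat.ofHom (Ideal.Quotient.mkₐ k (m ^ (j + 1 + 1)))) η →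
      ∃ g' : R →ₐ[k] A ⧸ m ^ (j + 1 + 1 + 1),
        (Ideal.Quotient.factorₐ k (Ideal.pow_le_pow_right
          (Nat.le_add_right (j + 1 + 1) 1))).comp g' = g ∧
        F.map (CommAlgCat.ofHom g') ξ =
          F.map (CommAlgCat.ofHom (Ideal.Quotient.mkₐ k (m ^ (j + 1 + 1 + 1)))) η := by
    intro j g hg
    haveI := isLocalRing_quot_pow m (j + 1 + 1 + 1) (by omega)
    haveI := isLocalRing_quot_pow m (j + 1 + 1) (by omega)
    haveI := isArtinianRing_quot_pow m (j + 1 + 1 + 1) (by omega)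
    haveI := isArtinianRing_quot_pow m (j + 1 + 1) (by omega)
    refine hvers (A ⧸ m ^ (j + 1 + 1 + 1)) (A ⧸ m ^ (j + 1 + 1))
      (residue_surjective_quot_pow m hsurj _ (by omega))
      (Ideal.Quotient.factorₐ k (Ideal.pow_le_pow_right (Nat.le_add_right (j + 1 + 1) 1)))
      (Ideal.Quotient.factor_surjective
        (Ideal.pow_le_pow_right (Nat.le_add_right (j + 1 + 1) 1))) g
      (F.map (CommAlgCat.ofHom (Ideal.Quotient.mkₐ k (m ^ (j + 1 + 1 + 1)))) η) ?_
    rw [AlgzMain.map_map, hg]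
    rfl
  obtain ⟨G, hG2, hcompat, hGF⟩ := exists_tower F m ξ η hstep
    (φ.toAlgHom.comp (Ideal.Quotient.mkₐ k (maximalIdeal R ^ (0 + 1 + 1)))) hφ
  let α₀ : R →ₐ[k] AdicCompletion m A := AdicCompletion.liftAlgHom m G hcompat
  have hev : ∀ j x, AdicCompletion.evalₐ m j (α₀ x) = G j x := fun j x =>
    AdicCompletion.evalₐ_liftAlgHom m G hcompat j x
  have hmfg : m.FG := IsNoetherian.noetherian m
  obtain ⟨mh, hmhdef⟩ : ∃ mh : Ideal (AdicCompletion m A),
      mh = m.map (algebraMap A (AdicCompletion m A)) := ⟨_, rfl⟩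
  haveI hc1 : IsAdicComplete m (AdicCompletion m A) := AdicCompletion.isAdicComplete hmfg
  haveI hc2 : IsAdicComplete mh (AdicCompletion m A) := by
    rw [hmhdef]
    exact (IsAdicComplete.map_algebraMap_iff (I := m) (S := AdicCompletion m A)
      (M := AdicCompletion m A)).mpr hc1
  have hev0 : ∀ n w, AdicCompletion.evalₐ m n w = 0 ↔ w ∈ mh ^ n := fun n w => by
    rw [ApproxPair.evalₐ_eq_zero_iff m hmfg, Ideal.map_pow, hmhdef]
  -- surjectivity at levels one and two
  have hGsurj2 : Function.Surjective (G (0 + 1 + 1)) := by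
    intro y
    obtain ⟨z, rfl⟩ := φ.surjective y
    obtain ⟨x, rfl⟩ := Ideal.Quotient.mk_surjective z
    exact ⟨x, by rw [hG2]; rfl⟩
  have hGsurj1 : Function.Surjective (G (0 + 1)) := by
    have h1 := hcompat (Nat.le_add_right (0 + 1) 1)
    intro y
    obtain ⟨z, rfl⟩ := Ideal.Quotient.factor_surjective
      (Ideal.pow_le_pow_right (Nat.le_add_right (0 + 1) 1) : m ^ (0 + 1 + 1) ≤ m ^ (0 + 1)) y
    obtain ⟨x, rfl⟩ := hGsurj2 z
    exact ⟨x, (congrArg (fun f => f x) h1).symm⟩
  have hGm : ∀ j (hj : j ≠ 0), Function.Surjective (G j) →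
      (maximalIdeal R).map (G j).toRingHom = m.map (Ideal.Quotient.mk (m ^ j)) := by
    intro j hj hs
    haveI := isLocalRing_quot_pow m j hj
    rw [← maximalIdeal_quot_pow m j hj]
    exact IsLocalRing.map_maximalIdeal_of_surjective (G j).toRingHom hs
  have hG1zero : ∀ x ∈ maximalIdeal R, G (0 + 1) x = 0 := by
    intro x hx
    have h1 : G (0 + 1) x ∈ (maximalIdeal R).map (G (0 + 1)).toRingHom :=
      Ideal.mem_map_of_mem _ hx
    rw [hGm (0 + 1) (by omega) hGsurj1] at h1
    have h2 : m.map (Ideal.Quotient.mk (m ^ (0 + 1))) ≤ ⊥ := by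
      rw [Ideal.map_le_iff_le_comap]
      intro a ha
      rw [Ideal.mem_comap, Ideal.mem_bot, Ideal.Quotient.eq_zero_iff_mem, zero_add, pow_one]
      exact ha
    exact (Ideal.mem_bot).mp (h2 h1)
  -- the ideal generated by the image of the maximal ideal
  have h𝔞 : (maximalIdeal R).map α₀.toRingHom = mh := by
    apply le_antisymm
    · rw [Ideal.map_le_iff_le_comap]
      intro x hx
      rw [Ideal.mem_comap]
      have h1 : α₀ x ∈ mh ^ (0 + 1) := (hev0 (0 + 1) _).mp (by rw [hev, hG1zero x hx])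
      rwa [zero_add, pow_one] at h1
    · refine Submodule.le_of_le_smul_of_le_jacobson_bot (I := mh) ?_
        (IsAdicComplete.le_jacobson_bot mh) ?_
      · rw [hmhdef]
        exact hmfg.map _
      · conv_lhs => rw [hmhdef]
        rw [Ideal.map_le_iff_le_comap]
        intro a ha
        rw [Ideal.mem_comap]
        have h1 : Ideal.Quotient.mk (m ^ (0 + 1 + 1)) a ∈
            (maximalIdeal R).map (G (0 + 1 + 1)).toRingHom := by
          rw [hGm (0 + 1 + 1) (by omega) hGsurj2]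
          exact Ideal.mem_map_of_mem _ ha
        obtain ⟨x, hx, hxa⟩ := (Ideal.mem_map_iff_of_surjective _ hGsurj2).mp h1
        have h2 : α₀ x - algebraMap A (AdicCompletion m A) a ∈ mh ^ (0 + 1 + 1) := by
          rw [← hev0, map_sub, hev, AlgHom.commutes]
          exact sub_eq_zero.mpr hxa
        have h3 : algebraMap A (AdicCompletion m A) a =
            α₀ x - (α₀ x - algebraMap A (AdicCompletion m A) a) := by ring
        rw [h3]
        refine Submodule.sub_mem _ (Submodule.mem_sup_left (Ideal.mem_map_of_mem _ hx))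
          (Submodule.mem_sup_right ?_)
        have h4 : mh ^ (0 + 1 + 1) = mh • mh := by
          rw [smul_eq_mul, zero_add, pow_succ, pow_one]
        rw [← h4]
        exact h2
  have hα₀surj : Function.Surjective α₀ := by
    haveI : IsHausdorff ((maximalIdeal R).map α₀.toRingHom) (AdicCompletion m A) := by
      rw [h𝔞]
      exact hc2.toIsHausdorff
    refine surjective_of_mk_map_comp_surjective α₀.toRingHom (I := maximalIdeal R) ?_
    intro y
    obtain ⟨w, rfl⟩ := Ideal.Quotient.mk_surjective y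
    obtain ⟨x, hx⟩ := hGsurj1 (AdicCompletion.evalₐ m (0 + 1) w)
    refine ⟨x, Ideal.Quotient.eq.mpr ?_⟩
    rw [h𝔞]
    have h1 : α₀ x - w ∈ mh ^ (0 + 1) := by
      rw [← hev0, map_sub, hev, hx, sub_self]
    rwa [zero_add, pow_one] at h1
  have hGsurj : ∀ j, Function.Surjective (G j) := by
    intro j y
    obtain ⟨w, rfl⟩ := AdicCompletion.surjective_evalₐ m j y
    obtain ⟨x, rfl⟩ := hα₀surj w
    exact ⟨x, (hev j x).symm⟩
  -- the key injectivity step
  have hkey : ∀ n x, x ∈ maximalIdeal R ^ n → G (n + 1) x = 0 →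
      x ∈ maximalIdeal R ^ (n + 1) := by
    intro n x hx hGx
    have hs := hGsurj (n + 1)
    have hmG := hGm (n + 1) (Nat.succ_ne_zero n) hs
    have hpowG : ∀ i, (maximalIdeal R ^ i).map (G (n + 1)).toRingHom =
        (m ^ i).map (Ideal.Quotient.mk (m ^ (n + 1))) := by
      intro i
      rw [Ideal.map_pow, hmG, ← Ideal.map_pow]
    have hkerG : ∀ a ∈ maximalIdeal R ^ (n + 1), G (n + 1) a = 0 := by
      intro a ha
      have h1 : G (n + 1) a ∈ (maximalIdeal R ^ (n + 1)).map (G (n + 1)).toRingHom :=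
        Ideal.mem_map_of_mem _ ha
      rw [hpowG, Ideal.map_quotient_self] at h1
      exact (Ideal.mem_bot).mp h1
    let Gbar : (R ⧸ maximalIdeal R ^ (n + 1)) →ₐ[k] (A ⧸ m ^ (n + 1)) :=
      Ideal.Quotient.liftₐ _ (G (n + 1)) hkerG
    have hGbar : ∀ a, Gbar (Ideal.Quotient.mk _ a) = G (n + 1) a := fun _ => rfl
    have hmaps : ∀ y ∈ AlgzMain.grV k (maximalIdeal R) n,
        Gbar.toLinearMap y ∈ AlgzMain.grV k m n := by
      intro y hy
      obtain ⟨a, ha, rfl⟩ := (AlgzMain.mem_grV _ n y).mp hy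
      have h1 : G (n + 1) a ∈ (maximalIdeal R ^ n).map (G (n + 1)).toRingHom :=
        Ideal.mem_map_of_mem _ ha
      rw [hpowG, Ideal.mem_map_iff_of_surjective _ Ideal.Quotient.mk_surjective] at h1
      obtain ⟨b, hb, hba⟩ := h1
      exact (AlgzMain.mem_grV _ n _).mpr ⟨b, hb, hba.trans (hGbar a).symm⟩
    let L := Gbar.toLinearMap.restrict hmaps
    have hLsurj : Function.Surjective L := by
      rintro ⟨y, hy⟩
      obtain ⟨b, hb, rfl⟩ := (AlgzMain.mem_grV _ n y).mp hy
      have h1 : Ideal.Quotient.mk (m ^ (n + 1)) b ∈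
          (maximalIdeal R ^ n).map (G (n + 1)).toRingHom := by
        rw [hpowG]
        exact Ideal.mem_map_of_mem _ hb
      obtain ⟨a, ha, hab⟩ := (Ideal.mem_map_iff_of_surjective _ hs).mp h1
      exact ⟨⟨Ideal.Quotient.mk _ a, (AlgzMain.mem_grV _ n _).mpr ⟨a, ha, rfl⟩⟩,
        Subtype.ext hab⟩
    obtain ⟨θ⟩ := hdim n
    haveI := finite_grV hres n
    haveI : Module.Finite k (AlgzMain.grV k m n) := Module.Finite.equiv θ
    have hLinj : Function.Injective L :=
      (LinearMap.injective_iff_surjective_of_finrank_eq_finrank θ.finrank_eq).mpr hLsurj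
    have h0 : L ⟨Ideal.Quotient.mk _ x, (AlgzMain.mem_grV _ n _).mpr ⟨x, hx, rfl⟩⟩ = 0 :=
      Subtype.ext hGx
    have h2 := hLinj (h0.trans (map_zero L).symm)
    exact Ideal.Quotient.eq_zero_iff_mem.mp (congrArg Subtype.val h2)
  have hα₀inj : Function.Injective α₀ := by
    rw [injective_iff_map_eq_zero]
    intro x hx
    have hall : ∀ n, x ∈ maximalIdeal R ^ n := by
      intro n
      induction n with
      | zero =>
        rw [pow_zero, Ideal.one_eq_top]
        trivial
      | succ n ih => exact hkey n x ih (by rw [← hev, hx, map_zero])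
    have hK : (⨅ n, maximalIdeal R ^ n) = ⊥ :=
      Ideal.iInf_pow_eq_bot_of_isLocalRing _ (maximalIdeal.isMaximal R).ne_top
    have h1 : x ∈ (⨅ n, maximalIdeal R ^ n) := (Ideal.mem_iInf).mpr hall
    rw [hK] at h1
    exact h1
  let α : R ≃+* AdicCompletion m A := RingEquiv.ofBijective α₀.toRingHom ⟨hα₀inj, hα₀surj⟩
  refine ⟨A, inferInstance, inferInstance, hAft, m, hmmax, hsurj, η, α, ?_, ?_⟩
  · intro c
    show α₀ (algebraMap k R c) = _
    rw [AlgHom.commutes]
    rfl
  · intro n ψ hψ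
    have h1 : ψ = G (n + 1) := by
      apply AlgHom.ext
      intro x
      have h2 := congrArg (fun f => f x) hψ
      exact h2.trans (hev (n + 1) x)
    rw [h1]
    exact hGF (n + 1)

end Groth.Agent.Lib.T2H8.AlgzVersal
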