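import Mathlib
import Groth.Agent.Lib.T2H8ApproxFun
import Groth.Agent.Lib.T2H8EtaleSol

/-!
# Artin approximation for functors: étale neighbourhood form over a local G-ring (S16106)
-/

set_option autoImplicit false
universe u

namespace Groth.Agent.Lib.T2H8.ApproxFunEt

open CategoryTheory Limits IsLocalRing MvPolynomial Groth.Agent.Lib.T2H8

/-- abstract étale approximation for a finitely presented algebra over a local G-ring -/
theorem approx_etale (A : Type u) [CommRing A] [IsLocalRing A] (hG : CAlg.IsGRing A)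
    (B : Type u) [CommRing B] [Algebra A B] [Algebra.FinitePresentation A B]
    (f : B →ₐ[A] AdicCompletion (maximalIdeal A) A) (N : ℕ) :
    ∃ (A' : Type u) (_ : CommRing A') (_ : Algebra A A') (_ : Algebra.Etale A A')
      (σ : B →ₐ[A] A') (ψ : A' →ₐ[A] AdicCompletion (maximalIdeal A) A),
      ∀ x : B, AdicCompletion.evalₐ (maximalIdeal A) N (ψ (σ x)) =
        AdicCompletion.evalₐ (maximalIdeal A) N (f x) := by
  classical
  haveI := hG.1
  have hfg : (maximalIdeal A).FG := (maximalIdeal A).fg_of_isNoetherianRing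
  obtain ⟨n, pres, hsurj, hker⟩ := Algebra.FinitePresentation.out (R := A) (A := B)
  obtain ⟨m, F, hF⟩ := Submodule.fg_iff_exists_fin_generating_family.mp hker
  have hFspan : Ideal.span (Set.range F) = RingHom.ker pres.toRingHom := hF
  let a : Fin n → AdicCompletion (maximalIdeal A) A := fun k => f (pres (X k))
  have hfa : f.comp pres = aeval a := by
    apply MvPolynomial.algHom_ext
    intro k
    rw [aeval_X]
    rfl
  have ha : ∀ j, aeval a (F j) = 0 := by
    intro j
    rw [← hfa]
    show f (pres (F j)) = 0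
    have h1 : F j ∈ RingHom.ker pres.toRingHom := by
      rw [← hFspan]
      exact Ideal.subset_span ⟨j, rfl⟩
    have h2 : pres (F j) = 0 := h1
    rw [h2, map_zero]
  obtain ⟨A', _, _, hA', ψ, m', -, -, -, -, b, hb, hab⟩ := EtaleSol.main hG F a ha N
  have hbker : ∀ x ∈ RingHom.ker pres.toRingHom, (aeval b : MvPolynomial (Fin n) A →ₐ[A] A') x = 0 := by
    intro x hx
    have hle : RingHom.ker pres.toRingHom ≤
        RingHom.ker (aeval b : MvPolynomial (Fin n) A →ₐ[A] A').toRingHom := by
      rw [← hFspan, Ideal.span_le]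
      rintro _ ⟨j, rfl⟩
      exact hb j
    exact hle hx
  let σ : B →ₐ[A] A' :=
    (Ideal.Quotient.liftₐ (RingHom.ker pres.toRingHom) (aeval b) hbker).comp
      (Ideal.quotientKerAlgEquivOfSurjective hsurj).symm.toAlgHom
  have hσ : ∀ p : MvPolynomial (Fin n) A, σ (pres p) = aeval b p := by
    intro p
    have h1 : (Ideal.quotientKerAlgEquivOfSurjective hsurj).symm (pres p) =
        Ideal.Quotient.mk (RingHom.ker pres.toRingHom) p := by
      rw [AlgEquiv.symm_apply_eq]
      rfl
    show Ideal.Quotient.liftₐ (RingHom.ker pres.toRingHom) (aeval b) hbker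
      ((Ideal.quotientKerAlgEquivOfSurjective hsurj).symm (pres p)) = _
    rw [h1]
    rfl
  refine ⟨A', inferInstance, inferInstance, hA', σ, ψ, fun x => ?_⟩
  obtain ⟨p, rfl⟩ := hsurj x
  have h1 : ((AdicCompletion.evalₐ (maximalIdeal A) N).comp (ψ.comp (σ.comp pres))) =
      (AdicCompletion.evalₐ (maximalIdeal A) N).comp (f.comp pres) := by
    apply MvPolynomial.algHom_ext
    intro k
    show AdicCompletion.evalₐ (maximalIdeal A) N (ψ (σ (pres (X k)))) =
      AdicCompletion.evalₐ (maximalIdeal A) N (f (pres (X k)))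
    rw [hσ, aeval_X]
    symm
    rw [← sub_eq_zero, ← map_sub, ApproxPair.evalₐ_eq_zero_iff _ hfg]
    exact hab k
  exact DFunLike.congr_fun h1 p

theorem functor_approx_etale (A : Type u) [CommRing A] [IsLocalRing A]
    (hG : CAlg.IsGRing A)
    (Φ : Under (CommRingCat.of A) ⥤ Type u)
    (hΦ : ∀ (J : Type u) [SmallCategory J] [IsFiltered J], PreservesColimitsOfShape J Φ)
    (N : ℕ)
    (π : Under.mk (CommRingCat.ofHom (algebraMap A
        (AdicCompletion (IsLocalRing.maximalIdeal A) A))) ⟶
      Under.mk (CommRingCat.ofHom (algebraMap A (A ⧸ IsLocalRing.maximalIdeal A ^ (N + 1)))))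
    (hπ : π.right = CommRingCat.ofHom
      (AdicCompletion.evalₐ (IsLocalRing.maximalIdeal A) (N + 1) :
        AdicCompletion (IsLocalRing.maximalIdeal A) A →ₐ[A]
          A ⧸ IsLocalRing.maximalIdeal A ^ (N + 1)).toRingHom)
    (ξ : Φ.obj (Under.mk (CommRingCat.ofHom (algebraMap A
        (AdicCompletion (IsLocalRing.maximalIdeal A) A))))) :
    ∃ (A' : Type u) (_ : CommRing A') (_ : Algebra A A') (_ : Algebra.Etale A A')
      (φ : Under.mk (CommRingCat.ofHom (algebraMap A A')) ⟶
        Under.mk (CommRingCat.ofHom (algebraMap A (A ⧸ IsLocalRing.maximalIdeal A ^ (N + 1)))))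
      (ξ' : Φ.obj (Under.mk (CommRingCat.ofHom (algebraMap A A')))),
      Φ.map φ ξ' = Φ.map π ξ := by
  obtain ⟨B, _, _, hB, f, ξB, hξB⟩ :=
    ApproxFun.exists_fp_of_preserves A (AdicCompletion (maximalIdeal A) A) Φ hΦ ξ
  haveI := hB
  obtain ⟨A', _, _, hA', σ, ψ, hσψ⟩ := approx_etale A hG B f (N + 1)
  refine ⟨A', inferInstance, inferInstance, hA',
    ApproxFun.underHom ((AdicCompletion.evalₐ (maximalIdeal A) (N + 1)).comp ψ),
    Φ.map (ApproxFun.underHom σ) ξB, ?_⟩
  rw [← hξB]
  have hcomp : ApproxFun.underHom σ ≫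
      ApproxFun.underHom ((AdicCompletion.evalₐ (maximalIdeal A) (N + 1)).comp ψ) =
      ApproxFun.underHom f ≫ π := by
    apply Under.UnderMorphism.ext
    show CommRingCat.ofHom σ.toRingHom ≫
      CommRingCat.ofHom ((AdicCompletion.evalₐ (maximalIdeal A) (N + 1)).comp ψ).toRingHom =
      CommRingCat.ofHom f.toRingHom ≫ π.right
    rw [hπ]
    apply CommRingCat.hom_ext
    refine RingHom.ext fun x => ?_
    exact hσψ x
  rw [← FunctorToTypes.map_comp_apply, ← FunctorToTypes.map_comp_apply, hcomp]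

end Groth.Agent.Lib.T2H8.ApproxFunEt
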