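import Mathlib
import Groth.Agent.Lib.T2H8ApproxPair
import Groth.Agent.Lib.Helper26PairHzMore
import Groth.Agent.Lib.Helper7PolyGRing2
import Groth.Agent.S0600

/-!
# Approximation in étale neighbourhoods of a pair (helper8)
-/

set_option autoImplicit false
universe u

open TensorProduct

namespace Groth.Agent.Lib.T2H8.ApproxHz

open Groth.Agent.Lib.Helper26.PairHz Groth.Agent.Lib.Helper18ColimSys Groth.Agent.Lib.T2H8

/-- `C` a G-ring, `J` an ideal, `B'` a finitely presented `C`-algebra with a map to the `J`-adic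
completion: the map is approximated to order `N` by a map into an étale neighbourhood of
`(C, J)`. -/
theorem approx_nbhd (C : Type u) [CommRing C] (hG : CAlg.IsGRing C) (J : Ideal C)
    (B' : Type u) [CommRing B'] [Algebra C B'] [Algebra.FinitePresentation C B']
    (f : B' →ₐ[C] AdicCompletion J C) (N : ℕ) (hN : N ≠ 0) :
    ∃ (i : Idx C J) (ρ : B' →ₐ[C] i.C), ∀ (x : B') (c : C),
      AdicCompletion.evalₐ J N (f x) = Ideal.Quotient.mk (J ^ N) c →
      ρ x - algebraMap C i.C c ∈ (J.map (algebraMap C i.C)) ^ N := by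
  classical
  haveI := hG.1
  have hreg := Groth.Agent.S0600.result C hG J
  haveI : IsNoetherianRing (AdicCompletion J C) :=
    Groth.Agent.Lib.Helper19.isNoetherianRing_adicCompletion _
  have hind := PopMain.popescu C (AdicCompletion J C) hreg
  obtain ⟨D, _, _, hD, g, h, hcomp⟩ := hind B' inferInstance f
  haveI := hD
  have hHz : Hens2.IsPairHenselization C J (Hz C J) := isPairHenselization_Hz
  haveI hH1 : HenselianRing (Hz C J) (J.map (algebraMap C (Hz C J))) := hHz.1
  have hbij := quotientMap_pow_bijective hHz N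
  obtain ⟨I', hI'def⟩ : ∃ I' : Ideal (Hz C J), I' = (J ^ N).map (algebraMap C (Hz C J)) :=
    ⟨_, rfl⟩
  have hI' : I' = (J.map (algebraMap C (Hz C J))) ^ N := by rw [hI'def, Ideal.map_pow]
  haveI : HenselianRing (Hz C J) I' :=
    (Groth.Agent.S0525.result (Hz C J) (J.map (algebraMap C (Hz C J))) I'
      (by rw [hI', Ideal.radical_pow _ hN])).mp inferInstance
  have hle : J ^ N ≤ I'.comap (Algebra.ofId C (Hz C J)) := by
    rw [hI'def]
    exact Ideal.le_comap_map
  let e : (C ⧸ J ^ N) →ₐ[C] (Hz C J ⧸ I') :=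
    Ideal.quotientMapₐ I' (Algebra.ofId C (Hz C J)) hle
  have he : Function.Bijective e := by
    subst hI'def
    exact hbij
  let σb : D →ₐ[C] (Hz C J ⧸ I') := e.comp ((AdicCompletion.evalₐ J N).comp h)
  obtain ⟨τ, hτ⟩ := Groth.Agent.S0536.result C D (Hz C J) I' σb
  obtain ⟨i, ρ', hρ'⟩ := (sys (A := C) (I := J)).lift_algHom D τ
  refine ⟨i, ρ'.comp g, fun x c hxc => ?_⟩
  letI algiH : Algebra i.C (Hz C J) := (ofC i).toRingHom.toAlgebra
  haveI towiH : IsScalarTower C i.C (Hz C J) :=
    IsScalarTower.of_algebraMap_eq (fun r => ((ofC i).commutes r).symm)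
  have hP : Hens2.IsPairHenselization i.C (J.map (algebraMap C i.C)) (Hz C J) :=
    isPairHenselization_of_nbhd hHz i.isNbhd
  have hbij2 := quotientMap_pow_bijective hP N
  -- the key congruence in `Hz`
  have h1 : τ (g x) - algebraMap C (Hz C J) c ∈ I' := by
    rw [← Ideal.Quotient.eq]
    have h2 : Ideal.Quotient.mk I' (τ (g x)) = σb (g x) := DFunLike.congr_fun hτ (g x)
    rw [h2]
    show e (AdicCompletion.evalₐ J N (h (g x))) = _
    have h3 : h (g x) = f x := DFunLike.congr_fun hcomp x
    rw [h3, hxc]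
    rfl
  have h4 : ofC i (ρ' (g x) - algebraMap C i.C c) = τ (g x) - algebraMap C (Hz C J) c := by
    rw [map_sub, AlgHom.commutes]
    congr 1
    exact DFunLike.congr_fun hρ' (g x)
  have hideal : ((J.map (algebraMap C i.C)) ^ N).map (algebraMap i.C (Hz C J)) = I' := by
    rw [hI'def, ← Ideal.map_pow, map_map_tower]
  have h5 : Ideal.Quotient.mk ((J.map (algebraMap C i.C)) ^ N) (ρ' (g x) - algebraMap C i.C c) = 0 := by
    apply hbij2.1
    rw [map_zero, Ideal.quotientMap_mk, Ideal.Quotient.eq_zero_iff_mem, hideal]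
    show ofC i (ρ' (g x) - algebraMap C i.C c) ∈ I'
    rw [h4]
    exact h1
  exact Ideal.Quotient.eq_zero_iff_mem.mp h5

end Groth.Agent.Lib.T2H8.ApproxHz
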