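import Mathlib

/-!
# Artin–Schreier generators of Galois extensions of degree `p` in characteristic `p` (helper8)
-/

set_option autoImplicit false
universe u v

open Polynomial

namespace Groth.Agent.Lib.T2H8.ArtSch

/-- a nonzero nilpotent endomorphism has a vector `z` with `N z ≠ 0` and `N (N z) = 0` -/
theorem exists_of_nilpotent {F E : Type*} [Field F] [AddCommGroup E] [Module F E]
    (N : Module.End F E) (hN : N ≠ 0) {p : ℕ} (hp : N ^ p = 0) :
    ∃ z : E, N z ≠ 0 ∧ N (N z) = 0 := by
  classical
  have hex : ∃ j, N ^ j = 0 := ⟨p, hp⟩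
  set j := Nat.find hex with hj
  have hj0 : N ^ j = 0 := Nat.find_spec hex
  have hj2 : 2 ≤ j := by
    by_contra hlt
    push_neg at hlt
    interval_cases j
    · rw [pow_zero] at hj0
      apply hN
      calc N = N * 1 := (mul_one N).symm
        _ = 0 := by rw [hj0, mul_zero]
    · rw [pow_one] at hj0
      exact hN hj0
  have hj1 : N ^ (j - 1) ≠ 0 := Nat.find_min hex (by omega)
  obtain ⟨y, hy⟩ : ∃ y, (N ^ (j - 1)) y ≠ 0 := by
    by_contra hcon
    push_neg at hcon
    exact hj1 (LinearMap.ext hcon)
  refine ⟨(N ^ (j - 2)) y, ?_, ?_⟩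
  · have : N ((N ^ (j - 2)) y) = (N ^ (j - 1)) y := by
      rw [← Module.End.mul_apply, ← pow_succ']
      congr 2
      omega
    rwa [this]
  · have : N (N ((N ^ (j - 2)) y)) = (N ^ j) y := by
      rw [← Module.End.mul_apply, ← Module.End.mul_apply, mul_assoc, ← pow_succ', ← pow_succ']
      congr 2
      omega
    rw [this, hj0]
    rfl

/-- Artin–Schreier: a Galois extension of degree `p` in characteristic `p` is generated by a root of
`T^p - T - β`. -/
theorem exists_artinSchreier_generator (p : ℕ) [hp : Fact p.Prime] (F E : Type u) [Field F]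
    [Field E] [Algebra F E] [CharP F p] [IsGalois F E] (hdeg : Module.finrank F E = p) :
    ∃ x : E, x ∉ (algebraMap F E).range ∧ x ^ p - x ∈ (algebraMap F E).range := by
  classical
  haveI : FiniteDimensional F E := Module.finite_of_finrank_pos (by rw [hdeg]; exact hp.out.pos)
  haveI : CharP E p := charP_of_injective_algebraMap (algebraMap F E).injective p
  have hcard : Nat.card (E ≃ₐ[F] E) = p := by rw [IsGalois.card_aut_eq_finrank, hdeg]
  haveI : Finite (E ≃ₐ[F] E) := Nat.finite_of_card_ne_zero (by rw [hcard]; exact hp.out.ne_zero)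
  haveI : Nontrivial (E ≃ₐ[F] E) := by
    rw [← Finite.one_lt_card_iff_nontrivial, hcard]
    exact hp.out.one_lt
  obtain ⟨σ, hσ⟩ := exists_ne (1 : E ≃ₐ[F] E)
  have hzp : Subgroup.zpowers σ = ⊤ := zpowers_eq_top_of_prime_card hcard hσ
  have hσp : σ ^ p = 1 := by rw [← hcard]; exact pow_card_eq_one'
  -- fixed by σ implies in F
  have hfix : ∀ y : E, σ y = y → y ∈ (algebraMap F E).range := by
    intro y hy
    have h1 : y ∈ (⊥ : IntermediateField F E) := by
      rw [IsGalois.mem_bot_iff_fixed]
      intro g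
      have hg : g ∈ Subgroup.zpowers σ := by rw [hzp]; trivial
      obtain ⟨k, rfl⟩ := Subgroup.mem_zpowers_iff.mp hg
      have hstab : σ ∈ MulAction.stabilizer (E ≃ₐ[F] E) y := hy
      exact (Subgroup.zpow_mem _ hstab k)
    exact IntermediateField.mem_bot.mp h1
  -- the nilpotent operator
  let s : Module.End F E := σ.toLinearMap
  let N : Module.End F E := s - 1
  have hpow : ∀ (n : ℕ) (y : E), (s ^ n) y = (σ ^ n) y := by
    intro n
    induction n with
    | zero => intro y; rfl
    | succ n ih =>
      intro y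
      rw [pow_succ, pow_succ, Module.End.mul_apply, AlgEquiv.mul_apply, ih]
      rfl
  have hsp : s ^ p = 1 := by
    apply LinearMap.ext
    intro y
    rw [hpow, hσp]
    rfl
  have hNp : N ^ p = 0 := by
    have h1 : ((X : F[X]) - 1) ^ p = X ^ p - 1 := by
      rw [sub_pow_char, one_pow]
    have h2 := congrArg (aeval s) h1
    simp only [map_pow, map_sub, aeval_X, map_one] at h2
    rw [h2, hsp, sub_self]
  have hN0 : N ≠ 0 := by
    intro h0
    apply hσ
    ext y
    have : N y = 0 := by rw [h0]; rfl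
    have h3 : σ y - y = 0 := this
    rw [sub_eq_zero] at h3
    exact h3
  obtain ⟨z, hz1, hz2⟩ := exists_of_nilpotent N hN0 hNp
  have hNapp : ∀ y, N y = σ y - y := fun y => rfl
  obtain ⟨c0, hc0⟩ := hfix (N z) (by
    have := hz2
    rw [hNapp (N z), sub_eq_zero] at this
    exact this)
  have hc0ne : c0 ≠ 0 := by
    rintro rfl
    rw [map_zero] at hc0
    exact hz1 hc0.symm
  let x : E := c0⁻¹ • z
  have hσx : σ x = x + 1 := by
    have h1 : σ x = c0⁻¹ • σ z := by simp [x]
    have h2 : σ z = z + algebraMap F E c0 := by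
      rw [hc0, hNapp]; ring
    rw [h1, h2, smul_add, Algebra.smul_def c0⁻¹ (algebraMap F E c0), ← map_mul,
      inv_mul_cancel₀ hc0ne, map_one]
  refine ⟨x, ?_, ?_⟩
  · rintro ⟨a, ha⟩
    have h1 : σ x = x := by rw [← ha]; exact σ.commutes a
    rw [hσx] at h1
    exact one_ne_zero (α := E) (by simpa using h1)
  · apply hfix
    rw [map_sub, map_pow, hσx, add_pow_char, one_pow]
    ring

end Groth.Agent.Lib.T2H8.ArtSch
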