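import Mathlib
import Groth.Agent.Lib.Helper18ComplProd

/-!
# Totally and tamely ramified extensions of complete DVRs: a uniformizer whose power lies in the
base (helper8)
-/

set_option autoImplicit false
universe u v

open IsLocalRing Polynomial

namespace Groth.Agent.Lib.T2H8.TameRam

theorem unique_maximal (A B : Type u) [CommRing A] [IsDomain A] [IsDiscreteValuationRing A]
    [CommRing B] [IsDedekindDomain B] [Algebra A B] [Module.Finite A B]
    [Module.IsTorsionFree A B]
    (M : Ideal B) [M.IsMaximal] (hram : M.ramificationIdx A = Module.finrank A B)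
    (hpos : 0 < Module.finrank A B) :
    (∀ Q : Ideal B, Q.IsMaximal → Q = M) ∧ M.inertiaDeg A = 1 := by
  classical
  set p := maximalIdeal A with hp
  haveI : Algebra.IsIntegral A B := Algebra.IsIntegral.of_finite A B
  have hover : ∀ Q : Ideal B, Q.IsMaximal → Q.LiesOver p := by
    intro Q hQ
    have h1 : (Q.under A).IsMaximal := Ideal.isMaximal_comap_of_isIntegral_of_isMaximal Q
    exact ⟨(IsLocalRing.eq_maximalIdeal h1).symm⟩
  haveI := hover M inferInstance
  haveI : Finite (p.primesOver B) := (Algebra.QuasiFinite.finite_primesOver (R := A) (S := B) p)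
  letI : Fintype (p.primesOver B) := Fintype.ofFinite _
  have hsum := Ideal.sum_ramification_inertia_eq_finrank p B
  let M0 : p.primesOver B := ⟨M, ⟨inferInstance, inferInstance⟩⟩
  have hterm : ∀ q : p.primesOver B, 0 < q.1.ramificationIdx A * q.1.inertiaDeg A := by
    intro q
    haveI := q.2.1
    exact Nat.mul_pos (Ideal.ramificationIdx_pos q.1 A) (Ideal.inertiaDeg_pos q.1 A)
  have hM0 : M0.1.ramificationIdx A * M0.1.inertiaDeg A ≤ Module.finrank A B := by
    rw [← hsum]
    exact Finset.single_le_sum (f := fun q : p.primesOver B =>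
      q.1.ramificationIdx A * q.1.inertiaDeg A) (fun q _ => Nat.zero_le _) (Finset.mem_univ M0)
  have hf : M.inertiaDeg A = 1 := by
    have h1 : M.ramificationIdx A * M.inertiaDeg A ≤ Module.finrank A B := hM0
    rw [hram] at h1
    have h2 : 0 < M.inertiaDeg A := Ideal.inertiaDeg_pos M A
    nlinarith
  refine ⟨?_, hf⟩
  intro Q hQ
  haveI := hover Q hQ
  let Q0 : p.primesOver B := ⟨Q, ⟨hQ.isPrime, inferInstance⟩⟩
  by_contra hne
  have hne' : Q0 ≠ M0 := fun h => hne (congrArg Subtype.val h)
  have h2 : M0.1.ramificationIdx A * M0.1.inertiaDeg A + Q0.1.ramificationIdx A * Q0.1.inertiaDeg A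
      ≤ Module.finrank A B := by
    rw [← hsum]
    have := Finset.sum_le_sum_of_subset_of_nonneg (f := fun q : p.primesOver B =>
      q.1.ramificationIdx A * q.1.inertiaDeg A) (Finset.subset_univ ({M0, Q0} : Finset _))
      (fun q _ _ => Nat.zero_le _)
    rwa [Finset.sum_pair (Ne.symm hne')] at this
  have h3 : M0.1.ramificationIdx A * M0.1.inertiaDeg A = Module.finrank A B := by
    change M.ramificationIdx A * M.inertiaDeg A = _
    rw [hf, hram, mul_one]
  have h4 := hterm Q0
  omega

/-- Eisenstein: if `u ^ n = π c` with `π` a uniformizer of `A` and `c` a unit, then the minimal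
polynomial of `u` has degree `n`. -/
theorem minpoly_natDegree_of_pow_eq (A B : Type u) [CommRing A] [IsDomain A]
    [IsDiscreteValuationRing A] [CommRing B] [IsDomain B] [Algebra A B] [Module.Finite A B]
    [Module.IsTorsionFree A B] (n : ℕ) (hn : 0 < n) (π c : A) (hπ : Irreducible π) (hc : IsUnit c)
    (u : B) (hu : u ^ n = algebraMap A B (π * c)) : (minpoly A u).natDegree = n := by
  set g : A[X] := X ^ n - C (π * c) with hg
  have hmonic : g.Monic := monic_X_pow_sub_C _ hn.ne'
  have hdeg : g.natDegree = n := natDegree_X_pow_sub_C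
  have hpmax : maximalIdeal A = Ideal.span {π} := hπ.maximalIdeal_eq
  have hcoeff0 : g.coeff 0 = -(π * c) := by
    rw [hg, coeff_sub, coeff_X_pow, coeff_C_zero, if_neg hn.ne, zero_sub]
  have hE : g.IsEisensteinAt (maximalIdeal A) := by
    refine ⟨?_, ?_, ?_⟩
    · rw [hmonic.leadingCoeff]
      exact fun h => (Ideal.ne_top_iff_one _).mp (maximalIdeal.isMaximal A).ne_top h
    · intro k hk
      rw [hdeg] at hk
      rcases Nat.eq_zero_or_pos k with rfl | hk0
      · rw [hcoeff0, hpmax]
        exact neg_mem (Ideal.mul_mem_right _ _ (Ideal.mem_span_singleton_self π))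
      · rw [hg, coeff_sub, coeff_X_pow, if_neg hk.ne, coeff_C, if_neg hk0.ne', sub_zero]
        exact zero_mem _
    · rw [hcoeff0, hpmax, Ideal.span_singleton_pow, neg_mem_iff, Ideal.mem_span_singleton]
      rintro ⟨t, ht⟩
      have h1 : c = π * t := by
        have : π * c = π * (π * t) := by rw [ht]; ring
        exact mul_left_cancel₀ hπ.ne_zero this
      have h2 : c ∈ maximalIdeal A := by
        rw [hpmax, h1]; exact Ideal.mul_mem_right _ _ (Ideal.mem_span_singleton_self π)
      exact (mem_maximalIdeal c).mp h2 hc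
  have hirr : Irreducible g := hE.irreducible inferInstance hmonic.isPrimitive (by rw [hdeg]; exact hn)
  have hint : IsIntegral A u := Algebra.IsIntegral.isIntegral u
  have hroot : aeval u g = 0 := by
    rw [hg, map_sub, map_pow, aeval_X, aeval_C, hu, sub_self]
  have hdvd : minpoly A u ∣ g := minpoly.isIntegrallyClosed_dvd hint hroot
  have hassoc : Associated (minpoly A u) g :=
    (hirr.dvd_iff.mp hdvd).resolve_left (minpoly.not_isUnit A u) |>.symm
  have := eq_of_monic_of_associated (minpoly.monic hint) hmonic hassoc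
  rw [this, hdeg]

/-- the local case -/
theorem main_local (K A B : Type u) [Field K]
    [CommRing A] [IsDomain A] [IsDiscreteValuationRing A]
    [IsAdicComplete (IsLocalRing.maximalIdeal A) A]
    [Algebra K A] (hK : Function.Bijective ((IsLocalRing.residue A).comp (algebraMap K A)))
    [CommRing B] [IsDomain B] [IsDiscreteValuationRing B] [Algebra A B] [Module.Finite A B]
    [Module.IsTorsionFree A B]
    (n : ℕ) (hn : 0 < n) (hnA : IsUnit (n : A))
    (hpB : (maximalIdeal A).map (algebraMap A B) = maximalIdeal B ^ n)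
    (hres : ∀ b : B, ∃ a : A, b - algebraMap A B a ∈ maximalIdeal B) :
    ∃ u : B, u ∈ maximalIdeal B ∧ u ∉ maximalIdeal B ^ 2 ∧ u ^ n ∈ (algebraMap A B).range ∧
      (minpoly A u).natDegree = n := by
  obtain ⟨π, hπ⟩ := IsDiscreteValuationRing.exists_irreducible A
  obtain ⟨v, hv⟩ := IsDiscreteValuationRing.exists_irreducible B
  have hpA : maximalIdeal A = Ideal.span {π} := hπ.maximalIdeal_eq
  have hMB : maximalIdeal B = Ideal.span {v} := hv.maximalIdeal_eq
  -- π = v^n * unit
  have h1 : Ideal.span {algebraMap A B π} = Ideal.span {v ^ n} := by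
    rw [← Ideal.span_singleton_pow, ← hMB, ← hpB, hpA, Ideal.map_span, Set.image_singleton]
  obtain ⟨w0, hw0⟩ := Ideal.span_singleton_eq_span_singleton.mp h1
  -- hw0 : algebraMap π * w0 = v^n
  -- residue of w0
  obtain ⟨a, ha⟩ := hres (w0 : B)
  obtain ⟨c, hc⟩ := hK.2 (residue A a)
  have hc' : a - algebraMap K A c ∈ maximalIdeal A := by
    rw [← Ideal.Quotient.eq]
    exact hc.symm
  have hle : (maximalIdeal A).map (algebraMap A B) ≤ maximalIdeal B := by
    rw [hpB]
    exact Ideal.pow_le_self hn.ne'
  have hc'' : (w0 : B) - algebraMap A B (algebraMap K A c) ∈ maximalIdeal B := by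
    have h2 : algebraMap A B (a - algebraMap K A c) ∈ maximalIdeal B :=
      hle (Ideal.mem_map_of_mem _ hc')
    have : (w0 : B) - algebraMap A B (algebraMap K A c) =
        ((w0 : B) - algebraMap A B a) + algebraMap A B (a - algebraMap K A c) := by
      rw [map_sub]; ring
    rw [this]
    exact add_mem ha h2
  have hc0 : c ≠ 0 := by
    rintro rfl
    rw [map_zero, map_zero, sub_zero] at hc''
    exact (mem_maximalIdeal _).mp hc'' w0.isUnit
  have hcA : IsUnit (algebraMap K A c) := (isUnit_iff_ne_zero.mpr hc0).map _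
  obtain ⟨cA, hcA'⟩ := hcA
  let cB : Bˣ := Units.map (algebraMap A B : A →* B) cA
  have hcB : (cB : B) = algebraMap A B (algebraMap K A c) := by
    simp [cB, hcA']
  -- w1 = w0 * cB⁻¹ ≡ 1
  let w1 : Bˣ := w0 * cB⁻¹
  have hw1 : (w1 : B) - 1 ∈ maximalIdeal B := by
    have : (w1 : B) - 1 = ((w0 : B) - (cB : B)) * ((cB⁻¹ : Bˣ) : B) := by
      simp only [w1, Units.val_mul]
      rw [sub_mul, Units.mul_inv]
    rw [this, hcB]
    exact Ideal.mul_mem_right _ _ hc''
  -- Hensel
  haveI : IsAdicComplete (maximalIdeal B) B :=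
    (Groth.Agent.Lib.Helper18ComplProd.isAdicComplete_of_finite A B).2
  haveI : HenselianRing B (maximalIdeal B) := inferInstance
  have hnB : IsUnit ((n : ℕ) : B) := by
    have := hnA.map (algebraMap A B)
    simpa using this
  let f : B[X] := X ^ n - C (w1 : B)
  have hfm : f.Monic := monic_X_pow_sub_C _ hn.ne'
  have hf1 : f.eval 1 ∈ maximalIdeal B := by
    simp only [f, eval_sub, eval_pow, eval_X, one_pow, eval_C]
    rw [← neg_sub]
    exact neg_mem hw1
  have hf2 : IsUnit (Ideal.Quotient.mk (maximalIdeal B) (f.derivative.eval 1)) := by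
    have : f.derivative.eval 1 = (n : B) := by
      simp [f, derivative_X_pow]
    rw [this]
    exact hnB.map _
  obtain ⟨z, hz, hz1⟩ := HenselianRing.is_henselian f hfm 1 hf1 hf2
  have hzn : z ^ n = (w1 : B) := by
    have : f.eval z = 0 := hz
    simp only [f, eval_sub, eval_pow, eval_X, eval_C] at this
    exact sub_eq_zero.mp this
  have hzu : IsUnit z := by
    by_contra hnu
    have h3 : z ∈ maximalIdeal B := (mem_maximalIdeal z).mpr hnu
    have h4 : (1 : B) ∈ maximalIdeal B := by
      have : (1 : B) = z - (z - 1) := by ring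
      rw [this]
      exact sub_mem h3 hz1
    exact (Ideal.ne_top_iff_one _).mp (maximalIdeal.isMaximal B).ne_top h4
  obtain ⟨zu, rfl⟩ := hzu
  have hun : (v * ((zu⁻¹ : Bˣ) : B)) ^ n = algebraMap A B (π * (cA : A)) := by
    have e1 : (v * ((zu⁻¹ : Bˣ) : B)) ^ n * (zu : B) ^ n = v ^ n := by
      rw [← mul_pow, mul_assoc, Units.inv_mul, mul_one]
    rw [hzn, ← hw0] at e1
    -- e1 : u^n * w1 = algebraMap π * w0
    have e2 : (w1 : B) = (w0 : B) * ((cB⁻¹ : Bˣ) : B) := by simp [w1]
    rw [e2] at e1
    have e3 : (v * ((zu⁻¹ : Bˣ) : B)) ^ n * ((cB⁻¹ : Bˣ) : B) * (w0 : B) =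
        algebraMap A B π * (w0 : B) := by
      rw [← e1]; ring
    have e4 := w0.isUnit.mul_left_injective e3
    have e5 : (v * ((zu⁻¹ : Bˣ) : B)) ^ n = algebraMap A B π * (cB : B) := by
      rw [← e4, mul_assoc, Units.inv_mul, mul_one]
    rw [e5, map_mul, hcB, hcA']
  refine ⟨v * ((zu⁻¹ : Bˣ) : B), ?_, ?_, ?_, ?_⟩
  · rw [hMB]
    exact Ideal.mul_mem_right _ _ (Ideal.mem_span_singleton_self v)
  · rw [hMB, Ideal.span_singleton_pow, Ideal.mem_span_singleton]
    rintro ⟨t, ht⟩
    have h5 : v = v * (v * (t * (zu : B))) := by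
      calc v = v * ((zu⁻¹ : Bˣ) : B) * (zu : B) := by rw [mul_assoc, Units.inv_mul, mul_one]
        _ = v ^ 2 * t * (zu : B) := by rw [ht]
        _ = v * (v * (t * (zu : B))) := by ring
    have h6 : (1 : B) = v * (t * (zu : B)) := by
      have : v * 1 = v * (v * (t * (zu : B))) := by rw [mul_one]; exact h5
      exact mul_left_cancel₀ hv.ne_zero this
    exact hv.not_isUnit (IsUnit.of_mul_eq_one _ h6.symm)
  · exact ⟨_, hun.symm⟩
  · exact minpoly_natDegree_of_pow_eq A B n hn π cA hπ cA.isUnit _ hun

theorem main (K A B : Type u) [Field K]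
    [CommRing A] [IsDomain A] [IsDiscreteValuationRing A]
    [IsAdicComplete (IsLocalRing.maximalIdeal A) A]
    [Algebra K A] (hK : Function.Bijective ((IsLocalRing.residue A).comp (algebraMap K A)))
    [CommRing B] [IsDedekindDomain B] [Algebra A B] [Module.Finite A B] [Module.IsTorsionFree A B]
    (M : Ideal B) [M.IsMaximal] (hram : M.ramificationIdx A = Module.finrank A B)
    (hm : IsUnit ((Module.finrank A B : ℕ) : A)) :
    ∃ u : B, u ∈ M ∧ u ∉ M ^ 2 ∧ u ^ Module.finrank A B ∈ (algebraMap A B).range ∧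
      (minpoly A u).natDegree = Module.finrank A B := by
  classical
  set n := Module.finrank A B with hndef
  have hn : 0 < n := by
    rcases Nat.eq_zero_or_pos n with h | h
    · rw [h, Nat.cast_zero] at hm; exact absurd hm not_isUnit_zero
    · exact h
  obtain ⟨huniq, hf⟩ := unique_maximal A B M hram hn
  haveI : IsLocalRing B :=
    IsLocalRing.of_unique_max_ideal ⟨M, ‹M.IsMaximal›, fun Q hQ => huniq Q hQ⟩
  have hMax : maximalIdeal B = M := huniq _ (maximalIdeal.isMaximal B)
  haveI : Algebra.IsIntegral A B := Algebra.IsIntegral.of_finite A B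
  haveI hover : M.LiesOver (maximalIdeal A) := by
    have h1 : (M.under A).IsMaximal := Ideal.isMaximal_comap_of_isIntegral_of_isMaximal M
    exact ⟨(IsLocalRing.eq_maximalIdeal h1).symm⟩
  have hinj : Function.Injective (algebraMap A B) := FaithfulSMul.algebraMap_injective A B
  have hpne : maximalIdeal A ≠ ⊥ := IsDiscreteValuationRing.not_a_field A
  have hM0 : M ≠ ⊥ := by
    intro h0
    have h1 : maximalIdeal A = M.under A := hover.over
    rw [h0, Ideal.under_def, Ideal.comap_bot_of_injective _ hinj] at h1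
    exact hpne h1
  have hnf : ¬ IsField B := by
    intro hF
    apply hM0
    letI := hF.toField
    exact Ideal.eq_bot_of_prime (I := M)
  haveI : IsDiscreteValuationRing B := by
    have h := (IsDiscreteValuationRing.TFAE B hnf).out 0 2
    exact h.mpr ‹IsDedekindDomain B›
  have hp0 : (maximalIdeal A).map (algebraMap A B) ≠ ⊥ := by
    intro h0
    rw [Ideal.map_eq_bot_iff_of_injective hinj] at h0
    exact hpne h0
  obtain ⟨v, hv⟩ := IsDiscreteValuationRing.exists_irreducible B
  have hMv : M = Ideal.span {v} := by rw [← hMax]; exact hv.maximalIdeal_eq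
  obtain ⟨j, hj⟩ := IsDiscreteValuationRing.ideal_eq_span_pow_irreducible hp0 hv
  have hj' : (maximalIdeal A).map (algebraMap A B) = M ^ j := by
    rw [hj, hMv, Ideal.span_singleton_pow]
  have hcount := Ideal.IsDedekindDomain.ramificationIdx_eq_normalizedFactors_count
    (maximalIdeal A) M hp0
  have hMirr : Irreducible M := (Ideal.prime_of_isPrime hM0 inferInstance).irreducible
  have hjn : j = n := by
    rw [hj', UniqueFactorizationMonoid.normalizedFactors_pow,
      UniqueFactorizationMonoid.normalizedFactors_irreducible hMirr, normalize_eq,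
      Multiset.count_nsmul, Multiset.count_singleton_self, mul_one] at hcount
    rw [← hcount, hram]
  have hres : ∀ b : B, ∃ a : A, b - algebraMap A B a ∈ maximalIdeal B := by
    intro b
    have h1 : Module.finrank (A ⧸ maximalIdeal A) (B ⧸ M) = 1 := by
      rw [← Ideal.inertiaDeg_eq_of_isMaximal (maximalIdeal A) M, hf]
    letI : Field (A ⧸ maximalIdeal A) := Ideal.Quotient.field _
    letI : Field (B ⧸ M) := Ideal.Quotient.field _
    have h2 := (finrank_eq_one_iff_of_nonzero' (1 : B ⧸ M) one_ne_zero).mp h1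
      (Ideal.Quotient.mk M b)
    obtain ⟨c, hc⟩ := h2
    obtain ⟨a, rfl⟩ := Ideal.Quotient.mk_surjective c
    refine ⟨a, ?_⟩
    rw [hMax, ← Ideal.Quotient.eq, ← hc, Algebra.smul_def, mul_one,
      Ideal.Quotient.algebraMap_mk_of_liesOver]
  have hpB : (maximalIdeal A).map (algebraMap A B) = maximalIdeal B ^ n := by
    rw [hMax, ← hjn, hj']
  obtain ⟨u, hu1, hu2, hu3, hu4⟩ := main_local K A B hK n hn hm hpB hres
  rw [hMax] at hu1 hu2
  exact ⟨u, hu1, hu2, hu3, hu4⟩

end Groth.Agent.Lib.T2H8.TameRam
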