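import Mathlib
import Groth.Agent.Lib.T2H8TameRamA
import Groth.Agent.Lib.T2H8ArtSchA

/-!
# Artin–Schreier normal form of totally ramified Galois extensions of degree `p` of `K((t))`
(helper8)
-/

set_option autoImplicit false
universe u v

open scoped Polynomial
open PowerSeries IsLocalRing

namespace Groth.Agent.Lib.T2H8.ArtSch

/-- a field identity used to lower the pole order -/
theorem pole_identity {F : Type*} [Field F] (t u cc dd : F) (ht : t ≠ 0) (j e p : ℕ)
    (hjp : j * p = j + e + 1) (hd : dd ^ p = cc) :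
    (cc + t * u) / t ^ (j + e + 1) - (dd / t ^ j) ^ p + dd / t ^ j = (u + dd * t ^ e) / t ^ (j + e) := by
  rw [div_pow, ← pow_mul, hjp, hd]
  have h1 : t ^ (j + e + 1) ≠ 0 := pow_ne_zero _ ht
  have h2 : t ^ j ≠ 0 := pow_ne_zero _ ht
  have h3 : t ^ (j + e) ≠ 0 := pow_ne_zero _ ht
  field_simp
  ring

theorem normal_form (p : ℕ) [hp : Fact p.Prime] (K : Type u) [Field K] [CharP K p] [PerfectField K]
    (B F E : Type u) [CommRing B] [IsDomain B] [IsIntegrallyClosed B] [Algebra K⟦X⟧ B]
    [Field F] [Field E] [Algebra K⟦X⟧ F] [IsFractionRing K⟦X⟧ F] [Algebra B E] [IsFractionRing B E]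
    [Algebra F E] [Algebra K⟦X⟧ E] [IsScalarTower K⟦X⟧ F E] [IsScalarTower K⟦X⟧ B E]
    (hB : ∀ (b : B) (a : K⟦X⟧), b ^ p - b = algebraMap K⟦X⟧ B a → b ∈ (algebraMap K⟦X⟧ B).range)
    (n : ℕ) : ∀ (x : E) (a : K⟦X⟧), x ∉ (algebraMap F E).range →
      x ^ p - x = algebraMap F E (algebraMap K⟦X⟧ F a / algebraMap K⟦X⟧ F (X ^ n)) →
    ∃ (x' : E) (m : ℕ) (a' : K⟦X⟧), x' ∉ (algebraMap F E).range ∧ 0 < m ∧ ¬ p ∣ m ∧
      PowerSeries.constantCoeff a' ≠ 0 ∧
      x' ^ p - x' + algebraMap F E (algebraMap K⟦X⟧ F a' / algebraMap K⟦X⟧ F (X ^ m)) = 0 := by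
  haveI : CharP K⟦X⟧ p := charP_of_injective_algebraMap (algebraMap K K⟦X⟧).injective p
  haveI : CharP F p := charP_of_injective_algebraMap (IsFractionRing.injective K⟦X⟧ F) p
  haveI : CharP E p := charP_of_injective_algebraMap (algebraMap F E).injective p
  have htF : algebraMap K⟦X⟧ F X ≠ 0 := by
    rw [Ne, map_eq_zero_iff _ (IsFractionRing.injective K⟦X⟧ F)]
    exact PowerSeries.X_ne_zero
  induction n with
  | zero =>
    intro x a hx h
    exfalso
    apply hx
    rw [pow_zero, map_one, div_one, ← IsScalarTower.algebraMap_apply,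
      IsScalarTower.algebraMap_apply K⟦X⟧ B E] at h
    -- x integral over B
    have hint : IsIntegral B x := by
      refine ⟨Polynomial.X ^ p - Polynomial.X - Polynomial.C (algebraMap K⟦X⟧ B a), ?_, ?_⟩
      · have : (Polynomial.X ^ p - Polynomial.X - Polynomial.C (algebraMap K⟦X⟧ B a) : B[X]) =
            Polynomial.X ^ p - (Polynomial.X + Polynomial.C (algebraMap K⟦X⟧ B a)) := by ring
        rw [this]
        apply Polynomial.monic_X_pow_sub
        rw [Polynomial.degree_X_add_C]
        exact_mod_cast hp.out.one_lt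
      · simp only [Polynomial.eval₂_sub, Polynomial.eval₂_pow, Polynomial.eval₂_X,
          Polynomial.eval₂_C]
        rw [h, sub_self]
    obtain ⟨b, rfl⟩ := IsIntegrallyClosed.isIntegral_iff.mp hint
    have hb : b ^ p - b = algebraMap K⟦X⟧ B a := by
      apply IsFractionRing.injective B E
      rw [map_sub, map_pow, h]
    obtain ⟨a0, rfl⟩ := hB b a hb
    exact ⟨algebraMap K⟦X⟧ F a0, by rw [← IsScalarTower.algebraMap_apply,
      IsScalarTower.algebraMap_apply K⟦X⟧ B E]⟩
  | succ n ih =>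
    intro x a hx h
    by_cases hXa : (X : K⟦X⟧) ∣ a
    · obtain ⟨a1, rfl⟩ := hXa
      apply ih x a1 hx
      rw [h]
      congr 1
      rw [pow_succ, map_mul, map_mul, mul_comm (algebraMap K⟦X⟧ F (X ^ n)),
        mul_div_mul_left _ _ htF]
    · have hc0 : PowerSeries.constantCoeff a ≠ 0 := fun h0 => hXa (PowerSeries.X_dvd_iff.mpr h0)
      by_cases hpn : p ∣ n + 1
      · obtain ⟨j, hj⟩ := hpn
        have hj1 : 1 ≤ j := by
          rcases Nat.eq_zero_or_pos j with rfl | h0
          · omega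
          · exact h0
        have hp2 : 2 ≤ p := hp.out.two_le
        obtain ⟨e, he⟩ : ∃ e, (p - 1) * j = e + 1 := by
          have : 1 ≤ (p - 1) * j := Nat.mul_pos (by omega) hj1
          exact ⟨(p - 1) * j - 1, by omega⟩
        have hjp : j * p = j + e + 1 := by
          have : p = (p - 1) + 1 := by omega
          calc j * p = j * ((p - 1) + 1) := by rw [← this]
            _ = j + (p - 1) * j := by ring
            _ = j + e + 1 := by rw [he]; ring
        have hn : n = j + e := by
          have : n + 1 = j + e + 1 := by rw [hj, ← hjp, mul_comm]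
          omega
        haveI : ExpChar K p := ExpChar.prime hp.out
        haveI : PerfectRing K p := PerfectField.toPerfectRing p
        set c0 := PowerSeries.constantCoeff a with hc0def
        set d := (frobeniusEquiv K p).symm c0 with hddef
        have hdp : d ^ p = c0 := frobeniusEquiv_symm_pow_p K p c0
        set a'' : K⟦X⟧ := PowerSeries.mk fun i => PowerSeries.coeff (i + 1) a with ha''
        have ha : a = X * a'' + PowerSeries.C c0 := PowerSeries.eq_X_mul_shift_add_const a
        let t : F := algebraMap K⟦X⟧ F X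
        let dd : F := algebraMap K⟦X⟧ F (PowerSeries.C d)
        let cc : F := algebraMap K⟦X⟧ F (PowerSeries.C c0)
        let u : F := algebraMap K⟦X⟧ F a''
        have hdd : dd ^ p = cc := by
          simp only [dd, cc]
          rw [← map_pow, ← map_pow, hdp]
        have hkey := pole_identity t u cc dd htF j e p hjp hdd
        let w : E := algebraMap F E (dd / t ^ j)
        have hx' : x - w ∉ (algebraMap F E).range := by
          rintro ⟨y, hy⟩
          exact hx ⟨y + dd / t ^ j, by rw [map_add, hy]; simp [w]⟩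
        apply ih (x - w) (a'' + PowerSeries.C d * X ^ e) hx'
        rw [sub_pow_char]
        have h5 : (x ^ p - w ^ p) - (x - w) = (x ^ p - x) - (w ^ p - w) := by ring
        rw [h5, h]
        simp only [w]
        rw [← map_pow, ← map_sub, ← map_sub]
        congr 1
        have h6 : algebraMap K⟦X⟧ F a = cc + t * u := by
          conv_lhs => rw [ha]
          simp only [map_add, map_mul, cc, t, u]
          ring
        have h7 : algebraMap K⟦X⟧ F (X ^ (n + 1)) = t ^ (j + e + 1) := by
          rw [map_pow, hn]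
        have h8 : algebraMap K⟦X⟧ F (a'' + PowerSeries.C d * X ^ e) = u + dd * t ^ e := by
          simp only [map_add, map_mul, map_pow, u, dd, t]
        have h9 : algebraMap K⟦X⟧ F (X ^ n) = t ^ (j + e) := by
          rw [map_pow, hn]
        rw [h6, h7, h8, h9, ← hkey]
        ring
      · refine ⟨x, n + 1, -a, hx, Nat.succ_pos n, hpn, ?_, ?_⟩
        · rwa [map_neg, neg_ne_zero]
        · rw [map_neg, neg_div, map_neg, ← h]
          ring

/-- in the totally ramified situation an integral Artin–Schreier root already lies in the base -/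
theorem mem_range_of_pow_sub_self (p : ℕ) [hp : Fact p.Prime] (K : Type u) [Field K] [CharP K p]
    (B : Type u) [CommRing B] [IsDomain B] [IsLocalRing B] [Algebra K⟦X⟧ B]
    (hle : ∀ a : K⟦X⟧, a ∈ maximalIdeal K⟦X⟧ → algebraMap K⟦X⟧ B a ∈ maximalIdeal B)
    (hcomap : ∀ a : K⟦X⟧, algebraMap K⟦X⟧ B a ∈ maximalIdeal B → a ∈ maximalIdeal K⟦X⟧)
    (hres : ∀ b : B, ∃ a : K⟦X⟧, b - algebraMap K⟦X⟧ B a ∈ maximalIdeal B)
    (hinj : Function.Injective (algebraMap K⟦X⟧ B))
    (b : B) (a : K⟦X⟧) (hb : b ^ p - b = algebraMap K⟦X⟧ B a) :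
    b ∈ (algebraMap K⟦X⟧ B).range := by
  haveI : CharP K⟦X⟧ p := charP_of_injective_algebraMap (algebraMap K K⟦X⟧).injective p
  haveI : CharP B p := charP_of_injective_algebraMap hinj p
  have hp2 : 2 ≤ p := hp.out.two_le
  obtain ⟨a1, ha1⟩ := hres b
  set y := b - algebraMap K⟦X⟧ B a1 with hy
  set a' := a - a1 ^ p + a1 with ha'
  have hy1 : y ^ p - y = algebraMap K⟦X⟧ B a' := by
    rw [hy, sub_pow_char, ha', map_add, map_sub, map_pow, ← hb]
    ring
  have ha'm : a' ∈ maximalIdeal K⟦X⟧ := by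
    apply hcomap
    rw [← hy1]
    exact sub_mem (Ideal.pow_mem_of_mem _ ha1 p (by omega)) ha1
  -- Hensel
  haveI : HenselianRing K⟦X⟧ (Ideal.span {(X : K⟦X⟧)}) := inferInstance
  let f : K⟦X⟧[X] := Polynomial.X ^ p - (Polynomial.X + Polynomial.C a')
  have hfm : f.Monic := by
    apply Polynomial.monic_X_pow_sub
    rw [Polynomial.degree_X_add_C]
    exact_mod_cast hp.out.one_lt
  have hf0 : f.eval 0 ∈ Ideal.span {(X : K⟦X⟧)} := by
    simp only [f, Polynomial.eval_sub, Polynomial.eval_pow, Polynomial.eval_X, Polynomial.eval_add,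
      Polynomial.eval_C]
    rw [zero_pow (by omega), zero_add, zero_sub, ← PowerSeries.maximalIdeal_eq_span_X]
    exact neg_mem ha'm
  have hf1 : IsUnit (Ideal.Quotient.mk (Ideal.span {(X : K⟦X⟧)}) (f.derivative.eval 0)) := by
    have : f.derivative.eval 0 = -1 := by
      simp only [f, Polynomial.derivative_sub, Polynomial.derivative_X_pow, Polynomial.derivative_add,
        Polynomial.derivative_X, Polynomial.derivative_C, add_zero, Polynomial.eval_sub,
        Polynomial.eval_mul, Polynomial.eval_pow, Polynomial.eval_X, Polynomial.eval_one,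
        Polynomial.eval_C]
      rw [zero_pow (by omega), mul_zero, zero_sub]
    rw [this, map_neg, map_one]
    exact (isUnit_one (M := K⟦X⟧ ⧸ Ideal.span {(X : K⟦X⟧)})).neg
  obtain ⟨z, hz, hz0⟩ := HenselianRing.is_henselian f hfm 0 hf0 hf1
  have hz1 : z ^ p - z = a' := by
    have : f.eval z = 0 := hz
    simp only [f, Polynomial.eval_sub, Polynomial.eval_pow, Polynomial.eval_X, Polynomial.eval_add,
      Polynomial.eval_C] at this
    linear_combination this
  have hzm : z ∈ maximalIdeal K⟦X⟧ := by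
    rw [PowerSeries.maximalIdeal_eq_span_X]
    simpa using hz0
  set w := y - algebraMap K⟦X⟧ B z with hw
  have hwm : w ∈ maximalIdeal B := sub_mem ha1 (hle z hzm)
  have hw0 : w ^ p - w = 0 := by
    rw [hw, sub_pow_char, ← map_pow]
    have : algebraMap K⟦X⟧ B (z ^ p) = algebraMap K⟦X⟧ B (a' + z) := by
      rw [← hz1]; ring_nf
    rw [this, map_add, ← hy1]
    ring
  have hw1 : w * (w ^ (p - 1) - 1) = 0 := by
    have : w * w ^ (p - 1) = w ^ p := by
      rw [← pow_succ']
      congr 1
      omega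
    rw [mul_sub, this, mul_one, hw0]
  have hunit : IsUnit (w ^ (p - 1) - 1) := by
    by_contra hnu
    have h1 : w ^ (p - 1) - 1 ∈ maximalIdeal B := (mem_maximalIdeal _).mpr hnu
    have h2 : w ^ (p - 1) ∈ maximalIdeal B := Ideal.pow_mem_of_mem _ hwm _ (by omega)
    have h3 : (1 : B) ∈ maximalIdeal B := by
      have : (1 : B) = w ^ (p - 1) - (w ^ (p - 1) - 1) := by ring
      rw [this]
      exact sub_mem h2 h1
    exact (Ideal.ne_top_iff_one _).mp (maximalIdeal.isMaximal B).ne_top h3
  have hw2 : w = 0 := by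
    rcases mul_eq_zero.mp hw1 with h | h
    · exact h
    · exact absurd (h ▸ hunit) not_isUnit_zero
  refine ⟨a1 + z, ?_⟩
  rw [map_add]
  have : b = algebraMap K⟦X⟧ B a1 + algebraMap K⟦X⟧ B z + w := by
    rw [hw, hy]; ring
  rw [this, hw2, add_zero]

/-- local structure of a totally ramified extension of a DVR -/
theorem local_structure (A B : Type u) [CommRing A] [IsDomain A] [IsDiscreteValuationRing A]
    [CommRing B] [IsDedekindDomain B] [Algebra A B] [Module.Finite A B]
    [Module.IsTorsionFree A B]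
    (M : Ideal B) [M.IsMaximal] (hram : M.ramificationIdx A = Module.finrank A B)
    (hpos : 0 < Module.finrank A B) :
    ∃ _ : IsLocalRing B, maximalIdeal B = M ∧
      (∀ a : A, a ∈ maximalIdeal A → algebraMap A B a ∈ maximalIdeal B) ∧
      (∀ a : A, algebraMap A B a ∈ maximalIdeal B → a ∈ maximalIdeal A) ∧
      (∀ b : B, ∃ a : A, b - algebraMap A B a ∈ maximalIdeal B) ∧
      Function.Injective (algebraMap A B) := by
  obtain ⟨huniq, hf⟩ := Groth.Agent.Lib.T2H8.TameRam.unique_maximal A B M hram hpos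
  haveI hloc : IsLocalRing B :=
    IsLocalRing.of_unique_max_ideal ⟨M, ‹M.IsMaximal›, fun Q hQ => huniq Q hQ⟩
  have hMax : maximalIdeal B = M := huniq _ (maximalIdeal.isMaximal B)
  haveI : Algebra.IsIntegral A B := Algebra.IsIntegral.of_finite A B
  haveI hover : M.LiesOver (maximalIdeal A) := by
    have h1 : (M.under A).IsMaximal := Ideal.isMaximal_comap_of_isIntegral_of_isMaximal M
    exact ⟨(IsLocalRing.eq_maximalIdeal h1).symm⟩
  have hinj : Function.Injective (algebraMap A B) := FaithfulSMul.algebraMap_injective A B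
  refine ⟨hloc, hMax, ?_, ?_, ?_, hinj⟩
  · intro a ha
    rw [hMax]
    rw [hover.over] at ha
    exact ha
  · intro a ha
    rw [hMax] at ha
    rw [hover.over]
    exact ha
  · intro b
    have h1 : Module.finrank (A ⧸ maximalIdeal A) (B ⧸ M) = 1 := by
      rw [← Ideal.inertiaDeg_eq_of_isMaximal (maximalIdeal A) M, hf]
    letI : Field (A ⧸ maximalIdeal A) := Ideal.Quotient.field _
    letI : Field (B ⧸ M) := Ideal.Quotient.field _
    have h2 := (finrank_eq_one_iff_of_nonzero' (1 : B ⧸ M) one_ne_zero).mp h1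
      (Ideal.Quotient.mk M b)
    obtain ⟨c, hc⟩ := h2
    obtain ⟨a, rfl⟩ := Ideal.Quotient.mk_surjective c
    refine ⟨a, ?_⟩
    rw [hMax, ← Ideal.Quotient.eq, ← hc, Algebra.smul_def, mul_one,
      Ideal.Quotient.algebraMap_mk_of_liesOver]

/-- every element of the fraction field of `K⟦X⟧` is of the form `a / X ^ n` -/
theorem exists_eq_div_X_pow (K : Type u) [Field K] (F : Type u) [Field F] [Algebra K⟦X⟧ F]
    [IsFractionRing K⟦X⟧ F] (β : F) :
    ∃ (a : K⟦X⟧) (n : ℕ), β = algebraMap K⟦X⟧ F a / algebraMap K⟦X⟧ F (X ^ n) := by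
  obtain ⟨num, den, hden, rfl⟩ := IsFractionRing.div_surjective (A := K⟦X⟧) β
  have hden0 : den ≠ 0 := nonZeroDivisors.ne_zero hden
  obtain ⟨n, u, hu⟩ := IsDiscreteValuationRing.eq_unit_mul_pow_irreducible hden0
    (PowerSeries.X_irreducible (R := K))
  refine ⟨num * ((u⁻¹ : K⟦X⟧ˣ) : K⟦X⟧), n, ?_⟩
  have h1 : algebraMap K⟦X⟧ F den ≠ 0 := by
    rwa [Ne, map_eq_zero_iff _ (IsFractionRing.injective K⟦X⟧ F)]
  have h2 : algebraMap K⟦X⟧ F (X ^ n) ≠ 0 := by
    rw [Ne, map_eq_zero_iff _ (IsFractionRing.injective K⟦X⟧ F)]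
    exact pow_ne_zero _ PowerSeries.X_ne_zero
  rw [div_eq_div_iff h1 h2, ← map_mul, ← map_mul, hu]
  congr 1
  calc num * X ^ n = num * (((u⁻¹ : K⟦X⟧ˣ) : K⟦X⟧) * (u : K⟦X⟧)) * X ^ n := by
        rw [Units.inv_mul, mul_one]
    _ = num * ((u⁻¹ : K⟦X⟧ˣ) : K⟦X⟧) * ((u : K⟦X⟧) * X ^ n) := by ring

attribute [local instance] FractionRing.liftAlgebra in
theorem main (p : ℕ) [hp : Fact p.Prime] (K : Type u) [Field K]
    [CharP K p] [PerfectField K] (B : Type u) [CommRing B] [IsDedekindDomain B]
    [Algebra (PowerSeries K) B] [Module.Finite (PowerSeries K) B]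
    [Module.IsTorsionFree (PowerSeries K) B]
    [IsGalois (FractionRing (PowerSeries K)) (FractionRing B)]
    (hdeg : Module.finrank (FractionRing (PowerSeries K)) (FractionRing B) = p)
    (M : Ideal B) [M.IsMaximal] (hram : M.ramificationIdx (PowerSeries K) = p) :
    ∃ x : FractionRing B, ∃ m : ℕ, ∃ a : PowerSeries K,
      IntermediateField.adjoin (FractionRing (PowerSeries K)) {x} = ⊤ ∧ 0 < m ∧ ¬ p ∣ m ∧
      PowerSeries.constantCoeff a ≠ 0 ∧
      x ^ p - x + algebraMap (FractionRing (PowerSeries K)) (FractionRing B)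
        (algebraMap (PowerSeries K) (FractionRing (PowerSeries K)) a /
          algebraMap (PowerSeries K) (FractionRing (PowerSeries K)) (PowerSeries.X ^ m)) = 0 := by
  haveI : Algebra.IsIntegral K⟦X⟧ B := Algebra.IsIntegral.of_finite _ B
  have hfr : Module.finrank K⟦X⟧ B = p := by
    rw [← hdeg]
    exact (IsFractionRing.finrank_eq K⟦X⟧ (FractionRing K⟦X⟧) B (FractionRing B)).symm
  obtain ⟨hloc, hMax, hle, hcomap, hres, hinj⟩ :=
    local_structure K⟦X⟧ B M (hram.trans hfr.symm) (by rw [hfr]; exact hp.out.pos)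
  haveI := hloc
  have hB := mem_range_of_pow_sub_self p K B hle hcomap hres hinj
  haveI : CharP K⟦X⟧ p := charP_of_injective_algebraMap (algebraMap K K⟦X⟧).injective p
  haveI : CharP (FractionRing K⟦X⟧) p :=
    charP_of_injective_algebraMap (IsFractionRing.injective K⟦X⟧ (FractionRing K⟦X⟧)) p
  obtain ⟨x0, hx0, β, hβ⟩ :=
    exists_artinSchreier_generator p (FractionRing K⟦X⟧) (FractionRing B) hdeg
  obtain ⟨a, n, rfl⟩ := exists_eq_div_X_pow K (FractionRing K⟦X⟧) β
  obtain ⟨x', m, a', hx', hm, hpm, ha', heq⟩ :=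
    normal_form p K B (FractionRing K⟦X⟧) (FractionRing B) hB n x0 a hx0 hβ.symm
  refine ⟨x', m, a', ?_, hm, hpm, ha', heq⟩
  haveI := IntermediateField.isSimpleOrder_of_finrank_prime (FractionRing K⟦X⟧) (FractionRing B)
    (hdeg ▸ hp.out)
  rcases eq_bot_or_eq_top (IntermediateField.adjoin (FractionRing K⟦X⟧) {x'}) with h | h
  · exfalso
    apply hx'
    have h1 : x' ∈ IntermediateField.adjoin (FractionRing K⟦X⟧) {x'} :=
      IntermediateField.mem_adjoin_simple_self _ x'
    rw [h] at h1
    exact IntermediateField.mem_bot.mp h1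
  · exact h

end Groth.Agent.Lib.T2H8.ArtSch
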