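import Mathlib
import Groth.Prelude.Def_EtGm
import Groth.Prelude.Def_W4c5etcohweilstudentAS
import Groth.Agent.Lib.Helper16SmallEtale

/-!
# The Artin–Schreier sequence on the small étale site (helper8, team 2)

* `asPair`: the standard étale pair `(X ^ p - X - b, 1)` in characteristic `p`.
* `artinSchreier_locallySurjective`: `x ↦ x ^ p - x` on `G_a` is locally surjective.
-/

set_option autoImplicit false
universe u
open Polynomial

namespace Groth.Agent.Lib.T2H8.ArtinSchreier

/-- The Artin–Schreier standard étale pair `(X ^ p - X - b, 1)` when `p = 0`. -/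
noncomputable def asPair (B : Type u) [CommRing B] (p : ℕ) (hp : p.Prime) (h0 : (p : B) = 0)
    (b : B) : StandardEtalePair B where
  f := X ^ p - (X + C b)
  monic_f := by
    apply monic_X_pow_sub
    rcases subsingleton_or_nontrivial B with h | h
    · rw [Subsingleton.elim (X + C b) 0]
      simp
    · rw [degree_X_add_C]
      exact_mod_cast hp.one_lt
  g := 1
  cond := by
    refine ⟨-1, 0, 0, ?_⟩
    have h1 : (C (p : B) : B[X]) = 0 := by rw [h0, C_0]
    simp only [derivative_sub, derivative_X_pow, derivative_add, derivative_X, derivative_C,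
      add_zero, pow_zero, mul_zero]
    rw [h1]
    ring

variable (B : Type u) [CommRing B] (p : ℕ) (hp : p.Prime) (h0 : (p : B) = 0) (b : B)

lemma as_X_pow : (asPair B p hp h0 b).X ^ p - (asPair B p hp h0 b).X = algebraMap B _ b := by
  have h := (asPair B p hp h0 b).hasMap_X.1
  change aeval _ (X ^ p - (X + C b)) = 0 at h
  simp only [map_sub, map_pow, aeval_X, map_add, aeval_C] at h
  linear_combination h

/-- every prime of the base lifts to the Artin–Schreier algebra -/
lemma as_exists_prime (q : Ideal B) [q.IsPrime] :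
    ∃ Q : Ideal (asPair B p hp h0 b).Ring, Q.IsPrime ∧
      Q.comap (algebraMap B (asPair B p hp h0 b).Ring) = q := by
  let L := AlgebraicClosure q.ResidueField
  have hdeg : ((X ^ p - (X + C (algebraMap B L b)) : L[X])).degree ≠ 0 := by
    rw [degree_sub_eq_left_of_degree_lt (by
      rw [degree_X_add_C, degree_X_pow]; exact_mod_cast hp.one_lt), degree_X_pow]
    exact_mod_cast hp.ne_zero
  obtain ⟨x₀, hx₀⟩ := IsAlgClosed.exists_root _ hdeg
  have hmap : (asPair B p hp h0 b).HasMap x₀ := by
    refine ⟨?_, ?_⟩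
    · change aeval x₀ (X ^ p - (X + C b)) = 0
      simpa using hx₀
    · change IsUnit (aeval x₀ (1 : B[X]))
      simp
  let φ := (asPair B p hp h0 b).lift x₀ hmap
  refine ⟨RingHom.ker φ, RingHom.ker_isPrime φ, ?_⟩
  ext r
  rw [Ideal.mem_comap, RingHom.mem_ker, AlgHom.commutes,
    IsScalarTower.algebraMap_apply B q.ResidueField L, map_eq_zero,
    Ideal.algebraMap_residueField_eq_zero]

section Sheaf

open CategoryTheory CategoryTheory.Limits AlgebraicGeometry Opposite

variable (S : Scheme.{u})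

theorem artinSchreier_locallySurjective (p : ℕ) (hp : p.Prime) (h0 : (p : Γ(S, ⊤)) = 0) :
    Sheaf.IsLocallySurjective (W4c5etcohweilstudent.artinSchreierEndo S p hp h0) := by
  constructor
  intro U x
  rw [Groth.Agent.Lib.Helper16.SmallEtale.mem_smallEtale_iff]
  intro pt
  obtain ⟨B, j, hj, q, hq⟩ := Scheme.exists_Spec_apply_eq pt
  let a : Γ(U.left, ⊤) := ULift.down x
  let ρ : Γ(U.left, ⊤) →+* B := ((Scheme.ΓSpecIso B).hom.hom).comp j.appTop.hom
  let b : B := ρ a
  let σ : Γ(S, ⊤) →+* B := ρ.comp U.hom.appTop.hom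
  have h0B : ((p : ℕ) : B) = 0 := by simpa using congrArg σ h0
  obtain ⟨Q, hQ, hQq⟩ := as_exists_prime B p hp h0B b q.asIdeal
  let φ : B ⟶ CommRingCat.of (asPair B p hp h0B b).Ring :=
    CommRingCat.ofHom (algebraMap B (asPair B p hp h0B b).Ring)
  have hφ : Etale (Spec.map φ) := by
    rw [HasRingHomProperty.Spec_iff (P := @Etale)]
    exact RingHom.etale_algebraMap.mpr inferInstance
  let gl : Spec (CommRingCat.of (asPair B p hp h0B b).Ring) ⟶ U.left := Spec.map φ ≫ j
  let W : S.Etale := Scheme.Etale.mk (gl ≫ U.hom)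
  let g : W ⟶ U := MorphismProperty.Over.homMk gl rfl trivial
  refine ⟨W, g, ⟨Q, hQ⟩, ?_, ?_⟩
  · let t : Γ(W.left, ⊤) := (Scheme.ΓSpecIso _).inv.hom (asPair B p hp h0B b).X
    refine ⟨ULift.up t, ?_⟩
    apply ULift.ext
    change t ^ p - t = gl.appTop.hom a
    change ((Scheme.ΓSpecIso _).inv.hom (asPair B p hp h0B b).X) ^ p -
      (Scheme.ΓSpecIso _).inv.hom (asPair B p hp h0B b).X = gl.appTop.hom a
    rw [← map_pow, ← map_sub, as_X_pow]
    have h1 : gl.appTop = j.appTop ≫ (Spec.map φ).appTop := Scheme.Hom.comp_appTop _ _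
    have h2 := Scheme.ΓSpecIso_inv_naturality φ
    have h3 : j.appTop.hom a = (Scheme.ΓSpecIso B).inv.hom b := by
      change _ = (Scheme.ΓSpecIso B).inv.hom ((Scheme.ΓSpecIso B).hom.hom (j.appTop.hom a))
      rw [← CommRingCat.comp_apply, Iso.hom_inv_id]
      rfl
    rw [h1, CommRingCat.comp_apply, h3, ← CommRingCat.comp_apply, ← h2]
    rfl
  · change (Spec.map φ ≫ j) ⟨Q, hQ⟩ = pt
    rw [Scheme.Hom.comp_apply, ← hq]
    congr 1
    apply PrimeSpectrum.ext
    exact hQq

end Sheaf

end Groth.Agent.Lib.T2H8.ArtinSchreier
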