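import Mathlib

/-!
# Associated primes under an open immersion `Spec S → Spec R` (S8971)

For Noetherian rings `R → S` inducing an open immersion on spectra and a finite `R`-module `N`:
`Ass_S (S ⊗[R] N) = {q | q ∩ R ∈ Ass_R N}`.
-/

namespace Groth.Agent.Lib.T2H8.AssOpenImm

universe u v

open AlgebraicGeometry CategoryTheory TensorProduct

section Inj

variable {R S : Type u} [CommRing R] [CommRing S] [Algebra R S]

theorem comap_injective_of_isOpenImmersion
    (h : IsOpenImmersion (Spec.map (CommRingCat.ofHom (algebraMap R S))))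
    (q1 q2 : Ideal S) [h1 : q1.IsPrime] [h2 : q2.IsPrime]
    (heq : q1.comap (algebraMap R S) = q2.comap (algebraMap R S)) : q1 = q2 := by
  have hinj := (Spec.map (CommRingCat.ofHom (algebraMap R S))).isOpenEmbedding.injective
  have := @hinj (⟨q1, h1⟩ : PrimeSpectrum S) (⟨q2, h2⟩ : PrimeSpectrum S) (by
    rw [Spec.map_apply, Spec.map_apply]
    exact PrimeSpectrum.ext heq)
  exact congrArg PrimeSpectrum.asIdeal this

theorem flat_of_isOpenImmersion
    (h : IsOpenImmersion (Spec.map (CommRingCat.ofHom (algebraMap R S)))) : Module.Flat R S := by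
  have : Flat (Spec.map (CommRingCat.ofHom (algebraMap R S))) := inferInstance
  exact RingHom.flat_algebraMap_iff.mp (Flat.SpecMap_iff.mp this)

end Inj

section Ass

variable {R : Type u} {S : Type u} [CommRing R] [CommRing S] [Algebra R S]
  [IsNoetherianRing R] [IsNoetherianRing S]
  (N : Type v) [AddCommGroup N] [Module R N]

/-- `⊇`: if `q ∩ R ∈ Ass_R N`, `S` is `R`-flat and `Spec S → Spec R` is injective,
then `q ∈ Ass_S (S ⊗ N)`. -/
theorem mem_associatedPrimes_tensor_of_comap_mem [Module.Flat R S]
    (hinj : ∀ (q1 q2 : Ideal S) [q1.IsPrime] [q2.IsPrime],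
      q1.comap (algebraMap R S) = q2.comap (algebraMap R S) → q1 = q2)
    (q : Ideal S) [hq : q.IsPrime]
    (hmem : q.comap (algebraMap R S) ∈ associatedPrimes R N) :
    q ∈ associatedPrimes S (S ⊗[R] N) := by
  set p := q.comap (algebraMap R S) with hp
  obtain ⟨hpp, f, hf⟩ := (isAssociatedPrime_iff_exists_injective_linearMap _ _).mp
    ((AssociatedPrimes.mem_iff).mp hmem)
  -- `S/pS ↪ S ⊗ N`
  let g : (S ⧸ p.map (algebraMap R S)) →ₗ[S] S ⊗[R] N :=
    (f.baseChange S) ∘ₗ (p.qoutMapEquivTensorQout S).toLinearMap
  have hg : Function.Injective g := by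
    have h1 : Function.Injective (f.baseChange S) :=
      Module.Flat.lTensor_preserves_injective_linearMap (M := S) f hf
    intro x y hxy
    exact (p.qoutMapEquivTensorQout S).injective (h1 hxy)
  refine associatedPrimes.subset_of_injective hg ?_
  -- `q` is minimal over `pS`
  have hmin : q ∈ (p.map (algebraMap R S)).minimalPrimes := by
    refine ⟨⟨hq, Ideal.map_comap_le⟩, ?_⟩
    rintro q' ⟨hq', hle'⟩ hq'q
    have h1 : p ≤ q'.comap (algebraMap R S) := Ideal.le_comap_of_map_le hle'
    have h2 : q'.comap (algebraMap R S) ≤ p := Ideal.comap_mono hq'q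
    have := hinj q' q (le_antisymm h2 h1)
    exact this.ge
  have hann : Module.annihilator S (S ⧸ p.map (algebraMap R S)) = p.map (algebraMap R S) :=
    Ideal.annihilator_quotient
  rw [← hann] at hmin
  exact Module.associatedPrimes.minimalPrimes_annihilator_subset_associatedPrimes S _ hmin

/-- The `p`-torsion `(0 :_N p)` as a submodule. -/
def tors (p : Ideal R) : Submodule R N where
  carrier := {n | ∀ a ∈ p, a • n = 0}
  zero_mem' := fun a _ => smul_zero a
  add_mem' := fun {x y} hx hy a ha => by rw [smul_add, hx a ha, hy a ha, add_zero]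
  smul_mem' := fun c x hx a ha => by rw [smul_comm, hx a ha, smul_zero]

variable {N}

theorem mem_tors {p : Ideal R} {n : N} : n ∈ tors N p ↔ ∀ a ∈ p, a • n = 0 := Iff.rfl

/-- If `p` is prime and not associated to the finite module `N`, some `s ∉ p` kills `(0 :_N p)`. -/
theorem exists_notMem_smul_tors_eq_zero [Module.Finite R N] (p : Ideal R) [hp : p.IsPrime]
    (hnot : p ∉ associatedPrimes R N) : ∃ s, s ∉ p ∧ ∀ t ∈ tors N p, s • t = 0 := by
  by_contra hA
  push_neg at hA
  have hann : Module.annihilator R (tors N p) = p := by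
    apply le_antisymm
    · intro s hs
      by_contra hsp
      obtain ⟨t, ht, hne⟩ := hA s hsp
      apply hne
      have := Module.mem_annihilator.mp hs ⟨t, ht⟩
      exact congrArg Subtype.val this
    · intro a ha
      rw [Module.mem_annihilator]
      rintro ⟨t, ht⟩
      exact Subtype.ext (ht a ha)
  have hmin : p ∈ (Module.annihilator R (tors N p)).minimalPrimes := by
    rw [hann, Ideal.minimalPrimes_eq_subsingleton_self]
    exact Set.mem_singleton p
  have h1 := Module.associatedPrimes.minimalPrimes_annihilator_subset_associatedPrimes R _ hmin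
  exact hnot (associatedPrimes.subset_of_injective (f := (tors N p).subtype)
    Subtype.val_injective h1)

/-- Flat base change of `(0 :_N p)` for a finitely generated ideal `p`. -/
theorem mem_range_lTensor_tors [Module.Flat R S] (p : Ideal R) (z : S ⊗[R] N)
    (hz : ∀ a ∈ p, a • z = 0) : z ∈ LinearMap.range ((tors N p).subtype.lTensor S) := by
  classical
  obtain ⟨gens, hgens⟩ := (isNoetherianRing_iff_ideal_fg R).mp inferInstance p
  let ψ : N →ₗ[R] (gens → N) := LinearMap.pi fun a => (a : R) • LinearMap.id
  have hex : Function.Exact (tors N p).subtype ψ := by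
    intro n
    constructor
    · intro hn
      refine ⟨⟨n, ?_⟩, rfl⟩
      intro a ha
      rw [← hgens] at ha
      refine Submodule.span_induction (p := fun a _ => a • n = 0) ?_ ?_ ?_ ?_ ha
      · intro x hx
        have := congrFun hn ⟨x, hx⟩
        simpa [ψ] using this
      · exact zero_smul _ _
      · intro x y _ _ hx hy; rw [add_smul, hx, hy, add_zero]
      · intro c x _ hx; rw [smul_eq_mul, mul_smul, hx, smul_zero]
    · rintro ⟨⟨t, ht⟩, rfl⟩
      funext a
      have : (a : R) ∈ p := by rw [← hgens]; exact Submodule.subset_span a.2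
      simpa [ψ] using ht a this
  have hex' := Module.Flat.lTensor_exact S hex
  rw [LinearMap.mem_range, ← Set.mem_range, ← hex' z]
  -- `(ψ.lTensor S) z = 0`
  have hproj : ∀ a : gens, ((LinearMap.proj a : (gens → N) →ₗ[R] N).lTensor S)
      ((ψ.lTensor S) z) = 0 := by
    intro a
    rw [← LinearMap.comp_apply, ← LinearMap.lTensor_comp]
    have h1 : (LinearMap.proj a : (gens → N) →ₗ[R] N) ∘ₗ ψ = (a : R) • LinearMap.id := by
      ext n; simp [ψ]
    rw [h1, LinearMap.lTensor_smul, LinearMap.lTensor_id, LinearMap.smul_apply, LinearMap.id_apply]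
    exact hz a (by rw [← hgens]; exact Submodule.subset_span a.2)
  have hid : (LinearMap.id : (gens → N) →ₗ[R] (gens → N)) =
      ∑ a : gens, (LinearMap.single R (fun _ : gens => N) a) ∘ₗ (LinearMap.proj a) := by
    ext x b
    simp [Finset.sum_apply, Pi.single_apply]
  set w := (ψ.lTensor S) z with hw
  have : w = (LinearMap.id.lTensor S) w := by rw [LinearMap.lTensor_id, LinearMap.id_apply]
  rw [this, hid]
  have hsum : (LinearMap.lTensor S (∑ a : gens, (LinearMap.single R (fun _ : gens => N) a) ∘ₗ
      (LinearMap.proj a))) = ∑ a : gens, (LinearMap.lTensor S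
        ((LinearMap.single R (fun _ : gens => N) a) ∘ₗ (LinearMap.proj a))) :=
    map_sum (LinearMap.lTensorHom S) _ _
  rw [hsum, LinearMap.sum_apply]
  refine Finset.sum_eq_zero fun a _ => ?_
  rw [LinearMap.lTensor_comp, LinearMap.comp_apply, hproj a, map_zero]

/-- `⊆`: an associated prime of `S ⊗ N` contracts to an associated prime of `N` (`S` flat). -/
theorem comap_mem_associatedPrimes_of_mem_tensor [Module.Flat R S] [Module.Finite R N]
    (q : Ideal S) (hq : q ∈ associatedPrimes S (S ⊗[R] N)) :
    q.IsPrime ∧ q.comap (algebraMap R S) ∈ associatedPrimes R N := by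
  obtain ⟨hqp, z, hz⟩ := isAssociatedPrime_iff.mp ((AssociatedPrimes.mem_iff).mp hq)
  refine ⟨hqp, ?_⟩
  have hmemq : ∀ b : S, b ∈ q ↔ b • z = 0 := by
    intro b
    rw [hz, Submodule.mem_colon_singleton, Submodule.mem_bot]
  have hpp : (q.comap (algebraMap R S)).IsPrime := Ideal.comap_isPrime _ _
  by_contra hnot
  obtain ⟨s, hsp, hs⟩ := exists_notMem_smul_tors_eq_zero (q.comap (algebraMap R S)) hnot
  have hzr : z ∈ LinearMap.range ((tors N (q.comap (algebraMap R S))).subtype.lTensor S) := by
    apply mem_range_lTensor_tors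
    intro a ha
    rw [← algebraMap_smul S a z]
    exact (hmemq _).mp ha
  obtain ⟨z', hz'⟩ := hzr
  have hsz' : ∀ y : S ⊗[R] ↥(tors N (q.comap (algebraMap R S))), s • y = 0 := by
    intro y
    induction y using TensorProduct.induction_on with
    | zero => simp
    | tmul x t =>
      have : s • t = 0 := Subtype.ext (hs t.1 t.2)
      rw [← TensorProduct.tmul_smul, this, TensorProduct.tmul_zero]
    | add x y hx hy => rw [smul_add, hx, hy, add_zero]
  apply hsp
  rw [Ideal.mem_comap, hmemq, algebraMap_smul, ← hz', ← map_smul, hsz' z', map_zero]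

/-- For Noetherian rings `R → S` inducing an open immersion on spectra and a finite `R`-module
`N`: `Ass_S (S ⊗[R] N) = {q prime | q ∩ R ∈ Ass_R N}`. -/
theorem associatedPrimes_tensor_of_isOpenImmersion [Module.Finite R N]
    (h : IsOpenImmersion (Spec.map (CommRingCat.ofHom (algebraMap R S)))) :
    associatedPrimes S (S ⊗[R] N) =
      {q | q.IsPrime ∧ q.comap (algebraMap R S) ∈ associatedPrimes R N} := by
  haveI : Module.Flat R S := flat_of_isOpenImmersion h
  ext q
  constructor
  · intro hq
    exact comap_mem_associatedPrimes_of_mem_tensor q hq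
  · rintro ⟨hqp, hq⟩
    exact mem_associatedPrimes_tensor_of_comap_mem N
      (fun q1 q2 _ _ heq => comap_injective_of_isOpenImmersion h q1 q2 heq) q hq

end Ass

end Groth.Agent.Lib.T2H8.AssOpenImm
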