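import Groth.Agent.Lib.T2H8AssOpenImmA
import Groth.Agent.S2218
import Groth.Statements.S8971

/-!
# S8971: associated primes of `ω_{B/A}` for a quasi-finite factorisation `A → B' → B`
-/

namespace Groth.Agent.Lib.T2H8.AssOpenImm

universe u

open AlgebraicGeometry CategoryTheory TensorProduct

section OmegaFinite

variable (A B' : Type u) [CommRing A] [CommRing B'] [Algebra A B']

/-- `Disc.Omega A B'` is a finite `B'`-module when `A` is Noetherian and `B'` is finite over `A`
(no freeness assumption). -/
theorem finite_omega_of_noetherian [IsNoetherianRing A] [Module.Finite A B'] :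
    Module.Finite B' (Disc.Omega A B') := by
  classical
  letI : Module A (Disc.Omega A B') := Module.compHom _ (algebraMap A B')
  haveI : IsScalarTower A B' (Disc.Omega A B') :=
    ⟨fun a b φ => by
      change (a • b) • φ = (algebraMap A B' a) • (b • φ)
      rw [Algebra.smul_def, mul_smul]⟩
  obtain ⟨gens, hgens⟩ := (Module.Finite.fg_top : (⊤ : Submodule A B').FG)
  -- evaluation at the generators
  let ev : Disc.Omega A B' →ₗ[A] (gens → A) :=
    { toFun := fun φ g => φ.toLinearMap (g : B')
      map_add' := fun φ ψ => by funext g; simp
      map_smul' := fun a φ => by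
        funext g
        change ((algebraMap A B' a) • φ).toLinearMap (g : B') = a • φ.toLinearMap (g : B')
        rw [Disc.Omega.smul_toLinearMap_apply, ← Algebra.smul_def, map_smul] }
  have hev : Function.Injective ev := by
    intro φ ψ h
    apply Disc.Omega.ext
    apply LinearMap.ext_on_range (v := fun g : gens => (g : B'))
    · rw [Subtype.range_coe_subtype]; simpa using hgens
    · intro g
      exact congrFun h g
  haveI : Module.Finite A (Disc.Omega A B') := Module.Finite.of_injective ev hev
  exact Module.Finite.of_restrictScalars_finite A B' _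

end OmegaFinite

theorem main_S8971 (A B' B : Type u) [CommRing A] [CommRing B'] [CommRing B] [IsNoetherianRing A]
    [IsNoetherianRing B] [Algebra A B'] [Algebra B' B] [Algebra A B] [IsScalarTower A B' B]
    (hf : QFDual.IsQFFactor A B' B) :
    associatedPrimes B (QFDual.omega A B' B) =
      {q : Ideal B | q.IsPrime ∧ q.comap (algebraMap A B) ∈ associatedPrimes A A} := by
  haveI := hf.finite
  haveI : IsNoetherianRing B' := IsNoetherianRing.of_finite A B'
  haveI : Module.Finite B' (Disc.Omega A B') := finite_omega_of_noetherian A B'
  change associatedPrimes B (B ⊗[B'] Disc.Omega A B') = _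
  rw [associatedPrimes_tensor_of_isOpenImmersion (N := Disc.Omega A B') hf.isOpenImmersion]
  ext q
  simp only [Set.mem_setOf_eq]
  refine and_congr_right fun hq => ?_
  rw [Groth.Agent.S2218.result (A := A) (B := B')]
  simp only [Set.mem_setOf_eq]
  have hcomap : (q.comap (algebraMap B' B)).comap (algebraMap A B') = q.comap (algebraMap A B) := by
    rw [Ideal.comap_comap, ← IsScalarTower.algebraMap_eq A B' B]
  rw [hcomap]
  constructor
  · exact fun h => h.2
  · intro h
    exact ⟨Ideal.comap_isPrime _ _, h⟩

end Groth.Agent.Lib.T2H8.AssOpenImm
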