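import Mathlib
import Groth.Agent.S2380

/-!
# Fibre dimensions of modules: change of residue field, semicontinuity

* `finrank_tensor_eq_fd`: for a ring map `A → K` to a field with kernel `𝔭`,
  `dim_K (K ⊗_A M) = dim_{κ(𝔭)} (κ(𝔭) ⊗_A M)`.
-/

set_option autoImplicit false
universe u
open CategoryTheory TensorProduct

namespace Groth.Agent.Lib.T2H8.BettiLin

open Groth.Agent.S2380

theorem finrank_tensor_eq_fd {A K : Type u} [CommRing A] [Field K] [Algebra A K] (M : Type u)
    [AddCommGroup M] [Module A M] :
    Module.finrank K (K ⊗[A] M) =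
      fd M ⟨RingHom.ker (algebraMap A K), RingHom.ker_isPrime _⟩ := by
  haveI hp : (RingHom.ker (algebraMap A K)).IsPrime := RingHom.ker_isPrime _
  let g : (RingHom.ker (algebraMap A K)).ResidueField →+* K :=
    Ideal.ResidueField.lift (RingHom.ker (algebraMap A K)) (algebraMap A K) le_rfl (by
      intro a ha
      simp only [Submonoid.mem_comap, IsUnit.mem_submonoid_iff]
      exact isUnit_iff_ne_zero.2 (fun h => ha ((RingHom.mem_ker).2 h)))
  letI : Algebra (RingHom.ker (algebraMap A K)).ResidueField K := g.toAlgebra
  haveI : IsScalarTower A (RingHom.ker (algebraMap A K)).ResidueField K :=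
    IsScalarTower.of_algebraMap_eq (fun a =>
      (Ideal.ResidueField.lift_algebraMap _ (algebraMap A K) le_rfl _ a).symm)
  let e := TensorProduct.AlgebraTensorModule.cancelBaseChange A
    (RingHom.ker (algebraMap A K)).ResidueField K K M
  unfold fd
  rw [← e.finrank_eq, Module.finrank_baseChange]

theorem finrank_tensor_eq_fd' {A K : Type u} [CommRing A] [CommRing K] (hK : IsField K)
    [Algebra A K] (M : Type u) [AddCommGroup M] [Module A M]
    (hp : (RingHom.ker (algebraMap A K)).IsPrime) :
    Module.finrank K (K ⊗[A] M) = fd M ⟨RingHom.ker (algebraMap A K), hp⟩ := by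
  letI : Field K := hK.toField
  exact finrank_tensor_eq_fd M

/-- the same, for the `extendScalars` form of the base change -/
theorem finrank_extendScalars_eq_fd {A K : Type u} [CommRing A] [CommRing K] (hK : IsField K)
    (ψ : A →+* K) (M : ModuleCat.{u} A) (hp : (RingHom.ker ψ).IsPrime) :
    Module.finrank K ((ModuleCat.extendScalars ψ).obj M) = fd M ⟨RingHom.ker ψ, hp⟩ := by
  letI : Algebra A K := ψ.toAlgebra
  have h1 := finrank_extendScalars A K M
  have h2 := finrank_tensor_eq_fd' hK M hp
  exact h1.trans h2

end Groth.Agent.Lib.T2H8.BettiLin
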