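import Mathlib

/-!
# The Euler characteristic of a bounded complex of finite-dimensional vector spaces

`∑ (-1)^i dim H^i(D) = ∑ (-1)^i dim D^i` (both as `finsum` over `ℤ`).
-/

set_option autoImplicit false
universe u
open CategoryTheory

namespace Groth.Agent.Lib.T2H8.EulerLin

variable {K : Type u} [Field K]

/-- homology of a short complex of vector spaces: `dim H + dim im f = dim ker g` -/
lemma finrank_homology_add (S : ShortComplex (ModuleCat.{u} K)) [Module.Finite K S.X₂] :
    Module.finrank K S.homology + Module.finrank K (LinearMap.range S.f.hom) =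
      Module.finrank K (LinearMap.ker S.g.hom) := by
  rw [S.moduleCatHomologyIso.toLinearEquiv.finrank_eq]
  have h1 := Submodule.finrank_quotient_add_finrank (LinearMap.range S.moduleCatToCycles)
  have h2 : Module.finrank K (LinearMap.range S.moduleCatToCycles) =
      Module.finrank K (LinearMap.range S.f.hom) := by
    have : LinearMap.range S.f.hom =
        (LinearMap.range S.moduleCatToCycles).map (LinearMap.ker S.g.hom).subtype := by
      rw [← LinearMap.range_comp]
      rfl
    rw [this, Submodule.finrank_map_subtype_eq]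
  change Module.finrank K (↥(LinearMap.ker S.g.hom) ⧸ LinearMap.range S.moduleCatToCycles) + _ = _
  rw [← h2]
  exact h1

variable (D : CochainComplex (ModuleCat.{u} K) ℤ)

/-- dimension of the image of the differential `D^i ⟶ D^j` -/
noncomputable def rk (i j : ℤ) : ℕ := Module.finrank K (LinearMap.range (D.d i j).hom)

/-- dimension of the kernel of the differential `D^i ⟶ D^j` -/
noncomputable def zk (i j : ℤ) : ℕ := Module.finrank K (LinearMap.ker (D.d i j).hom)

lemma finrank_homology_eq (i : ℤ) [Module.Finite K (D.X i)] :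
    Module.finrank K (D.homology i) + rk D (i - 1) i = zk D i (i + 1) := by
  have e : D.homology i ≅ (D.sc' (i - 1) i (i + 1)).homology :=
    (HomologicalComplex.homologyFunctorIso' (ModuleCat.{u} K) (ComplexShape.up ℤ) (i - 1) i (i + 1)
      (by simp) (by simp)).app D
  rw [e.toLinearEquiv.finrank_eq]
  haveI : Module.Finite K (D.sc' (i - 1) i (i + 1)).X₂ := ‹Module.Finite K (D.X i)›
  exact finrank_homology_add (D.sc' (i - 1) i (i + 1))

lemma finrank_X_eq (i : ℤ) [Module.Finite K (D.X i)] :
    Module.finrank K (D.X i) = zk D i (i + 1) + rk D i (i + 1) := by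
  have := LinearMap.finrank_range_add_finrank_ker (D.d i (i + 1)).hom
  unfold zk rk
  omega

lemma rk_eq_zero_of_left (i j : ℤ) (h : Subsingleton (D.X i)) : rk D i j = 0 := by
  unfold rk
  have : LinearMap.range (D.d i j).hom = ⊥ := by
    rw [LinearMap.range_eq_bot]
    ext x
    rw [Subsingleton.elim x 0]
    simp
  rw [this]
  simp

lemma rk_eq_zero_of_right (i j : ℤ) (h : Subsingleton (D.X j)) : rk D i j = 0 := by
  unfold rk
  exact Module.finrank_zero_of_subsingleton

lemma zk_eq_zero (i j : ℤ) (h : Subsingleton (D.X i)) : zk D i j = 0 := by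
  unfold zk
  exact Module.finrank_zero_of_subsingleton

/-- **Euler characteristic**: for a bounded complex of finite-dimensional vector spaces the
alternating sum of the dimensions of the cohomology spaces equals that of the terms. -/
theorem eulerChar_eq (a b : ℤ) (hfin : ∀ i, Module.Finite K (D.X i))
    (hz : ∀ i, i < a ∨ b < i → Subsingleton (D.X i)) :
    ∑ᶠ i : ℤ, (i.negOnePow : ℤ) * (Module.finrank K (D.homology i) : ℤ) =
      ∑ᶠ i : ℤ, (i.negOnePow : ℤ) * (Module.finrank K (D.X i) : ℤ) := by
  have hsub : ∀ (f : ℤ → ℤ), (∀ i, i < a - 1 ∨ b + 1 < i → f i = 0) →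
      Function.HasFiniteSupport f := by
    intro f hf
    refine (Set.finite_Icc (a - 1) (b + 1)).subset fun i hi => ?_
    by_contra hcon
    rw [Set.mem_Icc, not_and_or, not_le, not_le] at hcon
    exact hi (hf i hcon)
  set g : ℤ → ℤ := fun i => (i.negOnePow : ℤ) * (rk D (i - 1) i : ℤ) with hg
  set z : ℤ → ℤ := fun i => (i.negOnePow : ℤ) * (zk D i (i + 1) : ℤ) with hzdef
  have hgs : Function.HasFiniteSupport g := hsub g fun i hi => by
    simp only [hg]
    rw [rk_eq_zero_of_right D _ _ (hz i (by omega))]
    simp
  have hzs : Function.HasFiniteSupport z := hsub z fun i hi => by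
    simp only [hzdef]
    rw [zk_eq_zero D _ _ (hz i (by omega))]
    simp
  have hgs' : Function.HasFiniteSupport (fun i => g (i + 1)) := hsub _ fun i hi => by
    simp only [hg]
    rcases hi with hi | hi
    · rw [rk_eq_zero_of_left D _ _ (hz _ (by omega))]
      simp
    · rw [rk_eq_zero_of_right D _ _ (hz _ (by omega))]
      simp
  have h1 : ∀ i : ℤ, (i.negOnePow : ℤ) * (Module.finrank K (D.homology i) : ℤ) = z i - g i := by
    intro i
    haveI := hfin i
    have := finrank_homology_eq D i
    simp only [hg, hzdef]
    rw [← this]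
    push_cast
    ring
  have h2 : ∀ i : ℤ, (i.negOnePow : ℤ) * (Module.finrank K (D.X i) : ℤ) = z i - g (i + 1) := by
    intro i
    haveI := hfin i
    have := finrank_X_eq D i
    simp only [hg, hzdef]
    rw [this, add_sub_cancel_right, Int.negOnePow_succ]
    push_cast
    ring
  simp only [h1, h2]
  rw [finsum_sub_distrib hzs hgs, finsum_sub_distrib hzs hgs']
  congr 1
  exact (finsum_comp_equiv (Equiv.addRight (1 : ℤ)) (f := g)).symm

/-- the same over a ring which happens to be a field -/
theorem eulerChar_eq' {K : Type u} [Ring K] (hK : IsField K)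
    (D : CochainComplex (ModuleCat.{u} K) ℤ) (a b : ℤ) (hfin : ∀ i, Module.Finite K (D.X i))
    (hz : ∀ i, i < a ∨ b < i → Subsingleton (D.X i)) :
    ∑ᶠ i : ℤ, (i.negOnePow : ℤ) * (Module.finrank K (D.homology i) : ℤ) =
      ∑ᶠ i : ℤ, (i.negOnePow : ℤ) * (Module.finrank K (D.X i) : ℤ) := by
  letI : Field K := hK.toField
  exact eulerChar_eq D a b hfin hz

end Groth.Agent.Lib.T2H8.EulerLin
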