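import Mathlib
import Groth.Prelude.Def_PerfD
import Groth.Agent.Lib.Helper1Sky11
import Groth.Agent.Lib.Helper26ModRank
import Groth.Agent.Lib.Helper23SectCmpLib
import Groth.Agent.Lib.T2H8PCohTriangle
import Groth.Agent.Lib.T2H8EulerLin
import Groth.Agent.Lib.T2H8PCohQCoh

/-!
# The Euler characteristic of a perfect complex is locally constant
-/

set_option autoImplicit false
universe u
open CategoryTheory CategoryTheory.Limits Opposite AlgebraicGeometry ZeroObject

namespace Groth.Agent.Lib.T2H8.EulerChar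

open Groth.Agent.Lib.T2H8.PCohTriangle DerivedCategory

attribute [local instance] HasDerivedCategory.standard

section OnePoint

variable (T : Scheme.{u})

/-- global sections of modules -/
noncomputable abbrev ΓT : T.Modules ⥤ ModuleCat.{u} (T.ringCatSheaf.obj.obj (op ⊤)) :=
  SheafOfModules.evaluation T.ringCatSheaf (op ⊤)

instance : (ΓT T).Additive where
  map_add := rfl

lemma ΓT_map_surjective [Subsingleton T] [Nonempty T] {A B : T.Modules} (φ : A ⟶ B) [Epi φ] :
    Function.Surjective ((ΓT T).map φ) := by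
  intro t
  obtain ⟨y⟩ := ‹Nonempty T›
  obtain ⟨W, hWV, hyW, s, hs⟩ :=
    Groth.Agent.Lib.Helper23.SectCmpLib.exists_local_lift φ ⊤ t y trivial
  obtain rfl : W = ⊤ := by
    ext z
    simp only [TopologicalSpace.Opens.coe_top, Set.mem_univ, iff_true]
    rw [Subsingleton.elim z y]
    exact hyW
  refine ⟨s, hs.trans ?_⟩
  have : (homOfLE hWV).op = 𝟙 (op (⊤ : T.Opens)) := rfl
  rw [this, B.presheaf.map_id]
  rfl

instance preservesFiniteLimits_ΓT : PreservesFiniteLimits (ΓT T) :=
  SheafOfModules.Finite.evaluationPreservesFiniteLimits.{u} (R := T.ringCatSheaf) (op ⊤)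

lemma preservesFiniteColimits_ΓT [Subsingleton T] [Nonempty T] :
    PreservesFiniteColimits (ΓT T) := by
  haveI : (ΓT T).PreservesEpimorphisms :=
    ⟨fun φ _ => (ModuleCat.epi_iff_surjective _).2 (ΓT_map_surjective T φ)⟩
  haveI : (ΓT T).PreservesHomology :=
    Functor.preservesHomology_of_preservesEpis_and_kernels _
  exact Functor.preservesFiniteColimits_of_preservesHomology _

/-- global sections commute with the homology of complexes on a one-point scheme -/
lemma nonempty_homology_iso [Subsingleton T] [Nonempty T] (C : CochainComplex T.Modules ℤ)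
    (i : ℤ) :
    Nonempty ((((ΓT T).mapHomologicalComplex (ComplexShape.up ℤ)).obj C).homology i ≅
      (ΓT T).obj (C.homology i)) := by
  haveI := preservesFiniteColimits_ΓT T
  exact ⟨(homologyFunctorMapIso (ΓT T) i).app C⟩

end OnePoint

section Rank

open Groth.Agent.Lib.Helper20.PullbackAff Groth.Agent.Lib.Helper26.ModRank

variable {T V' : Scheme.{u}}

/-- sections over a one-point affine scheme of the pullback of a module which is free of rank `n`
near the image point have a basis indexed by `Fin n` -/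
lemma nonempty_basis_pullback [Subsingleton T] [IsAffine T] (t₀ : T) (j : T ⟶ V')
    (N : V'.Modules) [N.IsQuasicoherent] {W : V'.Opens} {n : ℕ}
    (e : N.restrict W.ι ≅ FlatMod.freeMod (W : Scheme.{u}) n) (hW : j t₀ ∈ W) :
    Nonempty (Module.Basis (Fin n) Γ(T, ⊤) Γ((Scheme.Modules.pullback j).obj N, ⊤)) := by
  obtain ⟨U', hU', ⟨e'⟩⟩ := exists_restrict_iso_freeMod_pullback j N e t₀ hW
  obtain rfl : U' = ⊤ := by
    ext z
    simp only [TopologicalSpace.Opens.coe_top, Set.mem_univ, iff_true]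
    rw [Subsingleton.elim z t₀]
    exact hU'
  obtain ⟨b⟩ := nonempty_basis_of_restrict_iso ((Scheme.Modules.pullback j).obj N) e'
    (isAffineOpen_top T) le_rfl
  exact ⟨b.map (ΓUEquiv (isAffineOpen_top T) _).symm⟩

end Rank

section Point

variable {X : Scheme.{u}}

instance (y : X) : Subsingleton (Spec (X.residueField y)) :=
  inferInstanceAs (Subsingleton (PrimeSpectrum (X.residueField y)))

instance (y : X) : Nonempty (Spec (X.residueField y)) :=
  inferInstanceAs (Nonempty (PrimeSpectrum (X.residueField y)))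

lemma isField_Γtop (y : X) : IsField (Coh.Γtop (Spec (X.residueField y))) :=
  MulEquiv.isField (Field.toIsField (X.residueField y))
    (Scheme.ΓSpecIso (X.residueField y)).commRingCatIsoToRingEquiv.toMulEquiv

/-- Betti numbers from a complex representing the derived fibre -/
lemma betti_eq_of_iso (E : DCoh.D X) (y : X) [DCoh.HasLpull (X.fromSpecResidueField y)]
    (C : CochainComplex (Spec (X.residueField y)).Modules ℤ)
    (e : (DCoh.Lpull (X.fromSpecResidueField y)).obj E ≅ Q.obj C) (i : ℤ) :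
    PerfD.betti E y i = Module.finrank (Coh.Γtop (Spec (X.residueField y)))
      ((((ΓT (Spec (X.residueField y))).mapHomologicalComplex (ComplexShape.up ℤ)).obj
        C).homology i) := by
  obtain ⟨e'⟩ := nonempty_homology_iso (Spec (X.residueField y)) C i
  exact LinearEquiv.finrank_eq ((ΓT (Spec (X.residueField y))).mapIso
    ((homologyFunctor _ i).mapIso e ≪≫ (homologyFunctorFactors _ i).app C) ≪≫
      e'.symm).toLinearEquiv

/-- the Euler characteristic from a bounded complex with free terms representing the derived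
fibre -/
lemma eulerChar_eq_of_iso (E : DCoh.D X) (y : X) [DCoh.HasLpull (X.fromSpecResidueField y)]
    (C : CochainComplex (Spec (X.residueField y)).Modules ℤ)
    (e : (DCoh.Lpull (X.fromSpecResidueField y)).obj E ≅ Q.obj C) (a b : ℤ) (n : ℤ → ℕ)
    (hz : ∀ i, i < a ∨ b < i → IsZero (C.X i))
    (hb : ∀ i, a ≤ i → i ≤ b → Nonempty (Module.Basis (Fin (n i))
      Γ(Spec (X.residueField y), ⊤) Γ(C.X i, ⊤))) :
    PerfD.eulerChar E y =
      ∑ᶠ i : ℤ, (i.negOnePow : ℤ) * (if a ≤ i ∧ i ≤ b then (n i : ℤ) else 0) := by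
  let T := Spec (X.residueField y)
  let D := ((ΓT T).mapHomologicalComplex (ComplexShape.up ℤ)).obj C
  haveI : Nontrivial (Coh.Γtop T) := (isField_Γtop y).nontrivial
  have hzero : ∀ i, i < a ∨ b < i → Subsingleton (D.X i) := fun i hi =>
    ModuleCat.subsingleton_of_isZero ((ΓT T).map_isZero (hz i hi))
  have hfin : ∀ i, Module.Finite (Coh.Γtop T) (D.X i) := by
    intro i
    by_cases hi : a ≤ i ∧ i ≤ b
    · obtain ⟨bs⟩ := hb i hi.1 hi.2
      exact Module.Finite.of_basis bs
    · haveI := hzero i (by omega)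
      infer_instance
  unfold PerfD.eulerChar
  simp_rw [betti_eq_of_iso E y C e]
  rw [Groth.Agent.Lib.T2H8.EulerLin.eulerChar_eq' (isField_Γtop y) D a b hfin hzero]
  congr 1
  ext i
  congr 1
  split_ifs with hi
  · obtain ⟨bs⟩ := hb i hi.1 hi.2
    haveI : Nontrivial (Γ(Spec (X.residueField y), ⊤)) := inferInstance
    have := Module.finrank_eq_card_basis bs
    rw [Fintype.card_fin] at this
    exact_mod_cast this
  · haveI := hzero i (by omega)
    have : Module.finrank (Coh.Γtop T) (D.X i) = 0 := Module.finrank_zero_of_subsingleton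
    exact_mod_cast this

end Point

section Main

open Groth.Agent.Lib.Helper1.Sky

variable {X : Scheme.{u}}

/-- the derived fibre at a point of `V` of an object represented over `V` by a strictly perfect
complex `P` is the termwise fibre of `P` -/
lemma nonempty_lpull_iso (E : DCoh.D X) (V : X.Opens) (F : CochainComplex X.Modules ℤ)
    (e₀ : DCoh.toD X F ≅ E) (P : CochainComplex (V : Scheme.{u}).Modules ℤ)
    (hP : DCoh.IsStrictlyPerfect P) (θ₀ : Q.obj ((DCoh.restrictCx V).obj F) ≅ Q.obj P)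
    (y : X) [DCoh.HasLpull (X.fromSpecResidueField y)]
    (j : Spec (X.residueField y) ⟶ (V : Scheme.{u}))
    (hj : j ≫ V.ι = X.fromSpecResidueField y) :
    Nonempty ((DCoh.Lpull (X.fromSpecResidueField y)).obj E ≅ Q.obj ((pullC j).obj P)) := by
  haveI : DCoh.HasLpull j := hasLpull _
  haveI : DCoh.HasLpull V.ι := hasLpull _
  haveI : DCoh.HasLpull (j ≫ V.ι) := hasLpull _
  obtain ⟨c1⟩ := nonempty_lpull_comp_iso j V.ι
  obtain ⟨c2⟩ := nonempty_lpull_congr hj
  exact ⟨(c2.app E).symm ≪≫ (c1.app E).symm ≪≫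
    (DCoh.Lpull j).mapIso ((DCoh.Lpull V.ι).mapIso e₀.symm ≪≫ lpullOpenIso V F ≪≫ θ₀) ≪≫
    lpullIso j P (kffs_of_isStrictlyPerfect P hP)⟩

theorem main_S1059 (X : Scheme.{u}) [∀ x : X, DCoh.HasLpull (X.fromSpecResidueField x)]
    (E : DCoh.D X) (hE : DCoh.IsPerfect E) :
    IsLocallyConstant (fun x : X => PerfD.eulerChar E x) := by
  rw [IsLocallyConstant.iff_exists_open]
  intro x₀
  obtain ⟨V, hx₀V, H⟩ := hE x₀
  let F := (Q (C := X.Modules)).objPreimage E
  let e₀ : Q.obj F ≅ E := Q.objObjPreimageIso E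
  obtain ⟨P, hP, ⟨θ₀⟩⟩ := H F ⟨e₀⟩
  obtain ⟨⟨a, b, hab⟩, hfl⟩ := id hP
  choose U n hxU hUn using fun k => hfl k ⟨x₀, hx₀V⟩
  let W : (V : Scheme.{u}).Opens := (Finset.Icc a b).inf U
  have hW : ∀ w : (V : Scheme.{u}), w ∈ W ↔ ∀ k ∈ Finset.Icc a b, w ∈ U k := by
    intro w
    rw [← SetLike.mem_coe, TopologicalSpace.Opens.coe_finset_inf]
    simp [Finset.inf_eq_iInf]
  have key : ∀ (y : X) (hyV : y ∈ V), (⟨y, hyV⟩ : (V : Scheme.{u})) ∈ W →
      PerfD.eulerChar E y =
        ∑ᶠ i : ℤ, (i.negOnePow : ℤ) * (if a ≤ i ∧ i ≤ b then (n i : ℤ) else 0) := by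
    intro y hyV hyW
    have hr : Set.range (X.fromSpecResidueField y) ⊆ Set.range V.ι := by
      rw [Scheme.range_fromSpecResidueField, Scheme.Opens.range_ι]
      simpa using hyV
    let j := IsOpenImmersion.lift V.ι (X.fromSpecResidueField y) hr
    have hj : j ≫ V.ι = X.fromSpecResidueField y := IsOpenImmersion.lift_fac _ _ hr
    obtain ⟨e⟩ := nonempty_lpull_iso E V F e₀ P hP θ₀ y j hj
    refine eulerChar_eq_of_iso E y ((pullC j).obj P) e a b n
      (fun i hi => (Scheme.Modules.pullback j).map_isZero (hab i hi)) (fun i hia hib => ?_)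
    have t₀ : Spec (X.residueField y) := Classical.arbitrary _
    have hjt : j t₀ = ⟨y, hyV⟩ := by
      apply Subtype.ext
      have h1 : (j ≫ V.ι) t₀ = y := by
        rw [hj, Scheme.fromSpecResidueField_apply]
      exact h1
    haveI : (P.X i).IsQuasicoherent :=
      Groth.Agent.Lib.T2H8.PCohQCoh.isQCoh_of_isFinLocFree _ (hfl i)
    refine nonempty_basis_pullback t₀ j (P.X i) (hUn i).some ?_
    rw [hjt]
    exact (hW _).1 hyW i (Finset.mem_Icc.2 ⟨hia, hib⟩)
  have hx₀W : (⟨x₀, hx₀V⟩ : (V : Scheme.{u})) ∈ W := (hW _).2 fun k _ => hxU k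
  refine ⟨V.ι ''ᵁ W, (V.ι ''ᵁ W).2, ⟨⟨x₀, hx₀V⟩, hx₀W, rfl⟩, ?_⟩
  rintro y ⟨w, hwW, rfl⟩
  change PerfD.eulerChar E (V.ι w) = PerfD.eulerChar E x₀
  rw [key (V.ι w) w.2 hwW, key x₀ hx₀V hx₀W]

end Main

end Groth.Agent.Lib.T2H8.EulerChar
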