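import Mathlib
import Groth.Prelude.Def_PerfD
import Groth.Agent.Lib.T2H8EulerChar
import Groth.Agent.Lib.T2H8BettiLin
import Groth.Agent.Lib.Helper23FinType2
import Groth.Agent.Lib.Helper23QCohAbelian
import Groth.Agent.Lib.Helper20Nakayama
import Groth.Agent.Lib.Helper2LocFree

/-!
# Upper semicontinuity of the Betti numbers of pseudo-coherent objects
-/

set_option autoImplicit false
universe u
open CategoryTheory CategoryTheory.Limits Opposite AlgebraicGeometry ZeroObject TensorProduct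

namespace Groth.Agent.Lib.T2H8.Betti

open Groth.Agent.Lib.T2H8.PCohTriangle Groth.Agent.Lib.T2H8.EulerChar DerivedCategory
open Groth.Agent.Lib.Helper20.PullbackAff Groth.Agent.Lib.Helper20.Thickening
open Groth.Agent.Lib.T2H8.BettiLin Groth.Agent.S2380

attribute [local instance] HasDerivedCategory.standard

section FibDim

variable {T V' : Scheme.{u}}

/-- the fibre dimension of a quasi-coherent module at a one-point scheme mapping into an affine
open `W` is the fibre dimension of the module of sections over `W` at the corresponding prime -/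
lemma finrank_pullback_eq_fd [Subsingleton T] [IsAffine T] (hK : IsField Γ(T, ⊤)) (t₀ : T)
    (j : T ⟶ V') (N : V'.Modules) [N.IsQuasicoherent] {W : V'.Opens} (hW : IsAffineOpen W)
    (x : PrimeSpectrum Γ(V', W)) (hx : hW.fromSpec x = j t₀) :
    Module.finrank Γ(T, ⊤) Γ((Scheme.Modules.pullback j).obj N, ⊤) =
      fd ((ΓUF hW).obj N) x := by
  have hjW : j t₀ ∈ W := by
    rw [← hx]
    have : hW.fromSpec x ∈ Set.range hW.fromSpec := ⟨x, rfl⟩
    rw [hW.range_fromSpec] at this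
    exact this
  have h : (⊤ : T.Opens) ≤ j ⁻¹ᵁ W := fun z _ => by
    rw [Subsingleton.elim z t₀]
    exact hjW
  let ψ : Γ(V', W) →+* Γ(T, ⊤) := (j.appLE W ⊤ h).hom
  have e1 := ΓUEquiv (isAffineOpen_top T) ((Scheme.Modules.pullback j).obj N)
  have e2 := (ΓUFPullbackIso j hW (isAffineOpen_top T) h N).toLinearEquiv
  rw [e1.finrank_eq, e2.finrank_eq]
  -- the prime
  have hsq := IsAffineOpen.SpecMap_appLE_fromSpec j hW (isAffineOpen_top T) h
  let q : Spec Γ(T, ⊤) := (isAffineOpen_top T).primeIdealOf ⟨t₀, trivial⟩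
  have h1 : hW.fromSpec (Spec.map (j.appLE W ⊤ h) q) = hW.fromSpec x := by
    rw [hx, ← Scheme.Hom.comp_apply, hsq, Scheme.Hom.comp_apply]
    congr 1
    exact Subsingleton.elim _ _
  have h2 : Spec.map (j.appLE W ⊤ h) q = x := hW.fromSpec.isOpenEmbedding.injective h1
  haveI : IsDomain Γ(T, ⊤) := hK.isDomain
  have hp : (RingHom.ker ψ).IsPrime := RingHom.ker_isPrime ψ
  have h3 : (⟨RingHom.ker ψ, hp⟩ : PrimeSpectrum Γ(V', W)) = x := by
    rw [← h2]
    apply PrimeSpectrum.ext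
    have hq : (show PrimeSpectrum Γ(T, ⊤) from q).asIdeal = ⊥ := by
      letI := hK.toField
      exact Ideal.eq_bot_of_prime _
    change RingHom.ker ψ = Ideal.comap ψ (show PrimeSpectrum Γ(T, ⊤) from q).asIdeal
    rw [hq]
    rfl
  rw [← h3]
  exact finrank_extendScalars_eq_fd hK ψ _ hp

/-- **upper semicontinuity of fibre dimensions**: for a quasi-coherent module of finite type
`N` and a point `x₀`, there are an open neighbourhood `O` of `x₀` and a number `c` which is the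
fibre dimension of `N` at `x₀` and bounds the fibre dimension at the points of `O`
(fibres taken along any one-point affine scheme with a field of functions) -/
theorem exists_nhd_fibreDim_le (N : V'.Modules) [N.IsQuasicoherent]
    [hN : SheafOfModules.IsFiniteType (R := V'.ringCatSheaf) N] (x₀ : V') :
    ∃ (O : V'.Opens) (c : ℕ), x₀ ∈ O ∧
      ∀ (T : Scheme.{u}) [Subsingleton T] [IsAffine T] (_ : IsField Γ(T, ⊤)) (t₀ : T)
        (j : T ⟶ V'),
        (j t₀ = x₀ → Module.finrank Γ(T, ⊤) Γ((Scheme.Modules.pullback j).obj N, ⊤) = c) ∧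
        (j t₀ ∈ O → Module.finrank Γ(T, ⊤) Γ((Scheme.Modules.pullback j).obj N, ⊤) ≤ c) := by
  obtain ⟨W, hW, hx₀W, -⟩ :=
    exists_isAffineOpen_mem_and_subset (x := x₀) (U := ⊤) trivial
  let x₀' := hW.primeIdealOf ⟨x₀, hx₀W⟩
  have hx₀' : hW.fromSpec x₀' = x₀ := hW.fromSpec_primeIdealOf ⟨x₀, hx₀W⟩
  haveI : Module.Finite Γ(V', W) Γ(N, W) :=
    Groth.Agent.Lib.Helper23.FinType.finite_of_isFiniteType N hW
  haveI : Module.Finite Γ(V', W) ((ΓUF hW).obj N) := Module.Finite.equiv (ΓUEquiv hW N)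
  have ev := fd_eventually_le ((ΓUF hW).obj N) x₀'
  obtain ⟨O', hO'sub, hO'open, hx₀'O'⟩ := mem_nhds_iff.1 ev
  refine ⟨⟨hW.fromSpec '' O', hW.fromSpec.isOpenEmbedding.isOpenMap _ hO'open⟩,
    fd ((ΓUF hW).obj N) x₀', ⟨x₀', hx₀'O', hx₀'⟩, ?_⟩
  intro T _ _ hK t₀ j
  refine ⟨fun hj => ?_, fun hj => ?_⟩
  · exact finrank_pullback_eq_fd hK t₀ j N hW x₀' (hx₀'.trans hj.symm)
  · obtain ⟨x, hxO', hx⟩ := hj
    rw [finrank_pullback_eq_fd hK t₀ j N hW x hx]
    exact hO'sub hxO'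

end FibDim

section Coker

/-- rank formula for the homology of a short complex of finite-dimensional vector spaces over a
ring which is a field -/
theorem finrank_homology_add' {k : Type u} [Ring k] (hk : IsField k)
    (S : ShortComplex (ModuleCat.{u} k)) [Module.Finite k S.X₂] [Module.Finite k S.X₃] :
    Module.finrank k S.homology + Module.finrank k S.X₃ =
      Module.finrank k (S.X₂ ⧸ LinearMap.range S.f.hom) +
        Module.finrank k (S.X₃ ⧸ LinearMap.range S.g.hom) := by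
  letI : Field k := hk.toField
  exact finrank_homology_add S

/-- a right exact functor to modules commutes with cokernels, in quotient form -/
lemma nonempty_quotient_range_equiv {𝒜 : Type*} [Category 𝒜] [Abelian 𝒜] {k : Type u} [Ring k]
    (G : 𝒜 ⥤ ModuleCat.{u} k) [G.Additive] [PreservesFiniteColimits G] {A B : 𝒜} (f : A ⟶ B) :
    Nonempty ((G.obj B ⧸ LinearMap.range (G.map f).hom) ≃ₗ[k] G.obj (cokernel f)) :=
  ⟨((ModuleCat.cokernelIsoRangeQuotient (G.map f)).symm ≪≫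
    (PreservesCokernel.iso G f).symm).toLinearEquiv⟩

end Coker

section FibreComplex

open Groth.Agent.Lib.Helper1.Sky

variable {T V' : Scheme.{u}} [Subsingleton T] [Nonempty T]

/-- the fibre functor: pull back to `T`, then take global sections -/
noncomputable abbrev fibF (j : T ⟶ V') :
    V'.Modules ⥤ ModuleCat.{u} (T.ringCatSheaf.obj.obj (op ⊤)) :=
  Scheme.Modules.pullback j ⋙ ΓT T

lemma preservesFiniteColimits_fibF (j : T ⟶ V') : PreservesFiniteColimits (fibF j) := by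
  haveI := preservesFiniteColimits_ΓT T
  haveI : PreservesColimitsOfSize.{0, 0} (Scheme.Modules.pullback j) :=
    (Scheme.Modules.pullbackPushforwardAdjunction j).leftAdjoint_preservesColimits
  haveI : PreservesFiniteColimits (Scheme.Modules.pullback j) :=
    PreservesColimitsOfSize.preservesFiniteColimits _
  exact comp_preservesFiniteColimits _ _

theorem finrank_homology_fibre (hK : IsField (Coh.Γtop T)) (j : T ⟶ V')
    (P : CochainComplex V'.Modules ℤ) (p : ℤ)
    (hfin : ∀ i, Module.Finite (Coh.Γtop T) ((fibF j).obj (P.X i))) :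
    Module.finrank (Coh.Γtop T) ((((ΓT T).mapHomologicalComplex (ComplexShape.up ℤ)).obj
        ((pullC j).obj P)).homology p) +
      Module.finrank (Coh.Γtop T) ((fibF j).obj (P.X (p + 1))) =
    Module.finrank (Coh.Γtop T) ((fibF j).obj (cokernel (P.d (p - 1) p))) +
      Module.finrank (Coh.Γtop T) ((fibF j).obj (cokernel (P.d p (p + 1)))) := by
  haveI := preservesFiniteColimits_fibF j
  let D := ((ΓT T).mapHomologicalComplex (ComplexShape.up ℤ)).obj ((pullC j).obj P)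
  have e : D.homology p ≅ (D.sc' (p - 1) p (p + 1)).homology :=
    (HomologicalComplex.homologyFunctorIso' (ModuleCat.{u} (Coh.Γtop T)) (ComplexShape.up ℤ)
      (p - 1) p (p + 1) (by simp) (by simp)).app D
  haveI : Module.Finite (Coh.Γtop T) (D.sc' (p - 1) p (p + 1)).X₂ := hfin p
  haveI : Module.Finite (Coh.Γtop T) (D.sc' (p - 1) p (p + 1)).X₃ := hfin (p + 1)
  have key := finrank_homology_add' hK (D.sc' (p - 1) p (p + 1))
  obtain ⟨e1⟩ := nonempty_quotient_range_equiv (fibF j) (P.d (p - 1) p)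
  obtain ⟨e2⟩ := nonempty_quotient_range_equiv (fibF j) (P.d p (p + 1))
  rw [e.toLinearEquiv.finrank_eq, ← e1.finrank_eq, ← e2.finrank_eq]
  exact key

end FibreComplex

section Main

open Groth.Agent.Lib.Helper1.Sky Groth.Agent.Lib.Helper23.QCohLocal

variable {X : Scheme.{u}}

/-- Betti numbers from an identification of the cohomology of the derived fibre -/
lemma betti_eq_of_HD_iso (E : DCoh.D X) (y : X) [DCoh.HasLpull (X.fromSpecResidueField y)]
    (C : CochainComplex (Spec (X.residueField y)).Modules ℤ) (i : ℤ)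
    (e : DCoh.HD ((DCoh.Lpull (X.fromSpecResidueField y)).obj E) i ≅ C.homology i) :
    PerfD.betti E y i = Module.finrank (Coh.Γtop (Spec (X.residueField y)))
      ((((ΓT (Spec (X.residueField y))).mapHomologicalComplex (ComplexShape.up ℤ)).obj
        C).homology i) := by
  obtain ⟨e'⟩ := nonempty_homology_iso (Spec (X.residueField y)) C i
  exact LinearEquiv.finrank_eq ((ΓT (Spec (X.residueField y))).mapIso e ≪≫
      e'.symm).toLinearEquiv

lemma isFiniteType_of_isFinLocFree {V' : Scheme.{u}} (M : V'.Modules)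
    (h : FlatMod.IsFinLocFree M) : SheafOfModules.IsFiniteType (R := V'.ringCatSheaf) M := by
  haveI : SheafOfModules.IsFinitePresentation (R := V'.ringCatSheaf) M :=
    Groth.Agent.Lib.Helper2.LocFree.isFP_of_isFinLocFree M h
  infer_instance

/-- the fibre dimension of `N` along `j`, in the two forms -/
lemma finrank_fibF_eq {T V' : Scheme.{u}} (j : T ⟶ V') (N : V'.Modules) :
    Module.finrank (Coh.Γtop T) ((fibF j).obj N) =
      Module.finrank Γ(T, ⊤) Γ((Scheme.Modules.pullback j).obj N, ⊤) := rfl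

/-- the rank formula for the Betti number of an object approximated by `P` over `V` -/
theorem betti_add_eq (E : DCoh.D X) (p : ℤ) (V : X.Opens) (F : CochainComplex X.Modules ℤ)
    (e₀ : DCoh.toD X F ≅ E) (P : CochainComplex (V : Scheme.{u}).Modules ℤ)
    (hP : DCoh.IsStrictlyPerfect P) (α : Q.obj P ⟶ Q.obj ((DCoh.restrictCx V).obj F))
    (hα : PropM (p - 1) α) (y : X) [DCoh.HasLpull (X.fromSpecResidueField y)]
    (j : Spec (X.residueField y) ⟶ (V : Scheme.{u}))
    (hj : j ≫ V.ι = X.fromSpecResidueField y) :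
    PerfD.betti E y p +
        Module.finrank (Coh.Γtop (Spec (X.residueField y))) ((fibF j).obj (P.X (p + 1))) =
      Module.finrank (Coh.Γtop (Spec (X.residueField y)))
          ((fibF j).obj (cokernel (P.d (p - 1) p))) +
        Module.finrank (Coh.Γtop (Spec (X.residueField y)))
          ((fibF j).obj (cokernel (P.d p (p + 1)))) := by
  haveI : DCoh.HasLpull j := hasLpull _
  haveI : DCoh.HasLpull V.ι := hasLpull _
  haveI : DCoh.HasLpull (j ≫ V.ι) := hasLpull _
  obtain ⟨c1⟩ := nonempty_lpull_comp_iso j V.ι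
  obtain ⟨c2⟩ := nonempty_lpull_congr hj
  let c : (DCoh.Lpull (X.fromSpecResidueField y)).obj E ≅
      (DCoh.Lpull j).obj (Q.obj ((DCoh.restrictCx V).obj F)) :=
    (c2.app E).symm ≪≫ (c1.app E).symm ≪≫
      (DCoh.Lpull j).mapIso ((DCoh.Lpull V.ι).mapIso e₀.symm ≪≫ lpullOpenIso V F)
  have hβ : PropM (p - 1) ((DCoh.Lpull j).map α) := propM_lpull_map j (p - 1) α hα
  haveI : IsIso ((homologyFunctor _ p).map ((DCoh.Lpull j).map α)) := hβ.1 p (by omega)
  let ι := lpullIso j P (kffs_of_isStrictlyPerfect P hP)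
  let e : DCoh.HD ((DCoh.Lpull (X.fromSpecResidueField y)).obj E) p ≅
      ((pullC j).obj P).homology p :=
    (homologyFunctor _ p).mapIso c ≪≫
      (asIso ((homologyFunctor _ p).map ((DCoh.Lpull j).map α))).symm ≪≫
      (homologyFunctor _ p).mapIso ι ≪≫ (homologyFunctorFactors _ p).app _
  rw [betti_eq_of_HD_iso E y _ p e]
  refine finrank_homology_fibre (isField_Γtop y) j P p (fun i => ?_)
  -- finiteness of the fibres of the terms
  have t₀ : Spec (X.residueField y) := Classical.arbitrary _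
  obtain ⟨U', n, hU', ⟨e'⟩⟩ := hP.2 i (j t₀)
  haveI : (P.X i).IsQuasicoherent :=
    Groth.Agent.Lib.T2H8.PCohQCoh.isQCoh_of_isFinLocFree _ (hP.2 i)
  obtain ⟨bs⟩ := nonempty_basis_pullback t₀ j (P.X i) e' hU'
  exact Module.Finite.of_basis bs

/-- local upper semicontinuity of the `p`-th Betti number of an object with a
`(p-1)`-approximation by a strictly perfect complex over `V` -/
theorem exists_nhd_betti_le [∀ x : X, DCoh.HasLpull (X.fromSpecResidueField x)]
    (E : DCoh.D X) (p : ℤ) (V : X.Opens) (F : CochainComplex X.Modules ℤ)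
    (e₀ : DCoh.toD X F ≅ E) (P : CochainComplex (V : Scheme.{u}).Modules ℤ)
    (hP : DCoh.IsStrictlyPerfect P) (α : Q.obj P ⟶ Q.obj ((DCoh.restrictCx V).obj F))
    (hα : PropM (p - 1) α) (x₀ : X) (hx₀ : x₀ ∈ V) :
    ∃ O : X.Opens, x₀ ∈ O ∧ ∀ y ∈ O, PerfD.betti E y p ≤ PerfD.betti E x₀ p := by
  -- the two cokernels
  haveI hq : ∀ i, (P.X i).IsQuasicoherent := fun i =>
    Groth.Agent.Lib.T2H8.PCohQCoh.isQCoh_of_isFinLocFree _ (hP.2 i)
  haveI hft : ∀ i, SheafOfModules.IsFiniteType (R := (V : Scheme.{u}).ringCatSheaf) (P.X i) :=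
    fun i => isFiniteType_of_isFinLocFree _ (hP.2 i)
  obtain ⟨O₁, c₁, hO₁, h₁⟩ : ∃ (O : (V : Scheme.{u}).Opens) (c : ℕ),
      (⟨x₀, hx₀⟩ : (V : Scheme.{u})) ∈ O ∧
      ∀ (T : Scheme.{u}) [Subsingleton T] [IsAffine T] (_ : IsField Γ(T, ⊤)) (t₀ : T)
        (j : T ⟶ (V : Scheme.{u})),
        (j t₀ = ⟨x₀, hx₀⟩ → Module.finrank Γ(T, ⊤)
          Γ((Scheme.Modules.pullback j).obj (cokernel (P.d (p - 1) p)), ⊤) = c) ∧
        (j t₀ ∈ O → Module.finrank Γ(T, ⊤)
          Γ((Scheme.Modules.pullback j).obj (cokernel (P.d (p - 1) p)), ⊤) ≤ c) := by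
    haveI : (cokernel (P.d (p - 1) p)).IsQuasicoherent := isQuasicoherent_cokernel _
    haveI hepi : Epi (cokernel.π (P.d (p - 1) p)) := inferInstance
    haveI := @Groth.Agent.Lib.Helper20.Nakayama.isFiniteType_of_epi _ _ _
      (cokernel.π (P.d (p - 1) p)) hepi (hft p)
    exact exists_nhd_fibreDim_le (cokernel (P.d (p - 1) p)) ⟨x₀, hx₀⟩
  obtain ⟨O₂, c₂, hO₂, h₂⟩ : ∃ (O : (V : Scheme.{u}).Opens) (c : ℕ),
      (⟨x₀, hx₀⟩ : (V : Scheme.{u})) ∈ O ∧
      ∀ (T : Scheme.{u}) [Subsingleton T] [IsAffine T] (_ : IsField Γ(T, ⊤)) (t₀ : T)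
        (j : T ⟶ (V : Scheme.{u})),
        (j t₀ = ⟨x₀, hx₀⟩ → Module.finrank Γ(T, ⊤)
          Γ((Scheme.Modules.pullback j).obj (cokernel (P.d p (p + 1))), ⊤) = c) ∧
        (j t₀ ∈ O → Module.finrank Γ(T, ⊤)
          Γ((Scheme.Modules.pullback j).obj (cokernel (P.d p (p + 1))), ⊤) ≤ c) := by
    haveI : (cokernel (P.d p (p + 1))).IsQuasicoherent := isQuasicoherent_cokernel _
    haveI hepi : Epi (cokernel.π (P.d p (p + 1))) := inferInstance
    haveI := @Groth.Agent.Lib.Helper20.Nakayama.isFiniteType_of_epi _ _ _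
      (cokernel.π (P.d p (p + 1))) hepi (hft (p + 1))
    exact exists_nhd_fibreDim_le (cokernel (P.d p (p + 1))) ⟨x₀, hx₀⟩
  obtain ⟨U₃, n₃, hU₃, ⟨e₃⟩⟩ := hP.2 (p + 1) ⟨x₀, hx₀⟩
  -- the formula at a point of `V`
  have key : ∀ (y : X) (hyV : y ∈ V), (⟨y, hyV⟩ : (V : Scheme.{u})) ∈ U₃ →
      ∃ f₁ f₂ : ℕ, PerfD.betti E y p + n₃ = f₁ + f₂ ∧
        (y = x₀ → f₁ = c₁ ∧ f₂ = c₂) ∧
        ((⟨y, hyV⟩ : (V : Scheme.{u})) ∈ O₁ → f₁ ≤ c₁) ∧
        ((⟨y, hyV⟩ : (V : Scheme.{u})) ∈ O₂ → f₂ ≤ c₂) := by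
    intro y hyV hyU
    have hr : Set.range (X.fromSpecResidueField y) ⊆ Set.range V.ι := by
      rw [Scheme.range_fromSpecResidueField, Scheme.Opens.range_ι]
      simpa using hyV
    let j := IsOpenImmersion.lift V.ι (X.fromSpecResidueField y) hr
    have hj : j ≫ V.ι = X.fromSpecResidueField y := IsOpenImmersion.lift_fac _ _ hr
    have t₀ : Spec (X.residueField y) := Classical.arbitrary _
    have hjt : j t₀ = ⟨y, hyV⟩ := by
      apply Subtype.ext
      have h1 : (j ≫ V.ι) t₀ = y := by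
        rw [hj, Scheme.fromSpecResidueField_apply]
      exact h1
    have hform := betti_add_eq E p V F e₀ P hP α hα y j hj
    obtain ⟨bs⟩ := nonempty_basis_pullback t₀ j (P.X (p + 1)) e₃ (by rw [hjt]; exact hyU)
    have hn₃ : Module.finrank (Coh.Γtop (Spec (X.residueField y)))
        ((fibF j).obj (P.X (p + 1))) = n₃ := by
      haveI : Nontrivial (Coh.Γtop (Spec (X.residueField y))) := (isField_Γtop y).nontrivial
      have := Module.finrank_eq_card_basis bs
      rw [Fintype.card_fin] at this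
      exact this
    rw [hn₃] at hform
    have hK : IsField Γ(Spec (X.residueField y), ⊤) := isField_Γtop y
    refine ⟨_, _, hform, fun hy => ?_, fun hy => ?_, fun hy => ?_⟩
    · subst hy
      exact ⟨(h₁ _ hK t₀ j).1 hjt, (h₂ _ hK t₀ j).1 hjt⟩
    · exact (h₁ _ hK t₀ j).2 (by rw [hjt]; exact hy)
    · exact (h₂ _ hK t₀ j).2 (by rw [hjt]; exact hy)
  obtain ⟨a₁, a₂, ha, ha', -, -⟩ := key x₀ hx₀ hU₃
  obtain ⟨rfl, rfl⟩ := ha' rfl
  refine ⟨V.ι ''ᵁ (O₁ ⊓ O₂ ⊓ U₃), ⟨⟨x₀, hx₀⟩, ⟨⟨hO₁, hO₂⟩, hU₃⟩, rfl⟩, ?_⟩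
  rintro y ⟨w, ⟨⟨hw₁, hw₂⟩, hw₃⟩, rfl⟩
  obtain ⟨f₁, f₂, hf, -, hf₁, hf₂⟩ := key (V.ι w) w.2 hw₃
  have := hf₁ hw₁
  have := hf₂ hw₂
  change PerfD.betti E (V.ι w) p ≤ PerfD.betti E x₀ p
  omega

/-- the `p`-th Betti number of a `(p-1)`-pseudo-coherent object is upper semicontinuous -/
theorem isOpen_betti_lt [∀ x : X, DCoh.HasLpull (X.fromSpecResidueField x)]
    (E : DCoh.D X) (p : ℤ) (hE : DCoh.IsPseudoCoherentD (p - 1) E) (n : ℕ) :
    IsOpen {x : X | PerfD.betti E x p < n} := by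
  rw [isOpen_iff_mem_nhds]
  intro x₀ hx₀
  obtain ⟨V, hx₀V, H⟩ := hE x₀
  let F := (Q (C := X.Modules)).objPreimage E
  let e₀ : Q.obj F ≅ E := Q.objObjPreimageIso E
  obtain ⟨P, α, hP, hα1, hα2⟩ := H F ⟨e₀⟩
  obtain ⟨O, hO, hle⟩ := exists_nhd_betti_le E p V F e₀ P hP α ⟨hα1, hα2⟩ x₀ hx₀V
  exact Filter.mem_of_superset (O.2.mem_nhds hO) (fun y hy => lt_of_le_of_lt (hle y hy) hx₀)

theorem main_S6199 (X : Scheme.{u})
    [∀ x : X, DCoh.HasLpull (X.fromSpecResidueField x)] (E : DCoh.D X) (d : ℤ) [E.IsLE d] (p : ℤ)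
    (hE : DCoh.IsPseudoCoherentD (p - 1) E) (n : ℕ) :
    IsOpen {x : X | PerfD.betti E x p < n} :=
  isOpen_betti_lt E p hE n

theorem main_S1060 (X : Scheme.{u}) [∀ x : X, DCoh.HasLpull (X.fromSpecResidueField x)]
    (E : DCoh.D X) (hE : ∀ m : ℤ, DCoh.IsPseudoCoherentD m E) (i : ℤ) (n : ℕ) :
    IsOpen {x : X | PerfD.betti E x i < n} :=
  isOpen_betti_lt E i (hE (i - 1)) n

end Main

end Groth.Agent.Lib.T2H8.Betti
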