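import Mathlib
import Groth.Agent.Lib.Helper25FinQuot

set_option autoImplicit false

namespace Groth.Agent.Lib.T2H8.CDEx

open TensorProduct Coalgebra Bialgebra HopfAlgebra WithConv Groth.Agent.Lib.Helper25

universe u

section Coinv

variable {k : Type u} [CommRing k] {B A : Type u} [CommRing B] [CommRing A]
  [HopfAlgebra k B] [HopfAlgebra k A] [Algebra B A] [IsScalarTower k B A]

variable (k B A) in
/-- `a ↦ a ⊗_B 1` -/
noncomputable def mu1 : A →ₐ[k] A ⊗[B] A := Algebra.TensorProduct.includeLeft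

variable (k B A) in
/-- `a ↦ 1 ⊗_B a` -/
noncomputable def incR : A →ₐ[k] A ⊗[B] A :=
  (Algebra.TensorProduct.includeRight : A →ₐ[B] A ⊗[B] A).restrictScalars k

variable (k B A) in
/-- `a ↦ Σ S(a₁) ⊗_B a₂` -/
noncomputable def mu2 : A →ₐ[k] A ⊗[B] A :=
  ofConv (toConv ((mu1 k B A).comp (antipodeAlgHom k A)) * toConv (incR k B A))

variable (k B A) in
/-- `a ⊗ a' ↦ Σ a S(a'₁) ⊗_B a'₂` -/
noncomputable def mu : A ⊗[k] A →ₐ[k] A ⊗[B] A :=
  Algebra.TensorProduct.lift (mu1 k B A) (mu2 k B A) (fun _ _ => Commute.all _ _)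

theorem mu_comul (a : A) : mu k B A (comul a) = (1 : A) ⊗ₜ[B] a := by
  have h := AlgHom.convMul_apply (toConv (mu1 k B A)) (toConv (mu2 k B A)) a
  have h2 : toConv (mu1 k B A) * toConv (mu2 k B A) = toConv (incR k B A) := by
    rw [mu2, toConv_ofConv, ← mul_assoc, conv_antipode_cancel_right, one_mul]
  rw [h2] at h
  exact h.symm

theorem mu_tmul_one (a : A) : mu k B A (a ⊗ₜ[k] 1) = a ⊗ₜ[B] (1 : A) := by
  rw [mu, Algebra.TensorProduct.lift_tmul, map_one, mul_one]
  rfl

theorem mu_one_tmul (a : A) : mu k B A (1 ⊗ₜ[k] a) = mu2 k B A a := by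
  rw [mu, Algebra.TensorProduct.lift_tmul, map_one, one_mul]

theorem mu2_apply_map (f : B →ₐc[k] A) (hfa : ∀ b, algebraMap B A b = f b) (b : B) :
    mu2 k B A (f b) = algebraMap k (A ⊗[B] A) (counit b) := by
  have e1 : (incR k B A).comp (f : B →ₐ[k] A) = (mu1 k B A).comp (f : B →ₐ[k] A) := by
    apply AlgHom.ext
    intro b
    change (1 : A) ⊗ₜ[B] (f b) = (f b) ⊗ₜ[B] (1 : A)
    rw [← hfa b, Algebra.algebraMap_eq_smul_one, TensorProduct.tmul_smul, TensorProduct.smul_tmul']
  have h := AlgHom.convMul_comp_bialgHom_distrib (toConv ((mu1 k B A).comp (antipodeAlgHom k A)))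
    (toConv (incR k B A)) f
  have h' := AlgHom.convMul_comp_bialgHom_distrib (toConv ((mu1 k B A).comp (antipodeAlgHom k A)))
    (toConv (mu1 k B A)) f
  rw [ofConv_toConv] at h h'
  rw [e1, ← h', conv_antipode_cancel_left] at h
  have := AlgHom.congr_fun h b
  rw [AlgHom.comp_apply] at this
  change mu2 k B A (f b) = _ at this
  rw [this, AlgHom.comp_apply]
  change algebraMap k (A ⊗[B] A) (counit ((f : B →ₐ[k] A) b)) = _
  congr 1
  exact CoalgHomClass.counit_comp_apply f b

theorem mem_range_of_coinv_aux [Module.FaithfullyFlat B A] (f : B →ₐc[k] A)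
    (hfa : ∀ b, algebraMap B A b = f b)
    {A' : Type u} [CommRing A'] [Algebra k A'] (g : A →ₐ[k] A') (hg : Function.Surjective g)
    (hker : RingHom.ker g = Ideal.map (f : B →ₐ[k] A) (RingHom.ker (counitAlgHom k B)))
    (a : A) (ha : Algebra.TensorProduct.map (AlgHom.id k A) g (comul a) = a ⊗ₜ[k] (1 : A')) :
    a ∈ Set.range f := by
  have h1 : comul a - a ⊗ₜ[k] (1 : A) ∈
      RingHom.ker (Algebra.TensorProduct.map (AlgHom.id k A) g) := by
    rw [RingHom.mem_ker, map_sub, ha, Algebra.TensorProduct.map_tmul, map_one, AlgHom.id_apply,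
      sub_self]
  rw [Algebra.TensorProduct.lTensor_ker _ hg] at h1
  have h2 : Ideal.map (Algebra.TensorProduct.includeRight : A →ₐ[k] A ⊗[k] A) (RingHom.ker g) ≤
      RingHom.ker (mu k B A) := by
    rw [hker, Ideal.map_le_iff_le_comap, Ideal.map_le_iff_le_comap]
    intro b hb
    rw [Ideal.mem_comap, Ideal.mem_comap, RingHom.mem_ker]
    change mu k B A (1 ⊗ₜ f b) = 0
    rw [mu_one_tmul, mu2_apply_map f hfa]
    have hb' : counit (R := k) b = 0 := hb
    rw [hb', map_zero]
  have h3 := h2 h1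
  rw [RingHom.mem_ker, map_sub, mu_comul, mu_tmul_one, sub_eq_zero] at h3
  -- descent
  let N : Submodule B A := LinearMap.range (Algebra.linearMap B A)
  have h4 := congrArg (LinearMap.lTensor A N.mkQ) h3
  rw [LinearMap.lTensor_tmul, LinearMap.lTensor_tmul] at h4
  have h5 : N.mkQ (1 : A) = 0 := by
    rw [Submodule.mkQ_apply, Submodule.Quotient.mk_eq_zero]
    exact ⟨1, by simp⟩
  rw [h5, TensorProduct.tmul_zero] at h4
  have h6 := Module.FaithfullyFlat.tensorProduct_mk_injective (A := B) (B := A) (A ⧸ N)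
  have h7 : N.mkQ a = 0 := by
    apply h6
    rw [map_zero]
    exact h4
  rw [Submodule.mkQ_apply, Submodule.Quotient.mk_eq_zero] at h7
  obtain ⟨b, hb⟩ := h7
  exact ⟨b, by rw [← hfa b]; exact hb⟩

end Coinv

/-- Coinvariants of an exact sequence: if `f : B → A` is a faithfully flat bialgebra map of
commutative Hopf algebras and `g : A → A'` is surjective with kernel generated by `f(I_B)`, then
every right `g`-coinvariant element of `A` lies in the image of `f`. -/
theorem mem_range_of_coinv {k : Type u} [CommRing k] {B A : Type u} [CommRing B] [CommRing A]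
    [HopfAlgebra k B] [HopfAlgebra k A] (f : B →ₐc[k] A)
    (hf : (f : B →ₐ[k] A).toRingHom.FaithfullyFlat)
    {A' : Type u} [CommRing A'] [Algebra k A'] (g : A →ₐ[k] A') (hg : Function.Surjective g)
    (hker : RingHom.ker g = Ideal.map (f : B →ₐ[k] A) (RingHom.ker (counitAlgHom k B)))
    (a : A) (ha : Algebra.TensorProduct.map (AlgHom.id k A) g (comul a) = a ⊗ₜ[k] (1 : A')) :
    a ∈ Set.range f := by
  letI : Algebra B A := (f : B →ₐ[k] A).toRingHom.toAlgebra
  haveI : IsScalarTower k B A := IsScalarTower.of_algebraMap_eq (fun r => by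
    change algebraMap k A r = f (algebraMap k B r)
    exact ((f : B →ₐ[k] A).commutes r).symm)
  haveI : Module.FaithfullyFlat B A := hf
  exact mem_range_of_coinv_aux f (fun _ => rfl) g hg hker a ha

end Groth.Agent.Lib.T2H8.CDEx
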