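import Mathlib

/-!
# T2H8CDExB: pure submodules with finitely presented quotient are direct summands

* `flat_quotient_of_pure`: if `N` is flat and `P' ≤ N` satisfies `P' ∩ I N ⊆ I P'` for all
  finitely generated ideals `I`, then `N ⧸ P'` is flat.
* `exists_retraction_of_faithfullyFlat`: a faithfully flat ring map `f : B → A` of `R`-algebras with
  `A` a finite flat `R`-module over a Noetherian ring `R` has an `R`-linear retraction.
-/

set_option autoImplicit false
universe u v

open TensorProduct

namespace Groth.Agent.Lib.T2H8.CDEx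

section Pure

variable {R : Type u} [CommRing R] {N : Type v} [AddCommGroup N] [Module R N]

theorem flat_quotient_of_pure [Module.Flat R N] (P' : Submodule R N)
    (hpure : ∀ I : Ideal R, I.FG → ∀ n ∈ P', n ∈ I • (⊤ : Submodule R N) → n ∈ I • P') :
    Module.Flat R (N ⧸ P') := by
  rw [Module.Flat.iff_rTensor_injective]
  intro I hI
  rw [injective_iff_map_eq_zero]
  intro x hx
  have hsurj : Function.Surjective (LinearMap.lTensor I P'.mkQ) :=
    LinearMap.lTensor_surjective _ P'.mkQ_surjective
  obtain ⟨y, rfl⟩ := hsurj x
  -- the element `n ∈ N`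
  set n : N := TensorProduct.lid R N (LinearMap.rTensor N I.subtype y) with hn
  have hnI : n ∈ I • (⊤ : Submodule R N) := by
    rw [hn]
    clear hn hx
    induction y using TensorProduct.induction_on with
    | zero => simp
    | add a b ha hb => rw [map_add, map_add]; exact Submodule.add_mem _ ha hb
    | tmul i m =>
      simp only [LinearMap.rTensor_tmul, Submodule.subtype_apply, TensorProduct.lid_tmul]
      exact Submodule.smul_mem_smul i.2 Submodule.mem_top
  have hnP : n ∈ P' := by
    rw [← Submodule.Quotient.mk_eq_zero, ← Submodule.mkQ_apply, hn]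
    have h1 : P'.mkQ (TensorProduct.lid R N (LinearMap.rTensor N I.subtype y)) =
        TensorProduct.lid R (N ⧸ P') (LinearMap.rTensor (N ⧸ P') I.subtype
          (LinearMap.lTensor I P'.mkQ y)) := by
      clear hx hn hnI
      induction y using TensorProduct.induction_on with
      | zero => simp
      | add a b ha hb => simp only [map_add, ha, hb]
      | tmul i m => simp
    rw [h1, hx, map_zero]
  have hnIP := hpure I hI n hnP hnI
  -- lift `n` to `I ⊗ P'`
  have hlift : ∀ m ∈ I • P', ∃ z : I ⊗[R] P',
      TensorProduct.lid R N (LinearMap.rTensor N I.subtype (LinearMap.lTensor I P'.subtype z)) = m := by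
    intro m hm
    refine Submodule.smul_induction_on hm ?_ ?_
    · intro r hr p hp
      exact ⟨(⟨r, hr⟩ : I) ⊗ₜ[R] (⟨p, hp⟩ : P'), by simp⟩
    · rintro a b ⟨za, hza⟩ ⟨zb, hzb⟩
      exact ⟨za + zb, by simp only [map_add, hza, hzb]⟩
  obtain ⟨z, hz⟩ := hlift n hnIP
  have hinj : Function.Injective (LinearMap.rTensor N I.subtype) :=
    Module.Flat.rTensor_preserves_injective_linearMap _ Subtype.val_injective
  have hyz : y = LinearMap.lTensor I P'.subtype z := by
    apply hinj
    apply (TensorProduct.lid R N).injective
    rw [hz]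
  rw [hyz, ← LinearMap.comp_apply, ← LinearMap.lTensor_comp]
  have : P'.mkQ ∘ₗ P'.subtype = 0 := by
    ext p
    simp
  rw [this, LinearMap.lTensor_zero, LinearMap.zero_apply]

end Pure

section Retract

variable {R : Type u} [CommRing R] [IsNoetherianRing R] {B A : Type u} [CommRing B] [CommRing A]
  [Algebra R B] [Algebra R A] [Module.Finite R A] [Module.Flat R A]

/-- A faithfully flat map of `R`-algebras into a finite flat `R`-algebra (`R` Noetherian) has an
`R`-linear retraction. -/
theorem exists_retraction_of_faithfullyFlat (f : B →ₐ[R] A) (hf : f.toRingHom.FaithfullyFlat) :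
    ∃ r : A →ₗ[R] B, ∀ b, r (f b) = b := by
  letI : Algebra B A := f.toRingHom.toAlgebra
  haveI : Module.FaithfullyFlat B A := hf
  have hmapf : ∀ b : B, algebraMap B A b = f b := fun _ => rfl
  have hinj : Function.Injective f.toLinearMap := by
    have := FaithfulSMul.algebraMap_injective B A
    exact this
  set P' : Submodule R A := LinearMap.range f.toLinearMap with hP'
  have hpure : ∀ I : Ideal R, I.FG → ∀ n ∈ P', n ∈ I • (⊤ : Submodule R A) → n ∈ I • P' := by
    rintro I - n ⟨b, rfl⟩ hn
    rw [Ideal.smul_top_eq_map] at hn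
    have h1 : f b ∈ Ideal.map (algebraMap R A) I := hn
    have h2 : Ideal.map (algebraMap R A) I =
        Ideal.map (algebraMap B A) (Ideal.map (algebraMap R B) I) := by
      rw [Ideal.map_map]
      congr 1
      ext r
      simp [hmapf]
    rw [h2] at h1
    have h3 : b ∈ Ideal.map (algebraMap R B) I := by
      rw [← Ideal.comap_map_eq_self_of_faithfullyFlat (B := A) (Ideal.map (algebraMap R B) I)]
      exact h1
    have h4 : b ∈ I • (⊤ : Submodule R B) := by
      rw [Ideal.smul_top_eq_map]
      exact h3
    have h5 : I • P' = Submodule.map f.toLinearMap (I • (⊤ : Submodule R B)) := by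
      rw [Submodule.map_smul'', Submodule.map_top]
    rw [h5]
    exact ⟨b, h4, rfl⟩
  haveI : Module.Flat R (A ⧸ P') := flat_quotient_of_pure P' hpure
  haveI : Module.FinitePresentation R (A ⧸ P') := Module.finitePresentation_of_finite R _
  haveI : Module.Projective R (A ⧸ P') := Module.Flat.projective_of_finitePresentation
  obtain ⟨s, hs⟩ := Module.projective_lifting_property P'.mkQ LinearMap.id P'.mkQ_surjective
  let t : A →ₗ[R] A := LinearMap.id - s ∘ₗ P'.mkQ
  have ht : ∀ a, t a ∈ P' := by
    intro a
    rw [← Submodule.Quotient.mk_eq_zero, ← Submodule.mkQ_apply]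
    simp only [t, LinearMap.sub_apply, LinearMap.id_apply, LinearMap.comp_apply, map_sub]
    have := LinearMap.congr_fun hs (P'.mkQ a)
    simp only [LinearMap.comp_apply, LinearMap.id_apply] at this
    rw [this, sub_self]
  let e : B ≃ₗ[R] P' := LinearEquiv.ofInjective f.toLinearMap hinj
  refine ⟨e.symm.toLinearMap ∘ₗ LinearMap.codRestrict P' t ht, ?_⟩
  intro b
  simp only [LinearMap.comp_apply, LinearEquiv.coe_coe]
  rw [LinearEquiv.symm_apply_eq]
  apply Subtype.ext
  simp only [LinearMap.codRestrict_apply, t, LinearMap.sub_apply, LinearMap.id_apply,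
    LinearMap.comp_apply, e, LinearEquiv.ofInjective_apply]
  have h0 : P'.mkQ (f b) = 0 := by
    rw [Submodule.mkQ_apply, Submodule.Quotient.mk_eq_zero]
    exact ⟨b, rfl⟩
  rw [h0, map_zero, sub_zero]
  rfl

end Retract

end Groth.Agent.Lib.T2H8.CDEx
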