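import Mathlib
import Groth.Agent.Lib.Helper25TakeuchiCor
import Groth.Agent.Lib.Helper3FibCritA

set_option autoImplicit false

namespace Groth.Agent.Lib.T2H8.CDEx

open TensorProduct Coalgebra Bialgebra HopfAlgebra

universe u

section FlatRetr

variable {R : Type u} [CommRing R] {H' H : Type u} [CommRing H'] [CommRing H]
  [HopfAlgebra R H'] [HopfAlgebra R H]

/-- the base change of an `R`-split injective bialgebra map to a field is faithfully flat -/
theorem fiber_faithfullyFlat (u : H' →ₐc[R] H) (r : H →ₗ[R] H') (hr : ∀ x, r (u x) = x)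
    (κ : Type u) [Field κ] [Algebra R κ] :
    ((Bialgebra.TensorProduct.map (BialgHom.id κ κ) u : κ ⊗[R] H' →ₐc[κ] κ ⊗[R] H) :
      κ ⊗[R] H' →+* κ ⊗[R] H).FaithfullyFlat := by
  apply Groth.Agent.Lib.Helper25.faithfullyFlat_of_injective
  have h1 : ∀ z : κ ⊗[R] H', LinearMap.lTensor κ r
      ((Bialgebra.TensorProduct.map (BialgHom.id κ κ) u : κ ⊗[R] H' →ₐc[κ] κ ⊗[R] H) z) = z := by
    intro z
    induction z using TensorProduct.induction_on with
    | zero => simp
    | add y z hy hz => simp only [map_add, hy, hz]
    | tmul a b =>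
      rw [Bialgebra.TensorProduct.map_tmul, LinearMap.lTensor_tmul, hr]
      rfl
  intro x y hxy
  rw [← h1 x, ← h1 y, hxy]

/-- An `R`-split injective bialgebra map of finite flat commutative Hopf algebras over a Noetherian
ring is faithfully flat (fibre criterion + Takeuchi on the fibres). -/
theorem faithfullyFlat_of_retraction [IsNoetherianRing R] [Module.Finite R H'] [Module.Finite R H]
    [Module.Flat R H] (u : H' →ₐc[R] H) (r : H →ₗ[R] H') (hr : ∀ x, r (u x) = x) :
    (u : H' →ₐ[R] H).toRingHom.FaithfullyFlat := by
  letI : Algebra H' H := (u : H' →ₐ[R] H).toRingHom.toAlgebra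
  haveI : IsScalarTower R H' H := IsScalarTower.of_algebraMap_eq
    (fun x => ((u : H' →ₐ[R] H).commutes x).symm)
  haveI : IsNoetherianRing H' := IsNoetherianRing.of_finite R H'
  haveI : IsNoetherianRing H := IsNoetherianRing.of_finite R H
  have hinj : Function.Injective (algebraMap H' H) := fun x y h => by
    rw [← hr x, ← hr y]; exact congrArg r h
  have hflat : Module.Flat H' H := by
    apply Module.flat_of_isLocalized_maximal H H (fun P _ => LocalizedModule P.primeCompl H)
      (fun P _ => LocalizedModule.mkLinearMap P.primeCompl H)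
    intro P hP
    haveI : P.IsPrime := hP.isPrime
    let p : Ideal R := P.under R
    haveI : p.IsPrime := inferInstance
    apply Groth.Agent.Lib.Helper3.FibCritA.flat_localizedModule_of_fiberMap_flat_noeth p ?_ P rfl ?_
    · have h := (fiber_faithfullyFlat u r hr p.ResidueField).flat
      exact h
    · haveI : Module.Flat H (LocalizedModule P.primeCompl H) := inferInstance
      exact Module.Flat.trans R H _
  haveI := hflat
  haveI : Module.Finite H' H := Module.Finite.of_restrictScalars_finite R H' H
  haveI : Algebra.IsIntegral H' H := inferInstance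
  haveI : FaithfulSMul H' H := (faithfulSMul_iff_algebraMap_injective H' H).mpr hinj
  exact Module.FaithfullyFlat.of_comap_surjective (Algebra.IsIntegral.comap_surjective H' H)

end FlatRetr

end Groth.Agent.Lib.T2H8.CDEx
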