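import Mathlib
import Groth.Prelude.Def_CartDual2
import Groth.Agent.Lib.T2H8CDExA
import Groth.Agent.Lib.T2H8CDExB
import Groth.Agent.Lib.T2H8CDExC

set_option autoImplicit false

namespace Groth.Agent.Lib.T2H8.CDEx

open TensorProduct Coalgebra Bialgebra HopfAlgebra WithConv CartDual

universe u

section Sep

variable {R : Type u} [CommRing R] {M N : Type u} [AddCommGroup M] [Module R M]
  [AddCommGroup N] [Module R N]
  [Module.Finite R M] [Module.Projective R M] [Module.Finite R N] [Module.Projective R N]

/-- pure tensors of functionals separate the points of `M ⊗ N` (finite projective). -/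
theorem tensor_eq_of_forall_dual (w w₀ : M ⊗[R] N)
    (h : ∀ (x : Module.Dual R M) (y : Module.Dual R N),
      LinearMap.mul' R R (TensorProduct.map x y w) = LinearMap.mul' R R (TensorProduct.map x y w₀)) :
    w = w₀ := by
  rw [← sub_eq_zero, ← Module.forall_dual_apply_eq_zero_iff R]
  intro Φ
  obtain ⟨t, rfl⟩ := (dualTensorEquiv R M N).surjective Φ
  rw [map_sub, sub_eq_zero]
  induction t using TensorProduct.induction_on with
  | zero => simp
  | add t t' ht ht' => simp only [map_add, LinearMap.add_apply, ht, ht']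
  | tmul x y =>
    have key : ∀ z : M ⊗[R] N, dualTensorEquiv R M N (x ⊗ₜ y) z =
        LinearMap.mul' R R (TensorProduct.map x y z) := by
      intro z
      induction z using TensorProduct.induction_on with
      | zero => simp
      | add z z' hz hz' => simp only [map_add, hz, hz']
      | tmul m n => simp
    rw [key, key, h]

end Sep

section Tors

/-- If `T` is a projective `S`-module and `ε : S → R` an augmentation, an element of `T` killed by
every `R`-linear functional vanishing on `ker ε · T` lies in `ker ε · T`. -/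
theorem mem_map_of_forall_dual {R S T : Type u} [CommRing R] [CommRing S] [CommRing T]
    [Algebra R S] [Algebra R T] [Algebra S T] [IsScalarTower R S T] [Module.Projective S T]
    (ε : S →ₐ[R] R) (x : T)
    (hx : ∀ ψ : T →ₗ[R] R,
      (∀ z ∈ Ideal.map (algebraMap S T) (RingHom.ker ε), ψ z = 0) → ψ x = 0) :
    x ∈ Ideal.map (algebraMap S T) (RingHom.ker ε) := by
  classical
  obtain ⟨s, hs⟩ := (Module.projective_def' (R := S) (P := T)).mp inferInstance
  have hmem : ∀ z : T, z ∈ Ideal.map (algebraMap S T) (RingHom.ker ε) ↔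
      z ∈ ((RingHom.ker ε) • (⊤ : Submodule S T)) := by
    intro z
    rw [Ideal.smul_top_eq_map]
    rfl
  have h1 : ∀ e : T, ε (s x e) = 0 := by
    intro e
    let ψ : T →ₗ[R] R := ε.toLinearMap ∘ₗ ((Finsupp.lapply e ∘ₗ s).restrictScalars R)
    have hψ : ∀ z, ψ z = ε (s z e) := fun z => rfl
    rw [← hψ]
    apply hx
    intro z hz
    rw [hmem] at hz
    refine Submodule.smul_induction_on hz ?_ ?_
    · intro y hy t _
      rw [hψ, map_smul, Finsupp.smul_apply, smul_eq_mul, map_mul, (RingHom.mem_ker.mp hy), zero_mul]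
    · intro z z' hz hz'
      rw [map_add, hz, hz', add_zero]
  rw [hmem]
  have h2 : x = Finsupp.linearCombination S id (s x) := by
    have := LinearMap.congr_fun hs x
    rw [LinearMap.comp_apply, LinearMap.id_apply] at this
    exact this.symm
  rw [h2, Finsupp.linearCombination_apply, Finsupp.sum]
  refine Submodule.sum_mem _ (fun e _ => ?_)
  exact Submodule.smul_mem_smul (RingHom.mem_ker.mpr (h1 e)) Submodule.mem_top

end Tors

section Ker

variable {R : Type u} [CommRing R]
  {A' A A'' : Type u} [CommRing A'] [HopfAlgebra R A'] [Coalgebra.IsCocomm R A'] [Module.Finite R A']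
  [Module.Projective R A'] [CommRing A] [HopfAlgebra R A] [Coalgebra.IsCocomm R A]
  [Module.Finite R A] [Module.Projective R A] [CommRing A''] [HopfAlgebra R A'']
  [Coalgebra.IsCocomm R A''] [Module.Finite R A''] [Module.Projective R A'']
  (f : A'' →ₐc[R] A) (g : A →ₐc[R] A')

include f in
theorem g_f_apply
    (hker : RingHom.ker (g : A →ₐ[R] A') =
      Ideal.map (f : A'' →ₐ[R] A) (RingHom.ker (Bialgebra.counitAlgHom R A'')))
    (c : A'') : g (f c) = algebraMap R A' (counit c) := by
  have h1 : c - algebraMap R A'' (counit c) ∈ RingHom.ker (Bialgebra.counitAlgHom R A'') := by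
    rw [RingHom.mem_ker, map_sub, AlgHom.commutes]
    simp
  have h2 : (f : A'' →ₐ[R] A) (c - algebraMap R A'' (counit c)) ∈ RingHom.ker (g : A →ₐ[R] A') := by
    rw [hker]
    exact Ideal.mem_map_of_mem _ h1
  rw [RingHom.mem_ker, map_sub, map_sub, AlgHom.commutes, AlgHom.commutes, sub_eq_zero] at h2
  exact h2

theorem map_le_ker_transpose
    (hker : RingHom.ker (g : A →ₐ[R] A') =
      Ideal.map (f : A'' →ₐ[R] A) (RingHom.ker (Bialgebra.counitAlgHom R A''))) :
    Ideal.map (CartDual.transpose R g : CartDual.D R A' →ₐ[R] CartDual.D R A)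
        (RingHom.ker (Bialgebra.counitAlgHom R (CartDual.D R A'))) ≤
      RingHom.ker (CartDual.transpose R f : CartDual.D R A →ₐ[R] CartDual.D R A'') := by
  rw [Ideal.map_le_iff_le_comap]
  intro y hy
  have hy1 : y 1 = 0 := hy
  rw [Ideal.mem_comap, RingHom.mem_ker]
  apply WithConv.ext
  apply LinearMap.ext
  intro c
  change y (g (f c)) = 0
  rw [g_f_apply f g hker, Algebra.algebraMap_eq_smul_one]
  change y.ofConv (_ • 1) = 0
  rw [map_smul]
  change _ • y 1 = 0
  rw [hy1, smul_zero]

theorem conv_transpose_apply (h : CartDual.D R A) (y : CartDual.D R A') (a : A) :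
    (h * CartDual.transpose R g y) a =
      LinearMap.mul' R R (TensorProduct.map h.ofConv y.ofConv
        (Algebra.TensorProduct.map (AlgHom.id R A) (g : A →ₐ[R] A') (comul a))) := by
  rw [LinearMap.convMul_apply]
  congr 1
  have e0 : (CartDual.transpose R g y).ofConv = y.ofConv ∘ₗ (g : A →ₐ[R] A').toLinearMap := rfl
  rw [e0]
  have e : ∀ z : A ⊗[R] A,
      TensorProduct.map h.ofConv (y.ofConv ∘ₗ (g : A →ₐ[R] A').toLinearMap) z =
      TensorProduct.map h.ofConv y.ofConv
        (Algebra.TensorProduct.map (AlgHom.id R A) (g : A →ₐ[R] A') z) := by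
    intro z
    induction z using TensorProduct.induction_on with
    | zero => simp
    | add z z' hz hz' => simp only [map_add, hz, hz']
    | tmul m n => simp
  exact e _

theorem coinv_of_perp (a : A)
    (ha : ∀ z ∈ Ideal.map (CartDual.transpose R g : CartDual.D R A' →ₐ[R] CartDual.D R A)
        (RingHom.ker (Bialgebra.counitAlgHom R (CartDual.D R A'))), z a = 0) :
    Algebra.TensorProduct.map (AlgHom.id R A) (g : A →ₐ[R] A') (comul a) = a ⊗ₜ[R] (1 : A') := by
  apply tensor_eq_of_forall_dual
  intro x y
  let h : CartDual.D R A := toConv x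
  let y' : CartDual.D R A' := toConv y
  obtain ⟨r, hr⟩ : ∃ r : R, r = y 1 := ⟨_, rfl⟩
  have e0 : y' - r • (1 : CartDual.D R A') ∈
      RingHom.ker (Bialgebra.counitAlgHom R (CartDual.D R A')) := by
    rw [RingHom.mem_ker]
    change (y' - r • (1 : CartDual.D R A')).ofConv 1 = 0
    change y 1 - r • ((1 : CartDual.D R A') (1 : A')) = 0
    rw [LinearMap.convOne_apply, Bialgebra.counit_one, ← hr]
    simp
  have e1 : (h * CartDual.transpose R g (y' - r • 1)) a = 0 :=
    ha _ (Ideal.mul_mem_left _ _ (Ideal.mem_map_of_mem _ e0))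
  have e2 : h * CartDual.transpose R g y' =
      h * CartDual.transpose R g (y' - r • 1) + r • h := by
    rw [map_sub, map_smul, map_one, mul_sub, mul_smul_comm, mul_one, sub_add_cancel]
  have e3 := conv_transpose_apply g h y' a
  rw [e2] at e3
  have e4 : (h * CartDual.transpose R g (y' - r • 1) + r • h) a =
      (h * CartDual.transpose R g (y' - r • 1)) a + r * x a := rfl
  rw [e4, e1, zero_add] at e3
  change _ = LinearMap.mul' R R (x a ⊗ₜ y 1)
  rw [LinearMap.mul'_apply, mul_comm, ← hr, e3]

theorem ker_transpose_eq [IsNoetherianRing R]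
    (hf : (f : A'' →ₐ[R] A).toRingHom.FaithfullyFlat) (hg : Function.Surjective g)
    (hker : RingHom.ker (g : A →ₐ[R] A') =
      Ideal.map (f : A'' →ₐ[R] A) (RingHom.ker (Bialgebra.counitAlgHom R A'')))
    (hu : (CartDual.transpose R g : CartDual.D R A' →ₐ[R] CartDual.D R A).toRingHom.FaithfullyFlat) :
    RingHom.ker (CartDual.transpose R f : CartDual.D R A →ₐ[R] CartDual.D R A'') =
      Ideal.map (CartDual.transpose R g : CartDual.D R A' →ₐ[R] CartDual.D R A)
        (RingHom.ker (Bialgebra.counitAlgHom R (CartDual.D R A'))) := by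
  apply le_antisymm _ (map_le_ker_transpose f g hker)
  intro x hx
  letI : Algebra (CartDual.D R A') (CartDual.D R A) :=
    (CartDual.transpose R g : CartDual.D R A' →ₐ[R] CartDual.D R A).toRingHom.toAlgebra
  haveI : IsScalarTower R (CartDual.D R A') (CartDual.D R A) := IsScalarTower.of_algebraMap_eq
    (fun r => ((CartDual.transpose R g : CartDual.D R A' →ₐ[R] CartDual.D R A).commutes r).symm)
  haveI : Module.FaithfullyFlat (CartDual.D R A') (CartDual.D R A) := hu
  haveI : IsNoetherianRing (CartDual.D R A') := IsNoetherianRing.of_finite R (CartDual.D R A')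
  haveI : Module.Finite (CartDual.D R A') (CartDual.D R A) :=
    Module.Finite.of_restrictScalars_finite R _ _
  haveI : Module.FinitePresentation (CartDual.D R A') (CartDual.D R A) :=
    Module.finitePresentation_of_finite _ _
  haveI : Module.Projective (CartDual.D R A') (CartDual.D R A) :=
    Module.Flat.projective_of_finitePresentation
  have key := mem_map_of_forall_dual (R := R) (S := CartDual.D R A') (T := CartDual.D R A)
    (Bialgebra.counitAlgHom R (CartDual.D R A')) x ?_
  · exact key
  intro ψ hψ
  let G : Module.Dual R (Module.Dual R A) := ψ ∘ₗ (CartDual.toDual R A).symm.toLinearMap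
  let a : A := (Module.evalEquiv R A).symm G
  have ha : ∀ h : CartDual.D R A, ψ h = h a := by
    intro h
    have h1 := Module.apply_evalEquiv_symm_apply (R := R) (M := A) h.ofConv G
    exact h1.symm
  have hcoinv := coinv_of_perp g a (fun z hz => by rw [← ha]; exact hψ z hz)
  obtain ⟨c, hc⟩ := mem_range_of_coinv f hf (g : A →ₐ[R] A') hg hker a hcoinv
  rw [ha, ← hc]
  change (CartDual.transpose R f x) c = 0
  have hx' : CartDual.transpose R f x = 0 := hx
  rw [hx']
  rfl

end Ker

end Groth.Agent.Lib.T2H8.CDEx
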