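import Mathlib
import Groth.Prelude.Def_W4bk4boschfrg79
import Groth.Agent.Lib.T2H8RPowUse

/-!
# T2H8RPowSat: saturation of submodules with respect to a principal ideal
-/

set_option autoImplicit false
set_option linter.unusedSectionVars false
universe u

namespace Groth.Agent.Lib.T2H8.RPowSat

open Groth.Agent.Lib.T2H8.RPowUse

theorem exists_eq_pow_smul_of_mem {R : Type*} [CommRing R] (t : R) {M : Type*} [AddCommGroup M]
    [Module R M] (j : ℕ) (x : M) (hx : x ∈ ((Ideal.span {t}) ^ j • ⊤ : Submodule R M)) :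
    ∃ y : M, x = t ^ j • y := by
  rw [Ideal.span_singleton_pow, Submodule.ideal_span_singleton_smul] at hx
  obtain ⟨y, -, hy⟩ := (Submodule.mem_smul_pointwise_iff_exists _ _ _).mp hx
  exact ⟨y, hy.symm⟩

theorem pow_smul_mem {R : Type*} [CommRing R] (t : R) {M : Type*} [AddCommGroup M]
    [Module R M] (j : ℕ) (y : M) : t ^ j • y ∈ ((Ideal.span {t}) ^ j • ⊤ : Submodule R M) :=
  Submodule.smul_mem_smul (Ideal.pow_mem_pow (Ideal.mem_span_singleton_self t) j) Submodule.mem_top

section sat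

variable {R : Type*} [CommRing R] (t : R) {A : Type*} [CommRing A] [Algebra R A] {M : Type*}
  [AddCommGroup M] [Module A M] [Module R M] [IsScalarTower R A M]

/-- elements whose `t^k`-multiple lies in `N`. -/
def powSub (N : Submodule A M) (k : ℕ) : Submodule A M where
  carrier := {x | t ^ k • x ∈ N}
  add_mem' := by
    intro x y hx hy
    show t ^ k • (x + y) ∈ N
    rw [smul_add]
    exact N.add_mem hx hy
  zero_mem' := by
    show t ^ k • (0 : M) ∈ N
    rw [smul_zero]
    exact N.zero_mem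
  smul_mem' := by
    intro a x hx
    show t ^ k • (a • x) ∈ N
    rw [smul_comm]
    exact N.smul_mem a hx

theorem mem_powSub (N : Submodule A M) (k : ℕ) (x : M) : x ∈ powSub t N k ↔ t ^ k • x ∈ N :=
  Iff.rfl

theorem powSub_mono (N : Submodule A M) {k l : ℕ} (h : k ≤ l) : powSub t N k ≤ powSub t N l := by
  intro x hx
  show t ^ l • x ∈ N
  obtain ⟨d, rfl⟩ := Nat.exists_eq_add_of_le h
  rw [pow_add, mul_comm, mul_smul]
  exact N.smul_of_tower_mem (t ^ d) hx

/-- the `t`-saturation of a submodule. -/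
def sat (N : Submodule A M) : Submodule A M where
  carrier := {x | ∃ k, t ^ k • x ∈ N}
  add_mem' := by
    rintro x y ⟨k, hk⟩ ⟨l, hl⟩
    refine ⟨k + l, ?_⟩
    rw [smul_add]
    exact N.add_mem (powSub_mono t N (Nat.le_add_right k l) hk)
      (powSub_mono t N (Nat.le_add_left l k) hl)
  zero_mem' := ⟨0, by rw [smul_zero]; exact N.zero_mem⟩
  smul_mem' := by
    rintro a x ⟨k, hk⟩
    exact ⟨k, by rw [smul_comm]; exact N.smul_mem a hk⟩

theorem mem_sat (N : Submodule A M) (x : M) : x ∈ sat t N ↔ ∃ k, t ^ k • x ∈ N := Iff.rfl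

theorem le_sat (N : Submodule A M) : N ≤ sat t N := fun x hx => ⟨0, by rw [pow_zero, one_smul]; exact hx⟩

theorem sat_saturated (N : Submodule A M) (x : M) (k : ℕ)
    (hx : ∀ a ∈ (Ideal.span {t}) ^ k, a • x ∈ sat t N) : x ∈ sat t N := by
  obtain ⟨l, hl⟩ := hx (t ^ k) ((mem_span_pow_iff t k _).mpr dvd_rfl)
  exact ⟨l + k, by rw [pow_add, mul_smul]; exact hl⟩

theorem exists_pow_smul_mem_of_fg (N : Submodule A M) (h : (sat t N).FG) :
    ∃ n₀ : ℕ, ∀ x ∈ sat t N, t ^ n₀ • x ∈ N := by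
  classical
  obtain ⟨S, hS⟩ := h
  have h1 : ∀ x ∈ S, ∃ k, t ^ k • x ∈ N := fun x hx => by
    have h2 : x ∈ sat t N := hS ▸ Submodule.subset_span hx
    exact h2
  choose! k hk using h1
  refine ⟨S.sup k, fun x hx => ?_⟩
  have h2 : sat t N ≤ powSub t N (S.sup k) := by
    rw [← hS, Submodule.span_le]
    intro y hy
    exact powSub_mono t N (Finset.le_sup hy) (hk y hy)
  exact h2 hx

end sat

end Groth.Agent.Lib.T2H8.RPowSat
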