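import Mathlib
import Groth.Prelude.Def_W4bk4boschfrg79
import Groth.Agent.Lib.T2H8RPowSat

/-!
# T2H8RPowCompl: completeness and separatedness of finite modules over restricted power series
-/

set_option autoImplicit false
set_option linter.unusedSectionVars false
universe u

namespace Groth.Agent.Lib.T2H8.RPowCompl

open MvPolynomial RPowBase RPowUse RPowSat

theorem isHausdorff_pi_module {R : Type*} [CommRing R] (I : Ideal R) (ι : Type*) (M : Type*)
    [AddCommGroup M] [Module R M] [IsHausdorff I M] : IsHausdorff I (ι → M) := by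
  refine ⟨fun x hx => ?_⟩
  funext i
  apply IsHausdorff.haus' (I := I) (x i)
  intro k
  have h1 := hx k
  rw [SModEq.zero] at h1 ⊢
  exact Helper19.map_mem_smul_top (LinearMap.proj i : (ι → M) →ₗ[R] M) _ h1

theorem exists_series_limit {R : Type*} [CommRing R] (t : R) (N : Type*) [AddCommGroup N]
    [Module R N] [IsPrecomplete (Ideal.span {t}) N] (v : ℕ → N) :
    ∃ V : N, ∀ m : ℕ, ∃ e : N, V - ∑ l ∈ Finset.range m, t ^ l • v l = t ^ m • e := by
  have key : ∀ (m d : ℕ), (∑ l ∈ Finset.range m, t ^ l • v l) -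
      (∑ l ∈ Finset.range (m + d), t ^ l • v l) ∈
      ((Ideal.span {t}) ^ m • ⊤ : Submodule R N) := by
    intro m d
    induction d with
    | zero => simp
    | succ d ih =>
      rw [← add_assoc, Finset.sum_range_succ]
      have h1 : (∑ l ∈ Finset.range m, t ^ l • v l) -
          (∑ l ∈ Finset.range (m + d), t ^ l • v l + t ^ (m + d) • v (m + d)) =
          ((∑ l ∈ Finset.range m, t ^ l • v l) - (∑ l ∈ Finset.range (m + d), t ^ l • v l)) -
          t ^ (m + d) • v (m + d) := by abel
      rw [h1]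
      apply Submodule.sub_mem _ ih
      rw [pow_add, mul_smul]
      exact pow_smul_mem t m _
  have hC : ∀ {m n : ℕ}, m ≤ n → (∑ l ∈ Finset.range m, t ^ l • v l) ≡
      (∑ l ∈ Finset.range n, t ^ l • v l) [SMOD ((Ideal.span {t}) ^ m • ⊤ : Submodule R N)] := by
    intro m n hmn
    rw [SModEq.sub_mem]
    obtain ⟨d, rfl⟩ := Nat.exists_eq_add_of_le hmn
    exact key m d
  obtain ⟨L, hL⟩ := IsPrecomplete.prec' (I := Ideal.span {t})
    (fun m => ∑ l ∈ Finset.range m, t ^ l • v l) hC
  refine ⟨L, fun m => ?_⟩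
  have h1 := (hL m).symm
  rw [SModEq.sub_mem] at h1
  exact exists_eq_pow_smul_of_mem t m _ h1

theorem isAdicComplete_rpow {R : Type u} [CommRing R] (I : Ideal R) (hI : I.FG) (n : ℕ) :
    IsAdicComplete I (AdicRing.RPow R I n) := by
  have h := AdicCompletion.isAdicComplete
    (I := I.map (C : R →+* MvPolynomial (Fin n) R)) (M := MvPolynomial (Fin n) R) (hI.map _)
  exact (IsAdicComplete.map_algebraMap_iff (R := R) (S := MvPolynomial (Fin n) R)
    (I := I) (M := AdicRing.RPow R I n)).mp h

theorem isPrecomplete_of_finite_rpow {R : Type u} [CommRing R] (I : Ideal R) (hI : I.FG) (n : ℕ)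
    (M : Type u) [AddCommGroup M] [Module (AdicRing.RPow R I n) M] [Module R M]
    [IsScalarTower R (AdicRing.RPow R I n) M] [Module.Finite (AdicRing.RPow R I n) M] :
    IsPrecomplete I M := by
  obtain ⟨s, f, hf⟩ := Module.Finite.exists_fin' (AdicRing.RPow R I n) M
  haveI := (isAdicComplete_rpow I hI n).toIsPrecomplete
  haveI : IsPrecomplete I (Fin s → AdicRing.RPow R I n) :=
    Helper19.isPrecomplete_pi_module I (AdicRing.RPow R I n)
  exact Helper19.isPrecomplete_of_surjective_module I (f.restrictScalars R) hf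

section V

variable {R : Type u} [CommRing R] [IsDomain R] [PreValuationRing R] [Ring.KrullDimLE 1 R] (t : R)

/-- finite modules over `A t n` without `t`-power torsion are `t`-adically separated. -/
theorem eq_zero_of_forall_smul (ht0 : t ≠ 0) (hc : IsAdicComplete (Ideal.span {t}) R) (n : ℕ)
    (Q : Type u) [AddCommGroup Q] [Module (A t n) Q] [Module R Q] [IsScalarTower R (A t n) Q]
    [Module.Finite (A t n) Q] (hQ : AdicRing.NoPowTorsion (Ideal.span {t}) Q) (x : Q)
    (hx : ∀ m : ℕ, ∃ y : Q, x = t ^ m • y) : x = 0 := by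
  have hR : AdicRing.IsBase R (Ideal.span {t}) :=
    ⟨hc, Or.inr ⟨inferInstance, inferInstance, inferInstance, t, ht0, rfl⟩⟩
  haveI : Module.FinitePresentation (A t n) Q := RPowFP.fp_of_isBase (Ideal.span {t}) hR n Q hQ
  obtain ⟨s, f, hf⟩ := Module.Finite.exists_fin' (A t n) Q
  have hK : (LinearMap.ker f).FG := Module.FinitePresentation.fg_ker f hf
  haveI : Module.Finite (A t n) (LinearMap.ker f) := Module.Finite.of_fg hK
  obtain ⟨r, g, hg⟩ := Module.Finite.exists_fin' (A t n) (LinearMap.ker f)
  choose y hy using hx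
  choose u hu using fun m => hf (y m)
  have hw : ∀ m, u m - t • u (m + 1) ∈ LinearMap.ker f := by
    intro m
    rw [LinearMap.mem_ker, map_sub, LinearMap.map_smul_of_tower, hu, hu]
    apply smul_pow_eq_zero_of_noPowTorsion t Q hQ _ m
    rw [smul_sub, smul_smul, ← pow_succ, ← hy, ← hy, sub_self]
  choose v hv using fun m => hg ⟨_, hw m⟩
  obtain ⟨g', hg'⟩ : ∃ g' : (Fin r → A t n) →ₗ[A t n] (Fin s → A t n),
      g' = (LinearMap.ker f).subtype ∘ₗ g := ⟨_, rfl⟩
  have hg'ker : ∀ V, f (g' V) = 0 := fun V => by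
    rw [hg']
    exact (g V).2
  have hg'v : ∀ m, g' (v m) = u m - t • u (m + 1) := fun m => by
    rw [hg']
    exact congrArg Subtype.val (hv m)
  have hpart : ∀ m, u 0 = ∑ l ∈ Finset.range m, t ^ l • (u l - t • u (l + 1)) + t ^ m • u m := by
    intro m
    induction m with
    | zero => simp
    | succ m ih =>
      have h1 : ∑ l ∈ Finset.range (m + 1), t ^ l • (u l - t • u (l + 1)) + t ^ (m + 1) • u (m + 1) =
          ∑ l ∈ Finset.range m, t ^ l • (u l - t • u (l + 1)) + t ^ m • u m := by
        rw [Finset.sum_range_succ, smul_sub, smul_smul, ← pow_succ]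
        abel
      rw [h1]
      exact ih
  haveI : IsPrecomplete (Ideal.span {t}) (Fin r → A t n) := by
    haveI := (isAdicComplete t n).toIsPrecomplete
    exact Helper19.isPrecomplete_pi_module (Ideal.span {t}) (A t n)
  obtain ⟨V, hV⟩ := exists_series_limit t (Fin r → A t n) v
  have hmain : u 0 - g' V = 0 := by
    haveI : IsHausdorff (Ideal.span {t}) (Fin s → A t n) := by
      haveI := (isAdicComplete t n).toIsHausdorff
      exact isHausdorff_pi_module _ _ _
    apply IsHausdorff.haus' (I := Ideal.span {t})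
    intro m
    rw [SModEq.zero]
    obtain ⟨e, he⟩ := hV m
    have h1 : g' V = ∑ l ∈ Finset.range m, t ^ l • (u l - t • u (l + 1)) + t ^ m • g' e := by
      have h2 : V = ∑ l ∈ Finset.range m, t ^ l • v l + t ^ m • e := by
        rw [← he]
        abel
      rw [h2, map_add, map_sum, LinearMap.map_smul_of_tower]
      congr 1
      apply Finset.sum_congr rfl
      intro l _
      rw [LinearMap.map_smul_of_tower, hg'v]
    have h3 : u 0 - g' V = t ^ m • (u m - g' e) := by
      rw [h1, smul_sub]
      nth_rewrite 1 [hpart m]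
      abel
    rw [h3]
    exact pow_smul_mem t m _
  have hx0 : x = f (u 0) := by
    rw [hu]
    have h4 := hy 0
    rw [pow_zero, one_smul] at h4
    exact h4
  rw [hx0, sub_eq_zero.mp hmain]
  exact hg'ker V

end V

end Groth.Agent.Lib.T2H8.RPowCompl
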