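import Mathlib
import Groth.Prelude.Def_W4bk4boschfrg79
import Groth.Agent.Lib.T2H8RPowCompl
import Groth.Agent.Lib.Helper28ComplQuot
import Groth.Agent.S11529

/-!
# T2H8RPowFT: algebras finite over an algebra topologically of finite type
-/

set_option autoImplicit false
set_option linter.unusedSectionVars false
universe u

namespace Groth.Agent.Lib.T2H8.RPowFT

open MvPolynomial

/-- the canonical map from polynomials to restricted power series, general ideal -/
noncomputable abbrev ofP {R : Type u} [CommRing R] (I : Ideal R) (n : ℕ) :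
    MvPolynomial (Fin n) R →ₐ[R] AdicRing.RPow R I n :=
  IsScalarTower.toAlgHom R (MvPolynomial (Fin n) R) (AdicRing.RPow R I n)

theorem ofP_apply {R : Type u} [CommRing R] (I : Ideal R) (n : ℕ) (p : MvPolynomial (Fin n) R) :
    ofP I n p = AdicCompletion.of (I.map (C : R →+* MvPolynomial (Fin n) R)) _ p := rfl

theorem isBase_fg {R : Type u} [CommRing R] (I : Ideal R) (hR : AdicRing.IsBase R I) : I.FG := by
  obtain ⟨-, hN | ⟨-, -, -, t, -, rfl⟩⟩ := hR
  · haveI := hN.1
    exact IsNoetherian.noetherian I
  · exact ⟨{t}, by simp⟩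

/-- maps into a complete algebra extend from polynomials to restricted power series. -/
theorem exists_lift {R : Type u} [CommRing R] (I : Ideal R) (n : ℕ) (T : Type u) [CommRing T]
    [Algebra R T] [IsAdicComplete (I.map (algebraMap R T)) T]
    (ψ : MvPolynomial (Fin n) R →ₐ[R] T) :
    ∃ Ψ : AdicRing.RPow R I n →ₐ[R] T, ∀ p, Ψ (ofP I n p) = ψ p := by
  obtain ⟨Ψ, hΨ⟩ := Helper19.exists_algHom_adicCompletion (R := R)
    (I.map (C : R →+* MvPolynomial (Fin n) R)) (I.map (algebraMap R T)) ψ (by
      rw [Ideal.map_le_iff_le_comap, Ideal.map_le_iff_le_comap]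
      intro r hr
      rw [Ideal.mem_comap, Ideal.mem_comap]
      have h1 : ψ.toRingHom (C r) = algebraMap R T r := by
        show ψ (C r) = _
        rw [show (C r : MvPolynomial (Fin n) R) = algebraMap R (MvPolynomial (Fin n) R) r from rfl,
          ψ.commutes]
      rw [h1]
      exact Ideal.mem_map_of_mem _ hr)
  exact ⟨Ψ, fun p => hΨ p⟩

theorem isAdicComplete_self_rpow {R : Type u} [CommRing R] (I : Ideal R) (hI : I.FG) (n : ℕ) :
    IsAdicComplete (I.map (algebraMap R (AdicRing.RPow R I n))) (AdicRing.RPow R I n) :=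
  (IsAdicComplete.map_algebraMap_iff (R := R) (S := AdicRing.RPow R I n) (I := I)
    (M := AdicRing.RPow R I n)).mpr (RPowCompl.isAdicComplete_rpow I hI n)

/-- two algebra maps from restricted power series into a Hausdorff algebra which agree on
polynomials are equal. -/
theorem algHom_ext_of_hausdorff {R : Type u} [CommRing R] (I : Ideal R) (hI : I.FG) (n : ℕ)
    (T : Type u) [CommRing T] [Algebra R T] [IsHausdorff (I.map (algebraMap R T)) T]
    (f g : AdicRing.RPow R I n →ₐ[R] T) (h : ∀ p, f (ofP I n p) = g (ofP I n p)) : f = g := by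
  have h1 := Helper28.adicCompletion_ringHom_ext
    (I.map (C : R →+* MvPolynomial (Fin n) R)) (hI.map _) (I.map (algebraMap R T))
    f.toRingHom g.toRingHom (by
      have hle : I.map (C : R →+* MvPolynomial (Fin n) R) ≤
          (I.map (algebraMap R T)).comap (f.toRingHom.comp (ofP I n).toRingHom) := by
        rw [Ideal.map_le_iff_le_comap]
        intro r hr
        rw [Ideal.mem_comap, Ideal.mem_comap]
        have h2 : (f.toRingHom.comp (ofP I n).toRingHom) (C r) = algebraMap R T r := by
          show f (ofP I n (C r)) = _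
          rw [show (C r : MvPolynomial (Fin n) R) = algebraMap R (MvPolynomial (Fin n) R) r from rfl,
            (ofP I n).commutes, f.commutes]
        rw [h2]
        exact Ideal.mem_map_of_mem _ hr
      intro i hi
      exact hle hi) (fun a => h a)
  exact AlgHom.ext (fun x => congrArg (fun φ : AdicRing.RPow R I n →+* T => φ x) h1)

/-- An algebra finite over an algebra topologically of finite type is topologically of finite
type. -/
theorem tft_of_finite (R : Type u) [CommRing R] (I : Ideal R) (hR : AdicRing.IsBase R I)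
    (A : Type u) [CommRing A] [Algebra R A] (hA : AdicRing.TopFiniteType R I A)
    (A' : Type u) [CommRing A'] [Algebra R A'] [Algebra A A'] [IsScalarTower R A A']
    [Module.Finite A A'] : AdicRing.TopFiniteType R I A' := by
  classical
  have hIfg := isBase_fg I hR
  have hc : IsAdicComplete I A' := Groth.Agent.S11529.result R I hR A hA A'
  haveI hc' : IsAdicComplete (I.map (algebraMap R A')) A' :=
    (IsAdicComplete.map_algebraMap_iff (R := R) (S := A') (I := I) (M := A')).mpr hc
  obtain ⟨n, φ, hφ⟩ := hA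
  obtain ⟨s, e, he⟩ := Module.Finite.exists_fin (R := A) (M := A')
  obtain ⟨ψ₀, hψ₀⟩ : ∃ ψ₀ : MvPolynomial (Fin (n + s)) R →ₐ[R] A',
      ψ₀ = MvPolynomial.aeval
        (Fin.append (fun i => algebraMap A A' (φ (ofP I n (X i)))) e) := ⟨_, rfl⟩
  obtain ⟨Ψ, hΨ⟩ := exists_lift I (n + s) A' ψ₀
  refine ⟨n + s, Ψ, ?_⟩
  haveI := isAdicComplete_self_rpow I hIfg (n + s)
  obtain ⟨ι, hι⟩ := exists_lift I n (AdicRing.RPow R I (n + s))
    ((ofP I (n + s)).comp (rename (Fin.castAdd s)))
  have hcomp : Ψ.comp ι = (IsScalarTower.toAlgHom R A A').comp φ := by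
    apply algHom_ext_of_hausdorff I hIfg n A'
    intro p
    have h1 : Ψ (ι (ofP I n p)) = ψ₀ (rename (Fin.castAdd s) p) := by
      rw [hι]
      exact hΨ _
    have h2 : ψ₀.comp (rename (Fin.castAdd s)) =
        ((IsScalarTower.toAlgHom R A A').comp φ).comp (ofP I n) := by
      apply MvPolynomial.algHom_ext
      intro i
      rw [hψ₀]
      simp [Fin.append_left]
    have h3 := congrArg (fun F : MvPolynomial (Fin n) R →ₐ[R] A' => F p) h2
    exact h1.trans h3
  have hcomp' : ∀ p, Ψ (ι p) = algebraMap A A' (φ p) := fun p =>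
    congrArg (fun F : AdicRing.RPow R I n →ₐ[R] A' => F p) hcomp
  have he' : ∀ j, e j = Ψ (ofP I (n + s) (X (Fin.natAdd n j))) := by
    intro j
    rw [hΨ, hψ₀]
    simp [Fin.append_right]
  let N : Submodule A A' :=
    { carrier := Set.range Ψ
      add_mem' := by
        rintro _ _ ⟨x, rfl⟩ ⟨y, rfl⟩
        exact ⟨x + y, map_add Ψ x y⟩
      zero_mem' := ⟨0, map_zero Ψ⟩
      smul_mem' := by
        rintro a _ ⟨y, rfl⟩
        obtain ⟨p, rfl⟩ := hφ a
        exact ⟨ι p * y, by rw [map_mul, hcomp', Algebra.smul_def]⟩ }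
  have hN : Submodule.span A (Set.range e) ≤ N := by
    rw [Submodule.span_le]
    rintro _ ⟨j, rfl⟩
    exact ⟨_, (he' j).symm⟩
  intro a'
  have h4 : a' ∈ Submodule.span A (Set.range e) := by
    rw [he]
    exact Submodule.mem_top
  exact hN h4

end Groth.Agent.Lib.T2H8.RPowFT
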