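import Mathlib
import Groth.Prelude.Def_W4bk4boschfrg79
import Groth.Agent.Lib.T2H8RPowFT
import Groth.Agent.Lib.T2H8RPowSat
import Groth.Agent.Lib.T2H8RPowUse
import Groth.Agent.Lib.Helper28ComplQuot
import Groth.Agent.S11527

/-!
# T2H8Trunc: topological finite presentation and truncations

`A` complete is topologically of finite presentation iff all truncations `A/I^(n+1)A` are of finite
presentation over `R/I^(n+1)`.
-/

set_option autoImplicit false
set_option linter.unusedSectionVars false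
universe u

namespace Groth.Agent.Lib.T2H8.Trunc

open MvPolynomial

section general

variable {R : Type u} [CommRing R] (I : Ideal R) (n : ℕ)

theorem mem_map_iff (k : ℕ) (x : AdicRing.RPow R I n) :
    x ∈ (I ^ k).map (algebraMap R (AdicRing.RPow R I n)) ↔
      x ∈ ((I.map (C : R →+* MvPolynomial (Fin n) R)) ^ k • ⊤ :
        Submodule (MvPolynomial (Fin n) R) (AdicRing.RPow R I n)) := by
  have h1 : (algebraMap (MvPolynomial (Fin n) R) (AdicRing.RPow R I n)).comp
      (C : R →+* MvPolynomial (Fin n) R) = algebraMap R (AdicRing.RPow R I n) := rfl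
  rw [Ideal.smul_top_eq_map, Submodule.restrictScalars_mem, ← Ideal.map_pow, Ideal.map_map, h1]

theorem exists_ofP_sub_mem (hI : I.FG) (k : ℕ) (x : AdicRing.RPow R I n) :
    ∃ p : MvPolynomial (Fin n) R,
      x - RPowFT.ofP I n p ∈ (I ^ k).map (algebraMap R (AdicRing.RPow R I n)) := by
  obtain ⟨p, hp⟩ := Helper28.exists_sub_of_mem_pow_smul_top
    (I.map (C : R →+* MvPolynomial (Fin n) R)) (hI.map _) k x
  exact ⟨p, (mem_map_iff I n k _).mpr hp⟩

theorem mem_of_ofP_mem (hI : I.FG) (k : ℕ) (p : MvPolynomial (Fin n) R)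
    (h : RPowFT.ofP I n p ∈ (I ^ k).map (algebraMap R (AdicRing.RPow R I n))) :
    p ∈ (I ^ k).map (C : R →+* MvPolynomial (Fin n) R) := by
  rw [mem_map_iff, AdicCompletion.pow_smul_top_eq_ker_eval (hI.map _), LinearMap.mem_ker] at h
  have h2 : AdicCompletion.eval (I.map (C : R →+* MvPolynomial (Fin n) R))
      (MvPolynomial (Fin n) R) k (AdicCompletion.of _ _ p) = 0 := h
  rw [AdicCompletion.eval_of, Submodule.mkQ_apply, Submodule.Quotient.mk_eq_zero,
    Ideal.smul_eq_mul, Ideal.mul_top, ← Ideal.map_pow] at h2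
  exact h2

theorem map_map_algHom {P A : Type*} [CommRing P] [CommRing A] [Algebra R P] [Algebra R A]
    (Φ : P →ₐ[R] A) (K : Ideal R) :
    (K.map (algebraMap R P)).map Φ.toRingHom = K.map (algebraMap R A) := by
  rw [Ideal.map_map]
  congr 1
  exact Φ.comp_algebraMap

theorem map_mem {A : Type*} [CommRing A] [Algebra R A] (Φ : AdicRing.RPow R I n →ₐ[R] A) (k : ℕ)
    (z : AdicRing.RPow R I n) (hz : z ∈ (I ^ k).map (algebraMap R (AdicRing.RPow R I n))) :
    Φ z ∈ (I ^ k).map (algebraMap R A) := by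
  rw [← map_map_algHom Φ (I ^ k)]
  exact Ideal.mem_map_of_mem _ hz

theorem comp_ofP_surjective (hI : I.FG) {A : Type*} [CommRing A] [Algebra R A]
    (Φ : AdicRing.RPow R I n →ₐ[R] A) (hΦ : Function.Surjective Φ) (k : ℕ) :
    Function.Surjective (((Ideal.Quotient.mkₐ R ((I ^ k).map (algebraMap R A))).comp Φ).comp
      (RPowFT.ofP I n)) := by
  intro y
  obtain ⟨a, rfl⟩ := Ideal.Quotient.mk_surjective y
  obtain ⟨x, rfl⟩ := hΦ a
  obtain ⟨p, hp⟩ := exists_ofP_sub_mem I n hI k x
  refine ⟨p, ?_⟩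
  show Ideal.Quotient.mk _ (Φ (RPowFT.ofP I n p)) = Ideal.Quotient.mk _ (Φ x)
  refine (Ideal.Quotient.eq.mpr ?_).symm
  rw [← map_sub]
  exact map_mem I n Φ k _ hp

end general

section forward

variable {R : Type u} [CommRing R] (I : Ideal R)

theorem fp_trunc (hI : I.FG) (A : Type u) [CommRing A] [Algebra R A]
    (hA : AdicRing.TopFinitePresentation R I A) (k : ℕ) :
    Algebra.FinitePresentation R (A ⧸ (I ^ k).map (algebraMap R A)) := by
  classical
  obtain ⟨n, Φ, hΦ, hker⟩ := hA
  obtain ⟨S, hS⟩ := hker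
  have hmap := map_map_algHom Φ (I ^ k)
  choose pfun hpfun using fun x : AdicRing.RPow R I n => exists_ofP_sub_mem I n hI k x
  obtain ⟨g₀, hg₀⟩ : ∃ g₀ : MvPolynomial (Fin n) R →ₐ[R] A ⧸ (I ^ k).map (algebraMap R A),
      g₀ = ((Ideal.Quotient.mkₐ R _).comp Φ).comp (RPowFT.ofP I n) := ⟨_, rfl⟩
  have hg₀apply : ∀ p, g₀ p = Ideal.Quotient.mk _ (Φ (RPowFT.ofP I n p)) := by
    intro p
    rw [hg₀]
    rfl
  have hsurj : Function.Surjective g₀ := by
    rw [hg₀]
    exact comp_ofP_surjective I n hI Φ hΦ k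
  have hkerEq : RingHom.ker g₀.toRingHom =
      Ideal.span ((S.image pfun : Finset _) : Set (MvPolynomial (Fin n) R)) ⊔
        (I ^ k).map (C : R →+* MvPolynomial (Fin n) R) := by
    apply le_antisymm
    · intro p hp
      have hp0 : g₀ p = 0 := hp
      rw [hg₀apply, Ideal.Quotient.eq_zero_iff_mem, ← hmap] at hp0
      obtain ⟨z, hz, hzp⟩ := (Ideal.mem_map_iff_of_surjective Φ.toRingHom hΦ).mp hp0
      have hy : RPowFT.ofP I n p - z ∈ Ideal.span (S : Set (AdicRing.RPow R I n)) := by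
        rw [hS]
        show Φ (RPowFT.ofP I n p - z) = 0
        rw [map_sub]
        exact sub_eq_zero.mpr hzp.symm
      have hclaim : ∀ y ∈ Ideal.span (S : Set (AdicRing.RPow R I n)),
          ∃ q ∈ Ideal.span ((S.image pfun : Finset _) : Set (MvPolynomial (Fin n) R)),
            y - RPowFT.ofP I n q ∈ (I ^ k).map (algebraMap R (AdicRing.RPow R I n)) := by
        intro y hy
        induction hy using Submodule.span_induction with
        | mem a ha =>
          exact ⟨pfun a, Ideal.subset_span (Finset.mem_coe.mpr (Finset.mem_image_of_mem _ ha)),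
            hpfun a⟩
        | zero =>
          exact ⟨0, Ideal.zero_mem _, by rw [map_zero, sub_zero]; exact Ideal.zero_mem _⟩
        | add y₁ y₂ _ _ ih₁ ih₂ =>
          obtain ⟨q₁, hq₁, h₁⟩ := ih₁
          obtain ⟨q₂, hq₂, h₂⟩ := ih₂
          refine ⟨q₁ + q₂, Ideal.add_mem _ hq₁ hq₂, ?_⟩
          have e : y₁ + y₂ - RPowFT.ofP I n (q₁ + q₂) =
              (y₁ - RPowFT.ofP I n q₁) + (y₂ - RPowFT.ofP I n q₂) := by
            rw [map_add]
            ring
          rw [e]
          exact Ideal.add_mem _ h₁ h₂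
        | smul c y _ ih =>
          obtain ⟨q, hq, h⟩ := ih
          refine ⟨pfun c * q, Ideal.mul_mem_left _ _ hq, ?_⟩
          have e : c • y - RPowFT.ofP I n (pfun c * q) =
              c * (y - RPowFT.ofP I n q) +
                (c - RPowFT.ofP I n (pfun c)) * RPowFT.ofP I n q := by
            rw [map_mul, smul_eq_mul]
            ring
          rw [e]
          exact Ideal.add_mem _ (Ideal.mul_mem_left _ _ h) (Ideal.mul_mem_right _ _ (hpfun c))
      obtain ⟨q, hq, hqy⟩ := hclaim _ hy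
      have h3 : RPowFT.ofP I n (p - q) ∈ (I ^ k).map (algebraMap R (AdicRing.RPow R I n)) := by
        have e : RPowFT.ofP I n (p - q) =
            z + ((RPowFT.ofP I n p - z) - RPowFT.ofP I n q) := by
          rw [map_sub]
          ring
        rw [e]
        exact Ideal.add_mem _ hz hqy
      have h4 := mem_of_ofP_mem I n hI k _ h3
      have e : p = q + (p - q) := by ring
      rw [e]
      exact Ideal.add_mem _ (Ideal.mem_sup_left hq) (Ideal.mem_sup_right h4)
    · apply sup_le
      · rw [Ideal.span_le]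
        intro p hp
        obtain ⟨a, ha, rfl⟩ := Finset.mem_image.mp (Finset.mem_coe.mp hp)
        show g₀ (pfun a) = 0
        rw [hg₀apply, Ideal.Quotient.eq_zero_iff_mem]
        have ha0 : Φ a = 0 := by
          have h1 : a ∈ RingHom.ker Φ.toRingHom := by
            rw [← hS]
            exact Ideal.subset_span ha
          exact h1
        have h1 := map_mem I n Φ k _ (hpfun a)
        rw [map_sub, ha0, zero_sub] at h1
        exact neg_mem_iff.mp h1
      · rw [Ideal.map_le_iff_le_comap]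
        intro r hr
        show g₀ (C r) = 0
        have e : (C r : MvPolynomial (Fin n) R) = algebraMap R _ r := rfl
        rw [e, g₀.commutes]
        show Ideal.Quotient.mk _ (algebraMap R A r) = 0
        exact Ideal.Quotient.eq_zero_iff_mem.mpr (Ideal.mem_map_of_mem _ hr)
  apply Algebra.FinitePresentation.of_surjective hsurj
  rw [hkerEq]
  exact Submodule.FG.sup ⟨_, rfl⟩ ((hI.pow).map _)

theorem quotientMap_comp_mk (A : Type u) [CommRing A] [Algebra R A] (k : ℕ) :
    (Ideal.quotientMap ((I ^ k).map (algebraMap R A)) (algebraMap R A) Ideal.le_comap_map).comp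
      (Ideal.Quotient.mk (I ^ k)) = algebraMap R (A ⧸ (I ^ k).map (algebraMap R A)) := by
  ext r
  rfl

theorem finitePresentation_quotientMap (hI : I.FG) (A : Type u) [CommRing A] [Algebra R A]
    (hA : AdicRing.TopFinitePresentation R I A) (k : ℕ) :
    (Ideal.quotientMap ((I ^ k).map (algebraMap R A)) (algebraMap R A)
      Ideal.le_comap_map).FinitePresentation := by
  haveI := fp_trunc I hI A hA k
  apply RingHom.FinitePresentation.of_comp_finiteType (Ideal.Quotient.mk (I ^ k))
  · rw [quotientMap_comp_mk]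
    exact RingHom.finitePresentation_algebraMap.mpr inferInstance
  · exact RingHom.FiniteType.of_surjective _ Ideal.Quotient.mk_surjective

theorem algebra_fp_of_quotientMap (hI : I.FG) (A : Type u) [CommRing A] [Algebra R A] (k : ℕ)
    (h : (Ideal.quotientMap ((I ^ k).map (algebraMap R A)) (algebraMap R A)
      Ideal.le_comap_map).FinitePresentation) :
    Algebra.FinitePresentation R (A ⧸ (I ^ k).map (algebraMap R A)) := by
  rw [← RingHom.finitePresentation_algebraMap, ← quotientMap_comp_mk]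
  exact h.comp (RingHom.FinitePresentation.of_surjective _ Ideal.Quotient.mk_surjective (by
    rw [Ideal.mk_ker]
    exact hI.pow))

end forward

section backward

variable {R : Type u} [CommRing R] (I : Ideal R)

theorem tft_of_finiteType (hI : I.FG) (A : Type u) [CommRing A] [Algebra R A]
    [IsAdicComplete (I.map (algebraMap R A)) A]
    (h : Algebra.FiniteType R (A ⧸ I.map (algebraMap R A))) : AdicRing.TopFiniteType R I A := by
  obtain ⟨n, f₀, hf₀⟩ := Algebra.FiniteType.iff_quotient_mvPolynomial''.mp h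
  choose a ha using fun i : Fin n => Ideal.Quotient.mk_surjective (f₀ (X i))
  obtain ⟨Φ, hΦ⟩ := RPowFT.exists_lift I n A (MvPolynomial.aeval a)
  refine ⟨n, Φ, ?_⟩
  haveI := RPowFT.isAdicComplete_self_rpow I hI n
  have hmap := map_map_algHom Φ I
  haveI : IsHausdorff ((I.map (algebraMap R (AdicRing.RPow R I n))).map Φ.toRingHom) A := by
    rw [hmap]
    infer_instance
  have hcomp : (Ideal.Quotient.mkₐ R (I.map (algebraMap R A))).comp (MvPolynomial.aeval a) =
      f₀ := by
    apply MvPolynomial.algHom_ext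
    intro i
    rw [AlgHom.comp_apply, MvPolynomial.aeval_X]
    exact ha i
  apply surjective_of_mk_map_comp_surjective
    (I := I.map (algebraMap R (AdicRing.RPow R I n))) (f := Φ.toRingHom)
  intro y
  obtain ⟨b, rfl⟩ := Ideal.Quotient.mk_surjective y
  obtain ⟨p, hp⟩ := hf₀ (Ideal.Quotient.mk _ b)
  refine ⟨RPowFT.ofP I n p, ?_⟩
  show Ideal.Quotient.mk _ (Φ (RPowFT.ofP I n p)) = Ideal.Quotient.mk _ b
  rw [hΦ]
  have h2 : Ideal.Quotient.mk (I.map (algebraMap R A)) (MvPolynomial.aeval a p) =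
      Ideal.Quotient.mk _ b := by
    rw [← hp, ← hcomp]
    rfl
  apply Ideal.Quotient.eq.mpr
  rw [hmap]
  exact Ideal.Quotient.eq.mp h2

theorem ker_fg_of_trunc_V {R : Type u} [CommRing R] [IsDomain R] [PreValuationRing R]
    [Ring.KrullDimLE 1 R] (t : R) (ht : t ≠ 0) (hc : IsAdicComplete (Ideal.span {t}) R)
    (A : Type u) [CommRing A] [Algebra R A]
    (n : ℕ) (Φ : AdicRing.RPow R (Ideal.span {t}) n →ₐ[R] A) (hΦ : Function.Surjective Φ)
    (h : ∀ k : ℕ, Algebra.FinitePresentation R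
      (A ⧸ ((Ideal.span {t}) ^ (k + 1)).map (algebraMap R A))) :
    (RingHom.ker Φ.toRingHom).FG := by
  classical
  have hR : AdicRing.IsBase R (Ideal.span {t}) :=
    ⟨hc, Or.inr ⟨inferInstance, inferInstance, inferInstance, t, ht, rfl⟩⟩
  have hI : (Ideal.span {t}).FG := ⟨{t}, by simp⟩
  have hPtft : AdicRing.TopFiniteType R (Ideal.span {t}) (AdicRing.RPow R (Ideal.span {t}) n) :=
    ⟨n, AlgHom.id R _, Function.surjective_id⟩
  obtain ⟨𝔞, h𝔞⟩ : ∃ 𝔞 : Ideal (AdicRing.RPow R (Ideal.span {t}) n),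
      𝔞 = RingHom.ker Φ.toRingHom := ⟨_, rfl⟩
  have hmem𝔞 : ∀ x, x ∈ 𝔞 ↔ Φ x = 0 := by
    intro x
    rw [h𝔞]
    exact Iff.rfl
  have hsatfg : (RPowSat.sat t 𝔞).FG :=
    Groth.Agent.S11527.result R (Ideal.span {t}) hR _ hPtft
      (AdicRing.RPow R (Ideal.span {t}) n) (RPowSat.sat t 𝔞) (RPowSat.sat_saturated t 𝔞)
  obtain ⟨n₀, hn₀⟩ := RPowSat.exists_pow_smul_mem_of_fg t 𝔞 hsatfg
  have hK : ∀ x ∈ RPowSat.sat t 𝔞, t ^ (n₀ + 1) • x ∈ 𝔞 := by
    intro x hx
    rw [pow_succ', mul_smul, Algebra.smul_def]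
    exact Ideal.mul_mem_left _ _ (hn₀ x hx)
  haveI := h n₀
  have hmap := map_map_algHom Φ ((Ideal.span {t}) ^ (n₀ + 1))
  choose pfun hpfun using fun x : AdicRing.RPow R (Ideal.span {t}) n =>
    exists_ofP_sub_mem (Ideal.span {t}) n hI (n₀ + 1) x
  obtain ⟨g₀, hg₀⟩ : ∃ g₀ : MvPolynomial (Fin n) R →ₐ[R]
      A ⧸ ((Ideal.span {t}) ^ (n₀ + 1)).map (algebraMap R A),
      g₀ = ((Ideal.Quotient.mkₐ R _).comp Φ).comp (RPowFT.ofP (Ideal.span {t}) n) := ⟨_, rfl⟩
  have hg₀apply : ∀ p, g₀ p = Ideal.Quotient.mk _ (Φ (RPowFT.ofP (Ideal.span {t}) n p)) := by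
    intro p
    rw [hg₀]
    rfl
  have hsurj : Function.Surjective g₀ := by
    rw [hg₀]
    exact comp_ofP_surjective (Ideal.span {t}) n hI Φ hΦ (n₀ + 1)
  obtain ⟨T, hT⟩ := Algebra.FinitePresentation.ker_fG_of_surjective g₀ hsurj
  have hex : ∀ p : MvPolynomial (Fin n) R, ∃ a : AdicRing.RPow R (Ideal.span {t}) n,
      g₀ p = 0 → a ∈ 𝔞 ∧ RPowFT.ofP (Ideal.span {t}) n p - a ∈
        ((Ideal.span {t}) ^ (n₀ + 1)).map (algebraMap R (AdicRing.RPow R (Ideal.span {t}) n)) := by
    intro p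
    by_cases hp : g₀ p = 0
    · have hp0 := hp
      rw [hg₀apply, Ideal.Quotient.eq_zero_iff_mem, ← hmap] at hp0
      obtain ⟨z, hz, hzp⟩ := (Ideal.mem_map_iff_of_surjective Φ.toRingHom hΦ).mp hp0
      refine ⟨RPowFT.ofP (Ideal.span {t}) n p - z, fun _ => ⟨?_, ?_⟩⟩
      · rw [hmem𝔞, map_sub]
        exact sub_eq_zero.mpr hzp.symm
      · rw [sub_sub_cancel]
        exact hz
    · exact ⟨0, fun h => absurd h hp⟩
  choose afun hafun using hex
  have hTker : ∀ p ∈ T, g₀ p = 0 := by
    intro p hp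
    have h1 : p ∈ RingHom.ker g₀.toRingHom := by
      rw [← hT]
      exact Ideal.subset_span hp
    exact h1
  have hclaim : ∀ p ∈ Ideal.span (T : Set (MvPolynomial (Fin n) R)),
      RPowFT.ofP (Ideal.span {t}) n p ∈
        Ideal.span ((T.image afun : Finset _) : Set (AdicRing.RPow R (Ideal.span {t}) n)) ⊔
        ((Ideal.span {t}) ^ (n₀ + 1)).map
          (algebraMap R (AdicRing.RPow R (Ideal.span {t}) n)) := by
    intro p hp
    induction hp using Submodule.span_induction with
    | mem p hp =>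
      have h1 := hafun p (hTker p hp)
      have e : RPowFT.ofP (Ideal.span {t}) n p =
          afun p + (RPowFT.ofP (Ideal.span {t}) n p - afun p) := by ring
      rw [e]
      exact Ideal.add_mem _
        (Ideal.mem_sup_left (Ideal.subset_span
          (Finset.mem_coe.mpr (Finset.mem_image_of_mem _ hp))))
        (Ideal.mem_sup_right h1.2)
    | zero =>
      rw [map_zero]
      exact Ideal.zero_mem _
    | add p₁ p₂ _ _ ih₁ ih₂ =>
      rw [map_add]
      exact Ideal.add_mem _ ih₁ ih₂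
    | smul c p _ ih =>
      rw [smul_eq_mul, map_mul]
      exact Ideal.mul_mem_left _ _ ih
  have hle : 𝔞 ≤ Ideal.span ((T.image afun : Finset _) :
        Set (AdicRing.RPow R (Ideal.span {t}) n)) ⊔
      ((Ideal.span {t}) ^ (n₀ + 1)).map
        (algebraMap R (AdicRing.RPow R (Ideal.span {t}) n)) := by
    intro x hx
    have hx0 : Φ x = 0 := (hmem𝔞 x).mp hx
    have hp0 : g₀ (pfun x) = 0 := by
      rw [hg₀apply, Ideal.Quotient.eq_zero_iff_mem]
      have h1 := map_mem (Ideal.span {t}) n Φ (n₀ + 1) _ (hpfun x)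
      rw [map_sub, hx0, zero_sub] at h1
      exact neg_mem_iff.mp h1
    have hp1 : pfun x ∈ Ideal.span (T : Set (MvPolynomial (Fin n) R)) := by
      rw [hT]
      exact hp0
    have e : x = RPowFT.ofP (Ideal.span {t}) n (pfun x) +
        (x - RPowFT.ofP (Ideal.span {t}) n (pfun x)) := by ring
    rw [e]
    exact Ideal.add_mem _ (hclaim _ hp1) (Ideal.mem_sup_right (hpfun x))
  have hspan𝔞 : Ideal.span ((T.image afun : Finset _) :
      Set (AdicRing.RPow R (Ideal.span {t}) n)) ≤ 𝔞 := by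
    rw [Ideal.span_le]
    intro a ha
    obtain ⟨p, hp, rfl⟩ := Finset.mem_image.mp (Finset.mem_coe.mp ha)
    exact (hafun p (hTker p hp)).1
  have hfinal : 𝔞 = Ideal.span ((T.image afun : Finset _) :
        Set (AdicRing.RPow R (Ideal.span {t}) n)) ⊔
      Ideal.span {algebraMap R (AdicRing.RPow R (Ideal.span {t}) n) (t ^ (n₀ + 1))} *
        RPowSat.sat t 𝔞 := by
    apply le_antisymm
    · intro x hx
      obtain ⟨s, hs, w, hw, hsw⟩ := Submodule.mem_sup.mp (hle hx)
      have hw𝔞 : w ∈ 𝔞 := by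
        have e : w = x - s := by rw [← hsw]; ring
        rw [e]
        exact Ideal.sub_mem _ hx (hspan𝔞 hs)
      have e1 : ((Ideal.span {t}) ^ (n₀ + 1)).map
          (algebraMap R (AdicRing.RPow R (Ideal.span {t}) n)) =
          Ideal.span {algebraMap R (AdicRing.RPow R (Ideal.span {t}) n) (t ^ (n₀ + 1))} := by
        have e2 : (Ideal.span {t}) ^ (n₀ + 1) = Ideal.span {t ^ (n₀ + 1)} :=
          Ideal.span_singleton_pow t (n₀ + 1)
        rw [e2]
        exact (Ideal.map_span _ _).trans (congrArg Ideal.span Set.image_singleton)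
      rw [e1] at hw
      obtain ⟨y, hy⟩ := Ideal.mem_span_singleton'.mp hw
      have hwy : w = t ^ (n₀ + 1) • y := by
        rw [Algebra.smul_def, ← hy, mul_comm]
      have hysat : y ∈ RPowSat.sat t 𝔞 := ⟨n₀ + 1, by rw [← hwy]; exact hw𝔞⟩
      rw [← hsw]
      refine Ideal.add_mem _ (Ideal.mem_sup_left hs) (Ideal.mem_sup_right ?_)
      rw [← hy, mul_comm y]
      exact Ideal.mul_mem_mul (Ideal.mem_span_singleton_self _) hysat
    · apply sup_le hspan𝔞
      rw [Ideal.mul_le]
      intro r hr s hs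
      obtain ⟨d, rfl⟩ := Ideal.mem_span_singleton'.mp hr
      have h1 := hK s hs
      rw [Algebra.smul_def] at h1
      rw [mul_assoc]
      exact Ideal.mul_mem_left _ _ h1
  rw [← h𝔞, hfinal]
  exact Submodule.FG.sup ⟨_, rfl⟩
    (Ideal.FG.mul ⟨{algebraMap R _ (t ^ (n₀ + 1))}, by simp⟩ hsatfg)

theorem tfp_of_trunc (hR : AdicRing.IsBase R I) (A : Type u) [CommRing A] [Algebra R A]
    [IsAdicComplete (I.map (algebraMap R A)) A]
    (h : ∀ n : ℕ, (Ideal.quotientMap ((I ^ (n + 1)).map (algebraMap R A)) (algebraMap R A)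
      Ideal.le_comap_map).FinitePresentation) :
    AdicRing.TopFinitePresentation R I A := by
  have hI := RPowFT.isBase_fg I hR
  have hfp : ∀ k, Algebra.FinitePresentation R (A ⧸ (I ^ (k + 1)).map (algebraMap R A)) :=
    fun k => algebra_fp_of_quotientMap I hI A (k + 1) (h k)
  have hft : Algebra.FiniteType R (A ⧸ I.map (algebraMap R A)) := by
    have h0 := hfp 0
    have e : I ^ (0 + 1) = I := by rw [zero_add, pow_one]
    rw [e] at h0
    exact Algebra.FiniteType.of_finitePresentation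
  obtain ⟨n, Φ, hΦ⟩ := tft_of_finiteType I hI A hft
  refine ⟨n, Φ, hΦ, ?_⟩
  obtain ⟨hc, hN | ⟨hdom, hval, hdim, t, ht, rfl⟩⟩ := hR
  · haveI := hN.1
    haveI := RPowUse.isNoetherianRing_rpow I n
    exact IsNoetherian.noetherian _
  · haveI := hdom
    haveI := hval
    haveI := hdim
    exact ker_fg_of_trunc_V t ht hc A n Φ hΦ hfp

end backward

end Groth.Agent.Lib.T2H8.Trunc
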