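import Mathlib
import Groth.Prelude.Def_W4bk4boschfrg79
import Groth.Agent.Lib.T2H8Trunc

/-!
# T2H8CLoc: complete localizations and truncations

For an `R`-algebra `A`, `f : A` and the complete localization `C = A⟨f⁻¹⟩`, the truncation
`C / I^k C` is the localization of `A / I^k A` at `f`.  Consequences: topological finite type /
presentation is local for complete localizations.
-/

set_option autoImplicit false
set_option linter.unusedSectionVars false
universe u

namespace Groth.Agent.Lib.T2H8.CLoc

section hat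

variable {R : Type u} [CommRing R] (I : Ideal R) (B : Type u) [CommRing B] [Algebra R B]

/-- the `I`-adic completion of an `R`-algebra -/
abbrev Hat : Type u := AdicCompletion (I.map (algebraMap R B)) B

theorem hat_mem_map_iff (k : ℕ) (x : Hat I B) :
    x ∈ (I ^ k).map (algebraMap R (Hat I B)) ↔
      x ∈ ((I.map (algebraMap R B)) ^ k • ⊤ : Submodule B (Hat I B)) := by
  have h1 : (algebraMap B (Hat I B)).comp (algebraMap R B) = algebraMap R (Hat I B) :=
    (IsScalarTower.algebraMap_eq R B (Hat I B)).symm
  rw [Ideal.smul_top_eq_map, Submodule.restrictScalars_mem, ← Ideal.map_pow, Ideal.map_map, h1]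

theorem hat_exists_of_sub_mem (hI : I.FG) (k : ℕ) (x : Hat I B) :
    ∃ b : B, x - AdicCompletion.of (I.map (algebraMap R B)) B b ∈
      (I ^ k).map (algebraMap R (Hat I B)) := by
  obtain ⟨b, hb⟩ := Helper28.exists_sub_of_mem_pow_smul_top (I.map (algebraMap R B))
    (hI.map _) k x
  exact ⟨b, (hat_mem_map_iff I B k _).mpr hb⟩

theorem hat_mem_of_of_mem (hI : I.FG) (k : ℕ) (b : B)
    (h : AdicCompletion.of (I.map (algebraMap R B)) B b ∈
      (I ^ k).map (algebraMap R (Hat I B))) :
    b ∈ (I ^ k).map (algebraMap R B) := by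
  rw [hat_mem_map_iff, AdicCompletion.pow_smul_top_eq_ker_eval (hI.map _), LinearMap.mem_ker,
    AdicCompletion.eval_of, Submodule.mkQ_apply, Submodule.Quotient.mk_eq_zero,
    Ideal.smul_eq_mul, Ideal.mul_top, ← Ideal.map_pow] at h
  exact h

theorem hat_isAdicComplete (hI : I.FG) :
    IsAdicComplete (I.map (algebraMap R (Hat I B))) (Hat I B) := by
  have h := AdicCompletion.isAdicComplete (I := I.map (algebraMap R B)) (M := B) (hI.map _)
  have h2 : IsAdicComplete I (Hat I B) :=
    (IsAdicComplete.map_algebraMap_iff (R := R) (S := B) (I := I) (M := Hat I B)).mp h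
  exact (IsAdicComplete.map_algebraMap_iff (R := R) (S := Hat I B) (I := I)
    (M := Hat I B)).mpr h2

end hat

section cloc

variable {R : Type u} [CommRing R] (I : Ideal R) (A : Type u) [CommRing A] [Algebra R A] (f : A)

/-- the canonical map `A → A⟨f⁻¹⟩` -/
noncomputable def kap0 : A →ₐ[R] AdicRing.CLoc I f :=
  (IsScalarTower.toAlgHom R (Localization.Away f) (AdicRing.CLoc I f)).comp
    (IsScalarTower.toAlgHom R A (Localization.Away f))

theorem kap0_apply (a : A) : kap0 I A f a =
    algebraMap (Localization.Away f) (AdicRing.CLoc I f) (algebraMap A (Localization.Away f) a) :=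
  rfl

theorem algebraMap_eq_of (b : Localization.Away f) :
    algebraMap (Localization.Away f) (AdicRing.CLoc I f) b =
      AdicCompletion.of (I.map (algebraMap R (Localization.Away f))) (Localization.Away f) b :=
  rfl

theorem isUnit_kap0 : IsUnit (kap0 I A f f) := by
  rw [kap0_apply]
  exact (IsLocalization.Away.algebraMap_isUnit (S := Localization.Away f) f).map
    (algebraMap (Localization.Away f) (AdicRing.CLoc I f))

variable (k : ℕ)

theorem le_comap_kap0 : (I ^ k).map (algebraMap R A) ≤
    ((I ^ k).map (algebraMap R (AdicRing.CLoc I f))).comap (kap0 I A f) := by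
  rw [Ideal.map_le_iff_le_comap]
  intro r hr
  rw [Ideal.mem_comap, Ideal.mem_comap, AlgHom.commutes]
  exact Ideal.mem_map_of_mem _ hr

/-- the map on truncations -/
noncomputable def gmap : (A ⧸ (I ^ k).map (algebraMap R A)) →ₐ[R]
    (AdicRing.CLoc I f ⧸ (I ^ k).map (algebraMap R (AdicRing.CLoc I f))) :=
  Ideal.quotientMapₐ _ (kap0 I A f) (le_comap_kap0 I A f k)

theorem gmap_mk (a : A) : gmap I A f k (Ideal.Quotient.mk _ a) =
    Ideal.Quotient.mk _ (kap0 I A f a) := rfl

theorem isUnit_gmap (y : Submonoid.powers (Ideal.Quotient.mk ((I ^ k).map (algebraMap R A)) f)) :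
    IsUnit (gmap I A f k y) := by
  obtain ⟨m, hm⟩ := (Submonoid.mem_powers_iff _ _).mp y.2
  rw [← hm, map_pow]
  apply IsUnit.pow
  rw [gmap_mk]
  exact (isUnit_kap0 I A f).map (Ideal.Quotient.mk _)

/-- the comparison map from the localized truncation to the truncation of the complete
localization -/
noncomputable def alpha :
    Localization.Away (Ideal.Quotient.mk ((I ^ k).map (algebraMap R A)) f) →ₐ[R]
    (AdicRing.CLoc I f ⧸ (I ^ k).map (algebraMap R (AdicRing.CLoc I f))) :=
  IsLocalization.liftAlgHom
    (M := Submonoid.powers (Ideal.Quotient.mk ((I ^ k).map (algebraMap R A)) f))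
    (f := gmap I A f k) (isUnit_gmap I A f k)

theorem alpha_mk'_eq_iff (x : A ⧸ (I ^ k).map (algebraMap R A))
    (y : Submonoid.powers (Ideal.Quotient.mk ((I ^ k).map (algebraMap R A)) f))
    (v : AdicRing.CLoc I f ⧸ (I ^ k).map (algebraMap R (AdicRing.CLoc I f))) :
    alpha I A f k (IsLocalization.mk' _ x y) = v ↔ gmap I A f k x = gmap I A f k y * v := by
  unfold alpha
  rw [IsLocalization.liftAlgHom_apply]
  exact IsLocalization.lift_mk'_spec _ _ _ _

theorem alpha_injective (hI : I.FG) : Function.Injective (alpha I A f k) := by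
  rw [injective_iff_map_eq_zero]
  intro x hx
  obtain ⟨abar, s, rfl⟩ := IsLocalization.exists_mk'_eq
    (Submonoid.powers (Ideal.Quotient.mk ((I ^ k).map (algebraMap R A)) f)) x
  obtain ⟨a, rfl⟩ := Ideal.Quotient.mk_surjective abar
  rw [alpha_mk'_eq_iff, mul_zero, gmap_mk, Ideal.Quotient.eq_zero_iff_mem, kap0_apply,
    algebraMap_eq_of] at hx
  have h1 := hat_mem_of_of_mem I (Localization.Away f) hI k _ hx
  have h2 : (I ^ k).map (algebraMap R (Localization.Away f)) =
      ((I ^ k).map (algebraMap R A)).map (algebraMap A (Localization.Away f)) := by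
    rw [Ideal.map_map, ← IsScalarTower.algebraMap_eq]
  rw [h2, IsLocalization.mem_map_algebraMap_iff (Submonoid.powers f)] at h1
  obtain ⟨⟨j, s'⟩, hjs⟩ := h1
  rw [← map_mul, IsLocalization.eq_iff_exists (Submonoid.powers f)] at hjs
  obtain ⟨c, hc⟩ := hjs
  rw [IsLocalization.mk'_eq_zero_iff]
  obtain ⟨N, hN⟩ := (Submonoid.mem_powers_iff _ _).mp (c * s').2
  refine ⟨⟨Ideal.Quotient.mk _ (f ^ N),
    (Submonoid.mem_powers_iff _ _).mpr ⟨N, (map_pow _ f N).symm⟩⟩, ?_⟩
  show Ideal.Quotient.mk _ (f ^ N) * Ideal.Quotient.mk _ a = 0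
  rw [← map_mul, Ideal.Quotient.eq_zero_iff_mem, hN]
  have e : ((c * s' : Submonoid.powers f) : A) * a = c * j := by
    rw [Submonoid.coe_mul, mul_assoc, mul_comm (s' : A) a]
    exact hc
  rw [e]
  exact Ideal.mul_mem_left _ _ j.2

theorem alpha_surjective (hI : I.FG) : Function.Surjective (alpha I A f k) := by
  intro y
  obtain ⟨c, rfl⟩ := Ideal.Quotient.mk_surjective y
  obtain ⟨b, hb⟩ := hat_exists_of_sub_mem I (Localization.Away f) hI k c
  obtain ⟨a, s, rfl⟩ := IsLocalization.exists_mk'_eq (Submonoid.powers f) b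
  obtain ⟨m, hm⟩ := (Submonoid.mem_powers_iff _ _).mp s.2
  refine ⟨IsLocalization.mk' _ (Ideal.Quotient.mk _ a)
    (⟨Ideal.Quotient.mk _ (f ^ m), (Submonoid.mem_powers_iff _ _).mpr
      ⟨m, (map_pow _ f m).symm⟩⟩ :
      Submonoid.powers (Ideal.Quotient.mk ((I ^ k).map (algebraMap R A)) f)), ?_⟩
  rw [alpha_mk'_eq_iff, gmap_mk]
  show _ = gmap I A f k (Ideal.Quotient.mk _ (f ^ m)) * _
  rw [gmap_mk, ← map_mul]
  apply Ideal.Quotient.eq.mpr
  have e : kap0 I A f a = kap0 I A f (f ^ m) *
      algebraMap (Localization.Away f) (AdicRing.CLoc I f)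
        (IsLocalization.mk' (Localization.Away f) a s) := by
    rw [kap0_apply, kap0_apply, ← map_mul, hm, IsLocalization.mk'_spec']
  have e2 : kap0 I A f a - kap0 I A f (f ^ m) * c =
      - (kap0 I A f (f ^ m) * (c - AdicCompletion.of _ _
        (IsLocalization.mk' (Localization.Away f) a s))) := by
    rw [e, algebraMap_eq_of]
    ring
  rw [e2]
  exact neg_mem (Ideal.mul_mem_left _ _ hb)

theorem exists_truncEquiv (hI : I.FG) :
    Nonempty (Localization.Away (Ideal.Quotient.mk ((I ^ k).map (algebraMap R A)) f) ≃ₐ[R]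
      (AdicRing.CLoc I f ⧸ (I ^ k).map (algebraMap R (AdicRing.CLoc I f)))) :=
  ⟨AlgEquiv.ofBijective (alpha I A f k) ⟨alpha_injective I A f k hI, alpha_surjective I A f k hI⟩⟩

end cloc

section local_global

variable {R : Type u} [CommRing R]

theorem finiteType_of_away (A' : Type u) [CommRing A'] [Algebra R A'] (r : ℕ) (f : Fin r → A')
    (hf : Ideal.span (Set.range f) = ⊤)
    (h : ∀ i, Algebra.FiniteType R (Localization.Away (f i))) : Algebra.FiniteType R A' := by
  rw [← RingHom.finiteType_algebraMap]
  apply RingHom.finiteType_ofLocalizationSpanTarget (algebraMap R A') (Set.range f) hf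
  rintro ⟨_, i, rfl⟩
  have h1 := h i
  rw [← RingHom.finiteType_algebraMap] at h1
  rw [← IsScalarTower.algebraMap_eq]
  exact h1

theorem finitePresentation_of_away (A' : Type u) [CommRing A'] [Algebra R A'] (r : ℕ)
    (f : Fin r → A') (hf : Ideal.span (Set.range f) = ⊤)
    (h : ∀ i, Algebra.FinitePresentation R (Localization.Away (f i))) :
    Algebra.FinitePresentation R A' := by
  rw [← RingHom.finitePresentation_algebraMap]
  apply RingHom.finitePresentation_ofLocalizationSpanTarget (algebraMap R A') (Set.range f) hf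
  rintro ⟨_, i, rfl⟩
  have h1 := h i
  rw [← RingHom.finitePresentation_algebraMap] at h1
  rw [← IsScalarTower.algebraMap_eq]
  exact h1

theorem span_range_mk {A : Type u} [CommRing A] (J : Ideal A) (r : ℕ) (f : Fin r → A)
    (hf : Ideal.span (Set.range f) = ⊤) :
    Ideal.span (Set.range (fun i => Ideal.Quotient.mk J (f i))) = ⊤ := by
  have h1 : Set.range (fun i => Ideal.Quotient.mk J (f i)) =
      (Ideal.Quotient.mk J) '' (Set.range f) := by
    rw [← Set.range_comp]
    rfl
  rw [h1, ← Ideal.map_span, hf, Ideal.map_top]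

end local_global

section main

variable {R : Type u} [CommRing R] (I : Ideal R)

theorem finiteType_trunc (hI : I.FG) (A : Type u) [CommRing A] [Algebra R A]
    (hA : AdicRing.TopFiniteType R I A) (k : ℕ) :
    Algebra.FiniteType R (A ⧸ (I ^ k).map (algebraMap R A)) := by
  obtain ⟨n, Φ, hΦ⟩ := hA
  exact Algebra.FiniteType.of_surjective _ (Trunc.comp_ofP_surjective I n hI Φ hΦ k)

theorem tft_of_finiteType_one (hI : I.FG) (A : Type u) [CommRing A] [Algebra R A]
    [IsAdicComplete (I.map (algebraMap R A)) A]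
    (h : Algebra.FiniteType R (A ⧸ (I ^ 1).map (algebraMap R A))) :
    AdicRing.TopFiniteType R I A := by
  have e : I ^ 1 = I := pow_one I
  rw [e] at h
  exact Trunc.tft_of_finiteType I hI A h

theorem quotientMap_fp_of_algebra_fp (A : Type u) [CommRing A] [Algebra R A] (k : ℕ)
    (h : Algebra.FinitePresentation R (A ⧸ (I ^ k).map (algebraMap R A))) :
    (Ideal.quotientMap ((I ^ k).map (algebraMap R A)) (algebraMap R A)
      Ideal.le_comap_map).FinitePresentation := by
  apply RingHom.FinitePresentation.of_comp_finiteType (Ideal.Quotient.mk (I ^ k))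
  · rw [Trunc.quotientMap_comp_mk]
    exact RingHom.finitePresentation_algebraMap.mpr h
  · exact RingHom.FiniteType.of_surjective _ Ideal.Quotient.mk_surjective

variable (hR : AdicRing.IsBase R I) (A : Type u) [CommRing A] [Algebra R A]
  [IsAdicComplete (I.map (algebraMap R A)) A] (r : ℕ) (f : Fin r → A)
  (hf : Ideal.span (Set.range f) = ⊤)

include hR hf in
theorem tft_cloc_iff :
    AdicRing.TopFiniteType R I A ↔ ∀ i, AdicRing.TopFiniteType R I (AdicRing.CLoc I (f i)) := by
  have hI := RPowFT.isBase_fg I hR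
  constructor
  · intro hA i
    haveI := hat_isAdicComplete I (Localization.Away (f i)) hI
    have h1 := finiteType_trunc I hI A hA 1
    have h2 : Algebra.FiniteType R
        (Localization.Away (Ideal.Quotient.mk ((I ^ 1).map (algebraMap R A)) (f i))) :=
      Algebra.FiniteType.trans h1
        (@Algebra.FiniteType.of_finitePresentation _ _ _ _ _
          (IsLocalization.Away.finitePresentation
            (Ideal.Quotient.mk ((I ^ 1).map (algebraMap R A)) (f i))))
    obtain ⟨e⟩ := exists_truncEquiv I A (f i) 1 hI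
    exact tft_of_finiteType_one I hI _ (h2.equiv e)
  · intro h
    apply tft_of_finiteType_one I hI A
    apply finiteType_of_away _ r (fun i => Ideal.Quotient.mk _ (f i)) (span_range_mk _ r f hf)
    intro i
    obtain ⟨e⟩ := exists_truncEquiv I A (f i) 1 hI
    exact (finiteType_trunc I hI _ (h i) 1).equiv e.symm

include hR hf in
theorem tfp_cloc_iff :
    AdicRing.TopFinitePresentation R I A ↔
      ∀ i, AdicRing.TopFinitePresentation R I (AdicRing.CLoc I (f i)) := by
  have hI := RPowFT.isBase_fg I hR
  constructor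
  · intro hA i
    haveI := hat_isAdicComplete I (Localization.Away (f i)) hI
    apply Trunc.tfp_of_trunc I hR
    intro n
    apply quotientMap_fp_of_algebra_fp
    haveI := Trunc.fp_trunc I hI A hA (n + 1)
    haveI : Algebra.FinitePresentation (A ⧸ (I ^ (n + 1)).map (algebraMap R A))
        (Localization.Away (Ideal.Quotient.mk ((I ^ (n + 1)).map (algebraMap R A)) (f i))) :=
      IsLocalization.Away.finitePresentation
        (Ideal.Quotient.mk ((I ^ (n + 1)).map (algebraMap R A)) (f i))
    haveI : Algebra.FinitePresentation R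
        (Localization.Away (Ideal.Quotient.mk ((I ^ (n + 1)).map (algebraMap R A)) (f i))) :=
      Algebra.FinitePresentation.trans R (A ⧸ (I ^ (n + 1)).map (algebraMap R A)) _
    obtain ⟨e⟩ := exists_truncEquiv I A (f i) (n + 1) hI
    exact Algebra.FinitePresentation.equiv e
  · intro h
    apply Trunc.tfp_of_trunc I hR
    intro n
    apply quotientMap_fp_of_algebra_fp
    apply finitePresentation_of_away _ r (fun i => Ideal.Quotient.mk _ (f i))
      (span_range_mk _ r f hf)
    intro i
    obtain ⟨e⟩ := exists_truncEquiv I A (f i) (n + 1) hI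
    haveI := Trunc.fp_trunc I hI _ (h i) (n + 1)
    exact Algebra.FinitePresentation.equiv e.symm

end main

end Groth.Agent.Lib.T2H8.CLoc
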