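import Mathlib
import Groth.Prelude.Def_W4bk4boschfrg79
import Groth.Agent.Lib.T2H8CLoc

/-!
# T2H8CLocTor: `I`-torsion and complete localizations; admissibility is local
-/

set_option autoImplicit false
set_option linter.unusedSectionVars false
universe u

namespace Groth.Agent.Lib.T2H8.CLocTor

open CLoc

section gen

variable {R : Type u} [CommRing R]

theorem smul_eq_zero_of_span {M : Type*} [AddCommGroup M] [Module R M] (S : Set R) (x : M)
    (h : ∀ g ∈ S, g • x = 0) : ∀ a ∈ Ideal.span S, a • x = 0 := by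
  intro a ha
  induction ha using Submodule.span_induction with
  | mem g hg => exact h g hg
  | zero => exact zero_smul _ _
  | add a b _ _ iha ihb => rw [add_smul, iha, ihb, add_zero]
  | smul c a _ ih => rw [smul_eq_mul, mul_smul, ih, smul_zero]

variable (I : Ideal R)

theorem noPowTorsion_away (A : Type u) [CommRing A] [Algebra R A] (f : A) (hI : I.FG)
    (h : AdicRing.NoPowTorsion I A) :
    AdicRing.NoPowTorsion I (Localization.Away f) := by
  classical
  intro b k hb
  obtain ⟨a₀, s, rfl⟩ := IsLocalization.exists_mk'_eq (Submonoid.powers f) b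
  obtain ⟨S, hS⟩ := hI.pow (n := k)
  have h1 : ∀ g ∈ S, ∃ N : ℕ, f ^ N * (g • a₀) = 0 := by
    intro g hg
    have hgI : g ∈ I ^ k := by
      rw [← hS]
      exact Ideal.subset_span hg
    have h2 := hb g hgI
    rw [Algebra.smul_def, IsScalarTower.algebraMap_apply R A (Localization.Away f),
      IsLocalization.mul_mk'_eq_mk'_of_mul, IsLocalization.mk'_eq_zero_iff] at h2
    obtain ⟨m, hm⟩ := h2
    obtain ⟨N, hN⟩ := (Submonoid.mem_powers_iff _ _).mp m.2
    refine ⟨N, ?_⟩
    rw [Algebra.smul_def, hN]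
    exact hm
  choose! Nf hNf using h1
  have h3 : ∀ g ∈ S, g • (f ^ (S.sup Nf) * a₀) = 0 := by
    intro g hg
    obtain ⟨d, hd⟩ := Nat.exists_eq_add_of_le (Finset.le_sup hg : Nf g ≤ S.sup Nf)
    rw [hd, pow_add, mul_comm (f ^ Nf g), mul_assoc, ← mul_smul_comm, ← mul_smul_comm,
      hNf g hg, mul_zero]
  have h4 : f ^ (S.sup Nf) * a₀ = 0 := by
    apply h _ k
    rw [← hS]
    exact smul_eq_zero_of_span (S : Set R) _ h3
  rw [IsLocalization.mk'_eq_zero_iff]
  exact ⟨⟨f ^ (S.sup Nf), (Submonoid.mem_powers_iff _ _).mpr ⟨_, rfl⟩⟩, h4⟩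

theorem noPowTorsion_hat_principal (t : R) (B : Type u) [CommRing B] [Algebra R B]
    (h : AdicRing.NoPowTorsion (Ideal.span {t}) B) :
    AdicRing.NoPowTorsion (Ideal.span {t}) (Hat (Ideal.span {t}) B) := by
  intro x k hx
  have hxk : t ^ k • x = 0 := hx _ (Ideal.pow_mem_pow (Ideal.mem_span_singleton_self t) k)
  have hIB : ∀ j : ℕ, ((Ideal.span {t}).map (algebraMap R B)) ^ j • (⊤ : Submodule B B) =
      Ideal.span {(algebraMap R B t) ^ j} := by
    intro j
    rw [Ideal.smul_eq_mul, Ideal.mul_top, Ideal.map_span, Set.image_singleton,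
      Ideal.span_singleton_pow]
  apply AdicCompletion.ext
  intro m
  obtain ⟨b, hb⟩ := Submodule.Quotient.mk_surjective _ (x.val (m + k))
  have h1 : (t ^ k • x).val (m + k) = 0 := by
    rw [hxk]
    rfl
  rw [AdicCompletion.val_smul_apply, ← hb, ← Submodule.Quotient.mk_smul,
    Submodule.Quotient.mk_eq_zero, hIB, Ideal.mem_span_singleton'] at h1
  obtain ⟨b', hb'⟩ := h1
  have h2 : t ^ k • (b - (algebraMap R B t) ^ m * b') = 0 := by
    rw [smul_sub, ← hb', Algebra.smul_def, map_pow, pow_add]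
    ring
  have h3 := RPowUse.smul_pow_eq_zero_of_noPowTorsion t B h _ k h2
  have hbm : b ∈ ((Ideal.span {t}).map (algebraMap R B)) ^ m • (⊤ : Submodule B B) := by
    rw [hIB, Ideal.mem_span_singleton']
    exact ⟨b', by rw [mul_comm]; exact (sub_eq_zero.mp h3).symm⟩
  rw [← AdicCompletion.transitionMap_comp_eval_apply _ _ (Nat.le_add_right m k) x, ← hb,
    AdicCompletion.val_zero_apply]
  exact (Submodule.Quotient.mk_eq_zero _).mpr hbm

theorem noPowTorsion_hat_noeth (hI : I.FG) (B : Type u) [CommRing B] [Algebra R B]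
    [IsNoetherianRing B] (h : AdicRing.NoPowTorsion I B) :
    AdicRing.NoPowTorsion I (Hat I B) := by
  classical
  intro x k hx
  obtain ⟨S, hS⟩ := hI.pow (n := k)
  haveI : Module.Flat B (Hat I B) := AdicCompletion.flat_of_isNoetherian _
  obtain ⟨u, hu0⟩ : ∃ u : B →ₗ[B] (S → B), ∀ b g, u b g = algebraMap R B g.1 * b :=
    ⟨LinearMap.pi (fun g => (algebraMap R B g.1) • LinearMap.id), fun b g => rfl⟩
  have hu : Function.Injective u := by
    rw [injective_iff_map_eq_zero]
    intro b hb
    apply h b k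
    rw [← hS]
    apply smul_eq_zero_of_span
    intro g hg
    have h1 := congrFun hb ⟨g, hg⟩
    rw [hu0] at h1
    rw [Algebra.smul_def]
    exact h1
  have hinj := Module.Flat.lTensor_preserves_injective_linearMap (M := Hat I B) u hu
  have h1 : (u.lTensor (Hat I B)) (x ⊗ₜ[B] (1 : B)) = 0 := by
    rw [LinearMap.lTensor_tmul]
    apply (TensorProduct.piScalarRight B B (Hat I B) S).injective
    rw [map_zero, TensorProduct.piScalarRight_apply, TensorProduct.piScalarRightHom_tmul]
    funext g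
    show (u 1 g) • x = 0
    rw [hu0, mul_one, algebraMap_smul]
    exact hx _ (by rw [← hS]; exact Ideal.subset_span g.2)
  have h2 : x ⊗ₜ[B] (1 : B) = 0 := hinj (h1.trans (map_zero _).symm)
  have h3 := congrArg (TensorProduct.rid B (Hat I B)) h2
  rwa [TensorProduct.rid_tmul, one_smul, map_zero] at h3

end gen

section cloc

variable {R : Type u} [CommRing R] (I : Ideal R) (A : Type u) [CommRing A] [Algebra R A]

theorem exists_pow_mul_mem (f : A) (hI : I.FG) (a : A) (k : ℕ)
    (h : kap0 I A f a ∈ (I ^ k).map (algebraMap R (AdicRing.CLoc I f))) :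
    ∃ N : ℕ, f ^ N * a ∈ (I ^ k).map (algebraMap R A) := by
  rw [kap0_apply, algebraMap_eq_of] at h
  have h1 := hat_mem_of_of_mem I (Localization.Away f) hI k _ h
  have h2 : (I ^ k).map (algebraMap R (Localization.Away f)) =
      ((I ^ k).map (algebraMap R A)).map (algebraMap A (Localization.Away f)) := by
    rw [Ideal.map_map, ← IsScalarTower.algebraMap_eq]
  rw [h2, IsLocalization.mem_map_algebraMap_iff (Submonoid.powers f)] at h1
  obtain ⟨⟨j, s'⟩, hjs⟩ := h1
  rw [← map_mul, IsLocalization.eq_iff_exists (Submonoid.powers f)] at hjs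
  obtain ⟨c, hc⟩ := hjs
  obtain ⟨N, hN⟩ := (Submonoid.mem_powers_iff _ _).mp (c * s').2
  refine ⟨N, ?_⟩
  rw [hN]
  have e : ((c * s' : Submonoid.powers f) : A) * a = c * j := by
    rw [Submonoid.coe_mul, mul_assoc, mul_comm (s' : A) a]
    exact hc
  rw [e]
  exact Ideal.mul_mem_left _ _ j.2

theorem noPowTorsion_of_cloc (hI : I.FG) [IsHausdorff (I.map (algebraMap R A)) A] (r : ℕ)
    (f : Fin r → A) (hf : Ideal.span (Set.range f) = ⊤)
    (h : ∀ i, AdicRing.NoPowTorsion I (AdicRing.CLoc I (f i))) : AdicRing.NoPowTorsion I A := by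
  intro x k hx
  have h0 : ∀ i, kap0 I A (f i) x = 0 := by
    intro i
    apply h i _ k
    intro a ha
    rw [← map_smul, hx a ha, map_zero]
  have hmem : ∀ m : ℕ, x ∈ (I ^ m).map (algebraMap R A) := by
    intro m
    have hK : ∀ i, ∃ N : ℕ, f i ^ N * x ∈ (I ^ m).map (algebraMap R A) := fun i =>
      exists_pow_mul_mem I A (f i) hI x m (by rw [h0 i]; exact Ideal.zero_mem _)
    obtain ⟨K, hKdef⟩ : ∃ K : Ideal A, K = Submodule.comap (LinearMap.toSpanSingleton A A x)
        ((I ^ m).map (algebraMap R A)) := ⟨_, rfl⟩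
    have hKmem : ∀ y : A, y ∈ K ↔ y * x ∈ (I ^ m).map (algebraMap R A) := by
      intro y
      rw [hKdef]
      exact Iff.rfl
    have hKtop : K = ⊤ := by
      rw [← Ideal.radical_eq_top, eq_top_iff, ← hf, Ideal.span_le]
      rintro _ ⟨i, rfl⟩
      obtain ⟨N, hN⟩ := hK i
      exact ⟨N, (hKmem _).mpr hN⟩
    have h1 : (1 : A) ∈ K := by
      rw [hKtop]
      exact Submodule.mem_top
    have h2 := (hKmem 1).mp h1
    rwa [one_mul] at h2
  apply IsHausdorff.haus' (I := I.map (algebraMap R A)) x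
  intro m
  rw [SModEq.zero, Ideal.smul_eq_mul, Ideal.mul_top, ← Ideal.map_pow]
  exact hmem m

theorem noPowTorsion_cloc (hR : AdicRing.IsBase R I) (hA : AdicRing.TopFiniteType R I A)
    (hT : AdicRing.NoPowTorsion I A) (f : A) :
    AdicRing.NoPowTorsion I (AdicRing.CLoc I f) := by
  have hI := RPowFT.isBase_fg I hR
  have h1 := noPowTorsion_away I A f hI hT
  obtain ⟨hc, hN | ⟨hdom, hval, hdim, t, ht, rfl⟩⟩ := hR
  · haveI := hN.1
    haveI := RPowUse.isNoetherianRing_of_tft I A hA
    haveI : IsNoetherianRing (Localization.Away f) :=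
      IsLocalization.isNoetherianRing (Submonoid.powers f) _ inferInstance
    exact noPowTorsion_hat_noeth I hI (Localization.Away f) h1
  · exact noPowTorsion_hat_principal t (Localization.Away f) h1

theorem admissible_cloc_iff (hR : AdicRing.IsBase R I)
    [IsAdicComplete (I.map (algebraMap R A)) A] (r : ℕ) (f : Fin r → A)
    (hf : Ideal.span (Set.range f) = ⊤) :
    AdicRing.Admissible R I A ↔ ∀ i, AdicRing.Admissible R I (AdicRing.CLoc I (f i)) := by
  have hI := RPowFT.isBase_fg I hR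
  constructor
  · rintro ⟨h1, h2⟩ i
    have htft : AdicRing.TopFiniteType R I A := by
      obtain ⟨n, φ, hφ, -⟩ := h1
      exact ⟨n, φ, hφ⟩
    exact ⟨(tfp_cloc_iff I hR A r f hf).mp h1 i, noPowTorsion_cloc I A hR htft h2 (f i)⟩
  · intro h
    exact ⟨(tfp_cloc_iff I hR A r f hf).mpr (fun i => (h i).1),
      noPowTorsion_of_cloc I A hI r f hf (fun i => (h i).2)⟩

end cloc

end Groth.Agent.Lib.T2H8.CLocTor
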