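import Mathlib

/-!
# Relative Cartan subalgebras, part A: module-theoretic lemmas (Mathlib only)

* `mem_of_pow_apply_eq_zero`: if `S` is an `f`-stable submodule of a finitely generated module
  with `S ⊔ range f = ⊤`, then `S` contains the generalized kernel of `f`.
* `eq_top_of_forall_baseChange_residueField`: a submodule of a finitely generated module which
  becomes everything in all fibres is everything.
* `finite_of_projective_quotient`: a submodule of a finite module with projective quotient is
  finite.
-/

set_option autoImplicit false
universe u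

namespace Groth.Agent.Lib.T2H8.CartanRel

open scoped TensorProduct

section Mod

variable {R : Type u} [CommRing R] {M : Type u} [AddCommGroup M] [Module R M]

/-- If `S` is stable under `f` and `S ⊔ range f = ⊤` in a finitely generated module, then `S`
contains every element killed by a power of `f`. -/
theorem mem_of_pow_apply_eq_zero [Module.Finite R M] (f : M →ₗ[R] M) (S : Submodule R M)
    (hS : S ≤ S.comap f) (hsup : S ⊔ LinearMap.range f = ⊤) :
    ∀ (n : ℕ) (y : M), (f ^ n) y = 0 → y ∈ S := by
  set g := S.mapQ S f hS with hg
  have hsurj : Function.Surjective g := by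
    intro q
    obtain ⟨y, rfl⟩ := S.mkQ_surjective q
    have hy : y ∈ S ⊔ LinearMap.range f := hsup ▸ Submodule.mem_top
    obtain ⟨s, hs, t, ⟨z, rfl⟩, rfl⟩ := Submodule.mem_sup.mp hy
    refine ⟨S.mkQ z, ?_⟩
    have h1 : g (S.mkQ z) = S.mkQ (f z) := by
      rw [hg]; exact Submodule.mapQ_apply S S f z
    rw [h1, map_add]
    have : S.mkQ s = 0 := by simpa using hs
    rw [this, zero_add]
  have hinj : Function.Injective g := OrzechProperty.injective_of_surjective_endomorphism g hsurj
  intro n
  induction n with
  | zero =>
    intro y hy
    have : y = 0 := by simpa using hy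
    rw [this]; exact S.zero_mem
  | succ n ih =>
    intro y hy
    have h1 : (f ^ n) (f y) = 0 := by
      rw [pow_succ, Module.End.mul_apply] at hy
      exact hy
    have h2 : f y ∈ S := ih _ h1
    have h3 : g (S.mkQ y) = 0 := by
      have h1 : g (S.mkQ y) = S.mkQ (f y) := by
        rw [hg]; exact Submodule.mapQ_apply S S f y
      rw [h1]
      simpa using h2
    have h4 : S.mkQ y = 0 := hinj (by rw [h3, map_zero])
    simpa using h4

/-- A submodule of a finitely generated module all of whose fibres are everything is everything. -/
theorem eq_top_of_forall_baseChange_residueField [Module.Finite R M] (N : Submodule R M)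
    (h : ∀ p : PrimeSpectrum R, N.baseChange p.asIdeal.ResidueField = ⊤) : N = ⊤ := by
  rw [← Submodule.Quotient.subsingleton_iff, ← Module.support_eq_empty_iff (R := R)]
  rw [Set.eq_empty_iff_forall_notMem]
  intro p hp
  rw [Module.mem_support_iff_nontrivial_residueField_tensorProduct] at hp
  rw [← not_subsingleton_iff_nontrivial] at hp
  apply hp
  have hsurj : Function.Surjective (N.mkQ.baseChange p.asIdeal.ResidueField) := by
    rw [LinearMap.baseChange_eq_ltensor]
    exact LinearMap.lTensor_surjective _ N.mkQ_surjective
  have hzero : ∀ w, N.mkQ.baseChange p.asIdeal.ResidueField w = 0 := by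
    intro w
    have hw : w ∈ N.baseChange p.asIdeal.ResidueField := (h p) ▸ Submodule.mem_top
    obtain ⟨v, rfl⟩ := hw
    rw [← LinearMap.comp_apply, ← LinearMap.baseChange_comp]
    have : N.mkQ ∘ₗ N.subtype = 0 := by
      ext x; simp
    rw [this, LinearMap.baseChange_zero, LinearMap.zero_apply]
  refine ⟨fun a b => ?_⟩
  obtain ⟨a', rfl⟩ := hsurj a
  obtain ⟨b', rfl⟩ := hsurj b
  rw [hzero, hzero]

/-- A submodule with projective quotient of a finite module is finite. -/
theorem finite_of_projective_quotient [Module.Finite R M] (N : Submodule R M)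
    [Module.Projective R (M ⧸ N)] : Module.Finite R N := by
  obtain ⟨s, hs⟩ := Module.projective_lifting_property N.mkQ LinearMap.id N.mkQ_surjective
  have hs' : ∀ q, N.mkQ (s q) = q := fun q => LinearMap.congr_fun hs q
  let π : M →ₗ[R] M := LinearMap.id - s ∘ₗ N.mkQ
  have hπ : ∀ l, π l ∈ N := by
    intro l
    rw [← Submodule.Quotient.mk_eq_zero, ← Submodule.mkQ_apply]
    simp only [π, LinearMap.sub_apply, LinearMap.id_apply, LinearMap.comp_apply, map_sub, hs',
      sub_self]
  let π' : M →ₗ[R] N := π.codRestrict N hπ
  have hsurj : Function.Surjective π' := by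
    intro n
    refine ⟨n, ?_⟩
    apply Subtype.ext
    simp only [π', π, LinearMap.codRestrict_apply, LinearMap.sub_apply, LinearMap.id_apply,
      LinearMap.comp_apply]
    have : N.mkQ (n : M) = 0 := by simp
    rw [this, map_zero, sub_zero]
  exact Module.Finite.of_surjective π' hsurj

end Mod

end Groth.Agent.Lib.T2H8.CartanRel
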