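import Groth.Prelude.Def_W4sga3xiixivxvCartan
import Groth.Agent.Lib.T2H8CartanRelA
import Groth.Agent.Lib.T1H4FibNilpB

/-!
# Relative Cartan subalgebras, part B: a relative Cartan subalgebra containing a quasi-regular
element `a` is the Engel subalgebra of `a` (SGA3 XIV)
-/

set_option autoImplicit false
universe u

namespace Groth.Agent.Lib.T2H8.CartanRel

open scoped TensorProduct
open SGA3t2b

section Field

variable {K : Type u} [Field K] {V : Type u} [LieRing V] [LieAlgebra K V] [Module.Finite K V]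

/-- Fitting: `V = Nil(x) + [x, V]`. -/
theorem engel_sup_range_ad_eq_top (x : V) :
    (LieSubalgebra.engel K x).toSubmodule ⊔ LinearMap.range (LieAlgebra.ad K V x) = ⊤ := by
  obtain ⟨n, hn⟩ := Filter.eventually_atTop.mp
    (LieAlgebra.ad K V x).eventually_isCompl_ker_pow_range_pow
  have h := hn (n + 1) (by omega)
  rw [eq_top_iff, ← h.sup_eq_top]
  apply sup_le_sup
  · intro y hy
    rw [LinearMap.mem_ker] at hy
    exact (LieSubalgebra.mem_engel_iff K x y).mpr ⟨n + 1, hy⟩
  · rw [pow_succ']
    exact LinearMap.range_comp_le_range _ _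

/-- A subspace of the Engel subalgebra of a regular element of dimension the rank is the Engel
subalgebra. -/
theorem eq_engel_of_le_of_finrank_eq {x : V} (hx : LieAlgebra.IsRegular K x) (S : Submodule K V)
    (hS : S ≤ (LieSubalgebra.engel K x).toSubmodule)
    (hd : Module.finrank K S = LieAlgebra.rank K V) :
    S = (LieSubalgebra.engel K x).toSubmodule := by
  apply Submodule.eq_of_le_of_finrank_eq hS
  rw [hd]
  exact ((LieAlgebra.isRegular_iff_finrank_engel_eq_rank K x).mp hx).symm

end Field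

section Ring

variable {A : Type u} [CommRing A] {L : Type u} [LieRing L] [LieAlgebra A L]

lemma fibreSubmodule_le_engel (p : PrimeSpectrum A) (H : LieSubalgebra A L) (a : L)
    (h : H ≤ LieSubalgebra.engel A a) :
    fibreSubmodule p H ≤
      (LieSubalgebra.engel p.asIdeal.ResidueField
        ((1 : p.asIdeal.ResidueField) ⊗ₜ[A] a)).toSubmodule := by
  unfold fibreSubmodule
  rw [Submodule.baseChange_eq_span, Submodule.span_le]
  rintro _ ⟨h', hh', rfl⟩
  obtain ⟨n, hn⟩ := (LieSubalgebra.mem_engel_iff A a h').mp (h hh')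
  show _ ∈ LieSubalgebra.engel _ _
  rw [LieSubalgebra.mem_engel_iff]
  refine ⟨n, ?_⟩
  rw [TensorProduct.mk_apply, Groth.Agent.Lib.T1H4.FibNilp.ad_pow_tmul, hn, TensorProduct.tmul_zero]

/-- Nakayama: `L = H + [a, L]` may be checked on the fibres. -/
theorem sup_range_ad_eq_top [Module.Finite A L] (H : LieSubalgebra A L) (a : L)
    (hfib : ∀ p : PrimeSpectrum A, fibreSubmodule p H ⊔
      LinearMap.range (LieAlgebra.ad p.asIdeal.ResidueField (p.asIdeal.ResidueField ⊗[A] L)
        ((1 : p.asIdeal.ResidueField) ⊗ₜ[A] a)) = ⊤) :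
    H.toSubmodule ⊔ LinearMap.range (LieAlgebra.ad A L a) = ⊤ := by
  apply eq_top_of_forall_baseChange_residueField
  intro p
  rw [eq_top_iff, ← hfib p]
  apply sup_le
  · exact Submodule.baseChange_mono _ le_sup_left
  · rintro _ ⟨w, rfl⟩
    induction w using TensorProduct.induction_on with
    | zero => rw [map_zero]; exact Submodule.zero_mem _
    | tmul c l =>
      rw [LieAlgebra.ad_apply, LieAlgebra.ExtendScalars.bracket_tmul, one_mul]
      exact Submodule.tmul_mem_baseChange_of_mem c (Submodule.mem_sup_right ⟨l, rfl⟩)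
    | add w₁ w₂ h₁ h₂ => rw [map_add]; exact Submodule.add_mem _ h₁ h₂

/-- SGA3 XIV: a relative Cartan subalgebra containing the quasi-regular element `a` is the Engel
subalgebra of `a`, and `L = H + [a, L]`. -/
theorem eq_engel_of_isCartanRel [Module.Finite A L] (a : L) (ha : IsQuasiRegular A L a)
    (H : LieSubalgebra A L) (hH : IsCartanRel H) (haH : a ∈ H) :
    H = LieSubalgebra.engel A a ∧
      H.toSubmodule ⊔ LinearMap.range (LieAlgebra.ad A L a) = ⊤ := by
  haveI : Module.Projective A (L ⧸ H.toSubmodule) := hH.1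
  haveI : Module.Finite A H := finite_of_projective_quotient H.toSubmodule
  have hnil : LieRing.IsNilpotent H :=
    Groth.Agent.Lib.T1H4.FibNilp.isNilpotent_of_fibres (fun p => (hH.2 p).1)
  have hle : H ≤ LieSubalgebra.engel A a := by
    intro h hh
    obtain ⟨k, hk⟩ := LieAlgebra.nilpotent_ad_of_nilpotent_algebra A H
    rw [LieSubalgebra.mem_engel_iff]
    refine ⟨k, ?_⟩
    have h1 : ((LieAlgebra.ad A H ⟨a, haH⟩) ^ k) ⟨h, hh⟩ = 0 := by
      rw [hk]; rfl
    have h2 := LieSubalgebra.coe_ad_pow (R := A) (L := L) H ⟨a, haH⟩ ⟨h, hh⟩ k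
    rw [h1] at h2
    exact h2.symm
  have hfib : ∀ p : PrimeSpectrum A, fibreSubmodule p H =
      (LieSubalgebra.engel p.asIdeal.ResidueField
        ((1 : p.asIdeal.ResidueField) ⊗ₜ[A] a)).toSubmodule := fun p =>
    eq_engel_of_le_of_finrank_eq (ha p) _ (fibreSubmodule_le_engel p H a hle) (hH.2 p).2.2
  have hsup := sup_range_ad_eq_top H a (fun p => by
    rw [hfib p]; exact engel_sup_range_ad_eq_top _)
  refine ⟨le_antisymm hle ?_, hsup⟩
  intro y hy
  obtain ⟨n, hn⟩ := (LieSubalgebra.mem_engel_iff A a y).mp hy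
  refine mem_of_pow_apply_eq_zero (LieAlgebra.ad A L a) H.toSubmodule ?_ hsup n y hn
  intro h hh
  exact H.lie_mem haH hh

end Ring

end Groth.Agent.Lib.T2H8.CartanRel
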