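import Groth.Agent.Lib.T2H8CartanRelB

/-!
# Relative Cartan subalgebras, part C: automorphisms (S8373)
-/

set_option autoImplicit false
universe u

namespace Groth.Agent.Lib.T2H8.CartanRel

open scoped TensorProduct
open SGA3t2b

section Ring

variable {A : Type u} [CommRing A] {L : Type u} [LieRing L] [LieAlgebra A L]

lemma ad_pow_map (u : L →ₗ⁅A⁆ L) (a z : L) (n : ℕ) :
    ((LieAlgebra.ad A L (u a)) ^ n) (u z) = u (((LieAlgebra.ad A L a) ^ n) z) := by
  induction n generalizing z with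
  | zero => simp
  | succ n ih =>
    rw [pow_succ, pow_succ, Module.End.mul_apply, Module.End.mul_apply, LieAlgebra.ad_apply,
      ← LieHom.map_lie, ih, LieAlgebra.ad_apply]

lemma map_mem_engel (u : L →ₗ⁅A⁆ L) {a z : L} (hz : z ∈ LieSubalgebra.engel A a) :
    u z ∈ LieSubalgebra.engel A (u a) := by
  obtain ⟨n, hn⟩ := (LieSubalgebra.mem_engel_iff A a z).mp hz
  rw [LieSubalgebra.mem_engel_iff]
  exact ⟨n, by rw [ad_pow_map, hn, map_zero]⟩

lemma map_engel (u : L ≃ₗ⁅A⁆ L) (a : L) :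
    (LieSubalgebra.engel A a).map u.toLieHom = LieSubalgebra.engel A (u a) := by
  ext y
  rw [LieSubalgebra.mem_map]
  constructor
  · rintro ⟨z, hz, rfl⟩
    exact map_mem_engel u.toLieHom hz
  · intro hy
    refine ⟨u.symm y, ?_, by simp⟩
    have := map_mem_engel u.symm.toLieHom hy
    simpa using this

/-- In a fibre, `ad (1 ⊗ u a)` is conjugate to `ad (1 ⊗ a)`. -/
lemma ad_one_tmul_map (K : Type u) [CommRing K] [Algebra A K] (u : L ≃ₗ⁅A⁆ L) (a : L) :
    LieAlgebra.ad K (K ⊗[A] L) ((1 : K) ⊗ₜ[A] u a) =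
      (u.toLinearEquiv.baseChange A K L L).conj (LieAlgebra.ad K (K ⊗[A] L) ((1 : K) ⊗ₜ[A] a)) := by
  apply LinearMap.ext
  intro w
  induction w using TensorProduct.induction_on with
  | zero => simp
  | tmul c l =>
    rw [LinearEquiv.conj_apply_apply, LinearEquiv.baseChange_symm_tmul, LieAlgebra.ad_apply,
      LieAlgebra.ad_apply, LieAlgebra.ExtendScalars.bracket_tmul,
      LieAlgebra.ExtendScalars.bracket_tmul, LinearEquiv.baseChange_tmul]
    congr 1
    show ⁅u a, l⁆ = u ⁅a, u.symm l⁆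
    rw [LieEquiv.map_lie, LieEquiv.apply_symm_apply]
  | add w₁ w₂ h₁ h₂ => rw [map_add, map_add, h₁, h₂]

lemma isQuasiRegular_map [Module.Finite A L] (u : L ≃ₗ⁅A⁆ L) {a : L}
    (ha : IsQuasiRegular A L a) : IsQuasiRegular A L (u a) := by
  intro p
  have h := ha p
  rw [LieAlgebra.isRegular_iff_natTrailingDegree_charpoly_eq_rank] at h ⊢
  rw [ad_one_tmul_map, LinearEquiv.charpoly_conj]
  exact h

/-- S8373. -/
theorem map_lieEquiv_eq_iff [Module.Finite A L] (H : LieSubalgebra A L) (hH : IsCartanRel H)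
    (a : L) (haH : a ∈ H) (ha : IsQuasiRegular A L a) (u : L ≃ₗ⁅A⁆ L) :
    H.map u.toLieHom = H ↔ u a ∈ H := by
  constructor
  · intro h
    rw [← h, LieSubalgebra.mem_map]
    exact ⟨a, haH, rfl⟩
  · intro h
    have h1 := (eq_engel_of_isCartanRel a ha H hH haH).1
    have h2 := (eq_engel_of_isCartanRel (u a) (isQuasiRegular_map u ha) H hH h).1
    conv_lhs => rw [h1]
    rw [map_engel, ← h2]

end Ring

end Groth.Agent.Lib.T2H8.CartanRel
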