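import Mathlib
import Groth.Agent.Lib.T1H4FibNilpB

/-!
# Relative Cartan subalgebras, part D: the Engel subalgebra of a regular element of a
finite-dimensional Lie algebra over ANY field is nilpotent

Mathlib proves this when the field has at least `dim L` elements; the general case follows by
extending scalars to an algebraic closure: the rank and regularity are invariant under field
extension.

* `rank_baseChange`: the rank of a Lie algebra is invariant under field extension.
* `isRegular_baseChange`: `1 ⊗ x` is regular if `x` is.
* `engel_le_engel_of_isRegular`: if `x` is regular and `y ∈ engel x` then `engel x ≤ engel y`.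
* `isNilpotent_engel_of_isRegular`: the Engel subalgebra of a regular element is nilpotent.
-/

set_option autoImplicit false
universe u

namespace Groth.Agent.Lib.T2H8.CartanRel

open scoped TensorProduct
open Module LieSubalgebra LieAlgebra Cardinal

attribute [local instance 100] LieRing.ofAssociativeRing

lemma natTrailingDegree_map_of_injective {R S : Type*} [Semiring R] [Semiring S]
    (p : Polynomial R) {f : R →+* S} (hf : Function.Injective f) :
    (p.map f).natTrailingDegree = p.natTrailingDegree := by
  unfold Polynomial.natTrailingDegree Polynomial.trailingDegree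
  rw [Polynomial.support_map_of_injective _ hf]

section BaseChange

variable (K : Type u) [Field K] (K' : Type u) [Field K'] [Algebra K K']
  (V : Type u) [LieRing V] [LieAlgebra K V]

lemma toEnd_baseChange_eq :
    LieHom.toLinearMap (LieModule.toEnd K' (K' ⊗[K] V) (K' ⊗[K] V)) =
      LinearMap.tensorProduct K K' V V ∘ₗ
        (LieHom.toLinearMap (LieModule.toEnd K V V)).baseChange K' := by
  apply LinearMap.ext
  intro z
  induction z using TensorProduct.induction_on with
  | zero => simp
  | tmul c v =>
    apply LinearMap.ext
    intro w
    induction w using TensorProduct.induction_on with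
    | zero => simp
    | tmul d w =>
      simp only [LieHom.coe_toLinearMap, LieModule.toEnd_apply_apply,
        LieAlgebra.ExtendScalars.bracket_tmul, LinearMap.comp_apply, LinearMap.baseChange_tmul,
        LinearMap.tensorProduct_apply]
      show _ = c • (d ⊗ₜ[K] ⁅v, w⁆)
      rw [TensorProduct.smul_tmul', smul_eq_mul]
    | add w₁ w₂ h₁ h₂ => rw [map_add, map_add, h₁, h₂]
  | add z₁ z₂ h₁ h₂ => rw [map_add, map_add, h₁, h₂]

lemma ad_one_tmul_eq_baseChange (x : V) :
    LieAlgebra.ad K' (K' ⊗[K] V) ((1 : K') ⊗ₜ[K] x) = (LieAlgebra.ad K V x).baseChange K' := by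
  apply LinearMap.ext
  intro w
  induction w using TensorProduct.induction_on with
  | zero => simp
  | tmul d w =>
    rw [LieAlgebra.ad_apply, LieAlgebra.ExtendScalars.bracket_tmul, one_mul,
      LinearMap.baseChange_tmul, LieAlgebra.ad_apply]
  | add w₁ w₂ h₁ h₂ => rw [map_add, map_add, h₁, h₂]

variable [Module.Finite K V]

/-- The rank of a Lie algebra is invariant under field extension. -/
lemma rank_baseChange : LieAlgebra.rank K' (K' ⊗[K] V) = LieAlgebra.rank K V := by
  classical
  let b := Module.Free.chooseBasis K V
  have h1 := LinearMap.nilRank_eq_polyCharpoly_natTrailingDegree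
    (LieHom.toLinearMap (LieModule.toEnd K V V)) b
  have h2 := LinearMap.nilRank_eq_polyCharpoly_natTrailingDegree
    (LieHom.toLinearMap (LieModule.toEnd K' (K' ⊗[K] V) (K' ⊗[K] V)))
    (Algebra.TensorProduct.basis K' b)
  show LinearMap.nilRank _ = LinearMap.nilRank _
  rw [h1, h2, toEnd_baseChange_eq, LinearMap.polyCharpoly_baseChange,
    natTrailingDegree_map_of_injective]
  exact MvPolynomial.map_injective _ (algebraMap K K').injective

variable {V}

/-- Regular elements stay regular under field extension. -/
lemma isRegular_baseChange {x : V} (hx : LieAlgebra.IsRegular K x) :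
    LieAlgebra.IsRegular K' ((1 : K') ⊗ₜ[K] x) := by
  rw [LieAlgebra.isRegular_iff_natTrailingDegree_charpoly_eq_rank] at hx ⊢
  rw [rank_baseChange, ← hx, ad_one_tmul_eq_baseChange, LinearMap.charpoly_baseChange,
    natTrailingDegree_map_of_injective _ (algebraMap K K').injective]

omit [Module.Finite K V] in
lemma tmul_mem_engel {x y : V} (hy : y ∈ engel K x) :
    (1 : K') ⊗ₜ[K] y ∈ engel K' ((1 : K') ⊗ₜ[K] x) := by
  obtain ⟨n, hn⟩ := (mem_engel_iff K x y).mp hy
  rw [mem_engel_iff]
  exact ⟨n, by rw [Groth.Agent.Lib.T1H4.FibNilp.ad_pow_tmul, hn, TensorProduct.tmul_zero]⟩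

end BaseChange

section Field

variable {K : Type u} [Field K] {V : Type u} [LieRing V] [LieAlgebra K V] [Module.Finite K V]

/-- Mathlib's argument: for a regular element `x` of a Lie algebra over a large field, the Engel
subalgebra of `x` is contained in the Engel subalgebra of each of its elements. -/
lemma engel_le_engel_of_isRegular_of_finrank_le_card (h : finrank K V ≤ #K) {x : V}
    (hx : LieAlgebra.IsRegular K x) {y : V} (hy : y ∈ engel K x) : engel K x ≤ engel K y := by
  set Ex : {engel K z | z ∈ engel K x} := ⟨engel K x, x, self_mem_engel _ _, rfl⟩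
  suffices IsBot Ex from @this ⟨engel K y, y, hy, rfl⟩
  apply LieAlgebra.engel_isBot_of_isMin h (engel K x) Ex le_rfl
  rintro ⟨_, y, hy, rfl⟩ hyx
  suffices finrank K (engel K x) ≤ finrank K (engel K y) by
    suffices engel K y = engel K x from this.ge
    apply LieSubalgebra.toSubmodule_injective
    exact Submodule.eq_of_le_of_finrank_le hyx this
  rw [(LieAlgebra.isRegular_iff_finrank_engel_eq_rank K x).mp hx]
  apply LieAlgebra.rank_le_finrank_engel

/-- Over any field: for a regular element `x`, the Engel subalgebra of `x` is contained in the Engel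
subalgebra of each of its elements. -/
theorem engel_le_engel_of_isRegular {x : V} (hx : LieAlgebra.IsRegular K x) {y : V}
    (hy : y ∈ engel K x) : engel K x ≤ engel K y := by
  intro e he
  have hx' := isRegular_baseChange K (AlgebraicClosure K) hx
  have hy' := tmul_mem_engel K (AlgebraicClosure K) hy
  have he' := tmul_mem_engel K (AlgebraicClosure K) he
  have hcard : (finrank (AlgebraicClosure K) (AlgebraicClosure K ⊗[K] V) : Cardinal) ≤
      #(AlgebraicClosure K) :=
    (natCast_le_aleph0).trans (Cardinal.infinite_iff.mp inferInstance)
  have h1 := engel_le_engel_of_isRegular_of_finrank_le_card hcard hx' hy' he'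
  obtain ⟨n, hn⟩ := (mem_engel_iff _ _ _).mp h1
  rw [Groth.Agent.Lib.T1H4.FibNilp.ad_pow_tmul] at hn
  rw [mem_engel_iff]
  refine ⟨n, ?_⟩
  apply Module.FaithfullyFlat.tensorProduct_mk_injective (A := K) (B := AlgebraicClosure K) V
  rw [TensorProduct.mk_apply, hn, map_zero]

/-- The Engel subalgebra of a regular element is nilpotent (any field). -/
theorem isNilpotent_engel_of_isRegular {x : V} (hx : LieAlgebra.IsRegular K x) :
    LieRing.IsNilpotent (engel K x) :=
  LieSubalgebra.isNilpotent_of_forall_le_engel (engel K x)
    (fun _ hy => engel_le_engel_of_isRegular hx hy)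

end Field

end Groth.Agent.Lib.T2H8.CartanRel
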