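import Groth.Agent.Lib.T2H8CartanRelC
import Groth.Agent.Lib.T2H8CartanRelD

/-!
# Relative Cartan subalgebras, part E: a quasi-regular element `a` is regular iff `L / Nil(a)` is
projective and `ad a` is bijective on it (S8372)
-/

set_option autoImplicit false
universe u

namespace Groth.Agent.Lib.T2H8.CartanRel

open scoped TensorProduct
open SGA3t2b

section Mod

variable {R : Type u} [CommRing R] {M : Type u} [AddCommGroup M] [Module R M]

theorem exists_retraction_of_projective_quotient (N : Submodule R M)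
    [Module.Projective R (M ⧸ N)] : ∃ r : M →ₗ[R] N, r ∘ₗ N.subtype = LinearMap.id := by
  obtain ⟨s, hs⟩ := Module.projective_lifting_property N.mkQ LinearMap.id N.mkQ_surjective
  have hs' : ∀ q, N.mkQ (s q) = q := fun q => LinearMap.congr_fun hs q
  let π : M →ₗ[R] M := LinearMap.id - s ∘ₗ N.mkQ
  have hπ : ∀ l, π l ∈ N := by
    intro l
    rw [← Submodule.Quotient.mk_eq_zero, ← Submodule.mkQ_apply]
    simp only [π, LinearMap.sub_apply, LinearMap.id_apply, LinearMap.comp_apply, map_sub, hs',
      sub_self]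
  refine ⟨π.codRestrict N hπ, ?_⟩
  apply LinearMap.ext
  intro n
  apply Subtype.ext
  simp only [π, LinearMap.comp_apply, Submodule.subtype_apply, LinearMap.codRestrict_apply,
    LinearMap.sub_apply, LinearMap.id_apply]
  have : N.mkQ (n : M) = 0 := by simp
  rw [this, map_zero, sub_zero]

end Mod

section Lie

variable {A : Type u} [CommRing A] {L : Type u} [LieRing L] [LieAlgebra A L]
variable (K : Type u) [CommRing K] [Algebra A K] (E : LieSubalgebra A L)

/-- The base change of the inclusion of a Lie subalgebra. -/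
noncomputable def inclBC : K ⊗[A] E →ₗ[K] K ⊗[A] L :=
  (E.incl : E →ₗ[A] L).baseChange K

lemma inclBC_tmul (c : K) (e : E) : inclBC K E (c ⊗ₜ[A] e) = c ⊗ₜ[A] (e : L) := rfl

lemma inclBC_eq_map (s : K ⊗[A] E) :
    inclBC K E s = LieAlgebra.ExtendScalars.map (AlgHom.id A K) E.incl s := by
  induction s using TensorProduct.induction_on with
  | zero => rw [map_zero, map_zero]
  | tmul c e => rfl
  | add s₁ s₂ h₁ h₂ => rw [map_add, map_add, h₁, h₂]

lemma inclBC_lie (s t : K ⊗[A] E) : inclBC K E ⁅s, t⁆ = ⁅inclBC K E s, inclBC K E t⁆ := by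
  rw [inclBC_eq_map, inclBC_eq_map, inclBC_eq_map, LieHom.map_lie]

lemma inclBC_ad_pow (t s : K ⊗[A] E) (n : ℕ) :
    inclBC K E (((LieAlgebra.ad K (K ⊗[A] E) t) ^ n) s) =
      ((LieAlgebra.ad K (K ⊗[A] L) (inclBC K E t)) ^ n) (inclBC K E s) := by
  induction n generalizing s with
  | zero => simp
  | succ n ih =>
    rw [pow_succ, pow_succ, Module.End.mul_apply, Module.End.mul_apply, ih, LieAlgebra.ad_apply,
      inclBC_lie, LieAlgebra.ad_apply]

lemma inclBC_injective [Module.Projective A (L ⧸ E.toSubmodule)] :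
    Function.Injective (inclBC K E) := by
  obtain ⟨r, hr⟩ := exists_retraction_of_projective_quotient E.toSubmodule
  have h : (r.baseChange K) ∘ₗ (inclBC K E) = LinearMap.id := by
    unfold inclBC
    rw [← LinearMap.baseChange_comp]
    have : r ∘ₗ (E.incl : E →ₗ[A] L) = LinearMap.id := hr
    rw [this, LinearMap.baseChange_id]
  intro s t hst
  have := congrArg (r.baseChange K) hst
  rw [← LinearMap.comp_apply, ← LinearMap.comp_apply, h] at this
  exact this

lemma inclBC_mem (p : PrimeSpectrum A) (s : p.asIdeal.ResidueField ⊗[A] E) :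
    inclBC p.asIdeal.ResidueField E s ∈ fibreSubmodule p E := by
  induction s using TensorProduct.induction_on with
  | zero => rw [map_zero]; exact Submodule.zero_mem _
  | tmul c e => exact Submodule.tmul_mem_baseChange_of_mem c e.2
  | add s₁ s₂ h₁ h₂ => rw [map_add]; exact Submodule.add_mem _ h₁ h₂

end Lie

section Main

variable {A : Type u} [CommRing A] {L : Type u} [LieRing L] [LieAlgebra A L] [Module.Finite A L]

open LieSubalgebra in
/-- If `ad a` is surjective modulo `Nil(a)`, the fibre of `Nil(a)` is `Nil(1 ⊗ a)`. -/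
theorem fibreSubmodule_engel_eq (a : L) (p : PrimeSpectrum A)
    (hsurj : ∀ y : L, ∃ z : L, ⁅a, z⁆ - y ∈ engel A a) :
    fibreSubmodule p (engel A a) =
      (engel p.asIdeal.ResidueField ((1 : p.asIdeal.ResidueField) ⊗ₜ[A] a)).toSubmodule := by
  apply le_antisymm (fibreSubmodule_le_engel p _ a le_rfl)
  intro y hy
  obtain ⟨n, hn⟩ := (mem_engel_iff _ _ y).mp hy
  refine mem_of_pow_apply_eq_zero
    (LieAlgebra.ad p.asIdeal.ResidueField _ ((1 : p.asIdeal.ResidueField) ⊗ₜ[A] a))
    (fibreSubmodule p (engel A a)) ?_ ?_ n y hn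
  · unfold fibreSubmodule
    rw [Submodule.baseChange_eq_span, Submodule.span_le]
    rintro _ ⟨e, he, rfl⟩
    simp only [SetLike.mem_coe, Submodule.mem_comap]
    rw [TensorProduct.mk_apply, LieAlgebra.ad_apply, LieAlgebra.ExtendScalars.bracket_tmul,
      one_mul, ← Submodule.baseChange_eq_span]
    exact Submodule.tmul_mem_baseChange_of_mem 1 ((engel A a).lie_mem (self_mem_engel A a) he)
  · rw [eq_top_iff]
    intro w _
    induction w using TensorProduct.induction_on with
    | zero => exact Submodule.zero_mem _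
    | tmul c y =>
      obtain ⟨z, hz⟩ := hsurj y
      have h1 : c ⊗ₜ[A] y = ⁅(1 : p.asIdeal.ResidueField) ⊗ₜ[A] a, c ⊗ₜ[A] z⁆ -
          c ⊗ₜ[A] (⁅a, z⁆ - y) := by
        rw [LieAlgebra.ExtendScalars.bracket_tmul, one_mul, TensorProduct.tmul_sub]
        abel
      rw [h1]
      refine Submodule.sub_mem _ (Submodule.mem_sup_right ⟨c ⊗ₜ[A] z, rfl⟩)
        (Submodule.mem_sup_left ?_)
      exact Submodule.tmul_mem_baseChange_of_mem c hz
    | add w₁ w₂ h₁ h₂ => exact Submodule.add_mem _ (h₁ trivial) (h₂ trivial)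

open LieSubalgebra in
/-- If `a` is quasi-regular, `L / Nil(a)` is projective and `ad a` is surjective modulo `Nil(a)`,
then `Nil(a)` is a relative Cartan subalgebra. -/
theorem isCartanRel_engel (a : L) (ha : IsQuasiRegular A L a)
    (hproj : Module.Projective A (L ⧸ (engel A a).toSubmodule))
    (hsurj : ∀ y : L, ∃ z : L, ⁅a, z⁆ - y ∈ engel A a) : IsCartanRel (engel A a) := by
  refine ⟨hproj, fun p => ?_⟩
  have hfib := fibreSubmodule_engel_eq a p hsurj
  refine ⟨?_, ?_, ?_⟩
  · haveI := hproj
    haveI : Module.Finite A (engel A a) := finite_of_projective_quotient (engel A a).toSubmodule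
    rw [LieAlgebra.isNilpotent_iff_forall (R := p.asIdeal.ResidueField)]
    intro t
    rw [Module.End.isNilpotent_iff_of_finite]
    intro s
    have ht : inclBC p.asIdeal.ResidueField (engel A a) t ∈
        engel p.asIdeal.ResidueField ((1 : p.asIdeal.ResidueField) ⊗ₜ[A] a) := by
      have := inclBC_mem (engel A a) p t
      rw [hfib] at this
      exact this
    have hs : inclBC p.asIdeal.ResidueField (engel A a) s ∈
        engel p.asIdeal.ResidueField ((1 : p.asIdeal.ResidueField) ⊗ₜ[A] a) := by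
      have := inclBC_mem (engel A a) p s
      rw [hfib] at this
      exact this
    have h1 := engel_le_engel_of_isRegular (ha p) ht hs
    obtain ⟨n, hn⟩ := (mem_engel_iff _ _ _).mp h1
    refine ⟨n, inclBC_injective p.asIdeal.ResidueField (engel A a) ?_⟩
    rw [inclBC_ad_pow, hn, map_zero]
  · intro y hy
    rw [hfib] at hy ⊢
    have h1 : y ∈ (engel p.asIdeal.ResidueField
        ((1 : p.asIdeal.ResidueField) ⊗ₜ[A] a)).normalizer :=
      (LieSubalgebra.mem_normalizer_iff _ y).mpr (fun z hz => hy z hz)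
    rw [LieSubalgebra.normalizer_engel] at h1
    exact h1
  · rw [hfib]
    exact (LieAlgebra.isRegular_iff_finrank_engel_eq_rank _ _).mp (ha p)

open LieSubalgebra in
/-- S8372. -/
theorem cartanRel_containing_quasiRegular_eq_engel (a : L) (ha : IsQuasiRegular A L a) :
    (∀ H : LieSubalgebra A L, IsCartanRel H → a ∈ H → H = engel A a) ∧
    ((∃ H : LieSubalgebra A L, IsCartanRel H ∧ a ∈ H) ↔
      (Module.Projective A (L ⧸ (engel A a).toSubmodule) ∧
        (∀ z : L, ⁅a, z⁆ ∈ engel A a → z ∈ engel A a) ∧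
        (∀ y : L, ∃ z : L, ⁅a, z⁆ - y ∈ engel A a))) := by
  refine ⟨fun H hH haH => (eq_engel_of_isCartanRel a ha H hH haH).1, ?_, ?_⟩
  · rintro ⟨H, hH, haH⟩
    obtain ⟨h1, h2⟩ := eq_engel_of_isCartanRel a ha H hH haH
    subst h1
    refine ⟨hH.1, ?_, ?_⟩
    · intro z hz
      obtain ⟨n, hn⟩ := (mem_engel_iff _ _ _).mp hz
      rw [mem_engel_iff]
      refine ⟨n + 1, ?_⟩
      rw [pow_succ, Module.End.mul_apply, LieAlgebra.ad_apply]
      exact hn
    · intro y
      have hy : y ∈ (engel A a).toSubmodule ⊔ LinearMap.range (LieAlgebra.ad A L a) :=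
        h2 ▸ Submodule.mem_top
      obtain ⟨h, hh, _, ⟨z, rfl⟩, rfl⟩ := Submodule.mem_sup.mp hy
      refine ⟨z, ?_⟩
      have : ⁅a, z⁆ - (h + (LieAlgebra.ad A L a) z) = -h := by
        rw [LieAlgebra.ad_apply]; abel
      rw [this]
      exact neg_mem hh
  · rintro ⟨hproj, -, hsurj⟩
    exact ⟨engel A a, isCartanRel_engel a ha hproj hsurj, self_mem_engel A a⟩

end Main

end Groth.Agent.Lib.T2H8.CartanRel
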