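import Groth.Agent.Lib.T2H8CartanRelE

/-!
# Relative Cartan subalgebras, part F: the regular locus of a section is open when the nilpotent
rank is locally constant (S8375)
-/

set_option autoImplicit false
universe u

namespace Groth.Agent.Lib.T2H8.CartanRel

open scoped TensorProduct
open SGA3t2b Polynomial Module

/-- `X ^ dim V * charpoly (i ∘ g) = X ^ dim W * charpoly (g ∘ i)` for `i : V → W`, `g : W → V`. -/
theorem charpoly_comp_comm {K : Type*} [Field K] {V W : Type*} [AddCommGroup V] [Module K V]
    [Module.Finite K V] [AddCommGroup W] [Module K W] [Module.Finite K W]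
    (i : V →ₗ[K] W) (g : W →ₗ[K] V) :
    (X : K[X]) ^ finrank K V * (i ∘ₗ g).charpoly = X ^ finrank K W * (g ∘ₗ i).charpoly := by
  classical
  let bV := Module.finBasis K V
  let bW := Module.finBasis K W
  have h := Matrix.charpoly_mul_comm' (LinearMap.toMatrix bV bW i) (LinearMap.toMatrix bW bV g)
  rw [← LinearMap.toMatrix_comp bW bV bW i g, ← LinearMap.toMatrix_comp bV bW bV g i,
    LinearMap.charpoly_toMatrix, LinearMap.charpoly_toMatrix, Fintype.card_fin,
    Fintype.card_fin] at h
  exact h

section Ring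

variable {A : Type u} [CommRing A] {L : Type u} [LieRing L] [LieAlgebra A L]

lemma ad_one_tmul_eq_baseChange' (K : Type u) [CommRing K] [Algebra A K] (x : L) :
    LieAlgebra.ad K (K ⊗[A] L) ((1 : K) ⊗ₜ[A] x) = (LieAlgebra.ad A L x).baseChange K := by
  apply LinearMap.ext
  intro w
  induction w using TensorProduct.induction_on with
  | zero => simp
  | tmul d w =>
    rw [LieAlgebra.ad_apply, LieAlgebra.ExtendScalars.bracket_tmul, one_mul,
      LinearMap.baseChange_tmul, LieAlgebra.ad_apply]
  | add w₁ w₂ h₁ h₂ => rw [map_add, map_add, h₁, h₂]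

variable [Module.Finite A L] [Module.Projective A L]

/-- S8375: if the nilpotent rank of the fibres is locally constant, the regular locus of a section
is open. -/
theorem isOpen_setOf_fibre_isRegular
    (hC0 : ∀ p : PrimeSpectrum A, ∃ f : A, f ∉ p.asIdeal ∧ ∀ q : PrimeSpectrum A, f ∉ q.asIdeal →
        LieAlgebra.rank q.asIdeal.ResidueField (q.asIdeal.ResidueField ⊗[A] L) =
          LieAlgebra.rank p.asIdeal.ResidueField (p.asIdeal.ResidueField ⊗[A] L)) (a : L) :
    IsOpen {p : PrimeSpectrum A |
      LieAlgebra.IsRegular p.asIdeal.ResidueField ((1 : p.asIdeal.ResidueField) ⊗ₜ[A] a)} := by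
  obtain ⟨n, s, i, -, -, hsi⟩ := Module.Finite.exists_comp_eq_id_of_projective A L
  set φ : (Fin n → A) →ₗ[A] (Fin n → A) := i ∘ₗ (LieAlgebra.ad A L a) ∘ₗ s with hφ
  set P := φ.charpoly with hP
  have key : ∀ q : PrimeSpectrum A,
      finrank q.asIdeal.ResidueField (q.asIdeal.ResidueField ⊗[A] L) +
        (P.map (algebraMap A q.asIdeal.ResidueField)).natTrailingDegree =
      n + (LieAlgebra.ad q.asIdeal.ResidueField (q.asIdeal.ResidueField ⊗[A] L)
        ((1 : q.asIdeal.ResidueField) ⊗ₜ[A] a)).charpoly.natTrailingDegree := by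
    intro q
    have h1 := charpoly_comp_comm (i.baseChange q.asIdeal.ResidueField)
      (((LieAlgebra.ad A L a) ∘ₗ s).baseChange q.asIdeal.ResidueField)
    rw [← LinearMap.baseChange_comp, ← LinearMap.baseChange_comp, LinearMap.comp_assoc, hsi,
      LinearMap.comp_id, ← ad_one_tmul_eq_baseChange', ← hφ, LinearMap.charpoly_baseChange,
      ← hP] at h1
    have h2 : finrank q.asIdeal.ResidueField (q.asIdeal.ResidueField ⊗[A] (Fin n → A)) = n := by
      rw [Module.finrank_eq_card_basis
        (Algebra.TensorProduct.basis q.asIdeal.ResidueField (Pi.basisFun A (Fin n))),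
        Fintype.card_fin]
    have h3 := congrArg Polynomial.natTrailingDegree h1
    rw [h2, Polynomial.natTrailingDegree_mul (pow_ne_zero _ X_ne_zero)
        ((φ.charpoly_monic.map _).ne_zero),
      Polynomial.natTrailingDegree_mul (pow_ne_zero _ X_ne_zero)
        (LinearMap.charpoly_monic _).ne_zero,
      Polynomial.natTrailingDegree_X_pow, Polynomial.natTrailingDegree_X_pow] at h3
    exact h3
  rw [isOpen_iff_forall_mem_open]
  intro p₀ hp₀
  obtain ⟨f₁, hf₁, hf₁'⟩ := hC0 p₀
  haveI : Module.FinitePresentation A L := Module.finitePresentation_of_projective A L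
  have hlc := Module.isLocallyConstant_rankAtStalk (R := A) (M := L)
  set m₀ := (P.map (algebraMap A p₀.asIdeal.ResidueField)).natTrailingDegree with hm₀
  have hc : P.coeff m₀ ∉ p₀.asIdeal := by
    intro h
    have h1 : (P.map (algebraMap A p₀.asIdeal.ResidueField)).coeff m₀ = 0 := by
      rw [Polynomial.coeff_map]
      exact Ideal.algebraMap_residueField_eq_zero.mpr h
    rw [hm₀, Polynomial.coeff_natTrailingDegree_eq_zero] at h1
    exact (φ.charpoly_monic.map _).ne_zero h1
  refine ⟨(PrimeSpectrum.basicOpen f₁ : Set (PrimeSpectrum A)) ∩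
      {q | Module.rankAtStalk L q = Module.rankAtStalk L p₀} ∩
      (PrimeSpectrum.basicOpen (P.coeff m₀) : Set (PrimeSpectrum A)), ?_, ?_, ⟨⟨hf₁, rfl⟩, hc⟩⟩
  · rintro q ⟨⟨hq1, hq2⟩, hq3⟩
    show LieAlgebra.IsRegular _ _
    rw [LieAlgebra.isRegular_iff_natTrailingDegree_charpoly_eq_rank]
    apply le_antisymm ?_ (LieAlgebra.rank_le_natTrailingDegree_charpoly_ad _ _)
    have hd : finrank q.asIdeal.ResidueField (q.asIdeal.ResidueField ⊗[A] L) =
        finrank p₀.asIdeal.ResidueField (p₀.asIdeal.ResidueField ⊗[A] L) := by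
      have e1 := Module.rankAtStalk_eq (M := L) q
      have e2 := Module.rankAtStalk_eq (M := L) p₀
      rw [← e1, ← e2]
      exact hq2
    have hPq : (P.map (algebraMap A q.asIdeal.ResidueField)).natTrailingDegree ≤ m₀ := by
      apply Polynomial.natTrailingDegree_le_of_ne_zero
      rw [Polynomial.coeff_map]
      intro h
      exact hq3 (Ideal.algebraMap_residueField_eq_zero.mp h)
    have k1 := key q
    have k2 := key p₀
    have hreg := (LieAlgebra.isRegular_iff_natTrailingDegree_charpoly_eq_rank _ _).mp hp₀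
    rw [hf₁' q hq1]
    omega
  · exact ((PrimeSpectrum.basicOpen f₁).isOpen.inter (hlc.isOpen_fiber _)).inter
      (PrimeSpectrum.basicOpen (P.coeff m₀)).isOpen

end Ring

end Groth.Agent.Lib.T2H8.CartanRel
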