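import Groth.Agent.Lib.T2H8CartanRelF

/-!
# Relative Cartan subalgebras, part G: the rank and regular elements are invariant under Lie
algebra isomorphisms, and under the canonical base change isomorphisms
-/

set_option autoImplicit false
universe u

namespace Groth.Agent.Lib.T2H8.CartanRel

open scoped TensorProduct
open Module LieAlgebra

section Field

variable {K : Type u} [Field K] {V V' : Type u} [LieRing V] [LieAlgebra K V] [Module.Finite K V]
  [LieRing V'] [LieAlgebra K V'] [Module.Finite K V']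

omit [Module.Finite K V] [Module.Finite K V'] in
lemma ad_map_eq_conj (E : V ≃ₗ[K] V') (hE : ∀ x y, E ⁅x, y⁆ = ⁅E x, E y⁆) (x : V) :
    LieAlgebra.ad K V' (E x) = E.conj (LieAlgebra.ad K V x) := by
  apply LinearMap.ext
  intro w
  rw [LinearEquiv.conj_apply_apply, LieAlgebra.ad_apply, LieAlgebra.ad_apply, hE,
    LinearEquiv.apply_symm_apply]

lemma natTrailingDegree_charpoly_ad_map (E : V ≃ₗ[K] V') (hE : ∀ x y, E ⁅x, y⁆ = ⁅E x, E y⁆)
    (x : V) : (LieAlgebra.ad K V' (E x)).charpoly.natTrailingDegree =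
      (LieAlgebra.ad K V x).charpoly.natTrailingDegree := by
  rw [ad_map_eq_conj E hE, LinearEquiv.charpoly_conj]

lemma rank_le_of_linearEquiv_of_infinite [Infinite K] (E : V ≃ₗ[K] V')
    (hE : ∀ x y, E ⁅x, y⁆ = ⁅E x, E y⁆) : LieAlgebra.rank K V' ≤ LieAlgebra.rank K V := by
  obtain ⟨x, hx⟩ := LieAlgebra.exists_isRegular K V
  rw [LieAlgebra.isRegular_iff_natTrailingDegree_charpoly_eq_rank] at hx
  rw [← hx, ← natTrailingDegree_charpoly_ad_map E hE]
  exact LieAlgebra.rank_le_natTrailingDegree_charpoly_ad K (E x)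

lemma rank_eq_of_linearEquiv_of_infinite [Infinite K] (E : V ≃ₗ[K] V')
    (hE : ∀ x y, E ⁅x, y⁆ = ⁅E x, E y⁆) : LieAlgebra.rank K V' = LieAlgebra.rank K V := by
  apply le_antisymm (rank_le_of_linearEquiv_of_infinite E hE)
  apply rank_le_of_linearEquiv_of_infinite E.symm
  intro x y
  apply E.injective
  rw [hE, E.apply_symm_apply, E.apply_symm_apply, E.apply_symm_apply]

omit [Module.Finite K V] [Module.Finite K V'] in
/-- The base change of a Lie-compatible linear equivalence is Lie-compatible. -/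
lemma baseChange_lie (K' : Type u) [CommRing K'] [Algebra K K'] (E : V ≃ₗ[K] V')
    (hE : ∀ x y, E ⁅x, y⁆ = ⁅E x, E y⁆) (x y : K' ⊗[K] V) :
    E.baseChange K K' V V' ⁅x, y⁆ = ⁅E.baseChange K K' V V' x, E.baseChange K K' V V' y⁆ := by
  induction x using TensorProduct.induction_on with
  | zero =>
    rw [zero_lie (L := K' ⊗[K] V) (M := K' ⊗[K] V), map_zero,
      zero_lie (L := K' ⊗[K] V') (M := K' ⊗[K] V')]
  | tmul c v =>
    induction y using TensorProduct.induction_on with
    | zero =>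
      rw [lie_zero (L := K' ⊗[K] V) (M := K' ⊗[K] V), map_zero,
        lie_zero (L := K' ⊗[K] V') (M := K' ⊗[K] V')]
    | tmul d w =>
      rw [LieAlgebra.ExtendScalars.bracket_tmul, LinearEquiv.baseChange_tmul,
        LinearEquiv.baseChange_tmul, LinearEquiv.baseChange_tmul,
        LieAlgebra.ExtendScalars.bracket_tmul, hE]
    | add y₁ y₂ h₁ h₂ =>
      rw [lie_add (L := K' ⊗[K] V) (M := K' ⊗[K] V), map_add, h₁, h₂, map_add,
        lie_add (L := K' ⊗[K] V') (M := K' ⊗[K] V')]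
  | add x₁ x₂ h₁ h₂ =>
    rw [add_lie (L := K' ⊗[K] V) (M := K' ⊗[K] V), map_add, h₁, h₂, map_add,
      add_lie (L := K' ⊗[K] V') (M := K' ⊗[K] V')]

/-- The rank is invariant under Lie-compatible linear equivalences (any field). -/
theorem rank_eq_of_linearEquiv (E : V ≃ₗ[K] V') (hE : ∀ x y, E ⁅x, y⁆ = ⁅E x, E y⁆) :
    LieAlgebra.rank K V' = LieAlgebra.rank K V := by
  rw [← rank_baseChange K (AlgebraicClosure K) V, ← rank_baseChange K (AlgebraicClosure K) V']
  exact rank_eq_of_linearEquiv_of_infinite (E.baseChange K (AlgebraicClosure K) V V')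
    (baseChange_lie (AlgebraicClosure K) E hE)

/-- Regular elements are preserved by Lie-compatible linear equivalences. -/
theorem isRegular_map_of_linearEquiv (E : V ≃ₗ[K] V') (hE : ∀ x y, E ⁅x, y⁆ = ⁅E x, E y⁆)
    {x : V} (hx : LieAlgebra.IsRegular K x) : LieAlgebra.IsRegular K (E x) := by
  rw [LieAlgebra.isRegular_iff_natTrailingDegree_charpoly_eq_rank] at hx ⊢
  rw [natTrailingDegree_charpoly_ad_map E hE, hx, rank_eq_of_linearEquiv E hE]

end Field

section Cancel

open TensorProduct.AlgebraTensorModule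

variable {A : Type u} [CommRing A] {S : Type u} [CommRing S] {T : Type u} [CommRing T]
  [Algebra A S] [Algebra S T] [Algebra A T] [IsScalarTower A S T]
  {L : Type u} [LieRing L] [LieAlgebra A L]

/-- The cancellation isomorphism `T ⊗[S] (S ⊗[A] L) ≃ T ⊗[A] L` is compatible with brackets. -/
lemma cancelBaseChange_lie (x y : T ⊗[S] (S ⊗[A] L)) :
    cancelBaseChange A S T T L ⁅x, y⁆ =
      ⁅cancelBaseChange A S T T L x, cancelBaseChange A S T T L y⁆ := by
  have step1 : ∀ (t₁ : T) (s₁ : S) (l₁ : L) (t₂ : T) (z₂ : S ⊗[A] L),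
      cancelBaseChange A S T T L ⁅t₁ ⊗ₜ[S] (s₁ ⊗ₜ[A] l₁), t₂ ⊗ₜ[S] z₂⁆ =
        ⁅cancelBaseChange A S T T L (t₁ ⊗ₜ[S] (s₁ ⊗ₜ[A] l₁)),
          cancelBaseChange A S T T L (t₂ ⊗ₜ[S] z₂)⁆ := by
    intro t₁ s₁ l₁ t₂ z₂
    induction z₂ using TensorProduct.induction_on with
    | zero =>
      rw [TensorProduct.tmul_zero, lie_zero (L := T ⊗[S] (S ⊗[A] L)) (M := T ⊗[S] (S ⊗[A] L)),
        map_zero, lie_zero (L := T ⊗[A] L) (M := T ⊗[A] L)]
    | tmul s₂ l₂ =>
      rw [LieAlgebra.ExtendScalars.bracket_tmul, LieAlgebra.ExtendScalars.bracket_tmul,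
        cancelBaseChange_tmul, cancelBaseChange_tmul, cancelBaseChange_tmul,
        LieAlgebra.ExtendScalars.bracket_tmul, smul_mul_smul_comm]
    | add z z' h h' =>
      rw [TensorProduct.tmul_add, lie_add (L := T ⊗[S] (S ⊗[A] L)) (M := T ⊗[S] (S ⊗[A] L)),
        map_add, h, h', map_add, lie_add (L := T ⊗[A] L) (M := T ⊗[A] L)]
  have step2 : ∀ (t₁ : T) (s₁ : S) (l₁ : L) (y : T ⊗[S] (S ⊗[A] L)),
      cancelBaseChange A S T T L ⁅t₁ ⊗ₜ[S] (s₁ ⊗ₜ[A] l₁), y⁆ =
        ⁅cancelBaseChange A S T T L (t₁ ⊗ₜ[S] (s₁ ⊗ₜ[A] l₁)),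
          cancelBaseChange A S T T L y⁆ := by
    intro t₁ s₁ l₁ y
    induction y using TensorProduct.induction_on with
    | zero =>
      rw [lie_zero (L := T ⊗[S] (S ⊗[A] L)) (M := T ⊗[S] (S ⊗[A] L)),
        map_zero, lie_zero (L := T ⊗[A] L) (M := T ⊗[A] L)]
    | tmul t₂ z₂ => exact step1 t₁ s₁ l₁ t₂ z₂
    | add z z' h h' =>
      rw [lie_add (L := T ⊗[S] (S ⊗[A] L)) (M := T ⊗[S] (S ⊗[A] L)),
        map_add, h, h', map_add, lie_add (L := T ⊗[A] L) (M := T ⊗[A] L)]
  have step3 : ∀ (t₁ : T) (z₁ : S ⊗[A] L) (y : T ⊗[S] (S ⊗[A] L)),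
      cancelBaseChange A S T T L ⁅t₁ ⊗ₜ[S] z₁, y⁆ =
        ⁅cancelBaseChange A S T T L (t₁ ⊗ₜ[S] z₁), cancelBaseChange A S T T L y⁆ := by
    intro t₁ z₁ y
    induction z₁ using TensorProduct.induction_on with
    | zero =>
      rw [TensorProduct.tmul_zero, zero_lie (L := T ⊗[S] (S ⊗[A] L)) (M := T ⊗[S] (S ⊗[A] L)),
        map_zero, zero_lie (L := T ⊗[A] L) (M := T ⊗[A] L)]
    | tmul s₁ l₁ => exact step2 t₁ s₁ l₁ y
    | add z z' h h' =>
      rw [TensorProduct.tmul_add, add_lie (L := T ⊗[S] (S ⊗[A] L)) (M := T ⊗[S] (S ⊗[A] L)),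
        map_add, h, h', map_add, add_lie (L := T ⊗[A] L) (M := T ⊗[A] L)]
  induction x using TensorProduct.induction_on with
  | zero =>
    rw [zero_lie (L := T ⊗[S] (S ⊗[A] L)) (M := T ⊗[S] (S ⊗[A] L)),
      map_zero, zero_lie (L := T ⊗[A] L) (M := T ⊗[A] L)]
  | tmul t₁ z₁ => exact step3 t₁ z₁ y
  | add z z' h h' =>
    rw [add_lie (L := T ⊗[S] (S ⊗[A] L)) (M := T ⊗[S] (S ⊗[A] L)),
      map_add, h, h', map_add, add_lie (L := T ⊗[A] L) (M := T ⊗[A] L)]

end Cancel

section Transfer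

open TensorProduct.AlgebraTensorModule

variable {A : Type u} [CommRing A] {B : Type u} [CommRing B] [Algebra A B]
  (K : Type u) [Field K] [Algebra A K] (K' : Type u) [Field K'] [Algebra K K'] [Algebra A K']
  [IsScalarTower A K K'] [Algebra B K'] [IsScalarTower A B K']
  (L : Type u) [LieRing L] [LieAlgebra A L]

/-- `K' ⊗[K] (K ⊗[A] L) ≃ K' ⊗[B] (B ⊗[A] L)`. -/
noncomputable def transferEquiv : K' ⊗[K] (K ⊗[A] L) ≃ₗ[K'] K' ⊗[B] (B ⊗[A] L) :=
  (cancelBaseChange A K K' K' L).trans (cancelBaseChange A B K' K' L).symm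

lemma transferEquiv_lie (x y : K' ⊗[K] (K ⊗[A] L)) :
    transferEquiv (B := B) K K' L ⁅x, y⁆ =
      ⁅transferEquiv (B := B) K K' L x, transferEquiv (B := B) K K' L y⁆ := by
  unfold transferEquiv
  simp only [LinearEquiv.trans_apply]
  apply (cancelBaseChange A B K' K' L).injective
  rw [LinearEquiv.apply_symm_apply, cancelBaseChange_lie, cancelBaseChange_lie,
    LinearEquiv.apply_symm_apply, LinearEquiv.apply_symm_apply]

lemma transferEquiv_tmul (a : L) :
    transferEquiv (B := B) K K' L ((1 : K') ⊗ₜ[K] ((1 : K) ⊗ₜ[A] a)) =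
      (1 : K') ⊗ₜ[B] ((1 : B) ⊗ₜ[A] a) := by
  unfold transferEquiv
  rw [LinearEquiv.trans_apply, cancelBaseChange_tmul, one_smul, cancelBaseChange_symm_tmul]

variable [Module.Finite A L]

theorem rank_transfer :
    LieAlgebra.rank K' (K' ⊗[B] (B ⊗[A] L)) = LieAlgebra.rank K (K ⊗[A] L) := by
  rw [rank_eq_of_linearEquiv (transferEquiv (B := B) K K' L) (transferEquiv_lie K K' L),
    rank_baseChange]

variable {L}

theorem isRegular_transfer {a : L} (ha : LieAlgebra.IsRegular K ((1 : K) ⊗ₜ[A] a)) :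
    LieAlgebra.IsRegular K' ((1 : K') ⊗ₜ[B] ((1 : B) ⊗ₜ[A] a)) := by
  rw [← transferEquiv_tmul K K' L]
  exact isRegular_map_of_linearEquiv _ (transferEquiv_lie K K' L) (isRegular_baseChange K K' ha)

end Transfer

section Residue

variable {A : Type u} [CommRing A] {B : Type u} [CommRing B] [Algebra A B]
  (L : Type u) [LieRing L] [LieAlgebra A L] [Module.Finite A L]

/-- The rank of the fibre of `B ⊗ L` at a prime `q'` of `B` is the rank of the fibre of `L` at the
prime of `A` below `q'`. -/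
theorem rank_fibre_baseChange (q' : PrimeSpectrum B) :
    LieAlgebra.rank q'.asIdeal.ResidueField (q'.asIdeal.ResidueField ⊗[B] (B ⊗[A] L)) =
      LieAlgebra.rank (PrimeSpectrum.comap (algebraMap A B) q').asIdeal.ResidueField
        ((PrimeSpectrum.comap (algebraMap A B) q').asIdeal.ResidueField ⊗[A] L) := by
  letI : Algebra (PrimeSpectrum.comap (algebraMap A B) q').asIdeal.ResidueField
      q'.asIdeal.ResidueField :=
    (Ideal.ResidueField.map (PrimeSpectrum.comap (algebraMap A B) q').asIdeal q'.asIdeal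
      (algebraMap A B) rfl).toAlgebra
  haveI : IsScalarTower A (PrimeSpectrum.comap (algebraMap A B) q').asIdeal.ResidueField
      q'.asIdeal.ResidueField := IsScalarTower.of_algebraMap_eq (fun r => by
    rw [RingHom.algebraMap_toAlgebra, Ideal.ResidueField.map_algebraMap,
      ← IsScalarTower.algebraMap_apply])
  exact rank_transfer _ _ L

variable {L}

/-- Regularity of a section in the fibres passes to base changes. -/
theorem isRegular_fibre_baseChange (q' : PrimeSpectrum B) {a : L}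
    (ha : LieAlgebra.IsRegular (PrimeSpectrum.comap (algebraMap A B) q').asIdeal.ResidueField
      ((1 : (PrimeSpectrum.comap (algebraMap A B) q').asIdeal.ResidueField) ⊗ₜ[A] a)) :
    LieAlgebra.IsRegular q'.asIdeal.ResidueField
      ((1 : q'.asIdeal.ResidueField) ⊗ₜ[B] ((1 : B) ⊗ₜ[A] a)) := by
  letI : Algebra (PrimeSpectrum.comap (algebraMap A B) q').asIdeal.ResidueField
      q'.asIdeal.ResidueField :=
    (Ideal.ResidueField.map (PrimeSpectrum.comap (algebraMap A B) q').asIdeal q'.asIdeal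
      (algebraMap A B) rfl).toAlgebra
  haveI : IsScalarTower A (PrimeSpectrum.comap (algebraMap A B) q').asIdeal.ResidueField
      q'.asIdeal.ResidueField := IsScalarTower.of_algebraMap_eq (fun r => by
    rw [RingHom.algebraMap_toAlgebra, Ideal.ResidueField.map_algebraMap,
      ← IsScalarTower.algebraMap_apply])
  exact isRegular_transfer _ _ ha

end Residue

end Groth.Agent.Lib.T2H8.CartanRel
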