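import Groth.Agent.Lib.T2H8CartanRelG

/-!
# Relative Cartan subalgebras, part H: (C₂) and a regular element in a fibre give a relative
Cartan subalgebra Zariski-locally (S8376)
-/

set_option autoImplicit false
universe u

namespace Groth.Agent.Lib.T2H8.CartanRel

open scoped TensorProduct
open SGA3t2b Module LieAlgebra

section Field

variable {K : Type u} [Field K] {V : Type u} [LieRing V] [LieAlgebra K V] [Module.Finite K V]

omit [Module.Finite K V] in
lemma engel_smul {c : K} (hc : c ≠ 0) (x : V) :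
    LieSubalgebra.engel K (c • x) = LieSubalgebra.engel K x := by
  ext y
  rw [LieSubalgebra.mem_engel_iff, LieSubalgebra.mem_engel_iff]
  have h : ∀ n : ℕ, ((LieAlgebra.ad K V (c • x)) ^ n) y = c ^ n • ((LieAlgebra.ad K V x) ^ n) y := by
    intro n
    rw [map_smul, smul_pow, LinearMap.smul_apply]
  constructor
  · rintro ⟨n, hn⟩
    refine ⟨n, ?_⟩
    rw [h, smul_eq_zero] at hn
    exact hn.resolve_left (pow_ne_zero _ hc)
  · rintro ⟨n, hn⟩
    exact ⟨n, by rw [h, hn, smul_zero]⟩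

lemma isRegular_smul {c : K} (hc : c ≠ 0) {x : V} (hx : LieAlgebra.IsRegular K x) :
    LieAlgebra.IsRegular K (c • x) := by
  rw [LieAlgebra.isRegular_iff_finrank_engel_eq_rank] at hx ⊢
  rw [engel_smul hc]
  exact hx

end Field

section Ring

variable {A : Type u} [CommRing A] {L : Type u} [AddCommGroup L] [Module A L]

lemma algebraMap_smul_one_tmul (K : Type u) [CommRing K] [Algebra A K] (s : A) (b : L) :
    algebraMap A K s • ((1 : K) ⊗ₜ[A] b) = (1 : K) ⊗ₜ[A] (s • b) := by
  rw [TensorProduct.smul_tmul', smul_eq_mul, mul_one, ← TensorProduct.smul_tmul, Algebra.smul_def,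
    mul_one]

/-- Clearing denominators in a fibre. -/
lemma exists_smul_eq_one_tmul (p : PrimeSpectrum A) (x : p.asIdeal.ResidueField ⊗[A] L) :
    ∃ s : A, s ∉ p.asIdeal ∧ ∃ a : L,
      algebraMap A p.asIdeal.ResidueField s • x = (1 : p.asIdeal.ResidueField) ⊗ₜ[A] a := by
  induction x using TensorProduct.induction_on with
  | zero => exact ⟨1, p.asIdeal.ne_top_iff_one.mp p.2.ne_top, 0, by simp⟩
  | tmul c l =>
    obtain ⟨⟨r, m⟩, hrm⟩ := IsLocalization.surj (nonZeroDivisors (A ⧸ p.asIdeal)) c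
    obtain ⟨s, hs⟩ := Ideal.Quotient.mk_surjective (m : A ⧸ p.asIdeal)
    obtain ⟨r', hr'⟩ := Ideal.Quotient.mk_surjective r
    have hsp : s ∉ p.asIdeal := by
      intro h
      have h0 : (m : A ⧸ p.asIdeal) = 0 := by rw [← hs]; exact Ideal.Quotient.eq_zero_iff_mem.mpr h
      exact nonZeroDivisors.coe_ne_zero m h0
    refine ⟨s, hsp, r' • l, ?_⟩
    simp only at hrm
    rw [← hs, ← hr', Ideal.algebraMap_quotient_residueField_mk,
      Ideal.algebraMap_quotient_residueField_mk] at hrm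
    rw [TensorProduct.smul_tmul', smul_eq_mul, mul_comm, hrm,
      ← TensorProduct.smul_tmul, Algebra.smul_def, mul_one]
  | add x y hx hy =>
    obtain ⟨s₁, hs₁, a₁, h₁⟩ := hx
    obtain ⟨s₂, hs₂, a₂, h₂⟩ := hy
    refine ⟨s₁ * s₂, p.2.mul_notMem hs₁ hs₂, s₂ • a₁ + s₁ • a₂, ?_⟩
    have e1 : (algebraMap A p.asIdeal.ResidueField s₁ * algebraMap A p.asIdeal.ResidueField s₂) • x
        = (1 : p.asIdeal.ResidueField) ⊗ₜ[A] (s₂ • a₁) := by
      rw [mul_comm, mul_smul, h₁, algebraMap_smul_one_tmul]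
    have e2 : (algebraMap A p.asIdeal.ResidueField s₁ * algebraMap A p.asIdeal.ResidueField s₂) • y
        = (1 : p.asIdeal.ResidueField) ⊗ₜ[A] (s₁ • a₂) := by
      rw [mul_smul, h₂, algebraMap_smul_one_tmul]
    rw [smul_add, map_mul, e1, e2, TensorProduct.tmul_add]

end Ring

section Main

variable {A : Type u} [CommRing A] {L : Type u} [LieRing L] [LieAlgebra A L]
  [Module.Finite A L] [Module.Projective A L]

/-- A regular element in the fibre at `p` gives a section regular at `p`. -/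
lemma exists_section_isRegular (p : PrimeSpectrum A)
    (hp : ∃ x : p.asIdeal.ResidueField ⊗[A] L, LieAlgebra.IsRegular p.asIdeal.ResidueField x) :
    ∃ a : L, LieAlgebra.IsRegular p.asIdeal.ResidueField
      ((1 : p.asIdeal.ResidueField) ⊗ₜ[A] a) := by
  obtain ⟨x, hx⟩ := hp
  obtain ⟨s, hs, a, ha⟩ := exists_smul_eq_one_tmul p x
  refine ⟨a, ?_⟩
  rw [← ha]
  refine isRegular_smul ?_ hx
  intro h
  exact hs (Ideal.algebraMap_residueField_eq_zero.mp h)

/-- A section regular on `D(f)` is quasi-regular over `A_f`. -/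
lemma isQuasiRegular_away (f : A) (a : L)
    (h : ∀ q : PrimeSpectrum A, f ∉ q.asIdeal →
      LieAlgebra.IsRegular q.asIdeal.ResidueField ((1 : q.asIdeal.ResidueField) ⊗ₜ[A] a)) :
    IsQuasiRegular (Localization.Away f) (Localization.Away f ⊗[A] L)
      ((1 : Localization.Away f) ⊗ₜ[A] a) := by
  intro q'
  apply isRegular_fibre_baseChange q'
  apply h
  intro hf
  have hu : IsUnit (algebraMap A (Localization.Away f) f) := IsLocalization.Away.algebraMap_isUnit f
  exact q'.2.ne_top (Ideal.eq_top_of_isUnit_mem _ hf hu)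

/-- S8376. -/
theorem exists_cartanRel_locally
    (hC2 : ((∀ p : PrimeSpectrum A, ∃ f : A, f ∉ p.asIdeal ∧ ∀ q : PrimeSpectrum A, f ∉ q.asIdeal →
        LieAlgebra.rank q.asIdeal.ResidueField (q.asIdeal.ResidueField ⊗[A] L) =
          LieAlgebra.rank p.asIdeal.ResidueField (p.asIdeal.ResidueField ⊗[A] L)) ∧
      ∀ (A' : Type u) [CommRing A'] [Algebra A A'] (a' : A' ⊗[A] L),
        IsQuasiRegular A' (A' ⊗[A] L) a' → IsRegularRel A' (A' ⊗[A] L) a'))
    (p : PrimeSpectrum A)
    (hp : ∃ x : p.asIdeal.ResidueField ⊗[A] L, LieAlgebra.IsRegular p.asIdeal.ResidueField x) :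
    ∃ f : A, f ∉ p.asIdeal ∧ ∃ (a : L)
      (H : LieSubalgebra (Localization.Away f) (Localization.Away f ⊗[A] L)),
      IsCartanRel H ∧ (1 : Localization.Away f) ⊗ₜ[A] a ∈ H := by
  obtain ⟨a, ha⟩ := exists_section_isRegular p hp
  have hopen := isOpen_setOf_fibre_isRegular hC2.1 a
  obtain ⟨_, ⟨f, rfl⟩, hpf, hsub⟩ :=
    PrimeSpectrum.isTopologicalBasis_basic_opens.exists_subset_of_mem_open
      (show p ∈ {p : PrimeSpectrum A | LieAlgebra.IsRegular p.asIdeal.ResidueField
        ((1 : p.asIdeal.ResidueField) ⊗ₜ[A] a)} from ha) hopen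
  refine ⟨f, hpf, a, ?_⟩
  have hq := isQuasiRegular_away f a (fun q hq => hsub hq)
  obtain ⟨-, H, hH, haH⟩ := hC2.2 (Localization.Away f) _ hq
  exact ⟨H, hH, haH⟩

end Main

end Groth.Agent.Lib.T2H8.CartanRel
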