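import Groth.Agent.Lib.T2H8CartanRelH

/-!
# Relative Cartan subalgebras, part I: if `L` has a relative Cartan subalgebra fpqc-locally then the
nilpotent rank of its fibres is locally constant (S8378)
-/

set_option autoImplicit false
universe u

namespace Groth.Agent.Lib.T2H8.CartanRel

open scoped TensorProduct
open SGA3t2b Module LieAlgebra PrimeSpectrum

section

variable {A : Type u} [CommRing A] {L : Type u} [LieRing L] [LieAlgebra A L]
  [Module.Finite A L] [Module.Projective A L]

/-- For a relative Cartan subalgebra `H`, the rank of the fibre of `L` at `p` is the rank of the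
projective module `H` at `p`. -/
lemma rank_fibre_eq_rankAtStalk (H : LieSubalgebra A L) (hH : IsCartanRel H)
    (p : PrimeSpectrum A) :
    LieAlgebra.rank p.asIdeal.ResidueField (p.asIdeal.ResidueField ⊗[A] L) =
      Module.rankAtStalk (R := A) H p := by
  haveI := hH.1
  haveI : Module.Finite A H := finite_of_projective_quotient H.toSubmodule
  haveI : Module.Projective A H := by
    obtain ⟨r, hr⟩ := exists_retraction_of_projective_quotient H.toSubmodule
    exact Module.Projective.of_split H.toSubmodule.subtype r hr
  rw [← (hH.2 p).2.2, Module.rankAtStalk_eq]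
  have h1 : fibreSubmodule p H = LinearMap.range (inclBC p.asIdeal.ResidueField H) := rfl
  rw [h1, LinearMap.finrank_range_of_inj (inclBC_injective p.asIdeal.ResidueField H)]

/-- S8378. -/
theorem rank_locallyConstant_of_cartanRel_fpqcLocally
    (hC1 : ∃ (A' : Type u) (_ : CommRing A') (_ : Algebra A A'), Module.FaithfullyFlat A A' ∧
        ∃ H : LieSubalgebra A' (A' ⊗[A] L), IsCartanRel H) :
    ∀ p : PrimeSpectrum A, ∃ f : A, f ∉ p.asIdeal ∧ ∀ q : PrimeSpectrum A, f ∉ q.asIdeal →
        LieAlgebra.rank q.asIdeal.ResidueField (q.asIdeal.ResidueField ⊗[A] L) =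
          LieAlgebra.rank p.asIdeal.ResidueField (p.asIdeal.ResidueField ⊗[A] L) := by
  obtain ⟨A', _, _, hff, H, hH⟩ := hC1
  set r : PrimeSpectrum A → ℕ := fun q =>
    LieAlgebra.rank q.asIdeal.ResidueField (q.asIdeal.ResidueField ⊗[A] L) with hr
  have hπ : Topology.IsQuotientMap (comap (algebraMap A A')) :=
    PrimeSpectrum.isQuotientMap_of_generalizingMap
      PrimeSpectrum.comap_surjective_of_faithfullyFlat
      (RingHom.Flat.generalizingMap_comap (RingHom.flat_algebraMap_iff.mpr inferInstance))
  have hcomp : ∀ q' : PrimeSpectrum A',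
      r (comap (algebraMap A A') q') = Module.rankAtStalk (R := A') H q' := fun q' => by
    rw [← rank_fibre_eq_rankAtStalk H hH q', rank_fibre_baseChange]
  haveI := hH.1
  haveI : Module.Finite A' H := finite_of_projective_quotient H.toSubmodule
  haveI : Module.Projective A' H := by
    obtain ⟨r, hr⟩ := exists_retraction_of_projective_quotient H.toSubmodule
    exact Module.Projective.of_split H.toSubmodule.subtype r hr
  haveI : Module.FinitePresentation A' H := Module.finitePresentation_of_projective A' H
  have hlc : IsLocallyConstant r := by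
    rw [IsLocallyConstant.iff_isOpen_fiber]
    intro n
    rw [← hπ.isOpen_preimage]
    have h1 : comap (algebraMap A A') ⁻¹' (r ⁻¹' {n}) =
        (Module.rankAtStalk (R := A') H) ⁻¹' {n} := by
      ext q'
      simp only [Set.mem_preimage, Set.mem_singleton_iff, hcomp]
    rw [h1]
    exact (Module.isLocallyConstant_rankAtStalk (R := A') (M := H)).isOpen_fiber n
  intro p
  obtain ⟨_, ⟨f, rfl⟩, hpf, hsub⟩ :=
    PrimeSpectrum.isTopologicalBasis_basic_opens.exists_subset_of_mem_open
      (show p ∈ r ⁻¹' {r p} from rfl) (hlc.isOpen_fiber _)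
  exact ⟨f, hpf, fun q hq => hsub hq⟩

end

end Groth.Agent.Lib.T2H8.CartanRel
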