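import Groth.Agent.Lib.T2H8CartanRelI

/-!
# Relative Cartan subalgebras, part J: (C₂) and regular elements in all fibres give a relative
Cartan subalgebra after a faithfully flat étale base change (S8377)
-/

set_option autoImplicit false
universe u

namespace Groth.Agent.Lib.T2H8.CartanRel

open scoped TensorProduct
open SGA3t2b Module LieAlgebra PrimeSpectrum

section Pi

variable (A : Type u) [CommRing A] {κ : Type u} [Fintype κ]
  (C : κ → Type u) [∀ k, CommRing (C k)] [∀ k, Algebra A (C k)]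

theorem faithfullyFlat_pi' [∀ k, Module.Flat A (C k)]
    (hsurj : ∀ p : PrimeSpectrum A, ∃ k, p ∈ Set.range (PrimeSpectrum.comap (algebraMap A (C k)))) :
    Module.FaithfullyFlat A (∀ k, C k) := by
  have : Module.Flat A (∀ k, C k) :=
    Module.Flat.of_linearEquiv (DFinsupp.linearEquivFunOnFintype (R := A) (M := C)).symm
  refine Module.FaithfullyFlat.of_comap_surjective (fun p => ?_)
  obtain ⟨k, q, hq⟩ := hsurj p
  refine ⟨PrimeSpectrum.comap (Pi.evalRingHom C k) q, ?_⟩
  rw [← hq, ← PrimeSpectrum.comap_comp_apply]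
  rfl

end Pi

section Main

variable {A : Type u} [CommRing A] {L : Type u} [LieRing L] [LieAlgebra A L]
  [Module.Finite A L] [Module.Projective A L]

/-- A regular element in the fibre at `p` gives a section regular on a basic open neighbourhood. -/
lemma exists_section_regular_on_basicOpen
    (hC0 : ∀ p : PrimeSpectrum A, ∃ f : A, f ∉ p.asIdeal ∧ ∀ q : PrimeSpectrum A, f ∉ q.asIdeal →
        LieAlgebra.rank q.asIdeal.ResidueField (q.asIdeal.ResidueField ⊗[A] L) =
          LieAlgebra.rank p.asIdeal.ResidueField (p.asIdeal.ResidueField ⊗[A] L))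
    (p : PrimeSpectrum A)
    (hp : ∃ x : p.asIdeal.ResidueField ⊗[A] L, LieAlgebra.IsRegular p.asIdeal.ResidueField x) :
    ∃ f : A, f ∉ p.asIdeal ∧ ∃ a : L, ∀ q : PrimeSpectrum A, f ∉ q.asIdeal →
      LieAlgebra.IsRegular q.asIdeal.ResidueField ((1 : q.asIdeal.ResidueField) ⊗ₜ[A] a) := by
  obtain ⟨a, ha⟩ := exists_section_isRegular p hp
  have hopen := isOpen_setOf_fibre_isRegular hC0 a
  obtain ⟨_, ⟨f, rfl⟩, hpf, hsub⟩ :=
    PrimeSpectrum.isTopologicalBasis_basic_opens.exists_subset_of_mem_open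
      (show p ∈ {p : PrimeSpectrum A | LieAlgebra.IsRegular p.asIdeal.ResidueField
        ((1 : p.asIdeal.ResidueField) ⊗ₜ[A] a)} from ha) hopen
  exact ⟨f, hpf, a, fun q hq => hsub hq⟩

/-- Sections `a k` regular on `D(f k)` glue to a quasi-regular element of `(Π A_{f k}) ⊗ L`. -/
lemma isQuasiRegular_pi_away {κ : Type u} [Fintype κ] [DecidableEq κ] (f : κ → A) (a : κ → L)
    (h : ∀ k, ∀ q : PrimeSpectrum A, f k ∉ q.asIdeal →
      LieAlgebra.IsRegular q.asIdeal.ResidueField ((1 : q.asIdeal.ResidueField) ⊗ₜ[A] a k)) :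
    IsQuasiRegular (∀ k, Localization.Away (f k)) ((∀ k, Localization.Away (f k)) ⊗[A] L)
      (∑ k, (Pi.single k (1 : Localization.Away (f k)) : ∀ k, Localization.Away (f k)) ⊗ₜ[A] a k) := by
  intro q'
  set e : κ → (∀ k, Localization.Away (f k)) := fun k => Pi.single k 1 with he
  have hsum : ∑ k, e k = 1 := Finset.univ_sum_single (1 : ∀ k, Localization.Away (f k))
  obtain ⟨j, hj⟩ : ∃ j, e j ∉ q'.asIdeal := by
    by_contra hcon
    push Not at hcon
    have : (1 : ∀ k, Localization.Away (f k)) ∈ q'.asIdeal := by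
      rw [← hsum]; exact Ideal.sum_mem _ (fun k _ => hcon k)
    exact q'.2.ne_top ((Ideal.eq_top_iff_one _).mpr this)
  have hk : ∀ k, k ≠ j → e k ∈ q'.asIdeal := by
    intro k hkj
    have h0 : e j * e k = 0 := by
      ext i
      simp only [he, Pi.mul_apply, Pi.zero_apply]
      by_cases hij : i = j
      · subst hij
        rw [Pi.single_eq_of_ne (Ne.symm hkj), mul_zero]
      · rw [Pi.single_eq_of_ne hij, zero_mul]
    have h1 : e j * e k ∈ q'.asIdeal := by rw [h0]; exact Ideal.zero_mem _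
    exact (q'.2.mem_or_mem h1).resolve_left hj
  have hκ0 : ∀ k, k ≠ j → algebraMap (∀ k, Localization.Away (f k)) q'.asIdeal.ResidueField (e k) = 0 :=
    fun k hkj => Ideal.algebraMap_residueField_eq_zero.mpr (hk k hkj)
  have hκ1 : algebraMap (∀ k, Localization.Away (f k)) q'.asIdeal.ResidueField (e j) = 1 := by
    have h1 := congrArg (algebraMap (∀ k, Localization.Away (f k)) q'.asIdeal.ResidueField) hsum
    rw [map_sum, map_one, Finset.sum_eq_single j (fun k _ hkj => hκ0 k hkj)
      (fun hj' => absurd (Finset.mem_univ j) hj')] at h1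
    exact h1
  have key : (1 : q'.asIdeal.ResidueField) ⊗ₜ[∀ k, Localization.Away (f k)]
        (∑ k, e k ⊗ₜ[A] a k) =
      (1 : q'.asIdeal.ResidueField) ⊗ₜ[∀ k, Localization.Away (f k)]
        ((1 : ∀ k, Localization.Away (f k)) ⊗ₜ[A] a j) := by
    rw [TensorProduct.tmul_sum]
    have hterm : ∀ k, (1 : q'.asIdeal.ResidueField) ⊗ₜ[∀ k, Localization.Away (f k)]
        (e k ⊗ₜ[A] a k) = (algebraMap (∀ k, Localization.Away (f k)) q'.asIdeal.ResidueField (e k))
          ⊗ₜ[∀ k, Localization.Away (f k)] ((1 : ∀ k, Localization.Away (f k)) ⊗ₜ[A] a k) := by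
      intro k
      have h1 : e k ⊗ₜ[A] a k = e k • ((1 : ∀ k, Localization.Away (f k)) ⊗ₜ[A] a k) := by
        rw [TensorProduct.smul_tmul', smul_eq_mul, mul_one]
      rw [h1, ← TensorProduct.smul_tmul, Algebra.smul_def, mul_one]
    rw [Finset.sum_congr rfl (fun k _ => hterm k), Finset.sum_eq_single j]
    · rw [hκ1]
    · intro k _ hkj
      rw [hκ0 k hkj, TensorProduct.zero_tmul]
    · intro hj'
      exact absurd (Finset.mem_univ j) hj'
  show LieAlgebra.IsRegular _ _
  rw [key]
  apply isRegular_fibre_baseChange q'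
  apply h j
  intro hf
  have hf' : algebraMap A (∀ k, Localization.Away (f k)) (f j) ∈ q'.asIdeal := hf
  have hu : (Pi.single j (IsLocalization.Away.invSelf (S := Localization.Away (f j)) (f j)) :
      ∀ k, Localization.Away (f k)) * algebraMap A (∀ k, Localization.Away (f k)) (f j) = e j := by
    ext i
    simp only [he, Pi.mul_apply, Pi.algebraMap_apply]
    by_cases hij : i = j
    · subst hij
      rw [Pi.single_eq_same, Pi.single_eq_same, mul_comm]
      exact IsLocalization.Away.mul_invSelf (f i)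
    · rw [Pi.single_eq_of_ne hij, Pi.single_eq_of_ne hij, zero_mul]
  exact hj (hu ▸ Ideal.mul_mem_left _ _ hf')

/-- S8377. -/
theorem exists_cartanRel_etaleLocally
    (hC2 : ((∀ p : PrimeSpectrum A, ∃ f : A, f ∉ p.asIdeal ∧ ∀ q : PrimeSpectrum A, f ∉ q.asIdeal →
        LieAlgebra.rank q.asIdeal.ResidueField (q.asIdeal.ResidueField ⊗[A] L) =
          LieAlgebra.rank p.asIdeal.ResidueField (p.asIdeal.ResidueField ⊗[A] L)) ∧
      ∀ (A' : Type u) [CommRing A'] [Algebra A A'] (a' : A' ⊗[A] L),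
        IsQuasiRegular A' (A' ⊗[A] L) a' → IsRegularRel A' (A' ⊗[A] L) a'))
    (hreg : ∀ p : PrimeSpectrum A, ∃ x : p.asIdeal.ResidueField ⊗[A] L,
      LieAlgebra.IsRegular p.asIdeal.ResidueField x) :
    ∃ (A' : Type u) (_ : CommRing A') (_ : Algebra A A'), Algebra.Etale A A' ∧
      Module.FaithfullyFlat A A' ∧ ∃ H : LieSubalgebra A' (A' ⊗[A] L), IsCartanRel H := by
  classical
  set S : Set A := {f | ∃ a : L, ∀ q : PrimeSpectrum A, f ∉ q.asIdeal →
    LieAlgebra.IsRegular q.asIdeal.ResidueField ((1 : q.asIdeal.ResidueField) ⊗ₜ[A] a)} with hSdef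
  have hS : Ideal.span S = ⊤ := by
    by_contra hne
    obtain ⟨m, hm, hle⟩ := Ideal.exists_le_maximal _ hne
    obtain ⟨f, hf, a, ha⟩ :=
      exists_section_regular_on_basicOpen hC2.1 ⟨m, hm.isPrime⟩ (hreg _)
    exact hf (hle (Ideal.subset_span ⟨a, ha⟩))
  obtain ⟨s', hs'S, hs'⟩ := (Ideal.span_eq_top_iff_finite S).mp hS
  have hch : ∀ k : s', ∃ a : L, ∀ q : PrimeSpectrum A, (k : A) ∉ q.asIdeal →
      LieAlgebra.IsRegular q.asIdeal.ResidueField ((1 : q.asIdeal.ResidueField) ⊗ₜ[A] a) :=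
    fun k => hs'S k.2
  choose a ha using hch
  let f : s' → A := fun k => k
  refine ⟨∀ k : s', Localization.Away (f k), inferInstance, inferInstance, inferInstance, ?_, ?_⟩
  · apply faithfullyFlat_pi'
    intro p
    have hex : ∃ k : s', (k : A) ∉ p.asIdeal := by
      by_contra hcon
      push Not at hcon
      have hle : Ideal.span (s' : Set A) ≤ p.asIdeal :=
        Ideal.span_le.mpr (fun x hx => hcon ⟨x, hx⟩)
      rw [hs'] at hle
      exact p.2.ne_top (top_le_iff.mp hle)
    obtain ⟨k, hk⟩ := hex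
    refine ⟨k, ?_⟩
    rw [PrimeSpectrum.localization_away_comap_range (Localization.Away (f k)) (f k)]
    exact hk
  · have hq := isQuasiRegular_pi_away f a (fun k q hq => ha k q hq)
    obtain ⟨-, H, hH, -⟩ := hC2.2 _ _ hq
    exact ⟨H, hH⟩

end Main

end Groth.Agent.Lib.T2H8.CartanRel
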