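import Groth.Agent.Lib.T2H8CartanRelJ

/-!
# Relative Cartan subalgebras, part K: a relative Cartan subalgebra is locally the Engel
subalgebra of a regular section (SGA3 XIV, S8374)

* `exists_isRegular_mem_of_isCartanSubalgebra`: over a large enough field, a nilpotent
  self-normalizing subalgebra of dimension the rank is `Nil(x)` for a regular `x` in it
  (via Mathlib's `LieAlgebra.engel_isBot_of_isMin`, Barnes' lemma).
* `exists_pow_smul_mem_of_forall_baseChange_eq_top`, `exists_pow_smul_mem_of_pow_apply_eq_zero`: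
  localized Nakayama-type lemmas over `D(f)`.
* `fibreLieSubalgebra`, `fibreLieSubalgebra_isCartanSubalgebra`.
* `exists_regular_section_of_isCartanRel`: S8374.
-/

set_option autoImplicit false
universe u

namespace Groth.Agent.Lib.T2H8.CartanRel

open scoped TensorProduct
open SGA3t2b Module LieAlgebra PrimeSpectrum

section Field

variable {K : Type u} [Field K] {V : Type u} [LieRing V] [LieAlgebra K V] [Module.Finite K V]

/-- A nilpotent subalgebra lies in the Engel subalgebra of each of its elements. -/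
lemma le_engel_of_isNilpotent (N : LieSubalgebra K V) [LieRing.IsNilpotent N] {x : V} (hx : x ∈ N) :
    N ≤ LieSubalgebra.engel K x := by
  intro y hy
  obtain ⟨k, hk⟩ := LieAlgebra.nilpotent_ad_of_nilpotent_algebra K N
  rw [LieSubalgebra.mem_engel_iff]
  refine ⟨k, ?_⟩
  have h1 : ((LieAlgebra.ad K N ⟨x, hx⟩) ^ k) ⟨y, hy⟩ = 0 := by rw [hk]; rfl
  have h2 := LieSubalgebra.coe_ad_pow (R := K) (L := V) N ⟨x, hx⟩ ⟨y, hy⟩ k
  rw [h1] at h2
  exact h2.symm

/-- A Cartan subalgebra (nilpotent, self-normalizing) of dimension the rank, over a large enough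
field, is the Engel subalgebra of a regular element it contains. -/
theorem exists_isRegular_mem_of_isCartanSubalgebra
    (hVK : (Module.finrank K V : Cardinal) ≤ Cardinal.mk K) (N : LieSubalgebra K V)
    [N.IsCartanSubalgebra] (hN : Module.finrank K N = LieAlgebra.rank K V) :
    ∃ x ∈ N, LieAlgebra.IsRegular K x ∧ N = LieSubalgebra.engel K x := by
  classical
  let S : Set ℕ := {n | ∃ x ∈ N, Module.finrank K (LieSubalgebra.engel K x) = n}
  have hS : S.Nonempty := ⟨_, 0, N.zero_mem, rfl⟩
  obtain ⟨x₀, hx₀, hx₀n⟩ := Nat.sInf_mem hS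
  have hmin : ∀ y ∈ N, Module.finrank K (LieSubalgebra.engel K x₀) ≤
      Module.finrank K (LieSubalgebra.engel K y) := by
    intro y hy
    rw [hx₀n]
    exact Nat.sInf_le ⟨y, hy, rfl⟩
  have hbot : IsBot (⟨LieSubalgebra.engel K x₀, x₀, hx₀, rfl⟩ :
      {E | ∃ x ∈ N, LieSubalgebra.engel K x = E}) := by
    apply LieAlgebra.engel_isBot_of_isMin hVK N _ (le_engel_of_isNilpotent N hx₀)
    rintro ⟨_, y, hy, rfl⟩ hyx
    have hle : LieSubalgebra.engel K y ≤ LieSubalgebra.engel K x₀ := hyx
    have : LieSubalgebra.engel K y = LieSubalgebra.engel K x₀ := by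
      apply LieSubalgebra.toSubmodule_injective
      exact Submodule.eq_of_le_of_finrank_le hle (hmin y hy)
    exact this.ge
  have hle : LieSubalgebra.engel K x₀ ≤ N := by
    intro z hz
    rw [← LieAlgebra.zeroRootSubalgebra_eq_of_is_cartan K V N, LieAlgebra.mem_zeroRootSubalgebra]
    intro y
    have h1 : LieSubalgebra.engel K x₀ ≤ LieSubalgebra.engel K (y : V) :=
      @hbot ⟨LieSubalgebra.engel K (y : V), y, y.2, rfl⟩
    obtain ⟨k, hk⟩ := (LieSubalgebra.mem_engel_iff K (y : V) z).mp (h1 hz)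
    refine ⟨k, ?_⟩
    have : LieModule.toEnd K N V y = LieAlgebra.ad K V (y : V) := by
      ext v; rfl
    rw [this, hk]
  have heq : N = LieSubalgebra.engel K x₀ := le_antisymm (le_engel_of_isNilpotent N hx₀) hle
  refine ⟨x₀, hx₀, ?_, heq⟩
  rw [LieAlgebra.isRegular_iff_finrank_engel_eq_rank, ← hN, heq]

end Field


open scoped TensorProduct

section Mod

variable {R : Type u} [CommRing R] {M : Type u} [AddCommGroup M] [Module R M]

/-- If the base change of `N` is everything, the base change of the quotient is trivial. -/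
lemma subsingleton_tensor_quotient_of_baseChange_eq_top (K : Type u) [CommRing K] [Algebra R K]
    (N : Submodule R M) (h : N.baseChange K = ⊤) : Subsingleton (K ⊗[R] (M ⧸ N)) := by
  have hsurj : Function.Surjective (N.mkQ.baseChange K) := by
    rw [LinearMap.baseChange_eq_ltensor]
    exact LinearMap.lTensor_surjective _ N.mkQ_surjective
  have hzero : ∀ w, N.mkQ.baseChange K w = 0 := by
    intro w
    have hw : w ∈ N.baseChange K := h ▸ Submodule.mem_top
    obtain ⟨v, rfl⟩ := hw
    rw [← LinearMap.comp_apply, ← LinearMap.baseChange_comp]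
    have : N.mkQ ∘ₗ N.subtype = 0 := by
      ext x; simp
    rw [this, LinearMap.baseChange_zero, LinearMap.zero_apply]
  refine ⟨fun a b => ?_⟩
  obtain ⟨a', rfl⟩ := hsurj a
  obtain ⟨b', rfl⟩ := hsurj b
  rw [hzero, hzero]

/-- A submodule of a finitely generated module whose fibres over `D(f)` are everything contains
`f ^ n • M` for some `n`. -/
theorem exists_pow_smul_mem_of_forall_baseChange_eq_top [Module.Finite R M] (N : Submodule R M)
    (f : R)
    (h : ∀ q : PrimeSpectrum R, f ∉ q.asIdeal → N.baseChange q.asIdeal.ResidueField = ⊤) :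
    ∃ n : ℕ, ∀ m : M, f ^ n • m ∈ N := by
  have hsupp : Module.support R (M ⧸ N) ⊆ PrimeSpectrum.zeroLocus {f} := by
    intro q hq
    by_contra hfq
    have hfq' : f ∉ q.asIdeal := by
      intro hmem; apply hfq
      simpa [PrimeSpectrum.mem_zeroLocus] using hmem
    rw [Module.mem_support_iff_nontrivial_residueField_tensorProduct] at hq
    rw [← not_subsingleton_iff_nontrivial] at hq
    exact hq (subsingleton_tensor_quotient_of_baseChange_eq_top _ N (h q hfq'))
  rw [Module.support_eq_zeroLocus, ← PrimeSpectrum.zeroLocus_span {f},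
    PrimeSpectrum.zeroLocus_subset_zeroLocus_iff] at hsupp
  have hf : f ∈ (Module.annihilator R (M ⧸ N)).radical := hsupp (Ideal.subset_span rfl)
  obtain ⟨n, hn⟩ := hf
  refine ⟨n, fun m => ?_⟩
  have h1 := Module.mem_annihilator.mp hn (N.mkQ m)
  rw [← map_smul, Submodule.mkQ_apply, Submodule.Quotient.mk_eq_zero] at h1
  exact h1

/-- Localized version of `mem_of_pow_apply_eq_zero`: if `S` is `φ`-stable and
`f ^ n • M ⊆ S + range φ`, then every element killed by a power of `φ` is carried into `S` by a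
power of `f`. -/
theorem exists_pow_smul_mem_of_pow_apply_eq_zero [Module.Finite R M] (φ : M →ₗ[R] M)
    (S : Submodule R M) (hS : S ≤ S.comap φ) (f : R) (n : ℕ)
    (hsup : ∀ m : M, f ^ n • m ∈ S ⊔ LinearMap.range φ) :
    ∀ (k : ℕ) (y : M), (φ ^ k) y = 0 → ∃ m : ℕ, f ^ m • y ∈ S := by
  intro k y hy
  set B := Localization.Away f with hB
  set φ' : B ⊗[R] M →ₗ[B] B ⊗[R] M := φ.baseChange B with hφ'
  set S' : Submodule B (B ⊗[R] M) := S.baseChange B with hS'def
  have hS' : S' ≤ S'.comap φ' := by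
    rw [hS'def, Submodule.baseChange_eq_span, Submodule.span_le]
    rintro _ ⟨s, hs, rfl⟩
    simp only [SetLike.mem_coe, Submodule.mem_comap]
    rw [TensorProduct.mk_apply, hφ', LinearMap.baseChange_tmul, ← Submodule.baseChange_eq_span]
    exact Submodule.tmul_mem_baseChange_of_mem 1 (hS hs)
  have hu : IsUnit (algebraMap R B (f ^ n)) := by
    rw [map_pow]
    exact (IsLocalization.Away.algebraMap_isUnit f).pow n
  obtain ⟨u, hu'⟩ := hu
  have hsup' : S' ⊔ LinearMap.range φ' = ⊤ := by
    rw [eq_top_iff]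
    intro w _
    induction w using TensorProduct.induction_on with
    | zero => exact Submodule.zero_mem _
    | tmul b m =>
      have h1 : b ⊗ₜ[R] m = (b * (↑u⁻¹ : B)) ⊗ₜ[R] (f ^ n • m) := by
        rw [TensorProduct.tmul_smul, TensorProduct.smul_tmul', Algebra.smul_def, ← hu']
        congr 1
        rw [mul_comm b, ← mul_assoc, Units.mul_inv, one_mul]
      obtain ⟨s, hs, t, ⟨z, rfl⟩, hst⟩ := Submodule.mem_sup.mp (hsup m)
      rw [h1, ← hst, TensorProduct.tmul_add]
      refine Submodule.add_mem _ (Submodule.mem_sup_left ?_) (Submodule.mem_sup_right ?_)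
      · exact Submodule.tmul_mem_baseChange_of_mem _ hs
      · exact ⟨(b * (↑u⁻¹ : B)) ⊗ₜ[R] z, by rw [hφ', LinearMap.baseChange_tmul]⟩
    | add w₁ w₂ h₁ h₂ => exact Submodule.add_mem _ (h₁ trivial) (h₂ trivial)
  have hk : (φ' ^ k) ((1 : B) ⊗ₜ[R] y) = 0 := by
    rw [hφ', ← LinearMap.baseChange_pow, LinearMap.baseChange_tmul, hy, TensorProduct.tmul_zero]
  have hmem : (1 : B) ⊗ₜ[R] y ∈ S' := mem_of_pow_apply_eq_zero φ' S' hS' hsup' k _ hk
  have hzero : (1 : B) ⊗ₜ[R] (S.mkQ y) = 0 := by
    obtain ⟨v, hv⟩ := hmem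
    have h2 : (S.mkQ.baseChange B) ((S.subtype.baseChange B) v) = 0 := by
      rw [← LinearMap.comp_apply, ← LinearMap.baseChange_comp]
      have : S.mkQ ∘ₗ S.subtype = 0 := by
        ext x; simp
      rw [this, LinearMap.baseChange_zero, LinearMap.zero_apply]
    rw [hv, LinearMap.baseChange_tmul] at h2
    exact h2
  have hloc : IsLocalizedModule (Submonoid.powers f) (TensorProduct.mk R B (M ⧸ S) 1) :=
    IsLocalization.tensorProduct_isLocalizedModule _ _
  obtain ⟨⟨c, m, rfl⟩, hc⟩ := hloc.exists_of_eq (x₁ := S.mkQ y) (x₂ := 0) (by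
    rw [TensorProduct.mk_apply, TensorProduct.mk_apply, hzero, TensorProduct.tmul_zero])
  refine ⟨m, ?_⟩
  have h3 : f ^ m • S.mkQ y = 0 := by
    rw [smul_zero] at hc
    exact hc
  rw [← map_smul, Submodule.mkQ_apply, Submodule.Quotient.mk_eq_zero] at h3
  exact h3

end Mod


open scoped TensorProduct
open SGA3t2b Module LieAlgebra PrimeSpectrum

section Ring

variable {A : Type u} [CommRing A] {L : Type u} [LieRing L] [LieAlgebra A L]

/-- The fibre of a Lie subalgebra, as a Lie subalgebra of the fibre. -/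
noncomputable def fibreLieSubalgebra (p : PrimeSpectrum A) (H : LieSubalgebra A L) :
    LieSubalgebra p.asIdeal.ResidueField (p.asIdeal.ResidueField ⊗[A] L) :=
  { fibreSubmodule p H with
    lie_mem' := by
      intro x y hx hy
      have hx' : ∃ s, inclBC p.asIdeal.ResidueField H s = x := hx
      have hy' : ∃ s, inclBC p.asIdeal.ResidueField H s = y := hy
      obtain ⟨s, rfl⟩ := hx'
      obtain ⟨t, rfl⟩ := hy'
      exact ⟨⁅s, t⁆, inclBC_lie _ _ s t⟩ }

lemma mem_fibreLieSubalgebra (p : PrimeSpectrum A) (H : LieSubalgebra A L)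
    (x : p.asIdeal.ResidueField ⊗[A] L) :
    x ∈ fibreLieSubalgebra p H ↔ x ∈ fibreSubmodule p H := Iff.rfl

lemma mem_fibreLieSubalgebra_iff (p : PrimeSpectrum A) (H : LieSubalgebra A L)
    (x : p.asIdeal.ResidueField ⊗[A] L) :
    x ∈ fibreLieSubalgebra p H ↔ ∃ s, inclBC p.asIdeal.ResidueField H s = x := Iff.rfl

variable [Module.Finite A L]

/-- The fibre of a relative Cartan subalgebra is a Cartan subalgebra. -/
lemma fibreLieSubalgebra_isCartanSubalgebra (H : LieSubalgebra A L) (hH : IsCartanRel H)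
    (p : PrimeSpectrum A) : (fibreLieSubalgebra p H).IsCartanSubalgebra := by
  haveI : LieRing.IsNilpotent (p.asIdeal.ResidueField ⊗[A] H) := (hH.2 p).1
  refine ⟨?_, ?_⟩
  · apply LieSubalgebra.isNilpotent_of_forall_le_engel
    rintro _ ⟨s, rfl⟩ _ ⟨t, rfl⟩
    obtain ⟨k, hk⟩ := LieAlgebra.nilpotent_ad_of_nilpotent_algebra p.asIdeal.ResidueField
      (p.asIdeal.ResidueField ⊗[A] H)
    rw [LieSubalgebra.mem_engel_iff]
    refine ⟨k, ?_⟩
    have := inclBC_ad_pow p.asIdeal.ResidueField H s t k
    rw [hk, LinearMap.zero_apply, map_zero] at this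
    exact this.symm
  · apply le_antisymm
    · intro x hx
      rw [LieSubalgebra.mem_normalizer_iff] at hx
      exact (hH.2 p).2.1 x (fun y hy => hx y hy)
    · exact LieSubalgebra.le_normalizer _

omit [Module.Finite A L] in
/-- The fibre of `H + [a, L]` is everything as soon as `H(q) + [1 ⊗ a, L(q)]` is. -/
lemma baseChange_sup_range_ad_eq_top (H : LieSubalgebra A L) (a : L) (q : PrimeSpectrum A)
    (h : fibreSubmodule q H ⊔
      LinearMap.range (LieAlgebra.ad q.asIdeal.ResidueField (q.asIdeal.ResidueField ⊗[A] L)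
        ((1 : q.asIdeal.ResidueField) ⊗ₜ[A] a)) = ⊤) :
    (H.toSubmodule ⊔ LinearMap.range (LieAlgebra.ad A L a)).baseChange q.asIdeal.ResidueField
      = ⊤ := by
  rw [eq_top_iff, ← h]
  apply sup_le
  · exact Submodule.baseChange_mono _ le_sup_left
  · rintro _ ⟨w, rfl⟩
    induction w using TensorProduct.induction_on with
    | zero => rw [map_zero]; exact Submodule.zero_mem _
    | tmul c l =>
      rw [LieAlgebra.ad_apply, LieAlgebra.ExtendScalars.bracket_tmul, one_mul]
      exact Submodule.tmul_mem_baseChange_of_mem c (Submodule.mem_sup_right ⟨l, rfl⟩)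
    | add w₁ w₂ h₁ h₂ => rw [map_add]; exact Submodule.add_mem _ h₁ h₂

variable [Module.Projective A L]

/-- S8374: a relative Cartan subalgebra is, locally around a point with infinite residue field,
the Engel subalgebra of a regular section. -/
theorem exists_regular_section_of_isCartanRel (H : LieSubalgebra A L) (hH : IsCartanRel H)
    (p : PrimeSpectrum A) (hp : Infinite p.asIdeal.ResidueField) :
    ∃ f : A, f ∉ p.asIdeal ∧ ∃ a : L, a ∈ H ∧
      (∀ q : PrimeSpectrum A, f ∉ q.asIdeal →
        LieAlgebra.IsRegular q.asIdeal.ResidueField ((1 : q.asIdeal.ResidueField) ⊗ₜ[A] a)) ∧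
      H ≤ LieSubalgebra.engel A a ∧
      ∀ y : L, y ∈ LieSubalgebra.engel A a → ∃ n : ℕ, f ^ n • y ∈ H := by
  haveI := hH.1
  haveI : Module.Finite A H := finite_of_projective_quotient H.toSubmodule
  haveI : Module.Projective A H := by
    obtain ⟨r, hr⟩ := exists_retraction_of_projective_quotient H.toSubmodule
    exact Module.Projective.of_split H.toSubmodule.subtype r hr
  haveI : Module.FinitePresentation A H := Module.finitePresentation_of_projective A H
  -- a regular element in the fibre of `H` at `p`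
  haveI := fibreLieSubalgebra_isCartanSubalgebra H hH p
  have hcard : (Module.finrank p.asIdeal.ResidueField (p.asIdeal.ResidueField ⊗[A] L) : Cardinal)
      ≤ Cardinal.mk p.asIdeal.ResidueField :=
    (Cardinal.natCast_le_aleph0).trans (Cardinal.infinite_iff.mp hp)
  obtain ⟨x₀, hx₀, hreg, -⟩ := exists_isRegular_mem_of_isCartanSubalgebra hcard
    (fibreLieSubalgebra p H) (hH.2 p).2.2
  obtain ⟨s, rfl⟩ := (mem_fibreLieSubalgebra_iff p H x₀).mp hx₀
  obtain ⟨t, ht, b, hb⟩ := exists_smul_eq_one_tmul p s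
  have ha_reg : LieAlgebra.IsRegular p.asIdeal.ResidueField
      ((1 : p.asIdeal.ResidueField) ⊗ₜ[A] (b : L)) := by
    have h1 : (1 : p.asIdeal.ResidueField) ⊗ₜ[A] (b : L) =
        algebraMap A p.asIdeal.ResidueField t • inclBC p.asIdeal.ResidueField H s := by
      rw [← map_smul, hb, inclBC_tmul]
    rw [h1]
    refine isRegular_smul ?_ hreg
    intro h
    exact ht (Ideal.algebraMap_residueField_eq_zero.mp h)
  -- the rank is locally constant
  have hC0 : ∀ p : PrimeSpectrum A, ∃ f : A, f ∉ p.asIdeal ∧ ∀ q : PrimeSpectrum A,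
      f ∉ q.asIdeal →
        LieAlgebra.rank q.asIdeal.ResidueField (q.asIdeal.ResidueField ⊗[A] L) =
          LieAlgebra.rank p.asIdeal.ResidueField (p.asIdeal.ResidueField ⊗[A] L) := by
    intro p
    have hlc := Module.isLocallyConstant_rankAtStalk (R := A) (M := H)
    obtain ⟨_, ⟨f, rfl⟩, hpf, hsub⟩ :=
      PrimeSpectrum.isTopologicalBasis_basic_opens.exists_subset_of_mem_open
        (show p ∈ (Module.rankAtStalk (R := A) H) ⁻¹' {Module.rankAtStalk (R := A) H p} from rfl)
        (hlc.isOpen_fiber _)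
    refine ⟨f, hpf, fun q hq => ?_⟩
    rw [rank_fibre_eq_rankAtStalk H hH q, rank_fibre_eq_rankAtStalk H hH p]
    exact hsub hq
  have hopen := isOpen_setOf_fibre_isRegular hC0 (b : L)
  obtain ⟨_, ⟨f, rfl⟩, hpf, hsub⟩ :=
    PrimeSpectrum.isTopologicalBasis_basic_opens.exists_subset_of_mem_open
      (show p ∈ {p : PrimeSpectrum A | LieAlgebra.IsRegular p.asIdeal.ResidueField
        ((1 : p.asIdeal.ResidueField) ⊗ₜ[A] (b : L))} from ha_reg) hopen
  have hnil : LieRing.IsNilpotent H :=
    Groth.Agent.Lib.T1H4.FibNilp.isNilpotent_of_fibres (fun p => (hH.2 p).1)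
  have hle : H ≤ LieSubalgebra.engel A (b : L) := by
    intro h hh
    obtain ⟨k, hk⟩ := LieAlgebra.nilpotent_ad_of_nilpotent_algebra A H
    rw [LieSubalgebra.mem_engel_iff]
    refine ⟨k, ?_⟩
    have h1 : ((LieAlgebra.ad A H b) ^ k) ⟨h, hh⟩ = 0 := by
      rw [hk]; rfl
    have h2 := LieSubalgebra.coe_ad_pow (R := A) (L := L) H b ⟨h, hh⟩ k
    rw [h1] at h2
    exact h2.symm
  refine ⟨f, hpf, (b : L), b.2, fun q hq => hsub hq, hle, ?_⟩
  intro y hy
  obtain ⟨k, hk⟩ := (LieSubalgebra.mem_engel_iff A _ y).mp hy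
  have hfib : ∀ q : PrimeSpectrum A, f ∉ q.asIdeal →
      (H.toSubmodule ⊔ LinearMap.range (LieAlgebra.ad A L (b : L))).baseChange
        q.asIdeal.ResidueField = ⊤ := by
    intro q hq
    apply baseChange_sup_range_ad_eq_top
    have hreg_q : LieAlgebra.IsRegular q.asIdeal.ResidueField
        ((1 : q.asIdeal.ResidueField) ⊗ₜ[A] (b : L)) := hsub hq
    rw [eq_engel_of_le_of_finrank_eq hreg_q _ (fibreSubmodule_le_engel q H (b : L) hle)
      (hH.2 q).2.2]
    exact engel_sup_range_ad_eq_top _
  obtain ⟨n, hn⟩ := exists_pow_smul_mem_of_forall_baseChange_eq_top _ f hfib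
  exact exists_pow_smul_mem_of_pow_apply_eq_zero (LieAlgebra.ad A L (b : L)) H.toSubmodule
    (fun h hh => H.lie_mem b.2 hh) f n hn k y hk

end Ring

end Groth.Agent.Lib.T2H8.CartanRel
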