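import Mathlib

/-!
# Relative Cartan subalgebras, part L: Fitting decomposition from local factorizations of an
annihilating polynomial (Mathlib only)

* `exists_add_of_local_factorization`, `eq_zero_of_local_factorization`: if an endomorphism `φ`
  of a module over `C` is, locally around every prime `q` of `C`, annihilated by `X ^ N * Q` with
  `Q(0) ∉ q`, then the module is the direct sum of the generalized kernel of `φ` and the range of
  a large power of `φ`.
* `C_mul_eq_X_pow_mul`: polynomials whose low coefficients are killed by `g`.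
* `aeval_charpoly_of_retraction`: Cayley–Hamilton for an endomorphism of a retract of a finite free
  module.
-/

set_option autoImplicit false

namespace Groth.Agent.Lib.T2H8.CartanRel

open Polynomial

section Alg

variable {C : Type*} [CommRing C]

/-- `u ^ k = Q * G + X ^ k * (- divX Q) ^ k` where `u = Q(0)`. -/
lemma exists_C_pow_eq (Q : C[X]) (k : ℕ) :
    ∃ G : C[X], Polynomial.C (Q.coeff 0 ^ k) = Q * G + X ^ k * (-Q.divX) ^ k := by
  obtain ⟨G, hG⟩ := sub_dvd_pow_sub_pow (Polynomial.C (Q.coeff 0)) (-(X * Q.divX)) k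
  refine ⟨G, ?_⟩
  have h1 : Polynomial.C (Q.coeff 0) - -(X * Q.divX) = Q := by
    conv_rhs => rw [← Polynomial.divX_mul_X_add Q]
    ring
  rw [h1] at hG
  rw [← hG, map_pow]
  ring

variable {M : Type*} [AddCommGroup M] [Module C M] (φ : M →ₗ[C] M)

lemma aeval_X_pow_mul_apply (N : ℕ) (P : C[X]) (w : M) :
    aeval φ (X ^ N * P) w = (φ ^ N) (aeval φ P w) := by
  rw [map_mul, map_pow, aeval_X, Module.End.mul_apply]

lemma aeval_mul_X_pow_apply (N : ℕ) (P : C[X]) (w : M) :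
    aeval φ (P * X ^ N) w = aeval φ P ((φ ^ N) w) := by
  rw [map_mul, map_pow, aeval_X, Module.End.mul_apply]

lemma aeval_mul_apply (P Q : C[X]) (w : M) :
    aeval φ (P * Q) w = aeval φ P (aeval φ Q w) := by
  rw [map_mul, Module.End.mul_apply]

lemma smul_eq_of_C_eq {c : C} {P : C[X]} (h : Polynomial.C c = P) (w : M) :
    c • w = aeval φ P w := by
  rw [← h, aeval_C, Module.algebraMap_end_apply]

/-- Fitting decomposition from local factorizations of an annihilating polynomial, I: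
generalized kernel plus range of a power is everything. -/
theorem exists_add_of_local_factorization (n₀ : ℕ)
    (hloc : ∀ q : PrimeSpectrum C, ∃ N : ℕ, ∃ Q : C[X],
      aeval φ (X ^ N * Q) = 0 ∧ Q.coeff 0 ∉ q.asIdeal) (w : M) :
    ∃ k v : M, (∃ m : ℕ, (φ ^ m) k = 0) ∧ w = k + (φ ^ n₀) v := by
  let I : Ideal C :=
    { carrier := {c | ∃ k v : M, (∃ m : ℕ, (φ ^ m) k = 0) ∧ c • w = k + (φ ^ n₀) v}
      add_mem' := by
        rintro c d ⟨k₁, v₁, ⟨m₁, h₁⟩, e₁⟩ ⟨k₂, v₂, ⟨m₂, h₂⟩, e₂⟩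
        refine ⟨k₁ + k₂, v₁ + v₂, ⟨m₁ + m₂, ?_⟩, ?_⟩
        · rw [map_add]
          have a1 : (φ ^ (m₁ + m₂)) k₁ = 0 := by
            rw [add_comm, pow_add, Module.End.mul_apply, h₁, map_zero]
          have a2 : (φ ^ (m₁ + m₂)) k₂ = 0 := by
            rw [pow_add, Module.End.mul_apply, h₂, map_zero]
          rw [a1, a2, add_zero]
        · rw [add_smul, e₁, e₂, map_add]; abel
      zero_mem' := ⟨0, 0, ⟨0, by simp⟩, by simp⟩
      smul_mem' := by
        rintro c d ⟨k, v, ⟨m, h⟩, e⟩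
        refine ⟨c • k, c • v, ⟨m, by rw [map_smul, h, smul_zero]⟩, ?_⟩
        rw [smul_eq_mul, mul_smul, e, smul_add, map_smul] }
  suffices h : I = ⊤ by
    have h1 : (1 : C) ∈ I := h ▸ Submodule.mem_top
    obtain ⟨k, v, hk, e⟩ := h1
    rw [one_smul] at e
    exact ⟨k, v, hk, e⟩
  by_contra hI
  obtain ⟨𝔪, hmax, hle⟩ := Ideal.exists_le_maximal I hI
  obtain ⟨N, Q, hQ, hu⟩ := hloc ⟨𝔪, hmax.isPrime⟩
  apply hu
  apply hmax.isPrime.mem_of_pow_mem n₀
  apply hle
  obtain ⟨G, hG⟩ := exists_C_pow_eq Q n₀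
  refine ⟨aeval φ (Q * G) w, aeval φ ((-Q.divX) ^ n₀) w, ⟨N, ?_⟩, ?_⟩
  · rw [← aeval_X_pow_mul_apply, ← mul_assoc, aeval_mul_apply, hQ, LinearMap.zero_apply]
  · rw [smul_eq_of_C_eq φ hG, map_add, LinearMap.add_apply, aeval_X_pow_mul_apply]

/-- Fitting decomposition from local factorizations of an annihilating polynomial, II:
generalized kernel and range of a large power meet trivially. -/
theorem eq_zero_of_local_factorization (n₀ : ℕ)
    (hloc : ∀ q : PrimeSpectrum C, ∃ N : ℕ, N ≤ n₀ ∧ ∃ Q : C[X],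
      aeval φ (X ^ N * Q) = 0 ∧ Q.coeff 0 ∉ q.asIdeal) (w : M)
    (hw : ∃ m : ℕ, (φ ^ m) w = 0) (hw' : ∃ v : M, w = (φ ^ n₀) v) : w = 0 := by
  obtain ⟨m, hm⟩ := hw
  obtain ⟨v, hv⟩ := hw'
  let I : Ideal C := LinearMap.ker (LinearMap.toSpanSingleton C M w)
  suffices h : I = ⊤ by
    have h1 : (1 : C) ∈ I := h ▸ Submodule.mem_top
    have h2 : (1 : C) • w = 0 := by simpa [I] using h1
    rwa [one_smul] at h2
  by_contra hI
  obtain ⟨𝔪, hmax, hle⟩ := Ideal.exists_le_maximal I hI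
  obtain ⟨N, hN, Q, hQ, hu⟩ := hloc ⟨𝔪, hmax.isPrime⟩
  apply hu
  apply hmax.isPrime.mem_of_pow_mem m
  apply hle
  show Q.coeff 0 ^ m ∈ LinearMap.ker (LinearMap.toSpanSingleton C M w)
  rw [LinearMap.mem_ker, LinearMap.toSpanSingleton_apply]
  obtain ⟨G, hG⟩ := exists_C_pow_eq Q m
  rw [smul_eq_of_C_eq φ hG, map_add, LinearMap.add_apply]
  have h3 : aeval φ (Q * G) w = 0 := by
    have e1 : w = aeval φ ((X : C[X]) ^ N * X ^ (n₀ - N)) v := by
      rw [← pow_add, map_pow, aeval_X, hv]; congr 2; omega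
    rw [e1, ← aeval_mul_apply]
    have e2 : Q * G * (X ^ N * X ^ (n₀ - N)) = (G * X ^ (n₀ - N)) * (X ^ N * Q) := by ring
    rw [e2, aeval_mul_apply, hQ, LinearMap.zero_apply, map_zero]
  have h4 : aeval φ (X ^ m * (-Q.divX) ^ m) w = 0 := by
    rw [mul_comm, aeval_mul_X_pow_apply, hm, map_zero]
  rw [h3, h4, add_zero]

end Alg


open Polynomial

section Poly

variable {C : Type*} [CommRing C]

lemma coeff_iterate_divX (p : C[X]) (N j : ℕ) : ((divX^[N]) p).coeff j = p.coeff (j + N) := by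
  induction N generalizing j with
  | zero => simp
  | succ N ih =>
    rw [Function.iterate_succ_apply', Polynomial.coeff_divX, ih]
    congr 1
    omega

/-- If `g` kills the coefficients of `χ` below `N` then `g χ = X ^ N * (g * divX^N χ)`. -/
lemma C_mul_eq_X_pow_mul (g : C) (χ : C[X]) (N : ℕ) (h : ∀ j < N, g * χ.coeff j = 0) :
    Polynomial.C g * χ = X ^ N * (Polynomial.C g * (divX^[N]) χ) := by
  ext j
  rw [Polynomial.coeff_C_mul, Polynomial.coeff_X_pow_mul']
  split_ifs with hj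
  · rw [Polynomial.coeff_C_mul, coeff_iterate_divX]
    congr 2
    omega
  · exact h j (by omega)

end Poly

section CH

variable {C : Type*} [CommRing C] {F M : Type*} [AddCommGroup F] [Module C F]
  [AddCommGroup M] [Module C M] (s : F →ₗ[C] M) (i : M →ₗ[C] F) (ψ : M →ₗ[C] M)

lemma comp_pow_comp (hsi : s ∘ₗ i = LinearMap.id) (k : ℕ) :
    s ∘ₗ ((i ∘ₗ ψ ∘ₗ s) ^ k) ∘ₗ i = ψ ^ k := by
  induction k with
  | zero =>
    rw [pow_zero, pow_zero]
    exact hsi
  | succ k ih =>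
    rw [pow_succ, pow_succ]
    have : s ∘ₗ ((i ∘ₗ ψ ∘ₗ s) ^ k * (i ∘ₗ ψ ∘ₗ s)) ∘ₗ i =
        (s ∘ₗ ((i ∘ₗ ψ ∘ₗ s) ^ k) ∘ₗ i) ∘ₗ ψ ∘ₗ (s ∘ₗ i) := by
      ext x
      simp [Module.End.mul_apply]
    rw [this, ih, hsi, LinearMap.comp_id]
    rfl

lemma aeval_eq_comp_aeval_comp (hsi : s ∘ₗ i = LinearMap.id) (P : C[X]) :
    aeval ψ P = s ∘ₗ (aeval (i ∘ₗ ψ ∘ₗ s) P) ∘ₗ i := by
  induction P using Polynomial.induction_on' with
  | add p q hp hq =>
    rw [map_add, map_add, hp, hq, LinearMap.add_comp, LinearMap.comp_add]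
  | monomial k c =>
    rw [Polynomial.aeval_monomial, Polynomial.aeval_monomial, ← comp_pow_comp s i ψ hsi k]
    ext x
    simp [Module.algebraMap_end_apply]

/-- Cayley–Hamilton through a retraction from a free module. -/
lemma aeval_charpoly_of_retraction [Module.Free C F] [Module.Finite C F]
    (hsi : s ∘ₗ i = LinearMap.id) : aeval ψ (i ∘ₗ ψ ∘ₗ s).charpoly = 0 := by
  rw [aeval_eq_comp_aeval_comp s i ψ hsi, LinearMap.aeval_self_charpoly, LinearMap.zero_comp,
    LinearMap.comp_zero]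

end CH

end Groth.Agent.Lib.T2H8.CartanRel
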