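import Groth.Agent.Lib.T2H8CartanRelK

/-!
# Relative Cartan subalgebras, part M: the embedded adjoint endomorphism `i ∘ ad b ∘ s` of a
projective Lie algebra, its matrix, naturality in the base algebra, the universal element

* `embEnd s i B b`, `embMat s i B b`, `embMat_map`, `charpoly_embEnd_map`.
* `univElt s`, `exists_eq_map_univElt`: every element of `B ⊗ L` is a specialization of the
  universal element of `A[X₁..Xₙ] ⊗ L`.
* `finrank_add_natTrailingDegree_charpoly`: trailing degree of the characteristic polynomial of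
  `i ∘ ad a ∘ s` in a fibre.
-/

set_option autoImplicit false
universe u

namespace Groth.Agent.Lib.T2H8.CartanRel

open scoped TensorProduct
open SGA3t2b Module LieAlgebra PrimeSpectrum Polynomial

section Embed

variable {A : Type u} [CommRing A] {L : Type u} [LieRing L] [LieAlgebra A L]

/-- `ad` of a pure tensor. -/
lemma ad_tmul_eq_smul_baseChange (B : Type u) [CommRing B] [Algebra A B] (c : B) (x : L) :
    LieAlgebra.ad B (B ⊗[A] L) (c ⊗ₜ[A] x) = c • (LieAlgebra.ad A L x).baseChange B := by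
  apply LinearMap.ext
  intro w
  induction w using TensorProduct.induction_on with
  | zero => simp
  | tmul d w =>
    rw [LieAlgebra.ad_apply, LieAlgebra.ExtendScalars.bracket_tmul, LinearMap.smul_apply,
      LinearMap.baseChange_tmul, LieAlgebra.ad_apply, TensorProduct.smul_tmul', smul_eq_mul]
  | add w₁ w₂ h₁ h₂ => rw [map_add, map_add, h₁, h₂]

variable {n : ℕ} (s : (Fin n → A) →ₗ[A] L) (i : L →ₗ[A] (Fin n → A))

/-- The endomorphism `i_B ∘ ad b ∘ s_B` of `B ⊗ A^n`, linear in `b`. -/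
noncomputable def embEnd (B : Type u) [CommRing B] [Algebra A B] :
    (B ⊗[A] L) →ₗ[B] Module.End B (B ⊗[A] (Fin n → A)) where
  toFun b := i.baseChange B ∘ₗ (LieAlgebra.ad B (B ⊗[A] L) b) ∘ₗ s.baseChange B
  map_add' b₁ b₂ := by
    rw [map_add, LinearMap.add_comp, LinearMap.comp_add]
  map_smul' c b := by
    rw [map_smul, LinearMap.smul_comp, LinearMap.comp_smul, RingHom.id_apply]

lemma embEnd_apply (B : Type u) [CommRing B] [Algebra A B] (b : B ⊗[A] L) :
    embEnd s i B b = i.baseChange B ∘ₗ (LieAlgebra.ad B (B ⊗[A] L) b) ∘ₗ s.baseChange B := rfl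

lemma embEnd_tmul (B : Type u) [CommRing B] [Algebra A B] (c : B) (x : L) :
    embEnd s i B (c ⊗ₜ[A] x) = c • (i ∘ₗ (LieAlgebra.ad A L x) ∘ₗ s).baseChange B := by
  rw [embEnd_apply, ad_tmul_eq_smul_baseChange, LinearMap.smul_comp, LinearMap.comp_smul,
    LinearMap.baseChange_comp, LinearMap.baseChange_comp]

/-- The matrix of `embEnd`. -/
noncomputable def embMat (B : Type u) [CommRing B] [Algebra A B] :
    (B ⊗[A] L) →ₗ[B] Matrix (Fin n) (Fin n) B :=
  (LinearMap.toMatrix (Algebra.TensorProduct.basis B (Pi.basisFun A (Fin n)))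
    (Algebra.TensorProduct.basis B (Pi.basisFun A (Fin n)))).toLinearMap ∘ₗ embEnd s i B

lemma embMat_apply (B : Type u) [CommRing B] [Algebra A B] (b : B ⊗[A] L) :
    embMat s i B b = LinearMap.toMatrix (Algebra.TensorProduct.basis B (Pi.basisFun A (Fin n)))
      (Algebra.TensorProduct.basis B (Pi.basisFun A (Fin n))) (embEnd s i B b) := rfl

lemma embMat_tmul (B : Type u) [CommRing B] [Algebra A B] (c : B) (x : L) :
    embMat s i B (c ⊗ₜ[A] x) = c • (LinearMap.toMatrix (Pi.basisFun A (Fin n))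
      (Pi.basisFun A (Fin n)) (i ∘ₗ (LieAlgebra.ad A L x) ∘ₗ s)).map (algebraMap A B) := by
  rw [embMat_apply, embEnd_tmul, map_smul, LinearMap.toMatrix_baseChange]

lemma charpoly_embMat (B : Type u) [CommRing B] [Algebra A B] (b : B ⊗[A] L) :
    (embMat s i B b).charpoly = (embEnd s i B b).charpoly := by
  rw [embMat_apply, LinearMap.charpoly_toMatrix]

/-- Naturality of `embMat` in the algebra `B`. -/
lemma embMat_map {B B' : Type u} [CommRing B] [Algebra A B] [CommRing B'] [Algebra A B']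
    (ψ : B →ₐ[A] B') (b : B ⊗[A] L) :
    embMat s i B' (TensorProduct.map ψ.toLinearMap LinearMap.id b) =
      (embMat s i B b).map ψ := by
  induction b using TensorProduct.induction_on with
  | zero => simp
  | tmul c x =>
    rw [TensorProduct.map_tmul, embMat_tmul, embMat_tmul, LinearMap.id_apply,
      AlgHom.toLinearMap_apply]
    have h := Matrix.map_smul' (ψ : B → B') c ((LinearMap.toMatrix (Pi.basisFun A (Fin n))
      (Pi.basisFun A (Fin n)) (i ∘ₗ (LieAlgebra.ad A L x) ∘ₗ s)).map (algebraMap A B))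
      (map_mul ψ)
    rw [Matrix.map_map] at h
    have h2 : (⇑ψ ∘ ⇑(algebraMap A B)) = ⇑(algebraMap A B') := by
      funext a
      simp
    rw [h2] at h
    exact h.symm
  | add b₁ b₂ h₁ h₂ =>
    rw [map_add, map_add, map_add, h₁, h₂, Matrix.map_add _ (map_add ψ)]

/-- Naturality of the characteristic polynomial of `embEnd`. -/
lemma charpoly_embEnd_map {B B' : Type u} [CommRing B] [Algebra A B] [CommRing B'] [Algebra A B']
    (ψ : B →ₐ[A] B') (b : B ⊗[A] L) :
    (embEnd s i B' (TensorProduct.map ψ.toLinearMap LinearMap.id b)).charpoly =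
      (embEnd s i B b).charpoly.map (ψ : B →+* B') := by
  rw [← charpoly_embMat, ← charpoly_embMat, embMat_map]
  exact Matrix.charpoly_map _ (ψ : B →+* B')

end Embed


open scoped TensorProduct
open SGA3t2b Module LieAlgebra PrimeSpectrum Polynomial

section Univ

variable {A : Type u} [CommRing A] {L : Type u} [AddCommGroup L] [Module A L]
variable {n : ℕ} (s : (Fin n → A) →ₗ[A] L) (i : L →ₗ[A] (Fin n → A))

/-- Universal element of `A[X₁..Xₙ] ⊗ L`. -/
noncomputable def univElt : MvPolynomial (Fin n) A ⊗[A] L :=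
  ∑ k, (MvPolynomial.X k : MvPolynomial (Fin n) A) ⊗ₜ[A] s (Pi.single k 1)

lemma exists_eq_sum_tmul (hsi : s ∘ₗ i = LinearMap.id) (B : Type u) [CommRing B] [Algebra A B]
    (b : B ⊗[A] L) : ∃ β : Fin n → B, b = ∑ k, β k ⊗ₜ[A] s (Pi.single k 1) := by
  induction b using TensorProduct.induction_on with
  | zero => exact ⟨0, by simp⟩
  | tmul c l =>
    refine ⟨fun k => (i l k) • c, ?_⟩
    have h1 : l = s (i l) := by
      have := LinearMap.congr_fun hsi l
      simpa using this.symm
    have h2 : i l = ∑ k, (i l k) • (Pi.single k 1 : Fin n → A) := by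
      have := (Pi.basisFun A (Fin n)).sum_repr (i l)
      simp only [Pi.basisFun_repr, Pi.basisFun_apply] at this
      exact this.symm
    conv_lhs => rw [h1, h2, map_sum, TensorProduct.tmul_sum]
    apply Finset.sum_congr rfl
    intro k _
    rw [map_smul, TensorProduct.tmul_smul, TensorProduct.smul_tmul']
  | add b₁ b₂ h₁ h₂ =>
    obtain ⟨β₁, e₁⟩ := h₁
    obtain ⟨β₂, e₂⟩ := h₂
    refine ⟨β₁ + β₂, ?_⟩
    rw [e₁, e₂, ← Finset.sum_add_distrib]
    apply Finset.sum_congr rfl
    intro k _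
    rw [Pi.add_apply, TensorProduct.add_tmul]

lemma exists_eq_map_univElt (hsi : s ∘ₗ i = LinearMap.id) (B : Type u) [CommRing B] [Algebra A B]
    (b : B ⊗[A] L) : ∃ ψ : MvPolynomial (Fin n) A →ₐ[A] B,
      b = TensorProduct.map ψ.toLinearMap LinearMap.id (univElt s) := by
  obtain ⟨β, hβ⟩ := exists_eq_sum_tmul s i hsi B b
  refine ⟨MvPolynomial.aeval β, ?_⟩
  rw [hβ, univElt, map_sum]
  apply Finset.sum_congr rfl
  intro k _
  rw [TensorProduct.map_tmul, AlgHom.toLinearMap_apply, MvPolynomial.aeval_X, LinearMap.id_apply]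

end Univ


open scoped TensorProduct
open SGA3t2b Module LieAlgebra PrimeSpectrum Polynomial

section Fib

variable {A₁ : Type u} [CommRing A₁] {L₁ : Type u} [LieRing L₁] [LieAlgebra A₁ L₁]
  [Module.Finite A₁ L₁]
  {F₁ : Type u} [AddCommGroup F₁] [Module A₁ F₁] [Module.Free A₁ F₁] [Module.Finite A₁ F₁]

/-- Trailing degree of the characteristic polynomial of `i ∘ ad a ∘ s` in a fibre. -/
theorem finrank_add_natTrailingDegree_charpoly (s₁ : F₁ →ₗ[A₁] L₁) (i₁ : L₁ →ₗ[A₁] F₁)
    (hsi : s₁ ∘ₗ i₁ = LinearMap.id) (a : L₁) (q : PrimeSpectrum A₁) :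
    finrank q.asIdeal.ResidueField (q.asIdeal.ResidueField ⊗[A₁] L₁) +
      ((i₁ ∘ₗ (LieAlgebra.ad A₁ L₁ a) ∘ₗ s₁).charpoly.map
        (algebraMap A₁ q.asIdeal.ResidueField)).natTrailingDegree =
    finrank A₁ F₁ + (LieAlgebra.ad q.asIdeal.ResidueField (q.asIdeal.ResidueField ⊗[A₁] L₁)
        ((1 : q.asIdeal.ResidueField) ⊗ₜ[A₁] a)).charpoly.natTrailingDegree := by
  set φ : F₁ →ₗ[A₁] F₁ := i₁ ∘ₗ (LieAlgebra.ad A₁ L₁ a) ∘ₗ s₁ with hφ
  have h1 := charpoly_comp_comm (i₁.baseChange q.asIdeal.ResidueField)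
    (((LieAlgebra.ad A₁ L₁ a) ∘ₗ s₁).baseChange q.asIdeal.ResidueField)
  rw [← LinearMap.baseChange_comp, ← LinearMap.baseChange_comp, LinearMap.comp_assoc, hsi,
    LinearMap.comp_id, ← ad_one_tmul_eq_baseChange', ← hφ, LinearMap.charpoly_baseChange] at h1
  haveI : Nontrivial A₁ := q.nontrivial
  have h2 : finrank q.asIdeal.ResidueField (q.asIdeal.ResidueField ⊗[A₁] F₁) = finrank A₁ F₁ :=
    Module.finrank_baseChange
  have h3 := congrArg Polynomial.natTrailingDegree h1
  rw [h2, Polynomial.natTrailingDegree_mul (pow_ne_zero _ X_ne_zero)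
      ((φ.charpoly_monic.map _).ne_zero),
    Polynomial.natTrailingDegree_mul (pow_ne_zero _ X_ne_zero)
      (LinearMap.charpoly_monic _).ne_zero,
    Polynomial.natTrailingDegree_X_pow, Polynomial.natTrailingDegree_X_pow] at h3
  exact h3

end Fib

end Groth.Agent.Lib.T2H8.CartanRel
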