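import Groth.Agent.Lib.T2H8CartanRelL
import Groth.Agent.Lib.T2H8CartanRelM

/-!
# Relative Cartan subalgebras, part N: over a reduced base, locally constant nilpotent rank
implies that quasi-regular elements are regular after any base change (SGA3 XIV, (C₀) ⇒ (C₂), S8379)

The low coefficients of the characteristic polynomial of `ad` of the universal element vanish
(reducedness + the rank hypothesis), so for any quasi-regular `a'` the characteristic polynomial of
`ad a'` factors locally as `X ^ N * Q` with `Q(0)` invertible; the Fitting decomposition of part L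
then shows that `Nil(a')` is a direct summand and `ad a'` is surjective modulo `Nil(a')`.
-/

set_option autoImplicit false
universe u

namespace Groth.Agent.Lib.T2H8.CartanRel

open scoped TensorProduct
open SGA3t2b Module LieAlgebra PrimeSpectrum Polynomial

section Main

variable {A : Type u} [CommRing A] {L : Type u} [LieRing L] [LieAlgebra A L]
  [Module.Finite A L] [Module.Projective A L]
variable {n : ℕ} (s : (Fin n → A) →ₗ[A] L) (i : L →ₗ[A] (Fin n → A))

/-- The fibre formula for the base change of the embedded `ad`. -/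
lemma rankAtStalk_add_natTrailingDegree (hsi : s ∘ₗ i = LinearMap.id)
    (B : Type u) [CommRing B] [Algebra A B] (b : B ⊗[A] L) (q' : PrimeSpectrum B) :
    Module.rankAtStalk L (comap (algebraMap A B) q') +
      (((embEnd s i B b).charpoly).map (algebraMap B q'.asIdeal.ResidueField)).natTrailingDegree =
    n + (LieAlgebra.ad q'.asIdeal.ResidueField (q'.asIdeal.ResidueField ⊗[B] (B ⊗[A] L))
        ((1 : q'.asIdeal.ResidueField) ⊗ₜ[B] b)).charpoly.natTrailingDegree := by
  have hsi' : s.baseChange B ∘ₗ i.baseChange B = LinearMap.id := by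
    rw [← LinearMap.baseChange_comp, hsi, LinearMap.baseChange_id]
  have h := finrank_add_natTrailingDegree_charpoly (s.baseChange B) (i.baseChange B) hsi' b q'
  haveI : Nontrivial B := q'.nontrivial
  haveI : Nontrivial A := (comap (algebraMap A B) q').nontrivial
  have h2 : finrank B (B ⊗[A] (Fin n → A)) = n := by
    rw [Module.finrank_baseChange, Module.finrank_fin_fun]
  have h3 : finrank q'.asIdeal.ResidueField (q'.asIdeal.ResidueField ⊗[B] (B ⊗[A] L)) =
      Module.rankAtStalk L (comap (algebraMap A B) q') := by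
    rw [← Module.rankAtStalk_baseChange (R := A) (M := L) q', Module.rankAtStalk_eq]
  rw [h2, h3] at h
  exact h

/-- A basic open neighbourhood of `p` on which the nilpotent rank and the rank of `L` are
constant. -/
lemma exists_basicOpen_ranks_const
    (hC0 : ∀ p : PrimeSpectrum A, ∃ f : A, f ∉ p.asIdeal ∧ ∀ q : PrimeSpectrum A, f ∉ q.asIdeal →
        LieAlgebra.rank q.asIdeal.ResidueField (q.asIdeal.ResidueField ⊗[A] L) =
          LieAlgebra.rank p.asIdeal.ResidueField (p.asIdeal.ResidueField ⊗[A] L))
    (p : PrimeSpectrum A) :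
    ∃ f : A, f ∉ p.asIdeal ∧ ∀ q : PrimeSpectrum A, f ∉ q.asIdeal →
      LieAlgebra.rank q.asIdeal.ResidueField (q.asIdeal.ResidueField ⊗[A] L) =
          LieAlgebra.rank p.asIdeal.ResidueField (p.asIdeal.ResidueField ⊗[A] L) ∧
      Module.rankAtStalk L q = Module.rankAtStalk L p := by
  obtain ⟨f₁, hf₁, h₁⟩ := hC0 p
  haveI : Module.FinitePresentation A L := Module.finitePresentation_of_projective A L
  have hlc := Module.isLocallyConstant_rankAtStalk (R := A) (M := L)
  obtain ⟨_, ⟨f₂, rfl⟩, hpf₂, hsub⟩ :=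
    PrimeSpectrum.isTopologicalBasis_basic_opens.exists_subset_of_mem_open
      (show p ∈ (Module.rankAtStalk (R := A) L) ⁻¹' {Module.rankAtStalk (R := A) L p} from rfl)
      (hlc.isOpen_fiber _)
  refine ⟨f₁ * f₂, ?_, fun q hq => ⟨h₁ q ?_, hsub ?_⟩⟩
  · intro h
    rcases p.2.mem_or_mem h with h | h
    · exact hf₁ h
    · exact hpf₂ h
  · intro h; exact hq (Ideal.mul_mem_right _ _ h)
  · show f₂ ∉ q.asIdeal
    intro h; exact hq (Ideal.mul_mem_left _ _ h)

/-- Universal vanishing: over a reduced base, the low coefficients of the characteristic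
polynomial of the universal embedded `ad` are killed by `f`. -/
lemma algebraMap_mul_coeff_univ_eq_zero [IsReduced A] (hsi : s ∘ₗ i = LinearMap.id)
    (p : PrimeSpectrum A) (f : A)
    (hf : ∀ q : PrimeSpectrum A, f ∉ q.asIdeal →
      LieAlgebra.rank q.asIdeal.ResidueField (q.asIdeal.ResidueField ⊗[A] L) =
          LieAlgebra.rank p.asIdeal.ResidueField (p.asIdeal.ResidueField ⊗[A] L) ∧
      Module.rankAtStalk L q = Module.rankAtStalk L p)
    (j : ℕ) (hj : j + Module.rankAtStalk L p <
      n + LieAlgebra.rank p.asIdeal.ResidueField (p.asIdeal.ResidueField ⊗[A] L)) :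
    algebraMap A (MvPolynomial (Fin n) A) f *
      ((embEnd s i (MvPolynomial (Fin n) A) (univElt s)).charpoly).coeff j = 0 := by
  have hnil : algebraMap A (MvPolynomial (Fin n) A) f *
      ((embEnd s i (MvPolynomial (Fin n) A) (univElt s)).charpoly).coeff j ∈
        nilradical (MvPolynomial (Fin n) A) := by
    rw [nilradical_eq_sInf, Ideal.mem_sInf]
    intro P hP
    have hP' : P.IsPrime := hP
    by_cases hfP : algebraMap A (MvPolynomial (Fin n) A) f ∈ P
    · exact Ideal.mul_mem_right _ _ hfP
    · apply Ideal.mul_mem_left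
      have hfq : f ∉ (comap (algebraMap A (MvPolynomial (Fin n) A)) ⟨P, hP'⟩).asIdeal := hfP
      obtain ⟨hr, hd⟩ := hf _ hfq
      have key := rankAtStalk_add_natTrailingDegree s i hsi (MvPolynomial (Fin n) A) (univElt s)
        ⟨P, hP'⟩
      have h1 := LieAlgebra.rank_le_natTrailingDegree_charpoly_ad
        (⟨P, hP'⟩ : PrimeSpectrum (MvPolynomial (Fin n) A)).asIdeal.ResidueField
        ((1 : (⟨P, hP'⟩ : PrimeSpectrum (MvPolynomial (Fin n) A)).asIdeal.ResidueField)
          ⊗ₜ[MvPolynomial (Fin n) A] (univElt s))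
      rw [rank_fibre_baseChange, hr] at h1
      rw [hd] at key
      have h2 : j < ((((embEnd s i (MvPolynomial (Fin n) A) (univElt s)).charpoly).map
          (algebraMap (MvPolynomial (Fin n) A)
            (⟨P, hP'⟩ : PrimeSpectrum (MvPolynomial (Fin n) A)).asIdeal.ResidueField))).natTrailingDegree := by
        omega
      have h3 := Polynomial.coeff_eq_zero_of_lt_natTrailingDegree h2
      rw [Polynomial.coeff_map] at h3
      exact Ideal.algebraMap_residueField_eq_zero.mp h3
  have : nilradical (MvPolynomial (Fin n) A) = ⊥ := nilradical_eq_bot_iff.mpr inferInstance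
  rw [this] at hnil
  exact hnil

/-- S8379: over a reduced base with locally constant nilpotent rank, every quasi-regular element
of every base change is regular (condition (C₀) implies (C₂)). -/
theorem quasiRegular_isRegularRel_of_reduced [IsReduced A]
    (hC0 : ∀ p : PrimeSpectrum A, ∃ f : A, f ∉ p.asIdeal ∧ ∀ q : PrimeSpectrum A, f ∉ q.asIdeal →
        LieAlgebra.rank q.asIdeal.ResidueField (q.asIdeal.ResidueField ⊗[A] L) =
          LieAlgebra.rank p.asIdeal.ResidueField (p.asIdeal.ResidueField ⊗[A] L))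
    (A' : Type u) [CommRing A'] [Algebra A A'] (a' : A' ⊗[A] L)
    (ha' : IsQuasiRegular A' (A' ⊗[A] L) a') : IsRegularRel A' (A' ⊗[A] L) a' := by
  obtain ⟨n, s, i, -, -, hsi⟩ := Module.Finite.exists_comp_eq_id_of_projective A L
  have hsi' : s.baseChange A' ∘ₗ i.baseChange A' = LinearMap.id := by
    rw [← LinearMap.baseChange_comp, hsi, LinearMap.baseChange_id]
  have hCH : aeval (LieAlgebra.ad A' (A' ⊗[A] L) a') (embEnd s i A' a').charpoly = 0 :=
    aeval_charpoly_of_retraction (s.baseChange A') (i.baseChange A')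
      (LieAlgebra.ad A' (A' ⊗[A] L) a') hsi'
  obtain ⟨ψ, hψ⟩ := exists_eq_map_univElt s i hsi A' a'
  have hχψ : (embEnd s i A' a').charpoly =
      ((embEnd s i (MvPolynomial (Fin n) A) (univElt s)).charpoly).map
        (ψ : MvPolynomial (Fin n) A →+* A') := by
    conv_lhs => rw [hψ]
    exact charpoly_embEnd_map s i ψ (univElt s)
  have hloc : ∀ q' : PrimeSpectrum A', ∃ N : ℕ, N ≤ (embEnd s i A' a').charpoly.natDegree + 1 ∧
      ∃ Q : A'[X], aeval (LieAlgebra.ad A' (A' ⊗[A] L) a') (X ^ N * Q) = 0 ∧
        Q.coeff 0 ∉ q'.asIdeal := by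
    intro q'
    obtain ⟨f, hfp, hf⟩ := exists_basicOpen_ranks_const hC0 (comap (algebraMap A A') q')
    have key := rankAtStalk_add_natTrailingDegree s i hsi A' a' q'
    have hreg := (LieAlgebra.isRegular_iff_natTrailingDegree_charpoly_eq_rank _ _).mp (ha' q')
    rw [hreg, rank_fibre_baseChange] at key
    obtain ⟨N, hN⟩ : ∃ N, ((embEnd s i A' a').charpoly.map
        (algebraMap A' q'.asIdeal.ResidueField)).natTrailingDegree = N := ⟨_, rfl⟩
    rw [hN] at key
    have hcoeffN : (embEnd s i A' a').charpoly.coeff N ∉ q'.asIdeal := by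
      intro h
      have h1 : ((embEnd s i A' a').charpoly.map (algebraMap A' q'.asIdeal.ResidueField)).coeff
          N = 0 := by
        rw [Polynomial.coeff_map]
        exact Ideal.algebraMap_residueField_eq_zero.mpr h
      rw [← hN, Polynomial.coeff_natTrailingDegree_eq_zero] at h1
      exact ((LinearMap.charpoly_monic _).map _).ne_zero h1
    have hg : algebraMap A A' f ∉ q'.asIdeal := hfp
    have hlow : ∀ j < N, algebraMap A A' f * (embEnd s i A' a').charpoly.coeff j = 0 := by
      intro j hj
      have h0 := algebraMap_mul_coeff_univ_eq_zero s i hsi (comap (algebraMap A A') q') f hf j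
        (by omega)
      have h1 := congrArg ψ h0
      rw [map_mul, map_zero, AlgHom.commutes] at h1
      rw [hχψ, Polynomial.coeff_map]
      exact h1
    refine ⟨N, ?_, Polynomial.C (algebraMap A A' f) * (divX^[N]) (embEnd s i A' a').charpoly,
      ?_, ?_⟩
    · have : N ≤ (embEnd s i A' a').charpoly.natDegree :=
        Polynomial.le_natDegree_of_ne_zero (fun h => hcoeffN (h ▸ Ideal.zero_mem _))
      omega
    · rw [← C_mul_eq_X_pow_mul _ _ _ hlow, map_mul, hCH, mul_zero]
    · rw [Polynomial.coeff_C_mul, coeff_iterate_divX, zero_add]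
      intro h
      rcases q'.2.mem_or_mem h with h | h
      · exact hg h
      · exact hcoeffN h
  set n₀ := (embEnd s i A' a').charpoly.natDegree + 1 with hn₀
  have hdec := exists_add_of_local_factorization (LieAlgebra.ad A' (A' ⊗[A] L) a') n₀
    (fun q' => by
      obtain ⟨N, -, Q, h1, h2⟩ := hloc q'
      exact ⟨N, Q, h1, h2⟩)
  have hdisj := eq_zero_of_local_factorization (LieAlgebra.ad A' (A' ⊗[A] L) a') n₀ hloc
  have hcompl : IsCompl (LieSubalgebra.engel A' a').toSubmodule
      (LinearMap.range ((LieAlgebra.ad A' (A' ⊗[A] L) a') ^ n₀)) := by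
    constructor
    · rw [Submodule.disjoint_def]
      intro w hw hw'
      have hw1 : ∃ m : ℕ, ((LieAlgebra.ad A' (A' ⊗[A] L) a') ^ m) w = 0 :=
        (LieSubalgebra.mem_engel_iff A' a' w).mp hw
      obtain ⟨v, hv⟩ := hw'
      exact hdisj w hw1 ⟨v, hv.symm⟩
    · rw [codisjoint_iff, eq_top_iff]
      intro w _
      obtain ⟨k, v, hk, e⟩ := hdec w
      rw [e]
      exact Submodule.add_mem _
        (Submodule.mem_sup_left ((LieSubalgebra.mem_engel_iff A' a' k).mpr hk))
        (Submodule.mem_sup_right ⟨v, rfl⟩)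
  have hproj : Module.Projective A' ((A' ⊗[A] L) ⧸ (LieSubalgebra.engel A' a').toSubmodule) := by
    have h1 : Module.Projective A'
        (LinearMap.range ((LieAlgebra.ad A' (A' ⊗[A] L) a') ^ n₀)) :=
      Module.Projective.of_split
        (LinearMap.range ((LieAlgebra.ad A' (A' ⊗[A] L) a') ^ n₀)).subtype
        (Submodule.linearProjOfIsCompl _ _ hcompl.symm) (by
          apply LinearMap.ext
          intro x
          exact Submodule.linearProjOfIsCompl_apply_left hcompl.symm x)
    exact Module.Projective.of_equiv (Submodule.quotientEquivOfIsCompl _ _ hcompl).symm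
  have hsurj : ∀ y : A' ⊗[A] L, ∃ z : A' ⊗[A] L, ⁅a', z⁆ - y ∈ LieSubalgebra.engel A' a' := by
    intro y
    obtain ⟨k, v, hk, e⟩ := hdec y
    refine ⟨((LieAlgebra.ad A' (A' ⊗[A] L) a') ^ (embEnd s i A' a').charpoly.natDegree) v, ?_⟩
    have h1 : ⁅a', ((LieAlgebra.ad A' (A' ⊗[A] L) a') ^ (embEnd s i A' a').charpoly.natDegree) v⁆
        = ((LieAlgebra.ad A' (A' ⊗[A] L) a') ^ n₀) v := by
      rw [hn₀, pow_succ', Module.End.mul_apply, LieAlgebra.ad_apply]
    rw [h1, e]
    have h2 : ((LieAlgebra.ad A' (A' ⊗[A] L) a') ^ n₀) v -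
        (k + ((LieAlgebra.ad A' (A' ⊗[A] L) a') ^ n₀) v) = -k := by abel
    rw [h2]
    exact neg_mem ((LieSubalgebra.mem_engel_iff A' a' k).mpr hk)
  exact ⟨ha', LieSubalgebra.engel A' a', isCartanRel_engel a' ha' hproj hsurj,
    LieSubalgebra.self_mem_engel A' a'⟩

end Main

end Groth.Agent.Lib.T2H8.CartanRel
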