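import Mathlib
import Groth.Agent.Lib.T2H8CechEtale
import Groth.Agent.Lib.T2H8CechTransport

/-!
# Direct images of Cech-flasque sheaves on small etale sites are Cech-flasque
-/

set_option autoImplicit false
set_option linter.unusedSectionVars false
set_option linter.style.haveILetI false
universe u
open CategoryTheory CategoryTheory.Limits Opposite AlgebraicGeometry

namespace Groth.Agent.Lib.T2H8.CechEtale
open Groth.Agent.Lib.Helper16.CechLow Groth.Agent.Lib.T2H8.CechChase Groth.Agent.Lib.T2H8.CechEv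
open Groth.Agent.Lib.T2H8.CechSurj Groth.Agent.Lib.T2H8.CechSES Groth.Agent.Lib.T2H8.CechTransport

variable {X Y : Scheme.{u}} (f : X ⟶ Y)

/-- base change of a jointly surjective family is jointly surjective -/
theorem bc_jointly_surjective {V : Y.Etale} {ι : Type (u + 1)} (Vf : ι → Over V)
    (hV : ∀ x : ↥(V.left), ∃ (i : ι) (y : ↥((Vf i).left.left)), (Vf i).hom.left.base y = x)
    (x' : ↥(((EtCoh.bc f).obj V).left)) :
    ∃ (i : ι) (y : ↥(((EtCoh.bc f).obj (Vf i).left).left)),
      ((EtCoh.bc f).map (Vf i).hom).left.base y = x' := by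
  obtain ⟨i, v, hv⟩ := hV ((pullback.fst V.hom f : ((EtCoh.bc f).obj V).left ⟶ V.left) x')
  have sq := EtCoh.isPullback_bc_map f (Vf i).hom
  obtain ⟨z, hz1, -⟩ := Scheme.Pullback.exists_preimage_pullback
    (f := (pullback.fst V.hom f : ((EtCoh.bc f).obj V).left ⟶ V.left)) (g := (Vf i).hom.left)
    x' v hv.symm
  refine ⟨i, sq.isoPullback.inv z, ?_⟩
  rw [← hz1]
  change (sq.isoPullback.inv ≫ ((EtCoh.bc f).map (Vf i).hom).left) z = _
  rw [IsPullback.isoPullback_inv_fst]
  rfl

variable [∀ U : X.Etale, HasFiniteProducts (Over U)] [∀ V : Y.Etale, HasFiniteProducts (Over V)]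

theorem push_cechFlasque (F : EtCoh.Ab X) (hF : CechFlasque F) :
    CechFlasque ((EtCoh.push f).obj F) := by
  intro V ι Vf hV p hp
  obtain ⟨n, rfl⟩ : ∃ n, p = n + 1 := ⟨p - 1, by omega⟩
  refine (HomologicalComplex.exactAt_iff_isZero_homology _ _).1 ?_
  have h1 := hF ((EtCoh.bc f).obj V) ι (ΨU (Over.post (X := V) (EtCoh.bc f)) Vf)
    (fun x' => bc_jointly_surjective f Vf hV x') (n + 1) (Nat.succ_pos _)
  have h2 : (CK (ΨU (Over.post (X := V) (EtCoh.bc f)) Vf)
      ((Over.forget ((EtCoh.bc f).obj V)).op ⋙ F.obj)).ExactAt (n + 1) :=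
    (HomologicalComplex.exactAt_iff_isZero_homology _ _).2 h1
  exact exactAt_preimage (Over.post (X := V) (EtCoh.bc f)) Vf
    ((Over.forget ((EtCoh.bc f).obj V)).op ⋙ F.obj) n h2

end Groth.Agent.Lib.T2H8.CechEtale
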