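import Mathlib

set_option autoImplicit false
open Module

namespace Groth.Agent.Lib.T2H8.NilCone

universe u

/-- A nilpotent endomorphism of a finite-dimensional vector space has a basis in which it is
strictly upper triangular: `f (b i)` lies in the span of the `b j` with `j < i`. -/
theorem exists_basis_strict_upper {k : Type u} [Field k] :
    ∀ (d : ℕ) (V : Type u) [AddCommGroup V] [Module k V] [FiniteDimensional k V]
      (f : V →ₗ[k] V), IsNilpotent f → finrank k V = d →
      ∃ b : Basis (Fin d) k V, ∀ i, f (b i) ∈ Submodule.span k (b '' {j | j < i}) := by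
  intro d
  induction d with
  | zero =>
    intro V _ _ _ f _ hd
    exact ⟨Module.finBasisOfFinrankEq k V hd, fun i => i.elim0⟩
  | succ d ih =>
    intro V _ _ _ f hf hd
    -- range f ≠ ⊤
    have hV : Nontrivial V := Module.nontrivial_of_finrank_pos (R := k) (by omega)
    have hr : LinearMap.range f < ⊤ := by
      rw [lt_top_iff_ne_top]
      intro htop
      obtain ⟨m, hm⟩ := hf
      have hsurj : Function.Surjective f := LinearMap.range_eq_top.mp htop
      have hs : Function.Surjective (f ^ m) := by
        rw [Module.End.coe_pow]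
        exact Function.Surjective.iterate hsurj m
      rw [hm] at hs
      obtain ⟨x, y, hxy⟩ := exists_pair_ne V
      obtain ⟨a, ha⟩ := hs x
      obtain ⟨b, hb⟩ := hs y
      simp at ha hb
      exact hxy (ha.symm.trans hb)
    obtain ⟨φ, hφ0, hφ⟩ := Submodule.exists_le_ker_of_lt_top _ hr
    set H : Submodule k V := LinearMap.ker φ with hH
    obtain ⟨y, hy⟩ : ∃ y, φ y ≠ 0 := by
      by_contra h
      push_neg at h
      exact hφ0 (LinearMap.ext h)
    have hstab : ∀ x ∈ H, f x ∈ H := fun x _ => hφ (LinearMap.mem_range_self f x)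
    have hfH : IsNilpotent (f.restrict hstab) := Module.End.isNilpotent.restrict hstab hf
    have hφsurj : Function.Surjective φ := by
      intro c
      refine ⟨(c / φ y) • y, ?_⟩
      simp [hy]
    have hdH : finrank k H = d := by
      have h1 := LinearMap.finrank_range_add_finrank_ker φ
      rw [LinearMap.range_eq_top.mpr hφsurj, finrank_top, finrank_self, hd] at h1
      rw [hH]
      omega
    obtain ⟨bH, hbH⟩ := ih H (f.restrict hstab) hfH hdH
    have hli : ∀ (c : k), ∀ x ∈ H, c • y + x = 0 → c = 0 := by
      intro c x hx hc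
      have := congrArg φ hc
      rw [map_add, map_smul, LinearMap.mem_ker.mp hx, add_zero, map_zero, smul_eq_mul] at this
      exact (mul_eq_zero.mp this).resolve_right hy
    have hsp : ∀ z : V, ∃ c : k, z + c • y ∈ H := by
      intro z
      refine ⟨-(φ z / φ y), ?_⟩
      rw [hH, LinearMap.mem_ker, map_add, map_smul, smul_eq_mul]
      field_simp
      ring
    refine ⟨Basis.mkFinSnoc bH y hli hsp, ?_⟩
    have hcoe : ∀ j : Fin d, (Basis.mkFinSnoc bH y hli hsp) j.castSucc = (bH j : V) := by
      intro j
      rw [Basis.coe_mkFinSnoc]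
      simp
    have hlast : (Basis.mkFinSnoc bH y hli hsp) (Fin.last d) = y := by
      rw [Basis.coe_mkFinSnoc]
      simp
    intro i
    refine Fin.lastCases ?_ (fun j => ?_) i
    · -- f y ∈ H = span of all bH
      rw [hlast]
      have hfy : f y ∈ H := hφ (LinearMap.mem_range_self f y)
      have : (⟨f y, hfy⟩ : H) ∈ Submodule.span k (Set.range bH) := by
        rw [bH.span_eq]; trivial
      have h2 := Submodule.apply_mem_span_image_of_mem_span H.subtype this
      simp only [Submodule.subtype_apply] at h2
      refine Submodule.span_mono ?_ h2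
      rintro _ ⟨_, ⟨j, rfl⟩, rfl⟩
      exact ⟨j.castSucc, Fin.castSucc_lt_last j, hcoe j⟩
    · rw [hcoe j]
      have h1 := hbH j
      have h2 := Submodule.apply_mem_span_image_of_mem_span H.subtype h1
      simp only [Submodule.subtype_apply, LinearMap.coe_restrict_apply] at h2
      refine Submodule.span_mono ?_ h2
      rintro _ ⟨_, ⟨l, hl, rfl⟩, rfl⟩
      exact ⟨l.castSucc, Fin.castSucc_lt_castSucc_iff.mpr hl, hcoe l⟩

theorem exists_conj_strict_upper {k : Type u} [Field k] {n : ℕ}
    (N : Matrix (Fin n) (Fin n) k) (hN : IsNilpotent N) :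
    ∃ P U : Matrix (Fin n) (Fin n) k, IsUnit P.det ∧ (∀ i j, j ≤ i → U i j = 0) ∧
      N * P = P * U := by
  classical
  have hf : IsNilpotent (Matrix.toLin' N) := by
    obtain ⟨m, hm⟩ := hN
    refine ⟨m, ?_⟩
    rw [← Matrix.toLin'_pow, hm]
    simp
  obtain ⟨b, hb⟩ := exists_basis_strict_upper n (Fin n → k) (Matrix.toLin' N) hf (by simp)
  refine ⟨(Pi.basisFun k (Fin n)).toMatrix b, Matrix.of fun i j => b.repr (N.mulVec (b j)) i,
    ?_, ?_, ?_⟩
  · haveI := (Pi.basisFun k (Fin n)).invertibleToMatrix b
    exact Matrix.isUnit_det_of_invertible _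
  · intro i j hji
    simp only [Matrix.of_apply]
    have h1 := hb j
    rw [Matrix.toLin'_apply] at h1
    have h2 := b.repr_support_subset_of_mem_span _ h1
    by_contra hne
    have : i ∈ (b.repr (N.mulVec (b j))).support := Finsupp.mem_support_iff.mpr hne
    have h3 := h2 this
    simp only [Set.mem_setOf_eq] at h3
    exact absurd h3 (not_lt.mpr hji)
  · ext r j
    rw [Matrix.mul_apply, Matrix.mul_apply]
    simp only [Basis.toMatrix_apply, Pi.basisFun_repr, Matrix.of_apply]
    have h := b.sum_repr (N.mulVec (b j))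
    have h' := congrFun h r
    rw [Finset.sum_apply] at h'
    simp only [Pi.smul_apply, smul_eq_mul] at h'
    rw [Matrix.mulVec, dotProduct] at h'
    rw [← h']
    refine Finset.sum_congr rfl fun i _ => ?_
    ring


end Groth.Agent.Lib.T2H8.NilCone
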