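import Mathlib
import Groth.Agent.Lib.T2H8NilConeA
set_option autoImplicit false
open Module MvPolynomial

namespace Groth.Agent.Lib.T2H8.NilCone

universe u

section ring
variable {R : Type*} [CommRing R] {n : ℕ}

theorem conj_adj_pow (G L : Matrix (Fin n) (Fin n) R) (m : ℕ) :
    (G * L * G.adjugate) ^ (m + 1) = G.det ^ m • (G * L ^ (m + 1) * G.adjugate) := by
  induction m with
  | zero => simp
  | succ m ih =>
    rw [pow_succ, ih]
    have h1 : G * L ^ (m + 1) * G.adjugate * (G * L * G.adjugate)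
        = G * L ^ (m + 1) * (G.adjugate * G) * L * G.adjugate := by
      simp only [Matrix.mul_assoc]
    rw [Matrix.smul_mul, h1, Matrix.adjugate_mul, Matrix.mul_smul, Matrix.smul_mul,
      Matrix.smul_mul, Matrix.mul_one, smul_smul, ← pow_succ, Matrix.mul_assoc G, ← pow_succ]

theorem pow_eq_zero_of_strict_upper (U : Matrix (Fin n) (Fin n) R)
    (hU : ∀ i j, j ≤ i → U i j = 0) : U ^ n = 0 := by
  have hup : U.IsUpperTriangular := by
    intro i j hij
    exact hU i j (le_of_lt hij)
  have h1 := Matrix.charpoly_of_isUpperTriangular U hup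
  have h2 : U.charpoly = Polynomial.X ^ n := by
    rw [h1]
    simp [hU]
  have h3 := Matrix.aeval_self_charpoly U
  rw [h2] at h3
  simpa using h3

theorem charpoly_coeff_eq_zero_of_isNilpotent [IsDomain R] (M : Matrix (Fin n) (Fin n) R)
    (hM : IsNilpotent M) (i : ℕ) (hi : i < n) : M.charpoly.coeff i = 0 := by
  have h := Matrix.isNilpotent_charpoly_sub_pow_of_isNilpotent hM
  have h0 : M.charpoly - Polynomial.X ^ (Fintype.card (Fin n)) = 0 := h.eq_zero
  rw [Fintype.card_fin, sub_eq_zero] at h0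
  rw [h0, Polynomial.coeff_X_pow, if_neg (by omega)]

end ring

variable (k : Type u) [Field k] (n : ℕ)

/-- the generic matrix `g` -/
noncomputable def Gm : Matrix (Fin n) (Fin n) (MvPolynomial ((Fin n × Fin n) ⊕ (Fin n × Fin n)) k) :=
  Matrix.of fun i j => X (Sum.inl (i, j))

/-- the generic strictly upper triangular matrix -/
noncomputable def Um : Matrix (Fin n) (Fin n) (MvPolynomial ((Fin n × Fin n) ⊕ (Fin n × Fin n)) k) :=
  Matrix.of fun i j => if i < j then X (Sum.inr (i, j)) else 0

/-- `g u adj(g)` -/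
noncomputable def Mm : Matrix (Fin n) (Fin n) (MvPolynomial ((Fin n × Fin n) ⊕ (Fin n × Fin n)) k) :=
  Gm k n * Um k n * (Gm k n).adjugate

noncomputable def phi : MvPolynomial (Fin n × Fin n) k →ₐ[k]
    MvPolynomial ((Fin n × Fin n) ⊕ (Fin n × Fin n)) k :=
  aeval (fun p => Mm k n p.1 p.2)

theorem Mm_isNilpotent : IsNilpotent (Mm k n) := by
  refine ⟨n + 1, ?_⟩
  rw [Mm, conj_adj_pow, pow_succ, pow_eq_zero_of_strict_upper (Um k n)]
  · simp
  · intro i j hji
    simp [Um, not_lt.mpr hji]

theorem phi_coeff (i : ℕ) (hi : i < n) :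
    phi k n ((Matrix.charpoly.univ k (Fin n)).coeff i) = 0 := by
  have h := Matrix.charpoly.univ_coeff_eval₂Hom (Fin n)
    (algebraMap k (MvPolynomial ((Fin n × Fin n) ⊕ (Fin n × Fin n)) k))
    (fun p : Fin n × Fin n => Mm k n p.1 p.2) i
  have h2 : Matrix.of (Function.curry fun p : Fin n × Fin n => Mm k n p.1 p.2) = Mm k n := by
    ext a b; rfl
  rw [h2, charpoly_coeff_eq_zero_of_isNilpotent _ (Mm_isNilpotent k n) i hi] at h
  rw [← h]
  rfl

/-- the matrix of a point -/
def ptMat {n : ℕ} {k : Type u} (x : Fin n × Fin n → k) : Matrix (Fin n) (Fin n) k :=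
  Matrix.of fun i j => x (i, j)

theorem aeval_phi (pt : (Fin n × Fin n) ⊕ (Fin n × Fin n) → k) (f : MvPolynomial (Fin n × Fin n) k) :
    aeval pt (phi k n f) =
      aeval (fun p : Fin n × Fin n =>
        ((Matrix.of fun i j => pt (Sum.inl (i, j))) *
          (Matrix.of fun i j => if i < j then pt (Sum.inr (i, j)) else 0) *
          (Matrix.of fun i j => pt (Sum.inl (i, j))).adjugate : Matrix (Fin n) (Fin n) k) p.1 p.2) f := by
  rw [phi, ← AlgHom.comp_apply, comp_aeval]
  congr 1
  apply congrArg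
  funext p
  have h : (aeval pt : MvPolynomial ((Fin n × Fin n) ⊕ (Fin n × Fin n)) k →ₐ[k] k).mapMatrix (Mm k n)
      = ((Matrix.of fun i j => pt (Sum.inl (i, j))) *
          (Matrix.of fun i j => if i < j then pt (Sum.inr (i, j)) else 0) *
          (Matrix.of fun i j => pt (Sum.inl (i, j))).adjugate : Matrix (Fin n) (Fin n) k) := by
    rw [Mm, map_mul, map_mul]
    have hG : (aeval pt : MvPolynomial ((Fin n × Fin n) ⊕ (Fin n × Fin n)) k →ₐ[k] k).mapMatrix (Gm k n)
        = Matrix.of fun i j => pt (Sum.inl (i, j)) := by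
      ext i j; simp [Gm]
    have hU : (aeval pt : MvPolynomial ((Fin n × Fin n) ⊕ (Fin n × Fin n)) k →ₐ[k] k).mapMatrix (Um k n)
        = Matrix.of fun i j => if i < j then pt (Sum.inr (i, j)) else 0 := by
      ext i j
      simp only [Um, AlgHom.mapMatrix_apply, Matrix.map_apply, Matrix.of_apply]
      split_ifs <;> simp
    rw [← hG, ← hU]
    congr 1
    exact AlgHom.map_adjugate (aeval pt : MvPolynomial ((Fin n × Fin n) ⊕ (Fin n × Fin n)) k →ₐ[k] k) (Gm k n)
  have h' := congrFun (congrFun h p.1) p.2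
  simpa using h'

end Groth.Agent.Lib.T2H8.NilCone
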