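import Mathlib
import Groth.Agent.Lib.T2H8NilConeA
import Groth.Agent.Lib.T2H8NilConeB
set_option autoImplicit false
open Module MvPolynomial

namespace Groth.Agent.Lib.T2H8.NilCone

universe u

theorem mk_mem_nilradical_iff {A : Type*} [CommRing A] (I : Ideal A) (a : A) :
    Ideal.Quotient.mk I a ∈ nilradical (A ⧸ I) ↔ a ∈ I.radical := by
  rw [mem_nilradical]
  constructor
  · rintro ⟨m, hm⟩
    refine ⟨m, ?_⟩
    rw [← map_pow] at hm
    exact Ideal.Quotient.eq_zero_iff_mem.mp hm
  · rintro ⟨m, hm⟩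
    refine ⟨m, ?_⟩
    rw [← map_pow]
    exact Ideal.Quotient.eq_zero_iff_mem.mpr hm

theorem irreducibleSpace_quotient_of_radical_isPrime {A : Type*} [CommRing A] (I : Ideal A)
    (h : I.radical.IsPrime) : IrreducibleSpace (PrimeSpectrum (A ⧸ I)) := by
  rw [PrimeSpectrum.irreducibleSpace_iff_isPrime_nilradical]
  rw [Ideal.isPrime_iff]
  constructor
  · intro htop
    have h1 : (1 : A ⧸ I) ∈ nilradical (A ⧸ I) := by rw [htop]; trivial
    rw [← map_one (Ideal.Quotient.mk I), mk_mem_nilradical_iff] at h1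
    exact h.ne_top ((Ideal.eq_top_iff_one _).mpr h1)
  · intro a b hab
    obtain ⟨a, rfl⟩ := Ideal.Quotient.mk_surjective a
    obtain ⟨b, rfl⟩ := Ideal.Quotient.mk_surjective b
    rw [← map_mul, mk_mem_nilradical_iff] at hab
    rw [mk_mem_nilradical_iff, mk_mem_nilradical_iff]
    exact h.mem_or_mem hab

variable (k : Type u) [Field k] (n : ℕ)

/-- the ideal of the nilpotent cone -/
noncomputable def nilIdeal : Ideal (MvPolynomial (Fin n × Fin n) k) :=
  Ideal.span (Set.range fun i : Fin n => (Matrix.charpoly.univ k (Fin n)).coeff (i : ℕ))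

theorem nilIdeal_le_ker : nilIdeal k n ≤ RingHom.ker (phi k n) := by
  rw [nilIdeal, Ideal.span_le]
  rintro _ ⟨i, rfl⟩
  exact phi_coeff k n i i.2

theorem charpoly_eq_X_pow_of_mem_zeroLocus (x : Fin n × Fin n → k)
    (hx : x ∈ zeroLocus k (nilIdeal k n)) : (ptMat x).charpoly = Polynomial.X ^ n := by
  have hc : ∀ i : ℕ, i < n → (ptMat x).charpoly.coeff i = 0 := by
    intro i hi
    have h := Matrix.charpoly.univ_coeff_eval₂Hom (Fin n) (algebraMap k k) x i
    have h2 : Matrix.of (Function.curry x) = ptMat x := by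
      ext a b; rfl
    rw [h2] at h
    rw [← h]
    exact hx _ (Ideal.subset_span ⟨⟨i, hi⟩, rfl⟩)
  have hmon := Matrix.charpoly_monic (ptMat x)
  have hdeg : (ptMat x).charpoly.natDegree = n := by
    rw [Matrix.charpoly_natDegree_eq_dim, Fintype.card_fin]
  ext j
  rw [Polynomial.coeff_X_pow]
  rcases lt_trichotomy j n with hj | hj | hj
  · rw [hc j hj, if_neg (by omega)]
  · subst hj
    rw [if_pos rfl]
    have := hmon.coeff_natDegree
    rwa [hdeg] at this
  · rw [if_neg (by omega)]
    exact Polynomial.coeff_eq_zero_of_natDegree_lt (by omega)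

theorem isNilpotent_of_mem_zeroLocus (x : Fin n × Fin n → k)
    (hx : x ∈ zeroLocus k (nilIdeal k n)) : IsNilpotent (ptMat x) := by
  refine ⟨n, ?_⟩
  have h3 := Matrix.aeval_self_charpoly (ptMat x)
  rw [charpoly_eq_X_pow_of_mem_zeroLocus k n x hx] at h3
  simpa using h3

theorem aeval_eq_zero_of_mem_ker (f : MvPolynomial (Fin n × Fin n) k) (hf : f ∈ RingHom.ker (phi k n))
    (x : Fin n × Fin n → k) (hx : IsNilpotent (ptMat x)) : aeval x f = 0 := by
  obtain ⟨P, U, hP, hU, hNP⟩ := exists_conj_strict_upper (ptMat x) hx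
  set c : k := P.det⁻¹ with hc
  have hdet : P.det ≠ 0 := hP.ne_zero
  set pt : (Fin n × Fin n) ⊕ (Fin n × Fin n) → k :=
    Sum.elim (fun p => P p.1 p.2) (fun p => c * U p.1 p.2) with hpt
  have h := aeval_phi k n pt f
  rw [RingHom.mem_ker.mp hf, map_zero] at h
  rw [h]
  congr 1
  apply congrArg
  funext p
  have hG : (Matrix.of fun i j => pt (Sum.inl (i, j)) : Matrix (Fin n) (Fin n) k) = P := by
    ext i j; simp [hpt]
  have hUU : (Matrix.of fun i j => if i < j then pt (Sum.inr (i, j)) else 0 :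
      Matrix (Fin n) (Fin n) k) = c • U := by
    ext i j
    simp only [hpt, Matrix.of_apply, Sum.elim_inr, Matrix.smul_apply, smul_eq_mul]
    split_ifs with hij
    · rfl
    · rw [hU i j (not_lt.mp hij), mul_zero]
  rw [hG, hUU, Matrix.mul_smul, Matrix.smul_mul, ← hNP, Matrix.mul_assoc, Matrix.mul_adjugate,
    Matrix.mul_smul, Matrix.mul_one, smul_smul, hc, inv_mul_cancel₀ hdet, one_smul]
  rfl

theorem radical_nilIdeal [IsAlgClosed k] :
    (nilIdeal k n).radical = RingHom.ker (phi k n) := by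
  haveI : (RingHom.ker (phi k n)).IsPrime := RingHom.ker_isPrime _
  refine le_antisymm ?_ ?_
  · rw [Ideal.IsPrime.radical_le_iff this]
    exact nilIdeal_le_ker k n
  · rw [← vanishingIdeal_zeroLocus_eq_radical (K := k)]
    intro f hf
    rw [mem_vanishingIdeal_iff]
    intro x hx
    exact aeval_eq_zero_of_mem_ker k n f hf x (isNilpotent_of_mem_zeroLocus k n x hx)

theorem irreducibleSpace_nilCone [IsAlgClosed k] :
    IrreducibleSpace (PrimeSpectrum (MvPolynomial (Fin n × Fin n) k ⧸ nilIdeal k n)) := by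
  apply irreducibleSpace_quotient_of_radical_isPrime
  rw [radical_nilIdeal]
  exact RingHom.ker_isPrime _

end Groth.Agent.Lib.T2H8.NilCone
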