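import Mathlib
set_option autoImplicit false
open Module MvPolynomial

namespace Groth.Agent.Lib.T2H8.NilCone

universe u

theorem homogeneousComponent_mul_right {σ : Type*} {k : Type*} [CommSemiring k]
    (a g : MvPolynomial σ k) (e d : ℕ) (hg : g.IsHomogeneous e) :
    homogeneousComponent d (a * g) = if e ≤ d then homogeneousComponent (d - e) a * g else 0 := by
  induction a using MvPolynomial.induction_on' with
  | monomial s c =>
    have h1 : (monomial s c * g).IsHomogeneous (s.degree + e) :=
      (isHomogeneous_monomial c rfl).mul hg
    rw [homogeneousComponent_of_mem h1, homogeneousComponent_of_mem (isHomogeneous_monomial c rfl)]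
    split_ifs with h2 h3 h4 h5 h6
    · rfl
    · omega
    · omega
    · omega
    · simp
    · rfl
  | add p q hp hq =>
    rw [add_mul, map_add, hp, hq]
    split_ifs
    · rw [map_add, add_mul]
    · simp

theorem finite_aeval_of_monomials_mem {σ τ : Type*} [Finite σ] [Finite τ] {k : Type*} [CommRing k]
    (gens : τ → MvPolynomial σ k) (deg : τ → ℕ) (hdeg : ∀ t, 0 < deg t)
    (hhom : ∀ t, (gens t).IsHomogeneous (deg t)) (D : ℕ)
    (hD : ∀ s : σ →₀ ℕ, D ≤ s.degree → monomial s (1 : k) ∈ Ideal.span (Set.range gens)) :
    (aeval gens : MvPolynomial τ k →ₐ[k] MvPolynomial σ k).toRingHom.Finite := by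
  classical
  haveI : Fintype τ := Fintype.ofFinite τ
  letI alg : Algebra (MvPolynomial τ k) (MvPolynomial σ k) :=
    (aeval gens : MvPolynomial τ k →ₐ[k] MvPolynomial σ k).toRingHom.toAlgebra
  show Module.Finite (MvPolynomial τ k) (MvPolynomial σ k)
  have hsmul : ∀ (r : MvPolynomial τ k) (a : MvPolynomial σ k), r • a = aeval gens r * a := by
    intro r a
    rw [Algebra.smul_def]
    rfl
  set S : Set (MvPolynomial σ k) := (fun s => monomial s (1 : k)) '' {s | s.degree < D} with hS
  have hSfin : S.Finite := by
    apply Set.Finite.image
    exact (Finsupp.finite_of_degree_le D).subset (fun s hs => le_of_lt (show s.degree < D from hs))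
  set M : Submodule (MvPolynomial τ k) (MvPolynomial σ k) := Submodule.span _ S with hM
  have hsum : ∀ h : MvPolynomial σ k,
      h = ∑ s ∈ h.support, (C (coeff s h) : MvPolynomial σ k) * monomial s (1 : k) := by
    intro h
    conv_lhs => rw [h.as_sum]
    refine Finset.sum_congr rfl fun s _ => ?_
    rw [C_mul_monomial, mul_one]
  have key : ∀ d : ℕ, ∀ h : MvPolynomial σ k, h.IsHomogeneous d → h ∈ M := by
    intro d
    induction d using Nat.strong_induction_on with
    | _ d ih =>
      intro h hh
      have hdegs : ∀ s ∈ h.support, s.degree = d := by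
        intro s hs
        have := hh (mem_support_iff.mp hs)
        rw [Finsupp.degree_eq_weight_one]; exact this
      by_cases hdD : d < D
      · rw [hsum h]
        refine Submodule.sum_mem _ fun s hs => ?_
        have h1 : (C (coeff s h) : MvPolynomial σ k) * monomial s (1 : k)
            = (C (coeff s h) : MvPolynomial τ k) • monomial s (1 : k) := by
          rw [hsmul]; simp
        rw [h1]
        refine Submodule.smul_mem _ _ (Submodule.subset_span ⟨s, ?_, rfl⟩)
        show s.degree < D
        rw [hdegs s hs]; exact hdD
      · push_neg at hdD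
        have hJ : h ∈ Ideal.span (Set.range gens) := by
          rw [hsum h]
          refine Ideal.sum_mem _ fun s hs => Ideal.mul_mem_left _ _ (hD s ?_)
          rw [hdegs s hs]; exact hdD
        obtain ⟨c, hc⟩ := (Ideal.mem_span_range_iff_exists_fun).mp hJ
        have h2 : h = ∑ t, homogeneousComponent d (c t * gens t) := by
          rw [← map_sum, hc, homogeneousComponent_eq_self hh]
        rw [h2]
        refine Submodule.sum_mem _ fun t _ => ?_
        rw [homogeneousComponent_mul_right _ _ _ _ (hhom t)]
        split_ifs with hle
        · have h3 : homogeneousComponent (d - deg t) (c t) * gens t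
              = (X t : MvPolynomial τ k) • homogeneousComponent (d - deg t) (c t) := by
            rw [hsmul, aeval_X, mul_comm]
          rw [h3]
          refine Submodule.smul_mem _ _ (ih (d - deg t) ?_ _ (homogeneousComponent_isHomogeneous _ _))
          have := hdeg t
          omega
        · exact Submodule.zero_mem _
  have htop : M = ⊤ := by
    rw [eq_top_iff]
    intro a _
    rw [← sum_homogeneousComponent a]
    exact Submodule.sum_mem _ fun i _ => key i _ (homogeneousComponent_isHomogeneous _ _)
  refine ⟨?_⟩
  rw [← htop]
  exact Submodule.fg_span hSfin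

end Groth.Agent.Lib.T2H8.NilCone
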