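import Mathlib
import Groth.Agent.Lib.T2H8NilConeC
import Groth.Agent.Lib.T2H8NilConeD
import Groth.Agent.Lib.Helper5IntDim
set_option autoImplicit false
open Module MvPolynomial

namespace Groth.Agent.Lib.T2H8.NilCone

universe u

variable (k : Type u) [Field k] (n : ℕ)

/-- off-diagonal positions -/
abbrev OffDiag (n : ℕ) : Type := {p : Fin n × Fin n // p.1 ≠ p.2}

/-- the `n + (n^2-n)` homogeneous generators: charpoly coefficients and off-diagonal coordinates -/
noncomputable def gens : Fin n ⊕ OffDiag n → MvPolynomial (Fin n × Fin n) k :=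
  Sum.elim (fun i => (Matrix.charpoly.univ k (Fin n)).coeff (i : ℕ)) (fun p => X p.1)

def gdeg : Fin n ⊕ OffDiag n → ℕ := Sum.elim (fun i => n - (i : ℕ)) (fun _ => 1)

theorem gdeg_pos (t : Fin n ⊕ OffDiag n) : 0 < gdeg n t := by
  rcases t with i | p
  · simp only [gdeg, Sum.elim_inl]; omega
  · simp [gdeg]

theorem gens_isHomogeneous (t : Fin n ⊕ OffDiag n) : (gens k n t).IsHomogeneous (gdeg n t) := by
  rcases t with i | p
  · simp only [gens, gdeg, Sum.elim_inl]
    apply Matrix.charpoly.univ_coeff_isHomogeneous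
    rw [Fintype.card_fin]; omega
  · simp only [gens, gdeg, Sum.elim_inr]
    exact isHomogeneous_X _ _

theorem nilIdeal_le_span_gens : nilIdeal k n ≤ Ideal.span (Set.range (gens k n)) := by
  rw [nilIdeal, Ideal.span_le]
  rintro _ ⟨i, rfl⟩
  exact Ideal.subset_span ⟨Sum.inl i, rfl⟩

theorem eq_zero_of_mem_zeroLocus_gens (x : Fin n × Fin n → k)
    (hx : x ∈ zeroLocus k (Ideal.span (Set.range (gens k n)))) : x = 0 := by
  have hoff : ∀ p : Fin n × Fin n, p.1 ≠ p.2 → x p = 0 := by
    intro p hp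
    have := hx _ (Ideal.subset_span ⟨Sum.inr ⟨p, hp⟩, rfl⟩)
    simpa [gens] using this
  have hdiag : ptMat x = Matrix.diagonal fun i => x (i, i) := by
    ext i j
    by_cases hij : i = j
    · subst hij; simp [ptMat]
    · simp [ptMat, Matrix.diagonal_apply_ne _ hij, hoff (i, j) hij]
  have hcp := charpoly_eq_X_pow_of_mem_zeroLocus k n x
    (zeroLocus_anti_mono (nilIdeal_le_span_gens k n) hx)
  rw [hdiag, Matrix.charpoly_diagonal] at hcp
  funext p
  by_cases hp : p.1 = p.2
  · have h1 := congrArg (Polynomial.eval (x (p.1, p.1))) hcp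
    rw [Polynomial.eval_prod, Polynomial.eval_pow, Polynomial.eval_X] at h1
    have h2 : ∏ j : Fin n, Polynomial.eval (x (p.1, p.1)) (Polynomial.X - Polynomial.C (x (j, j))) = 0 := by
      apply Finset.prod_eq_zero (Finset.mem_univ p.1)
      simp
    rw [h2] at h1
    have : x (p.1, p.1) = 0 := by
      by_contra hne
      exact (pow_ne_zero n hne) h1.symm
    have hpp : p = (p.1, p.1) := Prod.ext rfl hp.symm
    rw [hpp]; exact this
  · exact hoff p hp

theorem X_mem_radical_span_gens [IsAlgClosed k] (q : Fin n × Fin n) :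
    (X q : MvPolynomial (Fin n × Fin n) k) ∈ (Ideal.span (Set.range (gens k n))).radical := by
  rw [← vanishingIdeal_zeroLocus_eq_radical (K := k), mem_vanishingIdeal_iff]
  intro x hx
  rw [eq_zero_of_mem_zeroLocus_gens k n x hx]
  simp

theorem monomial_mem_pow {σ : Type*} {R : Type*} [CommSemiring R] (s : σ →₀ ℕ) :
    (monomial s (1 : R)) ∈ (Ideal.span (Set.range (X : σ → MvPolynomial σ R))) ^ s.degree := by
  rw [monomial_eq, C_1, one_mul, Finsupp.prod, Finsupp.degree_apply, ← Finset.prod_pow_eq_pow_sum]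
  apply Ideal.prod_mem_prod
  intro q _
  exact Ideal.pow_mem_pow (Ideal.subset_span (Set.mem_range_self q)) _

theorem exists_bound_monomial_mem [IsAlgClosed k] :
    ∃ D : ℕ, ∀ s : (Fin n × Fin n) →₀ ℕ, D ≤ s.degree →
      monomial s (1 : k) ∈ Ideal.span (Set.range (gens k n)) := by
  have h1 : Ideal.span (Set.range (X : Fin n × Fin n → MvPolynomial (Fin n × Fin n) k)) ≤
      (Ideal.span (Set.range (gens k n))).radical := by
    rw [Ideal.span_le]
    rintro _ ⟨q, rfl⟩
    exact X_mem_radical_span_gens k n q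
  have h2 : (Ideal.span (Set.range (X : Fin n × Fin n → MvPolynomial (Fin n × Fin n) k))).FG :=
    Submodule.fg_span (Set.finite_range _)
  obtain ⟨D, hD⟩ := Ideal.exists_pow_le_of_le_radical_of_fg h1 h2
  refine ⟨D, fun s hs => hD (Ideal.pow_le_pow_right hs (monomial_mem_pow s))⟩

/-- the map `k[y_i, z_p] → k[x_ij]` -/
noncomputable def psi : MvPolynomial (Fin n ⊕ OffDiag n) k →ₐ[k] MvPolynomial (Fin n × Fin n) k :=
  aeval (gens k n)

theorem psi_finite [IsAlgClosed k] : (psi k n).toRingHom.Finite := by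
  obtain ⟨D, hD⟩ := exists_bound_monomial_mem k n
  exact finite_aeval_of_monomials_mem (gens k n) (gdeg n) (gdeg_pos n) (gens_isHomogeneous k n) D hD

/-- the index bijection -/
def tauEquiv : Fin n ⊕ OffDiag n ≃ Fin n × Fin n where
  toFun := Sum.elim (fun i => (i, i)) (fun p => p.1)
  invFun p := if h : p.1 = p.2 then Sum.inl p.1 else Sum.inr ⟨p, h⟩
  left_inv t := by
    rcases t with i | p
    · simp
    · simp [p.2]
  right_inv p := by
    by_cases h : p.1 = p.2
    · obtain ⟨a, b⟩ := p
      simp only at h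
      subst h
      simp
    · simp [h]

theorem card_offDiag : Nat.card (OffDiag n) = n ^ 2 - n := by
  have h := Nat.card_congr (tauEquiv n)
  rw [Nat.card_sum, Nat.card_prod, Nat.card_eq_fintype_card (α := Fin n), Fintype.card_fin] at h
  rw [sq]; omega

theorem ringKrullDim_mvPolynomial_field {ι : Type*} [Finite ι] :
    ringKrullDim (MvPolynomial ι k) = (Nat.card ι : WithBot ℕ∞) := by
  rw [MvPolynomial.ringKrullDim_of_isNoetherianRing, ringKrullDim_eq_zero_of_field, zero_add]

theorem psi_injective [IsAlgClosed k] : Function.Injective (psi k n) := by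
  rw [injective_iff_map_eq_zero]
  intro r hr
  by_contra hne
  have hint : (psi k n).toRingHom.IsIntegral := (psi_finite k n).to_isIntegral
  have h1 := Groth.Agent.Lib.Helper5.ringKrullDim_eq_ringKrullDim_quotient_ker_of_isIntegral
    (psi k n).toRingHom hint
  have hle : Ideal.span {r} ≤ RingHom.ker (psi k n).toRingHom := by
    rw [Ideal.span_singleton_le_iff_mem]
    exact hr
  have h2 : ringKrullDim (MvPolynomial (Fin n ⊕ OffDiag n) k ⧸ RingHom.ker (psi k n).toRingHom) ≤
      ringKrullDim (MvPolynomial (Fin n ⊕ OffDiag n) k ⧸ Ideal.span {r}) :=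
    ringKrullDim_le_of_surjective (Ideal.Quotient.factor hle) (Ideal.Quotient.factor_surjective hle)
  have h3 := ringKrullDim_quotient_succ_le_of_nonZeroDivisor (r := r)
    (mem_nonZeroDivisors_of_ne_zero hne)
  have h4 : ringKrullDim (MvPolynomial (Fin n ⊕ OffDiag n) k) =
      ringKrullDim (MvPolynomial (Fin n × Fin n) k) :=
    ringKrullDim_eq_of_ringEquiv (renameEquiv k (tauEquiv n)).toRingEquiv
  rw [h4, ringKrullDim_mvPolynomial_field] at h3
  rw [ringKrullDim_mvPolynomial_field] at h1
  rw [← h1] at h2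
  have h5 : ((Nat.card (Fin n × Fin n) : ℕ) : WithBot ℕ∞) + 1 ≤ (Nat.card (Fin n × Fin n) : ℕ) :=
    le_trans (add_le_add_left h2 1) h3
  have h6 : ((Nat.card (Fin n × Fin n) + 1 : ℕ) : WithBot ℕ∞) ≤ (Nat.card (Fin n × Fin n) : ℕ) := by
    push_cast
    exact h5
  have h7 := Nat.cast_le.mp (WithBot.coe_le_coe.mp h6)
  omega

end Groth.Agent.Lib.T2H8.NilCone
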