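import Mathlib
import Groth.Agent.Lib.Helper14NNPrime
import Groth.Agent.Lib.Helper5IntDim
import Groth.Agent.Lib.T2H8NilConeE
set_option autoImplicit false
open MvPolynomial

namespace Groth.Agent.Lib.T2H8.ChainNN

open Groth.Agent.Lib.Helper14.NNPrime

universe u

variable {k : Type u} [Field k]

/-- a finite endomorphism of a polynomial ring over a field is injective -/
theorem injective_of_finite_endo {σ : Type*} [Finite σ]
    (φ : MvPolynomial σ k →ₐ[k] MvPolynomial σ k) (hφ : φ.toRingHom.Finite) :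
    Function.Injective φ := by
  rw [injective_iff_map_eq_zero]
  intro r hr
  by_contra hne
  have hint : φ.toRingHom.IsIntegral := hφ.to_isIntegral
  have h1 := Groth.Agent.Lib.Helper5.ringKrullDim_eq_ringKrullDim_quotient_ker_of_isIntegral
    φ.toRingHom hint
  have hle : Ideal.span {r} ≤ RingHom.ker φ.toRingHom := by
    rw [Ideal.span_singleton_le_iff_mem]
    exact hr
  have h2 : ringKrullDim (MvPolynomial σ k ⧸ RingHom.ker φ.toRingHom) ≤
      ringKrullDim (MvPolynomial σ k ⧸ Ideal.span {r}) :=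
    ringKrullDim_le_of_surjective (Ideal.Quotient.factor hle) (Ideal.Quotient.factor_surjective hle)
  have h3 := ringKrullDim_quotient_succ_le_of_nonZeroDivisor (r := r)
    (mem_nonZeroDivisors_of_ne_zero hne)
  rw [Groth.Agent.Lib.T2H8.NilCone.ringKrullDim_mvPolynomial_field] at h3 h1
  rw [← h1] at h2
  have h5 : ((Nat.card σ : ℕ) : WithBot ℕ∞) + 1 ≤ (Nat.card σ : ℕ) :=
    le_trans (add_le_add_left h2 1) h3
  have h6 : ((Nat.card σ + 1 : ℕ) : WithBot ℕ∞) ≤ (Nat.card σ : ℕ) := by
    push_cast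
    exact h5
  have h7 := Nat.cast_le.mp (WithBot.coe_le_coe.mp h6)
  omega

/-- **Noether normalization adapted to a chain of ideals.** -/
theorem exists_finite_comap_eq_span_chain : ∀ (n r : ℕ) (I : Fin r → Ideal (MvPolynomial (Fin n) k)),
    Monotone I → (∀ j, I j ≠ ⊤) →
    ∃ φ : MvPolynomial (Fin n) k →ₐ[k] MvPolynomial (Fin n) k, φ.toRingHom.Finite ∧
      ∃ c : Fin r → ℕ, (∀ j, c j ≤ n) ∧
        ∀ j, (I j).comap φ = Ideal.span (MvPolynomial.X '' {i : Fin n | (i : ℕ) < c j}) := by
  have hspan0 : ∀ n : ℕ, Ideal.span (MvPolynomial.X '' {i : Fin n | (i : ℕ) < 0}) =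
      (⊥ : Ideal (MvPolynomial (Fin n) k)) := by
    intro n
    have : {i : Fin n | (i : ℕ) < 0} = ∅ := by ext i; simp
    rw [this, Set.image_empty, Ideal.span_empty]
  have hbot : ∀ (n r : ℕ) (I : Fin r → Ideal (MvPolynomial (Fin n) k)), (∀ j, I j = ⊥) →
      ∃ φ : MvPolynomial (Fin n) k →ₐ[k] MvPolynomial (Fin n) k, φ.toRingHom.Finite ∧
      ∃ c : Fin r → ℕ, (∀ j, c j ≤ n) ∧
        ∀ j, (I j).comap φ = Ideal.span (MvPolynomial.X '' {i : Fin n | (i : ℕ) < c j}) := by
    intro n r I hI
    refine ⟨AlgHom.id k _, RingHom.Finite.id _, fun _ => 0, fun _ => Nat.zero_le _, fun j => ?_⟩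
    rw [hspan0, hI j]
    ext x; simp
  intro n
  induction n with
  | zero =>
    intro r I _ hI
    apply hbot
    intro j
    rw [eq_bot_iff]
    intro x hx
    by_contra hx0
    have hx0' : x ≠ 0 := by simpa using hx0
    have hxC := eq_C_of_isEmpty x
    have hc : coeff 0 x ≠ 0 := by
      intro h; rw [h, map_zero] at hxC; exact hx0' hxC
    apply hI j
    apply Ideal.eq_top_of_isUnit_mem _ hx
    rw [hxC]
    exact (hc.isUnit).map MvPolynomial.C
  | succ n ih =>
    intro r I hmono hI
    by_cases hall : ∀ j, I j = ⊥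
    · exact hbot _ _ I hall
    push_neg at hall
    classical
    -- the least index with nonzero ideal
    set j₀ : Fin r := Finset.min' (Finset.univ.filter fun j => I j ≠ ⊥)
      (by obtain ⟨j, hj⟩ := hall; exact ⟨j, by simp [hj]⟩) with hj₀
    have hj₀mem : I j₀ ≠ ⊥ := by
      have := Finset.min'_mem (Finset.univ.filter fun j => I j ≠ ⊥)
        (by obtain ⟨j, hj⟩ := hall; exact ⟨j, by simp [hj]⟩)
      simpa using this
    have hj₀le : ∀ j, I j ≠ ⊥ → j₀ ≤ j := by
      intro j hj
      exact Finset.min'_le _ j (by simp [hj])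
    obtain ⟨f, hfI, hf0⟩ := Submodule.exists_mem_ne_zero_of_ne_bot hj₀mem
    have hfu : ¬ IsUnit f := fun hu => hI j₀ (Ideal.eq_top_of_isUnit_mem _ hfI hu)
    obtain ⟨ψ, hψfin, hψ0⟩ := exists_finite_algHom_X_zero f hf0 hfu
    set J : Fin r → Ideal (MvPolynomial (Fin (n + 1)) k) := fun j => (I j).comap ψ with hJ
    have hJtop : ∀ j, J j ≠ ⊤ := fun j => Ideal.comap_ne_top _ (hI j)
    have hX0 : ∀ j, I j ≠ ⊥ → MvPolynomial.X 0 ∈ J j := by
      intro j hj
      rw [hJ]
      show ψ (MvPolynomial.X 0) ∈ I j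
      rw [hψ0]
      exact hmono (hj₀le j hj) hfI
    obtain ⟨φ', hφ'fin, c', hc', hφ'⟩ := ih r
      (fun j => (J j).comap (rename Fin.succ : MvPolynomial (Fin n) k →ₐ[k] _))
      (fun a b hab => Ideal.comap_mono (Ideal.comap_mono (hmono hab)))
      (fun j => Ideal.comap_ne_top _ (hJtop j))
    have hfin : (ψ.comp (ext φ')).toRingHom.Finite :=
      AlgHom.Finite.comp hψfin (ext_finite φ' hφ'fin)
    refine ⟨ψ.comp (ext φ'), hfin, fun j => if I j = ⊥ then 0 else c' j + 1, ?_, ?_⟩
    · intro j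
      dsimp only
      split_ifs
      · exact Nat.zero_le _
      · have := hc' j; omega
    · intro j
      dsimp only
      by_cases hj : I j = ⊥
      · rw [if_pos hj, hspan0, hj]
        rw [eq_bot_iff]
        intro x hx
        rw [Ideal.mem_comap, Ideal.mem_bot] at hx
        rw [Ideal.mem_bot]
        exact injective_of_finite_endo _ hfin (by rw [map_zero]; exact hx)
      · rw [if_neg hj]
        have h1 := comap_ext φ' (J j) (hX0 j hj) _ (hφ' j)
        have hset : (insert 0 (Fin.succ '' {i : Fin n | (i : ℕ) < c' j}) : Set (Fin (n + 1))) =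
            {i : Fin (n + 1) | (i : ℕ) < c' j + 1} := by
          ext i
          refine Fin.cases ?_ (fun l => ?_) i
          · simp
          · simp [Fin.succ_ne_zero]
        rw [← hset, ← h1]
        rfl

end Groth.Agent.Lib.T2H8.ChainNN
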