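import Mathlib
import Groth.Agent.Lib.T2H8ChainNNA
set_option autoImplicit false
open MvPolynomial

namespace Groth.Agent.Lib.T2H8.ChainNN

open Groth.Agent.Lib.Helper14.NNPrime

universe u

variable {k : Type u} [Field k]

/-- contraction of a coordinate ideal along an injective renaming -/
theorem comap_rename_span_X {σ τ : Type*} (e : σ → τ) (he : Function.Injective e) (S : Set τ) :
    (Ideal.span (X '' S : Set (MvPolynomial τ k))).comap (rename e : MvPolynomial σ k →ₐ[k] _) =
      Ideal.span (X '' (e ⁻¹' S)) := by
  classical
  ext p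
  rw [Ideal.mem_comap, mem_ideal_span_X_image, mem_ideal_span_X_image]
  show (∀ m ∈ (rename e p).support, _) ↔ _
  rw [support_rename_of_injective he]
  constructor
  · intro h m' hm'
    obtain ⟨i, hi, hne⟩ := h (Finsupp.mapDomain e m') (Finset.mem_image_of_mem _ hm')
    by_cases hr : i ∈ Set.range e
    · obtain ⟨l, rfl⟩ := hr
      rw [Finsupp.mapDomain_apply he] at hne
      exact ⟨l, hi, hne⟩
    · exact absurd (Finsupp.mapDomain_notin_range _ _ hr) hne
  · intro h m hm
    obtain ⟨m', hm', rfl⟩ := Finset.mem_image.mp hm
    obtain ⟨l, hl, hne⟩ := h m' hm'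
    exact ⟨e l, hl, by rwa [Finsupp.mapDomain_apply he]⟩

/-- the kernel of `kill` -/
theorem ker_kill (n c : ℕ) :
    RingHom.ker (kill k n c) = Ideal.span (X '' {i : Fin n | (i : ℕ) < c}) := by
  apply le_antisymm
  · have key : ∀ p : MvPolynomial (Fin n) k,
        p - rename Subtype.val (kill k n c p) ∈ Ideal.span (X '' {i : Fin n | (i : ℕ) < c}) := by
      intro p
      induction p using MvPolynomial.induction_on with
      | C a => simp [kill]
      | add p q hp hq =>
        rw [map_add, map_add]
        have : p + q - (rename Subtype.val (kill k n c p) + rename Subtype.val (kill k n c q)) =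
          (p - rename Subtype.val (kill k n c p)) + (q - rename Subtype.val (kill k n c q)) := by ring
        rw [this]
        exact Ideal.add_mem _ hp hq
      | mul_X p i hp =>
        rw [map_mul, map_mul]
        by_cases hi : (i : ℕ) < c
        · rw [kill_X_of_lt hi, map_zero, mul_zero, sub_zero]
          exact Ideal.mul_mem_left _ _ (Ideal.subset_span ⟨i, hi, rfl⟩)
        · rw [kill_X_of_not_lt hi, rename_X]
          have : p * X i - rename Subtype.val (kill k n c p) * X i =
            (p - rename Subtype.val (kill k n c p)) * X i := by ring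
          rw [this]
          exact Ideal.mul_mem_right _ _ hp
    intro p hp
    have := key p
    rw [RingHom.mem_ker] at hp
    rwa [hp, map_zero, sub_zero] at this
  · rw [Ideal.span_le]
    rintro _ ⟨i, hi, rfl⟩
    exact kill_X_of_lt hi

theorem kill_surjective (n c : ℕ) : Function.Surjective (kill k n c) := by
  intro p
  refine ⟨rename Subtype.val p, ?_⟩
  induction p using MvPolynomial.induction_on with
  | C a => simp [kill]
  | add p q hp hq => rw [map_add, map_add, hp, hq]
  | mul_X p i hp =>
    rw [map_mul, map_mul, hp, rename_X, kill_X_of_not_lt i.2]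

theorem ringKrullDim_quot_span_X (n c : ℕ) (hc : c ≤ n) :
    ringKrullDim (MvPolynomial (Fin n) k ⧸
      (Ideal.span (X '' {i : Fin n | (i : ℕ) < c}) : Ideal (MvPolynomial (Fin n) k))) =
      ((n - c : ℕ) : WithBot ℕ∞) := by
  rw [← ker_kill]
  have h := ringKrullDim_eq_of_ringEquiv
    (RingHom.quotientKerEquivOfSurjective (f := (kill k n c).toRingHom) (kill_surjective n c))
  rw [Groth.Agent.Lib.T2H8.NilCone.ringKrullDim_mvPolynomial_field, Nat.card_eq_fintype_card,
    card_tau hc] at h
  exact h

end Groth.Agent.Lib.T2H8.ChainNN
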