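import Mathlib
import Groth.Agent.Lib.T2H8ChainNNB
set_option autoImplicit false
open MvPolynomial

namespace Groth.Agent.Lib.T2H8.ChainNN

open Groth.Agent.Lib.Helper14.NNPrime

universe u

variable {k : Type u} [Field k]

theorem exists_normalization_of_ker {A : Type u} [CommRing A] [Algebra k A] (m c₀ d' : ℕ)
    (hmd : c₀ + d' = m) (θ : MvPolynomial (Fin m) k →ₐ[k] A) (hθ : θ.toRingHom.Finite)
    (hker : RingHom.ker θ = Ideal.span (X '' {i : Fin m | (i : ℕ) < c₀})) :
    ∃ φ : MvPolynomial (Fin d') k →ₐ[k] A, φ.toRingHom.Finite ∧ Function.Injective φ ∧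
      ∀ (Q : Ideal A) (c : ℕ), Q.comap θ = Ideal.span (X '' {i : Fin m | (i : ℕ) < c}) →
        Q.comap φ = Ideal.span (X '' {l : Fin d' | (l : ℕ) < c - c₀}) := by
  set e : Fin d' → Fin m := fun l => ⟨c₀ + l, by have := l.2; omega⟩ with he
  have hinj : Function.Injective e := by
    intro a b hab
    simp only [he, Fin.mk.injEq] at hab
    exact Fin.ext (by omega)
  set φ : MvPolynomial (Fin d') k →ₐ[k] A := θ.comp (rename e) with hφ
  have hcomap : ∀ (Q : Ideal A) (c : ℕ),
      Q.comap θ = Ideal.span (X '' {i : Fin m | (i : ℕ) < c}) →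
      Q.comap φ = Ideal.span (X '' {l : Fin d' | (l : ℕ) < c - c₀}) := by
    intro Q c hQ
    have h1 : Q.comap φ = (Q.comap θ).comap (rename e : MvPolynomial (Fin d') k →ₐ[k] _) := rfl
    rw [h1, hQ, comap_rename_span_X e hinj]
    congr 2
    ext l
    simp only [he, Set.mem_preimage, Set.mem_setOf_eq]
    omega
  refine ⟨φ, ?_, ?_, hcomap⟩
  · -- finite
    set killm : MvPolynomial (Fin m) k →ₐ[k] MvPolynomial (Fin d') k :=
      aeval (fun i : Fin m => if h : c₀ ≤ (i : ℕ) then X ⟨(i : ℕ) - c₀, by have := i.2; omega⟩ else 0)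
      with hkillm
    have hfac : θ = φ.comp killm := by
      apply MvPolynomial.algHom_ext
      intro i
      rw [AlgHom.comp_apply, hkillm, aeval_X]
      by_cases hi : c₀ ≤ (i : ℕ)
      · rw [dif_pos hi, hφ, AlgHom.comp_apply, rename_X]
        congr 2
        exact Fin.ext (by simp [he]; omega)
      · rw [dif_neg hi, map_zero]
        have : (X i : MvPolynomial (Fin m) k) ∈ RingHom.ker θ := by
          rw [hker]
          exact Ideal.subset_span ⟨i, by simpa using hi, rfl⟩
        exact this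
    rw [hfac] at hθ
    exact AlgHom.Finite.of_comp_finite hθ
  · -- injective
    rw [injective_iff_map_eq_zero]
    intro p hp
    have h1 : p ∈ (⊥ : Ideal A).comap φ := by
      rw [Ideal.mem_comap, Ideal.mem_bot]; exact hp
    have h2 : (⊥ : Ideal A).comap θ = Ideal.span (X '' {i : Fin m | (i : ℕ) < c₀}) := by
      rw [← hker]; rfl
    rw [hcomap ⊥ c₀ h2] at h1
    have h3 : {l : Fin d' | (l : ℕ) < c₀ - c₀} = ∅ := by
      ext l; simp
    rw [h3, Set.image_empty, Ideal.span_empty, Ideal.mem_bot] at h1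
    exact h1

end Groth.Agent.Lib.T2H8.ChainNN
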