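import Mathlib
import Groth.Agent.Lib.T2H8ChainNNB
import Groth.Agent.Lib.T2H8ChainNNC
set_option autoImplicit false
open MvPolynomial

namespace Groth.Agent.Lib.T2H8.ChainNN

open Groth.Agent.Lib.Helper14.NNPrime

universe u

variable {k : Type u} [Field k]

/-- dimension of the quotient by the contraction along a finite map -/
theorem ringKrullDim_quotient_eq_of_finite {R A : Type*} [CommRing R] [CommRing A]
    (φ : R →+* A) (hφ : φ.Finite) (Q : Ideal A) :
    ringKrullDim (A ⧸ Q) = ringKrullDim (R ⧸ Q.comap φ) := by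
  have hfin : ((Ideal.Quotient.mk Q).comp φ).Finite :=
    RingHom.Finite.comp (RingHom.Finite.of_surjective _ Ideal.Quotient.mk_surjective) hφ
  have h := Groth.Agent.Lib.Helper5.ringKrullDim_eq_ringKrullDim_quotient_ker_of_isIntegral
    ((Ideal.Quotient.mk Q).comp φ) hfin.to_isIntegral
  have hk : RingHom.ker ((Ideal.Quotient.mk Q).comp φ) = Q.comap φ := by
    rw [← RingHom.comap_ker, Ideal.mk_ker]
  rw [hk] at h
  exact h

theorem part1 (A : Type u) [CommRing A] [IsDomain A] [Algebra k A] [Algebra.FiniteType k A]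
    (d : ℕ) (hd : ringKrullDim A = (d : WithBot ℕ∞))
    (r : ℕ) (q : Fin r → PrimeSpectrum A) (hq : StrictMono q) (h : Fin r → ℕ) (hh : ∀ i, h i ≤ d)
    (hdim : ∀ i, ringKrullDim (A ⧸ (q i).asIdeal) = ((d - h i : ℕ) : WithBot ℕ∞)) :
    ∃ φ : MvPolynomial (Fin d) k →ₐ[k] A, φ.toRingHom.Finite ∧ Function.Injective φ ∧
      ∀ i, (q i).asIdeal.comap φ = Ideal.span (MvPolynomial.X '' {l : Fin d | (l : ℕ) < h i}) := by
  obtain ⟨m, π, hπ⟩ := (Algebra.FiniteType.iff_quotient_mvPolynomial'' (R := k) (S := A)).mp inferInstance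
  set I : Fin (r + 1) → Ideal (MvPolynomial (Fin m) k) :=
    Fin.cons (RingHom.ker π) (fun i => (q i).asIdeal.comap π) with hI
  have hI0 : I 0 = RingHom.ker π := by simp [hI]
  have hIs : ∀ i : Fin r, I i.succ = (q i).asIdeal.comap π := by intro i; simp [hI]
  have hmono : Monotone I := by
    intro a b hab
    refine Fin.cases ?_ (fun a' => ?_) a (motive := fun a => a ≤ b → I a ≤ I b) hab
    · intro _
      refine Fin.cases ?_ (fun b' => ?_) b
      · exact le_rfl
      · rw [hI0, hIs]
        intro x hx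
        rw [Ideal.mem_comap, RingHom.mem_ker.mp hx]
        exact Ideal.zero_mem _
    · intro hab'
      refine Fin.cases ?_ (fun b' => ?_) b (motive := fun b => a'.succ ≤ b → I a'.succ ≤ I b) hab'
      · intro h0
        exact absurd h0 (by simp [Fin.succ_ne_zero])
      · intro hab''
        rw [hIs, hIs]
        have : a' ≤ b' := Fin.succ_le_succ_iff.mp hab''
        exact Ideal.comap_mono (hq.monotone this)
  have htop : ∀ j, I j ≠ ⊤ := by
    intro j
    refine Fin.cases ?_ (fun i => ?_) j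
    · rw [hI0]
      exact RingHom.ker_ne_top _
    · rw [hIs]
      exact Ideal.comap_ne_top _ (q i).isPrime.ne_top
  obtain ⟨φ₀, hφ₀, c, hc, hcomap⟩ := exists_finite_comap_eq_span_chain m (r + 1) I hmono htop
  set θ : MvPolynomial (Fin m) k →ₐ[k] A := π.comp φ₀ with hθ
  have hθfin : θ.toRingHom.Finite := AlgHom.Finite.comp (AlgHom.Finite.of_surjective _ hπ) hφ₀
  have hker : RingHom.ker θ = Ideal.span (X '' {i : Fin m | (i : ℕ) < c 0}) := by
    rw [← hcomap 0, hI0]
    rfl
  have hqθ : ∀ i : Fin r, (q i).asIdeal.comap θ =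
      Ideal.span (X '' {l : Fin m | (l : ℕ) < c i.succ}) := by
    intro i
    rw [← hcomap i.succ, hIs]
    rfl
  obtain ⟨d', hd'⟩ : ∃ d', c 0 + d' = m := ⟨m - c 0, by have := hc 0; omega⟩
  obtain ⟨φ, hφfin, hφinj, hφc⟩ := exists_normalization_of_ker m (c 0) d' hd' θ hθfin hker
  -- dimension
  have hdimA : ringKrullDim A = (d' : WithBot ℕ∞) := by
    letI : Algebra (MvPolynomial (Fin d') k) A := φ.toRingHom.toAlgebra
    haveI : Module.Finite (MvPolynomial (Fin d') k) A := hφfin
    haveI : Algebra.IsIntegral (MvPolynomial (Fin d') k) A := Algebra.IsIntegral.of_finite _ _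
    rw [Groth.Agent.Lib.Helper5.ringKrullDim_eq_of_isIntegral_of_injective
      (MvPolynomial (Fin d') k) A hφinj,
      Groth.Agent.Lib.T2H8.NilCone.ringKrullDim_mvPolynomial_field, Nat.card_eq_fintype_card,
      Fintype.card_fin]
  have hdd : d' = d := by
    rw [hd] at hdimA
    exact (Nat.cast_inj.mp (WithBot.coe_injective hdimA)).symm
  subst hdd
  refine ⟨φ, hφfin, hφinj, fun i => ?_⟩
  have h1 := hφc (q i).asIdeal (c i.succ) (hqθ i)
  have hcle : c i.succ - c 0 ≤ d' := by have := hc i.succ; omega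
  have h2 := ringKrullDim_quotient_eq_of_finite φ.toRingHom hφfin (q i).asIdeal
  have h3 : Ideal.comap φ.toRingHom (q i).asIdeal = Ideal.comap φ (q i).asIdeal := rfl
  rw [h3, h1, ringKrullDim_quot_span_X d' _ hcle, hdim i] at h2
  have h4 : d' - h i = d' - (c i.succ - c 0) := Nat.cast_inj.mp (WithBot.coe_injective h2)
  have h5 : h i = c i.succ - c 0 := by have := hh i; omega
  rw [h1, h5]

end Groth.Agent.Lib.T2H8.ChainNN
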