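import Mathlib
import Groth.Agent.Lib.T2H8ChainNND
set_option autoImplicit false
open MvPolynomial

namespace Groth.Agent.Lib.T2H8.ChainNN

open Groth.Agent.Lib.Helper14.NNPrime

universe u

/-- relative going down: between `q` and `Q'` insert a prime over `pb`. -/
theorem exists_prime_between {R A : Type*} [CommRing R] [CommRing A] [Algebra R A]
    [Algebra.IsIntegral R A]
    (q Q' : Ideal A) [q.IsPrime] [Q'.IsPrime] (hqQ : q ≤ Q')
    (pa pb : Ideal R) [pa.IsPrime] [pb.IsPrime] (hab : pa ≤ pb) (hbc : pb ≤ Q'.under R)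
    (hq : q.under R = pa) (hic : IsIntegrallyClosed (R ⧸ pa)) :
    ∃ Q : Ideal A, Q.IsPrime ∧ q ≤ Q ∧ Q ≤ Q' ∧ Q.under R = pb := by
  haveI : q.LiesOver pa := ⟨hq.symm⟩
  haveI : IsDomain (A ⧸ q) := Ideal.Quotient.isDomain q
  haveI : Algebra.IsIntegral (R ⧸ pa) (A ⧸ q) := by
    constructor
    intro x
    obtain ⟨a, rfl⟩ := Ideal.Quotient.mk_surjective x
    obtain ⟨f, hf, hfa⟩ := Algebra.IsIntegral.isIntegral (R := R) a
    refine ⟨f.map (Ideal.Quotient.mk pa), hf.map _, ?_⟩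
    rw [Polynomial.eval₂_map]
    have : (algebraMap (R ⧸ pa) (A ⧸ q)).comp (Ideal.Quotient.mk pa) =
        (Ideal.Quotient.mk q).comp (algebraMap R A) := by
      ext r; rfl
    rw [this, ← Polynomial.hom_eval₂, hfa, map_zero]
  haveI : Algebra.HasGoingDown (R ⧸ pa) (A ⧸ q) := inferInstance
  -- the primes downstairs
  set pb' : Ideal (R ⧸ pa) := pb.map (Ideal.Quotient.mk pa) with hpb'
  set Qq : Ideal (A ⧸ q) := Q'.map (Ideal.Quotient.mk q) with hQq
  haveI : pb'.IsPrime := Ideal.map_isPrime_of_surjective Ideal.Quotient.mk_surjective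
    (by rw [Ideal.mk_ker]; exact hab)
  haveI : Qq.IsPrime := Ideal.map_isPrime_of_surjective Ideal.Quotient.mk_surjective
    (by rw [Ideal.mk_ker]; exact hqQ)
  have hle : pb' ≤ Qq.under (R ⧸ pa) := by
    rw [hpb', Ideal.map_le_iff_le_comap]
    intro x hx
    have := hbc hx
    rw [Ideal.mem_comap, Ideal.under_def, Ideal.mem_comap]
    show Ideal.Quotient.mk q (algebraMap R A x) ∈ Qq
    exact Ideal.mem_map_of_mem _ this
  haveI : (Qq.under (R ⧸ pa)).IsPrime := Ideal.IsPrime.under _ _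
  haveI : Qq.LiesOver (Qq.under (R ⧸ pa)) := ⟨rfl⟩
  obtain ⟨P, hPQ, hPp, hPo⟩ := Ideal.exists_ideal_le_liesOver_of_le (p := pb') (q := Qq.under (R ⧸ pa)) Qq hle
  refine ⟨P.comap (Ideal.Quotient.mk q), Ideal.comap_isPrime _ _, ?_, ?_, ?_⟩
  · intro x hx
    rw [Ideal.mem_comap, Ideal.Quotient.eq_zero_iff_mem.mpr hx]
    exact Ideal.zero_mem _
  · intro x hx
    rw [Ideal.mem_comap] at hx
    have := hPQ hx
    rwa [hQq, Ideal.mem_quotient_iff_mem hqQ] at this
  · ext x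
    rw [Ideal.under_def, Ideal.mem_comap, Ideal.mem_comap]
    have h1 : Ideal.Quotient.mk q (algebraMap R A x) ∈ P ↔ Ideal.Quotient.mk pa x ∈ pb' := by
      rw [hPo.over, Ideal.under_def, Ideal.mem_comap]
      rfl
    rw [h1, hpb', Ideal.mem_quotient_iff_mem hab]

section chain

variable {R A : Type*} [CommRing R] [CommRing A] [IsDomain A] [Algebra R A]
    [Algebra.IsIntegral R A]

/-- the floor marker -/
theorem exists_floor (hinj : Function.Injective (algebraMap R A))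
    (p : ℕ → Ideal R) (hp0 : p 0 = ⊥)
    (r : ℕ) (q : Fin r → PrimeSpectrum A) (hq : Monotone q) (h : Fin r → ℕ)
    (hqp : ∀ i, (q i).asIdeal.under R = p (h i)) (j : ℕ) :
    ∃ (qs : PrimeSpectrum A) (a : ℕ), a ≤ j ∧ qs.asIdeal.under R = p a ∧
      (∀ i, h i ≤ j → q i ≤ qs) ∧
      (∀ Q' : PrimeSpectrum A, (∀ i, h i ≤ j → q i ≤ Q') → qs ≤ Q') := by
  classical
  by_cases hS : ∃ i, h i ≤ j
  · obtain ⟨i₁, hi₁⟩ := hS
    have hne : (Finset.univ.filter (fun i => h i ≤ j)).Nonempty := ⟨i₁, by simp [hi₁]⟩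
    obtain ⟨i₀, hi₀, hmax⟩ := Finset.exists_max_image _ (fun i : Fin r => i) hne
    rw [Finset.mem_filter] at hi₀
    refine ⟨q i₀, h i₀, hi₀.2, hqp i₀, fun i hi => hq (hmax i (by simp [hi])), fun Q' hQ' => hQ' i₀ hi₀.2⟩
  · push_neg at hS
    refine ⟨⟨⊥, Ideal.bot_prime⟩, 0, Nat.zero_le _, ?_, fun i hi => absurd hi (not_le.mpr (hS i)),
      fun Q' _ => ?_⟩
    · rw [hp0, Ideal.under_def, ← RingHom.ker_eq_comap_bot]
      exact (RingHom.injective_iff_ker_eq_bot _).mp hinj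
    · show (⊥ : Ideal A) ≤ Q'.asIdeal
      exact bot_le

theorem exists_chain (hinj : Function.Injective (algebraMap R A))
    (d : ℕ) (p : ℕ → Ideal R) (hp : ∀ j, j ≤ d → (p j).IsPrime) (hp0 : p 0 = ⊥)
    (hmono : ∀ a b, a ≤ b → b ≤ d → p a ≤ p b)
    (hstrict : ∀ j, j < d → p j ≠ p (j+1))
    (hic : ∀ j, j ≤ d → IsIntegrallyClosed (R ⧸ p j))
    (r : ℕ) (q : Fin r → PrimeSpectrum A) (hq : Monotone q) (h : Fin r → ℕ) (hh : ∀ i, h i ≤ d)
    (hqp : ∀ i, (q i).asIdeal.under R = p (h i)) :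
    ∃ Q : ℕ → PrimeSpectrum A, (∀ j, j ≤ d → (Q j).asIdeal.under R = p j) ∧
      (∀ j, j < d → Q j < Q (j+1)) ∧ ∀ i, Q (h i) = q i := by
  -- main induction
  have key : ∀ m, m ≤ d → ∃ Q : ℕ → PrimeSpectrum A,
      (∀ j, d - m ≤ j → j ≤ d → (Q j).asIdeal.under R = p j ∧ ∀ i, h i ≤ j → q i ≤ Q j) ∧
      (∀ j, d - m ≤ j → j < d → Q j ≤ Q (j+1)) := by
    intro m
    induction m with
    | zero =>
      intro _
      obtain ⟨qs, a, had, hqs, hle, -⟩ := exists_floor hinj p hp0 r q hq h hqp d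
      haveI := hp d le_rfl
      obtain ⟨Qd, hQd, hQdp, hQdc⟩ := Ideal.exists_ideal_over_prime_of_isIntegral (p d) qs.asIdeal
        (by rw [← Ideal.under_def, hqs]; exact hmono a d had le_rfl)
      refine ⟨fun _ => ⟨Qd, hQdp⟩, fun j hj1 hj2 => ?_, fun j hj1 hj2 => by omega⟩
      have : j = d := by omega
      subst this
      exact ⟨hQdc, fun i hi => (hle i hi).trans hQd⟩
    | succ m ih =>
      intro hm
      obtain ⟨Q, hQ1, hQ2⟩ := ih (by omega)
      set j₀ := d - (m + 1) with hj₀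
      have hj₀1 : j₀ + 1 = d - m := by omega
      obtain ⟨hQc, hQI⟩ := hQ1 (j₀ + 1) (by omega) (by omega)
      obtain ⟨qs, a, haj, hqs, hle, hmin⟩ := exists_floor hinj p hp0 r q hq h hqp j₀
      have hqsQ : qs ≤ Q (j₀ + 1) := hmin _ (fun i hi => hQI i (by omega))
      haveI := hp a (by omega)
      haveI := hp j₀ (by omega)
      obtain ⟨Qn, hQnp, hqsQn, hQnQ, hQnc⟩ := exists_prime_between qs.asIdeal (Q (j₀ + 1)).asIdeal hqsQ
        (p a) (p j₀) (hmono a j₀ haj (by omega))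
        (by rw [hQc]; exact hmono j₀ (j₀ + 1) (by omega) (by omega)) hqs (hic a (by omega))
      refine ⟨Function.update Q j₀ ⟨Qn, hQnp⟩, fun j hj1 hj2 => ?_, fun j hj1 hj2 => ?_⟩
      · by_cases hj : j = j₀
        · subst hj
          rw [Function.update_self]
          exact ⟨hQnc, fun i hi => (hle i hi).trans hqsQn⟩
        · rw [Function.update_of_ne hj]
          exact hQ1 j (by omega) hj2
      · by_cases hj : j = j₀
        · subst hj
          rw [Function.update_self, Function.update_of_ne (by omega)]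
          exact hQnQ
        · rw [Function.update_of_ne hj, Function.update_of_ne (by omega)]
          exact hQ2 j (by omega) hj2
  obtain ⟨Q, hQ1, hQ2⟩ := key d le_rfl
  refine ⟨Q, fun j hj => (hQ1 j (by omega) hj).1, fun j hj => ?_, fun i => ?_⟩
  · refine lt_of_le_of_ne (hQ2 j (by omega) hj) (fun heq => hstrict j hj ?_)
    rw [← (hQ1 j (by omega) hj.le).1, ← (hQ1 (j+1) (by omega) hj).1, heq]
  · obtain ⟨hc, hI⟩ := hQ1 (h i) (by omega) (hh i)
    have hle : q i ≤ Q (h i) := hI i le_rfl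
    by_contra hne
    have hlt : (q i).asIdeal < (Q (h i)).asIdeal := lt_of_le_of_ne hle (fun e => hne (PrimeSpectrum.ext e).symm)
    have := Ideal.IsIntegral.comap_lt_comap (R := R) hlt
    rw [← Ideal.under_def, ← Ideal.under_def, hc, hqp i] at this
    exact lt_irrefl _ this

end chain

end Groth.Agent.Lib.T2H8.ChainNN
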