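import Mathlib
import Groth.Agent.Lib.T2H8ChainNNE
set_option autoImplicit false
open MvPolynomial

namespace Groth.Agent.Lib.T2H8.ChainNN

open Groth.Agent.Lib.Helper14.NNPrime

universe u

variable {k : Type u} [Field k]

/-- the coordinate ideals -/
noncomputable def pIdeal (k : Type u) [Field k] (d j : ℕ) : Ideal (MvPolynomial (Fin d) k) :=
  Ideal.span (X '' {l : Fin d | (l : ℕ) < j})

theorem pIdeal_eq_ker (d j : ℕ) : pIdeal k d j = RingHom.ker (kill k d j) := (ker_kill d j).symm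

instance pIdeal_isPrime (d j : ℕ) : (pIdeal k d j).IsPrime := by
  rw [pIdeal_eq_ker]
  exact RingHom.ker_isPrime _

theorem pIdeal_zero (d : ℕ) : pIdeal k d 0 = ⊥ := by
  simp [pIdeal]

theorem pIdeal_mono (d : ℕ) {a b : ℕ} (hab : a ≤ b) : pIdeal k d a ≤ pIdeal k d b := by
  apply Ideal.span_mono
  apply Set.image_mono
  intro l hl
  exact lt_of_lt_of_le hl hab

theorem pIdeal_ne (d : ℕ) {j : ℕ} (hj : j < d) : pIdeal k d j ≠ pIdeal k d (j + 1) := by
  classical
  intro heq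
  have h1 : (X ⟨j, hj⟩ : MvPolynomial (Fin d) k) ∈ pIdeal k d (j + 1) :=
    Ideal.subset_span ⟨⟨j, hj⟩, Nat.lt_succ_self j, rfl⟩
  rw [← heq, pIdeal, mem_ideal_span_X_image] at h1
  obtain ⟨i, hi, hne⟩ := h1 (Finsupp.single ⟨j, hj⟩ 1) (by simp [support_X])
  have : i = ⟨j, hj⟩ := by
    by_contra hne'
    exact hne (Finsupp.single_eq_of_ne hne')
  subst this
  exact lt_irrefl j (show j < j from hi)

theorem isIntegrallyClosed_quot_pIdeal (d j : ℕ) :
    IsIntegrallyClosed (MvPolynomial (Fin d) k ⧸ pIdeal k d j) := by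
  rw [pIdeal_eq_ker]
  exact IsIntegrallyClosed.of_equiv
    (RingHom.quotientKerEquivOfSurjective (f := (kill k d j).toRingHom) (kill_surjective d j)).symm

theorem part2 (A : Type u) [CommRing A] [IsDomain A] [Algebra k A]
    (d : ℕ) (r : ℕ) (q : Fin r → PrimeSpectrum A) (hq : StrictMono q) (h : Fin r → ℕ) (hh : ∀ i, h i ≤ d)
    (φ : MvPolynomial (Fin d) k →ₐ[k] A) (hfin : φ.toRingHom.Finite) (hinj : Function.Injective φ)
    (hφq : ∀ i, (q i).asIdeal.comap φ = Ideal.span (MvPolynomial.X '' {l : Fin d | (l : ℕ) < h i})) :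
    ∃ Q : ℕ → PrimeSpectrum A,
        (∀ j, j ≤ d → (Q j).asIdeal.comap φ = Ideal.span (MvPolynomial.X '' {l : Fin d | (l : ℕ) < j})) ∧
        (∀ j, j < d → Q j < Q (j + 1)) ∧ (∀ i, Q (h i) = q i) := by
  letI : Algebra (MvPolynomial (Fin d) k) A := φ.toRingHom.toAlgebra
  haveI : Module.Finite (MvPolynomial (Fin d) k) A := hfin
  haveI : Algebra.IsIntegral (MvPolynomial (Fin d) k) A := Algebra.IsIntegral.of_finite _ _
  exact exists_chain (R := MvPolynomial (Fin d) k) (A := A) hinj d (pIdeal k d)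
    (fun j _ => inferInstance) (pIdeal_zero d)
    (fun a b hab _ => pIdeal_mono d hab) (fun j hj => pIdeal_ne d hj)
    (fun j _ => isIntegrallyClosed_quot_pIdeal d j) r q hq.monotone h hh hφq

theorem main_S12439 (k A : Type u) [Field k]
    [CommRing A] [IsDomain A] [Algebra k A] [Algebra.FiniteType k A] (d : ℕ) (hd : ringKrullDim A = (d : WithBot ℕ∞))
    (r : ℕ) (q : Fin r → PrimeSpectrum A) (hq : StrictMono q) (h : Fin r → ℕ) (hh : ∀ i, h i ≤ d)
    (hdim : ∀ i, ringKrullDim (A ⧸ (q i).asIdeal) = ((d - h i : ℕ) : WithBot ℕ∞)) :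
    (∃ φ : MvPolynomial (Fin d) k →ₐ[k] A, φ.toRingHom.Finite ∧ Function.Injective φ ∧
      ∀ i, (q i).asIdeal.comap φ = Ideal.span (MvPolynomial.X '' {l : Fin d | (l : ℕ) < h i})) ∧
    (∀ φ : MvPolynomial (Fin d) k →ₐ[k] A, φ.toRingHom.Finite → Function.Injective φ →
      (∀ i, (q i).asIdeal.comap φ = Ideal.span (MvPolynomial.X '' {l : Fin d | (l : ℕ) < h i})) →
      ∃ Q : ℕ → PrimeSpectrum A,
        (∀ j, j ≤ d → (Q j).asIdeal.comap φ = Ideal.span (MvPolynomial.X '' {l : Fin d | (l : ℕ) < j})) ∧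
        (∀ j, j < d → Q j < Q (j + 1)) ∧ (∀ i, Q (h i) = q i)) :=
  ⟨part1 A d hd r q hq h hh hdim, fun φ hfin hinj hφq => part2 A d r q hq h hh φ hfin hinj hφq⟩

end Groth.Agent.Lib.T2H8.ChainNN
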