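import Mathlib

/-!
# T2H8FlatKrull: a flatness criterion for homomorphisms of Noetherian rings

If `S → T` is a homomorphism of Noetherian rings such that every maximal ideal `𝔪` of `T`
contains `𝔟 T` for an ideal `𝔟` of `S` with `S/𝔟^k → T/𝔟^k T` bijective for all `k`, then
`T` is flat over `S`.
-/

set_option autoImplicit false
universe u

open scoped TensorProduct

namespace Groth.Agent.Lib.T2H8.FlatKrull

theorem map_mem_smul_top {P : Type*} [CommRing P] {M N : Type*} [AddCommGroup M]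
    [AddCommGroup N] [Module P M] [Module P N]
    (g : M →ₗ[P] N) (J : Ideal P) {m : M} (hm : m ∈ (J • ⊤ : Submodule P M)) :
    g m ∈ (J • ⊤ : Submodule P N) := by
  refine Submodule.smul_induction_on hm ?_ ?_
  · intro r hr n _
    rw [map_smul]
    exact Submodule.smul_mem_smul hr Submodule.mem_top
  · intro x y hx hy
    rw [map_add]
    exact add_mem hx hy

variable {S T : Type u} [CommRing S] [CommRing T] [Algebra S T]

theorem exists_sub_mem (𝔞 : Ideal S) (K : Ideal S)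
    (hsur : ∀ τ : T, ∃ s : S, τ - algebraMap S T s ∈ K.map (algebraMap S T))
    (q : T ⊗[S] 𝔞) :
    ∃ a : 𝔞, q - (1 : T) ⊗ₜ[S] a ∈
      (K.map (algebraMap S T)) • (⊤ : Submodule T (T ⊗[S] 𝔞)) := by
  induction q with
  | zero =>
    refine ⟨0, ?_⟩
    rw [TensorProduct.tmul_zero, sub_zero]
    exact zero_mem _
  | tmul τ a =>
    obtain ⟨s, hs⟩ := hsur τ
    refine ⟨s • a, ?_⟩
    have h0 : (1 : T) ⊗ₜ[S] (s • a) = (algebraMap S T s) ⊗ₜ[S] a := by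
      rw [← TensorProduct.smul_tmul]
      congr 1
      rw [Algebra.smul_def, mul_one]
    have h1 : τ ⊗ₜ[S] a - (1 : T) ⊗ₜ[S] (s • a) =
        (τ - algebraMap S T s) • ((1 : T) ⊗ₜ[S] a) := by
      rw [h0, TensorProduct.smul_tmul', smul_eq_mul, mul_one, TensorProduct.sub_tmul]
    rw [h1]
    exact Submodule.smul_mem_smul hs Submodule.mem_top
  | add x y hx hy =>
    obtain ⟨a1, h1⟩ := hx
    obtain ⟨a2, h2⟩ := hy
    refine ⟨a1 + a2, ?_⟩
    have e : x + y - (1 : T) ⊗ₜ[S] (a1 + a2) =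
        (x - (1 : T) ⊗ₜ[S] a1) + (y - (1 : T) ⊗ₜ[S] a2) := by
      rw [TensorProduct.tmul_add]
      abel
    rw [e]
    exact add_mem h1 h2

theorem flat_of_forall_maximal [IsNoetherianRing S] [IsNoetherianRing T]
    (h : ∀ 𝔪 : Ideal T, 𝔪.IsMaximal → ∃ 𝔟 : Ideal S, 𝔟.map (algebraMap S T) ≤ 𝔪 ∧
      ∀ k : ℕ, (∀ τ : T, ∃ s : S, τ - algebraMap S T s ∈ (𝔟 ^ k).map (algebraMap S T)) ∧
        (∀ s : S, algebraMap S T s ∈ (𝔟 ^ k).map (algebraMap S T) → s ∈ 𝔟 ^ k)) :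
    Module.Flat S T := by
  rw [Module.Flat.iff_lTensor_injective]
  intro 𝔞 h𝔞
  haveI : Module.Finite S 𝔞 := Module.Finite.of_fg h𝔞
  rw [injective_iff_map_eq_zero]
  intro q hq
  by_contra hq0
  have hne : Ideal.torsionOf T (T ⊗[S] 𝔞) q ≠ ⊤ := by
    intro htop
    have h1 : (1 : T) ∈ Ideal.torsionOf T (T ⊗[S] 𝔞) q := by
      rw [htop]
      trivial
    rw [Ideal.mem_torsionOf_iff, one_smul] at h1
    exact hq0 h1
  obtain ⟨𝔪, h𝔪, hle⟩ := Ideal.exists_le_maximal _ hne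
  obtain ⟨𝔟, h𝔟, hk⟩ := h 𝔪 h𝔪
  obtain ⟨φ, hφ⟩ : ∃ φ : T ⊗[S] 𝔞 →ₗ[T] T, ∀ z, φ z =
      TensorProduct.AlgebraTensorModule.rid S T T ((𝔞.subtype.baseChange T) z) :=
    ⟨(TensorProduct.AlgebraTensorModule.rid S T T).toLinearMap ∘ₗ (𝔞.subtype.baseChange T),
      fun z => rfl⟩
  have hφq : φ q = 0 := by
    rw [hφ]
    have e : (𝔞.subtype.baseChange T) q = (𝔞.subtype.lTensor T) q := rfl
    rw [e, hq, map_zero]
  have hφ1 : ∀ a : 𝔞, φ ((1 : T) ⊗ₜ[S] a) = algebraMap S T (a : S) := by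
    intro a
    rw [hφ, LinearMap.baseChange_tmul, TensorProduct.AlgebraTensorModule.rid_tmul,
      Algebra.smul_def, mul_one]
    rfl
  have hmem : ∀ k : ℕ, q ∈
      ((𝔟.map (algebraMap S T)) ^ k • ⊤ : Submodule T (T ⊗[S] 𝔞)) := by
    intro k
    obtain ⟨c, hc⟩ := Ideal.exists_pow_inf_eq_pow_smul 𝔟 (𝔞 : Submodule S S)
    obtain ⟨hsur, hinj⟩ := hk (k + c)
    obtain ⟨a, ha⟩ := exists_sub_mem 𝔞 (𝔟 ^ (k + c)) hsur q
    have h1 := map_mem_smul_top φ _ ha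
    rw [map_sub, hφq, zero_sub, hφ1, Ideal.smul_eq_mul, Ideal.mul_top, neg_mem_iff] at h1
    have h2 : (a : S) ∈ 𝔟 ^ (k + c) := hinj _ h1
    have h3 : (a : S) ∈ 𝔟 ^ (k + c) • (⊤ : Submodule S S) ⊓ 𝔞 := by
      refine ⟨?_, a.2⟩
      rw [Ideal.smul_eq_mul, Ideal.mul_top]
      exact h2
    rw [hc (k + c) (Nat.le_add_left c k), Nat.add_sub_cancel] at h3
    have h4 : (a : S) ∈ 𝔟 ^ k • (𝔞 : Submodule S S) :=
      Submodule.smul_mono le_rfl inf_le_right h3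
    have hsub : 𝔟 ^ k • (𝔞 : Submodule S S) =
        Submodule.map 𝔞.subtype (𝔟 ^ k • (⊤ : Submodule S 𝔞)) := by
      rw [Submodule.map_smul'', Submodule.map_top, Submodule.range_subtype]
    rw [hsub] at h4
    obtain ⟨a', ha', haa'⟩ := h4
    have h5 : a' = a := Subtype.ext haa'
    rw [h5] at ha'
    have h6 := map_mem_smul_top (TensorProduct.mk S T 𝔞 1) _ ha'
    have h7 := Ideal.smul_restrictScalars (𝔟 ^ k) (⊤ : Submodule T (T ⊗[S] 𝔞))
    rw [Submodule.restrictScalars_top] at h7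
    have h8 : (1 : T) ⊗ₜ[S] a ∈
        ((𝔟 ^ k).map (algebraMap S T)) • (⊤ : Submodule T (T ⊗[S] 𝔞)) := by
      rw [← Submodule.restrictScalars_mem S, h7]
      exact h6
    have h9 : q - (1 : T) ⊗ₜ[S] a ∈
        ((𝔟 ^ k).map (algebraMap S T)) • (⊤ : Submodule T (T ⊗[S] 𝔞)) :=
      Submodule.smul_mono_left
        (Ideal.map_mono (Ideal.pow_le_pow_right (Nat.le_add_right k c))) ha
    rw [← Ideal.map_pow]
    have e : q = (q - (1 : T) ⊗ₜ[S] a) + (1 : T) ⊗ₜ[S] a := by abel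
    rw [e]
    exact add_mem h9 h8
  have hinf : q ∈ (⨅ i : ℕ, (𝔟.map (algebraMap S T)) ^ i • ⊤ :
      Submodule T (T ⊗[S] 𝔞)) := (Submodule.mem_iInf _).mpr hmem
  obtain ⟨r, hr⟩ := (Ideal.mem_iInf_smul_pow_eq_bot_iff _ q).mp hinf
  have h1 : (1 - (r : T)) ∈ 𝔪 := by
    apply hle
    rw [Ideal.mem_torsionOf_iff, sub_smul, one_smul, hr, sub_self]
  have h2 : (r : T) ∈ 𝔪 := h𝔟 r.2
  have h3 := add_mem h1 h2
  rw [sub_add_cancel] at h3
  exact h𝔪.ne_top ((Ideal.eq_top_iff_one _).mpr h3)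

end Groth.Agent.Lib.T2H8.FlatKrull
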