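import Mathlib

/-!
# T2H8UULemma: the `u, u⁻¹` lemma

Let `S` be a local integrally closed domain with fraction field `L`. If `x : L` is a root of a
polynomial over `S` one of whose coefficients is a unit, then `x ∈ S` or `x⁻¹ ∈ S`.
-/

set_option autoImplicit false
universe u

namespace Groth.Agent.Lib.T2H8.UULemma

theorem exists_or_inv_of_unit_coeff {S L : Type*} [CommRing S] [IsDomain S] [IsLocalRing S]
    [Field L] [Algebra S L] [IsFractionRing S L] [IsIntegrallyClosed S] :
    ∀ (n : ℕ) (p : Polynomial S) (x : L), p.natDegree ≤ n → Polynomial.aeval x p = 0 →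
      (∃ i, IsUnit (p.coeff i)) →
      (∃ s : S, algebraMap S L s = x) ∨ (∃ s : S, algebraMap S L s = x⁻¹) := by
  intro n
  induction n with
  | zero =>
    intro p x hdeg hx hunit
    obtain ⟨i, hi⟩ := hunit
    exfalso
    have hp : p = Polynomial.C (p.coeff 0) := Polynomial.eq_C_of_natDegree_le_zero hdeg
    have hi0 : i = 0 := by
      by_contra h
      have h1 : p.coeff i = 0 := by rw [hp, Polynomial.coeff_C, if_neg h]
      rw [h1] at hi
      exact not_isUnit_zero hi
    subst hi0
    rw [hp, Polynomial.aeval_C] at hx
    have h2 : p.coeff 0 = 0 := (map_eq_zero_iff _ (IsFractionRing.injective S L)).mp hx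
    rw [h2] at hi
    exact not_isUnit_zero hi
  | succ n ih =>
    intro p x hdeg hx hunit
    by_cases hlt : p.natDegree ≤ n
    · exact ih p x hlt hx hunit
    have hdeg' : p.natDegree = n + 1 := le_antisymm hdeg (Nat.lt_of_not_ge hlt)
    by_cases hlead : IsUnit p.leadingCoeff
    · left
      have hint : IsIntegral S x := by
        refine ⟨hlead.unit⁻¹ • p, Polynomial.monic_of_isUnit_leadingCoeff_inv_smul hlead, ?_⟩
        rw [Units.smul_def, Polynomial.smul_eq_C_mul, Polynomial.eval₂_mul, Polynomial.eval₂_C,
          ← Polynomial.aeval_def, hx, mul_zero]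
      exact IsIntegrallyClosed.isIntegral_iff.mp hint
    · have hv : IsIntegral S (p.leadingCoeff • x) := isIntegral_leadingCoeff_smul p x hx
      obtain ⟨v₀, hv₀⟩ := IsIntegrallyClosed.isIntegral_iff.mp hv
      obtain ⟨q, hq⟩ : ∃ q : Polynomial S,
          q = p.eraseLead + Polynomial.C v₀ * Polynomial.X ^ n := ⟨_, rfl⟩
      have hqdeg : q.natDegree ≤ n := by
        rw [hq]
        apply (Polynomial.natDegree_add_le _ _).trans
        apply max_le
        · have h1 := Polynomial.eraseLead_natDegree_le p
          omega
        · exact Polynomial.natDegree_C_mul_X_pow_le _ _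
      have hqx : Polynomial.aeval x q = 0 := by
        have h1 : Polynomial.aeval x p.eraseLead =
            - (algebraMap S L p.leadingCoeff * x ^ (n + 1)) := by
          have h2 := congrArg (Polynomial.aeval x) (Polynomial.eraseLead_add_C_mul_X_pow p)
          rw [map_add, hx, map_mul, Polynomial.aeval_C, map_pow, Polynomial.aeval_X, hdeg'] at h2
          exact eq_neg_of_add_eq_zero_left h2
        rw [hq, map_add, h1, map_mul, Polynomial.aeval_C, map_pow, Polynomial.aeval_X, hv₀,
          Algebra.smul_def, pow_succ]
        ring
      by_cases hq_unit : ∃ i, IsUnit (q.coeff i)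
      · exact ih q x hqdeg hqx hq_unit
      · right
        push Not at hq_unit
        obtain ⟨i, hi⟩ := hunit
        have hin : i = n := by
          by_contra hne
          by_cases hi1 : i = n + 1
          · rw [hi1, ← hdeg'] at hi
            exact hlead hi
          · have h1 : q.coeff i = p.coeff i := by
              rw [hq, Polynomial.coeff_add, Polynomial.eraseLead_coeff, hdeg', if_neg hi1,
                Polynomial.coeff_C_mul_X_pow, if_neg hne, add_zero]
            exact hq_unit i (h1 ▸ hi)
        subst hin
        have hqn : q.coeff i = p.coeff i + v₀ := by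
          rw [hq, Polynomial.coeff_add, Polynomial.eraseLead_coeff, hdeg',
            if_neg (Nat.ne_of_lt (Nat.lt_succ_self i)), Polynomial.coeff_C_mul_X_pow, if_pos rfl]
        have hv₀unit : IsUnit v₀ := by
          by_contra hnv
          have h1 : p.coeff i + v₀ ∈ nonunits S := hqn ▸ hq_unit i
          have h2 : (p.coeff i + v₀) + (-v₀) ∈ nonunits S :=
            IsLocalRing.nonunits_add h1 (by
              show ¬ IsUnit (-v₀)
              rwa [IsUnit.neg_iff])
          have h3 : (p.coeff i + v₀) + (-v₀) = p.coeff i := by ring
          rw [h3] at h2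
          exact h2 hi
        obtain ⟨w, hw⟩ := hv₀unit
        refine ⟨p.leadingCoeff * ↑w⁻¹, ?_⟩
        have h3 : algebraMap S L p.leadingCoeff * x = algebraMap S L v₀ := by
          rw [hv₀, Algebra.smul_def]
        have hw0 : algebraMap S L v₀ ≠ 0 := by
          rw [← hw]
          exact (w.isUnit.map (algebraMap S L)).ne_zero
        have hx0 : x ≠ 0 := by
          rintro rfl
          rw [mul_zero] at h3
          exact hw0 h3.symm
        apply eq_inv_of_mul_eq_one_left
        rw [map_mul, mul_right_comm, h3, ← hw, ← map_mul, Units.mul_inv, map_one]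

end Groth.Agent.Lib.T2H8.UULemma
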