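import Mathlib
import Groth.Agent.Lib.T2H8UULemma
import Groth.Agent.Lib.T2H8RPowFP
import Groth.Agent.Lib.Helper7GeomInt
import Groth.Agent.Lib.Helper2HenselRad

/-!
# T2H8RigVal: integral closures of finite domains over a complete valuation ring of height one
are valuation rings
-/

set_option autoImplicit false
set_option linter.unusedSectionVars false
universe u

namespace Groth.Agent.Lib.T2H8.RigVal

open RPowBase

theorem henselianLocalRing_of_complete (R : Type u) [CommRing R] [IsDomain R] [ValuationRing R]
    [Ring.KrullDimLE 1 R] (t : R) (ht : t ≠ 0) [hc : IsAdicComplete (Ideal.span {t}) R] :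
    HenselianLocalRing R := by
  have htu : ¬ IsUnit t := RPowFP.not_isUnit_of_complete t hc
  have h1 : HenselianRing R (Ideal.span {t}) := inferInstance
  have le1 : Ideal.span {t} ≤ IsLocalRing.maximalIdeal R := by
    rw [Ideal.span_le]
    intro z hz
    rw [Set.mem_singleton_iff] at hz
    rw [hz]
    exact (IsLocalRing.mem_maximalIdeal t).mpr htu
  have le2 : IsLocalRing.maximalIdeal R ≤ (Ideal.span {t}).radical := by
    intro x hx
    obtain ⟨j, hj⟩ := exists_dvd_pow t x ht ((IsLocalRing.mem_maximalIdeal x).mp hx)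
    exact ⟨j, Ideal.mem_span_singleton.mpr hj⟩
  have h2 : HenselianRing R (IsLocalRing.maximalIdeal R) :=
    Helper2.henselianRing_of_le_radical _ _ h1 le1 le2
  exact { is_henselian := fun f hf a₀ h₁ h₂ => h2.is_henselian f hf a₀ h₁ (h₂.map _) }

theorem valuationRing_integralClosure (R : Type u) [CommRing R] [IsDomain R] [ValuationRing R]
    [Ring.KrullDimLE 1 R] (t : R) (ht : t ≠ 0) [hc : IsAdicComplete (Ideal.span {t}) R]
    (B : Type u) [CommRing B] [Algebra R B] [IsDomain B] [Module.Finite R B]
    (hinj : Function.Injective (algebraMap R B)) :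
    ValuationRing (integralClosure B (FractionRing B)) := by
  classical
  haveI := henselianLocalRing_of_complete R t ht
  haveI : Algebra.IsIntegral R B := Algebra.IsIntegral.of_finite R B
  haveI : Algebra.IsIntegral R (integralClosure B (FractionRing B)) :=
    Algebra.IsIntegral.trans (R := R) B
  haveI : IsLocalRing (integralClosure B (FractionRing B)) :=
    Helper7.GeomInt.isLocalRing_of_isIntegral_of_isDomain R _
  haveI : IsFractionRing (integralClosure B (FractionRing B)) (FractionRing B) :=
    integralClosure.isFractionRing_of_finite_extension (FractionRing B) (FractionRing B)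
  haveI : IsIntegrallyClosed (integralClosure B (FractionRing B)) :=
    integralClosure.isIntegrallyClosedOfFiniteExtension (FractionRing B) (L := FractionRing B)
  haveI : Algebra.IsAlgebraic B (FractionRing B) :=
    IsLocalization.isAlgebraic (FractionRing B) (nonZeroDivisors B)
  haveI : Algebra.IsAlgebraic R (FractionRing B) := Algebra.IsIntegral.trans_isAlgebraic R B _
  have hinjL : Function.Injective (algebraMap R (FractionRing B)) := by
    rw [IsScalarTower.algebraMap_eq R B (FractionRing B)]
    exact (IsFractionRing.injective B (FractionRing B)).comp hinj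
  rw [ValuationRing.iff_isInteger_or_isInteger (integralClosure B (FractionRing B))
    (FractionRing B)]
  intro x
  obtain ⟨p₀, hp₀, hx₀⟩ := Algebra.IsAlgebraic.isAlgebraic (R := R) x
  obtain ⟨m₀, hm₀, hdiv⟩ := AdicDev.exists_dvd_all (fun a b : R => ValuationRing.dvd_total a b)
    p₀.support (Polynomial.support_nonempty.mpr hp₀) (fun m => p₀.coeff m)
  obtain ⟨c, hc⟩ : ∃ c, c = p₀.coeff m₀ := ⟨_, rfl⟩
  rw [← hc] at hdiv
  have hc0 : c ≠ 0 := by
    rw [hc]
    exact Polynomial.mem_support_iff.mp hm₀
  have hdiv' : ∀ m, c ∣ p₀.coeff m := by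
    intro m
    by_cases hm : m ∈ p₀.support
    · exact hdiv m hm
    · rw [Polynomial.notMem_support_iff.mp hm]
      exact dvd_zero c
  obtain ⟨p₁, hp₁⟩ := (Polynomial.C_dvd_iff_dvd_coeff c p₀).mpr hdiv'
  have hcoeff : p₁.coeff m₀ = 1 := by
    have h1 : c * p₁.coeff m₀ = c * 1 := by
      rw [← Polynomial.coeff_C_mul, ← hp₁, mul_one, hc]
    exact mul_left_cancel₀ hc0 h1
  have hx₁ : Polynomial.aeval x p₁ = 0 := by
    rw [hp₁, map_mul, Polynomial.aeval_C] at hx₀
    rcases mul_eq_zero.mp hx₀ with h | h
    · exfalso
      exact hc0 ((map_eq_zero_iff _ hinjL).mp h)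
    · exact h
  have key := UULemma.exists_or_inv_of_unit_coeff
    (S := integralClosure B (FractionRing B)) (L := FractionRing B)
    (p₁.map (algebraMap R (integralClosure B (FractionRing B)))).natDegree
    (p₁.map (algebraMap R (integralClosure B (FractionRing B)))) x le_rfl
    (by rw [Polynomial.aeval_map_algebraMap]; exact hx₁)
    ⟨m₀, by rw [Polynomial.coeff_map, hcoeff, map_one]; exact isUnit_one⟩
  rcases key with ⟨s, hs⟩ | ⟨s, hs⟩
  · left
    exact ⟨s, hs⟩
  · right
    exact ⟨s, hs⟩

end Groth.Agent.Lib.T2H8.RigVal
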