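import Mathlib
import Groth.Prelude.Def_W4bk4boschfrg79
import Groth.Agent.Lib.T2H8RigVal
import Groth.Agent.Lib.T2H8RPowFT
import Groth.Agent.Lib.Helper5IntDim
import Groth.Agent.S11529

/-!
# T2H8RigLift: lifting closed points of the special fibre to rig-points
-/

set_option autoImplicit false
set_option linter.unusedSectionVars false
universe u

namespace Groth.Agent.Lib.T2H8.RigLift

open MvPolynomial RPowBase

section Omega

variable (R : Type u) [CommRing R] [IsDomain R] [ValuationRing R] [Ring.KrullDimLE 1 R]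

/-- an algebraic closure of the fraction field -/
abbrev Om : Type u := AlgebraicClosure (FractionRing R)

/-- the integral closure of `R` in an algebraic closure of its fraction field -/
noncomputable abbrev SOm : Subalgebra R (Om R) := integralClosure R (Om R)

theorem isLocalRing_SOm (t : R) (ht : t ≠ 0) [hc : IsAdicComplete (Ideal.span {t}) R] :
    IsLocalRing (SOm R) := by
  haveI := RigVal.henselianLocalRing_of_complete R t ht
  exact Helper7.GeomInt.isLocalRing_of_isIntegral_of_isDomain R _

theorem isAlgClosed_residueField [IsLocalRing (SOm R)] :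
    IsAlgClosed (IsLocalRing.ResidueField (SOm R)) := by
  apply IsAlgClosed.of_exists_root
  intro p hpm hpirr
  obtain ⟨q, hqmap, hqdeg, hqm⟩ := Polynomial.lifts_and_natDegree_eq_and_monic
    (f := IsLocalRing.residue (SOm R)) ((Polynomial.mem_lifts _).mpr
      (Polynomial.map_surjective _ IsLocalRing.residue_surjective p)) hpm
  have hdeg : (q.map (algebraMap (SOm R) (Om R))).degree ≠ 0 := by
    rw [Polynomial.degree_map_eq_of_injective (Subtype.val_injective)]
    intro h0
    have h1 : q.natDegree = 0 := Polynomial.natDegree_eq_zero_iff_degree_le_zero.mpr (le_of_eq h0)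
    rw [hqdeg] at h1
    exact hpirr.natDegree_pos.ne' h1
  obtain ⟨x, hx⟩ := IsAlgClosed.exists_root (q.map (algebraMap (SOm R) (Om R))) hdeg
  have hxint : IsIntegral (SOm R) x := ⟨q, hqm, by rw [← Polynomial.eval_map]; exact hx⟩
  have hxR : IsIntegral R x := isIntegral_trans (A := SOm R) x hxint
  refine ⟨IsLocalRing.residue (SOm R) ⟨x, hxR⟩, ?_⟩
  have h0 : q.eval (⟨x, hxR⟩ : SOm R) = 0 := by
    apply Subtype.val_injective
    have h1 := Polynomial.eval₂_at_apply (p := q) (algebraMap (SOm R) (Om R)) (⟨x, hxR⟩ : SOm R)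
    rw [← Polynomial.eval_map] at h1
    exact h1.symm.trans hx
  have h2 := Polynomial.eval₂_at_apply (p := q) (IsLocalRing.residue (SOm R)) (⟨x, hxR⟩ : SOm R)
  rw [← Polynomial.eval_map, hqmap, h0, map_zero] at h2
  exact h2

end Omega

theorem tft_self (R : Type u) [CommRing R] (t : R) [IsAdicComplete (Ideal.span {t}) R] :
    AdicRing.TopFiniteType R (Ideal.span {t}) R := by
  haveI : IsAdicComplete ((Ideal.span {t}).map (algebraMap R R)) R := by
    rw [Algebra.algebraMap_self, Ideal.map_id]
    infer_instance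
  obtain ⟨Ψ, -⟩ := RPowFT.exists_lift (Ideal.span {t}) 0 R
    (MvPolynomial.aeval (fun i : Fin 0 => Fin.elim0 i))
  refine ⟨0, Ψ, fun r => ⟨algebraMap R _ r, ?_⟩⟩
  rw [Ψ.commutes]
  rfl

theorem ringKrullDim_eq_one (R : Type u) [CommRing R] [IsDomain R] [ValuationRing R]
    [Ring.KrullDimLE 1 R] (t : R) (ht : t ≠ 0) (htu : ¬ IsUnit t) : ringKrullDim R = 1 := by
  rw [ringKrullDim_eq_one_iff_of_isLocalRing_isDomain]
  refine ⟨fun hF => htu (by obtain ⟨y, hy⟩ := hF.mul_inv_cancel ht; exact IsUnit.of_mul_eq_one y hy), fun x hx => ?_⟩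
  intro y hy
  obtain ⟨j, hj⟩ := exists_dvd_pow x y hx ((IsLocalRing.mem_maximalIdeal y).mp hy)
  exact ⟨j, Ideal.mem_span_singleton.mpr hj⟩

section main

variable (R : Type u) [CommRing R] [IsDomain R] [ValuationRing R] [Ring.KrullDimLE 1 R]

theorem exists_rig_point (t : R) (ht : t ≠ 0) [hc : IsAdicComplete (Ideal.span {t}) R] (n : ℕ)
    (m : Ideal (A t n)) [hmax : m.IsMaximal] (hm : algebraMap R (A t n) t ∈ m) :
    ∃ p : Ideal (A t n), p.IsPrime ∧ p ≤ m ∧ algebraMap R (A t n) t ∉ p ∧
      ringKrullDim (A t n ⧸ p) = 1 := by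
  classical
  have hR : AdicRing.IsBase R (Ideal.span {t}) :=
    ⟨hc, Or.inr ⟨inferInstance, inferInstance, inferInstance, t, ht, rfl⟩⟩
  have htu : ¬ IsUnit t := RPowFP.not_isUnit_of_complete t hc
  haveI hSloc : IsLocalRing (SOm R) := isLocalRing_SOm R t ht
  haveI hSalg := isAlgClosed_residueField R
  have hinjΩ : Function.Injective (algebraMap R (Om R)) := by
    rw [IsScalarTower.algebraMap_eq R (FractionRing R) (Om R)]
    exact (algebraMap (FractionRing R) (Om R)).injective.comp
      (IsFractionRing.injective R (FractionRing R))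
  have hinjS : Function.Injective (algebraMap R (SOm R)) := by
    have h1 : Function.Injective ((SOm R).val ∘ (algebraMap R (SOm R))) := hinjΩ
    exact Function.Injective.of_comp h1
  haveI hlocS : IsLocalHom (algebraMap R (SOm R)) :=
    (algebraMap_isIntegral_iff.mpr (inferInstance : Algebra.IsIntegral R (SOm R))).isLocalHom hinjS
  letI : Field (A t n ⧸ m) := Ideal.Quotient.field m
  have hmR : IsLocalRing.maximalIdeal R ≤ m.comap (algebraMap R (A t n)) := by
    intro c hc'
    have hcu : ¬ IsUnit c := (IsLocalRing.mem_maximalIdeal c).mp hc'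
    obtain ⟨i, e, he⟩ := exists_dvd_pow t c ht hcu
    rw [Ideal.mem_comap]
    apply hmax.isPrime.mem_of_pow_mem i
    rw [← map_pow, he, map_mul]
    exact Ideal.mul_mem_right _ _ hm
  obtain ⟨f₁, hf₁⟩ : ∃ f₁ : R →+* (A t n ⧸ m),
      f₁ = (Ideal.Quotient.mk m).comp (algebraMap R (A t n)) := ⟨_, rfl⟩
  haveI : IsLocalHom f₁ := ⟨fun r hr => by
    by_contra hnu
    have h0 : f₁ r = 0 := by
      rw [hf₁]
      exact (Ideal.Quotient.eq_zero_iff_mem).mpr (hmR ((IsLocalRing.mem_maximalIdeal r).mpr hnu))
    rw [h0] at hr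
    exact not_isUnit_zero hr⟩
  letI : Algebra (IsLocalRing.ResidueField R) (A t n ⧸ m) :=
    (IsLocalRing.ResidueField.lift f₁).toAlgebra
  have halg : ∀ r : R, algebraMap (IsLocalRing.ResidueField R) (A t n ⧸ m)
      (IsLocalRing.residue R r) = Ideal.Quotient.mk m (algebraMap R (A t n) r) := by
    intro r
    show IsLocalRing.ResidueField.lift f₁ (IsLocalRing.residue R r) = _
    rw [IsLocalRing.ResidueField.lift_residue_apply, hf₁]
    rfl
  have htm : ∀ y : A t n, Ideal.Quotient.mk m (t • y) = 0 := by
    intro y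
    rw [Ideal.Quotient.eq_zero_iff_mem, Algebra.smul_def]
    exact Ideal.mul_mem_right _ _ hm
  -- finite type over the residue field
  let θ : MvPolynomial (Fin n) (IsLocalRing.ResidueField R) →ₐ[IsLocalRing.ResidueField R]
      (A t n ⧸ m) := MvPolynomial.aeval (fun i => Ideal.Quotient.mk m (ofA t n (X i)))
  have hθ : ∀ p : MvPolynomial (Fin n) R, Ideal.Quotient.mk m (ofA t n p) =
      θ (MvPolynomial.map (IsLocalRing.residue R) p) := by
    have h1 : (Ideal.Quotient.mk m).comp ((ofA t n).toRingHom) =
        θ.toRingHom.comp (MvPolynomial.map (IsLocalRing.residue R)) := by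
      apply MvPolynomial.ringHom_ext
      · intro r
        show Ideal.Quotient.mk m (ofA t n (C r)) = θ (MvPolynomial.map _ (C r))
        rw [MvPolynomial.map_C, MvPolynomial.aeval_C, halg]
        rfl
      · intro i
        show Ideal.Quotient.mk m (ofA t n (X i)) = θ (MvPolynomial.map _ (X i))
        rw [MvPolynomial.map_X, MvPolynomial.aeval_X]
    intro p
    exact congrArg (fun F : MvPolynomial (Fin n) R →+* _ => F p) h1
  have hθsurj : Function.Surjective θ := by
    intro xbar
    obtain ⟨x, rfl⟩ := Ideal.Quotient.mk_surjective xbar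
    obtain ⟨p, y, hpy⟩ := exists_of_add_smul t n 1 x
    rw [pow_one] at hpy
    refine ⟨MvPolynomial.map (IsLocalRing.residue R) p, ?_⟩
    rw [← hθ, hpy, map_add, htm, add_zero]
  haveI : Algebra.FiniteType (IsLocalRing.ResidueField R) (A t n ⧸ m) :=
    Algebra.FiniteType.of_surjective θ hθsurj
  haveI : Module.Finite (IsLocalRing.ResidueField R) (A t n ⧸ m) :=
    finite_of_finite_type_of_isJacobsonRing _ _
  haveI : Algebra.IsAlgebraic (IsLocalRing.ResidueField R) (A t n ⧸ m) :=
    Algebra.IsAlgebraic.of_finite _ _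
  -- the embedding of residue fields
  obtain ⟨ι⟩ : Nonempty ((A t n ⧸ m) →ₐ[IsLocalRing.ResidueField R]
      IsLocalRing.ResidueField (SOm R)) := ⟨IsAlgClosed.lift⟩
  choose a ha using fun i : Fin n =>
    IsLocalRing.residue_surjective (ι (Ideal.Quotient.mk m (ofA t n (X i))))
  haveI hDfin : Module.Finite R (Algebra.adjoin R (Set.range a)) :=
    Algebra.finite_adjoin_of_finite_of_isIntegral (Set.finite_range a)
      (fun x _ => Algebra.IsIntegral.isIntegral x)
  have hDc : IsAdicComplete (Ideal.span {t}) (Algebra.adjoin R (Set.range a)) :=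
    Groth.Agent.S11529.result R _ hR R (tft_self R t) _
  haveI : IsAdicComplete ((Ideal.span {t}).map (algebraMap R (Algebra.adjoin R (Set.range a))))
      (Algebra.adjoin R (Set.range a)) :=
    (IsAdicComplete.map_algebraMap_iff (R := R) (S := Algebra.adjoin R (Set.range a))
      (I := Ideal.span {t}) (M := Algebra.adjoin R (Set.range a))).mpr hDc
  obtain ⟨a', ha'⟩ : ∃ a' : Fin n → Algebra.adjoin R (Set.range a),
      a' = fun i => ⟨a i, Algebra.subset_adjoin (Set.mem_range_self i)⟩ := ⟨_, rfl⟩
  obtain ⟨ev, hev⟩ := RPowFT.exists_lift (Ideal.span {t}) n (Algebra.adjoin R (Set.range a))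
    (MvPolynomial.aeval a')
  have hevval : ∀ q : MvPolynomial (Fin n) R,
      ((ev (ofA t n q) : Algebra.adjoin R (Set.range a)) : SOm R) = MvPolynomial.aeval a q := by
    intro q
    have h1 : ev (ofA t n q) = MvPolynomial.aeval a' q := hev q
    rw [h1]
    have h2 : (Algebra.adjoin R (Set.range a)).val.comp (MvPolynomial.aeval a') =
        MvPolynomial.aeval a := by
      apply MvPolynomial.algHom_ext
      intro i
      rw [AlgHom.comp_apply, MvPolynomial.aeval_X, MvPolynomial.aeval_X, ha']
      rfl
    exact congrArg (fun F : MvPolynomial (Fin n) R →ₐ[R] SOm R => F q) h2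
  -- comparison of the two residue maps
  have htS : IsLocalRing.residue (SOm R) (algebraMap R (SOm R) t) = 0 := by
    rw [IsLocalRing.residue_eq_zero_iff, IsLocalRing.mem_maximalIdeal]
    intro hu
    exact htu (hlocS.map_nonunit t hu)
  have hF : ∀ x : A t n, ι (Ideal.Quotient.mk m x) =
      IsLocalRing.residue (SOm R) ((ev x : Algebra.adjoin R (Set.range a)) : SOm R) := by
    have hpoly : ∀ q : MvPolynomial (Fin n) R, ι (Ideal.Quotient.mk m (ofA t n q)) =
        IsLocalRing.residue (SOm R) (MvPolynomial.aeval a q) := by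
      have h1 : (ι.toRingHom.comp (Ideal.Quotient.mk m)).comp ((ofA t n).toRingHom) =
          (IsLocalRing.residue (SOm R)).comp (MvPolynomial.aeval a).toRingHom := by
        apply MvPolynomial.ringHom_ext
        · intro r
          show ι (Ideal.Quotient.mk m (ofA t n (C r))) =
            IsLocalRing.residue (SOm R) (MvPolynomial.aeval a (C r))
          have h2 : Ideal.Quotient.mk m (ofA t n (C r)) =
              algebraMap (IsLocalRing.ResidueField R) (A t n ⧸ m) (IsLocalRing.residue R r) := by
            rw [halg]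
            rfl
          rw [h2, ι.commutes, MvPolynomial.aeval_C]
          rfl
        · intro i
          show ι (Ideal.Quotient.mk m (ofA t n (X i))) =
            IsLocalRing.residue (SOm R) (MvPolynomial.aeval a (X i))
          rw [MvPolynomial.aeval_X, ha i]
      intro q
      exact congrArg (fun F : MvPolynomial (Fin n) R →+* _ => F q) h1
    intro x
    obtain ⟨q, y, hqy⟩ := exists_of_add_smul t n 1 x
    rw [pow_one] at hqy
    have h3 : ((ev x : Algebra.adjoin R (Set.range a)) : SOm R) =
        MvPolynomial.aeval a q + algebraMap R (SOm R) t *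
          ((ev y : Algebra.adjoin R (Set.range a)) : SOm R) := by
      rw [hqy, map_add, map_smul, Subalgebra.coe_add, hevval, Subalgebra.coe_smul,
        Algebra.smul_def]
    rw [h3, map_add, map_mul, htS, zero_mul, add_zero, ← hpoly, hqy, map_add, htm, add_zero]
  refine ⟨RingHom.ker ev.toRingHom, RingHom.ker_isPrime _, ?_, ?_, ?_⟩
  · intro x hx
    have h1 : ev x = 0 := hx
    have h2 := hF x
    rw [h1] at h2
    have h3 : ι (Ideal.Quotient.mk m x) = 0 := by
      rw [h2]
      exact map_zero _
    have h4 : Ideal.Quotient.mk m x = 0 := (map_eq_zero_iff ι ι.toRingHom.injective).mp h3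
    exact Ideal.Quotient.eq_zero_iff_mem.mp h4
  · intro hmem
    have h1 : ev (algebraMap R (A t n) t) = 0 := hmem
    rw [ev.commutes] at h1
    have h2 : algebraMap R (SOm R) t = 0 := congrArg Subtype.val h1
    exact ht ((map_eq_zero_iff _ hinjS).mp h2)
  · have hevsurj : Function.Surjective ev.toRingHom := by
      rintro ⟨d, hd⟩
      rw [Algebra.adjoin_range_eq_range_aeval] at hd
      obtain ⟨q, hq⟩ := hd
      refine ⟨ofA t n q, ?_⟩
      apply Subtype.ext
      exact (hevval q).trans hq
    rw [ringKrullDim_eq_of_ringEquiv (RingHom.quotientKerEquivOfSurjective hevsurj)]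
    haveI : Algebra.IsIntegral R (Algebra.adjoin R (Set.range a)) := Algebra.IsIntegral.of_finite R _
    have hinjD : Function.Injective (algebraMap R (Algebra.adjoin R (Set.range a))) := by
      have h1 : Function.Injective ((Algebra.adjoin R (Set.range a)).val ∘
          (algebraMap R (Algebra.adjoin R (Set.range a)))) := hinjS
      exact Function.Injective.of_comp h1
    rw [Helper5.ringKrullDim_eq_of_isIntegral_of_injective R _ hinjD]
    exact ringKrullDim_eq_one R t ht htu

end main

end Groth.Agent.Lib.T2H8.RigLift
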