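import Mathlib
import Groth.Prelude.Def_W4bk4boschfrg79
import Groth.Agent.Lib.T2H8RigLift
import Groth.Agent.Lib.T2H8RPowWeier
import Groth.Agent.Lib.T2H8RPowFP

/-!
# T2H8RigMax: rig-points and maximal ideals of the generic fibre

For a complete valuation ring `R` of height one and an `R`-algebra `S` topologically of finite
type, the primes `p` of `S` not containing `t` with `S/p` of dimension one correspond to the
maximal ideals of `S ⊗ K`.
-/

set_option autoImplicit false
set_option linter.unusedSectionVars false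
universe u

namespace Groth.Agent.Lib.T2H8.RigMax

open MvPolynomial RPowBase

section base

variable (R : Type u) [CommRing R]

/-- restricted power series in no variables are just `R`. -/
theorem algebraMap_surjective_zero (t : R) [hc : IsAdicComplete (Ideal.span {t}) R] :
    Function.Surjective (algebraMap R (A t 0)) := by
  haveI : IsAdicComplete ((Ideal.span {t}).map (algebraMap R R)) R := by
    rw [Algebra.algebraMap_self, Ideal.map_id]
    infer_instance
  have hfg : (Ideal.span {t}).FG := ⟨{t}, by simp⟩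
  haveI := RPowFT.isAdicComplete_self_rpow (Ideal.span {t}) hfg 0
  obtain ⟨Ψ, hΨ⟩ := RPowFT.exists_lift (Ideal.span {t}) 0 R
    (MvPolynomial.aeval (fun i : Fin 0 => Fin.elim0 i))
  have h := RPowFT.algHom_ext_of_hausdorff (Ideal.span {t}) hfg 0 (A t 0)
    ((Algebra.ofId R (A t 0)).comp Ψ) (AlgHom.id R (A t 0)) (by
      intro p
      obtain ⟨r, rfl⟩ := MvPolynomial.C_surjective (Fin 0) p
      rw [AlgHom.comp_apply, hΨ, AlgHom.id_apply, MvPolynomial.aeval_C]
      rfl)
  intro x
  exact ⟨Ψ x, AlgHom.congr_fun h x⟩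

end base

section main

variable (R : Type u) [CommRing R] [IsDomain R] [ValuationRing R] [Ring.KrullDimLE 1 R]

theorem smul_cancel_of_domain (t : R) (htu : ¬ IsUnit t) (B : Type u) [CommRing B] [IsDomain B]
    [Algebra R B] (htB : algebraMap R B t ≠ 0) (c : R) (hc : c ≠ 0) (b : B) (h : c • b = 0) :
    b = 0 := by
  obtain ⟨k, e, he⟩ := exists_dvd_pow c t hc htu
  have h1 : (algebraMap R B t) ^ k * b = 0 := by
    rw [← map_pow, he, map_mul, mul_comm (algebraMap R B c), mul_assoc, ← Algebra.smul_def c b, h,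
      mul_zero]
  rcases mul_eq_zero.mp h1 with h2 | h2
  · exact absurd h2 (pow_ne_zero k htB)
  · exact h2

/-- a domain which is a quotient of restricted power series and in which every prime not
containing `t` is zero, is finite over `R`. -/
theorem finite_of_field (t : R) (ht : t ≠ 0) [hc : IsAdicComplete (Ideal.span {t}) R] (n : ℕ) :
    ∀ (B : Type u) [CommRing B] [IsDomain B] [Algebra R B] (φ : A t n →ₐ[R] B),
      Function.Surjective φ → algebraMap R B t ≠ 0 →
      (∀ Q : Ideal B, Q.IsPrime → algebraMap R B t ∉ Q → Q = ⊥) → Module.Finite R B := by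
  classical
  have htu : ¬ IsUnit t := RPowFP.not_isUnit_of_complete t hc
  induction n with
  | zero =>
    intro B _ _ _ φ hφ _ _
    have hs : Function.Surjective (algebraMap R B) := by
      intro b
      obtain ⟨x, rfl⟩ := hφ b
      obtain ⟨r, rfl⟩ := algebraMap_surjective_zero R t x
      exact ⟨r, (φ.commutes r).symm⟩
    exact Module.Finite.of_surjective (Algebra.linearMap R B) hs
  | succ n ih =>
    intro B _ _ _ φ hφ htB hQ
    by_cases hker : RingHom.ker φ.toRingHom = ⊥
    · exfalso
      have hinj : Function.Injective φ :=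
        (RingHom.injective_iff_ker_eq_bot φ.toRingHom).mpr hker
      haveI : IsAdicComplete ((Ideal.span {t}).map (algebraMap R R)) R := by
        rw [Algebra.algebraMap_self, Ideal.map_id]
        infer_instance
      obtain ⟨ev₀, hev₀⟩ := RPowFT.exists_lift (Ideal.span {t}) (n + 1) R
        (MvPolynomial.aeval (fun _ : Fin (n + 1) => (0 : R)))
      obtain ⟨ψ₀, hψ₀⟩ : ∃ ψ₀ : B →ₐ[R] R,
          ψ₀ = ev₀.comp (AlgEquiv.ofBijective φ ⟨hinj, hφ⟩).symm.toAlgHom := ⟨_, rfl⟩
      have hψφ : ∀ x, ψ₀ (φ x) = ev₀ x := by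
        intro x
        rw [hψ₀, AlgHom.comp_apply]
        congr 1
        exact (AlgEquiv.ofBijective φ ⟨hinj, hφ⟩).symm_apply_apply x
      have h1 : RingHom.ker ψ₀.toRingHom = ⊥ := hQ _ (RingHom.ker_isPrime _) (by
        intro hmem
        have h2 : ψ₀ (algebraMap R B t) = 0 := hmem
        rw [ψ₀.commutes] at h2
        exact ht h2)
      have h3 : φ (ofA t (n + 1) (X 0)) ∈ RingHom.ker ψ₀.toRingHom := by
        show ψ₀ (φ (ofA t (n + 1) (X 0))) = 0
        rw [hψφ]
        have h4 : ev₀ (ofA t (n + 1) (X 0)) =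
            MvPolynomial.aeval (fun _ : Fin (n + 1) => (0 : R)) (X 0) := hev₀ (X 0)
        rw [h4, MvPolynomial.aeval_X]
      rw [h1] at h3
      have h5 : ofA t (n + 1) (X 0) = 0 :=
        hinj (((Ideal.mem_bot).mp h3).trans (map_zero φ).symm)
      have h6 := congrArg (kap t (n + 1) htu) h5
      rw [kap_ofA, MvPolynomial.map_X, map_zero] at h6
      exact MvPolynomial.X_ne_zero 0 h6
    · have hex : ∃ f ∈ RingHom.ker φ.toRingHom, f ≠ 0 := by
        by_contra hcon
        push Not at hcon
        exact hker ((Submodule.eq_bot_iff _).mpr hcon)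
      obtain ⟨f, hfker, hf0⟩ := hex
      obtain ⟨c, f₀, hc0, hf₀, hfc⟩ := exists_content t (n + 1) ht htu f hf0
      have hφf₀ : φ f₀ = 0 := by
        have h1 : φ f = 0 := hfker
        rw [hfc, map_smul] at h1
        exact smul_cancel_of_domain R t htu B htB c hc0 _ h1
      obtain ⟨j, N, b, hb⟩ := RPowWeier.exists_finite t ht htu n f₀ hf₀
      obtain ⟨ψ, hψ⟩ : ∃ ψ : A t n →ₐ[R] B, ψ = φ.comp j := ⟨_, rfl⟩
      haveI hfin : Module.Finite ψ.range B := by
        refine ⟨⟨Finset.univ.image (fun i => φ (b i)), ?_⟩⟩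
        rw [Finset.coe_image, Finset.coe_univ, Set.image_univ, eq_top_iff]
        rintro y -
        obtain ⟨x, rfl⟩ := hφ y
        obtain ⟨q, r, hqr⟩ := hb x
        rw [hqr, map_add, map_mul, hφf₀, mul_zero, zero_add, map_sum]
        refine Submodule.sum_mem _ (fun i _ => ?_)
        have h1 : φ (j (r i) * b i) =
            (⟨ψ (r i), ψ.mem_range_self (r i)⟩ : ψ.range) • φ (b i) := by
          rw [map_mul, hψ]
          rfl
        rw [h1]
        exact Submodule.smul_mem _ _ (Submodule.subset_span ⟨i, rfl⟩)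
      have hsurj' : Function.Surjective ψ.rangeRestrict := ψ.rangeRestrict_surjective
      have htB' : algebraMap R ψ.range t ≠ 0 := by
        intro h
        exact htB (congrArg Subtype.val h)
      have hQ' : ∀ Q' : Ideal ψ.range, Q'.IsPrime → algebraMap R ψ.range t ∉ Q' → Q' = ⊥ := by
        intro Q' hQ'p htQ'
        haveI := hQ'p
        haveI : Algebra.IsIntegral ψ.range B := Algebra.IsIntegral.of_finite _ _
        have hinjv : Function.Injective (algebraMap ψ.range B) := Subtype.val_injective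
        obtain ⟨Q, hQp, hQc⟩ :=
          Ideal.exists_ideal_over_prime_of_isIntegral_of_isDomain (S := B) Q' (by
            rw [(RingHom.injective_iff_ker_eq_bot _).mp hinjv]
            exact bot_le)
        have hQbot : Q = ⊥ := hQ Q hQp (by
          intro hmem
          apply htQ'
          rw [← hQc, Ideal.mem_comap]
          exact hmem)
        rw [← hQc, hQbot]
        exact Ideal.comap_bot_of_injective _ hinjv
      haveI : Module.Finite R ψ.range := ih ψ.range ψ.rangeRestrict hsurj' htB' hQ'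
      exact Module.Finite.trans ψ.range B

end main

section loc

variable (R : Type u) [CommRing R] [IsDomain R] [ValuationRing R] [Ring.KrullDimLE 1 R]

theorem disjoint_of_not_mem (t : R) (htu : ¬ IsUnit t) (S : Type u) [CommRing S] [Algebra R S]
    (p : Ideal S) (hp : p.IsPrime) (htp : algebraMap R S t ∉ p) :
    Disjoint (Algebra.algebraMapSubmonoid S (nonZeroDivisors R) : Set S) (p : Set S) := by
  rw [Set.disjoint_left]
  rintro a ⟨r, hr, rfl⟩ hap
  have hr0 : r ≠ 0 := nonZeroDivisors.ne_zero hr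
  obtain ⟨k, e, he⟩ := exists_dvd_pow r t hr0 htu
  apply htp
  apply hp.mem_of_pow_mem k
  rw [← map_pow, he, map_mul]
  exact Ideal.mul_mem_right _ _ hap

theorem t_mem (t : R) (ht : t ≠ 0) (S : Type u) [CommRing S] [Algebra R S] :
    algebraMap R S t ∈ Algebra.algebraMapSubmonoid S (nonZeroDivisors R) :=
  Algebra.mem_algebraMapSubmonoid_of_mem
    (⟨t, mem_nonZeroDivisors_of_ne_zero ht⟩ : nonZeroDivisors R)

/-- every maximal ideal of an algebra topologically of finite type contains `t`. -/
theorem t_mem_of_isMaximal {R : Type u} [CommRing R] (t : R) (S : Type u) [CommRing S]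
    [Algebra R S]
    (hS : AdicRing.TopFiniteType R (Ideal.span {t}) S) (𝔫 : Ideal S) (h𝔫 : 𝔫.IsMaximal) :
    algebraMap R S t ∈ 𝔫 := by
  obtain ⟨n, φ, hφ⟩ := hS
  have hfg : (Ideal.span {t}).FG := ⟨{t}, by simp⟩
  haveI := RPowFT.isAdicComplete_self_rpow (Ideal.span {t}) hfg n
  haveI := h𝔫
  have hmax : (𝔫.comap φ.toRingHom).IsMaximal :=
    Ideal.comap_isMaximal_of_surjective φ.toRingHom hφ
  have hle := (IsAdicComplete.le_jacobson_bot
    ((Ideal.span {t}).map (algebraMap R (AdicRing.RPow R (Ideal.span {t}) n)))).trans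
      (sInf_le ⟨bot_le, hmax⟩)
  have h3 : φ (algebraMap R _ t) ∈ 𝔫 :=
    hle (Ideal.mem_map_of_mem _ (Ideal.mem_span_singleton_self t))
  rwa [φ.commutes] at h3

variable (t : R) (ht : t ≠ 0) [hc : IsAdicComplete (Ideal.span {t}) R]
  (S : Type u) [CommRing S] [Algebra R S] (hS : AdicRing.TopFiniteType R (Ideal.span {t}) S)
  (L : Type*) [CommRing L] [Algebra S L]
  [IsLocalization (Algebra.algebraMapSubmonoid S (nonZeroDivisors R)) L]

include ht hS in
theorem part1 (p : Ideal S) (hp : p.IsPrime) (htp : algebraMap R S t ∉ p)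
    (hdim : ringKrullDim (S ⧸ p) = 1) :
    (p.map (algebraMap S L)).IsMaximal ∧
      (p.map (algebraMap S L)).comap (algebraMap S L) = p := by
  have htu : ¬ IsUnit t := RPowFP.not_isUnit_of_complete t hc
  have hdisj := disjoint_of_not_mem R t htu S p hp htp
  have hcm : (p.map (algebraMap S L)).comap (algebraMap S L) = p :=
    IsLocalization.under_map_of_isPrime_disjoint
      (Algebra.algebraMapSubmonoid S (nonZeroDivisors R)) L hp hdisj
  refine ⟨?_, hcm⟩
  have hprime : (p.map (algebraMap S L)).IsPrime :=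
    IsLocalization.isPrime_of_isPrime_disjoint
      (Algebra.algebraMapSubmonoid S (nonZeroDivisors R)) L p hp hdisj
  obtain ⟨𝔐, h𝔐max, h𝔐le⟩ := Ideal.exists_le_maximal _ hprime.ne_top
  suffices h : 𝔐 = p.map (algebraMap S L) by
    rw [← h]
    exact h𝔐max
  haveI := h𝔐max.isPrime
  have hq : 𝔐.comap (algebraMap S L) = p := by
    by_contra hne
    have hpq : p ≤ 𝔐.comap (algebraMap S L) := hcm.symm.le.trans (Ideal.comap_mono h𝔐le)
    haveI hqprime : (𝔐.comap (algebraMap S L)).IsPrime := Ideal.comap_isPrime _ _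
    have htq : algebraMap R S t ∉ 𝔐.comap (algebraMap S L) := by
      intro hmem
      have hu : IsUnit (algebraMap S L (algebraMap R S t)) :=
        IsLocalization.map_units L (⟨algebraMap R S t, t_mem R t ht S⟩ :
          Algebra.algebraMapSubmonoid S (nonZeroDivisors R))
      exact h𝔐max.ne_top (Ideal.eq_top_of_isUnit_mem _ hmem hu)
    haveI := hp
    haveI : Ring.KrullDimLE 1 (S ⧸ p) := by
      rw [Ring.krullDimLE_iff, hdim, Nat.cast_one]
    have hQprime : ((𝔐.comap (algebraMap S L)).map (Ideal.Quotient.mk p)).IsPrime :=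
      Ideal.map_isPrime_of_surjective Ideal.Quotient.mk_surjective (by
        rw [Ideal.mk_ker]
        exact hpq)
    have hQne : (𝔐.comap (algebraMap S L)).map (Ideal.Quotient.mk p) ≠ ⊥ := by
      intro h0
      apply hne
      refine le_antisymm ?_ hpq
      intro x hx
      have h1 : Ideal.Quotient.mk p x ∈
          (𝔐.comap (algebraMap S L)).map (Ideal.Quotient.mk p) := Ideal.mem_map_of_mem _ hx
      rw [h0, Ideal.mem_bot] at h1
      exact Ideal.Quotient.eq_zero_iff_mem.mp h1
    have hQmax := hQprime.isMaximal_of_ne_bot hQne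
    have hqmax : (𝔐.comap (algebraMap S L)).IsMaximal := by
      have h1 := Ideal.comap_isMaximal_of_surjective (Ideal.Quotient.mk p)
        Ideal.Quotient.mk_surjective (H := hQmax)
      rwa [Ideal.comap_map_of_surjective _ Ideal.Quotient.mk_surjective,
        ← RingHom.ker_eq_comap_bot, Ideal.mk_ker, sup_eq_left.mpr hpq] at h1
    exact htq (t_mem_of_isMaximal t S hS _ hqmax)
  have hmu := IsLocalization.map_under (Algebra.algebraMapSubmonoid S (nonZeroDivisors R)) L 𝔐
  rw [← hmu]
  show Ideal.map _ (Ideal.comap _ 𝔐) = _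
  rw [hq]

include ht hS in
theorem part2 (𝔐 : Ideal L) (h𝔐 : 𝔐.IsMaximal) :
    algebraMap R S t ∉ 𝔐.comap (algebraMap S L) ∧
      ringKrullDim (S ⧸ 𝔐.comap (algebraMap S L)) = 1 ∧
      (𝔐.comap (algebraMap S L)).map (algebraMap S L) = 𝔐 := by
  have htu : ¬ IsUnit t := RPowFP.not_isUnit_of_complete t hc
  haveI := h𝔐.isPrime
  have hqprime : (𝔐.comap (algebraMap S L)).IsPrime := Ideal.comap_isPrime _ _
  have htq : algebraMap R S t ∉ 𝔐.comap (algebraMap S L) := by
    intro hmem
    have hu : IsUnit (algebraMap S L (algebraMap R S t)) :=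
      IsLocalization.map_units L (⟨algebraMap R S t, t_mem R t ht S⟩ :
        Algebra.algebraMapSubmonoid S (nonZeroDivisors R))
    exact h𝔐.ne_top (Ideal.eq_top_of_isUnit_mem _ hmem hu)
  have hmc : (𝔐.comap (algebraMap S L)).map (algebraMap S L) = 𝔐 :=
    IsLocalization.map_under (Algebra.algebraMapSubmonoid S (nonZeroDivisors R)) L 𝔐
  refine ⟨htq, ?_, hmc⟩
  obtain ⟨q, hqdef⟩ : ∃ q : Ideal S, q = 𝔐.comap (algebraMap S L) := ⟨_, rfl⟩
  rw [← hqdef] at htq hmc hqprime ⊢
  haveI := hqprime
  obtain ⟨n, φ, hφ⟩ := hS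
  have htB : algebraMap R (S ⧸ q) t ≠ 0 := by
    intro h
    exact htq (Ideal.Quotient.eq_zero_iff_mem.mp h)
  have hQ : ∀ Q : Ideal (S ⧸ q), Q.IsPrime → algebraMap R (S ⧸ q) t ∉ Q → Q = ⊥ := by
    intro Q hQp htQ
    haveI := hQp
    have hq2prime : (Q.comap (Ideal.Quotient.mk q)).IsPrime := Ideal.comap_isPrime _ _
    have hle : q ≤ Q.comap (Ideal.Quotient.mk q) := by
      intro x hx
      rw [Ideal.mem_comap, Ideal.Quotient.eq_zero_iff_mem.mpr hx]
      exact Q.zero_mem
    have htq2 : algebraMap R S t ∉ Q.comap (Ideal.Quotient.mk q) := fun hmem => htQ hmem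
    have hdisj := disjoint_of_not_mem R t htu S _ hq2prime htq2
    have hprime2 := IsLocalization.isPrime_of_isPrime_disjoint
      (Algebra.algebraMapSubmonoid S (nonZeroDivisors R)) L _ hq2prime hdisj
    have h1 : 𝔐 = (Q.comap (Ideal.Quotient.mk q)).map (algebraMap S L) :=
      h𝔐.eq_of_le hprime2.ne_top (hmc.symm.le.trans (Ideal.map_mono hle))
    have h2 : Q.comap (Ideal.Quotient.mk q) = q := by
      have h3 := IsLocalization.under_map_of_isPrime_disjoint
        (Algebra.algebraMapSubmonoid S (nonZeroDivisors R)) L hq2prime hdisj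
      rw [← h1] at h3
      exact h3.symm.trans hqdef.symm
    rw [← Ideal.map_comap_of_surjective (Ideal.Quotient.mk q) Ideal.Quotient.mk_surjective Q, h2]
    exact Ideal.map_quotient_self q
  haveI : Module.Finite R (S ⧸ q) := finite_of_field R t ht n (S ⧸ q)
    ((Ideal.Quotient.mkₐ R q).comp φ) ((Ideal.Quotient.mkₐ_surjective R q).comp hφ) htB hQ
  haveI : Algebra.IsIntegral R (S ⧸ q) := Algebra.IsIntegral.of_finite R _
  have hinj : Function.Injective (algebraMap R (S ⧸ q)) := by
    rw [injective_iff_map_eq_zero]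
    intro r hr
    by_contra hr0
    obtain ⟨k, e, he⟩ := exists_dvd_pow r t hr0 htu
    have h1 : algebraMap R (S ⧸ q) (t ^ k) = 0 := by rw [he, map_mul, hr, zero_mul]
    rw [map_pow] at h1
    exact pow_ne_zero k htB h1
  rw [Helper5.ringKrullDim_eq_of_isIntegral_of_injective R (S ⧸ q) hinj]
  exact RigLift.ringKrullDim_eq_one R t ht htu

end loc

end Groth.Agent.Lib.T2H8.RigMax
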