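import Mathlib
import Groth.Prelude.Def_W4bk4boschfrg79
import Groth.Agent.Lib.T2H8RPowFT
import Groth.Agent.S11528
import Groth.Agent.S11529

/-!
# T2H8LocFlat: the local flatness criterion for algebras topologically of finite type
-/

set_option autoImplicit false
set_option linter.unusedSectionVars false
universe u

open scoped TensorProduct

namespace Groth.Agent.Lib.T2H8.LocFlat

theorem map_mem_smul_top' {P : Type*} [CommRing P] {M N : Type*} [AddCommGroup M]
    [AddCommGroup N] [Module P M] [Module P N]
    (g : M →ₗ[P] N) (J : Ideal P) {m : M} (hm : m ∈ (J • ⊤ : Submodule P M)) :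
    g m ∈ (J • ⊤ : Submodule P N) := by
  refine Submodule.smul_induction_on hm ?_ ?_
  · intro r hr n _
    rw [map_smul]
    exact Submodule.smul_mem_smul hr Submodule.mem_top
  · intro x y hx hy
    rw [map_add]
    exact add_mem hx hy

theorem finite_tensor (A B M : Type*) [CommRing A] [CommRing B] [Algebra A B] [AddCommGroup M]
    [Module B M] [Module A M] [IsScalarTower A B M] [Module.Finite B M]
    (Q : Type*) [AddCommGroup Q] [Module A Q] [Module.Finite A Q] :
    Module.Finite B (M ⊗[A] Q) := by
  classical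
  obtain ⟨s, hs⟩ := (inferInstance : Module.Finite B M).fg_top
  obtain ⟨t, ht⟩ := (inferInstance : Module.Finite A Q).fg_top
  refine ⟨⟨(s ×ˢ t).image (fun p => p.1 ⊗ₜ[A] p.2), eq_top_iff.mpr ?_⟩⟩
  rintro x -
  have key : ∀ (m : M) (q : Q), m ⊗ₜ[A] q ∈ Submodule.span B
      (((s ×ˢ t).image (fun p : M × Q => p.1 ⊗ₜ[A] p.2) : Finset (M ⊗[A] Q)) :
        Set (M ⊗[A] Q)) := by
    intro m q
    have hq : q ∈ Submodule.span A (t : Set Q) := by
      rw [ht]
      trivial
    induction hq using Submodule.span_induction generalizing m with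
    | mem q hq =>
      have hm : m ∈ Submodule.span B (s : Set M) := by
        rw [hs]
        trivial
      induction hm using Submodule.span_induction with
      | mem m hm =>
        exact Submodule.subset_span (Finset.mem_coe.mpr (Finset.mem_image.mpr
          ⟨(m, q), Finset.mem_product.mpr ⟨hm, hq⟩, rfl⟩))
      | zero =>
        rw [TensorProduct.zero_tmul]
        exact zero_mem _
      | add m m' _ _ h h' =>
        rw [TensorProduct.add_tmul]
        exact add_mem h h'
      | smul b m _ h =>
        rw [← TensorProduct.smul_tmul']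
        exact Submodule.smul_mem _ b h
    | zero =>
      rw [TensorProduct.tmul_zero]
      exact zero_mem _
    | add q q' _ _ h h' =>
      rw [TensorProduct.tmul_add]
      exact add_mem (h m) (h' m)
    | smul a q _ h =>
      rw [← TensorProduct.smul_tmul]
      exact h (a • m)
  induction x with
  | zero => exact zero_mem _
  | tmul m q => exact key m q
  | add x y hx hy => exact add_mem hx hy

/-- if `A' ⊗ M` is flat over `A'`, then `- ⊗_A M` preserves injections of `A'`-modules. -/
theorem rTensor_injective_of_flat_baseChange {A : Type*} [CommRing A] (A' : Type*) [CommRing A']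
    [Algebra A A'] (M : Type*) [AddCommGroup M] [Module A M] [Module.Flat A' (A' ⊗[A] M)]
    {P P' : Type*} [AddCommGroup P] [Module A P] [Module A' P] [IsScalarTower A A' P]
    [AddCommGroup P'] [Module A P'] [Module A' P'] [IsScalarTower A A' P']
    (u : P →ₗ[A'] P') (hu : Function.Injective u) :
    Function.Injective ((u.restrictScalars A).rTensor M) := by
  have hflat : Function.Injective (u.rTensor (A' ⊗[A] M)) :=
    Module.Flat.rTensor_preserves_injective_linearMap u hu
  have hcomm : ∀ z, TensorProduct.AlgebraTensorModule.cancelBaseChange A A' A' P' M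
      (u.rTensor (A' ⊗[A] M) z) =
      (u.restrictScalars A).rTensor M
        (TensorProduct.AlgebraTensorModule.cancelBaseChange A A' A' P M z) := by
    intro z
    induction z with
    | zero => rw [map_zero, map_zero, map_zero, map_zero]
    | tmul p y =>
      induction y with
      | zero => rw [TensorProduct.tmul_zero, map_zero, map_zero, map_zero, map_zero]
      | tmul a' m =>
        rw [LinearMap.rTensor_tmul,
          TensorProduct.AlgebraTensorModule.cancelBaseChange_tmul,
          TensorProduct.AlgebraTensorModule.cancelBaseChange_tmul, LinearMap.rTensor_tmul,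
          LinearMap.restrictScalars_apply, map_smul]
      | add y y' hy hy' =>
        rw [TensorProduct.tmul_add, map_add, map_add, map_add, map_add, hy, hy']
    | add z z' hz hz' => rw [map_add, map_add, map_add, map_add, hz, hz']
  intro x y hxy
  have h1 : (TensorProduct.AlgebraTensorModule.cancelBaseChange A A' A' P M).symm x =
      (TensorProduct.AlgebraTensorModule.cancelBaseChange A A' A' P M).symm y := by
    apply hflat
    apply (TensorProduct.AlgebraTensorModule.cancelBaseChange A A' A' P' M).injective
    rw [hcomm, hcomm, LinearEquiv.apply_symm_apply, LinearEquiv.apply_symm_apply, hxy]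
  exact (TensorProduct.AlgebraTensorModule.cancelBaseChange A A' A' P M).symm.injective h1

section main

variable {R : Type u} [CommRing R] (I : Ideal R) (hR : AdicRing.IsBase R I)
  (A : Type u) [CommRing A] [Algebra R A] (B : Type u) [CommRing B] [Algebra R B] [Algebra A B]
  [IsScalarTower R A B]

include hR in
theorem eq_zero_of_forall_mem (hB : AdicRing.TopFiniteType R I B)
    (N : Type u) [AddCommGroup N] [Module B N] [Module A N] [IsScalarTower A B N]
    [Module.Finite B N]
    (z : N) (hz : ∀ k : ℕ, z ∈ ((I ^ k).map (algebraMap R A)) • (⊤ : Submodule A N)) : z = 0 := by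
  letI : Module R N := Module.compHom N (algebraMap R B)
  haveI : IsScalarTower R B N := IsScalarTower.of_algebraMap_smul (fun r x => rfl)
  haveI : IsScalarTower R A N := IsScalarTower.of_algebraMap_smul (fun r x => by
    show algebraMap R A r • x = algebraMap R B r • x
    rw [IsScalarTower.algebraMap_apply R A B, algebraMap_smul B (algebraMap R A r) x])
  have hc : IsAdicComplete I N := Groth.Agent.S11529.result R I hR B hB N
  haveI : IsHausdorff (I.map (algebraMap R A)) N :=
    (IsHausdorff.map_algebraMap_iff (R := R) (S := A) (I := I) (M := N)).mpr hc.toIsHausdorff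
  apply IsHausdorff.haus' (I := I.map (algebraMap R A)) z
  intro k
  rw [SModEq.zero, ← Ideal.map_pow]
  exact hz k

include hR in
theorem flat_of_flat_trunc (hA : AdicRing.TopFiniteType R I A)
    (hB : AdicRing.TopFiniteType R I B)
    (M : Type u) [AddCommGroup M] [Module B M] [Module A M] [IsScalarTower A B M]
    [Module.Finite B M]
    (h : ∀ n : ℕ, Module.Flat (AdicRing.trunc A I n) ((AdicRing.trunc A I n) ⊗[A] M)) :
    Module.Flat A M := by
  rw [Module.Flat.iff_lTensor_injective]
  intro 𝔞 h𝔞
  haveI : Module.Finite A 𝔞 := Module.Finite.of_fg h𝔞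
  haveI : Module.Finite B (M ⊗[A] 𝔞) := finite_tensor A B M 𝔞
  rw [injective_iff_map_eq_zero]
  intro z hz
  obtain ⟨n₀, hn₀⟩ := Groth.Agent.S11528.result R I hR A hA A 𝔞
  apply eq_zero_of_forall_mem I hR A B hB (M ⊗[A] 𝔞) z
  intro m
  have hAR : ∀ c : A, c ∈ 𝔞 → c ∈ (I ^ (m + n₀ + 1)).map (algebraMap R A) →
      c ∈ ((I ^ m).map (algebraMap R A)) • 𝔞 := by
    intro c hc𝔞 hcJ
    have h1 : c ∈ (I ^ (m + n₀)).map (algebraMap R A) :=
      Ideal.map_mono (Ideal.pow_le_pow_right (Nat.le_succ _)) hcJ
    have h2 : c ∈ (I ^ (m + n₀) • (⊤ : Submodule R A)) ⊓ 𝔞.restrictScalars R := by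
      refine ⟨?_, hc𝔞⟩
      rw [Ideal.smul_top_eq_map]
      exact h1
    have h3 := hn₀ m h2
    rw [← Ideal.smul_restrictScalars] at h3
    exact h3
  haveI := h (m + n₀)
  obtain ⟨𝔞', h𝔞'⟩ : ∃ 𝔞' : Ideal (AdicRing.trunc A I (m + n₀)),
      𝔞' = 𝔞.map (algebraMap A (AdicRing.trunc A I (m + n₀))) := ⟨_, rfl⟩
  obtain ⟨π, hπ⟩ : ∃ π : 𝔞 →ₗ[A] ↥(𝔞'.restrictScalars A),
      ∀ c : 𝔞, ((π c : ↥(𝔞'.restrictScalars A)) : AdicRing.trunc A I (m + n₀)) =
        algebraMap A _ (c : A) :=
    ⟨LinearMap.codRestrict (𝔞'.restrictScalars A)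
      ((Algebra.linearMap A (AdicRing.trunc A I (m + n₀))).comp 𝔞.subtype)
      (fun c => by
        rw [h𝔞']
        exact Ideal.mem_map_of_mem _ c.2), fun c => rfl⟩
  obtain ⟨u, hu⟩ : ∃ u : ↥(𝔞'.restrictScalars A) →ₗ[AdicRing.trunc A I (m + n₀)]
      AdicRing.trunc A I (m + n₀), ∀ x, u x = x.1 :=
    ⟨{ toFun := fun x => x.1, map_add' := fun _ _ => rfl, map_smul' := fun _ _ => rfl },
      fun x => rfl⟩
  have huinj : Function.Injective u := by
    intro x y hxy
    rw [hu, hu] at hxy
    exact Subtype.ext hxy
  have hιinj : Function.Injective ((u.restrictScalars A).lTensor M) :=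
    (LinearMap.lTensor_inj_iff_rTensor_inj M _).mpr
      (rTensor_injective_of_flat_baseChange (AdicRing.trunc A I (m + n₀)) M u huinj)
  have hcomp : (u.restrictScalars A).comp π =
      (Algebra.linearMap A (AdicRing.trunc A I (m + n₀))).comp 𝔞.subtype := by
    apply LinearMap.ext
    intro c
    show u (π c) = _
    rw [hu, hπ]
    rfl
  have hπz : π.lTensor M z = 0 := by
    apply hιinj
    rw [← LinearMap.lTensor_comp_apply, hcomp, LinearMap.lTensor_comp_apply, hz, map_zero,
      map_zero]
  have hπsurj : Function.Surjective π := by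
    intro y
    have hy : (y : AdicRing.trunc A I (m + n₀)) ∈ 𝔞.map (algebraMap A _) := by
      rw [← h𝔞']
      exact y.2
    obtain ⟨c, hc, hcy⟩ := (Ideal.mem_map_iff_of_surjective (algebraMap A _)
      Ideal.Quotient.mk_surjective).mp hy
    refine ⟨⟨c, hc⟩, ?_⟩
    apply Subtype.ext
    rw [hπ]
    exact hcy
  have hex := lTensor_exact M (LinearMap.exact_subtype_ker_map π) hπsurj
  have hsub : ((I ^ m).map (algebraMap R A)) • 𝔞 =
      Submodule.map 𝔞.subtype (((I ^ m).map (algebraMap R A)) • (⊤ : Submodule A 𝔞)) := by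
    rw [Submodule.map_smul'', Submodule.map_top, Submodule.range_subtype]
  have key : ∀ w : M ⊗[A] ↥(LinearMap.ker π), (LinearMap.ker π).subtype.lTensor M w ∈
      ((I ^ m).map (algebraMap R A)) • (⊤ : Submodule A (M ⊗[A] 𝔞)) := by
    intro w
    induction w with
    | zero =>
      rw [map_zero]
      exact zero_mem _
    | tmul x c =>
      rw [LinearMap.lTensor_tmul]
      have hc0 : π c.1 = 0 := c.2
      have hc1 : algebraMap A (AdicRing.trunc A I (m + n₀)) ((c.1 : 𝔞) : A) = 0 := by
        rw [← hπ, hc0]
        rfl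
      have hc2 : ((c.1 : 𝔞) : A) ∈ (I ^ (m + n₀ + 1)).map (algebraMap R A) :=
        Ideal.Quotient.eq_zero_iff_mem.mp hc1
      have hc3 := hAR _ c.1.2 hc2
      rw [hsub] at hc3
      obtain ⟨c', hc', hcc'⟩ := hc3
      have hc4 : c' = c.1 := Subtype.ext hcc'
      rw [hc4] at hc'
      exact map_mem_smul_top' (TensorProduct.mk A M 𝔞 x) _ hc'
    | add w w' hw hw' =>
      rw [map_add]
      exact add_mem hw hw'
  obtain ⟨w, rfl⟩ := (hex z).mp hπz
  exact key w

end main

end Groth.Agent.Lib.T2H8.LocFlat
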