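import Mathlib
import Groth.Prelude.Def_W4bk4boschfrg79
import Groth.Agent.Lib.T2H8LocFlat
import Groth.Agent.Lib.T2H8CLoc

/-!
# T2H8LocFlatB: faithful flatness via truncations; flatness of complete localizations
-/

set_option autoImplicit false
set_option linter.unusedSectionVars false
universe u

open scoped TensorProduct

namespace Groth.Agent.Lib.T2H8.LocFlatB

open LocFlat CLoc

section gen

variable {A : Type*} [CommRing A] (J : Ideal A)

theorem one_tmul_eq_zero_iff (Y : Type*) [AddCommGroup Y] [Module A Y] (y : Y) :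
    (1 : A ⧸ J) ⊗ₜ[A] y = 0 ↔ y ∈ J • (⊤ : Submodule A Y) := by
  rw [← (TensorProduct.quotTensorEquivQuotSMul Y J).map_eq_zero_iff,
    TensorProduct.quotTensorEquivQuotSMul_mk_one_tmul, Submodule.Quotient.mk_eq_zero]

theorem exists_one_tmul (X : Type*) [AddCommGroup X] [Module A X] (z : (A ⧸ J) ⊗[A] X) :
    ∃ x : X, z = (1 : A ⧸ J) ⊗ₜ[A] x := by
  induction z with
  | zero => exact ⟨0, (TensorProduct.tmul_zero _ _).symm⟩
  | tmul a' x =>
    obtain ⟨a, rfl⟩ := Ideal.Quotient.mk_surjective a'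
    refine ⟨a • x, ?_⟩
    have e : Ideal.Quotient.mk J a = a • (1 : A ⧸ J) := by
      rw [Algebra.smul_def, mul_one]
      rfl
    rw [e, TensorProduct.smul_tmul]
  | add z z' hz hz' =>
    obtain ⟨x, hx⟩ := hz
    obtain ⟨x', hx'⟩ := hz'
    exact ⟨x + x', by rw [TensorProduct.tmul_add, hx, hx']⟩

theorem baseChange_bijective {X Y : Type*} [AddCommGroup X] [Module A X] [AddCommGroup Y]
    [Module A Y] (g : X →ₗ[A] Y)
    (h1 : ∀ y, ∃ x, y - g x ∈ J • (⊤ : Submodule A Y))
    (h2 : ∀ x, g x ∈ J • (⊤ : Submodule A Y) → x ∈ J • (⊤ : Submodule A X)) :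
    Function.Bijective (g.baseChange (A ⧸ J)) := by
  constructor
  · rw [injective_iff_map_eq_zero]
    intro z hz
    obtain ⟨x, rfl⟩ := exists_one_tmul J X z
    rw [LinearMap.baseChange_tmul, one_tmul_eq_zero_iff] at hz
    exact (one_tmul_eq_zero_iff J X x).mpr (h2 x hz)
  · intro w
    obtain ⟨y, rfl⟩ := exists_one_tmul J Y w
    obtain ⟨x, hx⟩ := h1 y
    refine ⟨1 ⊗ₜ x, ?_⟩
    rw [LinearMap.baseChange_tmul]
    have h3 := (one_tmul_eq_zero_iff J Y (y - g x)).mpr hx
    rw [TensorProduct.tmul_sub, sub_eq_zero] at h3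
    exact h3.symm

end gen

section main

variable {R : Type u} [CommRing R] (I : Ideal R)

theorem mem_smul_top_iff (A : Type*) [CommRing A] [Algebra R A] (S : Type*) [CommRing S]
    [Algebra A S] [Algebra R S] [IsScalarTower R A S] (k : ℕ) (x : S) :
    x ∈ ((I ^ k).map (algebraMap R A)) • (⊤ : Submodule A S) ↔
      x ∈ (I ^ k).map (algebraMap R S) := by
  rw [Ideal.smul_top_eq_map, Submodule.restrictScalars_mem, Ideal.map_map,
    ← IsScalarTower.algebraMap_eq]

/-- every maximal ideal of an algebra topologically of finite type contains `I`. -/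
theorem algebraMap_mem_of_isMaximal (hI : I.FG) (A : Type u) [CommRing A] [Algebra R A]
    (hA : AdicRing.TopFiniteType R I A) (𝔫 : Ideal A) (h𝔫 : 𝔫.IsMaximal) :
    I.map (algebraMap R A) ≤ 𝔫 := by
  obtain ⟨n, φ, hφ⟩ := hA
  haveI := RPowFT.isAdicComplete_self_rpow I hI n
  haveI := h𝔫
  have hmax : (𝔫.comap φ.toRingHom).IsMaximal :=
    Ideal.comap_isMaximal_of_surjective φ.toRingHom hφ
  have hle := (IsAdicComplete.le_jacobson_bot
    (I.map (algebraMap R (AdicRing.RPow R I n)))).trans (sInf_le ⟨bot_le, hmax⟩)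
  rw [Ideal.map_le_iff_le_comap]
  intro r hr
  have h3 : φ (algebraMap R _ r) ∈ 𝔫 := hle (Ideal.mem_map_of_mem _ hr)
  rwa [φ.commutes] at h3

variable (hR : AdicRing.IsBase R I) (A : Type u) [CommRing A] [Algebra R A]

include hR in
theorem faithfullyFlat_of_trunc (hA : AdicRing.TopFiniteType R I A)
    (B : Type u) [CommRing B] [Algebra R B] [Algebra A B] [IsScalarTower R A B]
    (hB : AdicRing.TopFiniteType R I B)
    (M : Type u) [AddCommGroup M] [Module B M] [Module A M] [IsScalarTower A B M]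
    [Module.Finite B M]
    (h : ∀ n : ℕ, Module.FaithfullyFlat (AdicRing.trunc A I n)
      ((AdicRing.trunc A I n) ⊗[A] M)) :
    Module.FaithfullyFlat A M := by
  have hI := RPowFT.isBase_fg I hR
  haveI : Module.Flat A M := flat_of_flat_trunc I hR A B hA hB M (fun n => (h n).toFlat)
  refine ⟨fun 𝔪 h𝔪 htop => ?_⟩
  have hJle : (I ^ (0 + 1)).map (algebraMap R A) ≤ 𝔪 :=
    (Ideal.map_mono (Ideal.pow_le_self (Nat.succ_ne_zero 0))).trans
      (algebraMap_mem_of_isMaximal I hI A hA 𝔪 h𝔪)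
  have hsurj : Function.Surjective (algebraMap A (AdicRing.trunc A I 0)) :=
    Ideal.Quotient.mk_surjective
  have hne : 𝔪.map (algebraMap A (AdicRing.trunc A I 0)) ≠ ⊤ := by
    intro heq
    have h1 := congrArg (Ideal.comap (algebraMap A (AdicRing.trunc A I 0))) heq
    rw [Ideal.comap_map_of_surjective _ hsurj, Ideal.comap_top,
      ← RingHom.ker_eq_comap_bot] at h1
    have h2 : RingHom.ker (algebraMap A (AdicRing.trunc A I 0)) =
        (I ^ (0 + 1)).map (algebraMap R A) := Ideal.mk_ker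
    rw [h2, sup_eq_left.mpr hJle] at h1
    exact h𝔪.ne_top h1
  have hmax : (𝔪.map (algebraMap A (AdicRing.trunc A I 0))).IsMaximal :=
    (Ideal.map_eq_top_or_isMaximal_of_surjective _ hsurj h𝔪).resolve_left
      hne
  apply (h 0).submodule_ne_top hmax
  rw [eq_top_iff]
  rintro x -
  induction x with
  | zero => exact zero_mem _
  | tmul a' m =>
    have hm : m ∈ 𝔪 • (⊤ : Submodule A M) := by
      rw [htop]
      trivial
    have h1 := map_mem_smul_top' (TensorProduct.mk A (AdicRing.trunc A I 0) M a') 𝔪 hm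
    have h2 : ∀ y : (AdicRing.trunc A I 0) ⊗[A] M,
        y ∈ 𝔪 • (⊤ : Submodule A ((AdicRing.trunc A I 0) ⊗[A] M)) →
        y ∈ (𝔪.map (algebraMap A (AdicRing.trunc A I 0))) •
          (⊤ : Submodule (AdicRing.trunc A I 0) ((AdicRing.trunc A I 0) ⊗[A] M)) := by
      intro y hy
      refine Submodule.smul_induction_on hy ?_ ?_
      · intro r hr n _
        rw [← algebraMap_smul (AdicRing.trunc A I 0) r n]
        exact Submodule.smul_mem_smul (Ideal.mem_map_of_mem _ hr) Submodule.mem_top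
      · intro x y hx hy
        exact add_mem hx hy
    exact h2 _ h1
  | add x y hx hy => exact add_mem hx hy

include hR in
theorem isAdicComplete_of_tft (hA : AdicRing.TopFiniteType R I A) :
    IsAdicComplete (I.map (algebraMap R A)) A := by
  have hc : IsAdicComplete I A := Groth.Agent.S11529.result R I hR A hA A
  exact (IsAdicComplete.map_algebraMap_iff (R := R) (S := A) (I := I) (M := A)).mpr hc

include hR in
theorem flat_cloc (hA : AdicRing.TopFiniteType R I A) (r : ℕ) (f : Fin r → A)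
    (hf : Ideal.span (Set.range f) = ⊤) (i : Fin r) :
    Module.Flat A (AdicRing.CLoc I (f i)) := by
  have hI := RPowFT.isBase_fg I hR
  haveI := isAdicComplete_of_tft I hR A hA
  have hC : AdicRing.TopFiniteType R I (AdicRing.CLoc I (f i)) :=
    (tft_cloc_iff I hR A r f hf).mp hA i
  apply flat_of_flat_trunc I hR A (AdicRing.CLoc I (f i)) hA hC (AdicRing.CLoc I (f i))
  intro n
  haveI : Module.Flat A (Localization.Away (f i)) :=
    IsLocalization.flat _ (Submonoid.powers (f i))
  obtain ⟨g, hg⟩ : ∃ g : Localization.Away (f i) →ₗ[A] AdicRing.CLoc I (f i),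
      ∀ b, g b = AdicCompletion.of _ _ b :=
    ⟨(IsScalarTower.toAlgHom A (Localization.Away (f i)) (AdicRing.CLoc I (f i))).toLinearMap,
      fun b => rfl⟩
  have hbij : Function.Bijective (g.baseChange (AdicRing.trunc A I n)) := by
    apply baseChange_bijective
    · intro y
      obtain ⟨b, hb⟩ := hat_exists_of_sub_mem I (Localization.Away (f i)) hI (n + 1) y
      refine ⟨b, ?_⟩
      rw [hg, mem_smul_top_iff]
      exact hb
    · intro b hb
      rw [hg, mem_smul_top_iff] at hb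
      rw [mem_smul_top_iff]
      exact hat_mem_of_of_mem I (Localization.Away (f i)) hI (n + 1) b hb
  exact Module.Flat.of_linearEquiv (LinearEquiv.ofBijective _ hbij).symm

include hR in
theorem faithfullyFlat_pi_cloc (hA : AdicRing.TopFiniteType R I A) (r : ℕ) (f : Fin r → A)
    (hf : Ideal.span (Set.range f) = ⊤) :
    Module.FaithfullyFlat A (∀ i, AdicRing.CLoc I (f i)) := by
  classical
  have hI := RPowFT.isBase_fg I hR
  haveI : ∀ i, Module.Flat A (AdicRing.CLoc I (f i)) := flat_cloc I hR A hA r f hf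
  haveI : Module.Flat A (∀ i, AdicRing.CLoc I (f i)) :=
    Module.Flat.of_linearEquiv
      (DFinsupp.linearEquivFunOnFintype (R := A) (M := fun i => AdicRing.CLoc I (f i))).symm
  refine ⟨fun 𝔪 h𝔪 htop => ?_⟩
  have hI𝔪 := algebraMap_mem_of_isMaximal I hI A hA 𝔪 h𝔪
  -- some f i is not in 𝔪
  obtain ⟨i, hi⟩ : ∃ i, f i ∉ 𝔪 := by
    by_contra hcon
    push Not at hcon
    apply h𝔪.ne_top
    rw [eq_top_iff, ← hf, Ideal.span_le]
    rintro _ ⟨i, rfl⟩
    exact hcon i
  letI : Field (A ⧸ 𝔪) := Ideal.Quotient.field 𝔪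
  have hunit : ∀ y : Submonoid.powers (f i),
      IsUnit ((Ideal.Quotient.mkₐ R 𝔪 : A →ₐ[R] A ⧸ 𝔪) y) := by
    intro y
    obtain ⟨m, hm⟩ := (Submonoid.mem_powers_iff _ _).mp y.2
    rw [← hm, map_pow]
    apply IsUnit.pow
    rw [isUnit_iff_ne_zero]
    intro h0
    exact hi (Ideal.Quotient.eq_zero_iff_mem.mp h0)
  obtain ⟨ψ, hψ⟩ : ∃ ψ : Localization.Away (f i) →ₐ[R] A ⧸ 𝔪,
      ∀ a : A, ψ (algebraMap A _ a) = Ideal.Quotient.mk 𝔪 a :=
    ⟨IsLocalization.liftAlgHom (M := Submonoid.powers (f i))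
      (f := (Ideal.Quotient.mkₐ R 𝔪 : A →ₐ[R] A ⧸ 𝔪)) hunit,
      fun a => IsLocalization.lift_eq _ a⟩
  obtain ⟨χ, hχ⟩ := Helper19.exists_algHom_adicCompletion
    (I.map (algebraMap R (Localization.Away (f i)))) (⊥ : Ideal (A ⧸ 𝔪)) ψ (by
      rw [Ideal.map_map, Ideal.map_le_iff_le_comap]
      intro s hs
      rw [Ideal.mem_comap, Ideal.mem_bot]
      show ψ (algebraMap R _ s) = 0
      rw [IsScalarTower.algebraMap_apply R A (Localization.Away (f i)), hψ,
        Ideal.Quotient.eq_zero_iff_mem]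
      exact hI𝔪 (Ideal.mem_map_of_mem _ hs))
  have hχA : ∀ a : A, χ (algebraMap A (AdicRing.CLoc I (f i)) a) = Ideal.Quotient.mk 𝔪 a := by
    intro a
    have e : algebraMap A (AdicRing.CLoc I (f i)) a =
        AdicCompletion.of _ _ (algebraMap A (Localization.Away (f i)) a) := rfl
    rw [e, hχ, hψ]
  -- project to the factor i
  have h1 : (1 : AdicRing.CLoc I (f i)) ∈ 𝔪 • (⊤ : Submodule A (AdicRing.CLoc I (f i))) := by
    have h2 : (Pi.single i (1 : AdicRing.CLoc I (f i)) : ∀ j, AdicRing.CLoc I (f j)) ∈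
        𝔪 • (⊤ : Submodule A (∀ j, AdicRing.CLoc I (f j))) := by
      rw [htop]
      trivial
    have h3 := map_mem_smul_top'
      (LinearMap.proj (R := A) (φ := fun j => AdicRing.CLoc I (f j)) i) 𝔪 h2
    rwa [LinearMap.proj_apply, Pi.single_eq_same] at h3
  rw [Ideal.smul_top_eq_map, Submodule.restrictScalars_mem] at h1
  have h4 : 𝔪.map (algebraMap A (AdicRing.CLoc I (f i))) ≤ RingHom.ker χ.toRingHom := by
    rw [Ideal.map_le_iff_le_comap]
    intro a ha
    rw [Ideal.mem_comap]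
    show χ (algebraMap A _ a) = 0
    rw [hχA]
    exact Ideal.Quotient.eq_zero_iff_mem.mpr ha
  have h5 : χ 1 = 0 := h4 h1
  rw [map_one] at h5
  exact one_ne_zero h5

end main

end Groth.Agent.Lib.T2H8.LocFlatB
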