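import Mathlib
import Groth.Prelude.Def_W4bk4boschfrg79
import Groth.Agent.Lib.T2H8LocFlatB

/-!
# T2H8TensCompl: `B̂ ⊗_B M → M̂` is bijective for finite modules over finitely generated
algebras over an algebra topologically of finite type
-/

set_option autoImplicit false
set_option linter.unusedSectionVars false
universe u

open scoped TensorProduct

namespace Groth.Agent.Lib.T2H8.TensCompl

open LocFlat CLoc

section hat

variable {R : Type u} [CommRing R] (I : Ideal R)

/-- the completion of a finitely generated algebra over an algebra topologically of finite type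
is topologically of finite type. -/
theorem tft_hat (hI : I.FG) (A : Type u) [CommRing A] [Algebra R A]
    (hA : AdicRing.TopFiniteType R I A)
    (B : Type u) [CommRing B] [Algebra R B] [Algebra A B] [IsScalarTower R A B]
    [Algebra.FiniteType A B] :
    AdicRing.TopFiniteType R I (Hat I B) := by
  haveI := hat_isAdicComplete I B hI
  apply Trunc.tft_of_finiteType I hI (Hat I B)
  have hA1 : Algebra.FiniteType R (A ⧸ (I ^ 1).map (algebraMap R A)) :=
    finiteType_trunc I hI A hA 1
  -- the map `A/IA → B̂/IB̂`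
  have hker : (I ^ 1).map (algebraMap R A) ≤
      RingHom.ker ((Ideal.Quotient.mk (I.map (algebraMap R (Hat I B)))).comp
        ((algebraMap B (Hat I B)).comp (algebraMap A B))) := by
    rw [Ideal.map_le_iff_le_comap]
    intro r hr
    rw [pow_one] at hr
    rw [Ideal.mem_comap, RingHom.mem_ker, RingHom.comp_apply, RingHom.comp_apply,
      ← IsScalarTower.algebraMap_apply R A B, ← IsScalarTower.algebraMap_apply R B (Hat I B),
      Ideal.Quotient.eq_zero_iff_mem]
    exact Ideal.mem_map_of_mem _ hr
  obtain ⟨g, hg⟩ : ∃ g : (A ⧸ (I ^ 1).map (algebraMap R A)) →+*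
      (Hat I B ⧸ I.map (algebraMap R (Hat I B))),
      ∀ a : A, g (Ideal.Quotient.mk _ a) =
        Ideal.Quotient.mk _ (algebraMap B (Hat I B) (algebraMap A B a)) :=
    ⟨Ideal.Quotient.lift _ _ (fun a ha => hker ha), fun a => by
      rw [Ideal.Quotient.lift_mk]
      rfl⟩
  have hp : Function.Surjective ((Ideal.Quotient.mk (I.map (algebraMap R (Hat I B)))).comp
      (algebraMap B (Hat I B))) := by
    intro q
    obtain ⟨x, rfl⟩ := Ideal.Quotient.mk_surjective q
    obtain ⟨b, hb⟩ := hat_exists_of_sub_mem I B hI 1 x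
    rw [pow_one] at hb
    refine ⟨b, ?_⟩
    rw [RingHom.comp_apply]
    exact ((Ideal.Quotient.mk_eq_mk_iff_sub_mem _ _).mpr hb).symm
  have hgft : g.FiniteType := by
    apply RingHom.FiniteType.of_comp_finiteType
      (f := Ideal.Quotient.mk ((I ^ 1).map (algebraMap R A)))
    have e : g.comp (Ideal.Quotient.mk ((I ^ 1).map (algebraMap R A))) =
        ((Ideal.Quotient.mk (I.map (algebraMap R (Hat I B)))).comp
          (algebraMap B (Hat I B))).comp (algebraMap A B) := by
      ext a
      exact hg a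
    rw [e]
    exact RingHom.FiniteType.comp (RingHom.FiniteType.of_surjective _ hp)
      (RingHom.finiteType_algebraMap.mpr inferInstance)
  have e2 : algebraMap R (Hat I B ⧸ I.map (algebraMap R (Hat I B))) =
      g.comp (algebraMap R (A ⧸ (I ^ 1).map (algebraMap R A))) := by
    ext r
    rw [RingHom.comp_apply, IsScalarTower.algebraMap_apply R A (A ⧸ (I ^ 1).map (algebraMap R A)),
      Ideal.Quotient.algebraMap_eq, hg, ← IsScalarTower.algebraMap_apply R A B,
      ← IsScalarTower.algebraMap_apply R B (Hat I B)]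
    rfl
  rw [← RingHom.finiteType_algebraMap, e2]
  exact RingHom.FiniteType.comp hgft (RingHom.finiteType_algebraMap.mpr hA1)

end hat

section main

variable {R : Type u} [CommRing R] (I : Ideal R) (B : Type u) [CommRing B] [Algebra R B]
  (M : Type u) [AddCommGroup M] [Module B M]

theorem exists_sub_mem (hI : I.FG) (k : ℕ) (z : Hat I B ⊗[B] M) :
    ∃ m : M, z - (1 : Hat I B) ⊗ₜ[B] m ∈ (I ^ k • ⊤ : Submodule R (Hat I B ⊗[B] M)) := by
  induction z with
  | zero =>
    refine ⟨0, ?_⟩
    rw [TensorProduct.tmul_zero, sub_zero]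
    exact zero_mem _
  | tmul x m =>
    obtain ⟨b, hb⟩ := hat_exists_of_sub_mem I B hI k x
    refine ⟨b • m, ?_⟩
    have h0 : (1 : Hat I B) ⊗ₜ[B] (b • m) =
        (AdicCompletion.of (I.map (algebraMap R B)) B b) ⊗ₜ[B] m := by
      rw [← TensorProduct.smul_tmul]
      congr 1
      rw [Algebra.smul_def, mul_one]
      rfl
    have h1 : x ⊗ₜ[B] m - (1 : Hat I B) ⊗ₜ[B] (b • m) =
        (x - AdicCompletion.of (I.map (algebraMap R B)) B b) • ((1 : Hat I B) ⊗ₜ[B] m) := by
      rw [h0, TensorProduct.smul_tmul', smul_eq_mul, mul_one, TensorProduct.sub_tmul]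
    rw [h1]
    have h2 := Submodule.smul_mem_smul hb
      (Submodule.mem_top : (1 : Hat I B) ⊗ₜ[B] m ∈ (⊤ : Submodule (Hat I B) (Hat I B ⊗[B] M)))
    have h3 := Ideal.smul_restrictScalars (I ^ k)
      (⊤ : Submodule (Hat I B) (Hat I B ⊗[B] M))
    rw [Submodule.restrictScalars_top] at h3
    rw [← h3, Submodule.restrictScalars_mem]
    exact h2
  | add x y hx hy =>
    obtain ⟨m1, h1⟩ := hx
    obtain ⟨m2, h2⟩ := hy
    refine ⟨m1 + m2, ?_⟩
    have e : x + y - (1 : Hat I B) ⊗ₜ[B] (m1 + m2) =
        (x - (1 : Hat I B) ⊗ₜ[B] m1) + (y - (1 : Hat I B) ⊗ₜ[B] m2) := by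
      rw [TensorProduct.tmul_add]
      abel
    rw [e]
    exact add_mem h1 h2

theorem mem_of_ofTensorProduct_eq_zero (hI : I.FG) (k : ℕ) (z : Hat I B ⊗[B] M)
    (hz : AdicCompletion.ofTensorProduct (I.map (algebraMap R B)) M z = 0) :
    z ∈ (I ^ k • ⊤ : Submodule R (Hat I B ⊗[B] M)) := by
  obtain ⟨m, hm⟩ := exists_sub_mem I B M hI k z
  have key : ∀ w ∈ (I ^ k • ⊤ : Submodule R (Hat I B ⊗[B] M)),
      AdicCompletion.eval (I.map (algebraMap R B)) M k
        (AdicCompletion.ofTensorProduct (I.map (algebraMap R B)) M w) = 0 := by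
    intro w hw
    refine Submodule.smul_induction_on hw ?_ ?_
    · intro r hr t _
      have e1 : r • t = (algebraMap R B r) • t := (algebraMap_smul B r t).symm
      rw [e1, LinearMap.map_smul_of_tower, LinearMap.map_smul]
      obtain ⟨y, hy⟩ := Submodule.Quotient.mk_surjective _
        (AdicCompletion.eval (I.map (algebraMap R B)) M k
          (AdicCompletion.ofTensorProduct (I.map (algebraMap R B)) M t))
      rw [← hy, ← Submodule.Quotient.mk_smul, Submodule.Quotient.mk_eq_zero]
      refine Submodule.smul_mem_smul ?_ Submodule.mem_top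
      rw [← Ideal.map_pow]
      exact Ideal.mem_map_of_mem _ hr
    · intro x y hx hy
      rw [map_add, map_add, hx, hy, add_zero]
  have h1 := key _ hm
  rw [map_sub, hz, zero_sub, map_neg, neg_eq_zero, AdicCompletion.ofTensorProduct_tmul, one_smul,
    AdicCompletion.eval_of, Submodule.mkQ_apply, Submodule.Quotient.mk_eq_zero] at h1
  have h2 := map_mem_smul_top' (TensorProduct.mk B (Hat I B) M 1) _ h1
  have h3 := Ideal.smul_restrictScalars (I ^ k) (⊤ : Submodule B (Hat I B ⊗[B] M))
  rw [Submodule.restrictScalars_top, Ideal.map_pow] at h3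
  have h4 : (1 : Hat I B) ⊗ₜ[B] m ∈ (I ^ k • ⊤ : Submodule R (Hat I B ⊗[B] M)) := by
    rw [← h3, Submodule.restrictScalars_mem]
    exact h2
  have e : z = (z - (1 : Hat I B) ⊗ₜ[B] m) + (1 : Hat I B) ⊗ₜ[B] m := by abel
  rw [e]
  exact add_mem hm h4

end main

section final

variable {R : Type u} [CommRing R] (I : Ideal R) (hR : AdicRing.IsBase R I)

include hR in
theorem ofTensorProduct_bijective (A : Type u) [CommRing A] [Algebra R A]
    (hA : AdicRing.TopFiniteType R I A)
    (B : Type u) [CommRing B] [Algebra R B] [Algebra A B] [IsScalarTower R A B]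
    [Algebra.FiniteType A B]
    (M : Type u) [AddCommGroup M] [Module B M] [Module.Finite B M] :
    Function.Bijective (AdicCompletion.ofTensorProduct (I.map (algebraMap R B)) M) := by
  have hI := RPowFT.isBase_fg I hR
  refine ⟨?_, AdicCompletion.ofTensorProduct_surjective_of_finite _ M⟩
  have hHat : AdicRing.TopFiniteType R I (Hat I B) := tft_hat I hI A hA B
  have hc : IsAdicComplete I (Hat I B ⊗[B] M) :=
    Groth.Agent.S11529.result R I hR (Hat I B) hHat (Hat I B ⊗[B] M)
  rw [injective_iff_map_eq_zero]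
  intro z hz
  apply IsHausdorff.haus hc.toIsHausdorff z
  intro k
  rw [SModEq.zero]
  exact mem_of_ofTensorProduct_eq_zero I B M hI k z hz

end final

end Groth.Agent.Lib.T2H8.TensCompl
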