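import Mathlib
import Groth.Prelude.Def_W4bk4boschfrg79
import Groth.Agent.Lib.T2H8RigMax
import Groth.Agent.Lib.T2H8TensCompl

/-!
# T2H8GenFib: generic fibres of algebras topologically of finite type

* transfer of "`B/K → B'/KB'` bijective" to localizations away from an element
* the generic fibre `A[1/t]` of an algebra topologically of finite type is Noetherian
* residue rings at maximal ideals of the generic fibre are finite over `R`
-/

set_option autoImplicit false
set_option linter.unusedSectionVars false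
universe u

open scoped TensorProduct

namespace Groth.Agent.Lib.T2H8.GenFib

section loc

variable {B B' S T : Type*} [CommRing B] [CommRing B'] [CommRing S] [CommRing T]
  [Algebra B B'] [Algebra B S] [Algebra B' T] [Algebra B T] [Algebra S T]
  [IsScalarTower B B' T] [IsScalarTower B S T]
  (π : B) [IsLocalization.Away π S] [IsLocalization.Away (algebraMap B B' π) T]

theorem map_map_eq (K : Ideal B) :
    (K.map (algebraMap B B')).map (algebraMap B' T) =
      (K.map (algebraMap B S)).map (algebraMap S T) := by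
  rw [Ideal.map_map, Ideal.map_map, ← IsScalarTower.algebraMap_eq, ← IsScalarTower.algebraMap_eq]

include π in
theorem sur_of_sur (K : Ideal B)
    (hsur : ∀ x : B', ∃ b : B, x - algebraMap B B' b ∈ K.map (algebraMap B B')) (τ : T) :
    ∃ s : S, τ - algebraMap S T s ∈ (K.map (algebraMap B S)).map (algebraMap S T) := by
  obtain ⟨a, x, hx⟩ := IsLocalization.Away.surj (algebraMap B B' π) τ
  obtain ⟨b, hb⟩ := hsur x
  obtain ⟨v, hv⟩ := (IsLocalization.Away.algebraMap_isUnit (S := S) π).exists_right_inv
  refine ⟨algebraMap B S b * v ^ a, ?_⟩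
  have hw : algebraMap B' T (algebraMap B B' π) * algebraMap S T v = 1 := by
    rw [← IsScalarTower.algebraMap_apply B B' T, IsScalarTower.algebraMap_apply B S T, ← map_mul,
      hv, map_one]
  have hwa : algebraMap B' T (algebraMap B B' π) ^ a * algebraMap S T v ^ a = 1 := by
    rw [← mul_pow, hw, one_pow]
  have e : τ - algebraMap S T (algebraMap B S b * v ^ a) =
      algebraMap B' T (x - algebraMap B B' b) * algebraMap S T v ^ a := by
    rw [map_mul, map_pow, ← IsScalarTower.algebraMap_apply B S T,
      IsScalarTower.algebraMap_apply B B' T, map_sub, ← hx]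
    linear_combination (-τ) * hwa
  rw [e, ← map_map_eq (B' := B') (S := S) (T := T) K]
  exact Ideal.mul_mem_right _ _ (Ideal.mem_map_of_mem _ hb)

include π in
theorem inj_of_inj (K : Ideal B)
    (hinj : ∀ b : B, algebraMap B B' b ∈ K.map (algebraMap B B') → b ∈ K) (s : S)
    (hs : algebraMap S T s ∈ (K.map (algebraMap B S)).map (algebraMap S T)) :
    s ∈ K.map (algebraMap B S) := by
  obtain ⟨a, b, hb⟩ := IsLocalization.Away.surj π s
  obtain ⟨v, hv⟩ := (IsLocalization.Away.algebraMap_isUnit (S := S) π).exists_right_inv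
  have h1 : algebraMap B' T (algebraMap B B' b) ∈
      (K.map (algebraMap B B')).map (algebraMap B' T) := by
    rw [map_map_eq (B' := B') (S := S) (T := T) K, ← IsScalarTower.algebraMap_apply B B' T,
      IsScalarTower.algebraMap_apply B S T, ← hb, map_mul]
    exact Ideal.mul_mem_right _ _ hs
  rw [IsLocalization.mem_map_algebraMap_iff (Submonoid.powers (algebraMap B B' π)) T] at h1
  obtain ⟨⟨⟨y, hy⟩, ⟨_, ⟨c, rfl⟩⟩⟩, hyc⟩ := h1
  simp only at hyc
  rw [← map_mul] at hyc
  obtain ⟨d, hd⟩ := IsLocalization.Away.exists_of_eq (algebraMap B B' π) hyc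
  have h2 : algebraMap B B' (π ^ d * (b * π ^ c)) ∈ K.map (algebraMap B B') := by
    rw [map_mul, map_mul, map_pow, map_pow, hd]
    exact Ideal.mul_mem_left _ _ hy
  have h3 := hinj _ h2
  have h4 : algebraMap B S (π ^ d * (b * π ^ c)) ∈ K.map (algebraMap B S) :=
    Ideal.mem_map_of_mem _ h3
  have hvd : algebraMap B S π ^ d * v ^ d = 1 := by rw [← mul_pow, hv, one_pow]
  have hvc : algebraMap B S π ^ c * v ^ c = 1 := by rw [← mul_pow, hv, one_pow]
  have hva : algebraMap B S π ^ a * v ^ a = 1 := by rw [← mul_pow, hv, one_pow]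
  have e1 : algebraMap B S b = algebraMap B S (π ^ d * (b * π ^ c)) * (v ^ d * v ^ c) := by
    rw [map_mul, map_mul, map_pow, map_pow]
    linear_combination (-(algebraMap B S b * algebraMap B S π ^ c * v ^ c)) * hvd +
      (-(algebraMap B S b)) * hvc
  have h5 : algebraMap B S b ∈ K.map (algebraMap B S) := by
    rw [e1]
    exact Ideal.mul_mem_right _ _ h4
  have e2 : s = algebraMap B S b * v ^ a := by
    rw [← hb]
    linear_combination (-s) * hva
  rw [e2]
  exact Ideal.mul_mem_right _ _ h5

end loc

section noeth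

variable {R : Type u} [CommRing R] (t : R)

theorem isNoetherianRing_away (hR : AdicRing.IsBase R (Ideal.span {t}))
    (A : Type u) [CommRing A] [Algebra R A]
    (hA : AdicRing.TopFiniteType R (Ideal.span {t}) A)
    (L : Type*) [CommRing L] [Algebra A L] [IsLocalization.Away (algebraMap R A t) L] :
    IsNoetherianRing L := by
  rw [isNoetherianRing_iff_ideal_fg]
  intro 𝔞
  have h1 : (𝔞.comap (algebraMap A L)).FG := by
    apply Groth.Agent.S11527.result R (Ideal.span {t}) hR A hA A (𝔞.comap (algebraMap A L))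
    intro x n hx
    have h2 := hx (t ^ n) (Ideal.pow_mem_pow (Ideal.mem_span_singleton_self t) n)
    rw [Ideal.mem_comap, Algebra.smul_def, map_mul, map_pow, map_pow] at h2
    have hu : IsUnit (algebraMap A L (algebraMap R A t)) :=
      IsLocalization.Away.algebraMap_isUnit _
    rw [Ideal.mem_comap]
    exact (Ideal.unit_mul_mem_iff_mem _ (hu.pow n)).mp h2
  have h3 : (𝔞.comap (algebraMap A L)).map (algebraMap A L) = 𝔞 :=
    IsLocalization.map_under (Submonoid.powers (algebraMap R A t)) L 𝔞
  rw [← h3]
  exact h1.map _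

theorem isNoetherianRing_away_mvPolynomial (A₀ : Type*) [CommRing A₀] (a : A₀)
    [IsNoetherianRing (Localization.Away a)] (σ : Type*) [Finite σ]
    (S : Type*) [CommRing S] [Algebra (MvPolynomial σ A₀) S]
    [IsLocalization.Away (MvPolynomial.C a : MvPolynomial σ A₀) S] : IsNoetherianRing S := by
  letI : Algebra (MvPolynomial σ A₀) (MvPolynomial σ (Localization.Away a)) :=
    MvPolynomial.algebraMvPolynomial
  haveI h0 : IsLocalization ((Submonoid.powers a).map (MvPolynomial.C (σ := σ)))
      (MvPolynomial σ (Localization.Away a)) := MvPolynomial.isLocalization _ _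
  have e : (Submonoid.powers a).map (MvPolynomial.C (σ := σ) : A₀ →+* MvPolynomial σ A₀) =
      Submonoid.powers (MvPolynomial.C a : MvPolynomial σ A₀) := Submonoid.map_powers _ _
  rw [e] at h0
  exact isNoetherianRing_of_ringEquiv _
    (IsLocalization.algEquiv (Submonoid.powers (MvPolynomial.C a : MvPolynomial σ A₀))
      (MvPolynomial σ (Localization.Away a)) S).toRingEquiv

end noeth

section rig

open RPowBase RigMax

variable (R : Type u) [CommRing R] [IsDomain R] [ValuationRing R] [Ring.KrullDimLE 1 R]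
  (t : R) (ht : t ≠ 0) [hc : IsAdicComplete (Ideal.span {t}) R]
  (S : Type u) [CommRing S] [Algebra R S] (hS : AdicRing.TopFiniteType R (Ideal.span {t}) S)
  (L : Type*) [CommRing L] [Algebra S L] [IsLocalization.Away (algebraMap R S t) L]

theorem disjoint_powers (p : Ideal S) (hp : p.IsPrime) (htp : algebraMap R S t ∉ p) :
    Disjoint (Submonoid.powers (algebraMap R S t) : Set S) (p : Set S) := by
  rw [Set.disjoint_left]
  rintro _ ⟨n, rfl⟩ hap
  exact htp (hp.mem_of_pow_mem n hap)

include ht hS in
theorem finite_quotient_comap (𝔐 : Ideal L) (h𝔐 : 𝔐.IsMaximal) :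
    algebraMap R S t ∉ 𝔐.comap (algebraMap S L) ∧
      Module.Finite R (S ⧸ 𝔐.comap (algebraMap S L)) := by
  have htu : ¬ IsUnit t := RPowFP.not_isUnit_of_complete t hc
  haveI := h𝔐.isPrime
  have hqprime : (𝔐.comap (algebraMap S L)).IsPrime := Ideal.comap_isPrime _ _
  have htq : algebraMap R S t ∉ 𝔐.comap (algebraMap S L) := by
    intro hmem
    have hu : IsUnit (algebraMap S L (algebraMap R S t)) :=
      IsLocalization.Away.algebraMap_isUnit _
    exact h𝔐.ne_top (Ideal.eq_top_of_isUnit_mem _ hmem hu)
  have hmc : (𝔐.comap (algebraMap S L)).map (algebraMap S L) = 𝔐 :=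
    IsLocalization.map_under (Submonoid.powers (algebraMap R S t)) L 𝔐
  refine ⟨htq, ?_⟩
  obtain ⟨q, hqdef⟩ : ∃ q : Ideal S, q = 𝔐.comap (algebraMap S L) := ⟨_, rfl⟩
  rw [← hqdef] at htq hmc hqprime ⊢
  haveI := hqprime
  obtain ⟨n, φ, hφ⟩ := hS
  have htB : algebraMap R (S ⧸ q) t ≠ 0 := by
    intro h
    exact htq (Ideal.Quotient.eq_zero_iff_mem.mp h)
  have hQ : ∀ Q : Ideal (S ⧸ q), Q.IsPrime → algebraMap R (S ⧸ q) t ∉ Q → Q = ⊥ := by
    intro Q hQp htQ
    haveI := hQp
    have hq2prime : (Q.comap (Ideal.Quotient.mk q)).IsPrime := Ideal.comap_isPrime _ _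
    have hle : q ≤ Q.comap (Ideal.Quotient.mk q) := by
      intro x hx
      rw [Ideal.mem_comap, Ideal.Quotient.eq_zero_iff_mem.mpr hx]
      exact Q.zero_mem
    have htq2 : algebraMap R S t ∉ Q.comap (Ideal.Quotient.mk q) := fun hmem => htQ hmem
    have hdisj := disjoint_powers R t S _ hq2prime htq2
    have hprime2 := IsLocalization.isPrime_of_isPrime_disjoint
      (Submonoid.powers (algebraMap R S t)) L _ hq2prime hdisj
    have h1 : 𝔐 = (Q.comap (Ideal.Quotient.mk q)).map (algebraMap S L) :=
      h𝔐.eq_of_le hprime2.ne_top (hmc.symm.le.trans (Ideal.map_mono hle))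
    have h2 : Q.comap (Ideal.Quotient.mk q) = q := by
      have h3 := IsLocalization.under_map_of_isPrime_disjoint
        (Submonoid.powers (algebraMap R S t)) L hq2prime hdisj
      rw [← h1] at h3
      exact h3.symm.trans hqdef.symm
    rw [← Ideal.map_comap_of_surjective (Ideal.Quotient.mk q) Ideal.Quotient.mk_surjective Q, h2]
    exact Ideal.map_quotient_self q
  exact finite_of_field R t ht n (S ⧸ q)
    ((Ideal.Quotient.mkₐ R q).comp φ) ((Ideal.Quotient.mkₐ_surjective R q).comp hφ) htB hQ

end rig

end Groth.Agent.Lib.T2H8.GenFib
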