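import Mathlib
import Groth.Prelude.Def_W4bk4boschfrg79
import Groth.Agent.Lib.T2H8FlatKrull
import Groth.Agent.Lib.T2H8GenFib
import Groth.Agent.Lib.T2H8CLocTor
import Groth.Agent.S11538

/-!
# T2H8Gabber: ingredients for Gabber's lemma (flatness of `R⟨ξ⟩[ζ] → R⟨ξ,ζ⟩`)
-/

set_option autoImplicit false
set_option linter.unusedSectionVars false
universe u

open scoped TensorProduct

namespace Groth.Agent.Lib.T2H8.Gabber

open CLoc

section E1

theorem tmul_one_eq_zero_iff {B : Type*} [CommRing B] (K : Ideal B) (Y : Type*) [AddCommGroup Y]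
    [Module B Y] (y : Y) :
    y ⊗ₜ[B] (1 : B ⧸ K) = 0 ↔ y ∈ K • (⊤ : Submodule B Y) := by
  rw [← (TensorProduct.tensorQuotEquivQuotSMul Y K).map_eq_zero_iff,
    ← map_one (Ideal.Quotient.mk K), TensorProduct.tensorQuotEquivQuotSMul_tmul_mk, one_smul,
    Submodule.Quotient.mk_eq_zero]

variable {R : Type u} [CommRing R] (I : Ideal R) (hR : AdicRing.IsBase R I)
  (A : Type u) [CommRing A] [Algebra R A] (hA : AdicRing.TopFiniteType R I A)
  (B : Type u) [CommRing B] [Algebra R B] [Algebra A B] [IsScalarTower R A B]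
  [Algebra.FiniteType A B] (K : Ideal B) [Module.Finite A (B ⧸ K)]

theorem ofTP_of_tmul_one (b : B) :
    AdicCompletion.ofTensorProduct (I.map (algebraMap R B)) (B ⧸ K)
      ((AdicCompletion.of (I.map (algebraMap R B)) B b) ⊗ₜ[B] (1 : B ⧸ K)) =
    AdicCompletion.of (I.map (algebraMap R B)) (B ⧸ K) (Ideal.Quotient.mk K b) := by
  rw [AdicCompletion.ofTensorProduct_tmul]
  have e1 : AdicCompletion.of (I.map (algebraMap R B)) B b =
      algebraMap B (AdicCompletion (I.map (algebraMap R B)) B) b := rfl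
  rw [e1, algebraMap_smul, ← map_smul]
  congr 1
  rw [Algebra.smul_def, mul_one]
  rfl

include hR hA in
theorem of_quot_bijective :
    Function.Bijective (AdicCompletion.of (I.map (algebraMap R B)) (B ⧸ K)) := by
  have hc : IsAdicComplete I (B ⧸ K) := Groth.Agent.S11529.result R I hR A hA (B ⧸ K)
  haveI : IsAdicComplete (I.map (algebraMap R B)) (B ⧸ K) :=
    (IsAdicComplete.map_algebraMap_iff (R := R) (S := B) (I := I) (M := B ⧸ K)).mpr hc
  exact AdicCompletion.of_bijective _ _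

include hR hA in
theorem hat_sur (x : Hat I B) :
    ∃ b : B, x - algebraMap B (Hat I B) b ∈ K.map (algebraMap B (Hat I B)) := by
  have hof := of_quot_bijective I hR A hA B K
  have hTP := TensCompl.ofTensorProduct_bijective I hR A hA B (B ⧸ K)
  obtain ⟨m₀, hm₀⟩ := hof.2 (AdicCompletion.ofTensorProduct (I.map (algebraMap R B)) (B ⧸ K)
    (x ⊗ₜ[B] (1 : B ⧸ K)))
  obtain ⟨b, rfl⟩ := Ideal.Quotient.mk_surjective m₀
  refine ⟨b, ?_⟩
  rw [← ofTP_of_tmul_one I B K b] at hm₀
  have h1 := hTP.1 hm₀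
  have h2 : (x - algebraMap B (Hat I B) b) ⊗ₜ[B] (1 : B ⧸ K) = 0 := by
    rw [TensorProduct.sub_tmul, sub_eq_zero]
    exact h1.symm
  rw [tmul_one_eq_zero_iff, Ideal.smul_top_eq_map, Submodule.restrictScalars_mem] at h2
  exact h2

include hR hA in
theorem hat_inj (b : B) (hb : algebraMap B (Hat I B) b ∈ K.map (algebraMap B (Hat I B))) :
    b ∈ K := by
  have hof := of_quot_bijective I hR A hA B K
  have h2 : (algebraMap B (Hat I B) b) ⊗ₜ[B] (1 : B ⧸ K) = 0 := by
    rw [tmul_one_eq_zero_iff, Ideal.smul_top_eq_map, Submodule.restrictScalars_mem]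
    exact hb
  have h3 := ofTP_of_tmul_one I B K b
  have e1 : AdicCompletion.of (I.map (algebraMap R B)) B b = algebraMap B (Hat I B) b := rfl
  rw [e1, h2, map_zero] at h3
  have h4 : Ideal.Quotient.mk K b = 0 := hof.1 (by rw [← h3, map_zero])
  exact Ideal.Quotient.eq_zero_iff_mem.mp h4

end E1

section E2

open MvPolynomial

variable (A : Type*) [CommRing A] (σ : Type*) [Finite σ] (p : σ → Polynomial A)
  (hp : ∀ j, (p j).Monic)

/-- the ideal generated by the `p_j(ζ_j)` -/
noncomputable def gen (j : σ) : MvPolynomial σ A := Polynomial.aeval (X j : MvPolynomial σ A) (p j)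

include hp in
theorem finite_quot_pow (k : ℕ) :
    Module.Finite A (MvPolynomial σ A ⧸ (Ideal.span (Set.range (gen A σ p))) ^ k) := by
  obtain ⟨K, hK⟩ : ∃ K : Ideal (MvPolynomial σ A), K = (Ideal.span (Set.range (gen A σ p))) ^ k :=
    ⟨_, rfl⟩
  rw [← hK]
  have hint : ∀ j, IsIntegral A (Ideal.Quotient.mkₐ A K (X j)) := by
    intro j
    refine ⟨(p j) ^ k, (hp j).pow k, ?_⟩
    rw [← Polynomial.aeval_def, Polynomial.aeval_algHom_apply, map_pow, map_pow]
    have h1 : gen A σ p j ^ k ∈ K := by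
      rw [hK]
      exact Ideal.pow_mem_pow (Ideal.subset_span (Set.mem_range_self j)) k
    have h2 : Ideal.Quotient.mkₐ A K (gen A σ p j ^ k) = 0 :=
      Ideal.Quotient.eq_zero_iff_mem.mpr h1
    rw [map_pow] at h2
    exact h2
  have hfg := fg_adjoin_of_finite (R := A)
    (s := Set.range (fun j => Ideal.Quotient.mkₐ A K (X j)))
    (Set.finite_range _) (by
      rintro _ ⟨j, rfl⟩
      exact hint j)
  have htop : Algebra.adjoin A (Set.range (fun j => Ideal.Quotient.mkₐ A K (X j))) = ⊤ := by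
    have e1 : (Set.range (fun j => Ideal.Quotient.mkₐ A K (X j))) =
        (Ideal.Quotient.mkₐ A K) '' (Set.range (X : σ → MvPolynomial σ A)) := by
      rw [← Set.range_comp]
      rfl
    rw [e1, ← AlgHom.map_adjoin, MvPolynomial.adjoin_range_X, Algebra.map_top,
      AlgHom.range_eq_top]
    exact Ideal.Quotient.mkₐ_surjective A K
  rw [htop, Algebra.top_toSubmodule] at hfg
  exact ⟨hfg⟩

end E2

section E3

open MvPolynomial RPowBase

variable (R : Type u) [CommRing R] [IsDomain R] [ValuationRing R] [Ring.KrullDimLE 1 R]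
  (t : R) (ht : t ≠ 0) [hc : IsAdicComplete (Ideal.span {t}) R] (n m : ℕ)

/-- `B₀ = R⟨ξ⟩[ζ]` -/
abbrev B₀ : Type u := MvPolynomial (Fin m) (AdicRing.RPow R (Ideal.span {t}) n)

include ht in
theorem isBase : AdicRing.IsBase R (Ideal.span {t}) :=
  ⟨hc, Or.inr ⟨inferInstance, inferInstance, inferInstance, t, ht, rfl⟩⟩

theorem tft_rpow :
    AdicRing.TopFiniteType R (Ideal.span {t}) (AdicRing.RPow R (Ideal.span {t}) n) :=
  ⟨n, AlgHom.id R _, Function.surjective_id⟩

include ht in
theorem flat_generic (S T : Type u) [CommRing S] [CommRing T] [Algebra (B₀ R t n m) S]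
    [Algebra (Hat (Ideal.span {t}) (B₀ R t n m)) T] [Algebra (B₀ R t n m) T] [Algebra S T]
    [IsScalarTower (B₀ R t n m) (Hat (Ideal.span {t}) (B₀ R t n m)) T]
    [IsScalarTower (B₀ R t n m) S T]
    [IsLocalization.Away (algebraMap R (B₀ R t n m) t) S]
    [IsLocalization.Away (algebraMap (B₀ R t n m) (Hat (Ideal.span {t}) (B₀ R t n m))
      (algebraMap R (B₀ R t n m) t)) T] :
    Module.Flat S T := by
  have hR := isBase R t ht
  have hI : (Ideal.span {t}).FG := ⟨{t}, by simp⟩
  have hA₀ := tft_rpow R t n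
  have hHat : AdicRing.TopFiniteType R (Ideal.span {t}) (Hat (Ideal.span {t}) (B₀ R t n m)) :=
    TensCompl.tft_hat (Ideal.span {t}) hI (AdicRing.RPow R (Ideal.span {t}) n) hA₀ (B₀ R t n m)
  have e : algebraMap (B₀ R t n m) (Hat (Ideal.span {t}) (B₀ R t n m))
      (algebraMap R (B₀ R t n m) t) =
      algebraMap R (Hat (Ideal.span {t}) (B₀ R t n m)) t :=
    (IsScalarTower.algebraMap_apply R (B₀ R t n m) (Hat (Ideal.span {t}) (B₀ R t n m)) t).symm
  haveI hT' : IsLocalization.Away (algebraMap R (Hat (Ideal.span {t}) (B₀ R t n m)) t) T := by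
    rw [← e]
    infer_instance
  haveI : IsNoetherianRing T := GenFib.isNoetherianRing_away t hR _ hHat T
  haveI : IsNoetherianRing
      (Localization.Away (algebraMap R (AdicRing.RPow R (Ideal.span {t}) n) t)) :=
    GenFib.isNoetherianRing_away t hR _ hA₀ _
  haveI hS' : IsLocalization.Away
      (C (algebraMap R (AdicRing.RPow R (Ideal.span {t}) n) t) : B₀ R t n m) S := by
    rw [← MvPolynomial.algebraMap_apply]
    infer_instance
  haveI : IsNoetherianRing S :=
    GenFib.isNoetherianRing_away_mvPolynomial (AdicRing.RPow R (Ideal.span {t}) n)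
      (algebraMap R _ t) (Fin m) S
  apply FlatKrull.flat_of_forall_maximal
  intro 𝔪 h𝔪
  obtain ⟨htq, hfin⟩ := GenFib.finite_quotient_comap R t ht
    (Hat (Ideal.span {t}) (B₀ R t n m)) hHat T 𝔪 h𝔪
  obtain ⟨𝔭, h𝔭def⟩ : ∃ 𝔭 : Ideal (Hat (Ideal.span {t}) (B₀ R t n m)),
      𝔭 = 𝔪.comap (algebraMap (Hat (Ideal.span {t}) (B₀ R t n m)) T) := ⟨_, rfl⟩
  rw [← h𝔭def] at hfin htq
  have hint : ∀ j : Fin m, ∃ q : Polynomial R, q.Monic ∧
      Polynomial.eval₂ (algebraMap R (Hat (Ideal.span {t}) (B₀ R t n m) ⧸ 𝔭))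
        (Ideal.Quotient.mk 𝔭 (algebraMap (B₀ R t n m) (Hat (Ideal.span {t}) (B₀ R t n m))
          (X j))) q = 0 := fun j => IsIntegral.of_finite R _
  choose p hpm hp0 using hint
  obtain ⟨p', hp'def⟩ : ∃ p' : Fin m → Polynomial (AdicRing.RPow R (Ideal.span {t}) n),
      p' = fun j => (p j).map (algebraMap R (AdicRing.RPow R (Ideal.span {t}) n)) := ⟨_, rfl⟩
  have hp'm : ∀ j, (p' j).Monic := by
    intro j
    rw [hp'def]
    exact (hpm j).map _
  obtain ⟨𝔟₀, h𝔟₀def⟩ : ∃ 𝔟₀ : Ideal (B₀ R t n m),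
      𝔟₀ = Ideal.span (Set.range (gen (AdicRing.RPow R (Ideal.span {t}) n) (Fin m) p')) :=
    ⟨_, rfl⟩
  have h𝔟₀ : 𝔟₀.map (algebraMap (B₀ R t n m) (Hat (Ideal.span {t}) (B₀ R t n m))) ≤ 𝔭 := by
    rw [Ideal.map_le_iff_le_comap, h𝔟₀def, Ideal.span_le]
    rintro _ ⟨j, rfl⟩
    show algebraMap (B₀ R t n m) (Hat (Ideal.span {t}) (B₀ R t n m)) _ ∈ 𝔭
    rw [← Ideal.Quotient.eq_zero_iff_mem]
    obtain ⟨χ, hχ⟩ : ∃ χ : B₀ R t n m →ₐ[R] (Hat (Ideal.span {t}) (B₀ R t n m) ⧸ 𝔭),
        ∀ b, χ b = Ideal.Quotient.mk 𝔭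
          (algebraMap (B₀ R t n m) (Hat (Ideal.span {t}) (B₀ R t n m)) b) :=
      ⟨(Ideal.Quotient.mkₐ R 𝔭).comp
        (IsScalarTower.toAlgHom R (B₀ R t n m) (Hat (Ideal.span {t}) (B₀ R t n m))),
        fun b => rfl⟩
    rw [← hχ]
    have h1 : gen (AdicRing.RPow R (Ideal.span {t}) n) (Fin m) p' j =
        Polynomial.aeval (X j : B₀ R t n m) (p j) := by
      rw [hp'def]
      exact Polynomial.aeval_map_algebraMap _ _ _
    rw [h1, ← Polynomial.aeval_algHom_apply, Polynomial.aeval_def, hχ]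
    exact hp0 j
  refine ⟨𝔟₀.map (algebraMap (B₀ R t n m) S), ?_, ?_⟩
  · rw [← GenFib.map_map_eq (B' := Hat (Ideal.span {t}) (B₀ R t n m)) (S := S) (T := T) 𝔟₀]
    refine (Ideal.map_mono h𝔟₀).trans ?_
    rw [h𝔭def]
    exact Ideal.map_comap_le
  · intro k
    rw [← Ideal.map_pow]
    haveI : Module.Finite (AdicRing.RPow R (Ideal.span {t}) n) (B₀ R t n m ⧸ 𝔟₀ ^ k) := by
      rw [h𝔟₀def]
      exact finite_quot_pow _ (Fin m) p' hp'm k
    exact ⟨GenFib.sur_of_sur (algebraMap R (B₀ R t n m) t) (𝔟₀ ^ k)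
        (hat_sur (Ideal.span {t}) hR _ hA₀ (B₀ R t n m) (𝔟₀ ^ k)),
      GenFib.inj_of_inj (algebraMap R (B₀ R t n m) t) (𝔟₀ ^ k)
        (hat_inj (Ideal.span {t}) hR _ hA₀ (B₀ R t n m) (𝔟₀ ^ k))⟩

end E3

section E5

open MvPolynomial RPowBase

variable (R : Type u) [CommRing R] [IsDomain R] [ValuationRing R] [Ring.KrullDimLE 1 R]
  (t : R) (ht : t ≠ 0) [hc : IsAdicComplete (Ideal.span {t}) R] (n m : ℕ)

include ht in
theorem noPowTorsion_B₀ : AdicRing.NoPowTorsion (Ideal.span {t}) (B₀ R t n m) := by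
  have htu : ¬ IsUnit t := RPowFP.not_isUnit_of_complete t hc
  intro x k hx
  refine MvPolynomial.ext _ _ (fun d => ?_)
  rw [MvPolynomial.coeff_zero]
  apply RPowUse.noPowTorsion_rpow_V t ht htu n (MvPolynomial.coeff d x) k
  intro a ha
  rw [← MvPolynomial.coeff_smul, hx a ha, MvPolynomial.coeff_zero]

include ht in
theorem flat_hat_B₀ : Module.Flat (B₀ R t n m) (Hat (Ideal.span {t}) (B₀ R t n m)) := by
  have hR := isBase R t ht
  have hI : (Ideal.span {t}).FG := ⟨{t}, by simp⟩
  have htorB := noPowTorsion_B₀ R t ht n m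
  have htorH := CLocTor.noPowTorsion_hat_principal t (B₀ R t n m) htorB
  have hπ : algebraMap R (B₀ R t n m) t ∈ nonZeroDivisors (B₀ R t n m) := by
    rw [mem_nonZeroDivisors_iff_right]
    intro x hx
    apply RPowUse.smul_pow_eq_zero_of_noPowTorsion t (B₀ R t n m) htorB x 1
    rw [pow_one, Algebra.smul_def, mul_comm]
    exact hx
  rw [Groth.Agent.S11538.result (B₀ R t n m) (algebraMap R (B₀ R t n m) t) hπ
    (Hat (Ideal.span {t}) (B₀ R t n m))]
  have eJ : Ideal.span {algebraMap R (B₀ R t n m) t} =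
      ((Ideal.span {t}) ^ 1).map (algebraMap R (B₀ R t n m)) := by
    have h1 : ((Ideal.span {t}) ^ 1).map (algebraMap R (B₀ R t n m)) =
        (Ideal.span {t}).map (algebraMap R (B₀ R t n m)) :=
      congrArg (Ideal.map (algebraMap R (B₀ R t n m))) (pow_one (Ideal.span {t}))
    have h2 : (Ideal.span {t}).map (algebraMap R (B₀ R t n m)) =
        Ideal.span {algebraMap R (B₀ R t n m) t} :=
      (Ideal.map_span (algebraMap R (B₀ R t n m)) {t}).trans
        (congrArg Ideal.span (Set.image_singleton))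
    exact (h1.trans h2).symm
  refine ⟨?_, ?_, ?_⟩
  · intro x k hx
    apply RPowUse.smul_pow_eq_zero_of_noPowTorsion t _ htorH x k
    rw [← map_pow, algebraMap_smul] at hx
    exact hx
  · obtain ⟨g, hg⟩ : ∃ g : B₀ R t n m →ₗ[B₀ R t n m] Hat (Ideal.span {t}) (B₀ R t n m),
        ∀ b, g b = AdicCompletion.of _ _ b :=
      ⟨Algebra.linearMap (B₀ R t n m) (Hat (Ideal.span {t}) (B₀ R t n m)), fun b => rfl⟩
    have hbij : Function.Bijective
        (g.baseChange (B₀ R t n m ⧸ Ideal.span {algebraMap R (B₀ R t n m) t})) := by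
      apply LocFlatB.baseChange_bijective
      · intro y
        obtain ⟨b, hb⟩ := hat_exists_of_sub_mem (Ideal.span {t}) (B₀ R t n m) hI 1 y
        refine ⟨b, ?_⟩
        rw [hg, eJ, LocFlatB.mem_smul_top_iff]
        exact hb
      · intro b hb
        rw [hg, eJ, LocFlatB.mem_smul_top_iff] at hb
        rw [eJ, LocFlatB.mem_smul_top_iff]
        exact hat_mem_of_of_mem (Ideal.span {t}) (B₀ R t n m) hI 1 b hb
    exact Module.Flat.of_linearEquiv (LinearEquiv.ofBijective _ hbij).symm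
  · have hunit : IsUnit (algebraMap (B₀ R t n m)
        (Localization.Away (algebraMap (B₀ R t n m) (Hat (Ideal.span {t}) (B₀ R t n m))
          (algebraMap R (B₀ R t n m) t))) (algebraMap R (B₀ R t n m) t)) := by
      have h1 := IsScalarTower.algebraMap_apply (B₀ R t n m) (Hat (Ideal.span {t}) (B₀ R t n m))
        (Localization.Away (algebraMap (B₀ R t n m) (Hat (Ideal.span {t}) (B₀ R t n m))
          (algebraMap R (B₀ R t n m) t))) (algebraMap R (B₀ R t n m) t)
      rw [h1]
      exact IsLocalization.Away.algebraMap_isUnit _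
    letI : Algebra (Localization.Away (algebraMap R (B₀ R t n m) t))
        (Localization.Away (algebraMap (B₀ R t n m) (Hat (Ideal.span {t}) (B₀ R t n m))
          (algebraMap R (B₀ R t n m) t))) :=
      (IsLocalization.Away.lift (algebraMap R (B₀ R t n m) t) hunit).toAlgebra
    haveI : IsScalarTower (B₀ R t n m) (Localization.Away (algebraMap R (B₀ R t n m) t))
        (Localization.Away (algebraMap (B₀ R t n m) (Hat (Ideal.span {t}) (B₀ R t n m))
          (algebraMap R (B₀ R t n m) t))) :=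
      IsScalarTower.of_algebraMap_eq (fun b =>
        (IsLocalization.Away.lift_eq (algebraMap R (B₀ R t n m) t) hunit b).symm)
    haveI : Module.Flat (Localization.Away (algebraMap R (B₀ R t n m) t))
        (Localization.Away (algebraMap (B₀ R t n m) (Hat (Ideal.span {t}) (B₀ R t n m))
          (algebraMap R (B₀ R t n m) t))) :=
      flat_generic R t ht n m (Localization.Away (algebraMap R (B₀ R t n m) t))
        (Localization.Away (algebraMap (B₀ R t n m) (Hat (Ideal.span {t}) (B₀ R t n m))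
          (algebraMap R (B₀ R t n m) t)))
    have hloc : IsLocalizedModule (Submonoid.powers (algebraMap R (B₀ R t n m) t))
        (IsScalarTower.toAlgHom (B₀ R t n m) (Hat (Ideal.span {t}) (B₀ R t n m))
          (Localization.Away (algebraMap (B₀ R t n m) (Hat (Ideal.span {t}) (B₀ R t n m))
            (algebraMap R (B₀ R t n m) t)))).toLinearMap := by
      rw [isLocalizedModule_iff_isLocalization]
      have e : Algebra.algebraMapSubmonoid (Hat (Ideal.span {t}) (B₀ R t n m))
          (Submonoid.powers (algebraMap R (B₀ R t n m) t)) =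
          Submonoid.powers (algebraMap (B₀ R t n m) (Hat (Ideal.span {t}) (B₀ R t n m))
            (algebraMap R (B₀ R t n m) t)) := Submonoid.map_powers _ _
      rw [e]
      infer_instance
    have hbc := IsLocalizedModule.isBaseChange (Submonoid.powers (algebraMap R (B₀ R t n m) t))
      (Localization.Away (algebraMap R (B₀ R t n m) t))
      (IsScalarTower.toAlgHom (B₀ R t n m) (Hat (Ideal.span {t}) (B₀ R t n m))
          (Localization.Away (algebraMap (B₀ R t n m) (Hat (Ideal.span {t}) (B₀ R t n m))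
            (algebraMap R (B₀ R t n m) t)))).toLinearMap
    exact Module.Flat.of_linearEquiv hbc.equiv

end E5

end Groth.Agent.Lib.T2H8.Gabber
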