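import Mathlib
import Groth.Prelude.Def_W4bk4boschfrg79
import Groth.Agent.Lib.T2H8Gabber

/-!
# T2H8GabberB: Gabber's lemma — the completion of a finitely generated algebra over an algebra
topologically of finite type is flat.
-/

set_option autoImplicit false
set_option linter.unusedSectionVars false
universe u

open scoped TensorProduct

namespace Groth.Agent.Lib.T2H8.GabberB

open CLoc

theorem mk_eq_zero_iff {P : Type*} [CommRing P] (J : Ideal P) (M : Type*) [AddCommGroup M]
    [Module P M] (a : AdicCompletion.AdicCauchySequence J M) :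
    AdicCompletion.mk J M a = 0 ↔ ∀ k, a k ∈ (J ^ k • ⊤ : Submodule P M) := by
  constructor
  · intro h k
    have h1 : (AdicCompletion.mk J M a).val k = 0 := by
      rw [h]
      rfl
    rw [AdicCompletion.mk_apply_coe, Submodule.mkQ_apply, Submodule.Quotient.mk_eq_zero] at h1
    exact h1
  · intro h
    apply AdicCompletion.ext
    intro k
    rw [AdicCompletion.mk_apply_coe, AdicCompletion.val_zero_apply, Submodule.mkQ_apply,
      Submodule.Quotient.mk_eq_zero]
    exact h k

section transport

variable {R : Type u} [CommRing R] (I : Ideal R)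
  (B C : Type u) [CommRing B] [CommRing C] [Algebra R B] [Algebra R C] [Algebra B C]
  [IsScalarTower R B C]

theorem mem_pow_smul_top_iff (M : Type*) [AddCommGroup M] [Module C M] [Module B M]
    [IsScalarTower B C M] (k : ℕ) (x : M) :
    x ∈ ((I.map (algebraMap R C)) ^ k • ⊤ : Submodule C M) ↔
      x ∈ ((I.map (algebraMap R B)) ^ k • ⊤ : Submodule B M) := by
  have e1 : (I.map (algebraMap R C)) ^ k =
      ((I.map (algebraMap R B)) ^ k).map (algebraMap B C) := by
    rw [Ideal.map_pow, Ideal.map_map, ← IsScalarTower.algebraMap_eq]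
  have h3 := Ideal.smul_restrictScalars ((I.map (algebraMap R B)) ^ k) (⊤ : Submodule C M)
  rw [Submodule.restrictScalars_top] at h3
  rw [e1, ← h3, Submodule.restrictScalars_mem]

theorem flat_hat_of_surjective (hsurj : Function.Surjective (algebraMap B C))
    (hflat : Module.Flat B (Hat I B))
    (hB : ∀ (M : Type u) [AddCommGroup M] [Module B M] [Module.Finite B M],
      Function.Bijective (AdicCompletion.ofTensorProduct (I.map (algebraMap R B)) M))
    (hC : ∀ (M : Type u) [AddCommGroup M] [Module C M] [Module.Finite C M],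
      Function.Bijective (AdicCompletion.ofTensorProduct (I.map (algebraMap R C)) M)) :
    Module.Flat C (Hat I C) := by
  rw [Module.Flat.iff_lTensor_injective]
  intro 𝔠 h𝔠
  haveI : Module.Finite C 𝔠 := Module.Finite.of_fg h𝔠
  haveI : Module.Finite B C := Module.Finite.of_surjective (Algebra.linearMap B C) hsurj
  haveI : Module.Finite B 𝔠 := Module.Finite.trans C 𝔠
  -- injectivity over `B`
  have hinjB : Function.Injective
      (AdicCompletion.map (I.map (algebraMap R B)) (𝔠.subtype.restrictScalars B)) := by
    have hnat := AdicCompletion.ofTensorProduct_naturality (I.map (algebraMap R B))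
      (𝔠.subtype.restrictScalars B)
    have hlt : Function.Injective ((𝔠.subtype.restrictScalars B).lTensor (Hat I B)) :=
      Module.Flat.lTensor_preserves_injective_linearMap _ Subtype.val_injective
    have key : ∀ z : Hat I B ⊗[B] 𝔠,
        AdicCompletion.map (I.map (algebraMap R B)) (𝔠.subtype.restrictScalars B)
          (AdicCompletion.ofTensorProduct (I.map (algebraMap R B)) 𝔠 z) =
        AdicCompletion.ofTensorProduct (I.map (algebraMap R B)) C
          ((𝔠.subtype.restrictScalars B).lTensor (Hat I B) z) :=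
      fun z => LinearMap.congr_fun hnat z
    intro x y hxy
    obtain ⟨x', rfl⟩ := (hB 𝔠).2 x
    obtain ⟨y', rfl⟩ := (hB 𝔠).2 y
    rw [key, key] at hxy
    rw [hlt ((hB C).1 hxy)]
  -- injectivity over `C`
  have hinjC : Function.Injective
      (AdicCompletion.map (I.map (algebraMap R C)) 𝔠.subtype) := by
    rw [injective_iff_map_eq_zero]
    intro x hx
    obtain ⟨a, rfl⟩ := AdicCompletion.mk_surjective _ _ x
    rw [AdicCompletion.map_mk, mk_eq_zero_iff] at hx
    obtain ⟨a', ha'⟩ : ∃ a' : AdicCompletion.AdicCauchySequence (I.map (algebraMap R B)) 𝔠,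
        ∀ k, a' k = a k :=
      ⟨⟨fun k => a k, fun {m n} hmn => SModEq.sub_mem.mpr
        ((mem_pow_smul_top_iff I B C 𝔠 m _).mp (SModEq.sub_mem.mp (a.2 hmn)))⟩, fun k => rfl⟩
    have h1 : AdicCompletion.mk (I.map (algebraMap R B)) 𝔠 a' = 0 := by
      apply hinjB
      rw [map_zero, AdicCompletion.map_mk, mk_eq_zero_iff]
      intro k
      rw [AdicCompletion.AdicCauchySequence.map_apply_coe, ha']
      have h2 := hx k
      rw [AdicCompletion.AdicCauchySequence.map_apply_coe] at h2
      exact (mem_pow_smul_top_iff I B C C k _).mp h2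
    rw [mk_eq_zero_iff] at h1 ⊢
    intro k
    have h2 := h1 k
    rw [ha'] at h2
    exact (mem_pow_smul_top_iff I B C 𝔠 k _).mpr h2
  have hnatC := AdicCompletion.ofTensorProduct_naturality (I.map (algebraMap R C)) 𝔠.subtype
  have keyC : ∀ z : Hat I C ⊗[C] 𝔠,
      AdicCompletion.map (I.map (algebraMap R C)) 𝔠.subtype
        (AdicCompletion.ofTensorProduct (I.map (algebraMap R C)) 𝔠 z) =
      AdicCompletion.ofTensorProduct (I.map (algebraMap R C)) C
        (𝔠.subtype.lTensor (Hat I C) z) :=
    fun z => LinearMap.congr_fun hnatC z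
  intro z z' hzz'
  apply (hC 𝔠).1
  apply hinjC
  rw [keyC, keyC, hzz']

end transport

section final

theorem flat_hat (R : Type u) [CommRing R] (I : Ideal R) (hR : AdicRing.IsBase R I)
    (A : Type u) [CommRing A] [Algebra R A] (hA : AdicRing.TopFiniteType R I A)
    (C : Type u) [CommRing C] [Algebra R C] [Algebra A C] [IsScalarTower R A C]
    [Algebra.FiniteType A C] :
    Module.Flat C (AdicCompletion (I.map (algebraMap R C)) C) := by
  have hR' := hR
  obtain ⟨hc, hN | ⟨hdom, hval, hdim, t, ht, rfl⟩⟩ := hR
  · haveI := hN.1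
    haveI := RPowUse.isNoetherianRing_of_tft I A hA
    haveI : IsNoetherianRing C := Algebra.FiniteType.isNoetherianRing A C
    exact AdicCompletion.flat_of_isNoetherian _
  · haveI := hdom
    haveI := hval
    haveI := hdim
    haveI : ValuationRing R := {}
    haveI := hc
    have hA' := hA
    obtain ⟨n, φ, hφ⟩ := hA
    obtain ⟨m, f, hf⟩ := Algebra.FiniteType.iff_quotient_mvPolynomial''.mp
      (inferInstance : Algebra.FiniteType A C)
    obtain ⟨ψ, hψ⟩ : ∃ ψ : Gabber.B₀ R t n m →ₐ[R] C, Function.Surjective ψ := by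
      refine ⟨(f.restrictScalars R).comp (MvPolynomial.mapAlgHom φ), ?_⟩
      intro c
      obtain ⟨q, rfl⟩ := hf c
      obtain ⟨q', rfl⟩ := MvPolynomial.map_surjective φ.toRingHom hφ q
      exact ⟨q', rfl⟩
    letI : Algebra (Gabber.B₀ R t n m) C := ψ.toRingHom.toAlgebra
    haveI : IsScalarTower R (Gabber.B₀ R t n m) C :=
      IsScalarTower.of_algebraMap_eq (fun r => (ψ.commutes r).symm)
    exact flat_hat_of_surjective (Ideal.span {t}) (Gabber.B₀ R t n m) C hψ
      (Gabber.flat_hat_B₀ R t ht n m)
      (fun M _ _ _ => TensCompl.ofTensorProduct_bijective _ hR' _ (Gabber.tft_rpow R t n)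
        (Gabber.B₀ R t n m) M)
      (fun M _ _ _ => TensCompl.ofTensorProduct_bijective _ hR' A hA' C M)

end final

end Groth.Agent.Lib.T2H8.GabberB
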