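import Mathlib
import Groth.Prelude.Def_W4bk4boschfrg79
import Groth.Agent.Lib.T2H8GabberB
import Groth.Agent.Lib.T2H8CLocTor

/-!
# T2H8ChartTor: `I`-power torsion and `f_i`-power torsion in the completed chart algebras of a
blowing-up
-/

set_option autoImplicit false
set_option linter.unusedSectionVars false
universe u

open scoped TensorProduct

namespace Groth.Agent.Lib.T2H8.ChartTor

open MvPolynomial

section chart

variable {A : Type u} [CommRing A] {ι : Type} (f : ι → A) (i : ι)

theorem mk_X_mul (j : {j : ι // j ≠ i}) :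
    algebraMap A (AdicRing.chartAlg f i) (f i) * Ideal.Quotient.mk _ (X j) =
      algebraMap A (AdicRing.chartAlg f i) (f j.1) := by
  have e : ∀ a : A, algebraMap A (AdicRing.chartAlg f i) a = Ideal.Quotient.mk _ (C a) :=
    fun a => rfl
  rw [e, e, ← map_mul, ← sub_eq_zero, ← map_sub, Ideal.Quotient.eq_zero_iff_mem]
  exact Ideal.subset_span (Set.mem_range_self j)

theorem exists_pow_mul_eq (c : AdicRing.chartAlg f i) :
    ∃ (d : ℕ) (a : A), algebraMap A (AdicRing.chartAlg f i) (f i) ^ d * c =
      algebraMap A (AdicRing.chartAlg f i) a := by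
  obtain ⟨P, rfl⟩ := Ideal.Quotient.mk_surjective c
  induction P using MvPolynomial.induction_on with
  | C a => exact ⟨0, a, by rw [pow_zero, one_mul]; rfl⟩
  | add p q hp hq =>
    obtain ⟨d1, a1, h1⟩ := hp
    obtain ⟨d2, a2, h2⟩ := hq
    refine ⟨d1 + d2, f i ^ d2 * a1 + f i ^ d1 * a2, ?_⟩
    rw [map_add (Ideal.Quotient.mk _), map_add (algebraMap A (AdicRing.chartAlg f i)), map_mul,
      map_mul, map_pow, map_pow]
    linear_combination (algebraMap A (AdicRing.chartAlg f i) (f i) ^ d2) * h1 +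
      (algebraMap A (AdicRing.chartAlg f i) (f i) ^ d1) * h2
  | mul_X p j hp =>
    obtain ⟨d, a, h⟩ := hp
    refine ⟨d + 1, a * f j.1, ?_⟩
    have hX := mk_X_mul f i j
    rw [map_mul (Ideal.Quotient.mk _), map_mul (algebraMap A (AdicRing.chartAlg f i))]
    linear_combination (algebraMap A (AdicRing.chartAlg f i) (f i) * Ideal.Quotient.mk _ (X j)) * h +
      (algebraMap A (AdicRing.chartAlg f i) a) * hX

/-- the canonical map from the chart algebra to the localization `A[1/f_i]` -/
noncomputable def rho : AdicRing.chartAlg f i →ₐ[A] Localization.Away (f i) :=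
  Ideal.Quotient.liftₐ _ (MvPolynomial.aeval (fun j : {j : ι // j ≠ i} =>
    IsLocalization.mk' (Localization.Away (f i)) (f j.1)
      (⟨f i, Submonoid.mem_powers _⟩ : Submonoid.powers (f i)))) (by
    have hle : Ideal.span (Set.range fun j : {j : ι // j ≠ i} =>
        (C (f i) * X j - C (f j.1) : MvPolynomial {j : ι // j ≠ i} A)) ≤
        RingHom.ker (MvPolynomial.aeval (fun j : {j : ι // j ≠ i} =>
          IsLocalization.mk' (Localization.Away (f i)) (f j.1)
            (⟨f i, Submonoid.mem_powers _⟩ : Submonoid.powers (f i)))).toRingHom := by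
      rw [Ideal.span_le]
      rintro _ ⟨j, rfl⟩
      show MvPolynomial.aeval _ _ = 0
      rw [map_sub, map_mul, MvPolynomial.aeval_C, MvPolynomial.aeval_C, MvPolynomial.aeval_X,
        sub_eq_zero]
      exact IsLocalization.mk'_spec' (Localization.Away (f i)) (f j.1)
        (⟨f i, Submonoid.mem_powers _⟩ : Submonoid.powers (f i))
    intro p hp
    exact hle hp)

theorem ker_rho (c : AdicRing.chartAlg f i) (hc : rho f i c = 0) :
    ∃ N : ℕ, algebraMap A (AdicRing.chartAlg f i) (f i) ^ N * c = 0 := by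
  obtain ⟨d, a, h⟩ := exists_pow_mul_eq f i c
  have h1 : algebraMap A (Localization.Away (f i)) a = 0 := by
    have h2 := congrArg (rho f i) h
    rw [map_mul, hc, mul_zero, AlgHom.commutes] at h2
    exact h2.symm
  rw [IsLocalization.map_eq_zero_iff (Submonoid.powers (f i))] at h1
  obtain ⟨⟨_, e, rfl⟩, he⟩ := h1
  refine ⟨e + d, ?_⟩
  rw [pow_add, mul_assoc, h, ← map_pow, ← map_mul]
  simp only at he
  rw [he, map_zero]

variable {R : Type u} [CommRing R] (I : Ideal R) [Algebra R A]

theorem exists_pow_mul_eq_zero_of_tors (hI : I.FG) (hA : AdicRing.NoPowTorsion I A)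
    (y : AdicRing.chartAlg f i) (n : ℕ) (hy : ∀ r ∈ I ^ n, r • y = 0) :
    ∃ N : ℕ, algebraMap A (AdicRing.chartAlg f i) (f i) ^ N * y = 0 := by
  apply ker_rho
  apply CLocTor.noPowTorsion_away I A (f i) hI hA (rho f i y) n
  intro r hr
  rw [← AlgHom.map_smul_of_tower, hy r hr, map_zero]

theorem map_le_span (k : ℕ)
    (hopen : (I ^ k).map (algebraMap R A) ≤ Ideal.span (Set.range f)) :
    (I ^ k).map (algebraMap R (AdicRing.chartAlg f i)) ≤
      Ideal.span {algebraMap A (AdicRing.chartAlg f i) (f i)} := by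
  have e1 : (I ^ k).map (algebraMap R (AdicRing.chartAlg f i)) =
      ((I ^ k).map (algebraMap R A)).map (algebraMap A (AdicRing.chartAlg f i)) := by
    rw [Ideal.map_map, ← IsScalarTower.algebraMap_eq]
  rw [e1]
  refine (Ideal.map_mono hopen).trans ?_
  rw [Ideal.map_span, Ideal.span_le]
  rintro _ ⟨_, ⟨j, rfl⟩, rfl⟩
  by_cases hj : j = i
  · rw [hj]
    exact Ideal.subset_span rfl
  · rw [SetLike.mem_coe, Ideal.mem_span_singleton']
    exact ⟨Ideal.Quotient.mk _ (X ⟨j, hj⟩), by
      rw [mul_comm]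
      exact mk_X_mul f i ⟨j, hj⟩⟩

end chart

section main

theorem powTorsion_iff (R : Type u) [CommRing R] (I : Ideal R) (hR : AdicRing.IsBase R I)
    (A : Type u) [CommRing A] [Algebra R A] (hA : AdicRing.Admissible R I A)
    (r : ℕ) (f : Fin (r + 1) → A) (k : ℕ)
    (hopen : (I ^ k).map (algebraMap R A) ≤ Ideal.span (Set.range f)) (i : Fin (r + 1))
    (x : AdicRing.chartCompl I f i) :
    (∃ n : ℕ, ∀ a ∈ I ^ n, a • x = 0) ↔
      ∃ n : ℕ, algebraMap A (AdicRing.chartCompl I f i) (f i) ^ n * x = 0 := by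
  classical
  have hI := RPowFT.isBase_fg I hR
  have hAtft : AdicRing.TopFiniteType R I A := by
    obtain ⟨⟨n, φ, hφ, -⟩, -⟩ := hA
    exact ⟨n, φ, hφ⟩
  have hAtor : AdicRing.NoPowTorsion I A := hA.2
  have eφ : ∀ a : A, algebraMap A (AdicRing.chartCompl I f i) a =
      algebraMap (AdicRing.chartAlg f i) (AdicRing.chartCompl I f i)
        (algebraMap A (AdicRing.chartAlg f i) a) := fun a => rfl
  constructor
  · rintro ⟨n, hn⟩
    haveI : Module.Flat (AdicRing.chartAlg f i) (AdicRing.chartCompl I f i) :=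
      GabberB.flat_hat R I hR A hAtft (AdicRing.chartAlg f i)
    obtain ⟨S, hS⟩ := hI.pow (n := n)
    -- the linear maps
    obtain ⟨F, hF⟩ : ∃ F : (S → AdicRing.chartAlg f i) →ₗ[AdicRing.chartAlg f i]
        AdicRing.chartAlg f i, ∀ v, F v = ∑ g : S, algebraMap R _ g.1 * v g :=
      ⟨∑ g : S, (algebraMap R (AdicRing.chartAlg f i) g.1) •
        (LinearMap.proj g : (S → AdicRing.chartAlg f i) →ₗ[AdicRing.chartAlg f i] _),
        fun v => by
          rw [LinearMap.sum_apply]
          rfl⟩
    obtain ⟨X₀, hX₀⟩ : ∃ X₀ : AdicRing.chartAlg f i →ₗ[AdicRing.chartAlg f i]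
        AdicRing.chartCompl I f i, ∀ b, X₀ b = b • x :=
      ⟨LinearMap.toSpanSingleton _ _ x, fun b => rfl⟩
    have hgx : ∀ g : S, algebraMap R (AdicRing.chartAlg f i) g.1 • x = 0 := by
      intro g
      rw [algebraMap_smul]
      apply hn
      rw [← hS]
      exact Ideal.subset_span g.2
    have hcomp : X₀ ∘ₗ F = 0 := by
      apply LinearMap.ext
      intro v
      rw [LinearMap.comp_apply, hX₀, hF, Finset.sum_smul, LinearMap.zero_apply]
      apply Finset.sum_eq_zero
      intro g _
      rw [mul_comm, mul_smul, hgx, smul_zero]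
    obtain ⟨l, a, y, hxy, haf⟩ :=
      Module.Flat.exists_factorization_of_comp_eq_zero_of_free hcomp
    -- the coordinates of `a 1` are `I^n`-torsion
    have hc : ∀ j : Fin l, ∀ r' ∈ I ^ n, r' • (a 1 j) = 0 := by
      intro j
      rw [← hS]
      apply CLocTor.smul_eq_zero_of_span
      intro g hg
      have h1 := LinearMap.congr_fun haf (Pi.single (⟨g, hg⟩ : S) 1)
      rw [LinearMap.comp_apply, LinearMap.zero_apply, hF] at h1
      have h2 : ∑ g' : S, algebraMap R (AdicRing.chartAlg f i) g'.1 *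
          (Pi.single (⟨g, hg⟩ : S) (1 : AdicRing.chartAlg f i) : S → AdicRing.chartAlg f i) g' =
          algebraMap R (AdicRing.chartAlg f i) g := by
        rw [Finset.sum_eq_single (⟨g, hg⟩ : S)]
        · rw [Pi.single_eq_same, mul_one]
        · intro b _ hb
          rw [Pi.single_eq_of_ne hb, mul_zero]
        · intro h
          exact absurd (Finset.mem_univ _) h
      rw [h2] at h1
      have h3 : algebraMap R (AdicRing.chartAlg f i) g =
          algebraMap R (AdicRing.chartAlg f i) g • (1 : AdicRing.chartAlg f i) := by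
        rw [smul_eq_mul, mul_one]
      rw [h3, map_smul] at h1
      have h4 := DFunLike.congr_fun h1 j
      rw [Finsupp.smul_apply, Finsupp.zero_apply, smul_eq_mul] at h4
      exact (Algebra.smul_def g ((a 1) j)).trans h4
    have hN : ∀ j : Fin l, ∃ N : ℕ,
        algebraMap A (AdicRing.chartAlg f i) (f i) ^ N * (a 1 j) = 0 :=
      fun j => exists_pow_mul_eq_zero_of_tors f i I hI hAtor (a 1 j) n (hc j)
    choose N hN' using hN
    refine ⟨Finset.univ.sup N, ?_⟩
    have h5 : (algebraMap A (AdicRing.chartAlg f i) (f i) ^ (Finset.univ.sup N)) • a 1 = 0 := by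
      apply Finsupp.ext
      intro j
      rw [Finsupp.smul_apply, Finsupp.zero_apply, smul_eq_mul]
      obtain ⟨d, hd⟩ := Nat.exists_eq_add_of_le
        (Finset.le_sup (Finset.mem_univ j) : N j ≤ Finset.univ.sup N)
      rw [hd, pow_add, mul_comm (_ ^ N j), mul_assoc, hN' j, mul_zero]
    have h6 : x = X₀ 1 := by rw [hX₀, one_smul]
    rw [eφ, ← map_pow, ← Algebra.smul_def, h6, hxy, LinearMap.comp_apply, ← map_smul, h5,
      map_zero]
  · rintro ⟨n, hn⟩
    refine ⟨k * n, ?_⟩
    intro a ha
    have h1 : algebraMap R (AdicRing.chartAlg f i) a ∈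
        Ideal.span {algebraMap A (AdicRing.chartAlg f i) (f i) ^ n} := by
      rw [← Ideal.span_singleton_pow]
      refine Ideal.pow_right_mono (map_le_span f i I k hopen) n ?_
      rw [← Ideal.map_pow, ← pow_mul]
      exact Ideal.mem_map_of_mem _ ha
    obtain ⟨c, hc⟩ := Ideal.mem_span_singleton'.mp h1
    have h2 : (c * algebraMap A (AdicRing.chartAlg f i) (f i) ^ n) • x =
        algebraMap (AdicRing.chartAlg f i) (AdicRing.chartCompl I f i)
          (c * algebraMap A (AdicRing.chartAlg f i) (f i) ^ n) * x := by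
      rw [← algebraMap_smul (AdicRing.chartCompl I f i)
        (c * algebraMap A (AdicRing.chartAlg f i) (f i) ^ n) x, smul_eq_mul]
    rw [← algebraMap_smul (AdicRing.chartAlg f i) a x, ← hc, h2, map_mul, map_pow,
      ← eφ, mul_assoc, hn, mul_zero]

end main

end Groth.Agent.Lib.T2H8.ChartTor
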