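import Mathlib
import Groth.Prelude.Def_HTop2
import Groth.Prelude.Def_W4c1hilbchowincPtFun
import Groth.Agent.S15941
import Groth.Agent.Lib.Helper11SN

/-!
# Pointwise functions and seminormality (helper8)
-/

set_option autoImplicit false
set_option linter.style.haveILetI false

universe u

namespace Groth.Agent.Lib.T2H8.PtFunSN

open AlgebraicGeometry CategoryTheory Limits W4c1hilbchowinc

/-- The pointwise function `y / x` (zero where `x` vanishes). -/
noncomputable def quotFun (X : Scheme.{u}) (x y : Γ(X, ⊤)) : PtFun X := by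
  classical
  exact fun p => if X.Γevaluation p x = 0 then 0 else X.Γevaluation p y / X.Γevaluation p x

theorem quotFun_apply (X : Scheme.{u}) (x y : Γ(X, ⊤)) (p : X) :
    quotFun X x y p =
      @ite _ (X.Γevaluation p x = 0) (Classical.propDecidable _) 0
        (X.Γevaluation p y / X.Γevaluation p x) := by
  unfold quotFun
  rfl

/-- If `s ^ 2 = x` and `s ^ 3 = y` then `s` has pointwise function `y / x`. -/
theorem ofSection_eq_quotFun (X : Scheme.{u}) (x y s : Γ(X, ⊤)) (h2 : s ^ 2 = x) (h3 : s ^ 3 = y) :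
    PtFun.ofSection X s = quotFun X x y := by
  funext p
  rw [quotFun_apply]
  show X.Γevaluation p s = _
  have e2 : X.Γevaluation p s ^ 2 = X.Γevaluation p x := by rw [← map_pow, h2]
  have e3 : X.Γevaluation p s ^ 3 = X.Γevaluation p y := by rw [← map_pow, h3]
  split_ifs with h0
  · rw [h0] at e2
    exact pow_eq_zero_iff (two_ne_zero) |>.mp e2
  · rw [← e2, ← e3]
    have hs : X.Γevaluation p s ≠ 0 := by
      intro hs
      apply h0
      rw [← e2, hs]
      ring
    field_simp

/-- The pullback of `y / x` is `g^* y / g^* x`. -/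
theorem pullback_quotFun {X Y : Scheme.{u}} (g : Y ⟶ X) (x y : Γ(X, ⊤)) :
    PtFun.pullback g (quotFun X x y) = quotFun Y (g.appTop x) (g.appTop y) := by
  funext q
  show g.residueFieldMap q (quotFun X x y (g q)) = _
  rw [quotFun_apply, quotFun_apply, ← Scheme.Γevaluation_naturality_apply,
    ← Scheme.Γevaluation_naturality_apply]
  have hinj : Function.Injective (g.residueFieldMap q) := (g.residueFieldMap q).hom.injective
  by_cases h0 : X.Γevaluation (g q) x = 0
  · rw [if_pos h0, if_pos (by rw [h0, map_zero]), map_zero]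
  · rw [if_neg h0, if_neg (fun h => h0 (hinj (by rw [h, map_zero]))), map_div₀]

/-- A global section of a reduced scheme all of whose values vanish is zero. -/
theorem eq_zero_of_forall_Γevaluation {X : Scheme.{u}} [IsReduced X] (t : Γ(X, ⊤))
    (h : ∀ p : X, X.Γevaluation p t = 0) : t = 0 := by
  apply eq_zero_of_basicOpen_eq_bot
  rw [Scheme.basicOpen_eq_bot_iff_forall_evaluation_eq_zero]
  intro p
  exact h p.1

theorem isSeminormalRing_of_ringEquiv {B W : Type u} [CommRing B] [CommRing W] (e : B ≃+* W)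
    (hW : HTop.IsSeminormalRing W) : HTop.IsSeminormalRing B := by
  intro x y hxy
  have hxy' : e x ^ 3 = e y ^ 2 := by rw [← map_pow, ← map_pow, hxy]
  obtain ⟨a, ⟨ha2, ha3⟩, huniq⟩ := hW (e x) (e y) hxy'
  refine ⟨e.symm a, ⟨?_, ?_⟩, ?_⟩
  · apply e.injective; rw [map_pow, e.apply_symm_apply]; exact ha2
  · apply e.injective; rw [map_pow, e.apply_symm_apply]; exact ha3
  · rintro a' ⟨h2, h3⟩
    have := huniq (e a') ⟨by rw [h2, map_pow], by rw [h3, map_pow]⟩
    rw [← this, e.symm_apply_apply]

/-- On a scheme whose pointwise functions varying algebraically along discrete valuation rings are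
global sections, `x ^ 3 = y ^ 2` has a solution `x = a ^ 2`, `y = a ^ 3` in global sections. -/
theorem exists_sq_cube_of_variesAlongDVR {X : Scheme.{u}} [IsReduced X]
    (h : ∀ f : PtFun X, f.VariesAlongDVR → ∃ a : Γ(X, ⊤), PtFun.ofSection X a = f)
    (x y : Γ(X, ⊤)) (hxy : x ^ 3 = y ^ 2) : ∃ a : Γ(X, ⊤), x = a ^ 2 ∧ y = a ^ 3 := by
  have hf : (quotFun X x y).VariesAlongDVR := by
    intro R _ _ _ g
    rw [pullback_quotFun]
    have hR : HTop.IsSeminormalRing Γ(Spec (CommRingCat.of R), ⊤) :=
      isSeminormalRing_of_ringEquiv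
        (Scheme.ΓSpecIso (CommRingCat.of R)).commRingCatIsoToRingEquiv
        (Groth.Agent.S15941.result R)
    have hxy' : g.appTop x ^ 3 = g.appTop y ^ 2 := by rw [← map_pow, ← map_pow, hxy]
    obtain ⟨s, ⟨hs2, hs3⟩, -⟩ := hR _ _ hxy'
    exact ⟨s, ofSection_eq_quotFun _ _ _ s hs2.symm hs3.symm⟩
  obtain ⟨a, ha⟩ := h _ hf
  have hval : ∀ p : X, X.Γevaluation p a = quotFun X x y p := fun p => congrFun ha p
  have hxy'' : ∀ p : X, X.Γevaluation p x ^ 3 = X.Γevaluation p y ^ 2 := fun p => by
    rw [← map_pow, ← map_pow, hxy]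
  refine ⟨a, ?_, ?_⟩
  · rw [← sub_eq_zero]
    apply eq_zero_of_forall_Γevaluation
    intro p
    rw [map_sub, map_pow, hval p, quotFun_apply]
    split_ifs with h0
    · rw [h0]; ring
    · have e := hxy'' p
      field_simp
      rw [e]; ring
  · rw [← sub_eq_zero]
    apply eq_zero_of_forall_Γevaluation
    intro p
    rw [map_sub, map_pow, hval p, quotFun_apply]
    split_ifs with h0
    · have e := hxy'' p
      rw [h0] at e
      have hy0 : X.Γevaluation p y = 0 := by
        have : X.Γevaluation p y ^ 2 = 0 := by rw [← e]; ring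
        exact pow_eq_zero_iff (two_ne_zero) |>.mp this
      rw [hy0]; ring
    · have e := hxy'' p
      field_simp
      rw [e]; ring

end Groth.Agent.Lib.T2H8.PtFunSN
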