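import Mathlib
import Groth.Prelude.Def_W4c1hilbchowincPtFun
import Groth.Agent.Lib.T2H8PtFunSN
import Groth.Agent.Lib.T2H8DVRLift
import Groth.Agent.Lib.Helper4DVRDom
import Groth.Agent.Lib.Helper4TotalFracFin

/-!
# Pointwise functions on normal Noetherian affine schemes (helper8)

A pointwise function on the spectrum of a reduced Noetherian ring integrally closed in its total
ring of fractions which varies algebraically along discrete valuation rings is a global section.
-/

set_option autoImplicit false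
set_option linter.style.haveILetI false

universe u

namespace Groth.Agent.Lib.T2H8.NormalPtFun

open AlgebraicGeometry CategoryTheory Limits W4c1hilbchowinc

/-- In a Noetherian integrally closed domain, an element of the fraction field outside the ring is
outside some discrete valuation ring of the fraction field containing the ring. -/
theorem exists_dvr_notMem {B K : Type u} [CommRing B] [IsDomain B] [IsNoetherianRing B]
    [IsIntegrallyClosed B] [Field K] [Algebra B K] [IsFractionRing B K] (φ : K)
    (hφ : φ ∉ (algebraMap B K).range) :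
    ∃ V : ValuationSubring K, IsDiscreteValuationRing V ∧ (∀ b : B, algebraMap B K b ∈ V) ∧
      φ ∉ V := by
  have hic : IsIntegrallyClosedIn (algebraMap B K).range K := by
    rw [Subring.isIntegrallyClosedIn_iff]
    intro x hx
    have hx' : IsIntegral B x := by
      letI : Algebra B (algebraMap B K).range := (algebraMap B K).rangeRestrict.toAlgebra
      haveI : IsScalarTower B (algebraMap B K).range K := .of_algebraMap_eq fun _ => rfl
      haveI : Algebra.IsIntegral B (algebraMap B K).range :=
        Algebra.isIntegral_of_surjective (algebraMap B K).rangeRestrict_surjective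
      exact isIntegral_trans x hx
    obtain ⟨y, hy⟩ := (isIntegrallyClosed_iff K).mp ‹IsIntegrallyClosed B› hx'
    exact ⟨y, hy⟩
  obtain ⟨V₀, hV₀, hφV₀⟩ := Subring.exists_le_valuationSubring_of_isIntegrallyClosedIn hφ
  have hφ0 : φ ≠ 0 := by
    rintro rfl
    exact hφ (Subring.zero_mem _)
  haveI : Algebra.EssFiniteType B K := Algebra.EssFiniteType.of_isLocalization K (nonZeroDivisors B)
  obtain ⟨V, hV, hBV, hE, -⟩ := Groth.Agent.Lib.Helper4.DVRDom.exists_dvr_of_valuationSubring V₀
    (B₀ := B) (fun b => hV₀ ⟨b, rfl⟩) {φ⁻¹}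
    (fun e he => by
      rw [Finset.mem_singleton] at he
      subst he
      exact Groth.Agent.Lib.Helper4.DVRDom.inv_mem_nonunits_of_notMem V₀ hφV₀)
    ⟨φ⁻¹, Finset.mem_singleton_self _, inv_ne_zero hφ0⟩
  refine ⟨V, hV, hBV, fun hφV => ?_⟩
  have h1 := Groth.Agent.Lib.Helper4.DVRDom.mul_mem_nonunits V hφV
    (hE φ⁻¹ (Finset.mem_singleton_self _))
  rw [mul_inv_cancel₀ hφ0, ValuationSubring.mem_nonunits_iff, map_one] at h1
  exact lt_irrefl _ h1

/-- The relation "`f x = b / s`" at a point, written without division. -/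
def Rel {X : Scheme.{u}} (f : PtFun X) (x : X) (b s : Γ(X, ⊤)) : Prop :=
  f x * X.Γevaluation x s = X.Γevaluation x b

theorem pullback_rel_sub {X Y : Scheme.{u}} (g : Y ⟶ X) (f : PtFun X) (y : Y) (b s : Γ(X, ⊤)) :
    (f.pullback g) y * Y.Γevaluation y (g.appTop s) - Y.Γevaluation y (g.appTop b) =
      g.residueFieldMap y (f (g y) * X.Γevaluation (g y) s - X.Γevaluation (g y) b) := by
  rw [map_sub, map_mul, Scheme.Γevaluation_naturality_apply, Scheme.Γevaluation_naturality_apply]
  rfl

theorem rel_pullback_iff {X Y : Scheme.{u}} (g : Y ⟶ X) (f : PtFun X) (y : Y) (b s : Γ(X, ⊤)) :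
    Rel (f.pullback g) y (g.appTop b) (g.appTop s) ↔ Rel f (g y) b s := by
  unfold Rel
  rw [← sub_eq_zero, pullback_rel_sub, ← sub_eq_zero (b := X.Γevaluation (g y) b)]
  constructor
  · intro h
    exact (g.residueFieldMap y).hom.injective (by rw [h, map_zero])
  · intro h
    rw [h, map_zero]

/-- The value at a point of `Spec R` of the section attached to `a : R` vanishes exactly when
`a` lies in the prime. -/
theorem Γevaluation_ΓSpecIso_inv_eq_zero_iff (R : CommRingCat.{u}) (x : Spec R) (a : R) :
    (Spec R).Γevaluation x ((Scheme.ΓSpecIso R).inv a) = 0 ↔ a ∈ x.asIdeal := by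
  show (Spec R).evaluation ⊤ x trivial _ = 0 ↔ _
  rw [Scheme.evaluation_eq_zero_iff_notMem_basicOpen, basicOpen_eq_of_affine]
  show ¬ (a ∉ x.asIdeal) ↔ _
  exact not_not

/-- On an affine scheme, every element of a residue field is a quotient of values of global
sections. -/
theorem exists_rel_of_isAffine {X : Scheme.{u}} [IsAffine X] (x : X) (z : X.residueField x) :
    ∃ b s : Γ(X, ⊤), X.Γevaluation x s ≠ 0 ∧ z * X.Γevaluation x s = X.Γevaluation x b := by
  letI := X.presheaf.algebra_section_stalk (U := ⊤) ⟨x, trivial⟩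
  haveI := (isAffineOpen_top X).isLocalization_stalk ⟨x, trivial⟩
  obtain ⟨g, rfl⟩ := X.residue_surjective x z
  obtain ⟨⟨b, s⟩, hbs⟩ := IsLocalization.surj
    ((isAffineOpen_top X).primeIdealOf ⟨x, trivial⟩).asIdeal.primeCompl g
  refine ⟨b, s.1, ?_, ?_⟩
  · have hu : IsUnit (algebraMap Γ(X, ⊤) (X.presheaf.stalk x) s.1) :=
      IsLocalization.map_units _ s
    have hu' : IsUnit ((X.residue x).hom (algebraMap Γ(X, ⊤) (X.presheaf.stalk x) s.1)) :=
      hu.map _
    exact hu'.ne_zero
  · have := congrArg (X.residue x).hom hbs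
    rw [map_mul] at this
    exact this

/-- On the spectrum of a domain, a section vanishing at the generic point is zero. -/
theorem eq_zero_of_Γevaluation_bot (R : Type u) [CommRing R] [IsDomain R]
    (d : Γ(Spec (CommRingCat.of R), ⊤))
    (h : (Spec (CommRingCat.of R)).Γevaluation (⟨⊥, Ideal.isPrime_bot⟩ : PrimeSpectrum R) d = 0) :
    d = 0 := by
  obtain ⟨a, rfl⟩ : ∃ a, (Scheme.ΓSpecIso (CommRingCat.of R)).inv a = d :=
    ⟨(Scheme.ΓSpecIso _).hom d, by simp⟩
  rw [Γevaluation_ΓSpecIso_inv_eq_zero_iff] at h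
  have : a = 0 := h
  rw [this, map_zero]

/-- **Rigidity.** If `f` varies algebraically along discrete valuation rings on a locally
Noetherian scheme and `f = b / s` at a point, then `f = b / s` at each of its specializations. -/
theorem rel_of_specializes {X : Scheme.{u}} [IsLocallyNoetherian X] (f : PtFun X)
    (hf : f.VariesAlongDVR) (b s : Γ(X, ⊤)) {z' z : X} (h : z' ⤳ z) (hz' : Rel f z' b s) :
    Rel f z b s := by
  obtain ⟨R, _, _, _, r, hr', hr⟩ := Groth.Agent.Lib.T2H8.DVRLift.exists_dvr_of_specializes h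
  obtain ⟨t, ht⟩ := hf R r
  have h1 : Rel (f.pullback r) (⟨⊥, Ideal.isPrime_bot⟩ : PrimeSpectrum R) (r.appTop b)
      (r.appTop s) := by
    rw [rel_pullback_iff, hr']
    exact hz'
  have hd : t * r.appTop s - r.appTop b = 0 := by
    apply eq_zero_of_Γevaluation_bot R
    rw [map_sub, map_mul, sub_eq_zero]
    have : (Spec (CommRingCat.of R)).Γevaluation (⟨⊥, Ideal.isPrime_bot⟩ : PrimeSpectrum R) t =
        (f.pullback r) (⟨⊥, Ideal.isPrime_bot⟩ : PrimeSpectrum R) := congrFun ht _
    rw [this]
    exact h1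
  have h2 : Rel (f.pullback r) (IsLocalRing.closedPoint R) (r.appTop b) (r.appTop s) := by
    unfold Rel
    rw [← congrFun ht (IsLocalRing.closedPoint R)]
    show (Spec (CommRingCat.of R)).Γevaluation _ t * _ = _
    rw [← map_mul, ← sub_eq_zero, ← map_sub, hd, map_zero]
  rw [rel_pullback_iff, hr] at h2
  exact h2

theorem appTop_SpecMap_ΓSpecIso_inv {R S : CommRingCat.{u}} (ψ : R ⟶ S) (a : R) :
    (Spec.map ψ).appTop ((Scheme.ΓSpecIso R).inv a) = (Scheme.ΓSpecIso S).inv (ψ a) := by
  have := Scheme.ΓSpecIso_inv_naturality ψ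
  exact (congrArg (fun k => k.hom a) this).symm

/-- **Local core.** At a prime `y` whose local ring is an integrally closed domain, the value of
`f` at the generic point of the local ring is a fraction with denominator outside `y`. -/
theorem exists_rel_of_normal_localization (A : Type u) [CommRing A] [IsNoetherianRing A]
    (f : PtFun (Spec (CommRingCat.of A))) (hf : f.VariesAlongDVR) (y : PrimeSpectrum A)
    [IsDomain (Localization.AtPrime y.asIdeal)]
    [IsIntegrallyClosed (Localization.AtPrime y.asIdeal)] :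
    ∃ b s : A, s ∉ y.asIdeal ∧ ∀ η : PrimeSpectrum A,
      η.asIdeal = RingHom.ker (algebraMap A (Localization.AtPrime y.asIdeal)) →
      Rel f η ((Scheme.ΓSpecIso (CommRingCat.of A)).inv b)
        ((Scheme.ΓSpecIso (CommRingCat.of A)).inv s) := by
  set B := Localization.AtPrime y.asIdeal with hB
  set K := FractionRing B with hK
  let ι : A →+* K := (algebraMap B K).comp (algebraMap A B)
  have hker : RingHom.ker ι = RingHom.ker (algebraMap A B) := by
    ext a
    rw [RingHom.mem_ker, RingHom.mem_ker]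
    show algebraMap B K (algebraMap A B a) = 0 ↔ _
    rw [map_eq_zero_iff _ (IsFractionRing.injective B K)]
  let η₀ : PrimeSpectrum A := ⟨RingHom.ker ι, RingHom.ker_isPrime ι⟩
  let γ := (Scheme.ΓSpecIso (CommRingCat.of A)).inv
  have hγsurj : ∀ c : Γ(Spec (CommRingCat.of A), ⊤), ∃ a : A, γ a = c := fun c =>
    ⟨(Scheme.ΓSpecIso _).hom c, by simp [γ]⟩
  obtain ⟨b₀', s₀', hs₀, hrel₀⟩ := exists_rel_of_isAffine (X := Spec (CommRingCat.of A)) η₀ (f η₀)
  obtain ⟨b₀, rfl⟩ := hγsurj b₀'
  obtain ⟨s₀, rfl⟩ := hγsurj s₀'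
  have hιs₀ : ι s₀ ≠ 0 := by
    intro h0
    apply hs₀
    rw [Γevaluation_ΓSpecIso_inv_eq_zero_iff]
    exact h0
  -- the value as an element of `K`
  obtain ⟨β, hβ⟩ : ι b₀ / ι s₀ ∈ (algebraMap B K).range := by
    by_contra hφ
    obtain ⟨V, hVd, hBV, hφV⟩ := exists_dvr_notMem (ι b₀ / ι s₀) hφ
    apply hφV
    let ψ : A →+* V := ι.codRestrict V.toSubring (fun a => hBV (algebraMap A B a))
    let r : Spec (CommRingCat.of V) ⟶ Spec (CommRingCat.of A) := Spec.map (CommRingCat.ofHom ψ)
    obtain ⟨t, ht⟩ := hf V r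
    obtain ⟨t', rfl⟩ : ∃ a : V, (Scheme.ΓSpecIso (CommRingCat.of V)).inv a = t :=
      ⟨(Scheme.ΓSpecIso _).hom t, by simp⟩
    have hr : r (⟨⊥, Ideal.isPrime_bot⟩ : PrimeSpectrum V) = η₀ := by
      apply PrimeSpectrum.ext
      show Ideal.comap ψ ⊥ = RingHom.ker ι
      ext a
      rw [Ideal.mem_comap, Ideal.mem_bot, RingHom.mem_ker]
      exact Subtype.ext_iff
    have h1 : Rel (f.pullback r) (⟨⊥, Ideal.isPrime_bot⟩ : PrimeSpectrum V) (r.appTop (γ b₀))
        (r.appTop (γ s₀)) := by
      rw [rel_pullback_iff, hr]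
      exact hrel₀
    have h2 : t' * ψ s₀ - ψ b₀ = 0 := by
      have h3 : (Spec (CommRingCat.of V)).Γevaluation (⟨⊥, Ideal.isPrime_bot⟩ : PrimeSpectrum V)
          ((Scheme.ΓSpecIso (CommRingCat.of V)).inv (t' * ψ s₀ - ψ b₀)) = 0 := by
        rw [map_sub, map_mul, map_sub, map_mul, sub_eq_zero]
        have e1 : (Spec (CommRingCat.of V)).Γevaluation (⟨⊥, Ideal.isPrime_bot⟩ : PrimeSpectrum V)
            ((Scheme.ΓSpecIso (CommRingCat.of V)).inv t') =
            (f.pullback r) (⟨⊥, Ideal.isPrime_bot⟩ : PrimeSpectrum V) := congrFun ht _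
        rw [e1]
        have e2 : ∀ a : A, r.appTop (γ a) = (Scheme.ΓSpecIso (CommRingCat.of V)).inv (ψ a) :=
          fun a => appTop_SpecMap_ΓSpecIso_inv (CommRingCat.ofHom ψ) a
        rw [← e2, ← e2]
        exact h1
      rw [Γevaluation_ΓSpecIso_inv_eq_zero_iff] at h3
      exact h3
    have h4 : (t' : K) * ι s₀ = ι b₀ := by
      have := congrArg (Subtype.val : V → K) (sub_eq_zero.mp h2)
      exact this
    have h5 : ι b₀ / ι s₀ = (t' : K) := by
      rw [← h4]
      exact mul_div_cancel_right₀ _ hιs₀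
    rw [h5]
    exact t'.2
  obtain ⟨⟨b, s⟩, hbs⟩ := IsLocalization.surj y.asIdeal.primeCompl β
  refine ⟨b, s.1, s.2, fun η hη => ?_⟩
  obtain rfl : η = η₀ := PrimeSpectrum.ext (by rw [hη, ← hker])
  have h6 : ι (b₀ * s.1 - s₀ * b) = 0 := by
    have e1 : ι b₀ = algebraMap B K β * ι s₀ := by
      rw [hβ]
      exact (div_mul_cancel₀ _ hιs₀).symm
    have e2 : ι b = algebraMap B K β * ι s.1 := by
      show algebraMap B K (algebraMap A B b) = algebraMap B K β * algebraMap B K (algebraMap A B s.1)
      rw [← map_mul, hbs]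
    rw [map_sub, map_mul, map_mul, e1, e2]
    ring
  have h7 : (Spec (CommRingCat.of A)).Γevaluation η₀ (γ (b₀ * s.1 - s₀ * b)) = 0 := by
    rw [Γevaluation_ΓSpecIso_inv_eq_zero_iff]
    exact h6
  rw [map_sub, map_mul, map_mul, map_sub, map_mul, map_mul, sub_eq_zero] at h7
  unfold Rel
  apply mul_left_cancel₀ hs₀
  rw [← h7, ← hrel₀]
  ring

/-- In a Noetherian ring, the kernel of the localization at a prime is killed by a single element
outside the prime. -/
theorem exists_notMem_forall_mul_eq_zero (A : Type u) [CommRing A] [IsNoetherianRing A]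
    (p : Ideal A) [hp : p.IsPrime] :
    ∃ v : A, v ∉ p ∧ ∀ a ∈ RingHom.ker (algebraMap A (Localization.AtPrime p)), v * a = 0 := by
  classical
  obtain ⟨S, hS⟩ := (isNoetherianRing_iff_ideal_fg A).mp ‹_›
    (RingHom.ker (algebraMap A (Localization.AtPrime p)))
  have key : ∀ T : Finset A,
      (∀ a ∈ T, a ∈ RingHom.ker (algebraMap A (Localization.AtPrime p))) →
      ∃ v : A, v ∉ p ∧ ∀ a ∈ T, v * a = 0 := by
    intro T
    induction T using Finset.induction_on with
    | empty =>
      intro _
      exact ⟨1, fun h => hp.ne_top ((Ideal.eq_top_iff_one _).mpr h), by simp⟩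
    | insert a T ha ih =>
      intro hT
      obtain ⟨v, hv, hvT⟩ := ih (fun a' ha' => hT a' (Finset.mem_insert_of_mem ha'))
      have ha' := hT a (Finset.mem_insert_self _ _)
      rw [RingHom.mem_ker, IsLocalization.map_eq_zero_iff p.primeCompl] at ha'
      obtain ⟨m, hm⟩ := ha'
      refine ⟨m.1 * v, fun h => ?_, fun a' ha'' => ?_⟩
      · rcases hp.mem_or_mem h with h | h
        exacts [m.2 h, hv h]
      · rcases Finset.mem_insert.mp ha'' with rfl | h
        · rw [mul_right_comm, hm, zero_mul]
        · rw [mul_assoc, hvT _ h, mul_zero]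
  obtain ⟨v, hv, hvS⟩ := key S (fun a ha => hS ▸ Ideal.subset_span ha)
  refine ⟨v, hv, fun a ha => ?_⟩
  rw [← hS] at ha
  induction ha using Submodule.span_induction with
  | mem x hx => exact hvS x hx
  | zero => exact mul_zero _
  | add x y _ _ hx hy => rw [mul_add, hx, hy, add_zero]
  | smul c x _ hx => rw [smul_eq_mul, mul_left_comm, hx, mul_zero]

/-- **Main theorem.** On the spectrum of a Noetherian ring all of whose local rings are
integrally closed domains, a pointwise function varying algebraically along discrete valuation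
rings is the pointwise function of a global section. -/
theorem exists_ofSection_eq (A : Type u) [CommRing A] [IsNoetherianRing A]
    (hA : ∀ (p : Ideal A) [p.IsPrime],
      IsDomain (Localization.AtPrime p) ∧ IsIntegrallyClosed (Localization.AtPrime p))
    (f : PtFun (Spec (CommRingCat.of A))) (hf : f.VariesAlongDVR) :
    ∃ a : Γ(Spec (CommRingCat.of A), ⊤), PtFun.ofSection (Spec (CommRingCat.of A)) a = f := by
  let X := Spec (CommRingCat.of A)
  let γ := (Scheme.ΓSpecIso (CommRingCat.of A)).inv
  -- the ideal of denominators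
  let I : Ideal A :=
    { carrier := {u | ∃ c : A, ∀ x : X, f x * X.Γevaluation x (γ u) = X.Γevaluation x (γ c)}
      zero_mem' := ⟨0, fun x => by rw [map_zero, map_zero, mul_zero]⟩
      add_mem' := by
        rintro u u' ⟨c, hc⟩ ⟨c', hc'⟩
        refine ⟨c + c', fun x => ?_⟩
        rw [map_add, map_add, map_add, map_add, mul_add, hc x, hc' x]
      smul_mem' := by
        rintro w u ⟨c, hc⟩
        refine ⟨w * c, fun x => ?_⟩
        rw [smul_eq_mul, map_mul, map_mul, map_mul, map_mul, mul_left_comm, hc x] }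
  have hI : I = ⊤ := by
    by_contra hne
    obtain ⟨m, hm, hIm⟩ := Ideal.exists_le_maximal I hne
    haveI : m.IsPrime := hm.isPrime
    let y : PrimeSpectrum A := ⟨m, hm.isPrime⟩
    obtain ⟨hdom, hic⟩ := hA m
    haveI : IsDomain (Localization.AtPrime y.asIdeal) := hdom
    haveI : IsIntegrallyClosed (Localization.AtPrime y.asIdeal) := hic
    obtain ⟨b, s, hs, hrel⟩ := exists_rel_of_normal_localization A f hf y
    obtain ⟨v, hv, hvker⟩ := exists_notMem_forall_mul_eq_zero A m
    have hker : (RingHom.ker (algebraMap A (Localization.AtPrime y.asIdeal))).IsPrime :=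
      RingHom.ker_isPrime _
    let η : PrimeSpectrum A := ⟨RingHom.ker (algebraMap A (Localization.AtPrime y.asIdeal)), hker⟩
    have hη : Rel f η (γ b) (γ s) := hrel η rfl
    have hvs : v * s ∈ I := by
      refine ⟨v * b, fun x => ?_⟩
      by_cases hx : η.asIdeal ≤ x.asIdeal
      · have hsp : η ⤳ x := (PrimeSpectrum.le_iff_specializes η x).mp hx
        have h1 : Rel f x (γ b) (γ s) := rel_of_specializes f hf (γ b) (γ s) hsp hη
        unfold Rel at h1
        rw [map_mul, map_mul, map_mul, map_mul, mul_left_comm, h1]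
      · obtain ⟨a, haη, hax⟩ := SetLike.not_le_iff_exists.mp hx
        have h2 : v ∈ x.asIdeal := by
          have : v * a ∈ x.asIdeal := by
            rw [hvker a haη]
            exact x.asIdeal.zero_mem
          exact (x.2.mem_or_mem this).resolve_right hax
        have h3 : X.Γevaluation x (γ v) = 0 :=
          (Γevaluation_ΓSpecIso_inv_eq_zero_iff (CommRingCat.of A) x v).mpr h2
        rw [map_mul, map_mul, map_mul, map_mul, h3, zero_mul, zero_mul, mul_zero]
    have : v * s ∈ m := hIm hvs
    rcases hm.isPrime.mem_or_mem this with h | h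
    exacts [hv h, hs h]
  obtain ⟨c, hc⟩ : (1 : A) ∈ I := hI ▸ Submodule.mem_top
  refine ⟨γ c, ?_⟩
  funext x
  have := hc x
  rw [map_one, map_one, mul_one] at this
  exact this.symm

end Groth.Agent.Lib.T2H8.NormalPtFun
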