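import Mathlib
import Groth.Prelude.Def_HTop2
import Groth.Agent.S0415
import Groth.Agent.Lib.Helper20Perfection

/-!
# Factoring morphisms from a universal homeomorphism through finite universal homeomorphisms
(helper8)

Let `ν : T' ⟶ T` be a universal homeomorphism and `X ⟶ S` separated and locally of finite type.
Every `S`-morphism `T' ⟶ X` factors through the scheme-theoretic image of its graph in `T ×_S X`,
which is a finite universal homeomorphism over `T`; and two factorizations are equalized on a finite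
universal homeomorphism.
-/

set_option autoImplicit false
set_option linter.style.haveILetI false

universe u

namespace Groth.Agent.Lib.T2H8.UHFactor

open AlgebraicGeometry CategoryTheory Limits

theorem isUnivHomeo_iff {X Y : Scheme.{u}} (f : X ⟶ Y) :
    FlatMor.IsUnivHomeo f ↔ IsIntegralHom f ∧ UniversallyInjective f ∧ Surjective f :=
  Groth.Agent.S0415.result f

/-- If `h ≫ π` is a universal homeomorphism, `h` is surjective and `π` is separated and locally of
finite type, then `π` is a finite universal homeomorphism. -/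
theorem isFinite_and_isUnivHomeo_of_comp {A B C : Scheme.{u}} (h : A ⟶ B) (π : B ⟶ C)
    (hν : FlatMor.IsUnivHomeo (h ≫ π)) [Surjective h] [IsSeparated π] [LocallyOfFiniteType π] :
    IsFinite π ∧ FlatMor.IsUnivHomeo π := by
  obtain ⟨h1, h2, h3⟩ := (isUnivHomeo_iff _).mp hν
  haveI : UniversallyClosed (h ≫ π) := inferInstance
  haveI : Surjective π := Surjective.of_comp h π
  haveI : UniversallyInjective π :=
    Groth.Agent.Lib.Helper20.Perfection.universallyInjective_of_comp_surjective h π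
  haveI : UniversallyClosed π := UniversallyClosed.of_comp_surjective h π
  haveI : IsProper π := {}
  haveI : LocallyQuasiFinite π := LocallyQuasiFinite.of_injective π.injective
  haveI : IsFinite π := IsFinite.of_isProper_of_locallyQuasiFinite π
  exact ⟨inferInstance, (isUnivHomeo_iff _).mpr ⟨inferInstance, inferInstance, inferInstance⟩⟩

/-- Factorization through the scheme-theoretic image of the graph. -/
theorem exists_factor {S X T T' : Scheme.{u}} (fX : X ⟶ S) [IsSeparated fX]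
    [LocallyOfFiniteType fX] (fT : T ⟶ S) (ν : T' ⟶ T) (hν : FlatMor.IsUnivHomeo ν)
    (g : T' ⟶ X) (hg : g ≫ fX = ν ≫ fT) :
    ∃ (T₁ : Scheme.{u}) (π : T₁ ⟶ T) (_ : IsFinite π) (_ : FlatMor.IsUnivHomeo π) (g₁ : T₁ ⟶ X)
      (h : T' ⟶ T₁), Surjective h ∧ h ≫ π = ν ∧ g₁ ≫ fX = π ≫ fT ∧ h ≫ g₁ = g := by
  obtain ⟨h1, h2, h3⟩ := (isUnivHomeo_iff _).mp hν
  let Γ : T' ⟶ pullback fT fX := pullback.lift ν g hg.symm
  have hΓ1 : Γ ≫ pullback.fst fT fX = ν := pullback.lift_fst _ _ _
  have hΓ2 : Γ ≫ pullback.snd fT fX = g := pullback.lift_snd _ _ _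
  haveI : IsIntegralHom (Γ ≫ pullback.fst fT fX) := by rw [hΓ1]; exact h1
  haveI : IsIntegralHom Γ :=
    MorphismProperty.of_postcomp (W := @IsIntegralHom) (W' := @IsSeparated) Γ
      (pullback.fst fT fX) inferInstance inferInstance
  haveI : IsIntegralHom (Γ.toImage ≫ Γ.imageι) := by rw [Γ.toImage_imageι]; infer_instance
  haveI : IsIntegralHom Γ.toImage :=
    MorphismProperty.of_postcomp (W := @IsIntegralHom) (W' := @IsSeparated) Γ.toImage
      Γ.imageι inferInstance inferInstance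
  haveI : Surjective Γ.toImage :=
    surjective_of_isDominant_of_isClosed_range _ Γ.toImage.isClosedMap.isClosed_range
  have hcomp : Γ.toImage ≫ (Γ.imageι ≫ pullback.fst fT fX) = ν := by
    rw [← Category.assoc, Γ.toImage_imageι, hΓ1]
  obtain ⟨hfin, hUH⟩ := isFinite_and_isUnivHomeo_of_comp Γ.toImage
    (Γ.imageι ≫ pullback.fst fT fX) (by rw [hcomp]; exact hν)
  refine ⟨Γ.image, Γ.imageι ≫ pullback.fst fT fX, hfin, hUH, Γ.imageι ≫ pullback.snd fT fX,
    Γ.toImage, inferInstance, hcomp, ?_, ?_⟩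
  · rw [Category.assoc, Category.assoc, pullback.condition]
  · rw [← Category.assoc, Γ.toImage_imageι, hΓ2]

/-- Two factorizations are equalized on a finite universal homeomorphism. -/
theorem exists_equalize {X T T' T₁ T₂ : Scheme.{u}} [X.IsSeparated] (ν : T' ⟶ T)
    (hν : FlatMor.IsUnivHomeo ν) (π₁ : T₁ ⟶ T) (π₂ : T₂ ⟶ T) [IsFinite π₁] [IsFinite π₂]
    (hπ₁ : FlatMor.IsUnivHomeo π₁) (hπ₂ : FlatMor.IsUnivHomeo π₂) (g₁ : T₁ ⟶ X) (g₂ : T₂ ⟶ X)
    (h₁ : T' ⟶ T₁) (h₂ : T' ⟶ T₂) (e₁ : h₁ ≫ π₁ = ν) (e₂ : h₂ ≫ π₂ = ν)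
    (e : h₁ ≫ g₁ = h₂ ≫ g₂) :
    ∃ (T₃ : Scheme.{u}) (π₃ : T₃ ⟶ T) (_ : IsFinite π₃) (_ : FlatMor.IsUnivHomeo π₃)
      (a₁ : T₃ ⟶ T₁) (a₂ : T₃ ⟶ T₂) (l : T' ⟶ T₃), Surjective l ∧ l ≫ π₃ = ν ∧
        a₁ ≫ π₁ = π₃ ∧ a₂ ≫ π₂ = π₃ ∧ a₁ ≫ g₁ = a₂ ≫ g₂ := by
  obtain ⟨i1, j1, s1⟩ := (isUnivHomeo_iff _).mp hπ₁
  obtain ⟨i2, j2, s2⟩ := (isUnivHomeo_iff _).mp hπ₂
  obtain ⟨i0, j0, s0⟩ := (isUnivHomeo_iff _).mp hν
  let P := pullback π₁ π₂
  let πP : P ⟶ T := pullback.fst π₁ π₂ ≫ π₁
  haveI : UniversallyInjective (pullback.fst π₁ π₂) :=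
    MorphismProperty.pullback_fst (P := @UniversallyInjective) _ _ j2
  haveI : UniversallyInjective πP :=
    MorphismProperty.comp_mem (W := @UniversallyInjective) _ _ inferInstance j1
  let k : T' ⟶ P := pullback.lift h₁ h₂ (e₁.trans e₂.symm)
  have hk : k ≫ πP = ν := by rw [← Category.assoc, pullback.lift_fst, e₁]
  haveI : Surjective k := by
    refine ⟨fun y => ?_⟩
    obtain ⟨t', ht'⟩ := ν.surjective (πP y)
    refine ⟨t', πP.injective ?_⟩
    rw [← Scheme.Hom.comp_apply, hk, ht']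
  let a : P ⟶ X := pullback.fst π₁ π₂ ≫ g₁
  let b : P ⟶ X := pullback.snd π₁ π₂ ≫ g₂
  have hkab : k ≫ a = k ≫ b := by
    rw [← Category.assoc, ← Category.assoc, pullback.lift_fst, pullback.lift_snd, e]
  let l : T' ⟶ equalizer a b := equalizer.lift k hkab
  have hl : l ≫ equalizer.ι a b = k := equalizer.lift_ι _ _
  haveI : Surjective (equalizer.ι a b) := by
    haveI : Surjective (l ≫ equalizer.ι a b) := by rw [hl]; infer_instance
    exact Surjective.of_comp l _
  haveI : Surjective l := by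
    refine ⟨fun y => ?_⟩
    obtain ⟨t', ht'⟩ := k.surjective ((equalizer.ι a b) y)
    refine ⟨t', (equalizer.ι a b).injective ?_⟩
    rw [← Scheme.Hom.comp_apply, hl, ht']
  have hlν : l ≫ (equalizer.ι a b ≫ πP) = ν := by rw [← Category.assoc, hl, hk]
  haveI : IsFinite πP := inferInstance
  haveI : IsFinite (equalizer.ι a b ≫ πP) := inferInstance
  obtain ⟨hfin, hUH⟩ := isFinite_and_isUnivHomeo_of_comp l (equalizer.ι a b ≫ πP)
    (by rw [hlν]; exact hν)
  refine ⟨equalizer a b, equalizer.ι a b ≫ πP, hfin, hUH, equalizer.ι a b ≫ pullback.fst π₁ π₂,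
    equalizer.ι a b ≫ pullback.snd π₁ π₂, l, inferInstance, hlν, ?_, ?_, ?_⟩
  · rw [Category.assoc]
  · rw [Category.assoc, ← pullback.condition]
  · rw [Category.assoc, Category.assoc]
    exact equalizer.condition a b

/-- Cancellation for isomorphisms on residue fields along a surjective morphism. -/
theorem residueFieldsIso_of_comp {A B C : Scheme.{u}} (h : A ⟶ B) (π : B ⟶ C) [Surjective h]
    (H : HTop.ResidueFieldsIso (h ≫ π)) : HTop.ResidueFieldsIso π := by
  intro y
  obtain ⟨x, rfl⟩ := h.surjective y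
  have hiso : IsIso (π.residueFieldMap (h x) ≫ h.residueFieldMap x) := by
    rw [← Scheme.residueFieldMap_comp]
    exact H x
  have hbij : Function.Bijective (π.residueFieldMap (h x) ≫ h.residueFieldMap x).hom :=
    (ConcreteCategory.isIso_iff_bijective _).mp hiso
  rw [ConcreteCategory.isIso_iff_bijective]
  refine ⟨(π.residueFieldMap (h x)).hom.injective, fun z => ?_⟩
  obtain ⟨w, hw⟩ := hbij.2 ((h.residueFieldMap x).hom z)
  refine ⟨w, (h.residueFieldMap x).hom.injective ?_⟩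
  exact hw

end Groth.Agent.Lib.T2H8.UHFactor
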