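import Mathlib
import Groth.Prelude.Def_HTop2
import Groth.Agent.S7420
import Groth.Agent.S7421
import Groth.Agent.S15941
import Groth.Prelude.Def_Pi1
import Groth.Agent.Lib.Helper20AWNRing
import Groth.Agent.Lib.Helper20UHStep
import Groth.Agent.Lib.Helper20EtaPtSN
import Groth.Agent.Lib.Helper11SN
import Groth.Agent.Lib.Helper10RedInd
import Groth.Agent.Lib.Helper14FtPts
import Groth.Agent.Lib.T2H8AWNSch
import Groth.Agent.Lib.T2H8UHFactor
import Groth.Agent.Lib.Helper20ResFld

/-!
# Seminormal schemes and seminormalizations (helper8)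
-/

set_option autoImplicit false
set_option linter.style.haveILetI false

universe u

namespace Groth.Agent.Lib.T2H8.SNSch

open AlgebraicGeometry CategoryTheory Limits TopologicalSpace
open Groth.Agent.Lib.Helper20.AWN Groth.Agent.Lib.T2H8.AWNSch

section Ring

/-- Surjectivity of the residue field map of a composite passes to the second map. -/
theorem residue_surjective_of_comp {A B C : Type u} [CommRing A] [CommRing B] [CommRing C]
    (f : A →+* B) (g : B →+* C) (Q : PrimeSpectrum C)
    (h : Function.Surjective (Ideal.ResidueField.map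
      (PrimeSpectrum.comap (g.comp f) Q).asIdeal Q.asIdeal (g.comp f) rfl)) :
    Function.Surjective (Ideal.ResidueField.map
      (PrimeSpectrum.comap g Q).asIdeal Q.asIdeal g rfl) := by
  intro z
  obtain ⟨z', rfl⟩ := h z
  let P : Ideal A := (PrimeSpectrum.comap (g.comp f) Q).asIdeal
  obtain ⟨x, y, hy, rfl⟩ := IsFractionRing.div_surjective (A := A ⧸ P) z'
  obtain ⟨a, rfl⟩ := Ideal.Quotient.mk_surjective x
  obtain ⟨s, rfl⟩ := Ideal.Quotient.mk_surjective y
  refine ⟨algebraMap B _ (f a) / algebraMap B _ (f s), ?_⟩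
  rw [map_div₀, map_div₀]
  have e : ∀ t : A, algebraMap (A ⧸ P) P.ResidueField (Ideal.Quotient.mk P t) =
      algebraMap A P.ResidueField t := fun t => rfl
  rw [e, e, Ideal.ResidueField.map_algebraMap, Ideal.ResidueField.map_algebraMap,
    Ideal.ResidueField.map_algebraMap, Ideal.ResidueField.map_algebraMap]
  rfl

variable {B W : Type u} [CommRing B] [CommRing W]

/-- A ring map out of a seminormal ring into a reduced ring whose `Spec` is a universal
homeomorphism with trivial residue field extensions is bijective. -/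
theorem bijective_of_UH_of_isSeminormalRing (χ : B →+* W) (hχ : UH χ)
    (hres : ∀ Q : PrimeSpectrum W, Function.Surjective (Ideal.ResidueField.map
      (PrimeSpectrum.comap χ Q).asIdeal Q.asIdeal χ rfl))
    (hB : HTop.IsSeminormalRing B) [IsReduced W] : Function.Bijective χ := by
  haveI : IsReduced B := Groth.Agent.Lib.Helper11.isReduced_of_isSeminormalRing hB
  have hinj : Function.Injective χ := by
    rw [injective_iff_map_eq_zero]
    intro b hb
    have h1 : b ∈ nilradical B := by
      rw [nilradical_eq_sInf, Ideal.mem_sInf]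
      intro P hP
      obtain ⟨Q, hQ⟩ := hχ.2.1 ⟨P, hP⟩
      have h1 : b ∈ (PrimeSpectrum.comap χ Q).asIdeal := by
        show χ b ∈ Q.asIdeal
        rw [hb]
        exact zero_mem _
      rw [hQ] at h1
      exact h1
    rw [nilradical_eq_zero] at h1
    exact h1
  refine ⟨hinj, ?_⟩
  letI := χ.toAlgebra
  have hmem : ∀ w : W, w ∈ (⊥ : Subalgebra B W) ↔ w ∈ χ.range := by
    intro w
    rw [Algebra.mem_bot]
    rfl
  have hι_int : (algebraMap (⊥ : Subalgebra B W) W).IsIntegral := by
    intro w
    exact (show IsIntegral B w from hχ.1 w).tower_top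
  have hUH' : UH (algebraMap (⊥ : Subalgebra B W) W) :=
    UH_of_comp_right (algebraMap B (⊥ : Subalgebra B W)) (algebraMap (⊥ : Subalgebra B W) W)
      Subtype.val_injective hι_int hχ
  have htop : (⊥ : Subalgebra B W) = ⊤ := by
    apply eq_top_of_closed_of_residue _ hUH'
    · intro Q
      exact residue_surjective_of_comp (algebraMap B (⊥ : Subalgebra B W))
        (algebraMap (⊥ : Subalgebra B W) W) Q (hres Q)
    · intro w h2 h3
      obtain ⟨x, hx⟩ := (hmem _).mp h2
      obtain ⟨y, hy⟩ := (hmem _).mp h3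
      have hxy : x ^ 3 = y ^ 2 := by
        apply hinj
        rw [map_pow, map_pow, hx, hy]
        ring
      obtain ⟨a, ⟨ha2, ha3⟩, -⟩ := hB x y hxy
      have : χ a = w := by
        apply eq_of_sq_cube_of_isReduced
        · rw [← map_pow, ← ha2, hx]
        · rw [← map_pow, ← ha3, hy]
      exact (hmem w).mpr ⟨a, this⟩
  intro w
  have hw : w ∈ (⊥ : Subalgebra B W) := htop ▸ Algebra.mem_top
  exact (hmem w).mp hw

end Ring

section Scheme

theorem residueFieldsIso_comp {X Y Z : Scheme.{u}} (a : X ⟶ Y) (j : Y ⟶ Z)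
    (ha : HTop.ResidueFieldsIso a) (hj : HTop.ResidueFieldsIso j) :
    HTop.ResidueFieldsIso (a ≫ j) := fun x => by
  rw [Scheme.residueFieldMap_comp]
  exact IsIso.comp_isIso' (hj _) (ha x)

theorem residueFieldsIso_of_comp_right {X Y Z : Scheme.{u}} (a : X ⟶ Y) (j : Y ⟶ Z)
    (hj : HTop.ResidueFieldsIso j) (h : HTop.ResidueFieldsIso (a ≫ j)) :
    HTop.ResidueFieldsIso a := fun x => by
  have h1 := h x
  rw [Scheme.residueFieldMap_comp] at h1
  exact @IsIso.of_isIso_comp_left _ _ _ _ _ _ _ (hj _) h1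

theorem residueFieldsIso_of_isOpenImmersion {X Y : Scheme.{u}} (j : X ⟶ Y) [IsOpenImmersion j] :
    HTop.ResidueFieldsIso j := fun _ => inferInstance

/-- In a commutative square whose horizontal maps induce isomorphisms on residue fields, if the
right vertical map does, so does the left one. -/
theorem residueFieldsIso_of_square {A B C D : Scheme.{u}} (f' : A ⟶ B) (i₁ : A ⟶ C) (i₂ : B ⟶ D)
    (f : C ⟶ D) (h : f' ≫ i₂ = i₁ ≫ f) (h₁ : HTop.ResidueFieldsIso i₁)
    (h₂ : HTop.ResidueFieldsIso i₂) (hf : HTop.ResidueFieldsIso f) : HTop.ResidueFieldsIso f' :=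
  residueFieldsIso_of_comp_right f' i₂ h₂ (h ▸ residueFieldsIso_comp i₁ f h₁ hf)

theorem residueFieldsIso_app {X Y : Scheme.{u}} (π : Y ⟶ X) [IsAffineHom π]
    (hπ : HTop.ResidueFieldsIso π) (U : X.AffineZariskiSite) :
    HTop.ResidueFieldsIso (Spec.map (π.app U.toOpens)) :=
  residueFieldsIso_of_square _ _ _ _ (isPullback_SpecMap_app π U).w
    (residueFieldsIso_of_isOpenImmersion _) (residueFieldsIso_of_isOpenImmersion _) hπ

/-- A universal homeomorphism with trivial residue field extensions from a reduced scheme to a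
seminormal scheme is an isomorphism. -/
theorem isIso_of_isSeminormal_of_isReduced {X Y : Scheme.{u}} (π : Y ⟶ X)
    (hπ : FlatMor.IsUnivHomeo π) (hres : HTop.ResidueFieldsIso π)
    (hX : HTop.IsSeminormal X) [IsReduced Y] : IsIso π := by
  haveI := isIntegralHom_of_isUnivHomeo π hπ
  rw [← MorphismProperty.isomorphisms.iff,
    IsZariskiLocalAtTarget.iff_of_iSup_eq_top (P := MorphismProperty.isomorphisms Scheme.{u}) _
      (iSup_affineOpens_eq_top X)]
  intro U
  rw [MorphismProperty.isomorphisms.iff, isIso_morphismRestrict_iff_isIso_app π U.2,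
    ConcreteCategory.isIso_iff_bijective]
  have hA : HTop.IsSeminormalRing Γ(X, (U : X.Opens)) := (Groth.Agent.S7420.result X).1.mp hX U
  refine bijective_of_UH_of_isSeminormalRing (π.app (U : X.Opens)).hom (UH_app π hπ ⟨U.1, U.2⟩)
    (fun Q => ?_) hA
  have h1 := residueFieldsIso_app π hres ⟨U.1, U.2⟩ Q
  exact ((Groth.Agent.Lib.Helper20.EtaPt.isIso_residueFieldMap_iff (π.app (U : X.Opens)) Q).mp h1).2

end Scheme

section Red

/-- The reduced closed subscheme with the same underlying space. -/
noncomputable abbrev red (X : Scheme.{u}) : Scheme.{u} :=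
  (Scheme.IdealSheafData.vanishingIdeal (⊤ : Closeds X)).subscheme

noncomputable abbrev redι (X : Scheme.{u}) : red X ⟶ X :=
  (Scheme.IdealSheafData.vanishingIdeal (⊤ : Closeds X)).subschemeι

instance (X : Scheme.{u}) : IsReduced (red X) :=
  Groth.Agent.Lib.Helper10.RedInd.isReduced_subscheme_vanishingIdeal _

instance (X : Scheme.{u}) : Surjective (redι X) := by
  constructor
  rw [← Set.range_eq_univ]
  show Set.range (Scheme.IdealSheafData.vanishingIdeal (⊤ : Closeds X)).subschemeι = _
  rw [Scheme.IdealSheafData.range_subschemeι, Scheme.IdealSheafData.coe_support_vanishingIdeal]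
  rfl

theorem isUnivHomeo_of_isClosedImmersion_of_surjective {X Y : Scheme.{u}} (i : X ⟶ Y)
    [IsClosedImmersion i] [Surjective i] : FlatMor.IsUnivHomeo i :=
  (Groth.Agent.Lib.T2H8.UHFactor.isUnivHomeo_iff i).mpr ⟨inferInstance, inferInstance, inferInstance⟩

theorem residueFieldsIso_of_isClosedImmersion {X Y : Scheme.{u}} (i : X ⟶ Y)
    [IsClosedImmersion i] : HTop.ResidueFieldsIso i := fun x =>
  Groth.Agent.Lib.Helper14.isIso_residueFieldMap_of_surjectiveOnStalks i x

theorem isUnivHomeo_comp {X Y Z : Scheme.{u}} (a : X ⟶ Y) (b : Y ⟶ Z)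
    (ha : FlatMor.IsUnivHomeo a) (hb : FlatMor.IsUnivHomeo b) : FlatMor.IsUnivHomeo (a ≫ b) := by
  obtain ⟨h1, h2, h3⟩ := (Groth.Agent.Lib.T2H8.UHFactor.isUnivHomeo_iff a).mp ha
  obtain ⟨h4, h5, h6⟩ := (Groth.Agent.Lib.T2H8.UHFactor.isUnivHomeo_iff b).mp hb
  exact (Groth.Agent.Lib.T2H8.UHFactor.isUnivHomeo_iff (a ≫ b)).mpr
    ⟨inferInstance, MorphismProperty.comp_mem _ a b h2 h5, inferInstance⟩

/-- The source of a seminormalization is reduced. -/
theorem isReduced_of_isSeminormalization {X' X : Scheme.{u}} (ν : X' ⟶ X)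
    (hν : HTop.IsSeminormalization ν) : IsReduced X' := by
  obtain ⟨⟨hUH, hRF⟩, huniv⟩ := hν
  have h1 : FlatMor.IsUnivHomeo (redι X' ≫ ν) :=
    isUnivHomeo_comp _ _ (isUnivHomeo_of_isClosedImmersion_of_surjective _) hUH
  have h2 : HTop.ResidueFieldsIso (redι X' ≫ ν) :=
    residueFieldsIso_comp _ _ (residueFieldsIso_of_isClosedImmersion _) hRF
  obtain ⟨h, hh, -⟩ := huniv (red X') (redι X' ≫ ν) h1 h2
  obtain ⟨k, -, hk⟩ := huniv X' ν hUH hRF
  have e1 : h ≫ redι X' = 𝟙 X' := by
    rw [hk (h ≫ redι X') (by beta_reduce; rw [Category.assoc]; exact hh),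
      hk (𝟙 X') (Category.id_comp _)]
  have e2 : redι X' ≫ h = 𝟙 (red X') := by
    rw [← cancel_mono (redι X'), Category.assoc, e1, Category.comp_id, Category.id_comp]
  haveI : IsIso (redι X') := ⟨h, e2, e1⟩
  exact isReduced_of_isOpenImmersion (inv (redι X'))

/-- A seminormalization of a seminormal scheme is an isomorphism. -/
theorem isIso_of_isSeminormalization_of_isSeminormal {X' X : Scheme.{u}} (ν : X' ⟶ X)
    (hν : HTop.IsSeminormalization ν) (hX : HTop.IsSeminormal X) : IsIso ν := by
  haveI := isReduced_of_isSeminormalization ν hν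
  exact isIso_of_isSeminormal_of_isReduced ν hν.1.1 hν.1.2 hX

end Red

section Univ

/-- Two morphisms from a reduced scheme into the source of a separated universally injective
morphism which agree after composition with it are equal. -/
theorem eq_of_comp_eq_of_isReduced {Y Y' X : Scheme.{u}} [IsReduced Y] (π' : Y' ⟶ X)
    [IsSeparated π'] [UniversallyInjective π'] (h₁ h₂ : Y ⟶ Y') (h : h₁ ≫ π' = h₂ ≫ π') :
    h₁ = h₂ := by
  let d : Y' ⟶ pullback π' π' := pullback.diagonal π'
  let m : Y ⟶ pullback π' π' := pullback.lift h₁ h₂ h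
  let e : pullback m d ⟶ Y := pullback.fst m d
  haveI : Surjective d := (UniversallyInjective.iff_diagonal π').mp inferInstance
  haveI : IsClosedImmersion d := inferInstanceAs (IsClosedImmersion (pullback.diagonal π'))
  haveI : IsClosedImmersion e := inferInstanceAs (IsClosedImmersion (pullback.fst m d))
  haveI : Surjective e := inferInstanceAs (Surjective (pullback.fst m d))
  haveI : IsIso e := isIso_of_isClosedImmersion_of_surjective e
  have c : e ≫ m = pullback.snd m d ≫ d := pullback.condition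
  have k₁ : e ≫ h₁ = pullback.snd m d := by
    have : e ≫ h₁ = (e ≫ m) ≫ pullback.fst π' π' := by
      rw [Category.assoc, pullback.lift_fst]
    rw [this, c, Category.assoc, pullback.diagonal_fst, Category.comp_id]
  have k₂ : e ≫ h₂ = pullback.snd m d := by
    have : e ≫ h₂ = (e ≫ m) ≫ pullback.snd π' π' := by
      rw [Category.assoc, pullback.lift_snd]
    rw [this, c, Category.assoc, pullback.diagonal_snd, Category.comp_id]
  exact (cancel_epi e).mp (k₁.trans k₂.symm)

theorem isSeparated_of_isUnivHomeo {X Y : Scheme.{u}} (π : Y ⟶ X) (hπ : FlatMor.IsUnivHomeo π) :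
    IsSeparated π := by
  haveI := isIntegralHom_of_isUnivHomeo π hπ
  infer_instance

theorem universallyInjective_of_isUnivHomeo {X Y : Scheme.{u}} (π : Y ⟶ X)
    (hπ : FlatMor.IsUnivHomeo π) : UniversallyInjective π :=
  ((Groth.Agent.Lib.T2H8.UHFactor.isUnivHomeo_iff π).mp hπ).2.1

/-- Residue field isomorphisms are stable under base change. -/
theorem residueFieldsIso_fst {X Y S : Scheme.{u}} (f : X ⟶ S) (g : Y ⟶ S)
    (hg : HTop.ResidueFieldsIso g) : HTop.ResidueFieldsIso (pullback.fst f g) := fun w => by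
  rw [ConcreteCategory.isIso_iff_bijective]
  haveI := hg (pullback.snd f g w)
  exact Groth.Agent.Lib.Helper20.ResFld.bijective_fst_residueFieldMap w
    (ConcreteCategory.bijective_of_isIso _)

/-- A universal homeomorphism with trivial residue field extensions whose source is seminormal is a
seminormalization. -/
theorem isSeminormalization_of_isSeminormal {X Y : Scheme.{u}} (π : Y ⟶ X)
    (hπ : FlatMor.IsUnivHomeo π) (hres : HTop.ResidueFieldsIso π) (hY : HTop.IsSeminormal Y) :
    HTop.IsSeminormalization π := by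
  refine ⟨⟨hπ, hres⟩, fun Y' π' hπ' hres' => ?_⟩
  haveI : IsReduced Y := Groth.Agent.S7421.result.2 Y hY
  haveI := isSeparated_of_isUnivHomeo π' hπ'
  haveI := universallyInjective_of_isUnivHomeo π' hπ'
  let P := pullback π π'
  have h1 : FlatMor.IsUnivHomeo (pullback.fst π π') :=
    MorphismProperty.pullback_fst (P := FlatMor.IsUnivHomeo) π π' hπ'
  have h2 : HTop.ResidueFieldsIso (pullback.fst π π') := residueFieldsIso_fst π π' hres'
  have h3 : FlatMor.IsUnivHomeo (redι P ≫ pullback.fst π π') :=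
    isUnivHomeo_comp _ _ (isUnivHomeo_of_isClosedImmersion_of_surjective _) h1
  have h4 : HTop.ResidueFieldsIso (redι P ≫ pullback.fst π π') :=
    residueFieldsIso_comp _ _ (residueFieldsIso_of_isClosedImmersion _) h2
  haveI : IsIso (redι P ≫ pullback.fst π π') := isIso_of_isSeminormal_of_isReduced _ h3 h4 hY
  refine ⟨inv (redι P ≫ pullback.fst π π') ≫ redι P ≫ pullback.snd π π', ?_, ?_⟩
  · beta_reduce
    rw [Category.assoc, Category.assoc, ← pullback.condition, ← Category.assoc (redι P),
      IsIso.inv_hom_id_assoc]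
  · intro h' hh'
    apply eq_of_comp_eq_of_isReduced π'
    rw [hh', Category.assoc, Category.assoc, ← pullback.condition, ← Category.assoc (redι P),
      IsIso.inv_hom_id_assoc]

end Univ

section Opens

/-- Seminormality of rings is invariant under ring isomorphisms. -/
theorem isSeminormalRing_of_ringEquiv {B W : Type u} [CommRing B] [CommRing W] (e : B ≃+* W)
    (hW : HTop.IsSeminormalRing W) : HTop.IsSeminormalRing B := by
  intro x y hxy
  have hxy' : e x ^ 3 = e y ^ 2 := by rw [← map_pow, ← map_pow, hxy]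
  obtain ⟨a, ⟨ha2, ha3⟩, huniq⟩ := hW (e x) (e y) hxy'
  refine ⟨e.symm a, ⟨?_, ?_⟩, ?_⟩
  · apply e.injective; rw [map_pow, e.apply_symm_apply]; exact ha2
  · apply e.injective; rw [map_pow, e.apply_symm_apply]; exact ha3
  · rintro a' ⟨h2, h3⟩
    have := huniq (e a') ⟨by rw [h2, map_pow], by rw [h3, map_pow]⟩
    rw [← this, e.symm_apply_apply]

/-- The source of an open immersion into a seminormal scheme is seminormal. -/
theorem isSeminormal_of_isOpenImmersion {X W : Scheme.{u}} (j : W ⟶ X) [IsOpenImmersion j]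
    (hX : HTop.IsSeminormal X) : HTop.IsSeminormal W := by
  rw [(Groth.Agent.S7420.result W).1]
  intro V
  have hV : IsAffineOpen (j ''ᵁ (V : W.Opens)) := V.2.image_of_isOpenImmersion j
  have h1 : HTop.IsSeminormalRing Γ(X, j ''ᵁ (V : W.Opens)) :=
    (Groth.Agent.S7420.result X).1.mp hX ⟨_, hV⟩
  exact isSeminormalRing_of_ringEquiv (j.appIso (V : W.Opens)).commRingCatIsoToRingEquiv.symm h1

/-- The restriction of a seminormalization with seminormal source to an open subscheme of the
target is a seminormalization. -/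
theorem isSeminormalization_restrict {X' X : Scheme.{u}} (ν : X' ⟶ X)
    (hν : HTop.IsSeminormalization ν) (hX' : HTop.IsSeminormal X') (U : X.Opens) :
    HTop.IsSeminormalization (ν ∣_ U) := by
  apply isSeminormalization_of_isSeminormal
  · exact MorphismProperty.of_isPullback (P := FlatMor.IsUnivHomeo)
      (isPullback_morphismRestrict ν U).flip hν.1.1
  · exact residueFieldsIso_of_square _ _ _ _ (morphismRestrict_ι ν U)
      (residueFieldsIso_of_isOpenImmersion _) (residueFieldsIso_of_isOpenImmersion _) hν.1.2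
  · exact isSeminormal_of_isOpenImmersion (ν ⁻¹ᵁ U).ι hX'

end Opens

section Lift

/-- A universally injective morphism admitting a section over each residue field of its target
induces isomorphisms on residue fields. -/
theorem residueFieldsIso_of_pointwise_sections {P T : Scheme.{u}} (p : P ⟶ T)
    [UniversallyInjective p]
    (hsec : ∀ t : T, ∃ s : Spec (T.residueField t) ⟶ P, s ≫ p = T.fromSpecResidueField t) :
    HTop.ResidueFieldsIso p := by
  intro w
  obtain ⟨s, hs⟩ := hsec (p w)
  let pt : Spec (T.residueField (p w)) := IsLocalRing.closedPoint (T.residueField (p w))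
  have hpt : p (s pt) = p w := by
    show (s ≫ p) pt = p w
    rw [hs]
    exact Scheme.fromSpecResidueField_apply _ _
  have hw : s pt = w := p.injective hpt
  have h1 : IsIso ((s ≫ p).residueFieldMap pt) := by
    rw [hs]
    exact Groth.Agent.Lib.Helper14.isIso_residueFieldMap_of_surjectiveOnStalks _ pt
  rw [Scheme.residueFieldMap_comp] at h1
  have h2 : Function.Bijective (s.residueFieldMap pt) := by
    refine ⟨(s.residueFieldMap pt).hom.injective, ?_⟩
    intro z
    obtain ⟨y, hy⟩ := ((ConcreteCategory.isIso_iff_bijective _).mp h1).2 z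
    exact ⟨p.residueFieldMap (s pt) y, hy⟩
  have h2' : IsIso (s.residueFieldMap pt) := (ConcreteCategory.isIso_iff_bijective _).mpr h2
  have h3 : IsIso (p.residueFieldMap (s pt)) :=
    @IsIso.of_isIso_comp_right _ _ _ _ _ _ _ h2' h1
  rw [hw] at h3
  exact h3

/-- Lifting through a proper universally injective morphism from a seminormal scheme can be checked
on points. -/
theorem exists_lift_of_pointwise_lifts {T X Y : Scheme.{u}} (hT : HTop.IsSeminormal T)
    (f : X ⟶ Y) [IsProper f] [UniversallyInjective f] (g : T ⟶ Y)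
    (hlift : ∀ t : T, ∃ l : Spec (T.residueField t) ⟶ X, l ≫ f = T.fromSpecResidueField t ≫ g) :
    ∃ h : T ⟶ X, h ≫ f = g := by
  let P := pullback g f
  let p : P ⟶ T := pullback.fst g f
  have hsec : ∀ t : T, ∃ s : Spec (T.residueField t) ⟶ P, s ≫ p = T.fromSpecResidueField t := by
    intro t
    obtain ⟨l, hl⟩ := hlift t
    exact ⟨pullback.lift (T.fromSpecResidueField t) l hl.symm, pullback.lift_fst _ _ _⟩
  haveI : UniversallyInjective p :=
    MorphismProperty.pullback_fst (P := @UniversallyInjective) g f inferInstance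
  haveI : IsProper p := inferInstanceAs (IsProper (pullback.fst g f))
  haveI : Surjective p := by
    constructor
    intro t
    obtain ⟨s, hs⟩ := hsec t
    refine ⟨s (IsLocalRing.closedPoint (T.residueField t)), ?_⟩
    show (s ≫ p) _ = t
    rw [hs]
    exact Scheme.fromSpecResidueField_apply _ _
  have h1 : FlatMor.IsUnivHomeo p := Groth.Agent.Lib.Helper20.EtaPt.isUnivHomeo_of p
  have h2 : HTop.ResidueFieldsIso p := residueFieldsIso_of_pointwise_sections p hsec
  have h3 : FlatMor.IsUnivHomeo (redι P ≫ p) :=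
    isUnivHomeo_comp _ _ (isUnivHomeo_of_isClosedImmersion_of_surjective _) h1
  have h4 : HTop.ResidueFieldsIso (redι P ≫ p) :=
    residueFieldsIso_comp _ _ (residueFieldsIso_of_isClosedImmersion _) h2
  haveI : IsIso (redι P ≫ p) := isIso_of_isSeminormal_of_isReduced _ h3 h4 hT
  refine ⟨inv (redι P ≫ p) ≫ redι P ≫ pullback.snd g f, ?_⟩
  rw [Category.assoc, Category.assoc, ← pullback.condition, ← Category.assoc (redι P)]
  exact IsIso.inv_hom_id_assoc _ _

end Lift

section LocalRing

open Groth.Agent.Lib.Helper11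

variable {A : Type u} [CommRing A]

/-- A ring all of whose localizations at primes are reduced is reduced. -/
theorem isReduced_of_forall_atPrime
    (h : ∀ (p : Ideal A) [p.IsPrime], ∃ (S : Type u) (_ : CommRing S) (_ : Algebra A S),
      IsLocalization.AtPrime S p ∧ IsReduced S) : IsReduced A := by
  constructor
  intro a ha
  by_contra hne
  have hann : (Ideal.span {a}).annihilator ≠ ⊤ := by
    intro htop
    apply hne
    have h1 : (1 : A) ∈ (Ideal.span {a}).annihilator := htop ▸ Submodule.mem_top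
    have h2 := Submodule.mem_annihilator.mp h1 a (Ideal.subset_span rfl)
    simpa using h2
  obtain ⟨m, hm, hle⟩ := Ideal.exists_le_maximal _ hann
  haveI := hm.isPrime
  obtain ⟨S, _, _, hloc, hred⟩ := h m
  have h0 : algebraMap A S a = 0 := by
    apply hred.eq_zero
    exact ha.map (algebraMap A S)
  rw [IsLocalization.map_eq_zero_iff m.primeCompl] at h0
  obtain ⟨s, hs⟩ := h0
  apply s.2
  apply hle
  rw [Submodule.mem_annihilator]
  intro b hb
  obtain ⟨c, rfl⟩ := Ideal.mem_span_singleton'.mp hb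
  rw [smul_eq_mul, mul_comm c, ← mul_assoc, hs, zero_mul]

/-- A ring all of whose localizations at primes are seminormal is seminormal. -/
theorem isSeminormalRing_of_forall_atPrime
    (h : ∀ (p : Ideal A) [p.IsPrime], ∃ (S : Type u) (_ : CommRing S) (_ : Algebra A S),
      IsLocalization.AtPrime S p ∧ HTop.IsSeminormalRing S) : HTop.IsSeminormalRing A := by
  haveI hred : IsReduced A := isReduced_of_forall_atPrime (fun p _ => by
    obtain ⟨S, i1, i2, h1, h2⟩ := h p
    exact ⟨S, i1, i2, h1, isReduced_of_isSeminormalRing h2⟩)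
  refine isSeminormalRing_iff.mpr ⟨hred, fun x y hxy => ?_⟩
  -- the ideal of denominators
  let I : Ideal A :=
    { carrier := {s | ∃ a : A, a ^ 2 = s ^ 2 * x ∧ a ^ 3 = s ^ 3 * y}
      zero_mem' := ⟨0, by ring, by ring⟩
      add_mem' := by
        rintro s₁ s₂ ⟨a₁, h₁, h₁'⟩ ⟨a₂, h₂, h₂'⟩
        have e1 : a₁ * a₂ = s₁ * s₂ * x := by
          apply eq_of_sq_eq_of_cube_eq
          · calc (a₁ * a₂) ^ 2 = a₁ ^ 2 * a₂ ^ 2 := by ring
              _ = (s₁ * s₂ * x) ^ 2 := by rw [h₁, h₂]; ring
          · calc (a₁ * a₂) ^ 3 = a₁ ^ 3 * a₂ ^ 3 := by ring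
              _ = s₁ ^ 3 * s₂ ^ 3 * y ^ 2 := by rw [h₁', h₂']; ring
              _ = (s₁ * s₂ * x) ^ 3 := by rw [← hxy]; ring
        have e2 : x * a₂ = s₂ * y := by
          apply eq_of_sq_eq_of_cube_eq
          · calc (x * a₂) ^ 2 = x ^ 2 * a₂ ^ 2 := by ring
              _ = s₂ ^ 2 * x ^ 3 := by rw [h₂]; ring
              _ = (s₂ * y) ^ 2 := by rw [hxy]; ring
          · calc (x * a₂) ^ 3 = x ^ 3 * a₂ ^ 3 := by ring
              _ = (s₂ * y) ^ 3 := by rw [h₂', hxy]; ring
        have e3 : x * a₁ = s₁ * y := by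
          apply eq_of_sq_eq_of_cube_eq
          · calc (x * a₁) ^ 2 = x ^ 2 * a₁ ^ 2 := by ring
              _ = s₁ ^ 2 * x ^ 3 := by rw [h₁]; ring
              _ = (s₁ * y) ^ 2 := by rw [hxy]; ring
          · calc (x * a₁) ^ 3 = x ^ 3 * a₁ ^ 3 := by ring
              _ = (s₁ * y) ^ 3 := by rw [h₁', hxy]; ring
        refine ⟨a₁ + a₂, ?_, ?_⟩
        · calc (a₁ + a₂) ^ 2 = a₁ ^ 2 + 2 * (a₁ * a₂) + a₂ ^ 2 := by ring
            _ = (s₁ + s₂) ^ 2 * x := by rw [h₁, h₂, e1]; ring
        · calc (a₁ + a₂) ^ 3 = a₁ ^ 3 + 3 * (a₁ ^ 2 * a₂) + 3 * (a₂ ^ 2 * a₁) + a₂ ^ 3 := by ring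
            _ = s₁ ^ 3 * y + 3 * (s₁ ^ 2 * (x * a₂)) + 3 * (s₂ ^ 2 * (x * a₁)) + s₂ ^ 3 * y := by
              rw [h₁, h₂, h₁', h₂']; ring
            _ = (s₁ + s₂) ^ 3 * y := by rw [e2, e3]; ring
      smul_mem' := by
        rintro c s ⟨a, h₁, h₁'⟩
        refine ⟨c * a, ?_, ?_⟩
        · rw [smul_eq_mul, mul_pow, h₁]; ring
        · rw [smul_eq_mul, mul_pow, h₁']; ring }
  have hI : I = ⊤ := by
    by_contra hne
    obtain ⟨m, hm, hle⟩ := Ideal.exists_le_maximal _ hne
    haveI := hm.isPrime
    obtain ⟨S, _, _, hloc, hsn⟩ := h m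
    have hxy' : algebraMap A S x ^ 3 = algebraMap A S y ^ 2 := by
      rw [← map_pow, ← map_pow, hxy]
    obtain ⟨b, ⟨hb2, hb3⟩, -⟩ := hsn _ _ hxy'
    obtain ⟨⟨a, s⟩, hab⟩ := IsLocalization.surj m.primeCompl b
    simp only at hab
    -- `b * s = a`
    have k2 : algebraMap A S (a ^ 2) = algebraMap A S ((s : A) ^ 2 * x) := by
      rw [map_pow, ← hab, map_mul, map_pow, hb2]; ring
    have k3 : algebraMap A S (a ^ 3) = algebraMap A S ((s : A) ^ 3 * y) := by
      rw [map_pow, ← hab, map_mul, map_pow, hb3]; ring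
    obtain ⟨u, hu⟩ := (IsLocalization.eq_iff_exists m.primeCompl S).mp k2
    obtain ⟨u', hu'⟩ := (IsLocalization.eq_iff_exists m.primeCompl S).mp k3
    have hmem : (s : A) * u * u' ∈ I := by
      refine ⟨a * u * u', ?_, ?_⟩
      · calc (a * u * u') ^ 2 = (u : A) * u' ^ 2 * (u * a ^ 2) := by ring
          _ = (u : A) * u' ^ 2 * (u * ((s : A) ^ 2 * x)) := by rw [hu]
          _ = ((s : A) * u * u') ^ 2 * x := by ring
      · calc (a * u * u') ^ 3 = (u : A) ^ 3 * u' ^ 2 * (u' * a ^ 3) := by ring
          _ = (u : A) ^ 3 * u' ^ 2 * (u' * ((s : A) ^ 3 * y)) := by rw [hu']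
          _ = ((s : A) * u * u') ^ 3 * y := by ring
    have hnot : (s : A) * u * u' ∉ m := by
      intro hin
      rcases hm.isPrime.mem_or_mem hin with h1 | h1
      · rcases hm.isPrime.mem_or_mem h1 with h2 | h2
        · exact s.2 h2
        · exact u.2 h2
      · exact u'.2 h1
    exact hnot (hle hmem)
  have h1 : (1 : A) ∈ I := hI ▸ Submodule.mem_top
  obtain ⟨a, ha2, ha3⟩ := h1
  exact ⟨a, by rw [ha2]; ring, by rw [ha3]; ring⟩

end LocalRing

section Normal

/-- A normal scheme is seminormal. -/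
theorem isSeminormal_of_isNormalScheme {X : Scheme.{u}} (h : Pi1.IsNormalScheme X) :
    HTop.IsSeminormal X := by
  rw [(Groth.Agent.S7420.result X).1]
  intro U
  apply isSeminormalRing_of_forall_atPrime
  intro p hp
  let y : PrimeSpectrum Γ(X, (U : X.Opens)) := ⟨p, hp⟩
  have hy : U.2.fromSpec y ∈ (U : X.Opens) := by
    have : U.2.fromSpec y ∈ Set.range U.2.fromSpec := ⟨y, rfl⟩
    rwa [IsAffineOpen.range_fromSpec] at this
  obtain ⟨hdom, hic⟩ := h (U.2.fromSpec y)
  refine ⟨X.presheaf.stalk (U.2.fromSpec y), inferInstance,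
    TopCat.Presheaf.algebra_section_stalk X.presheaf ⟨U.2.fromSpec y, hy⟩,
    U.2.isLocalization_stalk' y hy, ?_⟩
  exact Groth.Agent.S15941.result _

/-- A morphism from a normal scheme factors through any seminormalization of its target. -/
theorem exists_factor_of_isNormalScheme {S Sn X' : Scheme.{u}} (π : Sn ⟶ S)
    (hn : Pi1.IsNormalScheme Sn) (ν : X' ⟶ S) (hν : HTop.IsSeminormalization ν) :
    ∃ g : Sn ⟶ X', g ≫ ν = π := by
  have hSn : HTop.IsSeminormal Sn := isSeminormal_of_isNormalScheme hn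
  let P := pullback π ν
  let p : P ⟶ Sn := pullback.fst π ν
  have h1 : FlatMor.IsUnivHomeo p :=
    MorphismProperty.pullback_fst (P := FlatMor.IsUnivHomeo) π ν hν.1.1
  have h2 : HTop.ResidueFieldsIso p := residueFieldsIso_fst π ν hν.1.2
  have h3 : FlatMor.IsUnivHomeo (redι P ≫ p) :=
    isUnivHomeo_comp _ _ (isUnivHomeo_of_isClosedImmersion_of_surjective _) h1
  have h4 : HTop.ResidueFieldsIso (redι P ≫ p) :=
    residueFieldsIso_comp _ _ (residueFieldsIso_of_isClosedImmersion _) h2
  haveI : IsIso (redι P ≫ p) := isIso_of_isSeminormal_of_isReduced _ h3 h4 hSn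
  refine ⟨inv (redι P ≫ p) ≫ redι P ≫ pullback.snd π ν, ?_⟩
  rw [Category.assoc, Category.assoc, ← pullback.condition, ← Category.assoc (redι P)]
  exact IsIso.inv_hom_id_assoc _ _

end Normal

section Fin

/-- Over a Noetherian ring, if `h ∘ f` is finite and `h` is injective then `f` is finite. -/
theorem finite_of_comp_injective {A B C : Type u} [CommRing A] [CommRing B] [CommRing C]
    [IsNoetherianRing A] (f : A →+* B) (h : B →+* C) (hinj : Function.Injective h)
    (hfin : (h.comp f).Finite) : f.Finite := by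
  letI := f.toAlgebra
  letI := (h.comp f).toAlgebra
  letI : Algebra B C := h.toAlgebra
  haveI : IsScalarTower A B C := IsScalarTower.of_algebraMap_eq (fun _ => rfl)
  haveI : Module.Finite A C := hfin
  haveI : IsNoetherian A C := isNoetherian_of_isNoetherianRing_of_finite A C
  let l : B →ₗ[A] C := (IsScalarTower.toAlgHom A B C).toLinearMap
  have hl : Function.Injective l := hinj
  haveI : IsNoetherian A B := isNoetherian_of_injective l hl
  show Module.Finite A B
  infer_instance

theorem isHomeomorph_of_isUnivHomeo {X Y : Scheme.{u}} (π : Y ⟶ X) (hπ : FlatMor.IsUnivHomeo π) :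
    IsHomeomorph π.base := hπ (𝟙 Y) (𝟙 X) π (IsPullback.id_vert π)

theorem core_15963 {S Sn X' : Scheme.{u}} [IsNoetherian S] [IsReduced S] [IsReduced X']
    (π : Sn ⟶ S) (hdense : DenseRange π.base) (ν : X' ⟶ S) (hν : FlatMor.IsUnivHomeo ν)
    (g : Sn ⟶ X') (hg : g ≫ ν = π) :
    (IsSchemeTheoreticallyDominant ν ∧ IsSchemeTheoreticallyDominant g) ∧
      (IsFinite π → IsFinite ν ∧ IsFinite g) := by
  haveI hint := isIntegralHom_of_isUnivHomeo ν hν
  have hhom := isHomeomorph_of_isUnivHomeo ν hν
  haveI : Surjective ν := ⟨hhom.surjective⟩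
  haveI : IsDominant g := by
    constructor
    intro x'
    have h1 : ν.base x' ∈ closure (Set.range π.base) := hdense _
    have h2 : Set.range π.base = ν.base '' Set.range g.base := by
      rw [← hg, Scheme.Hom.comp_base, TopCat.coe_comp, Set.range_comp]
    rw [h2] at h1
    rw [hhom.isInducing.closure_eq_preimage_closure_image]
    exact h1
  have hν' : IsSchemeTheoreticallyDominant ν := IsSchemeTheoreticallyDominant.of_isDominant ν
  have hg' : IsSchemeTheoreticallyDominant g := IsSchemeTheoreticallyDominant.of_isDominant g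
  refine ⟨⟨hν', hg'⟩, fun hπ => ?_⟩
  haveI : IsFinite (g ≫ ν) := hg ▸ hπ
  haveI : IsFinite g := IsFinite.of_comp g ν
  refine ⟨?_, inferInstance⟩
  rw [isFinite_iff]
  refine ⟨inferInstance, fun V hV => ?_⟩
  haveI : IsNoetherianRing Γ(S, V) := IsLocallyNoetherian.component_noetherian ⟨V, hV⟩
  apply finite_of_comp_injective (ν.app V).hom (g.app (ν ⁻¹ᵁ V)).hom (g.app_injective _)
  have := IsFinite.finite_app (g ≫ ν) V hV
  rw [Scheme.Hom.comp_app] at this
  exact this


/-- A morphism which is an isomorphism over a dense open has dense range. -/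
theorem denseRange_of_isIso_restrict {Sn S : Scheme.{u}} (π : Sn ⟶ S) (U : S.Opens)
    (hU : Dense (U : Set S)) [IsIso (π ∣_ U)] : DenseRange π.base := by
  refine hU.mono ?_
  intro x hx
  obtain ⟨y, hy⟩ := (π ∣_ U).surjective ⟨x, hx⟩
  refine ⟨(π ⁻¹ᵁ U).ι.base y, ?_⟩
  show ((π ⁻¹ᵁ U).ι ≫ π).base y = x
  rw [← morphismRestrict_ι]
  show U.ι.base ((π ∣_ U).base y) = x
  rw [hy]
  rfl

end Fin

end Groth.Agent.Lib.T2H8.SNSch
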