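import Mathlib
import Groth.Prelude.Def_W4c1hilbchowincPtFun
import Groth.Prelude.Def_HTop2
import Groth.Agent.Lib.T2H8NormalPtFun
import Groth.Agent.Lib.T2H8SNSch
import Groth.Agent.Lib.Helper20EtaPtSN

/-!
# Sections with fibrewise constant values descend to seminormal rings (helper8)
-/

set_option autoImplicit false
set_option linter.style.haveILetI false

universe u

namespace Groth.Agent.Lib.T2H8.SubInt

open AlgebraicGeometry CategoryTheory Limits W4c1hilbchowinc
open Groth.Agent.Lib.T2H8.NormalPtFun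

theorem pullback_ofSection {X Y : Scheme.{u}} (g : Y ⟶ X) (s : Γ(X, ⊤)) :
    (PtFun.ofSection X s).pullback g = PtFun.ofSection Y (g.appTop s) := by
  funext y
  exact Scheme.Γevaluation_naturality_apply g y s

theorem pullback_comp {X Y Z : Scheme.{u}} (h : Z ⟶ Y) (g : Y ⟶ X) (f : PtFun X) :
    f.pullback (h ≫ g) = (f.pullback g).pullback h := by
  funext z
  show (h ≫ g).residueFieldMap z (f ((h ≫ g) z)) =
    h.residueFieldMap z (g.residueFieldMap (h z) (f (g (h z))))
  rw [Scheme.residueFieldMap_comp]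
  rfl

theorem eq_of_pullback_eq {X Y : Scheme.{u}} (g : Y ⟶ X) (hg : Function.Surjective g)
    (f f' : PtFun X) (h : f.pullback g = f'.pullback g) : f = f' := by
  funext x
  obtain ⟨y, rfl⟩ := hg x
  exact (g.residueFieldMap y).hom.injective (congrFun h y)

/-- The section of `Spec R` attached to `a : R`. -/
noncomputable abbrev sec (R : Type u) [CommRing R] (a : R) : Γ(Spec (CommRingCat.of R), ⊤) :=
  (Scheme.ΓSpecIso (CommRingCat.of R)).inv a

theorem appTop_sec {R S : Type u} [CommRing R] [CommRing S] (ψ : R →+* S) (a : R) :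
    (Spec.map (CommRingCat.ofHom ψ)).appTop (sec R a) = sec S (ψ a) :=
  appTop_SpecMap_ΓSpecIso_inv (CommRingCat.ofHom ψ) a

theorem sec_injective_of_field (K : Type u) [Field K] (a b : K)
    (h : PtFun.ofSection _ (sec K a) = PtFun.ofSection _ (sec K b)) : a = b := by
  let pt : Spec (CommRingCat.of K) := (⟨⊥, Ideal.isPrime_bot⟩ : PrimeSpectrum K)
  have h1 : (Spec (CommRingCat.of K)).Γevaluation pt (sec K (a - b)) = 0 := by
    unfold sec
    rw [map_sub, map_sub, sub_eq_zero]
    exact congrFun h pt
  rw [Γevaluation_ΓSpecIso_inv_eq_zero_iff] at h1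
  exact sub_eq_zero.mp h1

theorem sec_surjective (R : Type u) [CommRing R] (b : Γ(Spec (CommRingCat.of R), ⊤)) :
    ∃ a : R, sec R a = b :=
  ⟨(Scheme.ΓSpecIso _).hom b, by simp [sec]⟩

/-- **Descent of sections to a seminormal ring.** Let `A` be a seminormal ring, `ψ : A → C` an
injective integral ring map to a reduced ring and `c : C` an element whose pointwise function on
`Spec C` is pulled back from a pointwise function on `Spec A`.  Then `c` comes from `A`. -/
theorem exists_eq_of_ofSection_eq_pullback {A C : Type u} [CommRing A] [CommRing C]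
    (hA : HTop.IsSeminormalRing A) [IsReduced C] (ψ : A →+* C) (hinj : Function.Injective ψ)
    (hint : ψ.IsIntegral) (c : C) (f : PtFun (Spec (CommRingCat.of A)))
    (hf : PtFun.ofSection _ (sec C c) = f.pullback (Spec.map (CommRingCat.ofHom ψ))) :
    ∃ a : A, ψ a = c := by
  letI := ψ.toAlgebra
  let A' : Subalgebra A C := Algebra.adjoin A {c}
  let χ : A →+* A' := algebraMap A A'
  let j : A' →+* C := A'.val.toRingHom
  have hjχ : j.comp χ = ψ := rfl
  let c' : A' := ⟨c, Algebra.subset_adjoin (Set.mem_singleton c)⟩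
  have hj_inj : Function.Injective j := Subtype.val_injective
  have hj_int : j.IsIntegral := by
    intro x
    obtain ⟨p, hp, hpx⟩ := hint x
    refine ⟨p.map χ, hp.map χ, ?_⟩
    rw [Polynomial.eval₂_map, hjχ]
    exact hpx
  have hj_surj : Function.Surjective (Spec.map (CommRingCat.ofHom j)) :=
    hj_int.comap_surjective hj_inj
  have hstep1 : PtFun.ofSection _ (sec A' c') = f.pullback (Spec.map (CommRingCat.ofHom χ)) := by
    apply eq_of_pullback_eq (Spec.map (CommRingCat.ofHom j)) hj_surj
    rw [pullback_ofSection, appTop_sec, ← pullback_comp, ← Spec.map_comp, ← CommRingCat.ofHom_comp,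
      hjχ]
    exact hf
  have hχ_inj : Function.Injective χ := by
    intro a a' h
    exact hinj (congrArg j h)
  have hχ_int : χ.IsIntegral := by
    intro x
    obtain ⟨p, hp, hpx⟩ := hint (j x)
    refine ⟨p, hp, hj_inj ?_⟩
    rw [Polynomial.hom_eval₂, map_zero, hjχ]
    exact hpx
  have hext : ∀ (K : Type u) [Field K] (χ₁ χ₂ : A' →+* K), χ₁.comp χ = χ₂.comp χ → χ₁ = χ₂ := by
    intro K _ χ₁ χ₂ h12
    have hc : χ₁ c' = χ₂ c' := by
      apply sec_injective_of_field K
      have e : ∀ χ' : A' →+* K, PtFun.ofSection _ (sec K (χ' c')) =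
          f.pullback (Spec.map (CommRingCat.ofHom (χ'.comp χ))) := by
        intro χ'
        rw [← appTop_sec χ' c', ← pullback_ofSection, hstep1, ← pullback_comp, ← Spec.map_comp,
          ← CommRingCat.ofHom_comp]
      rw [e χ₁, e χ₂, h12]
    ext ⟨x, hx⟩
    induction hx using Algebra.adjoin_induction with
    | mem y hy =>
      obtain rfl := hy
      exact hc
    | algebraMap r => exact congrArg (fun k => k r) h12
    | add x y hx hy hx' hy' =>
      have : (⟨x + y, add_mem hx hy⟩ : A') = ⟨x, hx⟩ + ⟨y, hy⟩ := rfl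
      rw [this, map_add, map_add, hx', hy']
    | mul x y hx hy hx' hy' =>
      have : (⟨x * y, mul_mem hx hy⟩ : A') = ⟨x, hx⟩ * ⟨y, hy⟩ := rfl
      rw [this, map_mul, map_mul, hx', hy']
  have hres : ∀ Q : PrimeSpectrum A', Function.Surjective (Ideal.ResidueField.map
      (PrimeSpectrum.comap χ Q).asIdeal Q.asIdeal χ rfl) := by
    intro Q
    have hiso : IsIso ((Spec.map (CommRingCat.ofHom χ)).residueFieldMap Q) := by
      rw [ConcreteCategory.isIso_iff_bijective]
      refine ⟨((Spec.map (CommRingCat.ofHom χ)).residueFieldMap Q).hom.injective, ?_⟩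
      have hmem : ∀ a' : A', ∃ e, (Spec.map (CommRingCat.ofHom χ)).residueFieldMap Q e =
          (Spec (CommRingCat.of A')).Γevaluation Q (sec A' a') := by
        rintro ⟨x, hx⟩
        induction hx using Algebra.adjoin_induction with
        | mem y hy =>
          obtain rfl := hy
          exact ⟨f ((Spec.map (CommRingCat.ofHom χ)) Q), (congrFun hstep1 Q).symm⟩
        | algebraMap r =>
          refine ⟨(Spec (CommRingCat.of A)).Γevaluation _ (sec A r), ?_⟩
          rw [Scheme.Γevaluation_naturality_apply, appTop_sec]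
          rfl
        | add x y hx hy hx' hy' =>
          obtain ⟨e, he⟩ := hx'
          obtain ⟨e', he'⟩ := hy'
          refine ⟨e + e', ?_⟩
          have : sec A' (⟨x + y, add_mem hx hy⟩ : A') = sec A' ⟨x, hx⟩ + sec A' ⟨y, hy⟩ := by
            show (Scheme.ΓSpecIso (CommRingCat.of A')).inv ((⟨x, hx⟩ : A') + ⟨y, hy⟩) = _
            rw [map_add]
          rw [this, map_add, map_add, he, he']
        | mul x y hx hy hx' hy' =>
          obtain ⟨e, he⟩ := hx'
          obtain ⟨e', he'⟩ := hy'
          refine ⟨e * e', ?_⟩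
          have : sec A' (⟨x * y, mul_mem hx hy⟩ : A') = sec A' ⟨x, hx⟩ * sec A' ⟨y, hy⟩ := by
            show (Scheme.ΓSpecIso (CommRingCat.of A')).inv ((⟨x, hx⟩ : A') * ⟨y, hy⟩) = _
            rw [map_mul]
          rw [this, map_mul, map_mul, he, he']
      intro z
      obtain ⟨b, s, hs, hz⟩ := exists_rel_of_isAffine (X := Spec (CommRingCat.of A')) Q z
      obtain ⟨b', rfl⟩ := sec_surjective A' b
      obtain ⟨s', rfl⟩ := sec_surjective A' s
      obtain ⟨eb, heb⟩ := hmem b'
      obtain ⟨es, hes⟩ := hmem s'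
      refine ⟨eb / es, ?_⟩
      rw [map_div₀, heb, hes, ← hz]
      exact mul_div_cancel_right₀ z hs
    exact ((Groth.Agent.Lib.Helper20.EtaPt.isIso_residueFieldMap_iff (CommRingCat.ofHom χ) Q).mp
      hiso).2
  haveI : IsReduced A' := isReduced_of_injective j hj_inj
  obtain ⟨a, ha⟩ := (Groth.Agent.Lib.T2H8.SNSch.bijective_of_UH_of_isSeminormalRing χ
    ⟨hχ_int, hχ_int.comap_surjective hχ_inj, hext⟩ hres hA).2 c'
  exact ⟨a, congrArg j ha⟩

end Groth.Agent.Lib.T2H8.SubInt
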