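import Mathlib
import Groth.Agent.Lib.Helper14TSResidue
import Groth.Agent.Lib.T2H8SubInt
import Groth.Agent.Lib.Helper20EtaPtSN
import Groth.Agent.Lib.Helper11SN

/-!
# helper8: multiplication of symmetric tensors lands in a seminormal ring (ChowMon)

* `pow_finrank_mem_range`: `z ^ [Ω:k] ∈ k` for a finite purely inseparable extension;
  `orbitSum_mem_range`: `∑_{type c = μ} ∏ y (c i) ∈ k` when `[Ω:k] ∣ d` (coefficients of `(∑ y_j t_j)^d`);
  `mulAlgHom`, `eval_mul_symTensor_mem_range`.
* `exists_ptFun_of_bijective`, `Γevaluation_sec`, `exists_residueFieldMap_eq_of`, `main`.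
-/

set_option autoImplicit false
universe u
open TensorProduct AlgebraicGeometry CategoryTheory W4c1hilbchowinc

namespace Groth.Agent.Lib.T2H8.ChowMon

open Groth.Agent.Lib.Helper14.TSFree Groth.Agent.Lib.Helper14.TSGamma
open Groth.Agent.Lib.T2H8.SubInt Groth.Agent.Lib.Helper20.EtaPt

section field
variable {k Ω : Type u} [Field k] [Field Ω] [Algebra k Ω] [IsPurelyInseparable k Ω]
  [FiniteDimensional k Ω]

theorem pow_finrank_mem_range (z : Ω) : z ^ Module.finrank k Ω ∈ (algebraMap k Ω).range := by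
  obtain ⟨e, he⟩ := IsPurelyInseparable.finrank_eq_pow k Ω (ringExpChar k)
  obtain ⟨n, y, hmin⟩ := IsPurelyInseparable.minpoly_eq_X_pow_sub_C k (ringExpChar k) z
  have hpos : 0 < ringExpChar k ^ n := pow_pos (expChar_pos k _) n
  have hdeg : (minpoly k z).natDegree = ringExpChar k ^ n := by
    rw [hmin, Polynomial.natDegree_X_pow_sub_C]
  have hle : ringExpChar k ^ n ≤ ringExpChar k ^ e := by
    rw [← hdeg, ← he]
    exact minpoly.natDegree_le z
  have hz : z ^ ringExpChar k ^ n = algebraMap k Ω y := by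
    have h1 := minpoly.aeval k z
    rw [hmin, map_sub, map_pow, Polynomial.aeval_X, Polynomial.aeval_C, sub_eq_zero] at h1
    exact h1
  have hdvd : ringExpChar k ^ n ∣ ringExpChar k ^ e := by
    rcases expChar_is_prime_or_one k (ringExpChar k) with hp | h1
    · exact pow_dvd_pow _ ((Nat.pow_le_pow_iff_right hp.one_lt).1 hle)
    · rw [h1, one_pow, one_pow]
  obtain ⟨r, hr⟩ := hdvd
  rw [he, hr, pow_mul, hz, ← map_pow]
  exact ⟨_, rfl⟩

theorem sum_pow_finrank {R : Type*} [CommSemiring R] [Algebra k R] [ExpChar R (ringExpChar k)]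
    {ι : Type*} (s : Finset ι) (a : ι → R) :
    (∑ j ∈ s, a j) ^ Module.finrank k Ω = ∑ j ∈ s, a j ^ Module.finrank k Ω := by
  obtain ⟨e, he⟩ := IsPurelyInseparable.finrank_eq_pow k Ω (ringExpChar k)
  rw [he]
  exact sum_pow_char_pow (ringExpChar k) e s a


theorem prod_X_eq_monomial {d m : ℕ} (c : Fin d → Fin m) :
    (∏ i, (MvPolynomial.X (c i) : MvPolynomial (Fin m) Ω)) = MvPolynomial.monomial (type c) 1 := by
  rw [type, MvPolynomial.monomial_sum_one]
  rfl

theorem coeff_sum_pow {d m : ℕ} (y : Fin m → Ω) (μ : Fin m →₀ ℕ) :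
    MvPolynomial.coeff μ ((∑ j, MvPolynomial.C (y j) * MvPolynomial.X j :
      MvPolynomial (Fin m) Ω) ^ d) =
      ∑ c ∈ Finset.univ.filter (fun c : Fin d → Fin m => type c = μ), ∏ i, y (c i) := by
  classical
  have h1 : (∑ j, MvPolynomial.C (y j) * MvPolynomial.X j : MvPolynomial (Fin m) Ω) ^ d =
      ∏ _i : Fin d, ∑ j, MvPolynomial.C (y j) * MvPolynomial.X j := by
    rw [Finset.prod_const, Finset.card_univ, Fintype.card_fin]
  rw [h1, Finset.prod_univ_sum, MvPolynomial.coeff_sum, Finset.sum_filter]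
  simp only [Fintype.piFinset_univ]
  refine Finset.sum_congr rfl fun c _ => ?_
  rw [Finset.prod_mul_distrib, prod_X_eq_monomial, ← map_prod, MvPolynomial.C_mul_monomial, mul_one,
    MvPolynomial.coeff_monomial]

theorem orbitSum_mem_range {d : ℕ} (hd : Module.finrank k Ω ∣ d) {m : ℕ} (y : Fin m → Ω)
    (μ : Fin m →₀ ℕ) :
    ∑ c ∈ Finset.univ.filter (fun c : Fin d → Fin m => type c = μ), ∏ i, y (c i) ∈
      (algebraMap k Ω).range := by
  rw [← coeff_sum_pow]
  obtain ⟨r, hr⟩ := hd
  choose a ha using fun j => pow_finrank_mem_range (k := k) (y j)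
  have hmem : (∑ j, MvPolynomial.C (y j) * MvPolynomial.X j : MvPolynomial (Fin m) Ω) ^ d ∈
      (MvPolynomial.map (algebraMap k Ω) : MvPolynomial (Fin m) k →+* MvPolynomial (Fin m) Ω).range := by
    haveI : ExpChar Ω (ringExpChar k) := expChar_of_injective_algebraMap (algebraMap k Ω).injective _
    rw [hr, pow_mul, sum_pow_finrank (k := k) (Ω := Ω)]
    refine Subring.pow_mem _ (Subring.sum_mem _ fun j _ => ?_) r
    refine ⟨MvPolynomial.C (a j) * MvPolynomial.X j ^ Module.finrank k Ω, ?_⟩
    rw [map_mul, map_pow, MvPolynomial.map_C, MvPolynomial.map_X, ha, mul_pow, ← map_pow]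
  obtain ⟨P₀, hP₀⟩ := hmem
  rw [← hP₀, MvPolynomial.coeff_map]
  exact ⟨_, rfl⟩


variable {A B : Type u} [CommRing A] [CommRing B] [Algebra A B] [Algebra A k] [Algebra A Ω]
  [IsScalarTower A k Ω]

/-- the multiplication `B^{⊗d} → B` as an algebra map. -/
noncomputable def mulAlgHom (A B : Type u) [CommRing A] [CommRing B] [Algebra A B] (d : ℕ) :
    (⨂[A] _ : Fin d, B) →ₐ[A] B :=
  PiTensorProduct.liftAlgHom (MultilinearMap.mkPiAlgebra A (Fin d) B)
    (by simp [MultilinearMap.mkPiAlgebra_apply])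
    (fun x y => by simp [MultilinearMap.mkPiAlgebra_apply, Finset.prod_mul_distrib])

theorem mulAlgHom_apply (d : ℕ) (t : ⨂[A] _ : Fin d, B) :
    mulAlgHom A B d t = PiTensorProduct.lift (MultilinearMap.mkPiAlgebra A (Fin d) B) t := rfl

theorem mulAlgHom_tprod (d : ℕ) (b : Fin d → B) :
    mulAlgHom A B d (PiTensorProduct.tprod A b) = ∏ i, b i := by
  rw [mulAlgHom_apply, PiTensorProduct.lift.tprod, MultilinearMap.mkPiAlgebra_apply]

theorem eval_mul_symTensor_mem_range {d : ℕ} (hd : Module.finrank k Ω ∣ d) (ev : B →ₐ[A] Ω)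
    (x : ⨂[A] _ : Fin d, B) (hx : x ∈ SymTen.TS A B d) :
    ev (PiTensorProduct.lift (MultilinearMap.mkPiAlgebra A (Fin d) B) x) ∈
      Set.range (algebraMap k Ω) := by
  have h := Groth.Agent.Lib.Helper14.TSResidue.mem_range_of_symB (k := k) (Ω := Ω)
    (ev.comp (mulAlgHom A B d)) ?_ x hx
  · exact h
  · intro m b ν
    rw [symB, map_sum]
    have h1 : ∀ c : Fin d → Fin m, (ev.comp (mulAlgHom A B d))
        (PiTensorProduct.tprod A fun i => b (c i)) = ∏ i, ev (b (c i)) := by
      intro c
      rw [AlgHom.comp_apply, mulAlgHom_tprod, map_prod]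
    simp only [h1]
    exact orbitSum_mem_range (k := k) hd (fun j => ev (b j)) ν

end field


/-- a pointwise function on the target from pointwise preimages along a bijective morphism. -/
theorem exists_ptFun_of_bijective {X Y : Scheme.{u}} (π : Y ⟶ X) (hinj : Function.Injective π)
    (hsurj : Function.Surjective π) (s : Γ(Y, ⊤))
    (h : ∀ y : Y, ∃ e : X.residueField (π y), π.residueFieldMap y e = Y.Γevaluation y s) :
    ∃ f : PtFun X, PtFun.ofSection Y s = f.pullback π := by
  have key : ∀ x : X, ∃ fx : X.residueField x, ∀ (y : Y) (hy : π y = x),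
      π.residueFieldMap y (hy ▸ fx) = Y.Γevaluation y s := by
    intro x
    obtain ⟨y₀, rfl⟩ := hsurj x
    obtain ⟨e, he⟩ := h y₀
    refine ⟨e, fun y hy => ?_⟩
    obtain rfl := hinj hy
    exact he
  choose f hf using key
  refine ⟨f, ?_⟩
  funext y
  exact (hf (π y) y rfl).symm


/-- the value of `sec R a` at a point of `Spec R`. -/
theorem Γevaluation_sec (R : Type u) [CommRing R] (y : PrimeSpectrum R) (a : R) :
    (Spec (CommRingCat.of R)).Γevaluation y (sec R a) =
      (Scheme.Spec.residueFieldIso (CommRingCat.of R) y).inv.hom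
        (algebraMap R y.asIdeal.ResidueField a) := by
  have h := Scheme.Spec.algebraMap_residueFieldIso_inv (CommRingCat.of R) y
  have h2 := congrArg (fun f => f.hom a) h
  exact h2.symm

/-- ring-level preimages of the values give scheme-level preimages. -/
theorem exists_residueFieldMap_eq_of {C C' : Type u} [CommRing C] [CommRing C'] (ψ : C →+* C')
    (c : C') (q : PrimeSpectrum C')
    (h : ∃ e : (PrimeSpectrum.comap ψ q).asIdeal.ResidueField,
      Ideal.ResidueField.map (PrimeSpectrum.comap ψ q).asIdeal q.asIdeal ψ rfl e =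
        algebraMap C' q.asIdeal.ResidueField c) :
    ∃ e' : (Spec (CommRingCat.of C)).residueField ((Spec.map (CommRingCat.ofHom ψ)) q),
      (Spec.map (CommRingCat.ofHom ψ)).residueFieldMap q e' =
        (Spec (CommRingCat.of C')).Γevaluation q (sec C' c) := by
  obtain ⟨e, he⟩ := h
  refine ⟨(Scheme.Spec.residueFieldIso (CommRingCat.of C) (PrimeSpectrum.comap ψ q)).inv.hom e, ?_⟩
  have key := residueFieldMap_Spec (CommRingCat.ofHom ψ) q
  have h2 := congrArg (fun f => f.hom e) key
  rw [Γevaluation_sec, ← he]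
  exact h2


theorem main (A C C' B : Type u) [CommRing A] [CommRing C] [CommRing C'] [CommRing B]
    [Algebra A C] [Algebra A C'] [Algebra A B] (hC : HTop.IsSeminormalRing C)
    (g : C →ₐ[A] C') [IsReduced C'] (hfin : g.toRingHom.Finite)
    (hg : FlatMor.IsUnivHomeo (Spec.map (CommRingCat.ofHom g.toRingHom)))
    (d : ℕ) (hd : 0 < d)
    (hdeg : ∀ q : PrimeSpectrum C',
      @Module.finrank (PrimeSpectrum.comap g.toRingHom q).asIdeal.ResidueField q.asIdeal.ResidueField _ _
          (Ideal.ResidueField.map (PrimeSpectrum.comap g.toRingHom q).asIdeal q.asIdeal g.toRingHom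
            rfl).toAlgebra.toModule ∣ d)
    [Module.Flat A B] (φ : B →ₐ[A] C') (x : ⨂[A] _ : Fin d, B) (hx : x ∈ SymTen.TS A B d) :
    φ (PiTensorProduct.lift (MultilinearMap.mkPiAlgebra A (Fin d) B) x) ∈ g.range := by
  set ψ : C →+* C' := g.toRingHom with hψ
  set c : C' := φ (PiTensorProduct.lift (MultilinearMap.mkPiAlgebra A (Fin d) B) x) with hc
  haveI : IsReduced C := Groth.Agent.Lib.Helper11.isReduced_of_isSeminormalRing hC
  have hbij := comap_bijective_of_isUnivHomeo ψ hg
  have hinj : Function.Injective ψ := by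
    rw [injective_iff_map_eq_zero]
    intro b hb
    have h1 : b ∈ nilradical C := by
      rw [nilradical_eq_sInf, Ideal.mem_sInf]
      intro P hP
      obtain ⟨Q, hQ⟩ := hbij.2 ⟨P, hP⟩
      have h2 : b ∈ (PrimeSpectrum.comap ψ Q).asIdeal := by
        change ψ b ∈ Q.asIdeal
        rw [hb]; exact Q.asIdeal.zero_mem
      rw [hQ] at h2
      exact h2
    rwa [nilradical_eq_zero, Ideal.zero_eq_bot, Ideal.mem_bot] at h1
  have hint : ψ.IsIntegral := hfin.to_isIntegral
  -- ring-level values
  have key : ∀ q : PrimeSpectrum C',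
      ∃ e : (PrimeSpectrum.comap ψ q).asIdeal.ResidueField,
        Ideal.ResidueField.map (PrimeSpectrum.comap ψ q).asIdeal q.asIdeal ψ rfl e =
          algebraMap C' q.asIdeal.ResidueField c := by
    intro q
    letI algkΩ : Algebra (PrimeSpectrum.comap ψ q).asIdeal.ResidueField q.asIdeal.ResidueField :=
      (Ideal.ResidueField.map (PrimeSpectrum.comap ψ q).asIdeal q.asIdeal ψ rfl).toAlgebra
    haveI hpi : IsPurelyInseparable (PrimeSpectrum.comap ψ q).asIdeal.ResidueField
        q.asIdeal.ResidueField := isPurelyInseparable_residueField_map_of_isUnivHomeo ψ hg q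
    have hdq : Module.finrank (PrimeSpectrum.comap ψ q).asIdeal.ResidueField
        q.asIdeal.ResidueField ∣ d := hdeg q
    haveI hfd : FiniteDimensional (PrimeSpectrum.comap ψ q).asIdeal.ResidueField
        q.asIdeal.ResidueField := by
      apply Module.finite_of_finrank_pos
      rcases Nat.eq_zero_or_pos (Module.finrank (PrimeSpectrum.comap ψ q).asIdeal.ResidueField
        q.asIdeal.ResidueField) with h0 | h0
      · rw [h0, zero_dvd_iff] at hdq
        omega
      · exact h0
    letI algAk : Algebra A (PrimeSpectrum.comap ψ q).asIdeal.ResidueField :=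
      ((algebraMap C (PrimeSpectrum.comap ψ q).asIdeal.ResidueField).comp (algebraMap A C)).toAlgebra
    letI algAΩ : Algebra A q.asIdeal.ResidueField :=
      ((algebraMap C' q.asIdeal.ResidueField).comp (algebraMap A C')).toAlgebra
    haveI : IsScalarTower A (PrimeSpectrum.comap ψ q).asIdeal.ResidueField q.asIdeal.ResidueField := by
      refine IsScalarTower.of_algebraMap_eq fun a => ?_
      change algebraMap C' q.asIdeal.ResidueField (algebraMap A C' a) =
        Ideal.ResidueField.map (PrimeSpectrum.comap ψ q).asIdeal q.asIdeal ψ rfl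
          (algebraMap C (PrimeSpectrum.comap ψ q).asIdeal.ResidueField (algebraMap A C a))
      rw [Ideal.ResidueField.map_algebraMap, hψ]
      exact congrArg _ (g.commutes a).symm
    haveI : IsScalarTower A C' q.asIdeal.ResidueField :=
      IsScalarTower.of_algebraMap_eq fun a => rfl
    have h := eval_mul_symTensor_mem_range (k := (PrimeSpectrum.comap ψ q).asIdeal.ResidueField)
      (Ω := q.asIdeal.ResidueField) hdq
      ((IsScalarTower.toAlgHom A C' q.asIdeal.ResidueField).comp φ) x hx
    obtain ⟨e, he⟩ := h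
    exact ⟨e, he⟩
  obtain ⟨f, hf⟩ := exists_ptFun_of_bijective (Spec.map (CommRingCat.ofHom ψ)) hbij.1 hbij.2
    (sec C' c) (fun q => exists_residueFieldMap_eq_of ψ c q (key q))
  obtain ⟨a, ha⟩ := exists_eq_of_ofSection_eq_pullback hC ψ hinj hint c f hf
  exact ⟨a, ha⟩


end Groth.Agent.Lib.T2H8.ChowMon
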