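import Mathlib
import Groth.Agent.Lib.T2H8ClosedPts

/-!
# Cohomology of the sum of the skyscraper sheaves at closed points (S6641)
-/

set_option autoImplicit false
set_option linter.unusedSectionVars false
set_option linter.style.haveILetI false
universe u
open CategoryTheory CategoryTheory.Limits Opposite AlgebraicGeometry

namespace Groth.Agent.Lib.T2H8.ClosedPtsB

open Groth.Agent.Lib.T2H8.ClosedPts

/-- the sum over the closed points of the pushforwards of sheaves on the residue fields has no
higher cohomology, for a qcqs scheme locally of finite type over a separably closed field -/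
theorem subsingleton_H_cofan_closedPoints {k : Type u} [Field k] [IsSepClosed k]
    {X : Scheme.{u}} (f : X ⟶ Spec (CommRingCat.of k)) [LocallyOfFiniteType f]
    [CompactSpace X] [QuasiSeparatedSpace X]
    (G : ∀ x : {x : X // IsClosed ({x} : Set X)}, EtCoh.Ab (Spec (X.residueField x.1)))
    (c : Cofan fun x : {x : X // IsClosed ({x} : Set X)} =>
      (EtCoh.push (X.fromSpecResidueField x.1)).obj (G x))
    (hc : IsColimit c) (q : ℕ) (hq : 0 < q) :
    Subsingleton (EtCoh.H X c.pt q) := by
  obtain ⟨n, rfl⟩ : ∃ n, q = n + 1 := ⟨q - 1, by omega⟩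
  let F := fun x : {x : X // IsClosed ({x} : Set X)} =>
      (EtCoh.push (X.fromSpecResidueField x.1)).obj (G x)
  have h : ∀ a, Subsingleton (EtCoh.H X (F a) (n + 1)) := by
    intro a
    haveI := isSepClosed_residueField_of_isClosed f a.1 a.2
    exact ⟨fun y y' => (H_push_closedPoint_eq_zero X a.1 a.2 _ n y).trans
      (H_push_closedPoint_eq_zero X a.1 a.2 _ n y').symm⟩
  have h2 := subsingleton_H_sigma X F (n + 1) h
  exact subsingleton_H_of_iso (hc.coconePointUniqueUpToIso (colimit.isColimit _)) (n + 1) h2

/-- **S6641** -/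
theorem main_S6641 (k : Type u) [Field k] [IsAlgClosed k] (X : Scheme.{u})
    (f : X ⟶ Spec (CommRingCat.of k)) [IsSeparated f] [LocallyOfFiniteType f] [QuasiCompact f]
    (c : Cofan fun x : {x : ↥X // IsClosed ({x} : Set ↥X)} =>
      (EtCoh.push (X.fromSpecResidueField x.1)).obj (EtCoh.const (Spec (X.residueField x.1)) ℤ))
    (hc : IsColimit c) (q : ℕ) (hq : 1 ≤ q) :
    Subsingleton (EtCoh.H X c.pt q) := by
  haveI : CompactSpace X := QuasiCompact.compactSpace_of_compactSpace f
  haveI : QuasiSeparatedSpace X := quasiSeparatedSpace_of_quasiSeparated f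
  exact subsingleton_H_cofan_closedPoints f _ c hc q hq

end Groth.Agent.Lib.T2H8.ClosedPtsB
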