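import Mathlib
import Groth.Agent.Lib.T2H8ClosedLiftHom
import Groth.Agent.Lib.T2H8FLC

set_option autoImplicit false
set_option linter.style.haveILetI false
set_option linter.unusedSectionVars false
universe u
open CategoryTheory CategoryTheory.Limits AlgebraicGeometry Opposite

namespace Groth.Agent.Lib.T2H8.ClosedStalk

variable {Z X : Scheme.{u}} (i : Z ⟶ X)
  {Ω : Type u} [Field Ω] [IsSepClosed Ω] (ζ : Spec (CommRingCat.of Ω) ⟶ Z)

section fiber
variable {S : Scheme.{u}} (s : Spec (CommRingCat.of Ω) ⟶ S)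

/-- constructor for elements of the fiber -/
noncomputable def mkF (V : S.Etale) (v : Spec (CommRingCat.of Ω) ⟶ V.left) (hv : v ≫ V.hom = s) :
    (Scheme.pointSmallEtale s).fiber.obj V := Over.homMk v hv

theorem mkF_left (V : S.Etale) (v : Spec (CommRingCat.of Ω) ⟶ V.left) (hv : v ≫ V.hom = s) :
    (mkF s V v hv).left = v := rfl

theorem fiber_w (V : S.Etale) (v : (Scheme.pointSmallEtale s).fiber.obj V) :
    v.left ≫ V.hom = s := Over.w v

theorem fiber_ext (V : S.Etale) (v v' : (Scheme.pointSmallEtale s).fiber.obj V)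
    (h : v.left = v'.left) : v = v' := Over.OverMorphism.ext h

theorem fiber_map_left {V V' : S.Etale} (f : V ⟶ V') (v : (Scheme.pointSmallEtale s).fiber.obj V) :
    ((Scheme.pointSmallEtale s).fiber.map f v).left = v.left ≫ f.left := rfl

end fiber

/-- lifting a fiber element to the base change -/
noncomputable def up (V : X.Etale) (v : (Scheme.pointSmallEtale (ζ ≫ i)).fiber.obj V) :
    (Scheme.pointSmallEtale ζ).fiber.obj ((EtCoh.bc i).obj V) :=
  mkF ζ ((EtCoh.bc i).obj V) (pullback.lift v.left ζ (fiber_w (ζ ≫ i) V v)) (pullback.lift_snd _ _ _)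

theorem up_left_fst (V : X.Etale) (v : (Scheme.pointSmallEtale (ζ ≫ i)).fiber.obj V) :
    (up i ζ V v).left ≫ pullback.fst V.hom i = v.left := pullback.lift_fst _ _ _

/-- pushing a fiber element of the base change down -/
noncomputable def down (V : X.Etale) (z : (Scheme.pointSmallEtale ζ).fiber.obj ((EtCoh.bc i).obj V)) :
    (Scheme.pointSmallEtale (ζ ≫ i)).fiber.obj V :=
  mkF (ζ ≫ i) V (z.left ≫ pullback.fst V.hom i) (by
    have h1 : z.left ≫ pullback.snd V.hom i = ζ := fiber_w ζ _ z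
    calc (z.left ≫ pullback.fst V.hom i) ≫ V.hom = z.left ≫ (pullback.fst V.hom i ≫ V.hom) :=
          Category.assoc _ _ _
      _ = z.left ≫ (pullback.snd V.hom i ≫ i) := congrArg (z.left ≫ ·) pullback.condition
      _ = (z.left ≫ pullback.snd V.hom i) ≫ i := (Category.assoc _ _ _).symm
      _ = ζ ≫ i := congrArg (· ≫ i) h1)

theorem up_down (V : X.Etale) (z : (Scheme.pointSmallEtale ζ).fiber.obj ((EtCoh.bc i).obj V)) :
    up i ζ V (down i ζ V z) = z := by
  apply fiber_ext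
  apply pullback.hom_ext
  · exact up_left_fst i ζ V _
  · have h1 : z.left ≫ pullback.snd V.hom i = ζ := fiber_w ζ _ z
    exact (pullback.lift_snd _ _ _).trans h1.symm

theorem down_up (V : X.Etale) (v : (Scheme.pointSmallEtale (ζ ≫ i)).fiber.obj V) :
    down i ζ V (up i ζ V v) = v := by
  apply fiber_ext
  exact up_left_fst i ζ V v

theorem fiber_map_comp {S : Scheme.{u}} (s : Spec (CommRingCat.of Ω) ⟶ S) {A B C : S.Etale}
    (f : A ⟶ B) (g : B ⟶ C) (x : (Scheme.pointSmallEtale s).fiber.obj A) :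
    (Scheme.pointSmallEtale s).fiber.map (f ≫ g) x =
      (Scheme.pointSmallEtale s).fiber.map g ((Scheme.pointSmallEtale s).fiber.map f x) := by
  rw [Functor.map_comp]
  rfl

theorem up_map {V V' : X.Etale} (f : V ⟶ V') (v : (Scheme.pointSmallEtale (ζ ≫ i)).fiber.obj V) :
    (Scheme.pointSmallEtale ζ).fiber.map ((EtCoh.bc i).map f) (up i ζ V v) =
      up i ζ V' ((Scheme.pointSmallEtale (ζ ≫ i)).fiber.map f v) := by
  apply fiber_ext
  rw [fiber_map_left]
  apply pullback.hom_ext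
  · refine (ClosedLiftHom.lift_comp_fst _ _ _ _ _ _).trans ?_
    refine (congrArg (· ≫ f.left) (up_left_fst i ζ V v)).trans ?_
    exact (fiber_map_left (ζ ≫ i) f v).symm.trans (up_left_fst i ζ V' _).symm
  · refine (ClosedLiftHom.lift_comp_snd _ _ _ _ _ _).trans ?_
    exact (pullback.lift_snd _ _ _).trans (pullback.lift_snd _ _ _).symm

theorem down_map {V V' : X.Etale} (f : V ⟶ V')
    (z : (Scheme.pointSmallEtale ζ).fiber.obj ((EtCoh.bc i).obj V)) :
    (Scheme.pointSmallEtale (ζ ≫ i)).fiber.map f (down i ζ V z) =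
      down i ζ V' ((Scheme.pointSmallEtale ζ).fiber.map ((EtCoh.bc i).map f) z) := by
  apply fiber_ext
  rw [fiber_map_left]
  change (z.left ≫ pullback.fst V.hom i) ≫ f.left = (z.left ≫ ((EtCoh.bc i).map f).left) ≫ pullback.fst V'.hom i
  exact (ClosedLiftHom.lift_comp_fst _ _ _ _ _ _).symm

variable [EtCoh.BCCont i] (G : EtCoh.Ab Z)

/-- the components of the comparison map -/
noncomputable def psiApp (V : X.Etale) (v : (Scheme.pointSmallEtale (ζ ≫ i)).fiber.obj V) :
    ((EtCoh.push i).obj G).obj.obj (op V) ⟶ (Scheme.pointSmallEtale ζ).presheafFiber.obj G.obj :=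
  (Scheme.pointSmallEtale ζ).toPresheafFiber ((EtCoh.bc i).obj V) (up i ζ V v) G.obj

theorem psiApp_w {V V' : X.Etale} (f : V ⟶ V') (v : (Scheme.pointSmallEtale (ζ ≫ i)).fiber.obj V) :
    ((EtCoh.push i).obj G).obj.map f.op ≫ psiApp i ζ G V v =
      psiApp i ζ G V' ((Scheme.pointSmallEtale (ζ ≫ i)).fiber.map f v) := by
  have := (Scheme.pointSmallEtale ζ).toPresheafFiber_w ((EtCoh.bc i).map f) (up i ζ V v) G.obj
  rw [up_map] at this
  exact this

/-- the comparison map on stalks -/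
noncomputable def Psi :
    (Scheme.pointSmallEtale (ζ ≫ i)).presheafFiber.obj ((EtCoh.push i).obj G).obj ⟶
      (Scheme.pointSmallEtale ζ).presheafFiber.obj G.obj :=
  (Scheme.pointSmallEtale (ζ ≫ i)).presheafFiberDesc (psiApp i ζ G) (fun _ _ f v => psiApp_w i ζ G f v)

theorem Psi_apply (V : X.Etale) (v : (Scheme.pointSmallEtale (ζ ≫ i)).fiber.obj V)
    (s : G.obj.obj (op ((EtCoh.bc i).obj V))) :
    Psi i ζ G ((Scheme.pointSmallEtale (ζ ≫ i)).toPresheafFiber V v ((EtCoh.push i).obj G).obj s) =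
      (Scheme.pointSmallEtale ζ).toPresheafFiber ((EtCoh.bc i).obj V) (up i ζ V v) G.obj s := by
  have := (Scheme.pointSmallEtale (ζ ≫ i)).toPresheafFiber_presheafFiberDesc
    (psiApp i ζ G) (fun _ _ f v => psiApp_w i ζ G f v) V v
  exact congrArg (fun φ => φ s) this

omit [EtCoh.BCCont i] in
/-- étale neighbourhoods of `ζ` in `Z` are refined by base changes of étale neighbourhoods in `X` -/
theorem exists_nhd_lift [IsClosedImmersion i] (W : Z.Etale) (w : (Scheme.pointSmallEtale ζ).fiber.obj W) :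
    ∃ (V : X.Etale) (c : (EtCoh.bc i).obj V ⟶ W) (v : (Scheme.pointSmallEtale (ζ ≫ i)).fiber.obj V),
      (Scheme.pointSmallEtale ζ).fiber.map c (up i ζ V v) = w := by
  let wl : Spec (CommRingCat.of Ω) ⟶ W.left := w.left
  obtain ⟨V, h, h1, h2, h3⟩ := ClosedLift.exists_lift_nhd i W (wl.base default)
  have hr : Set.range wl.base ⊆ Set.range h.base := by
    rintro _ ⟨a, rfl⟩
    rwa [Subsingleton.elim a default]
  let w' : Spec (CommRingCat.of Ω) ⟶ pullback V.hom i := IsOpenImmersion.lift h wl hr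
  have hw' : w' ≫ h = w.left := IsOpenImmersion.lift_fac _ _ _
  let c : (EtCoh.bc i).obj V ⟶ W := MorphismProperty.Over.homMk h h1
  have hz : w' ≫ ((EtCoh.bc i).obj V).hom = ζ := by
    change w' ≫ pullback.snd V.hom i = ζ
    calc w' ≫ pullback.snd V.hom i = w' ≫ (h ≫ W.hom) := congrArg (w' ≫ ·) h1.symm
      _ = (w' ≫ h) ≫ W.hom := (Category.assoc _ _ _).symm
      _ = w.left ≫ W.hom := congrArg (· ≫ W.hom) hw'
      _ = ζ := fiber_w ζ W w
  let z := mkF ζ ((EtCoh.bc i).obj V) w' hz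
  refine ⟨V, c, down i ζ V z, ?_⟩
  rw [up_down]
  apply fiber_ext
  exact hw'

variable [IsClosedImmersion i]

theorem Psi_surjective : Function.Surjective (Psi i ζ G) := by
  intro p
  obtain ⟨W, w, s, rfl⟩ := (Scheme.pointSmallEtale ζ).toPresheafFiber_jointly_surjective p
  obtain ⟨V, c, v, hv⟩ := exists_nhd_lift i ζ W w
  refine ⟨(Scheme.pointSmallEtale (ζ ≫ i)).toPresheafFiber V v ((EtCoh.push i).obj G).obj
    (G.obj.map c.op s), ?_⟩
  rw [Psi_apply]
  have e1 := (Scheme.pointSmallEtale ζ).toPresheafFiber_w_apply c (up i ζ V v) G.obj s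
  rw [hv] at e1
  exact e1

theorem Psi_injective : Function.Injective (Psi i ζ G) := by
  intro x1 x2 hx
  obtain ⟨V, v, s1, s2, rfl, rfl⟩ :=
    (Scheme.pointSmallEtale (ζ ≫ i)).toPresheafFiber_jointly_surjective₂ x1 x2
  have hx' : (Scheme.pointSmallEtale ζ).toPresheafFiber ((EtCoh.bc i).obj V) (up i ζ V v) G.obj s1 =
      (Scheme.pointSmallEtale ζ).toPresheafFiber ((EtCoh.bc i).obj V) (up i ζ V v) G.obj s2 := by
    have := hx
    rw [Psi_apply, Psi_apply] at this
    exact this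
  rw [GrothendieckTopology.Point.toPresheafFiber_eq_iff'] at hx'
  obtain ⟨W, c, w, hw, hs⟩ := hx'
  obtain ⟨V', c', v', hv'⟩ := exists_nhd_lift i ζ W w
  obtain ⟨T, a, b, ha, hab⟩ := ClosedLiftHom.almost_full i V' V (c' ≫ c)
  -- the point of `T`
  let tZ : (Scheme.pointSmallEtale ζ).fiber.obj ((EtCoh.bc i).obj T) :=
    (Scheme.pointSmallEtale ζ).fiber.map (inv ((EtCoh.bc i).map a)) (up i ζ V' v')
  let t := down i ζ T tZ
  have e1 : inv ((EtCoh.bc i).map a) ≫ (EtCoh.bc i).map b = c' ≫ c := by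
    rw [IsIso.inv_comp_eq]
    exact hab.symm
  have ht : (Scheme.pointSmallEtale (ζ ≫ i)).fiber.map b t = v := by
    rw [down_map, ← fiber_map_comp, e1, fiber_map_comp, hv', hw, down_up]
  -- conclusion
  have e2 := (Scheme.pointSmallEtale (ζ ≫ i)).toPresheafFiber_w_apply b t
    ((EtCoh.push i).obj G).obj s1
  have e3 := (Scheme.pointSmallEtale (ζ ≫ i)).toPresheafFiber_w_apply b t
    ((EtCoh.push i).obj G).obj s2
  rw [ht] at e2 e3
  rw [← e2, ← e3]
  congr 1
  change G.obj.map ((EtCoh.bc i).map b).op s1 = G.obj.map ((EtCoh.bc i).map b).op s2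
  rw [← hab]
  simp only [op_comp, Functor.map_comp, ConcreteCategory.comp_apply]
  rw [hs]

/-- S0070 -/
theorem main :
    Nonempty ((EtCoh.stalk (ζ ≫ i)).obj ((EtCoh.push i).obj G) ≅ (EtCoh.stalk ζ).obj G) := by
  let e : ((Scheme.pointSmallEtale (ζ ≫ i)).presheafFiber.obj ((EtCoh.push i).obj G).obj :
      AddCommGrpCat.{u + 1}) ≃+ ((Scheme.pointSmallEtale ζ).presheafFiber.obj G.obj : AddCommGrpCat.{u + 1}) :=
    AddEquiv.ofBijective (Psi i ζ G).hom ⟨Psi_injective i ζ G, Psi_surjective i ζ G⟩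
  exact ⟨e.toAddCommGrpIso⟩

end Groth.Agent.Lib.T2H8.ClosedStalk
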