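import Mathlib
import Groth.Agent.Lib.T2H8ClosedSupp

set_option autoImplicit false
set_option linter.unusedSectionVars false
set_option linter.style.haveILetI false
universe u
open CategoryTheory CategoryTheory.Limits Opposite AlgebraicGeometry TopologicalSpace

namespace Groth.Agent.Lib.T2H8.ClosedSuppCurve

/-- in a `T₀` space of dimension at most one, a point with a proper generization is closed -/
theorem isClosed_singleton_of_generization {C : Type*} [TopologicalSpace C] [T0Space C]
    (hdim : topologicalKrullDim C ≤ 1) (x y : C) (hyx : y ⤳ x) (hne : y ≠ x) :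
    IsClosed ({x} : Set C) := by
  rw [← closure_subset_iff_isClosed]
  intro z hz
  by_contra hzx
  have hzx' : z ≠ x := hzx
  have hxz : x ⤳ z := specializes_iff_mem_closure.mpr hz
  let a : IrreducibleCloseds C := ⟨closure {z}, isIrreducible_singleton.closure, isClosed_closure⟩
  let b : IrreducibleCloseds C := ⟨closure {x}, isIrreducible_singleton.closure, isClosed_closure⟩
  let c : IrreducibleCloseds C := ⟨closure {y}, isIrreducible_singleton.closure, isClosed_closure⟩
  have hab : a < b := by
    rw [← SetLike.coe_ssubset_coe]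
    refine ⟨specializes_iff_closure_subset.mp hxz, fun h => ?_⟩
    have : z ⤳ x := specializes_iff_closure_subset.mpr h
    exact hzx' (this.antisymm hxz).eq
  have hbc : b < c := by
    rw [← SetLike.coe_ssubset_coe]
    refine ⟨specializes_iff_closure_subset.mp hyx, fun h => ?_⟩
    have : x ⤳ y := specializes_iff_closure_subset.mpr h
    exact hne (hyx.antisymm this).eq
  let l : LTSeries (IrreducibleCloseds C) :=
    ((RelSeries.singleton _ a).snoc b (by simpa using hab)).snoc c (by simpa using hbc)
  have h2 : (l.length : WithBot ℕ∞) ≤ Order.krullDim (IrreducibleCloseds C) :=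
    Order.LTSeries.length_le_krullDim l
  have h3 : l.length = 2 := rfl
  rw [h3] at h2
  have h4 : ((2 : ℕ) : WithBot ℕ∞) ≤ 1 := h2.trans hdim
  norm_cast at h4

/-- **S19483** -/
theorem main_S19483
    (k : Type u) [Field k] [IsSepClosed k] (C : Scheme.{u})
    (f : C ⟶ Spec (CommRingCat.of k)) [LocallyOfFiniteType f] [QuasiCompact f]
    (hdim : topologicalKrullDim C ≤ 1) (F : EtCoh.Ab C)
    (hgen : ∀ (Ω : Type u) [Field Ω] [IsSepClosed Ω] (ξ : Spec (CommRingCat.of Ω) ⟶ C),
      (∀ x ∈ Set.range ξ.base, ∀ y : C, y ⤳ x → y = x) → IsZero ((EtCoh.stalk ξ).obj F))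
    (q : ℕ) (hq : 0 < q) : Subsingleton (EtCoh.H C F q) := by
  refine Groth.Agent.Lib.T2H8.ClosedSupp.main_S0171 C f F ?_ q hq
  rintro x ⟨Ω, _, _, ξ, hξ, hnz⟩
  by_cases hmax : ∀ y : C, y ⤳ x → y = x
  · exfalso
    apply hnz
    apply hgen Ω ξ
    intro x' hx' y hy
    have hx'' : x' ∈ Set.range ξ := hx'
    rw [hξ] at hx''
    have : x' = x := hx''
    subst this
    exact hmax y hy
  · push Not at hmax
    obtain ⟨y, hyx, hne⟩ := hmax
    exact isClosed_singleton_of_generization hdim x y hyx hne

end Groth.Agent.Lib.T2H8.ClosedSuppCurve
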