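import Mathlib
import Groth.Prelude.Def_W4c1hilbchowincPtFun
import Groth.Agent.Lib.T2H8NormalPtFun
import Groth.Agent.Lib.T2H8SubInt
import Groth.Agent.Lib.T2H8SubmLift

/-!
# The completion of a discrete valuation ring (helper8)

The adic completion of a discrete valuation ring is a complete discrete valuation ring; hence a
pointwise function varying algebraically along complete discrete valuation rings varies
algebraically along all discrete valuation rings.
-/

set_option autoImplicit false
set_option linter.style.haveILetI false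

universe u

namespace Groth.Agent.Lib.T2H8.ComplDVR

open AlgebraicGeometry CategoryTheory Limits W4c1hilbchowinc IsLocalRing
open Groth.Agent.Lib.T2H8.NormalPtFun Groth.Agent.Lib.T2H8.SubInt

section Completion

variable (R : Type u) [CommRing R] [IsDomain R] [IsDiscreteValuationRing R]

/-- The completion of a discrete valuation ring. -/
abbrev Compl : Type u := AdicCompletion (maximalIdeal R) R

variable {R}

theorem maximalIdeal_compl_eq {π : R} (hπ : Irreducible π) :
    maximalIdeal (Compl R) = Ideal.span {algebraMap R (Compl R) π} := by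
  rw [AdicCompletion.maximalIdeal_eq_map]
  have h1 : Ideal.map (algebraMap R (Compl R)) (maximalIdeal R) =
      Ideal.map (algebraMap R (Compl R)) (Ideal.span {π}) := congrArg _ hπ.maximalIdeal_eq
  rw [h1, Ideal.map_span, Set.image_singleton]

theorem mul_eq_zero_of_uniformizer {π : R} (hπ : Irreducible π) (x : Compl R)
    (hx : algebraMap R (Compl R) π * x = 0) : x = 0 := by
  have hreg : IsSMulRegular (Compl R) π :=
    Module.Flat.isSMulRegular_of_nonZeroDivisors (mem_nonZeroDivisors_of_ne_zero hπ.ne_zero)
  apply hreg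
  show π • x = π • (0 : Compl R)
  rw [smul_zero, Algebra.smul_def]
  exact hx

theorem pow_uniformizer_ne_zero {π : R} (hπ : Irreducible π) (n : ℕ) :
    (algebraMap R (Compl R) π) ^ n ≠ 0 := by
  induction n with
  | zero =>
    rw [pow_zero]
    exact one_ne_zero
  | succ n ih =>
    intro h
    rw [pow_succ'] at h
    exact ih (mul_eq_zero_of_uniformizer hπ _ h)

/-- Every nonzero element of the completion is a unit times a power of the uniformizer. -/
theorem exists_unit_mul_pow {π : R} (hπ : Irreducible π) (x : Compl R) (hx : x ≠ 0) :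
    ∃ (n : ℕ) (u : (Compl R)ˣ), x = (algebraMap R (Compl R) π) ^ n * u := by
  classical
  set ϖ := algebraMap R (Compl R) π with hϖ
  have hmax := maximalIdeal_compl_eq hπ
  have hpow : ∀ n : ℕ, (maximalIdeal (Compl R)) ^ n = Ideal.span {ϖ ^ n} := by
    intro n
    rw [hmax, Ideal.span_singleton_pow]
  have hex : ∃ n : ℕ, x ∉ (maximalIdeal (Compl R)) ^ n := by
    by_contra hcon
    simp only [not_exists, not_not] at hcon
    apply hx
    have hH : IsHausdorff (maximalIdeal (Compl R)) (Compl R) := inferInstance
    apply hH.haus x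
    intro n
    rw [SModEq.zero, smul_eq_mul, Ideal.mul_top]
    exact hcon n
  let n := Nat.find hex
  have hn : x ∉ (maximalIdeal (Compl R)) ^ n := Nat.find_spec hex
  have hn0 : n ≠ 0 := by
    intro h0
    apply hn
    rw [h0, pow_zero, Ideal.one_eq_top]
    exact Submodule.mem_top (R := Compl R) (M := Compl R)
  obtain ⟨m, hm⟩ : ∃ m, n = m + 1 := Nat.exists_eq_succ_of_ne_zero hn0
  have hm' : x ∈ (maximalIdeal (Compl R)) ^ m := by
    by_contra hcon
    have := Nat.find_min' hex hcon
    omega
  rw [hpow, Ideal.mem_span_singleton'] at hm'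
  obtain ⟨u, hu⟩ := hm'
  have hu' : IsUnit u := by
    by_contra hnu
    have h1 : u ∈ maximalIdeal (Compl R) := (mem_maximalIdeal u).mpr hnu
    rw [hmax, Ideal.mem_span_singleton'] at h1
    obtain ⟨v, hv⟩ := h1
    apply hn
    rw [hm, hpow, Ideal.mem_span_singleton']
    refine ⟨v, ?_⟩
    rw [← hu, ← hv]
    ring
  exact ⟨m, hu'.unit, by rw [IsUnit.unit_spec, ← hu, mul_comm]⟩

instance : IsDomain (Compl R) := by
  obtain ⟨π, hπ⟩ := IsDiscreteValuationRing.exists_irreducible R
  have : NoZeroDivisors (Compl R) := by
    constructor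
    intro x y hxy
    by_contra hcon
    rw [not_or] at hcon
    obtain ⟨n, u, hu⟩ := exists_unit_mul_pow hπ x hcon.1
    obtain ⟨m, v, hv⟩ := exists_unit_mul_pow hπ y hcon.2
    have h1 : (algebraMap R (Compl R) π) ^ (n + m) * ((u * v : (Compl R)ˣ) : Compl R) = 0 := by
      rw [← hxy, hu, hv, pow_add, Units.val_mul]
      ring
    have h2 : (algebraMap R (Compl R) π) ^ (n + m) = 0 := by
      have := congrArg (fun z => z * (((u * v)⁻¹ : (Compl R)ˣ) : Compl R)) h1
      simpa [mul_assoc] using this
    exact pow_uniformizer_ne_zero hπ _ h2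
  exact NoZeroDivisors.to_isDomain _

instance : IsDiscreteValuationRing (Compl R) := by
  obtain ⟨π, hπ⟩ := IsDiscreteValuationRing.exists_irreducible R
  apply IsDiscreteValuationRing.ofHasUnitMulPowIrreducibleFactorization
  have hϖ0 : algebraMap R (Compl R) π ≠ 0 := by
    have := pow_uniformizer_ne_zero hπ 1
    rwa [pow_one] at this
  refine ⟨algebraMap R (Compl R) π, ?_, fun {x} hx => ?_⟩
  · have hprime : (Ideal.span {algebraMap R (Compl R) π}).IsPrime := by
      rw [← maximalIdeal_compl_eq hπ]
      infer_instance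
    exact ((Ideal.span_singleton_prime hϖ0).mp hprime).irreducible
  · obtain ⟨n, u, hu⟩ := exists_unit_mul_pow hπ x hx
    exact ⟨n, u, hu.symm⟩

end Completion

theorem sec_injective (R : Type u) [CommRing R] : Function.Injective (sec R) :=
  (ConcreteCategory.bijective_of_isIso (Scheme.ΓSpecIso (CommRingCat.of R)).inv).1

/-- A pointwise function varying algebraically along complete discrete valuation rings varies
algebraically along all discrete valuation rings. -/
theorem variesAlongDVR_of_variesAlongCompleteDVR {X : Scheme.{u}} (f : PtFun X)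
    (hf : f.VariesAlongCompleteDVR) : f.VariesAlongDVR := by
  intro R _ _ _ g
  let c : R →+* Compl R := algebraMap R (Compl R)
  have hc_inj : Function.Injective c := by
    rw [injective_iff_map_eq_zero]
    intro r hr
    by_contra hr0
    have hreg : IsSMulRegular (Compl R) r :=
      Module.Flat.isSMulRegular_of_nonZeroDivisors (mem_nonZeroDivisors_of_ne_zero hr0)
    have h1 : r • (1 : Compl R) = r • (0 : Compl R) := by
      rw [smul_zero, Algebra.smul_def, mul_one]
      exact hr
    exact one_ne_zero (hreg h1)
  let κ : Spec (CommRingCat.of (Compl R)) ⟶ Spec (CommRingCat.of R) :=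
    Spec.map (CommRingCat.ofHom c)
  have hκbot : κ (⟨⊥, Ideal.isPrime_bot⟩ : PrimeSpectrum (Compl R)) =
      (⟨⊥, Ideal.isPrime_bot⟩ : PrimeSpectrum R) := by
    apply PrimeSpectrum.ext
    show Ideal.comap c ⊥ = ⊥
    exact (RingHom.injective_iff_ker_eq_bot c).mp hc_inj
  have hκsurj : Function.Surjective κ := by
    intro x
    rcases Groth.Agent.Lib.T2H8.SubmLift.eq_bot_or_eq_closedPoint_of_dvr x with rfl | rfl
    · exact ⟨_, hκbot⟩
    · exact ⟨closedPoint (Compl R), IsLocalRing.comap_closedPoint c⟩
  obtain ⟨th, hth⟩ := hf (Compl R) (κ ≫ g)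
  have hth' : PtFun.ofSection _ th = (f.pullback g).pullback κ := by rw [hth, pullback_comp]
  obtain ⟨t', rfl⟩ := sec_surjective _ th
  obtain ⟨b₀, s₀, hs, hrel⟩ := exists_rel_of_isAffine (X := Spec (CommRingCat.of R))
    (⟨⊥, Ideal.isPrime_bot⟩ : PrimeSpectrum R) ((f.pullback g) _)
  obtain ⟨b, rfl⟩ := sec_surjective R b₀
  obtain ⟨s, rfl⟩ := sec_surjective R s₀
  have hs0 : s ≠ 0 := by
    rintro rfl
    apply hs
    unfold sec
    rw [map_zero, map_zero]
  have key : t' * c s = c b := by
    have h1 : Rel ((f.pullback g).pullback κ) (⟨⊥, Ideal.isPrime_bot⟩ : PrimeSpectrum (Compl R))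
        (κ.appTop (sec R b)) (κ.appTop (sec R s)) := by
      rw [rel_pullback_iff, hκbot]
      exact hrel
    rw [appTop_sec, appTop_sec, ← hth'] at h1
    have h2 : sec (Compl R) (t' * c s - c b) = 0 := by
      apply eq_zero_of_Γevaluation_bot (Compl R)
      unfold sec
      rw [map_sub, map_mul, map_sub, map_mul, sub_eq_zero]
      exact h1
    have h3 : t' * c s - c b = 0 := by
      apply sec_injective
      rw [h2]
      unfold sec
      rw [map_zero]
    exact sub_eq_zero.mp h3
  have hcs0 : c s ≠ 0 := fun h => hs0 (hc_inj (h.trans (map_zero c).symm))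
  obtain ⟨r, hr⟩ : s ∣ b := by
    rcases ValuationRing.dvd_total s b with h | ⟨d, hd⟩
    · exact h
    · by_cases hdu : IsUnit d
      · obtain ⟨u, rfl⟩ := hdu
        exact ⟨(u⁻¹ : Rˣ), by rw [hd, mul_assoc, Units.mul_inv, mul_one]⟩
      · exfalso
        apply hdu
        have hb0 : b ≠ 0 := by
          rintro rfl
          exact hs0 (by rw [hd, zero_mul])
        have hcb0 : c b ≠ 0 := fun h => hb0 (hc_inj (h.trans (map_zero c).symm))
        have h4 : c b * (t' * c d - 1) = 0 := by
          rw [hd, map_mul] at key
          have e : c b * (t' * c d - 1) = t' * (c b * c d) - c b := by ring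
          rw [e, key, sub_self]
        have h5 : t' * c d = 1 := by
          rcases mul_eq_zero.mp h4 with h | h
          · exact absurd h hcb0
          · exact sub_eq_zero.mp h
        have h6 : IsUnit (c d) := IsUnit.of_mul_eq_one _ (by rw [mul_comm]; exact h5)
        exact IsUnit.of_map c d h6
  have ht' : t' = c r := by
    rw [hr, map_mul] at key
    have h7 : c s * (t' - c r) = 0 := by
      have e : c s * (t' - c r) = t' * c s - c s * c r := by ring
      rw [e, key, sub_self]
    rcases mul_eq_zero.mp h7 with h | h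
    · exact absurd h hcs0
    · exact sub_eq_zero.mp h
  refine ⟨sec R r, ?_⟩
  apply eq_of_pullback_eq κ hκsurj
  rw [pullback_ofSection, appTop_sec, ← hth', ht']

end Groth.Agent.Lib.T2H8.ComplDVR
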