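import Mathlib
import Groth.Agent.Lib.Helper28ComplQuot
import Groth.Agent.Lib.Helper14ComplLoc

/-!
# Completion of a finite algebra (helper8)

For a Noetherian ring `R`, an ideal `I` and a finite `R`-algebra `S`, the ring
`AdicCompletion I R ⊗[R] S` is isomorphic to the `IS`-adic completion of the ring `S`.
-/

set_option autoImplicit false
set_option linter.style.haveILetI false
universe u

namespace Groth.Agent.Lib.T2H8.ComplFinAlg
open TensorProduct

variable {R : Type u} [CommRing R] [IsNoetherianRing R] (I : Ideal R)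
  (S : Type u) [CommRing S] [Algebra R S] [Module.Finite R S]

/-- `Â ⊗_R S ≃+* Ŝ` for a finite algebra `S` over a Noetherian ring `R`. -/
theorem exists_ringEquiv_tensor_adicCompletion :
    ∃ e : (AdicCompletion I R ⊗[R] S) ≃+* AdicCompletion (I.map (algebraMap R S)) S,
      ∀ s : S, e ((1 : AdicCompletion I R) ⊗ₜ[R] s) =
        algebraMap S (AdicCompletion (I.map (algebraMap R S)) S) s := by
  classical
  obtain ⟨J, hJ⟩ : ∃ J : Ideal S, J = I.map (algebraMap R S) := ⟨_, rfl⟩
  rw [← hJ]
  have fgI : I.FG := IsNoetherian.noetherian I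
  have fgJ : J.FG := hJ ▸ fgI.map _
  -- `E` is complete
  have hc0 : IsAdicComplete I (AdicCompletion I S) := AdicCompletion.isAdicComplete fgI
  have hcE0 : IsAdicComplete I (AdicCompletion I R ⊗[R] S) :=
    Groth.Agent.Lib.Helper14.ComplLoc.isAdicComplete_of_linearEquiv I
      ((AdicCompletion.ofTensorProductEquivOfFiniteNoetherian I S).restrictScalars R).symm
  obtain ⟨JE, hJE⟩ : ∃ JE : Ideal (AdicCompletion I R ⊗[R] S),
      JE = I.map (algebraMap R (AdicCompletion I R ⊗[R] S)) := ⟨_, rfl⟩
  haveI hcE : IsAdicComplete JE (AdicCompletion I R ⊗[R] S) := by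
    rw [hJE]
    exact (IsAdicComplete.map_algebraMap_iff (I := I) (S := AdicCompletion I R ⊗[R] S)
      (M := AdicCompletion I R ⊗[R] S)).mpr hcE0
  obtain ⟨JS, hJS⟩ : ∃ JS : Ideal (AdicCompletion J S),
      JS = J.map (algebraMap S (AdicCompletion J S)) := ⟨_, rfl⟩
  haveI hcS : IsAdicComplete JS (AdicCompletion J S) := by
    rw [hJS]
    exact AdicCompletion.isAdicComplete_self J fgJ
  -- membership facts
  have hIJS : ∀ i ∈ I, algebraMap R (AdicCompletion J S) i ∈ JS := by
    intro i hi
    rw [hJS]
    have : algebraMap R (AdicCompletion J S) i =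
        algebraMap S (AdicCompletion J S) (algebraMap R S i) := rfl
    rw [this]
    refine Ideal.mem_map_of_mem _ ?_
    rw [hJ]
    exact Ideal.mem_map_of_mem _ hi
  have hincl : ∀ s : S, (Algebra.TensorProduct.includeRight :
      S →ₐ[R] AdicCompletion I R ⊗[R] S) s = (1 : AdicCompletion I R) ⊗ₜ[R] s := fun s => rfl
  have hJJE : ∀ j ∈ J, (1 : AdicCompletion I R) ⊗ₜ[R] j ∈ JE := by
    intro j hj
    have hle : J ≤ JE.comap (Algebra.TensorProduct.includeRight :
        S →ₐ[R] AdicCompletion I R ⊗[R] S).toRingHom := by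
      rw [hJ, Ideal.map_le_iff_le_comap]
      intro i hi
      rw [Ideal.mem_comap, Ideal.mem_comap, hJE]
      have : (Algebra.TensorProduct.includeRight :
          S →ₐ[R] AdicCompletion I R ⊗[R] S).toRingHom (algebraMap R S i) =
          algebraMap R (AdicCompletion I R ⊗[R] S) i :=
        (Algebra.TensorProduct.includeRight :
          S →ₐ[R] AdicCompletion I R ⊗[R] S).commutes i
      rw [this]
      exact Ideal.mem_map_of_mem _ hi
    exact hle hj
  -- the map `Â → Ŝ`
  obtain ⟨Ψ₁, hΨ₁⟩ := Groth.Agent.Lib.Helper19.exists_algHom_adicCompletion (R := R) (S := R)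
    (T := AdicCompletion J S) I JS (Algebra.ofId R _) (by
      rw [Ideal.map_le_iff_le_comap]
      intro i hi
      rw [Ideal.mem_comap]
      exact hIJS i hi)
  have hΨ₁' : ∀ a : R, Ψ₁ (AdicCompletion.of I R a) = algebraMap R (AdicCompletion J S) a :=
    fun a => hΨ₁ a
  -- the map `S → Ŝ` as an `R`-algebra map
  let ι : S →ₐ[R] AdicCompletion J S :=
    { (algebraMap S (AdicCompletion J S)) with
      commutes' := fun r => rfl }
  have hι : ∀ s, ι s = algebraMap S (AdicCompletion J S) s := fun s => rfl
  let ψ : (AdicCompletion I R ⊗[R] S) →ₐ[R] AdicCompletion J S :=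
    Algebra.TensorProduct.lift Ψ₁ ι (fun _ _ => Commute.all _ _)
  have hψ : ∀ (a : AdicCompletion I R) (s : S), ψ (a ⊗ₜ[R] s) = Ψ₁ a * ι s := fun a s =>
    Algebra.TensorProduct.lift_tmul _ _ _ a s
  -- the map `Ŝ → E`
  obtain ⟨χ, hχ⟩ := Groth.Agent.Lib.Helper19.exists_algHom_adicCompletion (R := R) (S := S)
    (T := AdicCompletion I R ⊗[R] S) J JE Algebra.TensorProduct.includeRight (by
      rw [Ideal.map_le_iff_le_comap]
      intro j hj
      rw [Ideal.mem_comap]
      exact hJJE j hj)
  have hχ' : ∀ s : S, χ (AdicCompletion.of J S s) = (1 : AdicCompletion I R) ⊗ₜ[R] s :=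
    fun s => hχ s
  -- `ψ ∘ χ = id`
  have h1 : ψ.toRingHom.comp χ.toRingHom = RingHom.id (AdicCompletion J S) := by
    apply Groth.Agent.Lib.Helper28.adicCompletion_ringHom_ext J fgJ JS
    · intro j hj
      change ψ (χ (AdicCompletion.of J S j)) ∈ JS
      rw [hχ', hψ, map_one, one_mul, hι, hJS]
      exact Ideal.mem_map_of_mem _ hj
    · intro s
      change ψ (χ (AdicCompletion.of J S s)) = AdicCompletion.of J S s
      rw [hχ', hψ, map_one, one_mul, hι]
      rfl
  -- `χ ∘ ψ = id`
  have h2a : ∀ a : AdicCompletion I R, χ (Ψ₁ a) = a ⊗ₜ[R] (1 : S) := by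
    have key : (χ.toRingHom.comp Ψ₁.toRingHom) =
        (Algebra.TensorProduct.includeLeft : AdicCompletion I R →ₐ[R]
          AdicCompletion I R ⊗[R] S).toRingHom := by
      apply Groth.Agent.Lib.Helper28.adicCompletion_ringHom_ext I fgI JE
      · intro i hi
        change χ (Ψ₁ (AdicCompletion.of I R i)) ∈ JE
        rw [hΨ₁']
        have : algebraMap R (AdicCompletion J S) i = AdicCompletion.of J S (algebraMap R S i) :=
          rfl
        rw [this, hχ']
        refine hJJE _ ?_
        rw [hJ]
        exact Ideal.mem_map_of_mem _ hi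
      · intro a
        change χ (Ψ₁ (AdicCompletion.of I R a)) = (AdicCompletion.of I R a) ⊗ₜ[R] (1 : S)
        rw [hΨ₁']
        have : algebraMap R (AdicCompletion J S) a = AdicCompletion.of J S (algebraMap R S a) :=
          rfl
        rw [this, hχ']
        have e1 : AdicCompletion.of I R a = a • (1 : AdicCompletion I R) := by
          rw [← Algebra.algebraMap_eq_smul_one]
          rfl
        rw [e1, Algebra.algebraMap_eq_smul_one, TensorProduct.smul_tmul]
    intro a
    exact RingHom.congr_fun key a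
  have h2 : χ.toRingHom.comp ψ.toRingHom = RingHom.id (AdicCompletion I R ⊗[R] S) := by
    have key : ∀ y : AdicCompletion I R ⊗[R] S, χ (ψ y) = y := by
      intro y
      induction y using TensorProduct.induction_on with
      | zero => simp
      | tmul a s =>
        rw [hψ, map_mul, h2a, hι]
        have : algebraMap S (AdicCompletion J S) s = AdicCompletion.of J S s := rfl
        rw [this, hχ', Algebra.TensorProduct.tmul_mul_tmul, mul_one, one_mul]
      | add x y hx hy => rw [map_add, map_add, hx, hy]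
    exact RingHom.ext key
  refine ⟨RingEquiv.ofRingHom ψ.toRingHom χ.toRingHom h1 h2, ?_⟩
  intro s
  change ψ ((1 : AdicCompletion I R) ⊗ₜ[R] s) = _
  rw [hψ, map_one, one_mul, hι]

end Groth.Agent.Lib.T2H8.ComplFinAlg
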