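import Mathlib
import Groth.Agent.Lib.Helper28FlatNormal
import Groth.Agent.Lib.Helper28FormalFibres
import Groth.Agent.Lib.Helper6NormInt
import Groth.Agent.Lib.Helper7CplDom
import Groth.Agent.Lib.Helper28OnePlus2
import Groth.Agent.Lib.T2H3QfLocB

/-!
# Descent of normality along a flat base change of a finite extension (helper8)

Let `B` be a Noetherian normal ring, `B ⊆ C` a finite `B`-algebra and `B'` a Noetherian flat
`B`-algebra such that `B' ⊗[B] C` is a normal ring. Then `B'` is a normal ring.
-/

set_option autoImplicit false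
set_option linter.style.haveILetI false
set_option linter.unusedSectionVars false
universe u

namespace Groth.Agent.Lib.T2H8.NormDescFin
open TensorProduct

theorem congr_ideal {R : Type u} [CommRing R] {q1 q2 : Ideal R} [q1.IsPrime] [q2.IsPrime]
    (h : q1 = q2)
    (H : IsDomain (Localization.AtPrime q1) ∧ IsIntegrallyClosed (Localization.AtPrime q1)) :
    IsDomain (Localization.AtPrime q2) ∧ IsIntegrallyClosed (Localization.AtPrime q2) := by
  subst h; exact H

section Key

variable {B B' C : Type u} [CommRing B] [CommRing B'] [CommRing C]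
  [IsNoetherianRing B] [IsNoetherianRing B'] [Algebra B B'] [Module.Flat B B']
  [Algebra B C] [Module.Finite B C]

attribute [local instance] Algebra.TensorProduct.rightAlgebra

/-- Key claim: at primes of `B'` lying over primes of height `≤ 1`, `B'` is normal. -/
theorem key (hinj : Function.Injective (algebraMap B C)) (hB : EGA4.IsNormalRing B)
    (hT : EGA4.IsNormalRing (B' ⊗[B] C)) (Q : Ideal B') [Q.IsPrime]
    (hP : (Q.comap (algebraMap B B')).height ≤ 1) :
    IsDomain (Localization.AtPrime Q) ∧ IsIntegrallyClosed (Localization.AtPrime Q) := by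
  classical
  haveI hPprime : (Q.comap (algebraMap B B')).IsPrime := Ideal.comap_isPrime _ _
  set P : Ideal B := Q.comap (algebraMap B B') with hPdef
  haveI hTnoeth : IsNoetherianRing (B' ⊗[B] C) := IsNoetherianRing.of_finite B' _
  haveI hTint : Algebra.IsIntegral B' (B' ⊗[B] C) := Algebra.IsIntegral.of_finite B' _
  have hinjT : Function.Injective (algebraMap B' (B' ⊗[B] C)) :=
    Algebra.TensorProduct.includeLeft_injective (S := B') hinj
  -- Step A: the minimal prime below `P`
  obtain ⟨hBPdom, hBPic⟩ := hB P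
  let p₀ : Ideal B := RingHom.ker (algebraMap B (Localization.AtPrime P))
  haveI hp₀ : p₀.IsPrime := RingHom.ker_isPrime _
  have hp₀P : p₀ ≤ P := by
    intro x hx
    by_contra hxP
    have hu : IsUnit (algebraMap B (Localization.AtPrime P) x) :=
      IsLocalization.map_units (Localization.AtPrime P) (⟨x, hxP⟩ : P.primeCompl)
    rw [RingHom.mem_ker] at hx
    rw [hx] at hu
    exact not_isUnit_zero hu
  -- Step B: going down
  haveI hQP : Q.LiesOver P := ⟨rfl⟩
  obtain ⟨q₀, hq₀Q, hq₀prime, hq₀over⟩ :=
    Ideal.exists_ideal_le_liesOver_of_le (p := p₀) (q := P) Q hp₀P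
  haveI := hq₀prime
  have hq₀c : q₀.comap (algebraMap B B') = p₀ := (hq₀over.over).symm
  -- Step C: lying over and going up in `T`
  obtain ⟨Q'₀, -, hQ'₀prime, hQ'₀c⟩ :=
    Ideal.exists_ideal_over_prime_of_isIntegral (S := B' ⊗[B] C) q₀ (⊥ : Ideal (B' ⊗[B] C)) (by
      rw [← RingHom.ker_eq_comap_bot, (RingHom.injective_iff_ker_eq_bot _).mp hinjT]
      exact bot_le)
  haveI := hQ'₀prime
  obtain ⟨Q', hQ'₀Q', hQ'prime, hQ'c⟩ :=
    Ideal.exists_ideal_over_prime_of_isIntegral (S := B' ⊗[B] C) Q Q'₀ (by
      rw [hQ'₀c]; exact hq₀Q)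
  haveI := hQ'prime
  -- Step D: contractions to `C`
  haveI hP'prime : (Q'.comap (algebraMap C (B' ⊗[B] C))).IsPrime := Ideal.comap_isPrime _ _
  haveI hP'₀prime : (Q'₀.comap (algebraMap C (B' ⊗[B] C))).IsPrime := Ideal.comap_isPrime _ _
  set P' : Ideal C := Q'.comap (algebraMap C (B' ⊗[B] C)) with hP'def
  set P'₀ : Ideal C := Q'₀.comap (algebraMap C (B' ⊗[B] C)) with hP'₀def
  have hP'₀P' : P'₀ ≤ P' := Ideal.comap_mono hQ'₀Q'
  have hcomm : (algebraMap C (B' ⊗[B] C)).comp (algebraMap B C) =
      (algebraMap B' (B' ⊗[B] C)).comp (algebraMap B B') := by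
    ext b
    change (1 : B') ⊗ₜ[B] (algebraMap B C b) = (algebraMap B B' b) ⊗ₜ[B] (1 : C)
    rw [Algebra.algebraMap_eq_smul_one, Algebra.algebraMap_eq_smul_one, TensorProduct.smul_tmul]
  have hP'₀c : P'₀.comap (algebraMap B C) = p₀ := by
    rw [hP'₀def, Ideal.comap_comap, hcomm, ← Ideal.comap_comap, hQ'₀c, hq₀c]
  have hP'c : P'.comap (algebraMap B C) = P := by
    rw [hP'def, Ideal.comap_comap, hcomm, ← Ideal.comap_comap, hQ'c]
  -- Step E: `C_{P'}` is a domain
  haveI hflatC : Module.Flat C (B' ⊗[B] C) :=
    Groth.Agent.Lib.T2H3.QfLoc.flat_right (R := B) (S := C) (R' := B')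
  obtain ⟨algE, hlocE, hflatE, -⟩ :=
    Groth.Agent.Lib.Helper28.exists_algebra_localization_flat (A := C) (B := B' ⊗[B] C) Q'
  haveI hTQ'dom : IsDomain (Localization.AtPrime Q') := (hT Q').1
  haveI hffE : Module.FaithfullyFlat (Localization.AtPrime P') (Localization.AtPrime Q') :=
    Module.FaithfullyFlat.of_flat_of_isLocalHom
  have hinjE : Function.Injective
      (algebraMap (Localization.AtPrime P') (Localization.AtPrime Q')) :=
    FaithfulSMul.algebraMap_injective _ _
  haveI hCP'dom : IsDomain (Localization.AtPrime P') := hinjE.isDomain _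
  -- Step F: `C_{P'}` is flat over `B`
  haveI hlies : P'.LiesOver P := ⟨hP'c.symm⟩
  letI algF : Algebra (Localization.AtPrime P) (Localization.AtPrime P') :=
    Localization.AtPrime.algebraOfLiesOver P P'
  have hinjF : Function.Injective
      (algebraMap (Localization.AtPrime P) (Localization.AtPrime P')) := by
    rw [injective_iff_map_eq_zero]
    intro x hx
    obtain ⟨b, s, rfl⟩ := IsLocalization.exists_mk'_eq P.primeCompl x
    have h1 : algebraMap B (Localization.AtPrime P') b = 0 := by
      have h0 := IsLocalization.mk'_spec (Localization.AtPrime P) b s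
      have h2 := congrArg (algebraMap (Localization.AtPrime P) (Localization.AtPrime P')) h0
      rw [map_mul, hx, zero_mul, ← IsScalarTower.algebraMap_apply] at h2
      exact h2.symm
    have h3 : b ∈ p₀ := by
      rw [IsScalarTower.algebraMap_apply B C (Localization.AtPrime P'),
        IsLocalization.map_eq_zero_iff P'.primeCompl] at h1
      obtain ⟨m, hm⟩ := h1
      have hmem : (m : C) * algebraMap B C b ∈ P'₀ := by rw [hm]; exact zero_mem _
      have hm' : (m : C) ∉ P'₀ := fun h => m.2 (hP'₀P' h)
      have h4 := (hP'₀prime.mem_or_mem hmem).resolve_left hm'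
      rw [← hP'₀c]
      exact h4
    rw [IsLocalization.mk'_eq_iff_eq_mul, zero_mul]
    exact h3
  haveI hBPnoeth : IsNoetherianRing (Localization.AtPrime P) :=
    IsLocalization.isNoetherianRing P.primeCompl _ inferInstance
  have hdimBP : ringKrullDim (Localization.AtPrime P) ≤ 1 := by
    rw [IsLocalization.AtPrime.ringKrullDim_eq_height P]
    exact_mod_cast hP
  haveI hd : Ring.DimensionLEOne (Localization.AtPrime P) :=
    ⟨fun {p} hp0 hp => (Ring.krullDimLE_one_iff_of_noZeroDivisors.mp
      (Ring.krullDimLE_iff.mpr hdimBP)) p hp0 hp⟩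
  haveI hDed : IsDedekindDomain (Localization.AtPrime P) := { hBPdom, hBPnoeth, hd, hBPic with }
  haveI htf : Module.IsTorsionFree (Localization.AtPrime P) (Localization.AtPrime P') :=
    Module.isTorsionFree_iff_algebraMap_injective.mpr hinjF
  haveI hflatF : Module.Flat (Localization.AtPrime P) (Localization.AtPrime P') := inferInstance
  haveI hflatBP : Module.Flat B (Localization.AtPrime P) := IsLocalization.flat _ P.primeCompl
  haveI hflatCP' : Module.Flat B (Localization.AtPrime P') :=
    Module.Flat.trans B (Localization.AtPrime P) _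
  -- Step G: `T₁ = B' ⊗ C_{P'}`
  let f : (B' ⊗[B] C) →ₐ[B'] (B' ⊗[B] Localization.AtPrime P') :=
    Algebra.TensorProduct.map (AlgHom.id B' B')
      (IsScalarTower.toAlgHom B C (Localization.AtPrime P'))
  letI algT₁ : Algebra (B' ⊗[B] C) (B' ⊗[B] Localization.AtPrime P') := f.toRingHom.toAlgebra
  haveI hst : IsScalarTower B' (B' ⊗[B] C) (B' ⊗[B] Localization.AtPrime P') :=
    IsScalarTower.of_algebraMap_eq (fun b' => (f.commutes b').symm)
  have hloc₁ : IsLocalization
      (P'.primeCompl.map (Algebra.TensorProduct.includeRight (R := B) (A := B') (B := C)))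
      (B' ⊗[B] Localization.AtPrime P') :=
    IsLocalization.tensorProduct_tensorProduct_right B B' P'.primeCompl
      (Localization.AtPrime P') (by
        ext c
        change f ((1 : B') ⊗ₜ[B] c) = (1 : B') ⊗ₜ[B] (algebraMap C (Localization.AtPrime P') c)
        simp [f])
  -- Step H: the prime of `T₁`
  have hdisj : Disjoint
      ((P'.primeCompl.map (Algebra.TensorProduct.includeRight (R := B) (A := B') (B := C)) :
        Submonoid (B' ⊗[B] C)) : Set (B' ⊗[B] C)) (Q' : Set (B' ⊗[B] C)) := by
    rw [Set.disjoint_left]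
    rintro x ⟨c, hc, rfl⟩ hxQ'
    exact hc hxQ'
  haveI hQ'₁prime : (Q'.map (algebraMap (B' ⊗[B] C)
      (B' ⊗[B] Localization.AtPrime P'))).IsPrime :=
    IsLocalization.isPrime_of_isPrime_disjoint _ _ Q' hQ'prime hdisj
  have hQ'₁c : (Q'.map (algebraMap (B' ⊗[B] C) (B' ⊗[B] Localization.AtPrime P'))).comap
      (algebraMap (B' ⊗[B] C) (B' ⊗[B] Localization.AtPrime P')) = Q' :=
    IsLocalization.under_map_of_isPrime_disjoint _ _ hQ'prime hdisj
  set Q'₁ : Ideal (B' ⊗[B] Localization.AtPrime P') :=
    Q'.map (algebraMap (B' ⊗[B] C) (B' ⊗[B] Localization.AtPrime P')) with hQ'₁def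
  have hQ₁ : Q'₁.comap (algebraMap B' (B' ⊗[B] Localization.AtPrime P')) = Q := by
    rw [IsScalarTower.algebraMap_eq B' (B' ⊗[B] C) (B' ⊗[B] Localization.AtPrime P'),
      ← Ideal.comap_comap, hQ'₁c, hQ'c]
  -- Step I: faithfully flat descent
  haveI hflatT₁ : Module.Flat B' (B' ⊗[B] Localization.AtPrime P') := inferInstance
  obtain ⟨algI, hlocI, hflatI, -⟩ :=
    Groth.Agent.Lib.Helper28.exists_algebra_localization_flat (A := B')
      (B := B' ⊗[B] Localization.AtPrime P') Q'₁
  haveI hffI : Module.FaithfullyFlat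
      (Localization.AtPrime (Q'₁.comap (algebraMap B' (B' ⊗[B] Localization.AtPrime P'))))
      (Localization.AtPrime Q'₁) :=
    @Module.FaithfullyFlat.of_flat_of_isLocalHom _ _ _ _ algI _ _ hflatI hlocI
  haveI hT₁noeth : IsNoetherianRing (B' ⊗[B] Localization.AtPrime P') :=
    IsLocalization.isNoetherianRing
      (P'.primeCompl.map (Algebra.TensorProduct.includeRight (R := B) (A := B') (B := C))) _ hTnoeth
  have hT₁ : EGA4.IsNormalRing (B' ⊗[B] Localization.AtPrime P') :=
    Groth.Agent.Lib.Helper6.NormInt.isNormalRing_of_isLocalization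
      (P'.primeCompl.map (Algebra.TensorProduct.includeRight (R := B) (A := B') (B := C))) _ hT
  obtain ⟨hd1, hic1⟩ := hT₁ Q'₁
  haveI hT₁Qnoeth : IsNoetherianRing (Localization.AtPrime Q'₁) :=
    IsLocalization.isNoetherianRing Q'₁.primeCompl _ hT₁noeth
  have hN1 : EGA4.IsNormalRing (Localization.AtPrime Q'₁) :=
    Groth.Agent.Lib.Helper28.OnePlus.isNormalRing_of_isIntegrallyClosed _
  have hN2 : EGA4.IsNormalRing
      (Localization.AtPrime (Q'₁.comap (algebraMap B' (B' ⊗[B] Localization.AtPrime P')))) :=
    Groth.Agent.Lib.Helper28.isNormalRing_of_faithfullyFlat hN1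
  haveI hdom2 := Groth.Agent.Lib.Helper7.CplDom.isDomain_of_isNormalRing_of_isLocalRing _ hN2
  have hic2 := Groth.Agent.Lib.Helper28.OnePlus.isIntegrallyClosed_of_isNormalRing _ hN2
  exact congr_ideal hQ₁ ⟨hdom2, hic2⟩

end Key

section Main

variable {B B' C : Type u} [CommRing B] [CommRing B'] [CommRing C]
  [IsNoetherianRing B] [IsNoetherianRing B'] [Algebra B B'] [Module.Flat B B']
  [Algebra B C] [Module.Finite B C]

open Groth.Agent.Lib.Helper28 in
/-- **Descent of normality**: `B` Noetherian normal, `B ⊆ C` finite, `B'` Noetherian flat over `B`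
with `B' ⊗[B] C` normal; then `B'` is normal. -/
theorem isNormalRing_of_tensor_finite (hinj : Function.Injective (algebraMap B C))
    (hB : EGA4.IsNormalRing B) (hT : EGA4.IsNormalRing (B' ⊗[B] C)) : EGA4.IsNormalRing B' := by
  have hK : ∀ (Q : Ideal B') [Q.IsPrime], (Q.comap (algebraMap B B')).height ≤ 1 →
      IsDomain (Localization.AtPrime Q) ∧ IsIntegrallyClosed (Localization.AtPrime Q) :=
    fun Q _ h => key hinj hB hT Q h
  refine (forall_isIntegrallyClosed_localization_iff_hasRk_one_and_hasSk_two B').mpr ⟨?_, ?_⟩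
  · -- (R1)
    intro Q hQ hht
    have hloc : IsLocalRing (EGA4.FibLocRing B B' Q) := isLocalRing_fibLocRing Q
    have hh := height_eq_height_fibLocRing_add (A := B) Q
    have hP1 : (Q.comap (algebraMap B B')).height ≤ 1 := by
      have h1 : (Q.comap (algebraMap B B')).height ≤ Q.height := by
        rw [hh]; exact le_add_self
      exact h1.trans (by exact_mod_cast hht)
    obtain ⟨hdom, hic⟩ := hK Q hP1
    haveI : IsNoetherianRing (Localization.AtPrime Q) :=
      IsLocalization.isNoetherianRing Q.primeCompl _ inferInstance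
    apply isRegularLocalRing_of_isIntegrallyClosed_of_dim_le_one
    rw [IsLocalization.AtPrime.ringKrullDim_eq_height Q]
    exact_mod_cast hht
  · -- (S2)
    rw [hasSk_self_iff]
    intro Q hQ
    haveI : IsNoetherianRing (Localization.AtPrime Q) :=
      IsLocalization.isNoetherianRing Q.primeCompl _ inferInstance
    by_cases hP1 : (Q.comap (algebraMap B B')).height ≤ 1
    · obtain ⟨hdom, hic⟩ := hK Q hP1
      have hA := (forall_isIntegrallyClosed_localization_iff_hasRk_one_and_hasSk_two
        (Localization.AtPrime Q)).mp (fun P' _ => ⟨inferInstance,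
          isIntegrallyClosed_of_isLocalization _ P'.primeCompl P'.primeCompl_le_nonZeroDivisors⟩)
      exact (hasSk_localization_atPrime_iff 2 Q).mp hA.2 Q le_rfl
    · push Not at hP1
      haveI hPprime : (Q.comap (algebraMap B B')).IsPrime := Ideal.comap_isPrime _ _
      have h2 : (2 : ℕ∞) ≤ (Q.comap (algebraMap B B')).height := by
        have := Order.add_one_le_of_lt hP1
        rwa [one_add_one_eq_two] at this
      obtain ⟨hdomP, hicP⟩ := hB (Q.comap (algebraMap B B'))
      haveI : IsNoetherianRing (Localization.AtPrime (Q.comap (algebraMap B B'))) :=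
        IsLocalization.isNoetherianRing (Q.comap (algebraMap B B')).primeCompl _ inferInstance
      have hdim : (2 : WithBot ℕ∞) ≤
          ringKrullDim (Localization.AtPrime (Q.comap (algebraMap B B'))) := by
        rw [IsLocalization.AtPrime.ringKrullDim_eq_height (Q.comap (algebraMap B B'))]
        have := WithBot.coe_le_coe.mpr h2
        simpa using this
      have hd := two_le_depth_of_isIntegrallyClosed_of_two_le_dim hdim
      have hloc : IsLocalRing (EGA4.FibLocRing B B' Q) := isLocalRing_fibLocRing Q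
      have hdepth := depth_localization_eq_add_fibLocRing (A := B) Q
      refine (min_le_left _ _).trans ?_
      have h3 : (2 : ℕ∞) ≤ LocCoh.depth (Localization.AtPrime Q) (Localization.AtPrime Q) := by
        rw [hdepth]
        exact hd.trans le_self_add
      have := WithBot.coe_le_coe.mpr h3
      simpa using this

end Main

end Groth.Agent.Lib.T2H8.NormDescFin
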