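import Mathlib
import Groth.Agent.Lib.T2H8ComplFinAlg
import Groth.Agent.Lib.T2H8NormDescFin
import Groth.Agent.Lib.Helper19ComplNoeth

/-!
# Normality of the completion of a finite subalgebra (helper8)

`A` Noetherian local, `B ⊆ C` finite `A`-algebras, `B` normal, `Ĉ` normal ⟹ `B̂` normal.
-/

set_option autoImplicit false
set_option linter.style.haveILetI false
universe u

namespace Groth.Agent.Lib.T2H8.ComplNormSub
open TensorProduct

theorem main (A : Type u) [CommRing A] [IsLocalRing A] [IsNoetherianRing A]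
    (B C : Type u) [CommRing B] [CommRing C] [Algebra A B] [Algebra A C] [Algebra B C]
    [IsScalarTower A B C]
    [Module.Finite A B] [Module.Finite A C] (hinj : Function.Injective (algebraMap B C))
    (hB : EGA4.IsNormalRing B)
    (hC : EGA4.IsNormalRing
      (AdicCompletion ((IsLocalRing.maximalIdeal A).map (algebraMap A C)) C)) :
    EGA4.IsNormalRing (AdicCompletion ((IsLocalRing.maximalIdeal A).map (algebraMap A B)) B) := by
  classical
  haveI hÂ : IsNoetherianRing (AdicCompletion (IsLocalRing.maximalIdeal A) A) :=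
    Groth.Agent.Lib.Helper19.isNoetherianRing_adicCompletion _
  haveI hBn : IsNoetherianRing B := IsNoetherianRing.of_finite A B
  haveI hBC : Module.Finite B C := Module.Finite.of_restrictScalars_finite A B C
  haveI hfl : Module.Flat A (AdicCompletion (IsLocalRing.maximalIdeal A) A) :=
    AdicCompletion.flat_of_isNoetherian _
  haveI hflB : Module.Flat B (B ⊗[A] AdicCompletion (IsLocalRing.maximalIdeal A) A) :=
    inferInstance
  haveI hN1 : IsNoetherianRing (AdicCompletion (IsLocalRing.maximalIdeal A) A ⊗[A] B) :=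
    IsNoetherianRing.of_finite (AdicCompletion (IsLocalRing.maximalIdeal A) A) _
  haveI hN2 : IsNoetherianRing (B ⊗[A] AdicCompletion (IsLocalRing.maximalIdeal A) A) :=
    isNoetherianRing_of_ringEquiv (AdicCompletion (IsLocalRing.maximalIdeal A) A ⊗[A] B)
      (Algebra.TensorProduct.comm A (AdicCompletion (IsLocalRing.maximalIdeal A) A) B).toRingEquiv
  obtain ⟨eB, -⟩ := Groth.Agent.Lib.T2H8.ComplFinAlg.exists_ringEquiv_tensor_adicCompletion
    (IsLocalRing.maximalIdeal A) B
  obtain ⟨eC, -⟩ := Groth.Agent.Lib.T2H8.ComplFinAlg.exists_ringEquiv_tensor_adicCompletion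
    (IsLocalRing.maximalIdeal A) C
  let e1 : ((B ⊗[A] AdicCompletion (IsLocalRing.maximalIdeal A) A) ⊗[B] C) ≃+*
      (C ⊗[B] (B ⊗[A] AdicCompletion (IsLocalRing.maximalIdeal A) A)) :=
    (Algebra.TensorProduct.comm B (B ⊗[A] AdicCompletion (IsLocalRing.maximalIdeal A) A)
      C).toRingEquiv
  let e2 : (C ⊗[B] (B ⊗[A] AdicCompletion (IsLocalRing.maximalIdeal A) A)) ≃+*
      (C ⊗[A] AdicCompletion (IsLocalRing.maximalIdeal A) A) :=
    (Algebra.TensorProduct.cancelBaseChange A B B C
      (AdicCompletion (IsLocalRing.maximalIdeal A) A)).toRingEquiv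
  let e3 : (C ⊗[A] AdicCompletion (IsLocalRing.maximalIdeal A) A) ≃+*
      (AdicCompletion (IsLocalRing.maximalIdeal A) A ⊗[A] C) :=
    (Algebra.TensorProduct.comm A C (AdicCompletion (IsLocalRing.maximalIdeal A) A)).toRingEquiv
  have hT : EGA4.IsNormalRing
      ((B ⊗[A] AdicCompletion (IsLocalRing.maximalIdeal A) A) ⊗[B] C) :=
    Groth.Agent.Lib.Helper28.isNormalRing_of_ringEquiv
      ((e1.trans e2).trans (e3.trans eC)).symm hC
  have hB' : EGA4.IsNormalRing (B ⊗[A] AdicCompletion (IsLocalRing.maximalIdeal A) A) :=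
    Groth.Agent.Lib.T2H8.NormDescFin.isNormalRing_of_tensor_finite hinj hB hT
  exact Groth.Agent.Lib.Helper28.isNormalRing_of_ringEquiv
    ((Algebra.TensorProduct.comm A B
      (AdicCompletion (IsLocalRing.maximalIdeal A) A)).toRingEquiv.trans eB) hB'

end Groth.Agent.Lib.T2H8.ComplNormSub
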