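import Mathlib
import Groth.Agent.Lib.Helper25FinQuot

/-!
# Freeness of a Hopf algebra over the invariants of a quotient Hopf algebra (helper8)

`A` a commutative Hopf algebra, `π : A → C` a bialgebra map to a commutative Hopf algebra,
`ρ = (id ⊗ π) ∘ Δ` the induced right coaction, `B = A^{co C}` the invariants. If `a₁, …, aₙ ∈ A` are
such that `ρ(a₁), …, ρ(aₙ)` is an `A`-basis of `A ⊗ C`, then `a₁, …, aₙ` is a `B`-basis of `A`
(Mumford, Abelian varieties, §12, Theorem 1(B)).
-/

set_option autoImplicit false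
universe u v w

namespace Groth.Agent.Lib.T2H8.HInv

open TensorProduct WithConv Groth.Agent.Lib.Helper25

section Setup

variable {R : Type u} [CommRing R] {A : Type v} [CommRing A] [HopfAlgebra R A]
  {C : Type w} [CommRing C] [HopfAlgebra R C] (π : A →ₐc[R] C)

/-- The right coaction of `C` on `A` induced by `π`. -/
noncomputable def rho : A →ₐ[R] A ⊗[R] C :=
  (Algebra.TensorProduct.map (AlgHom.id R A) (π : A →ₐ[R] C)).comp (Bialgebra.comulAlgHom R A)

theorem rho_apply (a : A) : rho π a =
    Algebra.TensorProduct.map (AlgHom.id R A) (π : A →ₐ[R] C) (Coalgebra.comul a) := rfl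

/-- The invariants. -/
noncomputable def inv : Subalgebra R A :=
  AlgHom.equalizer (rho π) (Algebra.TensorProduct.includeLeft : A →ₐ[R] A ⊗[R] C)

theorem mem_inv_iff (a : A) : a ∈ inv π ↔ rho π a = a ⊗ₜ[R] (1 : C) := Iff.rfl

theorem rid_counit_rho (a : A) :
    Algebra.TensorProduct.rid R R A
      (Algebra.TensorProduct.map (AlgHom.id R A) (Bialgebra.counitAlgHom R C) (rho π a)) = a := by
  have h1 : ∀ t : A ⊗[R] A,
      Algebra.TensorProduct.map (AlgHom.id R A) (Bialgebra.counitAlgHom R C)
        (Algebra.TensorProduct.map (AlgHom.id R A) (π : A →ₐ[R] C) t) =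
      LinearMap.lTensor A Coalgebra.counit t := by
    intro t
    induction t using TensorProduct.induction_on with
    | zero => simp
    | add x y hx hy => simp only [map_add, hx, hy]
    | tmul a b => simp
  rw [rho_apply, h1, Coalgebra.lTensor_counit_comul]
  simp

/-- `F(g, h) ↦ F(g h', h)`. -/
noncomputable def Pmap : A ⊗[R] C →ₐ[R] (A ⊗[R] C) ⊗[R] C :=
  Algebra.TensorProduct.map (rho π) (AlgHom.id R C)

variable (R A C) in
/-- `F(g, h) ↦ F(g, h' h)`. -/
noncomputable def Qmap : A ⊗[R] C →ₐ[R] (A ⊗[R] C) ⊗[R] C :=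
  ((Algebra.TensorProduct.assoc R R R A C C).symm : A ⊗[R] (C ⊗[R] C) →ₐ[R] (A ⊗[R] C) ⊗[R] C).comp
    (Algebra.TensorProduct.map (AlgHom.id R A) (Bialgebra.comulAlgHom R C))

theorem Pmap_rho (a : A) : Pmap π (rho π a) = Qmap R A C (rho π a) := by
  have h1 : ∀ t : A ⊗[R] A, Pmap π (Algebra.TensorProduct.map (AlgHom.id R A) (π : A →ₐ[R] C) t) =
      Algebra.TensorProduct.map (Algebra.TensorProduct.map (AlgHom.id R A) (π : A →ₐ[R] C))
        (π : A →ₐ[R] C) (LinearMap.rTensor A Coalgebra.comul t) := by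
    intro t
    induction t using TensorProduct.induction_on with
    | zero => simp
    | add x y hx hy => simp only [map_add, hx, hy]
    | tmul a b => simp [Pmap, rho_apply]
  have h2 : ∀ (a : A) (s : A ⊗[R] A),
      (Algebra.TensorProduct.assoc R R R A C C).symm
        (a ⊗ₜ[R] Algebra.TensorProduct.map (π : A →ₐ[R] C) (π : A →ₐ[R] C) s) =
      Algebra.TensorProduct.map (Algebra.TensorProduct.map (AlgHom.id R A) (π : A →ₐ[R] C))
        (π : A →ₐ[R] C) ((TensorProduct.assoc R A A A).symm (a ⊗ₜ[R] s)) := by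
    intro a s
    induction s using TensorProduct.induction_on with
    | zero => simp
    | add x y hx hy => simp only [map_add, tmul_add, hx, hy]
    | tmul b c => simp
  have h3 : ∀ t : A ⊗[R] A,
      Qmap R A C (Algebra.TensorProduct.map (AlgHom.id R A) (π : A →ₐ[R] C) t) =
      Algebra.TensorProduct.map (Algebra.TensorProduct.map (AlgHom.id R A) (π : A →ₐ[R] C))
        (π : A →ₐ[R] C) ((TensorProduct.assoc R A A A).symm
          (LinearMap.lTensor A Coalgebra.comul t)) := by
    intro t
    induction t using TensorProduct.induction_on with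
    | zero => simp
    | add x y hx hy => simp only [map_add, hx, hy]
    | tmul a b =>
      have h4 : Coalgebra.comul (R := R) ((π : A →ₐ[R] C) b) =
          Algebra.TensorProduct.map (π : A →ₐ[R] C) (π : A →ₐ[R] C) (Coalgebra.comul b) :=
        (CoalgHomClass.map_comp_comul_apply π b).symm
      simp only [Qmap, AlgHom.comp_apply, Algebra.TensorProduct.map_tmul, AlgHom.id_apply,
        Bialgebra.comulAlgHom_apply, LinearMap.lTensor_tmul]
      rw [h4]
      exact h2 a _
  rw [rho_apply, h1, h3, Coalgebra.coassoc_symm_apply]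

variable (R A C) in
/-- The universal translation `F(g, h', h) ↦ F(g, h', h' h)`. -/
noncomputable def Tmap : (A ⊗[R] C) ⊗[R] C →ₐ[A ⊗[R] C] (A ⊗[R] C) ⊗[R] C :=
  transl (k := R) (A := C) (S := A ⊗[R] C)
    (Algebra.TensorProduct.includeRight : C →ₐ[R] A ⊗[R] C)

variable (R A C) in
/-- The universal translation as an automorphism. -/
noncomputable def Tequiv : (A ⊗[R] C) ⊗[R] C ≃ₐ[A ⊗[R] C] (A ⊗[R] C) ⊗[R] C :=
  translEquiv (Algebra.TensorProduct.includeRight : C →ₐ[R] A ⊗[R] C)
    ((Algebra.TensorProduct.includeRight : C →ₐ[R] A ⊗[R] C).comp (HopfAlgebra.antipodeAlgHom R C))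
    (conv_antipode_cancel_right _) (conv_antipode_cancel_left _)

theorem Tequiv_apply (W : (A ⊗[R] C) ⊗[R] C) : Tequiv R A C W = Tmap R A C W := rfl

variable (R A C) in
/-- `F(g, h) ↦ F(g, h)` on the first and third factors. -/
noncomputable def iota13 : A ⊗[R] C →ₐ[R] (A ⊗[R] C) ⊗[R] C :=
  Algebra.TensorProduct.map (Algebra.TensorProduct.includeLeft : A →ₐ[R] A ⊗[R] C) (AlgHom.id R C)

theorem iota13_tmul (a : A) (c : C) : iota13 R A C (a ⊗ₜ[R] c) = (a ⊗ₜ[R] (1 : C)) ⊗ₜ[R] c := rfl

theorem Qmap_eq (w : A ⊗[R] C) : Qmap R A C w = Tmap R A C (iota13 R A C w) := by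
  induction w using TensorProduct.induction_on with
  | zero => simp
  | add x y hx hy => simp only [map_add, hx, hy]
  | tmul a c =>
    have h1 : (a ⊗ₜ[R] (1 : C)) ⊗ₜ[R] c =
        (a ⊗ₜ[R] (1 : C)) • (((1 : A ⊗[R] C) ⊗ₜ[R] c) : (A ⊗[R] C) ⊗[R] C) := by
      rw [TensorProduct.smul_tmul', smul_eq_mul, mul_one]
    have h2 : ∀ s : C ⊗[R] C, (a ⊗ₜ[R] (1 : C)) •
        (Algebra.TensorProduct.lift
          ((Algebra.TensorProduct.includeLeft : A ⊗[R] C →ₐ[R] (A ⊗[R] C) ⊗[R] C).comp
            (Algebra.TensorProduct.includeRight : C →ₐ[R] A ⊗[R] C))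
          (Algebra.TensorProduct.includeRight : C →ₐ[R] (A ⊗[R] C) ⊗[R] C)
          (fun _ _ => Commute.all _ _) s) =
        (Algebra.TensorProduct.assoc R R R A C C).symm (a ⊗ₜ[R] s) := by
      intro s
      induction s using TensorProduct.induction_on with
      | zero => simp
      | add x y hx hy => simp only [map_add, smul_add, tmul_add, hx, hy]
      | tmul c₁ c₂ =>
        simp only [Algebra.TensorProduct.lift_tmul, AlgHom.comp_apply,
          Algebra.TensorProduct.includeLeft_apply, Algebra.TensorProduct.includeRight_apply,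
          Algebra.TensorProduct.tmul_mul_tmul, one_mul, mul_one,
          Algebra.TensorProduct.assoc_symm_tmul]
        rw [TensorProduct.smul_tmul', smul_eq_mul, Algebra.TensorProduct.tmul_mul_tmul, mul_one,
          one_mul]
    rw [iota13_tmul, h1, map_smul]
    unfold Tmap
    rw [transl_one_tmul, AlgHom.convMul_apply, ofConv_toConv, ofConv_toConv, h2]
    simp [Qmap]

/-- Extend an `A`-linear form on `A ⊗ C` to the first and third factors of `(A ⊗ C) ⊗ C`. -/
noncomputable def ext13 (ℓ : A ⊗[R] C →ₗ[A] A) : (A ⊗[R] C) ⊗[R] C →ₗ[R] A ⊗[R] C :=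
  TensorProduct.map (ℓ.restrictScalars R) (LinearMap.id : C →ₗ[R] C) ∘ₗ
    (TensorProduct.rightComm R A C C).toLinearMap

theorem ext13_tmul (ℓ : A ⊗[R] C →ₗ[A] A) (a : A) (c' c : C) :
    ext13 ℓ ((a ⊗ₜ[R] c') ⊗ₜ[R] c) = ℓ (a ⊗ₜ[R] c) ⊗ₜ[R] c' := rfl

theorem ext13_iota13 (ℓ : A ⊗[R] C →ₗ[A] A) (w : A ⊗[R] C) :
    ext13 ℓ (iota13 R A C w) = ℓ w ⊗ₜ[R] (1 : C) := by
  induction w using TensorProduct.induction_on with
  | zero => simp
  | add x y hx hy => simp only [map_add, add_tmul, hx, hy]
  | tmul a c => rw [iota13_tmul, ext13_tmul]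

theorem ext13_smul (ℓ : A ⊗[R] C →ₗ[A] A) (z : A ⊗[R] C) (W : (A ⊗[R] C) ⊗[R] C) :
    ext13 ℓ (z • W) = z * ext13 ℓ W := by
  induction W using TensorProduct.induction_on with
  | zero => simp
  | add x y hx hy => simp only [smul_add, map_add, mul_add, hx, hy]
  | tmul w c =>
    induction w using TensorProduct.induction_on with
    | zero => simp
    | add x y hx hy => simp only [add_tmul, smul_add, map_add, mul_add, hx, hy]
    | tmul a c' =>
      induction z using TensorProduct.induction_on with
      | zero => simp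
      | add x y hx hy => simp only [add_smul, map_add, add_mul, hx, hy]
      | tmul a₁ c₁ =>
        rw [TensorProduct.smul_tmul', smul_eq_mul, Algebra.TensorProduct.tmul_mul_tmul, ext13_tmul,
          ext13_tmul, Algebra.TensorProduct.tmul_mul_tmul]
        congr 1
        have : (a₁ * a) ⊗ₜ[R] c = a₁ • (a ⊗ₜ[R] c) := by
          rw [TensorProduct.smul_tmul', smul_eq_mul]
        rw [this, map_smul, smul_eq_mul]

end Setup

section Main

variable {R : Type u} [CommRing R] {A : Type v} [CommRing A] [HopfAlgebra R A]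
  {C : Type w} [CommRing C] [HopfAlgebra R C] (π : A →ₐc[R] C) {n : ℕ} (a : Fin n → A)
  (hF : Function.Bijective (Fintype.linearCombination A (fun i => rho π (a i))))

omit [HopfAlgebra R A] [HopfAlgebra R C] in
theorem smul_eq_tmul_one_mul {S : Type*} [CommRing S] [Algebra R S] {M : Type*} [CommRing M]
    [Algebra R M] (z : S) (W : S ⊗[R] M) : z • W = (z ⊗ₜ[R] (1 : M)) * W := by
  rw [Algebra.smul_def, Algebra.TensorProduct.algebraMap_apply, Algebra.algebraMap_self,
    RingHom.id_apply]

include hF in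
theorem coord_mem_inv (y : A) (j : Fin n) :
    (LinearEquiv.ofBijective _ hF).symm (rho π y) j ∈ inv π := by
  set ξ := (LinearEquiv.ofBijective (Fintype.linearCombination A (fun i => rho π (a i))) hF).symm
    with hξ
  set x := ξ (rho π y) with hxdef
  have hx : ∑ i, x i • rho π (a i) = rho π y := by
    have := (LinearEquiv.ofBijective (Fintype.linearCombination A (fun i => rho π (a i)))
      hF).apply_symm_apply (rho π y)
    rw [LinearEquiv.ofBijective_apply, Fintype.linearCombination_apply] at this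
    exact this
  have hsingle : ∀ i, ξ (rho π (a i)) = Pi.single i 1 := by
    intro i
    rw [hξ, LinearEquiv.symm_apply_eq, LinearEquiv.ofBijective_apply,
      Fintype.linearCombination_apply_single, one_smul]
  let ℓ : A ⊗[R] C →ₗ[A] A := LinearMap.proj j ∘ₗ ξ.toLinearMap
  have hℓ : ∀ i, ℓ (rho π (a i)) = if i = j then 1 else 0 := by
    intro i
    change ξ (rho π (a i)) j = _
    rw [hsingle, Pi.single_apply]
    by_cases h : i = j
    · rw [if_pos h, if_pos h.symm]
    · rw [if_neg h, if_neg (Ne.symm h)]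
  -- apply `P` and `Q`
  have hP : ∑ i, rho π (x i) • Tmap R A C (iota13 R A C (rho π (a i))) =
      Tmap R A C (iota13 R A C (rho π y)) := by
    have h1 := congrArg (Pmap π) hx
    rw [map_sum, Pmap_rho, Qmap_eq] at h1
    rw [← h1]
    refine Finset.sum_congr rfl fun i _ => ?_
    rw [smul_eq_tmul_one_mul, smul_eq_tmul_one_mul, map_mul, Pmap_rho, Qmap_eq]
    rfl
  have hQ : ∑ i, (x i ⊗ₜ[R] (1 : C)) • Tmap R A C (iota13 R A C (rho π (a i))) =
      Tmap R A C (iota13 R A C (rho π y)) := by
    have h1 := congrArg (Qmap R A C) hx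
    rw [map_sum, Qmap_eq] at h1
    rw [← h1]
    refine Finset.sum_congr rfl fun i _ => ?_
    rw [smul_eq_tmul_one_mul, smul_eq_tmul_one_mul, map_mul, Qmap_eq (rho π (a i))]
    congr 1
    simp only [Qmap, AlgHom.comp_apply, Algebra.TensorProduct.map_tmul, map_one, AlgHom.id_apply]
    rw [Algebra.TensorProduct.one_def]
    rfl
  have h3 : ∑ i, rho π (x i) • iota13 R A C (rho π (a i)) =
      ∑ i, (x i ⊗ₜ[R] (1 : C)) • iota13 R A C (rho π (a i)) := by
    apply (Tequiv R A C).injective
    rw [Tequiv_apply, Tequiv_apply, map_sum, map_sum]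
    simp only [map_smul]
    rw [hP, hQ]
  have h4 := congrArg (ext13 ℓ) h3
  rw [map_sum, map_sum] at h4
  simp only [ext13_smul, ext13_iota13, hℓ] at h4
  rw [Finset.sum_eq_single j, Finset.sum_eq_single j] at h4
  · rw [if_pos rfl, ← Algebra.TensorProduct.one_def, mul_one, mul_one] at h4
    exact h4
  · intro i _ hij
    rw [if_neg hij, zero_tmul, mul_zero]
  · intro h
    exact absurd (Finset.mem_univ j) h
  · intro i _ hij
    rw [if_neg hij, zero_tmul, mul_zero]
  · intro h
    exact absurd (Finset.mem_univ j) h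

include hF in
/-- If `ρ(a₁), …, ρ(aₙ)` is an `A`-basis of `A ⊗ C`, then `a₁, …, aₙ` is a basis of `A` over the
invariants. -/
theorem exists_basis_inv : ∃ b : Module.Basis (Fin n) (inv π) A, ∀ i, b i = a i := by
  have hli : LinearIndependent (inv π) a := by
    rw [Fintype.linearIndependent_iff]
    intro g hg i
    have h1 : ∑ i, (g i : A) • rho π (a i) = 0 := by
      have h2 := congrArg (rho π) hg
      rw [map_sum, map_zero] at h2
      rw [← h2]
      refine Finset.sum_congr rfl fun i _ => ?_
      rw [smul_eq_tmul_one_mul, Subalgebra.smul_def, smul_eq_mul, map_mul]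
      congr 1
      exact ((mem_inv_iff π _).mp (g i).2).symm
    have h3 : Fintype.linearCombination A (fun i => rho π (a i)) (fun i => (g i : A)) = 0 := by
      rw [Fintype.linearCombination_apply]
      exact h1
    have h4 := hF.1 (h3.trans (map_zero _).symm)
    exact Subtype.ext (congrFun h4 i)
  have hsp : ⊤ ≤ Submodule.span (inv π) (Set.range a) := by
    intro y _
    set x := (LinearEquiv.ofBijective _ hF).symm (rho π y) with hx
    have hxsum : ∑ i, x i • rho π (a i) = rho π y := by
      have := (LinearEquiv.ofBijective (Fintype.linearCombination A (fun i => rho π (a i)))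
        hF).apply_symm_apply (rho π y)
      rw [LinearEquiv.ofBijective_apply, Fintype.linearCombination_apply] at this
      exact this
    have hy : y = ∑ i, x i * a i := by
      have h1 := rid_counit_rho π y
      rw [← hxsum, map_sum, map_sum] at h1
      rw [← h1]
      refine Finset.sum_congr rfl fun i _ => ?_
      rw [smul_eq_tmul_one_mul, map_mul, map_mul, rid_counit_rho]
      simp
    rw [hy]
    refine Submodule.sum_mem _ fun i _ => ?_
    have h2 : x i * a i = (⟨x i, coord_mem_inv π a hF y i⟩ : inv π) • a i := rfl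
    rw [h2]
    exact Submodule.smul_mem _ _ (Submodule.subset_span ⟨i, rfl⟩)
  exact ⟨Module.Basis.mk hli hsp, fun i => Module.Basis.mk_apply hli hsp i⟩

end Main

end Groth.Agent.Lib.T2H8.HInv
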