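import Mathlib
import Groth.Agent.Lib.T2H8HInvA

/-!
# Freeness over the invariants: the case of an algebraically closed field (helper8)
-/

set_option autoImplicit false
universe u v w

namespace Groth.Agent.Lib.T2H8.HInv

open TensorProduct WithConv Groth.Agent.Lib.Helper25

section GenPos

variable {k : Type*} [Field k] [Infinite k] {V W : Type*} [AddCommGroup V] [Module k V]
  [AddCommGroup W] [Module k W] [FiniteDimensional k W] {ι : Type*} [Finite ι]

/-- General position: finitely many surjections `V → W` admit a common family of `m ≤ dim W`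
vectors with linearly independent images. -/
theorem exists_family_linearIndependent (φ : ι → V →ₗ[k] W)
    (hφ : ∀ j, Function.Surjective (φ j)) (m : ℕ) (hm : m ≤ Module.finrank k W) :
    ∃ a : Fin m → V, ∀ j, LinearIndependent k (fun i => φ j (a i)) := by
  induction m with
  | zero => exact ⟨fun i => i.elim0, fun j => linearIndependent_empty_type⟩
  | succ m ih =>
    obtain ⟨a, ha⟩ := ih (by omega)
    let U : ι → Subspace k V := fun j =>
      Submodule.comap (φ j) (Submodule.span k (Set.range fun i => φ j (a i)))
    have hU : ∀ j, U j ≠ ⊤ := by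
      intro j hj
      have h1 : Submodule.span k (Set.range fun i => φ j (a i)) = ⊤ := by
        rw [eq_top_iff]
        intro w _
        obtain ⟨v, rfl⟩ := hφ j w
        have : v ∈ U j := by rw [hj]; trivial
        exact this
      have h2 : Module.finrank k (Submodule.span k (Set.range fun i => φ j (a i))) ≤
          Fintype.card (Fin m) := finrank_range_le_card (R := k) (fun i => φ j (a i))
      rw [h1, finrank_top, Fintype.card_fin] at h2
      omega
    have h4 : ⋃ j, (U j : Set V) ≠ Set.univ := by
      intro h
      obtain ⟨j, hj⟩ := Subspace.exists_eq_top_of_iUnion_eq_univ h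
      exact hU j hj
    obtain ⟨v, hv⟩ : ∃ v : V, v ∉ ⋃ j, (U j : Set V) := by
      by_contra hcon
      push Not at hcon
      exact h4 (Set.eq_univ_of_forall hcon)
    refine ⟨Fin.cons v a, fun j => ?_⟩
    have h5 : (fun i => φ j ((Fin.cons v a : Fin (m + 1) → V) i)) =
        Fin.cons (φ j v) (fun i => φ j (a i)) := by
      funext i
      refine Fin.cases ?_ (fun i => ?_) i <;> simp
    rw [h5, linearIndependent_finCons]
    refine ⟨ha j, fun hmem => hv ?_⟩
    exact Set.mem_iUnion.mpr ⟨j, hmem⟩

end GenPos

section Units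

variable {k : Type u} [Field k] [IsAlgClosed k] {A : Type v} [CommRing A] [Algebra k A]
  [Module.Finite k A]

/-- In a finite-dimensional algebra over an algebraically closed field, an element that vanishes at
no point is a unit. -/
theorem isUnit_of_forall_point_ne_zero (z : A) (h : ∀ x : A →ₐ[k] k, x z ≠ 0) : IsUnit z := by
  by_contra hz
  obtain ⟨m, hm, hzm⟩ := exists_max_ideal_of_mem_nonunits hz
  letI : Field (A ⧸ m) := Ideal.Quotient.field m
  have hsurj : Function.Surjective (algebraMap k (A ⧸ m)) :=
    (IsAlgClosed.algebraMap_bijective_of_isIntegral (k := k) (K := A ⧸ m)).2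
  have hinj : Function.Injective (algebraMap k (A ⧸ m)) := (algebraMap k (A ⧸ m)).injective
  let e : k ≃ₐ[k] A ⧸ m := AlgEquiv.ofBijective (Algebra.ofId k (A ⧸ m)) ⟨hinj, hsurj⟩
  let x : A →ₐ[k] k := (e.symm : A ⧸ m →ₐ[k] k).comp (Ideal.Quotient.mkₐ k m)
  apply h x
  change e.symm (Ideal.Quotient.mk m z) = 0
  rw [Ideal.Quotient.eq_zero_iff_mem.mpr hzm, map_zero]

end Units

section Points

variable {k : Type u} [Field k] {A : Type v} [CommRing A] [HopfAlgebra k A]
  {C : Type w} [CommRing C] [HopfAlgebra k C] (π : A →ₐc[k] C)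

/-- Evaluate the first factor at a point. -/
noncomputable def evPt (x : A →ₐ[k] k) : A ⊗[k] C →ₐ[k] C :=
  (Algebra.TensorProduct.lid k C : k ⊗[k] C →ₐ[k] C).comp
    (Algebra.TensorProduct.map x (AlgHom.id k C))

omit [HopfAlgebra k A] [HopfAlgebra k C] in
theorem evPt_tmul [Algebra k A] [Algebra k C] (x : A →ₐ[k] k) (a : A) (c : C) :
    (Algebra.TensorProduct.lid k C : k ⊗[k] C →ₐ[k] C)
      (Algebra.TensorProduct.map x (AlgHom.id k C) (a ⊗ₜ[k] c)) = x a • c := by
  simp

/-- Translate by a point, then restrict to the subgroup. -/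
noncomputable def phiPt (x : A →ₐ[k] k) : A →ₐ[k] C := (evPt x).comp (rho π)

theorem phiPt_apply (x : A →ₐ[k] k) (a : A) : phiPt π x a = evPt x (rho π a) := rfl

theorem phiPt_eq (x : A →ₐ[k] k) (a : A) :
    phiPt π x a = π (Algebra.TensorProduct.lid k A (transl x ((1 : k) ⊗ₜ[k] a))) := by
  have h1 : ∀ t : A ⊗[k] A, evPt x (Algebra.TensorProduct.map (AlgHom.id k A) (π : A →ₐ[k] C) t) =
      π (Algebra.TensorProduct.lid k A (Algebra.TensorProduct.lift
        ((Algebra.TensorProduct.includeLeft : k →ₐ[k] k ⊗[k] A).comp x)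
        (Algebra.TensorProduct.includeRight : A →ₐ[k] k ⊗[k] A) (fun _ _ => Commute.all _ _) t)) := by
    intro t
    induction t using TensorProduct.induction_on with
    | zero => simp
    | add y z hy hz => simp only [map_add, hy, hz]
    | tmul a₁ a₂ => simp [evPt]
  rw [phiPt_apply, rho_apply, h1, transl_one_tmul, AlgHom.convMul_apply, ofConv_toConv,
    ofConv_toConv]

theorem phiPt_surjective (hπ : Function.Surjective π) (x : A →ₐ[k] k) :
    Function.Surjective (phiPt π x) := by
  intro c
  obtain ⟨a', rfl⟩ := hπ c
  let T := translEquiv x (x.comp (HopfAlgebra.antipodeAlgHom k A))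
    (conv_antipode_cancel_right x) (conv_antipode_cancel_left x)
  let w : k ⊗[k] A := T.symm ((1 : k) ⊗ₜ[k] a')
  refine ⟨Algebra.TensorProduct.lid k A w, ?_⟩
  have h1 : (1 : k) ⊗ₜ[k] (Algebra.TensorProduct.lid k A w) = w := by
    have h0 := (Algebra.TensorProduct.lid k A).symm_apply_apply w
    rw [Algebra.TensorProduct.lid_symm_apply] at h0
    exact h0
  rw [phiPt_eq, h1]
  have h2 : transl x w = (1 : k) ⊗ₜ[k] a' := T.apply_symm_apply _
  rw [h2]
  simp

end Points

section Det

variable {k : Type u} [Field k] {A : Type v} [CommRing A] [HopfAlgebra k A]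
  {C : Type w} [CommRing C] [HopfAlgebra k C] (π : A →ₐc[k] C) {n : ℕ}
  (c : Module.Basis (Fin n) k C)

theorem repr_evPt (x : A →ₐ[k] k) (w : A ⊗[k] C) (j : Fin n) :
    c.repr (evPt x w) j = x ((Algebra.TensorProduct.basis A c).repr w j) := by
  induction w using TensorProduct.induction_on with
  | zero => simp
  | add y z hy hz => simp only [map_add, Finsupp.add_apply, hy, hz]
  | tmul a c' => simp [evPt]

theorem map_det (x : A →ₐ[k] k) (a : Fin n → A) :
    x ((Algebra.TensorProduct.basis A c).det (fun i => rho π (a i))) =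
      c.det (fun i => phiPt π x (a i)) := by
  rw [Module.Basis.det_apply, Module.Basis.det_apply, ← AlgHom.coe_toRingHom, RingHom.map_det]
  congr 1
  ext i j
  rw [RingHom.mapMatrix_apply, Matrix.map_apply, Module.Basis.toMatrix_apply,
    Module.Basis.toMatrix_apply, phiPt_apply]
  exact (repr_evPt c x (rho π (a j)) i).symm

end Det

section Final

variable {k : Type u} [Field k] [IsAlgClosed k] {A : Type v} [CommRing A] [HopfAlgebra k A]
  [Module.Finite k A] {C : Type w} [CommRing C] [HopfAlgebra k C] [Module.Finite k C]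
  (π : A →ₐc[k] C)

/-- Over an algebraically closed field there are `a₁, …, aₙ` with `ρ(aᵢ)` an `A`-basis of
`A ⊗ C`. -/
theorem exists_coact_basis (hπ : Function.Surjective π) :
    ∃ a : Fin (Module.finrank k C) → A,
      Function.Bijective (Fintype.linearCombination A (fun i => rho π (a i))) := by
  let c : Module.Basis (Fin (Module.finrank k C)) k C := Module.finBasis k C
  obtain ⟨a, ha⟩ := exists_family_linearIndependent (ι := A →ₐ[k] k)
    (fun x => (phiPt π x).toLinearMap) (fun x => phiPt_surjective π hπ x) (Module.finrank k C)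
    le_rfl
  refine ⟨a, ?_⟩
  have hd : IsUnit ((Algebra.TensorProduct.basis A c).det (fun i => rho π (a i))) := by
    apply isUnit_of_forall_point_ne_zero (k := k)
    intro x
    rw [map_det]
    have hli : LinearIndependent k (fun i => phiPt π x (a i)) := ha x
    have hsp := hli.span_eq_top_of_card_eq_finrank' (by rw [Fintype.card_fin])
    exact ((c.is_basis_iff_det).mp ⟨hli, hsp⟩).ne_zero
  obtain ⟨hli, hsp⟩ := ((Algebra.TensorProduct.basis A c).is_basis_iff_det).mpr hd
  constructor
  · rw [injective_iff_map_eq_zero]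
    intro g hg
    rw [Fintype.linearCombination_apply] at hg
    funext i
    exact Fintype.linearIndependent_iff.mp hli g hg i
  · rw [← LinearMap.range_eq_top, Fintype.range_linearCombination]
    exact hsp

/-- `A` is free over the invariants of rank `dim C`. -/
theorem free_and_finrank (hπ : Function.Surjective π) :
    Module.Free (inv π) A ∧ Module.finrank (inv π) A = Module.finrank k C := by
  obtain ⟨a, ha⟩ := exists_coact_basis π hπ
  obtain ⟨b, -⟩ := exists_basis_inv π a ha
  haveI : Nontrivial A := by
    have : Nontrivial C := (Bialgebra.counitAlgHom k C).toRingHom.domain_nontrivial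
    exact (π : A →ₐ[k] C).toRingHom.domain_nontrivial
  refine ⟨Module.Free.of_basis b, ?_⟩
  rw [Module.finrank_eq_card_basis b, Fintype.card_fin]

end Final

section Quot

variable {k : Type u} [Field k] [IsAlgClosed k] {A : Type v} [CommRing A] [HopfAlgebra k A]
  [Module.Finite k A] (I : Ideal A) [I.IsHopfIdeal k]

/-- `A` is free of rank `dim A/I` over the functions invariant under the subgroup `Spec A/I`. -/
theorem free_and_finrank_quot :
    Module.Free
        ↥(AlgHom.equalizer
          ((Algebra.TensorProduct.map (AlgHom.id k A) (Ideal.Quotient.mkₐ k I)).comp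
            (Bialgebra.comulAlgHom k A))
          (Algebra.TensorProduct.includeLeft : A →ₐ[k] A ⊗[k] (A ⧸ I))) A ∧
      Module.finrank
        ↥(AlgHom.equalizer
          ((Algebra.TensorProduct.map (AlgHom.id k A) (Ideal.Quotient.mkₐ k I)).comp
            (Bialgebra.comulAlgHom k A))
          (Algebra.TensorProduct.includeLeft : A →ₐ[k] A ⊗[k] (A ⧸ I))) A =
        Module.finrank k (A ⧸ I) :=
  free_and_finrank (Bialgebra.Quotient.mkBialgHom (R := k) I) Ideal.Quotient.mk_surjective

end Quot

end Groth.Agent.Lib.T2H8.HInv
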