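import Mathlib
import Groth.Agent.Lib.T2H8HInvB

/-!
# The index formula for finite flat group schemes: local base with infinite residue field (helper8)

`R` a local ring with infinite residue field, `A` a finite Hopf algebra, `π : A → C` a surjective
bialgebra map onto a free Hopf algebra of rank `n`: then `A` is free of rank `n` over the invariants
`inv π`.
-/

set_option autoImplicit false
universe u v w

namespace Groth.Agent.Lib.T2H8.Idx

open TensorProduct WithConv Groth.Agent.Lib.Helper25 Groth.Agent.Lib.T2H8.HInv



section GenPos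

variable {k : Type*} [Field k] [Infinite k] {K : Type*} [Field K] [Algebra k K]
  {V W : Type*} [AddCommGroup V] [Module k V]
  [AddCommGroup W] [Module K W] [Module k W] [IsScalarTower k K W] [FiniteDimensional K W]
  {ι : Type*} [Finite ι]

/-- General position, semilinear form: finitely many `k`-linear maps `V → W` into a `K`-space whose
images span `W` over `K` admit a common family of `m ≤ dim_K W` vectors with `K`-linearly
independent images. -/
theorem exists_family_linearIndependent_ext (φ : ι → V →ₗ[k] W)
    (hφ : ∀ j, Submodule.span K (Set.range (φ j)) = ⊤) (m : ℕ) (hm : m ≤ Module.finrank K W) :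
    ∃ a : Fin m → V, ∀ j, LinearIndependent K (fun i => φ j (a i)) := by
  induction m with
  | zero => exact ⟨fun i => i.elim0, fun j => linearIndependent_empty_type⟩
  | succ m ih =>
    obtain ⟨a, ha⟩ := ih (by omega)
    let U : ι → Subspace k V := fun j =>
      Submodule.comap (φ j)
        ((Submodule.span K (Set.range fun i => φ j (a i))).restrictScalars k)
    have hU : ∀ j, U j ≠ ⊤ := by
      intro j hj
      have h1 : Submodule.span K (Set.range fun i => φ j (a i)) = ⊤ := by
        rw [eq_top_iff, ← hφ j, Submodule.span_le]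
        rintro _ ⟨v, rfl⟩
        have : v ∈ U j := by rw [hj]; trivial
        exact this
      have h2 : Module.finrank K (Submodule.span K (Set.range fun i => φ j (a i))) ≤
          Fintype.card (Fin m) := finrank_range_le_card (R := K) (fun i => φ j (a i))
      rw [h1, finrank_top, Fintype.card_fin] at h2
      omega
    have h4 : ⋃ j, (U j : Set V) ≠ Set.univ := by
      intro h
      obtain ⟨j, hj⟩ := Subspace.exists_eq_top_of_iUnion_eq_univ h
      exact hU j hj
    obtain ⟨v, hv⟩ : ∃ v : V, v ∉ ⋃ j, (U j : Set V) := by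
      by_contra hcon
      push Not at hcon
      exact h4 (Set.eq_univ_of_forall hcon)
    refine ⟨Fin.cons v a, fun j => ?_⟩
    have h5 : (fun i => φ j ((Fin.cons v a : Fin (m + 1) → V) i)) =
        Fin.cons (φ j v) (fun i => φ j (a i)) := by
      funext i
      refine Fin.cases ?_ (fun i => ?_) i <;> simp
    rw [h5, linearIndependent_finCons]
    refine ⟨ha j, fun hmem => hv ?_⟩
    exact Set.mem_iUnion.mpr ⟨j, hmem⟩

end GenPos



section Units

variable (R : Type u) [CommRing R] [IsLocalRing R]

/-- The geometric closed point of a local ring. -/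
abbrev GeomK : Type u := AlgebraicClosure (IsLocalRing.ResidueField R)

variable {R} {A : Type v} [CommRing A] [Algebra R A] [Module.Finite R A]

/-- In a finite algebra over a local ring, an element that vanishes at no geometric point over the
closed point is a unit. -/
theorem isUnit_of_forall_geomPoint_ne_zero (z : A) (h : ∀ x : A →ₐ[R] GeomK R, x z ≠ 0) :
    IsUnit z := by
  by_contra hz
  obtain ⟨m, hm, hzm⟩ := exists_max_ideal_of_mem_nonunits hz
  letI : Field (A ⧸ m) := Ideal.Quotient.field m
  let κ := IsLocalRing.ResidueField R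
  -- the residue field acts on `A ⧸ m`
  haveI : Algebra.IsIntegral R A := Algebra.IsIntegral.of_finite R A
  have hcomap : m.comap (algebraMap R A) = IsLocalRing.maximalIdeal R := by
    have : (m.comap (algebraMap R A)).IsMaximal := Ideal.isMaximal_comap_of_isIntegral_of_isMaximal m
    exact IsLocalRing.eq_maximalIdeal this
  let f : R →+* A ⧸ m := algebraMap R (A ⧸ m)
  haveI : IsLocalHom f := by
    constructor
    intro r hr
    by_contra hnr
    have h1 : r ∈ IsLocalRing.maximalIdeal R := hnr
    rw [← hcomap, Ideal.mem_comap] at h1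
    have h2 : f r = 0 := by
      change Ideal.Quotient.mk m (algebraMap R A r) = 0
      exact Ideal.Quotient.eq_zero_iff_mem.mpr h1
    rw [h2] at hr
    exact not_isUnit_zero hr
  letI : Algebra κ (A ⧸ m) := (IsLocalRing.ResidueField.lift f).toAlgebra
  haveI : IsScalarTower R κ (A ⧸ m) := IsScalarTower.of_algebraMap_eq' (by
    ext r
    simp [RingHom.algebraMap_toAlgebra, f, κ])
  haveI : Module.Finite κ (A ⧸ m) := Module.Finite.of_restrictScalars_finite R κ (A ⧸ m)
  let σ : (A ⧸ m) →ₐ[κ] GeomK R := IsAlgClosed.lift
  let x : A →ₐ[R] GeomK R := (σ.restrictScalars R).comp (Ideal.Quotient.mkₐ R m)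
  apply h x
  change σ (Ideal.Quotient.mk m z) = 0
  rw [Ideal.Quotient.eq_zero_iff_mem.mpr hzm, map_zero]

end Units



section Points

variable {R : Type u} [CommRing R] {A : Type v} [CommRing A] [HopfAlgebra R A]
  {C : Type w} [CommRing C] [HopfAlgebra R C] (π : A →ₐc[R] C)
  {K : Type*} [CommRing K] [Algebra R K]

/-- Evaluate the first factor at a `K`-valued point. -/
noncomputable def evK (x : A →ₐ[R] K) : A ⊗[R] C →ₐ[R] K ⊗[R] C :=
  Algebra.TensorProduct.map x (AlgHom.id R C)

/-- Translate by a `K`-valued point, then restrict to the subgroup. -/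
noncomputable def phiK (x : A →ₐ[R] K) : A →ₐ[R] K ⊗[R] C := (evK x).comp (rho π)

theorem phiK_apply (x : A →ₐ[R] K) (a : A) : phiK π x a = evK x (rho π a) := rfl

/-- `K ⊗ π`. -/
noncomputable def piK : K ⊗[R] A →ₐ[K] K ⊗[R] C :=
  Algebra.TensorProduct.map (AlgHom.id K K) (π : A →ₐ[R] C)

theorem piK_surjective (hπ : Function.Surjective π) :
    Function.Surjective (piK π : K ⊗[R] A →ₐ[K] K ⊗[R] C) := by
  have : (⇑(piK π : K ⊗[R] A →ₐ[K] K ⊗[R] C)) =
      ⇑(LinearMap.lTensor K ((π : A →ₐ[R] C).toLinearMap)) := by
    funext t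
    induction t using TensorProduct.induction_on with
    | zero => simp
    | add y z hy hz => simp only [map_add, hy, hz]
    | tmul a b => simp [piK]
  rw [this]
  exact LinearMap.lTensor_surjective K hπ

theorem phiK_eq (x : A →ₐ[R] K) (a : A) :
    phiK π x a = piK π (transl x ((1 : K) ⊗ₜ[R] a)) := by
  have h1 : ∀ t : A ⊗[R] A, evK x (Algebra.TensorProduct.map (AlgHom.id R A) (π : A →ₐ[R] C) t) =
      piK π (Algebra.TensorProduct.lift
        ((Algebra.TensorProduct.includeLeft : K →ₐ[R] K ⊗[R] A).comp x)
        (Algebra.TensorProduct.includeRight : A →ₐ[R] K ⊗[R] A) (fun _ _ => Commute.all _ _) t) := by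
    intro t
    induction t using TensorProduct.induction_on with
    | zero => simp
    | add y z hy hz => simp only [map_add, hy, hz]
    | tmul a₁ a₂ => simp [evK, piK]
  rw [phiK_apply, rho_apply, h1, transl_one_tmul, AlgHom.convMul_apply, ofConv_toConv,
    ofConv_toConv]

/-- The translates of the restriction span `K ⊗ C` over `K`. -/
theorem span_range_phiK (hπ : Function.Surjective π) (x : A →ₐ[R] K) :
    Submodule.span K (Set.range (phiK π x)) = ⊤ := by
  let T := translEquiv x (x.comp (HopfAlgebra.antipodeAlgHom R A))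
    (conv_antipode_cancel_right x) (conv_antipode_cancel_left x)
  let F : K ⊗[R] A →ₗ[K] K ⊗[R] C := (piK π).toLinearMap ∘ₗ T.toLinearMap
  have hF : Function.Surjective F := (piK_surjective π hπ).comp T.surjective
  have hF1 : ∀ a : A, F ((1 : K) ⊗ₜ[R] a) = phiK π x a := by
    intro a
    rw [phiK_eq]
    rfl
  rw [eq_top_iff]
  intro w _
  obtain ⟨z, rfl⟩ := hF w
  clear * - hF1
  induction z using TensorProduct.induction_on with
  | zero => rw [map_zero]; exact Submodule.zero_mem _
  | add y z hy hz => rw [map_add]; exact Submodule.add_mem _ hy hz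
  | tmul c a =>
    have : c ⊗ₜ[R] a = c • ((1 : K) ⊗ₜ[R] a) := by
      rw [TensorProduct.smul_tmul', smul_eq_mul, mul_one]
    rw [this, map_smul, hF1]
    exact Submodule.smul_mem _ _ (Submodule.subset_span ⟨a, rfl⟩)

end Points

section Det

variable {R : Type u} [CommRing R] {A : Type v} [CommRing A] [HopfAlgebra R A]
  {C : Type w} [CommRing C] [HopfAlgebra R C] (π : A →ₐc[R] C)
  {K : Type*} [CommRing K] [Algebra R K] {n : ℕ} (c : Module.Basis (Fin n) R C)

theorem repr_evK (x : A →ₐ[R] K) (w : A ⊗[R] C) (j : Fin n) :
    (Algebra.TensorProduct.basis K c).repr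
      (Algebra.TensorProduct.map x (AlgHom.id R C) w) j =
      x ((Algebra.TensorProduct.basis A c).repr w j) := by
  induction w using TensorProduct.induction_on with
  | zero => simp
  | add y z hy hz => simp only [map_add, Finsupp.add_apply, hy, hz]
  | tmul a c' => simp [Algebra.smul_def]

theorem map_detK (x : A →ₐ[R] K) (a : Fin n → A) :
    x ((Algebra.TensorProduct.basis A c).det (fun i => rho π (a i))) =
      (Algebra.TensorProduct.basis K c).det (fun i => phiK π x (a i)) := by
  rw [Module.Basis.det_apply, Module.Basis.det_apply, ← AlgHom.coe_toRingHom, RingHom.map_det]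
  congr 1
  ext i j
  rw [RingHom.mapMatrix_apply, Matrix.map_apply, Module.Basis.toMatrix_apply,
    Module.Basis.toMatrix_apply, phiK_apply]
  exact (repr_evK c x (rho π (a j)) i).symm

end Det


section Local

variable {R : Type u} [CommRing R] [IsLocalRing R] [Infinite (IsLocalRing.ResidueField R)]
  {A : Type v} [CommRing A] [HopfAlgebra R A] [Module.Finite R A]
  {C : Type w} [CommRing C] [HopfAlgebra R C] (π : A →ₐc[R] C)

/-- Over a local ring with infinite residue field there are `a₁, …, aₙ` with `ρ(aᵢ)` an `A`-basis
of `A ⊗ C`. -/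
theorem exists_coact_basis_local (hπ : Function.Surjective π) {n : ℕ}
    (c : Module.Basis (Fin n) R C) :
    ∃ a : Fin n → A,
      Function.Bijective (Fintype.linearCombination A (fun i => rho π (a i))) := by
  let κ := IsLocalRing.ResidueField R
  let K := GeomK R
  let cK : Module.Basis (Fin n) K (K ⊗[R] C) := Algebra.TensorProduct.basis K c
  have hfr : Module.finrank K (K ⊗[R] C) = n := by
    rw [Module.finrank_eq_card_basis cK, Fintype.card_fin]
  haveI : FiniteDimensional K (K ⊗[R] C) := Module.Finite.of_basis cK
  let φ : (A →ₐ[R] K) → (κ ⊗[R] A →ₗ[κ] K ⊗[R] C) := fun x =>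
    LinearMap.liftBaseChange κ (phiK π x).toLinearMap
  have hφ1 : ∀ (x : A →ₐ[R] K) (a : A), φ x ((1 : κ) ⊗ₜ[R] a) = phiK π x a := by
    intro x a
    simp [φ]
  have hφ : ∀ x, Submodule.span K (Set.range (φ x)) = ⊤ := by
    intro x
    rw [eq_top_iff, ← span_range_phiK π hπ x]
    apply Submodule.span_mono
    rintro _ ⟨a, rfl⟩
    exact ⟨(1 : κ) ⊗ₜ[R] a, hφ1 x a⟩
  obtain ⟨ā, hā⟩ := exists_family_linearIndependent_ext (k := κ) (K := K) φ hφ n (le_of_eq hfr.symm)
  have hsurj : Function.Surjective (TensorProduct.mk R κ A 1) :=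
    TensorProduct.mk_surjective R A κ IsLocalRing.residue_surjective
  choose a ha using fun i => hsurj (ā i)
  refine ⟨a, ?_⟩
  have hd : IsUnit ((Algebra.TensorProduct.basis A c).det (fun i => rho π (a i))) := by
    apply isUnit_of_forall_geomPoint_ne_zero (R := R)
    intro x
    rw [map_detK]
    have hli : LinearIndependent K (fun i => phiK π x (a i)) := by
      have hfun : (fun i => phiK π x (a i)) = fun i => φ x (ā i) := by
        funext i
        rw [← ha i]
        exact (hφ1 x (a i)).symm
      rw [hfun]
      exact hā x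
    have hsp := hli.span_eq_top_of_card_eq_finrank' (by rw [Fintype.card_fin, hfr])
    exact ((cK.is_basis_iff_det).mp ⟨hli, hsp⟩).ne_zero
  obtain ⟨hli, hsp⟩ := ((Algebra.TensorProduct.basis A c).is_basis_iff_det).mpr hd
  constructor
  · rw [injective_iff_map_eq_zero]
    intro g hg
    rw [Fintype.linearCombination_apply] at hg
    funext i
    exact Fintype.linearIndependent_iff.mp hli g hg i
  · rw [← LinearMap.range_eq_top, Fintype.range_linearCombination]
    exact hsp

end Local

end Groth.Agent.Lib.T2H8.Idx
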