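import Mathlib
import Groth.Agent.Lib.T2H8HInvA
import Groth.Agent.Lib.T2H8IdxA
import Groth.Agent.Lib.Helper3HenselC
import Groth.Agent.Lib.Helper24G0
import Groth.Agent.Lib.Helper24UnitComp

/-!
# T2H8ConnEtA: a coaction basis for a connected subgroup over a henselian local ring

Over a henselian local ring `R` (any residue field), if `π : A → C` is a surjective map of Hopf
algebras with `A` finite and `C` a local ring, finite free over `R`, then there are
`a₁, …, aₙ ∈ A` such that `ρ(aᵢ)` is an `A`-basis of `A ⊗ C` (`exists_coact_basis_hensel`).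
-/

set_option autoImplicit false
universe u v w

open TensorProduct
open Groth.Agent.Lib.T2H8.HInv
open Groth.Agent.Lib.T2H8.Idx

namespace Groth.Agent.Lib.T2H8.ConnEt

section Nilp

variable {R : Type u} [CommRing R] [IsLocalRing R] {C : Type w} [CommRing C] [IsLocalRing C]
  [Algebra R C] [Algebra.IsIntegral R C] (ε : C →ₐ[R] R)
  {K : Type v} [CommRing K] [Algebra R K]

omit [IsLocalRing R] [IsLocalRing C] [Algebra.IsIntegral R C] in
/-- `k ⊗ c ↦ k * ε c`. -/
noncomputable def epsK : K ⊗[R] C →ₐ[R] K :=
  (Algebra.TensorProduct.lmul' R).comp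
    (Algebra.TensorProduct.map (AlgHom.id R K) ((Algebra.ofId R K).comp ε))

omit [IsLocalRing R] [IsLocalRing C] [Algebra.IsIntegral R C] in
theorem epsK_tmul (k : K) (c : C) : epsK ε (k ⊗ₜ[R] c) = k * algebraMap R K (ε c) := by
  simp [epsK]

omit [IsLocalRing R] [IsLocalRing C] [Algebra.IsIntegral R C] in
theorem epsK_eq (z : K ⊗[R] C) :
    epsK ε z = TensorProduct.rid R K (LinearMap.lTensor K ε.toLinearMap z) := by
  induction z using TensorProduct.induction_on with
  | zero => simp
  | add x y hx hy => simp only [map_add, hx, hy]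
  | tmul k c =>
    rw [epsK_tmul, LinearMap.lTensor_tmul, TensorProduct.rid_tmul, Algebra.smul_def, mul_comm]
    rfl

omit [IsLocalRing C] [Algebra.IsIntegral R C] in
theorem one_tmul_eq_zero_of_mem_map (hK : ∀ m ∈ IsLocalRing.maximalIdeal R, algebraMap R K m = 0)
    (t : C) (ht : t ∈ Ideal.map (algebraMap R C) (IsLocalRing.maximalIdeal R)) :
    (1 : K) ⊗ₜ[R] t = 0 := by
  rw [Ideal.map] at ht
  induction ht using Submodule.span_induction with
  | mem t ht =>
    obtain ⟨m, hm, rfl⟩ := ht
    rw [Algebra.algebraMap_eq_smul_one, TensorProduct.tmul_smul, TensorProduct.smul_tmul',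
      Algebra.smul_def, mul_one, hK m hm, TensorProduct.zero_tmul]
  | zero => rw [TensorProduct.tmul_zero]
  | add x y _ _ hx hy => rw [TensorProduct.tmul_add, hx, hy, add_zero]
  | smul c x _ hx =>
    have : (1 : K) ⊗ₜ[R] (c • x) = ((1 : K) ⊗ₜ[R] c) * ((1 : K) ⊗ₜ[R] x) := by
      rw [Algebra.TensorProduct.tmul_mul_tmul, mul_one, smul_eq_mul]
    rw [this, hx, mul_zero]

/-- Elements of the kernel of `K ⊗ C → K` are nilpotent. -/
theorem isNilpotent_of_epsK_eq_zero
    (hK : ∀ m ∈ IsLocalRing.maximalIdeal R, algebraMap R K m = 0)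
    (z : K ⊗[R] C) (hz : epsK ε z = 0) : IsNilpotent z := by
  have hz' : LinearMap.lTensor K ε.toLinearMap z = 0 := by
    rw [epsK_eq] at hz
    exact (TensorProduct.rid R K).injective (by rw [hz, map_zero])
  have hex : Function.Exact (LinearMap.ker ε.toLinearMap).subtype ε.toLinearMap :=
    LinearMap.exact_subtype_ker_map _
  have hsurj : Function.Surjective ε.toLinearMap := fun r => ⟨algebraMap R C r, by simp⟩
  have hex2 := lTensor_exact K hex hsurj
  obtain ⟨y, rfl⟩ := (hex2 z).mp hz'
  clear hz hz' hex2
  induction y using TensorProduct.induction_on with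
  | zero => rw [map_zero]; exact IsNilpotent.zero
  | add x y hx hy =>
    rw [map_add]
    exact Commute.isNilpotent_add (Commute.all _ _) hx hy
  | tmul k y =>
    rw [LinearMap.lTensor_tmul]
    have hy : (y : C) ∈ IsLocalRing.maximalIdeal C :=
      Groth.Agent.Lib.Helper24G0.mem_max_of_counit_zero ε (y : C) y.2
    obtain ⟨N, hN⟩ := Groth.Agent.Lib.Helper24UnitComp.pow_mem_map_maximal (R := R) (y : C) hy
    refine ⟨N, ?_⟩
    change (k ⊗ₜ[R] (y : C)) ^ N = 0
    have : k ⊗ₜ[R] (y : C) = (k ⊗ₜ[R] (1 : C)) * ((1 : K) ⊗ₜ[R] (y : C)) := by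
      rw [Algebra.TensorProduct.tmul_mul_tmul, mul_one, one_mul]
    rw [this, mul_pow]
    simp only [Algebra.TensorProduct.tmul_pow, one_pow]
    rw [one_tmul_eq_zero_of_mem_map hK _ hN, mul_zero]

/-- Idempotents of `K ⊗ C` are detected by `K ⊗ C → K`. -/
theorem idem_eq_one_of_epsK_eq_one
    (hK : ∀ m ∈ IsLocalRing.maximalIdeal R, algebraMap R K m = 0)
    (E : K ⊗[R] C) (hE : IsIdempotentElem E) (h1 : epsK ε E = 1) : E = 1 := by
  have h0 : IsNilpotent (1 - E) := by
    apply isNilpotent_of_epsK_eq_zero ε hK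
    rw [map_sub, map_one, h1, sub_self]
  have := hE.one_sub.eq_zero_of_isNilpotent h0
  exact (sub_eq_zero.mp this).symm

end Nilp

section Point

variable {R : Type u} [CommRing R] [IsLocalRing R]
  {A : Type u} [CommRing A] [HopfAlgebra R A]
  {C : Type u} [CommRing C] [HopfAlgebra R C] [IsLocalRing C] [Algebra.IsIntegral R C]
  (π : A →ₐc[R] C) {n : ℕ} (c : Module.Basis (Fin n) R C)

omit [IsLocalRing R] [IsLocalRing C] [Algebra.IsIntegral R C] in
theorem epsK_phiK {K : Type u} [CommRing K] [Algebra R K] (x : A →ₐ[R] K) (a : A) :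
    epsK (Bialgebra.counitAlgHom R C) (phiK π x a) = x a := by
  have h1 : ∀ w : A ⊗[R] C, epsK (Bialgebra.counitAlgHom R C) (evK x w) =
      x (Algebra.TensorProduct.rid R R A
        (Algebra.TensorProduct.map (AlgHom.id R A) (Bialgebra.counitAlgHom R C) w)) := by
    intro w
    induction w using TensorProduct.induction_on with
    | zero => simp
    | add y z hy hz => simp only [map_add, hy, hz]
    | tmul a' c' =>
      simp only [evK, Algebra.TensorProduct.map_tmul, AlgHom.coe_id, id_eq, epsK_tmul,
        Algebra.TensorProduct.rid_tmul, map_smul]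
      rw [Algebra.smul_def, mul_comm]
  rw [phiK_apply, h1, rid_counit_rho]

/-- The per-point statement, phrased with a ring homomorphism to a field. -/
theorem point_core (hπ : Function.Surjective π) {K : Type u} [Field K] (g : A →+* K)
    (hg : ∀ m ∈ IsLocalRing.maximalIdeal R, g (algebraMap R A m) = 0) :
    (∃ a' : Fin n → A,
      g ((Algebra.TensorProduct.basis A c).det (fun i => rho π (a' i))) ≠ 0) ∧
    ∀ e : A, IsIdempotentElem e → g e = 1 → ∀ a a' : Fin n → A, (∀ j, e * a j = e * a' j) →
      g ((Algebra.TensorProduct.basis A c).det (fun i => rho π (a i))) =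
        g ((Algebra.TensorProduct.basis A c).det (fun i => rho π (a' i))) := by
  letI : Algebra R K := (g.comp (algebraMap R A)).toAlgebra
  let x : A →ₐ[R] K := { g with commutes' := fun _ => rfl }
  have hxg : ∀ a, x a = g a := fun _ => rfl
  have hK : ∀ m ∈ IsLocalRing.maximalIdeal R, algebraMap R K m = 0 := hg
  let cK : Module.Basis (Fin n) K (K ⊗[R] C) := Algebra.TensorProduct.basis K c
  have hfr : Module.finrank K (K ⊗[R] C) = n := by
    rw [Module.finrank_eq_card_basis cK, Fintype.card_fin]
  haveI : FiniteDimensional K (K ⊗[R] C) := Module.Finite.of_basis cK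
  refine ⟨?_, ?_⟩
  · obtain ⟨f, hfs, -, hli⟩ :=
      Submodule.exists_fun_fin_finrank_span_eq K (Set.range (phiK π x))
    have hcard : Module.finrank K (Submodule.span K (Set.range (phiK π x))) = n := by
      rw [span_range_phiK π hπ x, finrank_top, hfr]
    choose a'' ha'' using hfs
    refine ⟨fun j => a'' (Fin.cast hcard.symm j), ?_⟩
    rw [← hxg, map_detK]
    have hli' : LinearIndependent K (fun j : Fin n => phiK π x (a'' (Fin.cast hcard.symm j))) := by
      have : (fun j : Fin n => phiK π x (a'' (Fin.cast hcard.symm j))) =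
          f ∘ (Fin.cast hcard.symm) := by
        funext j
        exact ha'' _
      rw [this]
      exact hli.comp _ (Fin.cast_injective _)
    have hsp := hli'.span_eq_top_of_card_eq_finrank' (by rw [Fintype.card_fin, hfr])
    exact ((cK.is_basis_iff_det).mp ⟨hli', hsp⟩).ne_zero
  · intro e he hge a a' haa
    rw [← hxg, ← hxg, map_detK, map_detK]
    have hE : phiK π x e = 1 := by
      apply idem_eq_one_of_epsK_eq_one (Bialgebra.counitAlgHom R C) hK
      · exact he.map (phiK π x)
      · rw [epsK_phiK, hxg, hge]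
    have : ∀ j, phiK π x (a j) = phiK π x (a' j) := by
      intro j
      calc phiK π x (a j) = phiK π x e * phiK π x (a j) := by rw [hE, one_mul]
        _ = phiK π x (e * a j) := (map_mul _ _ _).symm
        _ = phiK π x (e * a' j) := by rw [haa j]
        _ = phiK π x e * phiK π x (a' j) := map_mul _ _ _
        _ = phiK π x (a' j) := by rw [hE, one_mul]
    simp only [this]

end Point

section Hensel

variable {R : Type u} [CommRing R] [HenselianLocalRing R]
  {A : Type u} [CommRing A] [HopfAlgebra R A] [Module.Finite R A]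
  {C : Type u} [CommRing C] [HopfAlgebra R C] [IsLocalRing C] [Algebra.IsIntegral R C]
  (π : A →ₐc[R] C)

/-- Over a henselian local ring, for a *local* quotient Hopf algebra `C` of a finite Hopf algebra
`A` there are `a₁, …, aₙ` with `ρ(aᵢ)` an `A`-basis of `A ⊗ C`. -/
theorem exists_coact_basis_hensel (hπ : Function.Surjective π) {n : ℕ}
    (c : Module.Basis (Fin n) R C) :
    ∃ a : Fin n → A,
      Function.Bijective (Fintype.linearCombination A (fun i => rho π (a i))) := by
  classical
  obtain ⟨ι, _, L, _, hloc, ⟨Φ⟩⟩ :=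
    Groth.Agent.Lib.Helper3.Hensel.exists_pi_isLocalRing_of_finite R A
  haveI := hloc
  let g : ∀ i, A →+* IsLocalRing.ResidueField (L i) := fun i =>
    (IsLocalRing.residue (L i)).comp ((Pi.evalRingHom L i).comp Φ.toRingHom)
  have hgapp : ∀ i (y : A), g i y = IsLocalRing.residue (L i) (Φ y i) := fun _ _ => rfl
  have hgsurj : ∀ i, Function.Surjective (g i) := by
    intro i
    refine (IsLocalRing.residue_surjective).comp ?_
    intro y
    refine ⟨Φ.symm (Pi.single i y), ?_⟩
    change Φ (Φ.symm (Pi.single i y)) i = y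
    rw [RingEquiv.apply_symm_apply, Pi.single_eq_same]
  have hg : ∀ i, ∀ m ∈ IsLocalRing.maximalIdeal R, g i (algebraMap R A m) = 0 := by
    intro i m hm
    have hmax : (RingHom.ker (g i)).IsMaximal := RingHom.ker_isMaximal_of_surjective _ (hgsurj i)
    haveI : Algebra.IsIntegral R A := Algebra.IsIntegral.of_finite R A
    have h2 : ((RingHom.ker (g i)).comap (algebraMap R A)).IsMaximal :=
      Ideal.isMaximal_comap_of_isIntegral_of_isMaximal (R := R) (S := A) (RingHom.ker (g i))
    have h3 := IsLocalRing.eq_maximalIdeal h2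
    have h4 : m ∈ (RingHom.ker (g i)).comap (algebraMap R A) := h3 ▸ hm
    exact h4
  have hcore := fun i => point_core π c hπ (g i) (hg i)
  choose a' ha' using fun i => (hcore i).1
  let a : Fin n → A := fun j => Φ.symm (fun i => Φ (a' i j) i)
  let e : ι → A := fun i => Φ.symm (Pi.single i 1)
  have he : ∀ i, IsIdempotentElem (e i) := by
    intro i
    change e i * e i = e i
    apply Φ.injective
    rw [map_mul]
    simp only [e, RingEquiv.apply_symm_apply]
    rw [← Pi.single_mul, mul_one]
  have hge : ∀ i, g i (e i) = 1 := by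
    intro i
    rw [hgapp]
    simp only [e, RingEquiv.apply_symm_apply, Pi.single_eq_same, map_one]
  have hea : ∀ i j, e i * a j = e i * a' i j := by
    intro i j
    apply Φ.injective
    rw [map_mul, map_mul]
    simp only [e, a, RingEquiv.apply_symm_apply]
    funext k
    rw [Pi.mul_apply, Pi.mul_apply]
    by_cases hk : k = i
    · subst hk
      rfl
    · rw [Pi.single_eq_of_ne hk, zero_mul, zero_mul]
  refine ⟨a, ?_⟩
  have hd : IsUnit ((Algebra.TensorProduct.basis A c).det (fun i => rho π (a i))) := by
    rw [← isUnit_map_iff Φ, Pi.isUnit_iff]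
    intro i
    rw [← IsLocalRing.residue_ne_zero_iff_isUnit, ← hgapp,
      (hcore i).2 (e i) (he i) (hge i) a (a' i) (hea i)]
    exact ha' i
  obtain ⟨hli, hsp⟩ := ((Algebra.TensorProduct.basis A c).is_basis_iff_det).mpr hd
  constructor
  · rw [injective_iff_map_eq_zero]
    intro f hf
    rw [Fintype.linearCombination_apply] at hf
    funext i
    exact Fintype.linearIndependent_iff.mp hli f hf i
  · rw [← LinearMap.range_eq_top, Fintype.range_linearCombination]
    exact hsp

end Hensel

end Groth.Agent.Lib.T2H8.ConnEt
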