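import Mathlib
import Groth.Agent.Lib.Helper25Coinv

/-!
# T2H8ConnEtB: coinvariants of a normal Hopf ideal form a Hopf subalgebra (over a ring)

Ring-level versions (with flatness hypotheses) of `Helper25Coinv.isHopfSubalgebra_coinvSub`.
-/

set_option autoImplicit false
universe u

open TensorProduct HopfRep WithConv
open Groth.Agent.Lib.Helper25

namespace Groth.Agent.Lib.T2H8.ConnEt

section Antipode

variable {R A : Type u} [CommRing R] [CommRing A] [HopfAlgebra R A]
variable (I : Ideal A) [I.IsHopfIdeal R]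

theorem antipode_mem_coinvSub' (hI : SGA3.IsNormalHopfIdeal R A I) {x : A}
    (hx : x ∈ coinvSub R I) : HopfAlgebra.antipode R x ∈ coinvSub R I := by
  apply mem_coinvSub_of_forall
  intro g n hn
  have h1 : (g * n).ofConv (HopfAlgebra.antipode R x) = ((g * n)⁻¹).ofConv x := rfl
  have hG : ∀ (G : Type u) [Group G] (g n : G), (g * n)⁻¹ = g⁻¹ * (g * n⁻¹ * g⁻¹) := by
    intro G _ g n
    group
  have h2 : (g * n)⁻¹ = g⁻¹ * (g * n⁻¹ * g⁻¹) := hG _ g n
  rw [h1, h2, convMul_apply_of_mem_coinvSub I hx _ _ (Kills.conj I hI (Kills.inv I hn) g)]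
  rfl

end Antipode

section Comul

variable {R A : Type u} [CommRing R] [CommRing A] [HopfAlgebra R A]
variable (I : Ideal A) [I.IsHopfIdeal R]

variable (R) in
/-- the quotient map as a linear map -/
noncomputable abbrev pil : A →ₗ[R] A ⧸ I := (Ideal.Quotient.mkₐ R I).toLinearMap

variable (R A) in
/-- comultiplication -/
noncomputable abbrev cml : A →ₗ[R] A ⊗[R] A := CoalgebraStruct.comul (R := R) (A := A)

/-- `δ = ρ - (· ⊗ 1)`, whose kernel is the coinvariants. -/
noncomputable def dlt : A →ₗ[R] A ⊗[R] (A ⧸ I) :=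
  (rhoR R I).toLinearMap - (Algebra.TensorProduct.includeLeft : A →ₐ[R] A ⊗[R] (A ⧸ I)).toLinearMap

theorem dlt_apply (a : A) : dlt I a = rhoR R I a - a ⊗ₜ[R] (1 : A ⧸ I) := rfl

theorem exact_dlt : Function.Exact (coinvSub R I).val.toLinearMap (dlt (R := R) I) := by
  intro a
  constructor
  · intro h
    rw [dlt_apply, sub_eq_zero] at h
    exact ⟨⟨a, h⟩, rfl⟩
  · rintro ⟨b, rfl⟩
    rw [dlt_apply, sub_eq_zero]
    exact b.2

/-- `(id ⊗ ρ) cml R A x = cml R A x ⊗ 1` for a coinvariant `x` (coassociativity). -/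
theorem lTensor_dlt_comul {x : A} (hx : x ∈ coinvSub R I) :
    (dlt I).lTensor A (cml R A x) = 0 := by
  have hρ : (rhoR R I).toLinearMap = (pil R I).lTensor A ∘ₗ cml R A := by
    apply LinearMap.ext
    intro a
    exact rhoR_apply I a
  have hL : ((pil R I).lTensor A).lTensor A ∘ₗ (TensorProduct.assoc R A A A).toLinearMap ∘ₗ
      (cml R A).rTensor A =
      (TensorProduct.assoc R A A (A ⧸ I)).toLinearMap ∘ₗ (cml R A).rTensor (A ⧸ I) ∘ₗ (pil R I).lTensor A := by
    apply TensorProduct.ext'
    intro a b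
    simp only [LinearMap.comp_apply, LinearMap.rTensor_tmul, LinearMap.lTensor_tmul,
      LinearEquiv.coe_coe]
    generalize cml R A a = t
    induction t using TensorProduct.induction_on with
    | zero => simp
    | add y z hy hz => simp only [TensorProduct.add_tmul, map_add, hy, hz]
    | tmul p q => simp
  have hincl : ∀ t : A ⊗[R] A,
      (Algebra.TensorProduct.includeLeft : A →ₐ[R] A ⊗[R] (A ⧸ I)).toLinearMap.lTensor A t =
        TensorProduct.assoc R A A (A ⧸ I) (t ⊗ₜ[R] (1 : A ⧸ I)) := by
    intro t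
    induction t using TensorProduct.induction_on with
    | zero => simp
    | add y z hy hz => simp only [TensorProduct.add_tmul, map_add, hy, hz]
    | tmul p q => simp
  have h1 : (rhoR R I).toLinearMap.lTensor A (cml R A x) =
      TensorProduct.assoc R A A (A ⧸ I) ((cml R A x) ⊗ₜ[R] (1 : A ⧸ I)) := by
    rw [hρ, LinearMap.lTensor_comp, LinearMap.comp_apply, ← Coalgebra.coassoc_apply]
    have := LinearMap.congr_fun hL (cml R A x)
    simp only [LinearMap.comp_apply, LinearEquiv.coe_coe] at this
    rw [this, (mem_coinvSub (k := R) I).mp hx, LinearMap.rTensor_tmul]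
  unfold dlt
  rw [LinearMap.lTensor_sub, LinearMap.sub_apply, h1, hincl, sub_self]

/-- `(ρ ⊗ id) cml R A x = (· ⊗ 1 ⊗ id) cml R A x` for a coinvariant `x` of a normal Hopf ideal. -/
theorem rTensor_dlt_comul (hI : SGA3.IsNormalHopfIdeal R A I) {x : A} (hx : x ∈ coinvSub R I) :
    (dlt I).rTensor A (cml R A x) = 0 := by
  have hρ : (rhoR R I).toLinearMap = (pil R I).lTensor A ∘ₗ cml R A := by
    apply LinearMap.ext
    intro a
    exact rhoR_apply I a
  have key := key_of_normal (V := A) I hI x ((mem_coinvSub (k := R) I).mp hx)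
  change (((pil R I).rTensor A ∘ₗ cml R A).lTensor A) (cml R A x) =
    (Algebra.TensorProduct.includeRight : A →ₐ[R] (A ⧸ I) ⊗[R] A).toLinearMap.lTensor A (cml R A x) at key
  have hL : ((pil R I).lTensor A).rTensor A ∘ₗ (TensorProduct.assoc R A A A).symm.toLinearMap =
      (TensorProduct.assoc R A (A ⧸ I) A).symm.toLinearMap ∘ₗ ((pil R I).rTensor A).lTensor A := by
    apply TensorProduct.ext'
    intro a t
    simp only [LinearMap.comp_apply, LinearMap.lTensor_tmul, LinearEquiv.coe_coe]
    induction t using TensorProduct.induction_on with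
    | zero => simp
    | add y z hy hz => simp only [TensorProduct.tmul_add, map_add, hy, hz]
    | tmul p q => simp
  have hincl : ∀ t : A ⊗[R] A,
      (Algebra.TensorProduct.includeLeft : A →ₐ[R] A ⊗[R] (A ⧸ I)).toLinearMap.rTensor A t =
        (TensorProduct.assoc R A (A ⧸ I) A).symm
          ((Algebra.TensorProduct.includeRight : A →ₐ[R] (A ⧸ I) ⊗[R] A).toLinearMap.lTensor A t) := by
    intro t
    induction t using TensorProduct.induction_on with
    | zero => simp
    | add y z hy hz => simp only [map_add, hy, hz]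
    | tmul p q => simp
  have h1 : (rhoR R I).toLinearMap.rTensor A (cml R A x) =
      (TensorProduct.assoc R A (A ⧸ I) A).symm
        ((Algebra.TensorProduct.includeRight : A →ₐ[R] (A ⧸ I) ⊗[R] A).toLinearMap.lTensor A (cml R A x)) := by
    rw [hρ, LinearMap.rTensor_comp, LinearMap.comp_apply]
    have hco : (cml R A).rTensor A (cml R A x) = (TensorProduct.assoc R A A A).symm ((cml R A).lTensor A (cml R A x)) := by
      rw [← Coalgebra.coassoc_apply, LinearEquiv.symm_apply_apply]
    rw [hco]
    have := LinearMap.congr_fun hL ((cml R A).lTensor A (cml R A x))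
    simp only [LinearMap.comp_apply, LinearEquiv.coe_coe] at this
    rw [this, ← key, LinearMap.lTensor_comp, LinearMap.comp_apply]
  unfold dlt
  rw [LinearMap.rTensor_sub]
  change (rhoR R I).toLinearMap.rTensor A (cml R A x) -
    (Algebra.TensorProduct.includeLeft : A →ₐ[R] A ⊗[R] (A ⧸ I)).toLinearMap.rTensor A (cml R A x) = 0
  rw [h1, hincl, sub_self]

theorem comul_mem_of_mem_coinvSub' [Module.Flat R A] [Module.Flat R (A ⧸ I)]
    [Module.Flat R (coinvSub R I)]
    (hI : SGA3.IsNormalHopfIdeal R A I) {x : A} (hx : x ∈ coinvSub R I) :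
    cml R A x ∈ LinearMap.range
      (TensorProduct.map (coinvSub R I).val.toLinearMap (coinvSub R I).val.toLinearMap) := by
  set ι : (coinvSub R I) →ₗ[R] A := (coinvSub R I).val.toLinearMap with hι
  have hιinj : Function.Injective ι := Subtype.val_injective
  have hex := exact_dlt (R := R) I
  -- step 1: cml R A x comes from `B ⊗ A`
  have hexr : Function.Exact (ι.rTensor A) ((dlt I).rTensor A) := Module.Flat.rTensor_exact A hex
  obtain ⟨y, hy⟩ := (hexr (cml R A x)).mp (rTensor_dlt_comul I hI hx)
  -- step 2: `y` comes from `B ⊗ B`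
  have h2 : (dlt I).lTensor (coinvSub R I) y = 0 := by
    have hinj : Function.Injective (ι.rTensor (A ⊗[R] (A ⧸ I))) :=
      Module.Flat.rTensor_preserves_injective_linearMap ι hιinj
    apply hinj
    rw [map_zero, ← LinearMap.comp_apply, LinearMap.rTensor_comp_lTensor,
      ← LinearMap.lTensor_comp_rTensor, LinearMap.comp_apply, hy]
    exact lTensor_dlt_comul I hx
  have hexl : Function.Exact (ι.lTensor (coinvSub R I)) ((dlt I).lTensor (coinvSub R I)) :=
    Module.Flat.lTensor_exact (coinvSub R I) hex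
  obtain ⟨w, hw⟩ := (hexl y).mp h2
  refine ⟨w, ?_⟩
  rw [← hy, ← hw, ← LinearMap.comp_apply, LinearMap.rTensor_comp_lTensor]

theorem isHopfSubalgebra_coinvSub' [Module.Flat R A] [Module.Flat R (A ⧸ I)]
    [Module.Flat R (coinvSub R I)]
    (hI : SGA3.IsNormalHopfIdeal R A I) :
    SGA3.IsHopfSubalgebra R A (coinvSub R I) :=
  ⟨fun _ hb => comul_mem_of_mem_coinvSub' I hI hb, fun _ hb => antipode_mem_coinvSub' I hI hb⟩

end Comul

end Groth.Agent.Lib.T2H8.ConnEt
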