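import Mathlib

/-! # T2H8HopfSubR: the Hopf algebra structure on a Hopf subalgebra, over a ring (flat case)

Ring-level copy of `Helper6HopfSub` (which works over a field): `A` and `B` flat over `k`. -/

set_option autoImplicit false

namespace Groth.Agent.Lib.T2H8.HopfSubR

open TensorProduct Coalgebra

universe u v

variable {k : Type u} [CommRing k] {A : Type v} [CommRing A] [HopfAlgebra k A] (B : Subalgebra k A)
  [Module.Flat k A] [Module.Flat k B]

/-- `B ⊗ B → A ⊗ A`. -/
noncomputable abbrev i2 : B ⊗[k] B →ₗ[k] A ⊗[k] A :=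
  TensorProduct.map B.val.toLinearMap B.val.toLinearMap

lemma i2_injective : Function.Injective (i2 B) :=
  TensorProduct.map_injective_of_flat_flat _ _ Subtype.val_injective Subtype.val_injective

/-- `B ⊗ (B ⊗ B) → A ⊗ (A ⊗ A)`. -/
noncomputable abbrev i3 : B ⊗[k] (B ⊗[k] B) →ₗ[k] A ⊗[k] (A ⊗[k] A) :=
  TensorProduct.map B.val.toLinearMap (i2 B)

lemma i3_injective : Function.Injective (i3 B) :=
  TensorProduct.map_injective_of_flat_flat _ _ Subtype.val_injective (i2_injective B)

lemma i2_eq_algHom (t : B ⊗[k] B) : i2 B t = Algebra.TensorProduct.map B.val B.val t := rfl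

lemma i2_mul (s t : B ⊗[k] B) : i2 B (s * t) = i2 B s * i2 B t := by
  rw [i2_eq_algHom, i2_eq_algHom, i2_eq_algHom, map_mul]

lemma i2_one : i2 B 1 = 1 := by
  rw [i2_eq_algHom, map_one]

variable (hΔ : ∀ b ∈ B, comul (R := k) b ∈ LinearMap.range (i2 B))
  (hS : ∀ b ∈ B, HopfAlgebra.antipode k b ∈ B)

/-- The comultiplication of `B`. -/
noncomputable def comulB : B →ₗ[k] B ⊗[k] B :=
  (LinearEquiv.ofInjective (i2 B) (i2_injective B)).symm.toLinearMap ∘ₗ
    LinearMap.codRestrict (LinearMap.range (i2 B)) (comul ∘ₗ B.val.toLinearMap)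
      (fun b => hΔ b b.2)

lemma i2_comulB (b : B) : i2 B (comulB B hΔ b) = comul (R := k) (b : A) := by
  unfold comulB
  rw [LinearMap.comp_apply, LinearEquiv.coe_coe]
  have := LinearEquiv.apply_symm_apply (LinearEquiv.ofInjective (i2 B) (i2_injective B))
    (LinearMap.codRestrict (LinearMap.range (i2 B)) (comul ∘ₗ B.val.toLinearMap)
      (fun b => hΔ b b.2) b)
  exact congrArg Subtype.val this

/-- The counit of `B`. -/
noncomputable def counitB : B →ₗ[k] k := counit ∘ₗ B.val.toLinearMap

/-- The antipode of `B`. -/
noncomputable def antipodeB : B →ₗ[k] B :=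
  LinearMap.codRestrict (Subalgebra.toSubmodule B) (HopfAlgebra.antipode k ∘ₗ B.val.toLinearMap)
    (fun b => hS b b.2)

lemma coe_antipodeB (b : B) : (antipodeB B hS b : A) = HopfAlgebra.antipode k (b : A) := rfl

lemma i3_assoc_tmul (s : B ⊗[k] B) (y : B) :
    i3 B (TensorProduct.assoc k B B B (s ⊗ₜ[k] y)) =
      TensorProduct.assoc k A A A (i2 B s ⊗ₜ[k] (y : A)) := by
  induction s using TensorProduct.induction_on with
  | zero => simp
  | add s₁ s₂ h₁ h₂ => simp only [add_tmul, map_add, h₁, h₂]
  | tmul u v => simp

lemma i3_assoc_rTensor (t : B ⊗[k] B) :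
    i3 B (TensorProduct.assoc k B B B ((comulB B hΔ).rTensor B t)) =
      TensorProduct.assoc k A A A ((comul (R := k) (A := A)).rTensor A (i2 B t)) := by
  induction t using TensorProduct.induction_on with
  | zero => simp
  | add t₁ t₂ h₁ h₂ => simp only [map_add, h₁, h₂]
  | tmul x y =>
    rw [LinearMap.rTensor_tmul, i3_assoc_tmul, i2_comulB]
    simp

lemma i3_lTensor (t : B ⊗[k] B) :
    i3 B ((comulB B hΔ).lTensor B t) = (comul (R := k) (A := A)).lTensor A (i2 B t) := by
  induction t using TensorProduct.induction_on with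
  | zero => simp
  | add t₁ t₂ h₁ h₂ => simp only [map_add, h₁, h₂]
  | tmul x y =>
    rw [LinearMap.lTensor_tmul, TensorProduct.map_tmul, i2_comulB]
    simp

lemma lTensor_val_injective :
    Function.Injective (B.val.toLinearMap.lTensor k : k ⊗[k] B →ₗ[k] k ⊗[k] A) :=
  Module.Flat.lTensor_preserves_injective_linearMap _ Subtype.val_injective

lemma rTensor_val_injective :
    Function.Injective (B.val.toLinearMap.rTensor k : B ⊗[k] k →ₗ[k] A ⊗[k] k) :=
  Module.Flat.rTensor_preserves_injective_linearMap _ Subtype.val_injective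

lemma val_counit_rTensor (t : B ⊗[k] B) :
    B.val.toLinearMap.lTensor k ((counitB B).rTensor B t) =
      (counit (R := k) (A := A)).rTensor A (i2 B t) := by
  induction t using TensorProduct.induction_on with
  | zero => simp
  | add t₁ t₂ h₁ h₂ => simp only [map_add, h₁, h₂]
  | tmul x y => simp [counitB]

lemma val_counit_lTensor (t : B ⊗[k] B) :
    B.val.toLinearMap.rTensor k ((counitB B).lTensor B t) =
      (counit (R := k) (A := A)).lTensor A (i2 B t) := by
  induction t using TensorProduct.induction_on with
  | zero => simp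
  | add t₁ t₂ h₁ h₂ => simp only [map_add, h₁, h₂]
  | tmul x y => simp [counitB]

/-- The coalgebra structure of a Hopf subalgebra. -/
@[reducible] noncomputable def coalgebraB : Coalgebra k B where
  comul := comulB B hΔ
  counit := counitB B
  coassoc := by
    ext b
    apply i3_injective B
    simp only [LinearMap.comp_apply, LinearEquiv.coe_coe]
    rw [i3_assoc_rTensor, i3_lTensor, i2_comulB, Coalgebra.coassoc_apply]
  rTensor_counit_comp_comul := by
    ext b
    apply lTensor_val_injective B
    simp only [LinearMap.comp_apply]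
    rw [val_counit_rTensor, i2_comulB, Coalgebra.rTensor_counit_comul]
    simp
  lTensor_counit_comp_comul := by
    ext b
    apply rTensor_val_injective B
    simp only [LinearMap.comp_apply]
    rw [val_counit_lTensor, i2_comulB, Coalgebra.lTensor_counit_comul]
    simp

/-- The bialgebra structure of a Hopf subalgebra. -/
@[reducible] noncomputable def bialgebraB : Bialgebra k B :=
  letI := coalgebraB B hΔ
  Bialgebra.mk' k B
    (by
      change counit (R := k) ((1 : B) : A) = 1
      simp)
    (by
      intro a b
      change counit (R := k) ((a * b : B) : A) = counit (R := k) (a : A) * counit (R := k) (b : A)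
      simp)
    (by
      apply i2_injective B
      change i2 B (comulB B hΔ 1) = _
      rw [i2_comulB, i2_one]
      simp)
    (by
      intro a b
      apply i2_injective B
      change i2 B (comulB B hΔ (a * b)) = i2 B (comulB B hΔ a * comulB B hΔ b)
      rw [i2_mul, i2_comulB, i2_comulB, i2_comulB]
      simp)

lemma val_mul_antipode_rTensor (t : B ⊗[k] B) :
    ((LinearMap.mul' k B ((antipodeB B hS).rTensor B t) : B) : A) =
      LinearMap.mul' k A ((HopfAlgebra.antipode k).rTensor A (i2 B t)) := by
  induction t using TensorProduct.induction_on with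
  | zero => simp
  | add t₁ t₂ h₁ h₂ => simp only [map_add, Subalgebra.coe_add, h₁, h₂]
  | tmul x y => simp [coe_antipodeB]

lemma val_mul_antipode_lTensor (t : B ⊗[k] B) :
    ((LinearMap.mul' k B ((antipodeB B hS).lTensor B t) : B) : A) =
      LinearMap.mul' k A ((HopfAlgebra.antipode k).lTensor A (i2 B t)) := by
  induction t using TensorProduct.induction_on with
  | zero => simp
  | add t₁ t₂ h₁ h₂ => simp only [map_add, Subalgebra.coe_add, h₁, h₂]
  | tmul x y => simp [coe_antipodeB]

/-- The Hopf algebra structure of a Hopf subalgebra. -/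
@[reducible] noncomputable def hopfAlgebraB : HopfAlgebra k B :=
  letI := bialgebraB B hΔ
  { antipode := antipodeB B hS
    mul_antipode_rTensor_comul := by
      ext b
      change ((LinearMap.mul' k B ((antipodeB B hS).rTensor B (comulB B hΔ b)) : B) : A) =
        ((algebraMap k B (counit (R := k) (b : A)) : B) : A)
      rw [val_mul_antipode_rTensor, i2_comulB, HopfAlgebra.mul_antipode_rTensor_comul_apply]
      rfl
    mul_antipode_lTensor_comul := by
      ext b
      change ((LinearMap.mul' k B ((antipodeB B hS).lTensor B (comulB B hΔ b)) : B) : A) =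
        ((algebraMap k B (counit (R := k) (b : A)) : B) : A)
      rw [val_mul_antipode_lTensor, i2_comulB, HopfAlgebra.mul_antipode_lTensor_comul_apply]
      rfl }

lemma counit_hopfAlgebraB (b : B) :
    (letI := hopfAlgebraB B hΔ hS; counit (R := k) b) = counit (R := k) (b : A) := rfl

end Groth.Agent.Lib.T2H8.HopfSubR
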