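import Mathlib
import Groth.Agent.Lib.T2H8IdxA

/-!
# Invariants of a Hopf coaction commute with flat base change (helper8)
-/

set_option autoImplicit false
universe u v w u'

namespace Groth.Agent.Lib.T2H8.Idx


open TensorProduct WithConv Groth.Agent.Lib.Helper25 Groth.Agent.Lib.T2H8.HInv Coalgebra

section BaseChange

variable {R : Type u} [CommRing R] {A : Type v} [CommRing A] [HopfAlgebra R A]
  {C : Type w} [CommRing C] [HopfAlgebra R C] (π : A →ₐc[R] C)
  (S : Type u') [CommRing S] [Algebra R S]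

/-- The base change of `π`. -/
noncomputable def piS : S ⊗[R] A →ₐc[S] S ⊗[R] C :=
  Bialgebra.TensorProduct.map (BialgHom.id S S) π

theorem piS_tmul (s : S) (a : A) : piS π S (s ⊗ₜ[R] a) = s ⊗ₜ[R] π a := rfl

theorem piS_surjective (hπ : Function.Surjective π) : Function.Surjective (piS π S) := by
  have : (⇑(piS π S)) = ⇑(LinearMap.lTensor S ((π : A →ₐ[R] C).toLinearMap)) := by
    funext t
    induction t using TensorProduct.induction_on with
    | zero => simp
    | add y z hy hz => simp only [map_add, hy, hz]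
    | tmul a b => rfl
  rw [this]
  exact LinearMap.lTensor_surjective S hπ

/-- The comparison `S ⊗ (A ⊗ C) ≃ (S ⊗ A) ⊗_S (S ⊗ C)`. -/
noncomputable def Theta : S ⊗[R] (A ⊗[R] C) ≃ₗ[S] (S ⊗[R] A) ⊗[S] (S ⊗[R] C) :=
  AlgebraTensorModule.distribBaseChange R S A C

theorem Theta_tmul (s : S) (a : A) (c : C) :
    Theta (A := A) (C := C) S (s ⊗ₜ[R] (a ⊗ₜ[R] c)) = (s ⊗ₜ[R] a) ⊗ₜ[S] ((1 : S) ⊗ₜ[R] c) := by
  simp [Theta]

theorem comul_one_tmul (a : A) :
    comul (R := S) ((1 : S) ⊗ₜ[R] a) =
      ∑ i ∈ (ℛ R a).index, ((1 : S) ⊗ₜ[R] (ℛ R a).left i) ⊗ₜ[S] ((1 : S) ⊗ₜ[R] (ℛ R a).right i) := by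
  rw [TensorProduct.comul_tmul, ← (ℛ R a).eq, TensorProduct.tmul_sum, map_sum]
  refine Finset.sum_congr rfl fun i _ => ?_
  rw [CommSemiring.comul_apply, AlgebraTensorModule.tensorTensorTensorComm_tmul]

theorem rho_piS_one_tmul (a : A) :
    rho (piS π S) ((1 : S) ⊗ₜ[R] a) = Theta S ((1 : S) ⊗ₜ[R] rho π a) := by
  rw [rho_apply, rho_apply, comul_one_tmul, map_sum, ← (ℛ R a).eq, map_sum, TensorProduct.tmul_sum,
    map_sum]
  refine Finset.sum_congr rfl fun i _ => ?_
  rw [Algebra.TensorProduct.map_tmul, Algebra.TensorProduct.map_tmul, Theta_tmul]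
  rfl

theorem rho_piS_eq (z : S ⊗[R] A) :
    rho (piS π S) z = Theta S (LinearMap.baseChange S (rho π).toLinearMap z) := by
  induction z using TensorProduct.induction_on with
  | zero => simp
  | add y z hy hz => simp only [map_add, hy, hz]
  | tmul s a =>
    have e : s ⊗ₜ[R] a = s • ((1 : S) ⊗ₜ[R] a) := by
      rw [TensorProduct.smul_tmul', smul_eq_mul, mul_one]
    rw [e, map_smul, rho_piS_one_tmul, map_smul, map_smul]
    rfl

theorem includeLeft_eq (z : S ⊗[R] A) :
    z ⊗ₜ[S] (1 : S ⊗[R] C) = Theta S (LinearMap.baseChange S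
      (Algebra.TensorProduct.includeLeft : A →ₐ[R] A ⊗[R] C).toLinearMap z) := by
  induction z using TensorProduct.induction_on with
  | zero => simp
  | add y z hy hz => simp only [map_add, TensorProduct.add_tmul, hy, hz]
  | tmul s a =>
    rw [LinearMap.baseChange_tmul]
    change _ = Theta S (s ⊗ₜ[R] (a ⊗ₜ[R] (1 : C)))
    rw [Theta_tmul]
    rfl

/-- The difference map whose kernel is the invariants. -/
noncomputable def delta : A →ₗ[R] A ⊗[R] C :=
  (rho π).toLinearMap - (Algebra.TensorProduct.includeLeft : A →ₐ[R] A ⊗[R] C).toLinearMap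

theorem mem_inv_iff_delta (a : A) : a ∈ inv π ↔ delta π a = 0 := by
  rw [mem_inv_iff, delta, LinearMap.sub_apply, sub_eq_zero]
  rfl

theorem delta_piS_eq (z : S ⊗[R] A) :
    delta (piS π S) z = Theta S (LinearMap.baseChange S (delta π) z) := by
  rw [delta, LinearMap.sub_apply, delta, LinearMap.baseChange_sub, LinearMap.sub_apply, map_sub,
    ← rho_piS_eq, ← includeLeft_eq]
  rfl

/-- The inclusion of the base-changed invariants. -/
noncomputable def jS : S ⊗[R] ↥(inv π) →ₗ[S] S ⊗[R] A :=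
  LinearMap.baseChange S (inv π).val.toLinearMap

theorem jS_injective [Module.Flat R S] : Function.Injective (jS π S) := by
  have h : Function.Injective (inv π).val.toLinearMap := Subtype.val_injective
  exact Module.Flat.lTensor_preserves_injective_linearMap (M := S) _ h

theorem range_jS [Module.Flat R S] (z : S ⊗[R] A) :
    z ∈ LinearMap.range (jS π S) ↔ z ∈ inv (piS π S) := by
  rw [mem_inv_iff_delta, delta_piS_eq, LinearEquiv.map_eq_zero_iff]
  have hex : Function.Exact (inv π).val.toLinearMap (delta π) := by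
    intro a
    constructor
    · intro h
      exact ⟨⟨a, (mem_inv_iff_delta π a).mpr h⟩, rfl⟩
    · rintro ⟨b, rfl⟩
      exact (mem_inv_iff_delta π _).mp b.2
  have hex2 := Module.Flat.lTensor_exact S hex
  exact (hex2 z).symm

/-- Invariants commute with flat base change. -/
noncomputable def invBaseChange [Module.Flat R S] : S ⊗[R] ↥(inv π) ≃ₗ[S] ↥(inv (piS π S)) :=
  LinearEquiv.ofBijective
    ((jS π S).codRestrict (Subalgebra.toSubmodule (inv (piS π S)))
      (fun z => (range_jS π S _).mp ⟨z, rfl⟩))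
    ⟨fun x y h => jS_injective π S (congrArg Subtype.val h),
     fun ⟨z, hz⟩ => by
       obtain ⟨w, hw⟩ := (range_jS π S z).mpr hz
       exact ⟨w, Subtype.ext hw⟩⟩

end BaseChange

end Groth.Agent.Lib.T2H8.Idx
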