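import Mathlib
import Groth.Agent.Lib.T2H8IdxB

/-!
# The index formula for finite flat group schemes (helper8)
-/

set_option autoImplicit false
universe u v w u'

namespace Groth.Agent.Lib.T2H8.Idx

open TensorProduct WithConv Groth.Agent.Lib.Helper25 Groth.Agent.Lib.T2H8.HInv Coalgebra Polynomial



section LocalCore

variable {R : Type u} [CommRing R] [IsLocalRing R] [Infinite (IsLocalRing.ResidueField R)]
  {A : Type v} [CommRing A] [HopfAlgebra R A] [Module.Finite R A] [Module.Projective R A]
  {C : Type w} [CommRing C] [HopfAlgebra R C] [Module.Finite R C] [Module.Projective R C]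
  (π : A →ₐc[R] C)

/-- Local base with infinite residue field: the invariants are finite projective and the index
formula holds. -/
theorem inv_projective_and_finrank (hπ : Function.Surjective π) :
    Module.Finite R (inv π) ∧ Module.Projective R (inv π) ∧
      Module.finrank R A = Module.finrank R C * Module.finrank R (inv π) := by
  haveI : Module.Free R C := Module.free_of_flat_of_isLocalRing
  haveI : Nontrivial C := (Bialgebra.counitAlgHom R C).toRingHom.domain_nontrivial
  set n := Module.finrank R C with hn
  have hnpos : 0 < n := (Module.finrank_pos_iff_of_free R C).mpr inferInstance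
  let c : Module.Basis (Fin n) R C := Module.finBasis R C
  obtain ⟨a, ha⟩ := exists_coact_basis_local π hπ c
  obtain ⟨b, -⟩ := exists_basis_inv π a ha
  let eR : A ≃ₗ[R] (Fin n → inv π) := b.equivFun.restrictScalars R
  let i₀ : Fin n := ⟨0, hnpos⟩
  let s : inv π →ₗ[R] A := eR.symm.toLinearMap ∘ₗ LinearMap.single R (fun _ : Fin n => inv π) i₀
  let r : A →ₗ[R] inv π := LinearMap.proj i₀ ∘ₗ eR.toLinearMap
  have hrs : r.comp s = LinearMap.id := by
    apply LinearMap.ext
    intro x
    simp [r, s]
  have hrsurj : Function.Surjective r := fun x => ⟨s x, LinearMap.congr_fun hrs x⟩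
  haveI hfin : Module.Finite R (inv π) := Module.Finite.of_surjective r hrsurj
  haveI hproj : Module.Projective R (inv π) := Module.Projective.of_split s r hrs
  haveI : Module.Free R (inv π) := Module.free_of_flat_of_isLocalRing
  refine ⟨hfin, hproj, ?_⟩
  rw [eR.finrank_eq, Module.finrank_pi_fintype, Finset.sum_const, Finset.card_univ, Fintype.card_fin,
    smul_eq_mul]

end LocalCore



section Ext

variable (R : Type u) [CommRing R] [IsLocalRing R]

/-- The prime `𝔪 R[X]` of the polynomial ring. -/
noncomputable abbrev primeX : Ideal R[X] := (IsLocalRing.maximalIdeal R).map (Polynomial.C : R →+* R[X])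

/-- `R(X)`: the localisation of `R[X]` at `𝔪 R[X]`, a faithfully flat local `R`-algebra with
infinite residue field. -/
noncomputable abbrev RX : Type u := Localization.AtPrime (primeX R)

instance : Module.Flat R (RX R) := Module.Flat.trans R R[X] (RX R)

instance : IsLocalHom (algebraMap R (RX R)) := by
  constructor
  intro r hr
  by_contra hnr
  have h1 : r ∈ IsLocalRing.maximalIdeal R := hnr
  have h2 : (Polynomial.C r : R[X]) ∈ primeX R := Ideal.mem_map_of_mem _ h1
  have h3 : algebraMap R (RX R) r = algebraMap R[X] (RX R) (Polynomial.C r) := by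
    rw [IsScalarTower.algebraMap_apply R R[X] (RX R)]
    rfl
  rw [h3, IsLocalization.AtPrime.isUnit_to_map_iff (RX R) (primeX R)] at hr
  exact hr h2

instance : Module.FaithfullyFlat R (RX R) := Module.FaithfullyFlat.of_flat_of_isLocalHom

instance : Infinite (IsLocalRing.ResidueField (RX R)) := by
  let f : ℕ → IsLocalRing.ResidueField (RX R) := fun i =>
    IsLocalRing.residue (RX R) (algebraMap R[X] (RX R) (X ^ i))
  apply Infinite.of_injective f
  intro i j hij
  by_contra hne
  have h1 : IsLocalRing.residue (RX R) (algebraMap R[X] (RX R) (X ^ i - X ^ j)) = 0 := by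
    rw [map_sub, map_sub, sub_eq_zero]
    exact hij
  rw [IsLocalRing.residue_eq_zero_iff,
    IsLocalization.AtPrime.to_map_mem_maximal_iff (RX R) (primeX R)] at h1
  rw [Ideal.mem_map_C_iff] at h1
  have h2 := h1 i
  rw [coeff_sub, coeff_X_pow, coeff_X_pow, if_pos rfl, if_neg hne, sub_zero] at h2
  exact (IsLocalRing.maximalIdeal R).ne_top_iff_one.mp (Ideal.IsMaximal.ne_top inferInstance) h2

end Ext


section LocalNoeth

variable {R : Type u} [CommRing R] [IsLocalRing R] [IsNoetherianRing R]
  {A : Type v} [CommRing A] [HopfAlgebra R A] [Module.Finite R A] [Module.Projective R A]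
  {C : Type w} [CommRing C] [HopfAlgebra R C] [Module.Finite R C] [Module.Projective R C]
  (π : A →ₐc[R] C)

/-- Noetherian local base: the invariants are free and the index formula holds. -/
theorem free_inv_and_finrank_local (hπ : Function.Surjective π) :
    Module.Free R (inv π) ∧
      Module.finrank R A = Module.finrank R C * Module.finrank R (inv π) := by
  let S := RX R
  obtain ⟨hfin, hproj, hrank⟩ := inv_projective_and_finrank (piS π S) (piS_surjective π S hπ)
  let e := invBaseChange π S
  haveI : Module.Flat S (S ⊗[R] inv π) := Module.Flat.of_linearEquiv e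
  haveI : Module.Flat R (inv π) := Module.Flat.of_flat_tensorProduct R _ S
  haveI : IsNoetherian R A := isNoetherian_of_isNoetherianRing_of_finite R A
  haveI : Module.Finite R (inv π) :=
    Module.Finite.of_injective (inv π).val.toLinearMap Subtype.val_injective
  haveI : Module.Free R (inv π) := Module.free_of_flat_of_isLocalRing
  haveI : Module.Free R A := Module.free_of_flat_of_isLocalRing
  haveI : Module.Free R C := Module.free_of_flat_of_isLocalRing
  refine ⟨inferInstance, ?_⟩
  rw [← e.finrank_eq, Module.finrank_baseChange, Module.finrank_baseChange,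
    Module.finrank_baseChange] at hrank
  exact hrank

end LocalNoeth


section Global

variable {R : Type u} [CommRing R] [IsNoetherianRing R]
  {A : Type v} [CommRing A] [HopfAlgebra R A] [Module.Finite R A] [Module.Projective R A]
  {C : Type w} [CommRing C] [HopfAlgebra R C] [Module.Finite R C] [Module.Projective R C]
  (π : A →ₐc[R] C)

/-- **Index formula**: the order of a finite flat group is the order of a finite flat closed
subgroup times the rank of the ring of invariant functions. -/
theorem rankAtStalk_eq_mul_inv (hπ : Function.Surjective π) (q : PrimeSpectrum R) :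
    Module.rankAtStalk A q = Module.rankAtStalk C q * Module.rankAtStalk (inv π) q := by
  let R' := Localization.AtPrime q.asIdeal
  rw [Module.rankAtStalk_eq_finrank_tensorProduct, Module.rankAtStalk_eq_finrank_tensorProduct,
    Module.rankAtStalk_eq_finrank_tensorProduct]
  obtain ⟨-, h⟩ := free_inv_and_finrank_local (piS π R') (piS_surjective π R' hπ)
  rw [(invBaseChange π R').finrank_eq]
  exact h

end Global

section Quot

variable {R : Type u} [CommRing R] [IsNoetherianRing R] {A : Type v} [CommRing A]
  [HopfAlgebra R A] [Module.Finite R A] [Module.Projective R A] (I : Ideal A) [I.IsHopfIdeal R]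
  [Module.Projective R (A ⧸ I)]

theorem rankAtStalk_eq_mul_quot (q : PrimeSpectrum R) :
    Module.rankAtStalk A q =
      Module.rankAtStalk (A ⧸ I) q *
        Module.rankAtStalk
          (↥(AlgHom.equalizer
            ((Algebra.TensorProduct.map (AlgHom.id R A) (Ideal.Quotient.mkₐ R I)).comp
              (Bialgebra.comulAlgHom R A))
            (Algebra.TensorProduct.includeLeft : A →ₐ[R] A ⊗[R] (A ⧸ I)))) q :=
  rankAtStalk_eq_mul_inv (Bialgebra.Quotient.mkBialgHom (R := R) I) Ideal.Quotient.mk_surjective q

end Quot

end Groth.Agent.Lib.T2H8.Idx
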