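import Mathlib
import Groth.Agent.Lib.T2H8ConnEtA
import Groth.Agent.Lib.T2H8ConnEtB
import Groth.Agent.Lib.T2H8HopfSubR
import Groth.Agent.Lib.T2H8IdxC
import Groth.Agent.Lib.Helper6Hopf6
import Groth.Agent.Lib.Helper25EtConn2
import Groth.Prelude.Def_SGA3

/-!
# T2H8ConnEtC: the connected–étale sequence of a finite flat group over a henselian local ring

`connectedEtale_main` (S15061): the invariants `B` of `G⁰` form a finite étale Hopf subalgebra,
`A` is faithfully flat over `B` and `B⁺A = (1 - e)`.
-/

set_option autoImplicit false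
universe u

open TensorProduct
open Groth.Agent.Lib.T2H8.HInv
open Groth.Agent.Lib.T2H8.Idx
open Groth.Agent.Lib.Helper25

namespace Groth.Agent.Lib.T2H8.ConnEt

section Aug

variable {R : Type u} [CommRing R] {A : Type u} [CommRing A] [HopfAlgebra R A]
  {C : Type u} [CommRing C] [HopfAlgebra R C] (π : A →ₐc[R] C)

theorem lid_counit_rho (a : A) :
    Algebra.TensorProduct.lid R C
      (Algebra.TensorProduct.map (Bialgebra.counitAlgHom R A) (AlgHom.id R C) (rho π a)) = π a := by
  have h1 : ∀ t : A ⊗[R] A,
      Algebra.TensorProduct.map (Bialgebra.counitAlgHom R A) (AlgHom.id R C)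
        (Algebra.TensorProduct.map (AlgHom.id R A) (π : A →ₐ[R] C) t) =
      LinearMap.lTensor R (π : A →ₐ[R] C).toLinearMap
        (LinearMap.rTensor A Coalgebra.counit t) := by
    intro t
    induction t using TensorProduct.induction_on with
    | zero => simp
    | add x y hx hy => simp only [map_add, hx, hy]
    | tmul a b => simp
  rw [rho_apply, h1, Coalgebra.rTensor_counit_comul]
  simp

/-- An invariant function killed by the counit vanishes on the subgroup. -/
theorem map_eq_zero_of_mem_inv_of_counit {a : A} (ha : a ∈ inv π)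
    (h0 : Coalgebra.counit (R := R) a = 0) : π a = 0 := by
  rw [← lid_counit_rho π a, (mem_inv_iff π a).mp ha]
  simp only [Algebra.TensorProduct.map_tmul, Bialgebra.counitAlgHom_apply, h0,
    TensorProduct.zero_tmul, map_zero]

theorem augIdealSpan_le_ker :
    SGA3.augIdealSpan R A (inv π) ≤ RingHom.ker (π : A →+* C) := by
  unfold SGA3.augIdealSpan
  rw [Ideal.span_le]
  rintro a ⟨ha, h0⟩
  exact map_eq_zero_of_mem_inv_of_counit π ha h0

variable {n : ℕ} (a : Fin n → A)

/-- If `A` is spanned over the invariants by `n = rank C` elements, then the kernel of `π` is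
generated by the augmentation ideal of the invariants. -/
theorem ker_le_augIdealSpan (c : Module.Basis (Fin n) R C) (hπ : Function.Surjective π)
    (hspan : ∀ x : A, ∃ β : Fin n → inv π, x = ∑ j, (β j : A) * a j) :
    RingHom.ker (π : A →+* C) ≤ SGA3.augIdealSpan R A (inv π) := by
  set J := SGA3.augIdealSpan R A (inv π) with hJ
  let f : (Fin n → R) →ₗ[R] A := Fintype.linearCombination R a
  have hf : ∀ r, f r = ∑ j, r j • a j := fun r => Fintype.linearCombination_apply R a r
  have hstar : ∀ x : A, ∃ r : Fin n → R, x - f r ∈ J := by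
    intro x
    obtain ⟨β, hβ⟩ := hspan x
    refine ⟨fun j => Coalgebra.counit (R := R) (β j : A), ?_⟩
    have : x - f (fun j => Coalgebra.counit (R := R) (β j : A)) =
        ∑ j, ((β j : A) - algebraMap R A (Coalgebra.counit (R := R) (β j : A))) * a j := by
      rw [hβ, hf, ← Finset.sum_sub_distrib]
      apply Finset.sum_congr rfl
      intro j _
      rw [sub_mul, Algebra.smul_def]
    rw [this]
    apply Ideal.sum_mem
    intro j _
    apply Ideal.mul_mem_right
    apply Ideal.subset_span
    refine ⟨Subalgebra.sub_mem _ (β j).2 (Subalgebra.algebraMap_mem _ _), ?_⟩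
    rw [map_sub, Bialgebra.counit_algebraMap, sub_self]
  have hJle : J ≤ RingHom.ker (π : A →+* C) := augIdealSpan_le_ker π
  let g : (Fin n → R) →ₗ[R] (Fin n → R) :=
    c.equivFun.toLinearMap ∘ₗ (π : A →ₐ[R] C).toLinearMap ∘ₗ f
  have hgsurj : Function.Surjective g := by
    refine c.equivFun.surjective.comp ?_
    intro y
    obtain ⟨x, rfl⟩ := hπ y
    obtain ⟨r, hr⟩ := hstar x
    refine ⟨r, ?_⟩
    have h0 : π (x - f r) = 0 := hJle hr
    rw [map_sub, sub_eq_zero] at h0
    exact h0.symm
  have hginj : Function.Injective g := OrzechProperty.injective_of_surjective_endomorphism g hgsurj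
  intro x hx
  obtain ⟨r, hr⟩ := hstar x
  have h1 : π (f r) = 0 := by
    have h0 : π (x - f r) = 0 := hJle hr
    rw [map_sub, sub_eq_zero] at h0
    rw [← h0]
    exact hx
  have h2 : g r = 0 := by
    change c.equivFun (π (f r)) = 0
    rw [h1, map_zero]
  have h3 : r = 0 := hginj (by rw [h2, map_zero])
  rw [h3, map_zero, sub_zero] at hr
  exact hr

end Aug

section Main

open Groth.Agent.Lib.Helper6.Hopf Groth.Agent.Lib.T2H8.HopfSubR

/-- **S15061**: the connected–étale sequence over a henselian Noetherian local ring. -/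
theorem connectedEtale_main (R : Type u) [CommRing R] [HenselianLocalRing R] [IsNoetherianRing R]
    (A : Type u) [CommRing A] [HopfAlgebra R A] [Module.Finite R A] [Module.Flat R A]
    (e : A) (he : IsIdempotentElem e) (hε : Bialgebra.counitAlgHom R A e = 1)
    [IsLocalRing (A ⧸ Ideal.span ({1 - e} : Set A))] :
    SGA3.IsHopfSubalgebra R A
        (AlgHom.equalizer
          ((Algebra.TensorProduct.map (AlgHom.id R A) (Ideal.Quotient.mkₐ R (Ideal.span ({1 - e} : Set A)))).comp
            (Bialgebra.comulAlgHom R A))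
          (Algebra.TensorProduct.includeLeft : A →ₐ[R] A ⊗[R] (A ⧸ Ideal.span ({1 - e} : Set A)))) ∧
      Algebra.Etale R ↥(AlgHom.equalizer
          ((Algebra.TensorProduct.map (AlgHom.id R A) (Ideal.Quotient.mkₐ R (Ideal.span ({1 - e} : Set A)))).comp
            (Bialgebra.comulAlgHom R A))
          (Algebra.TensorProduct.includeLeft : A →ₐ[R] A ⊗[R] (A ⧸ Ideal.span ({1 - e} : Set A)))) ∧
      Module.FaithfullyFlat ↥(AlgHom.equalizer
          ((Algebra.TensorProduct.map (AlgHom.id R A) (Ideal.Quotient.mkₐ R (Ideal.span ({1 - e} : Set A)))).comp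
            (Bialgebra.comulAlgHom R A))
          (Algebra.TensorProduct.includeLeft : A →ₐ[R] A ⊗[R] (A ⧸ Ideal.span ({1 - e} : Set A)))) A ∧
      SGA3.augIdealSpan R A
        (AlgHom.equalizer
          ((Algebra.TensorProduct.map (AlgHom.id R A) (Ideal.Quotient.mkₐ R (Ideal.span ({1 - e} : Set A)))).comp
            (Bialgebra.comulAlgHom R A))
          (Algebra.TensorProduct.includeLeft : A →ₐ[R] A ⊗[R] (A ⧸ Ideal.span ({1 - e} : Set A)))) =
        Ideal.span ({1 - e} : Set A) := by
  classical
  obtain ⟨hHopf, -, -, hflatC⟩ := Groth.Agent.Lib.Helper24G0.main R A e he hε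
  haveI : (Ideal.span ({1 - e} : Set A)).IsHopfIdeal R := hHopf
  haveI : Module.Flat R (A ⧸ Ideal.span ({1 - e} : Set A)) := hflatC
  have hnorm : SGA3.IsNormalHopfIdeal R A (Ideal.span ({1 - e} : Set A)) :=
    Groth.Agent.Lib.Helper25.EtConn2.isNormalHopfIdeal_span_one_sub R A e he hε
  set I : Ideal A := Ideal.span ({1 - e} : Set A) with hIdef
  let π : A →ₐc[R] A ⧸ I := Bialgebra.Quotient.mkBialgHom (R := R) I
  have hπ : Function.Surjective π := Ideal.Quotient.mk_surjective
  haveI : Module.Free R A := Module.free_of_flat_of_isLocalRing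
  haveI : Module.Free R (A ⧸ I) := Module.free_of_flat_of_isLocalRing
  obtain ⟨hfreeB, -⟩ := free_inv_and_finrank_local π hπ
  haveI : Module.Free R (inv π) := hfreeB
  have hBeq : inv π = coinvSub R I := rfl
  haveI : Module.Flat R (coinvSub R I) := (inferInstance : Module.Flat R (inv π))
  haveI : Algebra.IsIntegral R (A ⧸ I) := Algebra.IsIntegral.of_finite R _
  let c : Module.Basis (Fin (Module.finrank R (A ⧸ I))) R (A ⧸ I) := Module.finBasis R (A ⧸ I)
  obtain ⟨a, ha⟩ := exists_coact_basis_hensel π hπ c
  obtain ⟨b, hb⟩ := exists_basis_inv π a ha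
  -- (1)
  have h1 : SGA3.IsHopfSubalgebra R A (inv π) := isHopfSubalgebra_coinvSub' I hnorm
  -- (3)
  haveI : Module.Free (inv π) A := Module.Free.of_basis b
  haveI : Nontrivial A := (Bialgebra.counitAlgHom R A).toRingHom.domain_nontrivial
  have h3 : Module.FaithfullyFlat (inv π) A := inferInstance
  -- (4)
  have hspan : ∀ x : A, ∃ β : Fin (Module.finrank R (A ⧸ I)) → inv π,
      x = ∑ j, (β j : A) * a j := by
    intro x
    refine ⟨fun j => b.repr x j, ?_⟩
    conv_lhs => rw [← b.sum_repr x]
    apply Finset.sum_congr rfl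
    intro j _
    rw [hb j]
    rfl
  have hker : RingHom.ker (π : A →+* A ⧸ I) = I := Ideal.mk_ker
  have h4 : SGA3.augIdealSpan R A (inv π) = I :=
    le_antisymm ((augIdealSpan_le_ker π).trans hker.le)
      (hker.ge.trans (ker_le_augIdealSpan π a c hπ hspan))
  -- (2)
  have hII : I ^ 2 = I := by
    rw [hIdef, Ideal.span_singleton_pow]
    congr 2
    rw [pow_two]
    exact he.one_sub.eq
  have hunr : Algebra.FormallyUnramified R (inv π) := by
    letI : HopfAlgebra R (inv π) := hopfAlgebraB (inv π) h1.1 h1.2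
    apply unramified_of_augR_le_sq
    have hmap : (augR R (inv π)).map (algebraMap (inv π) A) = I := by
      refine Eq.trans ?_ h4
      unfold SGA3.augIdealSpan Ideal.map
      congr 1
      ext x
      constructor
      · rintro ⟨y, hy, rfl⟩
        exact ⟨y.2, mem_augR.mp hy⟩
      · rintro ⟨hx1, hx2⟩
        exact ⟨⟨x, hx1⟩, mem_augR.mpr hx2, rfl⟩
    have hmap2 : (augR R (inv π) ^ 2).map (algebraMap (inv π) A) = I := by
      rw [Ideal.map_pow, hmap, hII]
    have e1 := Ideal.comap_map_eq_self_of_faithfullyFlat (B := A) (augR R (inv π))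
    have e2 := Ideal.comap_map_eq_self_of_faithfullyFlat (B := A) (augR R (inv π) ^ 2)
    rw [hmap] at e1
    rw [hmap2] at e2
    rw [← e2, e1]
  haveI := hunr
  haveI : Module.Finite R (inv π) := by
    haveI : IsNoetherian R A := isNoetherian_of_isNoetherianRing_of_finite R A
    exact Module.Finite.of_injective (inv π).val.toLinearMap Subtype.val_injective
  haveI : Module.FinitePresentation R (inv π) := Module.finitePresentation_of_projective R _
  have h2 : Algebra.Etale R (inv π) := Algebra.Etale.of_formallyUnramified_of_flat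
  exact ⟨h1, h2, h3, h4⟩

end Main

end Groth.Agent.Lib.T2H8.ConnEt
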