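import Mathlib
import Groth.Prelude.Def_EtBase
import Groth.Prelude.Def_EtMod2
import Groth.Agent.Lib.Helper16SmallEtale
import Groth.Agent.Lib.T2H8IntBC

/-!
# Subsheaves of constant sheaves on irreducible schemes, sheaves of modules (helper8)
-/

set_option autoImplicit false
universe u
open CategoryTheory CategoryTheory.Limits AlgebraicGeometry Opposite

namespace Groth.Agent.Lib.T2H8ConstGenMod

open Groth.Agent.Lib.Helper16.SmallEtale

variable (Λ : Type (u + 1)) [CommRing Λ] {X : Scheme.{u}}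

/-- the constant presheaf -/
abbrev constPre (X : Scheme.{u}) (M : (ModuleCat.{u + 1} Λ)) : X.Etaleᵒᵖ ⥤ (ModuleCat.{u + 1} Λ) :=
  (Functor.const _).obj M

/-- the constant sheaf -/
noncomputable abbrev cst (X : Scheme.{u}) (M : (ModuleCat.{u + 1} Λ)) :
    Sheaf X.smallEtaleTopology (ModuleCat.{u + 1} Λ) :=
  (constantSheaf X.smallEtaleTopology (ModuleCat.{u + 1} Λ)).obj M

/-- the sheafification unit of a constant presheaf -/
noncomputable def eta (X : Scheme.{u}) (M : (ModuleCat.{u + 1} Λ)) : constPre Λ X M ⟶ (cst Λ X M).obj :=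
  toSheafify X.smallEtaleTopology (constPre Λ X M)

lemma eta_map (M : (ModuleCat.{u + 1} Λ)) {U W : X.Etale} (g : W ⟶ U) (m : M) :
    (cst Λ X M).obj.map g.op ((eta Λ X M).app (op U) m) = (eta Λ X M).app (op W) m :=
  (NatTrans.naturality_apply (eta Λ X M) g.op m).symm

lemma eta_naturality {M N : (ModuleCat.{u + 1} Λ)} (φ : M ⟶ N) (U : X.Etale) (m : M) :
    ((constantSheaf X.smallEtaleTopology (ModuleCat.{u + 1} Λ)).map φ).hom.app (op U)
      ((eta Λ X M).app (op U) m) = (eta Λ X N).app (op U) (φ m) := by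
  have h := toSheafify_naturality X.smallEtaleTopology ((Functor.const X.Etaleᵒᵖ).map φ)
  exact (congrArg (fun t => t.app (op U) m) h).symm

set_option backward.isDefEq.respectTransparency.types false in
/-- sections of a constant sheaf are locally constant -/
lemma eta_locSurj (M : (ModuleCat.{u + 1} Λ)) (U : X.Etale) (z : (cst Λ X M).obj.obj (op U))
    (p : U.left) :
    ∃ (W : X.Etale) (g : W ⟶ U) (w : W.left) (m : M), g.left w = p ∧
      (eta Λ X M).app (op W) m = (cst Λ X M).obj.map g.op z := by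
  have hW := X.smallEtaleTopology.W_toSheafify (constPre Λ X M)
  haveI := hW.isLocallySurjective
  have h1 := Presheaf.imageSieve_mem X.smallEtaleTopology
    (toSheafify X.smallEtaleTopology (constPre Λ X M)) z
  rw [mem_smallEtale_iff] at h1
  obtain ⟨W, g, w, ⟨m, hm⟩, hw⟩ := h1 p
  exact ⟨W, g, w, m, hw, hm⟩

set_option backward.isDefEq.respectTransparency.types false in
/-- the map from a group to the sections of the constant sheaf over a nonempty scheme is injective -/
lemma eta_injective_of_nonempty (M : (ModuleCat.{u + 1} Λ)) (U : X.Etale) (p : U.left) (m m' : M)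
    (h : (eta Λ X M).app (op U) m = (eta Λ X M).app (op U) m') : m = m' := by
  have hW := X.smallEtaleTopology.W_toSheafify (constPre Λ X M)
  haveI := hW.isLocallyInjective
  have h1 := Presheaf.equalizerSieve_mem X.smallEtaleTopology
    (toSheafify X.smallEtaleTopology (constPre Λ X M)) (X := op U) m m' h
  rw [mem_smallEtale_iff] at h1
  obtain ⟨W, g, w, hg, hw⟩ := h1 p
  exact hg

lemma preservesFiltered_forget :
    PreservesFilteredColimitsOfSize.{u, u} (forget (ModuleCat.{u + 1} Λ)) :=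
  preservesFilteredColimitsOfSize_shrink.{u, u + 1, u, u + 1} _

lemma injective_app_of_mono {F G : EtModW.Mod Λ X} (a : F ⟶ G) [Mono a] (U : X.Etaleᵒᵖ) :
    Function.Injective (a.hom.app U) := by
  haveI : Mono a.hom := (Sheaf.Hom.mono_iff_presheaf_mono _ _ a).mp inferInstance
  haveI : Mono (a.hom.app U) := inferInstance
  exact (ModuleCat.mono_iff_injective _).mp inferInstance

lemma map_map_apply (P : X.Etaleᵒᵖ ⥤ (ModuleCat.{u + 1} Λ)) {A B C : X.Etale} (f : A ⟶ B) (g : B ⟶ C)
    (x : P.obj (op C)) : P.map f.op (P.map g.op x) = P.map (f ≫ g).op x := by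
  rw [op_comp, Functor.map_comp]
  rfl

set_option backward.isDefEq.respectTransparency.types false in
/-- a point of an etale scheme over the generic point of an irreducible scheme -/
lemma exists_geometric_generic [IrreducibleSpace ↥X] {Ω : Type u} [Field Ω] [IsSepClosed Ω]
    (ξ : Spec (CommRingCat.of Ω) ⟶ X) (hξ : ξ.base default = genericPoint ↥X)
    (W : X.Etale) (w : W.left) :
    Nonempty ((Scheme.pointSmallEtale ξ).fiber.obj W) := by
  have hopen : IsOpen (Set.range W.hom.base) := W.hom.isOpenMap.isOpen_range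
  have hmem : genericPoint ↥X ∈ Set.range W.hom.base := by
    rw [(genericPoint_spec ↥X).mem_open_set_iff hopen]
    exact ⟨W.hom.base w, Set.mem_univ _, w, rfl⟩
  obtain ⟨q, hq⟩ := hmem
  obtain ⟨l, hl1, -⟩ := Scheme.exists_fac_of_etale_of_isSepClosed W.hom ξ q (hq.trans hξ.symm)
  exact ⟨Over.homMk l hl1⟩

set_option backward.isDefEq.respectTransparency.types false in
/-- a subsheaf of a constant sheaf on an irreducible scheme, containing a constant subsheaf and with
the same stalk at the generic geometric point, equals that constant subsheaf. -/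
theorem isIso_of_stalk_generic [IrreducibleSpace ↥X] {Ω : Type u} [Field Ω] [IsSepClosed Ω]
    (ξ : Spec (CommRingCat.of Ω) ⟶ X) (hξ : ξ.base default = genericPoint ↥X)
    (M' M : (ModuleCat.{u + 1} Λ)) (ι : M' ⟶ M) (G : EtModW.Mod Λ X)
    (a : cst Λ X M' ⟶ G) (b : G ⟶ cst Λ X M) [Mono a] [Mono b]
    (hab : a ≫ b = (constantSheaf X.smallEtaleTopology (ModuleCat.{u + 1} Λ)).map ι)
    (hst : Function.Surjective ((EtModW.stalk Λ ξ).map a)) : IsIso a := by
  have hbinj := injective_app_of_mono Λ b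
  haveI := preservesFiltered_forget Λ
  have hab' : ∀ (U : X.Etale) (t : (cst Λ X M').obj.obj (op U)),
      b.hom.app (op U) (a.hom.app (op U) t) =
        ((constantSheaf X.smallEtaleTopology (ModuleCat.{u + 1} Λ)).map ι).hom.app (op U) t := by
    intro U t
    exact congrArg (fun m => m.hom.app (op U) t) hab
  haveI : Sheaf.IsLocallySurjective a := by
    constructor
    intro U s
    rw [mem_smallEtale_iff]
    intro p
    let Φ := Scheme.pointSmallEtale ξ
    obtain ⟨W₁, g₁, w₁, m, hw₁, hm⟩ := eta_locSurj Λ M U (b.hom.app (op U) s) p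
    obtain ⟨x₁⟩ := exists_geometric_generic ξ hξ W₁ w₁
    obtain ⟨t₀, ht₀⟩ := hst (Φ.toPresheafFiber W₁ x₁ G.obj (G.obj.map g₁.op s))
    obtain ⟨W₂, x₂, t, rfl⟩ := Φ.toPresheafFiber_jointly_surjective (P := (cst Λ X M').obj) t₀
    have n1 : (EtModW.stalk Λ ξ).map a (Φ.toPresheafFiber W₂ x₂ (cst Λ X M').obj t) =
        Φ.toPresheafFiber W₂ x₂ G.obj (a.hom.app (op W₂) t) :=
      Φ.toPresheafFiber_naturality_apply a.hom W₂ x₂ t
    obtain ⟨W₃, x₃, c₂, c₁, -, -, hc⟩ :=
      Groth.Agent.Lib.T2H8IntBC.exists_common_of_germ_eq ξ G.obj x₂ x₁ (a.hom.app (op W₂) t)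
        (G.obj.map g₁.op s) (n1.symm.trans ht₀)
    obtain ⟨W₄, g₄, w₄, m', -, hm'⟩ := eta_locSurj Λ M' W₃ ((cst Λ X M').obj.map c₂.op t)
      ((x₃.left : Spec (CommRingCat.of Ω) ⟶ W₃.left) (default : Spec (CommRingCat.of Ω)))
    have e5 : (eta Λ X M).app (op W₄) m = (eta Λ X M).app (op W₄) (ι m') := by
      have l1 : (eta Λ X M).app (op W₄) m =
          b.hom.app (op W₄) (G.obj.map (g₄ ≫ c₁).op (G.obj.map g₁.op s)) := by
        rw [← eta_map Λ M (g₄ ≫ c₁) m, hm, map_map_apply Λ, map_map_apply Λ]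
        exact (NatTrans.naturality_apply b.hom ((g₄ ≫ c₁) ≫ g₁).op s).symm
      have r1 : (eta Λ X M).app (op W₄) (ι m') =
          b.hom.app (op W₄) (G.obj.map (g₄ ≫ c₂).op (a.hom.app (op W₂) t)) := by
        rw [← eta_naturality Λ ι W₄ m', hm', ← hab', map_map_apply Λ]
        congr 1
        exact (NatTrans.naturality_apply a.hom (g₄ ≫ c₂).op t)
      rw [l1, r1]
      congr 1
      rw [← map_map_apply Λ, ← map_map_apply Λ G.obj g₄ c₂, hc]
    have e6 := eta_injective_of_nonempty Λ M W₄ w₄ _ _ e5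
    refine ⟨W₁, g₁, w₁, ⟨(eta Λ X M').app (op W₁) m', ?_⟩, hw₁⟩
    apply hbinj
    rw [hab', eta_naturality Λ, ← e6, hm]
    exact (NatTrans.naturality_apply b.hom g₁.op s).symm
  haveI : Epi a := Sheaf.epi_of_isLocallySurjective a
  exact isIso_of_mono_of_epi a

end Groth.Agent.Lib.T2H8ConstGenMod
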