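import Mathlib
import Groth.Prelude.Def_EtShriek2
import Groth.Agent.Lib.Helper16SmallEtale
import Groth.Agent.Lib.T2H8AgreeAb
import Groth.Agent.Lib.T2H8Excision

/-!
# The trace map of a locally split morphism of the small étale site

For `p : V' ⟶ V` in `X.Etale` which is étale locally on `V` a disjoint union of `d` copies of the
base (in the sense of `Splitting`), and an abelian sheaf `F`, we construct
`tr : F(V') →+ F(V)`, characterised by `tr s|_W = ∑ σ_k^* s` for every splitting over `W ⟶ V`.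
-/

set_option autoImplicit false
set_option linter.unusedSectionVars false
set_option linter.style.haveILetI false
universe u
open CategoryTheory CategoryTheory.Limits Opposite AlgebraicGeometry

namespace Groth.Agent.Lib.T2H8.EtTrace

open Groth.Agent.Lib.T2H8AgreeAb Groth.Agent.Lib.T2H8.Excision

variable {X : Scheme.{u}}

section Agree

variable (F : EtCoh.Ab X)

lemma mem_agree_of_map_eq {V N : X.Etale} (ι : N ⟶ V) (y : N.left) (a b : F.obj.obj (op V))
    (h : F.obj.map ι.op a = F.obj.map ι.op b) : ι.left y ∈ agree F a b :=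
  ⟨N, ι, y, rfl, h⟩

lemma agree_add' {V : X.Etale} (a b c d : F.obj.obj (op V)) (v : V.left)
    (h1 : v ∈ agree F a b) (h2 : v ∈ agree F c d) : v ∈ agree F (a + c) (b + d) := by
  obtain ⟨W₁, g₁, w₁, hw₁, hg₁⟩ := h1
  obtain ⟨W₂, g₂, w₂, hw₂, hg₂⟩ := h2
  obtain ⟨P, c₁, c₂, q, hc, hq₁, hq₂⟩ := exists_fibre_product g₁ g₂ w₁ w₂ (hw₁.trans hw₂.symm)
  refine ⟨P, c₁ ≫ g₁, q, ?_, ?_⟩
  · have e : (c₁ ≫ g₁).left.base q = g₁.left.base (c₁.left.base q) := Scheme.Hom.comp_apply _ _ _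
    exact e.trans ((congrArg g₁.left.base hq₁).trans hw₁)
  · rw [map_add, map_add]
    have e1 : F.obj.map (c₁ ≫ g₁).op a = F.obj.map (c₁ ≫ g₁).op b := by
      rw [map_comp_apply, map_comp_apply, hg₁]
    have e2 : F.obj.map (c₁ ≫ g₁).op c = F.obj.map (c₁ ≫ g₁).op d := by
      rw [hc, map_comp_apply, map_comp_apply, hg₂]
    rw [e1, e2]

lemma agree_refl {V : X.Etale} (a : F.obj.obj (op V)) (v : V.left) : v ∈ agree F a a :=
  ⟨V, 𝟙 V, v, rfl, rfl⟩

lemma agree_sum {V : X.Etale} {ι : Type*} (s : Finset ι) (a b : ι → F.obj.obj (op V)) (v : V.left)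
    (h : ∀ i ∈ s, v ∈ agree F (a i) (b i)) : v ∈ agree F (∑ i ∈ s, a i) (∑ i ∈ s, b i) := by
  classical
  induction s using Finset.induction_on with
  | empty => simpa using agree_refl F (0 : F.obj.obj (op V)) v
  | insert i s hi ih =>
    rw [Finset.sum_insert hi, Finset.sum_insert hi]
    exact agree_add' F _ _ _ _ v (h i (Finset.mem_insert_self i s))
      (ih (fun j hj => h j (Finset.mem_insert_of_mem hj)))

end Agree

/-- a complete splitting of `p : V' ⟶ V` over `g : W ⟶ V` into `n` sections -/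
structure Splitting {V' V W : X.Etale} (p : V' ⟶ V) (g : W ⟶ V) (n : ℕ) where
  σ : Fin n → (W ⟶ V')
  comm : ∀ k, σ k ≫ p = g
  loc : ∀ (T : X.Etale) (a : T ⟶ V') (b : T ⟶ W), a ≫ p = b ≫ g → ∀ t : T.left,
    ∃ (k : Fin n) (N : X.Etale) (ι : N ⟶ T), (∃ y : N.left, ι.left y = t) ∧ ι ≫ a = ι ≫ b ≫ σ k
  uniq : ∀ (N : X.Etale) (b : N ⟶ W) (k l : Fin n), Nonempty N.left →
    b ≫ σ k = b ≫ σ l → k = l

namespace Splitting

variable {V' V W : X.Etale} {p : V' ⟶ V} {g : W ⟶ V} {n : ℕ}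

/-- base change of a splitting -/
def comp (S : Splitting p g n) {W' : X.Etale} (h : W' ⟶ W) : Splitting p (h ≫ g) n where
  σ k := h ≫ S.σ k
  comm k := by rw [Category.assoc, S.comm]
  loc T a b hab t := by
    obtain ⟨k, N, ι, hy, e⟩ := S.loc T a (b ≫ h) (by rw [hab, Category.assoc]) t
    exact ⟨k, N, ι, hy, by rw [e, Category.assoc]⟩
  uniq N b k l hN e := S.uniq N (b ≫ h) k l hN (by simpa using e)

/-- the sum of the restrictions along the sections -/
noncomputable def sum (S : Splitting p g n) (F : EtCoh.Ab X) (s : F.obj.obj (op V')) :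
    F.obj.obj (op W) := ∑ k, F.obj.map (S.σ k).op s

lemma map_sum (S : Splitting p g n) (F : EtCoh.Ab X) (s : F.obj.obj (op V')) {W' : X.Etale}
    (h : W' ⟶ W) : F.obj.map h.op (S.sum F s) = (S.comp h).sum F s := by
  unfold sum
  rw [_root_.map_sum]
  refine Finset.sum_congr rfl (fun k _ => ?_)
  exact (map_comp_apply F h (S.σ k) s).symm

lemma exists_match (S S' : Splitting p g n) (w : W.left) (l : Fin n) :
    ∃ (k : Fin n) (N : X.Etale) (ι : N ⟶ W), (∃ y : N.left, ι.left y = w) ∧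
      ι ≫ S'.σ l = ι ≫ S.σ k := by
  obtain ⟨k, N, ι, hy, e⟩ := S.loc W (S'.σ l) (𝟙 W) (by rw [S'.comm, Category.id_comp]) w
  exact ⟨k, N, ι, hy, by simpa using e⟩

/-- the sum does not depend on the splitting -/
theorem sum_eq (S S' : Splitting p g n) (F : EtCoh.Ab X) (s : F.obj.obj (op V')) :
    S.sum F s = S'.sum F s := by
  apply eq_of_agree_eq_univ
  intro w
  choose φ N ι hy e using fun l => exists_match S S' w l
  have hinj : Function.Injective φ := by
    intro l l' hll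
    obtain ⟨y, hy1⟩ := hy l
    obtain ⟨y', hy2⟩ := hy l'
    obtain ⟨P, c₁, c₂, q, hc, -, -⟩ :=
      exists_fibre_product (ι l) (ι l') y y' (hy1.trans hy2.symm)
    refine S'.uniq P (c₁ ≫ ι l) l l' ⟨q⟩ ?_
    calc (c₁ ≫ ι l) ≫ S'.σ l = c₁ ≫ ι l ≫ S.σ (φ l) := by rw [Category.assoc, e l]
      _ = (c₂ ≫ ι l') ≫ S.σ (φ l') := by rw [← Category.assoc, hc, hll]
      _ = (c₁ ≫ ι l) ≫ S'.σ l' := by rw [Category.assoc, ← e l', ← Category.assoc, ← hc]
  have hbij : Function.Bijective φ := Finite.injective_iff_bijective.mp hinj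
  have e1 : S.sum F s = ∑ l, F.obj.map (S.σ (φ l)).op s :=
    (Fintype.sum_bijective φ hbij _ _ (fun _ => rfl)).symm
  rw [e1]
  unfold Splitting.sum
  apply agree_sum
  intro l _
  obtain ⟨y, hy1⟩ := hy l
  rw [← hy1]
  apply mem_agree_of_map_eq
  rw [← map_comp_apply, ← map_comp_apply, e l]

/-- variant with propositionally equal base maps -/
theorem sum_eq' {g' : W ⟶ V} (S : Splitting p g n) (S' : Splitting p g' n) (h : g = g')
    (F : EtCoh.Ab X) (s : F.obj.obj (op V')) : S.sum F s = S'.sum F s := by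
  subst h
  exact sum_eq S S' F s

end Splitting

section Trace

variable {V' V : X.Etale} (p : V' ⟶ V) (d : ℕ)

/-- `p` is étale locally on `V` split into `d` sections -/
def LocSplit : Prop :=
  ∀ v : V.left, ∃ (W : X.Etale) (g : W ⟶ V) (w : W.left), g.left w = v ∧
    Nonempty (Splitting p g d)

/-- the sieve of maps over which `p` splits -/
def splitSieve : Sieve V where
  arrows W g := Nonempty (Splitting p g d)
  downward_closed := fun ⟨S⟩ h => ⟨S.comp h⟩

variable {p d}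

lemma splitSieve_mem (hp : LocSplit p d) : splitSieve p d ∈ X.smallEtaleTopology V := by
  rw [Groth.Agent.Lib.Helper16.SmallEtale.mem_smallEtale_iff]
  intro v
  obtain ⟨W, g, w, hw, hS⟩ := hp v
  exact ⟨W, g, w, hS, hw⟩

variable (F : EtCoh.Ab X)

/-- the family of local traces -/
noncomputable def locFam (s : F.obj.obj (op V')) :
    Presieve.FamilyOfElements (F.obj ⋙ forget AddCommGrpCat.{u + 1}) (splitSieve p d).arrows :=
  fun _ _ hg => (Classical.choice hg).sum F s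

lemma locFam_eq (s : F.obj.obj (op V')) {W : X.Etale} {g : W ⟶ V} (S : Splitting p g d) :
    locFam F s g ⟨S⟩ = S.sum F s :=
  Splitting.sum_eq _ _ F s

lemma locFam_compatible (s : F.obj.obj (op V')) : (locFam (p := p) (d := d) F s).Compatible := by
  intro W₁ W₂ Z f₁ f₂ g₁ g₂ h₁ h₂ comm
  obtain ⟨S₁⟩ := h₁
  obtain ⟨S₂⟩ := h₂
  change F.obj.map f₁.op (locFam F s g₁ ⟨S₁⟩) = F.obj.map f₂.op (locFam F s g₂ ⟨S₂⟩)
  rw [locFam_eq F s S₁, locFam_eq F s S₂, Splitting.map_sum, Splitting.map_sum]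
  exact Splitting.sum_eq' _ _ comm F s

/-- the trace of a section -/
noncomputable def trFun (hp : LocSplit p d) (s : F.obj.obj (op V')) : F.obj.obj (op V) :=
  ((isSheaf_forget F) _ (splitSieve_mem hp)).amalgamate (locFam F s) (locFam_compatible F s)

theorem trFun_spec (hp : LocSplit p d) (s : F.obj.obj (op V')) {W : X.Etale} {g : W ⟶ V}
    (S : Splitting p g d) : F.obj.map g.op (trFun F hp s) = S.sum F s := by
  have := ((isSheaf_forget F) _ (splitSieve_mem hp)).valid_glue (locFam_compatible F s) g ⟨S⟩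
  exact this.trans (locFam_eq F s S)

theorem trFun_ext (hp : LocSplit p d) (t t' : F.obj.obj (op V))
    (h : ∀ {W : X.Etale} {g : W ⟶ V} (_ : Splitting p g d), F.obj.map g.op t = F.obj.map g.op t') :
    t = t' := by
  apply ((isSheaf_forget F) _ (splitSieve_mem hp)).isSeparatedFor.ext
  rintro W g ⟨S⟩
  exact h S

/-- the trace homomorphism -/
noncomputable def tr (hp : LocSplit p d) : F.obj.obj (op V') →+ F.obj.obj (op V) :=
  AddMonoidHom.mk' (trFun F hp) (by
    intro s s'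
    apply trFun_ext F hp
    intro W g S
    rw [map_add, trFun_spec F hp _ S, trFun_spec F hp _ S, trFun_spec F hp _ S]
    unfold Splitting.sum
    rw [← Finset.sum_add_distrib]
    exact Finset.sum_congr rfl (fun k _ => map_add _ _ _))

theorem tr_spec (hp : LocSplit p d) (s : F.obj.obj (op V')) {W : X.Etale} {g : W ⟶ V}
    (S : Splitting p g d) : F.obj.map g.op (tr F hp s) = S.sum F s :=
  trFun_spec F hp s S

/-- `tr ∘ p^* = d` -/
theorem tr_map (hp : LocSplit p d) (s : F.obj.obj (op V)) :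
    tr F hp (F.obj.map p.op s) = d • s := by
  apply trFun_ext F hp
  intro W g S
  rw [tr_spec F hp _ S, map_nsmul]
  unfold Splitting.sum
  have : ∀ k : Fin d, F.obj.map (S.σ k).op (F.obj.map p.op s) = F.obj.map g.op s := by
    intro k
    rw [← map_comp_apply, S.comm]
  rw [Finset.sum_congr rfl (fun k _ => this k), Finset.sum_const, Finset.card_univ,
    Fintype.card_fin]

/-- naturality in the sheaf -/
theorem tr_naturality (hp : LocSplit p d) {G : EtCoh.Ab X} (φ : F ⟶ G) (s : F.obj.obj (op V')) :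
    φ.hom.app (op V) (tr F hp s) = tr G hp (φ.hom.app (op V') s) := by
  apply trFun_ext G hp
  intro W g S
  rw [tr_spec G hp _ S]
  have n1 := NatTrans.naturality_apply φ.hom g.op (tr F hp s)
  rw [← n1, tr_spec F hp _ S]
  unfold Splitting.sum
  rw [_root_.map_sum]
  refine Finset.sum_congr rfl (fun k _ => ?_)
  exact NatTrans.naturality_apply φ.hom (S.σ k).op s

end Trace

section BaseChange

variable {V' V V₁' V₁ : X.Etale} {p : V' ⟶ V} {p₁ : V₁' ⟶ V₁} {h : V₁ ⟶ V} {h' : V₁' ⟶ V'}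

/-- a splitting of the base change `p₁` of `p` gives a splitting of `p` -/
def Splitting.push (sq : p₁ ≫ h = h' ≫ p)
    (cart : ∀ (T : X.Etale) (a : T ⟶ V') (c : T ⟶ V₁), a ≫ p = c ≫ h →
      ∃ a₁ : T ⟶ V₁', a₁ ≫ h' = a ∧ a₁ ≫ p₁ = c)
    (cartU : ∀ (T : X.Etale) (a₁ a₂ : T ⟶ V₁'), a₁ ≫ h' = a₂ ≫ h' → a₁ ≫ p₁ = a₂ ≫ p₁ → a₁ = a₂)
    {W : X.Etale} {g₁ : W ⟶ V₁} {n : ℕ} (S₁ : Splitting p₁ g₁ n) : Splitting p (g₁ ≫ h) n where
  σ k := S₁.σ k ≫ h'
  comm k := by rw [Category.assoc, ← sq, ← Category.assoc, S₁.comm]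
  loc T a b hab t := by
    obtain ⟨a₁, ha₁, ha₂⟩ := cart T a (b ≫ g₁) (by rw [hab, Category.assoc])
    obtain ⟨k, N, ι, hy, e⟩ := S₁.loc T a₁ b ha₂ t
    refine ⟨k, N, ι, hy, ?_⟩
    rw [← ha₁, ← Category.assoc, e]
    simp
  uniq N b k l hN e := by
    refine S₁.uniq N b k l hN (cartU N _ _ (by simpa using e) ?_)
    rw [Category.assoc, Category.assoc, S₁.comm, S₁.comm]

/-- the trace commutes with base change -/
theorem tr_baseChange (F : EtCoh.Ab X) {d : ℕ} (hp : LocSplit p d) (hp₁ : LocSplit p₁ d)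
    (sq : p₁ ≫ h = h' ≫ p)
    (cart : ∀ (T : X.Etale) (a : T ⟶ V') (c : T ⟶ V₁), a ≫ p = c ≫ h →
      ∃ a₁ : T ⟶ V₁', a₁ ≫ h' = a ∧ a₁ ≫ p₁ = c)
    (cartU : ∀ (T : X.Etale) (a₁ a₂ : T ⟶ V₁'), a₁ ≫ h' = a₂ ≫ h' → a₁ ≫ p₁ = a₂ ≫ p₁ → a₁ = a₂)
    (s : F.obj.obj (op V')) :
    F.obj.map h.op (tr F hp s) = tr F hp₁ (F.obj.map h'.op s) := by
  apply trFun_ext F hp₁
  intro W g₁ S₁
  rw [tr_spec F hp₁ _ S₁, ← map_comp_apply, tr_spec F hp s (S₁.push sq cart cartU)]
  unfold Splitting.sum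
  refine Finset.sum_congr rfl (fun k _ => ?_)
  exact map_comp_apply F (S₁.σ k) h' s

end BaseChange

end Groth.Agent.Lib.T2H8.EtTrace
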