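import Mathlib
import Groth.Agent.Lib.T2H8EtTrace
import Groth.Agent.Lib.Helper20EtSplitSch

/-!
# Finite étale morphisms are locally split (input for the trace map)
-/

set_option autoImplicit false
set_option linter.unusedSectionVars false
set_option linter.style.haveILetI false
universe u
open CategoryTheory CategoryTheory.Limits Opposite AlgebraicGeometry

namespace Groth.Agent.Lib.T2H8.EtTrace

section Scheme

/-- the rank of the fold map of `n` copies of `Spec R` -/
theorem finrank_desc (R : Type u) [CommRing R] (n : ℕ) (x : Spec (CommRingCat.of R)) :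
    (Limits.Sigma.desc fun _ : Fin n => 𝟙 (Spec (CommRingCat.of R))).finrank x = n := by
  obtain ⟨θ, hθ⟩ := Groth.Agent.Lib.Helper20.EtSplit.exists_iso_sigma_of_algEquiv (R := R)
    (T := Fin n → R) n AlgEquiv.refl
  haveI : Nontrivial R := by
    by_contra h
    rw [not_nontrivial_iff_subsingleton] at h
    haveI : IsEmpty (PrimeSpectrum R) := inferInstance
    exact (inferInstance : IsEmpty (PrimeSpectrum R)).false x
  haveI : IsFinite (Spec.map (CommRingCat.ofHom (algebraMap R (Fin n → R)))) := by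
    rw [IsFinite.SpecMap_iff]
    simpa [RingHom.finite_algebraMap] using (inferInstance : Module.Finite R (Fin n → R))
  haveI : Flat (Spec.map (CommRingCat.ofHom (algebraMap R (Fin n → R)))) := by
    rw [Flat.SpecMap_iff]
    simpa [RingHom.flat_algebraMap_iff] using (inferInstance : Module.Flat R (Fin n → R))
  rw [← hθ, Scheme.Hom.finrank_comp_left_of_isIso,
    Scheme.Hom.finrank_SpecMap_algebraMap R (Fin n → R) x,
    Module.rankAtStalk_eq_finrank_of_free]
  simp only [Module.finrank_pi, Fintype.card_fin]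
  rfl

variable {A S : Scheme.{u}} (f : A ⟶ S) [IsFinite f] [Etale f]

theorem exists_split (s : S) :
    ∃ (R' : CommRingCat.{u}) (g : Spec R' ⟶ S) (_ : Etale g) (u : Spec R') (_ : g u = s) (n : ℕ)
      (_ : n = f.finrank s)
      (σ : Fin n → (Spec R' ⟶ A)), (∀ k, σ k ≫ f = g) ∧
      (∀ (T : Scheme.{u}) (a : T ⟶ A) (b : T ⟶ Spec R'), a ≫ f = b ≫ g → ∀ t : T,
        ∃ (k : Fin n) (N : T.Opens), t ∈ N ∧ N.ι ≫ a = N.ι ≫ b ≫ σ k) ∧
      (∀ (N : Scheme.{u}) (b : N ⟶ Spec R') (k l : Fin n), Nonempty N →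
        b ≫ σ k = b ≫ σ l → k = l) := by
  obtain ⟨R', g, hg, u, hu, n, top, sq⟩ :=
    Groth.Agent.Lib.Helper20.EtSplit.exists_isPullback_sigma f s
  have hn : n = f.finrank s := by
    have h1 := Scheme.Hom.finrank_of_isPullback top _ f g sq u
    rw [hu] at h1
    rw [← h1]
    exact (finrank_desc R' n u).symm
  refine ⟨R', g, hg, u, hu, n, hn, fun k => Sigma.ι (fun _ : Fin n => Spec R') k ≫ top, ?_, ?_, ?_⟩
  · intro k
    rw [Category.assoc, sq.w, ← Category.assoc, Sigma.ι_desc, Category.id_comp]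
  · intro T a b hab t
    let c : T ⟶ ∐ fun _ : Fin n => Spec R' := sq.lift a b hab
    have hc1 : c ≫ top = a := sq.lift_fst a b hab
    have hc2 : c ≫ (Limits.Sigma.desc fun _ => 𝟙 (Spec R')) = b := sq.lift_snd a b hab
    obtain ⟨k, y, hy⟩ : ∃ (k : Fin n) (y : Spec R'),
        (Sigma.ι (fun _ : Fin n => Spec R') k) y = c t := by
      obtain ⟨y, hy⟩ := (sigmaOpenCover (fun _ : Fin n => Spec R')).covers (c t)
      exact ⟨_, y, hy⟩
    let N : T.Opens := c ⁻¹ᵁ (Sigma.ι (fun _ : Fin n => Spec R') k).opensRange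
    have htN : t ∈ N := ⟨y, hy⟩
    have hrange : Set.range (N.ι ≫ c).base ⊆ Set.range (Sigma.ι (fun _ : Fin n => Spec R') k).base := by
      rintro _ ⟨z, rfl⟩
      exact z.2
    let c' : (N : Scheme.{u}) ⟶ Spec R' :=
      IsOpenImmersion.lift (Sigma.ι (fun _ : Fin n => Spec R') k) (N.ι ≫ c) hrange
    have hc' : c' ≫ Sigma.ι (fun _ : Fin n => Spec R') k = N.ι ≫ c :=
      IsOpenImmersion.lift_fac _ _ _
    have hb : N.ι ≫ b = c' := by
      rw [← hc2, ← Category.assoc, ← hc', Category.assoc, Sigma.ι_desc, Category.comp_id]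
    refine ⟨k, N, htN, ?_⟩
    rw [← Category.assoc, hb, ← Category.assoc, hc', Category.assoc, hc1]
  · intro N b k l hN e
    by_contra hkl
    have e1 : (b ≫ Sigma.ι (fun _ : Fin n => Spec R') k) =
        (b ≫ Sigma.ι (fun _ : Fin n => Spec R') l) := by
      apply sq.hom_ext
      · simpa using e
      · rw [Category.assoc, Category.assoc, Sigma.ι_desc, Sigma.ι_desc]
    have := isEmpty_of_commSq_sigmaι_of_ne (g := fun _ : Fin n => Spec R') ⟨e1⟩ hkl
    exact this.false hN.some

end Scheme

section Site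

variable {X : Scheme.{u}} {V' V : X.Etale} (p : V' ⟶ V)

set_option backward.isDefEq.respectTransparency.types false in
/-- a finite étale morphism of constant rank `d` is locally split into `d` sections -/
theorem locSplit_of_finite_etale [IsFinite p.left] [Etale p.left] (d : ℕ)
    (hd : ∀ v : V.left, p.left.finrank v = d) : LocSplit p d := by
  intro v
  obtain ⟨R', g₀, hg₀, u, hu, n, hn, σ, hσ, hloc, huniq⟩ := exists_split p.left v
  obtain rfl : n = d := hn.trans (hd v)
  let W : X.Etale := Scheme.Etale.mk (g₀ ≫ V.hom)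
  let g : W ⟶ V := MorphismProperty.Over.homMk g₀ rfl
  have hpV : p.left ≫ V.hom = V'.hom := MorphismProperty.Over.w p
  have hσV : ∀ k, σ k ≫ V'.hom = W.hom := by
    intro k
    rw [← hpV, ← Category.assoc, hσ k]
    rfl
  refine ⟨W, g, u, hu, ⟨
    { σ := fun k => MorphismProperty.Over.homMk (σ k) (hσV k)
      comm := fun k => MorphismProperty.Over.Hom.ext (hσ k)
      loc := ?_
      uniq := ?_ }⟩⟩
  · intro T a b hab t
    have hab' : a.left ≫ p.left = b.left ≫ g₀ := congrArg (fun m => m.left) hab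
    obtain ⟨k, N₀, htN, e⟩ := hloc T.left a.left b.left hab' t
    let N : X.Etale := Scheme.Etale.mk (N₀.ι ≫ T.hom)
    let ι : N ⟶ T := MorphismProperty.Over.homMk N₀.ι rfl
    refine ⟨k, N, ι, ⟨⟨t, htN⟩, rfl⟩, ?_⟩
    apply MorphismProperty.Over.Hom.ext
    exact e
  · intro N b k l hN e
    exact huniq N.left b.left k l hN (congrArg (fun m => m.left) e)

end Site

end Groth.Agent.Lib.T2H8.EtTrace
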