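import Mathlib
import Groth.Agent.S0651
import Groth.Agent.Lib.Helper9JContAll
import Groth.Agent.Lib.T2H8EtTraceGeom

/-!
# The trace transformation `π_* π^{-1} ⟶ 𝟭` of a finite étale morphism of constant degree
-/

set_option autoImplicit false
set_option linter.unusedSectionVars false
set_option linter.style.haveILetI false
universe u
open CategoryTheory CategoryTheory.Limits Opposite AlgebraicGeometry

namespace Groth.Agent.Lib.T2H8.EtTrace

open Groth.Agent.S0651

variable {X' X : Scheme.{u}} (π : X' ⟶ X) [IsFinite π] [Etale π]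

/-- `V ↦ (V ×_X X' → X' → X)` -/
noncomputable abbrev Φ : X.Etale ⥤ X.Etale := EtCoh.bc π ⋙ EtShriek.compEtale π

/-- the projection `V ×_X X' ⟶ V` -/
noncomputable abbrev ε : Φ π ⟶ 𝟭 X.Etale := (compBcAdj π).counit

set_option backward.isDefEq.respectTransparency.types false in
lemma ε_left (V : X.Etale) : ((ε π).app V).left = pullback.fst V.hom π := rfl

set_option backward.isDefEq.respectTransparency.types false in
instance isFinite_ε (V : X.Etale) : IsFinite ((ε π).app V).left := by
  rw [ε_left]
  exact MorphismProperty.pullback_fst (P := @IsFinite) _ _ inferInstance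

set_option backward.isDefEq.respectTransparency.types false in
instance etale_ε (V : X.Etale) : Etale ((ε π).app V).left := by
  rw [ε_left]
  exact MorphismProperty.pullback_fst (P := @Etale) _ _ inferInstance

variable {π} {d : ℕ} (hd : ∀ x : X, π.finrank x = d)

include hd in
set_option backward.isDefEq.respectTransparency.types false in
lemma finrank_ε (V : X.Etale) (v : V.left) : ((ε π).app V).left.finrank v = d := by
  rw [ε_left]
  exact (Scheme.Hom.finrank_pullback_fst π V.hom v).trans (hd _)

include hd in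
lemma locSplit_ε (V : X.Etale) : LocSplit ((ε π).app V) d :=
  locSplit_of_finite_etale _ d (finrank_ε hd V)

variable (π)

set_option backward.isDefEq.respectTransparency.types false in
lemma cart_ε {V₁ V : X.Etale} (h : V₁ ⟶ V) (T : X.Etale) (a : T ⟶ (Φ π).obj V) (c : T ⟶ V₁)
    (hac : a ≫ (ε π).app V = c ≫ h) :
    ∃ a₁ : T ⟶ (Φ π).obj V₁, a₁ ≫ (Φ π).map h = a ∧ a₁ ≫ (ε π).app V₁ = c := by
  have sq := EtCoh.isPullback_bc_map π h
  have hac' : a.left ≫ pullback.fst V.hom π = c.left ≫ h.left := congrArg (fun m => m.left) hac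
  let l : T.left ⟶ ((EtCoh.bc π).obj V₁).left := sq.lift a.left c.left hac'
  have hl1 : l ≫ ((EtCoh.bc π).map h).left = a.left := sq.lift_fst _ _ _
  have hl2 : l ≫ pullback.fst V₁.hom π = c.left := sq.lift_snd _ _ _
  have hT : l ≫ ((Φ π).obj V₁).hom = T.hom := by
    change l ≫ (pullback.snd V₁.hom π ≫ π) = T.hom
    have hcond : pullback.fst V₁.hom π ≫ V₁.hom = pullback.snd V₁.hom π ≫ π := pullback.condition
    have hc : c.left ≫ V₁.hom = T.hom := MorphismProperty.Over.w c
    calc l ≫ (pullback.snd V₁.hom π ≫ π) = l ≫ (pullback.fst V₁.hom π ≫ V₁.hom) :=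
          congrArg (fun m => l ≫ m) hcond.symm
      _ = (l ≫ pullback.fst V₁.hom π) ≫ V₁.hom := (Category.assoc _ _ _).symm
      _ = c.left ≫ V₁.hom := congrArg (fun m => m ≫ V₁.hom) hl2
      _ = T.hom := hc
  refine ⟨MorphismProperty.Over.homMk l hT, ?_, ?_⟩
  · apply MorphismProperty.Over.Hom.ext
    exact hl1
  · apply MorphismProperty.Over.Hom.ext
    exact hl2

set_option backward.isDefEq.respectTransparency.types false in
lemma cartU_ε {V₁ V : X.Etale} (h : V₁ ⟶ V) (T : X.Etale) (a₁ a₂ : T ⟶ (Φ π).obj V₁)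
    (e1 : a₁ ≫ (Φ π).map h = a₂ ≫ (Φ π).map h)
    (e2 : a₁ ≫ (ε π).app V₁ = a₂ ≫ (ε π).app V₁) : a₁ = a₂ := by
  have sq := EtCoh.isPullback_bc_map π h
  apply MorphismProperty.Over.Hom.ext
  apply sq.hom_ext
  · exact congrArg (fun m => m.left) e1
  · exact congrArg (fun m => m.left) e2

instance jCont_inst : EtShriek.JCont π := Groth.Agent.Lib.Helper9.JContAll.jCont π

variable {π}

/-- the trace on a sheaf -/
noncomputable def trApp (F : EtCoh.Ab X) :
    (EtShriek.restrAlong π ⋙ EtCoh.push π).obj F ⟶ F :=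
  ⟨{ app := fun V => AddCommGrpCat.ofHom (tr F (locSplit_ε hd V.unop))
     naturality := by
      intro V V₁ h
      ext s
      exact (tr_baseChange F (locSplit_ε hd V.unop) (locSplit_ε hd V₁.unop)
        ((ε π).naturality h.unop).symm (cart_ε π h.unop) (cartU_ε π h.unop) s).symm }⟩

lemma trApp_app_apply (F : EtCoh.Ab X) (V : X.Etale) (s : F.obj.obj (op ((Φ π).obj V))) :
    (trApp hd F).hom.app (op V) s = tr F (locSplit_ε hd V) s := rfl

/-- the trace transformation -/
noncomputable def trNat : EtShriek.restrAlong π ⋙ EtCoh.push π ⟶ 𝟭 (EtCoh.Ab X) where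
  app F := trApp hd F
  naturality F G φ := by
    apply Sheaf.hom_ext
    ext V s
    exact (tr_naturality F (locSplit_ε hd V.unop) φ s).symm

lemma nsmul_hom_app_apply {P Q : EtCoh.Ab X} (f : P ⟶ Q) (n : ℕ) (U : X.Etaleᵒᵖ)
    (s : P.obj.obj U) : (n • f).hom.app U s = n • f.hom.app U s := by
  induction n with
  | zero =>
    rw [zero_smul, zero_smul]
    rfl
  | succ n ih =>
    rw [succ_nsmul, succ_nsmul, Sheaf.Hom.add_app]
    change (n • f).hom.app U s + f.hom.app U s = _
    rw [ih]

/-- unit followed by trace is multiplication by the degree -/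
theorem unit_trNat (F : EtCoh.Ab X) :
    (restrPushAdj π).unit.app F ≫ (trNat hd).app F = d • 𝟙 F := by
  apply Sheaf.hom_ext
  ext V s
  have h1 : ((restrPushAdj π).unit.app F).hom.app V = F.obj.map ((ε π).app V.unop).op := by
    simp [restrPushAdj] <;> rfl
  change (trApp hd F).hom.app V (((restrPushAdj π).unit.app F).hom.app V s) = _
  rw [h1]
  have := tr_map F (locSplit_ε hd V.unop) s
  refine this.trans ?_
  exact (nsmul_hom_app_apply (𝟙 F) d V s).symm

end Groth.Agent.Lib.T2H8.EtTrace
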