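import Mathlib
import Groth.Agent.Lib.T2H8EtTraceNat
import Groth.Agent.Lib.Helper9HofPush
import Groth.Agent.Lib.T2H8FinitePushExact
import Groth.Agent.Lib.T2H8PropBPush

/-!
# The trace `π_* π^* ⟶ 𝟭` of a finite étale morphism and restriction–corestriction
-/

set_option autoImplicit false
set_option linter.unusedSectionVars false
set_option linter.style.haveILetI false
universe u
open CategoryTheory CategoryTheory.Limits Opposite AlgebraicGeometry Abelian

namespace Groth.Agent.Lib.T2H8.EtTrace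

open Groth.Agent.S0651 Groth.Agent.Lib.Helper9.ExtNat Groth.Agent.Lib.Helper16.ExtCompare
open Groth.Agent.Lib.Helper9.HofPush

section General

variable {X' X : Scheme.{u}} (f : X' ⟶ X) [PreservesFiniteLimits (EtCoh.pull f)]

lemma Hpull_eq_cmp (F : EtCoh.Ab X) (n : ℕ) (α : EtCoh.H X F n) :
    EtCore.Hpull f F n α = cmp (EtCoh.pull f) (EtCore.pullConst f ℤ).inv F n α := rfl

/-- `H^n(X, F) → H^n(X, f_* f^* F) → H^n(X', f^* F)` is the pullback map -/
theorem HofPush_unit (F : EtCoh.Ab X) (n : ℕ) (α : EtCoh.H X F n) :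
    EtLim.HofPush f ((EtCoh.pull f).obj F) n
      (Sheaf.H.map ((EtCoh.pullPushAdj f).unit.app F) n α) = EtCore.Hpull f F n α := by
  have t := (EtCoh.pullPushAdj f).left_triangle_components F
  rw [HofPush_apply, Sheaf.H.map_apply, cmp_postcomp, Ext.comp_assoc_of_third_deg_zero,
    Ext.mk₀_comp_mk₀, t]
  exact Ext.comp_mk₀_id _

end General

section Finite

variable {X' X : Scheme.{u}} (π : X' ⟶ X) [IsFinite π] [Etale π] {d : ℕ}
  (hd : ∀ x : X, π.finrank x = d)

/-- inverse image along an étale morphism is restriction -/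
noncomputable def pullIso : EtCoh.pull π ≅ EtShriek.restrAlong π :=
  (EtCoh.pullPushAdj π).leftAdjointUniq (restrPushAdj π)

/-- the trace `π_* π^* ⟶ 𝟭` -/
noncomputable def Tr : EtCoh.pull π ⋙ EtCoh.push π ⟶ 𝟭 (EtCoh.Ab X) :=
  Functor.whiskerRight (pullIso π).hom (EtCoh.push π) ≫ trNat hd

theorem unit_Tr (F : EtCoh.Ab X) :
    (EtCoh.pullPushAdj π).unit.app F ≫ (Tr π hd).app F = d • 𝟙 F := by
  have h := Adjunction.unit_leftAdjointUniq_hom_app (EtCoh.pullPushAdj π) (restrPushAdj π) F
  change (EtCoh.pullPushAdj π).unit.app F ≫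
    ((EtCoh.push π).map ((pullIso π).hom.app F) ≫ (trNat hd).app F) = _
  rw [← Category.assoc]
  change ((EtCoh.pullPushAdj π).unit.app F ≫ (EtCoh.push π).map
    (((EtCoh.pullPushAdj π).leftAdjointUniq (restrPushAdj π)).hom.app F)) ≫ _ = _
  rw [h, unit_trNat]

variable [PreservesFiniteLimits (EtCoh.pull π)]

include hd in
/-- restriction–corestriction: a class killed by pullback along a finite étale morphism of degree
`d` is killed by `d` -/
theorem nsmul_eq_zero_of_Hpull_eq_zero (F : EtCoh.Ab X) (n : ℕ) (α : EtCoh.H X F n)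
    (h : EtCore.Hpull π F n α = 0) : d • α = 0 := by
  have hbij := HofPush_bijective π ((EtCoh.pull π).obj F)
    (fun q hq => Groth.Agent.Lib.T2H8PropBPush.isZero_Rpush_of_preservesEpimorphisms π
      (Groth.Agent.Lib.T2H8FinitePushExact.push_preservesEpimorphisms π) _ q hq) n
  have h1 : Sheaf.H.map ((EtCoh.pullPushAdj π).unit.app F) n α = 0 := by
    apply hbij.1
    rw [HofPush_unit, h, map_zero]
  have h2 := Sheaf.H.map_comp_apply ((EtCoh.pullPushAdj π).unit.app F) ((Tr π hd).app F) (n := n) α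
  rw [unit_Tr, h1, map_zero] at h2
  rw [← h2]
  -- `H(d • 𝟙) = d`
  have h3 : ∀ m : ℕ, Sheaf.H.map (m • 𝟙 F) n α = m • α := by
    intro m
    induction m with
    | zero =>
      rw [zero_smul, zero_smul, Sheaf.H.map_apply, Ext.mk₀_zero, Ext.comp_zero]
    | succ m ih =>
      rw [succ_nsmul, succ_nsmul, Sheaf.H.map_add_apply, ih, Sheaf.H.map_id_apply]
  exact (h3 d).symm

end Finite

end Groth.Agent.Lib.T2H8.EtTrace
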