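import Mathlib
import Groth.Agent.Lib.T2H8EtTraceGeom
import Groth.Agent.Lib.Helper22FEtGraph
import Groth.Agent.Lib.T2H8EtTraceCoh
import Groth.Agent.Lib.T2H8Excision
import Groth.Prelude.Def_EtAcyc

/-!
# The rank of a finite étale morphism is the cardinality of the geometric fibres
-/

set_option autoImplicit false
set_option linter.unusedSectionVars false
set_option linter.style.haveILetI false
universe u
open CategoryTheory CategoryTheory.Limits Opposite AlgebraicGeometry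

namespace Groth.Agent.Lib.T2H8.EtTrace

section Deg

variable {Ω : Type u} [Field Ω] [IsSepClosed Ω]

lemma spec_field_eq_default (x : Spec (CommRingCat.of Ω)) :
    x = (default : Spec (CommRingCat.of Ω)) := Subsingleton.elim _ _

/-- a finite étale scheme over a separably closed field has as many points as its rank -/
theorem card_eq_finrank {P : Scheme.{u}} (q : P ⟶ Spec (CommRingCat.of Ω)) [IsFinite q] [Etale q] :
    Nat.card P = q.finrank (default : Spec (CommRingCat.of Ω)) := by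
  obtain ⟨R', g, hg, u, hu, n, hn, σ, hσ, hloc, huniq⟩ := exists_split q default
  rw [← hn]
  obtain ⟨e, he, -⟩ := Scheme.exists_fac_of_etale_of_isSepClosed g (𝟙 (Spec (CommRingCat.of Ω))) u hu
  have hτq : ∀ k, (e ≫ σ k) ≫ q = 𝟙 _ := by
    intro k
    rw [Category.assoc, hσ k, he]
  -- every point is `τ_k(pt)`
  have key : ∀ z : P, ∃ (k : Fin n) (N : P.Opens), z ∈ N ∧ N.ι = N.ι ≫ (q ≫ e) ≫ σ k := by
    intro z
    obtain ⟨k, N, hzN, hN⟩ := hloc P (𝟙 P) (q ≫ e) (by rw [Category.id_comp, Category.assoc, he,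
      Category.comp_id]) z
    exact ⟨k, N, hzN, by simpa using hN⟩
  let φ : Fin n → P := fun k => (e ≫ σ k) default
  have hsurj : Function.Surjective φ := by
    intro z
    obtain ⟨k, N, hzN, hN⟩ := key z
    refine ⟨k, ?_⟩
    have h1 := congrArg (fun m : (N : Scheme.{u}) ⟶ P => m ⟨z, hzN⟩) hN
    change z = ((N.ι ≫ (q ≫ e) ≫ σ k) ⟨z, hzN⟩) at h1
    rw [h1]
    change (e ≫ σ k) default = (σ k) (e (q (N.ι ⟨z, hzN⟩)))
    rw [spec_field_eq_default (q (N.ι ⟨z, hzN⟩))]
    rfl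
  have hinj : Function.Injective φ := by
    have aux : ∀ (k : Fin n) (z : P), φ k = z → ∀ (k₀ : Fin n) (N : P.Opens), z ∈ N →
        N.ι = N.ι ≫ (q ≫ e) ≫ σ k₀ → k = k₀ := by
      intro k z hkz k₀ N hzN hN
      have hrange : Set.range (e ≫ σ k).base ⊆ Set.range N.ι.base := by
        rintro _ ⟨y, rfl⟩
        rw [spec_field_eq_default y]
        change φ k ∈ Set.range N.ι.base
        rw [hkz]
        exact ⟨⟨z, hzN⟩, rfl⟩
      let m : Spec (CommRingCat.of Ω) ⟶ (N : Scheme.{u}) :=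
        IsOpenImmersion.lift N.ι (e ≫ σ k) hrange
      have hm : m ≫ N.ι = e ≫ σ k := IsOpenImmersion.lift_fac _ _ _
      have e1 : e ≫ σ k = e ≫ σ k₀ := by
        calc e ≫ σ k = m ≫ N.ι := hm.symm
          _ = m ≫ N.ι ≫ (q ≫ e) ≫ σ k₀ := by rw [← hN]
          _ = ((e ≫ σ k) ≫ q) ≫ e ≫ σ k₀ := by
              rw [← Category.assoc m, hm]
              simp only [Category.assoc]
          _ = e ≫ σ k₀ := by rw [hτq k, Category.id_comp]
      exact huniq _ e k k₀ ⟨default⟩ e1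
    intro k l hkl
    obtain ⟨k₀, N, hzN, hN⟩ := key (φ k)
    have h1 := aux k (φ k) rfl k₀ N hzN hN
    have h2 := aux l (φ k) hkl.symm k₀ N hzN hN
    rw [h1, h2]
  have hbij : Function.Bijective φ := ⟨hinj, hsurj⟩
  rw [← Nat.card_congr (Equiv.ofBijective φ hbij), Nat.card_eq_fintype_card, Fintype.card_fin]

end Deg

section Fibre

variable {X' X : Scheme.{u}} (f : X' ⟶ X) [IsFinite f] [Etale f]

/-- constant cardinality of geometric fibres implies constant rank -/
theorem finrank_eq_of_card_fibres (d : ℕ)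
    (hd : ∀ (Ω : Type u) [Field Ω] [IsSepClosed Ω] (ξ : Spec (CommRingCat.of Ω) ⟶ X),
      Nat.card ↥(pullback f ξ) = d) (x : X) : f.finrank x = d := by
  obtain ⟨Ω, _, _, ξ, hξ⟩ := Groth.Agent.Lib.Helper22.FEtGraph.exists_geometric_point x
  haveI : IsFinite (pullback.snd f ξ) := MorphismProperty.pullback_snd (P := @IsFinite) _ _ inferInstance
  haveI : Etale (pullback.snd f ξ) := MorphismProperty.pullback_snd (P := @Etale) _ _ inferInstance
  have h1 := card_eq_finrank (pullback.snd f ξ)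
  rw [hd Ω ξ, Scheme.Hom.finrank_pullback_snd] at h1
  have h2 : ξ (default : Spec (CommRingCat.of Ω)) = x := by
    have : ξ default ∈ Set.range ξ := ⟨default, rfl⟩
    rw [hξ] at this
    exact this
  rw [h2] at h1
  exact h1.symm

end Fibre


section Torsion

variable {X : Scheme.{u}}

lemma coprime_of_primesIn {L : Set ℕ} {d : ℕ} (hL : ∀ p : ℕ, p.Prime → p ∈ L → ¬ p ∣ d) {m : ℕ}
    (hm : EtAcyc.PrimesIn L m) : Nat.Coprime d m := by
  apply Nat.Coprime.symm
  apply Nat.coprime_of_dvd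
  intro k hk hkm hkd
  exact hL k hk (hm.2 k hk hkm) hkd

/-- Bezout in an additive group -/
lemma eq_nsmul_zsmul {A : Type*} [AddCommGroup A] {d m : ℕ} (h : Nat.Coprime d m) (s : A)
    (hm : m • s = 0) : s = d • ((Nat.gcdA d m) • s) := by
  have h1 : ((Nat.gcd d m : ℕ) : ℤ) = d * Nat.gcdA d m + m * Nat.gcdB d m := Nat.gcd_eq_gcd_ab d m
  have h0 : Nat.gcd d m = 1 := h
  rw [h0] at h1
  have h2 : s = ((1 : ℕ) : ℤ) • s := by simp
  have h3 : ((m : ℤ) * Nat.gcdB d m) • s = 0 := by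
    rw [mul_comm, mul_smul, natCast_zsmul, hm, smul_zero]
  have h4 : ((d : ℤ) * Nat.gcdA d m) • s = d • ((Nat.gcdA d m) • s) := by
    rw [mul_smul, natCast_zsmul]
  rw [← h4]
  conv_lhs => rw [h2, h1, add_smul, h3, add_zero]

lemma eq_zero_of_nsmul_eq_zero {A : Type*} [AddCommGroup A] {d m : ℕ} (h : Nat.Coprime d m) (s : A)
    (hm : m • s = 0) (hd : d • s = 0) : s = 0 := by
  rw [eq_nsmul_zsmul h s hm, smul_comm, hd, smul_zero]

theorem isIso_nsmul_id {L : Set ℕ} {d : ℕ} (hL : ∀ p : ℕ, p.Prime → p ∈ L → ¬ p ∣ d)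
    (F : EtCoh.Ab X) (hF : EtAcyc.IsLTorsion L F) : IsIso (d • 𝟙 F) := by
  have happ : ∀ (U : X.Etaleᵒᵖ) (s : F.obj.obj U), (d • 𝟙 F).hom.app U s = d • s := by
    intro U s
    rw [nsmul_hom_app_apply]
    rfl
  haveI : Mono (d • 𝟙 F) := by
    apply Sheaf.mono_of_injective
    intro U s t hst
    rw [happ, happ] at hst
    obtain ⟨U⟩ := U
    apply Groth.Agent.Lib.T2H8.Excision.eq_of_locally_eq F s t
    intro x
    obtain ⟨V, g, m, hv, hm, hms⟩ := hF U (s - t) x
    refine ⟨V, g, hv, ?_⟩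
    have h1 : d • F.obj.map g.op (s - t) = 0 := by
      rw [← map_nsmul, smul_sub, hst, sub_self, map_zero]
    have h2 := eq_zero_of_nsmul_eq_zero (coprime_of_primesIn hL hm) _ hms h1
    rw [map_sub] at h2
    exact sub_eq_zero.1 h2
  haveI : Epi (d • 𝟙 F) := by
    refine (Sheaf.isLocallySurjective_iff_epi' AddCommGrpCat.{u + 1} (d • 𝟙 F)).1 ?_
    refine ⟨fun {U} s => ?_⟩
    rw [Groth.Agent.Lib.Helper16.SmallEtale.mem_smallEtale_iff]
    intro x
    obtain ⟨V, g, m, ⟨v, hv⟩, hm, hms⟩ := hF U s x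
    refine ⟨V, g, v, ?_, hv⟩
    refine ⟨(Nat.gcdA d m) • F.obj.map g.op s, ?_⟩
    rw [happ]
    exact (eq_nsmul_zsmul (coprime_of_primesIn hL hm) _ hms).symm
  exact isIso_of_mono_of_epi _

end Torsion

section Main

variable {X' X : Scheme.{u}} (f : X' ⟶ X) [IsFinite f] [Etale f]

theorem main_S8532
    (d : ℕ) (hd : ∀ (Ω : Type u) [Field Ω] [IsSepClosed Ω] (ξ : Spec (CommRingCat.of Ω) ⟶ X),
      Nat.card ↥(pullback f ξ) = d)
    (L : Set ℕ) (hL : ∀ p : ℕ, p.Prime → p ∈ L → ¬ p ∣ d) (F : EtCoh.Ab X) (hF : EtAcyc.IsLTorsion L F)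
    [PreservesFiniteLimits (EtCoh.pull f)] (q : ℕ)
    (h : Subsingleton (EtCoh.H X' ((EtCoh.pull f).obj F) q)) :
    Subsingleton (EtCoh.H X F q) := by
  have hzero : ∀ α : EtCoh.H X F q, α = 0 := by
    intro α
    have h0 : EtCore.Hpull f F q α = 0 := Subsingleton.elim _ _
    have h1 : d • α = 0 :=
      nsmul_eq_zero_of_Hpull_eq_zero f (finrank_eq_of_card_fibres f d hd) F q α h0
    have h3 : ∀ m : ℕ, Sheaf.H.map (m • 𝟙 F) q α = m • α := by
      intro m
      induction m with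
      | zero =>
        rw [zero_smul, zero_smul, Sheaf.H.map_apply, Abelian.Ext.mk₀_zero, Abelian.Ext.comp_zero]
      | succ m ih =>
        rw [succ_nsmul, succ_nsmul, Sheaf.H.map_add_apply, ih, Sheaf.H.map_id_apply]
    haveI := isIso_nsmul_id hL F hF
    have h4 : Sheaf.H.map (inv (d • 𝟙 F)) q (Sheaf.H.map (d • 𝟙 F) q α) = α := by
      rw [← Sheaf.H.map_comp_apply, IsIso.hom_inv_id, Sheaf.H.map_id_apply]
    rw [← h4, h3, h1, map_zero]
  exact ⟨fun a b => (hzero a).trans (hzero b).symm⟩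

end Main

end Groth.Agent.Lib.T2H8.EtTrace
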