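import Mathlib
import Groth.Agent.S0651
import Groth.Agent.Lib.T2H8ClosedDense
import Groth.Prelude.Def_EtOpen

set_option autoImplicit false
set_option linter.style.haveILetI false
set_option linter.unusedSectionVars false
universe u
open CategoryTheory CategoryTheory.Limits AlgebraicGeometry Opposite

namespace Groth.Agent.Lib.T2H8.ShSets

open Groth.Agent.S0651

section Etale

variable {U X : Scheme.{u}} (j : U ⟶ X) [AlgebraicGeometry.Etale j] [EtShriek.JCont j]

/-- restriction of sheaves of sets along an étale morphism -/
noncomputable abbrev restrSh : EtDesc.Sh X ⥤ EtDesc.Sh U :=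
  (EtShriek.compEtale j).sheafPushforwardContinuous (Type (u + 1)) U.smallEtaleTopology
    X.smallEtaleTopology

/-- `j^{-1} ⊣ j_*` for sheaves of sets, with `j^{-1}` restriction -/
noncomputable def restrPushAdjSh : restrSh j ⊣ EtDesc.pushSh j :=
  (compBcAdj j).sheafPushforwardContinuous (E := Type (u + 1))
    U.smallEtaleTopology X.smallEtaleTopology

/-- for étale `j`, inverse image of sheaves of sets is restriction -/
noncomputable def rhoSh : EtDesc.pullSh j ≅ restrSh j :=
  Adjunction.leftAdjointUniq (EtDesc.adjSh j) (restrPushAdjSh j)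

set_option backward.isDefEq.respectTransparency.types false in
lemma isIso_counit_restr [Mono j] (F : EtDesc.Sh U) :
    IsIso ((restrPushAdjSh j).counit.app F) := by
  have h1 : IsIso ((sheafToPresheaf _ _).map ((restrPushAdjSh j).counit.app F)) := by
    apply (config := { allowSynthFailures := true }) NatIso.isIso_of_isIso_app
    intro V
    have h0 : IsIso ((compBcAdj j).unit.app (unop V)) := inferInstance
    have h2 : IsIso (F.obj.map ((compBcAdj j).unit.app (unop V)).op) := inferInstance
    simp [restrPushAdjSh]
    exact h2
  exact isIso_of_reflects_iso _ (sheafToPresheaf _ _)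

set_option backward.isDefEq.respectTransparency.types false in
lemma isIso_counit_pullSh [Mono j] (F : EtDesc.Sh U) :
    IsIso ((EtDesc.adjSh j).counit.app F) := by
  have e := Adjunction.leftAdjointUniq_hom_app_counit (EtDesc.adjSh j) (restrPushAdjSh j) F
  have := isIso_counit_restr j F
  rw [← e]
  infer_instance

end Etale

section Closed

variable {Z X : Scheme.{u}} (i : Z ⟶ X) [IsClosedImmersion i]

instance pushSh_full_of_closed : (EtDesc.pushSh i).Full := inferInstance

instance pushSh_faithful_of_closed : (EtDesc.pushSh i).Faithful := inferInstance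

end Closed

section Open

variable {U X : Scheme.{u}} (j : U ⟶ X) [IsOpenImmersion j]

lemma isIso_counit_adjSh_of_open : IsIso (EtDesc.adjSh j).counit := by
  have h : ∀ F, IsIso ((EtDesc.adjSh j).counit.app F) := fun F => isIso_counit_pullSh j F
  exact NatIso.isIso_of_isIso_app _

/-- `j_*` is fully faithful for an open immersion -/
noncomputable def pushShFullyFaithfulOfOpen : (EtDesc.pushSh j).FullyFaithful := by
  haveI := isIso_counit_adjSh_of_open j
  exact (EtDesc.adjSh j).fullyFaithfulROfIsIsoCounit

instance pushSh_full_of_open : (EtDesc.pushSh j).Full := (pushShFullyFaithfulOfOpen j).full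

instance pushSh_faithful_of_open : (EtDesc.pushSh j).Faithful := (pushShFullyFaithfulOfOpen j).faithful

end Open

section Immersion

variable {X Y : Scheme.{u}} (f : X ⟶ Y) [IsImmersion f]

lemma pushSh_full_faithful_of_immersion : (EtDesc.pushSh f).Full ∧ (EtDesc.pushSh f).Faithful := by
  have e : EtDesc.pushSh f.liftCoborder ⋙ EtDesc.pushSh f.coborderRange.ι ≅ EtDesc.pushSh f :=
    EtDesc.pushCompSh f.coborderRange.ι f.liftCoborder ≪≫ eqToIso (by rw [f.liftCoborder_ι])
  exact ⟨Functor.Full.of_iso e, Functor.Faithful.of_iso e⟩

theorem isIso_counit_of_immersion (F : EtDesc.Sh X) : IsIso ((EtDesc.adjSh f).counit.app F) := by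
  obtain ⟨h1, h2⟩ := pushSh_full_faithful_of_immersion f
  infer_instance

end Immersion

end Groth.Agent.Lib.T2H8.ShSets
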