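import Mathlib
import Groth.Agent.Lib.T2H8ShSets
import Groth.Agent.Lib.T2H8ClosedEss

set_option autoImplicit false
set_option linter.style.haveILetI false
set_option linter.unusedSectionVars false
universe u w v₁ u₁
open CategoryTheory CategoryTheory.Limits AlgebraicGeometry Opposite

namespace Groth.Agent.Lib.T2H8.ShSetsEss

open Groth.Agent.Lib.T2H8.ShSets

section General

variable {C : Type u₁} [Category.{v₁} C] (J : GrothendieckTopology C)

/-- a sheaf of sets all of whose sections are singletons is terminal -/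
noncomputable def isTerminalOfUnique (H : Sheaf J (Type w))
    (h : ∀ V : C, Nonempty (Unique (H.obj.obj (op V)))) : IsTerminal H := by
  refine IsTerminal.ofUniqueHom
    (fun K => ObjectProperty.homMk
      { app := fun V => ↾(fun _ => (h V.unop).some.default), naturality := ?_ }) ?_
  · intro V W f
    ext x
    haveI := (h W.unop).some
    exact Subsingleton.elim _ _
  · intro K m
    apply Sheaf.hom_ext
    ext V x
    haveI := (h V.unop).some
    exact Subsingleton.elim _ _

lemma isIso_terminal_from_iff [HasTerminal (Sheaf J (Type w))] (H : Sheaf J (Type w)) :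
    IsIso (terminal.from H) ↔ ∀ V : C, Nonempty (Unique (H.obj.obj (op V))) := by
  constructor
  · intro hiso V
    let T : Sheaf J (Type w) := Sheaf.terminal J Types.isTerminalPUnit
    have hT : IsTerminal T := Sheaf.isTerminalTerminal J Types.isTerminalPUnit
    let e : H ≅ T := asIso (terminal.from H) ≪≫ terminalIsTerminal.uniqueUpToIso hT
    let e' : H.obj.obj (op V) ≅ (PUnit : Type w) := ((sheafToPresheaf _ _).mapIso e).app (op V)
    exact ⟨Equiv.unique e'.toEquiv⟩
  · intro h
    exact isIso_of_isTerminal (isTerminalOfUnique J H h) terminalIsTerminal _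

lemma isIso_terminal_from_of_iso [HasTerminal (Sheaf J (Type w))] {A B : Sheaf J (Type w)}
    (e : A ≅ B) (h : IsIso (terminal.from B)) : IsIso (terminal.from A) := by
  have : terminal.from A = e.hom ≫ terminal.from B := terminal.hom_ext _ _
  rw [this]
  infer_instance

end General

/-- a sheaf of sets has exactly one section over an empty scheme -/
lemma nonempty_unique_of_isEmpty {X : Scheme.{u}} (F : X.Etaleᵒᵖ ⥤ Type w)
    (hF : Presieve.IsSheaf X.smallEtaleTopology F) (Z : X.Etale) [IsEmpty Z.left] :
    Nonempty (Unique (F.obj (op Z))) := by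
  have hbot : (⊥ : Sieve Z) ∈ X.smallEtaleTopology Z := by
    rw [Groth.Agent.Lib.Helper16.SmallEtale.mem_smallEtale_iff]
    intro x
    exact (IsEmpty.false x).elim
  have hs := hF _ hbot
  obtain ⟨s, -, -⟩ := hs (fun W g hg => hg.elim) (fun _ _ _ _ _ _ _ h₁ _ _ => h₁.elim)
  haveI := Groth.Agent.Lib.Helper16.EtGlue.subsingleton_of_isEmpty F hF Z
  exact ⟨⟨⟨s⟩, fun _ => Subsingleton.elim _ _⟩⟩

section Main

variable {Y X U : Scheme.{u}} (i : Y ⟶ X) [IsClosedImmersion i] (j : U ⟶ X) [IsOpenImmersion j]
  (hU : Set.range j.base = (Set.range i.base)ᶜ)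

include hU in
set_option backward.isDefEq.respectTransparency.types false in
/-- an étale `X`-scheme whose image misses `Y` comes from `U` -/
lemma exists_iso_compEtale (W : X.Etale)
    (hW : Disjoint (Set.range W.hom.base) (Set.range i.base)) :
    ∃ V : U.Etale, Nonempty ((EtShriek.compEtale j).obj V ≅ W) := by
  have hsub : Set.range W.hom.base ⊆ Set.range j.base := by
    rw [hU]
    exact fun x hx h => (Set.disjoint_left.1 hW) hx h
  let l : W.left ⟶ U := IsOpenImmersion.lift j W.hom hsub
  have hl : l ≫ j = W.hom := IsOpenImmersion.lift_fac j W.hom hsub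
  have hj : AlgebraicGeometry.Etale j := inferInstance
  have hP : EtCoh.etaleMP l := by
    have hW' : EtCoh.etaleMP (l ≫ j) := by rw [hl]; exact W.prop
    exact EtCoh.etaleMP.of_postcomp (W' := EtCoh.etaleMP) l j hj hW'
  exact ⟨MorphismProperty.Over.mk ⊤ l hP,
    ⟨MorphismProperty.Over.isoMk (Iso.refl _) ((Category.id_comp W.hom).trans hl.symm)⟩⟩

include hU in
lemma disjoint_compEtale (V : U.Etale) :
    Disjoint (Set.range ((EtShriek.compEtale j).obj V).hom.base) (Set.range i.base) := by
  rw [Set.disjoint_left]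
  rintro _ ⟨y, rfl⟩ hy
  have h1 : ((EtShriek.compEtale j).obj V).hom.base y ∈ Set.range j.base :=
    ⟨V.hom.base y, (Scheme.Hom.comp_apply V.hom j y).symm⟩
  rw [hU] at h1
  exact h1 hy

include hU in
theorem essImage_iff (F : EtDesc.Sh X) :
    (EtDesc.pushSh i).essImage F ↔ IsIso (terminal.from ((EtDesc.pullSh j).obj F)) := by
  have key : IsIso (terminal.from ((EtDesc.pullSh j).obj F)) ↔
      ∀ V : U.Etale, Nonempty (Unique (F.obj.obj (op ((EtShriek.compEtale j).obj V)))) := by
    refine Iff.trans ?_ (isIso_terminal_from_iff U.smallEtaleTopology ((restrSh j).obj F))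
    constructor
    · intro h
      exact isIso_terminal_from_of_iso _ ((rhoSh j).app F).symm h
    · intro h
      exact isIso_terminal_from_of_iso _ ((rhoSh j).app F) h
  rw [key]
  constructor
  · rintro ⟨G, ⟨e⟩⟩ V
    have hdisj := disjoint_compEtale i j hU V
    haveI : IsEmpty ((EtCoh.bc i).obj ((EtShriek.compEtale j).obj V)).left :=
      Scheme.isEmpty_pullback_iff.mpr hdisj
    obtain ⟨u⟩ := nonempty_unique_of_isEmpty G.obj ((isSheaf_iff_isSheaf_of_type _ _).1 G.property)
      ((EtCoh.bc i).obj ((EtShriek.compEtale j).obj V))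
    let e' := ((sheafToPresheaf _ _).mapIso e).app (op ((EtShriek.compEtale j).obj V))
    exact ⟨@Equiv.unique _ _ u e'.symm.toEquiv⟩
  · intro hF
    have hsh : Presheaf.IsSheaf (ClosedEss.Jres i) F.obj := by
      rw [isSheaf_iff_isSheaf_of_type]
      apply ClosedEss.sheaf_of_zero_off i _ ((isSheaf_iff_isSheaf_of_type _ _).1 F.property)
      intro W hW
      obtain ⟨V, ⟨e⟩⟩ := exists_iso_compEtale i j hU W hW
      obtain ⟨u⟩ := hF V
      exact ⟨@Equiv.unique _ _ u (F.obj.mapIso e.op).toEquiv⟩
    let F' : Sheaf (ClosedEss.Jres i) (Type (u + 1)) := ⟨F.obj, hsh⟩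
    let Φ := (EtCoh.bc i).sheafPushforwardContinuous (Type (u + 1)) (ClosedEss.Jres i)
      Y.smallEtaleTopology
    haveI : Φ.IsEquivalence := inferInstance
    let G := Φ.objPreimage F'
    let e' : Φ.obj G ≅ F' := Φ.objObjPreimageIso F'
    let e'' : ((EtDesc.pushSh i).obj G).obj ≅ F.obj := (sheafToPresheaf _ _).mapIso e'
    exact ⟨G, ⟨(fullyFaithfulSheafToPresheaf _ _).preimageIso e''⟩⟩

end Main

end Groth.Agent.Lib.T2H8.ShSetsEss
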