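import Mathlib
import Groth.Agent.S0101
import Groth.Agent.S0651
import Groth.Agent.Lib.Helper9EtPull
import Groth.Agent.Lib.T2H8ClosedEss
import Groth.Agent.Lib.T2H8ShSetsEss

set_option autoImplicit false
set_option linter.style.haveILetI false
set_option linter.unusedSectionVars false
universe u
open CategoryTheory CategoryTheory.Limits AlgebraicGeometry Opposite

namespace Groth.Agent.Lib.T2H8.Recoll

open Groth.Agent.S0651

section Instances

variable {X Y : Scheme.{u}} (f : X ⟶ Y)

instance pull_additive : (EtCoh.pull f).Additive := (EtCoh.pullPushAdj f).left_adjoint_additive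

noncomputable instance pull_preservesFiniteLimits : PreservesFiniteLimits (EtCoh.pull f) :=
  Groth.Agent.S0101.result f

noncomputable instance pull_preservesFiniteColimits : PreservesFiniteColimits (EtCoh.pull f) := by
  have : PreservesColimitsOfSize.{0, 0} (EtCoh.pull f) :=
    (EtCoh.pullPushAdj f).leftAdjoint_preservesColimits
  infer_instance

end Instances

section RestrInstances

variable {U X : Scheme.{u}} (j : U ⟶ X) [AlgebraicGeometry.Etale j] [EtShriek.JCont j]

instance restr_additive : (EtShriek.restrAlong j).Additive :=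
  (restrPushAdj j).left_adjoint_additive

noncomputable instance restr_preservesFiniteLimits : PreservesFiniteLimits (EtShriek.restrAlong j) := by
  have : PreservesLimitsOfSize.{0, 0} (EtShriek.restrAlong j) :=
    (EtShriek.extZeroAdj j).rightAdjoint_preservesLimits
  infer_instance

noncomputable instance restr_preservesFiniteColimits :
    PreservesFiniteColimits (EtShriek.restrAlong j) := by
  have : PreservesColimitsOfSize.{0, 0} (EtShriek.restrAlong j) :=
    (restrPushAdj j).leftAdjoint_preservesColimits
  infer_instance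

end RestrInstances

/-- a sheaf is zero as soon as all its sections are -/
lemma isZero_of_sections {X : Scheme.{u}} (A : EtCoh.Ab X)
    (h : ∀ V : X.Etale, IsZero (A.obj.obj (op V))) : IsZero A := by
  rw [IsZero.iff_id_eq_zero]
  apply Sheaf.hom_ext
  ext V : 2
  exact (h V.unop).eq_of_src _ _

lemma isZero_sections {X : Scheme.{u}} (A : EtCoh.Ab X) (h : IsZero A) (V : X.Etale) :
    IsZero (A.obj.obj (op V)) := by
  rw [IsZero.iff_id_eq_zero] at h ⊢
  have := congrArg (fun φ : A ⟶ A => φ.hom.app (op V)) h
  exact this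

section Main

variable {Z X U : Scheme.{u}} (i : Z ⟶ X) [IsClosedImmersion i] (j : U ⟶ X) [IsOpenImmersion j]
  [AlgebraicGeometry.Etale j] [EtShriek.JCont j]
  (hU : Set.range j.base = (Set.range i.base)ᶜ)

include hU in
/-- `j^{-1} i_* = 0` -/
lemma isZero_restr_push (G : EtCoh.Ab Z) :
    IsZero ((EtShriek.restrAlong j).obj ((EtCoh.push i).obj G)) := by
  apply isZero_of_sections
  intro V
  have hdisj := ShSetsEss.disjoint_compEtale i j hU V
  haveI : IsEmpty ((EtCoh.bc i).obj ((EtShriek.compEtale j).obj V)).left :=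
    Scheme.isEmpty_pullback_iff.mpr hdisj
  exact ClosedEss.isZero_of_isEmpty G ((EtCoh.bc i).obj ((EtShriek.compEtale j).obj V))

include hU in
/-- `i^{-1} j_! = 0` -/
lemma isZero_pull_extZero (H : EtCoh.Ab U) :
    IsZero ((EtCoh.pull i).obj ((EtShriek.extZero j).obj H)) := by
  rw [IsZero.iff_id_eq_zero]
  apply ((EtCoh.pullPushAdj i).homEquiv _ _).injective
  apply ((EtShriek.extZeroAdj j).homEquiv _ _).injective
  exact (isZero_restr_push i j hU _).eq_of_tgt _ _

include hU in
/-- `(i^{-1}, j^{-1})` detects zero objects -/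
lemma isZero_of_isZero_pull_restr (A : EtCoh.Ab X) (h1 : IsZero ((EtCoh.pull i).obj A))
    (h2 : IsZero ((EtShriek.restrAlong j).obj A)) : IsZero A := by
  have hess : (EtCoh.push i).essImage A := by
    rw [ClosedEss.essImage_iff]
    intro V hV
    obtain ⟨V', ⟨e⟩⟩ := ShSetsEss.exists_iso_compEtale i j hU V hV
    have h3 : IsZero (A.obj.obj (op ((EtShriek.compEtale j).obj V'))) := isZero_sections _ h2 V'
    exact h3.of_iso (A.obj.mapIso e.op)
  obtain ⟨G, ⟨e⟩⟩ := hess
  have h4 : IsZero ((EtCoh.pull i).obj ((EtCoh.push i).obj G)) :=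
    h1.of_iso ((EtCoh.pull i).mapIso e)
  haveI : IsIso ((EtCoh.pullPushAdj i).counit.app G) := inferInstance
  have h5 : IsZero G := h4.of_iso (asIso ((EtCoh.pullPushAdj i).counit.app G)).symm
  exact ((EtCoh.push i).map_isZero h5).of_iso e.symm

include hU in
/-- `(i^{-1}, j^{-1})` detects exactness -/
lemma exact_of_exact_map (S : ShortComplex (EtCoh.Ab X)) (h1 : (S.map (EtCoh.pull i)).Exact)
    (h2 : (S.map (EtShriek.restrAlong j)).Exact) : S.Exact := by
  rw [ShortComplex.exact_iff_isZero_homology] at h1 h2 ⊢
  apply isZero_of_isZero_pull_restr i j hU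
  · exact h1.of_iso (S.mapHomologyIso (EtCoh.pull i)).symm
  · exact h2.of_iso (S.mapHomologyIso (EtShriek.restrAlong j)).symm

end Main

end Groth.Agent.Lib.T2H8.Recoll
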