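import Mathlib
import Groth.Agent.Lib.Helper9EtPull
import Groth.Agent.Lib.Helper9EtAcycChase
import Groth.Agent.Lib.Helper9JContAll
import Groth.Agent.Lib.T2H8Recoll
import Groth.Agent.Lib.T2H8EtTraceCoh

/-!
# Higher étale cohomology classes vanish étale-locally
-/

set_option autoImplicit false
set_option linter.unusedSectionVars false
set_option linter.style.haveILetI false
universe u
open CategoryTheory CategoryTheory.Limits Opposite AlgebraicGeometry Abelian

namespace Groth.Agent.Lib.T2H8.LocVanish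

open Groth.Agent.Lib.Helper9.EtPull Groth.Agent.Lib.Helper16.ExtCompare
  Groth.Agent.Lib.Helper9.ExtNat Groth.Agent.Lib.T2H8.EtTrace

variable {X : Scheme.{u}}

instance jCont_hom (W : X.Etale) : EtShriek.JCont W.hom :=
  Groth.Agent.Lib.Helper9.JContAll.jCont W.hom

set_option backward.isDefEq.respectTransparency.types false in
/-- a morphism `ℤ ⟶ Q` lifts étale-locally along an epimorphism `I ⟶ Q` -/
lemma exists_lift_sec {I Q : EtCoh.Ab X} (p : I ⟶ Q) [Epi p] (b : EtCoh.const X ℤ ⟶ Q) (x : X) :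
    ∃ (W : X.Etale) (y : W.left) (_ : W.hom y = x)
      (c' : EtCoh.const W.left ℤ ⟶ (EtCoh.pull W.hom).obj I),
      c' ≫ (EtCoh.pull W.hom).map p =
        (EtCore.pullConst W.hom ℤ).inv ≫ (EtCoh.pull W.hom).map b := by
  have hls : Sheaf.IsLocallySurjective p :=
    (Sheaf.isLocallySurjective_iff_epi' _ p).2 inferInstance
  have hmem := Presheaf.imageSieve_mem X.smallEtaleTopology p.hom (U := op (EtCoh.top X)) (sec Q b)
  rw [Groth.Agent.Lib.Helper16.SmallEtale.mem_smallEtale_iff] at hmem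
  obtain ⟨W, f, y, ⟨t, ht⟩, hy⟩ := hmem x
  have hf : f.left = W.hom := by
    have := MorphismProperty.Over.w f
    exact (Category.comp_id _).symm.trans this
  let e : obj W.hom ⟶ W := MorphismProperty.Over.homMk (𝟙 _) (by
    change 𝟙 _ ≫ W.hom = 𝟙 _ ≫ W.hom
    rfl)
  obtain ⟨c', hc'⟩ := (gam_bijective W.hom I).2 (I.obj.map e.op t)
  refine ⟨W, y, by rw [← hf]; exact hy, c', ?_⟩
  apply (gam_bijective W.hom Q).1
  rw [gam_comp, hc']
  refine Eq.trans ?_ (gam_Hpull W.hom Q b).symm
  have hef : e ≫ f = (EtCore.topIsTerminal X).from (obj W.hom) :=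
    (EtCore.topIsTerminal X).hom_ext _ _
  have h1 := NatTrans.naturality_apply p.hom e.op t
  refine h1.trans ?_
  have h2 : (p.hom.app (op W)) t = Q.obj.map f.op (sec Q b) := ht
  have h3 : Q.obj.map e.op (Q.obj.map f.op (sec Q b)) = Q.obj.map (e ≫ f).op (sec Q b) :=
    (Groth.Agent.Lib.T2H8.Excision.map_comp_apply Q e f (sec Q b)).symm
  have h4 : Q.obj.map (e ≫ f).op (sec Q b) =
      Q.obj.map ((EtCore.topIsTerminal X).from (obj W.hom)).op (sec Q b) :=
    congrArg (fun m => Q.obj.map m.op (sec Q b)) hef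
  exact (congrArg (fun z => Q.obj.map e.op z) h2).trans (h3.trans h4)

attribute [local instance] Ext.subsingleton_of_injective in
/-- classes of positive degree die étale-locally -/
theorem exists_Hpull_eq_zero (i : ℕ) : ∀ (F : EtCoh.Ab X) (α : EtCoh.H X F (i + 1)) (x : X),
    ∃ (W : X.Etale) (y : W.left), W.hom y = x ∧ EtCore.Hpull W.hom F (i + 1) α = 0 := by
  induction i with
  | zero =>
    intro F α x
    let I : InjectivePresentation F := Classical.arbitrary _
    let S := ShortComplex.mk _ _ (cokernel.condition I.f)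
    haveI : Injective S.X₂ := I.injective
    have hS : S.ShortExact := { exact := ShortComplex.exact_cokernel I.f }
    obtain ⟨β, hβ⟩ := Ext.covariant_sequence_exact₁ (EtCoh.const X ℤ) hS
      (α : Ext (EtCoh.const X ℤ) S.X₁ (0 + 1)) (by subsingleton) rfl
    obtain ⟨b, rfl⟩ := (Ext.mk₀_bijective _ _).2 β
    haveI : Epi S.g := hS.epi_g
    obtain ⟨W, y, hy, c', hc'⟩ := exists_lift_sec S.g b x
    refine ⟨W, y, hy, ?_⟩
    rw [Hpull_eq_cmp, ← hβ]
    refine (cmp_comp_extClass (EtCoh.pull W.hom) (EtCore.pullConst W.hom ℤ).inv hS 0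
      (Ext.mk₀ b)).trans ?_
    rw [cmp_mk₀, ← hc', ← Ext.mk₀_comp_mk₀, Ext.comp_assoc_of_second_deg_zero]
    have := (hS.map_of_exact (EtCoh.pull W.hom)).comp_extClass
    erw [this]
    exact Ext.comp_zero _ _ _ _ _
  | succ i ih =>
    intro F α x
    let I : InjectivePresentation F := Classical.arbitrary _
    let S := ShortComplex.mk _ _ (cokernel.condition I.f)
    haveI : Injective S.X₂ := I.injective
    have hS : S.ShortExact := { exact := ShortComplex.exact_cokernel I.f }
    obtain ⟨β, hβ⟩ := Ext.covariant_sequence_exact₁ (EtCoh.const X ℤ) hS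
      (α : Ext (EtCoh.const X ℤ) S.X₁ (i + 1 + 1)) (by subsingleton) rfl
    obtain ⟨W, y, hy, h0⟩ := ih S.X₃ β x
    refine ⟨W, y, hy, ?_⟩
    rw [Hpull_eq_cmp, ← hβ]
    refine (cmp_comp_extClass (EtCoh.pull W.hom) (EtCore.pullConst W.hom ℤ).inv hS (i + 1)
      β).trans ?_
    rw [Hpull_eq_cmp] at h0
    rw [h0]
    exact Ext.zero_comp _ _ _ _ _

end Groth.Agent.Lib.T2H8.LocVanish
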