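import Mathlib
import Groth.Agent.Lib.T2H8LocVanish
import Groth.Agent.Lib.Helper9EtMVCompare
import Groth.Agent.Lib.T2H8EtTraceDeg

/-!
# Galois cohomology is torsion (S7743) and vanishes on uniquely divisible sheaves (S7744)
-/

set_option autoImplicit false
set_option linter.unusedSectionVars false
set_option linter.style.haveILetI false
universe u
open CategoryTheory CategoryTheory.Limits Opposite AlgebraicGeometry Abelian

namespace Groth.Agent.Lib.T2H8.FieldTorsion

open Groth.Agent.Lib.Helper9.EtPull Groth.Agent.Lib.Helper9.EtMV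
  Groth.Agent.Lib.T2H8.EtTrace Groth.Agent.Lib.T2H8.LocVanish

section Comp

variable {T' T X : Scheme.{u}} (i : T' ⟶ T) (j : T ⟶ X) [Etale i] [Etale j]

/-- a class killed by pullback along `j` is killed by pullback along `i ≫ j` -/
theorem Hpull_comp_eq_zero (F : EtCoh.Ab X) (n : ℕ) (α : EtCoh.H X F n)
    (h : EtCore.Hpull j F n α = 0) : EtCore.Hpull (i ≫ j) F n α = 0 := by
  haveI : EtShriek.JCont i := Groth.Agent.Lib.Helper9.JContAll.jCont i
  haveI : EtShriek.JCont j := Groth.Agent.Lib.Helper9.JContAll.jCont j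
  haveI : EtShriek.JCont (i ≫ j) := Groth.Agent.Lib.Helper9.JContAll.jCont (i ≫ j)
  rw [Hpull_eq] at h ⊢
  have h1 : (Ext.mk₀ (aug (obj j))).comp α (zero_add n) = 0 :=
    (Phi j F n).injective (h.trans (map_zero _).symm)
  rw [← ZhMap_aug (rr i j (i ≫ j) rfl), ← Ext.mk₀_comp_mk₀_assoc, h1, Ext.comp_zero, map_zero]

end Comp

section Field

variable (k : Type u) [Field k]

/-- the structure map on global sections -/
noncomputable abbrev sm {T : Scheme.{u}} (p : T ⟶ Spec (CommRingCat.of k)) : k →+* Γ(T, ⊤) :=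
  ((Scheme.ΓSpecIso (CommRingCat.of k)).inv ≫ p.appTop).hom

set_option backward.isDefEq.respectTransparency.types false in
/-- an affine scheme étale over a field is finite over it -/
theorem isFinite_of_etale_of_isAffine {T : Scheme.{u}} (p : T ⟶ Spec (CommRingCat.of k))
    [Etale p] [IsAffine T] : IsFinite p := by
  letI : Algebra k Γ(T, ⊤) := (sm k p).toAlgebra
  have het : Algebra.Etale k Γ(T, ⊤) := by
    have h1 : p.appTop.hom.Etale := HasRingHomProperty.appTop (P := @Etale) _ inferInstance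
    have h2 : (Scheme.ΓSpecIso (CommRingCat.of k)).inv.hom.Etale :=
      RingHom.Etale.of_bijective
        (ConcreteCategory.bijective_of_isIso (Scheme.ΓSpecIso (CommRingCat.of k)).inv)
    exact RingHom.Etale.stableUnderComposition _ _ h2 h1
  have hfin : Module.Finite k Γ(T, ⊤) := Algebra.FormallyUnramified.finite_of_free k _
  rw [HasAffineProperty.iff_of_isAffine (P := @IsFinite)]
  refine ⟨inferInstance, ?_⟩
  have h1 : p.appTop.hom = (sm k p).comp (Scheme.ΓSpecIso (CommRingCat.of k)).hom.hom := by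
    ext x
    simp [sm]
  rw [h1]
  refine RingHom.Finite.comp (RingHom.finite_algebraMap.2 hfin) ?_
  exact RingHom.Finite.of_surjective _
    (ConcreteCategory.bijective_of_isIso (Scheme.ΓSpecIso (CommRingCat.of k)).hom).2

/-- every higher cohomology class on `Spec k` is killed by a positive integer -/
theorem exists_nsmul_eq_zero (F : EtCoh.Ab (Spec (CommRingCat.of k))) (i : ℕ) (hi : 0 < i)
    (x : EtCoh.H (Spec (CommRingCat.of k)) F i) : ∃ d : ℕ, 0 < d ∧ d • x = 0 := by
  obtain ⟨i, rfl⟩ : ∃ j, i = j + 1 := ⟨i - 1, by omega⟩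
  obtain ⟨W, y, -, h0⟩ := exists_Hpull_eq_zero i F x default
  let 𝒰 := W.left.affineCover
  obtain ⟨y', hy'⟩ := 𝒰.covers y
  let π : 𝒰.X (𝒰.idx y) ⟶ Spec (CommRingCat.of k) := 𝒰.f (𝒰.idx y) ≫ W.hom
  haveI : IsAffine (𝒰.X (𝒰.idx y)) := inferInstanceAs (IsAffine (Spec _))
  haveI : Etale π := inferInstance
  haveI : IsFinite π := isFinite_of_etale_of_isAffine k π
  have h1 : EtCore.Hpull π F (i + 1) x = 0 :=
    Hpull_comp_eq_zero (𝒰.f (𝒰.idx y)) W.hom F _ x h0
  have hd : ∀ z, π.finrank z = π.finrank (π y') := fun z => by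
    rw [Subsingleton.elim z (π y')]
  have h2 := nsmul_eq_zero_of_Hpull_eq_zero π hd F (i + 1) x h1
  exact ⟨_, Scheme.Hom.one_le_finrank_map π y', h2⟩

/-- **S7743** -/
theorem main_S7743 (F : EtCoh.Ab (Spec (CommRingCat.of k))) (i : ℕ) (hi : 0 < i)
    (x : EtCoh.H (Spec (CommRingCat.of k)) F i) : IsOfFinAddOrder x := by
  obtain ⟨d, hd, h⟩ := exists_nsmul_eq_zero k F i hi x
  exact isOfFinAddOrder_iff_nsmul_eq_zero.2 ⟨d, hd, h⟩

/-- **S7744** -/
theorem main_S7744 (F : EtCoh.Ab (Spec (CommRingCat.of k)))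
    (hdiv : ∀ n : ℕ, 0 < n → IsIso (n • 𝟙 F)) (i : ℕ) (hi : 0 < i) :
    Subsingleton (EtCoh.H (Spec (CommRingCat.of k)) F i) := by
  have hzero : ∀ α : EtCoh.H (Spec (CommRingCat.of k)) F i, α = 0 := by
    intro α
    obtain ⟨d, hd, h1⟩ := exists_nsmul_eq_zero k F i hi α
    have h3 : ∀ m : ℕ, Sheaf.H.map (m • 𝟙 F) i α = m • α := by
      intro m
      induction m with
      | zero =>
        rw [zero_smul, zero_smul, Sheaf.H.map_apply, Abelian.Ext.mk₀_zero, Abelian.Ext.comp_zero]
      | succ m ih =>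
        rw [succ_nsmul, succ_nsmul, Sheaf.H.map_add_apply, ih, Sheaf.H.map_id_apply]
    haveI := hdiv d hd
    have h4 : Sheaf.H.map (inv (d • 𝟙 F)) i (Sheaf.H.map (d • 𝟙 F) i α) = α := by
      rw [← Sheaf.H.map_comp_apply, IsIso.hom_inv_id, Sheaf.H.map_id_apply]
    rw [← h4, h3, h1, map_zero]
  exact ⟨fun a b => (hzero a).trans (hzero b).symm⟩

end Field

end Groth.Agent.Lib.T2H8.FieldTorsion
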