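import Mathlib
import Groth.Agent.Lib.T2H8FieldTorsion

/-!
# Short exact sequences of constant sheaves; `H^i(k, ℤ) ≃ H^{i-1}(k, ℚ/ℤ)` (S13499)
-/

set_option autoImplicit false
set_option linter.unusedSectionVars false
set_option linter.style.haveILetI false
universe w v u
open CategoryTheory CategoryTheory.Limits Opposite AlgebraicGeometry Abelian

namespace Groth.Agent.Lib.T2H8.ConstSES

section ExtLES

variable {𝒜 : Type u} [Category.{v} 𝒜] [Abelian 𝒜] [HasExt.{w} 𝒜] (X : 𝒜)
  {S : ShortComplex 𝒜} (hS : S.ShortExact)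

include hS in
/-- the connecting map is bijective when the middle term has vanishing `Ext` -/
lemma bijective_postcomp_extClass (n : ℕ) (h1 : Subsingleton (Ext.{w} X S.X₂ n))
    (h2 : Subsingleton (Ext.{w} X S.X₂ (n + 1))) :
    Function.Bijective (hS.extClass.postcomp X (rfl : n + 1 = n + 1)) := by
  constructor
  · rw [← AddMonoidHom.ker_eq_bot_iff, AddSubgroup.eq_bot_iff_forall]
    intro x hx
    obtain ⟨x₂, rfl⟩ := Ext.covariant_sequence_exact₃ X hS x rfl hx
    rw [Subsingleton.elim x₂ 0, Ext.zero_comp]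
  · intro x₁
    obtain ⟨x₃, hx₃⟩ := Ext.covariant_sequence_exact₁ X hS x₁ (Subsingleton.elim _ _) rfl
    exact ⟨x₃, hx₃⟩

end ExtLES

section Const

variable (X : Scheme.{u})

/-- the constant sheaf functor -/
noncomputable abbrev cs : AddCommGrpCat.{u + 1} ⥤ EtCoh.Ab X :=
  constantSheaf X.smallEtaleTopology AddCommGrpCat.{u + 1}

instance cs_preservesFiniteLimits : PreservesFiniteLimits (cs X) := by
  change PreservesFiniteLimits (Functor.const _ ⋙ presheafToSheaf _ _)
  infer_instance

instance cs_preservesFiniteColimits : PreservesFiniteColimits (cs X) := by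
  have : PreservesColimitsOfSize.{0, 0} (cs X) :=
    (EtCore.constAdj X).leftAdjoint_preservesColimits
  infer_instance

instance cs_additive : (cs X).Additive := by
  haveI : (cs X).PreservesZeroMorphisms := Functor.preservesZeroMorphisms_of_preserves_terminal_object
  exact Functor.additive_of_preserves_binary_products _

end Const

section ULift

variable {M N P : Type} [AddCommGroup M] [AddCommGroup N] [AddCommGroup P]

/-- a homomorphism of small groups, lifted -/
def ulMap (φ : M →+ N) :
    AddCommGrpCat.of (ULift.{u + 1} M) ⟶ AddCommGrpCat.of (ULift.{u + 1} N) :=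
  AddCommGrpCat.ofHom ((AddEquiv.ulift.symm : N ≃+ ULift.{u + 1} N).toAddMonoidHom.comp
    (φ.comp (AddEquiv.ulift : ULift.{u + 1} M ≃+ M).toAddMonoidHom))

lemma ulMap_apply (φ : M →+ N) (x : ULift.{u + 1} M) : (ulMap.{u} φ).hom x = ⟨φ x.down⟩ := rfl

/-- a short exact sequence of small abelian groups gives one in `AddCommGrpCat.{u+1}` -/
lemma ul_shortExact (i : M →+ N) (p : N →+ P) (hi : Function.Injective i)
    (hp : Function.Surjective p) (hex : ∀ y, p y = 0 → ∃ x, i x = y) (hz : ∀ x, p (i x) = 0) :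
    (ShortComplex.mk (ulMap.{u} i) (ulMap.{u} p) (by
      ext x
      exact hz x.down)).ShortExact := by
  haveI : Mono (ulMap.{u} i) := by
    rw [AddCommGrpCat.mono_iff_injective]
    intro a b hab
    apply ULift.ext
    apply hi
    exact congrArg ULift.down hab
  haveI : Epi (ulMap.{u} p) := by
    rw [AddCommGrpCat.epi_iff_surjective]
    intro c
    obtain ⟨b, hb⟩ := hp c.down
    exact ⟨⟨b⟩, ULift.ext _ _ hb⟩
  refine ShortComplex.ShortExact.mk' ?_ inferInstance inferInstance
  rw [ShortComplex.ab_exact_iff]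
  intro y hy
  obtain ⟨x, hx⟩ := hex y.down (congrArg ULift.down hy)
  exact ⟨⟨x⟩, ULift.ext _ _ hx⟩

end ULift

section QZ

variable (X : Scheme.{u})

/-- the sequence `0 → ℤ → ℚ → ℚ/ℤ → 0` of lifted groups -/
def SZQ : ShortComplex AddCommGrpCat.{u + 1} :=
  ShortComplex.mk (ulMap.{u} (Int.castAddHom ℚ))
      (ulMap.{u} (QuotientAddGroup.mk' (AddSubgroup.zmultiples (1 : ℚ)))) (by
        ext x
        change ((x.down : ℚ) : ℚ ⧸ AddSubgroup.zmultiples (1 : ℚ)) = 0
        rw [QuotientAddGroup.eq_zero_iff]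
        exact ⟨x.down, by simp⟩)

lemma shortExact_ZQ : SZQ.{u}.ShortExact := by
  apply ul_shortExact
  · exact Int.cast_injective
  · exact QuotientAddGroup.mk'_surjective _
  · intro y hy
    rw [QuotientAddGroup.mk'_apply, QuotientAddGroup.eq_zero_iff] at hy
    obtain ⟨n, hn⟩ := hy
    exact ⟨n, by simpa using hn⟩
  · intro x
    rw [QuotientAddGroup.mk'_apply, QuotientAddGroup.eq_zero_iff]
    exact ⟨x, by simp⟩

/-- the sequence `0 → ℤ → ℚ → ℚ/ℤ → 0` of constant sheaves -/
lemma shortExact_const_ZQ : (SZQ.{u}.map (cs X)).ShortExact :=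
  shortExact_ZQ.{u}.map_of_exact (cs X)

/-- multiplication by a positive integer is an isomorphism on the constant sheaf `ℚ` -/
lemma isIso_nsmul_const_Q (n : ℕ) (hn : 0 < n) : IsIso (n • 𝟙 (EtCoh.const X ℚ)) := by
  have h1 : n • 𝟙 (EtCoh.const X ℚ) =
      (cs X).map (n • 𝟙 (AddCommGrpCat.of (ULift.{u + 1} ℚ))) := by
    rw [Functor.map_nsmul, CategoryTheory.Functor.map_id]
  rw [h1]
  haveI : IsIso (n • 𝟙 (AddCommGrpCat.of (ULift.{u + 1} ℚ))) := by
    rw [ConcreteCategory.isIso_iff_bijective]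
    have hn' : (n : ℚ) ≠ 0 := by exact_mod_cast hn.ne'
    have happ : ∀ x : ULift.{u + 1} ℚ,
        (n • 𝟙 (AddCommGrpCat.of (ULift.{u + 1} ℚ))).hom x = ⟨n * x.down⟩ := by
      intro x
      rw [AddCommGrpCat.hom_nsmul, AddMonoidHom.nsmul_apply]
      apply ULift.ext
      simp
    constructor
    · intro a b hab
      have := (happ a).symm.trans (hab.trans (happ b))
      apply ULift.ext
      have h2 := congrArg ULift.down this
      exact mul_left_cancel₀ hn' h2
    · intro b
      refine ⟨⟨b.down / n⟩, ?_⟩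
      refine (happ _).trans ?_
      apply ULift.ext
      change (n : ℚ) * (b.down / n) = b.down
      field_simp
  infer_instance

end QZ

section Field

variable (k : Type u) [Field k]

/-- **S13499** (shifted form) -/
theorem main_S13499 (n : ℕ) :
    Nonempty (EtCoh.H (Spec (CommRingCat.of k)) (EtCoh.const (Spec (CommRingCat.of k)) ℤ) (n + 2) ≃+
      EtCoh.H (Spec (CommRingCat.of k))
        (EtCoh.const (Spec (CommRingCat.of k)) (ℚ ⧸ AddSubgroup.zmultiples (1 : ℚ))) (n + 1)) := by
  have hS := shortExact_const_ZQ (Spec (CommRingCat.of k))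
  have hQ : ∀ j, 0 < j → Subsingleton (EtCoh.H (Spec (CommRingCat.of k))
      (EtCoh.const (Spec (CommRingCat.of k)) ℚ) j) := fun j hj =>
    Groth.Agent.Lib.T2H8.FieldTorsion.main_S7744 k _
      (isIso_nsmul_const_Q (Spec (CommRingCat.of k))) j hj
  have hb := bijective_postcomp_extClass (EtCoh.const (Spec (CommRingCat.of k)) ℤ) hS (n + 1)
    (hQ (n + 1) (Nat.succ_pos _)) (hQ (n + 2) (Nat.succ_pos _))
  exact ⟨(AddEquiv.ofBijective _ hb).symm⟩

end Field

end Groth.Agent.Lib.T2H8.ConstSES
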