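import Mathlib

/-!
# S12437, part 1: irreducibility of the chart polynomial

`F = (s₃ - s₁ s₂) t² - s₂² t - s₂ s₃` over `T = k[X₀, X₁, X₂]` is irreducible in `T[t]`.
-/

set_option autoImplicit false

namespace Groth.Agent.Lib.T2H8.Cubic

universe u

open MvPolynomial

variable (k : Type u) [Field k]

/-- `T = k[X₀, X₁, X₂]` -/
abbrev T := MvPolynomial (Fin 3) k

noncomputable def s1 : T k := X 0 + X 1 + X 2
noncomputable def s2 : T k := X 0 * X 1 + X 0 * X 2 + X 1 * X 2
noncomputable def s3 : T k := X 0 * X 1 * X 2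

noncomputable def ca : T k := s3 k - s1 k * s2 k
noncomputable def cb : T k := -(s2 k) ^ 2
noncomputable def cc : T k := -(s2 k * s3 k)

/-- the chart polynomial -/
noncomputable def Fp : Polynomial (T k) :=
  Polynomial.C (ca k) * Polynomial.X ^ 2 + Polynomial.C (cb k) * Polynomial.X + Polynomial.C (cc k)

lemma ca_eq : ca k = -((X 0 + X 1) * (X 0 + X 2) * (X 1 + X 2)) := by
  simp only [ca, s1, s2, s3]; ring

/-- evaluation at a point of `k³` -/
noncomputable def evT (x : Fin 3 → k) : T k →ₐ[k] k := aeval x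

lemma irreducible_X_add_X (i j : Fin 3) (hij : i ≠ j) :
    Irreducible (X i + X j : T k) := by
  have := irreducible_mul_X_add (1 : T k) (X j) i one_ne_zero (by simp)
    (by simp [vars_X, hij]) isRelPrime_one_left
  simpa using this

variable [CharZero k]

lemma isRelPrime_lin_s2 (i j l : Fin 3) (hij : i ≠ j) (hil : i ≠ l) (hjl : j ≠ l)
    (hs2 : s2 k = X i * X j + (X i + X j) * X l) :
    IsRelPrime (X i + X j : T k) (s2 k) := by
  rw [(irreducible_X_add_X k i j hij).isRelPrime_iff_not_dvd]
  intro hdvd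
  let x : Fin 3 → k := fun m => if m = i then 1 else if m = j then -1 else 0
  have h1 := map_dvd (evT k x) hdvd
  have hi : x i = 1 := by simp [x]
  have hj : x j = -1 := by simp [x, hij.symm]
  have hl : x l = 0 := by simp [x, hil.symm, hjl.symm]
  rw [hs2] at h1
  simp only [evT, map_add, map_mul, aeval_X, hi, hj, hl] at h1
  norm_num at h1

lemma isRelPrime_ca_cb : IsRelPrime (ca k) (cb k) := by
  have h01 : IsRelPrime (X 0 + X 1 : T k) (s2 k) :=
    isRelPrime_lin_s2 k 0 1 2 (by decide) (by decide) (by decide) (by simp only [s2]; ring)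
  have h02 : IsRelPrime (X 0 + X 2 : T k) (s2 k) :=
    isRelPrime_lin_s2 k 0 2 1 (by decide) (by decide) (by decide) (by simp only [s2]; ring)
  have h12 : IsRelPrime (X 1 + X 2 : T k) (s2 k) :=
    isRelPrime_lin_s2 k 1 2 0 (by decide) (by decide) (by decide) (by simp only [s2]; ring)
  rw [ca_eq, cb]
  refine IsRelPrime.neg_left (IsRelPrime.neg_right ?_)
  refine IsRelPrime.pow_right ?_
  exact IsRelPrime.mul_left (IsRelPrime.mul_left h01 h02) h12

lemma isPrimitive_Fp : (Fp k).IsPrimitive := by
  rw [Polynomial.isPrimitive_iff_isUnit_of_C_dvd]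
  intro r hr
  rw [Polynomial.C_dvd_iff_dvd_coeff] at hr
  have h2 : r ∣ ca k := by
    have := hr 2
    simpa [Fp, Polynomial.coeff_X, Polynomial.coeff_C] using this
  have h1 : r ∣ cb k := by
    have := hr 1
    simpa [Fp, Polynomial.coeff_X, Polynomial.coeff_C] using this
  exact isRelPrime_ca_cb k h2 h1

/-- the discriminant of `Fp` in `t` -/
noncomputable def disc : T k := cb k ^ 2 - 4 * ca k * cc k

/-- specialisation `X₀ ↦ u, X₁ ↦ 1, X₂ ↦ 1` -/
noncomputable def spec : T k →ₐ[k] Polynomial k :=
  aeval (fun m : Fin 3 => if m = 0 then (Polynomial.X : Polynomial k) else 1)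

lemma spec_disc : spec k (disc k) =
    Polynomial.C (-8 : k) * Polynomial.X ^ 3 + Polynomial.C (-8 : k) * Polynomial.X ^ 2 + 1 := by
  have h0 : spec k (X 0) = Polynomial.X := by simp [spec]
  have h1 : spec k (X 1) = 1 := by simp [spec]
  have h2 : spec k (X 2) = 1 := by simp [spec]
  simp only [disc, cb, ca, cc, s1, s2, s3, map_sub, map_mul, map_add, map_pow, map_neg, h0, h1, h2,
    map_ofNat]
  ring

lemma disc_ne_sq (y : T k) : y ^ 2 ≠ disc k := by
  intro h
  have h1 := congrArg (spec k) h
  rw [map_pow, spec_disc] at h1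
  have h2 := congrArg Polynomial.natDegree h1
  rw [Polynomial.natDegree_pow] at h2
  have h8 : (-8 : k) ≠ 0 := by norm_num
  have h3 : (Polynomial.C (-8 : k) * Polynomial.X ^ 3 + Polynomial.C (-8 : k) * Polynomial.X ^ 2
      + 1 : Polynomial k).natDegree = 3 := by
    compute_degree!
  rw [h3] at h2
  omega

lemma ca_ne_zero : ca k ≠ 0 := by
  intro h
  have h1 := congrArg (evT k (fun _ => 1)) h
  simp only [ca, s1, s2, s3, evT, map_sub, map_mul, map_add, aeval_X, map_zero] at h1
  norm_num at h1

lemma natDegree_Fp : (Fp k).natDegree = 2 := by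
  have := ca_ne_zero k
  rw [Fp]
  compute_degree!

/-- `Fp` is irreducible over the fraction field of `T`. -/
lemma irreducible_map_Fp :
    Irreducible ((Fp k).map (algebraMap (T k) (FractionRing (T k)))) := by
  set K := FractionRing (T k) with hK
  have hinj : Function.Injective (algebraMap (T k) K) := IsFractionRing.injective _ _
  have hdeg : ((Fp k).map (algebraMap (T k) K)).natDegree = 2 := by
    rw [Polynomial.natDegree_map_eq_of_injective hinj, natDegree_Fp]
  refine Polynomial.irreducible_of_degree_le_three_of_not_isRoot (by rw [hdeg]; decide) ?_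
  intro x hx
  rw [Polynomial.IsRoot.def] at hx
  have hx' : algebraMap (T k) K (ca k) * (x * x) + algebraMap (T k) K (cb k) * x +
      algebraMap (T k) K (cc k) = 0 := by
    simpa [Fp, pow_two] using hx
  have hd := discrim_eq_sq_of_quadratic_eq_zero hx'
  -- `z := 2 a x + b` is integral over `T`, hence in `T`
  set z := 2 * algebraMap (T k) K (ca k) * x + algebraMap (T k) K (cb k) with hz
  have hdisc : algebraMap (T k) K (disc k) = z ^ 2 := by
    rw [← hd, discrim, disc]
    simp only [map_sub, map_mul, map_pow, map_ofNat]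
  have hint : IsIntegral (T k) z := by
    refine ⟨Polynomial.X ^ 2 - Polynomial.C (disc k), Polynomial.monic_X_pow_sub_C _ (by norm_num), ?_⟩
    simp [hdisc]
  obtain ⟨y, hy⟩ := IsIntegrallyClosed.isIntegral_iff.mp hint
  apply disc_ne_sq k y
  apply hinj
  rw [map_pow, hy, hdisc]

theorem irreducible_Fp : Irreducible (Fp k) :=
  (isPrimitive_Fp k).irreducible_iff_irreducible_map_fraction_map.mpr (irreducible_map_Fp k)

end Groth.Agent.Lib.T2H8.Cubic
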