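import Groth.Agent.Lib.T2H8CubicA

/-!
# S12437, part 2: the chart of `V(σ₂, σ₄)` where `σ₁ - X₄ ≠ 0`
-/

set_option autoImplicit false

namespace Groth.Agent.Lib.T2H8.Cubic

universe u

open MvPolynomial

variable (k : Type u) [Field k]

/-- `R = k[X₀, …, X₄]` -/
abbrev R5 := MvPolynomial (Fin 5) k

/-- the inclusion `k[X₀,X₁,X₂] → k[X₀..X₄]` -/
noncomputable def jT : T k →ₐ[k] R5 k :=
  aeval (fun i : Fin 3 => (X (Fin.castLE (by decide) i) : R5 k))

/-- `k[X₀,X₁,X₂][t] → k[X₀..X₄]`, `t ↦ X₃` -/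
noncomputable def iota : Polynomial (T k) →+* R5 k :=
  Polynomial.eval₂RingHom (jT k).toRingHom (X 3)

lemma jT_X0 : jT k (X 0) = X 0 := by simp [jT]
lemma jT_X1 : jT k (X 1) = X 1 := by simp [jT]
lemma jT_X2 : jT k (X 2) = X 2 := by simp [jT]

lemma iota_C (a : T k) : iota k (Polynomial.C a) = jT k a := by
  simp [iota]

lemma iota_X : iota k Polynomial.X = X 3 := by
  simp [iota]

noncomputable def e1 : Polynomial (T k) := Polynomial.C (s1 k) + Polynomial.X
noncomputable def e2 : Polynomial (T k) := Polynomial.C (s2 k) + Polynomial.C (s1 k) * Polynomial.X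
noncomputable def e3 : Polynomial (T k) := Polynomial.C (s3 k) + Polynomial.C (s2 k) * Polynomial.X
noncomputable def e4 : Polynomial (T k) := Polynomial.C (s3 k) * Polynomial.X

lemma Fp_eq : Fp k = e1 k * e4 k - e2 k * e3 k := by
  simp only [Fp, ca, cb, cc, e1, e2, e3, e4, map_sub, map_mul, map_neg, map_pow]
  ring

lemma jT_s1 : jT k (s1 k) = X 0 + X 1 + X 2 := by
  simp only [s1, map_add, jT_X0, jT_X1, jT_X2]
lemma jT_s2 : jT k (s2 k) = X 0 * X 1 + X 0 * X 2 + X 1 * X 2 := by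
  simp only [s2, map_add, map_mul, jT_X0, jT_X1, jT_X2]
lemma jT_s3 : jT k (s3 k) = X 0 * X 1 * X 2 := by
  simp only [s3, map_mul, jT_X0, jT_X1, jT_X2]

lemma iota_e1 : iota k (e1 k) = X 0 + X 1 + X 2 + X 3 := by
  simp only [e1, map_add, iota_C, iota_X, jT_s1]
lemma iota_e2 : iota k (e2 k) = X 0 * X 1 + X 0 * X 2 + X 1 * X 2 + (X 0 + X 1 + X 2) * X 3 := by
  simp only [e2, map_add, map_mul, iota_C, iota_X, jT_s1, jT_s2]
lemma iota_e3 : iota k (e3 k) = X 0 * X 1 * X 2 + (X 0 * X 1 + X 0 * X 2 + X 1 * X 2) * X 3 := by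
  simp only [e3, map_add, map_mul, iota_C, iota_X, jT_s2, jT_s3]
lemma iota_e4 : iota k (e4 k) = X 0 * X 1 * X 2 * X 3 := by
  simp only [e4, map_mul, iota_C, iota_X, jT_s3]

lemma esymm_one : esymm (Fin 5) k 1 = X 0 + X 1 + X 2 + X 3 + X 4 := by
  have h : Finset.powersetCard 1 (Finset.univ : Finset (Fin 5)) =
    {{0},{1},{2},{3},{4}} := by decide
  rw [esymm, h]
  repeat rw [Finset.sum_insert (by decide)]
  rw [Finset.sum_singleton]
  simp only [Finset.prod_singleton]
  ring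

lemma esymm_two : esymm (Fin 5) k 2 = X 0 * X 1 + X 0 * X 2 + X 0 * X 3 + X 0 * X 4 + X 1 * X 2 +
    X 1 * X 3 + X 1 * X 4 + X 2 * X 3 + X 2 * X 4 + X 3 * X 4 := by
  have h : Finset.powersetCard 2 (Finset.univ : Finset (Fin 5)) =
    {{0,1},{0,2},{0,3},{0,4},{1,2},{1,3},{1,4},{2,3},{2,4},{3,4}} := by decide
  rw [esymm, h]
  repeat rw [Finset.sum_insert (by decide)]
  rw [Finset.sum_singleton]
  repeat rw [Finset.prod_insert (by decide)]
  simp only [Finset.prod_singleton]
  ring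

lemma esymm_four : esymm (Fin 5) k 4 = X 0 * X 1 * X 2 * X 3 + X 0 * X 1 * X 2 * X 4 +
    X 0 * X 1 * X 3 * X 4 + X 0 * X 2 * X 3 * X 4 + X 1 * X 2 * X 3 * X 4 := by
  have h : Finset.powersetCard 4 (Finset.univ : Finset (Fin 5)) =
    {{0,1,2,3},{0,1,2,4},{0,1,3,4},{0,2,3,4},{1,2,3,4}} := by decide
  rw [esymm, h]
  repeat rw [Finset.sum_insert (by decide)]
  rw [Finset.sum_singleton]
  repeat rw [Finset.prod_insert (by decide)]
  simp only [Finset.prod_singleton]
  ring

lemma esymm_two_eq : esymm (Fin 5) k 2 = iota k (e2 k) + X 4 * iota k (e1 k) := by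
  rw [esymm_two, iota_e1, iota_e2]; ring

lemma esymm_four_eq : esymm (Fin 5) k 4 = iota k (e4 k) + X 4 * iota k (e3 k) := by
  rw [esymm_four, iota_e3, iota_e4]; ring

/-- the ideal `(σ₂, σ₄)` -/
noncomputable def I5 : Ideal (R5 k) :=
  Ideal.span {esymm (Fin 5) k 2, esymm (Fin 5) k 4}

lemma esymm_two_mem : esymm (Fin 5) k 2 ∈ I5 k := Ideal.subset_span (by simp)
lemma esymm_four_mem : esymm (Fin 5) k 4 ∈ I5 k := Ideal.subset_span (by simp)

lemma iota_Fp_mem : iota k (Fp k) ∈ I5 k := by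
  have h : iota k (Fp k) = iota k (e1 k) * esymm (Fin 5) k 4 - iota k (e3 k) * esymm (Fin 5) k 2 := by
    rw [Fp_eq, esymm_two_eq, esymm_four_eq, map_sub, map_mul, map_mul]; ring
  rw [h]
  exact sub_mem (Ideal.mul_mem_left _ _ (esymm_four_mem k)) (Ideal.mul_mem_left _ _ (esymm_two_mem k))

section Chart

variable [CharZero k]

/-- `D = T[t]/(Fp)` -/
def Dq : Type u := Polynomial (T k) ⧸ Ideal.span {Fp k}

noncomputable instance : CommRing (Dq k) := Ideal.Quotient.commRing _

instance isPrime_span_Fp : (Ideal.span {Fp k}).IsPrime := by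
  rw [Ideal.span_singleton_prime (irreducible_Fp k).ne_zero]
  exact (irreducible_Fp k).prime

instance : IsDomain (Dq k) := Ideal.Quotient.isDomain _

/-- the quotient map -/
noncomputable def mkD : Polynomial (T k) →+* Dq k := Ideal.Quotient.mk (Ideal.span {Fp k})

lemma mkD_eq_zero_iff (g : Polynomial (T k)) : mkD k g = 0 ↔ g ∈ Ideal.span {Fp k} :=
  Ideal.Quotient.eq_zero_iff_mem

/-- `L = Frac D` -/
abbrev Lq := FractionRing (Dq k)

/-- `T[t] → L` -/
noncomputable def piL : Polynomial (T k) →+* Lq k :=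
  (algebraMap (Dq k) (Lq k)).comp (mkD k)

lemma piL_eq_zero_iff (g : Polynomial (T k)) : piL k g = 0 ↔ g ∈ Ideal.span {Fp k} := by
  rw [piL, RingHom.comp_apply, map_eq_zero_iff _ (IsFractionRing.injective (Dq k) (Lq k)),
    mkD_eq_zero_iff]

/-- evaluation at the point `(1, 1, 0, 0)` of the chart hypersurface -/
noncomputable def evP : Polynomial (T k) →+* k :=
  Polynomial.eval₂RingHom (evT k (fun i : Fin 3 => if i = 2 then 0 else 1)).toRingHom 0

lemma evP_C_X0 : evP k (Polynomial.C (X 0)) = 1 := by simp [evP, evT]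
lemma evP_C_X1 : evP k (Polynomial.C (X 1)) = 1 := by simp [evP, evT]
lemma evP_C_X2 : evP k (Polynomial.C (X 2)) = 0 := by simp [evP, evT]
lemma evP_X : evP k Polynomial.X = 0 := by simp [evP]

lemma evP_s1 : evP k (Polynomial.C (s1 k)) = 2 := by
  simp only [s1, map_add, evP_C_X0, evP_C_X1, evP_C_X2]; norm_num
lemma evP_s2 : evP k (Polynomial.C (s2 k)) = 1 := by
  simp only [s2, map_add, map_mul, evP_C_X0, evP_C_X1, evP_C_X2]; norm_num
lemma evP_s3 : evP k (Polynomial.C (s3 k)) = 0 := by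
  simp only [s3, map_mul, evP_C_X0, evP_C_X1, evP_C_X2]; norm_num

lemma evP_e1 : evP k (e1 k) = 2 := by
  simp only [e1, map_add, evP_s1, evP_X]; norm_num
lemma evP_e2 : evP k (e2 k) = 1 := by
  simp only [e2, map_add, map_mul, evP_s1, evP_s2, evP_X]; norm_num
lemma evP_e3 : evP k (e3 k) = 0 := by
  simp only [e3, map_add, map_mul, evP_s2, evP_s3, evP_X]; norm_num
lemma evP_e4 : evP k (e4 k) = 0 := by
  simp only [e4, map_mul, evP_s3, evP_X]; norm_num

lemma evP_Fp : evP k (Fp k) = 0 := by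
  rw [Fp_eq, map_sub, map_mul, map_mul, evP_e1, evP_e2, evP_e3, evP_e4]; norm_num

lemma evP_eq_zero_of_mem {g : Polynomial (T k)} (hg : g ∈ Ideal.span {Fp k}) : evP k g = 0 := by
  obtain ⟨h, rfl⟩ := Ideal.mem_span_singleton'.mp hg
  rw [map_mul, evP_Fp, mul_zero]

lemma piL_ne_zero_of_evP {g : Polynomial (T k)} (hg : evP k g ≠ 0) : piL k g ≠ 0 := by
  intro h
  exact hg (evP_eq_zero_of_mem k ((piL_eq_zero_iff k g).mp h))

lemma piL_e1_ne_zero : piL k (e1 k) ≠ 0 :=
  piL_ne_zero_of_evP k (by rw [evP_e1]; norm_num)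

/-- the coefficient map `k → L` -/
noncomputable def cL : k →+* Lq k :=
  (piL k).comp ((Polynomial.C).comp (MvPolynomial.C))

/-- the images of the five coordinates in `L` -/
noncomputable def vL : Fin 5 → Lq k :=
  ![piL k (Polynomial.C (X 0)), piL k (Polynomial.C (X 1)), piL k (Polynomial.C (X 2)),
    piL k Polynomial.X, -(piL k (e2 k)) / piL k (e1 k)]

/-- the chart map `ψ : k[X₀..X₄] → L` -/
noncomputable def psi : R5 k →+* Lq k := eval₂Hom (cL k) (vL k)

lemma psi_X0 : psi k (X 0) = piL k (Polynomial.C (X 0)) := by simp [psi, vL]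
lemma psi_X1 : psi k (X 1) = piL k (Polynomial.C (X 1)) := by simp [psi, vL]
lemma psi_X2 : psi k (X 2) = piL k (Polynomial.C (X 2)) := by simp [psi, vL]
lemma psi_X3 : psi k (X 3) = piL k Polynomial.X := by simp [psi, vL]
lemma psi_X4 : psi k (X 4) = -(piL k (e2 k)) / piL k (e1 k) := by simp [psi, vL]
lemma psi_C (a : k) : psi k (C a) = cL k a := by simp [psi]

lemma psi_jT (a : T k) : psi k (jT k a) = piL k (Polynomial.C a) := by
  induction a using MvPolynomial.induction_on with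
  | C a => simp [jT, psi_C, cL]
  | add p q hp hq => rw [map_add, map_add, hp, hq, map_add, map_add]
  | mul_X p i hp =>
    have hX : psi k (jT k (X i)) = piL k (Polynomial.C (X i)) := by
      fin_cases i
      · exact (congrArg (psi k) (jT_X0 k)).trans (psi_X0 k)
      · exact (congrArg (psi k) (jT_X1 k)).trans (psi_X1 k)
      · exact (congrArg (psi k) (jT_X2 k)).trans (psi_X2 k)
    rw [map_mul (jT k), map_mul (psi k), hp, hX, map_mul Polynomial.C, map_mul (piL k)]

lemma psi_iota (g : Polynomial (T k)) : psi k (iota k g) = piL k g := by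
  induction g using Polynomial.induction_on with
  | C a => rw [iota_C, psi_jT]
  | add p q hp hq => rw [map_add, map_add, hp, hq, map_add]
  | monomial n a h =>
    rw [pow_succ, ← mul_assoc, map_mul (iota k), map_mul (psi k), h, iota_X, psi_X3,
      ← map_mul (piL k)]

lemma psi_esymm_two : psi k (esymm (Fin 5) k 2) = 0 := by
  rw [esymm_two_eq, map_add, map_mul, psi_iota, psi_iota, psi_X4]
  field_simp [piL_e1_ne_zero k]
  ring

lemma psi_esymm_four : psi k (esymm (Fin 5) k 4) = 0 := by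
  rw [esymm_four_eq, map_add, map_mul, psi_iota, psi_iota, psi_X4]
  have hF : piL k (e1 k * e4 k - e2 k * e3 k) = 0 :=
    (piL_eq_zero_iff k _).mpr (by rw [← Fp_eq]; exact Ideal.subset_span rfl)
  rw [map_sub, map_mul, map_mul] at hF
  field_simp [piL_e1_ne_zero k]
  linear_combination hF

lemma I5_le_ker : I5 k ≤ RingHom.ker (psi k) := by
  rw [I5, Ideal.span_le]
  rintro x (rfl | rfl)
  · exact psi_esymm_two k
  · exact psi_esymm_four k

end Chart

section Kernel

variable [CharZero k]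

/-- the linear form `σ₁ - X₄ = X₀ + X₁ + X₂ + X₃` -/
noncomputable def E1 : R5 k := iota k (e1 k)

/-- every `f` is, up to a power of `E1` and modulo `σ₂`, in the image of `iota`. -/
lemma exists_pow_mul_sub_mem (f : R5 k) :
    ∃ (N : ℕ) (g : Polynomial (T k)),
      E1 k ^ N * f - iota k g ∈ Ideal.span {esymm (Fin 5) k 2} := by
  induction f using MvPolynomial.induction_on with
  | C a =>
    refine ⟨0, Polynomial.C (C a), ?_⟩
    rw [pow_zero, one_mul, iota_C]
    have : jT k (C a) = C a := by simp [jT]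
    rw [this, sub_self]
    exact zero_mem _
  | add p q hp hq =>
    obtain ⟨N1, g1, h1⟩ := hp
    obtain ⟨N2, g2, h2⟩ := hq
    refine ⟨N1 + N2, e1 k ^ N2 * g1 + e1 k ^ N1 * g2, ?_⟩
    have : E1 k ^ (N1 + N2) * (p + q) - iota k (e1 k ^ N2 * g1 + e1 k ^ N1 * g2) =
        E1 k ^ N2 * (E1 k ^ N1 * p - iota k g1) + E1 k ^ N1 * (E1 k ^ N2 * q - iota k g2) := by
      rw [map_add, map_mul, map_mul, map_pow, map_pow, E1]
      ring
    rw [this]
    exact add_mem (Ideal.mul_mem_left _ _ h1) (Ideal.mul_mem_left _ _ h2)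
  | mul_X p i hp =>
    obtain ⟨N, g, h⟩ := hp
    have hcase : ∀ x : Polynomial (T k), iota k x = X i →
        ∃ (N : ℕ) (g : Polynomial (T k)),
          E1 k ^ N * (p * X i) - iota k g ∈ Ideal.span {esymm (Fin 5) k 2} := by
      intro x hx
      refine ⟨N, g * x, ?_⟩
      have : E1 k ^ N * (p * X i) - iota k (g * x) = X i * (E1 k ^ N * p - iota k g) := by
        rw [map_mul, hx]; ring
      rw [this]
      exact Ideal.mul_mem_left _ _ h
    fin_cases i
    · exact hcase (Polynomial.C (X 0)) (by rw [iota_C, jT_X0]; rfl)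
    · exact hcase (Polynomial.C (X 1)) (by rw [iota_C, jT_X1]; rfl)
    · exact hcase (Polynomial.C (X 2)) (by rw [iota_C, jT_X2]; rfl)
    · exact hcase Polynomial.X (by rw [iota_X]; rfl)
    · refine ⟨N + 1, -(g * e2 k), ?_⟩
      have : E1 k ^ (N + 1) * (p * X 4) - iota k (-(g * e2 k)) =
          (E1 k ^ N * p) * esymm (Fin 5) k 2 - iota k (e2 k) * (E1 k ^ N * p - iota k g) := by
        rw [esymm_two_eq, map_neg, map_mul, E1]
        ring
      change E1 k ^ (N + 1) * (p * X 4) - iota k (-(g * e2 k)) ∈ _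
      rw [this]
      exact sub_mem (Ideal.mul_mem_left _ _ (Ideal.subset_span rfl)) (Ideal.mul_mem_left _ _ h)

lemma psi_E1_ne_zero : psi k (E1 k) ≠ 0 := by
  rw [E1, psi_iota]
  exact piL_e1_ne_zero k

instance ker_psi_isPrime : (RingHom.ker (psi k)).IsPrime := RingHom.ker_isPrime _

lemma span_esymm_two_le : Ideal.span {esymm (Fin 5) k 2} ≤ I5 k :=
  Ideal.span_mono (by simp)

/-- `ker ψ = (I : E1^∞)`. -/
theorem mem_ker_psi_iff (f : R5 k) :
    f ∈ RingHom.ker (psi k) ↔ ∃ N : ℕ, E1 k ^ N * f ∈ I5 k := by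
  constructor
  · intro hf
    obtain ⟨N, g, h⟩ := exists_pow_mul_sub_mem k f
    refine ⟨N, ?_⟩
    have h1 : psi k (E1 k ^ N * f - iota k g) = 0 :=
      I5_le_ker k (span_esymm_two_le k h)
    rw [map_sub, map_mul, (RingHom.mem_ker).mp hf, mul_zero, zero_sub, neg_eq_zero, psi_iota,
      piL_eq_zero_iff] at h1
    obtain ⟨c, rfl⟩ := Ideal.mem_span_singleton'.mp h1
    have h2 : iota k (c * Fp k) ∈ I5 k := by
      rw [map_mul]; exact Ideal.mul_mem_left _ _ (iota_Fp_mem k)
    have h3 := add_mem (span_esymm_two_le k h) h2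
    rwa [sub_add_cancel] at h3
  · rintro ⟨N, hN⟩
    have h1 := I5_le_ker k hN
    rcases (ker_psi_isPrime k).mem_or_mem h1 with h2 | h2
    · exact absurd ((RingHom.mem_ker).mp ((ker_psi_isPrime k).mem_of_pow_mem N h2))
        (psi_E1_ne_zero k)
    · exact h2

end Kernel

end Groth.Agent.Lib.T2H8.Cubic
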