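import Groth.Agent.Lib.T2H8CubicB

/-!
# S12437, part 3: symmetry and the radical of `(σ₂, σ₄)`
-/

set_option autoImplicit false

namespace Groth.Agent.Lib.T2H8.Cubic

universe u

open MvPolynomial

variable (k : Type u) [Field k] [CharZero k]

/-- `σ₁` -/
noncomputable def sig1 : R5 k := esymm (Fin 5) k 1

lemma E1_eq : E1 k = sig1 k - X 4 := by
  rw [E1, iota_e1, sig1, esymm_one]; ring

lemma psi_sig1 : psi k (sig1 k) = piL k (e1 k) + -(piL k (e2 k)) / piL k (e1 k) := by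
  have : sig1 k = E1 k + X 4 := by rw [E1_eq]; ring
  rw [this, map_add, E1, psi_iota, psi_X4]

lemma evP_ne (x : Polynomial (T k)) (hx : evP k x = 1 ∨ evP k x = 0) :
    evP k (e1 k ^ 2 - e2 k - x * e1 k) ≠ 0 := by
  rw [map_sub, map_sub, map_pow, map_mul, evP_e1, evP_e2]
  rcases hx with hx | hx <;> rw [hx] <;> norm_num

lemma sig1_sub_notMem_aux (j : Fin 5) (x : Polynomial (T k)) (hx : evP k x = 1 ∨ evP k x = 0)
    (hj : psi k (X j) = piL k x) : sig1 k - X j ∉ RingHom.ker (psi k) := by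
  intro h
  rw [RingHom.mem_ker, map_sub, psi_sig1, hj] at h
  have h1 := piL_e1_ne_zero k
  have h2 : piL k (e1 k ^ 2 - e2 k - x * e1 k) = 0 := by
    rw [map_sub, map_sub, map_pow, map_mul]
    field_simp at h
    linear_combination h
  exact piL_ne_zero_of_evP k (evP_ne k x hx) h2

lemma sig1_sub_notMem (j : Fin 5) (hj : j ≠ 4) : sig1 k - X j ∉ RingHom.ker (psi k) := by
  fin_cases j
  · exact sig1_sub_notMem_aux k _ _ (Or.inl (evP_C_X0 k)) (psi_X0 k)
  · exact sig1_sub_notMem_aux k _ _ (Or.inl (evP_C_X1 k)) (psi_X1 k)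
  · exact sig1_sub_notMem_aux k _ _ (Or.inr (evP_C_X2 k)) (psi_X2 k)
  · exact sig1_sub_notMem_aux k _ _ (Or.inr (evP_X k)) (psi_X3 k)
  · exact absurd rfl hj

/-- the transposition `(j 4)` acting on `k[X₀..X₄]` -/
noncomputable def tau (j : Fin 5) : R5 k →ₐ[k] R5 k := rename (Equiv.swap j 4)

omit [CharZero k] in
lemma tau_tau (j : Fin 5) (f : R5 k) : tau k j (tau k j f) = f := by
  rw [tau, rename_rename]
  have : (⇑(Equiv.swap j 4) ∘ ⇑(Equiv.swap j 4)) = id := by
    funext x; simp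
  rw [this, rename_id]
  rfl

omit [CharZero k] in
lemma tau_esymm (j : Fin 5) (n : ℕ) : tau k j (esymm (Fin 5) k n) = esymm (Fin 5) k n :=
  rename_esymm (Fin 5) k n (Equiv.swap j 4)

omit [CharZero k] in
lemma tau_X4 (j : Fin 5) : tau k j (X 4) = X j := by
  rw [tau, rename_X, Equiv.swap_apply_right]

omit [CharZero k] in
lemma tau_mem_I5 (j : Fin 5) {f : R5 k} (hf : f ∈ I5 k) : tau k j f ∈ I5 k := by
  have h1 : (I5 k).map (tau k j).toRingHom = I5 k := by
    rw [I5, Ideal.map_span, Set.image_pair]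
    change Ideal.span {tau k j (esymm (Fin 5) k 2), tau k j (esymm (Fin 5) k 4)} = _
    rw [tau_esymm, tau_esymm]
  have h2 := Ideal.mem_map_of_mem (tau k j).toRingHom hf
  rw [h1] at h2
  exact h2

lemma tau_E1 (j : Fin 5) : tau k j (E1 k) = sig1 k - X j := by
  rw [E1_eq, map_sub, sig1, tau_esymm, tau_X4]

lemma tau_mem_ker (j : Fin 5) (hj : j ≠ 4) {f : R5 k} (hf : f ∈ RingHom.ker (psi k)) :
    tau k j f ∈ RingHom.ker (psi k) := by
  obtain ⟨N, hN⟩ := (mem_ker_psi_iff k f).mp hf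
  have h1 := I5_le_ker k (tau_mem_I5 k j hN)
  rw [map_mul, map_pow, tau_E1] at h1
  rcases (ker_psi_isPrime k).mem_or_mem h1 with h2 | h2
  · exact absurd ((ker_psi_isPrime k).mem_of_pow_mem N h2) (sig1_sub_notMem k j hj)
  · exact h2

/-- every element of `ker ψ` is killed modulo `I` by a power of each `σ₁ - X_j`. -/
lemma exists_pow_mul_mem (j : Fin 5) {f : R5 k} (hf : f ∈ RingHom.ker (psi k)) :
    ∃ N : ℕ, (sig1 k - X j) ^ N * f ∈ I5 k := by
  by_cases hj : j = 4
  · subst hj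
    rw [← E1_eq]
    exact (mem_ker_psi_iff k f).mp hf
  · obtain ⟨N, hN⟩ := (mem_ker_psi_iff k _).mp (tau_mem_ker k j hj hf)
    refine ⟨N, ?_⟩
    have h1 := tau_mem_I5 k j hN
    rwa [map_mul, map_pow, tau_E1, tau_tau] at h1

section MinimalPrimes

/-- evaluation `X₄ ↦ u`, other variables to `0` -/
noncomputable def evQ : R5 k →ₐ[k] Polynomial k :=
  aeval (fun i : Fin 5 => if i = 4 then (Polynomial.X : Polynomial k) else 0)

omit [CharZero k] in
lemma evQ_X4 : evQ k (X 4) = Polynomial.X := by simp [evQ]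
omit [CharZero k] in
lemma evQ_X0 : evQ k (X 0) = 0 := by simp [evQ]
omit [CharZero k] in
lemma evQ_X1 : evQ k (X 1) = 0 := by simp [evQ]
omit [CharZero k] in
lemma evQ_X2 : evQ k (X 2) = 0 := by simp [evQ]
omit [CharZero k] in
lemma evQ_X3 : evQ k (X 3) = 0 := by simp [evQ]

omit [CharZero k] in
lemma I5_le_ker_evQ : I5 k ≤ RingHom.ker (evQ k).toRingHom := by
  rw [I5, Ideal.span_le]
  rintro x (rfl | rfl)
  · change evQ k _ = 0
    rw [esymm_two]
    simp only [map_add, map_mul, evQ_X0, evQ_X1, evQ_X2, evQ_X3, evQ_X4]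
    ring
  · change evQ k _ = 0
    rw [esymm_four]
    simp only [map_add, map_mul, evQ_X0, evQ_X1, evQ_X2, evQ_X3, evQ_X4]
    ring

omit [CharZero k] in
lemma ker_evQ_le (Q : Ideal (R5 k)) (hX : ∀ j : Fin 5, X j ∈ Q) :
    RingHom.ker (evQ k).toRingHom ≤ Q := by
  intro f hf
  have hf' : evQ k f = 0 := hf
  -- the two algebra maps `R5 → R5/Q` agree
  have h1 : (Ideal.Quotient.mkₐ k Q) =
      ((Algebra.ofId k (R5 k ⧸ Q)).comp (Polynomial.aeval (0 : k))).comp (evQ k) := by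
    apply MvPolynomial.algHom_ext
    intro i
    have hi : Ideal.Quotient.mkₐ k Q (X i) = 0 := by
      rw [Ideal.Quotient.mkₐ_eq_mk]; exact Ideal.Quotient.eq_zero_iff_mem.mpr (hX i)
    rw [hi, AlgHom.comp_apply, AlgHom.comp_apply]
    by_cases h4 : i = 4
    · subst h4
      rw [evQ_X4, Polynomial.aeval_X, map_zero]
    · have : evQ k (X i) = 0 := by simp [evQ, h4]
      rw [this, map_zero, map_zero]
  have h2 := congrArg (fun φ : R5 k →ₐ[k] R5 k ⧸ Q => φ f) h1
  simp only [AlgHom.comp_apply, hf', map_zero] at h2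
  rw [Ideal.Quotient.mkₐ_eq_mk] at h2
  exact Ideal.Quotient.eq_zero_iff_mem.mp h2

/-- `ker ψ ≤ rad I`. -/
lemma ker_psi_le_radical : RingHom.ker (psi k) ≤ (I5 k).radical := by
  intro f hf
  rw [← Ideal.sInf_minimalPrimes, Ideal.mem_sInf]
  intro Q hQ
  by_contra hfQ
  have hQp : Q.IsPrime := hQ.1.1
  have hIQ : I5 k ≤ Q := hQ.1.2
  -- all `σ₁ - X_j ∈ Q`
  have hej : ∀ j : Fin 5, sig1 k - X j ∈ Q := by
    intro j
    obtain ⟨N, hN⟩ := exists_pow_mul_mem k j hf
    rcases hQp.mem_or_mem (hIQ hN) with h | h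
    · exact hQp.mem_of_pow_mem N h
    · exact absurd h hfQ
  -- hence `σ₁ ∈ Q`
  have hs : sig1 k ∈ Q := by
    have h4 : (C (4 : k)) * sig1 k ∈ Q := by
      have : (C (4 : k)) * sig1 k = (sig1 k - X 0) + (sig1 k - X 1) + (sig1 k - X 2) +
          (sig1 k - X 3) + (sig1 k - X 4) := by
        have hC : (C (4 : k) : R5 k) = 4 := map_ofNat C 4
        rw [hC, sig1, esymm_one]; ring
      rw [this]
      exact add_mem (add_mem (add_mem (add_mem (hej 0) (hej 1)) (hej 2)) (hej 3)) (hej 4)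
    have h5 : sig1 k = C (4⁻¹ : k) * (C (4 : k) * sig1 k) := by
      rw [← mul_assoc, ← C_mul, inv_mul_cancel₀ (by norm_num : (4 : k) ≠ 0), C_1, one_mul]
    rw [h5]
    exact Ideal.mul_mem_left _ _ h4
  have hX : ∀ j : Fin 5, X j ∈ Q := by
    intro j
    have := sub_mem hs (hej j)
    rwa [sub_sub_cancel] at this
  -- contradiction with minimality
  have hQ' : (RingHom.ker (evQ k).toRingHom).IsPrime := RingHom.ker_isPrime _
  have hle := hQ.2 ⟨hQ', I5_le_ker_evQ k⟩ (ker_evQ_le k Q hX)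
  have h4 : (X 4 : R5 k) ∈ RingHom.ker (evQ k).toRingHom := hle (hX 4)
  have h4' : evQ k (X 4) = 0 := h4
  rw [evQ_X4] at h4'
  exact Polynomial.X_ne_zero h4'

end MinimalPrimes

/-- **S12437**: the radical of `(σ₂, σ₄)` in `k[X₀, …, X₄]` is prime (char `k = 0`). -/
theorem radical_I5_isPrime : (I5 k).radical.IsPrime := by
  have h : (I5 k).radical = RingHom.ker (psi k) :=
    le_antisymm ((ker_psi_isPrime k).radical_le_iff.mpr (I5_le_ker k)) (ker_psi_le_radical k)
  rw [h]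
  exact ker_psi_isPrime k

end Groth.Agent.Lib.T2H8.Cubic
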