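import Mathlib
import Groth.Prelude.Def_W4c3severiratdpLat
import Groth.Agent.Lib.Helper24DPConic

/-!
# Weyl group elements of the del Pezzo lattices `DP δ`: reflections, permutations, chains

Infrastructure for orbit computations in the lattices `DP δ`: reflections in roots, coordinate
permutations, kernel-checkable "reflection chains", and enumeration of class vectors that are
sorted (antitone) in the tail coordinates.
-/

set_option autoImplicit false

namespace Groth.Agent.Lib.T2H8.DPWeyl

open W4c3severiratdp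
open Groth.Agent.Lib.Helper24DPConic (solA mem_solA rng mem_rng cs_bound)

variable {δ : ℕ}

/-! ### Bilinearity of the form -/

theorem form_comm (v w : DP δ) : form v w = form w v := by
  unfold form
  rw [mul_comm (v 0) (w 0)]
  congr 1
  exact Finset.sum_congr rfl fun i _ => mul_comm _ _

theorem form_add_left (u v w : DP δ) : form (u + v) w = form u w + form v w := by
  unfold form
  simp only [Pi.add_apply, add_mul, Finset.sum_add_distrib]
  ring

theorem form_smul_left (c : ℤ) (v w : DP δ) : form (c • v) w = c * form v w := by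
  unfold form
  simp only [Pi.smul_apply, smul_eq_mul, mul_assoc, ← Finset.mul_sum]
  ring

theorem form_add_right (u v w : DP δ) : form u (v + w) = form u v + form u w := by
  rw [form_comm, form_add_left, form_comm v, form_comm w]

theorem form_smul_right (c : ℤ) (v w : DP δ) : form v (c • w) = c * form v w := by
  rw [form_comm, form_smul_left, form_comm]

theorem form_neg_left (v w : DP δ) : form (-v) w = - form v w := by
  have := form_smul_left (-1) v w
  simpa using this

theorem form_sub_left (u v w : DP δ) : form (u - v) w = form u w - form v w := by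
  rw [sub_eq_add_neg, form_add_left, form_neg_left]; ring

theorem form_sub_right (u v w : DP δ) : form u (v - w) = form u v - form u w := by
  rw [form_comm, form_sub_left, form_comm v, form_comm w]

/-! ### Weyl elements form a group -/

theorem isWeyl_refl : IsWeyl (LinearEquiv.refl ℤ (DP δ)) :=
  ⟨fun _ _ => rfl, rfl⟩

theorem IsWeyl.trans {g h : DP δ ≃ₗ[ℤ] DP δ} (hg : IsWeyl g) (hh : IsWeyl h) :
    IsWeyl (g.trans h) := by
  refine ⟨fun v w => ?_, ?_⟩
  · simp only [LinearEquiv.trans_apply]
    rw [hh.1, hg.1]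
  · simp only [LinearEquiv.trans_apply]
    rw [hg.2, hh.2]

theorem IsWeyl.symm {g : DP δ ≃ₗ[ℤ] DP δ} (hg : IsWeyl g) : IsWeyl g.symm := by
  refine ⟨fun v w => ?_, ?_⟩
  · have := hg.1 (g.symm v) (g.symm w)
    simpa using this.symm
  · have := hg.2
    rw [LinearEquiv.symm_apply_eq]
    exact this.symm

/-! ### Reflections -/

/-- The reflection in the vector `α` (a genuine reflection when `α · α = -2`). -/
def refl (α v : DP δ) : DP δ := v + form v α • α

theorem refl_apply (α v : DP δ) (i : Fin (δ + 1)) : refl α v i = v i + form v α * α i := by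
  simp [refl]

theorem form_refl_left {α : DP δ} (hα : form α α = -2) (v : DP δ) :
    form (refl α v) α = - form v α := by
  unfold refl
  rw [form_add_left, form_smul_left, hα]; ring

theorem refl_refl {α : DP δ} (hα : form α α = -2) (v : DP δ) : refl α (refl α v) = v := by
  conv_lhs => rw [refl, form_refl_left hα]
  unfold refl
  rw [neg_smul]
  abel

theorem form_refl_refl {α : DP δ} (hα : form α α = -2) (v w : DP δ) :
    form (refl α v) (refl α w) = form v w := by
  unfold refl
  rw [form_add_left, form_add_right, form_add_right, form_smul_left, form_smul_left,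
    form_smul_right, form_smul_right, hα, form_comm α w]
  ring

theorem refl_fix {α v : DP δ} (h : form v α = 0) : refl α v = v := by
  simp [refl, h]

/-- The reflection as a linear map. -/
def reflLin (α : DP δ) : DP δ →ₗ[ℤ] DP δ where
  toFun v := refl α v
  map_add' v w := by
    simp only [refl, form_add_left, add_smul]
    abel
  map_smul' c v := by
    simp only [refl, form_smul_left, mul_smul, smul_add, RingHom.id_apply]

/-- The reflection in a root as a linear automorphism. -/
def reflEquiv (α : DP δ) (hα : form α α = -2) : DP δ ≃ₗ[ℤ] DP δ :=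
  LinearEquiv.ofInvolutive (reflLin α) (refl_refl hα)

@[simp] theorem reflEquiv_apply (α : DP δ) (hα : form α α = -2) (v : DP δ) :
    reflEquiv α hα v = refl α v := rfl

theorem isWeyl_reflEquiv (α : DP δ) (hα : form α α = -2) (hK : form (canon δ) α = 0) :
    IsWeyl (reflEquiv α hα) :=
  ⟨fun v w => form_refl_refl hα v w, refl_fix hK⟩

/-! ### Coordinate permutations -/

/-- Permute the coordinates `b_1, …, b_δ`. -/
def permFun (σ : Equiv.Perm (Fin δ)) (v : DP δ) : DP δ :=
  Fin.cons (α := fun _ => ℤ) (v 0) (fun i => v (σ i).succ)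

@[simp] theorem permFun_zero (σ : Equiv.Perm (Fin δ)) (v : DP δ) : permFun σ v 0 = v 0 := rfl

@[simp] theorem permFun_succ (σ : Equiv.Perm (Fin δ)) (v : DP δ) (i : Fin δ) :
    permFun σ v i.succ = v (σ i).succ := by
  simp [permFun]

theorem permFun_permFun (σ τ : Equiv.Perm (Fin δ)) (v : DP δ) :
    permFun σ (permFun τ v) = permFun (τ * σ) v := by
  funext i
  refine Fin.cases ?_ (fun j => ?_) i
  · simp
  · simp

theorem permFun_one (v : DP δ) : permFun (1 : Equiv.Perm (Fin δ)) v = v := by
  funext i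
  refine Fin.cases ?_ (fun j => ?_) i
  · simp
  · simp

/-- Coordinate permutation as a linear automorphism. -/
def permEquiv (σ : Equiv.Perm (Fin δ)) : DP δ ≃ₗ[ℤ] DP δ where
  toFun := permFun σ
  invFun := permFun σ⁻¹
  map_add' v w := by
    funext i
    refine Fin.cases ?_ (fun j => ?_) i
    · simp
    · simp
  map_smul' c v := by
    funext i
    refine Fin.cases ?_ (fun j => ?_) i
    · simp
    · simp
  left_inv v := by
    rw [permFun_permFun]
    simp [permFun_one]
  right_inv v := by
    rw [permFun_permFun]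
    simp [permFun_one]

@[simp] theorem permEquiv_apply (σ : Equiv.Perm (Fin δ)) (v : DP δ) :
    permEquiv σ v = permFun σ v := rfl

theorem form_permFun (σ : Equiv.Perm (Fin δ)) (v w : DP δ) :
    form (permFun σ v) (permFun σ w) = form v w := by
  unfold form
  simp only [permFun_zero, permFun_succ]
  rw [Equiv.sum_comp σ (fun i => v i.succ * w i.succ)]

theorem permFun_canon (σ : Equiv.Perm (Fin δ)) : permFun σ (canon δ) = canon δ := by
  funext i
  refine Fin.cases ?_ (fun j => ?_) i
  · simp
  · simp [canon]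

theorem isWeyl_permEquiv (σ : Equiv.Perm (Fin δ)) : IsWeyl (permEquiv σ) :=
  ⟨fun v w => form_permFun σ v w, permFun_canon σ⟩

/-- Every vector can be permuted so that its tail becomes antitone. -/
theorem exists_perm_antitone (v : DP δ) :
    ∃ σ : Equiv.Perm (Fin δ), Antitone (Fin.tail (permFun σ v)) := by
  set b : Fin δ → ℤ := Fin.tail v with hb
  set σ₀ := Tuple.sort b with hσ₀
  have hmono : Monotone (b ∘ σ₀) := Tuple.monotone_sort b
  refine ⟨Fin.revPerm.trans σ₀, ?_⟩
  intro i j hij
  simp only [Fin.tail, permFun_succ, Equiv.trans_apply, Fin.revPerm_apply]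
  exact hmono (Fin.rev_le_rev.2 hij)

/-- A permutation fixing `0` that makes the coordinates `b_2, …` antitone. -/
theorem exists_perm_antitone₂ {d : ℕ} (v : DP (d + 1)) :
    ∃ σ : Equiv.Perm (Fin (d + 1)), σ 0 = 0 ∧ Antitone (Fin.tail (Fin.tail (permFun σ v))) := by
  set b : Fin d → ℤ := fun i => v i.succ.succ with hb
  set σ₀ := Tuple.sort b with hσ₀
  have hmono : Monotone (b ∘ σ₀) := Tuple.monotone_sort b
  refine ⟨Equiv.Perm.decomposeFin.symm (0, Fin.revPerm.trans σ₀), ?_, ?_⟩
  · simp
  · intro i j hij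
    simp only [Fin.tail, permFun_succ, Equiv.Perm.decomposeFin_symm_apply_succ, Equiv.swap_self,
      Equiv.refl_apply, Equiv.trans_apply, Fin.revPerm_apply]
    exact hmono (Fin.rev_le_rev.2 hij)

/-- A permutation fixing `0` fixes vectors whose coordinates `b_2, …` are constant. -/
theorem permFun_fix_of_const {d : ℕ} (P : DP (d + 1)) (c : ℤ) (hc : ∀ i : Fin d, P i.succ.succ = c)
    (σ : Equiv.Perm (Fin (d + 1))) (hσ : σ 0 = 0) : permFun σ P = P := by
  funext i
  refine Fin.cases ?_ (fun j => ?_) i
  · simp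
  · rw [permFun_succ]
    refine Fin.cases ?_ (fun k => ?_) j
    · rw [hσ]
    · have hne : σ k.succ ≠ 0 := by
        intro h
        rw [← hσ] at h
        exact Fin.succ_ne_zero k (σ.injective h)
      obtain ⟨m, hm⟩ := Fin.exists_succ_eq.2 hne
      rw [← hm, hc, hc]

/-! ### Class predicates -/

/-- Classes with prescribed self-intersection `sq` and anticanonical degree `dg`. -/
def IsCls (sq dg : ℤ) (v : DP δ) : Prop := form v v = sq ∧ form (canon δ) v = -dg

theorem isConic_iff (v : DP δ) : IsConic v ↔ IsCls 0 2 v := Iff.rfl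

theorem isExc_iff (v : DP δ) : IsExc v ↔ IsCls (-1) 1 v := Iff.rfl

theorem IsWeyl.isCls {g : DP δ ≃ₗ[ℤ] DP δ} (hg : IsWeyl g) {sq dg : ℤ} {v : DP δ}
    (hv : IsCls sq dg v) : IsCls sq dg (g v) := by
  refine ⟨by rw [hg.1]; exact hv.1, ?_⟩
  have := hg.1 (canon δ) v
  rw [hg.2] at this
  rw [this]; exact hv.2

theorem isCls_iff (sq dg : ℤ) (v : DP δ) :
    IsCls sq dg v ↔ (∑ i : Fin δ, v i.succ = 3 * v 0 - dg ∧
      ∑ i : Fin δ, v i.succ * v i.succ = v 0 * v 0 - sq) := by
  unfold IsCls form canon
  simp only [Fin.cases_zero, Fin.cases_succ, neg_mul, one_mul, Finset.sum_neg_distrib]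
  constructor
  · rintro ⟨h1, h2⟩
    constructor <;> linarith
  · rintro ⟨h1, h2⟩
    constructor <;> linarith

/-! ### Reflection chains -/

/-- Roots (for the canonical class) orthogonal to all vectors of `Ps`. -/
def IsRootFix (Ps : List (DP δ)) (α : DP δ) : Prop :=
  form α α = -2 ∧ form (canon δ) α = 0 ∧ ∀ P ∈ Ps, form P α = 0

instance (Ps : List (DP δ)) (α : DP δ) : Decidable (IsRootFix Ps α) := by
  unfold IsRootFix; infer_instance

/-- The end point of a chain. -/
def chainEnd : DP δ → List (DP δ × DP δ) → DP δ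
  | v, [] => v
  | _, (_, v') :: rest => chainEnd v' rest

/-- A chain `v → v₁ → v₂ → …` of reflections in roots fixing `Ps`, with the intermediate vectors
recorded so that checking is linear. -/
def chainOK (Ps : List (DP δ)) : DP δ → List (DP δ × DP δ) → Bool
  | _, [] => true
  | v, (α, v') :: rest =>
    decide (IsRootFix Ps α) && decide (refl α v = v') && chainOK Ps v' rest

theorem exists_of_chainOK (Ps : List (DP δ)) (c : List (DP δ × DP δ)) :
    ∀ v : DP δ, chainOK Ps v c = true →
      ∃ g : DP δ ≃ₗ[ℤ] DP δ, IsWeyl g ∧ (∀ P ∈ Ps, g P = P) ∧ g v = chainEnd v c := by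
  induction c with
  | nil =>
    intro v _
    exact ⟨LinearEquiv.refl ℤ _, isWeyl_refl, fun _ _ => rfl, rfl⟩
  | cons p rest ih =>
    intro v h
    obtain ⟨α, v'⟩ := p
    simp only [chainOK, Bool.and_eq_true, decide_eq_true_eq] at h
    obtain ⟨⟨hα, hv'⟩, hrest⟩ := h
    obtain ⟨g, hg, hgP, hgv⟩ := ih v' hrest
    refine ⟨(reflEquiv α hα.1).trans g, IsWeyl.trans (isWeyl_reflEquiv α hα.1 hα.2.1) hg, ?_, ?_⟩
    · intro P hP
      simp only [LinearEquiv.trans_apply, reflEquiv_apply]
      rw [refl_fix (hα.2.2 P hP), hgP P hP]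
    · simp only [LinearEquiv.trans_apply, reflEquiv_apply, chainEnd]
      rw [hv', hgv]

/-- The vector with given list of coordinates. -/
def vecOf (l : List ℤ) : DP δ := fun i => l.getD i.val 0

theorem vecOf_ofFn (v : DP δ) : vecOf (List.ofFn v) = v := by
  funext i
  simp only [vecOf]
  rw [List.getD_eq_getElem?_getD, List.getElem?_ofFn, dif_pos i.is_lt]
  rfl

/-- Tables of chains: vector, then the chain as a list of (root, next vector). -/
abbrev Tbl := List (List ℤ × List (List ℤ × List ℤ))

/-- Check one table entry. -/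
def chkEntry (Ps : List (DP δ)) (tgt : DP δ → List (DP δ)) (tbl : Tbl) (l : List ℤ) : Bool :=
  match tbl.lookup l with
  | none => false
  | some c =>
    chainOK Ps (vecOf l) (c.map fun p => (vecOf p.1, vecOf p.2)) &&
      decide (chainEnd (vecOf l) (c.map fun p => ((vecOf p.1 : DP δ), (vecOf p.2 : DP δ))) ∈
        tgt (vecOf l))

/-- The core reduction: if all enumerated (sorted) vectors have valid chains, then every vector
that can be sorted into the enumeration is moved to one of its targets by a Weyl element fixing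
`Ps`. -/
theorem reduce_of_table (Ps : List (DP δ)) (tgt : DP δ → List (DP δ)) (enum : List (List ℤ))
    (tbl : Tbl) (h : ∀ l ∈ enum, chkEntry Ps tgt tbl l = true)
    (v : DP δ) (σ : Equiv.Perm (Fin δ)) (hσP : ∀ P ∈ Ps, permFun σ P = P)
    (hσt : tgt (permFun σ v) = tgt v) (hmem : List.ofFn (permFun σ v) ∈ enum) :
    ∃ g : DP δ ≃ₗ[ℤ] DP δ, IsWeyl g ∧ (∀ P ∈ Ps, g P = P) ∧ g v ∈ tgt v := by
  have h1 := h _ hmem
  unfold chkEntry at h1
  split at h1
  · exact absurd h1 (by simp)
  · rename_i c _
    rw [Bool.and_eq_true, decide_eq_true_eq, vecOf_ofFn] at h1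
    obtain ⟨g, hg, hgP, hgv⟩ := exists_of_chainOK Ps _ _ h1.1
    refine ⟨(permEquiv σ).trans g, IsWeyl.trans (isWeyl_permEquiv σ) hg, ?_, ?_⟩
    · intro P hP
      simp only [LinearEquiv.trans_apply, permEquiv_apply]
      rw [hσP P hP, hgP P hP]
    · simp only [LinearEquiv.trans_apply, permEquiv_apply]
      rw [hgv, ← hσt]
      exact h1.2

/-! ### Enumerations of sorted class vectors -/

theorem le_eleven_of_sq_le {x t : ℤ} (h : x * x ≤ t) (ht : t ≤ 121) : -11 ≤ x ∧ x ≤ 11 := by
  constructor <;> nlinarith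

/-- Class vectors with antitone `b`-coordinates. -/
def enumA (δ : ℕ) (sq dg : ℤ) (aR : List ℤ) : List (List ℤ) :=
  aR.flatMap fun a => (solA δ 11 (3 * a - dg) (a * a - sq)).map (a :: ·)

theorem mem_enumA {sq dg : ℤ} {aR : List ℤ} (v : DP δ) (hv : IsCls sq dg v) (ha : v 0 ∈ aR)
    (hle : v 0 * v 0 - sq ≤ 121) (hanti : Antitone (Fin.tail v)) :
    List.ofFn v ∈ enumA δ sq dg aR := by
  rw [isCls_iff] at hv
  have hb : ∀ i, Fin.tail v i ≤ 11 := by
    intro i
    have h1 : Fin.tail v i * Fin.tail v i ≤ ∑ j, Fin.tail v j * Fin.tail v j :=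
      Finset.single_le_sum (f := fun j => Fin.tail v j * Fin.tail v j)
        (fun j _ => mul_self_nonneg _) (Finset.mem_univ i)
    have h2 : ∑ j, Fin.tail v j * Fin.tail v j = v 0 * v 0 - sq := hv.2
    exact (le_eleven_of_sq_le (h1.trans h2.le) hle).2
  have hmem := mem_solA δ (Fin.tail v) 11 _ _ hle hanti hb hv.1 hv.2
  rw [List.ofFn_succ]
  simp only [enumA, List.mem_flatMap, List.mem_map]
  exact ⟨v 0, ha, _, hmem, rfl⟩

/-- Class vectors in `DP (d + 1)` with antitone coordinates `b_2, …`. -/
def enumB (d : ℕ) (sq dg : ℤ) (aR : List ℤ) : List (List ℤ) :=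
  aR.flatMap fun a => rng.flatMap fun b =>
    (solA d 11 (3 * a - dg - b) (a * a - sq - b * b)).map (fun l => a :: b :: l)

theorem mem_enumB {d : ℕ} {sq dg : ℤ} {aR : List ℤ} (v : DP (d + 1)) (hv : IsCls sq dg v)
    (ha : v 0 ∈ aR) (hle : v 0 * v 0 - sq ≤ 121) (hanti : Antitone (Fin.tail (Fin.tail v))) :
    List.ofFn v ∈ enumB d sq dg aR := by
  rw [isCls_iff] at hv
  obtain ⟨h1, h2⟩ := hv
  rw [Fin.sum_univ_succ] at h1 h2
  set y : Fin d → ℤ := Fin.tail (Fin.tail v) with hy
  have hy1 : ∑ i, y i = 3 * v 0 - dg - v 1 := by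
    have : ∑ i : Fin d, v i.succ.succ = ∑ i, y i := rfl
    have h01 : v (0 : Fin (d + 1)).succ = v 1 := rfl
    linarith
  have hy2 : ∑ i, y i * y i = v 0 * v 0 - sq - v 1 * v 1 := by
    have : ∑ i : Fin d, v i.succ.succ * v i.succ.succ = ∑ i, y i * y i := rfl
    have h01 : v (0 : Fin (d + 1)).succ = v 1 := rfl
    rw [h01] at h2
    linarith
  have hnn : 0 ≤ ∑ i, y i * y i := Finset.sum_nonneg fun i _ => mul_self_nonneg _
  have hb1 : v 1 * v 1 ≤ v 0 * v 0 - sq := by linarith
  have hle' : v 0 * v 0 - sq - v 1 * v 1 ≤ 121 := by nlinarith [mul_self_nonneg (v 1)]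
  have hb : ∀ i, y i ≤ 11 := by
    intro i
    have h3 : y i * y i ≤ ∑ j, y j * y j :=
      Finset.single_le_sum (f := fun j => y j * y j)
        (fun j _ => mul_self_nonneg _) (Finset.mem_univ i)
    exact (le_eleven_of_sq_le (h3.trans hy2.le) hle').2
  have hmem := mem_solA d y 11 _ _ hle' hanti hb hy1 hy2
  have hof : List.ofFn v = v 0 :: v 1 :: List.ofFn y := by
    rw [List.ofFn_succ, List.ofFn_succ]
    rfl
  rw [hof]
  simp only [enumB, List.mem_flatMap, List.mem_map]
  exact ⟨v 0, ha, v 1, mem_rng.2 (le_eleven_of_sq_le hb1 hle), _, hmem, rfl⟩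

end Groth.Agent.Lib.T2H8.DPWeyl
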