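import Mathlib
import Groth.Prelude.Def_W4c3severiratdpLat
import Groth.Agent.Lib.T2H8DPWeyl

/-!
# Exceptional classes in `DP 8`: transitivity of the Weyl group and of the stabilizer
-/

set_option autoImplicit false

namespace Groth.Agent.Lib.T2H8.DPExc

open W4c3severiratdp
open Groth.Agent.Lib.Helper24DPConic (solA mem_solA rng mem_rng cs_bound)
open Groth.Agent.Lib.T2H8.DPWeyl

/-- Two-point reduction from one-point transitivity and stabilizer normal forms. -/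
theorem pair_reduce {δ : ℕ} {sq dg : ℤ} (P0 : DP δ) (N : ℤ → List (DP δ))
    (H1 : ∀ v : DP δ, IsCls sq dg v → ∃ g : DP δ ≃ₗ[ℤ] DP δ, IsWeyl g ∧ g v = P0)
    (H2 : ∀ v : DP δ, IsCls sq dg v →
      ∃ g : DP δ ≃ₗ[ℤ] DP δ, IsWeyl g ∧ g P0 = P0 ∧ g v ∈ N (form v P0))
    (v₁ v₂ : DP δ) (h₁ : IsCls sq dg v₁) (h₂ : IsCls sq dg v₂) :
    ∃ g : DP δ ≃ₗ[ℤ] DP δ, IsWeyl g ∧ g v₁ = P0 ∧ g v₂ ∈ N (form v₂ v₁) := by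
  obtain ⟨g0, hg0, hg0v⟩ := H1 v₁ h₁
  obtain ⟨g1, hg1, hg1P, hg1v⟩ := H2 (g0 v₂) (IsWeyl.isCls hg0 h₂)
  refine ⟨g0.trans g1, IsWeyl.trans hg0 hg1, ?_, ?_⟩
  · simp only [LinearEquiv.trans_apply]
    rw [hg0v, hg1P]
  · simp only [LinearEquiv.trans_apply]
    rw [← hg0v, hg0.1] at hg1v
    exact hg1v

/-- The range of the first coordinate of an exceptional class. -/
def aRexc : List ℤ := [-1, 0, 1, 2, 3, 4, 5, 6, 7]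

theorem exc_bounds {δ : ℕ} (hδ : δ ≤ 8) (v : DP δ) (hv : IsCls (-1) 1 v) :
    v 0 ∈ aRexc ∧ v 0 * v 0 - (-1) ≤ 121 := by
  rw [isCls_iff] at hv
  have hcs := cs_bound (fun i : Fin δ => v i.succ)
  rw [hv.1, hv.2] at hcs
  have hδ' : (δ : ℤ) ≤ 8 := by exact_mod_cast hδ
  have hnn : 0 ≤ v 0 * v 0 - -1 := by nlinarith [mul_self_nonneg (v 0)]
  have h8 : (δ : ℤ) * (v 0 * v 0 - -1) ≤ 8 * (v 0 * v 0 - -1) :=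
    mul_le_mul_of_nonneg_right hδ' hnn
  have h1 : -1 ≤ v 0 := by nlinarith
  have h2 : v 0 ≤ 7 := by nlinarith
  refine ⟨?_, by nlinarith⟩
  generalize v 0 = a at h1 h2
  simp only [aRexc, List.mem_cons, List.not_mem_nil, or_false]
  omega

/-- The base exceptional class `e_1`. -/
def E0 : DP 8 := ![0, -1, 0, 0, 0, 0, 0, 0, 0]

/-- Normal forms of exceptional classes under the stabilizer of `E0`, by intersection number. -/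
def Nexc (k : ℤ) : DP 8 :=
  if k = -1 then ![0, -1, 0, 0, 0, 0, 0, 0, 0]
  else if k = 0 then ![0, 0, -1, 0, 0, 0, 0, 0, 0]
  else if k = 1 then ![1, 1, 1, 0, 0, 0, 0, 0, 0]
  else if k = 2 then ![3, 2, 1, 1, 1, 1, 1, 1, 0]
  else ![6, 3, 2, 2, 2, 2, 2, 2, 2]

def tblExcA : Tbl := [
  ([0,0,0,0,0,0,0,0,-1], [([0,-1,0,0,0,0,0,0,1],[0,-1,0,0,0,0,0,0,0])]),
  ([1,1,1,0,0,0,0,0,0], [([0,-1,0,1,0,0,0,0,0],[1,0,1,1,0,0,0,0,0]), ([1,1,1,1,0,0,0,0,0],[0,-1,0,0,0,0,0,0,0])]),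
  ([2,1,1,1,1,1,0,0,0], [([1,1,1,1,0,0,0,0,0],[1,0,0,0,1,1,0,0,0]), ([1,1,0,0,1,1,0,0,0],[0,-1,0,0,0,0,0,0,0])]),
  ([3,2,1,1,1,1,1,1,0], [([1,1,1,1,0,0,0,0,0],[2,1,0,0,1,1,1,1,0]), ([1,1,0,0,1,1,0,0,0],[1,0,0,0,0,0,1,1,0]), ([1,1,0,0,0,0,1,1,0],[0,-1,0,0,0,0,0,0,0])]),
  ([4,2,2,2,1,1,1,1,1], [([1,1,1,1,0,0,0,0,0],[2,0,0,0,1,1,1,1,1]), ([1,0,0,0,1,1,1,0,0],[1,0,0,0,0,0,0,1,1]), ([1,1,0,0,0,0,0,1,1],[0,-1,0,0,0,0,0,0,0])]),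
  ([5,2,2,2,2,2,2,1,1], [([1,1,1,1,0,0,0,0,0],[4,1,1,1,2,2,2,1,1]), ([1,0,0,0,1,1,1,0,0],[2,1,1,1,0,0,0,1,1]), ([1,1,1,1,0,0,0,0,0],[1,0,0,0,0,0,0,1,1]), ([1,1,0,0,0,0,0,1,1],[0,-1,0,0,0,0,0,0,0])]),
  ([6,3,2,2,2,2,2,2,2], [([1,1,1,1,0,0,0,0,0],[5,2,1,1,2,2,2,2,2]), ([1,1,0,0,1,1,0,0,0],[4,1,1,1,1,1,2,2,2]), ([1,0,0,0,0,0,1,1,1],[2,1,1,1,1,1,0,0,0]), ([1,1,1,1,0,0,0,0,0],[1,0,0,0,1,1,0,0,0]), ([1,1,0,0,1,1,0,0,0],[0,-1,0,0,0,0,0,0,0])])]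

def tblExcB : Tbl := [
  ([0,-1,0,0,0,0,0,0,0], []),
  ([0,0,0,0,0,0,0,0,-1], [([0,0,-1,0,0,0,0,0,1],[0,0,-1,0,0,0,0,0,0])]),
  ([1,0,1,1,0,0,0,0,0], [([0,0,-1,0,1,0,0,0,0],[1,0,0,1,1,0,0,0,0]), ([1,0,1,1,1,0,0,0,0],[0,0,-1,0,0,0,0,0,0])]),
  ([1,1,1,0,0,0,0,0,0], []),
  ([2,0,1,1,1,1,1,0,0], [([1,0,1,1,1,0,0,0,0],[1,0,0,0,0,1,1,0,0]), ([1,0,1,0,0,1,1,0,0],[0,0,-1,0,0,0,0,0,0])]),
  ([2,1,1,1,1,1,0,0,0], [([1,0,0,1,1,1,0,0,0],[1,1,1,0,0,0,0,0,0])]),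
  ([3,0,2,1,1,1,1,1,1], [([1,0,1,1,1,0,0,0,0],[2,0,1,0,0,1,1,1,1]), ([1,0,1,0,0,1,1,0,0],[1,0,0,0,0,0,0,1,1]), ([1,0,1,0,0,0,0,1,1],[0,0,-1,0,0,0,0,0,0])]),
  ([3,1,2,1,1,1,1,1,0], [([1,0,1,1,1,0,0,0,0],[2,1,1,0,0,1,1,1,0]), ([1,0,0,0,0,1,1,1,0],[1,1,1,0,0,0,0,0,0])]),
  ([3,2,1,1,1,1,1,1,0], []),
  ([4,1,2,2,2,1,1,1,1], [([0,0,-1,0,0,1,0,0,0],[4,1,1,2,2,2,1,1,1]), ([1,0,0,1,1,1,0,0,0],[2,1,1,0,0,0,1,1,1]), ([1,0,0,0,0,0,1,1,1],[1,1,1,0,0,0,0,0,0])]),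
  ([4,2,2,2,1,1,1,1,1], [([1,0,1,1,0,0,0,0,1],[3,2,1,1,1,1,1,1,0])]),
  ([5,1,2,2,2,2,2,2,1], [([1,0,1,1,1,0,0,0,0],[4,1,1,1,1,2,2,2,1]), ([1,0,0,0,0,1,1,1,0],[2,1,1,1,1,0,0,0,1]), ([1,0,0,1,1,0,0,0,1],[1,1,1,0,0,0,0,0,0])]),
  ([5,2,2,2,2,2,2,1,1], [([1,0,1,1,1,0,0,0,0],[4,2,1,1,1,2,2,1,1]), ([1,0,0,0,0,1,1,0,1],[3,2,1,1,1,1,1,1,0])]),
  ([6,2,3,2,2,2,2,2,2], [([1,0,1,1,1,0,0,0,0],[5,2,2,1,1,2,2,2,2]), ([1,0,1,0,0,1,0,0,1],[4,2,1,1,1,1,2,2,1]), ([1,0,0,0,0,0,1,1,1],[3,2,1,1,1,1,1,1,0])]),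
  ([6,3,2,2,2,2,2,2,2], [])]



theorem chkA : ∀ l ∈ enumA 8 (-1) 1 aRexc, chkEntry ([] : List (DP 8)) (fun _ => [E0]) tblExcA l = true := by
  decide +kernel

theorem chkB : ∀ l ∈ enumB 7 (-1) 1 aRexc,
    chkEntry [E0] (fun v => [Nexc (form v E0)]) tblExcB l = true := by
  decide +kernel

theorem exc_to_E0 (v : DP 8) (hv : IsCls (-1) 1 v) :
    ∃ g : DP 8 ≃ₗ[ℤ] DP 8, IsWeyl g ∧ g v = E0 := by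
  obtain ⟨σ, hσ⟩ := exists_perm_antitone v
  have hv' : IsCls (-1) 1 (permFun σ v) := IsWeyl.isCls (isWeyl_permEquiv σ) hv
  obtain ⟨ha, hle⟩ := exc_bounds (le_refl 8) _ hv'
  obtain ⟨g, hg, -, hgv⟩ := reduce_of_table ([] : List (DP 8)) (fun _ => [E0]) _ tblExcA chkA v σ
    (by simp) rfl (mem_enumA _ hv' ha hle hσ)
  exact ⟨g, hg, by simpa using hgv⟩

theorem permFun_E0 (σ : Equiv.Perm (Fin 8)) (hσ : σ 0 = 0) : permFun σ E0 = E0 := by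
  apply permFun_fix_of_const (d := 7) E0 0 _ σ hσ
  intro i
  fin_cases i <;> rfl

theorem exc_stab (v : DP 8) (hv : IsCls (-1) 1 v) :
    ∃ g : DP 8 ≃ₗ[ℤ] DP 8, IsWeyl g ∧ g E0 = E0 ∧ g v ∈ [Nexc (form v E0)] := by
  obtain ⟨σ, hσ0, hσ⟩ := exists_perm_antitone₂ (d := 7) v
  have hv' : IsCls (-1) 1 (permFun σ v) := IsWeyl.isCls (isWeyl_permEquiv σ) hv
  obtain ⟨ha, hle⟩ := exc_bounds (le_refl 8) _ hv'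
  have hP : ∀ P ∈ [E0], permFun σ P = P := by
    intro P hP
    rw [List.mem_singleton] at hP
    rw [hP]
    exact permFun_E0 σ hσ0
  have ht : [Nexc (form (permFun σ v) E0)] = [Nexc (form v E0)] := by
    conv_lhs => rw [← permFun_E0 σ hσ0, form_permFun]
  obtain ⟨g, hg, hgP, hgv⟩ := reduce_of_table [E0] (fun v => [Nexc (form v E0)]) _ tblExcB chkB
    v σ hP ht (mem_enumB (d := 7) _ hv' ha hle hσ)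
  exact ⟨g, hg, hgP E0 (List.mem_singleton.2 rfl), hgv⟩

theorem main_S15909 (L L₁ L₂ : DP 8) (hL : IsExc L) (hL₁ : IsExc L₁)
    (hL₂ : IsExc L₂) (h : form L₁ L = form L₂ L) :
    ∃ g : DP 8 ≃ₗ[ℤ] DP 8, IsWeyl g ∧ g L = L ∧ g L₁ = L₂ := by
  obtain ⟨g1, hg1, hg1L, hg1v⟩ := pair_reduce E0 (fun k => [Nexc k]) exc_to_E0 exc_stab L L₁ hL hL₁
  obtain ⟨g2, hg2, hg2L, hg2v⟩ := pair_reduce E0 (fun k => [Nexc k]) exc_to_E0 exc_stab L L₂ hL hL₂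
  rw [List.mem_singleton] at hg1v hg2v
  refine ⟨g1.trans g2.symm, IsWeyl.trans hg1 (IsWeyl.symm hg2), ?_, ?_⟩
  · simp only [LinearEquiv.trans_apply]
    rw [hg1L, ← hg2L, LinearEquiv.symm_apply_apply]
  · simp only [LinearEquiv.trans_apply]
    rw [hg1v, h, ← hg2v, LinearEquiv.symm_apply_apply]

end Groth.Agent.Lib.T2H8.DPExc
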