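import Mathlib
import Groth.Prelude.Def_W4c3severiratdpLat
import Groth.Agent.Lib.T2H8DPWeyl
import Groth.Agent.Lib.T2H8DPExc

/-!
# Ordered pairs of conic classes in `DP δ`, `2 ≤ δ ≤ 8`, up to the Weyl group
-/

set_option autoImplicit false

namespace Groth.Agent.Lib.T2H8.DPConicPairs

open W4c3severiratdp
open Groth.Agent.Lib.Helper24DPConic (solA mem_solA rng mem_rng cs_bound arng mem_arng conic_bounds)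
open Groth.Agent.Lib.T2H8.DPWeyl
open Groth.Agent.Lib.T2H8.DPExc (pair_reduce)

/-- Pairs of conics from tables. -/
theorem conic_pairs_of_tables {d : ℕ} (hd : d + 1 ≤ 8) (Q0 : DP (d + 1))
    (hQ0 : ∀ i : Fin d, Q0 i.succ.succ = 0) (N : ℤ → List (DP (d + 1))) (tblA tblB : Tbl)
    (hA : ∀ l ∈ enumA (d + 1) 0 2 arng,
      chkEntry ([] : List (DP (d + 1))) (fun _ => [Q0]) tblA l = true)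
    (hB : ∀ l ∈ enumB d 0 2 arng, chkEntry [Q0] (fun v => N (form v Q0)) tblB l = true)
    (v₁ v₂ : DP (d + 1)) (h₁ : IsConic v₁) (h₂ : IsConic v₂) :
    ∃ g : DP (d + 1) ≃ₗ[ℤ] DP (d + 1), IsWeyl g ∧ g v₁ = Q0 ∧ g v₂ ∈ N (form v₂ v₁) := by
  have bnd : ∀ v : DP (d + 1), IsCls 0 2 v → v 0 ∈ arng ∧ v 0 * v 0 - 0 ≤ 121 := by
    intro v hv
    obtain ⟨h1, h2⟩ := conic_bounds hd v hv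
    exact ⟨mem_arng.2 ⟨h1, h2⟩, by nlinarith⟩
  refine pair_reduce (sq := 0) (dg := 2) Q0 N ?_ ?_ v₁ v₂ h₁ h₂
  · intro v hv
    obtain ⟨σ, hσ⟩ := exists_perm_antitone v
    have hv' : IsCls 0 2 (permFun σ v) := IsWeyl.isCls (isWeyl_permEquiv σ) hv
    obtain ⟨ha, hle⟩ := bnd _ hv'
    obtain ⟨g, hg, -, hgv⟩ := reduce_of_table ([] : List (DP (d + 1))) (fun _ => [Q0]) _ tblA hA v σ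
      (by simp) rfl (mem_enumA _ hv' ha hle hσ)
    exact ⟨g, hg, by simpa using hgv⟩
  · intro v hv
    obtain ⟨σ, hσ0, hσ⟩ := exists_perm_antitone₂ v
    have hv' : IsCls 0 2 (permFun σ v) := IsWeyl.isCls (isWeyl_permEquiv σ) hv
    obtain ⟨ha, hle⟩ := bnd _ hv'
    have hQ : permFun σ Q0 = Q0 := permFun_fix_of_const Q0 0 hQ0 σ hσ0
    have hP : ∀ P ∈ [Q0], permFun σ P = P := by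
      intro P hP
      rw [List.mem_singleton] at hP
      rw [hP]
      exact hQ
    have ht : N (form (permFun σ v) Q0) = N (form v Q0) := by
      conv_lhs => rw [← hQ, form_permFun]
    obtain ⟨g, hg, hgP, hgv⟩ := reduce_of_table [Q0] (fun v => N (form v Q0)) _ tblB hB
      v σ hP ht (mem_enumB _ hv' ha hle hσ)
    exact ⟨g, hg, hgP Q0 (List.mem_singleton.2 rfl), hgv⟩

/-- From pair normal forms to transitivity on pairs. -/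
theorem transitive_of_pairs {δ : ℕ} (Q0 : DP δ) (N : ℤ → List (DP δ))
    (H : ∀ v₁ v₂ : DP δ, IsConic v₁ → IsConic v₂ →
      ∃ g : DP δ ≃ₗ[ℤ] DP δ, IsWeyl g ∧ g v₁ = Q0 ∧ g v₂ ∈ N (form v₂ v₁))
    (v₁ v₂ w₁ w₂ : DP δ) (hv₁ : IsConic v₁) (hv₂ : IsConic v₂) (hw₁ : IsConic w₁) (hw₂ : IsConic w₂)
    (heq : form v₁ v₂ = form w₁ w₂)
    (hN : ∀ x ∈ N (form v₁ v₂), ∀ y ∈ N (form v₁ v₂), x = y) :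
    ∃ g : DP δ ≃ₗ[ℤ] DP δ, IsWeyl g ∧ g v₁ = w₁ ∧ g v₂ = w₂ := by
  obtain ⟨g1, hg1, hg1a, hg1b⟩ := H v₁ v₂ hv₁ hv₂
  obtain ⟨g2, hg2, hg2a, hg2b⟩ := H w₁ w₂ hw₁ hw₂
  rw [form_comm] at hg1b hg2b
  rw [← heq] at hg2b
  have h12 := hN _ hg1b _ hg2b
  refine ⟨g1.trans g2.symm, IsWeyl.trans hg1 (IsWeyl.symm hg2), ?_, ?_⟩
  · simp only [LinearEquiv.trans_apply]
    rw [hg1a, ← hg2a, LinearEquiv.symm_apply_apply]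
  · simp only [LinearEquiv.trans_apply]
    rw [h12, LinearEquiv.symm_apply_apply]

/-- The base conic class in `DP 2`. -/
def Q0_2 : DP 2 := ![1, 1, 0]

/-- Normal forms of conic classes in `DP 2` under the stabilizer of `Q0_2`. -/
def Ncon_2 (k : ℤ) : List (DP 2) :=
  if k = 0 then [![1, 1, 0]] else
  if k = 1 then [![1, 0, 1]] else
  []

def tblConA_2 : Tbl := [
  ([1,1,0], [])]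

def tblConB_2 : Tbl := [
  ([1,0,1], []),
  ([1,1,0], [])]

/-- The base conic class in `DP 3`. -/
def Q0_3 : DP 3 := ![1, 1, 0, 0]

/-- Normal forms of conic classes in `DP 3` under the stabilizer of `Q0_3`. -/
def Ncon_3 (k : ℤ) : List (DP 3) :=
  if k = 0 then [![1, 1, 0, 0]] else
  if k = 1 then [![1, 0, 1, 0]] else
  []

def tblConA_3 : Tbl := [
  ([1,1,0,0], [])]

def tblConB_3 : Tbl := [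
  ([1,0,1,0], []),
  ([1,1,0,0], [])]

/-- The base conic class in `DP 4`. -/
def Q0_4 : DP 4 := ![1, 1, 0, 0, 0]

/-- Normal forms of conic classes in `DP 4` under the stabilizer of `Q0_4`. -/
def Ncon_4 (k : ℤ) : List (DP 4) :=
  if k = 0 then [![1, 1, 0, 0, 0]] else
  if k = 1 then [![1, 0, 1, 0, 0]] else
  []

def tblConA_4 : Tbl := [
  ([1,1,0,0,0], []),
  ([2,1,1,1,1], [([1,0,1,1,1],[1,1,0,0,0])])]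

def tblConB_4 : Tbl := [
  ([1,0,1,0,0], []),
  ([1,1,0,0,0], []),
  ([2,1,1,1,1], [([1,1,0,1,1],[1,0,1,0,0])])]

/-- The base conic class in `DP 5`. -/
def Q0_5 : DP 5 := ![1, 1, 0, 0, 0, 0]

/-- Normal forms of conic classes in `DP 5` under the stabilizer of `Q0_5`. -/
def Ncon_5 (k : ℤ) : List (DP 5) :=
  if k = 0 then [![1, 1, 0, 0, 0, 0]] else
  if k = 1 then [![1, 0, 1, 0, 0, 0]] else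
  if k = 2 then [![2, 0, 1, 1, 1, 1]] else
  []

def tblConA_5 : Tbl := [
  ([1,1,0,0,0,0], []),
  ([2,1,1,1,1,0], [([1,0,1,1,1,0],[1,1,0,0,0,0])])]

def tblConB_5 : Tbl := [
  ([1,0,1,0,0,0], []),
  ([1,1,0,0,0,0], []),
  ([2,0,1,1,1,1], []),
  ([2,1,1,1,1,0], [([1,1,0,1,1,0],[1,0,1,0,0,0])])]

/-- The base conic class in `DP 6`. -/
def Q0_6 : DP 6 := ![1, 1, 0, 0, 0, 0, 0]

/-- Normal forms of conic classes in `DP 6` under the stabilizer of `Q0_6`. -/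
def Ncon_6 (k : ℤ) : List (DP 6) :=
  if k = 0 then [![1, 1, 0, 0, 0, 0, 0]] else
  if k = 1 then [![1, 0, 1, 0, 0, 0, 0]] else
  if k = 2 then [![2, 0, 1, 1, 1, 1, 0]] else
  []

def tblConA_6 : Tbl := [
  ([1,1,0,0,0,0,0], []),
  ([2,1,1,1,1,0,0], [([1,0,1,1,1,0,0],[1,1,0,0,0,0,0])]),
  ([3,2,1,1,1,1,1], [([1,1,1,1,0,0,0],[2,1,0,0,1,1,1]), ([1,0,0,0,1,1,1],[1,1,0,0,0,0,0])])]

def tblConB_6 : Tbl := [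
  ([1,0,1,0,0,0,0], []),
  ([1,1,0,0,0,0,0], []),
  ([2,0,1,1,1,1,0], []),
  ([2,1,1,1,1,0,0], [([1,1,0,1,1,0,0],[1,0,1,0,0,0,0])]),
  ([3,1,2,1,1,1,1], [([1,1,1,0,0,0,1],[2,0,1,1,1,1,0])]),
  ([3,2,1,1,1,1,1], [([1,1,0,1,1,0,0],[2,1,1,0,0,1,1]), ([1,1,0,0,0,1,1],[1,0,1,0,0,0,0])])]

/-- The base conic class in `DP 7`. -/
def Q0_7 : DP 7 := ![1, 1, 0, 0, 0, 0, 0, 0]

/-- Normal forms of conic classes in `DP 7` under the stabilizer of `Q0_7`. -/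
def Ncon_7 (k : ℤ) : List (DP 7) :=
  if k = 0 then [![1, 1, 0, 0, 0, 0, 0, 0]] else
  if k = 1 then [![1, 0, 1, 0, 0, 0, 0, 0]] else
  if k = 2 then [![2, 0, 1, 1, 1, 1, 0, 0]] else
  if k = 3 then [![3, 0, 2, 1, 1, 1, 1, 1]] else
  if k = 4 then [![5, 1, 2, 2, 2, 2, 2, 2]] else
  []

def tblConA_7 : Tbl := [
  ([1,1,0,0,0,0,0,0], []),
  ([2,1,1,1,1,0,0,0], [([1,0,1,1,1,0,0,0],[1,1,0,0,0,0,0,0])]),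
  ([3,2,1,1,1,1,1,0], [([1,1,1,1,0,0,0,0],[2,1,0,0,1,1,1,0]), ([1,0,0,0,1,1,1,0],[1,1,0,0,0,0,0,0])]),
  ([4,2,2,2,1,1,1,1], [([0,-1,0,0,1,0,0,0],[4,1,2,2,2,1,1,1]), ([1,0,1,1,1,0,0,0],[2,1,0,0,0,1,1,1]), ([1,0,0,0,0,1,1,1],[1,1,0,0,0,0,0,0])]),
  ([5,2,2,2,2,2,2,1], [([1,1,1,1,0,0,0,0],[4,1,1,1,2,2,2,1]), ([1,0,0,0,1,1,1,0],[2,1,1,1,0,0,0,1]), ([1,0,1,1,0,0,0,1],[1,1,0,0,0,0,0,0])])]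

def tblConB_7 : Tbl := [
  ([1,0,1,0,0,0,0,0], []),
  ([1,1,0,0,0,0,0,0], []),
  ([2,0,1,1,1,1,0,0], []),
  ([2,1,1,1,1,0,0,0], [([1,1,0,1,1,0,0,0],[1,0,1,0,0,0,0,0])]),
  ([3,0,2,1,1,1,1,1], []),
  ([3,1,2,1,1,1,1,0], [([1,1,1,0,0,0,1,0],[2,0,1,1,1,1,0,0])]),
  ([3,2,1,1,1,1,1,0], [([1,1,0,1,1,0,0,0],[2,1,1,0,0,1,1,0]), ([1,1,0,0,0,1,1,0],[1,0,1,0,0,0,0,0])]),
  ([4,1,2,2,2,1,1,1], [([1,1,0,1,1,0,0,0],[3,0,2,1,1,1,1,1])]),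
  ([4,2,2,2,1,1,1,1], [([1,1,1,0,0,0,1,0],[3,1,1,2,1,1,0,1]), ([1,1,0,1,0,0,0,1],[2,0,1,1,1,1,0,0])]),
  ([5,1,2,2,2,2,2,2], []),
  ([5,2,2,2,2,2,2,1], [([1,1,0,1,1,0,0,0],[4,1,2,1,1,2,2,1]), ([1,1,0,0,0,1,1,0],[3,0,2,1,1,1,1,1])])]

/-- The base conic class in `DP 8`. -/
def Q0_8 : DP 8 := ![1, 1, 0, 0, 0, 0, 0, 0, 0]

/-- Normal forms of conic classes in `DP 8` under the stabilizer of `Q0_8`. -/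
def Ncon_8 (k : ℤ) : List (DP 8) :=
  if k = 0 then [![1, 1, 0, 0, 0, 0, 0, 0, 0]] else
  if k = 1 then [![1, 0, 1, 0, 0, 0, 0, 0, 0]] else
  if k = 2 then [![2, 0, 1, 1, 1, 1, 0, 0, 0]] else
  if k = 3 then [![3, 0, 2, 1, 1, 1, 1, 1, 0]] else
  if k = 4 then [![4, 0, 2, 2, 2, 1, 1, 1, 1], ![5, 1, 2, 2, 2, 2, 2, 2, 0]] else
  if k = 5 then [![5, 0, 2, 2, 2, 2, 2, 2, 1]] else
  if k = 6 then [![7, 1, 3, 3, 3, 3, 2, 2, 2]] else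
  if k = 7 then [![8, 1, 3, 3, 3, 3, 3, 3, 3]] else
  if k = 8 then [![11, 3, 4, 4, 4, 4, 4, 4, 4]] else
  []

def tblConA_8 : Tbl := [
  ([1,1,0,0,0,0,0,0,0], []),
  ([2,1,1,1,1,0,0,0,0], [([1,0,1,1,1,0,0,0,0],[1,1,0,0,0,0,0,0,0])]),
  ([3,2,1,1,1,1,1,0,0], [([1,1,1,1,0,0,0,0,0],[2,1,0,0,1,1,1,0,0]), ([1,0,0,0,1,1,1,0,0],[1,1,0,0,0,0,0,0,0])]),
  ([4,2,2,2,1,1,1,1,0], [([0,-1,0,0,1,0,0,0,0],[4,1,2,2,2,1,1,1,0]), ([1,0,1,1,1,0,0,0,0],[2,1,0,0,0,1,1,1,0]), ([1,0,0,0,0,1,1,1,0],[1,1,0,0,0,0,0,0,0])]),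
  ([4,3,1,1,1,1,1,1,1], [([1,1,1,1,0,0,0,0,0],[3,2,0,0,1,1,1,1,1]), ([1,1,0,0,1,1,0,0,0],[2,1,0,0,0,0,1,1,1]), ([1,0,0,0,0,0,1,1,1],[1,1,0,0,0,0,0,0,0])]),
  ([5,2,2,2,2,2,2,1,0], [([1,1,1,1,0,0,0,0,0],[4,1,1,1,2,2,2,1,0]), ([1,0,0,0,1,1,1,0,0],[2,1,1,1,0,0,0,1,0]), ([1,0,1,1,0,0,0,1,0],[1,1,0,0,0,0,0,0,0])]),
  ([5,3,2,2,2,1,1,1,1], [([1,1,1,1,0,0,0,0,0],[3,1,0,0,2,1,1,1,1]), ([1,0,0,0,1,1,1,0,0],[2,1,0,0,1,0,0,1,1]), ([1,0,0,0,1,0,0,1,1],[1,1,0,0,0,0,0,0,0])]),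
  ([6,3,3,2,2,2,2,1,1], [([1,1,1,1,0,0,0,0,0],[4,1,1,0,2,2,2,1,1]), ([1,0,0,0,1,1,1,0,0],[2,1,1,0,0,0,0,1,1]), ([1,0,1,0,0,0,0,1,1],[1,1,0,0,0,0,0,0,0])]),
  ([7,3,3,3,3,2,2,2,1], [([1,1,1,1,0,0,0,0,0],[5,1,1,1,3,2,2,2,1]), ([1,0,1,0,1,1,0,0,0],[4,1,0,1,2,1,2,2,1]), ([1,0,0,0,1,0,1,1,0],[2,1,0,1,0,1,0,0,1]), ([1,0,0,1,0,1,0,0,1],[1,1,0,0,0,0,0,0,0])]),
  ([7,4,3,2,2,2,2,2,2], [([1,1,1,1,0,0,0,0,0],[5,2,1,0,2,2,2,2,2]), ([1,1,0,0,1,1,0,0,0],[4,1,1,0,1,1,2,2,2]), ([1,0,0,0,0,0,1,1,1],[2,1,1,0,1,1,0,0,0]), ([1,0,1,0,1,1,0,0,0],[1,1,0,0,0,0,0,0,0])]),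
  ([8,3,3,3,3,3,3,3,1], [([1,1,1,1,0,0,0,0,0],[7,2,2,2,3,3,3,3,1]), ([1,1,0,0,1,1,0,0,0],[6,1,2,2,2,2,3,3,1]), ([1,0,1,0,0,0,1,1,0],[4,1,0,2,2,2,1,1,1]), ([1,0,0,1,1,1,0,0,0],[2,1,0,0,0,0,1,1,1]), ([1,0,0,0,0,0,1,1,1],[1,1,0,0,0,0,0,0,0])]),
  ([8,4,3,3,3,3,2,2,2], [([0,-1,1,0,0,0,0,0,0],[8,3,4,3,3,3,2,2,2]), ([1,1,1,1,0,0,0,0,0],[6,1,2,1,3,3,2,2,2]), ([1,0,1,0,1,1,0,0,0],[4,1,0,1,1,1,2,2,2]), ([1,0,0,0,0,0,1,1,1],[2,1,0,1,1,1,0,0,0]), ([1,0,0,1,1,1,0,0,0],[1,1,0,0,0,0,0,0,0])]),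
  ([9,4,4,3,3,3,3,3,2], [([1,1,1,1,0,0,0,0,0],[7,2,2,1,3,3,3,3,2]), ([1,1,0,0,1,1,0,0,0],[6,1,2,1,2,2,3,3,2]), ([1,0,1,0,0,0,1,1,0],[4,1,0,1,2,2,1,1,2]), ([1,0,0,0,1,1,0,0,1],[2,1,0,1,0,0,1,1,0]), ([1,0,0,1,0,0,1,1,0],[1,1,0,0,0,0,0,0,0])]),
  ([10,4,4,4,4,3,3,3,3], [([0,-1,0,0,0,1,0,0,0],[10,3,4,4,4,4,3,3,3]), ([1,0,1,1,1,0,0,0,0],[8,3,2,2,2,4,3,3,3]), ([1,1,0,0,0,1,1,0,0],[6,1,2,2,2,2,1,3,3]), ([1,0,1,0,0,0,0,1,1],[4,1,0,2,2,2,1,1,1]), ([1,0,0,1,1,1,0,0,0],[2,1,0,0,0,0,1,1,1]), ([1,0,0,0,0,0,1,1,1],[1,1,0,0,0,0,0,0,0])]),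
  ([11,4,4,4,4,4,4,4,3], [([1,1,1,1,0,0,0,0,0],[10,3,3,3,4,4,4,4,3]), ([1,0,0,0,1,1,1,0,0],[8,3,3,3,2,2,2,4,3]), ([1,1,1,0,0,0,0,1,0],[6,1,1,3,2,2,2,2,3]), ([1,0,0,1,1,0,0,0,1],[4,1,1,1,0,2,2,2,1]), ([1,0,0,0,0,1,1,1,0],[2,1,1,1,0,0,0,0,1]), ([1,0,1,1,0,0,0,0,1],[1,1,0,0,0,0,0,0,0])])]

def tblConB_8 : Tbl := [
  ([1,0,1,0,0,0,0,0,0], []),
  ([1,1,0,0,0,0,0,0,0], []),
  ([2,0,1,1,1,1,0,0,0], []),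
  ([2,1,1,1,1,0,0,0,0], [([1,1,0,1,1,0,0,0,0],[1,0,1,0,0,0,0,0,0])]),
  ([3,0,2,1,1,1,1,1,0], []),
  ([3,1,2,1,1,1,1,0,0], [([1,1,1,0,0,0,1,0,0],[2,0,1,1,1,1,0,0,0])]),
  ([3,2,1,1,1,1,1,0,0], [([1,1,0,1,1,0,0,0,0],[2,1,1,0,0,1,1,0,0]), ([1,1,0,0,0,1,1,0,0],[1,0,1,0,0,0,0,0,0])]),
  ([4,0,2,2,2,1,1,1,1], []),
  ([4,1,2,2,2,1,1,1,0], [([1,1,0,1,1,0,0,0,0],[3,0,2,1,1,1,1,1,0])]),
  ([4,1,3,1,1,1,1,1,1], [([1,1,1,0,0,0,0,0,1],[3,0,2,1,1,1,1,1,0])]),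
  ([4,2,2,2,1,1,1,1,0], [([1,1,1,0,0,0,1,0,0],[3,1,1,2,1,1,0,1,0]), ([1,1,0,1,0,0,0,1,0],[2,0,1,1,1,1,0,0,0])]),
  ([4,3,1,1,1,1,1,1,1], [([1,1,0,1,1,0,0,0,0],[3,2,1,0,0,1,1,1,1]), ([1,1,0,0,0,1,1,0,0],[2,1,1,0,0,0,0,1,1]), ([1,1,0,0,0,0,0,1,1],[1,0,1,0,0,0,0,0,0])]),
  ([5,0,2,2,2,2,2,2,1], []),
  ([5,1,2,2,2,2,2,2,0], []),
  ([5,1,3,2,2,2,1,1,1], [([1,1,1,0,0,1,0,0,0],[4,0,2,2,2,1,1,1,1])]),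
  ([5,2,2,2,2,2,2,1,0], [([1,1,0,1,1,0,0,0,0],[4,1,2,1,1,2,2,1,0]), ([1,1,0,0,0,1,1,0,0],[3,0,2,1,1,1,1,1,0])]),
  ([5,2,3,2,2,1,1,1,1], [([1,1,1,0,0,0,0,0,1],[4,1,2,2,2,1,1,1,0]), ([1,1,0,1,1,0,0,0,0],[3,0,2,1,1,1,1,1,0])]),
  ([5,3,2,2,2,1,1,1,1], [([1,1,1,0,0,0,1,0,0],[4,2,1,2,2,1,0,1,1]), ([1,1,0,1,0,0,0,1,0],[3,1,1,1,2,1,0,0,1]), ([1,1,0,0,1,0,0,0,1],[2,0,1,1,1,1,0,0,0])]),
  ([6,1,3,3,2,2,2,2,1], [([1,1,1,1,0,0,0,0,0],[5,0,2,2,2,2,2,2,1])]),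
  ([6,2,3,3,2,2,2,1,1], [([1,1,1,0,0,1,0,0,0],[5,1,2,3,2,1,2,1,1]), ([1,1,0,1,0,0,1,0,0],[4,0,2,2,2,1,1,1,1])]),
  ([6,3,3,2,2,2,2,1,1], [([1,1,1,0,0,0,0,0,1],[5,2,2,2,2,2,2,1,0]), ([1,1,0,1,1,0,0,0,0],[4,1,2,1,1,2,2,1,0]), ([1,1,0,0,0,1,1,0,0],[3,0,2,1,1,1,1,1,0])]),
  ([7,1,3,3,3,3,2,2,2], []),
  ([7,2,3,3,3,3,2,2,1], [([1,1,1,1,0,0,0,0,0],[6,1,2,2,3,3,2,2,1]), ([1,1,0,0,1,1,0,0,0],[5,0,2,2,2,2,2,2,1])]),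
  ([7,2,4,3,2,2,2,2,2], [([0,0,0,-1,0,0,0,0,1],[7,2,4,2,2,2,2,2,3]), ([1,1,1,0,0,0,0,0,1],[5,0,2,2,2,2,2,2,1])]),
  ([7,3,3,3,3,2,2,2,1], [([1,1,1,0,0,1,0,0,0],[6,2,2,3,3,1,2,2,1]), ([1,1,0,1,0,0,1,0,0],[5,1,2,2,3,1,1,2,1]), ([1,1,0,0,1,0,0,1,0],[4,0,2,2,2,1,1,1,1])]),
  ([7,3,4,2,2,2,2,2,2], [([1,1,1,0,0,0,0,0,1],[5,1,2,2,2,2,2,2,0])]),
  ([7,4,3,2,2,2,2,2,2], [([0,0,-1,1,0,0,0,0,0],[7,4,2,3,2,2,2,2,2]), ([1,1,0,1,0,0,0,0,1],[5,2,2,1,2,2,2,2,0]), ([1,1,0,0,1,1,0,0,0],[4,1,2,1,1,1,2,2,0]), ([1,1,0,0,0,0,1,1,0],[3,0,2,1,1,1,1,1,0])]),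
  ([8,1,3,3,3,3,3,3,3], []),
  ([8,2,4,3,3,3,3,2,2], [([1,1,1,0,0,0,1,0,0],[7,1,3,3,3,3,2,2,2])]),
  ([8,3,3,3,3,3,3,3,1], [([1,1,1,1,0,0,0,0,0],[7,2,2,2,3,3,3,3,1]), ([1,1,0,0,1,1,0,0,0],[6,1,2,2,2,2,3,3,1]), ([1,1,0,0,0,0,1,1,0],[5,0,2,2,2,2,2,2,1])]),
  ([8,3,4,3,3,3,2,2,2], [([0,0,0,-1,0,0,0,0,1],[8,3,4,2,3,3,2,2,3]), ([1,1,1,0,0,0,0,0,1],[6,1,2,2,3,3,2,2,1]), ([1,1,0,0,1,1,0,0,0],[5,0,2,2,2,2,2,2,1])]),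
  ([8,4,3,3,3,3,2,2,2], [([0,0,-1,0,0,0,1,0,0],[8,4,2,3,3,3,3,2,2]), ([1,1,0,1,0,0,0,1,0],[7,3,2,2,3,3,3,1,2]), ([1,1,0,0,1,0,0,0,1],[6,2,2,2,2,3,3,1,1]), ([1,1,0,0,0,1,1,0,0],[4,0,2,2,2,1,1,1,1])]),
  ([9,2,4,4,3,3,3,3,3], [([1,1,1,1,0,0,0,0,0],[8,1,3,3,3,3,3,3,3])]),
  ([9,3,4,4,3,3,3,3,2], [([1,1,1,0,0,0,1,0,0],[8,2,3,4,3,3,2,3,2]), ([1,1,0,1,0,0,0,1,0],[7,1,3,3,3,3,2,2,2])]),
  ([9,4,4,3,3,3,3,3,2], [([0,0,0,-1,0,0,0,0,1],[9,4,4,2,3,3,3,3,3]), ([1,1,1,0,0,0,0,0,1],[7,2,2,2,3,3,3,3,1]), ([1,1,0,0,1,1,0,0,0],[6,1,2,2,2,2,3,3,1]), ([1,1,0,0,0,0,1,1,0],[5,0,2,2,2,2,2,2,1])]),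
  ([10,3,4,4,4,4,3,3,3], [([1,1,1,1,0,0,0,0,0],[9,2,3,3,4,4,3,3,3]), ([1,1,0,0,1,1,0,0,0],[8,1,3,3,3,3,3,3,3])]),
  ([10,4,4,4,4,3,3,3,3], [([1,1,1,0,0,0,1,0,0],[9,3,3,4,4,3,2,3,3]), ([1,1,0,1,0,0,0,1,0],[8,2,3,3,4,3,2,2,3]), ([1,1,0,0,1,0,0,0,1],[7,1,3,3,3,3,2,2,2])]),
  ([11,3,4,4,4,4,4,4,4], []),
  ([11,4,4,4,4,4,4,4,3], [([1,1,1,1,0,0,0,0,0],[10,3,3,3,4,4,4,4,3]), ([1,1,0,0,1,1,0,0,0],[9,2,3,3,3,3,4,4,3]), ([1,1,0,0,0,0,1,1,0],[8,1,3,3,3,3,3,3,3])])]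


theorem chkA_2 : ∀ l ∈ enumA 2 0 2 arng,
    chkEntry ([] : List (DP 2)) (fun _ => [Q0_2]) tblConA_2 l = true := by
  decide +kernel

theorem chkB_2 : ∀ l ∈ enumB 1 0 2 arng,
    chkEntry [Q0_2] (fun v => Ncon_2 (form v Q0_2)) tblConB_2 l = true := by
  decide +kernel

theorem pairs_2 (v₁ v₂ : DP 2) (h₁ : IsConic v₁) (h₂ : IsConic v₂) :
    ∃ g : DP 2 ≃ₗ[ℤ] DP 2, IsWeyl g ∧ g v₁ = Q0_2 ∧ g v₂ ∈ Ncon_2 (form v₂ v₁) :=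
  conic_pairs_of_tables (d := 1) (by norm_num) Q0_2 (by intro i; fin_cases i <;> rfl) Ncon_2
    tblConA_2 tblConB_2 chkA_2 chkB_2 v₁ v₂ h₁ h₂

theorem chkA_3 : ∀ l ∈ enumA 3 0 2 arng,
    chkEntry ([] : List (DP 3)) (fun _ => [Q0_3]) tblConA_3 l = true := by
  decide +kernel

theorem chkB_3 : ∀ l ∈ enumB 2 0 2 arng,
    chkEntry [Q0_3] (fun v => Ncon_3 (form v Q0_3)) tblConB_3 l = true := by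
  decide +kernel

theorem pairs_3 (v₁ v₂ : DP 3) (h₁ : IsConic v₁) (h₂ : IsConic v₂) :
    ∃ g : DP 3 ≃ₗ[ℤ] DP 3, IsWeyl g ∧ g v₁ = Q0_3 ∧ g v₂ ∈ Ncon_3 (form v₂ v₁) :=
  conic_pairs_of_tables (d := 2) (by norm_num) Q0_3 (by intro i; fin_cases i <;> rfl) Ncon_3
    tblConA_3 tblConB_3 chkA_3 chkB_3 v₁ v₂ h₁ h₂

theorem chkA_4 : ∀ l ∈ enumA 4 0 2 arng,
    chkEntry ([] : List (DP 4)) (fun _ => [Q0_4]) tblConA_4 l = true := by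
  decide +kernel

theorem chkB_4 : ∀ l ∈ enumB 3 0 2 arng,
    chkEntry [Q0_4] (fun v => Ncon_4 (form v Q0_4)) tblConB_4 l = true := by
  decide +kernel

theorem pairs_4 (v₁ v₂ : DP 4) (h₁ : IsConic v₁) (h₂ : IsConic v₂) :
    ∃ g : DP 4 ≃ₗ[ℤ] DP 4, IsWeyl g ∧ g v₁ = Q0_4 ∧ g v₂ ∈ Ncon_4 (form v₂ v₁) :=
  conic_pairs_of_tables (d := 3) (by norm_num) Q0_4 (by intro i; fin_cases i <;> rfl) Ncon_4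
    tblConA_4 tblConB_4 chkA_4 chkB_4 v₁ v₂ h₁ h₂

theorem chkA_5 : ∀ l ∈ enumA 5 0 2 arng,
    chkEntry ([] : List (DP 5)) (fun _ => [Q0_5]) tblConA_5 l = true := by
  decide +kernel

theorem chkB_5 : ∀ l ∈ enumB 4 0 2 arng,
    chkEntry [Q0_5] (fun v => Ncon_5 (form v Q0_5)) tblConB_5 l = true := by
  decide +kernel

theorem pairs_5 (v₁ v₂ : DP 5) (h₁ : IsConic v₁) (h₂ : IsConic v₂) :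
    ∃ g : DP 5 ≃ₗ[ℤ] DP 5, IsWeyl g ∧ g v₁ = Q0_5 ∧ g v₂ ∈ Ncon_5 (form v₂ v₁) :=
  conic_pairs_of_tables (d := 4) (by norm_num) Q0_5 (by intro i; fin_cases i <;> rfl) Ncon_5
    tblConA_5 tblConB_5 chkA_5 chkB_5 v₁ v₂ h₁ h₂

theorem chkA_6 : ∀ l ∈ enumA 6 0 2 arng,
    chkEntry ([] : List (DP 6)) (fun _ => [Q0_6]) tblConA_6 l = true := by
  decide +kernel

theorem chkB_6 : ∀ l ∈ enumB 5 0 2 arng,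
    chkEntry [Q0_6] (fun v => Ncon_6 (form v Q0_6)) tblConB_6 l = true := by
  decide +kernel

theorem pairs_6 (v₁ v₂ : DP 6) (h₁ : IsConic v₁) (h₂ : IsConic v₂) :
    ∃ g : DP 6 ≃ₗ[ℤ] DP 6, IsWeyl g ∧ g v₁ = Q0_6 ∧ g v₂ ∈ Ncon_6 (form v₂ v₁) :=
  conic_pairs_of_tables (d := 5) (by norm_num) Q0_6 (by intro i; fin_cases i <;> rfl) Ncon_6
    tblConA_6 tblConB_6 chkA_6 chkB_6 v₁ v₂ h₁ h₂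

theorem chkA_7 : ∀ l ∈ enumA 7 0 2 arng,
    chkEntry ([] : List (DP 7)) (fun _ => [Q0_7]) tblConA_7 l = true := by
  decide +kernel

theorem chkB_7 : ∀ l ∈ enumB 6 0 2 arng,
    chkEntry [Q0_7] (fun v => Ncon_7 (form v Q0_7)) tblConB_7 l = true := by
  decide +kernel

theorem pairs_7 (v₁ v₂ : DP 7) (h₁ : IsConic v₁) (h₂ : IsConic v₂) :
    ∃ g : DP 7 ≃ₗ[ℤ] DP 7, IsWeyl g ∧ g v₁ = Q0_7 ∧ g v₂ ∈ Ncon_7 (form v₂ v₁) :=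
  conic_pairs_of_tables (d := 6) (by norm_num) Q0_7 (by intro i; fin_cases i <;> rfl) Ncon_7
    tblConA_7 tblConB_7 chkA_7 chkB_7 v₁ v₂ h₁ h₂

theorem chkA_8 : ∀ l ∈ enumA 8 0 2 arng,
    chkEntry ([] : List (DP 8)) (fun _ => [Q0_8]) tblConA_8 l = true := by
  decide +kernel

theorem chkB_8 : ∀ l ∈ enumB 7 0 2 arng,
    chkEntry [Q0_8] (fun v => Ncon_8 (form v Q0_8)) tblConB_8 l = true := by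
  decide +kernel

theorem pairs_8 (v₁ v₂ : DP 8) (h₁ : IsConic v₁) (h₂ : IsConic v₂) :
    ∃ g : DP 8 ≃ₗ[ℤ] DP 8, IsWeyl g ∧ g v₁ = Q0_8 ∧ g v₂ ∈ Ncon_8 (form v₂ v₁) :=
  conic_pairs_of_tables (d := 7) (by norm_num) Q0_8 (by intro i; fin_cases i <;> rfl) Ncon_8
    tblConA_8 tblConB_8 chkA_8 chkB_8 v₁ v₂ h₁ h₂


theorem Ncon_2_subsingleton (k : ℤ) : ∀ x ∈ Ncon_2 k, ∀ y ∈ Ncon_2 k, x = y := by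
  intro x hx y hy
  unfold Ncon_2 at hx hy
  split_ifs at hx hy <;> simp_all

theorem Ncon_3_subsingleton (k : ℤ) : ∀ x ∈ Ncon_3 k, ∀ y ∈ Ncon_3 k, x = y := by
  intro x hx y hy
  unfold Ncon_3 at hx hy
  split_ifs at hx hy <;> simp_all

theorem Ncon_4_subsingleton (k : ℤ) : ∀ x ∈ Ncon_4 k, ∀ y ∈ Ncon_4 k, x = y := by
  intro x hx y hy
  unfold Ncon_4 at hx hy
  split_ifs at hx hy <;> simp_all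

theorem Ncon_5_subsingleton (k : ℤ) : ∀ x ∈ Ncon_5 k, ∀ y ∈ Ncon_5 k, x = y := by
  intro x hx y hy
  unfold Ncon_5 at hx hy
  split_ifs at hx hy <;> simp_all

theorem Ncon_6_subsingleton (k : ℤ) : ∀ x ∈ Ncon_6 k, ∀ y ∈ Ncon_6 k, x = y := by
  intro x hx y hy
  unfold Ncon_6 at hx hy
  split_ifs at hx hy <;> simp_all

theorem Ncon_7_subsingleton (k : ℤ) : ∀ x ∈ Ncon_7 k, ∀ y ∈ Ncon_7 k, x = y := by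
  intro x hx y hy
  unfold Ncon_7 at hx hy
  split_ifs at hx hy <;> simp_all

theorem Ncon_8_subsingleton (k : ℤ) (hk : k ≠ 4) : ∀ x ∈ Ncon_8 k, ∀ y ∈ Ncon_8 k, x = y := by
  intro x hx y hy
  unfold Ncon_8 at hx hy
  split_ifs at hx hy <;> simp_all

theorem main_S15907 (δ : ℕ) (h2 : 2 ≤ δ) (h8 : δ ≤ 8)
    (v₁ v₂ w₁ w₂ : DP δ) (hv₁ : IsConic v₁) (hv₂ : IsConic v₂) (hw₁ : IsConic w₁) (hw₂ : IsConic w₂)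
    (heq : form v₁ v₂ = form w₁ w₂) (hexc : ¬ (δ = 8 ∧ form v₁ v₂ = 4)) :
    ∃ g : DP δ ≃ₗ[ℤ] DP δ, IsWeyl g ∧ g v₁ = w₁ ∧ g v₂ = w₂ := by
  obtain rfl | rfl | rfl | rfl | rfl | rfl | rfl :
      δ = 2 ∨ δ = 3 ∨ δ = 4 ∨ δ = 5 ∨ δ = 6 ∨ δ = 7 ∨ δ = 8 := by omega
  · exact transitive_of_pairs Q0_2 Ncon_2 pairs_2 v₁ v₂ w₁ w₂ hv₁ hv₂ hw₁ hw₂ heq
      (Ncon_2_subsingleton _)
  · exact transitive_of_pairs Q0_3 Ncon_3 pairs_3 v₁ v₂ w₁ w₂ hv₁ hv₂ hw₁ hw₂ heq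
      (Ncon_3_subsingleton _)
  · exact transitive_of_pairs Q0_4 Ncon_4 pairs_4 v₁ v₂ w₁ w₂ hv₁ hv₂ hw₁ hw₂ heq
      (Ncon_4_subsingleton _)
  · exact transitive_of_pairs Q0_5 Ncon_5 pairs_5 v₁ v₂ w₁ w₂ hv₁ hv₂ hw₁ hw₂ heq
      (Ncon_5_subsingleton _)
  · exact transitive_of_pairs Q0_6 Ncon_6 pairs_6 v₁ v₂ w₁ w₂ hv₁ hv₂ hw₁ hw₂ heq
      (Ncon_6_subsingleton _)
  · exact transitive_of_pairs Q0_7 Ncon_7 pairs_7 v₁ v₂ w₁ w₂ hv₁ hv₂ hw₁ hw₂ heq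
      (Ncon_7_subsingleton _)
  · exact transitive_of_pairs Q0_8 Ncon_8 pairs_8 v₁ v₂ w₁ w₂ hv₁ hv₂ hw₁ hw₂ heq
      (Ncon_8_subsingleton _ fun h => hexc ⟨rfl, h⟩)

/-- First normal form for `k = 4`, `δ = 8`. -/
def n4 : DP 8 := ![4, 0, 2, 2, 2, 1, 1, 1, 1]

/-- Second normal form for `k = 4`, `δ = 8`. -/
def n4' : DP 8 := ![5, 1, 2, 2, 2, 2, 2, 2, 0]

theorem Ncon_8_four : Ncon_8 4 = [n4, n4'] := by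
  unfold Ncon_8
  simp [n4, n4']

theorem main_S15908 :
    ∃ p₁ p₂ q₁ q₂ : DP 8, IsConic p₁ ∧ IsConic p₂ ∧ IsConic q₁ ∧ IsConic q₂ ∧
      form p₁ p₂ = 4 ∧ form q₁ q₂ = 4 ∧
      (¬ ∃ g : DP 8 ≃ₗ[ℤ] DP 8, IsWeyl g ∧ g p₁ = q₁ ∧ g p₂ = q₂) ∧
      ∀ v₁ v₂ : DP 8, IsConic v₁ → IsConic v₂ → form v₁ v₂ = 4 →
        ∃ g : DP 8 ≃ₗ[ℤ] DP 8, IsWeyl g ∧
          ((g v₁ = p₁ ∧ g v₂ = p₂) ∨ (g v₁ = q₁ ∧ g v₂ = q₂)) := by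
  refine ⟨Q0_8, n4, Q0_8, n4', ?_, ?_, ?_, ?_, ?_, ?_, ?_, ?_⟩
  · unfold IsConic; decide +kernel
  · unfold IsConic; decide +kernel
  · unfold IsConic; decide +kernel
  · unfold IsConic; decide +kernel
  · decide +kernel
  · decide +kernel
  · rintro ⟨g, -, hg1, hg2⟩
    have h1 : g (Q0_8 + n4) = (2 : ℤ) • (![3, 1, 1, 1, 1, 1, 1, 1, 0] : DP 8) := by
      rw [map_add, hg1, hg2]
      decide +kernel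
    have h2 : Q0_8 + n4 = (2 : ℤ) • g.symm (![3, 1, 1, 1, 1, 1, 1, 1, 0] : DP 8) := by
      rw [← map_smul, ← h1, LinearEquiv.symm_apply_apply]
    have h3 := congrFun h2 0
    simp only [Pi.add_apply, Pi.smul_apply, smul_eq_mul, Q0_8, n4] at h3
    simp only [Matrix.cons_val_zero] at h3
    omega
  · intro v₁ v₂ hv₁ hv₂ h
    obtain ⟨g, hg, hg1, hg2⟩ := pairs_8 v₁ v₂ hv₁ hv₂
    rw [form_comm, h, Ncon_8_four] at hg2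
    refine ⟨g, hg, ?_⟩
    simp only [List.mem_cons, List.not_mem_nil, or_false] at hg2
    rcases hg2 with h' | h'
    · exact Or.inl ⟨hg1, h'⟩
    · exact Or.inr ⟨hg1, h'⟩

end Groth.Agent.Lib.T2H8.DPConicPairs
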