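import Mathlib
import Groth.Prelude.Def_W4c3severiratdpLat
import Groth.Agent.Lib.T2H8DPWeyl
import Groth.Agent.Lib.T2H8DPExc

/-!
# Triples of exceptional classes in `DP 8` with sum `-2K + L`, up to the stabilizer of `L`
-/

set_option autoImplicit false

namespace Groth.Agent.Lib.T2H8.DPTriples

open W4c3severiratdp
open Groth.Agent.Lib.Helper24DPConic (rng mem_rng cs_bound)
open Groth.Agent.Lib.T2H8.DPWeyl
open Groth.Agent.Lib.T2H8.DPExc

/-! ### Unsorted enumeration -/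

/-- All solutions of `∑ b = s`, `∑ b² = t` (for `t ≤ 121`). -/
def solU : ℕ → ℤ → ℤ → List (List ℤ)
  | 0, s, t => if s = 0 ∧ t = 0 then [[]] else []
  | d + 1, s, t =>
    (rng.filter fun b => b * b ≤ t ∧ (s - b) * (s - b) ≤ (d : ℤ) * (t - b * b)).flatMap
      fun b => (solU d (s - b) (t - b * b)).map (b :: ·)

theorem mem_solU (d : ℕ) : ∀ (y : Fin d → ℤ) (s t : ℤ), t ≤ 121 →
    ∑ i, y i = s → ∑ i, y i * y i = t → List.ofFn y ∈ solU d s t := by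
  induction d with
  | zero =>
    intro y s t _ h1 h2
    simp only [Finset.univ_eq_empty, Finset.sum_empty] at h1 h2
    simp [solU, ← h1, ← h2]
  | succ d ih =>
    intro x s t ht h1 h2
    rw [Fin.sum_univ_succ] at h1 h2
    set b := x 0 with hb
    set y : Fin d → ℤ := Fin.tail x with hy
    have hy1 : ∑ i, y i = s - b := by
      have : ∑ i : Fin d, x i.succ = ∑ i, y i := rfl
      linarith
    have hy2 : ∑ i, y i * y i = t - b * b := by
      have : ∑ i : Fin d, x i.succ * x i.succ = ∑ i, y i * y i := rfl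
      linarith
    have hnn : 0 ≤ ∑ i, y i * y i := Finset.sum_nonneg fun i _ => mul_self_nonneg _
    have hbt : b * b ≤ t := by linarith
    have hcs := cs_bound y
    rw [hy1, hy2] at hcs
    have hb1 : -11 ≤ b := by nlinarith
    have hb2 : b ≤ 11 := by nlinarith
    have hle : t - b * b ≤ 121 := by nlinarith [mul_self_nonneg b]
    have := ih y (s - b) (t - b * b) hle hy1 hy2
    rw [List.ofFn_succ]
    simp only [solU, List.mem_flatMap, List.mem_filter, List.mem_map, decide_eq_true_eq]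
    exact ⟨b, ⟨mem_rng.2 ⟨hb1, hb2⟩, hbt, hcs⟩, List.ofFn y, this, rfl⟩

/-- All class vectors. -/
def enumU (δ : ℕ) (sq dg : ℤ) (aR : List ℤ) : List (List ℤ) :=
  aR.flatMap fun a => (solU δ (3 * a - dg) (a * a - sq)).map (a :: ·)

theorem mem_enumU {δ : ℕ} {sq dg : ℤ} {aR : List ℤ} (v : DP δ) (hv : IsCls sq dg v)
    (ha : v 0 ∈ aR) (hle : v 0 * v 0 - sq ≤ 121) : List.ofFn v ∈ enumU δ sq dg aR := by
  rw [isCls_iff] at hv
  have hmem := mem_solU δ (Fin.tail v) _ _ hle hv.1 hv.2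
  rw [List.ofFn_succ]
  simp only [enumU, List.mem_flatMap, List.mem_map]
  exact ⟨v 0, ha, _, hmem, rfl⟩

/-! ### Data -/

/-- The normal form `ℓ - e₁ - e₂` of exceptional classes meeting `E0` once. -/
def N1 : DP 8 := ![1, 1, 1, 0, 0, 0, 0, 0, 0]

/-- Normal form at the third level. -/
def M0 : DP 8 := ![2, 0, 0, 1, 1, 1, 1, 1, 0]

/-- The sum `-2K + E0`. -/
def S0 : DP 8 := ![6, 1, 2, 2, 2, 2, 2, 2, 2]

theorem S0_eq : S0 = E0 - (canon 8 + canon 8) := by decide +kernel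

theorem Nexc_one : Nexc 1 = N1 := by decide +kernel

theorem Nexc_neg_one : Nexc (-1) = E0 := by decide +kernel

/-- Exceptional vectors `v` with `v · E0 = 0` and `v · N1 = 2`. -/
def enumC : List (List ℤ) :=
  (enumU 8 (-1) 1 aRexc).filter fun l =>
    decide (form (vecOf l : DP 8) E0 = 0 ∧ form (vecOf l : DP 8) N1 = 2)

def tblExcC : Tbl := [
  ([2,0,0,0,1,1,1,1,1], [([0,0,0,-1,0,0,0,0,1],[2,0,0,1,1,1,1,1,0])]),
  ([2,0,0,1,0,1,1,1,1], [([0,0,0,0,-1,0,0,0,1],[2,0,0,1,1,1,1,1,0])]),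
  ([2,0,0,1,1,0,1,1,1], [([0,0,0,0,0,-1,0,0,1],[2,0,0,1,1,1,1,1,0])]),
  ([2,0,0,1,1,1,0,1,1], [([0,0,0,0,0,0,-1,0,1],[2,0,0,1,1,1,1,1,0])]),
  ([2,0,0,1,1,1,1,0,1], [([0,0,0,0,0,0,0,-1,1],[2,0,0,1,1,1,1,1,0])]),
  ([2,0,0,1,1,1,1,1,0], []),
  ([3,0,1,1,1,1,1,1,2], [([0,0,0,-1,0,0,0,0,1],[3,0,1,2,1,1,1,1,1]), ([1,0,1,1,0,0,0,0,1],[2,0,0,1,1,1,1,1,0])]),
  ([3,0,1,1,1,1,1,2,1], [([1,0,1,0,0,0,0,1,1],[2,0,0,1,1,1,1,1,0])]),
  ([3,0,1,1,1,1,2,1,1], [([1,0,1,0,0,0,1,0,1],[2,0,0,1,1,1,1,1,0])]),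
  ([3,0,1,1,1,2,1,1,1], [([1,0,1,0,0,1,0,0,1],[2,0,0,1,1,1,1,1,0])]),
  ([3,0,1,1,2,1,1,1,1], [([1,0,1,0,1,0,0,0,1],[2,0,0,1,1,1,1,1,0])]),
  ([3,0,1,2,1,1,1,1,1], [([1,0,1,1,0,0,0,0,1],[2,0,0,1,1,1,1,1,0])])]



theorem chkC : ∀ l ∈ enumC, chkEntry [E0, N1] (fun _ => [M0]) tblExcC l = true := by
  decide +kernel

theorem exc_stab3 (v : DP 8) (hv : IsCls (-1) 1 v) (h0 : form v E0 = 0) (h1 : form v N1 = 2) :
    ∃ g : DP 8 ≃ₗ[ℤ] DP 8, IsWeyl g ∧ g E0 = E0 ∧ g N1 = N1 ∧ g v = M0 := by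
  obtain ⟨ha, hle⟩ := exc_bounds (le_refl 8) _ hv
  have hmem : List.ofFn (permFun 1 v) ∈ enumC := by
    rw [permFun_one]
    unfold enumC
    rw [List.mem_filter]
    refine ⟨mem_enumU v hv ha hle, ?_⟩
    rw [decide_eq_true_eq, vecOf_ofFn]
    exact ⟨h0, h1⟩
  obtain ⟨g, hg, hgP, hgv⟩ := reduce_of_table [E0, N1] (fun _ => [M0]) _ tblExcC chkC v 1
    (fun P _ => permFun_one P) rfl hmem
  exact ⟨g, hg, hgP E0 (by simp), hgP N1 (by simp), by simpa using hgv⟩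

/-! ### Facts on exceptional classes relative to `E0` -/

theorem exc_k_range (v : DP 8) (hv : IsCls (-1) 1 v) : -1 ≤ form v E0 ∧ form v E0 ≤ 3 := by
  obtain ⟨g, hg, hgE, hgv⟩ := exc_stab v hv
  rw [List.mem_singleton] at hgv
  have h1 : form (g v) (g E0) = form v E0 := hg.1 v E0
  rw [hgE, hgv] at h1
  generalize form v E0 = k at h1
  unfold Nexc at h1
  split_ifs at h1 with h₁ h₂ h₃ h₄
  · omega
  · omega
  · omega
  · omega
  · have : form (![6, 3, 2, 2, 2, 2, 2, 2, 2] : DP 8) E0 = 3 := by decide +kernel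
    rw [this] at h1
    omega

theorem exc_eq_E0 (v : DP 8) (hv : IsCls (-1) 1 v) (h : form v E0 = -1) : v = E0 := by
  obtain ⟨g, hg, hgE, hgv⟩ := exc_stab v hv
  rw [List.mem_singleton, h, Nexc_neg_one] at hgv
  exact g.injective (hgv.trans hgE.symm)

theorem form_S0 (x : DP 8) : form S0 x = form x E0 - 2 * form (canon 8) x := by
  rw [S0_eq, form_sub_left, form_add_left, form_comm E0 x]
  ring

theorem weyl_S0 {g : DP 8 ≃ₗ[ℤ] DP 8} (hg : IsWeyl g) (hgE : g E0 = E0) : g S0 = S0 := by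
  rw [S0_eq, map_sub, map_add, hgE, hg.2]

/-! ### Representatives -/

/-- Representatives of the four orbits (relative to `E0`). -/
def r0 : Fin 4 → Fin 3 → DP 8 :=
  ![![N1, M0, ![3, 0, 1, 1, 1, 1, 1, 1, 2]],
    ![E0, N1, ![5, 1, 1, 2, 2, 2, 2, 2, 2]],
    ![E0, ![0, 0, -1, 0, 0, 0, 0, 0, 0], ![6, 2, 3, 2, 2, 2, 2, 2, 2]],
    ![E0, E0, ![6, 3, 2, 2, 2, 2, 2, 2, 2]]]

theorem r0_exc : ∀ j i, IsCls (-1) 1 (r0 j i) := by
  unfold IsCls
  decide +kernel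

theorem r0_sum : ∀ j, r0 j 0 + r0 j 1 + r0 j 2 = S0 := by decide +kernel

/-- The invariant separating the orbits. -/
def inv (j : Fin 4) : ℤ := ∑ i : Fin 3, form (r0 j i) E0 * form (r0 j i) E0

theorem inv_injective : ∀ j j', inv j = inv j' → j = j' := by
  unfold inv
  decide +kernel

/-! ### Coverage relative to `E0` -/

theorem exists_perm_of_distinct (i0 i1 i2 : Fin 3) (h01 : i0 ≠ i1) (h02 : i0 ≠ i2)
    (h12 : i1 ≠ i2) : ∃ τ : Equiv.Perm (Fin 3), τ 0 = i0 ∧ τ 1 = i1 ∧ τ 2 = i2 := by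
  have hinj : Function.Injective (![i0, i1, i2] : Fin 3 → Fin 3) := by
    intro a b hab
    fin_cases a <;> fin_cases b <;> simp_all
  exact ⟨Equiv.ofBijective _ (Finite.injective_iff_bijective.1 hinj), rfl, rfl, rfl⟩

theorem exists_indices (k : Fin 3 → ℤ) (hk : ∀ i, -1 ≤ k i ∧ k i ≤ 3)
    (hs : k 0 + k 1 + k 2 = 1) :
    ∃ τ : Equiv.Perm (Fin 3), (k (τ 0) = -1 ∧ k (τ 1) ≤ 1) ∨
      (k (τ 0) = 1 ∧ k (τ 1) = 0 ∧ k (τ 2) = 0) := by
  have h0 := hk 0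
  have h1 := hk 1
  have h2 := hk 2
  have key : ∀ i0 i1 i2 : Fin 3, i0 ≠ i1 → i0 ≠ i2 → i1 ≠ i2 →
      ((k i0 = -1 ∧ k i1 ≤ 1) ∨ (k i0 = 1 ∧ k i1 = 0 ∧ k i2 = 0)) →
      ∃ τ : Equiv.Perm (Fin 3), (k (τ 0) = -1 ∧ k (τ 1) ≤ 1) ∨
        (k (τ 0) = 1 ∧ k (τ 1) = 0 ∧ k (τ 2) = 0) := by
    intro i0 i1 i2 h01 h02 h12 h
    obtain ⟨τ, e0, e1, e2⟩ := exists_perm_of_distinct i0 i1 i2 h01 h02 h12
    exact ⟨τ, by rw [e0, e1, e2]; exact h⟩
  by_cases c0 : k 0 = -1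
  · by_cases c : k 1 ≤ 1
    · exact key 0 1 2 (by decide) (by decide) (by decide) (Or.inl ⟨c0, c⟩)
    · exact key 0 2 1 (by decide) (by decide) (by decide) (Or.inl ⟨c0, by omega⟩)
  by_cases c1 : k 1 = -1
  · by_cases c : k 0 ≤ 1
    · exact key 1 0 2 (by decide) (by decide) (by decide) (Or.inl ⟨c1, c⟩)
    · exact key 1 2 0 (by decide) (by decide) (by decide) (Or.inl ⟨c1, by omega⟩)
  by_cases c2 : k 2 = -1
  · by_cases c : k 0 ≤ 1
    · exact key 2 0 1 (by decide) (by decide) (by decide) (Or.inl ⟨c2, c⟩)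
    · exact key 2 1 0 (by decide) (by decide) (by decide) (Or.inl ⟨c2, by omega⟩)
  by_cases d0 : k 0 = 1
  · exact key 0 1 2 (by decide) (by decide) (by decide) (Or.inr ⟨d0, by omega, by omega⟩)
  by_cases d1 : k 1 = 1
  · exact key 1 0 2 (by decide) (by decide) (by decide) (Or.inr ⟨d1, by omega, by omega⟩)
  · exact key 2 0 1 (by decide) (by decide) (by decide) (Or.inr ⟨by omega, by omega, by omega⟩)

theorem coverA (t : Fin 3 → DP 8) (ht : ∀ i, IsCls (-1) 1 (t i)) (hsum : t 0 + t 1 + t 2 = S0)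
    (h0 : t 0 = E0) (h1 : form (t 1) E0 ≤ 1) :
    ∃ j, ∃ g : DP 8 ≃ₗ[ℤ] DP 8, IsWeyl g ∧ g E0 = E0 ∧ ∀ i, g (t i) = r0 j i := by
  obtain ⟨g, hg, hgE, hgv⟩ := exc_stab (t 1) (ht 1)
  rw [List.mem_singleton] at hgv
  have hlow := (exc_k_range _ (ht 1)).1
  have e2 : t 2 = S0 - t 0 - t 1 := by rw [← hsum]; abel
  have hg2 : g (t 2) = S0 - E0 - Nexc (form (t 1) E0) := by
    rw [e2, map_sub, map_sub, weyl_S0 hg hgE, h0, hgE, hgv]
  have hk : form (t 1) E0 = -1 ∨ form (t 1) E0 = 0 ∨ form (t 1) E0 = 1 := by omega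
  rcases hk with hk | hk | hk
  · refine ⟨3, g, hg, hgE, fun i => ?_⟩
    rw [hk] at hgv hg2
    fin_cases i
    · show g (t 0) = r0 3 0
      rw [h0, hgE]; rfl
    · show g (t 1) = r0 3 1
      rw [hgv]; decide +kernel
    · show g (t 2) = r0 3 2
      rw [hg2]; decide +kernel
  · refine ⟨2, g, hg, hgE, fun i => ?_⟩
    rw [hk] at hgv hg2
    fin_cases i
    · show g (t 0) = r0 2 0
      rw [h0, hgE]; rfl
    · show g (t 1) = r0 2 1
      rw [hgv]; decide +kernel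
    · show g (t 2) = r0 2 2
      rw [hg2]; decide +kernel
  · refine ⟨1, g, hg, hgE, fun i => ?_⟩
    rw [hk] at hgv hg2
    fin_cases i
    · show g (t 0) = r0 1 0
      rw [h0, hgE]; rfl
    · show g (t 1) = r0 1 1
      rw [hgv]; decide +kernel
    · show g (t 2) = r0 1 2
      rw [hg2]; decide +kernel

theorem coverB (t : Fin 3 → DP 8) (ht : ∀ i, IsCls (-1) 1 (t i)) (hsum : t 0 + t 1 + t 2 = S0)
    (h0 : form (t 0) E0 = 1) (h1 : form (t 1) E0 = 0) :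
    ∃ g : DP 8 ≃ₗ[ℤ] DP 8, IsWeyl g ∧ g E0 = E0 ∧ ∀ i, g (t i) = r0 0 i := by
  have e2 : t 2 = S0 - t 0 - t 1 := by rw [← hsum]; abel
  have hxy : form (t 1) (t 0) = 2 := by
    have hq := (ht 2).1
    rw [e2] at hq
    simp only [form_sub_left, form_sub_right] at hq
    have hSS : form S0 S0 = 7 := by decide +kernel
    have hSx : form S0 (t 0) = 3 := by rw [form_S0, h0, (ht 0).2]; norm_num
    have hSy : form S0 (t 1) = 2 := by rw [form_S0, h1, (ht 1).2]; norm_num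
    have hxS : form (t 0) S0 = 3 := by rw [form_comm, hSx]
    have hyS : form (t 1) S0 = 2 := by rw [form_comm, hSy]
    have hxx := (ht 0).1
    have hyy := (ht 1).1
    have hc : form (t 0) (t 1) = form (t 1) (t 0) := form_comm _ _
    rw [hSS, hSx, hSy, hxS, hyS, hxx, hyy, hc] at hq
    linarith
  obtain ⟨g1, hg1, hg1E, hg1v⟩ := exc_stab (t 0) (ht 0)
  rw [List.mem_singleton, h0, Nexc_one] at hg1v
  have hμ : IsCls (-1) 1 (g1 (t 1)) := IsWeyl.isCls hg1 (ht 1)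
  have hμ0 : form (g1 (t 1)) E0 = 0 := by
    rw [← hg1E, hg1.1, h1]
  have hμ1 : form (g1 (t 1)) N1 = 2 := by
    rw [← hg1v, hg1.1, hxy]
  obtain ⟨g2, hg2, hg2E, hg2N, hg2v⟩ := exc_stab3 _ hμ hμ0 hμ1
  refine ⟨g1.trans g2, IsWeyl.trans hg1 hg2, ?_, fun i => ?_⟩
  · simp only [LinearEquiv.trans_apply]
    rw [hg1E, hg2E]
  · have hgS : (g1.trans g2) S0 = S0 :=
      weyl_S0 (IsWeyl.trans hg1 hg2) (by simp only [LinearEquiv.trans_apply]; rw [hg1E, hg2E])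
    have ha : (g1.trans g2) (t 0) = N1 := by
      simp only [LinearEquiv.trans_apply]
      rw [hg1v, hg2N]
    have hb : (g1.trans g2) (t 1) = M0 := by
      simp only [LinearEquiv.trans_apply]
      rw [hg2v]
    fin_cases i
    · show (g1.trans g2) (t 0) = r0 0 0
      rw [ha]; rfl
    · show (g1.trans g2) (t 1) = r0 0 1
      rw [hb]; rfl
    · show (g1.trans g2) (t 2) = r0 0 2
      rw [e2, map_sub, map_sub, hgS, ha, hb]
      decide +kernel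

theorem cover_E0 (t : Fin 3 → DP 8) (ht : ∀ i, IsCls (-1) 1 (t i))
    (hsum : t 0 + t 1 + t 2 = S0) :
    ∃ j, ∃ g : DP 8 ≃ₗ[ℤ] DP 8, IsWeyl g ∧ g E0 = E0 ∧
      ∃ σ : Equiv.Perm (Fin 3), ∀ i, g (t (σ i)) = r0 j i := by
  have hk : ∀ i, -1 ≤ form (t i) E0 ∧ form (t i) E0 ≤ 3 := fun i => exc_k_range _ (ht i)
  have hs : form (t 0) E0 + form (t 1) E0 + form (t 2) E0 = 1 := by
    have := congrArg (fun x => form x E0) hsum
    simp only [form_add_left] at this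
    rw [this]
    decide +kernel
  obtain ⟨τ, h⟩ := exists_indices (fun i => form (t i) E0) hk hs
  have hsum' : t (τ 0) + t (τ 1) + t (τ 2) = S0 := by
    have := Equiv.sum_comp τ t
    rw [Fin.sum_univ_three, Fin.sum_univ_three] at this
    rw [this, hsum]
  rcases h with h | h
  · obtain ⟨j, g, hg, hgE, hgt⟩ := coverA (fun i => t (τ i)) (fun i => ht _) hsum'
      (exc_eq_E0 _ (ht _) h.1) h.2
    exact ⟨j, g, hg, hgE, τ, hgt⟩
  · obtain ⟨g, hg, hgE, hgt⟩ := coverB (fun i => t (τ i)) (fun i => ht _) hsum' h.1 h.2.1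
    exact ⟨0, g, hg, hgE, τ, hgt⟩

/-! ### The main statement -/

theorem main_S15910 (L : DP 8) (hL : IsExc L) :
    ∃ r : Fin 4 → (Fin 3 → DP 8),
      (∀ j, (∀ i, IsExc (r j i)) ∧ r j 0 + r j 1 + r j 2 = L - 2 • canon 8) ∧
      (∀ j j', (∃ g : DP 8 ≃ₗ[ℤ] DP 8, IsWeyl g ∧ g L = L ∧
        ∃ σ : Equiv.Perm (Fin 3), ∀ i, g (r j (σ i)) = r j' i) → j = j') ∧
      ∀ t : Fin 3 → DP 8, (∀ i, IsExc (t i)) → t 0 + t 1 + t 2 = L - 2 • canon 8 →
        ∃ j, ∃ g : DP 8 ≃ₗ[ℤ] DP 8, IsWeyl g ∧ g L = L ∧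
          ∃ σ : Equiv.Perm (Fin 3), ∀ i, g (t (σ i)) = r j i := by
  obtain ⟨g0, hg0, hg0L⟩ := exc_to_E0 L hL
  have hsymE : g0.symm E0 = L := by rw [← hg0L, LinearEquiv.symm_apply_apply]
  have hS : g0 (L - 2 • canon 8) = S0 := by
    rw [two_nsmul, map_sub, map_add, hg0L, hg0.2, S0_eq]
  have hS' : g0.symm S0 = L - 2 • canon 8 := by
    rw [← hS, LinearEquiv.symm_apply_apply]
  refine ⟨fun j i => g0.symm (r0 j i), ?_, ?_, ?_⟩
  · intro j
    refine ⟨fun i => IsWeyl.isCls (IsWeyl.symm hg0) (r0_exc j i), ?_⟩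
    show g0.symm (r0 j 0) + g0.symm (r0 j 1) + g0.symm (r0 j 2) = _
    rw [← map_add, ← map_add, r0_sum j, hS']
  · rintro j j' ⟨g, hg, hgL, σ, hσ⟩
    apply inv_injective
    have hg' : IsWeyl (g0.symm.trans (g.trans g0)) :=
      IsWeyl.trans (IsWeyl.symm hg0) (IsWeyl.trans hg hg0)
    have hg'E : (g0.symm.trans (g.trans g0)) E0 = E0 := by
      simp only [LinearEquiv.trans_apply]
      rw [hsymE, hgL, hg0L]
    have hg'r : ∀ i, (g0.symm.trans (g.trans g0)) (r0 j (σ i)) = r0 j' i := by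
      intro i
      simp only [LinearEquiv.trans_apply]
      have := hσ i
      simp only at this
      rw [this, LinearEquiv.apply_symm_apply]
    have hform : ∀ i, form (r0 j' i) E0 = form (r0 j (σ i)) E0 := by
      intro i
      rw [← hg'r i]
      conv_lhs => rw [← hg'E]
      exact hg'.1 _ _
    unfold inv
    rw [← Equiv.sum_comp σ (fun i => form (r0 j i) E0 * form (r0 j i) E0)]
    exact Finset.sum_congr rfl fun i _ => by rw [hform i]
  · intro t ht hsum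
    have ht' : ∀ i, IsCls (-1) 1 (g0 (t i)) := fun i => IsWeyl.isCls hg0 (ht i)
    have hsum' : g0 (t 0) + g0 (t 1) + g0 (t 2) = S0 := by
      rw [← map_add, ← map_add, hsum, hS]
    obtain ⟨j, g', hg', hg'E, σ, h⟩ := cover_E0 (fun i => g0 (t i)) ht' hsum'
    refine ⟨j, g0.trans (g'.trans g0.symm), IsWeyl.trans hg0 (IsWeyl.trans hg' (IsWeyl.symm hg0)),
      ?_, σ, fun i => ?_⟩
    · simp only [LinearEquiv.trans_apply]
      rw [hg0L, hg'E, hsymE]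
    · simp only [LinearEquiv.trans_apply]
      have hi : g' (g0 (t (σ i))) = r0 j i := h i
      rw [hi]

end Groth.Agent.Lib.T2H8.DPTriples
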