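import Groth.Agent.Lib.Helper7Exal
import Groth.Agent.Lib.Helper19PsLiftComplete
import Groth.Agent.Lib.Helper19Restricted2

/-!
# Extensions of a quotient of a power series ring by a simple module (Deform, S11287)

For `P = Λ[[X₁..X_d]]`, `J ≤ (X)²`, `R = P/J`, `L` a simple `R`-module: every `Λ`-extension of `R`
by `L` admits a lift `u : P → E` of the quotient map (`exists_lift`); two extensions are equivalent
iff the restrictions `J → L` of their lifts agree (`nonempty_equiv_iff`); every `P`-linear map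
`J → L` arises (`exists_ext_of_linearMap`). Built on helper7's `ExalLib` (extensions of `B/J` over
`B`) and helper19's power series lifting.

* `ofLift J Y u hu`: a `Λ`-extension with a lift, as a `P`-extension; `equivOfLift`.
-/

set_option autoImplicit false
universe u

namespace Groth.Agent.Lib.T2H8.Deform

open Exal MvPowerSeries Groth.Agent.Lib.Helper7.ExalLib

section Basics

variable {Λ : Type u} [CommRing Λ] (d : ℕ)

lemma X_mem_jacobson (s : Fin d) : (X s : MvPowerSeries (Fin d) Λ) ∈ Ideal.jacobson ⊥ := by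
  rw [Ideal.mem_jacobson_bot]
  intro y
  rw [MvPowerSeries.isUnit_iff_constantCoeff]
  simp

lemma varsIdeal_le_jacobson :
    Ideal.span (Set.range (X : Fin d → MvPowerSeries (Fin d) Λ)) ≤ Ideal.jacobson ⊥ := by
  rw [Ideal.span_le]
  rintro _ ⟨s, rfl⟩
  exact X_mem_jacobson d s

lemma varsIdeal_ne_top [Nontrivial Λ] :
    Ideal.span (Set.range (X : Fin d → MvPowerSeries (Fin d) Λ)) ≠ ⊤ := by
  intro h
  have h1 : (1 : MvPowerSeries (Fin d) Λ) ∈ Ideal.jacobson ⊥ :=
    varsIdeal_le_jacobson d (h ▸ Submodule.mem_top)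
  have h2 : Ideal.jacobson (⊥ : Ideal (MvPowerSeries (Fin d) Λ)) = ⊤ :=
    (Ideal.eq_top_iff_one _).mpr h1
  rw [Ideal.jacobson_eq_top_iff] at h2
  exact bot_ne_top h2

variable {d}

/-- Elements of the ideal of the variables act as zero on a simple module over a quotient. -/
lemma smul_eq_zero_of_mem_varsIdeal (J : Ideal (MvPowerSeries (Fin d) Λ))
    {L : Type u} [AddCommGroup L] [Module (MvPowerSeries (Fin d) Λ ⧸ J) L]
    [IsSimpleModule (MvPowerSeries (Fin d) Λ ⧸ J) L]
    {a : MvPowerSeries (Fin d) Λ}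
    (ha : a ∈ Ideal.span (Set.range (X : Fin d → MvPowerSeries (Fin d) Λ))) (w : L) :
    (Ideal.Quotient.mk J a) • w = 0 := by
  have hmax := IsSimpleModule.annihilator_isMaximal (R := MvPowerSeries (Fin d) Λ ⧸ J) (M := L)
  have h1 : Ideal.Quotient.mk J a ∈ Ideal.jacobson (⊥ : Ideal (MvPowerSeries (Fin d) Λ ⧸ J)) := by
    rw [Ideal.mem_jacobson_bot]
    intro y
    obtain ⟨y', rfl⟩ := Ideal.Quotient.mk_surjective y
    rw [← map_mul, ← map_one (Ideal.Quotient.mk J), ← map_add]
    apply IsUnit.map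
    exact Ideal.mem_jacobson_bot.mp (varsIdeal_le_jacobson d ha) y'
  have h2 : Ideal.jacobson (⊥ : Ideal (MvPowerSeries (Fin d) Λ ⧸ J)) ≤
      Module.annihilator (MvPowerSeries (Fin d) Λ ⧸ J) L := by
    apply sInf_le
    exact ⟨bot_le, hmax⟩
  exact Module.mem_annihilator.mp (h2 h1) w

end Basics


open Exal MvPowerSeries Groth.Agent.Lib.Helper7.ExalLib

section Lift

variable {Λ : Type u} [CommRing Λ] [IsLocalRing Λ] [IsNoetherianRing Λ]
  [IsAdicComplete (IsLocalRing.maximalIdeal Λ) Λ]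
  {d : ℕ} (J : Ideal (MvPowerSeries (Fin d) Λ))
  {L : Type u} [AddCommGroup L] [Module (MvPowerSeries (Fin d) Λ ⧸ J) L]

/-- The kernel of the projection of an extension by a simple module is a principal ideal. -/
lemma ker_proj_fg {A : Type u} {B : Type u} [CommRing A] [CommRing B] [Algebra A B]
    {L : Type u} [AddCommGroup L] [Module B L] [IsSimpleModule B L] (X : Exal.Ext A B L) :
    (RingHom.ker X.proj.toRingHom).FG := by
  haveI := IsSimpleModule.nontrivial B L
  obtain ⟨z₀, hz₀⟩ := exists_ne (0 : L)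
  refine ⟨{X.incl z₀}, ?_⟩
  rw [Finset.coe_singleton]
  apply le_antisymm
  · rw [Ideal.span_le, Set.singleton_subset_iff]
    exact proj_incl X z₀
  · intro x hx
    have hx' : X.proj x = 0 := hx
    obtain ⟨z, rfl⟩ := (X.isExtension.exact x).1 hx'
    obtain ⟨r, hr⟩ := IsSimpleModule.toSpanSingleton_surjective B hz₀ z
    obtain ⟨e, rfl⟩ := X.isExtension.proj_surjective r
    rw [LinearMap.toSpanSingleton_apply] at hr
    rw [← hr, ← X.isExtension.mul_incl]
    exact Ideal.mul_mem_left _ _ (Ideal.subset_span rfl)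

lemma ker_proj_sq {A : Type u} {B : Type u} [CommRing A] [CommRing B] [Algebra A B]
    {L : Type u} [AddCommGroup L] [Module B L] (X : Exal.Ext A B L) :
    RingHom.ker X.proj.toRingHom ^ 2 = ⊥ := by
  rw [eq_bot_iff, pow_two, Ideal.mul_le]
  intro x hx y hy
  have hx' : X.proj x = 0 := hx
  have hy' : X.proj y = 0 := hy
  obtain ⟨z, rfl⟩ := (X.isExtension.exact x).1 hx'
  obtain ⟨w, rfl⟩ := (X.isExtension.exact y).1 hy'
  rw [incl_mul_incl]
  exact Ideal.zero_mem _

/-- S11287 (a): the quotient map lifts to every extension by a simple module. -/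
theorem exists_lift [IsSimpleModule (MvPowerSeries (Fin d) Λ ⧸ J) L]
    (hJ : J ≤ Ideal.span (Set.range (X : Fin d → MvPowerSeries (Fin d) Λ)) ^ 2)
    (Y : Exal.Ext Λ (MvPowerSeries (Fin d) Λ ⧸ J) L) :
    ∃ u : MvPowerSeries (Fin d) Λ →ₐ[Λ] Y.E, ∀ p, Y.proj (u p) = Ideal.Quotient.mk J p := by
  have hJtop : J ≠ ⊤ := by
    intro h
    apply varsIdeal_ne_top (Λ := Λ) d
    rw [eq_top_iff, ← h]
    exact hJ.trans (Ideal.pow_le_self two_ne_zero)
  haveI : Nontrivial (MvPowerSeries (Fin d) Λ ⧸ J) := Ideal.Quotient.nontrivial_iff.2 hJtop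
  haveI : IsLocalRing (MvPowerSeries (Fin d) Λ ⧸ J) :=
    IsLocalRing.of_surjective' (Ideal.Quotient.mk J) Ideal.Quotient.mk_surjective
  haveI : IsAdicComplete (IsLocalRing.maximalIdeal (MvPowerSeries (Fin d) Λ))
      (MvPowerSeries (Fin d) Λ) := Groth.Agent.Lib.Helper19.isAdicComplete_mvPowerSeries
  haveI : IsAdicComplete (IsLocalRing.maximalIdeal (MvPowerSeries (Fin d) Λ ⧸ J))
      (MvPowerSeries (Fin d) Λ ⧸ J) := by
    have h := Groth.Agent.Lib.Helper19.isAdicComplete_quotient_of_isNoetherianRing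
      (MvPowerSeries (Fin d) Λ) (IsLocalRing.maximalIdeal (MvPowerSeries (Fin d) Λ)) J
    rwa [IsLocalRing.map_maximalIdeal_of_surjective _ Ideal.Quotient.mk_surjective] at h
  obtain ⟨l, hl⟩ := Groth.Agent.Lib.Helper19.exists_mvPowerSeries_lift_of_sqZero
    (π := Ideal.Quotient.mkₐ Λ J) (Ideal.Quotient.mkₐ_surjective Λ J) Y.proj
    Y.isExtension.proj_surjective (ker_proj_sq Y) (ker_proj_fg Y)
  exact ⟨l, fun p => AlgHom.congr_fun hl p⟩

end Lift


open Exal Groth.Agent.Lib.Helper7.ExalLib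

section OfLift

variable {Λ : Type u} [CommRing Λ] {P : Type u} [CommRing P] [Algebra Λ P] (J : Ideal P)
  {L : Type u} [AddCommGroup L] [Module (P ⧸ J) L] [Module P L] [IsScalarTower P (P ⧸ J) L]

/-- The middle ring of a `Λ`-extension of `P ⧸ J`, as a `P`-algebra through a lift `u`. -/
@[nolint unusedArguments]
def LiftCarrier (Y : Exal.Ext Λ (P ⧸ J) L) (_u : P →ₐ[Λ] Y.E) : Type u := Y.E

instance (Y : Exal.Ext Λ (P ⧸ J) L) (u : P →ₐ[Λ] Y.E) : CommRing (LiftCarrier J Y u) :=
  inferInstanceAs (CommRing Y.E)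

instance (Y : Exal.Ext Λ (P ⧸ J) L) (u : P →ₐ[Λ] Y.E) : Algebra P (LiftCarrier J Y u) :=
  (u.toRingHom : P →+* LiftCarrier J Y u).toAlgebra

lemma algebraMap_liftCarrier (Y : Exal.Ext Λ (P ⧸ J) L) (u : P →ₐ[Λ] Y.E) (p : P) :
    algebraMap P (LiftCarrier J Y u) p = u p := rfl

/-- A `Λ`-extension of `P ⧸ J` with a lift of the quotient map, as a `P`-extension. -/
def ofLift (Y : Exal.Ext Λ (P ⧸ J) L) (u : P →ₐ[Λ] Y.E)
    (hu : ∀ p, Y.proj (u p) = Ideal.Quotient.mk J p) : Exal.Ext P (P ⧸ J) L where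
  E := LiftCarrier J Y u
  proj :=
    { toFun := fun x => Y.proj x
      map_one' := map_one Y.proj
      map_mul' := map_mul Y.proj
      map_zero' := map_zero Y.proj
      map_add' := map_add Y.proj
      commutes' := fun p => hu p }
  incl := Y.incl
  isExtension :=
    { proj_surjective := Y.isExtension.proj_surjective
      incl_injective := Y.isExtension.incl_injective
      exact := Y.isExtension.exact
      mul_incl := Y.isExtension.mul_incl }

lemma incl_idealToKer_ofLift (Y : Exal.Ext Λ (P ⧸ J) L) (u : P →ₐ[Λ] Y.E)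
    (hu : ∀ p, Y.proj (u p) = Ideal.Quotient.mk J p) (z : J) :
    Y.incl ((ofLift J Y u hu).idealToKer J z) = u z :=
  incl_idealToKer J (ofLift J Y u hu) z

/-- An equivalence of the `P`-extensions gives an equivalence of the `Λ`-extensions. -/
def equivOfLift (Y Y' : Exal.Ext Λ (P ⧸ J) L) (u : P →ₐ[Λ] Y.E) (u' : P →ₐ[Λ] Y'.E)
    (hu : ∀ p, Y.proj (u p) = Ideal.Quotient.mk J p)
    (hu' : ∀ p, Y'.proj (u' p) = Ideal.Quotient.mk J p)
    (e : (ofLift J Y u hu).Equiv (ofLift J Y' u' hu')) : Y.Equiv Y' where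
  toAlgEquiv :=
    { (e.toAlgEquiv.toRingEquiv : Y.E ≃+* Y'.E) with
      commutes' := fun l => by
        have h1 : algebraMap Λ Y.E l = u (algebraMap Λ P l) := (u.commutes l).symm
        have h2 : algebraMap Λ Y'.E l = u' (algebraMap Λ P l) := (u'.commutes l).symm
        show e.toAlgEquiv (algebraMap Λ Y.E l) = algebraMap Λ Y'.E l
        rw [h1, h2]
        exact e.toAlgEquiv.commutes (algebraMap Λ P l) }
  proj_apply := e.proj_apply
  apply_incl := e.apply_incl

end OfLift

end Groth.Agent.Lib.T2H8.Deform
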