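import Groth.Agent.Lib.T2H8DeformA

/-!
# Extensions of a quotient of a power series ring by a simple module, part B (S11287 (b), (c))
-/

set_option autoImplicit false
universe u

namespace Groth.Agent.Lib.T2H8.Deform

open Exal MvPowerSeries Groth.Agent.Lib.Helper7.ExalLib

section Classify

variable {Λ : Type u} [CommRing Λ]
  {d : ℕ} (J : Ideal (MvPowerSeries (Fin d) Λ))
  {L : Type u} [AddCommGroup L] [Module (MvPowerSeries (Fin d) Λ ⧸ J) L]
  [Module (MvPowerSeries (Fin d) Λ) L]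
  [IsScalarTower (MvPowerSeries (Fin d) Λ) (MvPowerSeries (Fin d) Λ ⧸ J) L]

/-- Two lifts of the quotient map agree on `J` up to an equivalence of extensions
(derivations into a simple module kill the square of the ideal of the variables). -/
lemma equiv_apply_lift_eq [IsSimpleModule (MvPowerSeries (Fin d) Λ ⧸ J) L]
    (hJ : J ≤ Ideal.span (Set.range (X : Fin d → MvPowerSeries (Fin d) Λ)) ^ 2)
    (Y Y' : Exal.Ext Λ (MvPowerSeries (Fin d) Λ ⧸ J) L)
    (u : MvPowerSeries (Fin d) Λ →ₐ[Λ] Y.E) (u' : MvPowerSeries (Fin d) Λ →ₐ[Λ] Y'.E)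
    (hu : ∀ p, Y.proj (u p) = Ideal.Quotient.mk J p)
    (hu' : ∀ p, Y'.proj (u' p) = Ideal.Quotient.mk J p) (φ : Y.Equiv Y')
    {j : MvPowerSeries (Fin d) Λ} (hj : j ∈ J) : φ.toAlgEquiv (u j) = u' j := by
  have hD : ∀ a : MvPowerSeries (Fin d) Λ, ∃ w : L, φ.toAlgEquiv (u a) - u' a = Y'.incl w := by
    intro a
    have h0 : Y'.proj (φ.toAlgEquiv (u a) - u' a) = 0 := by
      rw [map_sub, φ.proj_apply, hu, hu', sub_self]
    obtain ⟨w, hw⟩ := (Y'.isExtension.exact _).1 h0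
    exact ⟨w, hw.symm⟩
  have key : ∀ a ∈ Ideal.span (Set.range (X : Fin d → MvPowerSeries (Fin d) Λ)),
      ∀ b ∈ Ideal.span (Set.range (X : Fin d → MvPowerSeries (Fin d) Λ)),
        φ.toAlgEquiv (u (a * b)) = u' (a * b) := by
    intro a ha b hb
    obtain ⟨wa, hwa⟩ := hD a
    obtain ⟨wb, hwb⟩ := hD b
    have e1 : φ.toAlgEquiv (u (a * b)) - u' (a * b) =
        φ.toAlgEquiv (u a) * (φ.toAlgEquiv (u b) - u' b) +
          (φ.toAlgEquiv (u a) - u' a) * u' b := by
      rw [map_mul, map_mul, map_mul]; ring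
    rw [← sub_eq_zero, e1, hwa, hwb, Y'.isExtension.mul_incl, mul_comm (Y'.incl wa),
      Y'.isExtension.mul_incl, φ.proj_apply, hu, hu',
      smul_eq_zero_of_mem_varsIdeal J ha, smul_eq_zero_of_mem_varsIdeal J hb, map_zero, add_zero]
  have hj2 : j ∈ Ideal.span (Set.range (X : Fin d → MvPowerSeries (Fin d) Λ)) *
      Ideal.span (Set.range (X : Fin d → MvPowerSeries (Fin d) Λ)) := by
    rw [← pow_two]; exact hJ hj
  refine Submodule.mul_induction_on hj2 key ?_
  intro x y hx hy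
  rw [map_add, map_add, map_add, hx, hy]

/-- S11287 (b). -/
theorem nonempty_equiv_iff [IsSimpleModule (MvPowerSeries (Fin d) Λ ⧸ J) L]
    (hJ : J ≤ Ideal.span (Set.range (X : Fin d → MvPowerSeries (Fin d) Λ)) ^ 2)
    (Y Y' : Exal.Ext Λ (MvPowerSeries (Fin d) Λ ⧸ J) L)
    (u : MvPowerSeries (Fin d) Λ →ₐ[Λ] Y.E) (u' : MvPowerSeries (Fin d) Λ →ₐ[Λ] Y'.E)
    (hu : ∀ p, Y.proj (u p) = Ideal.Quotient.mk J p)
    (hu' : ∀ p, Y'.proj (u' p) = Ideal.Quotient.mk J p) :
    Nonempty (Y.Equiv Y') ↔ ∀ j ∈ J, ∃ z : L, Y.incl z = u j ∧ Y'.incl z = u' j := by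
  constructor
  · rintro ⟨φ⟩ j hj
    have h0 : Y.proj (u j) = 0 := by rw [hu, Ideal.Quotient.eq_zero_iff_mem.mpr hj]
    refine ⟨Y.kerLift (u j) h0, Y.incl_kerLift _ _, ?_⟩
    rw [← φ.apply_incl, Y.incl_kerLift]
    exact equiv_apply_lift_eq J hJ Y Y' u u' hu hu' φ hj
  · intro h
    have hk : (ofLift J Y u hu).idealToKer J = (ofLift J Y' u' hu').idealToKer J := by
      apply LinearMap.ext
      intro z
      obtain ⟨w, hw, hw'⟩ := h z z.2
      have e1 : (ofLift J Y u hu).idealToKer J z = w :=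
        Y.isExtension.incl_injective (by rw [incl_idealToKer_ofLift, hw])
      have e2 : (ofLift J Y' u' hu').idealToKer J z = w :=
        Y'.isExtension.incl_injective (by rw [incl_idealToKer_ofLift, hw'])
      rw [e1, e2]
    have hc : (ofLift J Y u hu).conormalMap J = (ofLift J Y' u' hu').conormalMap J := by
      apply LinearMap.ext
      intro c
      obtain ⟨z, rfl⟩ := J.toCotangent_surjective c
      rw [← idealToKer_eq, ← idealToKer_eq, hk]
    exact ⟨equivOfLift J Y Y' u u' hu hu' (equivOfConormalEq J _ _ hc)⟩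

/-- S11287 (c). -/
theorem exists_ext_of_linearMap (δ : J →ₗ[MvPowerSeries (Fin d) Λ] L) :
    ∃ (Y : Exal.Ext Λ (MvPowerSeries (Fin d) Λ ⧸ J) L) (u : MvPowerSeries (Fin d) Λ →ₐ[Λ] Y.E),
      (∀ p, Y.proj (u p) = Ideal.Quotient.mk J p) ∧ ∀ j : J, Y.incl (δ j) = u j := by
  refine ⟨(extOfLinear J δ).restrictBase Λ,
    { (algebraMap (MvPowerSeries (Fin d) Λ) (extOfLinear J δ).E :
        MvPowerSeries (Fin d) Λ →+* ((extOfLinear J δ).restrictBase Λ).E) with
      commutes' := fun l => rfl }, ?_, ?_⟩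
  · intro p
    exact (extOfLinear J δ).proj.commutes p
  · intro j
    have h1 := incl_idealToKer J (extOfLinear J δ) j
    rw [idealToKer_extOfLinear] at h1
    exact h1

end Classify

end Groth.Agent.Lib.T2H8.Deform
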