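import Groth.Agent.Lib.Helper7Exal

/-!
# Extensions of a local ring by a simple module (Deform, S11282/S11283)

General facts on `Exal.Ext A B L`: the projection is a local homomorphism (square-zero kernel), so the
middle ring of an extension of a local ring is local, its maximal ideal maps onto the maximal ideal of
`B` (also in powers).  For `L` simple and `B` Noetherian local, the middle ring is Noetherian, its maximal
ideal kills the kernel and some power of its maximal ideal meets the kernel trivially (Krull).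
-/

set_option autoImplicit false
set_option linter.unusedSectionVars false
universe u v

namespace Groth.Agent.Lib.T2H8.DeformC

open Exal IsLocalRing Groth.Agent.Lib.Helper7.ExalLib

section General

variable {A : Type u} {B L : Type v} [CommRing A] [CommRing B] [Algebra A B] [AddCommGroup L]
  [Module B L] (X : Exal.Ext A B L)

lemma isUnit_of_isUnit_proj (a : X.E) (h : IsUnit (X.proj a)) : IsUnit a := by
  obtain ⟨r, hr⟩ := h.exists_right_inv
  obtain ⟨a', rfl⟩ := X.isExtension.proj_surjective r
  have h1 : X.proj (a * a' - 1) = 0 := by rw [map_sub, map_mul, hr, map_one, sub_self]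
  obtain ⟨z, hz⟩ := (X.isExtension.exact _).1 h1
  have h2 : X.incl z * X.incl z = 0 := incl_mul_incl X z z
  have h3 : a * a' = 1 + X.incl z := by rw [hz]; ring
  refine IsUnit.of_mul_eq_one (a' * (1 - X.incl z)) ?_
  rw [← mul_assoc, h3]
  linear_combination (-1 : X.E) * h2

instance isLocalHom_proj : IsLocalHom (X.proj : X.E →+* B) :=
  ⟨fun a ha => isUnit_of_isUnit_proj X a ha⟩

theorem isLocalRing_E [IsLocalRing B] : IsLocalRing X.E :=
  RingHom.domain_isLocalRing (X.proj : X.E →+* B)

lemma mem_maximalIdeal_E_iff [IsLocalRing B] [IsLocalRing X.E] (e : X.E) :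
    e ∈ maximalIdeal X.E ↔ X.proj e ∈ maximalIdeal B := by
  rw [mem_maximalIdeal, mem_maximalIdeal, mem_nonunits_iff, mem_nonunits_iff, not_iff_not]
  exact ⟨fun h => h.map X.proj, isUnit_of_isUnit_proj X e⟩

lemma map_proj_maximalIdeal [IsLocalRing B] [IsLocalRing X.E] :
    Ideal.map (X.proj : X.E →+* B) (maximalIdeal X.E) = maximalIdeal B := by
  apply le_antisymm
  · rw [Ideal.map_le_iff_le_comap]
    intro e he
    exact (mem_maximalIdeal_E_iff X e).1 he
  · intro b hb
    obtain ⟨e, rfl⟩ := X.isExtension.proj_surjective b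
    exact Ideal.mem_map_of_mem _ ((mem_maximalIdeal_E_iff X e).2 hb)

lemma map_proj_maximalIdeal_pow [IsLocalRing B] [IsLocalRing X.E] (n : ℕ) :
    Ideal.map (X.proj : X.E →+* B) (maximalIdeal X.E ^ n) = maximalIdeal B ^ n := by
  rw [Ideal.map_pow, map_proj_maximalIdeal]

/-- Elements of an ideal of the middle ring lying over a given element of the image of the ideal. -/
lemma exists_mem_proj_eq (I : Ideal X.E) {b : B} (hb : b ∈ Ideal.map (X.proj : X.E →+* B) I) :
    ∃ e ∈ I, X.proj e = b :=
  (Ideal.mem_map_iff_of_surjective (X.proj : X.E →+* B) X.isExtension.proj_surjective).1 hb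

end General

section Simple

variable {A : Type u} {B L : Type v} [CommRing A] [CommRing B] [Algebra A B] [AddCommGroup L]
  [Module B L] [IsLocalRing B] [IsSimpleModule B L] (X : Exal.Ext A B L)

omit [CommRing A] [Algebra A B] in
lemma smul_eq_zero_of_mem_maximalIdeal {b : B} (hb : b ∈ maximalIdeal B) (z : L) : b • z = 0 := by
  have hmax := IsSimpleModule.annihilator_isMaximal (R := B) (M := L)
  have h1 : Module.annihilator B L = maximalIdeal B := IsLocalRing.eq_maximalIdeal hmax
  rw [← h1] at hb
  exact Module.mem_annihilator.1 hb z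

lemma mul_incl_eq_zero [IsLocalRing X.E] {e : X.E} (he : e ∈ maximalIdeal X.E) (z : L) :
    e * X.incl z = 0 := by
  rw [X.isExtension.mul_incl,
    smul_eq_zero_of_mem_maximalIdeal ((mem_maximalIdeal_E_iff X e).1 he), map_zero]

/-- An ideal containing a nonzero element of the kernel contains the kernel. -/
lemma incl_mem_of_ne_zero (N : Ideal X.E) (x : X.E) (hx : x ∈ N) (hx0 : x ≠ 0)
    (hpx : X.proj x = 0) (w : L) : X.incl w ∈ N := by
  obtain ⟨z, rfl⟩ := (X.isExtension.exact x).1 hpx
  have hz : z ≠ 0 := by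
    rintro rfl
    exact hx0 (map_zero _)
  obtain ⟨r, hr⟩ := IsSimpleModule.toSpanSingleton_surjective B hz w
  obtain ⟨e, rfl⟩ := X.isExtension.proj_surjective r
  rw [LinearMap.toSpanSingleton_apply] at hr
  rw [← hr, ← X.isExtension.mul_incl]
  exact N.mul_mem_left e hx

theorem isNoetherianRing_E [IsNoetherianRing B] : IsNoetherianRing X.E := by
  haveI := IsSimpleModule.nontrivial B L
  obtain ⟨z₀, hz₀⟩ := exists_ne (0 : L)
  rw [isNoetherianRing_iff_ideal_fg]
  intro I
  have h1 : (Ideal.map (X.proj : X.E →+* B) I).FG := IsNoetherian.noetherian _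
  obtain ⟨T, hT⟩ := h1
  have hT' : ∀ t ∈ T, ∃ e ∈ I, X.proj e = t := by
    intro t ht
    have : t ∈ Ideal.map (X.proj : X.E →+* B) I := by
      rw [← hT]; exact Ideal.subset_span ht
    exact exists_mem_proj_eq X I this
  choose! f hfI hfp using hT'
  classical
  let S : Finset X.E := T.image f
  have hSI : Ideal.span (S : Set X.E) ≤ I := by
    rw [Ideal.span_le]
    intro s hs
    rw [Finset.mem_coe, Finset.mem_image] at hs
    obtain ⟨t, ht, rfl⟩ := hs
    exact hfI t ht
  have hmap : Ideal.map (X.proj : X.E →+* B) I ≤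
      Ideal.map (X.proj : X.E →+* B) (Ideal.span (S : Set X.E)) := by
    rw [← hT, Ideal.span_le]
    intro t ht
    rw [← hfp t ht]
    exact Ideal.mem_map_of_mem _
      (Ideal.subset_span (Finset.mem_coe.2 (Finset.mem_image_of_mem f ht)))
  by_cases hK : ∃ x ∈ I, x ≠ 0 ∧ X.proj x = 0
  · obtain ⟨x0, hx0I, hx00, hx0p⟩ := hK
    have hgen : ∀ w, X.incl w ∈ I := incl_mem_of_ne_zero X I x0 hx0I hx00 hx0p
    refine ⟨insert (X.incl z₀) S, le_antisymm ?_ ?_⟩
    · rw [Finset.coe_insert, Ideal.span_le]
      intro s hs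
      rcases hs with rfl | hs
      · exact hgen z₀
      · exact hSI (Ideal.subset_span hs)
    · intro x hx
      have h2 := hmap (Ideal.mem_map_of_mem _ hx)
      obtain ⟨y, hy, hyx⟩ := exists_mem_proj_eq X _ h2
      have h3 : X.proj (x - y) = 0 := by
        rw [map_sub]
        exact sub_eq_zero.2 hyx.symm
      obtain ⟨z, hz⟩ := (X.isExtension.exact _).1 h3
      have h5 : X.incl z ∈ Ideal.span (insert (X.incl z₀) (S : Set X.E)) := by
        apply incl_mem_of_ne_zero X _ (X.incl z₀) (Ideal.subset_span (Set.mem_insert _ _))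
        · intro h
          exact hz₀ (X.isExtension.incl_injective (h.trans (map_zero _).symm))
        · exact proj_incl X z₀
      have h4 : x = y + X.incl z := by rw [hz]; ring
      rw [h4, Finset.coe_insert]
      exact Ideal.add_mem _ (Ideal.span_mono (Set.subset_insert _ _) hy) h5
  · push Not at hK
    refine ⟨S, le_antisymm hSI ?_⟩
    intro x hx
    have h2 := hmap (Ideal.mem_map_of_mem _ hx)
    obtain ⟨y, hy, hyx⟩ := exists_mem_proj_eq X _ h2
    have h3 : X.proj (x - y) = 0 := by
      rw [map_sub]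
      exact sub_eq_zero.2 hyx.symm
    have h4 : x - y = 0 := by
      by_contra hne
      exact hK (x - y) (I.sub_mem hx (hSI hy)) hne h3
    rw [sub_eq_zero.1 h4]
    exact hy

/-- Krull: some power of the maximal ideal of the middle ring meets the kernel trivially. -/
theorem exists_pow_inf_ker_eq_bot [IsNoetherianRing B] [IsLocalRing X.E] :
    ∃ n : ℕ, ∀ x ∈ maximalIdeal X.E ^ n, X.proj x = 0 → x = 0 := by
  haveI := isNoetherianRing_E X
  haveI := IsSimpleModule.nontrivial B L
  obtain ⟨z₀, hz₀⟩ := exists_ne (0 : L)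
  have hz₀' : X.incl z₀ ≠ 0 := fun h =>
    hz₀ (X.isExtension.incl_injective (h.trans (map_zero _).symm))
  have hkrull : (⨅ n : ℕ, maximalIdeal X.E ^ n) = ⊥ :=
    Ideal.iInf_pow_eq_bot_of_isLocalRing _ (IsLocalRing.maximalIdeal.isMaximal _).ne_top
  by_contra hcon
  push Not at hcon
  apply hz₀'
  have : X.incl z₀ ∈ (⨅ n : ℕ, maximalIdeal X.E ^ n) := by
    rw [Ideal.mem_iInf]
    intro n
    obtain ⟨x, hx, hpx, hx0⟩ := hcon n
    exact incl_mem_of_ne_zero X _ x hx hx0 hpx z₀
  rw [hkrull] at this
  exact this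

lemma pow_inf_ker_mono [IsLocalRing X.E] {n n' : ℕ} (hnn : n ≤ n')
    (h : ∀ x ∈ maximalIdeal X.E ^ n, X.proj x = 0 → x = 0) :
    ∀ x ∈ maximalIdeal X.E ^ n', X.proj x = 0 → x = 0 :=
  fun x hx hpx => h x (Ideal.pow_le_pow_right hnn hx) hpx

end Simple

end Groth.Agent.Lib.T2H8.DeformC
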