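import Groth.Agent.Lib.Helper7ExalBaer

/-!
# Gluing an extension from a truncation (Deform, S11282/S11283)

For an `A`-extension `Y` of `B` by `L`, an ideal `I` of its middle ring meeting the kernel trivially, with
image `K` in `B`, and an `A`-algebra map `ρ : B' → B ⧸ K` compatible with the actions on `L`, the fibre
product `(Y.E ⧸ I) ×_{B ⧸ K} B'` is an `A`-extension `cons` of `B'` by `L`.

* `consPullbackEquiv`: when `ρ` extends the quotient map along `B → B'`, the inverse image of `cons` over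
  `B` is `Y` again.
* `nonempty_equiv_cons`: an extension `X` of `B'` receiving a morphism from `Y` over `B → B'` is
  equivalent to `cons`, as soon as an ideal `N` of `X.E` meeting the kernel trivially contains the image
  of `I` and maps onto the kernel of `ρ`.
-/

set_option autoImplicit false
set_option linter.unusedSectionVars false
universe u v

namespace Groth.Agent.Lib.T2H8.DeformD

open Exal Groth.Agent.Lib.Helper7.ExalLib

section Cons

variable {A : Type u} {B L : Type v} [CommRing A] [CommRing B] [Algebra A B] [AddCommGroup L]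
  [Module B L] (Y : Exal.Ext A B L) (I : Ideal Y.E) (K : Ideal B)
  {B' : Type v} [CommRing B'] [Algebra A B'] [Module B' L] (ρ : B' →ₐ[A] B ⧸ K)

/-- The map `Y.E ⧸ I → B ⧸ K` induced by the projection. -/
noncomputable def projBar (hle : ∀ x ∈ I, Y.proj x ∈ K) : Y.E ⧸ I →ₐ[A] B ⧸ K :=
  Ideal.Quotient.liftₐ I ((Ideal.Quotient.mkₐ A K).comp Y.proj) (fun x hx => by
    rw [AlgHom.comp_apply, Ideal.Quotient.mkₐ_eq_mk, Ideal.Quotient.eq_zero_iff_mem]
    exact hle x hx)

lemma projBar_mk (hle : ∀ x ∈ I, Y.proj x ∈ K) (e : Y.E) :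
    projBar Y I K hle (Ideal.Quotient.mk I e) = Ideal.Quotient.mk K (Y.proj e) := rfl

/-- The fibre product `(Y.E ⧸ I) ×_{B ⧸ K} B'`. -/
noncomputable def consSub (hle : ∀ x ∈ I, Y.proj x ∈ K) : Subalgebra A ((Y.E ⧸ I) × B') :=
  AlgHom.equalizer ((projBar Y I K hle).comp (AlgHom.fst A (Y.E ⧸ I) B'))
    (ρ.comp (AlgHom.snd A (Y.E ⧸ I) B'))

lemma mem_consSub (hle : ∀ x ∈ I, Y.proj x ∈ K) (p : (Y.E ⧸ I) × B') :
    p ∈ consSub Y I K ρ hle ↔ projBar Y I K hle p.1 = ρ p.2 := Iff.rfl

/-- The extension `(Y.E ⧸ I) ×_{B ⧸ K} B'` of `B'` by `L`. -/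
noncomputable def cons (hle : ∀ x ∈ I, Y.proj x ∈ K) (hK : ∀ b ∈ K, ∃ x ∈ I, Y.proj x = b)
    (hI : ∀ x ∈ I, Y.proj x = 0 → x = 0)
    (hρ : ∀ (b' : B') (b : B), ρ b' = Ideal.Quotient.mk K b → ∀ z : L, b' • z = b • z) :
    Exal.Ext A B' L where
  E := consSub Y I K ρ hle
  proj := (AlgHom.snd A (Y.E ⧸ I) B').comp (consSub Y I K ρ hle).val
  incl :=
    { toFun := fun z => ⟨(Ideal.Quotient.mk I (Y.incl z), 0), by
        rw [mem_consSub, projBar_mk, proj_incl, map_zero, map_zero]⟩
      map_zero' := by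
        apply Subtype.ext
        apply Prod.ext <;> simp
      map_add' := fun z z' => by
        apply Subtype.ext
        apply Prod.ext <;> simp }
  isExtension :=
    { proj_surjective := fun b' => by
        obtain ⟨b, hb⟩ := Ideal.Quotient.mk_surjective (ρ b')
        obtain ⟨e, he⟩ := Y.isExtension.proj_surjective b
        exact ⟨⟨(Ideal.Quotient.mk I e, b'), by
          rw [mem_consSub, projBar_mk, he, hb]⟩, rfl⟩
      incl_injective := fun z z' h => by
        have h1 : Ideal.Quotient.mk I (Y.incl z) = Ideal.Quotient.mk I (Y.incl z') :=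
          congrArg (fun e : consSub Y I K ρ hle => e.1.1) h
        rw [Ideal.Quotient.eq, ← map_sub] at h1
        have h2 := hI _ h1 (proj_incl Y _)
        have h3 := Y.isExtension.incl_injective (h2.trans (map_zero Y.incl).symm)
        exact sub_eq_zero.1 h3
      exact := fun x => by
        obtain ⟨⟨q, b'⟩, hx⟩ := x
        obtain ⟨e, rfl⟩ := Ideal.Quotient.mk_surjective q
        rw [mem_consSub, projBar_mk] at hx
        constructor
        · intro hb
          change b' = 0 at hb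
          subst hb
          rw [map_zero, Ideal.Quotient.eq_zero_iff_mem] at hx
          obtain ⟨i, hiI, hi⟩ := hK _ hx
          have h1 : Y.proj (e - i) = 0 := by rw [map_sub, hi, sub_self]
          obtain ⟨z, hz⟩ := (Y.isExtension.exact _).1 h1
          refine ⟨z, ?_⟩
          apply Subtype.ext
          apply Prod.ext
          · change Ideal.Quotient.mk I (Y.incl z) = Ideal.Quotient.mk I e
            rw [hz, Ideal.Quotient.eq]
            have : e - i - e = -i := by ring
            rw [this]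
            exact I.neg_mem hiI
          · rfl
        · rintro ⟨z, hz⟩
          have := congrArg (fun e : consSub Y I K ρ hle => e.1.2) hz
          exact this.symm
      mul_incl := fun x z => by
        obtain ⟨⟨q, b'⟩, hx⟩ := x
        obtain ⟨e, rfl⟩ := Ideal.Quotient.mk_surjective q
        rw [mem_consSub, projBar_mk] at hx
        apply Subtype.ext
        apply Prod.ext
        · change Ideal.Quotient.mk I e * Ideal.Quotient.mk I (Y.incl z) =
            Ideal.Quotient.mk I (Y.incl (b' • z))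
          rw [← map_mul, Y.isExtension.mul_incl, hρ b' (Y.proj e) hx.symm z]
        · change b' * 0 = 0
          exact mul_zero _ }

end Cons

section ConsPullback

variable {A : Type u} {B L : Type v} [CommRing A] [CommRing B] [Algebra A B] [AddCommGroup L]
  [Module B L] (Y : Exal.Ext A B L) (I : Ideal Y.E) (K : Ideal B)
  {B' : Type v} [CommRing B'] [Algebra A B'] [Module B' L] (ρ : B' →ₐ[A] B ⧸ K)
  [Algebra B B'] [IsScalarTower A B B'] [IsScalarTower B B' L]

/-- The inverse image over `B` of the glued extension is the original extension. -/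
theorem nonempty_pullback_cons_equiv (hle : ∀ x ∈ I, Y.proj x ∈ K)
    (hK : ∀ b ∈ K, ∃ x ∈ I, Y.proj x = b)
    (hI : ∀ x ∈ I, Y.proj x = 0 → x = 0)
    (hρ : ∀ (b' : B') (b : B), ρ b' = Ideal.Quotient.mk K b → ∀ z : L, b' • z = b • z)
    (hρalg : ∀ b : B, ρ (algebraMap B B' b) = Ideal.Quotient.mk K b) :
    Nonempty (((cons Y I K ρ hle hK hI hρ).pullback B).Equiv Y) := by
  let g1 : Y.E →ₐ[A] (Y.E ⧸ I) × B' :=
    AlgHom.prod (Ideal.Quotient.mkₐ A I) ((IsScalarTower.toAlgHom A B B').comp Y.proj)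
  have hg1 : ∀ e, g1 e ∈ consSub Y I K ρ hle := by
    intro e
    rw [mem_consSub]
    change projBar Y I K hle (Ideal.Quotient.mk I e) = ρ (algebraMap B B' (Y.proj e))
    rw [projBar_mk, hρalg]
  let g1' : Y.E →ₐ[A] (cons Y I K ρ hle hK hI hρ).E := g1.codRestrict _ hg1
  let g2 : Y.E →ₐ[A] (cons Y I K ρ hle hK hI hρ).E × B := AlgHom.prod g1' Y.proj
  have hg2 : ∀ e, g2 e ∈ (cons Y I K ρ hle hK hI hρ).fiberProd B := by
    intro e
    change (cons Y I K ρ hle hK hI hρ).proj (g1' e) = algebraMap B B' (Y.proj e)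
    rfl
  let g2' : Y.E →ₐ[A] ((cons Y I K ρ hle hK hI hρ).pullback B).E := g2.codRestrict _ hg2
  refine ⟨(equivOfHom g2' (fun e => rfl) (fun z => ?_)).symm⟩
  apply Subtype.ext
  apply Prod.ext
  · apply Subtype.ext
    apply Prod.ext
    · rfl
    · change algebraMap B B' (Y.proj (Y.incl z)) = 0
      rw [proj_incl, map_zero]
  · change Y.proj (Y.incl z) = 0
    exact proj_incl Y z

end ConsPullback

section Rec

variable {A : Type u} {B L : Type v} [CommRing A] [CommRing B] [Algebra A B] [AddCommGroup L]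
  [Module B L] (Y : Exal.Ext A B L) (I : Ideal Y.E) (K : Ideal B)
  {B' : Type v} [CommRing B'] [Algebra A B'] [Module B' L] (ρ : B' →ₐ[A] B ⧸ K)
  [Algebra B B'] [IsScalarTower A B B'] [IsScalarTower B B' L]
  (X : Exal.Ext A B' L) (j : Y.E →ₐ[A] X.E) (N : Ideal X.E)

/-- An extension of `B'` receiving a morphism from `Y` over `B → B'` is the glued extension. -/
theorem nonempty_equiv_cons (hle : ∀ x ∈ I, Y.proj x ∈ K)
    (hK : ∀ b ∈ K, ∃ x ∈ I, Y.proj x = b)
    (hI : ∀ x ∈ I, Y.proj x = 0 → x = 0)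
    (hρ : ∀ (b' : B') (b : B), ρ b' = Ideal.Quotient.mk K b → ∀ z : L, b' • z = b • z)
    (hρalg : ∀ b : B, ρ (algebraMap B B' b) = Ideal.Quotient.mk K b)
    (hjp : ∀ y, X.proj (j y) = algebraMap B B' (Y.proj y))
    (hji : ∀ z, j (Y.incl z) = X.incl z)
    (hN : ∀ x ∈ N, X.proj x = 0 → x = 0)
    (hjI : ∀ y ∈ I, j y ∈ N)
    (hρN : ∀ ν ∈ N, ρ (X.proj ν) = 0)
    (hρker : ∀ b' : B', ρ b' = 0 → ∃ ν ∈ N, X.proj ν = b') :
    Nonempty (X.Equiv (cons Y I K ρ hle hK hI hρ)) := by
  have hIN : I ≤ N.comap j := fun y hy => hjI y hy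
  let jbar : Y.E ⧸ I →ₐ[A] X.E ⧸ N := Ideal.quotientMapₐ N j hIN
  have hjbar : ∀ y, jbar (Ideal.Quotient.mk I y) = Ideal.Quotient.mk N (j y) := fun y => rfl
  have hinj : Function.Injective jbar := by
    rw [injective_iff_map_eq_zero]
    intro q hq
    obtain ⟨y, rfl⟩ := Ideal.Quotient.mk_surjective q
    rw [hjbar, Ideal.Quotient.eq_zero_iff_mem] at hq
    rw [Ideal.Quotient.eq_zero_iff_mem]
    have h1 := hρN _ hq
    rw [hjp, hρalg, Ideal.Quotient.eq_zero_iff_mem] at h1
    obtain ⟨y0, hy0I, hy0⟩ := hK _ h1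
    have h2 : Y.proj (y - y0) = 0 := by rw [map_sub, hy0, sub_self]
    obtain ⟨z, hz⟩ := (Y.isExtension.exact _).1 h2
    have h3 : X.incl z ∈ N := by
      rw [← hji, hz, map_sub]
      exact N.sub_mem hq (hjI y0 hy0I)
    have h4 := hN _ h3 (proj_incl X z)
    have h5 : z = 0 := X.isExtension.incl_injective (h4.trans (map_zero X.incl).symm)
    rw [h5, map_zero] at hz
    have h6 : y = y0 := (sub_eq_zero.1 hz.symm)
    rw [h6]
    exact hy0I
  have hsurj : Function.Surjective jbar := by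
    intro q
    obtain ⟨x, rfl⟩ := Ideal.Quotient.mk_surjective q
    obtain ⟨b, hb⟩ := Ideal.Quotient.mk_surjective (ρ (X.proj x))
    obtain ⟨y, rfl⟩ := Y.isExtension.proj_surjective b
    have h1 : ρ (X.proj x - algebraMap B B' (Y.proj y)) = 0 := by
      rw [map_sub, hρalg, hb, sub_self]
    obtain ⟨ν, hνN, hν⟩ := hρker _ h1
    have h2 : X.proj (x - j y - ν) = 0 := by
      rw [map_sub, map_sub, hjp, hν, sub_self]
    obtain ⟨z, hz⟩ := (X.isExtension.exact _).1 h2
    refine ⟨Ideal.Quotient.mk I (y + Y.incl z), ?_⟩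
    rw [hjbar, Ideal.Quotient.eq, map_add, hji, hz]
    have : j y + (x - j y - ν) - x = -ν := by ring
    rw [this]
    exact N.neg_mem hνN
  let ebar : (Y.E ⧸ I) ≃ₐ[A] (X.E ⧸ N) := AlgEquiv.ofBijective jbar ⟨hinj, hsurj⟩
  let σ : X.E →ₐ[A] Y.E ⧸ I := (ebar.symm : (X.E ⧸ N) →ₐ[A] (Y.E ⧸ I)).comp (Ideal.Quotient.mkₐ A N)
  have hσ : ∀ (x : X.E) (y : Y.E), x - j y ∈ N → σ x = Ideal.Quotient.mk I y := by
    intro x y hxy
    change ebar.symm (Ideal.Quotient.mk N x) = Ideal.Quotient.mk I y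
    rw [AlgEquiv.symm_apply_eq]
    change Ideal.Quotient.mk N x = jbar (Ideal.Quotient.mk I y)
    rw [hjbar, Ideal.Quotient.eq]
    exact hxy
  have hσ' : ∀ x : X.E, ∃ y : Y.E, x - j y ∈ N ∧ σ x = Ideal.Quotient.mk I y := by
    intro x
    obtain ⟨y, hy⟩ := Ideal.Quotient.mk_surjective (σ x)
    refine ⟨y, ?_, hy.symm⟩
    have h1 : ebar (σ x) = Ideal.Quotient.mk N x := ebar.apply_symm_apply _
    rw [← hy] at h1
    change jbar (Ideal.Quotient.mk I y) = _ at h1
    rw [hjbar, Ideal.Quotient.eq] at h1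
    have : x - j y = -(j y - x) := by ring
    rw [this]
    exact N.neg_mem h1
  let g1 : X.E →ₐ[A] (Y.E ⧸ I) × B' := AlgHom.prod σ X.proj
  have hg1 : ∀ x, g1 x ∈ consSub Y I K ρ hle := by
    intro x
    rw [mem_consSub]
    change projBar Y I K hle (σ x) = ρ (X.proj x)
    obtain ⟨y, hyN, hy⟩ := hσ' x
    rw [hy, projBar_mk]
    have h1 : X.proj x = X.proj (x - j y) + algebraMap B B' (Y.proj y) := by
      rw [map_sub, hjp]; ring
    rw [h1, map_add, hρN _ hyN, zero_add, hρalg]
  let Φ : X.E →ₐ[A] (cons Y I K ρ hle hK hI hρ).E := g1.codRestrict _ hg1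
  refine ⟨equivOfHom Φ (fun x => rfl) (fun z => ?_)⟩
  apply Subtype.ext
  apply Prod.ext
  · change σ (X.incl z) = Ideal.Quotient.mk I (Y.incl z)
    apply hσ
    rw [hji, sub_self]
    exact N.zero_mem
  · change X.proj (X.incl z) = 0
    exact proj_incl X z

end Rec

end Groth.Agent.Lib.T2H8.DeformD
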