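import Groth.Agent.Lib.T2H8DeformC
import Groth.Agent.Lib.T2H8DeformD
import Groth.Agent.Lib.Helper19ComplNoeth

/-!
# Extensions of a Noetherian local ring and of its completion by a simple module (Deform, S11283)

Inverse image along `R → R̂` is a bijection on classes of `Λ`-extensions by a simple module `L`:
`completion_pullback_surjective`, `completion_pullback_injective`.
-/

set_option autoImplicit false
set_option linter.unusedSectionVars false
universe u

namespace Groth.Agent.Lib.T2H8.DeformE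

open Exal IsLocalRing Groth.Agent.Lib.Helper7.ExalLib Groth.Agent.Lib.T2H8.DeformC
  Groth.Agent.Lib.T2H8.DeformD

section Compl

variable {R : Type u} [CommRing R] [IsLocalRing R] [IsNoetherianRing R]

/-- The kernel of `R̂ → R/m^n` is the `n`-th power of the maximal ideal of `R̂`. -/
lemma evalₐ_eq_zero_iff (n : ℕ) (x : AdicCompletion (maximalIdeal R) R) :
    AdicCompletion.evalₐ (maximalIdeal R) n x = 0 ↔
      x ∈ maximalIdeal (AdicCompletion (maximalIdeal R) R) ^ n := by
  have fg : (maximalIdeal R).FG := (maximalIdeal R).fg_of_isNoetherianRing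
  rw [AdicCompletion.maximalIdeal_eq_map, ← Ideal.map_pow, ← Submodule.restrictScalars_mem R,
    ← Ideal.smul_top_eq_map, AdicCompletion.pow_smul_top_eq_ker_eval fg, LinearMap.mem_ker]
  constructor
  · intro h
    rw [← AdicCompletion.factor_evalₐ_eq_eval (maximalIdeal R) x (le_of_eq (Ideal.mul_top _).symm),
      h, map_zero]
  · intro h
    rw [← AdicCompletion.factor_eval_eq_evalₐ (maximalIdeal R) x (le_of_eq (Ideal.mul_top _)),
      h, map_zero]

instance isNoetherianRing_compl : IsNoetherianRing (AdicCompletion (maximalIdeal R) R) :=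
  Groth.Agent.Lib.Helper19.isNoetherianRing_adicCompletion _

variable (L : Type u) [AddCommGroup L] [Module (AdicCompletion (maximalIdeal R) R) L] [Module R L]
  [IsScalarTower R (AdicCompletion (maximalIdeal R) R) L] [IsSimpleModule R L]

lemma isSimpleModule_compl : IsSimpleModule (AdicCompletion (maximalIdeal R) R) L := by
  rw [isSimpleModule_iff_toSpanSingleton_surjective]
  refine ⟨IsSimpleModule.nontrivial R L, fun x hx z => ?_⟩
  obtain ⟨r, hr⟩ := IsSimpleModule.toSpanSingleton_surjective R hx z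
  refine ⟨algebraMap R (AdicCompletion (maximalIdeal R) R) r, ?_⟩
  rw [LinearMap.toSpanSingleton_apply] at hr ⊢
  rw [algebraMap_smul, hr]

variable {L}

lemma smul_eq_of_evalₐ_eq (n : ℕ) (x : AdicCompletion (maximalIdeal R) R) (r : R)
    (h : AdicCompletion.evalₐ (maximalIdeal R) (n + 1) x = Ideal.Quotient.mk _ r) (z : L) :
    x • z = r • z := by
  haveI := isSimpleModule_compl (R := R) L
  have h1 : AdicCompletion.evalₐ (maximalIdeal R) (n + 1)
      (x - algebraMap R (AdicCompletion (maximalIdeal R) R) r) = 0 := by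
    rw [map_sub, h, AlgHom.commutes]
    exact sub_self _
  rw [evalₐ_eq_zero_iff] at h1
  have h2 : x - algebraMap R (AdicCompletion (maximalIdeal R) R) r ∈
      maximalIdeal (AdicCompletion (maximalIdeal R) R) :=
    Ideal.pow_le_self (Nat.succ_ne_zero n) h1
  have h3 := smul_eq_zero_of_mem_maximalIdeal h2 z
  rw [sub_smul, algebraMap_smul, sub_eq_zero] at h3
  exact h3

end Compl

section LocalHom

variable {A : Type u} {B L : Type u} [CommRing A] [CommRing B] [Algebra A B] [AddCommGroup L]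
  [Module B L] {B' : Type u} [CommRing B'] [Algebra A B'] [Module B' L] [Algebra B B']
  [IsLocalRing B] [IsLocalRing B'] [IsLocalHom (algebraMap B B')]

lemma map_mem_maximalIdeal_pow {Y : Exal.Ext A B L} {X : Exal.Ext A B' L} [IsLocalRing Y.E]
    [IsLocalRing X.E] (j : Y.E →ₐ[A] X.E)
    (hjp : ∀ y, X.proj (j y) = algebraMap B B' (Y.proj y)) (n : ℕ) :
    ∀ y ∈ maximalIdeal Y.E ^ n, j y ∈ maximalIdeal X.E ^ n := by
  have h1 : Ideal.map (j : Y.E →+* X.E) (maximalIdeal Y.E) ≤ maximalIdeal X.E := by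
    rw [Ideal.map_le_iff_le_comap]
    intro y hy
    rw [Ideal.mem_comap]
    change j y ∈ _
    rw [mem_maximalIdeal_E_iff, hjp]
    exact map_nonunit _ _ ((mem_maximalIdeal_E_iff Y y).1 hy)
  intro y hy
  have h2 : (j : Y.E →+* X.E) y ∈ Ideal.map (j : Y.E →+* X.E) (maximalIdeal Y.E ^ n) :=
    Ideal.mem_map_of_mem _ hy
  rw [Ideal.map_pow] at h2
  exact Ideal.pow_right_mono h1 n h2

end LocalHom

section Main

variable {Λ : Type u} [CommRing Λ] {R : Type u} [CommRing R] [Algebra Λ R] [IsLocalRing R]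
  [IsNoetherianRing R]
  {L : Type u} [AddCommGroup L] [Module (AdicCompletion (maximalIdeal R) R) L] [Module R L]
  [IsScalarTower R (AdicCompletion (maximalIdeal R) R) L] [IsSimpleModule R L]

/-- The truncation map `R̂ → R/m^n` as a `Λ`-algebra map. -/
noncomputable def rho (n : ℕ) :
    AdicCompletion (maximalIdeal R) R →ₐ[Λ] R ⧸ maximalIdeal R ^ n :=
  (AdicCompletion.evalₐ (maximalIdeal R) n).restrictScalars Λ

lemma rho_apply (n : ℕ) (x : AdicCompletion (maximalIdeal R) R) :
    rho (Λ := Λ) n x = AdicCompletion.evalₐ (maximalIdeal R) n x := rfl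

lemma rho_algebraMap (n : ℕ) (r : R) :
    rho (Λ := Λ) n (algebraMap R (AdicCompletion (maximalIdeal R) R) r) =
      Ideal.Quotient.mk (maximalIdeal R ^ n) r := by
  rw [rho_apply, AlgHom.commutes]
  rfl

/-- Every extension of `R` by `L` is the inverse image of an extension of `R̂`. -/
theorem completion_pullback_surjective (Y : Exal.Ext Λ R L) :
    ∃ X : Exal.Ext Λ (AdicCompletion (maximalIdeal R) R) L,
      Nonempty ((X.pullback R).Equiv Y) := by
  haveI := isLocalRing_E Y
  obtain ⟨n, hn⟩ := exists_pow_inf_ker_eq_bot Y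
  have hI := pow_inf_ker_mono Y (Nat.le_succ n) hn
  have hmap := map_proj_maximalIdeal_pow Y (n + 1)
  have hle : ∀ x ∈ maximalIdeal Y.E ^ (n + 1), Y.proj x ∈ maximalIdeal R ^ (n + 1) := by
    intro x hx
    rw [← hmap]
    exact Ideal.mem_map_of_mem (Y.proj : Y.E →+* R) hx
  have hK : ∀ b ∈ maximalIdeal R ^ (n + 1), ∃ x ∈ maximalIdeal Y.E ^ (n + 1), Y.proj x = b := by
    intro b hb
    rw [← hmap] at hb
    exact exists_mem_proj_eq Y _ hb
  have hρ : ∀ (b' : AdicCompletion (maximalIdeal R) R) (b : R),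
      rho (Λ := Λ) (n + 1) b' = Ideal.Quotient.mk (maximalIdeal R ^ (n + 1)) b →
        ∀ z : L, b' • z = b • z := fun b' b h z => smul_eq_of_evalₐ_eq n b' b h z
  exact ⟨cons Y (maximalIdeal Y.E ^ (n + 1)) (maximalIdeal R ^ (n + 1)) (rho (n + 1)) hle hK hI hρ,
    nonempty_pullback_cons_equiv Y _ _ _ hle hK hI hρ (rho_algebraMap (n + 1))⟩

/-- The first projection from the inverse image. -/
noncomputable def pbFst (X : Exal.Ext Λ (AdicCompletion (maximalIdeal R) R) L) :
    (X.pullback R).E →ₐ[Λ] X.E :=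
  (AlgHom.fst Λ X.E R).comp (X.fiberProd R).val

lemma proj_pbFst (X : Exal.Ext Λ (AdicCompletion (maximalIdeal R) R) L) (f : (X.pullback R).E) :
    X.proj (pbFst X f) = algebraMap R (AdicCompletion (maximalIdeal R) R) ((X.pullback R).proj f) :=
  f.2

lemma pbFst_incl (X : Exal.Ext Λ (AdicCompletion (maximalIdeal R) R) L) (z : L) :
    pbFst X ((X.pullback R).incl z) = X.incl z := rfl

/-- An extension of `R̂` is glued from any extension of `R` mapping to it. -/
theorem nonempty_equiv_cons_of_hom (X : Exal.Ext Λ (AdicCompletion (maximalIdeal R) R) L)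
    (Y : Exal.Ext Λ R L) [IsLocalRing Y.E] [IsLocalRing X.E] (j : Y.E →ₐ[Λ] X.E)
    (hjp : ∀ y, X.proj (j y) = algebraMap R (AdicCompletion (maximalIdeal R) R) (Y.proj y))
    (hji : ∀ z, j (Y.incl z) = X.incl z) (n : ℕ)
    (hN : ∀ x ∈ maximalIdeal X.E ^ (n + 1), X.proj x = 0 → x = 0)
    (hle : ∀ x ∈ maximalIdeal Y.E ^ (n + 1), Y.proj x ∈ maximalIdeal R ^ (n + 1))
    (hK : ∀ b ∈ maximalIdeal R ^ (n + 1), ∃ x ∈ maximalIdeal Y.E ^ (n + 1), Y.proj x = b)
    (hI : ∀ x ∈ maximalIdeal Y.E ^ (n + 1), Y.proj x = 0 → x = 0)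
    (hρ : ∀ (b' : AdicCompletion (maximalIdeal R) R) (b : R),
      rho (Λ := Λ) (n + 1) b' = Ideal.Quotient.mk (maximalIdeal R ^ (n + 1)) b →
        ∀ z : L, b' • z = b • z) :
    Nonempty (X.Equiv (cons Y (maximalIdeal Y.E ^ (n + 1)) (maximalIdeal R ^ (n + 1))
      (rho (n + 1)) hle hK hI hρ)) := by
  haveI := isSimpleModule_compl (R := R) L
  have hmapX := map_proj_maximalIdeal_pow X (n + 1)
  apply nonempty_equiv_cons Y _ _ _ X j (maximalIdeal X.E ^ (n + 1)) hle hK hI hρ
    (rho_algebraMap (n + 1)) hjp hji hN (map_mem_maximalIdeal_pow j hjp (n + 1))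
  · intro ν hν
    rw [rho_apply, evalₐ_eq_zero_iff]
    have h1 : (X.proj : X.E →+* AdicCompletion (maximalIdeal R) R) ν ∈
        Ideal.map (X.proj : X.E →+* AdicCompletion (maximalIdeal R) R)
          (maximalIdeal X.E ^ (n + 1)) := Ideal.mem_map_of_mem _ hν
    rw [hmapX] at h1
    exact h1
  · intro b' hb'
    rw [rho_apply, evalₐ_eq_zero_iff] at hb'
    rw [← hmapX] at hb'
    exact exists_mem_proj_eq X _ hb'

/-- Two extensions of `R̂` with equivalent inverse images over `R` are equivalent. -/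
theorem completion_pullback_injective
    (X X' : Exal.Ext Λ (AdicCompletion (maximalIdeal R) R) L)
    (h : Nonempty ((X.pullback R).Equiv (X'.pullback R))) : Nonempty (X.Equiv X') := by
  obtain ⟨e⟩ := h
  haveI := isSimpleModule_compl (R := R) L
  haveI := isLocalRing_E X
  haveI := isLocalRing_E X'
  haveI := isLocalRing_E (X.pullback R)
  obtain ⟨n1, hn1⟩ := exists_pow_inf_ker_eq_bot X
  obtain ⟨n2, hn2⟩ := exists_pow_inf_ker_eq_bot X'
  have hN : ∀ x ∈ maximalIdeal X.E ^ (max n1 n2 + 1), X.proj x = 0 → x = 0 :=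
    pow_inf_ker_mono X ((le_max_left n1 n2).trans (Nat.le_succ _)) hn1
  have hN' : ∀ x ∈ maximalIdeal X'.E ^ (max n1 n2 + 1), X'.proj x = 0 → x = 0 :=
    pow_inf_ker_mono X' ((le_max_right n1 n2).trans (Nat.le_succ _)) hn2
  generalize max n1 n2 = n at hN hN'
  have hmap := map_proj_maximalIdeal_pow (X.pullback R) (n + 1)
  have hle : ∀ x ∈ maximalIdeal (X.pullback R).E ^ (n + 1),
      (X.pullback R).proj x ∈ maximalIdeal R ^ (n + 1) := by
    intro x hx
    rw [← hmap]
    exact Ideal.mem_map_of_mem ((X.pullback R).proj : (X.pullback R).E →+* R) hx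
  have hK : ∀ b ∈ maximalIdeal R ^ (n + 1),
      ∃ x ∈ maximalIdeal (X.pullback R).E ^ (n + 1), (X.pullback R).proj x = b := by
    intro b hb
    rw [← hmap] at hb
    exact exists_mem_proj_eq (X.pullback R) _ hb
  have hρ : ∀ (b' : AdicCompletion (maximalIdeal R) R) (b : R),
      rho (Λ := Λ) (n + 1) b' = Ideal.Quotient.mk (maximalIdeal R ^ (n + 1)) b →
        ∀ z : L, b' • z = b • z := fun b' b h z => smul_eq_of_evalₐ_eq n b' b h z
  have hI : ∀ x ∈ maximalIdeal (X.pullback R).E ^ (n + 1), (X.pullback R).proj x = 0 → x = 0 := by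
    intro x hx hpx
    obtain ⟨z, rfl⟩ := ((X.pullback R).isExtension.exact x).1 hpx
    have h1 := map_mem_maximalIdeal_pow (pbFst X) (proj_pbFst X) (n + 1) _ hx
    rw [pbFst_incl] at h1
    have h2 := hN _ h1 (proj_incl X z)
    have h3 : z = 0 := X.isExtension.incl_injective (h2.trans (map_zero X.incl).symm)
    rw [h3, map_zero]
  obtain ⟨e1⟩ := nonempty_equiv_cons_of_hom X (X.pullback R) (pbFst X) (proj_pbFst X)
    (pbFst_incl X) n hN hle hK hI hρ
  obtain ⟨e2⟩ := nonempty_equiv_cons_of_hom X' (X.pullback R)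
    ((pbFst X').comp (e.toAlgEquiv : (X.pullback R).E →ₐ[Λ] (X'.pullback R).E))
    (fun y => by
      rw [AlgHom.comp_apply, proj_pbFst]
      congr 1
      exact e.proj_apply y)
    (fun z => by
      rw [AlgHom.comp_apply]
      change pbFst X' (e.toAlgEquiv ((X.pullback R).incl z)) = _
      rw [e.apply_incl, pbFst_incl])
    n hN' hle hK hI hρ
  exact ⟨e1.trans e2.symm⟩

end Main

end Groth.Agent.Lib.T2H8.DeformE
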