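import Groth.Agent.Lib.T2H8DeformE
import Groth.Agent.Lib.T2H8DeformA
import Groth.Agent.Lib.Helper19CohenStructure

/-!
# A uniform power of the maximal ideal meeting the kernel of every extension trivially (Deform, S11282)

For a quotient `B` of a power series ring `P = Λ[[X₁..X_d]]` and a simple `B`-module `L`, Artin–Rees for
`J = ker (P → B)` gives an `N` such that `m_E ^ N` meets the kernel trivially for every `Λ`-extension
`E` of `B` by `L` admitting a lift `P → E` (`forall_pow_inf_ker_eq_bot_of_lift`).  Applied to the completion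
of a Noetherian local `Λ`-algebra `R` and transported along `R → R̂` this gives `exists_uniform_pow`.
-/

set_option autoImplicit false
set_option linter.unusedSectionVars false
universe u

namespace Groth.Agent.Lib.T2H8.DeformF

open Exal IsLocalRing MvPowerSeries Groth.Agent.Lib.Helper7.ExalLib Groth.Agent.Lib.T2H8.DeformC
  Groth.Agent.Lib.T2H8.DeformD Groth.Agent.Lib.T2H8.DeformE

section ArtinRees

variable {P : Type u} [CommRing P] [IsNoetherianRing P]

theorem exists_artinRees (m J : Ideal P) : ∃ k0 : ℕ, ∀ n, k0 < n → m ^ n ⊓ J ≤ m * J := by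
  obtain ⟨k, hk⟩ := Ideal.exists_pow_inf_eq_pow_smul m (J : Submodule P P)
  refine ⟨k, fun n hn x hx => ?_⟩
  have h1 : x ∈ (m ^ n • ⊤ ⊓ J : Submodule P P) := by
    refine ⟨?_, hx.2⟩
    rw [smul_eq_mul, Ideal.mul_top]
    exact hx.1
  rw [hk n hn.le] at h1
  have h2 : (m ^ (n - k) • (m ^ k • ⊤ ⊓ J) : Submodule P P) ≤ m • J := by
    apply Submodule.smul_mono
    · exact Ideal.pow_le_self (by omega)
    · exact inf_le_right
  exact h2 h1

end ArtinRees

section Uniform

variable {Λ : Type u} [CommRing Λ] [IsLocalRing Λ] {d : ℕ} {B L : Type u} [CommRing B] [Algebra Λ B]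
  [IsLocalRing B] [AddCommGroup L] [Module B L] [IsSimpleModule B L]
  (π : MvPowerSeries (Fin d) Λ →ₐ[Λ] B) (hπ : Function.Surjective π)
  (X : Exal.Ext Λ B L) [IsLocalRing X.E] (u : MvPowerSeries (Fin d) Λ →ₐ[Λ] X.E)
  (hu : ∀ p, X.proj (u p) = π p)

include hπ hu

lemma mem_maximalIdeal_iff_of_surjective (p : MvPowerSeries (Fin d) Λ) :
    p ∈ maximalIdeal (MvPowerSeries (Fin d) Λ) ↔ π p ∈ maximalIdeal B := by
  haveI : IsLocalHom (π : MvPowerSeries (Fin d) Λ →+* B) := IsLocalHom.of_surjective _ hπ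
  constructor
  · intro hp
    exact map_nonunit (π : MvPowerSeries (Fin d) Λ →+* B) p hp
  · intro hp
    rw [mem_maximalIdeal, mem_nonunits_iff] at hp ⊢
    intro h
    exact hp (h.map π)

lemma u_mem_maximalIdeal {p : MvPowerSeries (Fin d) Λ}
    (hp : p ∈ maximalIdeal (MvPowerSeries (Fin d) Λ)) : u p ∈ maximalIdeal X.E := by
  rw [mem_maximalIdeal_E_iff, hu]
  exact (mem_maximalIdeal_iff_of_surjective π hπ X u hu p).1 hp

lemma exists_eq_u_add_incl (e : X.E) :
    ∃ (p : MvPowerSeries (Fin d) Λ) (z : L), e = u p + X.incl z ∧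
      (e ∈ maximalIdeal X.E → p ∈ maximalIdeal (MvPowerSeries (Fin d) Λ)) := by
  obtain ⟨p, hp⟩ := hπ (X.proj e)
  have h1 : X.proj (e - u p) = 0 := by rw [map_sub, hu, hp, sub_self]
  obtain ⟨z, hz⟩ := (X.isExtension.exact _).1 h1
  refine ⟨p, z, by rw [hz]; ring, fun he => ?_⟩
  rw [mem_maximalIdeal_iff_of_surjective π hπ X u hu, hp]
  exact (mem_maximalIdeal_E_iff X e).1 he

lemma add_incl_mul_u (p q : MvPowerSeries (Fin d) Λ) (z : L)
    (hq : q ∈ maximalIdeal (MvPowerSeries (Fin d) Λ)) :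
    (u p + X.incl z) * u q = u (p * q) := by
  have h1 : u q * X.incl z = 0 :=
    mul_incl_eq_zero X (u_mem_maximalIdeal π hπ X u hu hq) z
  rw [add_mul, mul_comm (X.incl z), h1, add_zero, map_mul]

/-- The ideal generated by the image of an ideal contained in the maximal ideal is its image. -/
lemma exists_of_mem_map (Q : Ideal (MvPowerSeries (Fin d) Λ))
    (hQ : Q ≤ maximalIdeal (MvPowerSeries (Fin d) Λ)) (x : X.E)
    (hx : x ∈ Ideal.map (u : MvPowerSeries (Fin d) Λ →+* X.E) Q) : ∃ q ∈ Q, u q = x := by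
  refine Submodule.span_induction (p := fun x _ => ∃ q ∈ Q, u q = x) ?_ ?_ ?_ ?_ hx
  · rintro _ ⟨q, hq, rfl⟩
    exact ⟨q, hq, rfl⟩
  · exact ⟨0, Q.zero_mem, map_zero _⟩
  · rintro x y _ _ ⟨q, hq, rfl⟩ ⟨q', hq', rfl⟩
    exact ⟨q + q', Q.add_mem hq hq', map_add _ _ _⟩
  · rintro e x _ ⟨q, hq, rfl⟩
    obtain ⟨p, z, he, -⟩ := exists_eq_u_add_incl π hπ X u hu e
    refine ⟨p * q, Q.mul_mem_left p hq, ?_⟩
    rw [smul_eq_mul, he, add_incl_mul_u π hπ X u hu p q z (hQ hq)]

lemma maximalIdeal_pow_le_map (N : ℕ) :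
    maximalIdeal X.E ^ (N + 2) ≤
      Ideal.map (u : MvPowerSeries (Fin d) Λ →+* X.E)
        (maximalIdeal (MvPowerSeries (Fin d) Λ) ^ (N + 2)) := by
  induction N with
  | zero =>
    rw [zero_add, pow_two, Ideal.mul_le]
    intro r hr s hs
    obtain ⟨p, z, he, hp⟩ := exists_eq_u_add_incl π hπ X u hu r
    obtain ⟨q, w, he', hq⟩ := exists_eq_u_add_incl π hπ X u hu s
    have h1 : u q * X.incl w = 0 :=
      mul_incl_eq_zero X (u_mem_maximalIdeal π hπ X u hu (hq hs)) w
    have h2 : X.incl z * X.incl w = 0 := incl_mul_incl X z w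
    have h3 : r * s = u (p * q) := by
      rw [he, he', mul_add, add_incl_mul_u π hπ X u hu p q z (hq hs), add_mul,
        mul_comm (u p), ]
      have h4 : X.incl w * u p = 0 := by
        rw [mul_comm]
        exact mul_incl_eq_zero X (u_mem_maximalIdeal π hπ X u hu (hp hr)) w
      rw [h4, h2, add_zero, add_zero]
    rw [h3]
    apply Ideal.mem_map_of_mem
    rw [pow_two]
    exact Ideal.mul_mem_mul (hp hr) (hq hs)
  | succ N ih =>
    rw [show N + 1 + 2 = (N + 2) + 1 by ring, pow_succ' (maximalIdeal X.E), Ideal.mul_le]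
    intro r hr s hs
    obtain ⟨q, hq, rfl⟩ := exists_of_mem_map π hπ X u hu _
      (Ideal.pow_le_self (by omega)) s (ih hs)
    obtain ⟨p, z, he, hp⟩ := exists_eq_u_add_incl π hπ X u hu r
    rw [he, add_incl_mul_u π hπ X u hu p q z (Ideal.pow_le_self (by omega) hq)]
    apply Ideal.mem_map_of_mem
    rw [pow_succ']
    exact Ideal.mul_mem_mul (hp hr) hq

/-- Uniform bound from Artin–Rees for the kernel of the presentation. -/
theorem forall_pow_inf_ker_eq_bot_of_lift (k0 : ℕ)
    (hAR : ∀ n, k0 < n → maximalIdeal (MvPowerSeries (Fin d) Λ) ^ n ⊓ RingHom.ker π ≤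
      maximalIdeal (MvPowerSeries (Fin d) Λ) * RingHom.ker π) :
    ∀ x ∈ maximalIdeal X.E ^ (k0 + 2), X.proj x = 0 → x = 0 := by
  intro x hx hpx
  obtain ⟨q, hq, rfl⟩ := exists_of_mem_map π hπ X u hu _
    (Ideal.pow_le_self (by omega)) x (maximalIdeal_pow_le_map π hπ X u hu k0 hx)
  rw [hu] at hpx
  have h1 : q ∈ maximalIdeal (MvPowerSeries (Fin d) Λ) * RingHom.ker π :=
    hAR (k0 + 2) (by omega) ⟨hq, hpx⟩
  have h2 : maximalIdeal (MvPowerSeries (Fin d) Λ) * RingHom.ker π ≤
      RingHom.ker (u : MvPowerSeries (Fin d) Λ →+* X.E) := by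
    rw [Ideal.mul_le]
    intro a ha b hb
    rw [RingHom.mem_ker, map_mul]
    have hb' : X.proj (u b) = 0 := by rw [hu]; exact hb
    obtain ⟨z, hz⟩ := (X.isExtension.exact _).1 hb'
    change u a * u b = 0
    rw [← hz]
    exact mul_incl_eq_zero X (u_mem_maximalIdeal π hπ X u hu ha) z
  exact h2 h1

end Uniform

section Final

variable {Λ : Type u} [CommRing Λ] [IsLocalRing Λ] [IsNoetherianRing Λ]
  [IsAdicComplete (maximalIdeal Λ) Λ]
  {R : Type u} [CommRing R] [Algebra Λ R] [IsLocalRing R] [IsNoetherianRing R]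
  [IsLocalHom (algebraMap Λ R)]

/-- The completion of `R` is a quotient of a power series ring over `Λ`. -/
theorem exists_presentation_compl
    (hR : ∀ r : R, ∃ l : Λ, r - algebraMap Λ R l ∈ maximalIdeal R) :
    ∃ (d : ℕ) (π : MvPowerSeries (Fin d) Λ →ₐ[Λ] AdicCompletion (maximalIdeal R) R),
      Function.Surjective π := by
  obtain ⟨d, a, ha⟩ := Submodule.fg_iff_exists_fin_generating_family.1
    (IsNoetherian.noetherian (maximalIdeal (AdicCompletion (maximalIdeal R) R)))
  refine ⟨d, Groth.Agent.Lib.Helper19.CohenStructure.exists_surjective_algHom_mvPowerSeries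
    d a ha ?_ ?_⟩
  · intro x hx
    change algebraMap R (AdicCompletion (maximalIdeal R) R) (algebraMap Λ R x) ∈ _
    exact map_nonunit _ _ (map_nonunit _ _ hx)
  · intro y
    obtain ⟨r, hr⟩ := Ideal.Quotient.mk_surjective (AdicCompletion.evalₐ (maximalIdeal R) 1 y)
    obtain ⟨l, hl⟩ := hR r
    refine ⟨l, ?_⟩
    have h1 : AdicCompletion.evalₐ (maximalIdeal R) 1
        (y - algebraMap R (AdicCompletion (maximalIdeal R) R) r) = 0 := by
      rw [map_sub, ← hr, AlgHom.commutes]
      exact sub_self _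
    rw [evalₐ_eq_zero_iff, pow_one] at h1
    have h2 : algebraMap R (AdicCompletion (maximalIdeal R) R) (r - algebraMap Λ R l) ∈
        maximalIdeal (AdicCompletion (maximalIdeal R) R) := map_nonunit _ _ hl
    have h3 : y - algebraMap Λ (AdicCompletion (maximalIdeal R) R) l =
        (y - algebraMap R (AdicCompletion (maximalIdeal R) R) r) +
          algebraMap R (AdicCompletion (maximalIdeal R) R) (r - algebraMap Λ R l) := by
      rw [map_sub, ← IsScalarTower.algebraMap_apply Λ R (AdicCompletion (maximalIdeal R) R)]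
      ring
    rw [h3]
    exact Ideal.add_mem _ h1 h2

/-- The map from the completion to the residue field of `R`. -/
noncomputable def complRes : AdicCompletion (maximalIdeal R) R →+* ResidueField R :=
  (AdicCompletion.evalOneₐ (maximalIdeal R)).toRingHom

lemma complRes_smul (r : R) (x : AdicCompletion (maximalIdeal R) R) :
    complRes (r • x) = r • complRes x :=
  map_smul (AdicCompletion.evalOneₐ (maximalIdeal R)) r x

/-- The residue field of `R` as a module over the completion. -/
@[reducible] noncomputable def complModule :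
    Module (AdicCompletion (maximalIdeal R) R) (ResidueField R) :=
  Module.compHom (ResidueField R) (complRes (R := R))

attribute [local instance] complModule

lemma compl_smul_def (x : AdicCompletion (maximalIdeal R) R) (z : ResidueField R) :
    x • z = complRes x * z := rfl

lemma isScalarTower_compl :
    IsScalarTower R (AdicCompletion (maximalIdeal R) R) (ResidueField R) := by
  refine ⟨fun r x z => ?_⟩
  rw [compl_smul_def, compl_smul_def, complRes_smul, smul_mul_assoc]

lemma isSimpleModule_residueField : IsSimpleModule R (ResidueField R) :=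
  (isSimpleModule_iff_isSimpleModule_of_algebraMap_surjective
    (IsLocalRing.residue_surjective (R := R))).2 inferInstance

/-- S11282: a power of the maximal ideal independent of the extension meets the kernel trivially. -/
theorem exists_uniform_pow
    (hR : ∀ r : R, ∃ l : Λ, r - algebraMap Λ R l ∈ maximalIdeal R) :
    ∃ n : ℕ, ∀ Y : Exal.Ext Λ R (ResidueField R),
      ∃ I : Ideal Y.E, (∀ x ∈ I, Y.proj x = 0 → x = 0) ∧
        Ideal.map Y.proj I = maximalIdeal R ^ (n + 1) := by
  obtain ⟨d, π, hπ⟩ := exists_presentation_compl (Λ := Λ) (R := R) hR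
  obtain ⟨k0, hAR⟩ := exists_artinRees (maximalIdeal (MvPowerSeries (Fin d) Λ))
    (RingHom.ker (π : MvPowerSeries (Fin d) Λ →+* AdicCompletion (maximalIdeal R) R))
  refine ⟨k0 + 1, fun Y => ?_⟩
  haveI := isLocalRing_E Y
  haveI := isScalarTower_compl (R := R)
  haveI := isSimpleModule_residueField (R := R)
  obtain ⟨X, ⟨e⟩⟩ := completion_pullback_surjective Y
  haveI := isLocalRing_E X
  haveI := isLocalRing_E (X.pullback R)
  haveI := isSimpleModule_compl (R := R) (ResidueField R)
  obtain ⟨u, hu⟩ := Groth.Agent.Lib.Helper19.exists_mvPowerSeries_lift_of_sqZero (π := π) hπ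
    X.proj X.isExtension.proj_surjective (Groth.Agent.Lib.T2H8.Deform.ker_proj_sq X)
    (Groth.Agent.Lib.T2H8.Deform.ker_proj_fg X)
  have hX := forall_pow_inf_ker_eq_bot_of_lift π hπ X u (fun p => AlgHom.congr_fun hu p) k0 hAR
  refine ⟨maximalIdeal Y.E ^ (k0 + 1 + 1), ?_, map_proj_maximalIdeal_pow Y _⟩
  intro y hy hpy
  have hf := map_mem_maximalIdeal_pow (e.symm.toAlgEquiv : Y.E →ₐ[Λ] (X.pullback R).E)
    (fun y => e.symm.proj_apply y) (k0 + 1 + 1) y hy
  have h1 := map_mem_maximalIdeal_pow (pbFst X) (proj_pbFst X) (k0 + 1 + 1) _ hf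
  have hpf : (X.pullback R).proj (e.symm.toAlgEquiv y) = 0 := (e.symm.proj_apply y).trans hpy
  have h2 : X.proj (pbFst X (e.symm.toAlgEquiv y)) = 0 := by
    rw [proj_pbFst, hpf, map_zero]
  have h3 := hX _ h1 h2
  obtain ⟨z, hz⟩ := ((X.pullback R).isExtension.exact _).1 hpf
  have hz' : (e.symm.toAlgEquiv : Y.E →ₐ[Λ] (X.pullback R).E) y = (X.pullback R).incl z := hz.symm
  rw [hz', pbFst_incl] at h3
  have h4 : z = 0 := X.isExtension.incl_injective (h3.trans (map_zero X.incl).symm)
  rw [h4, map_zero] at hz'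
  have h5 : e.symm.toAlgEquiv y = 0 := hz'
  exact (map_eq_zero_iff _ e.symm.toAlgEquiv.injective).1 h5

end Final

end Groth.Agent.Lib.T2H8.DeformF
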