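import Mathlib
import Groth.Prelude.Def_SGA4b
import Groth.Agent.Lib.T2H8Agree
import Groth.Agent.Lib.T2H8EtZarSheaf

set_option autoImplicit false
universe u
open CategoryTheory CategoryTheory.Limits AlgebraicGeometry Opposite

namespace Groth.Agent.Lib.T2H8DescCore

open Groth.Agent.Lib.T2H8ShStalkA Groth.Agent.Lib.Helper16.SmallEtale
open Groth.Agent.Lib.T2H8StalkFiniteCore Groth.Agent.Lib.T2H8FiniteBC Groth.Agent.S0100
open Groth.Agent.Lib.T2H8Agree Groth.Agent.Lib.T2H8EtZarSheaf Groth.Agent.Lib.T2H8SecPull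

variable {X' X : Scheme.{u}} (f : X' ⟶ X)

set_option backward.isDefEq.respectTransparency.types false in
lemma unit_map (F : EtDesc.Sh X) {U V : X.Etale} (g : V ⟶ U) (t : F.obj.obj (op U)) :
    ((EtDesc.adjSh f).unit.app F).hom.app (op V) (F.obj.map g.op t) =
      ((EtDesc.pullSh f).obj F).obj.map ((EtCoh.bc f).map g).op
        (((EtDesc.adjSh f).unit.app F).hom.app (op U) t) :=
  NatTrans.naturality_apply ((EtDesc.adjSh f).unit.app F).hom g.op t

set_option backward.isDefEq.respectTransparency.types false in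
lemma map_map_apply {Z : Scheme.{u}} (P : Z.Etaleᵒᵖ ⥤ Type (u + 1)) {A B D : Z.Etale} (c : A ⟶ B)
    (d : B ⟶ D) (x : P.obj (op D)) :
    P.map c.op (P.map d.op x) = P.map (c ≫ d).op x := by
  rw [op_comp, Functor.map_comp]
  rfl

set_option backward.isDefEq.respectTransparency.types false in
/-- local solutions of the descent problem -/
theorem exists_local
    (hq : ∀ U : X.Etale, Topology.IsQuotientMap (pullback.fst U.hom f))
    (F : EtDesc.Sh X) (U₀ : X.Etale)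
    (σ : ((EtDesc.pullSh f).obj F).obj.obj (op ((EtCoh.bc f).obj U₀)))
    (hsat : ∀ (U : X.Etale) (h : U ⟶ U₀) (t : F.obj.obj (op U)) (y z : ((EtCoh.bc f).obj U).left),
      (pullback.fst U.hom f) y = (pullback.fst U.hom f) z →
      y ∈ agree ((EtDesc.pullSh f).obj F) (((EtDesc.adjSh f).unit.app F).hom.app (op U) t)
        (((EtDesc.pullSh f).obj F).obj.map ((EtCoh.bc f).map h).op σ) →
      z ∈ agree ((EtDesc.pullSh f).obj F) (((EtDesc.adjSh f).unit.app F).hom.app (op U) t)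
        (((EtDesc.pullSh f).obj F).obj.map ((EtCoh.bc f).map h).op σ))
    (u' : ((EtCoh.bc f).obj U₀).left) :
    ∃ (U : X.Etale) (h : U ⟶ U₀) (t : F.obj.obj (op U)) (v' : ((EtCoh.bc f).obj U).left),
      ((EtCoh.bc f).map h).left v' = u' ∧
      ((EtDesc.adjSh f).unit.app F).hom.app (op U) t =
        ((EtDesc.pullSh f).obj F).obj.map ((EtCoh.bc f).map h).op σ := by
  let F' := (EtDesc.pullSh f).obj F
  obtain ⟨Ω, _, _, ξ', x₀', hx₀'⟩ :=
    Groth.Agent.Lib.T2H8StalkAlgClosed.exists_geometric_point ((EtCoh.bc f).obj U₀) u'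
  subst hx₀'
  let Φ' := Scheme.pointSmallEtale ξ'
  let Φ := Scheme.pointSmallEtale (ξ' ≫ f)
  let u₀ : Φ.fiber.obj U₀ := (fiberIso f ξ').hom.app U₀ x₀'
  have hu₀ : u₀.left = x₀'.left ≫ pullback.fst U₀.hom f := fiberIso_hom_left f ξ' U₀ x₀'
  have hlift₀ : liftPt f ξ' (ξ' ≫ f) rfl U₀ u₀ = x₀' := by
    apply Over.OverMorphism.ext
    apply pullback.hom_ext
    · exact (liftPt_left_fst f ξ' (ξ' ≫ f) rfl U₀ u₀).trans hu₀
    · exact (liftPt_left_snd f ξ' (ξ' ≫ f) rfl U₀ u₀).trans (Over.w x₀').symm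
  let γ := Φ'.toPresheafFiber ((EtCoh.bc f).obj U₀) x₀' F'.obj σ
  obtain ⟨U₁, ū₁, t₁, ht₁⟩ := Φ.toPresheafFiber_jointly_surjective (P := F.obj)
    ((stalkPullIso f ξ').inv.app F γ)
  have g1 := Groth.Agent.Lib.T2H8ShBC.stalkPull_germ f ξ' F U₁ ū₁ t₁
  have hγ₁ : Φ'.toPresheafFiber ((EtCoh.bc f).obj U₁) (liftPt f ξ' (ξ' ≫ f) rfl U₁ ū₁) F'.obj
      (((EtDesc.adjSh f).unit.app F).hom.app (op U₁) t₁) = γ := by
    rw [← g1, ht₁]
    exact congrArg (fun m => (ConcreteCategory.hom m) γ) ((stalkPullIso f ξ').inv_hom_id_app F)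
  -- common refinement
  let m : Φ.fiber.Elements := IsCofiltered.min (⟨U₁, ū₁⟩ : Φ.fiber.Elements) ⟨U₀, u₀⟩
  let g₁ : m ⟶ ⟨U₁, ū₁⟩ := IsCofiltered.minToLeft _ _
  let g₀ : m ⟶ ⟨U₀, u₀⟩ := IsCofiltered.minToRight _ _
  have hg₁ : Φ.fiber.map g₁.1 m.2 = ū₁ := g₁.2
  have hg₀ : Φ.fiber.map g₀.1 m.2 = u₀ := g₀.2
  let U₂ : X.Etale := m.1
  let ū₂ : Φ.fiber.obj U₂ := m.2
  let t₂ : F.obj.obj (op U₂) := F.obj.map g₁.1.op t₁
  let h₂ : U₂ ⟶ U₀ := g₀.1
  let x₂' : Φ'.fiber.obj ((EtCoh.bc f).obj U₂) := liftPt f ξ' (ξ' ≫ f) rfl U₂ ū₂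
  have hx₂₁ : Φ'.fiber.map ((EtCoh.bc f).map g₁.1) x₂' = liftPt f ξ' (ξ' ≫ f) rfl U₁ ū₁ := by
    exact (liftPt_map f ξ' (ξ' ≫ f) rfl g₁.1 ū₂).trans
      (congrArg (liftPt f ξ' (ξ' ≫ f) rfl U₁) hg₁)
  have hx₂₀ : Φ'.fiber.map ((EtCoh.bc f).map h₂) x₂' = x₀' := by
    exact (liftPt_map f ξ' (ξ' ≫ f) rfl g₀.1 ū₂).trans
      ((congrArg (liftPt f ξ' (ξ' ≫ f) rfl U₀) hg₀).trans hlift₀)
  let a₂ := ((EtDesc.adjSh f).unit.app F).hom.app (op U₂) t₂
  let b₂ := F'.obj.map ((EtCoh.bc f).map h₂).op σ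
  have hgerm : Φ'.toPresheafFiber ((EtCoh.bc f).obj U₂) x₂' F'.obj a₂ =
      Φ'.toPresheafFiber ((EtCoh.bc f).obj U₂) x₂' F'.obj b₂ := by
    have e1 : a₂ = F'.obj.map ((EtCoh.bc f).map g₁.1).op
        (((EtDesc.adjSh f).unit.app F).hom.app (op U₁) t₁) := unit_map f F g₁.1 t₁
    have e2 := Φ'.toPresheafFiber_w_apply ((EtCoh.bc f).map g₁.1) x₂' F'.obj
      (((EtDesc.adjSh f).unit.app F).hom.app (op U₁) t₁)
    have e3 := Φ'.toPresheafFiber_w_apply ((EtCoh.bc f).map h₂) x₂' F'.obj σ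
    rw [hx₂₁] at e2
    rw [hx₂₀] at e3
    rw [e1]
    exact e2.trans (hγ₁.trans e3.symm)
  let E₂ : Set ((EtCoh.bc f).obj U₂).left := agree F' a₂ b₂
  have hv₂ : (x₂'.left : Spec (CommRingCat.of Ω) ⟶ ((EtCoh.bc f).obj U₂).left)
      (default : Spec (CommRingCat.of Ω)) ∈ E₂ :=
    (mem_agree_iff_germ F' a₂ b₂ ξ' x₂').mpr hgerm
  let π₂ := pullback.fst U₂.hom f
  have hsat₂ : ∀ y z, π₂ y = π₂ z → y ∈ E₂ → z ∈ E₂ := hsat U₂ h₂ t₂
  let W : Set U₂.left := π₂ '' E₂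
  have hpre : π₂ ⁻¹' W = E₂ := by
    ext p
    constructor
    · rintro ⟨e, he, hep⟩
      exact hsat₂ e p hep he
    · intro hp
      exact ⟨p, hp, rfl⟩
  have hW : IsOpen W := by
    rw [← (hq U₂).isOpen_preimage, hpre]
    exact isOpen_agree F' a₂ b₂
  let Wo : U₂.left.Opens := ⟨W, hW⟩
  let U₃ : X.Etale := opn U₂ Wo
  let j : U₃ ⟶ U₂ := opnι U₂ Wo
  let t₃ : F.obj.obj (op U₃) := F.obj.map j.op t₂
  let h₃ : U₃ ⟶ U₀ := j ≫ h₂
  have hall : ((EtDesc.adjSh f).unit.app F).hom.app (op U₃) t₃ =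
      F'.obj.map ((EtCoh.bc f).map h₃).op σ := by
    have e1 : ((EtDesc.adjSh f).unit.app F).hom.app (op U₃) t₃ =
        F'.obj.map ((EtCoh.bc f).map j).op a₂ := unit_map f F j t₂
    have e2 : F'.obj.map ((EtCoh.bc f).map h₃).op σ = F'.obj.map ((EtCoh.bc f).map j).op b₂ := by
      have : (EtCoh.bc f).map h₃ = (EtCoh.bc f).map j ≫ (EtCoh.bc f).map h₂ :=
        (EtCoh.bc f).map_comp j h₂
      rw [this]
      exact (map_map_apply F'.obj _ _ σ).symm
    rw [e1, e2]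
    apply eq_of_agree_eq_univ
    intro v
    rw [mem_agree_map_iff]
    have hmem : π₂ (((EtCoh.bc f).map j).left v) ∈ W := by
      have e := congrArg (fun m : ((EtCoh.bc f).obj U₃).left ⟶ U₂.left => m v) (bc_map_left_fst f j)
      have e' : π₂ (((EtCoh.bc f).map j).left v) = Wo.ι ((pullback.fst U₃.hom f) v) := e
      rw [e']
      exact ((pullback.fst U₃.hom f) v).2
    have : ((EtCoh.bc f).map j).left v ∈ π₂ ⁻¹' W := hmem
    rwa [hpre] at this
  -- the point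
  have hū₂ : ū₂.left = x₂'.left ≫ pullback.fst U₂.hom f :=
    (liftPt_left_fst f ξ' (ξ' ≫ f) rfl U₂ ū₂).symm
  have hmem : (ū₂.left : Spec (CommRingCat.of Ω) ⟶ U₂.left) (default : Spec (CommRingCat.of Ω)) ∈ W := by
    refine ⟨_, hv₂, ?_⟩
    rw [hū₂]
    rfl
  let w₃ : U₃.left := ⟨_, hmem⟩
  haveI : Etale j.left := inferInstanceAs (Etale j.left)
  obtain ⟨l, hl₁, hl₂⟩ := Scheme.exists_fac_of_etale_of_isSepClosed j.left ū₂.left w₃ rfl
  have hlw : l ≫ U₃.hom = ξ' ≫ f := by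
    have e1 : j.left ≫ U₂.hom = U₃.hom := MorphismProperty.Over.w j
    rw [← e1, ← Category.assoc, hl₁]
    exact Over.w ū₂
  let ū₃ : Φ.fiber.obj U₃ := Over.homMk l hlw
  have hū₃ : Φ.fiber.map j ū₃ = ū₂ := Over.OverMorphism.ext hl₁
  let x₃' : Φ'.fiber.obj ((EtCoh.bc f).obj U₃) := liftPt f ξ' (ξ' ≫ f) rfl U₃ ū₃
  have hx₃ : Φ'.fiber.map ((EtCoh.bc f).map j) x₃' = x₂' :=
    (liftPt_map f ξ' (ξ' ≫ f) rfl j ū₃).trans (congrArg (liftPt f ξ' (ξ' ≫ f) rfl U₂) hū₃)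
  have hx₃₀ : Φ'.fiber.map ((EtCoh.bc f).map h₃) x₃' = x₀' := by
    have : (EtCoh.bc f).map h₃ = (EtCoh.bc f).map j ≫ (EtCoh.bc f).map h₂ :=
      (EtCoh.bc f).map_comp j h₂
    rw [this, Functor.map_comp]
    change Φ'.fiber.map ((EtCoh.bc f).map h₂) (Φ'.fiber.map ((EtCoh.bc f).map j) x₃') = x₀'
    rw [hx₃, hx₂₀]
  refine ⟨U₃, h₃, t₃, (x₃'.left : Spec (CommRingCat.of Ω) ⟶ ((EtCoh.bc f).obj U₃).left)
    (default : Spec (CommRingCat.of Ω)), ?_, hall⟩
  exact congrArg (fun m : Φ'.fiber.obj ((EtCoh.bc f).obj U₀) =>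
    (m.left : Spec (CommRingCat.of Ω) ⟶ ((EtCoh.bc f).obj U₀).left)
      (default : Spec (CommRingCat.of Ω))) hx₃₀

set_option backward.isDefEq.respectTransparency.types false in
lemma surjective_of_quotient
    (hq : ∀ U : X.Etale, Topology.IsQuotientMap (pullback.fst U.hom f)) : Surjective f := by
  constructor
  intro x
  obtain ⟨v, hv⟩ := (hq (EtCoh.top X)).surjective x
  refine ⟨(pullback.snd (EtCoh.top X).hom f) v, ?_⟩
  have e := congrArg (fun m : pullback (EtCoh.top X).hom f ⟶ X => m v)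
    (pullback.condition (f := (EtCoh.top X).hom) (g := f))
  have e' : (pullback.fst (EtCoh.top X).hom f ≫ 𝟙 X) v = f ((pullback.snd (EtCoh.top X).hom f) v) := e
  have e'' : (pullback.fst (EtCoh.top X).hom f ≫ 𝟙 X) v = (pullback.fst (EtCoh.top X).hom f) v :=
    congrArg (fun m : pullback (EtCoh.top X).hom f ⟶ X => m v) (Category.comp_id _)
  exact e'.symm.trans (e''.trans hv)

set_option backward.isDefEq.respectTransparency.types false in
lemma unit_injective [Surjective f] (F : EtDesc.Sh X) (U : X.Etale) :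
    Function.Injective (((EtDesc.adjSh f).unit.app F).hom.app (op U)) := by
  haveI := Groth.Agent.Lib.T2H8.PullFaithful.faithful f
  haveI : Mono ((EtDesc.adjSh f).unit.app F) := inferInstance
  exact injective_app_of_mono ((EtDesc.adjSh f).unit.app F) _

set_option backward.isDefEq.respectTransparency.types false in
/-- descent of sections along a universally submersive morphism: a section of `f^* F` whose
agreement loci with pulled back sections are saturated comes from `F`. -/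
theorem exists_descent
    (hq : ∀ U : X.Etale, Topology.IsQuotientMap (pullback.fst U.hom f))
    (F : EtDesc.Sh X) (U₀ : X.Etale)
    (σ : ((EtDesc.pullSh f).obj F).obj.obj (op ((EtCoh.bc f).obj U₀)))
    (hsat : ∀ (U : X.Etale) (h : U ⟶ U₀) (t : F.obj.obj (op U)) (y z : ((EtCoh.bc f).obj U).left),
      (pullback.fst U.hom f) y = (pullback.fst U.hom f) z →
      y ∈ agree ((EtDesc.pullSh f).obj F) (((EtDesc.adjSh f).unit.app F).hom.app (op U) t)
        (((EtDesc.pullSh f).obj F).obj.map ((EtCoh.bc f).map h).op σ) →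
      z ∈ agree ((EtDesc.pullSh f).obj F) (((EtDesc.adjSh f).unit.app F).hom.app (op U) t)
        (((EtDesc.pullSh f).obj F).obj.map ((EtCoh.bc f).map h).op σ)) :
    ∃ t₀ : F.obj.obj (op U₀), ((EtDesc.adjSh f).unit.app F).hom.app (op U₀) t₀ = σ := by
  let F' := (EtDesc.pullSh f).obj F
  haveI : Surjective f := surjective_of_quotient f hq
  choose U h t v' hv ht using exists_local f hq F U₀ σ hsat
  -- the covering sieve
  let R : Sieve U₀ := Sieve.generate (Presieve.ofArrows U h)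
  have hR : R ∈ X.smallEtaleTopology U₀ := by
    rw [mem_smallEtale_iff]
    intro x
    obtain ⟨u', hu'⟩ := (hq U₀).surjective x
    refine ⟨U u', h u', (pullback.fst (U u').hom f) (v' u'),
      Sieve.le_generate _ _ _ (Presieve.ofArrows.mk u'), ?_⟩
    have e := congrArg (fun m : ((EtCoh.bc f).obj (U u')).left ⟶ U₀.left => m (v' u'))
      (bc_map_left_fst f (h u'))
    have e' : (pullback.fst U₀.hom f) (((EtCoh.bc f).map (h u')).left (v' u')) =
        (h u').left ((pullback.fst (U u').hom f) (v' u')) := e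
    rw [← e', hv u']
    exact hu'
  have hsh : Presieve.IsSheafFor (F.obj ⋙ forget (Type (u + 1))) (Presieve.ofArrows U h) :=
    (Presieve.isSheafFor_iff_generate _).mpr
      (Groth.Agent.Lib.T2H8ShBC.isSheaf_forget F R hR)
  rw [Presieve.isSheafFor_arrows_iff] at hsh
  have hcompat : Presieve.Arrows.Compatible (F.obj ⋙ forget (Type (u + 1))) h t := by
    intro i j Z ga gb hgab
    apply unit_injective f F Z
    have e1 := unit_map f F ga (t i)
    have e2 := unit_map f F gb (t j)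
    refine e1.trans (Eq.trans ?_ e2.symm)
    rw [ht i, ht j, map_map_apply, map_map_apply, ← Functor.map_comp, ← Functor.map_comp, hgab]
  obtain ⟨t₀, ht₀, -⟩ := hsh t hcompat
  refine ⟨t₀, ?_⟩
  apply Groth.Agent.Lib.T2H8.PullFaithful.eq_of_locally_eq F'
  intro u'
  refine ⟨(EtCoh.bc f).obj (U u'), (EtCoh.bc f).map (h u'), ⟨v' u', hv u'⟩, ?_⟩
  have e1 := unit_map f F (h u') t₀
  have e2 : F.obj.map (h u').op t₀ = t u' := ht₀ u'
  rw [← e1, e2, ht u']

end Groth.Agent.Lib.T2H8DescCore
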