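import Mathlib
import Groth.Prelude.Def_SGA4b
import Groth.Agent.Lib.T2H8DescCore

set_option autoImplicit false
universe u
open CategoryTheory CategoryTheory.Limits AlgebraicGeometry Opposite

namespace Groth.Agent.Lib.T2H8DescSat

open Groth.Agent.Lib.T2H8ShStalkA Groth.Agent.Lib.Helper16.SmallEtale
open Groth.Agent.Lib.T2H8Agree Groth.Agent.Lib.T2H8SecPull Groth.Agent.Lib.T2H8DescCore

variable {X' X : Scheme.{u}} (f : X' ⟶ X)

set_option backward.isDefEq.respectTransparency.types false in
lemma quotient_fst (hf : EtDesc.IsUnivSubmersive f) (U : X.Etale) :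
    Topology.IsQuotientMap (pullback.fst U.hom f) := by
  have h1 := (hf U.left U.hom).2
  have e : pullback.fst U.hom f = (pullbackSymmetry U.hom f).hom ≫ pullback.snd f U.hom :=
    (pullbackSymmetry_hom_comp_snd U.hom f).symm
  rw [e]
  have h2 : Topology.IsQuotientMap ((pullbackSymmetry U.hom f).hom) :=
    (Scheme.homeoOfIso (pullbackSymmetry U.hom f)).isQuotientMap
  exact h1.comp h2

section Theta

variable (U : X.Etale)

set_option backward.isDefEq.respectTransparency.types false in
/-- the map `U' ×_U U' ⟶ U ×_X (X' ×_X X')`. -/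
noncomputable def theta :
    pullback (pullback.fst U.hom f) (pullback.fst U.hom f) ⟶
      ((EtCoh.bc (pullback.fst f f ≫ f)).obj U).left :=
  pullback.lift
    (pullback.fst (pullback.fst U.hom f) (pullback.fst U.hom f) ≫ pullback.fst U.hom f)
    (pullback.lift
      (pullback.fst (pullback.fst U.hom f) (pullback.fst U.hom f) ≫ pullback.snd U.hom f)
      (pullback.snd (pullback.fst U.hom f) (pullback.fst U.hom f) ≫ pullback.snd U.hom f)
      (by
        have c1 : pullback.fst U.hom f ≫ U.hom = pullback.snd U.hom f ≫ f := pullback.condition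
        have c2 : pullback.fst (pullback.fst U.hom f) (pullback.fst U.hom f) ≫ pullback.fst U.hom f =
            pullback.snd (pullback.fst U.hom f) (pullback.fst U.hom f) ≫ pullback.fst U.hom f :=
          pullback.condition
        calc (pullback.fst (pullback.fst U.hom f) (pullback.fst U.hom f) ≫ pullback.snd U.hom f) ≫ f
            = pullback.fst (pullback.fst U.hom f) (pullback.fst U.hom f) ≫
                (pullback.fst U.hom f ≫ U.hom) := by rw [Category.assoc, c1]
          _ = (pullback.snd (pullback.fst U.hom f) (pullback.fst U.hom f) ≫ pullback.fst U.hom f) ≫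
                U.hom := by rw [← Category.assoc, c2]
          _ = (pullback.snd (pullback.fst U.hom f) (pullback.fst U.hom f) ≫ pullback.snd U.hom f) ≫ f := by
              rw [Category.assoc, c1, Category.assoc]))
    (by
      have c1 : pullback.fst U.hom f ≫ U.hom = pullback.snd U.hom f ≫ f := pullback.condition
      rw [← Category.assoc, pullback.lift_fst, Category.assoc, Category.assoc, c1])

set_option backward.isDefEq.respectTransparency.types false in
lemma theta_fst : theta f U ≫ pullback.fst U.hom (pullback.fst f f ≫ f) =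
    pullback.fst (pullback.fst U.hom f) (pullback.fst U.hom f) ≫ pullback.fst U.hom f :=
  pullback.lift_fst _ _ _

set_option backward.isDefEq.respectTransparency.types false in
lemma theta_snd_fst : theta f U ≫ pullback.snd U.hom (pullback.fst f f ≫ f) ≫ pullback.fst f f =
    pullback.fst (pullback.fst U.hom f) (pullback.fst U.hom f) ≫ pullback.snd U.hom f := by
  rw [← Category.assoc]
  exact (pullback.lift_snd _ _ _ =≫ pullback.fst f f).trans (pullback.lift_fst _ _ _)

set_option backward.isDefEq.respectTransparency.types false in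
lemma theta_snd_snd : theta f U ≫ pullback.snd U.hom (pullback.fst f f ≫ f) ≫ pullback.snd f f =
    pullback.snd (pullback.fst U.hom f) (pullback.fst U.hom f) ≫ pullback.snd U.hom f := by
  rw [← Category.assoc]
  exact (pullback.lift_snd _ _ _ =≫ pullback.snd f f).trans (pullback.lift_snd _ _ _)

set_option backward.isDefEq.respectTransparency.types false in
lemma theta_qmap₁ : theta f U ≫ qmap (pullback.fst f f) f (pullback.fst f f ≫ f) rfl U =
    pullback.fst (pullback.fst U.hom f) (pullback.fst U.hom f) := by
  apply pullback.hom_ext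
  · exact (Category.assoc _ _ _).trans
      ((theta f U ≫= qmap_fst (pullback.fst f f) f (pullback.fst f f ≫ f) rfl U).trans (theta_fst f U))
  · exact (Category.assoc _ _ _).trans
      ((theta f U ≫= qmap_snd (pullback.fst f f) f (pullback.fst f f ≫ f) rfl U).trans
        (theta_snd_fst f U))

set_option backward.isDefEq.respectTransparency.types false in
lemma theta_qmap₂ : theta f U ≫ qmap (pullback.snd f f) f (pullback.fst f f ≫ f)
      pullback.condition.symm U =
    pullback.snd (pullback.fst U.hom f) (pullback.fst U.hom f) := by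
  apply pullback.hom_ext
  · exact (Category.assoc _ _ _).trans
      ((theta f U ≫= qmap_fst (pullback.snd f f) f (pullback.fst f f ≫ f)
        pullback.condition.symm U).trans ((theta_fst f U).trans pullback.condition))
  · exact (Category.assoc _ _ _).trans
      ((theta f U ≫= qmap_snd (pullback.snd f f) f (pullback.fst f f ≫ f)
        pullback.condition.symm U).trans (theta_snd_snd f U))

set_option backward.isDefEq.respectTransparency.types false in
/-- two points of `U ×_X X'` over the same point of `U` come from a point of `U ×_X X''`. -/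
lemma exists_point (y z : ((EtCoh.bc f).obj U).left)
    (hyz : (pullback.fst U.hom f) y = (pullback.fst U.hom f) z) :
    ∃ w : ((EtCoh.bc (pullback.fst f f ≫ f)).obj U).left,
      (qmap (pullback.fst f f) f (pullback.fst f f ≫ f) rfl U) w = y ∧
      (qmap (pullback.snd f f) f (pullback.fst f f ≫ f) pullback.condition.symm U) w = z := by
  obtain ⟨w₀, h1, h2⟩ := Scheme.Pullback.exists_preimage_pullback
    (f := pullback.fst U.hom f) (g := pullback.fst U.hom f) y z hyz
  refine ⟨(theta f U) w₀, ?_, ?_⟩
  · have e := congrArg (fun m : pullback (pullback.fst U.hom f) (pullback.fst U.hom f) ⟶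
        ((EtCoh.bc f).obj U).left => m w₀) (theta_qmap₁ f U)
    exact e.trans h1
  · have e := congrArg (fun m : pullback (pullback.fst U.hom f) (pullback.fst U.hom f) ⟶
        ((EtCoh.bc f).obj U).left => m w₀) (theta_qmap₂ f U)
    exact e.trans h2

end Theta

section Sat

set_option backward.isDefEq.respectTransparency.types false in
lemma iso_hom_inv_apply {Z : Scheme.{u}} {G G' : EtDesc.Sh Z} (φ : G ≅ G') (V : Z.Etaleᵒᵖ)
    (x : G'.obj.obj V) : φ.hom.hom.app V (φ.inv.hom.app V x) = x :=
  congrArg (fun m => m.hom.app V x) φ.inv_hom_id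

set_option backward.isDefEq.respectTransparency.types false in
lemma eq_of_trans_symm {Z : Scheme.{u}} {G₁ G G₂ : EtDesc.Sh Z} (P₁ : G₁ ≅ G) (P₂ : G₂ ≅ G)
    (V : Z.Etaleᵒᵖ) (x₁ : G₁.obj.obj V) (x₂ : G₂.obj.obj V)
    (H : (P₁ ≪≫ P₂.symm).hom.hom.app V x₁ = x₂) :
    P₁.hom.hom.app V x₁ = P₂.hom.hom.app V x₂ := by
  have e1 : (P₁ ≪≫ P₂.symm).hom.hom.app V x₁ = P₂.inv.hom.app V (P₁.hom.hom.app V x₁) := rfl
  rw [← H, e1, iso_hom_inv_apply]

set_option backward.isDefEq.respectTransparency.types false in
lemma bridge {C : Type*} [Category C] {P Q : Cᵒᵖ ⥤ Type (u + 1)} (η : P ⟶ Q) {A B : C} (e : A = B) :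
    ∀ (x : P.obj (op B)) (y : Q.obj (op B)),
      (η.app (op A) (cast (by rw [e]) x) = cast (by rw [e]) y) → η.app (op B) x = y := by
  subst e
  intro x y h
  exact h

set_option backward.isDefEq.respectTransparency.types false in
lemma top_X2_eq : EtCoh.top (EtDesc.X2 f) = EtCoh.top (pullback f f) := rfl

lemma canIso_eq (F : EtDesc.Sh X) : EtDesc.canIso f F =
    EtDesc.pullVia (pullback.fst f f) f (pullback.fst f f ≫ f) rfl F ≪≫
    (EtDesc.pullVia (pullback.snd f f) f (pullback.fst f f ≫ f) pullback.condition.symm F).symm := rfl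

set_option backward.isDefEq.respectTransparency.types false in
lemma descent_eq (F : EtDesc.Sh X)
    (s' : EtDesc.sect ((EtDesc.pullSh f).obj F) (EtCoh.top X'))
    (H : (EtDesc.canIso f F).hom.hom.app (op (EtCoh.top (pullback f f)))
          (EtDesc.secPull (pullback.fst f f) ((EtDesc.pullSh f).obj F) s') =
        EtDesc.secPull (pullback.snd f f) ((EtDesc.pullSh f).obj F) s') :
    gam (pullback.fst f f) f (pullback.fst f f ≫ f) rfl F s' =
      gam (pullback.snd f f) f (pullback.fst f f ≫ f)
        pullback.condition.symm F s' := by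
  rw [canIso_eq] at H
  exact eq_of_trans_symm _ _ _ _ _ H

set_option backward.isDefEq.respectTransparency.types false in
/-- the descent condition implies that agreement loci are saturated. -/
theorem sat_of_descent (F : EtDesc.Sh X)
    (s' : EtDesc.sect ((EtDesc.pullSh f).obj F) (EtCoh.top X'))
    (H : (EtDesc.canIso f F).hom.hom.app (op (EtCoh.top (pullback f f)))
          (EtDesc.secPull (pullback.fst f f) ((EtDesc.pullSh f).obj F) s') =
        EtDesc.secPull (pullback.snd f f) ((EtDesc.pullSh f).obj F) s')
    (U : X.Etale) (t : F.obj.obj (op U)) (r' : (EtCoh.bc f).obj U ⟶ EtCoh.top X')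
    (y z : ((EtCoh.bc f).obj U).left)
    (hyz : (pullback.fst U.hom f) y = (pullback.fst U.hom f) z)
    (hy : y ∈ agree ((EtDesc.pullSh f).obj F) (((EtDesc.adjSh f).unit.app F).hom.app (op U) t)
        (((EtDesc.pullSh f).obj F).obj.map r'.op s')) :
    z ∈ agree ((EtDesc.pullSh f).obj F) (((EtDesc.adjSh f).unit.app F).hom.app (op U) t)
        (((EtDesc.pullSh f).obj F).obj.map r'.op s') := by
  have H' := descent_eq f F s' H
  obtain ⟨w, hw₁, hw₂⟩ := exists_point f U y z hyz
  have k₁ := mem_agree_gam_iff (pullback.fst f f) f (pullback.fst f f ≫ f) rfl F U t s'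
    ((EtCore.topIsTerminal _).from _) r' w
  have k₂ := mem_agree_gam_iff (pullback.snd f f) f (pullback.fst f f ≫ f)
    pullback.condition.symm F U t s' ((EtCore.topIsTerminal _).from _) r' w
  rw [H'] at k₁
  exact Set.mem_of_eq_of_mem hw₂.symm (k₂.mp (k₁.mpr (Set.mem_of_eq_of_mem hw₁ hy)))

end Sat

section Range

set_option backward.isDefEq.respectTransparency.types false in
lemma bridge_symm {C : Type*} [Category C] {P Q : Cᵒᵖ ⥤ Type (u + 1)} (η : P ⟶ Q) {A B : C}
    (e : A = B) :
    ∀ (x : P.obj (op B)) (y : Q.obj (op B)),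
      η.app (op B) x = y → (η.app (op A) (cast (by rw [e]) x) = cast (by rw [e]) y) := by
  subst e
  intro x y h
  exact h

set_option backward.isDefEq.respectTransparency.types false in
lemma iso_inv_hom_apply {Z : Scheme.{u}} {G G' : EtDesc.Sh Z} (φ : G ≅ G') (V : Z.Etaleᵒᵖ)
    (x : G.obj.obj V) : φ.inv.hom.app V (φ.hom.hom.app V x) = x :=
  congrArg (fun m => m.hom.app V x) φ.hom_inv_id

set_option backward.isDefEq.respectTransparency.types false in
lemma trans_symm_of_eq {Z : Scheme.{u}} {G₁ G G₂ : EtDesc.Sh Z} (P₁ : G₁ ≅ G) (P₂ : G₂ ≅ G)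
    (V : Z.Etaleᵒᵖ) (x₁ : G₁.obj.obj V) (x₂ : G₂.obj.obj V)
    (h : P₁.hom.hom.app V x₁ = P₂.hom.hom.app V x₂) :
    (P₁ ≪≫ P₂.symm).hom.hom.app V x₁ = x₂ := by
  have e1 : (P₁ ≪≫ P₂.symm).hom.hom.app V x₁ = P₂.inv.hom.app V (P₁.hom.hom.app V x₁) := rfl
  rw [e1, h, iso_inv_hom_apply]

set_option backward.isDefEq.respectTransparency.types false in
/-- pulled back sections satisfy the descent condition (form over `pullback f f`). -/
lemma canIso_secPull (F : EtDesc.Sh X) (s : EtDesc.sect F (EtCoh.top X)) :
    (EtDesc.canIso f F).hom.hom.app (op (EtCoh.top (pullback f f)))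
      (EtDesc.secPull (pullback.fst f f) ((EtDesc.pullSh f).obj F) (EtDesc.secPull f F s)) =
    EtDesc.secPull (pullback.snd f f) ((EtDesc.pullSh f).obj F) (EtDesc.secPull f F s) := by
  have h1 := secPull_pullVia (pullback.fst f f) f (pullback.fst f f ≫ f) rfl F s
  have h2 := secPull_pullVia (pullback.snd f f) f (pullback.fst f f ≫ f)
    pullback.condition.symm F s
  rw [canIso_eq]
  exact trans_symm_of_eq _ _ _ _ _ (h1.trans h2.symm)

end Range

section Main

set_option backward.isDefEq.respectTransparency.types false in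
/-- `S3049`: exactness of `Γ(X, F) → Γ(X', F') ⇉ Γ(X'', F'')` for universally submersive `f`. -/
theorem sections_equalizer (hf : EtDesc.IsUnivSubmersive f) (F : EtDesc.Sh X) :
    Function.Injective (EtDesc.secPull f F) ∧
    Set.range (EtDesc.secPull f F) =
      {s' | (EtDesc.canIso f F).hom.hom.app (op (EtCoh.top (EtDesc.X2 f)))
          (EtDesc.secPull (pullback.fst f f) ((EtDesc.pullSh f).obj F) s') =
        EtDesc.secPull (pullback.snd f f) ((EtDesc.pullSh f).obj F) s'} := by
  haveI : Surjective f := surjective_of_quotient f (quotient_fst f hf)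
  refine ⟨secPull_injective_of_surjective f F, ?_⟩
  let F' := (EtDesc.pullSh f).obj F
  apply Set.Subset.antisymm
  · rintro s' ⟨s, rfl⟩
    exact bridge_symm (EtDesc.canIso f F).hom.hom (top_X2_eq f) _ _ (canIso_secPull f F s)
  · intro s' H
    have H2 : (EtDesc.canIso f F).hom.hom.app (op (EtCoh.top (pullback f f)))
          (EtDesc.secPull (pullback.fst f f) ((EtDesc.pullSh f).obj F) s') =
        EtDesc.secPull (pullback.snd f f) ((EtDesc.pullSh f).obj F) s' :=
      bridge (EtDesc.canIso f F).hom.hom (top_X2_eq f) _ _ H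
    let σ : F'.obj.obj (op ((EtCoh.bc f).obj (EtCoh.top X))) :=
      F'.obj.map (EtCore.bcTopIso f).hom.op s'
    obtain ⟨t₀, ht₀⟩ := exists_descent f (quotient_fst f hf) F (EtCoh.top X) σ (by
      intro U h t y z hyz hy
      have e : F'.obj.map ((EtCoh.bc f).map h).op σ =
          F'.obj.map ((EtCoh.bc f).map h ≫ (EtCore.bcTopIso f).hom).op s' :=
        map_map_apply F'.obj _ _ s'
      rw [e] at hy ⊢
      exact sat_of_descent f F s' H2 U t _ y z hyz hy)
    refine ⟨t₀, ?_⟩
    rw [secPull_def, ht₀]
    exact map_inv_hom_apply F'.obj (EtCore.bcTopIso f) s'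

end Main

end Groth.Agent.Lib.T2H8DescSat
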