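import Mathlib
import Groth.Prelude.Def_SGA4b
import Groth.Agent.Lib.T2H8DescSat

set_option autoImplicit false
universe u
open CategoryTheory CategoryTheory.Limits AlgebraicGeometry Opposite

namespace Groth.Agent.Lib.T2H8DescFF

open Groth.Agent.Lib.T2H8Agree Groth.Agent.Lib.T2H8SecPull Groth.Agent.Lib.T2H8DescCore
  Groth.Agent.Lib.T2H8DescSat

section Comp

variable {Y X' X : Scheme.{u}} (g : Y ⟶ X') (f : X' ⟶ X)

/-- transport of a morphism `f^* F ⟶ f^* G` to `b^* F ⟶ b^* G` along `g` (`g ≫ f = b`). -/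
noncomputable def atil (b : Y ⟶ X) (w : g ≫ f = b) {F G : EtDesc.Sh X}
    (a : (EtDesc.pullSh f).obj F ⟶ (EtDesc.pullSh f).obj G) :
    (EtDesc.pullSh b).obj F ⟶ (EtDesc.pullSh b).obj G :=
  (EtDesc.pullVia g f b w F).inv ≫ (EtDesc.pullSh g).map a ≫ (EtDesc.pullVia g f b w G).hom

set_option backward.isDefEq.respectTransparency.types false in
theorem mem_agree_hom_comp_iff (b : Y ⟶ X) (w : g ≫ f = b) {F G : EtDesc.Sh X}
    (a : (EtDesc.pullSh f).obj F ⟶ (EtDesc.pullSh f).obj G) (U : X.Etale)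
    (t : F.obj.obj (op U)) (t₁ : G.obj.obj (op U)) (y : ((EtCoh.bc b).obj U).left) :
    y ∈ agree ((EtDesc.pullSh b).obj G) (((EtDesc.adjSh b).unit.app G).hom.app (op U) t₁)
        ((atil g f b w a).hom.app (op ((EtCoh.bc b).obj U))
          (((EtDesc.adjSh b).unit.app F).hom.app (op U) t)) ↔
      (qmap g f b w U) y ∈ agree ((EtDesc.pullSh f).obj G)
        (((EtDesc.adjSh f).unit.app G).hom.app (op U) t₁)
        (a.hom.app (op ((EtCoh.bc f).obj U)) (((EtDesc.adjSh f).unit.app F).hom.app (op U) t)) := by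
  subst w
  let F' := (EtDesc.pullSh f).obj F
  let G' := (EtDesc.pullSh f).obj G
  let MF := (EtDesc.pullSh g).obj F'
  let MG := (EtDesc.pullSh g).obj G'
  let ΦF : (EtDesc.pullSh (g ≫ f)).obj F ≅ MF := (EtDesc.pullCompSh g f).app F
  let ΦG : (EtDesc.pullSh (g ≫ f)).obj G ≅ MG := (EtDesc.pullCompSh g f).app G
  let ι := (MorphismProperty.Over.pullbackComp (P := EtCoh.etaleMP) (Q := ⊤) g f).hom.app U
  have h1F : (EtDesc.pullVia g f (g ≫ f) rfl F).inv = (EtDesc.pullCompSh g f).hom.app F := by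
    simp [EtDesc.pullVia, EtDesc.pullCongrSh]
  have h1G : (EtDesc.pullVia g f (g ≫ f) rfl G).hom = (EtDesc.pullCompSh g f).inv.app G := by
    simp [EtDesc.pullVia, EtDesc.pullCongrSh]
  let α₁ := ((EtDesc.adjSh f).unit.app G).hom.app (op U) t₁
  let β := a.hom.app (op ((EtCoh.bc f).obj U)) (((EtDesc.adjSh f).unit.app F).hom.app (op U) t)
  let A := ((EtDesc.adjSh (g ≫ f)).unit.app G).hom.app (op U) t₁
  let B := (atil g f (g ≫ f) rfl a).hom.app (op ((EtCoh.bc (g ≫ f)).obj U))
          (((EtDesc.adjSh (g ≫ f)).unit.app F).hom.app (op U) t)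
  have hA : ΦG.hom.hom.app (op ((EtCoh.bc (g ≫ f)).obj U)) A =
      MG.obj.map ι.op (((EtDesc.adjSh g).unit.app G').hom.app (op ((EtCoh.bc f).obj U)) α₁) :=
    congrArg (fun m => m.hom.app (op U) t₁) (unit_pullCompSh g f G)
  have hF : ΦF.hom.hom.app (op ((EtCoh.bc (g ≫ f)).obj U))
      (((EtDesc.adjSh (g ≫ f)).unit.app F).hom.app (op U) t) =
      MF.obj.map ι.op (((EtDesc.adjSh g).unit.app F').hom.app (op ((EtCoh.bc f).obj U))
        (((EtDesc.adjSh f).unit.app F).hom.app (op U) t)) :=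
    congrArg (fun m => m.hom.app (op U) t) (unit_pullCompSh g f F)
  have hB : ΦG.hom.hom.app (op ((EtCoh.bc (g ≫ f)).obj U)) B =
      MG.obj.map ι.op (((EtDesc.adjSh g).unit.app G').hom.app (op ((EtCoh.bc f).obj U)) β) := by
    have d1 : atil g f (g ≫ f) rfl a ≫ ΦG.hom = ΦF.hom ≫ (EtDesc.pullSh g).map a := by
      have e2 : (EtDesc.pullVia g f (g ≫ f) rfl G).hom ≫ ΦG.hom = 𝟙 _ := by
        rw [h1G]
        exact (EtDesc.pullCompSh g f).inv_hom_id_app G
      dsimp only [atil]
      rw [Category.assoc, Category.assoc, e2, h1F]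
      exact congrArg (fun z => ΦF.hom ≫ z) (Category.comp_id ((EtDesc.pullSh g).map a))
    have d2 : ΦG.hom.hom.app (op ((EtCoh.bc (g ≫ f)).obj U)) B =
        ((EtDesc.pullSh g).map a).hom.app (op ((EtCoh.bc (g ≫ f)).obj U))
          (ΦF.hom.hom.app (op ((EtCoh.bc (g ≫ f)).obj U))
            (((EtDesc.adjSh (g ≫ f)).unit.app F).hom.app (op U) t)) :=
      congrArg (fun m => m.hom.app (op ((EtCoh.bc (g ≫ f)).obj U))
        (((EtDesc.adjSh (g ≫ f)).unit.app F).hom.app (op U) t)) d1
    rw [d2, hF]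
    have n1 := NatTrans.naturality_apply ((EtDesc.pullSh g).map a).hom ι.op
      (((EtDesc.adjSh g).unit.app F').hom.app (op ((EtCoh.bc f).obj U))
        (((EtDesc.adjSh f).unit.app F).hom.app (op U) t))
    refine n1.trans ?_
    congr 1
    exact congrArg (fun m => m.hom.app (op ((EtCoh.bc f).obj U))
      (((EtDesc.adjSh f).unit.app F).hom.app (op U) t)) ((EtDesc.adjSh g).unit.naturality a).symm
  have k0 := agree_eq_of_iso ΦG A B
  have k1 : y ∈ agree ((EtDesc.pullSh (g ≫ f)).obj G) A B ↔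
      y ∈ agree MG (ΦG.hom.hom.app (op ((EtCoh.bc (g ≫ f)).obj U)) A)
        (ΦG.hom.hom.app (op ((EtCoh.bc (g ≫ f)).obj U)) B) := by
    rw [k0]
  refine k1.trans ?_
  rw [hA, hB]
  refine (mem_agree_map_iff MG ι _ _ y).trans ?_
  refine (mem_agree_pull_iff g G' α₁ β (ι.left y)).trans ?_
  have hq : (pullback.fst ((EtCoh.bc f).obj U).hom g) (ι.left y) = (qmap g f (g ≫ f) rfl U) y := by
    rw [← pullbackComp_left_fst g f U]
    rfl
  rw [hq]

end Comp


section Main

variable {X' X : Scheme.{u}} (f : X' ⟶ X)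

set_option backward.isDefEq.respectTransparency.types false in
/-- the compatibility with the canonical descent data says that the two transports to
`X' ×_X X'` agree. -/
lemma atil_eq {F G : EtDesc.Sh X} (a : (EtDesc.pullSh f).obj F ⟶ (EtDesc.pullSh f).obj G)
    (ha : (EtDesc.canIso f F).hom ≫ (EtDesc.pullSh (pullback.snd f f)).map a =
      (EtDesc.pullSh (pullback.fst f f)).map a ≫ (EtDesc.canIso f G).hom) :
    atil (pullback.fst f f) f (pullback.fst f f ≫ f) rfl a =
      atil (pullback.snd f f) f (pullback.fst f f ≫ f) pullback.condition.symm a := by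
  rw [canIso_eq, canIso_eq] at ha
  simp only [Iso.trans_hom, Iso.symm_hom, Category.assoc] at ha
  dsimp only [atil]
  rw [Iso.inv_comp_eq]
  have h2 := ha =≫ (EtDesc.pullVia (pullback.snd f f) f (pullback.fst f f ≫ f)
    pullback.condition.symm G).hom
  simp only [Category.assoc, Iso.inv_hom_id, Category.comp_id] at h2
  exact h2.symm

set_option backward.isDefEq.respectTransparency.types false in
/-- saturation of the agreement loci from the compatibility with descent data. -/
theorem sat_of_compat {F G : EtDesc.Sh X}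
    (a : (EtDesc.pullSh f).obj F ⟶ (EtDesc.pullSh f).obj G)
    (ha : (EtDesc.canIso f F).hom ≫ (EtDesc.pullSh (pullback.snd f f)).map a =
      (EtDesc.pullSh (pullback.fst f f)).map a ≫ (EtDesc.canIso f G).hom)
    (U : X.Etale) (t : F.obj.obj (op U)) (t₁ : G.obj.obj (op U))
    (y z : ((EtCoh.bc f).obj U).left)
    (hyz : (pullback.fst U.hom f) y = (pullback.fst U.hom f) z)
    (hy : y ∈ agree ((EtDesc.pullSh f).obj G) (((EtDesc.adjSh f).unit.app G).hom.app (op U) t₁)
        (a.hom.app (op ((EtCoh.bc f).obj U)) (((EtDesc.adjSh f).unit.app F).hom.app (op U) t))) :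
    z ∈ agree ((EtDesc.pullSh f).obj G) (((EtDesc.adjSh f).unit.app G).hom.app (op U) t₁)
        (a.hom.app (op ((EtCoh.bc f).obj U)) (((EtDesc.adjSh f).unit.app F).hom.app (op U) t)) := by
  obtain ⟨w, hw₁, hw₂⟩ := exists_point f U y z hyz
  have k₁ := mem_agree_hom_comp_iff (pullback.fst f f) f (pullback.fst f f ≫ f) rfl a U t t₁ w
  have k₂ := mem_agree_hom_comp_iff (pullback.snd f f) f (pullback.fst f f ≫ f)
    pullback.condition.symm a U t t₁ w
  rw [atil_eq f a ha] at k₁
  exact Set.mem_of_eq_of_mem hw₂.symm (k₂.mp (k₁.mpr (Set.mem_of_eq_of_mem hw₁ hy)))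

end Main


section Final

variable {X' X : Scheme.{u}} (f : X' ⟶ X)

set_option backward.isDefEq.respectTransparency.types false in
/-- sectionwise descent of a morphism compatible with the descent data. -/
lemma exists_section_of_compat (hf : EtDesc.IsUnivSubmersive f) {F G : EtDesc.Sh X}
    (a : (EtDesc.pullSh f).obj F ⟶ (EtDesc.pullSh f).obj G)
    (ha : (EtDesc.canIso f F).hom ≫ (EtDesc.pullSh (pullback.snd f f)).map a =
      (EtDesc.pullSh (pullback.fst f f)).map a ≫ (EtDesc.canIso f G).hom)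
    (U : X.Etale) (t : F.obj.obj (op U)) :
    ∃ t' : G.obj.obj (op U), ((EtDesc.adjSh f).unit.app G).hom.app (op U) t' =
      a.hom.app (op ((EtCoh.bc f).obj U)) (((EtDesc.adjSh f).unit.app F).hom.app (op U) t) := by
  apply exists_descent f (quotient_fst f hf) G U
  intro U₁ h t₁ y z hyz hy
  have e : ((EtDesc.pullSh f).obj G).obj.map ((EtCoh.bc f).map h).op
      (a.hom.app (op ((EtCoh.bc f).obj U)) (((EtDesc.adjSh f).unit.app F).hom.app (op U) t)) =
      a.hom.app (op ((EtCoh.bc f).obj U₁))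
        (((EtDesc.adjSh f).unit.app F).hom.app (op U₁) (F.obj.map h.op t)) := by
    rw [unit_map f F h t]
    exact (NatTrans.naturality_apply a.hom ((EtCoh.bc f).map h).op _).symm
  rw [e] at hy ⊢
  exact sat_of_compat f a ha U₁ _ t₁ y z hyz hy

set_option backward.isDefEq.respectTransparency.types false in
/-- `S3048`. -/
theorem exists_unique_hom (hf : EtDesc.IsUnivSubmersive f) (F G : EtDesc.Sh X)
    (a : (EtDesc.pullSh f).obj F ⟶ (EtDesc.pullSh f).obj G)
    (ha : (EtDesc.canIso f F).hom ≫ (EtDesc.pullSh (pullback.snd f f)).map a =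
      (EtDesc.pullSh (pullback.fst f f)).map a ≫ (EtDesc.canIso f G).hom) :
    ∃! b : F ⟶ G, (EtDesc.pullSh f).map b = a := by
  haveI : Surjective f := surjective_of_quotient f (quotient_fst f hf)
  have hinj : ∀ U : X.Etale, Function.Injective (((EtDesc.adjSh f).unit.app G).hom.app (op U)) :=
    fun U => unit_injective f G U
  choose bfun hb using exists_section_of_compat f hf a ha
  have hnat : ∀ {U V : X.Etale} (h : V ⟶ U) (t : F.obj.obj (op U)),
      bfun V (F.obj.map h.op t) = G.obj.map h.op (bfun U t) := by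
    intro U V h t
    apply hinj V
    rw [hb, unit_map f G h, hb, unit_map f F h t]
    exact NatTrans.naturality_apply a.hom ((EtCoh.bc f).map h).op _
  let b : F ⟶ G := ⟨{
    app := fun U => TypeCat.ofHom (bfun U.unop)
    naturality := by
      intro U V h
      ext t
      exact hnat h.unop t }⟩
  have hbη : b ≫ (EtDesc.adjSh f).unit.app G =
      (EtDesc.adjSh f).unit.app F ≫ (EtDesc.pushSh f).map a := by
    apply Sheaf.hom_ext
    ext U t
    exact hb U.unop t
  have hunit : ∀ c : F ⟶ G, c ≫ (EtDesc.adjSh f).unit.app G =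
      (EtDesc.adjSh f).unit.app F ≫ (EtDesc.pushSh f).map ((EtDesc.pullSh f).map c) :=
    fun c => (EtDesc.adjSh f).unit.naturality c
  refine ⟨b, ?_, ?_⟩
  · apply ((EtDesc.adjSh f).homEquiv F ((EtDesc.pullSh f).obj G)).injective
    rw [Adjunction.homEquiv_unit, Adjunction.homEquiv_unit, ← hunit b]
    exact hbη
  · intro b' hb'
    have e : b' ≫ (EtDesc.adjSh f).unit.app G = b ≫ (EtDesc.adjSh f).unit.app G := by
      rw [hunit b', hb', hbη]
    apply Sheaf.hom_ext
    ext U t
    apply hinj U.unop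
    exact congrArg (fun m => m.hom.app U t) e

end Final

end Groth.Agent.Lib.T2H8DescFF
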