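import Mathlib
import Groth.Prelude.Def_CAlgX

/-!
# A Jacobian-type criterion for non-smoothness of quotients of polynomial rings (helper8)
-/

set_option linter.style.haveILetI false
set_option linter.unusedSectionVars false

noncomputable section

open MvPolynomial TensorProduct

namespace Groth.Agent.Lib.T2H8.DetSm

universe u

section Deriv

variable {k : Type*} [CommRing k] {σ : Type*} [Fintype σ] {M : Type*} [AddCommGroup M]
  [Module k M] [Module (MvPolynomial σ k) M] [IsScalarTower k (MvPolynomial σ k) M]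

theorem derivation_eq_sum_pderiv (d : Derivation k (MvPolynomial σ k) M) (f : MvPolynomial σ k) :
    d f = ∑ v, pderiv v f • d (X v) := by
  classical
  induction f using MvPolynomial.induction_on with
  | C a =>
    have h1 : d (C a) = 0 := d.map_algebraMap a
    rw [h1]
    simp
  | add p q hp hq =>
    rw [map_add, hp, hq, ← Finset.sum_add_distrib]
    refine Finset.sum_congr rfl fun v _ => ?_
    rw [map_add, add_smul]
  | mul_X p w hp =>
    rw [Derivation.leibniz, hp]
    have h1 : ∀ v : σ, pderiv v (p * X w) • d (X v : MvPolynomial σ k) =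
        (X w : MvPolynomial σ k) • (pderiv v p • d (X v : MvPolynomial σ k)) +
          (if v = w then p • d (X w : MvPolynomial σ k) else 0) := by
      intro v
      rw [Derivation.leibniz, pderiv_X, smul_eq_mul, smul_eq_mul, add_smul, add_comm]
      congr 1
      · rw [smul_smul, mul_comm]
      · by_cases hvw : v = w
        · subst hvw
          simp
        · rw [if_neg hvw, Pi.single_eq_of_ne (Ne.symm hvw)]
          simp
    simp_rw [h1]
    rw [Finset.sum_add_distrib, ← Finset.smul_sum, Finset.sum_ite_eq' Finset.univ w]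
    simp [add_comm]

end Deriv


section Criterion

variable {k : Type u} [Field k] {σ : Type} [Fintype σ]

open KaehlerDifferential in
theorem not_mem_smoothLocus_of_pderiv_mem (I : Ideal (MvPolynomial σ k))
    (gens : Set (MvPolynomial σ k)) (hI : I = Ideal.span gens) (hne : I ≠ ⊥)
    (P : PrimeSpectrum (MvPolynomial σ k ⧸ I))
    (hP : ∀ f ∈ gens, ∀ v, Ideal.Quotient.mk I (pderiv v f) ∈ P.asIdeal) :
    P ∉ Algebra.smoothLocus k (MvPolynomial σ k ⧸ I) := by
  intro hsm
  set R := MvPolynomial σ k with hR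
  set B := R ⧸ I with hB
  set Q : Ideal R := P.asIdeal.comap (Ideal.Quotient.mk I) with hQ
  haveI : Q.IsPrime := Ideal.comap_isPrime _ _
  set S := Localization.AtPrime Q with hS
  set J : Ideal S := I.map (algebraMap R S) with hJ
  set A := S ⧸ J with hA
  -- `A` is the localization of `B` at `P`
  have hsub : Algebra.algebraMapSubmonoid B Q.primeCompl = P.asIdeal.primeCompl := by
    ext x
    constructor
    · rintro ⟨y, hy, rfl⟩
      exact hy
    · intro hx
      obtain ⟨y, rfl⟩ := Ideal.Quotient.mk_surjective x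
      exact ⟨y, hx, rfl⟩
  haveI hloc : IsLocalization.AtPrime A P.asIdeal := by
    have : IsLocalization (Algebra.algebraMapSubmonoid B Q.primeCompl) A := inferInstance
    rwa [hsub] at this
  haveI hst : IsScalarTower k B A := by
    exact IsScalarTower.of_algebraMap_eq (R := k) (S := B) (A := A) fun a => rfl
  have hsmA : Algebra.FormallySmooth k A := by
    have h0 : Algebra.FormallySmooth k (Localization.AtPrime P.asIdeal) := hsm
    refine (Algebra.FormallySmooth.iff_of_equiv ?_).mp h0
    exact (IsLocalization.algEquiv P.asIdeal.primeCompl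
      (Localization.AtPrime P.asIdeal) A).restrictScalars k
  haveI : Algebra.FormallySmooth k R := inferInstance
  haveI : Algebra.FormallySmooth R S := Algebra.FormallySmooth.of_isLocalization Q.primeCompl
  haveI : Algebra.FormallySmooth k S := Algebra.FormallySmooth.comp k R S
  have hsurj : Function.Surjective (algebraMap S A) := Ideal.Quotient.mk_surjective
  set K := RingHom.ker (algebraMap S A) with hK
  obtain ⟨l, hl⟩ := (Algebra.FormallySmooth.iff_split_injection (R := k) (P := S) (A := A) hsurj).mp hsmA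
  set 𝔪 := IsLocalRing.maximalIdeal S with h𝔪
  have hQ𝔪 : ∀ x ∈ Q, algebraMap R S x ∈ 𝔪 := by
    intro x hx
    rw [h𝔪, ← IsLocalization.AtPrime.map_eq_maximalIdeal Q S]
    exact Ideal.mem_map_of_mem _ hx
  have hIQ : I ≤ Q := by
    intro x hx
    show Ideal.Quotient.mk I x ∈ P.asIdeal
    rw [Ideal.Quotient.eq_zero_iff_mem.mpr hx]
    exact Ideal.zero_mem _
  have hker : K = J := Ideal.mk_ker
  -- the key claim
  have key : ∀ x ∈ J, ((1 : A) ⊗ₜ[S] D k S x) ∈ (𝔪 • (⊤ : Submodule S (A ⊗[S] Ω[S⁄k]))) := by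
    intro x hx
    rw [hJ, hI, Ideal.map_span] at hx
    induction hx using Submodule.span_induction with
    | mem x hx =>
      obtain ⟨f, hf, rfl⟩ := hx
      have h1 := derivation_eq_sum_pderiv ((D k S).compAlgebraMap R) f
      have h0 : ∀ g : R, (Derivation.compAlgebraMap R (D k S)) g = D k S (algebraMap R S g) :=
        fun g => rfl
      rw [h0] at h1
      rw [h1, TensorProduct.tmul_sum]
      refine Submodule.sum_mem _ fun v _ => ?_
      rw [← algebraMap_smul S (pderiv v f), TensorProduct.tmul_smul]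
      exact Submodule.smul_mem_smul (hQ𝔪 _ (hP f hf v)) Submodule.mem_top
    | zero =>
      rw [map_zero, TensorProduct.tmul_zero]
      exact Submodule.zero_mem _
    | add x y _ _ hx hy =>
      rw [map_add, TensorProduct.tmul_add]
      exact Submodule.add_mem _ hx hy
    | smul a x hx hpx =>
      rw [smul_eq_mul, Derivation.leibniz, TensorProduct.tmul_add, TensorProduct.tmul_smul,
        TensorProduct.tmul_smul]
      refine Submodule.add_mem _ (Submodule.smul_mem _ _ hpx) ?_
      have h2 : x • ((1 : A) ⊗ₜ[S] D k S a) = 0 := by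
        rw [TensorProduct.smul_tmul']
        have h3 : x • (1 : A) = algebraMap S A x :=
          (Algebra.algebraMap_eq_smul_one x).symm
        rw [h3]
        have : algebraMap S A x = 0 := by
          have hxK : x ∈ K := by
            rw [hker, hJ, hI, Ideal.map_span]
            exact hx
          exact hxK
        rw [this, TensorProduct.zero_tmul]
      rw [h2]
      exact Submodule.zero_mem _
  -- consequence: `K ≤ 𝔪 * K`
  have hK𝔪 : K ≤ 𝔪 := by
    rw [hker, hJ, Ideal.map_le_iff_le_comap]
    intro x hx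
    exact hQ𝔪 x (hIQ hx)
  have hle : K ≤ 𝔪 • K := by
    intro x hx
    have h1 : Ideal.toCotangent K ⟨x, hx⟩ = l ((1 : A) ⊗ₜ[S] D k S x) := by
      have := LinearMap.congr_fun hl (Ideal.toCotangent K ⟨x, hx⟩)
      rw [LinearMap.comp_apply, kerCotangentToTensor_toCotangent] at this
      exact this.symm
    have h2 : l ((1 : A) ⊗ₜ[S] D k S x) ∈ 𝔪 • (⊤ : Submodule S K.Cotangent) := by
      have h3 := Submodule.mem_map_of_mem (f := l) (key x (by rw [← hker]; exact hx))
      rw [Submodule.map_smul''] at h3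
      exact Submodule.smul_mono le_rfl le_top h3
    rw [← h1] at h2
    have h4 : (𝔪 • (⊤ : Submodule S K.Cotangent)) =
        Submodule.map (Ideal.toCotangent K) (𝔪 • (⊤ : Submodule S K)) := by
      rw [Submodule.map_smul'', Submodule.map_top, LinearMap.range_eq_top.mpr
        (Ideal.toCotangent_surjective K)]
    rw [h4] at h2
    obtain ⟨y, hy, hyx⟩ := h2
    rw [Ideal.toCotangent_eq] at hyx
    have h5 : ∀ y : K, y ∈ 𝔪 • (⊤ : Submodule S K) → (y : S) ∈ 𝔪 • K := by
      intro y hy
      refine Submodule.smul_induction_on (p := fun y : K => (y : S) ∈ 𝔪 • K) hy ?_ ?_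
      · intro a ha z _
        exact Submodule.smul_mem_smul ha z.2
      · intro z w hz hw
        exact Submodule.add_mem _ hz hw
    have h6 : (y : S) - x ∈ 𝔪 • K := by
      have : K ^ 2 ≤ 𝔪 • K := by
        rw [pow_two, smul_eq_mul]
        exact Ideal.mul_mono_left hK𝔪
      exact this hyx
    have h7 := Submodule.sub_mem _ (h5 y hy) h6
    simpa using h7
  have hKbot : K = ⊥ := by
    refine Submodule.eq_bot_of_le_smul_of_le_jacobson_bot 𝔪 K (IsNoetherian.noetherian K) hle ?_
    rw [IsLocalRing.jacobson_eq_maximalIdeal ⊥ bot_ne_top]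
  apply hne
  rw [eq_bot_iff]
  intro x hx
  have h1 : algebraMap R S x ∈ K := by
    rw [hker, hJ]
    exact Ideal.mem_map_of_mem _ hx
  rw [hKbot, Ideal.mem_bot] at h1
  rw [Ideal.mem_bot]
  exact (IsLocalization.injective S (Ideal.primeCompl_le_nonZeroDivisors Q))
    (h1.trans (map_zero _).symm)

end Criterion


section DetDeriv

variable {k : Type*} [CommRing k] {A : Type*} [CommRing A] [Algebra k A]

theorem derivation_prod {ι : Type*} [DecidableEq ι] (d : Derivation k A A) (s : Finset ι)
    (f : ι → A) : d (∏ i ∈ s, f i) = ∑ j ∈ s, (∏ i ∈ s.erase j, f i) * d (f j) := by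
  induction s using Finset.induction_on with
  | empty => simp
  | insert a s ha ih =>
    rw [Finset.prod_insert ha, Derivation.leibniz, ih, Finset.sum_insert ha,
      Finset.erase_insert ha, smul_eq_mul, smul_eq_mul, Finset.mul_sum, add_comm]
    congr 1
    refine Finset.sum_congr rfl fun j hj => ?_
    have hja : j ≠ a := fun h => ha (h ▸ hj)
    rw [Finset.erase_insert_of_ne (Ne.symm hja), Finset.prod_insert (by
      rw [Finset.mem_erase]; exact fun h => ha h.2), mul_assoc]

theorem derivation_det {q : ℕ} (d : Derivation k A A) (M : Matrix (Fin q) (Fin q) A) :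
    d M.det = ∑ j, (M.updateCol j (fun i => d (M i j))).det := by
  classical
  simp only [Matrix.det_apply]
  rw [map_sum, Finset.sum_comm]
  refine Finset.sum_congr rfl fun σ _ => ?_
  have h0 : ∀ x : A, d (Equiv.Perm.sign σ • x) = Equiv.Perm.sign σ • d x := by
    intro x
    rw [Units.smul_def, Units.smul_def, map_zsmul]
  rw [h0, derivation_prod, Finset.smul_sum]
  refine Finset.sum_congr rfl fun j _ => ?_
  congr 1
  rw [← Finset.mul_prod_erase Finset.univ _ (Finset.mem_univ j), Matrix.updateCol_self, mul_comm]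
  congr 1
  refine Finset.prod_congr rfl fun i hi => ?_
  rw [Matrix.updateCol_ne (Finset.ne_of_mem_erase hi)]

theorem derivation_det_mem {q : ℕ} (d : Derivation k A A) (M : Matrix (Fin (q + 1)) (Fin (q + 1)) A)
    (I : Ideal A) (hI : ∀ (a b : Fin q → Fin (q + 1)), (M.submatrix a b).det ∈ I) :
    d M.det ∈ I := by
  rw [derivation_det]
  refine Ideal.sum_mem _ fun j _ => ?_
  rw [Matrix.det_succ_column _ j]
  refine Ideal.sum_mem _ fun i _ => ?_
  rw [Matrix.submatrix_updateCol_succAbove]
  exact Ideal.mul_mem_left _ _ (hI _ _)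

end DetDeriv


section Generic

variable (k : Type u) [Field k] (n m : ℕ)

/-- the generic `n × m` matrix -/
abbrev Xmat : Matrix (Fin n) (Fin m) (MvPolynomial (Fin n × Fin m) k) :=
  Matrix.of fun (i : Fin n) (j : Fin m) => (MvPolynomial.X (i, j) : MvPolynomial (Fin n × Fin m) k)

theorem pderiv_minor_mem (r : ℕ) (f : Fin (r + 1) → Fin n) (g : Fin (r + 1) → Fin m)
    (v : Fin n × Fin m) :
    pderiv v ((Xmat k n m).submatrix f g).det ∈ CAlgX.minorIdeal (Xmat k n m) r := by
  apply derivation_det_mem
  intro a b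
  rw [Matrix.submatrix_submatrix]
  exact Ideal.subset_span ⟨(f ∘ a, g ∘ b), rfl⟩

theorem minor_ne_zero (r : ℕ) (hn : r ≤ n) (hm : r ≤ m) :
    ((Xmat k n m).submatrix (fun i : Fin r => (⟨i.val, lt_of_lt_of_le i.isLt hn⟩ : Fin n))
      (fun i : Fin r => (⟨i.val, lt_of_lt_of_le i.isLt hm⟩ : Fin m))).det ≠ 0 := by
  intro h
  have h1 := congrArg (MvPolynomial.eval (fun p : Fin n × Fin m =>
    if p.1.val = p.2.val then (1 : k) else 0)) h
  rw [RingHom.map_det, map_zero] at h1
  have h2 : (MvPolynomial.eval (fun p : Fin n × Fin m =>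
      if p.1.val = p.2.val then (1 : k) else 0)).mapMatrix
      ((Xmat k n m).submatrix (fun i : Fin r => (⟨i.val, lt_of_lt_of_le i.isLt hn⟩ : Fin n))
        (fun i : Fin r => (⟨i.val, lt_of_lt_of_le i.isLt hm⟩ : Fin m))) = 1 := by
    ext i j
    simp [Matrix.one_apply, Fin.ext_iff]
  rw [h2, Matrix.det_one] at h1
  exact one_ne_zero h1

theorem minorIdeal_ne_bot (r : ℕ) (hn : r ≤ n) (hm : r ≤ m) :
    CAlgX.minorIdeal (Xmat k n m) r ≠ ⊥ := by
  intro h
  apply minor_ne_zero k n m r hn hm
  have : ((Xmat k n m).submatrix (fun i : Fin r => (⟨i.val, lt_of_lt_of_le i.isLt hn⟩ : Fin n))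
      (fun i : Fin r => (⟨i.val, lt_of_lt_of_le i.isLt hm⟩ : Fin m))).det ∈
      CAlgX.minorIdeal (Xmat k n m) r := Ideal.subset_span ⟨(_, _), rfl⟩
  rwa [h, Ideal.mem_bot] at this

theorem not_mem_smoothLocus_generic (r : ℕ) (hr : r < min n m)
    (P : PrimeSpectrum (MvPolynomial (Fin n × Fin m) k ⧸ CAlgX.minorIdeal (Xmat k n m) (r + 1)))
    (hP : (CAlgX.minorIdeal (Xmat k n m) r).map
      (Ideal.Quotient.mk (CAlgX.minorIdeal (Xmat k n m) (r + 1))) ≤ P.asIdeal) :
    P ∉ Algebra.smoothLocus k
      (MvPolynomial (Fin n × Fin m) k ⧸ CAlgX.minorIdeal (Xmat k n m) (r + 1)) := by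
  refine not_mem_smoothLocus_of_pderiv_mem (CAlgX.minorIdeal (Xmat k n m) (r + 1))
    (Set.range fun fg : (Fin (r + 1) → Fin n) × (Fin (r + 1) → Fin m) =>
      Matrix.det ((Xmat k n m).submatrix fg.1 fg.2)) rfl
    (minorIdeal_ne_bot k n m (r + 1) (by omega) (by omega)) P ?_
  rintro _ ⟨⟨f, g⟩, rfl⟩ v
  exact hP (Ideal.mem_map_of_mem _ (pderiv_minor_mem k n m r f g v))

end Generic

end Groth.Agent.Lib.T2H8.DetSm
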