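import Mathlib
import Groth.Prelude.Def_W4bk4grassmannianPl
import Groth.Prelude.Def_CAlgX
import Groth.Agent.S11275
import Groth.Agent.Lib.T2H8GrassCoord
import Groth.Agent.Lib.T2H8GrassCell
import Groth.Agent.Lib.T2H8GrassPrime
import Groth.Agent.Lib.T2H8GrassSMT
import Groth.Agent.Lib.T2H8GrassPlucker

/-!
# Determinantal varieties as opposite cells of Schubert varieties (helper8)

`Psi : K[X_θ] → K[Z]` sends the Plücker coordinate `X_θ` to the minor of `[I_d ; Z]` on the rows `θ`.
* `Psi_surjective`
* `mem_minorIdeal_of_vanishing`: a polynomial in the entries of the generic `r × d` matrix vanishing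
  at all products `U W` with inner size `t - 1` lies in the ideal of `t`-minors.
-/

noncomputable section

open MvPolynomial W4bk4grassmannian

namespace Groth.Agent.Lib.T2H8.GrassDet

open Groth.Agent.Lib.T2H8.Grass

universe u

section Core

variable (K : Type u) [Field K] (d r : ℕ)

/-- the dehomogenization map: the Plücker coordinate `X_θ` goes to the minor of `[I_d ; Z]` on the
rows `θ` -/
def Psi : PlRing K d (d + r) →ₐ[K] CellRing K d r := aeval fun θ => cellMinor K d r θ

theorem Psi_X (θ : Idx d (d + r)) : Psi K d r (X θ) = cellMinor K d r θ := by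
  simp [Psi]

/-- the matrix `[I_d ; Z₀]` -/
def cellPt (z : Fin r × Fin d → K) : Matrix (Fin (d + r)) (Fin d) K :=
  (cellMatrix K d r).map (eval z)

theorem cellPt_castAdd (z : Fin r × Fin d → K) (c j : Fin d) :
    cellPt K d r z (Fin.castAdd r c) j = if c = j then 1 else 0 := by
  unfold cellPt
  rw [Matrix.map_apply, Groth.Agent.S11275.cellMatrix_castAdd]
  split_ifs <;> simp

theorem cellPt_natAdd (z : Fin r × Fin d → K) (ρ : Fin r) (j : Fin d) :
    cellPt K d r z (Fin.natAdd d ρ) j = z (ρ, j) := by
  unfold cellPt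
  rw [Matrix.map_apply, Groth.Agent.S11275.cellMatrix_natAdd]
  simp [genMatrix]

theorem eval_cellMinor (z : Fin r × Fin d → K) (θ : Idx d (d + r)) :
    eval z (cellMinor K d r θ) = ((cellPt K d r z).submatrix θ.1 id).det := by
  unfold cellMinor cellPt
  rw [RingHom.map_det, RingHom.mapMatrix_apply]
  rfl

theorem eval_Psi (z : Fin r × Fin d → K) (F : PlRing K d (d + r)) :
    eval z (Psi K d r F) = evalMinors K d (d + r) (cellPt K d r z) F := by
  induction F using MvPolynomial.induction_on with
  | C a => simp [Psi, evalMinors]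
  | add p q hp hq => rw [map_add, map_add, map_add, hp, hq]
  | mul_X p θ hp =>
    rw [map_mul, map_mul, map_mul, hp, Psi_X, evalMinors_X, eval_cellMinor]

theorem Psi_eq_zero_of_mem_vanishing [Infinite K] {F : PlRing K d (d + r)}
    (hF : F ∈ vanishing K d (d + r)) : Psi K d r F = 0 := by
  apply MvPolynomial.funext
  intro z
  rw [eval_Psi, map_zero]
  unfold vanishing at hF
  simp only [Ideal.mem_iInf] at hF
  exact hF _

theorem Psi_coord [Infinite K] (a : Fin d → Fin (d + r)) :
    Psi K d r (coord K d (d + r) a) = ((cellMatrix K d r).submatrix a id).det := by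
  apply MvPolynomial.funext
  intro z
  rw [eval_Psi, evalMinors_coord, RingHom.map_det, RingHom.mapMatrix_apply]
  rfl

theorem Psi_iota (hr : 0 < r) : Psi K d r (X (iotaIdx (Nat.lt_add_of_pos_right hr))) = 1 := by
  rw [Psi_X]
  unfold cellMinor
  have : (cellMatrix K d r).submatrix (iotaIdx (Nat.lt_add_of_pos_right hr : d < d + r)).1 id = 1 := by
    ext s j
    rw [Matrix.submatrix_apply, id]
    have : (iotaIdx (Nat.lt_add_of_pos_right hr : d < d + r)).1 s = Fin.castAdd r s := Fin.ext rfl
    rw [this, Groth.Agent.S11275.cellMatrix_castAdd, Matrix.one_apply]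
  rw [this, Matrix.det_one]

theorem X_mem_range_Psi [Infinite K] (hr : 0 < r) (ρ : Fin r) (j : Fin d) :
    (X (ρ, j) : CellRing K d r) ∈ (Psi K d r).range := by
  refine ⟨coord K d (d + r) (Function.update
    (iotaIdx (Nat.lt_add_of_pos_right hr : d < d + r)).1 j (Fin.natAdd d ρ)), ?_⟩
  show Psi K d r _ = _
  rw [Psi_coord]
  have h1 : (cellMatrix K d r).submatrix (Function.update
      (iotaIdx (Nat.lt_add_of_pos_right hr : d < d + r)).1 j (Fin.natAdd d ρ)) id =
      (Matrix.diagonal (fun _ => (1 : CellRing K d r))).updateRow j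
        (fun j' => X (ρ, j')) := by
    refine Matrix.ext fun s c => ?_
    rw [Matrix.submatrix_apply, id, Matrix.updateRow_apply]
    by_cases hs : s = j
    · rw [if_pos hs, hs, Function.update_self, Groth.Agent.S11275.cellMatrix_natAdd]
      rfl
    · rw [if_neg hs, Function.update_of_ne hs]
      have : (iotaIdx (Nat.lt_add_of_pos_right hr : d < d + r)).1 s = Fin.castAdd r s := Fin.ext rfl
      rw [this, Groth.Agent.S11275.cellMatrix_castAdd, Matrix.diagonal_apply]
  rw [h1, det_updateRow_diagonal]
  simp

theorem Psi_surjective [Infinite K] (hr : 0 < r) : Function.Surjective (Psi K d r) := by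
  rw [← AlgHom.range_eq_top, eq_top_iff, ← MvPolynomial.adjoin_range_X, Algebra.adjoin_le_iff]
  rintro _ ⟨⟨ρ, j⟩, rfl⟩
  exact X_mem_range_Psi K d r hr ρ j

end Core

section Phi

variable {d r t : ℕ}

/-- the index `φ = (t-1, …, d-1, d+r+1-t, …, d+r-1)` of the Schubert variety whose opposite cell is the
determinantal variety of `t`-minors -/
def phiIdx (ht : 0 < t) (htd : t ≤ d) (htr : t ≤ r) : Idx d (d + r) :=
  ⟨fun s => if s.val + t ≤ d then ⟨t - 1 + s.val, by have := s.isLt; omega⟩
    else ⟨r + s.val, by have := s.isLt; omega⟩, by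
    intro a b hab
    have hab' : a.val < b.val := hab
    have ha := a.isLt
    have hb := b.isLt
    dsimp only
    split_ifs <;> rw [Fin.lt_def] <;> dsimp only <;> omega⟩

theorem phiIdx_val (ht : 0 < t) (htd : t ≤ d) (htr : t ≤ r) (s : Fin d) :
    ((phiIdx ht htd htr).1 s).val = if s.val + t ≤ d then t - 1 + s.val else r + s.val := by
  unfold phiIdx
  dsimp only
  split_ifs <;> rfl

theorem le_of_not_le_phiIdx (ht : 0 < t) (htd : t ≤ d) (htr : t ≤ r) (θ : Idx d (d + r))
    (h : ¬ θ ≤ phiIdx ht htd htr) :
    d ≤ (θ.1 ⟨d - t, Nat.sub_lt (lt_of_lt_of_le ht htd) ht⟩).val := by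
  have h' : ∃ s, ¬ θ.1 s ≤ (phiIdx ht htd htr).1 s := by
    by_contra hcon
    push Not at hcon
    exact h hcon
  obtain ⟨s, hs⟩ := h'
  rw [Fin.le_def, phiIdx_val] at hs
  have hs' := s.isLt
  by_cases hst : s.val + t ≤ d
  · rw [if_pos hst] at hs
    have := strictMono_add_le θ (d - t - s.val) s ⟨d - t, Nat.sub_lt (lt_of_lt_of_le ht htd) ht⟩
      (by show d - t = s.val + (d - t - s.val); omega)
    omega
  · rw [if_neg hst] at hs
    have hd : 0 < d := lt_of_lt_of_le ht htd
    have := strictMono_add_le θ (d - 1 - s.val) s ⟨d - 1, by omega⟩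
      (by show d - 1 = s.val + (d - 1 - s.val); omega)
    have h2 := (θ.1 ⟨d - 1, by omega⟩).isLt
    omega

end Phi

section Hom

variable {K : Type u} [Field K] {σ : Type*}

theorem eval_mul_of_isHomogeneous {G : MvPolynomial σ K} {N : ℕ} (hG : G.IsHomogeneous N) (c : K)
    (g : σ → K) : eval (fun s => c * g s) G = c ^ N * eval g G := by
  rw [eval_eq, eval_eq, Finset.mul_sum]
  refine Finset.sum_congr rfl fun m hm => ?_
  have hdeg := hG.degree_eq_sum_deg_support hm
  simp only [mul_pow, Finset.prod_mul_distrib, Finset.prod_pow_eq_pow_sum]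
  rw [← hdeg]
  ring

/-- homogenization of `F` with respect to the variable `x` -/
def homogenize (F : MvPolynomial σ K) (x : σ) : MvPolynomial σ K :=
  ∑ k ∈ Finset.range (F.totalDegree + 1), homogeneousComponent k F * X x ^ (F.totalDegree - k)

theorem homogenize_isHomogeneous (F : MvPolynomial σ K) (x : σ) :
    (homogenize F x).IsHomogeneous F.totalDegree := by
  unfold homogenize
  apply IsHomogeneous.sum
  intro k hk
  have hk' : k ≤ F.totalDegree := by
    have := Finset.mem_range.mp hk; omega
  have h1 := (homogeneousComponent_isHomogeneous k F).mul (isHomogeneous_X_pow (R := K) x (F.totalDegree - k))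
  have h2 : k + (F.totalDegree - k) = F.totalDegree := by omega
  rwa [h2] at h1

theorem map_homogenize {B : Type*} [CommRing B] (f : MvPolynomial σ K →+* B) (F : MvPolynomial σ K)
    (x : σ) (hx : f (X x) = 1) : f (homogenize F x) = f F := by
  unfold homogenize
  rw [map_sum]
  simp only [map_mul, map_pow, hx, one_pow, mul_one]
  rw [← map_sum, sum_homogeneousComponent]

end Hom

section Main

variable (K : Type u) [Field K] [IsAlgClosed K] {d r t : ℕ}

theorem Psi_mem_minorIdeal_of_mem_schubert (ht : 0 < t) (htd : t ≤ d) (htr : t ≤ r)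
    {F : PlRing K d (d + r)}
    (hF : F ∈ schubertVanishing K d (d + r) (phiIdx ht htd htr)) :
    Psi K d r F ∈ CAlgX.minorIdeal (genMatrix K r d) t := by
  haveI : Infinite K := inferInstance
  have hd : 0 < d := lt_of_lt_of_le ht htd
  have hr : 0 < r := lt_of_lt_of_le ht htr
  rw [← main_S11250 K d (d + r) hd (Nat.lt_add_of_pos_right hr)] at hF
  unfold plIdeal at hF
  refine Submodule.span_induction
    (p := fun F _ => Psi K d r F ∈ CAlgX.minorIdeal (genMatrix K r d) t) ?_ ?_ ?_ ?_ hF
  · rintro f (⟨i, j, p, hp, rfl⟩ | ⟨θ, hθ, rfl⟩)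
    · rw [Psi_eq_zero_of_mem_vanishing K d r
        (plIdealTop_le_vanishing (Ideal.subset_span ⟨i, j, p, hp, rfl⟩))]
      exact Submodule.zero_mem _
    · rw [Psi_X, ← Groth.Agent.S11275.result K d r t hd ht htd htr]
      exact Ideal.subset_span ⟨θ, le_of_not_le_phiIdx ht htd htr θ hθ, rfl⟩
  · rw [map_zero]; exact Submodule.zero_mem _
  · intro x y _ _ hx hy
    rw [map_add]; exact Ideal.add_mem _ hx hy
  · intro a x _ hx
    rw [smul_eq_mul, map_mul]; exact Ideal.mul_mem_left _ _ hx

/-- the column embedding of the last `t - 1` columns -/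
def lastCols (d t : ℕ) (htd : t ≤ d) (j : Fin (t - 1)) : Fin d :=
  ⟨d - t + 1 + j.val, by have := j.isLt; omega⟩

theorem mem_schubert_of_vanishing (ht : 0 < t) (htd : t ≤ d) (htr : t ≤ r)
    (G : PlRing K d (d + r)) (N : ℕ) (hG : G.IsHomogeneous N)
    (hvan : ∀ (U : Matrix (Fin r) (Fin (t - 1)) K) (W : Matrix (Fin (t - 1)) (Fin d) K),
      eval (fun p : Fin r × Fin d => (U * W) p.1 p.2) (Psi K d r G) = 0) :
    G * X (iotaIdx (Nat.lt_add_of_pos_right (lt_of_lt_of_le ht htr) : d < d + r)) ∈
      schubertVanishing K d (d + r) (phiIdx ht htd htr) := by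
  classical
  haveI : Infinite K := inferInstance
  have hd : 0 < d := lt_of_lt_of_le ht htd
  have hr : 0 < r := lt_of_lt_of_le ht htr
  set ι₀ := iotaIdx (Nat.lt_add_of_pos_right hr : d < d + r) with hι₀
  set φ := phiIdx ht htd htr with hφ
  rw [schubertVanishing_eq_ker_evalShape K hd φ]
  show evalShape K φ (G * X ι₀) = 0
  apply MvPolynomial.funext
  intro a
  rw [eval_evalShape, map_zero, map_mul, evalMinors_X]
  set A : Matrix (Fin (d + r)) (Fin d) K := (shapeMat K φ).map (eval a) with hA
  have hAs : A = shapePt K φ a := rfl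
  set T : Matrix (Fin d) (Fin d) K := A.submatrix ι₀.1 id with hT
  by_cases hδ : T.det = 0
  · rw [hδ, mul_zero]
  · have hTu : IsUnit T.det := IsUnit.mk0 _ hδ
    set Bot : Matrix (Fin r) (Fin d) K := A.submatrix (Fin.natAdd d) id with hBot
    set z : Fin r × Fin d → K := fun p => (Bot * T⁻¹) p.1 p.2 with hz
    have hιc : ∀ c : Fin d, ι₀.1 c = Fin.castAdd r c := fun c => Fin.ext rfl
    have hAeq : A = cellPt K d r z * T := by
      ext i j
      refine Fin.addCases (fun c => ?_) (fun ρ => ?_) i
      · rw [Matrix.mul_apply]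
        simp only [cellPt_castAdd]
        rw [Finset.sum_eq_single c]
        · rw [if_pos rfl, one_mul, hT, Matrix.submatrix_apply, hιc, id]
        · intro b _ hb
          rw [if_neg (Ne.symm hb), zero_mul]
        · intro h; exact absurd (Finset.mem_univ c) h
      · rw [Matrix.mul_apply]
        simp only [cellPt_natAdd]
        have h1 : ∑ k, z (ρ, k) * T k j = ((Bot * T⁻¹) * T) ρ j := by
          rw [Matrix.mul_apply]
        rw [h1, Matrix.nonsing_inv_mul_cancel_right _ _ hTu]
        rfl
    have hscale : evalMinors K d (d + r) A G = T.det ^ N * evalMinors K d (d + r) (cellPt K d r z) G := by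
      have h1 : (fun θ : Idx d (d + r) => (A.submatrix θ.1 id).det) =
          fun θ => T.det * ((cellPt K d r z).submatrix θ.1 id).det := by
        funext θ
        have : A.submatrix θ.1 id = (cellPt K d r z).submatrix θ.1 id * T := by
          rw [hAeq]; ext s j; simp [Matrix.mul_apply]
        rw [this, Matrix.det_mul, mul_comm]
      have e1 : evalMinors K d (d + r) A G =
          eval (fun θ : Idx d (d + r) => (A.submatrix θ.1 id).det) G := rfl
      have e2 : evalMinors K d (d + r) (cellPt K d r z) G =
          eval (fun θ : Idx d (d + r) => ((cellPt K d r z).submatrix θ.1 id).det) G := rfl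
      rw [e1, e2, h1, eval_mul_of_isHomogeneous hG]
    -- the factorization of the bottom block
    set U : Matrix (Fin r) (Fin (t - 1)) K := Bot.submatrix id (lastCols d t htd) with hU
    set P : Matrix (Fin (t - 1)) (Fin d) K :=
      (1 : Matrix (Fin d) (Fin d) K).submatrix (lastCols d t htd) id with hP
    have hUP : U * P = Bot := by
      ext ρ s
      rw [Matrix.mul_apply]
      by_cases hs : s.val + t ≤ d
      · have h0 : Bot ρ s = 0 := by
          rw [hBot, Matrix.submatrix_apply, id, hAs]
          apply shapePt_support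
          rw [Fin.lt_def, hφ, phiIdx_val, if_pos hs]
          show t - 1 + s.val < d + ρ.val
          omega
        rw [h0]
        apply Finset.sum_eq_zero
        intro j _
        have : lastCols d t htd j ≠ s := by
          intro h
          have := congrArg Fin.val h
          simp only [lastCols] at this
          omega
        rw [hP, Matrix.submatrix_apply, id, Matrix.one_apply_ne this, mul_zero]
      · have hs' := s.isLt
        have hj : s.val - (d - t + 1) < t - 1 := by omega
        rw [Finset.sum_eq_single (⟨s.val - (d - t + 1), hj⟩ : Fin (t - 1))]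
        · have : lastCols d t htd ⟨s.val - (d - t + 1), hj⟩ = s := by
            apply Fin.ext
            simp only [lastCols]
            omega
          rw [hU, hP, Matrix.submatrix_apply, Matrix.submatrix_apply, id, id, this,
            Matrix.one_apply_eq, mul_one]
        · intro j _ hj'
          have : lastCols d t htd j ≠ s := by
            intro h
            apply hj'
            apply Fin.ext
            have := congrArg Fin.val h
            simp only [lastCols] at this
            show j.val = s.val - (d - t + 1)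
            omega
          rw [hP, Matrix.submatrix_apply, id, Matrix.one_apply_ne this, mul_zero]
        · intro h; exact absurd (Finset.mem_univ _) h
    have hz' : (fun p : Fin r × Fin d => (U * (P * T⁻¹)) p.1 p.2) = z := by
      rw [← Matrix.mul_assoc, hUP]
    rw [hscale, ← eval_Psi, ← hz', hvan U (P * T⁻¹), mul_zero, zero_mul]

/-- a polynomial in the entries of the generic `r × d` matrix which vanishes at all products `U W`
of inner size `t - 1` lies in the ideal of `t`-minors -/
theorem mem_minorIdeal_of_vanishing (ht : 0 < t) (htd : t ≤ d) (htr : t ≤ r) (f : CellRing K d r)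
    (hvan : ∀ (U : Matrix (Fin r) (Fin (t - 1)) K) (W : Matrix (Fin (t - 1)) (Fin d) K),
      eval (fun p : Fin r × Fin d => (U * W) p.1 p.2) f = 0) :
    f ∈ CAlgX.minorIdeal (genMatrix K r d) t := by
  haveI : Infinite K := inferInstance
  have hr : 0 < r := lt_of_lt_of_le ht htr
  obtain ⟨F, rfl⟩ := Psi_surjective K d r hr f
  set ι₀ := iotaIdx (Nat.lt_add_of_pos_right hr : d < d + r) with hι₀
  have hΨG : Psi K d r (homogenize F ι₀) = Psi K d r F :=
    map_homogenize (Psi K d r).toRingHom F ι₀ (Psi_iota K d r hr)
  have h1 := mem_schubert_of_vanishing K ht htd htr (homogenize F ι₀) _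
    (homogenize_isHomogeneous F ι₀) (by rw [hΨG]; exact hvan)
  have h2 := Psi_mem_minorIdeal_of_mem_schubert K ht htd htr h1
  rwa [map_mul, Psi_iota K d r hr, mul_one, hΨG] at h2

end Main

end Groth.Agent.Lib.T2H8.GrassDet
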