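import Mathlib
import Groth.Prelude.Def_W4bk4grassmannianPl
import Groth.Prelude.Def_CAlgX
import Groth.Agent.Lib.T2H8GrassDetA

/-!
# The Second Fundamental Theorem for `GL_n` (helper8)

The kernel of `y_{ij} ↦ Σ_k u_{ik} ξ_{kj}` is the ideal of `(n+1)`-minors of the generic matrix.
-/

noncomputable section

open MvPolynomial W4bk4grassmannian

namespace Groth.Agent.Lib.T2H8.GrassDet

universe u

section CB

variable {R : Type*} [CommRing R]

/-- a product of an `(n+1) × n` and an `n × (n+1)` matrix has determinant zero -/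
theorem det_mul_eq_zero_of_lt {n : ℕ} (U : Matrix (Fin (n + 1)) (Fin n) R)
    (W : Matrix (Fin n) (Fin (n + 1)) R) : (U * W).det = 0 := by
  set U' : Matrix (Fin (n + 1)) (Fin (n + 1)) R :=
    Matrix.of fun a => (Fin.snoc (U a) 0 : Fin (n + 1) → R) with hU'
  set W' : Matrix (Fin (n + 1)) (Fin (n + 1)) R :=
    Matrix.of (Fin.snoc W 0 : Fin (n + 1) → (Fin (n + 1) → R)) with hW'
  have h : U * W = U' * W' := by
    ext a b
    rw [Matrix.mul_apply, Matrix.mul_apply, Fin.sum_univ_castSucc]
    simp [hU', hW']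
  rw [h, Matrix.det_mul, Matrix.det_eq_zero_of_column_eq_zero (Fin.last n) (fun i => by simp [hU']),
    zero_mul]

end CB

section SFT

variable (K : Type u) [Field K] (m n q : ℕ)

/-- the point `(U, W)` of `M_{m,n} × M_{n,q}` -/
def pairPt (U : Matrix (Fin m) (Fin n) K) (W : Matrix (Fin n) (Fin q) K) :
    (Fin m × Fin n) ⊕ (Fin n × Fin q) → K :=
  Sum.elim (fun p => U p.1 p.2) (fun p => W p.1 p.2)

theorem eval_pairingMap (U : Matrix (Fin m) (Fin n) K) (W : Matrix (Fin n) (Fin q) K)
    (f : MvPolynomial (Fin m × Fin q) K) :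
    eval (pairPt K m n q U W) (pairingMap K n m q f) =
      eval (fun p : Fin m × Fin q => (U * W) p.1 p.2) f := by
  induction f using MvPolynomial.induction_on with
  | C a => simp [pairingMap]
  | add p q hp hq => rw [map_add, map_add, map_add, hp, hq]
  | mul_X p i hp =>
    rw [map_mul, map_mul, map_mul, hp]
    congr 1
    simp [pairingMap, pairPt, Matrix.mul_apply]

theorem minorIdeal_le_ker :
    CAlgX.minorIdeal (genMatrix K m q) (n + 1) ≤ RingHom.ker (pairingMap K n m q).toRingHom := by
  unfold CAlgX.minorIdeal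
  rw [Ideal.span_le]
  rintro _ ⟨⟨f, g⟩, rfl⟩
  rw [SetLike.mem_coe, RingHom.mem_ker]
  show (pairingMap K n m q).toRingHom (((genMatrix K m q).submatrix f g).det) = 0
  rw [RingHom.map_det]
  have h : (pairingMap K n m q).toRingHom.mapMatrix ((genMatrix K m q).submatrix f g) =
      (Matrix.of fun (a : Fin (n + 1)) (k : Fin n) =>
        (X (Sum.inl (f a, k)) : PairRing K n m q)) *
      (Matrix.of fun (k : Fin n) (b : Fin (n + 1)) =>
        (X (Sum.inr (k, g b)) : PairRing K n m q)) := by
    ext a b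
    simp [pairingMap, genMatrix, Matrix.mul_apply]
  rw [h, det_mul_eq_zero_of_lt]

theorem minorIdeal_eq_bot_of_rows_lt (h : m < n + 1) :
    CAlgX.minorIdeal (genMatrix K m q) (n + 1) = ⊥ := by
  rw [eq_bot_iff]
  unfold CAlgX.minorIdeal
  rw [Ideal.span_le]
  rintro _ ⟨⟨f, g⟩, rfl⟩
  obtain ⟨i, j, hij, hf⟩ := Fintype.exists_ne_map_eq_of_card_lt f (by simp; omega)
  have : ((genMatrix K m q).submatrix f g).det = 0 :=
    Matrix.det_zero_of_row_eq hij (by ext k; simp [Matrix.submatrix_apply, hf])
  simp [this]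

theorem minorIdeal_eq_bot_of_cols_lt (h : q < n + 1) :
    CAlgX.minorIdeal (genMatrix K m q) (n + 1) = ⊥ := by
  rw [eq_bot_iff]
  unfold CAlgX.minorIdeal
  rw [Ideal.span_le]
  rintro _ ⟨⟨f, g⟩, rfl⟩
  obtain ⟨i, j, hij, hg⟩ := Fintype.exists_ne_map_eq_of_card_lt g (by simp; omega)
  have : ((genMatrix K m q).submatrix f g).det = 0 :=
    Matrix.det_zero_of_column_eq hij (fun k => by simp [Matrix.submatrix_apply, hg])
  simp [this]

/-- every matrix is a product through `K^n` when `n` is at least the number of columns -/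
theorem exists_factor_of_cols_le (h : q ≤ n) (Z : Matrix (Fin m) (Fin q) K) :
    ∃ (U : Matrix (Fin m) (Fin n) K) (W : Matrix (Fin n) (Fin q) K), U * W = Z := by
  refine ⟨Matrix.of fun i k => if hk : k.val < q then Z i ⟨k.val, hk⟩ else 0,
    Matrix.of fun k j => if k.val = j.val then 1 else 0, ?_⟩
  ext i j
  rw [Matrix.mul_apply, Finset.sum_eq_single (⟨j.val, lt_of_lt_of_le j.isLt h⟩ : Fin n)]
  · simp
  · intro k _ hk
    have : k.val ≠ j.val := fun h' => hk (Fin.ext h')
    simp [this]
  · intro h'; exact absurd (Finset.mem_univ _) h'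

/-- every matrix is a product through `K^n` when `n` is at least the number of rows -/
theorem exists_factor_of_rows_le (h : m ≤ n) (Z : Matrix (Fin m) (Fin q) K) :
    ∃ (U : Matrix (Fin m) (Fin n) K) (W : Matrix (Fin n) (Fin q) K), U * W = Z := by
  refine ⟨Matrix.of fun i k => if i.val = k.val then 1 else 0,
    Matrix.of fun k j => if hk : k.val < m then Z ⟨k.val, hk⟩ j else 0, ?_⟩
  ext i j
  rw [Matrix.mul_apply, Finset.sum_eq_single (⟨i.val, lt_of_lt_of_le i.isLt h⟩ : Fin n)]
  · simp
  · intro k _ hk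
    have : i.val ≠ k.val := fun h' => hk (Fin.ext h'.symm)
    simp [this]
  · intro h'; exact absurd (Finset.mem_univ _) h'

theorem eval_eq_zero_of_mem_ker {f : MvPolynomial (Fin m × Fin q) K}
    (hf : f ∈ RingHom.ker (pairingMap K n m q).toRingHom)
    (U : Matrix (Fin m) (Fin n) K) (W : Matrix (Fin n) (Fin q) K) :
    eval (fun p : Fin m × Fin q => (U * W) p.1 p.2) f = 0 := by
  rw [← eval_pairingMap]
  have : pairingMap K n m q f = 0 := hf
  rw [this, map_zero]

theorem ker_eq_bot_of_factor [Infinite K]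
    (hfac : ∀ Z : Matrix (Fin m) (Fin q) K,
      ∃ (U : Matrix (Fin m) (Fin n) K) (W : Matrix (Fin n) (Fin q) K), U * W = Z) :
    RingHom.ker (pairingMap K n m q).toRingHom = ⊥ := by
  rw [eq_bot_iff]
  intro f hf
  rw [Submodule.mem_bot]
  apply MvPolynomial.funext
  intro z
  obtain ⟨U, W, hUW⟩ := hfac (Matrix.of fun i j => z (i, j))
  have := eval_eq_zero_of_mem_ker K m n q hf U W
  rw [hUW] at this
  rw [map_zero, ← this]
  rfl

/-- S11267: the Second Fundamental Theorem for `GL_n`. -/
theorem main_S11267 [IsAlgClosed K] :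
    RingHom.ker (pairingMap K n m q).toRingHom = CAlgX.minorIdeal (genMatrix K m q) (n + 1) := by
  haveI : Infinite K := inferInstance
  by_cases hq : n + 1 ≤ q
  · by_cases hm : n + 1 ≤ m
    · apply le_antisymm
      · intro f hf
        exact mem_minorIdeal_of_vanishing K (Nat.succ_pos n) hq hm f
          (fun U W => eval_eq_zero_of_mem_ker K m n q hf U W)
      · exact minorIdeal_le_ker K m n q
    · rw [minorIdeal_eq_bot_of_rows_lt K m n q (by omega)]
      exact ker_eq_bot_of_factor K m n q (exists_factor_of_rows_le K m n q (by omega))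
  · rw [minorIdeal_eq_bot_of_cols_lt K m n q (by omega)]
    exact ker_eq_bot_of_factor K m n q (exists_factor_of_cols_le K m n q (by omega))

end SFT

end Groth.Agent.Lib.T2H8.GrassDet
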