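import Mathlib
import Groth.Prelude.Def_CAlgX
import Groth.Agent.Lib.T2H8DetSmA
import Groth.Agent.Lib.T2H8GrassDetB

/-!
# The generic determinantal ring is smooth where some maximal minor is invertible (helper8)
-/

set_option linter.style.haveILetI false
set_option linter.unusedSectionVars false

noncomputable section

open MvPolynomial

namespace Groth.Agent.Lib.T2H8.DetSm

universe u

section General

theorem formallySmooth_of_retract {k P A : Type*} [CommRing k] [CommRing P] [CommRing A]
    [Algebra k P] [Algebra k A] [Algebra.FormallySmooth k P] (π : P →ₐ[k] A) (s : A →ₐ[k] P)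
    (h : π.comp s = AlgHom.id k A) : Algebra.FormallySmooth k A := by
  refine Algebra.FormallySmooth.of_split π ((Ideal.Quotient.mkₐ k _).comp s) ?_
  ext x
  rw [AlgHom.comp_apply, AlgHom.comp_apply, Ideal.Quotient.mkₐ_eq_mk, AlgHom.kerSquareLift_mk]
  exact AlgHom.congr_fun h x

theorem mapMatrix_inv {S T : Type*} [CommRing S] [CommRing T] (φ : S →+* T) {q : Type*}
    [Fintype q] [DecidableEq q] (A : Matrix q q S) (hA : IsUnit A.det) :
    φ.mapMatrix A⁻¹ = (φ.mapMatrix A)⁻¹ := by
  symm
  apply Matrix.inv_eq_right_inv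
  rw [← map_mul, Matrix.mul_nonsing_inv _ hA, map_one]

/-- a matrix all of whose `(r+1)`-minors vanish and with an invertible `r`-minor factors through
that minor -/
theorem schur_entry {T : Type*} [CommRing T] {n m r : ℕ} (X : Matrix (Fin n) (Fin m) T)
    (f : Fin r → Fin n) (g : Fin r → Fin m) (hunit : IsUnit (X.submatrix f g).det)
    (hmin : ∀ (a : Fin (r + 1) → Fin n) (b : Fin (r + 1) → Fin m), (X.submatrix a b).det = 0)
    (i : Fin n) (j : Fin m) :
    X i j = (X.submatrix id g * (X.submatrix f g)⁻¹ * X.submatrix f id) i j := by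
  set ρ : Fin r ⊕ Fin 1 → Fin n := Sum.elim f (fun _ => i) with hρ
  set γ : Fin r ⊕ Fin 1 → Fin m := Sum.elim g (fun _ => j) with hγ
  set N := X.submatrix ρ γ with hN
  have hN0 : N.det = 0 := by
    rw [← Matrix.det_submatrix_equiv_self (finSumFinEquiv (m := r) (n := 1)).symm N, hN,
      Matrix.submatrix_submatrix]
    exact hmin _ _
  set Ā := X.submatrix f g with hĀ
  letI : Invertible Ā := Matrix.invertibleOfIsUnitDet _ hunit
  have hblock : N = Matrix.fromBlocks Ā (X.submatrix f (fun _ : Fin 1 => j))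
      (X.submatrix (fun _ : Fin 1 => i) g) (X.submatrix (fun _ : Fin 1 => i) (fun _ : Fin 1 => j)) := by
    ext a b
    rcases a with a | a <;> rcases b with b | b <;> rfl
  rw [hblock, Matrix.det_fromBlocks₁₁, Matrix.det_fin_one] at hN0
  have h1 := (hunit.mul_right_eq_zero).mp hN0
  rw [Matrix.sub_apply, sub_eq_zero, Matrix.invOf_eq_nonsing_inv] at h1
  rw [show X i j = X.submatrix (fun _ : Fin 1 => i) (fun _ : Fin 1 => j) 0 0 from rfl, h1]
  simp only [Matrix.mul_apply, Matrix.submatrix_apply, id]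

end General


section Away

variable (k : Type u) [Field k] (n m r : ℕ)

open Groth.Agent.Lib.T2H8.GrassDet in
theorem formallySmooth_away_minor (f : Fin r → Fin n) (g : Fin r → Fin m) :
    Algebra.FormallySmooth k (Localization.Away
      (Ideal.Quotient.mk (CAlgX.minorIdeal (Xmat k n m) (r + 1))
        ((Xmat k n m).submatrix f g).det)) := by
  set R := MvPolynomial (Fin n × Fin m) k with hR
  set I := CAlgX.minorIdeal (Xmat k n m) (r + 1) with hI
  set δ : R := ((Xmat k n m).submatrix f g).det with hδ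
  set B := R ⧸ I with hB
  set δ' : B := Ideal.Quotient.mk I δ with hδ'
  set Rδ := Localization.Away δ with hRδ
  set Bδ := Localization.Away δ' with hBδ
  -- the projection
  set π : Rδ →ₐ[k] Bδ := IsLocalization.Away.liftAlgHom δ
    (f := (IsScalarTower.toAlgHom k B Bδ).comp (Ideal.Quotient.mkₐ k I))
    (IsLocalization.Away.algebraMap_isUnit δ') with hπ
  have hπalg : ∀ x : R, π (algebraMap R Rδ x) = algebraMap B Bδ (Ideal.Quotient.mk I x) := by
    intro x
    rw [hπ, IsLocalization.Away.liftAlgHom_apply, IsLocalization.Away.lift_eq]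
    rfl
  -- the section
  set Xδ : Matrix (Fin n) (Fin m) Rδ := (Xmat k n m).map (algebraMap R Rδ) with hXδ
  set A' := Xδ.submatrix f g with hA'
  have hdetA' : A'.det = algebraMap R Rδ δ :=
    (RingHom.map_det (algebraMap R Rδ) ((Xmat k n m).submatrix f g)).symm
  have hunitA' : IsUnit A'.det := by
    rw [hdetA']
    exact IsLocalization.Away.algebraMap_isUnit δ
  set Y : Matrix (Fin n) (Fin m) Rδ := Xδ.submatrix id g * A'⁻¹ * Xδ.submatrix f id with hY
  set s₀ : R →ₐ[k] Rδ := aeval (fun p : Fin n × Fin m => Y p.1 p.2) with hs₀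
  have hs₀X : ∀ (q : ℕ) (a : Fin q → Fin n) (b : Fin q → Fin m),
      s₀ ((Xmat k n m).submatrix a b).det = (Y.submatrix a b).det := by
    intro q a b
    rw [AlgHom.map_det]
    congr 1
    ext i j
    show (aeval (fun p : Fin n × Fin m => Y p.1 p.2)) (X (a i, b j)) = _
    rw [aeval_X]
    rfl
  have hs₀I : ∀ x ∈ I, s₀ x = 0 := by
    intro x hx
    have hle : I ≤ RingHom.ker s₀.toRingHom := by
      rw [hI]
      unfold CAlgX.minorIdeal
      rw [Ideal.span_le]
      rintro _ ⟨⟨a, b⟩, rfl⟩
      rw [SetLike.mem_coe, RingHom.mem_ker]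
      show s₀ _ = 0
      rw [hs₀X]
      have h1 : Y.submatrix a b = Xδ.submatrix a g * (A'⁻¹ * Xδ.submatrix f b) := by
        rw [hY, Matrix.mul_assoc]
        ext i j
        simp [Matrix.mul_apply]
      rw [h1, det_mul_eq_zero_of_lt]
    exact hle hx
  set s₁ : B →ₐ[k] Rδ := Ideal.Quotient.liftₐ I s₀ hs₀I with hs₁
  have hs₁δ : s₁ δ' = A'.det := by
    show s₀ δ = _
    have h0 : s₀ δ = (Y.submatrix f g).det := hs₀X r f g
    rw [h0]
    congr 1
    have h1 : Y.submatrix f g = A' * A'⁻¹ * A' := by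
      rw [hY]
      ext i j
      simp [Matrix.mul_apply, hA']
    rw [h1, Matrix.mul_nonsing_inv _ hunitA', Matrix.one_mul]
  set s : Bδ →ₐ[k] Rδ := IsLocalization.Away.liftAlgHom δ' (f := s₁)
    (by rw [hs₁δ]; exact hunitA') with hs
  haveI : Algebra.FormallySmooth k R := inferInstance
  haveI : Algebra.FormallySmooth R Rδ :=
    Algebra.FormallySmooth.of_isLocalization (Submonoid.powers δ)
  haveI : Algebra.FormallySmooth k Rδ := Algebra.FormallySmooth.comp k R Rδ
  refine formallySmooth_of_retract π s ?_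
  apply IsLocalization.algHom_ext (Submonoid.powers δ')
  apply Ideal.Quotient.algHom_ext
  apply MvPolynomial.algHom_ext
  rintro ⟨i, j⟩
  show π (s (algebraMap B Bδ (Ideal.Quotient.mk I (X (i, j))))) =
    algebraMap B Bδ (Ideal.Quotient.mk I (X (i, j)))
  have h1 : s (algebraMap B Bδ (Ideal.Quotient.mk I (X (i, j)))) = Y i j := by
    rw [hs, IsLocalization.Away.liftAlgHom_apply, IsLocalization.Away.lift_eq]
    show (aeval (fun p : Fin n × Fin m => Y p.1 p.2)) (X (i, j)) = _
    rw [aeval_X]
  rw [h1]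
  -- the matrix over `Bδ`
  set Xb : Matrix (Fin n) (Fin m) Bδ := Xδ.map π with hXb
  have hXb' : ∀ i j, Xb i j = algebraMap B Bδ (Ideal.Quotient.mk I (X (i, j))) := by
    intro i j
    show π (algebraMap R Rδ (X (i, j))) = _
    rw [hπalg]
  have hminors : ∀ (a : Fin (r + 1) → Fin n) (b : Fin (r + 1) → Fin m),
      (Xb.submatrix a b).det = 0 := by
    intro a b
    have h2 : Xb.submatrix a b = ((algebraMap B Bδ).comp (Ideal.Quotient.mk I)).mapMatrix
        ((Xmat k n m).submatrix a b) := by
      ext i j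
      rw [Matrix.submatrix_apply, hXb']
      rfl
    rw [h2, ← RingHom.map_det, RingHom.comp_apply]
    have h3 : Ideal.Quotient.mk I ((Xmat k n m).submatrix a b).det = 0 :=
      Ideal.Quotient.eq_zero_iff_mem.mpr (Ideal.subset_span ⟨(a, b), rfl⟩)
    rw [h3, map_zero]
  have hAb : Xb.submatrix f g = π.toRingHom.mapMatrix A' := by
    ext i j
    rfl
  have hunitb : IsUnit (Xb.submatrix f g).det := by
    rw [hAb, ← RingHom.map_det]
    exact hunitA'.map _
  have h3 := schur_entry Xb f g hunitb hminors i j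
  rw [← hXb' i j, h3]
  have h4 : Xb.submatrix id g * (Xb.submatrix f g)⁻¹ * Xb.submatrix f id = Y.map π := by
    rw [hY, Matrix.map_mul, Matrix.map_mul, hAb, ← mapMatrix_inv _ _ hunitA']
    rfl
  rw [h4]
  rfl

end Away


section Main

theorem main_S10883 (k : Type u) [Field k] (n m r : ℕ) (_hr0 : 0 < r)
    (hr : r < min n m)
    (P : PrimeSpectrum (MvPolynomial (Fin n × Fin m) k ⧸ CAlgX.minorIdeal (Matrix.of fun (i : Fin n) (j : Fin m) => (MvPolynomial.X (i, j) : MvPolynomial (Fin n × Fin m) k)) (r + 1))) :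
    P ∈ Algebra.smoothLocus k (MvPolynomial (Fin n × Fin m) k ⧸ CAlgX.minorIdeal (Matrix.of fun (i : Fin n) (j : Fin m) => (MvPolynomial.X (i, j) : MvPolynomial (Fin n × Fin m) k)) (r + 1)) ↔
      ¬ (CAlgX.minorIdeal (Matrix.of fun (i : Fin n) (j : Fin m) => (MvPolynomial.X (i, j) : MvPolynomial (Fin n × Fin m) k)) r).map
          (Ideal.Quotient.mk (CAlgX.minorIdeal (Matrix.of fun (i : Fin n) (j : Fin m) => (MvPolynomial.X (i, j) : MvPolynomial (Fin n × Fin m) k)) (r + 1))) ≤ P.asIdeal := by
  constructor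
  · intro hsm hle
    exact not_mem_smoothLocus_generic k n m r hr P hle hsm
  · intro hnle
    have h1 : ∃ (f : Fin r → Fin n) (g : Fin r → Fin m),
        Ideal.Quotient.mk (CAlgX.minorIdeal (Xmat k n m) (r + 1))
          ((Xmat k n m).submatrix f g).det ∉ P.asIdeal := by
      by_contra hcon
      push Not at hcon
      apply hnle
      unfold CAlgX.minorIdeal
      rw [Ideal.map_span, Ideal.span_le]
      rintro _ ⟨_, ⟨⟨f, g⟩, rfl⟩, rfl⟩
      exact hcon f g
    obtain ⟨f, g, hfg⟩ := h1
    haveI : Algebra.FinitePresentation k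
        (MvPolynomial (Fin n × Fin m) k ⧸ CAlgX.minorIdeal (Xmat k n m) (r + 1)) :=
      Algebra.FinitePresentation.quotient (IsNoetherian.noetherian _)
    have h2 := (Algebra.basicOpen_subset_smoothLocus_iff (R := k)
      (A := MvPolynomial (Fin n × Fin m) k ⧸ CAlgX.minorIdeal (Xmat k n m) (r + 1))
      (f := Ideal.Quotient.mk (CAlgX.minorIdeal (Xmat k n m) (r + 1))
          ((Xmat k n m).submatrix f g).det)).mpr (formallySmooth_away_minor k n m r f g)
    exact h2 hfg

end Main

end Groth.Agent.Lib.T2H8.DetSm
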