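import Mathlib
import Groth.Prelude
import Groth.Agent.Lib.Helper18Disc2
import Groth.Agent.Lib.Helper18Disc3
import Groth.Agent.Lib.Helper20FittLoc

/-!
# Noether different and Kähler different: compatibility with localization
-/

universe u

namespace Groth.Agent.Lib.T2H8.Diff

open KaehlerDifferential

section Base

variable {A B A' B' : Type u} [CommRing A] [CommRing B] [CommRing A'] [CommRing B']
  [Algebra A B] [Algebra A A'] [Algebra A B'] [Algebra B B'] [Algebra A' B']
  [IsScalarTower A B B'] [IsScalarTower A A' B'] (M : Submonoid A) [IsLocalization M A']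
  [IsLocalization (Algebra.algebraMapSubmonoid B M) B']

include M in
theorem noetherDifferent_base [Algebra.FiniteType A B] :
    Disc.noetherDifferent A' B' = (Disc.noetherDifferent A B).map (algebraMap B B') := by
  haveI : Algebra.IsPushout A B A' B' := Algebra.isPushout_of_isLocalization M A' B B'
  haveI : Module.Flat A A' := IsLocalization.flat A' M
  exact Groth.Agent.Lib.Helper18Disc2.main

include M in
theorem fitt_base [Algebra.FiniteType A B] :
    Fitt.ideal B' Ω[B'⁄A'] 0 = (Fitt.ideal B Ω[B⁄A] 0).map (algebraMap B B') := by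
  haveI : IsLocalizedModule M ((KaehlerDifferential.map A A' B B').restrictScalars A) :=
    KaehlerDifferential.isLocalizedModule A A' B B' M
  haveI : IsLocalizedModule (Algebra.algebraMapSubmonoid B M) (KaehlerDifferential.map A A' B B') :=
    IsLocalizedModule.of_restrictScalars M _
  exact (Groth.Agent.Lib.Helper20.FittLoc.fitt_zero_map_eq (Algebra.algebraMapSubmonoid B M)
    (KaehlerDifferential.map A A' B B')).symm

end Base


section Top

variable {A B Bg : Type u} [CommRing A] [CommRing B] [CommRing Bg] [Algebra A B] [Algebra A Bg]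
  [Algebra B Bg] [IsScalarTower A B Bg] (g : B) [IsLocalization.Away g Bg]

include g in
theorem noetherDifferent_away [Algebra.FiniteType A B] :
    Disc.noetherDifferent A Bg = (Disc.noetherDifferent A B).map (algebraMap B Bg) :=
  Groth.Agent.Lib.Helper18Disc3.main
    (AlgebraicGeometry.IsOpenImmersion.of_isLocalization g)

include g in
theorem fitt_away [Algebra.FiniteType A B] :
    Fitt.ideal Bg Ω[Bg⁄A] 0 = (Fitt.ideal B Ω[B⁄A] 0).map (algebraMap B Bg) := by
  haveI : IsLocalizedModule (Submonoid.powers g) (KaehlerDifferential.map A A B Bg) :=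
    KaehlerDifferential.isLocalizedModule_map A B Bg (Submonoid.powers g)
  exact (Groth.Agent.Lib.Helper20.FittLoc.fitt_zero_map_eq (Submonoid.powers g)
    (KaehlerDifferential.map A A B Bg)).symm

end Top

section LG

variable {B : Type u} [CommRing B]

theorem ideal_le_of_away (I J : Ideal B)
    (h : ∀ q : Ideal B, q.IsPrime → ∃ g ∉ q,
      I.map (algebraMap B (Localization.Away g)) ≤ J.map (algebraMap B (Localization.Away g))) :
    I ≤ J := by
  intro b hb
  by_contra hbJ
  have hne : J.colon ({b} : Set B) ≠ ⊤ := by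
    intro htop
    have h1 : (1 : B) ∈ J.colon ({b} : Set B) := htop ▸ Submodule.mem_top
    rw [Submodule.mem_colon_singleton, smul_eq_mul, one_mul] at h1
    exact hbJ h1
  obtain ⟨q, hq, hle⟩ := Ideal.exists_le_maximal _ hne
  obtain ⟨g, hg, hIJ⟩ := h q hq.isPrime
  have hb' : algebraMap B (Localization.Away g) b ∈
      J.map (algebraMap B (Localization.Away g)) := hIJ (Ideal.mem_map_of_mem _ hb)
  rw [IsLocalization.mem_map_algebraMap_iff (Submonoid.powers g)] at hb'
  obtain ⟨⟨⟨j, hj⟩, m⟩, hjm⟩ := hb'
  rw [← map_mul, IsLocalization.eq_iff_exists (Submonoid.powers g)] at hjm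
  obtain ⟨m', hm'⟩ := hjm
  have hmem : (m' : B) * (m : B) ∈ J.colon ({b} : Set B) := by
    rw [Submodule.mem_colon_singleton, smul_eq_mul]
    have : (m' : B) * (m : B) * b = (m' : B) * j := by
      rw [mul_assoc, mul_comm (m : B) b]; exact hm'
    rw [this]
    exact Ideal.mul_mem_left _ _ hj
  have hq' : (m' : B) * (m : B) ∈ q := hle hmem
  obtain ⟨k, hk⟩ := (m' * m).2
  have : g ^ k ∈ q := by
    have e : g ^ k = ((m' * m : Submonoid.powers g) : B) := hk
    rw [e]; exact hq'
  exact hg (hq.isPrime.mem_of_pow_mem k this)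

theorem ideal_eq_of_away (I J : Ideal B)
    (h : ∀ q : Ideal B, q.IsPrime → ∃ g ∉ q,
      I.map (algebraMap B (Localization.Away g)) = J.map (algebraMap B (Localization.Away g))) :
    I = J := by
  apply le_antisymm
  · apply ideal_le_of_away
    intro q hq
    obtain ⟨g, hg, e⟩ := h q hq
    exact ⟨g, hg, e.le⟩
  · apply ideal_le_of_away
    intro q hq
    obtain ⟨g, hg, e⟩ := h q hq
    exact ⟨g, hg, e.ge⟩

end LG

end Groth.Agent.Lib.T2H8.Diff
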