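import Mathlib
import Groth.Prelude

/-!
# Tate's trace lemma: the presentation part (generic form)

`P` an `A`-algebra generated by `x_1..x_n`, with derivations `d_k`, `d_k x_j = δ_jk`; `B = P/I`.
The kernel of `ρ : P ⊗ B → B` is generated by `g_i = x_i ⊗ 1 - 1 ⊗ x̄_i`; if
`f_i ⊗ 1 = Σ c_ij g_j` then `ρ(c_ik) = d_k f_i mod I`.
-/

universe u

namespace Groth.Agent.Lib.T2H8.Tate

open TensorProduct

section Pres

variable {A P : Type u} [CommRing A] [CommRing P] [Algebra A P] {n : ℕ} (x : Fin n → P)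
  (I : Ideal P)

/-- the standard generators of the kernel of `P ⊗ B → B` -/
noncomputable def gg (i : Fin n) : P ⊗[A] (P ⧸ I) :=
  (x i) ⊗ₜ[A] 1 - 1 ⊗ₜ[A] (Ideal.Quotient.mk I (x i))

/-- the map `P ⊗ B → B` -/
noncomputable abbrev rho : P ⊗[A] (P ⧸ I) →ₐ[A] (P ⧸ I) :=
  Algebra.TensorProduct.productMap (Ideal.Quotient.mkₐ A I) (AlgHom.id A (P ⧸ I))

lemma rho_tmul (p : P) (b : P ⧸ I) :
    rho (A := A) I (p ⊗ₜ[A] b) = Ideal.Quotient.mk I p * b := by
  simp [rho]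

lemma rho_gg (i : Fin n) : rho I (gg (A := A) x I i) = 0 := by
  rw [gg, map_sub, rho_tmul, rho_tmul, map_one, mul_one, one_mul, sub_self]

lemma tmul_one_sub_mem (hx : Algebra.adjoin A (Set.range x) = ⊤) (p : P) :
    (p ⊗ₜ[A] (1 : P ⧸ I) - 1 ⊗ₜ[A] (Ideal.Quotient.mk I p)) ∈
      Ideal.span (Set.range (gg (A := A) x I)) := by
  set 𝔤 := Ideal.span (Set.range (gg (A := A) x I)) with h𝔤
  let α : P →ₐ[A] (P ⊗[A] (P ⧸ I)) ⧸ 𝔤 :=
    (Ideal.Quotient.mkₐ A 𝔤).comp Algebra.TensorProduct.includeLeft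
  let β : P →ₐ[A] (P ⊗[A] (P ⧸ I)) ⧸ 𝔤 :=
    (Ideal.Quotient.mkₐ A 𝔤).comp
      ((Algebra.TensorProduct.includeRight).comp (Ideal.Quotient.mkₐ A I))
  have hαβ : α = β := by
    apply AlgHom.ext_of_adjoin_eq_top hx
    rintro _ ⟨i, rfl⟩
    show Ideal.Quotient.mk 𝔤 (x i ⊗ₜ[A] 1) = Ideal.Quotient.mk 𝔤 (1 ⊗ₜ[A] (Ideal.Quotient.mk I (x i)))
    rw [Ideal.Quotient.eq]
    exact Ideal.subset_span ⟨i, rfl⟩
  have := congrArg (fun F => F p) hαβ
  have h2 : Ideal.Quotient.mk 𝔤 (p ⊗ₜ[A] 1) =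
      Ideal.Quotient.mk 𝔤 (1 ⊗ₜ[A] (Ideal.Quotient.mk I p)) := this
  rwa [Ideal.Quotient.eq] at h2

lemma sub_one_tmul_rho_mem (hx : Algebra.adjoin A (Set.range x) = ⊤) (z : P ⊗[A] (P ⧸ I)) :
    z - 1 ⊗ₜ[A] (rho I z) ∈ Ideal.span (Set.range (gg (A := A) x I)) := by
  induction z using TensorProduct.induction_on with
  | zero => simp
  | tmul p b =>
    have e : (p ⊗ₜ[A] b - 1 ⊗ₜ[A] (rho I (p ⊗ₜ[A] b)) : P ⊗[A] (P ⧸ I)) =
        (p ⊗ₜ[A] (1 : P ⧸ I) - 1 ⊗ₜ[A] (Ideal.Quotient.mk I p)) * (1 ⊗ₜ[A] b) := by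
      rw [rho_tmul, sub_mul, Algebra.TensorProduct.tmul_mul_tmul,
        Algebra.TensorProduct.tmul_mul_tmul, mul_one, one_mul, one_mul]
    rw [e]
    exact Ideal.mul_mem_right _ _ (tmul_one_sub_mem x I hx p)
  | add y z hy hz =>
    have e : y + z - 1 ⊗ₜ[A] (rho I (y + z)) =
        (y - 1 ⊗ₜ[A] (rho I y)) + (z - 1 ⊗ₜ[A] (rho I z)) := by
      rw [map_add, TensorProduct.tmul_add]; abel
    rw [e]
    exact Ideal.add_mem _ hy hz

lemma ker_rho (hx : Algebra.adjoin A (Set.range x) = ⊤) :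
    Ideal.span (Set.range (gg (A := A) x I)) = RingHom.ker (rho (A := A) I) := by
  apply le_antisymm
  · rw [Ideal.span_le]
    rintro _ ⟨i, rfl⟩
    exact rho_gg x I i
  · intro z hz
    have h := sub_one_tmul_rho_mem x I hx z
    rw [RingHom.mem_ker] at hz
    rwa [hz, TensorProduct.tmul_zero, sub_zero] at h

/-- the derivation `d ⊗ id` -/
noncomputable def DD (d : Derivation A P P) : P ⊗[A] (P ⧸ I) →ₗ[A] P ⊗[A] (P ⧸ I) :=
  LinearMap.rTensor (P ⧸ I) (d : P →ₗ[A] P)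

@[simp] lemma DD_tmul (d : Derivation A P P) (p : P) (b : P ⧸ I) :
    DD I d (p ⊗ₜ[A] b) = d p ⊗ₜ[A] b := by
  simp [DD]

lemma DD_mul (d : Derivation A P P) (z w : P ⊗[A] (P ⧸ I)) :
    DD I d (z * w) = z * DD I d w + DD I d z * w := by
  induction z using TensorProduct.induction_on with
  | zero => simp
  | tmul p b =>
    induction w using TensorProduct.induction_on with
    | zero => simp
    | tmul p' b' =>
      rw [Algebra.TensorProduct.tmul_mul_tmul, DD_tmul, DD_tmul, DD_tmul,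
        Algebra.TensorProduct.tmul_mul_tmul, Algebra.TensorProduct.tmul_mul_tmul,
        Derivation.leibniz, TensorProduct.add_tmul, smul_eq_mul, smul_eq_mul, mul_comm p']
    | add y z hy hz =>
      rw [mul_add, map_add, hy, hz, map_add, mul_add, mul_add]; abel
  | add y z hy hz =>
    rw [add_mul, map_add, hy, hz, map_add, add_mul, add_mul]; abel

variable (d : Fin n → Derivation A P P) (hd : ∀ k j, d k (x j) = if j = k then 1 else 0)

include hd in
lemma rho_DD_gg (k j : Fin n) :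
    rho I (DD I (d k) (gg (A := A) x I j)) = if j = k then 1 else 0 := by
  rw [gg, map_sub, DD_tmul, DD_tmul, hd, Derivation.map_one_eq_zero, TensorProduct.zero_tmul,
    sub_zero, rho_tmul, mul_one]
  by_cases h : j = k
  · subst h; simp
  · simp [h]

variable {f : Fin n → P} (c : Matrix (Fin n) (Fin n) (P ⊗[A] (P ⧸ I)))

include hd in
lemma rho_c (hc : ∀ i, f i ⊗ₜ[A] (1 : P ⧸ I) = ∑ j, c i j * gg x I j) (i k : Fin n) :
    rho I (c i k) = Ideal.Quotient.mk I (d k (f i)) := by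
  have h := congrArg (fun z => rho I (DD I (d k) z)) (hc i)
  simp only [DD_tmul, rho_tmul, mul_one, map_sum, DD_mul, map_add, map_mul, rho_gg, mul_zero,
    add_zero, rho_DD_gg x I d hd, mul_ite, Finset.sum_ite_eq', Finset.mem_univ,
    if_true] at h
  exact h.symm

include hd in
lemma rho_det (hc : ∀ i, f i ⊗ₜ[A] (1 : P ⧸ I) = ∑ j, c i j * gg x I j) :
    rho I c.det = Ideal.Quotient.mk I (Matrix.det (Matrix.of fun i j => d j (f i))) := by
  rw [AlgHom.map_det, RingHom.map_det]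
  congr 1
  ext i k
  simp only [AlgHom.mapMatrix_apply, Matrix.map_apply, RingHom.mapMatrix_apply, Matrix.of_apply]
  exact rho_c x I d hd c hc i k

lemma exists_matrix (hx : Algebra.adjoin A (Set.range x) = ⊤) (f : Fin n → P)
    (hf : ∀ i, f i ∈ I) :
    ∃ c : Matrix (Fin n) (Fin n) (P ⊗[A] (P ⧸ I)),
      ∀ i, f i ⊗ₜ[A] (1 : P ⧸ I) = ∑ j, c i j * gg x I j := by
  have h : ∀ i, ∃ ci : Fin n → P ⊗[A] (P ⧸ I),
      ∑ j, ci j * gg x I j = f i ⊗ₜ[A] (1 : P ⧸ I) := by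
    intro i
    rw [← Ideal.mem_span_range_iff_exists_fun, ker_rho x I hx, RingHom.mem_ker, rho_tmul, mul_one]
    exact Ideal.Quotient.eq_zero_iff_mem.mpr (hf i)
  choose c hc using h
  exact ⟨Matrix.of c, fun i => (hc i).symm⟩

end Pres

end Groth.Agent.Lib.T2H8.Tate
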