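import Mathlib
import Groth.Prelude.Def_ega3
import Groth.Agent.Lib.Helper21Koszul
/-
Helper library (helper8): the anticommuting contracting operators `σ_j` (degree `-1` cochains with
`δ σ_j = g_j`) on the Koszul complex in the iterated mapping-cone model.
-/
set_option backward.isDefEq.respectTransparency.types false

set_option autoImplicit false
set_option maxHeartbeats 400000
universe u
open CategoryTheory CategoryTheory.Limits CochainComplex CochainComplex.HomComplex

namespace Groth.Agent.Lib.T3H8.Wiebe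

open Groth.Agent.Lib.Helper21

variable {R : Type u} [CommRing R]

section General

variable {F G K L : CochainComplex (ModuleCat.{u} R) ℤ} (φ : F ⟶ G)

lemma inl_comp_desc_comp {m n k nk mk : ℤ} (α : Cochain F K m) (β : Cochain G K n)
    (h : m + 1 = n) (γ : Cochain K L k) (hnk : n + k = nk) (h' : -1 + nk = mk) :
    (mappingCone.inl φ).comp ((mappingCone.descCochain φ α β h).comp γ hnk) h' =
      α.comp γ (by omega) := by
  rw [← Cochain.comp_assoc _ _ _ (show -1 + n = m by omega) hnk (by omega),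
    mappingCone.inl_descCochain]

lemma inr_comp_desc_comp {m n k nk : ℤ} (α : Cochain F K m) (β : Cochain G K n)
    (h : m + 1 = n) (γ : Cochain K L k) (hnk : n + k = nk) :
    (Cochain.ofHom (mappingCone.inr φ)).comp ((mappingCone.descCochain φ α β h).comp γ hnk)
      (zero_add nk) = β.comp γ hnk := by
  rw [← Cochain.comp_assoc _ _ _ (zero_add n) hnk (by omega), mappingCone.inr_descCochain]

end General

section Cone

variable {Y : CochainComplex (ModuleCat.{u} R) ℤ} (a : R)

/-- the contracting cochain of `a` on the cone of `a • 𝟙 Y` -/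
noncomputable def sNew :
    Cochain (mappingCone (a • 𝟙 Y)) (mappingCone (a • 𝟙 Y)) (-1) :=
  mappingCone.descCochain (a • 𝟙 Y) (0 : Cochain Y (mappingCone (a • 𝟙 Y)) (-2))
    (mappingCone.inl (a • 𝟙 Y)) (by norm_num)

/-- extension of a degree `-1` cochain of `Y` to the cone of `a • 𝟙 Y` -/
noncomputable def sExt (τ : Cochain Y Y (-1)) :
    Cochain (mappingCone (a • 𝟙 Y)) (mappingCone (a • 𝟙 Y)) (-1) :=
  mappingCone.descCochain (a • 𝟙 Y)
    (-(τ.comp (mappingCone.inl (a • 𝟙 Y)) (show (-1 : ℤ) + (-1) = -2 by norm_num)))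
    (τ.comp (Cochain.ofHom (mappingCone.inr (a • 𝟙 Y))) (add_zero _)) (by norm_num)

/-- extension of a degree `-2` cochain of `Y` to the cone of `a • 𝟙 Y` -/
noncomputable def sExt₂ (ρ : Cochain Y Y (-2)) :
    Cochain (mappingCone (a • 𝟙 Y)) (mappingCone (a • 𝟙 Y)) (-2) :=
  mappingCone.descCochain (a • 𝟙 Y)
    (ρ.comp (mappingCone.inl (a • 𝟙 Y)) (show (-2 : ℤ) + (-1) = -3 by norm_num))
    (ρ.comp (Cochain.ofHom (mappingCone.inr (a • 𝟙 Y))) (add_zero _)) (by norm_num)

lemma δ_sNew : δ (-1) 0 (sNew (Y := Y) a) = a • Cochain.ofHom (𝟙 (mappingCone (a • 𝟙 Y))) := by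
  unfold sNew
  rw [mappingCone.δ_descCochain _ _ _ _ 0 (by norm_num)]
  simp only [δ_zero, zero_add, mappingCone.δ_inl, Int.negOnePow_zero, one_smul]
  rw [← mappingCone.id (a • 𝟙 Y)]
  simp [ofHom_smul']

lemma δ_sExt (τ : Cochain Y Y (-1)) (x : R) (hτ : δ (-1) 0 τ = x • Cochain.ofHom (𝟙 Y)) :
    δ (-1) 0 (sExt a τ) = x • Cochain.ofHom (𝟙 (mappingCone (a • 𝟙 Y))) := by
  unfold sExt
  rw [mappingCone.δ_descCochain _ _ _ _ 0 (by norm_num)]
  have h1 := δ_comp τ (mappingCone.inl (a • 𝟙 Y))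
    (show (-1 : ℤ) + (-1) = -2 by norm_num) 0 0 (-1) (by norm_num) (by norm_num) (by norm_num)
  have h2 := δ_comp τ (Cochain.ofHom (mappingCone.inr (a • 𝟙 Y)))
    (add_zero (-1)) 0 1 0 (by norm_num) (by norm_num) (by norm_num)
  simp only [δ_neg, h1, h2, mappingCone.δ_inl, hτ, δ_ofHom]
  rw [← mappingCone.id (a • 𝟙 Y)]
  simp [ofHom_smul']

lemma sNew_comp_sNew :
    (sNew (Y := Y) a).comp (sNew a) (show (-1 : ℤ) + (-1) = -2 by norm_num) = 0 := by
  rw [mappingCone.ext_cochain_from_iff _ (-3) (-2) (by norm_num)]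
  constructor
  · unfold sNew
    rw [inl_comp_desc_comp]
    simp
  · unfold sNew
    rw [inr_comp_desc_comp]
    simp

lemma inl_comp_sNew :
    (mappingCone.inl (a • 𝟙 Y)).comp (sNew a) (show (-1 : ℤ) + (-1) = -2 by norm_num) = 0 := by
  simp [sNew]

lemma inr_comp_sNew :
    (Cochain.ofHom (mappingCone.inr (a • 𝟙 Y))).comp (sNew a) (zero_add (-1)) =
      mappingCone.inl (a • 𝟙 Y) := by
  simp [sNew]

lemma inl_comp_sExt (τ : Cochain Y Y (-1)) :
    (mappingCone.inl (a • 𝟙 Y)).comp (sExt a τ) (show (-1 : ℤ) + (-1) = -2 by norm_num) =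
      -(τ.comp (mappingCone.inl (a • 𝟙 Y)) (show (-1 : ℤ) + (-1) = -2 by norm_num)) := by
  simp [sExt]

lemma inr_comp_sExt (τ : Cochain Y Y (-1)) :
    (Cochain.ofHom (mappingCone.inr (a • 𝟙 Y))).comp (sExt a τ) (zero_add (-1)) =
      τ.comp (Cochain.ofHom (mappingCone.inr (a • 𝟙 Y))) (add_zero _) := by
  simp [sExt]

lemma sNew_comp_sExt (τ : Cochain Y Y (-1)) :
    (sNew a).comp (sExt a τ) (show (-1 : ℤ) + (-1) = -2 by norm_num) =
      -((sExt a τ).comp (sNew a) (show (-1 : ℤ) + (-1) = -2 by norm_num)) := by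
  rw [mappingCone.ext_cochain_from_iff _ (-3) (-2) (by norm_num)]
  constructor
  · rw [Cochain.comp_neg]
    conv_lhs => unfold sNew
    conv_rhs => unfold sExt
    rw [inl_comp_desc_comp, inl_comp_desc_comp, Cochain.zero_comp, Cochain.neg_comp, neg_neg,
      Cochain.comp_assoc _ _ _ _ (show (-1 : ℤ) + (-1) = -2 by norm_num) (by norm_num),
      inl_comp_sNew, Cochain.comp_zero]
  · rw [Cochain.comp_neg]
    conv_lhs => unfold sNew
    conv_rhs => unfold sExt
    rw [inr_comp_desc_comp, inr_comp_desc_comp, inl_comp_sExt,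
      Cochain.comp_assoc _ _ _ _ (zero_add (-1)) (by norm_num), inr_comp_sNew]

lemma inl_sExt_comp {L : CochainComplex (ModuleCat.{u} R) ℤ} {k k1 k2 : ℤ}
    (τ : Cochain Y Y (-1)) (γ : Cochain (mappingCone (a • 𝟙 Y)) L k) (h1 : -1 + k = k1)
    (h2 : -1 + k1 = k2) :
    (mappingCone.inl (a • 𝟙 Y)).comp ((sExt a τ).comp γ h1) h2 =
      -((τ.comp (mappingCone.inl (a • 𝟙 Y)) (show (-1 : ℤ) + (-1) = -2 by norm_num)).comp γ
        (by omega)) := by
  unfold sExt
  rw [inl_comp_desc_comp, Cochain.neg_comp]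

lemma inr_sExt_comp {L : CochainComplex (ModuleCat.{u} R) ℤ} {k k1 : ℤ}
    (τ : Cochain Y Y (-1)) (γ : Cochain (mappingCone (a • 𝟙 Y)) L k) (h1 : -1 + k = k1) :
    (Cochain.ofHom (mappingCone.inr (a • 𝟙 Y))).comp ((sExt a τ).comp γ h1) (zero_add k1) =
      (τ.comp (Cochain.ofHom (mappingCone.inr (a • 𝟙 Y))) (add_zero _)).comp γ h1 := by
  unfold sExt
  rw [inr_comp_desc_comp]

lemma sExt_comp_sExt (τ τ' : Cochain Y Y (-1)) :
    (sExt a τ).comp (sExt a τ') (show (-1 : ℤ) + (-1) = -2 by norm_num) =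
      sExt₂ a (τ.comp τ' (show (-1 : ℤ) + (-1) = -2 by norm_num)) := by
  rw [mappingCone.ext_cochain_from_iff _ (-3) (-2) (by norm_num)]
  constructor
  · rw [inl_sExt_comp]
    unfold sExt₂
    rw [mappingCone.inl_descCochain,
      Cochain.comp_assoc _ _ _ _ (show (-1 : ℤ) + (-1) = -2 by norm_num) (by norm_num),
      inl_comp_sExt, Cochain.comp_neg, neg_neg,
      Cochain.comp_assoc _ _ _ _ (show (-1 : ℤ) + (-1) = -2 by norm_num) (by norm_num)]
  · rw [inr_sExt_comp]
    unfold sExt₂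
    rw [mappingCone.inr_descCochain,
      Cochain.comp_assoc _ _ _ _ (zero_add (-1)) (by norm_num),
      inr_comp_sExt, Cochain.comp_assoc _ _ _ _ (add_zero (-1)) (by norm_num)]

lemma sExt₂_neg (ρ : Cochain Y Y (-2)) : sExt₂ a (-ρ) = -sExt₂ a ρ := by
  rw [mappingCone.ext_cochain_from_iff _ (-3) (-2) (by norm_num)]
  constructor
  · unfold sExt₂
    rw [Cochain.comp_neg, mappingCone.inl_descCochain, mappingCone.inl_descCochain,
      Cochain.neg_comp]
  · unfold sExt₂
    rw [Cochain.comp_neg, mappingCone.inr_descCochain, mappingCone.inr_descCochain,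
      Cochain.neg_comp]

lemma sExt₂_zero : sExt₂ a (0 : Cochain Y Y (-2)) = 0 := by
  rw [mappingCone.ext_cochain_from_iff _ (-3) (-2) (by norm_num)]
  constructor
  · unfold sExt₂
    rw [mappingCone.inl_descCochain, Cochain.zero_comp, Cochain.comp_zero]
  · unfold sExt₂
    rw [mappingCone.inr_descCochain, Cochain.zero_comp, Cochain.comp_zero]

end Cone

section Family

variable (N : ModuleCat.{u} R)

/-- the contracting cochains on the Koszul complex (cone model) -/
noncomputable def sig : (l : List R) → Fin l.length →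
    Cochain (CohIII.koszulCx N l) (CohIII.koszulCx N l) (-1)
  | [], i => i.elim0
  | a :: l, i => Fin.cases (sNew (Y := CohIII.koszulCx N l) a)
      (fun j => sExt (Y := CohIII.koszulCx N l) a (sig l j)) i

lemma sig_cons_zero (a : R) (l : List R) :
    sig N (a :: l) ⟨0, by simp⟩ = sNew (Y := CohIII.koszulCx N l) a := rfl

lemma sig_cons_succ (a : R) (l : List R) (j : Fin l.length) :
    sig N (a :: l) j.succ = sExt (Y := CohIII.koszulCx N l) a (sig N l j) := rfl

theorem δ_sig : ∀ (l : List R) (i : Fin l.length),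
    δ (-1) 0 (sig N l i) = l.get i • Cochain.ofHom (𝟙 (CohIII.koszulCx N l))
  | [], i => i.elim0
  | a :: l, i => by
    refine Fin.cases ?_ (fun j => ?_) i
    · exact δ_sNew (Y := CohIII.koszulCx N l) a
    · exact δ_sExt (Y := CohIII.koszulCx N l) a (sig N l j) _ (δ_sig l j)

theorem sig_comp_sig : ∀ (l : List R) (i j : Fin l.length),
    (sig N l i).comp (sig N l j) (show (-1 : ℤ) + (-1) = -2 by norm_num) =
      -((sig N l j).comp (sig N l i) (show (-1 : ℤ) + (-1) = -2 by norm_num)) ∧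
    (sig N l i).comp (sig N l i) (show (-1 : ℤ) + (-1) = -2 by norm_num) = 0
  | [], i, _ => i.elim0
  | a :: l, i, j => by
    refine Fin.cases ?_ (fun i' => ?_) i
    · refine Fin.cases ?_ (fun j' => ?_) j
      · have h := sNew_comp_sNew (Y := CohIII.koszulCx N l) a
        refine ⟨?_, h⟩
        show (sNew (Y := CohIII.koszulCx N l) a).comp (sNew a) _ = -((sNew a).comp (sNew a) _)
        rw [h, neg_zero]
      · exact ⟨sNew_comp_sExt (Y := CohIII.koszulCx N l) a (sig N l j'),
          sNew_comp_sNew (Y := CohIII.koszulCx N l) a⟩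
    · have hii : (sExt (Y := CohIII.koszulCx N l) a (sig N l i')).comp
          (sExt a (sig N l i')) (show (-1 : ℤ) + (-1) = -2 by norm_num) = 0 := by
        rw [sExt_comp_sExt, (sig_comp_sig l i' i').2, sExt₂_zero]
      refine Fin.cases ?_ (fun j' => ?_) j
      · refine ⟨?_, hii⟩
        show (sExt (Y := CohIII.koszulCx N l) a (sig N l i')).comp (sNew a) _ =
          -((sNew a).comp (sExt a (sig N l i')) _)
        rw [sNew_comp_sExt, neg_neg]
      · refine ⟨?_, hii⟩
        show (sExt (Y := CohIII.koszulCx N l) a (sig N l i')).comp (sExt a (sig N l j')) _ =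
          -((sExt a (sig N l j')).comp (sExt a (sig N l i')) _)
        rw [sExt_comp_sExt, sExt_comp_sExt, (sig_comp_sig l i' j').1, sExt₂_neg]

end Family

end Groth.Agent.Lib.T3H8.Wiebe
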