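import Mathlib
/-
Helper library (helper8): determinant expansion for products of linear combinations of
anticommuting square-zero elements; the total module of a cochain complex and the linear maps
induced by cochains.
-/
set_option backward.isDefEq.respectTransparency.types false

set_option autoImplicit false
set_option maxHeartbeats 400000
universe u
open CategoryTheory CategoryTheory.Limits CochainComplex CochainComplex.HomComplex

namespace Groth.Agent.Lib.T3H8.Wiebe

section Alg

variable {R : Type*} [CommRing R]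

open Module in
/-- an alternating map with values in any module is the determinant times its value on a basis -/
theorem alternating_eq_det_smul {M N ι : Type*} [AddCommGroup M] [Module R M] [AddCommGroup N]
    [Module R N] [Fintype ι] [DecidableEq ι] (e : Basis ι R M) (G : M [⋀^ι]→ₗ[R] N)
    (v : ι → M) : G v = e.det v • G e := by
  let G' : M [⋀^ι]→ₗ[R] N := (LinearMap.toSpanSingleton R N (G e)).compAlternatingMap e.det
  have h : G = G' := by
    refine Basis.ext_alternating e fun i hi => ?_
    let σ : Equiv.Perm ι := Equiv.ofBijective i (Finite.injective_iff_bijective.1 hi)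
    change G (e ∘ σ) = G' (e ∘ σ)
    simp [G', AlternatingMap.map_perm, Basis.det_self]
  conv_lhs => rw [h]
  simp [G']

/-- products of linear combinations of anticommuting square-zero elements -/
theorem prod_sum_smul_eq_det {𝔈 : Type*} [Ring 𝔈] [Algebra R 𝔈] {n : ℕ} (E : Fin n → 𝔈)
    (hanti : ∀ i j, E i * E j = -(E j * E i)) (hsq : ∀ i, E i * E i = 0)
    (c : Matrix (Fin n) (Fin n) R) :
    (List.ofFn fun i => ∑ j, c i j • E j).prod = c.det • (List.ofFn E).prod := by
  let φ : (Fin n → R) →ₗ[R] 𝔈 := Fintype.linearCombination R E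
  have hφ : ∀ v, φ v * φ v = 0 := by
    intro v
    simp only [φ, Fintype.linearCombination_apply, Finset.sum_mul_sum]
    rw [← Finset.sum_product']
    refine Finset.sum_involution (fun p _ => p.swap) ?_ ?_ ?_ ?_
    · intro p _
      simp only [Prod.fst_swap, Prod.snd_swap, smul_mul_smul_comm]
      rw [hanti p.2 p.1, mul_comm (v p.2) (v p.1), smul_neg, add_neg_cancel]
    · intro p _ hp hswap
      apply hp
      have : p.1 = p.2 := by
        have := congrArg Prod.fst hswap
        simpa using this.symm
      simp only [smul_mul_smul_comm]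
      rw [this, hsq, smul_zero]
    · intro p _
      simp
    · intro p _
      simp
  let Λ : ExteriorAlgebra R (Fin n → R) →ₐ[R] 𝔈 := ExteriorAlgebra.lift R ⟨φ, hφ⟩
  let G : (Fin n → R) [⋀^Fin n]→ₗ[R] 𝔈 :=
    Λ.toLinearMap.compAlternatingMap (ExteriorAlgebra.ιMulti R n)
  have hG : ∀ v : Fin n → (Fin n → R), G v = (List.ofFn fun i => φ (v i)).prod := by
    intro v
    simp only [G, LinearMap.compAlternatingMap_apply, ExteriorAlgebra.ιMulti_apply,
      AlgHom.toLinearMap_apply, map_list_prod, List.map_ofFn]
    congr 2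
    funext i
    simp [Λ]
  have h1 := alternating_eq_det_smul (Pi.basisFun R (Fin n)) G (fun i => c i)
  rw [hG, hG] at h1
  have h2 : ∀ j, φ ((Pi.basisFun R (Fin n)) j) = E j := by
    intro j
    simp [φ, Fintype.linearCombination_apply, Pi.single_apply]
  have h3 : (Pi.basisFun R (Fin n)).det (fun i => c i) = c.det := by
    rw [Pi.basisFun_det_apply]
    rfl
  simp only [h2, h3] at h1
  rw [← h1]
  congr 2

end Alg

section Tot

variable {R : Type u} [CommRing R]

/-- the total module of a cochain complex of modules -/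
abbrev Tot (X : CochainComplex (ModuleCat.{u} R) ℤ) : Type u := (p : ℤ) → X.X p

variable {X Y Z : CochainComplex (ModuleCat.{u} R) ℤ}

/-- the linear map of total modules induced by a cochain -/
noncomputable def toLin {k : ℤ} (γ : Cochain X Y k) : Tot X →ₗ[R] Tot Y where
  toFun t q := (γ.v (q - k) q (by omega)).hom (t (q - k))
  map_add' s t := by
    funext q
    simp
  map_smul' r t := by
    funext q
    simp

lemma toLin_apply {k : ℤ} (γ : Cochain X Y k) (t : Tot X) (p q : ℤ) (h : p + k = q) :
    toLin γ t q = (γ.v p q h).hom (t p) := by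
  obtain rfl : p = q - k := by omega
  rfl

lemma toLin_comp {k₁ k₂ k : ℤ} (γ₁ : Cochain X Y k₁) (γ₂ : Cochain Y Z k₂) (h : k₁ + k₂ = k) :
    toLin (γ₁.comp γ₂ h) = toLin γ₂ ∘ₗ toLin γ₁ := by
  refine LinearMap.ext fun t => funext fun q => ?_
  rw [toLin_apply _ _ (q - k₂ - k₁) q (by omega),
    Cochain.comp_v γ₁ γ₂ h (q - k₂ - k₁) (q - k₂) q (by omega) (by omega),
    LinearMap.comp_apply, toLin_apply γ₂ _ (q - k₂) q (by omega),
    toLin_apply γ₁ _ (q - k₂ - k₁) (q - k₂) (by omega)]
  rfl

lemma toLin_add {k : ℤ} (γ₁ γ₂ : Cochain X Y k) : toLin (γ₁ + γ₂) = toLin γ₁ + toLin γ₂ := by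
  refine LinearMap.ext fun t => funext fun q => ?_
  simp [toLin]

lemma toLin_zero {k : ℤ} : toLin (0 : Cochain X Y k) = 0 := by
  refine LinearMap.ext fun t => funext fun q => ?_
  simp [toLin]

lemma toLin_neg {k : ℤ} (γ : Cochain X Y k) : toLin (-γ) = -toLin γ := by
  refine LinearMap.ext fun t => funext fun q => ?_
  simp [toLin]

lemma toLin_sub {k : ℤ} (γ₁ γ₂ : Cochain X Y k) : toLin (γ₁ - γ₂) = toLin γ₁ - toLin γ₂ := by
  refine LinearMap.ext fun t => funext fun q => ?_
  simp [toLin]

lemma toLin_smul {k : ℤ} (r : R) (γ : Cochain X Y k) : toLin (r • γ) = r • toLin γ := by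
  refine LinearMap.ext fun t => funext fun q => ?_
  simp [toLin]

lemma toLin_sum {k : ℤ} {ι : Type*} (s : Finset ι) (γ : ι → Cochain X Y k) :
    toLin (∑ i ∈ s, γ i) = ∑ i ∈ s, toLin (γ i) := by
  classical
  induction s using Finset.induction_on with
  | empty => simp [toLin_zero]
  | insert a s ha ih => rw [Finset.sum_insert ha, Finset.sum_insert ha, toLin_add, ih]

lemma toLin_ofHom_apply (ψ : X ⟶ Y) (t : Tot X) (q : ℤ) :
    toLin (Cochain.ofHom ψ) t q = (ψ.f q).hom (t q) := by
  rw [toLin_apply _ _ q q (add_zero q), Cochain.ofHom_v]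

lemma toLin_ofHom_id : toLin (Cochain.ofHom (𝟙 X)) = LinearMap.id := by
  refine LinearMap.ext fun t => funext fun q => ?_
  rw [toLin_ofHom_apply]
  simp

/-- the differential as an endomorphism of the total module -/
noncomputable def dTot (X : CochainComplex (ModuleCat.{u} R) ℤ) : Tot X →ₗ[R] Tot X :=
  toLin (Cochain.diff X)

lemma toLin_δ_neg_one (z : Cochain X Y (-1)) :
    toLin (δ (-1) 0 z) = dTot Y ∘ₗ toLin z + toLin z ∘ₗ dTot X := by
  refine LinearMap.ext fun t => funext fun q => ?_
  rw [toLin_apply _ _ q q (add_zero q),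
    δ_v (-1) 0 (neg_add_cancel 1) z q q (add_zero q) (q - 1) (q + 1) rfl rfl]
  simp only [Int.negOnePow_zero, one_smul, LinearMap.add_apply, LinearMap.comp_apply, Pi.add_apply]
  rw [dTot, dTot, toLin_apply (Cochain.diff Y) _ (q - 1) q (by omega),
    toLin_apply z _ (q + 1) q (by omega), toLin_apply z _ q (q - 1) (by omega),
    toLin_apply (Cochain.diff X) _ q (q + 1) rfl]
  simp [Cochain.diff_v]

end Tot

end Groth.Agent.Lib.T3H8.Wiebe
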