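import Mathlib
import Groth.Agent.Lib.T3H8WiebeA
import Groth.Agent.Lib.T3H8WiebeB
/-
Helper library (helper8): the explicit lift `K(f) ⟶ X` attached to null-homotopies of the `f_i`
on `X`, the top elements of Koszul complexes (cone model), and the determinant formula for the
top component of the lift `K(f) ⟶ K(g)` when `f = c g`.
-/
set_option backward.isDefEq.respectTransparency.types false

set_option autoImplicit false
set_option maxHeartbeats 400000
universe u
open CategoryTheory CategoryTheory.Limits CochainComplex CochainComplex.HomComplex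

namespace Groth.Agent.Lib.T3H8.Wiebe

open Groth.Agent.Lib.Helper21

variable {R : Type u} [CommRing R]

/-- the Koszul complex of `l` with coefficients in `R` (cone model) -/
noncomputable abbrev KK (l : List R) : CochainComplex (ModuleCat.{u} R) ℤ :=
  CohIII.koszulCx (ModuleCat.of R R) l

/-- the unit vector of `K([])` -/
noncomputable def one0 : Tot (KK ([] : List R)) :=
  Pi.single 0 ((HomologicalComplex.singleObjXSelf (ComplexShape.up ℤ) 0
    (ModuleCat.of R R)).inv.hom (1 : R))

/-- the base point map `K([]) ⟶ K(l)` -/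
noncomputable def baseMap : (l : List R) → (KK ([] : List R) ⟶ KK l)
  | [] => 𝟙 _
  | a :: l => baseMap l ≫ mappingCone.inr (a • 𝟙 (KK l))

/-- the unit vector of `K(l)` -/
noncomputable def oneV (l : List R) : Tot (KK l) := toLin (Cochain.ofHom (baseMap l)) one0

/-- the top vector of `K(l)` -/
noncomputable def topV : (l : List R) → Tot (KK l)
  | [] => one0
  | a :: l => toLin (mappingCone.inl (a • 𝟙 (KK l))) (topV l)

variable {X : CochainComplex (ModuleCat.{u} R) ℤ}

/-- a null-homotopy datum on `X` -/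
structure NH (X : CochainComplex (ModuleCat.{u} R) ℤ) where
  a : R
  s : Cochain X X (-1)
  hs : δ (-1) 0 s = a • Cochain.ofHom (𝟙 X)

lemma lift_aux {Y : CochainComplex (ModuleCat.{u} R) ℤ} (ψ : Y ⟶ X) (d : NH X) :
    δ (-1) 0 ((Cochain.ofHom ψ).comp d.s (zero_add (-1))) =
      Cochain.ofHom ((d.a • 𝟙 Y) ≫ ψ) := by
  rw [δ_ofHom_comp, d.hs]
  simp [ofHom_smul']

/-- the explicit lift attached to null-homotopy data -/
noncomputable def lift (ι : KK ([] : List R) ⟶ X) :
    (D : List (NH X)) → (KK (D.map NH.a) ⟶ X)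
  | [] => ι
  | d :: D => mappingCone.desc (d.a • 𝟙 (KK (D.map NH.a)))
      ((Cochain.ofHom (lift ι D)).comp d.s (zero_add (-1))) (lift ι D) (lift_aux _ d)

theorem lift_topV (ι : KK ([] : List R) ⟶ X) : ∀ D : List (NH X),
    toLin (Cochain.ofHom (lift ι D)) (topV (D.map NH.a)) =
      (D.map fun d => (toLin d.s : Module.End R (Tot X))).prod (toLin (Cochain.ofHom ι) one0)
  | [] => rfl
  | d :: D => by
    have ih := lift_topV ι D
    have key : toLin (Cochain.ofHom (mappingCone.desc (d.a • 𝟙 (KK (D.map NH.a)))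
          ((Cochain.ofHom (lift ι D)).comp d.s (zero_add (-1))) (lift ι D) (lift_aux _ d)))
        (toLin (mappingCone.inl (d.a • 𝟙 (KK (D.map NH.a)))) (topV (D.map NH.a))) =
        toLin d.s (toLin (Cochain.ofHom (lift ι D)) (topV (D.map NH.a))) := by
      rw [← LinearMap.comp_apply, ← toLin_comp _ _ (add_zero (-1)), mappingCone.inl_desc,
        toLin_comp]
      rfl
    rw [ih] at key
    exact key

section TopProd

lemma prod_sExt_inr (a : R) {Y : CochainComplex (ModuleCat.{u} R) ℤ}
    (τs : List (Cochain Y Y (-1))) (v : Tot Y) :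
    (τs.map fun τ => (toLin (sExt a τ) : Module.End R (Tot (mappingCone (a • 𝟙 Y))))).prod
        (toLin (Cochain.ofHom (mappingCone.inr (a • 𝟙 Y))) v) =
      toLin (Cochain.ofHom (mappingCone.inr (a • 𝟙 Y)))
        ((τs.map fun τ => (toLin τ : Module.End R (Tot Y))).prod v) := by
  induction τs with
  | nil => rfl
  | cons τ τs ih =>
    rw [List.map_cons, List.prod_cons, Module.End.mul_apply, ih, List.map_cons, List.prod_cons,
      Module.End.mul_apply, ← LinearMap.comp_apply, ← toLin_comp _ _ (zero_add (-1)),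
      inr_comp_sExt, toLin_comp]
    rfl

lemma oneV_cons (a : R) (l : List R) :
    oneV (a :: l) = toLin (Cochain.ofHom (mappingCone.inr (a • 𝟙 (KK l)))) (oneV l) := by
  unfold oneV
  show toLin (Cochain.ofHom (baseMap l ≫ mappingCone.inr (a • 𝟙 (KK l)))) one0 = _
  rw [Cochain.ofHom_comp, toLin_comp]
  rfl

lemma prod_cone (a : R) {Y : CochainComplex (ModuleCat.{u} R) ℤ}
    (τs : List (Cochain Y Y (-1))) (v : Tot Y) :
    ((toLin (sNew (Y := Y) a) : Module.End R (Tot (mappingCone (a • 𝟙 Y)))) ::
        τs.map fun τ => (toLin (sExt a τ) : Module.End R (Tot (mappingCone (a • 𝟙 Y))))).prod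
        (toLin (Cochain.ofHom (mappingCone.inr (a • 𝟙 Y))) v) =
      toLin (mappingCone.inl (a • 𝟙 Y))
        ((τs.map fun τ => (toLin τ : Module.End R (Tot Y))).prod v) := by
  rw [List.prod_cons, Module.End.mul_apply, prod_sExt_inr, ← LinearMap.comp_apply,
    ← toLin_comp _ _ (zero_add (-1)), inr_comp_sNew]

theorem prod_sig_oneV : ∀ l : List R,
    (List.ofFn fun i => (toLin (sig (ModuleCat.of R R) l i) : Module.End R (Tot (KK l)))).prod
      (oneV l) = topV l
  | [] => by
    show oneV ([] : List R) = one0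
    unfold oneV
    show toLin (Cochain.ofHom (𝟙 _)) one0 = one0
    rw [toLin_ofHom_id]
    rfl
  | a :: l => by
    have ih := prod_sig_oneV l
    have h3 : (List.ofFn fun i : Fin (l.length + 1) =>
        (toLin (sig (ModuleCat.of R R) (a :: l) i) :
          Module.End R (Tot (mappingCone (a • 𝟙 (KK l)))))) =
        (toLin (sNew (Y := KK l) a) : Module.End R (Tot (mappingCone (a • 𝟙 (KK l))))) ::
          (List.ofFn (sig (ModuleCat.of R R) l)).map fun τ =>
            (toLin (sExt (Y := KK l) a τ) : Module.End R (Tot (mappingCone (a • 𝟙 (KK l))))) := by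
      rw [List.ofFn_succ, List.map_ofFn]
      rfl
    have h4 := prod_cone a (List.ofFn (sig (ModuleCat.of R R) l)) (oneV l)
    rw [← h3, ← oneV_cons, List.map_ofFn] at h4
    rw [show (List.ofFn ((fun τ => (toLin τ : Module.End R (Tot (KK l)))) ∘
      sig (ModuleCat.of R R) l)) = List.ofFn fun i =>
        (toLin (sig (ModuleCat.of R R) l i) : Module.End R (Tot (KK l))) from rfl, ih] at h4
    exact h4

end TopProd

section Top

theorem isZero_KK_X : ∀ (l : List R) (p : ℤ), p < -(l.length : ℤ) → IsZero ((KK l).X p)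
  | [], p, hp => by
    have hp' : p ≠ 0 := by
      simp only [List.length_nil, Nat.cast_zero, neg_zero] at hp
      omega
    exact HomologicalComplex.isZero_single_obj_X (ComplexShape.up ℤ) 0 _ p hp'
  | a :: l, p, hp => by
    show IsZero ((mappingCone (a • 𝟙 (KK l))).X p)
    rw [mappingCone.isZero_X_iff]
    simp only [List.length_cons, Nat.cast_add, Nat.cast_one] at hp
    exact ⟨isZero_KK_X l (p + 1) (by omega), isZero_KK_X l p (by omega)⟩

lemma topV_cons_apply (a : R) (l : List R) (p q : ℤ) (h : q + (-1) = p) :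
    topV (a :: l) p = ((mappingCone.inl (a • 𝟙 (KK l))).v q p h).hom (topV l q) := by
  show toLin (mappingCone.inl (a • 𝟙 (KK l))) (topV l) p = _
  rw [toLin_apply _ _ q p h]

lemma cone_generates {Y : CochainComplex (ModuleCat.{u} R) ℤ} (a : R) (p q : ℤ) (hq : p + 1 = q)
    (hz : IsZero (Y.X p)) (w : Y.X q) (hw : ∀ y' : Y.X q, ∃ r : R, y' = r • w)
    (y : (mappingCone (a • 𝟙 Y)).X p) :
    ∃ r : R, y = r • ((mappingCone.inl (a • 𝟙 Y)).v q p (by omega)).hom w := by
  obtain ⟨r, hr⟩ := hw (((mappingCone.fst (a • 𝟙 Y)).1.v p q hq).hom y)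
  refine ⟨r, ?_⟩
  rw [← map_smul, ← hr]
  have hid := congrArg (fun t => t.hom y) (mappingCone.id_X (a • 𝟙 Y) p q hq)
  simp only [ModuleCat.hom_add, ModuleCat.hom_comp, LinearMap.add_apply, LinearMap.comp_apply,
    ModuleCat.hom_id, LinearMap.id_apply] at hid
  have h0 : ((mappingCone.snd (a • 𝟙 Y)).v p p (add_zero p)).hom y = 0 :=
    (ModuleCat.subsingleton_of_isZero hz).elim _ _
  rw [h0, map_zero, add_zero] at hid
  exact hid.symm

lemma cone_torsionFree {Y : CochainComplex (ModuleCat.{u} R) ℤ} (a : R) (p q : ℤ) (hq : p + 1 = q)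
    (w : Y.X q) (hw : ∀ r : R, r • w = 0 → r = 0) (r : R)
    (h : r • ((mappingCone.inl (a • 𝟙 Y)).v q p (by omega)).hom w = 0) : r = 0 := by
  rw [← map_smul] at h
  have h2 := congrArg ((mappingCone.fst (a • 𝟙 Y)).1.v p q hq).hom h
  rw [map_zero] at h2
  have h3 := congrArg (fun t => t.hom (r • w))
    (mappingCone.inl_v_fst_v (a • 𝟙 Y) q p hq)
  simp only [ModuleCat.hom_comp, LinearMap.comp_apply, ModuleCat.hom_id,
    LinearMap.id_apply] at h3
  rw [h3] at h2
  exact hw r h2

/-- the unit element of the single complex -/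
noncomputable def e0 : ((HomologicalComplex.single (ModuleCat.{u} R) (ComplexShape.up ℤ) 0).obj
    (ModuleCat.of R R)).X 0 :=
  (HomologicalComplex.singleObjXSelf (ComplexShape.up ℤ) 0 (ModuleCat.of R R)).inv.hom (1 : R)

lemma single_generates (y : ((HomologicalComplex.single (ModuleCat.{u} R) (ComplexShape.up ℤ) 0).obj
    (ModuleCat.of R R)).X 0) : ∃ r : R, y = r • (e0 (R := R)) := by
  let e := HomologicalComplex.singleObjXSelf (ComplexShape.up ℤ) 0 (ModuleCat.of R R)
  refine ⟨e.hom.hom y, ?_⟩
  unfold e0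
  rw [← map_smul, smul_eq_mul, mul_one]
  exact (congrArg (fun t => t.hom y) e.hom_inv_id).symm

lemma single_torsionFree (r : R) (h : r • (e0 (R := R)) = 0) : r = 0 := by
  let e := HomologicalComplex.singleObjXSelf (ComplexShape.up ℤ) 0 (ModuleCat.of R R)
  unfold e0 at h
  rw [← map_smul, smul_eq_mul, mul_one] at h
  have h2 := congrArg e.hom.hom h
  rw [map_zero] at h2
  have h3 : e.hom.hom (e.inv.hom r) = r := congrArg (fun t => t.hom r) e.inv_hom_id
  rw [h3] at h2
  exact h2

lemma topV_nil_zero : topV ([] : List R) 0 = e0 (R := R) := by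
  show (Pi.single (0 : ℤ) (e0 (R := R)) : Tot (KK ([] : List R))) 0 = _
  rw [Pi.single_eq_same]

theorem topV_generates : ∀ (l : List R) (p : ℤ), p = -(l.length : ℤ) →
    ∀ y : (KK l).X p, ∃ r : R, y = r • topV l p
  | [], p, hp, y => by
    simp only [List.length_nil, Nat.cast_zero, neg_zero] at hp
    subst hp
    rw [topV_nil_zero]
    exact single_generates y
  | a :: l, p, hp, y => by
    simp only [List.length_cons, Nat.cast_add, Nat.cast_one] at hp
    have hz : IsZero ((KK l).X p) := isZero_KK_X l p (by omega)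
    have ih := topV_generates l (p + 1) (by omega)
    rw [topV_cons_apply a l p (p + 1) (by omega)]
    exact cone_generates a p (p + 1) rfl hz (topV l (p + 1)) ih y

theorem topV_torsionFree : ∀ (l : List R) (p : ℤ), p = -(l.length : ℤ) →
    ∀ r : R, r • topV l p = 0 → r = 0
  | [], p, hp, r, h => by
    simp only [List.length_nil, Nat.cast_zero, neg_zero] at hp
    subst hp
    rw [topV_nil_zero] at h
    exact single_torsionFree r h
  | a :: l, p, hp, r, h => by
    simp only [List.length_cons, Nat.cast_add, Nat.cast_one] at hp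
    have ih := topV_torsionFree l (p + 1) (by omega)
    rw [topV_cons_apply a l p (p + 1) (by omega)] at h
    exact cone_torsionFree a p (p + 1) rfl (topV l (p + 1)) ih r h

end Top

section InI

/-- all components lie in `I • ⊤` -/
def InI (I : Ideal R) {X : CochainComplex (ModuleCat.{u} R) ℤ} (t : Tot X) : Prop :=
  ∀ q, t q ∈ I • (⊤ : Submodule R (X.X q))

variable {I J : Ideal R} {X Y : CochainComplex (ModuleCat.{u} R) ℤ}

lemma InI.zero : InI I (0 : Tot X) := fun _ => Submodule.zero_mem _

lemma InI.add {s t : Tot X} (hs : InI I s) (ht : InI I t) : InI I (s + t) :=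
  fun q => Submodule.add_mem _ (hs q) (ht q)

lemma InI.neg {t : Tot X} (ht : InI I t) : InI I (-t) :=
  fun q => Submodule.neg_mem _ (ht q)

lemma InI.sub {s t : Tot X} (hs : InI I s) (ht : InI I t) : InI I (s - t) :=
  fun q => Submodule.sub_mem _ (hs q) (ht q)

lemma InI.mono (h : I ≤ J) {t : Tot X} (ht : InI I t) : InI J t :=
  fun q => Submodule.smul_mono_left h (ht q)

lemma InI.of_mem {r : R} (hr : r ∈ I) (t : Tot X) : InI I (r • t) :=
  fun q => Submodule.smul_mem_smul hr Submodule.mem_top

lemma InI.toLin {k : ℤ} (γ : Cochain X Y k) {t : Tot X} (ht : InI I t) : InI I (toLin γ t) := by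
  intro q
  rw [toLin_apply γ t (q - k) q (by omega)]
  have h := ht (q - k)
  refine Submodule.smul_induction_on h ?_ ?_
  · intro r hr n _
    rw [map_smul]
    exact Submodule.smul_mem_smul hr Submodule.mem_top
  · intro x y hx hy
    rw [map_add]
    exact Submodule.add_mem _ hx hy

end InI

section DTop

lemma dTot_single_eq_zero (t : Tot (KK ([] : List R))) : dTot (KK ([] : List R)) t = 0 := by
  funext q
  show toLin (Cochain.diff (KK ([] : List R))) t q = 0
  rw [toLin_apply _ _ (q - 1) q (by omega), Cochain.diff_v]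
  have : (KK ([] : List R)).d (q - 1) q = 0 :=
    HomologicalComplex.single_obj_d (ComplexShape.up ℤ) 0 (ModuleCat.of R R) (q - 1) q
  rw [this]
  rfl

lemma dTot_toLin_inl {Y : CochainComplex (ModuleCat.{u} R) ℤ} (a : R) (t : Tot Y) :
    dTot (mappingCone (a • 𝟙 Y)) (toLin (mappingCone.inl (a • 𝟙 Y)) t) =
      a • toLin (Cochain.ofHom (mappingCone.inr (a • 𝟙 Y))) t -
        toLin (mappingCone.inl (a • 𝟙 Y)) (dTot Y t) := by
  have h := congrArg (fun f => f t) (toLin_δ_neg_one (mappingCone.inl (a • 𝟙 Y)))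
  simp only [mappingCone.δ_inl, LinearMap.add_apply, LinearMap.comp_apply] at h
  have h2 : Cochain.ofHom ((a • 𝟙 Y) ≫ mappingCone.inr (a • 𝟙 Y)) =
      a • Cochain.ofHom (mappingCone.inr (a • 𝟙 Y)) := by
    rw [Linear.smul_comp, Category.id_comp, ofHom_smul']
  rw [h2, toLin_smul, LinearMap.smul_apply] at h
  rw [h]
  abel

theorem dTot_topV : ∀ l : List R, InI (Ideal.ofList l) (dTot (KK l) (topV l))
  | [] => by
    rw [dTot_single_eq_zero]
    exact InI.zero
  | a :: l => by
    have ih := dTot_topV l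
    have h := dTot_toLin_inl (Y := KK l) a (topV l)
    show InI _ (dTot (mappingCone (a • 𝟙 (KK l))) (toLin (mappingCone.inl (a • 𝟙 (KK l))) (topV l)))
    rw [h]
    refine InI.sub (InI.of_mem ?_ _) (InI.toLin _ (InI.mono ?_ ih))
    · exact Ideal.subset_span List.mem_cons_self
    · exact Ideal.span_mono fun x hx => List.mem_cons_of_mem _ hx

end DTop

section Core

variable (lg : List R) (c : Matrix (Fin lg.length) (Fin lg.length) R)

/-- the linear combination of the contracting cochains attached to a row of `c` -/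
noncomputable def sRow (i : Fin lg.length) : Cochain (KK lg) (KK lg) (-1) :=
  ∑ j, c i j • sig (ModuleCat.of R R) lg j

/-- the elements `f_i = ∑ c_ij g_j` -/
def fRow (i : Fin lg.length) : R := ∑ j, c i j * lg.get j

lemma δ_sRow (i : Fin lg.length) :
    δ (-1) 0 (sRow lg c i) = fRow lg c i • Cochain.ofHom (𝟙 (KK lg)) := by
  unfold sRow fRow
  show (δ_hom R (KK lg) (KK lg) (-1) 0) (∑ j, c i j • sig (ModuleCat.of R R) lg j) = _
  rw [map_sum, Finset.sum_smul]
  refine Finset.sum_congr rfl fun j _ => ?_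
  rw [map_smul]
  show c i j • δ (-1) 0 (sig (ModuleCat.of R R) lg j) = _
  rw [δ_sig, smul_smul]

/-- the null-homotopy data of the rows -/
noncomputable def nhRow (i : Fin lg.length) : NH (KK lg) :=
  ⟨fRow lg c i, sRow lg c i, δ_sRow lg c i⟩

/-- the list of null-homotopy data -/
noncomputable def DD : List (NH (KK lg)) := List.ofFn (nhRow lg c)

/-- the list of the `f_i` -/
noncomputable def lf : List R := (DD lg c).map NH.a

lemma lf_eq : lf lg c = List.ofFn (fRow lg c) := by
  unfold lf DD
  rw [List.map_ofFn]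
  rfl

/-- the explicit lift `K(f) ⟶ K(g)` -/
noncomputable def Psi : KK (lf lg c) ⟶ KK lg := lift (baseMap lg) (DD lg c)

theorem Psi_topV :
    toLin (Cochain.ofHom (Psi lg c)) (topV (lf lg c)) = c.det • topV lg := by
  have h1 := lift_topV (baseMap lg) (DD lg c)
  have h2 : ((DD lg c).map fun d => (toLin d.s : Module.End R (Tot (KK lg)))) =
      List.ofFn fun i => ∑ j, c i j •
        (toLin (sig (ModuleCat.of R R) lg j) : Module.End R (Tot (KK lg))) := by
    unfold DD
    rw [List.map_ofFn]
    congr 1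
    funext i
    show toLin (sRow lg c i) = _
    unfold sRow
    rw [toLin_sum]
    refine Finset.sum_congr rfl fun j _ => ?_
    rw [toLin_smul]
  have hanti : ∀ i j : Fin lg.length,
      (toLin (sig (ModuleCat.of R R) lg i) : Module.End R (Tot (KK lg))) *
        toLin (sig (ModuleCat.of R R) lg j) =
      -((toLin (sig (ModuleCat.of R R) lg j) : Module.End R (Tot (KK lg))) *
        toLin (sig (ModuleCat.of R R) lg i)) := by
    intro i j
    show toLin (sig (ModuleCat.of R R) lg i) ∘ₗ toLin (sig (ModuleCat.of R R) lg j) =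
      -(toLin (sig (ModuleCat.of R R) lg j) ∘ₗ toLin (sig (ModuleCat.of R R) lg i))
    rw [← toLin_comp _ _ (show (-1 : ℤ) + (-1) = -2 by norm_num),
      ← toLin_comp _ _ (show (-1 : ℤ) + (-1) = -2 by norm_num),
      (sig_comp_sig (ModuleCat.of R R) lg j i).1, toLin_neg]
  have hsq : ∀ i : Fin lg.length,
      (toLin (sig (ModuleCat.of R R) lg i) : Module.End R (Tot (KK lg))) *
        toLin (sig (ModuleCat.of R R) lg i) = 0 := by
    intro i
    show toLin (sig (ModuleCat.of R R) lg i) ∘ₗ toLin (sig (ModuleCat.of R R) lg i) = 0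
    rw [← toLin_comp _ _ (show (-1 : ℤ) + (-1) = -2 by norm_num),
      (sig_comp_sig (ModuleCat.of R R) lg i i).2, toLin_zero]
  have h3 := prod_sum_smul_eq_det
    (fun j => (toLin (sig (ModuleCat.of R R) lg j) : Module.End R (Tot (KK lg)))) hanti hsq c
  unfold Psi
  unfold lf
  rw [h1, h2, h3]
  show c.det • ((List.ofFn fun j =>
    (toLin (sig (ModuleCat.of R R) lg j) : Module.End R (Tot (KK lg)))).prod (oneV lg)) = _
  rw [prod_sig_oneV]

theorem baseMap_lift {X : CochainComplex (ModuleCat.{u} R) ℤ} (ι : KK ([] : List R) ⟶ X) :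
    ∀ D : List (NH X), baseMap (D.map NH.a) ≫ lift ι D = ι
  | [] => Category.id_comp _
  | d :: D => by
    show (baseMap (D.map NH.a) ≫ mappingCone.inr (d.a • 𝟙 (KK (D.map NH.a)))) ≫
      mappingCone.desc _ _ _ _ = ι
    rw [Category.assoc, mappingCone.inr_desc]
    exact baseMap_lift ι D

theorem baseMap_Psi : baseMap (lf lg c) ≫ Psi lg c = baseMap lg :=
  baseMap_lift (baseMap lg) (DD lg c)

end Core

end Groth.Agent.Lib.T3H8.Wiebe
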