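import Mathlib
import Groth.Agent.Lib.T3H8WiebeC
import Groth.Agent.Lib.T2H9KoszulComp
import Groth.Agent.Lib.T2H7PerfKos
import Groth.Agent.Lib.Helper17DBrown3
import Groth.Agent.Lib.Helper13KzLiftB
import Groth.Agent.S15821
/-
Helper library (helper8): Wiebe's lemma for Koszul-regular sequences in the cone model:
if `f = c g` with `f`, `g` Koszul-regular of the same length, then `((f) : (g)) = (f) + (det c)`.
-/
set_option backward.isDefEq.respectTransparency.types false

set_option autoImplicit false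
set_option maxHeartbeats 400000
universe u
open CategoryTheory CategoryTheory.Limits CochainComplex CochainComplex.HomComplex

namespace Groth.Agent.Lib.T3H8.Wiebe

open Groth.Agent.Lib.Helper21

variable {R : Type u} [CommRing R]

section DegZero

/-- the projection `K(l)^0 ⟶ K([])^0` -/
noncomputable def proj0 : (l : List R) → ((KK l).X 0 ⟶ (KK ([] : List R)).X 0)
  | [] => 𝟙 _
  | a :: l => (mappingCone.snd (a • 𝟙 (KK l))).v 0 0 (add_zero 0) ≫ proj0 l

theorem baseMap_proj0 : ∀ l : List R, (baseMap l).f 0 ≫ proj0 l = 𝟙 _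
  | [] => by
    show HomologicalComplex.Hom.f (𝟙 (KK ([] : List R))) 0 ≫ 𝟙 _ = 𝟙 _
    simp
  | a :: l => by
    show (baseMap l ≫ mappingCone.inr (a • 𝟙 (KK l))).f 0 ≫
      (mappingCone.snd (a • 𝟙 (KK l))).v 0 0 (add_zero 0) ≫ proj0 l = 𝟙 _
    rw [HomologicalComplex.comp_f, Category.assoc, mappingCone.inr_f_snd_v_assoc]
    exact baseMap_proj0 l

theorem isZero_KK_X_pos : ∀ (l : List R) (p : ℤ), 0 < p → IsZero ((KK l).X p)
  | [], p, hp => HomologicalComplex.isZero_single_obj_X (ComplexShape.up ℤ) 0 _ p (by omega)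
  | a :: l, p, hp => by
    show IsZero ((mappingCone (a • 𝟙 (KK l))).X p)
    rw [mappingCone.isZero_X_iff]
    exact ⟨isZero_KK_X_pos l (p + 1) (by omega), isZero_KK_X_pos l p hp⟩

theorem proj0_baseMap : ∀ l : List R, proj0 l ≫ (baseMap l).f 0 = 𝟙 _
  | [] => by
    show 𝟙 _ ≫ HomologicalComplex.Hom.f (𝟙 (KK ([] : List R))) 0 = 𝟙 _
    simp
  | a :: l => by
    show ((mappingCone.snd (a • 𝟙 (KK l))).v 0 0 (add_zero 0) ≫ proj0 l) ≫
      (baseMap l ≫ mappingCone.inr (a • 𝟙 (KK l))).f 0 = 𝟙 _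
    rw [HomologicalComplex.comp_f, Category.assoc, ← Category.assoc (proj0 l), proj0_baseMap l,
      Category.id_comp]
    have h := mappingCone.id_X (a • 𝟙 (KK l)) 0 1 rfl
    have hz : (mappingCone.fst (a • 𝟙 (KK l))).1.v 0 1 rfl = 0 :=
      (isZero_KK_X_pos l 1 (by omega)).eq_of_tgt _ _
    rw [hz, zero_comp, zero_add] at h
    exact h

end DegZero

section DGen

lemma dTot_ofHom {X Y : CochainComplex (ModuleCat.{u} R) ℤ} (ψ : X ⟶ Y) (t : Tot X) :
    dTot Y (toLin (Cochain.ofHom ψ) t) = toLin (Cochain.ofHom ψ) (dTot X t) := by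
  funext q
  unfold dTot
  rw [toLin_apply _ _ (q - 1) q (by omega), toLin_ofHom_apply, toLin_ofHom_apply,
    toLin_apply _ _ (q - 1) q (by omega), Cochain.diff_v, Cochain.diff_v]
  exact congrArg (fun f => f.hom (t (q - 1))) (ψ.comm (q - 1) q)

lemma tot_cone_decomp {Y : CochainComplex (ModuleCat.{u} R) ℤ} (a : R)
    (t : Tot (mappingCone (a • 𝟙 Y))) :
    t = toLin (mappingCone.inl (a • 𝟙 Y)) (toLin (mappingCone.fst (a • 𝟙 Y)).1 t) +
      toLin (Cochain.ofHom (mappingCone.inr (a • 𝟙 Y))) (toLin (mappingCone.snd (a • 𝟙 Y)) t) := by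
  have h := congrArg (fun γ => toLin γ t) (mappingCone.id (a • 𝟙 Y))
  simp only [toLin_add, toLin_comp, toLin_ofHom_id, LinearMap.add_apply, LinearMap.comp_apply,
    LinearMap.id_apply] at h
  exact h.symm

theorem dTot_mem : ∀ (l : List R) (t : Tot (KK l)), InI (Ideal.ofList l) (dTot (KK l) t)
  | [], t => by
    rw [dTot_single_eq_zero]
    exact InI.zero
  | a :: l, t => by
    have ha : a ∈ Ideal.ofList (a :: l) := Ideal.subset_span List.mem_cons_self
    have hle : Ideal.ofList l ≤ Ideal.ofList (a :: l) :=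
      Ideal.span_mono fun x hx => List.mem_cons_of_mem _ hx
    show InI _ (dTot (mappingCone (a • 𝟙 (KK l))) t)
    rw [tot_cone_decomp a t, map_add, dTot_toLin_inl, dTot_ofHom]
    refine InI.add (InI.sub (InI.of_mem ha _) (InI.toLin _ (InI.mono hle (dTot_mem l _))))
      (InI.toLin _ (InI.mono hle (dTot_mem l _)))

lemma dTot_oneV (l : List R) : dTot (KK l) (oneV l) = 0 := by
  unfold oneV
  rw [dTot_ofHom, dTot_single_eq_zero, map_zero]

/-- `g_j • 1` is a boundary -/
theorem dTot_sig_oneV (l : List R) (j : Fin l.length) :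
    dTot (KK l) (toLin (sig (ModuleCat.of R R) l j) (oneV l)) = l.get j • oneV l := by
  have h := congrArg (fun f => f (oneV l)) (toLin_δ_neg_one (sig (ModuleCat.of R R) l j))
  simp only [δ_sig, toLin_smul, toLin_ofHom_id, LinearMap.smul_apply, LinearMap.id_apply,
    LinearMap.add_apply, LinearMap.comp_apply, dTot_oneV, map_zero, add_zero] at h
  exact h.symm

end DGen

section KProj

attribute [local instance] HasDerivedCategory.standard

instance isStrictlyLE_KK (l : List R) : (KK l).IsStrictlyLE 0 :=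
  Groth.Agent.Lib.T2H9.KoszulComp.isStrictlyLE_koszulCx (ModuleCat.of R R) l

instance isKProjective_KK (l : List R) : (KK l).IsKProjective := by
  haveI : ∀ n, Projective ((KK l).X n) := fun n =>
    (IsProjective.iff_projective ((KK l).X n)).1
      (Groth.Agent.Lib.T2H7.PerfKos.termwise_koszulCx R l n).2
  exact isKProjective_of_projective _ 0

/-- lifting a map to the target of a quasi-isomorphism from a K-projective source -/
theorem exists_lift_of_quasiIso {K L S : CochainComplex (ModuleCat.{u} R) ℤ} [K.IsKProjective]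
    (π : L ⟶ S) [QuasiIso π] (β : K ⟶ S) :
    ∃ α : K ⟶ L, DerivedCategory.Q.map (α ≫ π) = DerivedCategory.Q.map β := by
  haveI : IsIso (DerivedCategory.Q.map π) :=
    (DerivedCategory.isIso_Q_map_iff_quasiIso (φ := π)).2 inferInstance
  obtain ⟨α, hα⟩ := Groth.Agent.Lib.Helper17.DBrown.exists_Q_map_eq_of_isKProjective
    (K := K) (L := L) (DerivedCategory.Q.map β ≫ inv (DerivedCategory.Q.map π))
  refine ⟨α, ?_⟩
  rw [Functor.map_comp, hα, Category.assoc, IsIso.inv_hom_id, Category.comp_id]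

/-- maps into the source of a quasi-isomorphism from a K-projective complex are determined up to
homotopy by their composites with the quasi-isomorphism -/
theorem homotopy_of_comp_quasiIso {K L S : CochainComplex (ModuleCat.{u} R) ℤ} [K.IsKProjective]
    (π : L ⟶ S) [QuasiIso π] (a b : K ⟶ L)
    (h : DerivedCategory.Q.map (a ≫ π) = DerivedCategory.Q.map (b ≫ π)) :
    Nonempty (Homotopy a b) := by
  haveI : IsIso (DerivedCategory.Q.map π) :=
    (DerivedCategory.isIso_Q_map_iff_quasiIso (φ := π)).2 inferInstance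
  apply Groth.Agent.Lib.Helper17.DBrown.homotopy_of_Q_map_eq_of_isKProjective
  rw [Functor.map_comp, Functor.map_comp] at h
  exact (cancel_mono (DerivedCategory.Q.map π)).1 h

end KProj

section Bdry

/-- boundaries in degree `0` lie in `(l) K⁰` -/
lemma d_mem_smul_top (l : List R) (y : (KK l).X (-1)) :
    ((KK l).d (-1) 0).hom y ∈ Ideal.ofList l • (⊤ : Submodule R ((KK l).X 0)) := by
  have h := dTot_mem l (Pi.single (-1) y) 0
  unfold dTot at h
  rw [toLin_apply _ _ (-1) 0 (by norm_num), Cochain.diff_v, Pi.single_eq_same] at h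
  exact h

lemma oneV_zero (l : List R) : oneV l 0 = ((baseMap l).f 0).hom (e0 (R := R)) := by
  unfold oneV
  rw [toLin_ofHom_apply]
  congr 1

/-- every element of `K⁰` is a multiple of `1` -/
lemma X0_generates (l : List R) (w : (KK l).X 0) : ∃ r : R, w = r • oneV l 0 := by
  obtain ⟨r, hr⟩ := single_generates ((proj0 l).hom w)
  refine ⟨r, ?_⟩
  have h := congrArg (fun f => f.hom w) (proj0_baseMap l)
  simp only [ModuleCat.hom_comp, LinearMap.comp_apply, ModuleCat.hom_id, LinearMap.id_apply] at h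
  have h2 : ((baseMap l).f 0).hom ((proj0 l).hom w) = ((baseMap l).f 0).hom (r • e0 (R := R)) :=
    congrArg _ hr
  rw [h] at h2
  rw [oneV_zero]
  exact h2.trans (map_smul ((baseMap l).f 0).hom r (e0 (R := R)))

/-- `(l) K⁰` consists of boundaries -/
lemma smul_top_le_range (l : List R) :
    Ideal.ofList l • (⊤ : Submodule R ((KK l).X 0)) ≤
      LinearMap.range ((KK l).d (-1) 0).hom := by
  rw [Submodule.smul_le]
  intro s hs w _
  obtain ⟨r, rfl⟩ := X0_generates l w
  rw [smul_comm]
  refine Submodule.smul_mem _ r ?_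
  induction hs using Submodule.span_induction with
  | mem x hx =>
    obtain ⟨j, rfl⟩ := List.mem_iff_get.1 hx
    have h := congrFun (dTot_sig_oneV l j) 0
    unfold dTot at h
    rw [toLin_apply _ _ (-1) 0 (by norm_num), Cochain.diff_v] at h
    exact ⟨_, h⟩
  | zero =>
    rw [zero_smul]
    exact Submodule.zero_mem _
  | add x y _ _ hx hy =>
    rw [add_smul]
    exact Submodule.add_mem _ hx hy
  | smul a x _ hx =>
    rw [smul_eq_mul, mul_smul]
    exact Submodule.smul_mem _ a hx

end Bdry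

section Main

attribute [local instance] HasDerivedCategory.standard

variable (lg : List R) (c : Matrix (Fin lg.length) (Fin lg.length) R)

lemma lf_length : (lf lg c).length = lg.length := by
  rw [lf_eq, List.length_ofFn]

lemma Psi_zero : (Psi lg c).f 0 ≫ proj0 lg ≫ (baseMap (lf lg c)).f 0 = 𝟙 _ := by
  have h1 : (baseMap (lf lg c)).f 0 ≫ (Psi lg c).f 0 = (baseMap lg).f 0 := by
    rw [← HomologicalComplex.comp_f, baseMap_Psi]
  have h2 : (Psi lg c).f 0 = proj0 (lf lg c) ≫ (baseMap lg).f 0 := by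
    rw [← h1, ← Category.assoc, proj0_baseMap, Category.id_comp]
  rw [h2, Category.assoc, ← Category.assoc ((baseMap lg).f 0), baseMap_proj0, Category.id_comp,
    proj0_baseMap]

theorem exists_homotopy (hf : ∀ i : ℤ, i ≠ 0 → IsZero ((KK (lf lg c)).homology i)) (u : R)
    (hu : ∀ j : Fin lg.length, u * lg.get j ∈ Ideal.ofList (lf lg c)) :
    ∃ α : KK lg ⟶ KK (lf lg c),
      Nonempty (Homotopy (Psi lg c ≫ α) (u • 𝟙 (KK (lf lg c)))) := by
  obtain ⟨N, π, hπ, -⟩ :=
    Groth.Agent.Lib.T2H9.KoszulComp.exists_quasiIso_single (KK (lf lg c)) hf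
  haveI := hπ
  let e := HomologicalComplex.singleObjXSelf (ComplexShape.up ℤ) 0 N
  let π0 : (KK (lf lg c)).X 0 ⟶ N := π.f 0 ≫ e.hom
  have hπ0 : ∀ y : (KK (lf lg c)).X (-1), π0.hom (((KK (lf lg c)).d (-1) 0).hom y) = 0 := by
    intro y
    have h1 : (KK (lf lg c)).d (-1) 0 ≫ π.f 0 = 0 := by
      rw [← π.comm (-1) 0, HomologicalComplex.single_obj_d, comp_zero]
    have h2 := congrArg (fun t => (t ≫ e.hom).hom y) h1
    simpa [π0] using h2
  have hu' : ∀ r ∈ Ideal.ofList lg, u * r ∈ Ideal.ofList (lf lg c) := by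
    intro r hr
    induction hr using Submodule.span_induction with
    | mem x hx =>
      obtain ⟨j, rfl⟩ := List.mem_iff_get.1 hx
      exact hu j
    | zero => simp
    | add x y _ _ hx hy =>
      rw [mul_add]
      exact Ideal.add_mem _ hx hy
    | smul a x _ hx =>
      rw [smul_eq_mul, mul_left_comm]
      exact Ideal.mul_mem_left _ a hx
  let φ : (KK lg).X 0 ⟶ (KK (lf lg c)).X 0 := proj0 lg ≫ (baseMap (lf lg c)).f 0
  let β0 : (KK lg).X 0 ⟶ N := u • (φ ≫ π0)
  have hβ0 : ∀ i : ℤ, (ComplexShape.up ℤ).Rel i 0 → (KK lg).d i 0 ≫ β0 = 0 := by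
    intro i hi
    obtain rfl : i = -1 := by
      simp only [ComplexShape.up_Rel] at hi
      omega
    ext y
    have hz := d_mem_smul_top lg y
    have key : ∀ z ∈ Ideal.ofList lg • (⊤ : Submodule R ((KK lg).X 0)),
        u • φ.hom z ∈ Ideal.ofList (lf lg c) • (⊤ : Submodule R ((KK (lf lg c)).X 0)) := by
      intro z hz
      refine Submodule.smul_induction_on hz ?_ ?_
      · intro r hr m _
        rw [map_smul, smul_smul]
        exact Submodule.smul_mem_smul (hu' r hr) Submodule.mem_top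
      · intro x y hx hy
        rw [map_add, smul_add]
        exact Submodule.add_mem _ hx hy
    obtain ⟨y', hy'⟩ := smul_top_le_range (lf lg c) (key _ hz)
    show β0.hom (((KK lg).d (-1) 0).hom y) = 0
    show (u • (φ ≫ π0)).hom (((KK lg).d (-1) 0).hom y) = 0
    rw [ModuleCat.hom_smul, LinearMap.smul_apply, ModuleCat.hom_comp, LinearMap.comp_apply,
      ← map_smul, ← hy']
    exact hπ0 y'
  let β : KK lg ⟶ (HomologicalComplex.single (ModuleCat.{u} R) (ComplexShape.up ℤ) 0).obj N :=
    HomologicalComplex.mkHomToSingle β0 hβ0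
  obtain ⟨α, hα⟩ := exists_lift_of_quasiIso π β
  refine ⟨α, homotopy_of_comp_quasiIso π _ _ ?_⟩
  have h3 : Psi lg c ≫ β = (u • 𝟙 (KK (lf lg c))) ≫ π := by
    apply HomologicalComplex.to_single_hom_ext
    rw [HomologicalComplex.comp_f, HomologicalComplex.comp_f,
      HomologicalComplex.mkHomToSingle_f]
    show (Psi lg c).f 0 ≫ (u • ((proj0 lg ≫ (baseMap (lf lg c)).f 0) ≫ π.f 0 ≫ e.hom)) ≫ e.inv =
      (u • 𝟙 (KK (lf lg c))).f 0 ≫ π.f 0
    rw [HomologicalComplex.smul_f_apply, HomologicalComplex.id_f]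
    simp only [Linear.comp_smul, Linear.smul_comp, Category.assoc, e.hom_inv_id,
      Category.comp_id, Category.id_comp]
    congr 1
    have := Psi_zero lg c
    rw [← Category.assoc, ← Category.assoc, Category.assoc ((Psi lg c).f 0), this,
      Category.id_comp]
  rw [Category.assoc, Functor.map_comp, hα, ← Functor.map_comp, h3]

lemma mem_smul_top_of_generates {M : Type*} [AddCommGroup M] [Module R M] (I : Ideal R) (ω : M)
    (hgen : ∀ y : M, ∃ r : R, y = r • ω) {y : M} (hy : y ∈ I • (⊤ : Submodule R M)) :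
    ∃ b ∈ I, y = b • ω := by
  refine Submodule.smul_induction_on hy ?_ ?_
  · intro r hr m _
    obtain ⟨r', rfl⟩ := hgen m
    exact ⟨r * r', Ideal.mul_mem_right _ _ hr, by rw [mul_smul]⟩
  · rintro x y ⟨b1, hb1, rfl⟩ ⟨b2, hb2, rfl⟩
    exact ⟨b1 + b2, Ideal.add_mem _ hb1 hb2, by rw [add_smul]⟩

/-- Wiebe's lemma, list form: if `f = c g` and `f` is Koszul-regular, then
`((f) : (g)) ⊆ (f) + (det c)` -/
theorem wiebe_list (hf : ∀ i : ℤ, i ≠ 0 → IsZero ((KK (lf lg c)).homology i)) (u : R)
    (hu : ∀ j : Fin lg.length, u * lg.get j ∈ Ideal.ofList (lf lg c)) :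
    u ∈ Ideal.ofList (lf lg c) ⊔ Ideal.span {c.det} := by
  obtain ⟨α, ⟨H⟩⟩ := exists_homotopy lg c hf u hu
  obtain ⟨p, hp⟩ : ∃ p : ℤ, p = -(lg.length : ℤ) := ⟨_, rfl⟩
  have hpf : p = -((lf lg c).length : ℤ) := by rw [lf_length, hp]
  have h1 := δ_ofHomotopy H
  have h2 := congrArg (fun γ => toLin γ (topV (lf lg c)) p) h1
  simp only [toLin_δ_neg_one, toLin_sub, LinearMap.add_apply, LinearMap.comp_apply,
    LinearMap.sub_apply, Pi.add_apply, Pi.sub_apply] at h2
  -- the first term vanishes for degree reasons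
  have hz : dTot (KK (lf lg c)) (toLin (Cochain.ofHomotopy H) (topV (lf lg c))) p = 0 := by
    unfold dTot
    rw [toLin_apply _ _ (p - 1) p (by omega)]
    have h0 : toLin (Cochain.ofHomotopy H) (topV (lf lg c)) (p - 1) = 0 :=
      (ModuleCat.subsingleton_of_isZero (isZero_KK_X (lf lg c) (p - 1) (by omega))).elim _ _
    rw [h0, map_zero]
  -- the second term lies in `(f) ω`
  have hb : toLin (Cochain.ofHomotopy H) (dTot (KK (lf lg c)) (topV (lf lg c))) p ∈
      Ideal.ofList (lf lg c) • (⊤ : Submodule R ((KK (lf lg c)).X p)) :=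
    InI.toLin _ (dTot_topV (lf lg c)) p
  obtain ⟨b, hb1, hb2⟩ := mem_smul_top_of_generates (Ideal.ofList (lf lg c))
    (topV (lf lg c) p) (topV_generates (lf lg c) p hpf) hb
  -- the composite
  have h3 : toLin (Cochain.ofHom (Psi lg c ≫ α)) (topV (lf lg c)) p =
      c.det • (α.f p).hom (topV lg p) := by
    rw [Cochain.ofHom_comp, toLin_comp, LinearMap.comp_apply, Psi_topV, map_smul,
      Pi.smul_apply, toLin_ofHom_apply]
  obtain ⟨a, ha⟩ := topV_generates (lf lg c) p hpf ((α.f p).hom (topV lg p))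
  have h4 : toLin (Cochain.ofHom (u • 𝟙 (KK (lf lg c)))) (topV (lf lg c)) p =
      u • topV (lf lg c) p := by
    rw [ofHom_smul', toLin_smul, toLin_ofHom_id]
    rfl
  rw [hz, zero_add, hb2, h3, ha, h4, smul_smul] at h2
  have h5 : (c.det * a - u - b) • topV (lf lg c) p = 0 := by
    rw [sub_smul, sub_smul, ← h2]
    abel
  have h6 := topV_torsionFree (lf lg c) p hpf _ h5
  have h7 : u = -b + c.det * a := by
    have : c.det * a - u - b = 0 := h6
    linear_combination -this
  rw [h7]
  exact Submodule.add_mem_sup (Ideal.neg_mem_iff _ |>.2 hb1)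
    (Ideal.mul_mem_right _ _ (Ideal.subset_span rfl))

lemma ofList_ofFn' {r : ℕ} (g : Fin r → R) :
    Ideal.ofList (List.ofFn g) = Ideal.span (Set.range g) := by
  unfold Ideal.ofList
  congr 1
  ext x
  exact List.mem_ofFn' g x

/-- Wiebe's lemma with `g` a list -/
theorem wiebe_list' (f : Fin lg.length → R) (hc : ∀ i, f i = ∑ j, c i j * lg.get j)
    (hf : LCI.IsKoszulRegularSeq R (List.ofFn f)) (u : R)
    (hu : ∀ j : Fin lg.length, u * lg.get j ∈ Ideal.span (Set.range f)) :
    u ∈ Ideal.span (Set.range f) ⊔ Ideal.span {c.det} := by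
  have hfr : f = fRow lg c := funext hc
  have hlf : lf lg c = List.ofFn f := by rw [lf_eq, hfr]
  have hI : Ideal.ofList (lf lg c) = Ideal.span (Set.range f) := by rw [hlf, ofList_ofFn']
  rw [← hI] at hu ⊢
  refine wiebe_list lg c ?_ u hu
  intro i hi
  rw [hlf]
  exact (Groth.Agent.S15821.isZero_congr (Groth.Agent.S15821.koszul_eq R (List.ofFn f)) i).1
    (hf i hi)

end Main

section Final

/-- **Wiebe's lemma** for a Koszul-regular sequence `f = c g` of length `n`:
`((f) : (g)) ⊆ (f) + (det c)`. -/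
theorem wiebe {n : ℕ} (f g : Fin n → R) (hf : LCI.IsKoszulRegularSeq R (List.ofFn f))
    (c : Matrix (Fin n) (Fin n) R) (hc : ∀ i, f i = ∑ j, c i j * g j) (u : R)
    (hu : ∀ j, u * g j ∈ Ideal.span (Set.range f)) :
    u ∈ Ideal.span (Set.range f) ⊔ Ideal.span {c.det} := by
  have h : (List.ofFn g).length = n := List.length_ofFn
  let e : Fin (List.ofFn g).length ≃ Fin n := finCongr h
  have hget : ∀ j : Fin (List.ofFn g).length, (List.ofFn g).get j = g (e j) := by
    intro j
    simp only [List.get_eq_getElem, List.getElem_ofFn, e]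
    rfl
  have hrange : Set.range (fun i => f (e i)) = Set.range f := by
    ext x
    constructor
    · rintro ⟨i, rfl⟩
      exact ⟨e i, rfl⟩
    · rintro ⟨i, rfl⟩
      exact ⟨e.symm i, by simp⟩
  have hof : List.ofFn (fun i => f (e i)) = List.ofFn f := by
    rw [List.ofFn_congr h]
    rfl
  have key := wiebe_list' (List.ofFn g) (c.submatrix e e) (fun i => f (e i)) ?_ ?_ u ?_
  · rw [hrange, Matrix.det_submatrix_equiv_self] at key
    exact key
  · intro i
    rw [hc (e i)]
    refine (Fintype.sum_equiv e _ _ fun j => ?_).symm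
    rw [Matrix.submatrix_apply, hget]
  · rw [hof]
    exact hf
  · intro j
    rw [hrange, hget]
    exact hu (e j)

end Final

end Groth.Agent.Lib.T3H8.Wiebe
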