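import Mathlib
import Groth.Agent.Lib.T3H8WiebeD
import Groth.Agent.Lib.T2H9RegImmBC
/-
Helper library (helper8): the annihilator of the diagonal ideal of `B ⊗_A B` for
`B = P/(f_1, …, f_n)` flat over `A` with `f` Koszul-regular (S2235).
-/
set_option backward.isDefEq.respectTransparency.types false

set_option autoImplicit false
set_option maxHeartbeats 400000
universe u
open TensorProduct

namespace Groth.Agent.Lib.T3H8.Wiebe

section Ann

variable {Rr Q S : Type*} [CommRing Rr] [CommRing Q] [CommRing S]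

/-- Cramer: `det c • g ∈ (c g)` -/
lemma det_mul_mem {n : ℕ} (ft g : Fin n → Rr) (c : Matrix (Fin n) (Fin n) Rr)
    (hc : ∀ i, ft i = ∑ j, c i j * g j) (j : Fin n) :
    c.det * g j ∈ Ideal.span (Set.range ft) := by
  have h1 : c.mulVec g = ft := by
    funext i
    rw [hc i]
    rfl
  have h2 : c.adjugate.mulVec ft = c.det • g := by
    rw [← h1, Matrix.mulVec_mulVec, Matrix.adjugate_mul, Matrix.smul_mulVec, Matrix.one_mulVec]
  have h3 := congrFun h2 j
  rw [Pi.smul_apply, smul_eq_mul] at h3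
  rw [← h3]
  show ∑ i, c.adjugate j i * ft i ∈ _
  refine Ideal.sum_mem _ fun i _ => ?_
  exact Ideal.mul_mem_left _ _ (Ideal.subset_span ⟨i, rfl⟩)

theorem annihilator_ker_eq (π : Rr →+* Q) (hπ : Function.Surjective π) (μ : Q →+* S) {n : ℕ}
    (ft g : Fin n → Rr) (c : Matrix (Fin n) (Fin n) Rr)
    (hker : RingHom.ker π = Ideal.span (Set.range ft))
    (hg : Ideal.span (Set.range g) = RingHom.ker (μ.comp π))
    (hc : ∀ i, ft i = ∑ j, c i j * g j)
    (hW : ∀ u : Rr, (∀ j, u * g j ∈ Ideal.span (Set.range ft)) →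
      u ∈ Ideal.span (Set.range ft) ⊔ Ideal.span {c.det}) :
    Submodule.annihilator (RingHom.ker μ : Ideal Q) = Ideal.span {π c.det} := by
  apply le_antisymm
  · intro z hz
    rw [Submodule.mem_annihilator] at hz
    obtain ⟨u, rfl⟩ := hπ z
    have hu : ∀ j, u * g j ∈ Ideal.span (Set.range ft) := by
      intro j
      rw [← hker, RingHom.mem_ker, map_mul]
      have hgj : π (g j) ∈ RingHom.ker μ := by
        have : g j ∈ RingHom.ker (μ.comp π) := by
          rw [← hg]
          exact Ideal.subset_span ⟨j, rfl⟩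
        rw [RingHom.mem_ker] at this ⊢
        exact this
      exact hz _ hgj
    have h2 := hW u hu
    rw [Submodule.mem_sup] at h2
    obtain ⟨y, hy, w, hw, rfl⟩ := h2
    rw [← hker, RingHom.mem_ker] at hy
    rw [map_add, hy, zero_add]
    rw [Ideal.mem_span_singleton'] at hw ⊢
    obtain ⟨a, rfl⟩ := hw
    exact ⟨π a, by rw [map_mul]⟩
  · rw [Ideal.span_le, Set.singleton_subset_iff]
    show π c.det ∈ Submodule.annihilator (RingHom.ker μ : Ideal Q)
    rw [Submodule.mem_annihilator]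
    intro x hx
    obtain ⟨y, rfl⟩ := hπ x
    have hy : y ∈ Ideal.span (Set.range g) := by
      rw [hg, RingHom.mem_ker]
      rw [RingHom.mem_ker] at hx
      exact hx
    rw [smul_eq_mul, ← map_mul, ← RingHom.mem_ker, hker]
    clear hx
    induction hy using Submodule.span_induction with
    | mem x hx' =>
      obtain ⟨j, rfl⟩ := hx'
      exact det_mul_mem ft g c hc j
    | zero => simp
    | add x y _ _ hx hy =>
      rw [mul_add]
      exact Ideal.add_mem _ hx hy
    | smul a x _ hx =>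
      rw [smul_eq_mul, mul_left_comm]
      exact Ideal.mul_mem_left _ a hx

end Ann

section S2235

open Groth.Agent.Lib.T2H9.RegImmBC in
theorem main_aux {A P : Type u} [CommRing A] [CommRing P] [Algebra A P]
    {n : ℕ} (f : Fin n → P) (hf : LCI.IsKoszulRegularSeq P (List.ofFn f))
    (I : Ideal P) (hI : I = Ideal.span (Set.range f))
    [Module.Flat A (P ⧸ I)]
    (g : Fin n → P ⊗[A] (P ⧸ I))
    (hgker : Ideal.span (Set.range g) = RingHom.ker (Algebra.TensorProduct.productMap
      (Ideal.Quotient.mkₐ A I) (AlgHom.id A (P ⧸ I))))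
    (c : Matrix (Fin n) (Fin n) (P ⊗[A] (P ⧸ I)))
    (hc : ∀ i, f i ⊗ₜ[A] (1 : P ⧸ I) = ∑ j, c i j * g j) :
    Submodule.annihilator (RingHom.ker
        (Algebra.TensorProduct.lmul' (S := P ⧸ I) A)) =
      Ideal.span {Algebra.TensorProduct.map (Ideal.Quotient.mkₐ A I)
        (AlgHom.id A (P ⧸ I)) (Matrix.det c)} := by
  let φ : P →+* P ⊗[A] (P ⧸ I) := algebraMap P (P ⊗[A] (P ⧸ I))
  have hφ : φ.Flat := RingHom.flat_algebraMap_iff.2 inferInstance
  let ft : Fin n → P ⊗[A] (P ⧸ I) := fun i => f i ⊗ₜ[A] (1 : P ⧸ I)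
  have hφf : ∀ i, φ (f i) = ft i := fun i => by
    show algebraMap P (P ⊗[A] (P ⧸ I)) (f i) = _
    rw [Algebra.TensorProduct.algebraMap_apply]
    rfl
  have hft : LCI.IsKoszulRegularSeq (P ⊗[A] (P ⧸ I)) (List.ofFn ft) := by
    have h := isKoszulRegularSeq_map_of_flat φ hφ (List.ofFn f) hf
    rw [List.map_ofFn] at h
    have : (φ ∘ f) = ft := funext hφf
    rw [this] at h
    exact h
  let π : P ⊗[A] (P ⧸ I) →ₐ[A] (P ⧸ I) ⊗[A] (P ⧸ I) :=
    Algebra.TensorProduct.map (Ideal.Quotient.mkₐ A I) (AlgHom.id A (P ⧸ I))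
  have hπ : Function.Surjective π :=
    Algebra.TensorProduct.map_surjective _ _ (Ideal.Quotient.mkₐ_surjective A I)
      Function.surjective_id
  have hker : RingHom.ker π.toRingHom = Ideal.span (Set.range ft) := by
    have h := Algebra.TensorProduct.rTensor_ker (R := A) (C := P ⧸ I) (Ideal.Quotient.mkₐ A I)
      (Ideal.Quotient.mkₐ_surjective A I)
    have h2 : RingHom.ker (Ideal.Quotient.mkₐ A I) = Ideal.span (Set.range f) := by
      rw [← hI]
      ext x
      rw [RingHom.mem_ker]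
      exact Ideal.Quotient.eq_zero_iff_mem
    rw [h2, Ideal.map_span] at h
    show RingHom.ker π = _
    rw [h]
    congr 1
    ext x
    constructor
    · rintro ⟨y, ⟨i, rfl⟩, rfl⟩
      exact ⟨i, rfl⟩
    · rintro ⟨i, rfl⟩
      exact ⟨f i, ⟨i, rfl⟩, rfl⟩
  have hc' : ∀ i, ft i = ∑ j, c i j * g j := hc
  have hW := fun u hu => wiebe ft g hft c hc' u hu
  have key := annihilator_ker_eq π.toRingHom hπ
    (Algebra.TensorProduct.lmul' (S := P ⧸ I) A).toRingHom ft g c hker ?_ hc' hW
  · exact key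
  · rw [hgker, Algebra.TensorProduct.productMap_eq_comp_map]
    ext x
    rw [RingHom.mem_ker, RingHom.mem_ker]
    rfl

theorem main_S2235 {A P : Type u} [CommRing A] [CommRing P] [Algebra A P]
    {n : ℕ} (f : Fin n → P) (hf : LCI.IsKoszulRegularSeq P (List.ofFn f))
    [Module.Flat A (P ⧸ Ideal.span (Set.range f))]
    (g : Fin n → P ⊗[A] (P ⧸ Ideal.span (Set.range f)))
    (hgker : Ideal.span (Set.range g) = RingHom.ker (Algebra.TensorProduct.productMap
      (Ideal.Quotient.mkₐ A (Ideal.span (Set.range f))) (AlgHom.id A (P ⧸ Ideal.span (Set.range f)))))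
    (c : Matrix (Fin n) (Fin n) (P ⊗[A] (P ⧸ Ideal.span (Set.range f))))
    (hc : ∀ i, f i ⊗ₜ[A] (1 : P ⧸ Ideal.span (Set.range f)) = ∑ j, c i j * g j) :
    Submodule.annihilator (RingHom.ker
        (Algebra.TensorProduct.lmul' (S := P ⧸ Ideal.span (Set.range f)) A)) =
      Ideal.span {Algebra.TensorProduct.map (Ideal.Quotient.mkₐ A (Ideal.span (Set.range f)))
        (AlgHom.id A (P ⧸ Ideal.span (Set.range f))) (Matrix.det c)} :=
  main_aux f hf _ rfl g hgker c hc

end S2235

end Groth.Agent.Lib.T3H8.Wiebe
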