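import Mathlib
import Groth.Prelude
import Groth.Agent.Lib.T2H8TateB
import Groth.Agent.Lib.T3H8WiebeE
import Groth.Agent.Lib.T2H7KRegM
import Groth.Agent.Lib.T2H7SyntE

/-!
# The Noether different of a relative global complete intersection `A[x_1..x_n]/(f_1..f_n)`
-/

universe u

namespace Groth.Agent.Lib.T2H8.Tate

open TensorProduct Disc

/-- generic form: `B = P/(f_1..f_n)` flat over `A`, `f` Koszul-regular, `P` generated by
`x_1..x_n` with partial derivatives `d_k`: the Noether different is generated by `det(d_j f_i)`. -/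
theorem noetherDifferent_generic {A P : Type u} [CommRing A] [CommRing P] [Algebra A P] {n : ℕ}
    (x : Fin n → P) (hx : Algebra.adjoin A (Set.range x) = ⊤)
    (d : Fin n → Derivation A P P) (hd : ∀ k j, d k (x j) = if j = k then 1 else 0)
    (f : Fin n → P) (hf : LCI.IsKoszulRegularSeq P (List.ofFn f))
    [Module.Flat A (P ⧸ Ideal.span (Set.range f))] :
    Disc.noetherDifferent A (P ⧸ Ideal.span (Set.range f)) =
      Ideal.span {Ideal.Quotient.mk (Ideal.span (Set.range f))
        (Matrix.det (Matrix.of fun i j => d j (f i)))} := by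
  obtain ⟨c, hc⟩ := exists_matrix (A := A) x (Ideal.span (Set.range f)) hx f
    (fun i => Ideal.subset_span ⟨i, rfl⟩)
  have hAnn := Groth.Agent.Lib.T3H8.Wiebe.main_S2235 f hf (gg x (Ideal.span (Set.range f)))
    (ker_rho x (Ideal.span (Set.range f)) hx) c hc
  rw [Disc.noetherDifferent, hAnn, Ideal.map_span, Set.image_singleton]
  congr 2
  rw [← rho_det x (Ideal.span (Set.range f)) d hd c hc, rho,
    Algebra.TensorProduct.productMap_eq_comp_map]
  rfl

section Poly

open MvPolynomial

variable {A : Type u} [CommRing A] {n : ℕ} (f : Fin n → MvPolynomial (Fin n) A)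

lemma isRelGCI_of_quasiFinite
    [Algebra.QuasiFinite A (MvPolynomial (Fin n) A ⧸ Ideal.span (Set.range f))] :
    Synt.IsRelGCI A n n f := by
  intro p hnt
  refine ⟨le_rfl, ?_⟩
  rw [Nat.sub_self, Nat.cast_zero]
  haveI := hnt
  haveI : IsArtinianRing (p.asIdeal.Fiber (Synt.RelGCIRing A n n f)) := inferInstance
  have h0 := (isArtinianRing_iff_isNoetherianRing_krullDimLE_zero
    (R := p.asIdeal.Fiber (Synt.RelGCIRing A n n f))).mp inferInstance
  exact ringKrullDimZero_iff_ringKrullDim_eq_zero.mp h0.2

lemma pderiv_X_ite (k j : Fin n) :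
    (pderiv k : Derivation A (MvPolynomial (Fin n) A) (MvPolynomial (Fin n) A)) (X j) =
      if j = k then 1 else 0 := by
  rw [pderiv_X]
  by_cases h : j = k
  · subst h; simp
  · simp [h]

theorem noetherDifferent_of_isRelGCI (h : Synt.IsRelGCI A n n f) :
    Module.Flat A (MvPolynomial (Fin n) A ⧸ Ideal.span (Set.range f)) ∧
      Disc.noetherDifferent A (MvPolynomial (Fin n) A ⧸ Ideal.span (Set.range f)) =
        Ideal.span {Ideal.Quotient.mk (Ideal.span (Set.range f))
          (Matrix.det (Matrix.of fun i j => MvPolynomial.pderiv j (f i)))} := by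
  have hflat : Module.Flat A (MvPolynomial (Fin n) A ⧸ Ideal.span (Set.range f)) :=
    (Groth.Agent.Lib.T2H7.SyntE.isSyntomic_relGCIRing f h).1
  refine ⟨hflat, ?_⟩
  have hK := Groth.Agent.Lib.T2H7.KRegM.isKoszulRegularSeq_of_isRelGCI f h
  exact noetherDifferent_generic (A := A) (X : Fin n → MvPolynomial (Fin n) A)
    MvPolynomial.adjoin_range_X (fun k => pderiv k) pderiv_X_ite f hK

theorem main_S2210
    [Algebra.QuasiFinite A (MvPolynomial (Fin n) A ⧸ Ideal.span (Set.range f))] :
    Module.Flat A (MvPolynomial (Fin n) A ⧸ Ideal.span (Set.range f)) ∧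
      Disc.noetherDifferent A (MvPolynomial (Fin n) A ⧸ Ideal.span (Set.range f)) =
        Ideal.span {Ideal.Quotient.mk (Ideal.span (Set.range f))
          (Matrix.det (Matrix.of fun i j => MvPolynomial.pderiv j (f i)))} :=
  noetherDifferent_of_isRelGCI f (isRelGCI_of_quasiFinite f)

end Poly

end Groth.Agent.Lib.T2H8.Tate
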