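import Mathlib
import Groth.Prelude
import Groth.Agent.Lib.T2H8DiffA
import Groth.Agent.Lib.T2H8TateE
import Groth.Agent.Lib.Helper18Fitt31
import Groth.Agent.Lib.T2H7SyntL

/-!
# Noether different = Kähler different for finite syntomic algebras
-/

universe u

namespace Groth.Agent.Lib.T2H8.Diff

open KaehlerDifferential

section Equiv

variable {A B C : Type u} [CommRing A] [CommRing B] [CommRing C] [Algebra A B] [Algebra A C]

theorem noether_eq_fitt_of_algEquiv (e : B ≃ₐ[A] C) [Algebra.FiniteType A B]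
    (h : Disc.noetherDifferent A C = Fitt.ideal C Ω[C⁄A] 0) :
    Disc.noetherDifferent A B = Fitt.ideal B Ω[B⁄A] 0 := by
  letI : Algebra B C := e.toRingHom.toAlgebra
  haveI : IsScalarTower A B C := IsScalarTower.of_algebraMap_eq (fun a => (e.commutes a).symm)
  have hbij : Function.Bijective (algebraMap B C) := e.bijective
  haveI : IsLocalization (IsUnit.submonoid A) A := IsLocalization.of_le_isUnit le_rfl
  haveI : IsLocalization (Algebra.algebraMapSubmonoid B (IsUnit.submonoid A)) C := by
    apply IsLocalization.of_le_isUnit_of_bijective _ hbij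
    rintro _ ⟨_, ⟨a, ha, rfl⟩, rfl⟩
    have ha' : IsUnit a := ha
    exact (ha'.map (algebraMap A B)).map (algebraMap B C)
  have h1 := noetherDifferent_base (A := A) (B := B) (A' := A) (B' := C) (IsUnit.submonoid A)
  have h2 := fitt_base (A := A) (B := B) (A' := A) (B' := C) (IsUnit.submonoid A)
  rw [h1, h2] at h
  have h3 := congrArg (Ideal.comap (algebraMap B C)) h
  rwa [Ideal.comap_map_of_bijective _ hbij, Ideal.comap_map_of_bijective _ hbij] at h3

end Equiv


section GCI

open MvPolynomial

variable {A : Type u} [CommRing A]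

theorem noether_eq_fitt_relGCI {n : ℕ} (F : Fin n → MvPolynomial (Fin n) A)
    (h : Synt.IsRelGCI A n n F) :
    Disc.noetherDifferent A (Synt.RelGCIRing A n n F) =
      Fitt.ideal (Synt.RelGCIRing A n n F) Ω[Synt.RelGCIRing A n n F⁄A] 0 := by
  rw [(Groth.Agent.Lib.T2H8.Tate.noetherDifferent_of_isRelGCI F h).2,
    Groth.Agent.Helper18Fitt.main_S8931]

theorem nontrivial_fiber_of_prime {C : Type u} [CommRing C] [Algebra A C] (P : Ideal C)
    [P.IsPrime] : Nontrivial ((P.comap (algebraMap A C)).Fiber C) := by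
  let p : PrimeSpectrum A := ⟨P.comap (algebraMap A C), inferInstance⟩
  let N : (PrimeSpectrum.comap (algebraMap A C)) ⁻¹' {p} := ⟨⟨P, inferInstance⟩, rfl⟩
  let Q := PrimeSpectrum.preimageEquivFiber A C p N
  by_contra hns
  rw [not_nontrivial_iff_subsingleton] at hns
  exact Q.2.ne_top ((Ideal.eq_top_iff_one _).mpr (Subsingleton.elim (0 : p.asIdeal.Fiber C) 1 ▸
    Q.asIdeal.zero_mem))

theorem eq_of_isRelGCI_of_quasiFinite {n c : ℕ} (F : Fin c → MvPolynomial (Fin n) A)
    (h : Synt.IsRelGCI A n c F) [Nontrivial (Synt.RelGCIRing A n c F)]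
    [Algebra.QuasiFinite A (Synt.RelGCIRing A n c F)] : c = n := by
  obtain ⟨P, hP⟩ := Ideal.exists_maximal (Synt.RelGCIRing A n c F)
  haveI := hP.isPrime
  let p : PrimeSpectrum A := ⟨P.comap (algebraMap A (Synt.RelGCIRing A n c F)), inferInstance⟩
  have hnt : Nontrivial (p.asIdeal.Fiber (Synt.RelGCIRing A n c F)) :=
    nontrivial_fiber_of_prime P
  obtain ⟨hcn, hdim⟩ := h p hnt
  haveI : IsArtinianRing (p.asIdeal.Fiber (Synt.RelGCIRing A n c F)) := inferInstance
  have h0 := (isArtinianRing_iff_isNoetherianRing_krullDimLE_zero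
    (R := p.asIdeal.Fiber (Synt.RelGCIRing A n c F))).mp inferInstance
  have h1 : ringKrullDim (p.asIdeal.Fiber (Synt.RelGCIRing A n c F)) = 0 :=
    ringKrullDimZero_iff_ringKrullDim_eq_zero.mp h0.2
  rw [h1] at hdim
  have h2 : n - c = 0 := by exact_mod_cast hdim.symm
  omega

end GCI

section Main

variable {A B : Type u} [CommRing A] [CommRing B] [Algebra A B]

/-- Noether different = Kähler different for a quasi-finite syntomic algebra. -/
theorem noether_eq_fitt_of_isSyntomic [Algebra.QuasiFinite A B] (h : Synt.IsSyntomic A B) :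
    Disc.noetherDifferent A B = Fitt.ideal B Ω[B⁄A] 0 := by
  haveI : Algebra.FinitePresentation A B := h.2.1
  haveI : Algebra.FiniteType A B := inferInstance
  apply ideal_eq_of_away
  intro q hq
  obtain ⟨g, hg, n, c, F, hcn, hrel, ⟨e⟩⟩ :=
    Groth.Agent.Lib.T2H7.SyntL.exists_relGCI_away_of_isSyntomic B h q
  refine ⟨g, hg, ?_⟩
  rw [← noetherDifferent_away (A := A) (B := B) (Bg := Localization.Away g) g,
    ← fitt_away (A := A) (B := B) (Bg := Localization.Away g) g]
  haveI : Nontrivial (Localization.Away g) := by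
    rw [← not_subsingleton_iff_nontrivial,
      IsLocalization.subsingleton_iff (M := Submonoid.powers g)]
    rintro ⟨m, hm⟩
    have hm' : g ^ m = 0 := hm
    exact hg (hq.mem_of_pow_mem m (hm' ▸ q.zero_mem))
  haveI : Nontrivial (Synt.RelGCIRing A n c F) := e.symm.toEquiv.nontrivial
  haveI : Algebra.QuasiFinite A (Synt.RelGCIRing A n c F) :=
    Algebra.QuasiFinite.of_surjective_algHom e.toAlgHom e.surjective
  obtain rfl : c = n := eq_of_isRelGCI_of_quasiFinite F hrel
  exact noether_eq_fitt_of_algEquiv e (noether_eq_fitt_relGCI F hrel)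

end Main

end Groth.Agent.Lib.T2H8.Diff
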