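import Mathlib
import Groth.Prelude
import Groth.Agent.Lib.T2H8DiffB
import Groth.Agent.Lib.T2H4GorOmega4
import Groth.Agent.Lib.T2H8QFLocG
import Groth.Agent.S2221

/-!
# The different of a finite free syntomic algebra is the Kähler different
-/

universe u

namespace Groth.Agent.Lib.T2H8.Diff

open KaehlerDifferential

variable (A B : Type u) [CommRing A] [CommRing B] [Algebra A B]

theorem invertible_omega_of_isSyntomic [IsNoetherianRing A] [Module.Finite A B] [Module.Free A B]
    (h : Synt.IsSyntomic A B) : Module.Invertible B (Disc.Omega A B) :=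
  Groth.Agent.Lib.T2H4.GorOmega.invertible_of_gorenstein_fibers (fun p hp =>
    Groth.Agent.Lib.T2H8.QFLoc.gorRing_of_isLCIOver p.ResidueField (p.Fiber B)
      (h.2.2 ⟨p, hp⟩))

theorem main_S8957 [IsNoetherianRing A] [Module.Finite A B] [Module.Free A B]
    (h : Synt.IsSyntomic A B) :
    Disc.differentSet A B = (Fitt.ideal B (KaehlerDifferential A B) 0 : Set B) := by
  haveI := invertible_omega_of_isSyntomic A B h
  rw [Groth.Agent.S2221.result, noether_eq_fitt_of_isSyntomic h]

end Groth.Agent.Lib.T2H8.Diff
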