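import Mathlib
import Groth.Prelude.Def_Found
import Groth.Agent.S9408
import Groth.Agent.Lib.Helper5DirLimReg

/-!
# Filtered colimits of smooth algebras with Noetherian fibres are regular (helper8, S9308)

* `IsColim G f Λ φ`: abstract description of `Λ` as a filtered colimit of `R`-algebras `G i`
  (jointly surjective, kernels eventually vanish).
* `IsColim.flat`: colimit of flat algebras is flat.
* `IsColim.isRegularRing`: a Noetherian colimit of regular rings is regular (via helper5).
* `IsColim.tensor`: base change of an abstract colimit is an abstract colimit.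
* `isColim_directLimit`, `ofAlg`: `DirectLimit G f` is an abstract colimit.
* `main`: S9308.
-/

set_option autoImplicit false
universe u
open TensorProduct

namespace Groth.Agent.Lib.T2H8.DirLimSm

/-- Abstract description of a filtered colimit of `R`-algebras. -/
structure IsColim {R : Type u} [CommRing R] {ι : Type u} [Preorder ι] (G : ι → Type u)
    [∀ i, CommRing (G i)] [∀ i, Algebra R (G i)] (f : ∀ i j, i ≤ j → G i →ₐ[R] G j)
    (Λ : Type u) [CommRing Λ] [Algebra R Λ] (φ : ∀ i, G i →ₐ[R] Λ) : Prop where
  map_self : ∀ i x, f i i le_rfl x = x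
  map_map : ∀ i j k (hij : i ≤ j) (hjk : j ≤ k) x, f j k hjk (f i j hij x) = f i k (hij.trans hjk) x
  comp : ∀ i j h x, φ j (f i j h x) = φ i x
  surj : ∀ x : Λ, ∃ i y, φ i y = x
  inj : ∀ i y, φ i y = 0 → ∃ j, ∃ h : i ≤ j, f i j h y = 0

namespace IsColim

variable {R : Type u} [CommRing R] {ι : Type u} [Preorder ι] [IsDirectedOrder ι] [Nonempty ι]
  {G : ι → Type u} [∀ i, CommRing (G i)] [∀ i, Algebra R (G i)]
  {f : ∀ i j, i ≤ j → G i →ₐ[R] G j} {Λ : Type u} [CommRing Λ] [Algebra R Λ]
  {φ : ∀ i, G i →ₐ[R] Λ}

theorem exists_of_ge (h : IsColim G f Λ φ) (x : Λ) (i : ι) :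
    ∃ j, ∃ _ : i ≤ j, ∃ y, φ j y = x := by
  obtain ⟨i', y, rfl⟩ := h.surj x
  obtain ⟨j, hij, hi'j⟩ := directed_of (· ≤ ·) i i'
  exact ⟨j, hij, f i' j hi'j y, h.comp _ _ _ _⟩

theorem exists_of_fin (h : IsColim G f Λ φ) {l : ℕ} (x : Fin l → Λ) (i : ι) :
    ∃ j, ∃ _ : i ≤ j, ∃ y : Fin l → G j, ∀ k, φ j (y k) = x k := by
  choose i' hi' y hy using fun k => h.exists_of_ge (x k) i
  obtain ⟨M, hM⟩ := Finite.exists_le i'
  obtain ⟨j, hij, hMj⟩ := directed_of (· ≤ ·) i M
  refine ⟨j, hij, fun k => f (i' k) j ((hM k).trans hMj) (y k), fun k => ?_⟩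
  rw [h.comp, hy]

theorem exists_map_eq (h : IsColim G f Λ φ) {i : ι} {a b : G i} (hab : φ i a = φ i b) :
    ∃ j, ∃ hij : i ≤ j, f i j hij a = f i j hij b := by
  have : φ i (a - b) = 0 := by rw [map_sub, hab, sub_self]
  obtain ⟨j, hij, hj⟩ := h.inj _ _ this
  exact ⟨j, hij, by rwa [map_sub, sub_eq_zero] at hj⟩

theorem flat (h : IsColim G f Λ φ) (hflat : ∀ i, Module.Flat R (G i)) : Module.Flat R Λ := by
  rw [Module.Flat.iff_forall_isTrivialRelation]
  intro l r x hrx
  obtain ⟨j, -, x', hx'⟩ := h.exists_of_fin x (Classical.arbitrary ι)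
  have h0 : φ j (∑ k, r k • x' k) = φ j 0 := by
    rw [map_sum, map_zero, ← hrx]
    refine Finset.sum_congr rfl (fun k _ => ?_)
    rw [map_smul, hx']
  obtain ⟨j', hjj', hj'⟩ := h.exists_map_eq h0
  rw [map_zero, map_sum] at hj'
  have h1 : ∑ k, r k • f j j' hjj' (x' k) = 0 := by
    rw [← hj']
    refine Finset.sum_congr rfl (fun k _ => ?_)
    rw [map_smul]
  obtain ⟨m, a, y, hy1, hy2⟩ := Module.Flat.iff_forall_isTrivialRelation.mp (hflat j') h1
  refine ⟨m, a, fun t => φ j' (y t), ?_, hy2⟩
  intro k
  have hy1k : f j j' hjj' (x' k) = ∑ t, a k t • y t := hy1 k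
  rw [← hx' k, ← h.comp j j' hjj', hy1k, map_sum]
  refine Finset.sum_congr rfl (fun t _ => ?_)
  rw [map_smul]


/-- A Noetherian abstract filtered colimit of regular rings is regular. -/
theorem isRegularRing (h : IsColim G f Λ φ) [IsNoetherianRing Λ] (hreg : ∀ i, IsRegularRing (G i)) :
    IsRegularRing Λ := by
  classical
  let g : ∀ i j, i ≤ j → G i →+* G j := fun i j hij => (f i j hij).toRingHom
  haveI : DirectedSystem G fun i j hij => g i j hij :=
    ⟨fun i x => h.map_self i x, fun k j i hij hjk x => h.map_map i j k hij hjk x⟩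
  let L : Ring.DirectLimit G (fun i j hij => g i j hij) →+* Λ :=
    Ring.DirectLimit.lift G (fun i j hij => g i j hij) Λ (fun i => (φ i).toRingHom)
      (fun i j hij x => h.comp i j hij x)
  have hL : Function.Bijective L := by
    constructor
    · rw [injective_iff_map_eq_zero]
      intro x hx
      obtain ⟨i, y, rfl⟩ := Ring.DirectLimit.exists_of x
      have hy : φ i y = 0 := by
        have := Ring.DirectLimit.lift_of (f := fun i j hij => g i j hij) Λ
          (fun i => (φ i).toRingHom) (fun i j hij x => h.comp i j hij x) i y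
        rw [← hx]
        exact this.symm
      obtain ⟨j, hij, hj⟩ := h.inj i y hy
      rw [← Ring.DirectLimit.of_f (f := fun i j hij => g i j hij) hij y]
      show Ring.DirectLimit.of G _ j (f i j hij y) = 0
      rw [hj, map_zero]
    · intro x
      obtain ⟨i, y, rfl⟩ := h.surj x
      exact ⟨Ring.DirectLimit.of G _ i y, Ring.DirectLimit.lift_of Λ _ _ i y⟩
  let e : Ring.DirectLimit G (fun i j hij => g i j hij) ≃+* Λ := RingEquiv.ofBijective L hL
  haveI : IsNoetherianRing (Ring.DirectLimit G (fun i j hij => g i j hij)) :=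
    isNoetherianRing_of_ringEquiv Λ e.symm
  haveI := Groth.Agent.Lib.Helper5.DirLimReg.isRegularRing_directLimit G g hreg
  exact IsRegularRing.of_ringEquiv e


theorem map_eq_lTensor {K A B : Type u} [CommRing K] [Algebra R K] [CommRing A] [Algebra R A]
    [CommRing B] [Algebra R B] (g : A →ₐ[R] B) (z : K ⊗[R] A) :
    Algebra.TensorProduct.map (AlgHom.id K K) g z = LinearMap.lTensor K g.toLinearMap z := by
  induction z using TensorProduct.induction_on with
  | zero => simp
  | tmul a y => simp
  | add x y hx hy => rw [map_add, map_add, hx, hy]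

theorem tensor (h : IsColim G f Λ φ) (K : Type u) [CommRing K] [Algebra R K] :
    IsColim (R := K) (fun i => K ⊗[R] G i)
      (fun i j hij => Algebra.TensorProduct.map (AlgHom.id K K) (f i j hij))
      (K ⊗[R] Λ) (fun i => Algebra.TensorProduct.map (AlgHom.id K K) (φ i)) := by
  classical
  have hcomp : ∀ i j hij (x : K ⊗[R] G i),
      Algebra.TensorProduct.map (AlgHom.id K K) (φ j)
        (Algebra.TensorProduct.map (AlgHom.id K K) (f i j hij) x) =
      Algebra.TensorProduct.map (AlgHom.id K K) (φ i) x := by
    intro i j hij x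
    induction x using TensorProduct.induction_on with
    | zero => simp
    | tmul a y => simp [h.comp]
    | add x y hx hy => simp only [map_add, hx, hy]
  refine ⟨?_, ?_, hcomp, ?_, ?_⟩
  · intro i x
    induction x using TensorProduct.induction_on with
    | zero => simp
    | tmul a y => simp [h.map_self]
    | add x y hx hy => simp only [map_add, hx, hy]
  · intro i j k hij hjk x
    induction x using TensorProduct.induction_on with
    | zero => simp
    | tmul a y => simp [h.map_map]
    | add x y hx hy => simp only [map_add, hx, hy]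
  · intro x
    induction x using TensorProduct.induction_on with
    | zero => exact ⟨Classical.arbitrary ι, 0, map_zero _⟩
    | tmul a y =>
      obtain ⟨i, y', rfl⟩ := h.surj y
      exact ⟨i, a ⊗ₜ y', by simp⟩
    | add x y hx hy =>
      obtain ⟨i, x', rfl⟩ := hx
      obtain ⟨j, y', rfl⟩ := hy
      obtain ⟨k, hik, hjk⟩ := directed_of (· ≤ ·) i j
      refine ⟨k, Algebra.TensorProduct.map (AlgHom.id K K) (f i k hik) x' +
        Algebra.TensorProduct.map (AlgHom.id K K) (f j k hjk) y', ?_⟩
      rw [map_add, hcomp, hcomp]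
  · let f' : ∀ i j, i ≤ j → G i →ₗ[R] G j := fun i j hij => (f i j hij).toLinearMap
    haveI : DirectedSystem G fun i j hij => f' i j hij :=
      ⟨fun i x => h.map_self i x, fun k j i hij hjk x => h.map_map i j k hij hjk x⟩
    let L : Module.DirectLimit G f' →ₗ[R] Λ :=
      Module.DirectLimit.lift R ι G f' (fun i => (φ i).toLinearMap)
        (fun i j hij x => h.comp i j hij x)
    have hL : Function.Bijective L := by
      constructor
      · rw [injective_iff_map_eq_zero]
        intro x hx
        obtain ⟨i, y, rfl⟩ := Module.DirectLimit.exists_of x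
        have hy : φ i y = 0 := by
          rw [← hx]
          exact (Module.DirectLimit.lift_of (f := f') (fun i => (φ i).toLinearMap)
            (fun i j hij x => h.comp i j hij x) y).symm
        obtain ⟨j, hij, hj⟩ := h.inj i y hy
        rw [← Module.DirectLimit.of_f (f := f') (hij := hij)]
        show Module.DirectLimit.of R ι G f' j (f i j hij y) = 0
        rw [hj, map_zero]
      · intro x
        obtain ⟨i, y, rfl⟩ := h.surj x
        exact ⟨Module.DirectLimit.of R ι G f' i y, Module.DirectLimit.lift_of _ _ y⟩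
    let e : Module.DirectLimit G f' ≃ₗ[R] Λ := LinearEquiv.ofBijective L hL
    let E : K ⊗[R] Λ ≃ₗ[R] Module.DirectLimit (fun i => K ⊗[R] G i)
        (fun i j hij => LinearMap.lTensor K (f' i j hij)) :=
      (TensorProduct.congr (LinearEquiv.refl R K) e.symm) ≪≫ₗ TensorProduct.directLimitRight f' K
    have hE : ∀ i (z : K ⊗[R] G i),
        E (Algebra.TensorProduct.map (AlgHom.id K K) (φ i) z) =
          Module.DirectLimit.of R ι (fun i => K ⊗[R] G i)
            (fun i j hij => LinearMap.lTensor K (f' i j hij)) i z := by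
      intro i z
      induction z using TensorProduct.induction_on with
      | zero => simp
      | tmul a y =>
        have h1 : e.symm (φ i y) = Module.DirectLimit.of R ι G f' i y := by
          rw [LinearEquiv.symm_apply_eq]
          exact (Module.DirectLimit.lift_of (f := f') (fun i => (φ i).toLinearMap)
            (fun i j hij x => h.comp i j hij x) y).symm
        show (TensorProduct.directLimitRight f' K)
          ((TensorProduct.congr (LinearEquiv.refl R K) e.symm)
            (Algebra.TensorProduct.map (AlgHom.id K K) (φ i) (a ⊗ₜ y))) = _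
        rw [Algebra.TensorProduct.map_tmul, TensorProduct.congr_tmul, h1]
        simp
      | add x y hx hy => simp only [map_add, hx, hy]
    intro i z hz
    have h2 := hE i z
    rw [hz, map_zero] at h2
    obtain ⟨j, hij, hj⟩ := Module.DirectLimit.of.zero_exact h2.symm
    refine ⟨j, hij, ?_⟩
    rw [map_eq_lTensor]
    exact hj

end IsColim


section Main

variable (R : Type u) [CommRing R] {ι : Type u} [Preorder ι] [IsDirectedOrder ι] [Nonempty ι]
  (G : ι → Type u) [∀ i, CommRing (G i)] [∀ i, Algebra R (G i)]
  (f : ∀ i j : ι, i ≤ j → (G i →ₐ[R] G j)) [DirectedSystem G (fun i j h => f i j h)]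

/-- The canonical algebra map from a stage to the direct limit. -/
def ofAlg (i : ι) : G i →ₐ[R] DirectLimit G f where
  toFun x := ⟦⟨i, x⟩⟧
  map_one' := (DirectLimit.one_def i).symm
  map_mul' _ _ := (DirectLimit.mul_def ..).symm
  map_zero' := (DirectLimit.zero_def i).symm
  map_add' _ _ := (DirectLimit.add_def ..).symm
  commutes' r := (DirectLimit.algebraMap_def i r).symm

theorem isColim_directLimit : IsColim G f (DirectLimit G f) (ofAlg R G f) := by
  refine ⟨fun i x => DirectedSystem.map_self' (f := f) x,
    fun i j k hij hjk x => DirectedSystem.map_map' (f := f) hij hjk x, ?_, ?_, ?_⟩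
  · intro i j hij x
    exact (DirectLimit.eq_of_le (f := f) ⟨i, x⟩ j hij).symm
  · intro x
    induction x using DirectLimit.induction with | _ i x
    exact ⟨i, x, rfl⟩
  · intro i y hy
    exact (DirectLimit.exists_eq_zero (f := f) ⟨i, y⟩).mp hy


theorem isNoetherianRing_tensor_of_finite (k k' S : Type u) [Field k] [Field k'] [Algebra k k']
    [Module.Finite k k'] [CommRing S] [Algebra k S] [IsNoetherianRing S] :
    IsNoetherianRing (k' ⊗[k] S) := by
  haveI : Module.Finite S (S ⊗[k] k') := inferInstance
  haveI : IsNoetherianRing (S ⊗[k] k') :=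
    Algebra.FiniteType.isNoetherianRing S (S ⊗[k] k')
  exact isNoetherianRing_of_ringEquiv _ (Algebra.TensorProduct.comm k S k').toRingEquiv

theorem main (hs : ∀ i, Algebra.Smooth R (G i))
    (hN : ∀ (p : Ideal R) [p.IsPrime], IsNoetherianRing (p.Fiber (DirectLimit G f))) :
    CAlg.IsRegularHom R (DirectLimit G f) := by
  have hc := isColim_directLimit R G f
  refine ⟨hc.flat (fun i => inferInstance), fun p hp => ⟨hN p, fun k' _ _ hfin => ?_⟩⟩
  have h1 := hc.tensor p.ResidueField
  have h2 := h1.tensor k'
  haveI := hN p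
  haveI : IsNoetherianRing (k' ⊗[p.ResidueField] (p.ResidueField ⊗[R] DirectLimit G f)) :=
    isNoetherianRing_tensor_of_finite p.ResidueField k' _
  refine h2.isRegularRing (fun i => ?_)
  haveI : Algebra.Smooth p.ResidueField (p.ResidueField ⊗[R] G i) := inferInstance
  haveI : Algebra.Smooth k' (k' ⊗[p.ResidueField] (p.ResidueField ⊗[R] G i)) := inferInstance
  exact Groth.Agent.S9408.isRegularRing_of_smooth k' _

end Main

end Groth.Agent.Lib.T2H8.DirLimSm
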