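import Mathlib

/-!
# Coproducts in `AddCommGrpCat` are direct sums; a recognition criterion for direct sums
-/

set_option autoImplicit false
universe u
open CategoryTheory CategoryTheory.Limits

namespace Groth.Agent.Lib.T2H8.DirectSumIso

open scoped DirectSum

section Cofan

variable {ι : Type u} (G : ι → AddCommGrpCat.{u + 1})

open Classical in
/-- the direct sum as a cofan -/
noncomputable def dsCofan : Cofan G :=
  Cofan.mk (AddCommGrpCat.of (⨁ i, G i)) fun i =>
    AddCommGrpCat.ofHom (DirectSum.of (fun i => G i) i)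

open Classical in
/-- the direct sum is a coproduct -/
noncomputable def dsCofanIsColimit : IsColimit (dsCofan G) :=
  mkCofanColimit _ (fun s => AddCommGrpCat.ofHom (DirectSum.toAddMonoid fun i => (s.inj i).hom))
    (fun s i => by
      ext x
      change DirectSum.toAddMonoid (fun i => (s.inj i).hom) (DirectSum.of (fun i => G i) i x) = _
      rw [DirectSum.toAddMonoid_of])
    (fun s m hm => by
      ext : 1
      refine DirectSum.addHom_ext (fun i x => ?_)
      change m.hom (DirectSum.of (fun i => G i) i x) =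
        DirectSum.toAddMonoid (fun i => (s.inj i).hom) (DirectSum.of (fun i => G i) i x)
      rw [DirectSum.toAddMonoid_of]
      exact ConcreteCategory.congr_hom (hm i) x)

/-- the coproduct is the direct sum -/
noncomputable def coprodIso : ∐ G ≅ AddCommGrpCat.of (⨁ i, G i) :=
  (colimit.isColimit _).coconePointUniqueUpToIso (dsCofanIsColimit G)

end Cofan

section Recognise

variable {ι : Type u} {A : Type (u + 1)} [AddCommGroup A] (G : ι → Type (u + 1))
  [∀ i, AddCommGroup (G i)]

open Classical in
/-- a group with a jointly injective family of maps to the `G i`, each element having finite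
support, and containing all "singles", is the direct sum -/
theorem nonempty_addEquiv (Φ : ∀ i, A →+ G i)
    (hinj : ∀ a, (∀ i, Φ i a = 0) → a = 0)
    (hfin : ∀ a, {i | Φ i a ≠ 0}.Finite)
    (hsingle : ∀ i (τ : G i), ∃ a, Φ i a = τ ∧ ∀ j, j ≠ i → Φ j a = 0) :
    Nonempty (A ≃+ ⨁ i, G i) := by
  let Ψ₀ : A → ⨁ i, G i := fun a => DFinsupp.mk (hfin a).toFinset (fun i => Φ i.1 a)
  have hΨ₀ : ∀ a i, Ψ₀ a i = Φ i a := by
    intro a i
    change (DFinsupp.mk (hfin a).toFinset (fun i => Φ i.1 a)) i = _
    rw [DFinsupp.mk_apply]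
    split_ifs with h
    · rfl
    · rw [Set.Finite.mem_toFinset] at h
      simp only [Set.mem_setOf_eq, ne_eq, not_not] at h
      exact h.symm
  let Ψ : A →+ ⨁ i, G i := AddMonoidHom.mk' Ψ₀ (by
    intro a b
    apply DFinsupp.ext
    intro i
    rw [hΨ₀, DirectSum.add_apply, hΨ₀, hΨ₀, map_add])
  have hΨ : ∀ a i, Ψ a i = Φ i a := hΨ₀
  refine ⟨AddEquiv.ofBijective Ψ ⟨?_, ?_⟩⟩
  · rw [injective_iff_map_eq_zero]
    intro a ha
    apply hinj
    intro i
    rw [← hΨ, ha]
    rfl
  · intro x
    induction x using DirectSum.induction_on with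
    | zero => exact ⟨0, map_zero _⟩
    | of i τ =>
      obtain ⟨a, ha1, ha2⟩ := hsingle i τ
      refine ⟨a, ?_⟩
      apply DFinsupp.ext
      intro j
      rw [hΨ]
      by_cases hji : j = i
      · subst hji
        rw [ha1, DirectSum.of_eq_same]
      · rw [ha2 j hji, DirectSum.of_eq_of_ne _ _ _ hji]
    | add x y hx hy =>
      obtain ⟨a, rfl⟩ := hx
      obtain ⟨b, rfl⟩ := hy
      exact ⟨a + b, map_add _ _ _⟩

end Recognise

end Groth.Agent.Lib.T2H8.DirectSumIso
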