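import Mathlib
import Groth.Prelude.Def_W4c1extbt610Disp
import Groth.Agent.Lib.Helper22Disp

/-!
# Division by Verschiebung on `I_R • M` for a finite projective `W(R)`-module `M`
-/

set_option autoImplicit false
set_option linter.unusedSectionVars false
open scoped BigOperators

noncomputable section

namespace Groth.Agent.Lib.T2H8.DispDivV

open W4c1extbt610 WittVector Groth.Agent.Lib.Helper22

variable {p : ℕ} [Fact p.Prime] {R : Type*} [CommRing R]

/-- `V⁻¹` on the ideal `I_R` -/
def vI (a : IV p R) : WittVector p R := Classical.choose ((mem_IV_iff' a.1).1 a.2)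

lemma vI_spec (a : IV p R) : verschiebung (vI a) = a.1 :=
  (Classical.choose_spec ((mem_IV_iff' a.1).1 a.2)).symm

lemma vI_eq (a : IV p R) (b : WittVector p R) (h : a.1 = verschiebung b) : vI a = b :=
  verschiebung_injective p R ((vI_spec a).trans h)

lemma vI_add (a a' : IV p R) : vI (a + a') = vI a + vI a' := by
  apply vI_eq
  rw [map_add, vI_spec, vI_spec]
  rfl

lemma vI_smul (w : WittVector p R) (a : IV p R) : vI (w • a) = frobenius w * vI a := by
  apply vI_eq
  rw [mul_comm, verschiebung_mul_frobenius, vI_spec, mul_comm]
  rfl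

lemma vI_verschiebung_mul (b c : WittVector p R) (h : verschiebung b * c ∈ IV p R) :
    vI ⟨verschiebung b * c, h⟩ = b * frobenius c := by
  apply vI_eq
  rw [verschiebung_mul_frobenius]

variable {M N : Type*} [AddCommGroup M] [Module (WittVector p R) M] [AddCommGroup N]
  [Module (WittVector p R) N]

lemma coord_mem_IV {n : ℕ} (g : M →ₗ[WittVector p R] (Fin n → WittVector p R)) (z : M)
    (hz : z ∈ IV p R • (⊤ : Submodule (WittVector p R) M)) (j : Fin n) : g z j ∈ IV p R := by
  refine Submodule.smul_induction_on hz ?_ ?_
  · intro a ha y _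
    rw [map_smul]
    exact Ideal.mul_mem_right _ _ ha
  · intro x y hx hy
    rw [map_add]
    exact Ideal.add_mem _ hx hy

variable [Module.Finite (WittVector p R) M] [Module.Projective (WittVector p R) M]

/-- a semilinear map on a finite projective module can be divided by `V` on `I_R • M` -/
theorem exists_div (Ψ : M →ₛₗ[(frobenius : WittVector p R →+* WittVector p R)] N) :
    ∃ G : (IV p R • (⊤ : Submodule (WittVector p R) M) : Submodule (WittVector p R) M)
        →ₛₗ[(frobenius : WittVector p R →+* WittVector p R)] N,
      ∀ (b : WittVector p R) (y : M)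
        (h : verschiebung b • y ∈ IV p R • (⊤ : Submodule (WittVector p R) M)),
        G ⟨verschiebung b • y, h⟩ = b • Ψ y := by
  classical
  obtain ⟨n, f, g, -, -, hfg⟩ := Module.Finite.exists_comp_eq_id_of_projective (WittVector p R) M
  let c : Fin n → (IV p R • (⊤ : Submodule (WittVector p R) M) : Submodule (WittVector p R) M)
      → IV p R := fun j z => ⟨g z.1 j, coord_mem_IV g z.1 z.2 j⟩
  have c_add : ∀ j z z', c j (z + z') = c j z + c j z' := by
    intro j z z'
    apply Subtype.ext
    change g (z.1 + z'.1) j = g z.1 j + g z'.1 j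
    rw [map_add]
    rfl
  have c_smul : ∀ j (w : WittVector p R) z, c j (w • z) = w • c j z := by
    intro j w z
    apply Subtype.ext
    change g (w • z.1) j = w • g z.1 j
    rw [map_smul]
    rfl
  let G : (IV p R • (⊤ : Submodule (WittVector p R) M) : Submodule (WittVector p R) M)
      →ₛₗ[(frobenius : WittVector p R →+* WittVector p R)] N :=
    { toFun := fun z => ∑ j, vI (c j z) • Ψ (f (fun i => if j = i then 1 else 0))
      map_add' := by
        intro z z'
        rw [← Finset.sum_add_distrib]
        refine Finset.sum_congr rfl (fun j _ => ?_)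
        rw [c_add, vI_add, add_smul]
      map_smul' := by
        intro w z
        rw [Finset.smul_sum]
        refine Finset.sum_congr rfl (fun j _ => ?_)
        rw [c_smul, vI_smul, mul_smul] }
  refine ⟨G, ?_⟩
  intro b y h
  change ∑ j, vI (c j ⟨verschiebung b • y, h⟩) • Ψ (f (fun i => if j = i then 1 else 0)) = b • Ψ y
  have e1 : ∀ j, vI (c j ⟨verschiebung b • y, h⟩) = b * frobenius (g y j) := by
    intro j
    apply vI_eq
    change g (verschiebung b • y) j = _
    rw [map_smul, verschiebung_mul_frobenius]
    rfl
  have e2 : y = ∑ j, g y j • f (fun i => if j = i then 1 else 0) := by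
    have h1 : f (g y) = y := by
      have := congrArg (fun φ => φ y) hfg
      simpa using this
    rw [← LinearMap.pi_apply_eq_sum_univ f (g y), h1]
  conv_rhs => rw [e2, map_sum, Finset.smul_sum]
  refine Finset.sum_congr rfl (fun j _ => ?_)
  rw [e1, map_smulₛₗ, mul_smul]

end Groth.Agent.Lib.T2H8.DispDivV
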