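import Mathlib

/-!
# Exterior powers of a free module `P = L ⊕ A t`: the decomposition
# `⋀^r P = ⋀^r L ⊕ (⋀^(r-1) L ∧ t)` in terms of the standard basis, and the span of the wedges of
# elements of `L + I t`
-/

set_option autoImplicit false
set_option linter.unusedSectionVars false

noncomputable section

namespace Groth.Agent.Lib.T2H8.ExtPowDecomp

open Module Set Set.powersetCard exteriorPower

variable {A : Type*} [CommRing A] {P : Type*} [AddCommGroup P] [Module A P]
variable {J : Type*} [LinearOrder J] [Fintype J] (b : Basis J A P) (τ : J) (r : ℕ)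

/-- the `r`-subsets containing `τ` -/
def S1 : Set (powersetCard J r) := {s | τ ∈ s}

/-- span of the basis wedges not involving `b τ` -/
def Lp : Submodule A (⋀[A]^r P) := Submodule.span A (b.exteriorPower r '' (S1 τ r)ᶜ)

/-- span of the basis wedges involving `b τ` -/
def Tp : Submodule A (⋀[A]^r P) := Submodule.span A (b.exteriorPower r '' (S1 τ r))

lemma isCompl_Lp_Tp : IsCompl (Lp b τ r) (Tp b τ r) := by
  constructor
  · exact (b.exteriorPower r).linearIndependent.disjoint_span_image disjoint_compl_left
  · rw [codisjoint_iff, Lp, Tp, ← Submodule.span_union, ← Set.image_union, Set.compl_union_self,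
      Set.image_univ, Basis.span_eq]

/-- a basis of `Tp` -/
def TpBasis : Basis (S1 τ r) A (Tp b τ r) := by
  have hli : LinearIndependent A (fun s : S1 τ r => b.exteriorPower r s) :=
    (b.exteriorPower r).linearIndependent.comp _ Subtype.val_injective
  have h : Tp b τ r = Submodule.span A (Set.range fun s : S1 τ r => b.exteriorPower r s) := by
    rw [Tp, Set.image_eq_range]
  exact h ▸ Basis.span hli

lemma free_Tp : Module.Free A (Tp b τ r) := Module.Free.of_basis (TpBasis b τ r)

lemma natCard_S1 (hr : 1 ≤ r) : Nat.card (S1 τ r) = (Fintype.card J - 1).choose (r - 1) := by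
  classical
  have e : S1 τ r ≃ {x : Finset J //
      x ∈ ((Finset.univ : Finset J).powersetCard r).filter (({τ} : Finset J) ⊆ ·)} :=
    { toFun := fun s => ⟨s.1.1, by
        rw [Finset.mem_filter, Finset.mem_powersetCard]
        exact ⟨⟨Finset.subset_univ _, s.1.2⟩, Finset.singleton_subset_iff.2 s.2⟩⟩
      invFun := fun x => ⟨⟨x.1, by
        have := x.2
        rw [Finset.mem_filter, Finset.mem_powersetCard] at this
        exact this.1.2⟩, by
        have := x.2
        rw [Finset.mem_filter] at this
        exact Finset.singleton_subset_iff.1 this.2⟩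
      left_inv := fun s => rfl
      right_inv := fun x => rfl }
  rw [Nat.card_congr e, Nat.card_eq_fintype_card, Fintype.card_coe,
    Finset.card_filter_powersetCard_subset _ _ _ (Finset.subset_univ _)
      (by rw [Finset.card_singleton]; exact hr),
    Finset.card_singleton, Finset.card_univ]

lemma finrank_Tp [Nontrivial A] (hr : 1 ≤ r) :
    Module.finrank A (Tp b τ r) = (Fintype.card J - 1).choose (r - 1) := by
  rw [Module.finrank_eq_nat_card_basis (TpBasis b τ r), natCard_S1 τ r hr]

section MI

variable (I : Ideal A)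

/-- elements whose coordinates at the subsets containing `τ` lie in `I` -/
def MI : Submodule A (⋀[A]^r P) where
  carrier := {x | ∀ s : powersetCard J r, τ ∈ s → (b.exteriorPower r).repr x s ∈ I}
  zero_mem' := by
    intro s _
    rw [map_zero, Finsupp.zero_apply]
    exact I.zero_mem
  add_mem' := by
    intro x y hx hy s hs
    rw [map_add, Finsupp.add_apply]
    exact I.add_mem (hx s hs) (hy s hs)
  smul_mem' := by
    intro c x hx s hs
    rw [map_smul, Finsupp.smul_apply]
    exact I.mul_mem_left _ (hx s hs)

lemma mem_MI (x : ⋀[A]^r P) :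
    x ∈ MI b τ r I ↔ ∀ s : powersetCard J r, τ ∈ s → (b.exteriorPower r).repr x s ∈ I := Iff.rfl

lemma Lp_sup_eq_MI : Lp b τ r ⊔ I • Tp b τ r = MI b τ r I := by
  classical
  apply le_antisymm
  · refine sup_le ?_ ?_
    · rw [Lp, Submodule.span_le]
      rintro _ ⟨s₀, hs₀, rfl⟩ s hs
      rw [Basis.repr_self, Finsupp.single_apply, if_neg]
      · exact I.zero_mem
      · rintro rfl
        exact hs₀ hs
    · rw [Submodule.smul_le]
      intro a ha x _ s _
      rw [map_smul, Finsupp.smul_apply]
      exact I.mul_mem_right _ ha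
  · intro x hx
    rw [← (b.exteriorPower r).sum_repr x]
    refine Submodule.sum_mem _ (fun s _ => ?_)
    by_cases hs : τ ∈ s
    · refine Submodule.mem_sup_right ?_
      exact Submodule.smul_mem_smul (hx s hs) (Submodule.subset_span ⟨s, hs, rfl⟩)
    · refine Submodule.mem_sup_left ?_
      exact Submodule.smul_mem _ _ (Submodule.subset_span ⟨s, hs, rfl⟩)

end MI

section Wedge

variable (I : Ideal A) (L T : Submodule A P)

lemma coord_mem (hcL : ∀ y ∈ L, b.coord τ y = 0) (y : P) (hy : y ∈ L ⊔ I • T) :
    b.coord τ y ∈ I := by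
  obtain ⟨l, hl, z, hz, rfl⟩ := Submodule.mem_sup.1 hy
  rw [map_add, hcL l hl, zero_add]
  have h := Submodule.mem_map_of_mem (f := b.coord τ) hz
  rw [Submodule.map_smul''] at h
  have h2 : I • Submodule.map (b.coord τ) T ≤ I • (⊤ : Submodule A A) :=
    Submodule.smul_mono le_rfl le_top
  have h3 := h2 h
  rwa [smul_eq_mul, Ideal.mul_top] at h3

lemma det_mem_of_column {n : ℕ} (M : Matrix (Fin n) (Fin n) A) (j₀ : Fin n)
    (h : ∀ i, M i j₀ ∈ I) : M.det ∈ I := by
  rw [← Ideal.Quotient.eq_zero_iff_mem, RingHom.map_det]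
  apply Matrix.det_eq_zero_of_column_eq_zero j₀
  intro i
  rw [RingHom.mapMatrix_apply, Matrix.map_apply, Ideal.Quotient.eq_zero_iff_mem]
  exact h i

theorem span_wedge_eq (hbL : ∀ j, j ≠ τ → b j ∈ L) (hbT : b τ ∈ T)
    (hcL : ∀ y ∈ L, b.coord τ y = 0) (𝔮 : Submodule A P) (h𝔮 : 𝔮 = L ⊔ I • T) :
    Submodule.span A (Set.range fun q : Fin r → 𝔮 => ιMulti A r (fun i => (q i : P))) =
      Lp b τ r ⊔ I • Tp b τ r := by
  classical
  subst h𝔮
  apply le_antisymm
  · rw [Lp_sup_eq_MI, Submodule.span_le]
    rintro _ ⟨q, rfl⟩ s hs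
    rw [basis_repr_apply, ιMultiDual_apply_ιMulti]
    obtain ⟨j₀, hj₀⟩ := (mem_range_ofFinEmbEquiv_symm_iff_mem s τ).2 hs
    apply det_mem_of_column I _ j₀
    intro i
    rw [Matrix.of_apply, hj₀]
    exact coord_mem b τ I L T hcL _ (q i).2
  · refine sup_le ?_ ?_
    · rw [Lp, Submodule.span_le]
      rintro _ ⟨s, hs, rfl⟩
      rw [basis_apply]
      refine Submodule.subset_span ⟨fun i => ⟨b (ofFinEmbEquiv.symm s i), ?_⟩, rfl⟩
      refine Submodule.mem_sup_left (hbL _ ?_)
      rintro h
      apply hs
      change τ ∈ s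
      rw [← mem_range_ofFinEmbEquiv_symm_iff_mem]
      exact ⟨i, h⟩
    · rw [Submodule.smul_le]
      intro a ha x hx
      -- reduce to generators of `Tp`
      have key : Tp b τ r ≤ Submodule.comap (LinearMap.lsmul A (⋀[A]^r P) a)
          (Submodule.span A (Set.range fun q : Fin r → ↥(L ⊔ I • T) =>
            ιMulti A r (fun i => (q i : P)))) := by
        rw [Tp, Submodule.span_le]
        rintro _ ⟨s, hs, rfl⟩
        change a • (b.exteriorPower r) s ∈ Submodule.span A (Set.range fun q : Fin r → ↥(L ⊔ I • T) =>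
            ιMulti A r (fun i => (q i : P)))
        obtain ⟨j₀, hj₀⟩ := (mem_range_ofFinEmbEquiv_symm_iff_mem s τ).2 hs
        rw [basis_apply, ιMulti_family]
        have hupd : a • ιMulti A r (b ∘ (ofFinEmbEquiv.symm s)) =
            ιMulti A r (Function.update (b ∘ (ofFinEmbEquiv.symm s)) j₀
              (a • (b ∘ (ofFinEmbEquiv.symm s)) j₀)) := by
          rw [AlternatingMap.map_update_smul, Function.update_eq_self]
        rw [hupd]
        refine Submodule.subset_span ⟨fun i => ⟨Function.update (b ∘ (ofFinEmbEquiv.symm s)) j₀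
              (a • (b ∘ (ofFinEmbEquiv.symm s)) j₀) i, ?_⟩, rfl⟩
        by_cases hi : i = j₀
        · subst hi
          rw [Function.update_self, Function.comp_apply, hj₀]
          exact Submodule.mem_sup_right (Submodule.smul_mem_smul ha hbT)
        · rw [Function.update_of_ne hi, Function.comp_apply]
          refine Submodule.mem_sup_left (hbL _ ?_)
          intro h
          apply hi
          exact (ofFinEmbEquiv.symm s).injective (h.trans hj₀.symm)
      exact key hx

end Wedge

end Groth.Agent.Lib.T2H8.ExtPowDecomp
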