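import Mathlib
import Groth.Prelude.Def_W4c1extbt610Disp
import Groth.Agent.Lib.T2H8ExtPowDecomp

/-!
# The normal decomposition of the exterior power of a 3n-display with tangent module of rank one
-/

set_option autoImplicit false
set_option linter.unusedSectionVars false
universe u v

noncomputable section

namespace Groth.Agent.Lib.T2H8.DispExtPow

open Module Groth.Agent.Lib.T2H8.ExtPowDecomp

section Basis

variable {A : Type*} [CommRing A] {P : Type*} [AddCommGroup P] [Module A P]
  (L T : Submodule A P) (hLT : IsCompl L T) {m : ℕ} (bL : Basis (Fin m) A L) (bT : Basis (Fin 1) A T)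

/-- the basis `l_1, …, l_m, t` of `P = L ⊕ T` -/
def bP : Basis (Fin (m + 1)) A P :=
  ((bL.prod bT).map (Submodule.prodEquivOfIsCompl L T hLT)).reindex finSumFinEquiv

lemma bP_castSucc (i : Fin m) : bP L T hLT bL bT (Fin.castSucc i) = (bL i : P) := by
  rw [bP, Basis.reindex_apply, Basis.map_apply, Submodule.coe_prodEquivOfIsCompl']
  have : (finSumFinEquiv (m := m) (n := 1)).symm (Fin.castSucc i) = Sum.inl i :=
    finSumFinEquiv_symm_apply_castAdd i
  rw [this, Basis.prod_apply_inl_fst, Basis.prod_apply_inl_snd]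
  simp

lemma bP_last : bP L T hLT bL bT (Fin.last m) = (bT 0 : P) := by
  rw [bP, Basis.reindex_apply, Basis.map_apply, Submodule.coe_prodEquivOfIsCompl']
  have : (finSumFinEquiv (m := m) (n := 1)).symm (Fin.last m) = Sum.inr 0 :=
    finSumFinEquiv_symm_last
  rw [this, Basis.prod_apply_inr_fst, Basis.prod_apply_inr_snd]
  simp

lemma bP_mem_L (j : Fin (m + 1)) (hj : j ≠ Fin.last m) : bP L T hLT bL bT j ∈ L := by
  obtain ⟨i, rfl⟩ := Fin.exists_castSucc_eq.2 hj
  rw [bP_castSucc]
  exact (bL i).2

lemma bP_last_mem_T : bP L T hLT bL bT (Fin.last m) ∈ T := by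
  rw [bP_last]
  exact (bT 0).2

lemma coord_last_eq_zero (y : P) (hy : y ∈ L) :
    (bP L T hLT bL bT).coord (Fin.last m) y = 0 := by
  have hy' : y = ∑ i, bL.repr ⟨y, hy⟩ i • (bL i : P) := by
    have := congrArg (Subtype.val) (bL.sum_repr ⟨y, hy⟩)
    rw [Submodule.coe_sum] at this
    simpa using this.symm
  rw [hy', map_sum]
  refine Finset.sum_eq_zero (fun i _ => ?_)
  rw [map_smul, ← bP_castSucc L T hLT bL bT i, Basis.coord_apply, Basis.repr_self,
    Finsupp.single_apply, if_neg (Fin.castSucc_lt_last i).ne, smul_zero]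

end Basis

section Main

variable (p : ℕ) [Fact p.Prime] (R : Type u) [CommRing R] [Nontrivial R]
    (P : Type v) [AddCommGroup P] [Module (WittVector p R) P] (D : W4c1extbt610.Display3n p R P)

theorem exists_normal_extPow (m : ℕ)
    (L T : Submodule (WittVector p R) P) (hLT : IsCompl L T) (hQ : D.Q = L ⊔ W4c1extbt610.IV p R • T)
    (hL : Module.Free (WittVector p R) L) (hLr : Module.finrank (WittVector p R) L = m)
    (hT : Nonempty (T ≃ₗ[WittVector p R] WittVector p R))
    (r : ℕ) (hr : 1 ≤ r) (E : W4c1extbt610.Display3n p R (⋀[WittVector p R]^r P))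
    (hE : W4c1extbt610.IsExtPow D r E) :
    ∃ L' T' : Submodule (WittVector p R) (⋀[WittVector p R]^r P), IsCompl L' T' ∧
      E.Q = L' ⊔ W4c1extbt610.IV p R • T' ∧ Module.Free (WittVector p R) T' ∧
      Module.finrank (WittVector p R) T' = m.choose (r - 1) := by
  haveI := D.finite
  haveI : Module.Finite (WittVector p R) L :=
    Module.Finite.of_surjective (Submodule.linearProjOfIsCompl L T hLT)
      (Submodule.linearProjOfIsCompl_surjective hLT)
  let bL : Basis (Fin m) (WittVector p R) L := Module.finBasisOfFinrankEq _ _ hLr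
  obtain ⟨e⟩ := hT
  let bT : Basis (Fin 1) (WittVector p R) T := (Basis.singleton (Fin 1) (WittVector p R)).map e.symm
  let b := bP L T hLT bL bT
  refine ⟨Lp b (Fin.last m) r, Tp b (Fin.last m) r, isCompl_Lp_Tp b _ r, ?_, free_Tp b _ r, ?_⟩
  · rw [hE.1]
    exact span_wedge_eq b (Fin.last m) r (W4c1extbt610.IV p R) L T (bP_mem_L L T hLT bL bT)
      (bP_last_mem_T L T hLT bL bT) (coord_last_eq_zero L T hLT bL bT) D.Q hQ
  · rw [finrank_Tp b _ r hr, Fintype.card_fin, Nat.add_sub_cancel]

end Main

end Groth.Agent.Lib.T2H8.DispExtPow
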