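import Mathlib

/-!
# Exterior powers: expansion along a fixed vector, semilinear functoriality, projectivity
-/

set_option autoImplicit false
set_option linter.unusedSectionVars false
open scoped BigOperators

namespace Groth.Agent.Lib.T2H8.ExtPowSemilin

section Expansion

variable {R : Type*} [CommRing R] {M N : Type*} [AddCommGroup M] [Module R M]
  [AddCommGroup N] [Module R N] {ι : Type*} [DecidableEq ι] [Fintype ι]

lemma map_add_smul_aux (φ : M [⋀^ι]→ₗ[R] N) (c : ι → R) (v : M) (A : Finset ι) :
    ∀ u : ι → M, φ (fun i => u i + (if i ∈ A then c i • v else 0))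
      = φ u + ∑ i ∈ A, c i • φ (Function.update u i v) := by
  induction A using Finset.induction_on with
  | empty =>
    intro u
    simp
  | insert j A hj ih =>
    intro u
    have e1 : (fun i => u i + (if i ∈ insert j A then c i • v else 0))
        = Function.update (fun i => u i + (if i ∈ A then c i • v else 0)) j (u j + c j • v) := by
      funext i
      by_cases hij : i = j
      · subst hij
        simp
      · simp [Function.update_of_ne hij, Finset.mem_insert, hij]
    have e2 : Function.update (fun i => u i + (if i ∈ A then c i • v else 0)) j (u j)
        = (fun i => u i + (if i ∈ A then c i • v else 0)) := by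
      funext i
      by_cases hij : i = j
      · subst hij
        simp [hj]
      · simp [Function.update_of_ne hij]
    have e3 : Function.update (fun i => u i + (if i ∈ A then c i • v else 0)) j v
        = (fun i => Function.update u j v i + (if i ∈ A then c i • v else 0)) := by
      funext i
      by_cases hij : i = j
      · subst hij
        simp [hj]
      · simp [Function.update_of_ne hij]
    rw [e1, AlternatingMap.map_update_add, AlternatingMap.map_update_smul, e2, e3, ih u,
      ih (Function.update u j v), Finset.sum_insert hj]
    have e4 : ∑ i ∈ A, c i • φ (Function.update (Function.update u j v) i v) = 0 := by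
      apply Finset.sum_eq_zero
      intro i hi
      have hij : i ≠ j := fun h => hj (h ▸ hi)
      rw [φ.map_eq_zero_of_eq _ (i := i) (j := j) _ hij, smul_zero]
      simp [Function.update_of_ne hij.symm]
    rw [e4, add_zero]
    abel

/-- expansion of an alternating map along perturbations by multiples of one fixed vector -/
theorem map_add_smul (φ : M [⋀^ι]→ₗ[R] N) (u : ι → M) (c : ι → R) (v : M) :
    φ (fun i => u i + c i • v) = φ u + ∑ i, c i • φ (Function.update u i v) := by
  have := map_add_smul_aux φ c v Finset.univ u
  simpa using this

end Expansion

section Semilin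

variable {R : Type*} [CommRing R] (σ : R →+* R) {M N : Type*} [AddCommGroup M] [Module R M]
  [AddCommGroup N] [Module R N] (n : ℕ)

/-- `N` with scalars restricted along `σ` -/
def Tw (_σ : R →+* R) (N : Type*) : Type _ := N

instance : AddCommGroup (Tw σ N) := inferInstanceAs (AddCommGroup N)

instance : Module R (Tw σ N) := Module.compHom N σ

/-- the alternating map underlying the semilinear exterior power -/
def mapSemilinAlt (Φ : M →ₛₗ[σ] N) : M [⋀^Fin n]→ₗ[R] Tw σ (⋀[R]^n N) where
  toFun x := (exteriorPower.ιMulti R n (fun i => Φ (x i)) : ⋀[R]^n N)
  map_update_add' := by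
    intro _ x i a b
    have e : ∀ y, (fun j => Φ (Function.update x i y j))
        = Function.update (fun j => Φ (x j)) i (Φ y) := by
      intro y
      funext j
      by_cases hj : j = i
      · subst hj
        simp
      · simp [Function.update_of_ne hj]
    rw [e, e, e, map_add]
    exact (exteriorPower.ιMulti R n).map_update_add _ i _ _
  map_update_smul' := by
    intro _ x i c a
    have e : ∀ y, (fun j => Φ (Function.update x i y j))
        = Function.update (fun j => Φ (x j)) i (Φ y) := by
      intro y
      funext j
      by_cases hj : j = i
      · subst hj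
        simp
      · simp [Function.update_of_ne hj]
    rw [e, e, map_smulₛₗ]
    exact (exteriorPower.ιMulti R n).map_update_smul _ i _ _
  map_eq_zero_of_eq' := by
    intro x i j hx hij
    exact (exteriorPower.ιMulti R n).map_eq_zero_of_eq _ (by rw [hx]) hij

/-- the semilinear map `⋀ⁿ Φ` -/
noncomputable def mapSemilin (Φ : M →ₛₗ[σ] N) : ⋀[R]^n M →ₛₗ[σ] ⋀[R]^n N where
  toFun := exteriorPower.alternatingMapLinearEquiv (mapSemilinAlt σ n Φ)
  map_add' := map_add _
  map_smul' c x := (exteriorPower.alternatingMapLinearEquiv (mapSemilinAlt σ n Φ)).map_smul c x

@[simp]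
lemma mapSemilin_ιMulti (Φ : M →ₛₗ[σ] N) (x : Fin n → M) :
    mapSemilin σ n Φ (exteriorPower.ιMulti R n x) = exteriorPower.ιMulti R n (fun i => Φ (x i)) :=
  exteriorPower.alternatingMapLinearEquiv_apply_ιMulti (mapSemilinAlt σ n Φ) x

end Semilin

section Proj

variable {R : Type*} [CommRing R] {M : Type*} [AddCommGroup M] [Module R M] (n : ℕ)

instance projective_exteriorPower [Module.Projective R M] : Module.Projective R (⋀[R]^n M) := by
  obtain ⟨s, hs⟩ := (Module.projective_def' (R := R) (P := M)).1 inferInstance
  refine Module.Projective.of_split (exteriorPower.map n s)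
    (exteriorPower.map n (Finsupp.linearCombination R id)) ?_
  rw [← exteriorPower.map_comp, hs, exteriorPower.map_id]

end Proj

end Groth.Agent.Lib.T2H8.ExtPowSemilin
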