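import Mathlib
import Groth.Prelude.Def_W4c1extbt610Disp
import Groth.Agent.Lib.Helper22Disp
import Groth.Agent.Lib.T2H8ExtPowSemilin
import Groth.Agent.Lib.T2H8DispDivV

/-!
# Existence and uniqueness of the exterior power of a 3n-display with tangent module of rank one
-/

set_option autoImplicit false
set_option linter.unusedSectionVars false
universe u v
open scoped BigOperators

noncomputable section

namespace Groth.Agent.Lib.T2H8.DispExtPowExist

open W4c1extbt610 WittVector Groth.Agent.Lib.Helper22 Groth.Agent.Lib.T2H8.ExtPowSemilin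
  Groth.Agent.Lib.T2H8.DispDivV

variable {p : ℕ} [Fact p.Prime] {R : Type u} [CommRing R] {P : Type v} [AddCommGroup P]
  [Module (WittVector p R) P]
  (D : Display3n p R P) (L T : Submodule (WittVector p R) P) (hLT : IsCompl L T)
  (hQ : D.Q = L ⊔ IV p R • T) (e : T ≃ₗ[WittVector p R] WittVector p R)

/-- projection to `L` as an endomorphism of `P` -/
def pL : P →ₗ[WittVector p R] P := L.projection T hLT

/-- the `T`-coordinate -/
def τ : P →ₗ[WittVector p R] WittVector p R :=
  e.toLinearMap ∘ₗ T.projectionOnto L hLT.symm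

/-- the generator of `T` -/
def tt : P := (e.symm 1 : T)

lemma tt_mem : tt T e ∈ T := (e.symm 1).2

lemma pL_mem (x : P) : pL L T hLT x ∈ L := Submodule.projection_apply_mem hLT x

lemma pL_of_mem {l : P} (hl : l ∈ L) : pL L T hLT l = l := by
  change ((L.projectionOnto T hLT l : L) : P) = l
  rw [Submodule.projectionOnto_apply_of_mem_left hLT hl]

lemma pL_of_mem_T {x : P} (hx : x ∈ T) : pL L T hLT x = 0 := by
  change ((L.projectionOnto T hLT x : L) : P) = 0
  rw [(Submodule.projectionOnto_apply_eq_zero_iff hLT).2 hx]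
  rfl

lemma pL_tt : pL L T hLT (tt T e) = 0 := pL_of_mem_T L T hLT (tt_mem T e)

lemma pL_pL (x : P) : pL L T hLT (pL L T hLT x) = pL L T hLT x :=
  pL_of_mem L T hLT (pL_mem L T hLT x)

lemma τ_of_mem {l : P} (hl : l ∈ L) : τ L T hLT e l = 0 := by
  change e (T.projectionOnto L hLT.symm l) = 0
  rw [(Submodule.projectionOnto_apply_eq_zero_iff hLT.symm).2 hl, map_zero]

lemma τ_tt : τ L T hLT e (tt T e) = 1 := by
  change e (T.projectionOnto L hLT.symm (tt T e)) = 1
  rw [tt, Submodule.projectionOnto_apply_left hLT.symm (e.symm 1), LinearEquiv.apply_symm_apply]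

lemma τ_smul_tt (x : P) :
    τ L T hLT e x • tt T e = T.projection L hLT.symm x := by
  have h : e.symm (τ L T hLT e x) = T.projectionOnto L hLT.symm x :=
    e.symm_apply_apply _
  change _ = ((T.projectionOnto L hLT.symm x : T) : P)
  rw [← h, tt, ← Submodule.coe_smul, ← map_smul, smul_eq_mul, mul_one]

lemma decomp (x : P) : x = pL L T hLT x + τ L T hLT e x • tt T e := by
  rw [τ_smul_tt]
  exact (Submodule.projection_add_projection_eq_self hLT x).symm

include hQ in
lemma L_le_Q : L ≤ D.Q := hQ ▸ le_sup_left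

include hQ in
lemma smul_tt_mem_Q {a : WittVector p R} (ha : a ∈ IV p R) : a • tt T e ∈ D.Q := by
  rw [hQ]
  exact Submodule.mem_sup_right (Submodule.smul_mem_smul ha (tt_mem T e))

include hQ in
lemma τ_mem_IV {q : P} (hq : q ∈ D.Q) : τ L T hLT e q ∈ IV p R := by
  rw [hQ] at hq
  obtain ⟨l, hl, z, hz, rfl⟩ := Submodule.mem_sup.1 hq
  rw [map_add, τ_of_mem L T hLT e hl, zero_add]
  refine Submodule.smul_induction_on hz ?_ ?_
  · intro a ha y _
    rw [map_smul]
    exact Ideal.mul_mem_right _ _ ha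
  · intro x y hx hy
    rw [map_add]
    exact Ideal.add_mem _ hx hy

/-- the `L`-projection, as a map into `Q` -/
def pLQ : P →ₗ[WittVector p R] D.Q :=
  LinearMap.codRestrict D.Q (pL L T hLT) (fun x => L_le_Q D L T hQ (pL_mem L T hLT x))

/-- the Frobenius-linear map `Φ = V⁻¹ ∘ pr_L + F ∘ pr_T` -/
def Φ : P →ₛₗ[(frobenius : WittVector p R →+* WittVector p R)] P :=
  D.Vinv.comp (pLQ D L T hLT hQ) + D.F.comp (T.projection L hLT.symm)

lemma Φ_apply (x : P) : Φ D L T hLT hQ x
    = D.Vinv ⟨pL L T hLT x, L_le_Q D L T hQ (pL_mem L T hLT x)⟩ + D.F (T.projection L hLT.symm x) :=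
  rfl

lemma proj_T_of_mem_L {l : P} (hl : l ∈ L) : T.projection L hLT.symm l = 0 := by
  change ((T.projectionOnto L hLT.symm l : T) : P) = 0
  rw [(Submodule.projectionOnto_apply_eq_zero_iff hLT.symm).2 hl]
  rfl

lemma Φ_of_mem_L {l : P} (hl : l ∈ L) :
    Φ D L T hLT hQ l = D.Vinv ⟨l, L_le_Q D L T hQ hl⟩ := by
  rw [Φ_apply, proj_T_of_mem_L L T hLT hl, map_zero, add_zero]
  congr 1
  exact Subtype.ext (pL_of_mem L T hLT hl)

lemma Φ_tt : Φ D L T hLT hQ (tt T e) = D.F (tt T e) := by
  rw [Φ_apply]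
  have h1 : (⟨pL L T hLT (tt T e), L_le_Q D L T hQ (pL_mem L T hLT (tt T e))⟩ : D.Q) = 0 :=
    Subtype.ext (pL_tt L T hLT e)
  have h2 : T.projection L hLT.symm (tt T e) = tt T e := by
    change ((T.projectionOnto L hLT.symm (tt T e) : T) : P) = tt T e
    rw [Submodule.projectionOnto_apply_of_mem_left hLT.symm (tt_mem T e)]
  rw [h1, map_zero, zero_add, h2]

/-- `V⁻¹` in terms of `Φ` and the division by `V` -/
lemma Vinv_eq (q : D.Q) : D.Vinv q = Φ D L T hLT hQ (pL L T hLT q)
    + vI ⟨τ L T hLT e q, τ_mem_IV D L T hLT hQ e q.2⟩ • Φ D L T hLT hQ (tt T e) := by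
  set a : IV p R := ⟨τ L T hLT e q, τ_mem_IV D L T hLT hQ e q.2⟩ with ha
  have hmem : verschiebung (vI a) • tt T e ∈ D.Q :=
    smul_tt_mem_Q D L T hQ e (verschiebung_mem_IV p R _)
  have hq : q = ⟨pL L T hLT q, L_le_Q D L T hQ (pL_mem L T hLT q)⟩
      + ⟨verschiebung (vI a) • tt T e, hmem⟩ := by
    apply Subtype.ext
    change (q : P) = pL L T hLT q + verschiebung (vI a) • tt T e
    rw [vI_spec]
    exact decomp L T hLT e q
  conv_lhs => rw [hq]
  rw [map_add, Φ_of_mem_L D L T hLT hQ (pL_mem L T hLT q), Φ_tt]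
  congr 1
  exact D.Vinv_verschiebung_smul (vI a) (tt T e)

section Ext

variable (r : ℕ)

/-- the idempotent `⋀^r pr_L` -/
def eL : (⋀[WittVector p R]^r P) →ₗ[WittVector p R] (⋀[WittVector p R]^r P) :=
  exteriorPower.map r (pL L T hLT)

lemma eL_ιMulti (x : Fin r → P) : eL L T hLT r (exteriorPower.ιMulti (WittVector p R) r x)
    = exteriorPower.ιMulti (WittVector p R) r (fun i => pL L T hLT (x i)) :=
  exteriorPower.map_apply_ιMulti _ _

lemma eL_eL (z : ⋀[WittVector p R]^r P) : eL L T hLT r (eL L T hLT r z) = eL L T hLT r z := by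
  have h : (pL L T hLT) ∘ₗ (pL L T hLT) = pL L T hLT := LinearMap.ext (pL_pL L T hLT)
  have := exteriorPower.map_comp (n := r) (pL L T hLT) (pL L T hLT)
  rw [h] at this
  exact (congrArg (fun φ => φ z) this).symm

/-- the wedge of the `L`-parts with `t` in the `i`-th slot -/
def wt (x : Fin r → P) (i : Fin r) : ⋀[WittVector p R]^r P :=
  exteriorPower.ιMulti (WittVector p R) r (Function.update (fun j => pL L T hLT (x j)) i (tt T e))

lemma eL_wt (x : Fin r → P) (i : Fin r) : eL L T hLT r (wt L T hLT e r x i) = 0 := by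
  rw [wt, eL_ιMulti]
  apply (exteriorPower.ιMulti (WittVector p R) r).map_coord_zero i
  rw [Function.update_self, pL_tt]

/-- expansion of a wedge along `P = L ⊕ W t` -/
lemma ιMulti_eq (x : Fin r → P) : exteriorPower.ιMulti (WittVector p R) r x
    = exteriorPower.ιMulti (WittVector p R) r (fun i => pL L T hLT (x i))
      + ∑ i, τ L T hLT e (x i) • wt L T hLT e r x i := by
  have h : x = fun i => pL L T hLT (x i) + τ L T hLT e (x i) • tt T e :=
    funext (fun i => decomp L T hLT e (x i))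
  conv_lhs => rw [h]
  exact map_add_smul _ _ _ _

lemma sub_eL_ιMulti (x : Fin r → P) :
    exteriorPower.ιMulti (WittVector p R) r x
      - eL L T hLT r (exteriorPower.ιMulti (WittVector p R) r x)
      = ∑ i, τ L T hLT e (x i) • wt L T hLT e r x i := by
  rw [eL_ιMulti]
  conv_lhs => rw [ιMulti_eq L T hLT e r x]
  abel

/-- the distinguished submodule of the exterior power -/
def Q' : Submodule (WittVector p R) (⋀[WittVector p R]^r P) :=
  Submodule.span (WittVector p R)
    (Set.range fun q : Fin r → D.Q => exteriorPower.ιMulti (WittVector p R) r (fun i => (q i : P)))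

lemma ιMulti_mem_Q' (q : Fin r → D.Q) :
    exteriorPower.ιMulti (WittVector p R) r (fun i => (q i : P)) ∈ Q' D r :=
  Submodule.subset_span ⟨q, rfl⟩

lemma ιMulti_mem_Q'_of (x : Fin r → P) (hx : ∀ i, x i ∈ D.Q) :
    exteriorPower.ιMulti (WittVector p R) r x ∈ Q' D r :=
  ιMulti_mem_Q' D r (fun i => ⟨x i, hx i⟩)

/-- the complementary idempotent -/
def cL : (⋀[WittVector p R]^r P) →ₗ[WittVector p R] (⋀[WittVector p R]^r P) :=
  LinearMap.id - eL L T hLT r

lemma cL_apply (z : ⋀[WittVector p R]^r P) : cL L T hLT r z = z - eL L T hLT r z := rfl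

include hQ e in
lemma sub_eL_mem {z : ⋀[WittVector p R]^r P} (hz : z ∈ Q' D r) :
    cL L T hLT r z
      ∈ IV p R • (⊤ : Submodule (WittVector p R) (⋀[WittVector p R]^r P)) := by
  have hle : Q' D r ≤ Submodule.comap (cL L T hLT r)
      (IV p R • (⊤ : Submodule (WittVector p R) (⋀[WittVector p R]^r P))) := by
    apply Submodule.span_le.2
    rintro _ ⟨q, rfl⟩
    change cL L T hLT r (exteriorPower.ιMulti (WittVector p R) r (fun i => (q i : P)))
      ∈ IV p R • (⊤ : Submodule (WittVector p R) (⋀[WittVector p R]^r P))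
    rw [cL_apply, sub_eL_ιMulti L T hLT e r]
    refine Submodule.sum_mem _ (fun i _ => ?_)
    exact Submodule.smul_mem_smul (τ_mem_IV D L T hLT hQ e (q i).2) Submodule.mem_top
  exact hle hz

/-- `⋀^r Φ` -/
def Ψ : (⋀[WittVector p R]^r P) →ₛₗ[(frobenius : WittVector p R →+* WittVector p R)]
    (⋀[WittVector p R]^r P) :=
  mapSemilin (frobenius : WittVector p R →+* WittVector p R) r (Φ D L T hLT hQ)

lemma Ψ_ιMulti (x : Fin r → P) : Ψ D L T hLT hQ r (exteriorPower.ιMulti (WittVector p R) r x)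
    = exteriorPower.ιMulti (WittVector p R) r (fun i => Φ D L T hLT hQ (x i)) :=
  mapSemilin_ιMulti _ _ _ _

lemma Ψ_wt (x : Fin r → P) (i : Fin r) : Ψ D L T hLT hQ r (wt L T hLT e r x i)
    = exteriorPower.ιMulti (WittVector p R) r
        (Function.update (fun j => Φ D L T hLT hQ (pL L T hLT (x j))) i
          (Φ D L T hLT hQ (tt T e))) := by
  rw [wt, Ψ_ιMulti]
  congr 1
  funext j
  by_cases hj : j = i
  · subst hj
    simp
  · simp [Function.update_of_ne hj]

end Ext

end Groth.Agent.Lib.T2H8.DispExtPowExist
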