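import Mathlib
import Groth.Agent.Lib.T2H8DispExtPowExistA

/-!
# Existence and uniqueness of the exterior power of a 3n-display, part B
-/

set_option autoImplicit false
set_option linter.unusedSectionVars false
universe u v
open scoped BigOperators

noncomputable section

namespace Groth.Agent.Lib.T2H8.DispExtPowExist

open W4c1extbt610 WittVector Groth.Agent.Lib.Helper22 Groth.Agent.Lib.T2H8.ExtPowSemilin
  Groth.Agent.Lib.T2H8.DispDivV

variable {p : ℕ} [Fact p.Prime] {R : Type u} [CommRing R] {P : Type v} [AddCommGroup P]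
  [Module (WittVector p R) P]
  (D : Display3n p R P) (L T : Submodule (WittVector p R) P) (hLT : IsCompl L T)
  (hQ : D.Q = L ⊔ IV p R • T) (e : T ≃ₗ[WittVector p R] WittVector p R) (r : ℕ)

section Mem

include hQ in
lemma ιMulti_pL_mem (y : Fin r → P) :
    exteriorPower.ιMulti (WittVector p R) r (fun i => pL L T hLT (y i)) ∈ Q' D r :=
  ιMulti_mem_Q'_of D r _ (fun i => L_le_Q D L T hQ (pL_mem L T hLT (y i)))

include hQ in
lemma smul_wt_mem (y : Fin r → P) (i : Fin r) {c : WittVector p R} (hc : c ∈ IV p R) :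
    c • wt L T hLT e r y i ∈ Q' D r := by
  rw [wt, ← (exteriorPower.ιMulti (WittVector p R) r).map_update_smul]
  apply ιMulti_mem_Q'_of
  intro j
  by_cases hj : j = i
  · subst hj
    rw [Function.update_self]
    exact smul_tt_mem_Q D L T hQ e hc
  · rw [Function.update_of_ne hj]
    exact L_le_Q D L T hQ (pL_mem L T hLT (y j))

include hQ e hLT in
lemma IV_smul_le' :
    IV p R • (⊤ : Submodule (WittVector p R) (⋀[WittVector p R]^r P)) ≤ Q' D r := by
  rw [Submodule.smul_le]
  intro a ha x hx0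
  clear hx0
  have hx : x ∈ Submodule.span (WittVector p R)
      (Set.range (exteriorPower.ιMulti (WittVector p R) r (M := P))) := by
    rw [exteriorPower.ιMulti_span]
    exact Submodule.mem_top
  induction hx using Submodule.span_induction with
  | mem x hx =>
    obtain ⟨y, rfl⟩ := hx
    rw [ιMulti_eq L T hLT e r y, smul_add, Finset.smul_sum]
    refine Submodule.add_mem _ (Submodule.smul_mem _ _ (ιMulti_pL_mem D L T hLT hQ r y))
      (Submodule.sum_mem _ (fun i _ => ?_))
    rw [smul_smul]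
    exact smul_wt_mem D L T hLT hQ e r y i (Ideal.mul_mem_right _ _ ha)
  | zero => rw [smul_zero]; exact Submodule.zero_mem _
  | add x y _ _ hx hy => rw [smul_add]; exact Submodule.add_mem _ hx hy
  | smul w x _ hx => rw [smul_comm]; exact Submodule.smul_mem _ _ hx

include hQ in
lemma eL_mem (z : ⋀[WittVector p R]^r P) : eL L T hLT r z ∈ Q' D r := by
  have hz : z ∈ Submodule.span (WittVector p R)
      (Set.range (exteriorPower.ιMulti (WittVector p R) r (M := P))) := by
    rw [exteriorPower.ιMulti_span]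
    exact Submodule.mem_top
  induction hz using Submodule.span_induction with
  | mem x hx =>
    obtain ⟨y, rfl⟩ := hx
    rw [eL_ιMulti]
    exact ιMulti_pL_mem D L T hLT hQ r y
  | zero => rw [map_zero]; exact Submodule.zero_mem _
  | add x y _ _ hx hy => rw [map_add]; exact Submodule.add_mem _ hx hy
  | smul w x _ hx => rw [map_smul]; exact Submodule.smul_mem _ _ hx

include hQ e hLT in
lemma exists_normal' : ∃ L' T' : Submodule (WittVector p R) (⋀[WittVector p R]^r P),
    IsCompl L' T' ∧ Q' D r = L' ⊔ IV p R • T' := by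
  have hid : IsIdempotentElem (eL L T hLT r) := LinearMap.ext (eL_eL L T hLT r)
  refine ⟨LinearMap.range (eL L T hLT r), LinearMap.ker (eL L T hLT r), LinearMap.IsIdempotentElem.isCompl hid, ?_⟩
  apply le_antisymm
  · apply Submodule.span_le.2
    rintro _ ⟨q, rfl⟩
    change exteriorPower.ιMulti (WittVector p R) r (fun i => (q i : P)) ∈ _
    rw [ιMulti_eq L T hLT e r]
    refine Submodule.add_mem _ (Submodule.mem_sup_left ?_) (Submodule.mem_sup_right ?_)
    · exact ⟨exteriorPower.ιMulti (WittVector p R) r (fun i => (q i : P)), eL_ιMulti L T hLT r _⟩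
    · refine Submodule.sum_mem _ (fun i _ => ?_)
      exact Submodule.smul_mem_smul (τ_mem_IV D L T hLT hQ e (q i).2)
        (LinearMap.mem_ker.2 (eL_wt L T hLT e r _ i))
  · apply sup_le
    · rintro _ ⟨z, rfl⟩
      exact eL_mem D L T hLT hQ r z
    · exact (Submodule.smul_mono le_rfl le_top).trans (IV_smul_le' D L T hLT hQ e r)

end Mem

section WithG

variable (G : (IV p R • (⊤ : Submodule (WittVector p R) (⋀[WittVector p R]^r P)) :
      Submodule (WittVector p R) (⋀[WittVector p R]^r P))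
    →ₛₗ[(frobenius : WittVector p R →+* WittVector p R)] (⋀[WittVector p R]^r P))
  (hG : ∀ (b : WittVector p R) (y : ⋀[WittVector p R]^r P)
    (h : verschiebung b • y ∈ IV p R • (⊤ : Submodule (WittVector p R) (⋀[WittVector p R]^r P))),
    G ⟨verschiebung b • y, h⟩ = b • Ψ D L T hLT hQ r y)

/-- the complementary projection restricted to `Q'`, landing in `I_R • ⋀^r P` -/
def cLQ : Q' D r →ₗ[WittVector p R]
    (IV p R • (⊤ : Submodule (WittVector p R) (⋀[WittVector p R]^r P)) :
      Submodule (WittVector p R) (⋀[WittVector p R]^r P)) :=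
  LinearMap.codRestrict _ ((cL L T hLT r) ∘ₗ (Q' D r).subtype)
    (fun z => sub_eL_mem D L T hLT hQ e r z.2)

/-- `V⁻¹` on the exterior power -/
def Vinv' : Q' D r →ₛₗ[(frobenius : WittVector p R →+* WittVector p R)] (⋀[WittVector p R]^r P) :=
  (Ψ D L T hLT hQ r).comp ((eL L T hLT r) ∘ₗ (Q' D r).subtype) + G.comp (cLQ D L T hLT hQ e r)

lemma Vinv'_apply (z : Q' D r) : Vinv' D L T hLT hQ e r G z
    = Ψ D L T hLT hQ r (eL L T hLT r z) + G ⟨cL L T hLT r z, sub_eL_mem D L T hLT hQ e r z.2⟩ :=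
  rfl

/-- `F` on the exterior power -/
def F' : (⋀[WittVector p R]^r P) →ₛₗ[(frobenius : WittVector p R →+* WittVector p R)]
    (⋀[WittVector p R]^r P) :=
  (p : WittVector p R) • (Ψ D L T hLT hQ r).comp (eL L T hLT r)
    + (Ψ D L T hLT hQ r).comp (cL L T hLT r)

lemma F'_apply (x : ⋀[WittVector p R]^r P) : F' D L T hLT hQ r x
    = (p : WittVector p R) • Ψ D L T hLT hQ r (eL L T hLT r x)
      + Ψ D L T hLT hQ r (cL L T hLT r x) := rfl

include hG in
lemma G_sum (a : Fin r → IV p R) (y : Fin r → ⋀[WittVector p R]^r P)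
    (h : ∑ i, (a i : WittVector p R) • y i
      ∈ IV p R • (⊤ : Submodule (WittVector p R) (⋀[WittVector p R]^r P))) :
    G ⟨∑ i, (a i : WittVector p R) • y i, h⟩ = ∑ i, vI (a i) • Ψ D L T hLT hQ r (y i) := by
  have hmem : ∀ i, verschiebung (vI (a i)) • y i
      ∈ IV p R • (⊤ : Submodule (WittVector p R) (⋀[WittVector p R]^r P)) :=
    fun i => Submodule.smul_mem_smul (verschiebung_mem_IV p R _) Submodule.mem_top
  have e1 : (⟨∑ i, (a i : WittVector p R) • y i, h⟩ :
      (IV p R • (⊤ : Submodule (WittVector p R) (⋀[WittVector p R]^r P)) :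
        Submodule (WittVector p R) (⋀[WittVector p R]^r P)))
      = ∑ i, ⟨verschiebung (vI (a i)) • y i, hmem i⟩ := by
    apply Subtype.ext
    simp only [AddSubmonoidClass.coe_finset_sum, vI_spec]
  rw [e1, map_sum]
  exact Finset.sum_congr rfl (fun i _ => hG _ _ _)

include hG in
/-- `V⁻¹` acts factorwise on wedges of elements of `Q` -/
lemma Vinv'_ιMulti (q : Fin r → D.Q)
    (hq : exteriorPower.ιMulti (WittVector p R) r (fun i => (q i : P)) ∈ Q' D r) :
    Vinv' D L T hLT hQ e r G ⟨_, hq⟩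
      = exteriorPower.ιMulti (WittVector p R) r (fun i => D.Vinv (q i)) := by
  set a : Fin r → IV p R := fun i => ⟨τ L T hLT e (q i), τ_mem_IV D L T hLT hQ e (q i).2⟩ with ha
  rw [Vinv'_apply]
  have h1 : eL L T hLT r (exteriorPower.ιMulti (WittVector p R) r (fun i => (q i : P)))
      = exteriorPower.ιMulti (WittVector p R) r (fun i => pL L T hLT (q i)) := eL_ιMulti L T hLT r _
  have h2 : cL L T hLT r (exteriorPower.ιMulti (WittVector p R) r (fun i => (q i : P)))
      = ∑ i, (a i : WittVector p R) • wt L T hLT e r (fun i => (q i : P)) i := by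
    rw [cL_apply, sub_eL_ιMulti L T hLT e r]
  have h3 : ∑ i, (a i : WittVector p R) • wt L T hLT e r (fun i => (q i : P)) i
      ∈ IV p R • (⊤ : Submodule (WittVector p R) (⋀[WittVector p R]^r P)) := by
    rw [← h2]
    exact sub_eL_mem D L T hLT hQ e r hq
  have h4 : (⟨cL L T hLT r (exteriorPower.ιMulti (WittVector p R) r (fun i => (q i : P))),
      sub_eL_mem D L T hLT hQ e r hq⟩ :
      (IV p R • (⊤ : Submodule (WittVector p R) (⋀[WittVector p R]^r P)) :
        Submodule (WittVector p R) (⋀[WittVector p R]^r P)))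
      = ⟨∑ i, (a i : WittVector p R) • wt L T hLT e r (fun i => (q i : P)) i, h3⟩ :=
    Subtype.ext h2
  change Ψ D L T hLT hQ r (eL L T hLT r (exteriorPower.ιMulti (WittVector p R) r
      (fun i => (q i : P)))) + G ⟨cL L T hLT r (exteriorPower.ιMulti (WittVector p R) r
      (fun i => (q i : P))), sub_eL_mem D L T hLT hQ e r hq⟩ = _
  rw [h1, h4, G_sum D L T hLT hQ r G hG a _ h3, Ψ_ιMulti]
  have h5 : (fun i => D.Vinv (q i))
      = fun i => Φ D L T hLT hQ (pL L T hLT (q i)) + vI (a i) • Φ D L T hLT hQ (tt T e) :=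
    funext (fun i => Vinv_eq D L T hLT hQ e (q i))
  rw [h5, map_add_smul]
  congr 1
  refine Finset.sum_congr rfl (fun i _ => ?_)
  rw [Ψ_wt]

include hG in
lemma span_range_Vinv' :
    Submodule.span (WittVector p R) (Set.range (Vinv' D L T hLT hQ e r G)) = ⊤ := by
  rw [eq_top_iff, ← exteriorPower.ιMulti_span_of_span (WittVector p R) r P D.span_range_Vinv]
  apply Submodule.span_le.2
  rintro _ ⟨x, hx, rfl⟩
  have hx' : ∀ i, ∃ q : D.Q, D.Vinv q = x i := fun i => hx ⟨i, rfl⟩
  choose q hq using hx'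
  apply Submodule.subset_span
  refine ⟨⟨_, ιMulti_mem_Q' D r q⟩, ?_⟩
  rw [Vinv'_ιMulti D L T hLT hQ e r G hG q]
  congr 1
  funext i
  exact hq i

include hG in
lemma Vinv'_verschiebung_smul (w : WittVector p R) (x : ⋀[WittVector p R]^r P)
    (h : verschiebung w • x ∈ Q' D r) :
    Vinv' D L T hLT hQ e r G ⟨verschiebung w • x, h⟩ = w • F' D L T hLT hQ r x := by
  rw [Vinv'_apply, F'_apply]
  have h1 : (⟨cL L T hLT r (verschiebung w • x), sub_eL_mem D L T hLT hQ e r h⟩ :
      (IV p R • (⊤ : Submodule (WittVector p R) (⋀[WittVector p R]^r P)) :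
        Submodule (WittVector p R) (⋀[WittVector p R]^r P)))
      = ⟨verschiebung w • cL L T hLT r x,
        Submodule.smul_mem_smul (verschiebung_mem_IV p R w) Submodule.mem_top⟩ :=
    Subtype.ext (map_smul _ _ _)
  change Ψ D L T hLT hQ r (eL L T hLT r (verschiebung w • x))
    + G ⟨cL L T hLT r (verschiebung w • x), sub_eL_mem D L T hLT hQ e r h⟩ = _
  rw [h1, hG, map_smul, map_smulₛₗ, frobenius_verschiebung, smul_add, smul_smul]

end WithG

section Main

include hLT hQ e in
theorem exists_isExtPow :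
    ∃ E : Display3n p R (⋀[WittVector p R]^r P), IsExtPow D r E := by
  haveI := D.finite
  haveI := D.projective
  obtain ⟨G, hG⟩ := exists_div (Ψ D L T hLT hQ r)
  refine ⟨{ Q := Q' D r
            F := F' D L T hLT hQ r
            Vinv := Vinv' D L T hLT hQ e r G
            finite := inferInstance
            projective := inferInstance
            IV_smul_le := IV_smul_le' D L T hLT hQ e r
            exists_normal := exists_normal' D L T hLT hQ e r
            span_range_Vinv := span_range_Vinv' D L T hLT hQ e r G hG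
            Vinv_verschiebung_smul := fun w x =>
              Vinv'_verschiebung_smul D L T hLT hQ e r G hG w x _ }, rfl, ?_⟩
  intro q hq
  exact Vinv'_ιMulti D L T hLT hQ e r G hG q hq

end Main

section Unique

lemma display3n_ext {M : Type*} [AddCommGroup M] [Module (WittVector p R) M]
    (E E' : Display3n p R M) (hQ' : E.Q = E'.Q) (hF : ∀ x, E.F x = E'.F x)
    (hV : ∀ (x : M) (h : x ∈ E.Q) (h' : x ∈ E'.Q), E.Vinv ⟨x, h⟩ = E'.Vinv ⟨x, h'⟩) : E = E' := by
  cases E with
  | mk Q F Vinv _ _ _ _ _ _ =>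
    cases E' with
    | mk Q₂ F₂ Vinv₂ _ _ _ _ _ _ =>
      simp only at hQ' hF hV
      subst hQ'
      have e1 : F = F₂ := LinearMap.ext hF
      have e2 : Vinv = Vinv₂ := LinearMap.ext (fun z => hV z.1 z.2 z.2)
      subst e1
      subst e2
      rfl

theorem isExtPow_unique (E E' : Display3n p R (⋀[WittVector p R]^r P))
    (h : IsExtPow D r E) (h' : IsExtPow D r E') : E' = E := by
  have hQQ : E'.Q = E.Q := h'.1.trans h.1.symm
  have hV : ∀ (x : ⋀[WittVector p R]^r P) (hx' : x ∈ E'.Q) (hx : x ∈ E.Q),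
      E'.Vinv ⟨x, hx'⟩ = E.Vinv ⟨x, hx⟩ := by
    intro x hx' hx
    have hx0 : x ∈ Submodule.span (WittVector p R) (Set.range fun q : Fin r → D.Q =>
        exteriorPower.ιMulti (WittVector p R) r (fun i => (q i : P))) := h.1 ▸ hx
    have key : ∀ (x : ⋀[WittVector p R]^r P), x ∈ Submodule.span (WittVector p R)
        (Set.range fun q : Fin r → D.Q =>
          exteriorPower.ιMulti (WittVector p R) r (fun i => (q i : P))) →
        ∀ (hx' : x ∈ E'.Q) (hx : x ∈ E.Q), E'.Vinv ⟨x, hx'⟩ = E.Vinv ⟨x, hx⟩ := by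
      intro x hx0
      induction hx0 using Submodule.span_induction with
      | mem x hx =>
        obtain ⟨q, rfl⟩ := hx
        intro hx' hx
        rw [h'.2 q hx', h.2 q hx]
      | zero =>
        intro hx' hx
        have e1 : (⟨0, hx'⟩ : E'.Q) = 0 := rfl
        have e2 : (⟨0, hx⟩ : E.Q) = 0 := rfl
        rw [e1, e2, map_zero, map_zero]
      | add x y hx1 hy1 ihx ihy =>
        intro hx' hx
        have hxQ : x ∈ E.Q := h.1 ▸ hx1
        have hyQ : y ∈ E.Q := h.1 ▸ hy1
        have hxQ' : x ∈ E'.Q := h'.1 ▸ hx1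
        have hyQ' : y ∈ E'.Q := h'.1 ▸ hy1
        have e1 : (⟨x + y, hx'⟩ : E'.Q) = ⟨x, hxQ'⟩ + ⟨y, hyQ'⟩ := rfl
        have e2 : (⟨x + y, hx⟩ : E.Q) = ⟨x, hxQ⟩ + ⟨y, hyQ⟩ := rfl
        rw [e1, e2, map_add, map_add, ihx hxQ' hxQ, ihy hyQ' hyQ]
      | smul w x hx1 ihx =>
        intro hx' hx
        have hxQ : x ∈ E.Q := h.1 ▸ hx1
        have hxQ' : x ∈ E'.Q := h'.1 ▸ hx1
        have e1 : (⟨w • x, hx'⟩ : E'.Q) = w • ⟨x, hxQ'⟩ := rfl
        have e2 : (⟨w • x, hx⟩ : E.Q) = w • ⟨x, hxQ⟩ := rfl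
        rw [e1, e2, map_smulₛₗ, map_smulₛₗ, ihx hxQ' hxQ]
    exact key x hx0 hx' hx
  apply display3n_ext E' E hQQ
  · intro x
    rw [disp_F_eq_Vinv E' x, disp_F_eq_Vinv E x]
    exact hV _ _ _
  · exact hV

end Unique

end Groth.Agent.Lib.T2H8.DispExtPowExist
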