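import Mathlib
import Groth.Prelude.Def_Disp2

/-!
# Coordinates in a scalar extension `BC g P` of a free module, and the matrix of the iterates of
# an operator `V^#` given by a matrix
-/

set_option autoImplicit false
universe u v w

noncomputable section

namespace Groth.Agent.Lib.T2H8.DispMat

open Dieu

section Coord

variable {A : Type u} {B : Type v} [CommRing A] [CommRing B] (g : A →+* B)
variable {P : Type w} [AddCommGroup P] [Module A P]
variable {ι : Type*} [Fintype ι] [DecidableEq ι] (e : Module.Basis ι A P)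

/-- the `g`-semilinear coordinate `x ↦ g (x_i)` -/
def coordSL (i : ι) : P →ₛₗ[g] B where
  toFun x := g (e.repr x i)
  map_add' x y := by rw [map_add, Finsupp.add_apply, map_add]
  map_smul' a x := by rw [map_smul, Finsupp.smul_apply, smul_eq_mul, map_mul, smul_eq_mul]

/-- the `i`-th coordinate functional on `BC g P` -/
def coord (i : ι) : BC g P →ₗ[B] B := BC.lift g (coordSL g e i)

lemma coord_tmul (i : ι) (b : B) (x : P) :
    coord g e i (BC.tmul g b x) = b * g (e.repr x i) := by
  rw [coord, BC.lift_tmul]; rfl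

lemma coord_tmul_basis (i j : ι) (b : B) :
    coord g e i (BC.tmul g b (e j)) = if i = j then b else 0 := by
  rw [coord_tmul, Module.Basis.repr_self, Finsupp.single_apply]
  split_ifs with h1 h2 h2
  · rw [map_one, mul_one]
  · exact absurd h1.symm h2
  · exact absurd h2.symm h1
  · rw [map_zero, mul_zero]

lemma tmul_sum {κ : Type*} (s : Finset κ) (b : B) (x : κ → P) :
    BC.tmul g b (∑ k ∈ s, x k) = ∑ k ∈ s, BC.tmul g b (x k) := by
  classical
  induction s using Finset.induction_on with
  | empty => simp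
  | insert a s ha ih => rw [Finset.sum_insert ha, Finset.sum_insert ha, BC.tmul_add, ih]

lemma tmul_smul (b : B) (a : A) (x : P) :
    BC.tmul g b (a • x) = (b * g a) • BC.tmul g 1 x := by
  rw [← BC.tmul_mul_apply, BC.smul_tmul, mul_one]

lemma sum_coord (z : BC g P) : z = ∑ i, coord g e i z • BC.tmul g 1 (e i) := by
  induction z using BC.induction_on g with
  | zero => simp
  | tmul b x =>
    conv_lhs => rw [← e.sum_repr x]
    rw [tmul_sum]
    refine Finset.sum_congr rfl (fun i _ => ?_)
    rw [tmul_smul, coord_tmul]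
  | add z₁ z₂ h₁ h₂ =>
    conv_lhs => rw [h₁, h₂]
    rw [← Finset.sum_add_distrib]
    refine Finset.sum_congr rfl (fun i _ => ?_)
    rw [map_add, add_smul]

lemma coord_sum_smul (c : ι → B) (i : ι) :
    coord g e i (∑ j, c j • BC.tmul g 1 (e j)) = c i := by
  rw [map_sum]
  rw [Finset.sum_eq_single i]
  · rw [map_smul, coord_tmul_basis, if_pos rfl, smul_eq_mul, mul_one]
  · intro j _ hj
    rw [map_smul, coord_tmul_basis, if_neg (Ne.symm hj), smul_zero]
  · intro h; exact absurd (Finset.mem_univ i) h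

lemma mem_smul_top_iff (𝔞 : Ideal B) (z : BC g P) :
    z ∈ 𝔞 • (⊤ : Submodule B (BC g P)) ↔ ∀ i, coord g e i z ∈ 𝔞 := by
  constructor
  · intro hz i
    have h := Submodule.mem_map_of_mem (f := coord g e i) hz
    rw [Submodule.map_smul''] at h
    have h2 : 𝔞 • Submodule.map (coord g e i) ⊤ ≤ 𝔞 • (⊤ : Submodule B B) :=
      Submodule.smul_mono le_rfl le_top
    have h3 := h2 h
    rwa [smul_eq_mul, Ideal.mul_top] at h3
  · intro h
    rw [sum_coord g e z]
    refine Submodule.sum_mem _ (fun i _ => ?_)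
    exact Submodule.smul_mem_smul (h i) Submodule.mem_top

lemma sum_smul_mem_smul_top_iff (𝔞 : Ideal B) (c : ι → B) :
    (∑ j, c j • BC.tmul g 1 (e j)) ∈ 𝔞 • (⊤ : Submodule B (BC g P)) ↔ ∀ i, c i ∈ 𝔞 := by
  rw [mem_smul_top_iff g e]
  simp only [coord_sum_smul]

end Coord

section Iterate

variable {p : ℕ} [Fact p.Prime] {R : Type u} [CommRing R]
variable {P : Type v} [AddCommGroup P] [Module (WittVector p R) P]
variable {ι : Type*} [Fintype ι] [DecidableEq ι] (e : Module.Basis ι (WittVector p R) P)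

local notation "σ" => (WittVector.frobenius : WittVector p R →+* WittVector p R)

/-- the operator `P → W ⊗_σ P` with matrix `Γ` in the bases `e`, `1 ⊗ e` -/
def VsOf (Γ : Matrix ι ι (WittVector p R)) : P →ₗ[WittVector p R] BC σ P :=
  e.constr (WittVector p R) (fun m => ∑ j, Γ j m • BC.tmul σ 1 (e j))

lemma VsOf_basis (Γ : Matrix ι ι (WittVector p R)) (m : ι) :
    VsOf e Γ (e m) = ∑ j, Γ j m • BC.tmul σ 1 (e j) := by
  rw [VsOf, Module.Basis.constr_basis]

/-- the matrices of the iterates -/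
def Mn (Γ : Matrix ι ι (WittVector p R)) : ℕ → Matrix ι ι (WittVector p R)
  | 0 => Γ
  | n + 1 => (Mn Γ n).map σ * Γ

theorem vSharpPow_VsOf_basis (Γ : Matrix ι ι (WittVector p R)) (n : ℕ) (m : ι) :
    vSharpPow (VsOf e Γ) n (e m) = ∑ j, Mn Γ n j m • BC.tmul (σ ^ (n + 1)) 1 (e j) := by
  induction n generalizing m with
  | zero =>
    rw [vSharpPow_zero_apply, VsOf_basis, map_sum]
    refine Finset.sum_congr rfl (fun j _ => ?_)
    rw [map_smul, BC.castHom_tmul]; rfl
  | succ n ih =>
    rw [vSharpPow_succ_apply, VsOf_basis, map_sum, map_sum, map_sum]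
    have key : ∀ j, BC.castHom (comp_pow_eq_pow_succ σ (n + 1))
        (BC.lift σ (BC.push (σ ^ (n + 1)) σ)
          (BC.map σ (vSharpPow (VsOf e Γ) n) (Γ j m • BC.tmul σ 1 (e j)))) =
        ∑ i, (σ (Mn Γ n i j) * Γ j m) • BC.tmul (σ ^ (n + 1 + 1)) 1 (e i) := by
      intro j
      rw [map_smul, map_smul, map_smul, BC.map_tmul, BC.lift_tmul, one_smul, ih, map_sum, map_sum,
        Finset.smul_sum]
      refine Finset.sum_congr rfl (fun i _ => ?_)
      rw [map_smulₛₗ, BC.push_tmul, map_one, map_smul, BC.castHom_tmul, smul_smul, mul_comm]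
    rw [Finset.sum_congr rfl (fun j _ => key j), Finset.sum_comm]
    refine Finset.sum_congr rfl (fun i _ => ?_)
    rw [← Finset.sum_smul]
    congr 1

theorem forall_vSharpPow_mem_iff (Γ : Matrix ι ι (WittVector p R)) (n : ℕ)
    (𝔞 : Ideal (WittVector p R)) :
    (∀ x : P, vSharpPow (VsOf e Γ) n x ∈
      𝔞 • (⊤ : Submodule (WittVector p R) (BC (σ ^ (n + 1)) P))) ↔ ∀ i j, Mn Γ n i j ∈ 𝔞 := by
  constructor
  · intro h i j
    have h1 := h (e j)
    rw [vSharpPow_VsOf_basis, sum_smul_mem_smul_top_iff] at h1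
    exact h1 i
  · intro h x
    rw [← e.sum_repr x, map_sum]
    refine Submodule.sum_mem _ (fun m _ => ?_)
    rw [map_smul]
    refine Submodule.smul_mem _ _ ?_
    rw [vSharpPow_VsOf_basis, sum_smul_mem_smul_top_iff]
    exact fun i => h i m

theorem isVNilpotent_VsOf_iff (Γ : Matrix ι ι (WittVector p R)) :
    IsVNilpotent (VsOf e Γ) ↔ ∃ n : ℕ, ∀ i j, Mn Γ n i j ∈
      (W4c1extbt610.IV p R ⊔ Ideal.span {(p : WittVector p R)}) := by
  unfold IsVNilpotent
  refine exists_congr (fun n => ?_)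
  exact forall_vSharpPow_mem_iff e Γ n _

end Iterate

end Groth.Agent.Lib.T2H8.DispMat
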