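import Mathlib

/-!
# Frobenius is nilpotent on Witt vectors with coefficients in a nil ideal of bounded exponent
(Disp, S14865/S14866)

For a ring `S` in which `p` is nilpotent and an ideal `𝔞` with `a ^ N = 0` for all `a ∈ 𝔞`, some iterate
of the Witt vector Frobenius kills every Witt vector with all coefficients in `𝔞`
(`exists_iterate_frobenius_eq_zero`).  Mathlib only.
-/

set_option autoImplicit false
universe u

namespace Groth.Agent.Lib.T2H8.Zink

open WittVector MvPolynomial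

variable {p : ℕ} [hp : Fact p.Prime] {S : Type u} [CommRing S]

lemma constantCoeff_frobeniusPoly (n : ℕ) : constantCoeff (frobeniusPoly p n) = 0 := by
  have h := coeff_frobenius (p := p) (0 : WittVector p ℤ) n
  rw [map_zero, zero_coeff] at h
  have h2 : (0 : WittVector p ℤ).coeff = fun _ => (0 : ℤ) := by
    funext k
    exact zero_coeff p ℤ k
  rw [h2, aeval_zero'] at h
  simpa using h.symm

lemma constantCoeff_frobeniusPolyAux (n : ℕ) : constantCoeff (frobeniusPolyAux p n) = 0 := by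
  have h := constantCoeff_frobeniusPoly (p := p) n
  rw [frobeniusPoly, map_add, map_pow, constantCoeff_X, zero_pow hp.out.ne_zero, zero_add, map_mul,
    constantCoeff_C] at h
  rcases mul_eq_zero.1 h with h | h
  · exact absurd h (by exact_mod_cast hp.out.ne_zero)
  · exact h

lemma aeval_mem_of_constantCoeff_eq_zero (q : MvPolynomial ℕ ℤ) (hq : constantCoeff q = 0)
    (I : Ideal S) (x : ℕ → S) (hx : ∀ n, x n ∈ I) : aeval x q ∈ I := by
  rw [← Ideal.Quotient.eq_zero_iff_mem, map_aeval]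
  have h2 : (fun i => Ideal.Quotient.mk I (x i)) = fun _ => (0 : S ⧸ I) := by
    funext i
    exact Ideal.Quotient.eq_zero_iff_mem.2 (hx i)
  rw [h2, eval₂Hom_zero'_apply, hq, map_zero]

/-- The coefficients of the Frobenius of a Witt vector with coefficients in an ideal. -/
lemma exists_coeff_frobenius_eq (I : Ideal S) (x : WittVector p S) (hx : ∀ n, x.coeff n ∈ I) (n : ℕ) :
    ∃ g ∈ I, (frobenius x).coeff n = x.coeff n ^ p + (p : S) * g := by
  refine ⟨aeval x.coeff (frobeniusPolyAux p n),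
    aeval_mem_of_constantCoeff_eq_zero _ (constantCoeff_frobeniusPolyAux n) I _ hx, ?_⟩
  rw [coeff_frobenius, frobeniusPoly, map_add, map_pow, aeval_X, map_mul]
  congr 2
  rw [show (C (p : ℤ) : MvPolynomial ℕ ℤ) = algebraMap ℤ _ (p : ℤ) from rfl, AlgHom.commutes]
  simp

lemma coeff_frobenius_mem (I : Ideal S) (x : WittVector p S) (hx : ∀ n, x.coeff n ∈ I) (n : ℕ) :
    (frobenius x).coeff n ∈ I := by
  obtain ⟨g, hg, h⟩ := exists_coeff_frobenius_eq I x hx n
  rw [h]
  exact I.add_mem (I.pow_mem_of_mem (hx n) p hp.out.pos) (I.mul_mem_left _ hg)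

lemma coeff_iterate_frobenius_mem (I : Ideal S) (x : WittVector p S) (hx : ∀ n, x.coeff n ∈ I) (m n : ℕ) :
    ((frobenius (p := p))^[m] x).coeff n ∈ I := by
  induction m generalizing n with
  | zero => exact hx n
  | succ m ih =>
    rw [Function.iterate_succ_apply']
    exact coeff_frobenius_mem I _ ih n

/-- Modulo `p I`, the `m`-th iterate of Frobenius raises coefficients to the `p ^ m`-th power. -/
lemma exists_coeff_iterate_frobenius_eq (I : Ideal S) (x : WittVector p S) (hx : ∀ n, x.coeff n ∈ I)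
    (m n : ℕ) :
    ∃ g ∈ I, ((frobenius (p := p))^[m] x).coeff n = x.coeff n ^ p ^ m + (p : S) * g := by
  induction m with
  | zero => exact ⟨0, I.zero_mem, by simp⟩
  | succ m ih =>
    obtain ⟨u, hu, h1⟩ := ih
    rw [Function.iterate_succ_apply']
    obtain ⟨g, hg, h2⟩ := exists_coeff_frobenius_eq I _
      (fun k => coeff_iterate_frobenius_mem I x hx m k) n
    rw [h2, h1]
    obtain ⟨w, hw⟩ : (p : S) * u ∣ (x.coeff n ^ p ^ m + (p : S) * u) ^ p - (x.coeff n ^ p ^ m) ^ p := by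
      have := sub_dvd_pow_sub_pow (x.coeff n ^ p ^ m + (p : S) * u) (x.coeff n ^ p ^ m) p
      rwa [add_sub_cancel_left] at this
    refine ⟨u * w + g, I.add_mem (I.mul_mem_right _ hu) hg, ?_⟩
    have h3 : (x.coeff n ^ p ^ m + (p : S) * u) ^ p =
        (x.coeff n ^ p ^ m) ^ p + (p : S) * u * w := by
      rw [← hw]; ring
    rw [h3, ← pow_mul, ← pow_succ]
    ring

/-- Frobenius raises the `p`-adic level of the coefficients. -/
lemma coeff_frobenius_mem_span_mul (𝔞 : Ideal S) (j : ℕ) (hj : 1 ≤ j) (x : WittVector p S)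
    (hx : ∀ n, x.coeff n ∈ Ideal.span {(p : S) ^ j} * 𝔞) (n : ℕ) :
    (frobenius x).coeff n ∈ Ideal.span {(p : S) ^ (j + 1)} * 𝔞 := by
  obtain ⟨g, hg, h⟩ := exists_coeff_frobenius_eq _ x hx n
  obtain ⟨a, ha, hxa⟩ := Ideal.mem_span_singleton_mul.1 (hx n)
  obtain ⟨a', ha', hga⟩ := Ideal.mem_span_singleton_mul.1 hg
  rw [h, Ideal.mem_span_singleton_mul]
  have h2 : 2 ≤ p := hp.out.two_le
  have h3 : j + 1 ≤ j * p := by nlinarith
  refine ⟨(p : S) ^ (j * p - (j + 1)) * a ^ p + a',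
    𝔞.add_mem (𝔞.mul_mem_left _ (𝔞.pow_mem_of_mem ha p hp.out.pos)) ha', ?_⟩
  rw [← hxa, ← hga, mul_add, ← mul_assoc, ← pow_add, Nat.add_sub_cancel' h3, mul_pow, ← pow_mul,
    pow_succ]
  ring

lemma coeff_iterate_frobenius_mem_span_mul (𝔞 : Ideal S) (x : WittVector p S)
    (hx : ∀ n, x.coeff n ∈ Ideal.span {(p : S) ^ 1} * 𝔞) (i n : ℕ) :
    ((frobenius (p := p))^[i] x).coeff n ∈ Ideal.span {(p : S) ^ (1 + i)} * 𝔞 := by
  induction i generalizing n with
  | zero => exact hx n
  | succ i ih =>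
    rw [Function.iterate_succ_apply', ← add_assoc]
    exact coeff_frobenius_mem_span_mul 𝔞 (1 + i) (by omega) _ ih n

/-- Frobenius is nilpotent on Witt vectors with coefficients in a nil ideal of bounded exponent,
when `p` is nilpotent in the ring. -/
theorem exists_iterate_frobenius_eq_zero (𝔞 : Ideal S) (N : ℕ) (hN : ∀ a ∈ 𝔞, a ^ N = 0)
    (hpnil : IsNilpotent (p : S)) :
    ∃ M : ℕ, ∀ x : WittVector p S, (∀ n, x.coeff n ∈ 𝔞) → (frobenius (p := p))^[M] x = 0 := by
  obtain ⟨c, hc⟩ := hpnil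
  refine ⟨c + N, fun x hx => ?_⟩
  have hNp : N ≤ p ^ N := (Nat.lt_pow_self hp.out.one_lt).le
  have h1 : ∀ n, ((frobenius (p := p))^[N] x).coeff n ∈ Ideal.span {(p : S) ^ 1} * 𝔞 := by
    intro n
    obtain ⟨g, hg, h⟩ := exists_coeff_iterate_frobenius_eq 𝔞 x hx N n
    have h2 : x.coeff n ^ p ^ N = 0 := by
      rw [← Nat.sub_add_cancel hNp, pow_add, hN _ (hx n), mul_zero]
    rw [h, h2, zero_add, pow_one]
    exact Ideal.mul_mem_mul (Ideal.subset_span rfl) hg
  rw [Function.iterate_add_apply]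
  ext n
  have h3 := coeff_iterate_frobenius_mem_span_mul 𝔞 _ h1 c n
  rw [pow_add, hc, mul_zero, Ideal.mem_span_singleton_mul] at h3
  obtain ⟨z, -, hz⟩ := h3
  rw [← hz, zero_mul, zero_coeff]

end Groth.Agent.Lib.T2H8.Zink
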