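import Mathlib
import Groth.Agent.Lib.T2H8DispMatA
import Groth.Agent.Lib.T2H8ZinkA

/-!
# Reduction of the matrices of the iterates of `V^#` modulo `I_R + pW`
-/

set_option autoImplicit false
universe u v w

noncomputable section

namespace Groth.Agent.Lib.T2H8.DispMat

open Dieu

section Rho

variable (p : ℕ) [hp : Fact p.Prime] (R : Type u) [CommRing R]

/-- `W(R) → R → R/pR` -/
def rho : WittVector p R →+* R ⧸ Ideal.span {(p : R)} :=
  (Ideal.Quotient.mk _).comp WittVector.constantCoeff

variable {p R}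

lemma rho_apply (x : WittVector p R) :
    rho p R x = Ideal.Quotient.mk (Ideal.span {(p : R)}) (WittVector.constantCoeff x) := rfl

lemma rho_natCast_p : rho p R (p : WittVector p R) = 0 := by
  rw [map_natCast]
  have : ((p : ℕ) : R ⧸ Ideal.span {(p : R)}) = Ideal.Quotient.mk _ (p : R) := by
    rw [map_natCast]
  rw [this, Ideal.Quotient.eq_zero_iff_mem]
  exact Ideal.mem_span_singleton_self _

lemma rho_frobenius (x : WittVector p R) : rho p R (WittVector.frobenius x) = rho p R x ^ p := by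
  obtain ⟨g, -, h⟩ := Groth.Agent.Lib.T2H8.Zink.exists_coeff_frobenius_eq (p := p) (⊤ : Ideal R) x
    (fun _ => Submodule.mem_top) 0
  rw [rho_apply, rho_apply, WittVector.constantCoeff_apply, WittVector.constantCoeff_apply, h,
    map_add, map_pow, map_mul]
  have : Ideal.Quotient.mk (Ideal.span {(p : R)}) (p : R) = 0 :=
    Ideal.Quotient.eq_zero_iff_mem.2 (Ideal.mem_span_singleton_self _)
  rw [this, zero_mul, add_zero]

lemma ker_rho : RingHom.ker (rho p R) =
    W4c1extbt610.IV p R ⊔ Ideal.span {(p : WittVector p R)} := by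
  apply le_antisymm
  · intro x hx
    rw [RingHom.mem_ker, rho_apply, Ideal.Quotient.eq_zero_iff_mem, Ideal.mem_span_singleton] at hx
    obtain ⟨r, hr⟩ := hx
    set y : WittVector p R := x - (p : WittVector p R) * WittVector.teichmuller p r with hy
    have hy0 : ∀ i < 1, y.coeff i = 0 := by
      intro i hi
      have hi0 : i = 0 := by omega
      subst hi0
      have h1 : WittVector.constantCoeff y = 0 := by
        rw [hy, map_sub, map_mul, map_natCast, hr, WittVector.constantCoeff_apply,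
          WittVector.teichmuller_coeff_zero, sub_self]
      exact h1
    have hyV := WittVector.eq_iterate_verschiebung hy0
    have hx' : x = y + (p : WittVector p R) * WittVector.teichmuller p r := by rw [hy]; ring
    rw [hx']
    refine Ideal.add_mem _ (Ideal.mem_sup_left ?_) (Ideal.mem_sup_right ?_)
    · rw [hyV]
      exact W4c1extbt610.verschiebung_mem_IV p R _
    · exact Ideal.mul_mem_right _ _ (Ideal.mem_span_singleton_self _)
  · refine sup_le ?_ ?_
    · rw [W4c1extbt610.IV, Ideal.span_le]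
      rintro _ ⟨w, rfl⟩
      change rho p R _ = 0
      rw [rho_apply, WittVector.constantCoeff_apply, WittVector.verschiebung_coeff_zero, map_zero]
    · rw [Ideal.span_le]
      rintro _ rfl
      exact rho_natCast_p

lemma mem_iff_rho_eq_zero (x : WittVector p R) :
    x ∈ W4c1extbt610.IV p R ⊔ Ideal.span {(p : WittVector p R)} ↔ rho p R x = 0 := by
  rw [← ker_rho, RingHom.mem_ker]

/-- a Frobenius endomorphism of `R/pR` -/
lemma exists_frob : ∃ fr : (R ⧸ Ideal.span {(p : R)}) →+* (R ⧸ Ideal.span {(p : R)}),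
    ∀ x, fr x = x ^ p := by
  by_cases hu : IsUnit (p : R)
  · have hs : Subsingleton (R ⧸ Ideal.span {(p : R)}) := by
      rw [Ideal.Quotient.subsingleton_iff, Ideal.span_singleton_eq_top]
      exact hu
    exact ⟨RingHom.id _, fun x => Subsingleton.elim _ _⟩
  · haveI : CharP (R ⧸ Ideal.span {(p : R)}) p := CharP.quotient R p hu
    exact ⟨frobenius _ p, fun x => rfl⟩

end Rho

section Mat

variable {p : ℕ} [hp : Fact p.Prime] {R : Type u} [CommRing R]
variable {S : Type*} [CommRing S]
variable {ι : Type*} [Fintype ι] [DecidableEq ι]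

/-- the reduced recursion -/
def MnBar (fr : S →+* S) (G : Matrix ι ι S) : ℕ → Matrix ι ι S
  | 0 => G
  | n + 1 => (MnBar fr G n).map fr * G

lemma map_rho_Mn (fr : (R ⧸ Ideal.span {(p : R)}) →+* (R ⧸ Ideal.span {(p : R)}))
    (hfr : ∀ x, fr x = x ^ p) (Γ : Matrix ι ι (WittVector p R)) (n : ℕ) :
    (Mn Γ n).map (rho p R) = MnBar fr (Γ.map (rho p R)) n := by
  induction n with
  | zero => rfl
  | succ n ih =>
    change ((Mn Γ n).map WittVector.frobenius * Γ).map (rho p R) = (MnBar fr _ n).map fr * _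
    rw [Matrix.map_mul, ← ih, Matrix.map_map, Matrix.map_map]
    congr 2
    funext x
    change rho p R (WittVector.frobenius x) = fr (rho p R x)
    rw [rho_frobenius, hfr]

lemma forall_mem_iff_MnBar_eq_zero (fr : (R ⧸ Ideal.span {(p : R)}) →+* (R ⧸ Ideal.span {(p : R)}))
    (hfr : ∀ x, fr x = x ^ p) (Γ : Matrix ι ι (WittVector p R)) (n : ℕ) :
    (∀ i j, Mn Γ n i j ∈ W4c1extbt610.IV p R ⊔ Ideal.span {(p : WittVector p R)}) ↔
      MnBar fr (Γ.map (rho p R)) n = 0 := by
  rw [← map_rho_Mn fr hfr]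
  constructor
  · intro h
    ext i j
    rw [Matrix.map_apply, Matrix.zero_apply]
    exact (mem_iff_rho_eq_zero _).1 (h i j)
  · intro h i j
    rw [mem_iff_rho_eq_zero]
    have := congrFun (congrFun h i) j
    rwa [Matrix.map_apply, Matrix.zero_apply] at this

end Mat

section Block

variable {S : Type*} [CommRing S] (fr : S →+* S)
variable {ιT ιL : Type*} [Fintype ιT] [Fintype ιL] [DecidableEq ιT] [DecidableEq ιL]

/-- the recursion on the lower right block -/
def Bn (B : Matrix ιL ιL S) : ℕ → Matrix ιL ιL S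
  | 0 => B
  | n + 1 => (Bn B n).map fr * B

/-- the lower left block -/
def Cn (B : Matrix ιL ιL S) (C : Matrix ιL ιT S) : ℕ → Matrix ιL ιT S
  | 0 => C
  | n + 1 => (Bn fr B n).map fr * C

lemma MnBar_fromBlocks (B : Matrix ιL ιL S) (C : Matrix ιL ιT S) (n : ℕ) :
    MnBar fr (Matrix.fromBlocks (0 : Matrix ιT ιT S) (0 : Matrix ιT ιL S) C B) n =
      Matrix.fromBlocks 0 0 (Cn fr B C n) (Bn fr B n) := by
  induction n with
  | zero => rfl
  | succ n ih =>
    change (MnBar fr _ n).map fr * _ = Matrix.fromBlocks 0 0 ((Bn fr B n).map fr * C)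
      ((Bn fr B n).map fr * B)
    rw [ih, Matrix.fromBlocks_map, Matrix.fromBlocks_multiply]
    simp [Matrix.map_zero]

lemma exists_MnBar_eq_zero_iff (B : Matrix ιL ιL S) (C : Matrix ιL ιT S) :
    (∃ n, MnBar fr (Matrix.fromBlocks (0 : Matrix ιT ιT S) (0 : Matrix ιT ιL S) C B) n = 0) ↔
      ∃ n, Bn fr B n = 0 := by
  constructor
  · rintro ⟨n, hn⟩
    rw [MnBar_fromBlocks] at hn
    refine ⟨n, ?_⟩
    ext i j
    have := congrFun (congrFun hn (Sum.inr i)) (Sum.inr j)
    simpa using this
  · rintro ⟨n, hn⟩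
    refine ⟨n + 1, ?_⟩
    rw [MnBar_fromBlocks]
    change Matrix.fromBlocks 0 0 ((Bn fr B n).map fr * C) ((Bn fr B n).map fr * B) = 0
    rw [hn]
    simp [Matrix.map_zero]

variable (p : ℕ)

/-- the list product in the statement -/
def Lprod (B : Matrix ιL ιL S) (N : ℕ) : Matrix ιL ιL S :=
  ((List.range N).reverse.map fun i : ℕ => B.map fun x : S => x ^ p ^ i).prod

lemma Lprod_map (hfr : ∀ x, fr x = x ^ p) (B : Matrix ιL ιL S) (N : ℕ) :
    (Lprod p B N).map fr =
      ((List.range N).reverse.map fun i : ℕ => B.map fun x : S => x ^ p ^ (i + 1)).prod := by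
  have h1 : (Lprod p B N).map fr = fr.mapMatrix (Lprod p B N) := rfl
  rw [h1, Lprod, map_list_prod, List.map_map]
  congr 1
  refine List.map_congr_left (fun i _ => ?_)
  change (B.map fun x : S => x ^ p ^ i).map fr = _
  rw [Matrix.map_map]
  congr 1
  funext x
  change fr (x ^ p ^ i) = _
  rw [hfr, ← pow_mul, pow_succ]

lemma Lprod_succ (hfr : ∀ x, fr x = x ^ p) (B : Matrix ιL ιL S) (N : ℕ) :
    Lprod p B (N + 1) = (Lprod p B N).map fr * B := by
  rw [Lprod_map fr p hfr, Lprod, List.range_succ_eq_map, List.reverse_cons, List.map_append,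
    List.prod_append, List.map_singleton, List.prod_singleton, ← List.map_reverse, List.map_map]
  congr 1
  ext i j
  simp

lemma Bn_eq_Lprod (hfr : ∀ x, fr x = x ^ p) (B : Matrix ιL ιL S) (n : ℕ) :
    Bn fr B n = Lprod p B (n + 1) := by
  induction n with
  | zero =>
    rw [Lprod_succ fr p hfr]
    change B = (Lprod p B 0).map fr * B
    have : Lprod p B 0 = 1 := rfl
    rw [this]
    have h1 : (1 : Matrix ιL ιL S).map fr = 1 := by
      ext i j
      by_cases h : i = j
      · subst h; simp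
      · simp [h]
    rw [h1, one_mul]
  | succ n ih =>
    rw [Lprod_succ fr p hfr, ← ih]
    rfl

lemma exists_Bn_eq_zero_iff (hfr : ∀ x, fr x = x ^ p) (B : Matrix ιL ιL S) :
    (∃ n, Bn fr B n = 0) ↔ ∃ N : ℕ, 0 < N ∧ Lprod p B N = 0 := by
  constructor
  · rintro ⟨n, hn⟩
    exact ⟨n + 1, Nat.succ_pos n, by rw [← Bn_eq_Lprod fr p hfr]; exact hn⟩
  · rintro ⟨N, hN, h⟩
    obtain ⟨n, rfl⟩ := Nat.exists_eq_succ_of_ne_zero hN.ne'
    exact ⟨n, by rw [Bn_eq_Lprod fr p hfr]; exact h⟩

end Block

end Groth.Agent.Lib.T2H8.DispMat
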