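import Mathlib
import Groth.Agent.Lib.T2H8DispMatB

/-!
# A 3n-display with a normal decomposition by free modules: the operator `V^#` in coordinates
-/

set_option autoImplicit false
set_option linter.unusedSectionVars false
universe u v w

noncomputable section

namespace Groth.Agent.Lib.T2H8.DispMat

open Dieu

variable {p : ℕ} [hp : Fact p.Prime] {R : Type u} [CommRing R]
variable {P : Type v} [AddCommGroup P] [Module (WittVector p R) P]

local notation "σ" => (WittVector.frobenius : WittVector p R →+* WittVector p R)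

section General

variable (D : W4c1extbt610.Display3n p R P)

/-- `F y = p V⁻¹ y` on `Q` -/
lemma F_eq_p_smul_Vinv (y : D.Q) : D.F (y : P) = (p : WittVector p R) • D.Vinv y := by
  have h1 := D.Vinv_verschiebung_smul 1 (y : P)
  rw [one_smul] at h1
  rw [← h1]
  have h2 : (⟨WittVector.verschiebung (1 : WittVector p R) • (y : P),
      D.IV_smul_le (Submodule.smul_mem_smul (W4c1extbt610.verschiebung_mem_IV p R 1)
        Submodule.mem_top)⟩ : D.Q) = WittVector.verschiebung (1 : WittVector p R) • y :=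
    Subtype.ext rfl
  rw [h2, map_smulₛₗ, WittVector.frobenius_verschiebung, one_mul]

end General

section Coordinates

variable (D : W4c1extbt610.Display3n p R P)
    (L T : Submodule (WittVector p R) P) (hLT : IsCompl L T)
    (hQ : D.Q = L ⊔ W4c1extbt610.IV p R • T) (hLQ : L ≤ D.Q)
    {ιT ιL : Type w} [Fintype ιT] [Fintype ιL] [DecidableEq ιT] [DecidableEq ιL]
    (bT : Module.Basis ιT (WittVector p R) T) (bL : Module.Basis ιL (WittVector p R) L)

/-- the basis of `P` formed by the `t_j` followed by the `l_k` -/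
def eBasis : Module.Basis (ιT ⊕ ιL) (WittVector p R) P :=
  (bT.prod bL).map (Submodule.prodEquivOfIsCompl T L hLT.symm)

lemma eBasis_apply (i : ιT ⊕ ιL) :
    eBasis L T hLT bT bL i = Sum.elim (fun a : ιT => (bT a : P)) (fun a : ιL => (bL a : P)) i := by
  rw [eBasis, Module.Basis.map_apply, Submodule.coe_prodEquivOfIsCompl']
  cases i with
  | inl j =>
    rw [Module.Basis.prod_apply_inl_fst, Module.Basis.prod_apply_inl_snd]
    simp
  | inr k =>
    rw [Module.Basis.prod_apply_inr_fst, Module.Basis.prod_apply_inr_snd]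
    simp

/-- the images `F t_j`, `V⁻¹ l_k` -/
def Phi : ιT ⊕ ιL → P :=
  Sum.elim (fun j : ιT => D.F (bT j : P)) (fun k : ιL => D.Vinv ⟨(bL k : P), hLQ (bL k).2⟩)

/-- the diagonal `(p, …, p, 1, …, 1)` -/
def dvec : ιT ⊕ ιL → WittVector p R := Sum.elim (fun _ => (p : WittVector p R)) (fun _ => 1)

/-- the matrix of `V^#` -/
def Gam (β : Matrix (ιT ⊕ ιL) (ιT ⊕ ιL) (WittVector p R)) :
    Matrix (ιT ⊕ ιL) (ιT ⊕ ιL) (WittVector p R) :=
  Matrix.of fun j m => dvec (p := p) (R := R) j * β j m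

variable (α β : Matrix (ιT ⊕ ιL) (ιT ⊕ ιL) (WittVector p R))
    (hF : ∀ j : ιT, D.F (bT j : P) =
      Finset.univ.sum fun i : ιT ⊕ ιL => α i (Sum.inl j) • Sum.elim (fun a : ιT => (bT a : P)) (fun a : ιL => (bL a : P)) i)
    (hV : ∀ k : ιL, D.Vinv ⟨(bL k : P), hLQ (bL k).2⟩ =
      Finset.univ.sum fun i : ιT ⊕ ιL => α i (Sum.inr k) • Sum.elim (fun a : ιT => (bT a : P)) (fun a : ιL => (bL a : P)) i)

include hF hV in
lemma Phi_eq (j : ιT ⊕ ιL) :
    Phi D L T hLQ bT bL j = ∑ i, α i j • eBasis L T hLT bT bL i := by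
  simp only [eBasis_apply]
  cases j with
  | inl j => exact hF j
  | inr k => exact hV k

include hF hV in
lemma eBasis_eq_sum_Phi (hαβ : α * β = 1) (m : ιT ⊕ ιL) :
    eBasis L T hLT bT bL m = ∑ j, β j m • Phi D L T hLQ bT bL j := by
  simp only [Phi_eq D L T hLT hLQ bT bL α hF hV, Finset.smul_sum, smul_smul]
  rw [Finset.sum_comm]
  simp only [← Finset.sum_smul]
  have h : ∀ i, ∑ j, β j m * α i j = (1 : Matrix (ιT ⊕ ιL) (ιT ⊕ ιL) (WittVector p R)) i m := by
    intro i
    rw [← hαβ, Matrix.mul_apply]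
    exact Finset.sum_congr rfl (fun j _ => mul_comm _ _)
  simp only [h, Matrix.one_apply, ite_smul, one_smul, zero_smul]
  rw [Finset.sum_ite_eq' Finset.univ m, if_pos (Finset.mem_univ m)]

include hF hV in
/-- uniqueness of `V^#` -/
theorem eq_VsOf_of_isVSharp (hαβ : α * β = 1)
    (Vs : P →ₗ[WittVector p R] BC σ P) (hVs : IsVSharp D Vs) :
    Vs = VsOf (eBasis L T hLT bT bL) (Gam β) := by
  have hΦ : ∀ j, Vs (Phi D L T hLQ bT bL j) =
      dvec (p := p) (R := R) j • BC.tmul σ 1 (eBasis L T hLT bT bL j) := by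
    intro j
    rw [eBasis_apply]
    cases j with
    | inl j =>
      have := hVs.app_smul_F 1 (bT j : P)
      rw [one_smul] at this
      exact this
    | inr k =>
      have := hVs.app_smul_Vinv 1 ⟨(bL k : P), hLQ (bL k).2⟩
      rw [one_smul] at this
      change Vs (D.Vinv ⟨(bL k : P), hLQ (bL k).2⟩) = (1 : WittVector p R) • _
      rw [one_smul]
      exact this
  apply (eBasis L T hLT bT bL).ext
  intro m
  rw [VsOf_basis]
  conv_lhs => rw [eBasis_eq_sum_Phi D L T hLT hLQ bT bL α β hF hV hαβ m]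
  rw [map_sum]
  refine Finset.sum_congr rfl (fun j _ => ?_)
  rw [map_smul, hΦ, smul_smul, Gam, Matrix.of_apply, mul_comm]

include hF hV in
lemma VsOf_Phi (hβα : β * α = 1) (j : ιT ⊕ ιL) :
    VsOf (eBasis L T hLT bT bL) (Gam β) (Phi D L T hLQ bT bL j) =
      dvec (p := p) (R := R) j • BC.tmul σ 1 (eBasis L T hLT bT bL j) := by
  rw [Phi_eq D L T hLT hLQ bT bL α hF hV, map_sum]
  simp only [map_smul, VsOf_basis, Finset.smul_sum, smul_smul]
  rw [Finset.sum_comm]
  simp only [← Finset.sum_smul]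
  have h : ∀ m, ∑ i, α i j * Gam β m i =
      dvec (p := p) (R := R) m * (1 : Matrix (ιT ⊕ ιL) (ιT ⊕ ιL) (WittVector p R)) m j := by
    intro m
    rw [← hβα, Matrix.mul_apply, Finset.mul_sum]
    refine Finset.sum_congr rfl (fun i _ => ?_)
    rw [Gam, Matrix.of_apply]
    ring
  simp only [h, Matrix.one_apply, mul_ite, mul_one, mul_zero, ite_smul, zero_smul]
  rw [Finset.sum_ite_eq' Finset.univ j, if_pos (Finset.mem_univ j)]

include hF hV in
lemma VsOf_F (hβα : β * α = 1) (x : P) :
    VsOf (eBasis L T hLT bT bL) (Gam β) (D.F x) = (p : WittVector p R) • BC.tmul σ 1 x := by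
  have key : (VsOf (eBasis L T hLT bT bL) (Gam β)).comp D.F =
      (p : WittVector p R) • BC.ι σ P := by
    apply (eBasis L T hLT bT bL).ext
    intro i
    rw [LinearMap.comp_apply, LinearMap.smul_apply, BC.ι_apply]
    cases i with
    | inl j =>
      have h := VsOf_Phi D L T hLT hLQ bT bL α β hF hV hβα (Sum.inl j)
      rw [eBasis_apply] at h ⊢
      exact h
    | inr k =>
      have h := VsOf_Phi D L T hLT hLQ bT bL α β hF hV hβα (Sum.inr k)
      have h2 := F_eq_p_smul_Vinv D ⟨(bL k : P), hLQ (bL k).2⟩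
      rw [eBasis_apply] at h ⊢
      change VsOf _ _ (D.F (bL k : P)) = _
      rw [h2, map_smul]
      change _ • VsOf _ _ (Phi D L T hLQ bT bL (Sum.inr k)) = _
      rw [h]
      change _ • ((1 : WittVector p R) • _) = _
      rw [one_smul]
  have := congrArg (fun f => f x) key
  simpa using this

include hF hV hQ in
lemma VsOf_Vinv (hβα : β * α = 1) (y : D.Q) :
    VsOf (eBasis L T hLT bT bL) (Gam β) (D.Vinv y) = BC.tmul σ 1 (y : P) := by
  set Vs := VsOf (eBasis L T hLT bT bL) (Gam β) with hVsdef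
  let S : Submodule (WittVector p R) P :=
    { carrier := {y | ∃ h : y ∈ D.Q, Vs (D.Vinv ⟨y, h⟩) = BC.tmul σ 1 y}
      zero_mem' := by
        refine ⟨D.Q.zero_mem, ?_⟩
        have : (⟨0, D.Q.zero_mem⟩ : D.Q) = 0 := rfl
        rw [this, map_zero, map_zero, BC.tmul_zero]
      add_mem' := by
        rintro a b ⟨ha, ha'⟩ ⟨hb, hb'⟩
        refine ⟨D.Q.add_mem ha hb, ?_⟩
        have : (⟨a + b, D.Q.add_mem ha hb⟩ : D.Q) = ⟨a, ha⟩ + ⟨b, hb⟩ := rfl
        rw [this, map_add, map_add, ha', hb', BC.tmul_add]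
      smul_mem' := by
        rintro c a ⟨ha, ha'⟩
        refine ⟨D.Q.smul_mem c ha, ?_⟩
        have : (⟨c • a, D.Q.smul_mem c ha⟩ : D.Q) = c • ⟨a, ha⟩ := rfl
        rw [this, map_smulₛₗ, map_smul, ha', BC.smul_tmul, mul_one, BC.tmul_apply_eq] }
  have hL : L ≤ S := by
    intro x hx
    have hx' : x = ∑ k, bL.repr ⟨x, hx⟩ k • (bL k : P) := by
      have := congrArg (Subtype.val) (bL.sum_repr ⟨x, hx⟩)
      rw [Submodule.coe_sum] at this
      simpa using this.symm
    rw [hx']
    refine S.sum_mem (fun k _ => S.smul_mem _ ?_)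
    refine ⟨hLQ (bL k).2, ?_⟩
    have h := VsOf_Phi D L T hLT hLQ bT bL α β hF hV hβα (Sum.inr k)
    rw [eBasis_apply] at h
    change Vs (Phi D L T hLQ bT bL (Sum.inr k)) = _
    rw [h]
    change (1 : WittVector p R) • _ = _
    rw [one_smul]
    rfl
  have hT : W4c1extbt610.IV p R • T ≤ S := by
    rw [Submodule.smul_le]
    intro a ha t _
    have hI : W4c1extbt610.IV p R ≤ S.comap (LinearMap.toSpanSingleton (WittVector p R) P t) := by
      rw [W4c1extbt610.IV, Ideal.span_le]
      rintro _ ⟨w, rfl⟩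
      change WittVector.verschiebung w • t ∈ S
      refine ⟨D.IV_smul_le (Submodule.smul_mem_smul (W4c1extbt610.verschiebung_mem_IV p R w)
        Submodule.mem_top), ?_⟩
      rw [D.Vinv_verschiebung_smul w t, map_smul, hVsdef,
        VsOf_F D L T hLT hLQ bT bL α β hF hV hβα, ← BC.tmul_apply_eq,
        WittVector.frobenius_verschiebung, smul_smul, BC.smul_tmul, mul_one]
    exact hI ha
  have hy : (y : P) ∈ S := by
    have h1 : D.Q ≤ S := by
      rw [hQ]
      exact sup_le hL hT
    exact h1 y.2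
  obtain ⟨h, h'⟩ := hy
  exact h'

include hF hV hQ in
/-- existence of `V^#` -/
theorem isVSharp_VsOf (hβα : β * α = 1) :
    IsVSharp D (VsOf (eBasis L T hLT bT bL) (Gam β)) where
  app_smul_F w x := by
    rw [map_smul, VsOf_F D L T hLT hLQ bT bL α β hF hV hβα, smul_comm, BC.smul_tmul, mul_one]
  app_smul_Vinv w y := by
    rw [map_smul, VsOf_Vinv D L T hLT hQ hLQ bT bL α β hF hV hβα, BC.smul_tmul, mul_one]

lemma Gam_map_rho :
    (Gam β).map (rho p R) = Matrix.fromBlocks (0 : Matrix ιT ιT _) (0 : Matrix ιT ιL _)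
      (Matrix.of fun (k : ιL) (t : ιT) => rho p R (β (Sum.inr k) (Sum.inl t)))
      (Matrix.of fun k l : ιL => Ideal.Quotient.mk (Ideal.span {(p : R)})
        (WittVector.constantCoeff (β (Sum.inr k) (Sum.inr l)))) := by
  ext i j
  rw [Matrix.map_apply, Gam, Matrix.of_apply]
  cases i with
  | inl t =>
    have : dvec (p := p) (R := R) (ιT := ιT) (ιL := ιL) (Sum.inl t) = (p : WittVector p R) := rfl
    rw [this, map_mul, rho_natCast_p, zero_mul]
    cases j <;> rfl
  | inr k =>
    have : dvec (p := p) (R := R) (ιT := ιT) (ιL := ιL) (Sum.inr k) = 1 := rfl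
    rw [this, one_mul]
    cases j <;> rfl

include hF hV hQ hLT in
/-- Zink's criterion: a 3n-display with a free normal decomposition is a display iff the Frobenius
twisted powers of the matrix `B` vanish eventually -/
theorem isDisplay_iff (hαβ : α * β = 1) (hβα : β * α = 1) :
    Dieu.IsDisplay D ↔
      ∃ N : ℕ, 0 < N ∧
        (((List.range N).reverse.map fun i : ℕ =>
            (Matrix.of fun k l : ιL =>
                Ideal.Quotient.mk (Ideal.span {(p : R)}) (WittVector.constantCoeff (β (Sum.inr k) (Sum.inr l)))).map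
              fun x : R ⧸ Ideal.span {(p : R)} => x ^ p ^ i).prod
          = 0) := by
  obtain ⟨fr, hfr⟩ := exists_frob (p := p) (R := R)
  have h1 : Dieu.IsDisplay D ↔ IsVNilpotent (VsOf (eBasis L T hLT bT bL) (Gam β)) := by
    constructor
    · rintro ⟨Vs, hVs, hnil⟩
      rwa [eq_VsOf_of_isVSharp D L T hLT hLQ bT bL α β hF hV hαβ Vs hVs] at hnil
    · intro h
      exact ⟨_, isVSharp_VsOf D L T hLT hQ hLQ bT bL α β hF hV hβα, h⟩
  rw [h1, isVNilpotent_VsOf_iff]
  simp only [forall_mem_iff_MnBar_eq_zero fr hfr, Gam_map_rho]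
  rw [exists_MnBar_eq_zero_iff, exists_Bn_eq_zero_iff fr p hfr]
  rfl

end Coordinates

end Groth.Agent.Lib.T2H8.DispMat
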