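import Groth.Agent.Lib.T2H8WittSqZero
import Groth.Agent.Lib.Helper14Disp2
import Groth.Prelude.Def_Disp2

/-!
# helper8: rigidity of display homomorphisms over a square-zero thickening killed by `p` (Zink)

* `flat`, `flat_inner`, `Uop`, `exists_flat_iter`: the operator `U ω = Ṽ^# ∘ (1 ⊗ ω) ∘ V^#` and the formula
  `U^(k+1) ω = (Ṽ^(k+1))^# ∘ (1 ⊗ ω) ∘ V^{(k+1)#}`.
* coordinates `f ∘ g = id` on a finite projective module, `Nc g 𝔞` (coordinates in `W(𝔞)`), the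
  Frobenius-semilinear `Vt` on `Nc` extending `V⁻¹` (`Vt_eq_Vinv`), `(I + pW) Nc = 0`.
* `rigid_sqzero`: a homomorphism of 3n-displays `D → D'` with `D` a display and values in `W(𝔞) P'`
  vanishes, when `𝔞² = 0 = p𝔞`.
-/

set_option autoImplicit false
universe u v w
open Dieu WittVector W4c1extbt610

namespace Groth.Agent.Lib.T2H8.DispRigid
open Groth.Agent.Lib.Helper14.Disp Groth.Agent.Lib.T2H8.WittSqZero

section general
variable {A : Type u} [CommRing A] {P : Type v} [AddCommGroup P] [Module A P]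
variable {N : Type w} [AddCommGroup N] [Module A N]

/-- `b ⊗ y ↦ b • G (ω y)`. -/
noncomputable def flat (τ : A →+* A) (G : N →ₛₗ[τ] N) (ω : P →ₗ[A] N) : BC τ P →ₗ[A] N :=
  (BC.lift τ G).comp (BC.map τ ω)

theorem flat_tmul (τ : A →+* A) (G : N →ₛₗ[τ] N) (ω : P →ₗ[A] N) (b : A) (y : P) :
    flat τ G ω (BC.tmul τ b y) = b • G (ω y) := by
  rw [flat, LinearMap.comp_apply, BC.map_tmul, BC.lift_tmul]

theorem flat_push (τ ρ : A →+* A) (G : N →ₛₗ[ρ] N) (V : N →ₛₗ[τ] N) (VG : N →ₛₗ[τ.comp ρ] N)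
    (hVG : ∀ n, VG n = V (G n)) (ω : P →ₗ[A] N) (v : BC ρ P) :
    flat (τ.comp ρ) VG ω (BC.push ρ τ v) = V (flat ρ G ω v) := by
  induction v using BC.induction_on ρ with
  | zero => rw [map_zero, map_zero, map_zero, map_zero]
  | tmul c y =>
    rw [BC.push_tmul, flat_tmul, flat_tmul, hVG, V.map_smulₛₗ]
  | add z₁ z₂ h₁ h₂ => rw [map_add, map_add, map_add, map_add, h₁, h₂]

theorem flat_inner (τ ρ : A →+* A) (ψ : P →ₗ[A] BC ρ P) (G : N →ₛₗ[ρ] N) (V : N →ₛₗ[τ] N)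
    (VG : N →ₛₗ[τ.comp ρ] N) (hVG : ∀ n, VG n = V (G n)) (ω : P →ₗ[A] N) (z : BC τ P) :
    flat (τ.comp ρ) VG ω (inner τ ρ ψ z) = flat τ V ((flat ρ G ω).comp ψ) z := by
  induction z using BC.induction_on τ with
  | zero => rw [map_zero, map_zero, map_zero]
  | tmul b y =>
    rw [inner_tmul, map_smul, flat_push τ ρ G V VG hVG, flat_tmul, LinearMap.comp_apply]
  | add z₁ z₂ h₁ h₂ => rw [map_add, map_add, map_add, h₁, h₂]

variable (σ : A →+* A)

/-- the operator `ω ↦ Ṽ^# ∘ (1 ⊗ ω) ∘ V^#`. -/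
noncomputable def Uop (Vs : P →ₗ[A] BC σ P) (Vt : N →ₛₗ[σ] N) (ω : P →ₗ[A] N) : P →ₗ[A] N :=
  (flat σ Vt ω).comp Vs

theorem exists_flat_iter (Vs : P →ₗ[A] BC σ P) (Vt : N →ₛₗ[σ] N) (k : ℕ) :
    ∃ G : N →ₛₗ[τ σ k] N, ∀ (ω : P →ₗ[A] N) (x : P),
      flat (τ σ k) G ω (iter σ Vs k x) = ((Uop σ Vs Vt)^[k + 1] ω) x := by
  induction k with
  | zero =>
    exact ⟨Vt, fun ω x => rfl⟩
  | succ k ih =>
    obtain ⟨G, hG⟩ := ih
    let VG : N →ₛₗ[σ.comp (τ σ k)] N :=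
      { toFun := fun n => Vt (G n)
        map_add' := fun a b => by rw [map_add, map_add]
        map_smul' := fun c n => by rw [G.map_smulₛₗ, Vt.map_smulₛₗ]; rfl }
    refine ⟨VG, fun ω x => ?_⟩
    change flat (σ.comp (τ σ k)) VG ω (inner σ (τ σ k) (iter σ Vs k) (Vs x)) = _
    rw [flat_inner σ (τ σ k) (iter σ Vs k) G Vt VG (fun n => rfl)]
    have h1 : (flat (τ σ k) G ω).comp (iter σ Vs k) = (Uop σ Vs Vt)^[k + 1] ω := by
      ext y; exact hG ω y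
    rw [h1, Function.iterate_succ_apply' (Uop σ Vs Vt) (k + 1) ω]
    rfl

end general


variable {p : ℕ} [hp : Fact p.Prime] {S : Type u} [CommRing S]
variable {P' : Type v} [AddCommGroup P'] [Module (WittVector p S) P']

local notation "σ" => (WittVector.frobenius : WittVector p S →+* WittVector p S)

/-- the ideal of Teichmüller representatives of a square-zero ideal. -/
noncomputable def TI (𝔞 : Ideal S) (h2 : ∀ a ∈ 𝔞, ∀ b ∈ 𝔞, a * b = 0) : Ideal (WittVector p S) where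
  carrier := {x | ∃ c ∈ 𝔞, x = teichmuller p c}
  zero_mem' := ⟨0, 𝔞.zero_mem, (teichmuller_zero p).symm⟩
  add_mem' := by
    rintro _ _ ⟨c, hc, rfl⟩ ⟨d, hd, rfl⟩
    exact ⟨c + d, 𝔞.add_mem hc hd, (teich_add_mem 𝔞 h2 hc hd).symm⟩
  smul_mem' := by
    rintro w _ ⟨c, hc, rfl⟩
    exact ⟨w.coeff 0 * c, 𝔞.mul_mem_left _ hc, by rw [smul_eq_mul, mul_teich 𝔞 h2 w hc]⟩

theorem teich_mem_TI (𝔞 : Ideal S) (h2 : ∀ a ∈ 𝔞, ∀ b ∈ 𝔞, a * b = 0) {c : S} (hc : c ∈ 𝔞) :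
    teichmuller p c ∈ TI (p := p) 𝔞 h2 := ⟨c, hc, rfl⟩

theorem eq_zero_of_mem_TI_of_mem_IV (𝔞 : Ideal S) (h2 : ∀ a ∈ 𝔞, ∀ b ∈ 𝔞, a * b = 0)
    {x : WittVector p S} (hx : x ∈ TI (p := p) 𝔞 h2) (hx' : x ∈ IV p S) : x = 0 := by
  obtain ⟨c, _, rfl⟩ := hx
  have := coeff_zero_of_mem_IV hx'
  rw [teichmuller_coeff_zero] at this
  rw [this, teichmuller_zero]

/-- the standard basis vectors of `W^m`. -/
noncomputable def eb {m : ℕ} (i : Fin m) : Fin m → WittVector p S := fun j => if i = j then 1 else 0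

section coords
variable {m : ℕ} (f : (Fin m → WittVector p S) →ₗ[WittVector p S] P')
  (g : P' →ₗ[WittVector p S] (Fin m → WittVector p S)) (hfg : f ∘ₗ g = LinearMap.id)

include hfg in
theorem eq_sum_coords (x : P') : x = ∑ i, g x i • f (eb i) := by
  have h1 : f (g x) = x := LinearMap.congr_fun hfg x
  conv_lhs => rw [← h1, LinearMap.pi_apply_eq_sum_univ f (g x)]
  rfl

/-- elements whose coordinates lie in `W(𝔞)`. -/
noncomputable def Nc (𝔞 : Ideal S) : Submodule (WittVector p S) P' where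
  carrier := {x | ∀ i, g x i ∈ WI (p := p) 𝔞}
  zero_mem' := fun i => by rw [map_zero]; exact (WI 𝔞).zero_mem
  add_mem' := fun hx hy i => by rw [map_add]; exact (WI 𝔞).add_mem (hx i) (hy i)
  smul_mem' := fun c x hx i => by
    rw [map_smul]; exact (WI 𝔞).mul_mem_left c (hx i)

theorem smul_mem_Nc (𝔞 : Ideal S) {a : WittVector p S} (ha : a ∈ WI (p := p) 𝔞) (y : P') :
    a • y ∈ Nc g 𝔞 := fun i => by
  rw [map_smul]; exact (WI 𝔞).mul_mem_right _ ha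

theorem WI_smul_top_le (𝔞 : Ideal S) : WI (p := p) 𝔞 • (⊤ : Submodule (WittVector p S) P') ≤ Nc g 𝔞 := by
  rw [Submodule.smul_le]
  intro a ha y _
  exact smul_mem_Nc g 𝔞 ha y

variable (𝔞 : Ideal S) (h2 : ∀ a ∈ 𝔞, ∀ b ∈ 𝔞, a * b = 0) (hp𝔞 : ∀ a ∈ 𝔞, (p : S) * a = 0)

include hfg h2 hp𝔞 in
theorem p_smul_Nc {n : P'} (hn : n ∈ Nc g 𝔞) : (p : WittVector p S) • n = 0 := by
  rw [eq_sum_coords f g hfg n, Finset.smul_sum]
  refine Finset.sum_eq_zero fun i _ => ?_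
  rw [smul_smul, p_mul 𝔞 h2 hp𝔞 (hn i), zero_smul]

include hfg h2 hp𝔞 in
theorem IV_smul_Nc {c : WittVector p S} (hc : c ∈ IV p S) {n : P'} (hn : n ∈ Nc g 𝔞) : c • n = 0 := by
  rw [eq_sum_coords f g hfg n, Finset.smul_sum]
  refine Finset.sum_eq_zero fun i _ => ?_
  rw [smul_smul, eq_V_sh_of_coeff_zero (coeff_zero_of_mem_IV hc), V_mul 𝔞 h2 hp𝔞 (hn i), zero_smul]

include hfg h2 hp𝔞 in
theorem sup_smul_Nc {c : WittVector p S} (hc : c ∈ IV p S ⊔ Ideal.span {(p : WittVector p S)})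
    {n : P'} (hn : n ∈ Nc g 𝔞) : c • n = 0 := by
  obtain ⟨c₁, hc₁, c₂, hc₂, rfl⟩ := Submodule.mem_sup.1 hc
  obtain ⟨d, rfl⟩ := Ideal.mem_span_singleton'.1 hc₂
  rw [add_smul, IV_smul_Nc f g hfg 𝔞 h2 hp𝔞 hc₁ hn, mul_smul, p_smul_Nc f g hfg 𝔞 h2 hp𝔞 hn,
    smul_zero, add_zero]

variable (D' : Display3n p S P')

/-- the extension `Ṽ` of `V⁻¹` to `N`: `n ↦ ∑ sh(nᵢ) F(eᵢ)`. -/
noncomputable def Vt : Nc g 𝔞 →ₛₗ[σ] P' where
  toFun n := ∑ i, sh (g n i) • D'.F (f (eb i))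
  map_add' a b := by
    rw [← Finset.sum_add_distrib]
    refine Finset.sum_congr rfl fun i _ => ?_
    rw [Submodule.coe_add, map_add, Pi.add_apply, sh_add 𝔞 h2 (a.2 i) (b.2 i), add_smul]
  map_smul' c a := by
    rw [Finset.smul_sum]
    refine Finset.sum_congr rfl fun i _ => ?_
    rw [Submodule.coe_smul, map_smul, Pi.smul_apply, smul_eq_mul, sh_mul 𝔞 h2 c (a.2 i), mul_smul]

theorem Vt_apply (n : Nc g 𝔞) :
    Vt f g 𝔞 h2 D' n = ∑ i, sh (g n i) • D'.F (f (eb i)) := rfl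

theorem Vt_mem (n : Nc g 𝔞) : Vt f g 𝔞 h2 D' n ∈ Nc g 𝔞 := by
  rw [Vt_apply]
  exact Submodule.sum_mem _ fun i _ => smul_mem_Nc g 𝔞 (sh_mem_WI (n.2 i)) _

include hfg hp𝔞 in
theorem Vt_eq_Vinv (L T : Submodule (WittVector p S) P') (hLT : IsCompl L T)
    (hQ : D'.Q = L ⊔ IV p S • T) (n : Nc g 𝔞) (hn : (n : P') ∈ D'.Q) :
    D'.Vinv ⟨n, hn⟩ = Vt f g 𝔞 h2 D' n := by
  have hL : L ≤ D'.Q := hQ ▸ le_sup_left
  have hdec : ∀ i : Fin m, ∃ l ∈ L, ∃ t ∈ T, l + t = f (eb i) := fun i =>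
    Submodule.mem_sup.1 (hLT.sup_eq_top ▸ Submodule.mem_top)
  choose l hl t ht hlt using hdec
  have hc : ∀ i, (g n i).coeff 0 ∈ 𝔞 := fun i => mem_WI.1 (n.2 i) 0
  have hgn : ∀ i, g n i = teichmuller p ((g n i).coeff 0) + verschiebung (sh (g n i)) :=
    fun i => eq_teich_add_V _
  let qa : D'.Q := ∑ i, teichmuller p ((g n i).coeff 0) • (⟨l i, hL (hl i)⟩ : D'.Q)
  let q2 : D'.Q := ∑ i, (⟨verschiebung (sh (g n i)) • f (eb i),
    D'.IV_smul_le (Submodule.smul_mem_smul (verschiebung_mem_IV p S _) Submodule.mem_top)⟩ : D'.Q)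
  let z : P' := ∑ i, teichmuller p ((g n i).coeff 0) • t i
  have hsum : (n : P') = (qa : P') + z + (q2 : P') := by
    conv_lhs => rw [eq_sum_coords f g hfg (n : P')]
    simp only [qa, q2, z, AddSubmonoidClass.coe_finset_sum, Submodule.coe_smul,
      ← Finset.sum_add_distrib]
    refine Finset.sum_congr rfl fun i _ => ?_
    conv_lhs => rw [hgn i, add_smul, ← hlt i, smul_add]
    rw [hlt i]
  have hzQ : z ∈ D'.Q := by
    have : z = (n : P') - qa - q2 := by rw [hsum]; abel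
    rw [this]; exact D'.Q.sub_mem (D'.Q.sub_mem hn qa.2) q2.2
  have hzT : z ∈ T := Submodule.sum_mem _ fun i _ => T.smul_mem _ (ht i)
  have hzIT : z ∈ IV p S • T := by
    rw [hQ] at hzQ
    obtain ⟨a, ha, b, hb, hab⟩ := Submodule.mem_sup.1 hzQ
    have hbT : b ∈ T := (Submodule.smul_le.2 (fun r _ n hn => T.smul_mem r hn) :
      IV p S • T ≤ T) hb
    have haz : a = z - b := by rw [← hab]; abel
    have haT : a ∈ T := haz ▸ T.sub_mem hzT hbT
    have ha0 : a = 0 := (Submodule.disjoint_def.1 hLT.disjoint) a ha haT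
    rw [← hab, ha0, zero_add]; exact hb
  have hz0 : z = 0 := by
    have h1 : ∀ j, g z j ∈ TI (p := p) 𝔞 h2 := by
      intro j
      simp only [z, map_sum, map_smul, Finset.sum_apply, Pi.smul_apply, smul_eq_mul]
      exact Ideal.sum_mem _ fun i _ => Ideal.mul_mem_right _ _ (teich_mem_TI 𝔞 h2 (hc i))
    have h2' : ∀ j, g z j ∈ IV p S := by
      intro j
      refine Submodule.smul_induction_on (p := fun x => g x j ∈ IV p S) hzIT ?_ ?_
      · intro r hr x _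
        rw [map_smul]; exact Ideal.mul_mem_right _ _ hr
      · intro x y hx hy
        rw [map_add]; exact Ideal.add_mem _ hx hy
    have h3 : g z = 0 := funext fun j => eq_zero_of_mem_TI_of_mem_IV 𝔞 h2 (h1 j) (h2' j)
    have h4 : f (g z) = z := LinearMap.congr_fun hfg z
    rw [← h4, h3, map_zero]
  have hnq : (⟨n, hn⟩ : D'.Q) = qa + q2 := Subtype.ext (by
    change (n : P') = (qa : P') + (q2 : P')
    rw [hsum, hz0, add_zero])
  rw [hnq, map_add]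
  have hqa : D'.Vinv qa = 0 := by
    simp only [qa, map_sum]
    refine Finset.sum_eq_zero fun i _ => ?_
    rw [D'.Vinv.map_smulₛₗ, frobenius_teich_eq_zero 𝔞 h2 (hc i), zero_smul]
  have hq2 : D'.Vinv q2 = Vt f g 𝔞 h2 D' n := by
    simp only [q2, map_sum, Vt_apply]
    refine Finset.sum_congr rfl fun i _ => ?_
    exact D'.Vinv_verschiebung_smul (sh (g n i)) (f (eb i))
  rw [hqa, hq2, zero_add]

end coords


section main
variable {P : Type v} [AddCommGroup P] [Module (WittVector p S) P]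

/-- rigidity over a square-zero thickening killed by `p`. -/
theorem rigid_sqzero (𝔞 : Ideal S) (h2 : ∀ a ∈ 𝔞, ∀ b ∈ 𝔞, a * b = 0)
    (hp𝔞 : ∀ a ∈ 𝔞, (p : S) * a = 0)
    (D : Display3n p S P) (D' : Display3n p S P') (hD : IsDisplay D)
    (u : P →ₗ[WittVector p S] P') (hu : IsHom D D' u)
    (hN : ∀ x, u x ∈ WI (p := p) 𝔞 • (⊤ : Submodule (WittVector p S) P')) : u = 0 := by
  haveI := D'.finite
  haveI := D'.projective
  obtain ⟨m, f, g, -, -, hfg⟩ := Module.Finite.exists_comp_eq_id_of_projective (WittVector p S) P'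
  obtain ⟨L, T, hLT, hQ⟩ := D'.exists_normal
  obtain ⟨Vs, hVs, k, hk⟩ := hD
  have huN : ∀ x, u x ∈ Nc g 𝔞 := fun x => WI_smul_top_le g 𝔞 (hN x)
  let uN : P →ₗ[WittVector p S] Nc g 𝔞 := u.codRestrict (Nc g 𝔞) huN
  let VtN : Nc g 𝔞 →ₛₗ[σ] Nc g 𝔞 :=
    (Vt f g 𝔞 h2 D').codRestrict (Nc g 𝔞) (Vt_mem f g 𝔞 h2 D')
  have hfix : Uop σ Vs VtN uN = uN := by
    refine LinearMap.ext_on D.span_range_Vinv ?_
    rintro _ ⟨q, rfl⟩
    have h1 := hVs.app_smul_Vinv 1 q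
    rw [one_smul] at h1
    apply Subtype.ext
    change ((flat σ VtN uN) (Vs (D.Vinv q)) : P') = u (D.Vinv q)
    rw [h1, flat_tmul, one_smul, hu.comm_Vinv q]
    exact (Vt_eq_Vinv f g hfg 𝔞 h2 hp𝔞 D' L T hLT hQ (uN q) (hu.mapsTo q q.2)).symm
  obtain ⟨G, hG⟩ := exists_flat_iter σ Vs VtN k
  have hiter : ∀ x, iter σ Vs k x ∈ (IV p S ⊔ Ideal.span {(p : WittVector p S)}) •
      (⊤ : Submodule (WittVector p S) (BC (τ σ k) P)) := by
    intro x
    have := hk x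
    rw [vSharpPow_eq_iter, castHom_mem_smul_top_iff] at this
    exact this
  have hzero : ∀ z ∈ (IV p S ⊔ Ideal.span {(p : WittVector p S)}) •
      (⊤ : Submodule (WittVector p S) (BC (τ σ k) P)), flat (τ σ k) G uN z = 0 := by
    intro z hz
    refine Submodule.smul_induction_on hz ?_ ?_
    · intro c hc z' _
      rw [map_smul]
      apply Subtype.ext
      exact sup_smul_Nc f g hfg 𝔞 h2 hp𝔞 hc (flat (τ σ k) G uN z').2
    · intro x y hx hy
      rw [map_add, hx, hy, add_zero]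
  ext x
  have h1 := hG uN x
  rw [Function.iterate_fixed hfix, hzero _ (hiter x)] at h1
  exact (congrArg Subtype.val h1).symm

end main

end Groth.Agent.Lib.T2H8.DispRigid
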