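import Groth.Agent.Lib.T2H8DispRigidA
import Groth.Agent.S16540
import Groth.Agent.S16538

/-!
# helper8: rigidity of display homomorphisms along a nilpotent thickening (Zink, Prop. 40, first half)

* `isUnit_prime_of_isNilpotent`, `bcQuotMap_map`, `isHom_map` (base change of a homomorphism of 3n-displays
  is a homomorphism), `mem_of_tmul_one_eq_zero` (kernel of `P' → W(R) ⊗ P'`), `map_mem_WI_smul_top`.
* `rigid_step` (dévissage step along `tower p 𝔞 j`), `rigid`.
-/

set_option autoImplicit false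
universe u v
open Dieu WittVector W4c1extbt610

namespace Groth.Agent.Lib.T2H8.DispRigid
open Groth.Agent.Lib.Helper14.Disp Groth.Agent.Lib.T2H8.WittSqZero

theorem isUnit_prime_of_isNilpotent {p : ℕ} {S : Type u} [CommRing S] (hp : p.Prime)
    (hpS : IsNilpotent (p : S)) (ℓ : ℕ) (hℓ : ℓ.Prime) (hne : ℓ ≠ p) : IsUnit (ℓ : S) := by
  obtain ⟨n, hn⟩ := hpS
  have hcop : Nat.Coprime ℓ (p ^ n) := Nat.Coprime.pow_right n ((Nat.coprime_primes hℓ hp).2 hne)
  have hcop' : IsCoprime (ℓ : ℤ) ((p ^ n : ℕ) : ℤ) := Nat.isCoprime_iff_coprime.2 hcop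
  obtain ⟨a, b, hab⟩ := hcop'
  have h1 := congrArg (Int.cast : ℤ → S) hab
  push_cast at h1
  rw [hn, mul_zero, add_zero] at h1
  exact IsUnit.of_mul_eq_one _ (by rw [mul_comm]; exact h1)

section bc
variable {p : ℕ} [hp : Fact p.Prime] {S R : Type u} [CommRing S] [CommRing R] (f : S →+* R)
variable {P P' : Type v} [AddCommGroup P] [Module (WittVector p S) P]
  [AddCommGroup P'] [Module (WittVector p S) P']

local notation "φ" => (WittVector.map f : WittVector p S →+* WittVector p R)

theorem bcQuotMap_map (Q : Submodule (WittVector p S) P) (Q' : Submodule (WittVector p S) P')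
    (ψ : P →ₗ[WittVector p S] P') (h : Q ≤ Q'.comap ψ) (z : BC φ P) :
    bcQuotMap f Q' (BC.map φ ψ z) =
      BC.map ((WittVector.constantCoeff : WittVector p R →+* R).comp φ) (Submodule.mapQ Q Q' ψ h)
        (bcQuotMap f Q z) := by
  induction z using BC.induction_on φ with
  | zero => rw [map_zero, map_zero, map_zero, map_zero]
  | tmul b x =>
    rw [BC.map_tmul, bcQuotMap_tmul, bcQuotMap_tmul, BC.map_tmul]
    rfl
  | add z₁ z₂ h₁ h₂ => rw [map_add, map_add, map_add, map_add, h₁, h₂]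

/-- base change of a homomorphism of 3n-displays is a homomorphism. -/
theorem isHom_map (D : Display3n p S P) (D' : Display3n p S P')
    (DR : Display3n p R (BC φ P)) (hDR : IsDispBaseChange f D DR)
    (DR' : Display3n p R (BC φ P')) (hDR' : IsDispBaseChange f D' DR')
    (ψ : P →ₗ[WittVector p S] P') (hψ : IsHom D D' ψ) : IsHom DR DR' (BC.map φ ψ) := by
  have hmaps : ∀ q : BC φ P, q ∈ DR.Q → BC.map φ ψ q ∈ DR'.Q := by
    intro q hq
    rw [hDR.Q_eq, LinearMap.mem_ker] at hq
    rw [hDR'.Q_eq, LinearMap.mem_ker, bcQuotMap_map f D.Q D'.Q ψ (fun x hx => hψ.mapsTo x hx), hq,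
      map_zero]
  refine ⟨hmaps, ?_, ?_⟩
  · intro z
    induction z using BC.induction_on φ with
    | zero => rw [map_zero, map_zero, map_zero]
    | tmul b x =>
      rw [hDR.F_tmul, BC.map_tmul, BC.map_tmul, hDR'.F_tmul, hψ.comm_F]
    | add z₁ z₂ h₁ h₂ => rw [map_add, map_add, map_add, map_add, h₁, h₂]
  · have hcl : AddSubgroup.closure (Groth.Agent.S16540.gens f D.Q) ≤ DR.Q.toAddSubgroup :=
      (AddSubgroup.closure_le _).2 (Groth.Agent.S16540.gens_subset f D DR hDR)
    have key : ∀ (t : BC φ P) (ht : t ∈ AddSubgroup.closure (Groth.Agent.S16540.gens f D.Q)),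
        BC.map φ ψ (DR.Vinv ⟨t, hcl ht⟩) = DR'.Vinv ⟨BC.map φ ψ t, hmaps t (hcl ht)⟩ := by
      intro t ht
      induction ht using AddSubgroup.closure_induction with
      | mem t ht =>
        rcases ht with ⟨w, y, hy, rfl⟩ | ⟨w, x, rfl⟩
        · rw [hDR.Vinv_tmul w ⟨y, hy⟩, BC.map_tmul, hψ.comm_Vinv ⟨y, hy⟩]
          have h1 : BC.tmul φ w (ψ y) ∈ DR'.Q := by
            have := hmaps _ (hcl (AddSubgroup.subset_closure (Or.inl ⟨w, y, hy, rfl⟩)))
            rwa [BC.map_tmul] at this
          rw [← hDR'.Vinv_tmul w ⟨ψ y, hψ.mapsTo y hy⟩ h1]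
          exact congrArg DR'.Vinv (Subtype.ext (BC.map_tmul _ _ _ _).symm)
        · rw [hDR.Vinv_verschiebung_tmul w x, BC.map_tmul, hψ.comm_F]
          have h1 : BC.tmul φ (verschiebung w) (ψ x) ∈ DR'.Q := by
            have := hmaps _ (hcl (AddSubgroup.subset_closure (Or.inr ⟨w, x, rfl⟩)))
            rwa [BC.map_tmul] at this
          rw [← hDR'.Vinv_verschiebung_tmul w (ψ x) h1]
          exact congrArg DR'.Vinv (Subtype.ext (BC.map_tmul _ _ _ _).symm)
      | zero =>
        have h0 : (⟨0, hcl (AddSubgroup.zero_mem _)⟩ : DR.Q) = 0 := rfl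
        have h0' : (⟨BC.map φ ψ 0, hmaps 0 (hcl (AddSubgroup.zero_mem _))⟩ : DR'.Q) = 0 :=
          Subtype.ext (map_zero _)
        rw [h0, h0', map_zero, map_zero, map_zero]
      | add a b ha hb iha ihb =>
        have h1 : (⟨a + b, hcl (AddSubgroup.add_mem _ ha hb)⟩ : DR.Q) =
            ⟨a, hcl ha⟩ + ⟨b, hcl hb⟩ := rfl
        have h2 : (⟨BC.map φ ψ (a + b), hmaps _ (hcl (AddSubgroup.add_mem _ ha hb))⟩ : DR'.Q) =
            ⟨BC.map φ ψ a, hmaps a (hcl ha)⟩ + ⟨BC.map φ ψ b, hmaps b (hcl hb)⟩ :=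
          Subtype.ext (map_add _ _ _)
        rw [h1, h2, map_add, map_add, map_add, iha, ihb]
      | neg a ha iha =>
        have h1 : (⟨-a, hcl (AddSubgroup.neg_mem _ ha)⟩ : DR.Q) = -⟨a, hcl ha⟩ := rfl
        have h2 : (⟨BC.map φ ψ (-a), hmaps _ (hcl (AddSubgroup.neg_mem _ ha))⟩ : DR'.Q) =
            -⟨BC.map φ ψ a, hmaps a (hcl ha)⟩ := Subtype.ext (map_neg _ _)
        rw [h1, h2, map_neg, map_neg, map_neg, iha]
    intro q
    have hq : (q : BC φ P) ∈ AddSubgroup.closure (Groth.Agent.S16540.gens f D.Q) := by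
      apply Groth.Agent.S16540.mem_closure_gens
      have h3 : (q : BC φ P) ∈ LinearMap.ker (bcQuotMap f D.Q) := hDR.Q_eq ▸ q.2
      exact LinearMap.mem_ker.1 h3
    exact key q hq


/-- the kernel of `P' → W(R) ⊗ P'` lies in `W(ker f) P'` (finite projective `P'`). -/
theorem mem_of_tmul_one_eq_zero [Module.Finite (WittVector p S) P']
    [Module.Projective (WittVector p S) P'] (x : P') (hx : BC.tmul φ 1 x = 0) :
    x ∈ WI (p := p) (RingHom.ker f) • (⊤ : Submodule (WittVector p S) P') := by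
  obtain ⟨m, f', g, -, -, hfg⟩ :=
    Module.Finite.exists_comp_eq_id_of_projective (WittVector p S) P'
  rw [eq_sum_coords f' g hfg x]
  refine Submodule.sum_mem _ fun i _ => Submodule.smul_mem_smul ?_ Submodule.mem_top
  rw [← mem_ker_map_iff, RingHom.mem_ker]
  let lam : P' →ₛₗ[φ] WittVector p R :=
    (semilinearOfRingHom φ).comp ((LinearMap.proj i).comp g)
  have h1 := congrArg (BC.lift φ lam) hx
  rw [BC.lift_tmul, one_smul, map_zero] at h1
  exact h1

/-- values in `W(𝔟) P'` are preserved by base change. -/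
theorem map_mem_WI_smul_top (𝔟 : Ideal S) (u : P →ₗ[WittVector p S] P')
    (hu : ∀ x, u x ∈ WI (p := p) 𝔟 • (⊤ : Submodule (WittVector p S) P')) (z : BC φ P) :
    BC.map φ u z ∈ WI (p := p) (𝔟.map f) • (⊤ : Submodule (WittVector p R) (BC φ P')) := by
  have key : ∀ (w : WittVector p R) (y : P'),
      y ∈ WI (p := p) 𝔟 • (⊤ : Submodule (WittVector p S) P') →
      BC.tmul φ w y ∈ WI (p := p) (𝔟.map f) • (⊤ : Submodule (WittVector p R) (BC φ P')) := by
    intro w y hy
    refine Submodule.smul_induction_on hy ?_ ?_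
    · intro a ha y' _
      rw [← BC.tmul_mul_apply, mul_comm, ← BC.smul_tmul]
      exact Submodule.smul_mem_smul (map_mem_WI f ha) Submodule.mem_top
    · intro y₁ y₂ h₁ h₂
      rw [BC.tmul_add]
      exact Submodule.add_mem _ h₁ h₂
  induction z using BC.induction_on φ with
  | zero => rw [map_zero]; exact Submodule.zero_mem _
  | tmul b x => rw [BC.map_tmul]; exact key b (u x) (hu x)
  | add z₁ z₂ h₁ h₂ => rw [map_add]; exact Submodule.add_mem _ h₁ h₂

end bc

section devissage
variable {p : ℕ} [hp : Fact p.Prime] {S : Type u} [CommRing S]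
variable {P P' : Type v} [AddCommGroup P] [Module (WittVector p S) P]
  [AddCommGroup P'] [Module (WittVector p S) P']

theorem rigid_step (hpS : IsNilpotent (p : S)) (𝔞 : Ideal S) (j : ℕ)
    (D : Display3n p S P) (D' : Display3n p S P') (hD : IsDisplay D)
    (u : P →ₗ[WittVector p S] P') (hu : IsHom D D' u)
    (hN : ∀ x, u x ∈ WI (p := p) (tower p 𝔞 j) • (⊤ : Submodule (WittVector p S) P')) :
    ∀ x, u x ∈ WI (p := p) (tower p 𝔞 (j + 1)) • (⊤ : Submodule (WittVector p S) P') := by
  have hS := isUnit_prime_of_isNilpotent hp.out hpS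
  set π : S →+* S ⧸ tower p 𝔞 (j + 1) := Ideal.Quotient.mk (tower p 𝔞 (j + 1)) with hπ
  obtain ⟨DR, hDR, -⟩ := Groth.Agent.S16538.result p S (S ⧸ tower p 𝔞 (j + 1)) hS π P D
  obtain ⟨DR', hDR', -⟩ := Groth.Agent.S16538.result p S (S ⧸ tower p 𝔞 (j + 1)) hS π P' D'
  have hDRd : IsDisplay DR := Groth.Agent.S16540.result p S _ hpS π P D hD DR hDR
  have hhom := isHom_map π D D' DR hDR DR' hDR' u hu
  have hzero : BC.map (WittVector.map π : WittVector p S →+* WittVector p _) u = 0 :=
    rigid_sqzero ((tower p 𝔞 j).map π) (map_mk_sq (tower_sq_le p 𝔞 j))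
      (map_mk_p (p_mul_tower p 𝔞 j)) DR DR' hDRd _ hhom
      (map_mem_WI_smul_top π (tower p 𝔞 j) u hN)
  intro x
  haveI := D'.finite
  haveI := D'.projective
  have h1 : BC.tmul (WittVector.map π : WittVector p S →+* WittVector p _) 1 (u x) = 0 := by
    have := LinearMap.congr_fun hzero (BC.tmul _ 1 x)
    rwa [BC.map_tmul, LinearMap.zero_apply] at this
  have h2 := mem_of_tmul_one_eq_zero π (u x) h1
  rwa [hπ, Ideal.mk_ker] at h2

/-- rigidity: a homomorphism of displays which vanishes after base change along a ring map with nilpotent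
kernel vanishes. -/
theorem rigid {R : Type u} [CommRing R] (f : S →+* R) (hpS : IsNilpotent (p : S))
    (hker : IsNilpotent (RingHom.ker f))
    (D : Display3n p S P) (D' : Display3n p S P') (hD : IsDisplay D)
    (u : P →ₗ[WittVector p S] P') (hu : IsHom D D' u)
    (h0 : BC.map (WittVector.map f : WittVector p S →+* WittVector p R) u = 0) : u = 0 := by
  haveI := D'.finite
  haveI := D'.projective
  have hall : ∀ j, ∀ x, u x ∈ WI (p := p) (tower p (RingHom.ker f) j) •
      (⊤ : Submodule (WittVector p S) P') := by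
    intro j
    induction j with
    | zero =>
      intro x
      rw [tower_zero]
      apply mem_of_tmul_one_eq_zero f
      have := LinearMap.congr_fun h0 (BC.tmul _ 1 x)
      rwa [BC.map_tmul, LinearMap.zero_apply] at this
    | succ j ih => exact rigid_step hpS _ j D D' hD u hu ih
  obtain ⟨k, hk⟩ := tower_eq_bot (p := p) (RingHom.ker f) hker hpS
  ext x
  have := hall k x
  rw [hk, WI_bot, Submodule.bot_smul] at this
  exact (Submodule.mem_bot _).1 this

end devissage


end Groth.Agent.Lib.T2H8.DispRigid
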