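import Groth.Agent.Lib.T2H8DispRigidB

/-!
# helper8: the group of homomorphisms of displays has no `p`-torsion (nilradical nilpotent)

`witt_p_torsionFree` (reduced ring with `p = 0`), `eq_zero_of_smul_eq_zero_of_projective`,
`hom_p_torsionFree`.
-/

set_option autoImplicit false
universe u v
open Dieu WittVector W4c1extbt610

namespace Groth.Agent.Lib.T2H8.DispRigid
open Groth.Agent.Lib.Helper14.Disp Groth.Agent.Lib.T2H8.WittSqZero

section reduced
variable {p : ℕ} [hp : Fact p.Prime] {R : Type u} [CommRing R]

theorem charP_of_natCast_eq_zero [Nontrivial R] (h : (p : R) = 0) : CharP R p := by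
  obtain ⟨q, hq⟩ := CharP.exists R
  have hdvd : q ∣ p := (CharP.cast_eq_zero_iff R q p).1 h
  rcases (Nat.dvd_prime hp.out).1 hdvd with h1 | h1
  · exact absurd h1 (CharP.char_ne_one R q)
  · exact h1 ▸ hq

/-- `W(R)` has no `p`-torsion for a reduced ring `R` with `p = 0`. -/
theorem witt_p_torsionFree [IsReduced R] (h : (p : R) = 0) (x : WittVector p R)
    (hx : (p : WittVector p R) * x = 0) : x = 0 := by
  rcases subsingleton_or_nontrivial R with hs | hn
  · ext n; exact Subsingleton.elim _ _
  · haveI := charP_of_natCast_eq_zero (p := p) h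
    rw [mul_comm, ← verschiebung_frobenius] at hx
    have h1 : frobenius x = 0 := verschiebung_injective p R (hx.trans (map_zero _).symm)
    rw [frobenius_eq_map_frobenius] at h1
    exact WittVector.map_injective _ (frobenius_inj R p) (h1.trans (map_zero _).symm)

end reduced

section tf
variable {A : Type u} [CommRing A] {M : Type v} [AddCommGroup M] [Module A M]

theorem eq_zero_of_smul_eq_zero_of_projective [Module.Finite A M] [Module.Projective A M] (c : A)
    (hc : ∀ a : A, c * a = 0 → a = 0) (y : M) (hy : c • y = 0) : y = 0 := by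
  obtain ⟨m, f, g, -, -, hfg⟩ := Module.Finite.exists_comp_eq_id_of_projective A M
  have h1 : g y = 0 := by
    funext i
    apply hc
    have := congrFun (congrArg g hy) i
    rwa [map_smul, map_zero, Pi.smul_apply, smul_eq_mul] at this
  have h2 : f (g y) = y := LinearMap.congr_fun hfg y
  rw [← h2, h1, map_zero]

end tf

section main
variable {p : ℕ} [hp : Fact p.Prime] {S : Type u} [CommRing S]
variable {P P' : Type v} [AddCommGroup P] [Module (WittVector p S) P]
  [AddCommGroup P'] [Module (WittVector p S) P']

theorem hom_p_torsionFree (hpS : IsNilpotent (p : S)) (hn : IsNilpotent (nilradical S))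
    (D : Display3n p S P) (D' : Display3n p S P') (hD : IsDisplay D)
    (ψ : P →ₗ[WittVector p S] P') (hψ : IsHom D D' ψ)
    (h : (p : WittVector p S) • ψ = 0) : ψ = 0 := by
  set π : S →+* S ⧸ nilradical S := Ideal.Quotient.mk (nilradical S) with hπ
  have hS := isUnit_prime_of_isNilpotent hp.out hpS
  obtain ⟨DR', hDR', -⟩ := Groth.Agent.S16538.result p S (S ⧸ nilradical S) hS π P' D'
  haveI := DR'.finite
  haveI := DR'.projective
  haveI : IsReduced (S ⧸ nilradical S) :=
    (Ideal.isRadical_iff_quotient_reduced _).1 (Ideal.radical_isRadical _)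
  have hp0 : (p : S ⧸ nilradical S) = 0 := by
    rw [← map_natCast π]
    exact Ideal.Quotient.eq_zero_iff_mem.2 (mem_nilradical.2 hpS)
  refine rigid π hpS (by rw [hπ, Ideal.mk_ker]; exact hn) D D' hD ψ hψ ?_
  apply LinearMap.ext
  intro z
  rw [LinearMap.zero_apply]
  apply eq_zero_of_smul_eq_zero_of_projective (p : WittVector p (S ⧸ nilradical S))
    (witt_p_torsionFree hp0)
  induction z using BC.induction_on (WittVector.map π : WittVector p S →+* WittVector p _) with
  | zero => rw [map_zero, smul_zero]
  | tmul b x =>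
    have h1 : (p : WittVector p S) • ψ x = 0 := LinearMap.congr_fun h x
    rw [BC.map_tmul, BC.smul_tmul, mul_comm, ← map_natCast (WittVector.map π), BC.tmul_mul_apply, h1,
      BC.tmul_zero]
  | add z₁ z₂ h₁ h₂ => rw [map_add, smul_add, h₁, h₂, add_zero]

end main

end Groth.Agent.Lib.T2H8.DispRigid
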