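import Groth.Agent.Lib.T2H8DispRigidB

/-!
# helper8: lifting `p^n χ` along a nilpotent thickening (Zink, Prop. 40, second half)

`exists_linear_lift`, `pow_smul_eq_zero_of_tmul_eq_zero`, `pow_smul_mem_Q`, `exists_lift`, `isHom_sub`,
`hom_baseChange`.
-/

set_option autoImplicit false
universe u v
open Dieu WittVector W4c1extbt610

namespace Groth.Agent.Lib.T2H8.DispRigid
open Groth.Agent.Lib.Helper14.Disp Groth.Agent.Lib.T2H8.WittSqZero

section lift
variable {p : ℕ} [hp : Fact p.Prime] {S R : Type u} [CommRing S] [CommRing R] (f : S →+* R)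
variable {P P' : Type v} [AddCommGroup P] [Module (WittVector p S) P]
  [AddCommGroup P'] [Module (WittVector p S) P']

local notation "φ" => (WittVector.map f : WittVector p S →+* WittVector p R)
local notation "g₀" => (RingHom.comp (WittVector.constantCoeff : WittVector p R →+* R)
  (WittVector.map f : WittVector p S →+* WittVector p R))

theorem exists_tmul_one_eq (hf : Function.Surjective f) (z : BC φ P') :
    ∃ y : P', BC.tmul φ 1 y = z := by
  induction z using BC.induction_on φ with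
  | zero => exact ⟨0, BC.tmul_zero _ _⟩
  | tmul b x =>
    obtain ⟨a, rfl⟩ := WittVector.map_surjective f hf b
    exact ⟨a • x, (BC.tmul_apply_eq φ a x).symm⟩
  | add z₁ z₂ h₁ h₂ =>
    obtain ⟨y₁, rfl⟩ := h₁
    obtain ⟨y₂, rfl⟩ := h₂
    exact ⟨y₁ + y₂, BC.tmul_add _ _ _ _⟩

theorem tmul_one_smul (a : WittVector p S) (y : P') :
    BC.tmul φ 1 (a • y) = φ a • BC.tmul φ 1 y := by
  rw [← BC.tmul_apply_eq, BC.tmul_eq_smul_tmul_one]

theorem tmul_one_pow_smul (k : ℕ) (y : P') :
    BC.tmul φ 1 (((p : WittVector p S) ^ k) • y) = ((p : WittVector p R) ^ k) • BC.tmul φ 1 y := by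
  rw [tmul_one_smul, map_pow, map_natCast]

/-- a linear lift of a linear map between the scalar extensions. -/
theorem exists_linear_lift [Module.Finite (WittVector p S) P] [Module.Projective (WittVector p S) P]
    (hf : Function.Surjective f) (χ : BC φ P →ₗ[WittVector p R] BC φ P') :
    ∃ α : P →ₗ[WittVector p S] P', BC.map φ α = χ := by
  obtain ⟨m, f', g, -, -, hfg⟩ := Module.Finite.exists_comp_eq_id_of_projective (WittVector p S) P
  choose y hy using fun i : Fin m => exists_tmul_one_eq (P' := P') f hf (χ (BC.tmul φ 1 (f' (eb i))))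
  refine ⟨(Fintype.linearCombination (WittVector p S) y).comp g, ?_⟩
  apply BC.ext
  intro x
  rw [BC.map_tmul, LinearMap.comp_apply, Fintype.linearCombination_apply]
  conv_rhs => rw [eq_sum_coords f' g hfg x]
  have h1 : ∀ (s : Finset (Fin m)) (v : Fin m → P'), BC.tmul φ 1 (∑ i ∈ s, v i) =
      ∑ i ∈ s, BC.tmul φ 1 (v i) := fun s v => map_sum (BC.ι φ P') v s
  have h2 : ∀ (s : Finset (Fin m)) (v : Fin m → P), BC.tmul φ 1 (∑ i ∈ s, v i) =
      ∑ i ∈ s, BC.tmul φ 1 (v i) := fun s v => map_sum (BC.ι φ P) v s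
  rw [h1, h2, map_sum]
  refine Finset.sum_congr rfl fun i _ => ?_
  rw [tmul_one_smul, tmul_one_smul, map_smul, hy]

theorem pow_smul_eq_zero_of_tmul_eq_zero [Module.Finite (WittVector p S) P']
    [Module.Projective (WittVector p S) P'] (k : ℕ)
    (hk : ∀ a ∈ WI (p := p) (RingHom.ker f), (p : WittVector p S) ^ k * a = 0)
    (y : P') (hy : BC.tmul φ 1 y = 0) : ((p : WittVector p S) ^ k) • y = 0 := by
  have h1 := mem_of_tmul_one_eq_zero f y hy
  refine Submodule.smul_induction_on h1 ?_ ?_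
  · intro a ha y' _
    rw [smul_smul, hk a ha, zero_smul]
  · intro y₁ y₂ h₁ h₂
    rw [smul_add, h₁, h₂, add_zero]

/-- `p^k` maps the preimage of `Q'_R` into `Q'`. -/
theorem pow_smul_mem_Q (D' : Display3n p S P') (k : ℕ)
    (hk : ∀ a ∈ WI (p := p) (RingHom.ker f), (p : WittVector p S) ^ k * a = 0) (y : P')
    (hy : BC.tmul g₀ 1 (D'.Q.mkQ y) = 0) : ((p : WittVector p S) ^ k) • y ∈ D'.Q := by
  haveI := D'.finite
  haveI := D'.projective
  obtain ⟨L, T, hLT, hQ⟩ := D'.exists_normal
  obtain ⟨m, f', g, -, -, hfg⟩ := Module.Finite.exists_comp_eq_id_of_projective (WittVector p S) P'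
  have hITT : IV p S • T ≤ T := Submodule.smul_le.2 (fun r _ n hn => T.smul_mem r hn)
  -- coordinates of `IV • T` lie in `IV`
  have hgIV : ∀ u ∈ IV p S • T, ∀ i, g u i ∈ IV p S := by
    intro u hu i
    refine Submodule.smul_induction_on (p := fun x => g x i ∈ IV p S) hu ?_ ?_
    · intro r hr x _
      rw [map_smul]; exact Ideal.mul_mem_right _ _ hr
    · intro x y hx hy
      rw [map_add]; exact Ideal.add_mem _ hx hy
  set prT := T.projection L hLT.symm with hprT
  have hcoef : ∀ i, (g (prT y) i).coeff 0 ∈ RingHom.ker f := by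
    intro i
    let lam : P' →ₛₗ[g₀] R :=
      (semilinearOfRingHom g₀).comp ((LinearMap.proj i).comp (g.comp prT))
    have hle : D'.Q ≤ LinearMap.ker lam := by
      intro q hq
      rw [hQ] at hq
      obtain ⟨l, hl, u, hu, rfl⟩ := Submodule.mem_sup.1 hq
      rw [LinearMap.mem_ker]
      change g₀ (g (prT (l + u)) i) = 0
      rw [map_add, Submodule.projection_apply_of_mem_right hLT.symm hl, zero_add,
        Submodule.projection_apply_of_mem_left hLT.symm (hITT hu)]
      change (WittVector.map f (g u i)).coeff 0 = 0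
      rw [WittVector.map_coeff, coeff_zero_of_mem_IV (hgIV u hu i), map_zero]
    have h1 := congrArg (BC.lift g₀ (D'.Q.liftQ lam hle)) hy
    rw [BC.lift_tmul, one_smul, map_zero, Submodule.mkQ_apply, Submodule.liftQ_apply] at h1
    change (WittVector.map f (g (prT y) i)).coeff 0 = 0 at h1
    rw [WittVector.map_coeff] at h1
    exact (RingHom.mem_ker).2 h1
  have hpc : ∀ i, (p : WittVector p S) ^ k * g (prT y) i ∈ IV p S := by
    intro i
    apply mem_IV_of_coeff_zero
    have h1 := hk _ (teich_mem_WI (hcoef i))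
    have h2 := congrArg (fun w => WittVector.coeff w 0) h1
    simp only [WittVector.mul_coeff_zero, teichmuller_coeff_zero, WittVector.zero_coeff] at h2
    rw [WittVector.mul_coeff_zero]
    exact h2
  have hT : ((p : WittVector p S) ^ k) • prT y ∈ IV p S • T := by
    have h1 : prT y = ∑ i, g (prT y) i • prT (f' (eb i)) := by
      conv_lhs => rw [← Submodule.projection_apply_of_mem_left hLT.symm
        (Submodule.projection_apply_mem hLT.symm y), ← hprT, eq_sum_coords f' g hfg (prT y), map_sum]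
      refine Finset.sum_congr rfl fun i _ => ?_
      rw [map_smul]
    rw [h1, Finset.smul_sum]
    refine Submodule.sum_mem _ fun i _ => ?_
    rw [smul_smul]
    exact Submodule.smul_mem_smul (hpc i) (Submodule.projection_apply_mem hLT.symm _)
  have h3 : y = L.projection T hLT y + prT y :=
    (Submodule.projection_add_projection_eq_self hLT y).symm
  rw [h3, smul_add, hQ]
  exact Submodule.add_mem _
    (Submodule.mem_sup_left (L.smul_mem _ (Submodule.projection_apply_mem hLT y)))
    (Submodule.mem_sup_right hT)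

theorem frobenius_pow_p {A : Type u} [CommRing A] (k : ℕ) :
    (WittVector.frobenius : WittVector p A →+* WittVector p A) ((p : WittVector p A) ^ k) =
      (p : WittVector p A) ^ k := by
  rw [map_pow, map_natCast]

/-- a power of `p` times a homomorphism of the base-changed displays lifts. -/
theorem exists_lift (hf : Function.Surjective f) (hpS : IsNilpotent (p : S))
    (hker : IsNilpotent (RingHom.ker f))
    (D : Display3n p S P) (D' : Display3n p S P')
    (DR : Display3n p R (BC φ P)) (hDR : IsDispBaseChange f D DR)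
    (DR' : Display3n p R (BC φ P')) (hDR' : IsDispBaseChange f D' DR')
    (χ : BC φ P →ₗ[WittVector p R] BC φ P') (hχ : IsHom DR DR' χ) :
    ∃ (n : ℕ) (ψ : P →ₗ[WittVector p S] P'), IsHom D D' ψ ∧
      BC.map φ ψ = ((p : WittVector p R) ^ n) • χ := by
  haveI := D.finite
  haveI := D.projective
  haveI := D'.finite
  haveI := D'.projective
  obtain ⟨k, hk⟩ := exists_pow_p_mul_eq_zero (p := p) (RingHom.ker f) hker hpS
  obtain ⟨α, hα⟩ := exists_linear_lift f hf χ
  have hα1 : ∀ x, BC.tmul φ 1 (α x) = χ (BC.tmul φ 1 x) := fun x => by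
    rw [← hα, BC.map_tmul]
  have hQ1 : ∀ q : P, q ∈ D.Q → BC.tmul φ 1 q ∈ DR.Q := fun q hq =>
    Groth.Agent.S16540.gens_subset f D DR hDR (Or.inl ⟨1, q, hq, rfl⟩)
  have hQ1' : ∀ q : P', q ∈ D'.Q → BC.tmul φ 1 q ∈ DR'.Q := fun q hq =>
    Groth.Agent.S16540.gens_subset f D' DR' hDR' (Or.inl ⟨1, q, hq, rfl⟩)
  -- Claim A
  have hA : ∀ q : P, q ∈ D.Q → ((p : WittVector p S) ^ k) • α q ∈ D'.Q := by
    intro q hq
    apply pow_smul_mem_Q f D' k hk
    have h1 := hχ.mapsTo _ (hQ1 q hq)
    rw [← hα1, hDR'.Q_eq, LinearMap.mem_ker, bcQuotMap_tmul, map_one] at h1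
    exact h1
  have hkill := pow_smul_eq_zero_of_tmul_eq_zero (P' := P') f k hk
  refine ⟨k + k, ((p : WittVector p S) ^ k) • ((p : WittVector p S) ^ k) • α, ⟨?_, ?_, ?_⟩, ?_⟩
  · intro q hq
    exact D'.Q.smul_mem _ (hA q hq)
  · intro x
    rw [LinearMap.smul_apply, LinearMap.smul_apply, LinearMap.smul_apply, LinearMap.smul_apply,
      D'.F.map_smulₛₗ, D'.F.map_smulₛₗ, frobenius_pow_p]
    have h1 : BC.tmul φ 1 (α (D.F x) - D'.F (α x)) = 0 := by
      have e1 : BC.tmul φ 1 (α (D.F x)) = BC.tmul φ 1 (D'.F (α x)) := by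
        have h2 := hDR.F_tmul 1 x
        have h3 := hDR'.F_tmul 1 (α x)
        rw [map_one] at h2 h3
        rw [hα1, ← h2, hχ.comm_F, ← hα1, h3]
      have := map_sub (BC.ι φ P') (α (D.F x)) (D'.F (α x))
      rw [BC.ι_apply, BC.ι_apply, BC.ι_apply] at this
      rw [this, e1, sub_self]
    have h2 := hkill _ h1
    rw [smul_sub, sub_eq_zero] at h2
    rw [h2]
  · intro q
    have hq1 := hQ1 q q.2
    have hAq := hA q q.2
    rw [LinearMap.smul_apply, LinearMap.smul_apply]
    have e0 : (⟨(((p : WittVector p S) ^ k) • ((p : WittVector p S) ^ k) • α) (q : P),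
        D'.Q.smul_mem _ hAq⟩ : D'.Q) = ((p : WittVector p S) ^ k) •
          (⟨((p : WittVector p S) ^ k) • α q, hAq⟩ : D'.Q) := rfl
    rw [e0, D'.Vinv.map_smulₛₗ, frobenius_pow_p]
    -- compare modulo the kernel
    have h1 : BC.tmul φ 1 (((p : WittVector p S) ^ k) • α (D.Vinv q) -
        D'.Vinv ⟨((p : WittVector p S) ^ k) • α q, hAq⟩) = 0 := by
      have e1 : BC.tmul φ 1 (((p : WittVector p S) ^ k) • α (D.Vinv q)) =
          BC.tmul φ 1 (D'.Vinv ⟨((p : WittVector p S) ^ k) • α q, hAq⟩) := by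
        have hm := hQ1' _ hAq
        have h2 := hDR'.Vinv_tmul 1 ⟨_, hAq⟩ hm
        rw [map_one] at h2
        rw [← h2]
        have e2 : (⟨BC.tmul φ 1 (((p : WittVector p S) ^ k) • α q), hm⟩ : DR'.Q) =
            ((p : WittVector p R) ^ k) • (⟨χ (BC.tmul φ 1 (q : P)), hχ.mapsTo _ hq1⟩ : DR'.Q) :=
          Subtype.ext (by
            change BC.tmul φ 1 (((p : WittVector p S) ^ k) • α q) =
              ((p : WittVector p R) ^ k) • χ (BC.tmul φ 1 (q : P))
            rw [tmul_one_pow_smul, hα1])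
        rw [e2, DR'.Vinv.map_smulₛₗ, frobenius_pow_p, ← hχ.comm_Vinv ⟨_, hq1⟩,
          hDR.Vinv_tmul 1 q hq1, map_one, ← hα1, tmul_one_pow_smul]
      have := map_sub (BC.ι φ P') (((p : WittVector p S) ^ k) • α (D.Vinv q))
        (D'.Vinv ⟨((p : WittVector p S) ^ k) • α q, hAq⟩)
      rw [BC.ι_apply, BC.ι_apply, BC.ι_apply] at this
      rw [this, e1, sub_self]
    have h2 := hkill _ h1
    rw [smul_sub, sub_eq_zero] at h2
    exact h2
  · apply BC.ext
    intro x
    rw [BC.map_tmul, LinearMap.smul_apply, LinearMap.smul_apply, LinearMap.smul_apply,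
      tmul_one_pow_smul, tmul_one_pow_smul, hα1, pow_add, mul_smul]


theorem isHom_sub (D : Display3n p S P) (D' : Display3n p S P') (ψ χ : P →ₗ[WittVector p S] P')
    (hψ : IsHom D D' ψ) (hχ : IsHom D D' χ) : IsHom D D' (ψ - χ) := by
  refine ⟨fun q hq => D'.Q.sub_mem (hψ.mapsTo q hq) (hχ.mapsTo q hq), fun x => ?_, fun q => ?_⟩
  · rw [LinearMap.sub_apply, LinearMap.sub_apply, map_sub, hψ.comm_F, hχ.comm_F]
  · rw [LinearMap.sub_apply, hψ.comm_Vinv, hχ.comm_Vinv, ← map_sub]
    rfl

theorem map_sub' (ψ χ : P →ₗ[WittVector p S] P') :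
    BC.map φ (ψ - χ) = BC.map φ ψ - BC.map φ χ := by
  apply BC.ext
  intro x
  rw [LinearMap.sub_apply, BC.map_tmul, BC.map_tmul, BC.map_tmul, LinearMap.sub_apply]
  exact map_sub (BC.ι φ P') (ψ x) (χ x)

/-- Zink's Proposition 40: base change along a nilpotent thickening is injective on homomorphisms of
displays, with `p`-power torsion cokernel. -/
theorem hom_baseChange (hf : Function.Surjective f) (hpS : IsNilpotent (p : S))
    (hker : IsNilpotent (RingHom.ker f))
    (D : Display3n p S P) (D' : Display3n p S P') (hD : IsDisplay D)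
    (DR : Display3n p R (BC φ P)) (hDR : IsDispBaseChange f D DR)
    (DR' : Display3n p R (BC φ P')) (hDR' : IsDispBaseChange f D' DR') :
    (∀ ψ χ : P →ₗ[WittVector p S] P', IsHom D D' ψ → IsHom D D' χ →
        BC.map φ ψ = BC.map φ χ → ψ = χ) ∧
      ∀ χ : BC φ P →ₗ[WittVector p R] BC φ P', IsHom DR DR' χ →
        ∃ (n : ℕ) (ψ : P →ₗ[WittVector p S] P'), IsHom D D' ψ ∧
          BC.map φ ψ = ((p : WittVector p R) ^ n) • χ := by
  refine ⟨fun ψ χ hψ hχ h => ?_, fun χ hχ => exists_lift f hf hpS hker D D' DR hDR DR' hDR' χ hχ⟩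
  have h1 := rigid f hpS hker D D' hD (ψ - χ) (isHom_sub D D' ψ χ hψ hχ)
    (by rw [map_sub', h, sub_self])
  exact sub_eq_zero.1 h1

end lift

end Groth.Agent.Lib.T2H8.DispRigid
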