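import Mathlib
import Groth.Prelude.Def_RefHull
import Groth.Prelude.Def_CurvBase
import Groth.Agent.Lib.T2H8FTGerms
import Groth.Agent.Lib.Helper23UnitStalk

/-!
# The dual of a finite type module has no embedded closed points on a reduced curve (helper8, team 2)
-/

set_option autoImplicit false
set_option linter.unusedSectionVars false
set_option linter.style.haveILetI false
universe u
open CategoryTheory CategoryTheory.Limits TopologicalSpace Opposite AlgebraicGeometry

namespace Groth.Agent.Lib.T2H8.DualTF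

/-- in a reduced local ring, a nonzero element killed by the maximal ideal forces the ring to be a field -/
theorem maximalIdeal_eq_bot_of_annihilated {R : Type*} [CommRing R] [IsLocalRing R] [IsReduced R]
    (a : R) (ha : a ≠ 0) (h : ∀ r ∈ IsLocalRing.maximalIdeal R, r * a = 0) :
    IsLocalRing.maximalIdeal R = ⊥ := by
  have hu : IsUnit a := by
    by_contra hna
    have hm : a ∈ IsLocalRing.maximalIdeal R := (IsLocalRing.mem_maximalIdeal a).2 hna
    have h2 := h a hm
    exact ha (IsReduced.eq_zero a ⟨2, by rw [pow_two]; exact h2⟩)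
  rw [eq_bot_iff]
  intro r hr
  have h3 := h r hr
  exact (hu.mul_left_eq_zero).1 h3

/-- on a locally Noetherian scheme, a closed point whose local ring is a field is open -/
theorem isOpen_singleton_of_maximalIdeal_eq_bot {X : Scheme.{u}} [IsLocallyNoetherian X] (x : X)
    (hx : IsClosed ({x} : Set X)) (hm : IsLocalRing.maximalIdeal (X.presheaf.stalk x) = ⊥) :
    IsOpen ({x} : Set X) := by
  obtain ⟨_, ⟨U, hU', rfl⟩, hxU, -⟩ :=
    X.isBasis_affineOpens.exists_subset_of_mem_open (Set.mem_univ x) isOpen_univ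
  have hU : IsAffineOpen U := hU'
  haveI : IsNoetherianRing Γ(X, U) := IsLocallyNoetherian.component_noetherian ⟨U, hU⟩
  set p := hU.primeIdealOf ⟨x, hxU⟩ with hp
  have hpx : hU.fromSpec p = x := hU.fromSpec_primeIdealOf ⟨x, hxU⟩
  haveI hmax : p.asIdeal.IsMaximal := hU.primeIdealOf_isMaximal_of_isClosed ⟨x, hxU⟩ hx
  letI := X.presheaf.algebra_section_stalk ⟨x, hxU⟩
  haveI := hU.isLocalization_stalk ⟨x, hxU⟩
  have key : ∀ t ∈ p.asIdeal, ∃ s : Γ(X, U), s ∉ p.asIdeal ∧ s * t = 0 := by
    intro t ht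
    have h1 : algebraMap Γ(X, U) (X.presheaf.stalk x) t ∈
        IsLocalRing.maximalIdeal (X.presheaf.stalk x) :=
      (IsLocalization.AtPrime.to_map_mem_maximal_iff (X.presheaf.stalk x) p.asIdeal t).2 ht
    rw [hm, Ideal.mem_bot] at h1
    obtain ⟨m, hm'⟩ := (IsLocalization.map_eq_zero_iff p.asIdeal.primeCompl
      (X.presheaf.stalk x) t).1 h1
    exact ⟨m.1, m.2, hm'⟩
  obtain ⟨T, hT⟩ := (IsNoetherian.noetherian p.asIdeal : p.asIdeal.FG)
  choose! s hs1 hs2 using key
  let h : Γ(X, U) := ∏ t ∈ T, s t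
  have hh : h ∉ p.asIdeal := by
    intro hmem
    obtain ⟨t, ht, hst⟩ := (Ideal.IsPrime.prod_mem_iff (hp := p.isPrime)).1 hmem
    exact hs1 t (hT ▸ Submodule.subset_span ht) hst
  have hkill : ∀ t ∈ p.asIdeal, h * t = 0 := by
    intro t ht
    rw [← hT] at ht
    induction ht using Submodule.span_induction with
    | mem t ht =>
      obtain ⟨c, hc⟩ := Finset.dvd_prod_of_mem s ht
      have e : h = s t * c := hc
      rw [e, mul_comm (s t) c, mul_assoc, hs2 t (hT ▸ Submodule.subset_span ht), mul_zero]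
    | zero => rw [mul_zero]
    | add a b _ _ ha hb => rw [mul_add, ha, hb, add_zero]
    | smul r a _ ha =>
      rw [smul_eq_mul, mul_left_comm, ha, mul_zero]
  have hD : (PrimeSpectrum.basicOpen h : Set (PrimeSpectrum Γ(X, U))) = {p} := by
    ext q
    constructor
    · intro hq
      have hq' : h ∉ q.asIdeal := hq
      have hle : p.asIdeal ≤ q.asIdeal := fun t ht =>
        (q.isPrime.mem_or_mem (by rw [hkill t ht]; exact zero_mem _ :
          h * t ∈ q.asIdeal)).resolve_left hq'
      exact (PrimeSpectrum.ext (hmax.eq_of_le q.isPrime.ne_top hle)).symm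
    · intro hq
      rw [Set.mem_singleton_iff] at hq
      rw [hq]
      exact hh
  have hopen : IsOpen ({p} : Set (PrimeSpectrum Γ(X, U))) := hD ▸ (PrimeSpectrum.basicOpen h).isOpen
  have himg : hU.fromSpec '' ({p} : Set (PrimeSpectrum Γ(X, U))) = {x} := by
    ext z
    constructor
    · rintro ⟨q, hq, rfl⟩
      have hq' : q = p := hq
      rw [hq']
      exact hpx
    · intro hz
      have hz' : z = x := hz
      exact ⟨p, rfl, hpx.trans hz'.symm⟩
  rw [← himg]
  exact hU.fromSpec.isOpenEmbedding.isOpenMap _ hopen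

open Groth.Agent.Lib.Helper23.UnitStalk in
theorem main_S18916
    (k : Type u) [Field k] [IsAlgClosed k] [CharZero k]
    (X : Scheme.{u}) [X.Over (Spec (CommRingCat.of k))] [IsProper (X ↘ Spec (CommRingCat.of k))]
    [AlgebraicGeometry.IsReduced X] (hdim : topologicalKrullDim X = 1)
    (hpure : ∀ x : X, IsClosed ({x} : Set X) → ¬ IsOpen ({x} : Set X))
    (F : X.Modules) (hF : Coh.IsCoh F) (x : X) (hx : IsClosed ({x} : Set X)) :
    ¬ Curv2.IsAssPoint (RefHull.dual F) x := by
  intro hass
  haveI : IsLocallyNoetherian X :=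
    LocallyOfFiniteType.isLocallyNoetherian (X ↘ Spec (CommRingCat.of k))
  obtain ⟨hprime, θ, hθ⟩ := (isAssociatedPrime_iff.1 hass)
  set φ := RefHull.evalStalk F (Coh.structureModule X) x θ with hφ
  have hθ0 : θ ≠ 0 := by
    rintro rfl
    have h1 : (1 : X.presheaf.stalk x) ∈ IsLocalRing.maximalIdeal (X.presheaf.stalk x) := by
      rw [hθ, Submodule.mem_colon_singleton, smul_zero]
      exact Submodule.zero_mem _
    exact (IsLocalRing.maximalIdeal.isMaximal _).ne_top ((Ideal.eq_top_iff_one _).2 h1)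
  have hφ0 : φ ≠ 0 := fun h =>
    hθ0 (Groth.Agent.Lib.T2H8.FTGerms.main_S16484 X F _ hF.2 x (h.trans (map_zero _).symm))
  obtain ⟨v, hv⟩ : ∃ v, φ v ≠ 0 := by
    by_contra hne
    push Not at hne
    exact hφ0 (LinearMap.ext hne)
  set a := (unitStalkEquiv x).symm (φ v) with ha'
  have ha : a ≠ 0 := (LinearEquiv.map_ne_zero_iff _).2 hv
  have hkill : ∀ r ∈ IsLocalRing.maximalIdeal (X.presheaf.stalk x), r * a = 0 := by
    intro r hr
    have h1 : r • θ = 0 := by
      rw [hθ, Submodule.mem_colon_singleton] at hr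
      exact (Submodule.mem_bot _).1 hr
    have h2 : r • φ = 0 := by rw [hφ, ← map_smul, h1, map_zero]
    have h3 : r • φ v = 0 := by
      rw [← LinearMap.smul_apply, h2]
      rfl
    rw [← smul_eq_mul, ha', ← map_smul, h3, map_zero]
  have hm := maximalIdeal_eq_bot_of_annihilated a ha hkill
  exact hpure x hx (isOpen_singleton_of_maximalIdeal_eq_bot x hx hm)

end Groth.Agent.Lib.T2H8.DualTF
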