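import Mathlib

/-!
# The Eakin–Nagata theorem via Formanek's proof (helper8)
-/

set_option autoImplicit false
universe u v w

namespace Groth.Agent.Lib.T2H8.EakinNagata

variable {B : Type u} [CommRing B]

/-- if `M₂` is a finite Noetherian module and `M₁` is a finite module whose annihilator contains
that of `M₂`, then `M₁` is Noetherian -/
theorem isNoetherian_of_annihilator_le {M₁ : Type v} {M₂ : Type w} [AddCommGroup M₁] [Module B M₁]
    [AddCommGroup M₂] [Module B M₂] [Module.Finite B M₁] [Module.Finite B M₂] [IsNoetherian B M₂]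
    (h : Module.annihilator B M₂ ≤ Module.annihilator B M₁) : IsNoetherian B M₁ := by
  classical
  obtain ⟨k, x, hx⟩ := Module.Finite.exists_fin (R := B) (M := M₂)
  obtain ⟨l, y, hy⟩ := Module.Finite.exists_fin (R := B) (M := M₁)
  -- `B ⧸ Ann M₂` embeds in `M₂ ^ k`
  let φ : B →ₗ[B] (Fin k → M₂) := LinearMap.pi (fun i => LinearMap.toSpanSingleton B M₂ (x i))
  have hker : LinearMap.ker φ = Module.annihilator B M₂ := by
    ext b
    rw [LinearMap.mem_ker, Module.mem_annihilator]
    constructor
    · intro hb m
      have hm : m ∈ Submodule.span B (Set.range x) := hx ▸ Submodule.mem_top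
      induction hm using Submodule.span_induction with
      | mem m hm =>
        obtain ⟨i, rfl⟩ := hm
        exact congrFun hb i
      | zero => exact smul_zero b
      | add m m' _ _ h1 h2 => rw [smul_add, h1, h2, add_zero]
      | smul c m _ h1 => rw [smul_comm, h1, smul_zero]
    · intro hb
      ext i
      exact hb (x i)
  haveI : IsNoetherian B (B ⧸ LinearMap.ker φ) :=
    isNoetherian_of_linearEquiv (LinearMap.quotKerEquivRange φ).symm
  -- `M₁` is a quotient of `(B ⧸ Ann M₂) ^ l`
  have hle : ∀ j, LinearMap.ker φ ≤ LinearMap.ker (LinearMap.toSpanSingleton B M₁ (y j)) := by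
    intro j b hb
    rw [hker] at hb
    have := h hb
    rw [Module.mem_annihilator] at this
    rw [LinearMap.mem_ker, LinearMap.toSpanSingleton_apply]
    exact this (y j)
  let ψ : (Fin l → B ⧸ LinearMap.ker φ) →ₗ[B] M₁ :=
    LinearMap.lsum B (fun _ => B ⧸ LinearMap.ker φ) B
      (fun j => Submodule.liftQ _ (LinearMap.toSpanSingleton B M₁ (y j)) (hle j))
  have hψ : Function.Surjective ψ := by
    intro m
    have hm : m ∈ Submodule.span B (Set.range y) := hy ▸ Submodule.mem_top
    rw [← Set.image_univ, Finsupp.mem_span_image_iff_linearCombination] at hm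
    obtain ⟨c, -, rfl⟩ := hm
    refine ⟨fun j => Submodule.Quotient.mk (c j), ?_⟩
    simp only [ψ, LinearMap.lsum_apply, LinearMap.coe_sum, Finset.sum_apply,
      LinearMap.coe_comp, Function.comp_apply, LinearMap.coe_proj, Function.eval,
      Submodule.liftQ_apply, LinearMap.toSpanSingleton_apply]
    rw [Finsupp.linearCombination_apply, Finsupp.sum_fintype]
    intro i; exact zero_smul _ _
  exact isNoetherian_of_surjective ψ (LinearMap.range_eq_top.mpr hψ)

end Groth.Agent.Lib.T2H8.EakinNagata

namespace Groth.Agent.Lib.T2H8.EakinNagata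

variable {B : Type u} [CommRing B]

/-- the core of Formanek's argument -/
theorem isNoetherian_core {M₁ : Type v} [AddCommGroup M₁] [Module B M₁] [Module.Finite B M₁]
    (hP : ∀ J : Ideal B, J • (⊤ : Submodule B M₁) ≠ ⊥ →
      IsNoetherian B (M₁ ⧸ J • (⊤ : Submodule B M₁))) : IsNoetherian B M₁ := by
  classical
  set a := Module.annihilator B M₁ with ha
  let Γ : Set (Submodule B M₁) := {N | ∀ b : B, (∀ m : M₁, b • m ∈ N) → b ∈ a}
  have hbot : (⊥ : Submodule B M₁) ∈ Γ := by
    intro b hb
    rw [ha, Module.mem_annihilator]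
    intro m
    exact (Submodule.mem_bot B).mp (hb m)
  obtain ⟨N₀, -, hN₀, hmax⟩ := zorn_le_nonempty₀ Γ (by
    intro c hcΓ hc y hy
    refine ⟨sSup c, ?_, fun z hz => le_sSup hz⟩
    intro b hb
    -- the finitely generated submodule `b • M₁` lies in some member of the chain
    have hfg : (LinearMap.range (LinearMap.lsmul B M₁ b)).FG := by
      rw [LinearMap.range_eq_map]
      exact (Module.Finite.fg_top).map _
    have hle : LinearMap.range (LinearMap.lsmul B M₁ b) ≤ sSup c := by
      rintro _ ⟨m, rfl⟩
      exact hb m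
    have hcomp := (Submodule.fg_iff_compact _).mp hfg
    rw [CompleteLattice.isCompactElement_iff_le_of_directed_sSup_le] at hcomp
    obtain ⟨N, hNc, hN⟩ := hcomp c ⟨y, hy⟩ hc.directedOn hle
    exact hcΓ hNc b (fun m => hN ⟨m, rfl⟩)) ⊥ hbot
  -- the quotient by `N₀`
  have hann : Module.annihilator B (M₁ ⧸ N₀) ≤ Module.annihilator B M₁ := by
    intro b hb
    rw [Module.mem_annihilator] at hb
    apply hN₀ b
    intro m
    have := hb (Submodule.Quotient.mk m)
    rwa [← Submodule.Quotient.mk_smul, Submodule.Quotient.mk_eq_zero] at this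
  haveI : IsNoetherian B (M₁ ⧸ N₀) := by
    rw [isNoetherian_def]
    intro L
    by_cases hL : L = ⊥
    · rw [hL]; exact Submodule.fg_bot
    set L' := L.comap N₀.mkQ with hL'
    have hLmap : L'.map N₀.mkQ = L :=
      Submodule.map_comap_eq_of_surjective (Submodule.mkQ_surjective N₀) L
    have hN₀L' : N₀ ≤ L' := by
      intro x hx
      rw [hL', Submodule.mem_comap, Submodule.mkQ_apply, (Submodule.Quotient.mk_eq_zero N₀).mpr hx]
      exact L.zero_mem
    have hne : L' ≠ N₀ := by
      intro h
      apply hL
      rw [← hLmap, h]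
      exact (Submodule.mkQ_map_self N₀)
    have hnotΓ : L' ∉ Γ := by
      intro h
      exact hne (le_antisymm (hmax h hN₀L') hN₀L')
    simp only [Γ, Set.mem_setOf_eq, not_forall] at hnotΓ
    obtain ⟨b, hbL', hba⟩ := hnotΓ
    set J : Ideal B := Ideal.span {b} with hJ
    have hJne : J • (⊤ : Submodule B M₁) ≠ ⊥ := by
      intro h
      apply hba
      rw [ha, Module.mem_annihilator]
      intro m
      have : b • m ∈ J • (⊤ : Submodule B M₁) :=
        Submodule.smul_mem_smul (Ideal.mem_span_singleton_self b) Submodule.mem_top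
      rwa [h, Submodule.mem_bot] at this
    haveI := hP J hJne
    have hJL' : J • (⊤ : Submodule B M₁) ≤ L' := by
      rw [Submodule.smul_le]
      intro r hr n _
      obtain ⟨c, rfl⟩ := Ideal.mem_span_singleton'.mp hr
      rw [mul_smul]
      exact L'.smul_mem c (hbL' n)
    have hL'fg : L'.FG := by
      apply Submodule.fg_of_fg_map_of_fg_inf_ker (J • (⊤ : Submodule B M₁)).mkQ
      · exact IsNoetherian.noetherian _
      · rw [Submodule.ker_mkQ, inf_eq_right.mpr hJL']
        exact Submodule.FG.smul ⟨{b}, by rw [Finset.coe_singleton]⟩ Module.Finite.fg_top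
    rw [← hLmap]
    exact hL'fg.map _
  exact isNoetherian_of_annihilator_le (M₁ := M₁) (M₂ := M₁ ⧸ N₀) hann

end Groth.Agent.Lib.T2H8.EakinNagata

namespace Groth.Agent.Lib.T2H8.EakinNagata

variable {B : Type u} [CommRing B]

/-- **Formanek's theorem** (module form): a finite module satisfying the ascending chain condition
on the submodules `I • M` is Noetherian -/
theorem isNoetherian_of_acc {M : Type v} [AddCommGroup M] [Module B M] [Module.Finite B M]
    (hacc : ∀ S : Set (Ideal B), S.Nonempty → ∃ I ∈ S, ∀ J ∈ S,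
      I • (⊤ : Submodule B M) ≤ J • (⊤ : Submodule B M) →
        J • (⊤ : Submodule B M) = I • (⊤ : Submodule B M)) : IsNoetherian B M := by
  classical
  by_contra hM
  let S : Set (Ideal B) := {I | ¬ IsNoetherian B (M ⧸ I • (⊤ : Submodule B M))}
  have hbot : (⊥ : Ideal B) ∈ S := by
    intro h
    apply hM
    have h0 : (⊥ : Ideal B) • (⊤ : Submodule B M) = ⊥ := Submodule.bot_smul _
    exact isNoetherian_of_linearEquiv (Submodule.quotEquivOfEqBot _ h0)
  obtain ⟨I, hIS, hImax⟩ := hacc S ⟨⊥, hbot⟩
  apply hIS
  apply isNoetherian_core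
  intro J hJne
  by_contra hJ
  set N := I • (⊤ : Submodule B M) with hN
  have hmapJ : (J • (⊤ : Submodule B M)).map N.mkQ = J • (⊤ : Submodule B (M ⧸ N)) := by
    rw [Submodule.map_smul'', Submodule.map_top, Submodule.range_mkQ]
  have hIJ : (I ⊔ J) ∈ S := by
    intro h
    apply hJ
    let f : M →ₗ[B] (M ⧸ N) ⧸ J • (⊤ : Submodule B (M ⧸ N)) :=
      (J • (⊤ : Submodule B (M ⧸ N))).mkQ.comp N.mkQ
    have hf : Function.Surjective f :=
      (Submodule.mkQ_surjective _).comp (Submodule.mkQ_surjective _)
    have hker : (I ⊔ J) • (⊤ : Submodule B M) ≤ LinearMap.ker f := by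
      rw [Submodule.sup_smul, sup_le_iff]
      constructor
      · intro x hx
        have hx0 : N.mkQ x = 0 := (Submodule.Quotient.mk_eq_zero N).mpr hx
        rw [LinearMap.mem_ker, LinearMap.comp_apply, hx0, map_zero]
      · intro x hx
        rw [LinearMap.mem_ker, LinearMap.comp_apply]
        apply (Submodule.Quotient.mk_eq_zero _).mpr
        rw [← hmapJ]
        exact Submodule.mem_map_of_mem hx
    have hsurj : Function.Surjective (Submodule.liftQ _ f hker) := by
      intro y
      obtain ⟨x, rfl⟩ := hf y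
      exact ⟨Submodule.Quotient.mk x, rfl⟩
    exact isNoetherian_of_surjective _ (LinearMap.range_eq_top.mpr hsurj)
  have h1 := hImax (I ⊔ J) hIJ (Submodule.smul_mono_left le_sup_left)
  apply hJne
  rw [← hmapJ, eq_bot_iff]
  have h2 : J • (⊤ : Submodule B M) ≤ N := by
    rw [← h1]
    exact Submodule.smul_mono_left le_sup_right
  calc (J • (⊤ : Submodule B M)).map N.mkQ ≤ N.map N.mkQ := Submodule.map_mono h2
    _ = ⊥ := Submodule.mkQ_map_self N

/-- **Eakin–Nagata**: if a Noetherian ring `A` is a finite module over a subring `B`, then `B` is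
Noetherian -/
theorem isNoetherianRing_of_finite (B : Type u) (A : Type v) [CommRing B] [CommRing A]
    [Algebra B A] [FaithfulSMul B A] [Module.Finite B A] [IsNoetherianRing A] :
    IsNoetherianRing B := by
  classical
  have hA : IsNoetherian B A := by
    apply isNoetherian_of_acc
    intro S hS
    obtain ⟨I', ⟨I, hIS, rfl⟩, hmax⟩ := set_has_maximal_iff_noetherian.mpr
      (inferInstance : IsNoetherian A A) ((Ideal.map (algebraMap B A)) '' S) (hS.image _)
    refine ⟨I, hIS, fun J hJS hle => ?_⟩
    rw [Ideal.smul_top_eq_map, Ideal.smul_top_eq_map] at hle ⊢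
    have hle' : I.map (algebraMap B A) ≤ J.map (algebraMap B A) := fun x hx => hle hx
    have := hmax _ ⟨J, hJS, rfl⟩
    by_contra hne
    apply this
    refine lt_of_le_of_ne hle' ?_
    intro h
    apply hne
    rw [h]
  -- `B` embeds in `A`
  exact isNoetherian_of_injective (Algebra.linearMap B A) (FaithfulSMul.algebraMap_injective B A)

end Groth.Agent.Lib.T2H8.EakinNagata
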