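import Mathlib

/-!
# Universal effective epimorphisms of schemes can be tested on affine schemes
-/

set_option autoImplicit false
open CategoryTheory CategoryTheory.Limits AlgebraicGeometry Opposite
universe u

namespace Groth.Agent.Lib.T2H8.EffEpiAffine

/-- a sieve on a scheme `Y` is effective epimorphic as soon as its pullbacks to all affine
schemes are -/
theorem effectiveEpimorphic_of_affine {Y : Scheme.{u}} (S : Sieve Y)
    (h : ∀ (Z : Scheme.{u}) (g : Z ⟶ Y), IsAffine Z → (S.pullback g).EffectiveEpimorphic) :
    S.EffectiveEpimorphic := by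
  rw [Sieve.EffectiveEpimorphic.iff_forall_isSheafFor_yoneda]
  intro W
  have hzar : Presieve.IsSheaf Scheme.zariskiTopology (yoneda.obj W) :=
    GrothendieckTopology.Subcanonical.isSheaf_of_isRepresentable (yoneda.obj W)
  refine Y.affineOneHypercover.isSheafFor_sieve_of_pullback hzar (fun i => ?_) (fun i j k => ?_)
  · have hi : IsAffine (Y.affineOneHypercover.X i) := by
      change IsAffine (Y.affineCover.X i)
      infer_instance
    exact (Sieve.EffectiveEpimorphic.iff_forall_isSheafFor_yoneda _).1 (h _ _ hi) W
  · have hk : IsAffine (Y.affineOneHypercover.Y k) := by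
      change IsAffine ((pullback (Y.affineCover.f i) (Y.affineCover.f j)).affineCover.X k)
      infer_instance
    exact ((Sieve.EffectiveEpimorphic.iff_forall_isSheafFor_yoneda _).1
      (h _ _ hk) W).isSeparatedFor

theorem main_S9860 {ι : Type u} {X : Scheme.{u}} {Xi : ι → Scheme.{u}} (f : ∀ i, Xi i ⟶ X)
    (h : ∀ (Y : Scheme.{u}) (g : Y ⟶ X), IsAffine Y →
      ((Sieve.ofArrows Xi f).pullback g).EffectiveEpimorphic)
    {Y : Scheme.{u}} (g : Y ⟶ X) : ((Sieve.ofArrows Xi f).pullback g).EffectiveEpimorphic := by
  apply effectiveEpimorphic_of_affine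
  intro Z k hZ
  rw [← Sieve.pullback_comp]
  exact h Z (k ≫ g) hZ

end Groth.Agent.Lib.T2H8.EffEpiAffine
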