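import Mathlib
set_option autoImplicit false

namespace Groth.Agent.Lib.T2H8.ElemAut

universe u v

open MvPolynomial

section Core

variable {k : Type u} [Field k] {n : ℕ}

/-- the elementary automorphism `x_i ↦ x_i + x_j ^ d` -/
noncomputable def T (i j : Fin n) (d : ℕ) : MvPolynomial (Fin n) k →ₐ[k] MvPolynomial (Fin n) k :=
  MvPolynomial.aeval (R := k)
    (Function.update MvPolynomial.X i (MvPolynomial.X i + MvPolynomial.X j ^ d) :
      Fin n → MvPolynomial (Fin n) k)

variable (I : Ideal (MvPolynomial (Fin n) k))

/-- `b` is a `D`-valued point of `V(I)` -/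
def IsPt {D : Type v} [CommRing D] [Algebra k D] (b : Fin n → D) : Prop :=
  ∀ g ∈ I, MvPolynomial.aeval b g = 0

variable {I}
variable (hI : ∀ i j : Fin n, i ≠ j → ∀ d : ℕ, ∀ g ∈ I, T i j d g ∈ I)

theorem aeval_T {D : Type v} [CommRing D] [Algebra k D] (b : Fin n → D) (i j : Fin n) (hij : i ≠ j)
    (d : ℕ) (g : MvPolynomial (Fin n) k) :
    MvPolynomial.aeval b (T i j d g) =
      MvPolynomial.aeval (Function.update b i (b i + b j ^ d)) g := by
  rw [T, MvPolynomial.comp_aeval_apply]
  congr 2
  funext l
  by_cases hl : l = i
  · subst hl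
    simp [Function.update_self]
  · rw [Function.update_of_ne hl, Function.update_of_ne hl, MvPolynomial.aeval_X]

include hI in
theorem isPt_T {D : Type v} [CommRing D] [Algebra k D] {b : Fin n → D} (hb : IsPt I b)
    (i j : Fin n) (hij : i ≠ j) (d : ℕ) : IsPt I (Function.update b i (b i + b j ^ d)) := by
  intro g hg
  rw [← aeval_T b i j hij d g]
  exact hb _ (hI i j hij d g hg)

include hI in
theorem isPt_T_iter {D : Type v} [CommRing D] [Algebra k D] {b : Fin n → D} (hb : IsPt I b)
    (i j : Fin n) (hij : i ≠ j) (d m : ℕ) :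
    IsPt I (Function.update b i (b i + m • b j ^ d)) := by
  induction m with
  | zero =>
    rw [zero_smul, add_zero, Function.update_eq_self]
    exact hb
  | succ m ih =>
    have h := isPt_T hI ih i j hij d
    rw [Function.update_self, Function.update_of_ne (Ne.symm hij), Function.update_idem] at h
    convert h using 2
    rw [succ_nsmul, add_assoc]

include hI in
/-- if the `j`-th coordinate generates infinitely many translations, the `i`-th coordinate can be
moved arbitrarily -/
theorem isPt_translate {D : Type v} [CommRing D] [IsDomain D] [Algebra k D] {b : Fin n → D}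
    (hb : IsPt I b) (i j : Fin n) (hij : i ≠ j)
    (hinf : Set.Infinite {z : D | ∃ m d : ℕ, z = m • b j ^ d}) (s : D) :
    IsPt I (Function.update b i (b i + s)) := by
  intro g hg
  let G : Polynomial D := MvPolynomial.aeval
    (Function.update (fun l => Polynomial.C (b l)) i (Polynomial.C (b i) + Polynomial.X)) g
  have hG : ∀ z : D, G.eval z = MvPolynomial.aeval (Function.update b i (b i + z)) g := by
    intro z
    have h1 := MvPolynomial.comp_aeval_apply (R := k)
      (Function.update (fun l => Polynomial.C (b l)) i (Polynomial.C (b i) + Polynomial.X))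
      ((Polynomial.aeval z).restrictScalars k : Polynomial D →ₐ[k] D) g
    have h2 : (fun l => ((Polynomial.aeval z).restrictScalars k : Polynomial D →ₐ[k] D)
        (Function.update (fun l => Polynomial.C (b l)) i (Polynomial.C (b i) + Polynomial.X) l)) =
        Function.update b i (b i + z) := by
      funext l
      by_cases hl : l = i
      · subst hl
        simp [Function.update_self]
      · rw [Function.update_of_ne hl, Function.update_of_ne hl]
        simp
    rw [h2] at h1
    rw [← h1]
    simp [G, Polynomial.aeval_def, Polynomial.eval₂_id]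
  have hzero : G = 0 := by
    apply Polynomial.eq_zero_of_infinite_isRoot
    refine hinf.mono ?_
    rintro z ⟨m, d, rfl⟩
    show G.IsRoot _
    rw [Polynomial.IsRoot, hG]
    exact isPt_T_iter hI hb i j hij d m g hg
  rw [← hG, hzero, Polynomial.eval_zero]

end Core

section Generic

variable {k : Type u} [Field k] {n : ℕ} {I : Ideal (MvPolynomial (Fin n) k)}
variable (hI : ∀ i j : Fin n, i ≠ j → ∀ d : ℕ, ∀ g ∈ I, T i j d g ∈ I)

theorem isPt_C {κ : Type v} [Field κ] [Algebra k κ] {a : Fin n → κ} (ha : IsPt I a) :
    IsPt I (fun l => (MvPolynomial.C (a l) : MvPolynomial (Fin n) κ)) := by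
  intro g hg
  have h1 := MvPolynomial.comp_aeval_apply (R := k) a
    (IsScalarTower.toAlgHom k κ (MvPolynomial (Fin n) κ)) g
  have h2 : (fun l => (IsScalarTower.toAlgHom k κ (MvPolynomial (Fin n) κ)) (a l)) =
      fun l => (MvPolynomial.C (a l) : MvPolynomial (Fin n) κ) := by
    funext l
    rfl
  rw [h2] at h1
  rw [← h1, ha g hg, map_zero]

theorem aeval_X_eq_map {κ : Type v} [Field κ] [Algebra k κ] (g : MvPolynomial (Fin n) k) :
    MvPolynomial.aeval (R := k) (fun l => (MvPolynomial.X l : MvPolynomial (Fin n) κ)) g =
      MvPolynomial.map (algebraMap k κ) g := by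
  induction g using MvPolynomial.induction_on with
  | C c => simp [MvPolynomial.algebraMap_apply]
  | add p q hp hq => rw [map_add, map_add, hp, hq]
  | mul_X p i hp => rw [map_mul, map_mul, hp, MvPolynomial.aeval_X, MvPolynomial.map_X]

/-- the translated generic point is injective on polynomials -/
theorem aeval_C_add_X_injective {κ : Type v} [Field κ] [Algebra k κ] (a : Fin n → κ) :
    Function.Injective (MvPolynomial.aeval (R := k)
      (fun l => (MvPolynomial.C (a l) + MvPolynomial.X l : MvPolynomial (Fin n) κ))) := by
  let Θ : MvPolynomial (Fin n) κ →ₐ[κ] MvPolynomial (Fin n) κ :=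
    MvPolynomial.aeval (fun l => (MvPolynomial.X l - MvPolynomial.C (a l) : MvPolynomial (Fin n) κ))
  have hcomp : ∀ g : MvPolynomial (Fin n) k,
      Θ (MvPolynomial.aeval (R := k)
        (fun l => (MvPolynomial.C (a l) + MvPolynomial.X l : MvPolynomial (Fin n) κ)) g) =
      MvPolynomial.map (algebraMap k κ) g := by
    intro g
    have h1 := MvPolynomial.comp_aeval_apply (R := k)
      (fun l => (MvPolynomial.C (a l) + MvPolynomial.X l : MvPolynomial (Fin n) κ))
      (Θ.restrictScalars k) g
    have h2 : (fun l => (Θ.restrictScalars k)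
        (MvPolynomial.C (a l) + MvPolynomial.X l : MvPolynomial (Fin n) κ)) =
        fun l => (MvPolynomial.X l : MvPolynomial (Fin n) κ) := by
      funext l
      simp [Θ]
    rw [h2] at h1
    rw [show Θ _ = (Θ.restrictScalars k) _ from rfl, h1]
    exact aeval_X_eq_map g
  intro g₁ g₂ h
  have := congrArg Θ h
  rw [hcomp, hcomp] at this
  exact MvPolynomial.map_injective _ (algebraMap k κ).injective this

include hI in
/-- a point with a coordinate generating infinitely many translations forces `I = 0` -/
theorem eq_bot_of_isPt (hn : 2 ≤ n) {κ : Type v} [Field κ] [Algebra k κ] {a : Fin n → κ}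
    (ha : IsPt I a) (j : Fin n) (hinf : Set.Infinite {z : κ | ∃ m d : ℕ, z = m • a j ^ d}) :
    I = ⊥ := by
  classical
  -- Step 1
  have step1 : ∀ F : Finset (Fin n), j ∉ F →
      IsPt I (fun l => if l ∈ F then (MvPolynomial.C (a l) + MvPolynomial.X l :
        MvPolynomial (Fin n) κ) else MvPolynomial.C (a l)) := by
    intro F
    induction F using Finset.induction_on with
    | empty =>
      intro _
      simpa using isPt_C ha
    | insert i₀ F hi₀ ih =>
      intro hj
      rw [Finset.mem_insert, not_or] at hj
      have ihF := ih hj.2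
      have hinf' : Set.Infinite {z : MvPolynomial (Fin n) κ | ∃ m d : ℕ, z = m •
          (fun l => if l ∈ F then (MvPolynomial.C (a l) + MvPolynomial.X l :
            MvPolynomial (Fin n) κ) else MvPolynomial.C (a l)) j ^ d} := by
        have h1 := hinf.image (f := (MvPolynomial.C : κ → MvPolynomial (Fin n) κ))
          (MvPolynomial.C_injective (Fin n) κ).injOn
        refine h1.mono ?_
        rintro _ ⟨z, ⟨m, d, rfl⟩, rfl⟩
        refine ⟨m, d, ?_⟩
        simp only [if_neg hj.2]
        rw [map_nsmul, map_pow]
      have h2 := isPt_translate hI ihF i₀ j (Ne.symm hj.1) hinf' (MvPolynomial.X i₀)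
      convert h2 using 1
      funext l
      by_cases hl : l = i₀
      · subst hl
        rw [Function.update_self]
        simp [hi₀]
      · rw [Function.update_of_ne hl]
        simp [Finset.mem_insert, hl]
  have hb1 := step1 (Finset.univ.erase j) (Finset.notMem_erase j _)
  -- Step 2
  haveI : Nontrivial (Fin n) := Fin.nontrivial_iff_two_le.mpr hn
  obtain ⟨i₀, hi₀⟩ := exists_ne j
  have hi₀mem : i₀ ∈ Finset.univ.erase j := Finset.mem_erase.mpr ⟨hi₀, Finset.mem_univ _⟩
  have hinf₂ : Set.Infinite {z : MvPolynomial (Fin n) κ | ∃ m d : ℕ, z = m •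
      (fun l => if l ∈ Finset.univ.erase j then (MvPolynomial.C (a l) + MvPolynomial.X l :
        MvPolynomial (Fin n) κ) else MvPolynomial.C (a l)) i₀ ^ d} := by
    simp only [if_pos hi₀mem]
    let ψ : MvPolynomial (Fin n) κ →ₐ[κ] Polynomial κ :=
      MvPolynomial.aeval (fun l => if l = i₀ then Polynomial.X - Polynomial.C (a i₀) else 0)
    have hψ : ψ (MvPolynomial.C (a i₀) + MvPolynomial.X i₀) = Polynomial.X := by
      simp [ψ]
    have hinj : Function.Injective
        (fun d : ℕ => (MvPolynomial.C (a i₀) + MvPolynomial.X i₀ : MvPolynomial (Fin n) κ) ^ d) := by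
      intro d d' hdd
      have h := congrArg ψ hdd
      simp only [map_pow, hψ] at h
      have := congrArg Polynomial.natDegree h
      simpa using this
    refine (Set.infinite_range_of_injective hinj).mono ?_
    rintro _ ⟨d, rfl⟩
    exact ⟨1, d, by simp⟩
  have hb2 := isPt_translate hI hb1 j i₀ (Ne.symm hi₀) hinf₂ (MvPolynomial.X j)
  have hb2' : IsPt I (fun l => (MvPolynomial.C (a l) + MvPolynomial.X l :
      MvPolynomial (Fin n) κ)) := by
    convert hb2 using 1
    funext l
    by_cases hl : l = j
    · subst hl
      rw [Function.update_self]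
      simp
    · rw [Function.update_of_ne hl]
      simp [hl]
  -- Step 3
  rw [eq_bot_iff]
  intro g hg
  rw [Ideal.mem_bot]
  apply aeval_C_add_X_injective a
  rw [hb2' g hg, map_zero]

end Generic

end Groth.Agent.Lib.T2H8.ElemAut
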