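import Mathlib
import Groth.Agent.Lib.T2H8ElemAutA
set_option autoImplicit false
set_option linter.style.haveILetI false

/-!
# Open subsets of affine space invariant under elementary automorphisms (wrapper for S7451)
-/

namespace Groth.Agent.Lib.T2H8.ElemAut

universe u v
open MvPolynomial AlgebraicGeometry CategoryTheory

section Wrapper
variable {k : Type u} [Field k] {n : ℕ}

theorem aeval_residue (x : PrimeSpectrum (MvPolynomial (Fin n) k)) (g : MvPolynomial (Fin n) k) :
    MvPolynomial.aeval (R := k)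
      (fun l => algebraMap (MvPolynomial (Fin n) k) x.asIdeal.ResidueField (X l)) g =
      algebraMap (MvPolynomial (Fin n) k) x.asIdeal.ResidueField g := by
  have h := MvPolynomial.aeval_unique
    (IsScalarTower.toAlgHom k (MvPolynomial (Fin n) k) x.asIdeal.ResidueField)
  have h2 := DFunLike.congr_fun h g
  rw [IsScalarTower.coe_toAlgHom'] at h2
  rw [h2]
  rfl

theorem isPt_residue (I : Ideal (MvPolynomial (Fin n) k)) (x : PrimeSpectrum (MvPolynomial (Fin n) k))
    (hx : I ≤ x.asIdeal) :
    IsPt I (fun l => algebraMap (MvPolynomial (Fin n) k) x.asIdeal.ResidueField (X l)) := by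
  intro g hg
  rw [aeval_residue]
  exact Ideal.algebraMap_residueField_eq_zero.mpr (hx hg)

/-- a prime all of whose coordinates are algebraic is maximal -/
theorem isMaximal_of_isIntegral (x : PrimeSpectrum (MvPolynomial (Fin n) k))
    (hx : ∀ l, IsIntegral k (algebraMap (MvPolynomial (Fin n) k) x.asIdeal.ResidueField (X l))) :
    x.asIdeal.IsMaximal := by
  set a : Fin n → x.asIdeal.ResidueField :=
    fun l => algebraMap (MvPolynomial (Fin n) k) x.asIdeal.ResidueField (X l) with ha
  have hA : Algebra.IsIntegral k (MvPolynomial.aeval (R := k) a).range := by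
    rw [MvPolynomial.aeval_range]
    apply Algebra.IsIntegral.adjoin
    rintro _ ⟨l, rfl⟩
    exact hx l
  have hfield : IsField (MvPolynomial.aeval (R := k) a).range :=
    isField_of_isIntegral_of_isField' (Field.toIsField k)
  letI := hfield.toField
  have hsurj : Function.Surjective (MvPolynomial.aeval (R := k) a).rangeRestrict :=
    AlgHom.rangeRestrict_surjective _
  have hmax := RingHom.ker_isMaximal_of_surjective
    (MvPolynomial.aeval (R := k) a).rangeRestrict hsurj
  have hker : x.asIdeal = RingHom.ker (MvPolynomial.aeval (R := k) a).rangeRestrict := by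
    apply Ideal.ext
    intro g
    rw [RingHom.mem_ker]
    constructor
    · intro hg
      apply Subtype.ext
      change MvPolynomial.aeval (R := k) a g = 0
      rw [ha, aeval_residue]
      exact Ideal.algebraMap_residueField_eq_zero.mpr hg
    · intro hg
      have h2 := congrArg Subtype.val hg
      change MvPolynomial.aeval (R := k) a g = 0 at h2
      rw [ha, aeval_residue] at h2
      exact Ideal.algebraMap_residueField_eq_zero.mp h2
  rw [hker]
  exact hmax

theorem exists_pow_eq_self {κ : Type v} [Field κ] (p : ℕ) (hp : p.Prime) [CharP κ p] (a : κ)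
    (hfin : Set.Finite {z : κ | ∃ m d : ℕ, z = m • a ^ d}) :
    ∃ m : ℕ, 0 < m ∧ a ^ (p ^ m) = a := by
  haveI : Fact p.Prime := ⟨hp⟩
  haveI : ExpChar κ p := ExpChar.prime hp
  have hfin' : (Set.range (fun e : ℕ => a ^ (p ^ e))).Finite := by
    refine hfin.subset ?_
    rintro _ ⟨e, rfl⟩
    exact ⟨1, p ^ e, by simp⟩
  have hni : ¬ Function.Injective (fun e : ℕ => a ^ (p ^ e)) :=
    fun h => (Set.infinite_range_of_injective h) hfin'
  rw [Function.Injective] at hni
  push_neg at hni
  obtain ⟨e1, e2, heq, hne⟩ := hni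
  wlog h12 : e1 < e2 generalizing e1 e2
  · exact this e2 e1 heq.symm hne.symm (lt_of_le_of_ne (not_lt.mp h12) hne.symm)
  refine ⟨e2 - e1, Nat.sub_pos_of_lt h12, ?_⟩
  have h3 : (a ^ (p ^ (e2 - e1))) ^ (p ^ e1) = a ^ (p ^ e1) := by
    rw [← pow_mul, ← pow_add, Nat.sub_add_cancel h12.le]
    exact heq.symm
  apply iterateFrobenius_inj κ p e1
  rw [iterateFrobenius_def, iterateFrobenius_def]
  exact h3

theorem main_abstract (hn : 2 ≤ n) (Z : Set (PrimeSpectrum (MvPolynomial (Fin n) k)))
    (hZ : IsClosed Z) (hZne : Z ≠ Set.univ)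
    (hinv : ∀ i j : Fin n, i ≠ j → ∀ d : ℕ, ∀ x : PrimeSpectrum (MvPolynomial (Fin n) k), x ∈ Z →
      PrimeSpectrum.comap (T (k := k) i j d).toRingHom x ∈ Z) :
    Z = ∅ ∨ ∃ p : ℕ, p.Prime ∧ CharP k p ∧ Z.Finite ∧
      ∀ x ∈ Z, IsClosed ({x} : Set (PrimeSpectrum (MvPolynomial (Fin n) k))) ∧
        ∀ i : Fin n, ∃ m : ℕ, 0 < m ∧
          (algebraMap (MvPolynomial (Fin n) k) x.asIdeal.ResidueField (X i)) ^ (p ^ m) =
            algebraMap (MvPolynomial (Fin n) k) x.asIdeal.ResidueField (X i) := by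
  classical
  set I := PrimeSpectrum.vanishingIdeal Z with hIdef
  have hZI : PrimeSpectrum.zeroLocus (I : Set (MvPolynomial (Fin n) k)) = Z := by
    rw [hIdef, PrimeSpectrum.zeroLocus_vanishingIdeal_eq_closure, hZ.closure_eq]
  have hIle : ∀ x ∈ Z, I ≤ x.asIdeal := by
    intro x hx g hg
    exact (PrimeSpectrum.mem_vanishingIdeal _ _).mp hg x hx
  have hI : ∀ i j : Fin n, i ≠ j → ∀ d : ℕ, ∀ g ∈ I, T i j d g ∈ I := by
    intro i j hij d g hg
    rw [hIdef, PrimeSpectrum.mem_vanishingIdeal]
    intro x hx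
    have h1 := hinv i j hij d x hx
    have h2 := (PrimeSpectrum.mem_vanishingIdeal _ _).mp hg _ h1
    exact h2
  have hfin : ∀ x ∈ Z, ∀ j : Fin n, Set.Finite {z : x.asIdeal.ResidueField | ∃ m d : ℕ,
      z = m • (algebraMap (MvPolynomial (Fin n) k) x.asIdeal.ResidueField (X j)) ^ d} := by
    intro x hx j
    by_contra hinf
    have hbot := eq_bot_of_isPt hI hn (isPt_residue I x (hIle x hx)) j hinf
    apply hZne
    rw [← hZI, hbot]
    simp
  have j₀ : Fin n := ⟨0, by omega⟩
  obtain ⟨p, hp⟩ := CharP.exists k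
  rcases CharP.char_is_prime_or_zero k p with hpp | hp0
  · by_cases hZe : Z = ∅
    · exact Or.inl hZe
    right
    have hpow : ∀ x ∈ Z, ∀ i : Fin n, ∃ m : ℕ, 0 < m ∧
          (algebraMap (MvPolynomial (Fin n) k) x.asIdeal.ResidueField (X i)) ^ (p ^ m) =
            algebraMap (MvPolynomial (Fin n) k) x.asIdeal.ResidueField (X i) := by
      intro x hx i
      haveI : CharP x.asIdeal.ResidueField p :=
        charP_of_injective_algebraMap (algebraMap k x.asIdeal.ResidueField).injective p
      exact exists_pow_eq_self p hpp _ (hfin x hx i)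
    have hmax : ∀ x ∈ Z, x.asIdeal.IsMaximal := by
      intro x hx
      apply isMaximal_of_isIntegral
      intro l
      obtain ⟨m, hm, hpm⟩ := hpow x hx l
      refine ⟨Polynomial.X ^ (p ^ m) - Polynomial.X, ?_, ?_⟩
      · apply Polynomial.monic_X_pow_sub
        rw [Polynomial.degree_X]
        have : 1 < p ^ m := Nat.one_lt_pow hm.ne' hpp.one_lt
        exact_mod_cast this
      · simp [hpm]
    refine ⟨p, hpp, hp, ?_, ?_⟩
    · have hfinmin := Ideal.finite_minimalPrimes_of_isNoetherianRing (MvPolynomial (Fin n) k) I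
      have hsub : Z ⊆ PrimeSpectrum.asIdeal ⁻¹' I.minimalPrimes := by
        intro x hx
        obtain ⟨q, hq, hqx⟩ := Ideal.exists_minimalPrimes_le (hIle x hx)
        have hqprime : q.IsPrime := hq.1.1
        have hqZ : (⟨q, hqprime⟩ : PrimeSpectrum _) ∈ Z := by
          rw [← hZI, PrimeSpectrum.mem_zeroLocus]
          exact hq.1.2
        have hqmax := hmax _ hqZ
        have : q = x.asIdeal := hqmax.eq_of_le x.isPrime.ne_top hqx
        rw [Set.mem_preimage, ← this]
        exact hq
      refine (hfinmin.preimage ?_).subset hsub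
      intro x _ y _ hxy
      exact PrimeSpectrum.ext hxy
    · intro x hx
      refine ⟨?_, hpow x hx⟩
      rw [PrimeSpectrum.isClosed_singleton_iff_isMaximal]
      exact hmax x hx
  · left
    subst hp0
    haveI : CharZero k := CharP.charP_to_charZero k
    by_contra hZe
    obtain ⟨x, hx⟩ := Set.nonempty_iff_ne_empty.mpr hZe
    haveI : CharZero x.asIdeal.ResidueField :=
      charZero_of_injective_algebraMap (algebraMap k x.asIdeal.ResidueField).injective
    apply (hfin x hx j₀).not_infinite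
    refine (Set.infinite_range_of_injective (Nat.cast_injective (R := x.asIdeal.ResidueField))).mono ?_
    rintro _ ⟨m, rfl⟩
    exact ⟨m, 0, by simp⟩

theorem main_S7451 (k : Type u) [Field k] (n : ℕ) (hn : 2 ≤ n)
    (W : (Spec (CommRingCat.of (MvPolynomial (Fin n) k))).Opens)
    (hW : (W : Set ↥(Spec (CommRingCat.of (MvPolynomial (Fin n) k)))).Nonempty)
    (hinv : ∀ (i j : Fin n), i ≠ j → ∀ d : ℕ,
      (Spec.map (CommRingCat.ofHom (MvPolynomial.aeval (R := k)
        (Function.update MvPolynomial.X i (MvPolynomial.X i + MvPolynomial.X j ^ d) :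
          Fin n → MvPolynomial (Fin n) k)).toRingHom)) ⁻¹ᵁ W = W) :
    W = ⊤ ∨ ∃ p : ℕ, p.Prime ∧ CharP k p ∧ ((W : Set ↥(Spec (CommRingCat.of (MvPolynomial (Fin n) k))))ᶜ).Finite ∧
      ∀ x : ↥(Spec (CommRingCat.of (MvPolynomial (Fin n) k))),
        x ∉ (W : Set ↥(Spec (CommRingCat.of (MvPolynomial (Fin n) k)))) →
        IsClosed ({x} : Set ↥(Spec (CommRingCat.of (MvPolynomial (Fin n) k)))) ∧ ∀ i : Fin n, ∃ m : ℕ, 0 < m ∧
          (algebraMap (MvPolynomial (Fin n) k) x.asIdeal.ResidueField (MvPolynomial.X i)) ^ (p ^ m) =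
            algebraMap (MvPolynomial (Fin n) k) x.asIdeal.ResidueField (MvPolynomial.X i) := by
  have hZ : IsClosed ((W : Set ↥(Spec (CommRingCat.of (MvPolynomial (Fin n) k))))ᶜ) := W.isOpen.isClosed_compl
  have hZne : ((W : Set ↥(Spec (CommRingCat.of (MvPolynomial (Fin n) k))))ᶜ) ≠ Set.univ := by
    intro h
    obtain ⟨w, hw⟩ := hW
    have hw' : w ∈ ((W : Set ↥(Spec (CommRingCat.of (MvPolynomial (Fin n) k))))ᶜ) := by
      rw [h]
      exact Set.mem_univ _
    exact hw' hw
  have hinv' : ∀ i j : Fin n, i ≠ j → ∀ d : ℕ, ∀ x : ↥(Spec (CommRingCat.of (MvPolynomial (Fin n) k))),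
      x ∈ ((W : Set ↥(Spec (CommRingCat.of (MvPolynomial (Fin n) k))))ᶜ) →
      (PrimeSpectrum.comap (T (k := k) i j d).toRingHom x :
        ↥(Spec (CommRingCat.of (MvPolynomial (Fin n) k)))) ∈
        ((W : Set ↥(Spec (CommRingCat.of (MvPolynomial (Fin n) k))))ᶜ) := by
    intro i j hij d x hx hx'
    apply hx
    have h := hinv i j hij d
    rw [← h]
    exact hx'
  rcases main_abstract hn _ hZ hZne hinv' with h | ⟨p, hp, hchar, hfin, hpts⟩
  · left
    have h' : ((W : Set ↥(Spec (CommRingCat.of (MvPolynomial (Fin n) k))))ᶜ) = ∅ := h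
    rw [Set.compl_empty_iff] at h'
    exact TopologicalSpace.Opens.ext h'
  · right
    exact ⟨p, hp, hchar, hfin, fun x hx => hpts x hx⟩

end Wrapper

end Groth.Agent.Lib.T2H8.ElemAut
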