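import Mathlib

/-!
# helper8: transcendence degree of a compositum `K(E)` over `K` is at most that of `E` over `k`
-/

set_option autoImplicit false
universe u

namespace Groth.Agent.Lib.T2H8.TrdegAdjoin

open IntermediateField Cardinal

variable {k K L : Type u} [Field k] [Field K] [Field L] [Algebra k K] [Algebra K L] [Algebra k L]
  [IsScalarTower k K L]

theorem trdeg_adjoin_le (E : IntermediateField k L) :
    Algebra.trdeg K (IntermediateField.adjoin K (E : Set L)) ≤ Algebra.trdeg k E := by
  obtain ⟨s, hs⟩ := exists_isTranscendenceBasis k E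
  set E' := IntermediateField.adjoin K (E : Set L) with hE'
  let f' : E →+* E' := (algebraMap E L).codRestrict E'
    (fun e => IntermediateField.subset_adjoin K _ e.2)
  have hf' : ∀ e : E, ((f' e : E') : L) = (e : L) := fun e => rfl
  let t : Set E' := f' '' s
  let R := Algebra.adjoin k (Set.range (Subtype.val : s → E))
  let R' := Algebra.adjoin K t
  have hmem : ∀ a : R, f' a.1 ∈ R' := by
    rintro ⟨a, ha⟩
    induction ha using Algebra.adjoin_induction with
    | mem x hx =>
      obtain ⟨⟨y, hy⟩, rfl⟩ := hx
      exact Algebra.subset_adjoin ⟨y, hy, rfl⟩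
    | algebraMap c =>
      have : f' (algebraMap k E c) = algebraMap K E' (algebraMap k K c) := by
        apply Subtype.ext
        change algebraMap k L c = algebraMap K L (algebraMap k K c)
        exact IsScalarTower.algebraMap_apply k K L c
      change f' (algebraMap k E c) ∈ R'
      rw [this]
      exact Subalgebra.algebraMap_mem _ _
    | add x y _ _ hx hy =>
      change f' (x + y) ∈ R'
      rw [map_add]
      exact add_mem hx hy
    | mul x y _ _ hx hy =>
      change f' (x * y) ∈ R'
      rw [map_mul]
      exact mul_mem hx hy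
  let g : R →+* R' := (f'.comp R.val.toRingHom).codRestrict R' hmem
  have hg : Function.Injective g := by
    intro a b hab
    have h1 : f' a.1 = f' b.1 := congrArg Subtype.val hab
    have h2 : ((a.1 : E) : L) = ((b.1 : E) : L) := by
      rw [← hf' a.1, ← hf' b.1, h1]
    exact Subtype.ext (Subtype.ext h2)
  have hcomp : (algebraMap R' E').comp g = f'.comp (algebraMap R E) := RingHom.ext (fun _ => rfl)
  have halgE : ∀ e : E, IsAlgebraic R' (f' e) := by
    intro e
    obtain ⟨p, hp0, hp⟩ := (hs.isAlgebraic).isAlgebraic e
    refine ⟨p.map g, fun h => hp0 (Polynomial.map_injective g hg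
      (h.trans (Polynomial.map_zero g).symm)), ?_⟩
    rw [Polynomial.aeval_def, Polynomial.eval₂_map, hcomp, ← Polynomial.hom_eval₂,
      ← Polynomial.aeval_def, hp, map_zero]
  have halg : Algebra.IsAlgebraic R' E' := by
    refine ⟨fun y => ?_⟩
    obtain ⟨y, hy⟩ := y
    induction hy using IntermediateField.adjoin_induction with
    | mem x hx => exact halgE ⟨x, hx⟩
    | algebraMap c =>
      have : (⟨algebraMap K L c, IntermediateField.algebraMap_mem _ c⟩ : E') =
          algebraMap R' E' (algebraMap K R' c) := rfl
      rw [this]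
      exact isAlgebraic_algebraMap _
    | add x y hx hy ihx ihy => exact IsAlgebraic.add ihx ihy
    | inv x hx ihx => exact IsAlgebraic.inv ihx
    | mul x y hx hy ihx ihy => exact IsAlgebraic.mul ihx ihy
  calc Algebra.trdeg K E' ≤ #t := Algebra.IsAlgebraic.trdeg_le_cardinalMk K t
    _ ≤ #s := Cardinal.mk_image_le
    _ = Algebra.trdeg k E := hs.cardinalMk_eq_trdeg

end Groth.Agent.Lib.T2H8.TrdegAdjoin
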