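import Mathlib
import Groth.Prelude.Def_EssDim
import Groth.Agent.Lib.T2H8TrdegAdjoin

/-!
# helper8: essential dimension does not increase under extension of the base field
-/

set_option autoImplicit false
universe w u

open CategoryTheory Opposite AlgebraicGeometry

namespace Groth.Agent.Lib.T2H8.EssDimBC

variable {k : Type u} [Field k] {K : Type u} [Field K] [Algebra k K]

/-- the base change morphism -/
noncomputable abbrev φ (k K : Type u) [Field k] [Field K] [Algebra k K] :
    Spec (CommRingCat.of K) ⟶ Spec (CommRingCat.of k) :=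
  Spec.map (CommRingCat.ofHom (algebraMap k K))

section
variable (M : Type u) [Field M] [Algebra K M] [Algebra k M] [IsScalarTower k K M]

/-- `Spec M` over `Spec K` viewed over `Spec k` is `Spec M` over `Spec k`. -/
noncomputable def θ : (Over.map (φ k K)).obj (SGA7.pt (K := K) M) ≅ SGA7.pt (K := k) M :=
  Over.isoMk (Iso.refl _) (by
    change 𝟙 _ ≫ Spec.map _ = Spec.map _ ≫ Spec.map _
    rw [Category.id_comp, ← Spec.map_comp, ← CommRingCat.ofHom_comp,
      ← IsScalarTower.algebraMap_eq])

@[simp] theorem θ_hom_left : (θ (k := k) (K := K) M).hom.left = 𝟙 _ := rfl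
@[simp] theorem θ_inv_left : (θ (k := k) (K := K) M).inv.left = 𝟙 _ := rfl

end

section
variable {M N : Type u} [Field M] [Algebra K M] [Algebra k M] [IsScalarTower k K M]
  [Field N] [Algebra K N] [Algebra k N] [IsScalarTower k K N]

theorem θ_naturality (f : M →ₐ[K] N) :
    (Over.map (φ k K)).map (EssDim.resPt (k := K) f) ≫ (θ (k := k) (K := K) M).hom =
      (θ (k := k) (K := K) N).hom ≫ EssDim.resPt (k := k) (f.restrictScalars k) := by
  ext : 1
  simp only [Over.comp_left, Over.map_map_left, θ_hom_left, EssDim.resPt_left, Category.comp_id,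
    Category.id_comp]
  rfl

end

variable (P : (Over (Spec (CommRingCat.of k)))ᵒᵖ ⥤ Type w)

/-- the restricted presheaf -/
noncomputable abbrev PK : (Over (Spec (CommRingCat.of K)))ᵒᵖ ⥤ Type w := (Over.map (φ k K)).op ⋙ P

variable {L : Type u} [Field L] [Algebra K L] [Algebra k L] [IsScalarTower k K L]

theorem descends_adjoin (ξ : EssDim.FPt (PK (K := K) P) L) (E : IntermediateField k L)
    (hE : EssDim.Descends P (P.map (θ (k := k) (K := K) L).inv.op ξ) E) :
    EssDim.Descends (PK (K := K) P) ξ (IntermediateField.adjoin K (E : Set L)) := by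
  obtain ⟨η₀, hη₀⟩ := hE
  set E' := IntermediateField.adjoin K (E : Set L) with hE'
  let j : E →ₐ[k] E' :=
    { toFun := fun e => ⟨e.1, IntermediateField.subset_adjoin K _ e.2⟩
      map_one' := rfl
      map_mul' := fun _ _ => rfl
      map_zero' := rfl
      map_add' := fun _ _ => rfl
      commutes' := fun c => by
        apply Subtype.ext
        rfl }
  have hj : (E'.val.restrictScalars k).comp j = E.val := by
    ext x
    rfl
  refine ⟨P.map (θ (k := k) (K := K) E').hom.op (P.map (EssDim.resPt (k := k) j).op η₀), ?_⟩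
  change P.map ((Over.map (φ k K)).map (EssDim.resPt (k := K) E'.val)).op
    (P.map (θ (k := k) (K := K) E').hom.op (P.map (EssDim.resPt (k := k) j).op η₀)) = ξ
  rw [← FunctorToTypes.map_comp_apply, ← op_comp, θ_naturality, op_comp,
    FunctorToTypes.map_comp_apply, ← FunctorToTypes.map_comp_apply P (EssDim.resPt j).op, ← op_comp,
    ← EssDim.resPt_comp, hj]
  change P.map (θ (k := k) (K := K) L).hom.op (EssDim.fmap E.val η₀) = ξ
  rw [hη₀, ← FunctorToTypes.map_comp_apply, ← op_comp, Iso.hom_inv_id, op_id,
    FunctorToTypes.map_id_apply]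

theorem edAt_le (ξ : EssDim.FPt (PK (K := K) P) L) :
    EssDim.edAt (PK (K := K) P) ξ ≤ EssDim.edAt P (P.map (θ (k := k) (K := K) L).inv.op ξ) := by
  refine le_iInf (fun E => ?_)
  obtain ⟨E, hE⟩ := E
  refine (EssDim.edAt_le_of_descends (descends_adjoin P ξ E hE)).trans ?_
  exact Cardinal.toENat.monotone' (Groth.Agent.Lib.T2H8.TrdegAdjoin.trdeg_adjoin_le E)

end Groth.Agent.Lib.T2H8.EssDimBC
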