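import Mathlib

/-!
# Descent of monogenicity and commutativity (helper8, Oort–Tate cluster)

Pure algebra: if an `R`-algebra `C`, finite projective of rank `p` as a module, becomes generated by
a single element after base change to every algebraically closed field, then `C` is commutative.

* `exists_monogenic_of_field_ext`: descent of "`1, ξ, …, ξ^(p-1)` span" from an extension field to an
  infinite field (generic element argument).
-/

set_option autoImplicit false
universe u v

namespace Groth.Agent.Lib.T3H8.OT

open TensorProduct Module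

section Generic

variable {k : Type*} [Field k] {C : Type*} [Ring C] [Algebra k C] {p : ℕ} (b : Basis (Fin p) k C)

/-- The generic element `Σ Xᵢ ⊗ bᵢ` of `k[X] ⊗ C`. -/
noncomputable def genericElt : MvPolynomial (Fin p) k ⊗[k] C :=
  ∑ i, (MvPolynomial.X i : MvPolynomial (Fin p) k) ⊗ₜ[k] b i

/-- The determinant of the powers of the generic element. -/
noncomputable def genericDet : MvPolynomial (Fin p) k :=
  (Algebra.TensorProduct.basis (MvPolynomial (Fin p) k) b).det
    (fun j : Fin p => genericElt b ^ (j : ℕ))

variable {L : Type*} [CommRing L] [Algebra k L] {CL : Type*} [Ring CL] [Algebra L CL] [Algebra k CL]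
  [IsScalarTower k L CL] (g : C →ₐ[k] CL) (bL : Basis (Fin p) L CL) (hb : ∀ i, bL i = g (b i))
  (t : Fin p → L)

/-- Specialisation `k[X] ⊗ C → CL` at the point `t`. -/
noncomputable def specialize : MvPolynomial (Fin p) k ⊗[k] C →ₐ[k] CL :=
  Algebra.TensorProduct.lift
    (((Algebra.ofId L CL).restrictScalars k).comp (MvPolynomial.aeval t)) g
    (fun x y => by
      simp only [AlgHom.comp_apply, AlgHom.coe_restrictScalars', Algebra.ofId_apply]
      exact Algebra.commute_algebraMap_left _ _)

theorem specialize_tmul (q : MvPolynomial (Fin p) k) (c : C) :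
    specialize g t (q ⊗ₜ c) = (MvPolynomial.aeval t q : L) • g c := by
  simp [specialize, Algebra.smul_def]

include hb in
theorem repr_specialize (z : MvPolynomial (Fin p) k ⊗[k] C) (i : Fin p) :
    bL.repr (specialize g t z) i =
      MvPolynomial.aeval t ((Algebra.TensorProduct.basis (MvPolynomial (Fin p) k) b).repr z i) := by
  induction z using TensorProduct.induction_on with
  | zero => simp
  | add x y hx hy => simp [hx, hy]
  | tmul q c =>
    rw [specialize_tmul, Algebra.TensorProduct.basis_repr_tmul]
    have h1 : g c = ∑ m, (algebraMap k L (b.repr c m)) • bL m := by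
      conv_lhs => rw [← b.sum_repr c]
      rw [map_sum]
      refine Finset.sum_congr rfl fun m _ => ?_
      rw [map_smul, hb, algebraMap_smul]
    rw [h1]
    simp only [map_smul, map_sum, Finsupp.smul_apply, Finsupp.coe_finsetSum, Finset.sum_apply,
      Basis.repr_self, Finsupp.single_apply, smul_eq_mul, Finsupp.mapRange_apply, map_mul]
    simp

include hb in
theorem specialize_genericElt : specialize g t (genericElt b) = ∑ i, t i • bL i := by
  unfold genericElt
  rw [map_sum]
  refine Finset.sum_congr rfl fun i _ => ?_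
  rw [specialize_tmul, MvPolynomial.aeval_X, hb]

include hb in
theorem det_specialize :
    bL.det (fun j : Fin p => (∑ i, t i • bL i) ^ (j : ℕ)) = MvPolynomial.aeval t (genericDet b) := by
  unfold genericDet
  rw [Basis.det_apply, Basis.det_apply, AlgHom.map_det]
  congr 1
  ext i j
  rw [AlgHom.mapMatrix_apply, Matrix.map_apply, Basis.toMatrix_apply, Basis.toMatrix_apply,
    ← repr_specialize b g bL hb]
  congr 2
  rw [map_pow, specialize_genericElt b g bL hb]

end Generic

section FieldDescent

theorem span_pow_eq_top_iff_det {L : Type*} [Field L] {CL : Type*} [Ring CL] [Algebra L CL] {p : ℕ}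
    (bL : Basis (Fin p) L CL) (ξ : CL) :
    Submodule.span L (Set.range fun j : Fin p => ξ ^ (j : ℕ)) = ⊤ ↔
      bL.det (fun j : Fin p => ξ ^ (j : ℕ)) ≠ 0 := by
  rw [← isUnit_iff_ne_zero, ← Basis.is_basis_iff_det]
  constructor
  · intro h
    refine ⟨?_, h⟩
    apply linearIndependent_of_top_le_span_of_card_eq_finrank h.ge
    rw [Module.finrank_eq_card_basis bL]
  · exact fun h => h.2

/-- Descent of monogenicity from an extension field to an infinite field. -/
theorem exists_monogenic_of_field_ext {k K : Type*} [Field k] [Infinite k] [Field K] [Algebra k K]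
    {C : Type*} [Ring C] [Algebra k C] {C' : Type*} [Ring C'] [Algebra K C'] [Algebra k C']
    [IsScalarTower k K C'] (f : C →ₐ[k] C') {p : ℕ} (b : Basis (Fin p) k C)
    (bK : Basis (Fin p) K C') (hb : ∀ i, bK i = f (b i))
    (hK : ∃ ξ : C', Submodule.span K (Set.range fun j : Fin p => ξ ^ (j : ℕ)) = ⊤) :
    ∃ ξ : C, Submodule.span k (Set.range fun j : Fin p => ξ ^ (j : ℕ)) = ⊤ := by
  obtain ⟨ξ', hξ'⟩ := hK
  rw [span_pow_eq_top_iff_det bK] at hξ'
  have h1 : ξ' = ∑ i, bK.repr ξ' i • bK i := (bK.sum_repr ξ').symm
  rw [h1, det_specialize b f bK hb] at hξ'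
  have hD : genericDet b ≠ 0 := by
    intro h0
    rw [h0, map_zero] at hξ'
    exact hξ' rfl
  obtain ⟨s, hs⟩ : ∃ s : Fin p → k, MvPolynomial.eval s (genericDet b) ≠ 0 := by
    by_contra hcon
    push Not at hcon
    apply hD
    apply MvPolynomial.funext
    intro x
    rw [hcon x, map_zero]
  refine ⟨∑ i, s i • b i, ?_⟩
  rw [span_pow_eq_top_iff_det b]
  have h2 := det_specialize b (AlgHom.id k C) b (fun _ => rfl) s
  rw [h2]
  rwa [MvPolynomial.aeval_eq_eval]

end FieldDescent

section Nakayama

open IsLocalRing

/-- Lifting monogenicity from the residue field of a local ring (Nakayama). -/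
theorem exists_monogenic_of_residue {S : Type*} [CommRing S] [IsLocalRing S] {C' : Type*} [Ring C']
    [Algebra S C'] [Module.Finite S C'] {Cb : Type*} [Ring Cb] [Algebra (ResidueField S) Cb]
    [Algebra S Cb] [IsScalarTower S (ResidueField S) Cb] (π : C' →ₐ[S] Cb)
    (hπ : Function.Surjective π)
    (hker : ∀ z : C', π z = 0 → z ∈ (maximalIdeal S) • (⊤ : Submodule S C')) {p : ℕ}
    (h : ∃ ξ : Cb, Submodule.span (ResidueField S) (Set.range fun j : Fin p => ξ ^ (j : ℕ)) = ⊤) :
    ∃ ξ : C', Submodule.span S (Set.range fun j : Fin p => ξ ^ (j : ℕ)) = ⊤ := by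
  obtain ⟨ξb, hξb⟩ := h
  obtain ⟨ξ, rfl⟩ := hπ ξb
  refine ⟨ξ, ?_⟩
  rw [eq_top_iff]
  apply Submodule.le_of_le_smul_of_le_jacobson_bot (I := maximalIdeal S) Module.Finite.fg_top
    (IsLocalRing.maximalIdeal_le_jacobson ⊥)
  intro z _
  have hz : π z ∈ Submodule.span (ResidueField S) (Set.range fun j : Fin p => π ξ ^ (j : ℕ)) := by
    rw [hξb]; trivial
  rw [Submodule.mem_span_range_iff_exists_fun] at hz
  obtain ⟨c, hc⟩ := hz
  choose t ht using fun j => IsLocalRing.residue_surjective (c j)
  have h1 : π (∑ j, t j • ξ ^ (j : ℕ)) = π z := by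
    rw [map_sum, ← hc]
    refine Finset.sum_congr rfl fun j _ => ?_
    rw [map_smul, map_pow, ← ht j]
    exact (IsScalarTower.algebraMap_smul (ResidueField S) (t j) (π ξ ^ (j : ℕ))).symm
  have h2 : z - ∑ j, t j • ξ ^ (j : ℕ) ∈ (maximalIdeal S) • (⊤ : Submodule S C') := by
    apply hker
    rw [map_sub, h1, sub_self]
  have h3 : z = ∑ j, t j • ξ ^ (j : ℕ) + (z - ∑ j, t j • ξ ^ (j : ℕ)) := by abel
  rw [h3]
  refine Submodule.add_mem_sup ?_ h2
  exact Submodule.sum_mem _ fun j _ => Submodule.smul_mem _ _ (Submodule.subset_span ⟨j, rfl⟩)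

/-- An algebra spanned by the powers of one element is commutative. -/
theorem mul_comm_of_monogenic {S : Type*} [CommRing S] {C' : Type*} [Ring C'] [Algebra S C'] {p : ℕ}
    (h : ∃ ξ : C', Submodule.span S (Set.range fun j : Fin p => ξ ^ (j : ℕ)) = ⊤) (x y : C') :
    x * y = y * x := by
  obtain ⟨ξ, hξ⟩ := h
  have hx : x ∈ Submodule.span S (Set.range fun j : Fin p => ξ ^ (j : ℕ)) := by rw [hξ]; trivial
  have hy : y ∈ Submodule.span S (Set.range fun j : Fin p => ξ ^ (j : ℕ)) := by rw [hξ]; trivial
  rw [Submodule.mem_span_range_iff_exists_fun] at hx hy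
  obtain ⟨c, rfl⟩ := hx
  obtain ⟨e, rfl⟩ := hy
  simp only [Finset.sum_mul, Finset.mul_sum, smul_mul_smul_comm, ← pow_add]
  rw [Finset.sum_comm]
  refine Finset.sum_congr rfl fun i _ => Finset.sum_congr rfl fun j _ => ?_
  rw [mul_comm (e j), add_comm]

end Nakayama

section PolyLoc

open Polynomial

variable {R : Type u} [CommRing R]

/-- The residue field of `R[X]` at the prime `𝔪 R[X]` is infinite. -/
theorem infinite_residueField_map_C (m : Ideal R) [m.IsPrime] :
    Infinite (IsLocalRing.ResidueField (Localization.AtPrime (m.map (C : R →+* R[X])))) := by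
  have hinj : Function.Injective fun n : ℕ =>
      algebraMap R[X] (m.map (C : R →+* R[X])).ResidueField (X ^ n) := by
    intro a b hab
    by_contra hne
    simp only at hab
    rw [← sub_eq_zero, ← map_sub, Ideal.algebraMap_residueField_eq_zero, Ideal.mem_map_C_iff] at hab
    have h1 := hab a
    rw [coeff_sub, coeff_X_pow, coeff_X_pow, if_pos rfl, if_neg hne, sub_zero] at h1
    exact (Ideal.ne_top_iff_one m).mp (Ideal.IsPrime.ne_top inferInstance) h1
  exact Infinite.of_injective _ hinj

/-- A nonzero element of `R` stays nonzero in `R[X]` localised at `𝔪 R[X]` for some maximal `𝔪`. -/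
theorem exists_maximal_algebraMap_ne_zero {r : R} (hr : r ≠ 0) :
    ∃ (m : Ideal R) (_ : m.IsMaximal),
      algebraMap R (Localization.AtPrime (m.map (C : R →+* R[X]))) r ≠ 0 := by
  have hann : Ideal.span {r} ≠ ⊥ := by
    rwa [Ne, Ideal.span_singleton_eq_bot]
  have hne : (Submodule.annihilator (Ideal.span {r}) : Ideal R) ≠ ⊤ := by
    intro h
    rw [Submodule.annihilator_eq_top_iff] at h
    exact hann h
  obtain ⟨m, hm, hle⟩ := Ideal.exists_le_maximal _ hne
  refine ⟨m, hm, ?_⟩
  intro h0
  rw [IsScalarTower.algebraMap_apply R R[X] (Localization.AtPrime (m.map (C : R →+* R[X]))),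
    IsLocalization.map_eq_zero_iff (m.map (C : R →+* R[X])).primeCompl] at h0
  obtain ⟨⟨s, hs⟩, hsr⟩ := h0
  apply hs
  change s ∈ m.map (C : R →+* R[X])
  rw [Ideal.mem_map_C_iff]
  intro n
  apply hle
  rw [Submodule.mem_annihilator_span_singleton]
  have := congrArg (fun q : R[X] => q.coeff n) hsr
  simpa [Polynomial.algebraMap_apply, coeff_mul_C] using this

end PolyLoc

section Assembly

open IsLocalRing

variable {R : Type u} [CommRing R] {C : Type v} [Ring C] [Algebra R C]

/-- kernel of `S ⊗ C → (S/𝔫) ⊗ C`. -/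
theorem mem_smul_top_of_map_residue_eq_zero {S : Type u} [CommRing S] [IsLocalRing S] [Algebra R S]
    (z : S ⊗[R] C)
    (hz : Algebra.TensorProduct.map (Algebra.ofId S (ResidueField S)) (AlgHom.id R C) z = 0) :
    z ∈ (maximalIdeal S) • (⊤ : Submodule S (S ⊗[R] C)) := by
  have hex : Function.Exact ((maximalIdeal S).subtype.restrictScalars R)
      ((Algebra.ofId S (ResidueField S)).toLinearMap.restrictScalars R) := by
    intro s
    simp only [LinearMap.coe_restrictScalars, AlgHom.toLinearMap_apply, Algebra.ofId_apply,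
      Set.mem_range, Submodule.coe_subtype, Subtype.exists, exists_prop, exists_eq_right]
    exact IsLocalRing.residue_eq_zero_iff s
  have hsurj : Function.Surjective ((Algebra.ofId S (ResidueField S)).toLinearMap.restrictScalars R) :=
    IsLocalRing.residue_surjective
  have h2 := rTensor_exact C hex hsurj
  have hmap : ∀ w : S ⊗[R] C, (LinearMap.rTensor C
      ((Algebra.ofId S (ResidueField S)).toLinearMap.restrictScalars R)) w =
      Algebra.TensorProduct.map (Algebra.ofId S (ResidueField S)) (AlgHom.id R C) w := by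
    intro w
    induction w using TensorProduct.induction_on with
    | zero => simp
    | add a b ha hb => rw [map_add, map_add, ha, hb]
    | tmul a b => rfl
  have hz' := (hmap z).trans hz
  obtain ⟨w, rfl⟩ := (h2 z).mp hz'
  clear hz hz'
  induction w using TensorProduct.induction_on with
  | zero => simp
  | add a b ha hb =>
    rw [map_add]
    exact Submodule.add_mem _ ha hb
  | tmul a b =>
    rw [LinearMap.rTensor_tmul]
    have : ((maximalIdeal S).subtype.restrictScalars R) a ⊗ₜ[R] b = (a : S) • ((1 : S) ⊗ₜ[R] b) := by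
      rw [TensorProduct.smul_tmul', smul_eq_mul, mul_one]; rfl
    rw [this]
    exact Submodule.smul_mem_smul a.2 trivial

end Assembly

section Assembly2

open IsLocalRing

variable {R : Type u} [CommRing R] {C : Type v} [Ring C] [Algebra R C]
  [Module.Finite R C] [Module.Projective R C]

theorem finrank_tensor_field_eq {p : ℕ} (hrank : ∀ q : PrimeSpectrum R, Module.rankAtStalk C q = p)
    (k : Type u) [Field k] [Algebra R k] : Module.finrank k (k ⊗[R] C) = p := by
  have h1 := Module.rankAtStalk_baseChange (R := R) (M := C) (S := k) (⊥ : PrimeSpectrum k)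
  rw [hrank, Module.rankAtStalk_eq_finrank_of_free] at h1
  exact h1

/-- Monogenicity over an infinite field from monogenicity over its algebraic closure. -/
theorem exists_monogenic_tensor_of_algClosure {p : ℕ}
    (k : Type u) [Field k] [Infinite k] [Algebra R k]
    (hfr : Module.finrank k (k ⊗[R] C) = p)
    (H : ∃ ξ : AlgebraicClosure k ⊗[R] C,
      Submodule.span (AlgebraicClosure k) (Set.range fun j : Fin p => ξ ^ (j : ℕ)) = ⊤) :
    ∃ ξ : k ⊗[R] C, Submodule.span k (Set.range fun j : Fin p => ξ ^ (j : ℕ)) = ⊤ := by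
  let K := AlgebraicClosure k
  let b : Basis (Fin p) k (k ⊗[R] C) := Module.finBasisOfFinrankEq k _ hfr
  let f : k ⊗[R] C →ₐ[k] K ⊗[R] C :=
    Algebra.TensorProduct.map (Algebra.ofId k K) (AlgHom.id R C)
  let bK : Basis (Fin p) K (K ⊗[R] C) :=
    (Algebra.TensorProduct.basis K b).map (AlgebraTensorModule.cancelBaseChange R k K K C)
  have hb : ∀ i, bK i = f (b i) := by
    intro i
    have hgen : ∀ w : k ⊗[R] C,
        AlgebraTensorModule.cancelBaseChange R k K K C ((1 : K) ⊗ₜ[k] w) = f w := by
      intro w
      induction w using TensorProduct.induction_on with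
      | zero => simp
      | add x y hx hy => rw [TensorProduct.tmul_add, map_add, map_add, hx, hy]
      | tmul s c =>
        rw [AlgebraTensorModule.cancelBaseChange_tmul]
        simp [f, Algebra.smul_def]
    simp only [bK, Basis.map_apply, Algebra.TensorProduct.basis_apply]
    exact hgen _
  exact exists_monogenic_of_field_ext f b bK hb H

end Assembly2

section Main

open IsLocalRing Polynomial

variable {R : Type u} [CommRing R] {C : Type v} [Ring C] [Algebra R C]
  [Module.Finite R C] [Module.Projective R C]

/-- Over a local ring with infinite residue field, `S ⊗ C` is commutative when the geometric fibres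
are monogenic. -/
theorem mul_comm_tensor_local {p : ℕ}
    (hfr : ∀ (k : Type u) [Field k] [Algebra R k], Module.finrank k (k ⊗[R] C) = p)
    (H : ∀ (K : Type u) [Field K] [IsAlgClosed K] [Algebra R K],
      ∃ ξ : K ⊗[R] C, Submodule.span K (Set.range fun j : Fin p => ξ ^ (j : ℕ)) = ⊤)
    (S : Type u) [CommRing S] [IsLocalRing S] [Algebra R S] [Infinite (ResidueField S)]
    (x y : S ⊗[R] C) : x * y = y * x := by
  have hb : ∃ ξ : ResidueField S ⊗[R] C,
      Submodule.span (ResidueField S) (Set.range fun j : Fin p => ξ ^ (j : ℕ)) = ⊤ :=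
    exists_monogenic_tensor_of_algClosure (ResidueField S) (hfr (ResidueField S))
      (H (AlgebraicClosure (ResidueField S)))
  have hsurj : Function.Surjective
      (Algebra.TensorProduct.map (Algebra.ofId S (ResidueField S)) (AlgHom.id R C)) :=
    by
      intro w
      induction w using TensorProduct.induction_on with
      | zero => exact ⟨0, map_zero _⟩
      | add a b ha hb =>
        obtain ⟨a', rfl⟩ := ha
        obtain ⟨b', rfl⟩ := hb
        exact ⟨a' + b', map_add _ _ _⟩
      | tmul s c =>
        obtain ⟨s', rfl⟩ := IsLocalRing.residue_surjective s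
        exact ⟨s' ⊗ₜ c, rfl⟩
  have hmono : ∃ ξ : S ⊗[R] C, Submodule.span S (Set.range fun j : Fin p => ξ ^ (j : ℕ)) = ⊤ :=
    exists_monogenic_of_residue (S := S) (C' := S ⊗[R] C) (Cb := ResidueField S ⊗[R] C)
      (Algebra.TensorProduct.map (Algebra.ofId S (ResidueField S)) (AlgHom.id R C)) hsurj
      (fun z hz => mem_smul_top_of_map_residue_eq_zero z hz) hb
  exact mul_comm_of_monogenic hmono x y

/-- **Theorem X**: an algebra, finite projective of rank `p` as a module, whose geometric fibres are
generated by one element, is commutative. -/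
theorem mul_comm_of_monogenic_geometric_fibers {p : ℕ}
    (hfr : ∀ (k : Type u) [Field k] [Algebra R k], Module.finrank k (k ⊗[R] C) = p)
    (H : ∀ (K : Type u) [Field K] [IsAlgClosed K] [Algebra R K],
      ∃ ξ : K ⊗[R] C, Submodule.span K (Set.range fun j : Fin p => ξ ^ (j : ℕ)) = ⊤)
    (x y : C) : x * y = y * x := by
  by_contra hne
  have hz : x * y - y * x ≠ 0 := sub_ne_zero.mpr hne
  obtain ⟨f, hf⟩ := Module.Projective.exists_dual_ne_zero R hz
  obtain ⟨m, hm, hm0⟩ := exists_maximal_algebraMap_ne_zero hf
  let S := Localization.AtPrime (m.map (Polynomial.C : R →+* R[X]))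
  have : Infinite (ResidueField S) := infinite_residueField_map_C m
  have h1 := mul_comm_tensor_local hfr H S ((1 : S) ⊗ₜ[R] x) ((1 : S) ⊗ₜ[R] y)
  rw [Algebra.TensorProduct.tmul_mul_tmul, Algebra.TensorProduct.tmul_mul_tmul, mul_one,
    ← sub_eq_zero, ← TensorProduct.tmul_sub] at h1
  have h2 := congrArg (Module.Dual.baseChange S f) h1
  rw [Module.Dual.baseChange_apply_tmul, map_zero, Algebra.smul_def, mul_one] at h2
  exact hm0 h2

end Main

end Groth.Agent.Lib.T3H8.OT
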