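import Mathlib

/-!
# Invariant derivations on a commutative bialgebra (helper8, Oort–Tate cluster)

* `opOf φ`: the left-invariant operator `a ↦ Σ a₍₁₎ φ(a₍₂₎)` attached to a functional `φ`.
* `IsEpsDer d`: `d` is an `ε`-derivation; then `opOf d` is a derivation.
* `conv_pow_apply`: `d^{*j}(a) = ε((opOf d)^j a)`.
* `finrank_cast_eq_zero_of_derivation`: the trace trick `[D, x] = 1`.
* `counit_iterate_pow`: the triangular computation `ε(D^j(x^i))`.
-/

set_option autoImplicit false
universe u v

namespace Groth.Agent.Lib.T3H8.OT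

open Coalgebra TensorProduct WithConv

section Op

variable {R : Type u} [CommRing R] {A : Type v} [CommRing A] [Bialgebra R A]

/-- The left-invariant operator `a ↦ Σ φ(a₍₂₎) • a₍₁₎` attached to a functional. -/
noncomputable def opOf (φ : A →ₗ[R] R) : A →ₗ[R] A :=
  (TensorProduct.rid R A).toLinearMap ∘ₗ (φ.lTensor A) ∘ₗ comul

theorem opOf_apply {ι : Type*} {a : A} (𝓡 : Coalgebra.Repr R a ι) (φ : A →ₗ[R] R) :
    opOf φ a = ∑ i ∈ 𝓡.index, φ (𝓡.right i) • 𝓡.left i := by
  unfold opOf
  simp only [LinearMap.comp_apply, ← 𝓡.eq, map_sum, LinearMap.lTensor_tmul, LinearEquiv.coe_coe,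
    TensorProduct.rid_tmul]

theorem counit_opOf (φ : A →ₗ[R] R) (a : A) : counit (R := R) (opOf φ a) = φ a := by
  rw [opOf_apply (ℛ R a), map_sum]
  simp only [map_smul, smul_eq_mul]
  have h := Coalgebra.sum_counit_smul (ℛ R a)
  have h2 := congrArg φ h
  rw [map_sum] at h2
  simp only [map_smul, smul_eq_mul] at h2
  rw [← h2]
  exact Finset.sum_congr rfl fun i _ => mul_comm _ _

/-- `(φ * ψ)(a) = φ(opOf ψ a)`. -/
theorem conv_mul_apply (φ ψ : WithConv (A →ₗ[R] R)) (a : A) :
    (φ * ψ) a = φ (opOf ψ.ofConv a) := by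
  rw [(ℛ R a).convMul_apply, opOf_apply (ℛ R a)]
  change _ = φ.ofConv _
  rw [map_sum]
  refine Finset.sum_congr rfl fun i _ => ?_
  rw [map_smul, smul_eq_mul]
  exact mul_comm _ _

theorem conv_pow_apply (d : WithConv (A →ₗ[R] R)) (j : ℕ) (a : A) :
    (d ^ j) a = counit (R := R) ((opOf d.ofConv)^[j] a) := by
  induction j generalizing a with
  | zero => simp
  | succ j ih =>
    rw [pow_succ, Function.iterate_succ_apply, conv_mul_apply, ih]

/-- `d` is an `ε`-derivation. -/
def IsEpsDer (d : A →ₗ[R] R) : Prop :=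
  ∀ a b : A, d (a * b) = counit (R := R) a * d b + d a * counit (R := R) b

theorem opOf_mul_aux {d : A →ₗ[R] R} (hd : IsEpsDer d) {ι κ : Type*} (s : Finset ι) (t : Finset κ)
    (la ra : ι → A) (lb rb : κ → A) :
    ∑ i ∈ s, ∑ j ∈ t, d (ra i * rb j) • (la i * lb j) =
      (∑ i ∈ s, counit (R := R) (ra i) • la i) * (∑ j ∈ t, d (rb j) • lb j) +
        (∑ i ∈ s, d (ra i) • la i) * (∑ j ∈ t, counit (R := R) (rb j) • lb j) := by
  have hd' : ∀ a b : A, d (a * b) = counit (R := R) a * d b + d a * counit (R := R) b := hd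
  simp only [hd', add_smul, Finset.sum_add_distrib]
  congr 1
  · rw [Finset.sum_mul]
    refine Finset.sum_congr rfl fun i _ => ?_
    rw [Finset.mul_sum]
    refine Finset.sum_congr rfl fun j _ => ?_
    rw [smul_mul_smul_comm]
  · rw [Finset.sum_mul]
    refine Finset.sum_congr rfl fun i _ => ?_
    rw [Finset.mul_sum]
    refine Finset.sum_congr rfl fun j _ => ?_
    rw [smul_mul_smul_comm]

theorem sum_counit_right_smul {ι : Type*} {a : A} (𝓡 : Coalgebra.Repr R a ι) :
    ∑ i ∈ 𝓡.index, counit (R := R) (𝓡.right i) • 𝓡.left i = a := by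
  have h := congrArg (TensorProduct.rid R A) (Coalgebra.sum_tmul_counit_eq (R := R) 𝓡)
  rw [map_sum] at h
  simpa only [TensorProduct.rid_tmul, one_smul] using h

theorem opOf_mul {d : A →ₗ[R] R} (hd : IsEpsDer d) (a b : A) :
    opOf d (a * b) = a * opOf d b + opOf d a * b := by
  rw [opOf_apply ((ℛ R a).mul (ℛ R b)), opOf_apply (ℛ R a), opOf_apply (ℛ R b)]
  simp only [Coalgebra.Repr.mul_index, Coalgebra.Repr.mul_left, Coalgebra.Repr.mul_right]
  rw [Finset.sum_product, opOf_mul_aux hd, sum_counit_right_smul, sum_counit_right_smul]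

end Op

section Trace

variable {K : Type u} [Field K] {A : Type v} [CommRing A] [Algebra K A] [Module.Finite K A]

/-- The trace trick: a derivation `D` with `D x` a unit forces `dim A = 0` in `K`
(because `[v⁻¹ D, x] = 1`). -/
theorem finrank_cast_eq_zero_of_derivation (D : A →ₗ[K] A)
    (hD : ∀ a b : A, D (a * b) = a * D b + D a * b) (x : A) (hx : IsUnit (D x)) :
    (Module.finrank K A : K) = 0 := by
  obtain ⟨v, hv⟩ := hx
  let D' : A →ₗ[K] A := (LinearMap.mulLeft K ((v⁻¹ : Aˣ) : A)) ∘ₗ D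
  let X : A →ₗ[K] A := LinearMap.mulLeft K x
  have h : D' * X - X * D' = 1 := by
    ext a
    simp only [D', X, LinearMap.sub_apply, Module.End.mul_apply, LinearMap.comp_apply,
      LinearMap.mulLeft_apply, Module.End.one_apply, hD, ← hv]
    have : ((v⁻¹ : Aˣ) : A) * (v : A) = 1 := by simp
    linear_combination a * this
  have h2 := congrArg (LinearMap.trace K A) h
  rw [map_sub, LinearMap.trace_mul_comm, sub_self, LinearMap.trace_one] at h2
  exact h2.symm

end Trace

section Triangular

variable {R : Type u} [CommRing R] {A : Type v} [CommRing A] [Algebra R A]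

theorem iterate_pow_mul (D : A →ₗ[R] A) (hD : ∀ a b : A, D (a * b) = a * D b + D a * b) (x : A) :
    ∀ (j i : ℕ) (a : A), j ≤ i → ∃ b : A, D^[j] (x ^ i * a) =
      (i.descFactorial j : A) * x ^ (i - j) * (D x) ^ j * a + x ^ (i - j + 1) * b := by
  have hpow : ∀ (n : ℕ) (w : A), D (x ^ (n + 1) * w) = ((n + 1 : ℕ) : A) * x ^ n * D x * w +
      x ^ (n + 1) * D w := by
    intro n
    induction n with
    | zero => intro w; rw [hD]; simp; ring
    | succ n ih =>
      intro w
      rw [pow_succ', mul_assoc, hD, ih]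
      push_cast
      ring
  intro j
  induction j with
  | zero => intro i a _; exact ⟨0, by simp⟩
  | succ j ih =>
    intro i a hji
    obtain ⟨b, hb⟩ := ih i a (by omega)
    rw [Function.iterate_succ_apply', hb, map_add]
    obtain ⟨n, hn⟩ : ∃ n, i - j = n + 1 := ⟨i - j - 1, by omega⟩
    have h1 : i - (j + 1) = n := by omega
    rw [hn, h1]
    have e1 : (i.descFactorial j : A) * x ^ (n + 1) * D x ^ j * a =
        x ^ (n + 1) * ((i.descFactorial j : A) * D x ^ j * a) := by ring
    rw [e1, hpow n, hpow (n + 1)]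
    refine ⟨D ((i.descFactorial j : A) * D x ^ j * a) + ((n + 1 + 1 : ℕ) : A) * D x * b + x * D b, ?_⟩
    have e2 : (i.descFactorial (j + 1) : A) = ((n + 1 : ℕ) : A) * (i.descFactorial j : A) := by
      rw [Nat.descFactorial_succ, ← hn]
      push_cast
      ring
    rw [e2]
    ring

theorem ringHom_iterate_pow {S : Type*} [CommRing S] (ε : A →+* S) (D : A →ₗ[R] A)
    (hD : ∀ a b : A, D (a * b) = a * D b + D a * b) (x : A) (hx : ε x = 0) (hv : ε (D x) = 1)
    (j i : ℕ) (hji : j ≤ i) :
    ε (D^[j] (x ^ i)) = if j = i then (i.factorial : S) else 0 := by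
  obtain ⟨b, hb⟩ := iterate_pow_mul D hD x j i 1 hji
  rw [mul_one] at hb
  rw [hb]
  simp only [map_add, map_mul, map_pow, hx, hv, map_natCast, one_pow, mul_one]
  split_ifs with h
  · subst h
    simp [Nat.descFactorial_self]
  · have : i - j ≠ 0 := by omega
    simp [zero_pow this]

end Triangular

end Groth.Agent.Lib.T3H8.OT
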