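import Mathlib
import Groth.Agent.Lib.T3H8OTa

/-!
# Finite local Hopf algebras over a field (helper8, Oort–Tate cluster)

For a finite-dimensional commutative bialgebra `A` over a field `K` which is a local ring:
* `exists_epsDer`: an `ε`-derivation `d` and `x ∈ ker ε` with `d x = 1`, when `dim A > 1`;
* `finrank_cast_eq_zero_of_isLocalRing`: `dim A = 0` in `K`;
* `local_case`: if `dim A = p` is prime then `K` has characteristic `p`, the powers `d^{*j}`, `j < p`,
  are a basis of the dual and the powers `x^i`, `i < p`, are linearly independent.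
-/

set_option autoImplicit false
universe u v

namespace Groth.Agent.Lib.T3H8.OT

open Coalgebra TensorProduct WithConv

section EpsDer

variable {K : Type u} [Field K] {A : Type v} [CommRing A] [Bialgebra K A]

/-- The augmentation ideal. -/
noncomputable abbrev augIdeal (K : Type u) [Field K] (A : Type v) [CommRing A] [Bialgebra K A] :
    Ideal A := RingHom.ker (Bialgebra.counitAlgHom K A)

theorem mem_augIdeal {a : A} : a ∈ augIdeal K A ↔ counit (R := K) a = 0 := Iff.rfl

theorem sub_counit_mem_augIdeal (a : A) : a - algebraMap K A (counit (R := K) a) ∈ augIdeal K A := by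
  rw [mem_augIdeal, map_sub]
  have : counit (R := K) (algebraMap K A (counit (R := K) a)) = counit (R := K) a := by
    have := (Bialgebra.counitAlgHom K A).commutes (counit (R := K) a)
    simpa using this
  rw [this, sub_self]

/-- A functional killing `1` and `I²` is an `ε`-derivation. -/
theorem isEpsDer_of_vanishing (d : A →ₗ[K] K) (h1 : d 1 = 0)
    (h2 : ∀ a ∈ augIdeal K A, ∀ b ∈ augIdeal K A, d (a * b) = 0) : IsEpsDer d := by
  intro a b
  have ha := sub_counit_mem_augIdeal (K := K) a
  have hb := sub_counit_mem_augIdeal (K := K) b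
  have h3 := h2 _ ha _ hb
  have e : a * b = (a - algebraMap K A (counit (R := K) a)) * (b - algebraMap K A (counit (R := K) b))
      + counit (R := K) a • b + counit (R := K) b • a
      - (counit (R := K) a * counit (R := K) b) • (1 : A) := by
    simp only [Algebra.smul_def, map_mul]
    ring
  rw [e, map_sub, map_add, map_add, h3, map_smul, map_smul, map_smul, h1]
  simp only [smul_eq_mul]
  ring

/-- existence of an `ε`-derivation dual to a given `x ∈ I ∖ I²`. -/
theorem exists_epsDer_of_notMem_sq {x : A} (hx : x ∈ augIdeal K A)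
    (hx2 : x ∉ augIdeal K A * augIdeal K A) :
    ∃ d : A →ₗ[K] K, IsEpsDer d ∧ d x = 1 := by
  let W : Submodule K A := Submodule.span K {1} ⊔ (augIdeal K A * augIdeal K A).restrictScalars K
  have hxW : x ∉ W := by
    intro h
    obtain ⟨y, hy, z, hz, hyz⟩ := Submodule.mem_sup.mp h
    obtain ⟨c, rfl⟩ := Submodule.mem_span_singleton.mp hy
    have hz' : z ∈ augIdeal K A * augIdeal K A := hz
    have hzI : z ∈ augIdeal K A := Ideal.mul_le_right hz'
    have h1 : counit (R := K) (c • (1 : A) + z) = 0 := by rw [hyz]; exact hx
    rw [map_add, map_smul, mem_augIdeal.mp hzI, add_zero, Bialgebra.counit_one, smul_eq_mul,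
      mul_one] at h1
    rw [h1, zero_smul, zero_add] at hyz
    rw [← hyz] at hx2
    exact hx2 hz'
  obtain ⟨d, hd0, hd1⟩ := LinearMap.exists_extend_of_notMem (0 : W →ₗ[K] K) hxW 1
  refine ⟨d, isEpsDer_of_vanishing d ?_ ?_, hd1⟩
  · have : (1 : A) ∈ W := Submodule.mem_sup_left (Submodule.mem_span_singleton_self 1)
    have := congrArg (fun g => g ⟨1, this⟩) hd0
    simpa using this
  · intro a ha b hb
    have : a * b ∈ W := Submodule.mem_sup_right (Ideal.mul_mem_mul ha hb)
    have := congrArg (fun g => g ⟨a * b, this⟩) hd0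
    simpa using this

end EpsDer

section LocalCase

variable {K : Type u} [Field K] {A : Type v} [CommRing A] [Bialgebra K A]

theorem counit_algebraMap (c : K) : counit (R := K) (algebraMap K A c) = c := by
  have := (Bialgebra.counitAlgHom K A).commutes c
  simpa using this

instance augIdeal_isMaximal : (augIdeal K A).IsMaximal := by
  apply RingHom.ker_isMaximal_of_surjective
  intro c
  exact ⟨algebraMap K A c, counit_algebraMap c⟩

variable [Module.Finite K A] [IsLocalRing A]

theorem augIdeal_eq_maximalIdeal : augIdeal K A = IsLocalRing.maximalIdeal A :=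
  IsLocalRing.eq_maximalIdeal inferInstance

theorem exists_mem_augIdeal_notMem_sq (h : 1 < Module.finrank K A) :
    ∃ x ∈ augIdeal K A, x ∉ augIdeal K A * augIdeal K A := by
  by_contra hcon
  push Not at hcon
  have hle : augIdeal K A ≤ augIdeal K A • augIdeal K A := fun x hx => hcon x hx
  haveI : IsNoetherian K A := inferInstance
  haveI : IsNoetherianRing A := isNoetherian_of_tower K inferInstance
  have hfg : (augIdeal K A).FG := IsNoetherian.noetherian _
  have hbot : augIdeal K A = ⊥ := by
    apply Submodule.eq_bot_of_le_smul_of_le_jacobson_bot (augIdeal K A) (augIdeal K A) hfg hle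
    rw [augIdeal_eq_maximalIdeal]
    exact IsLocalRing.maximalIdeal_le_jacobson ⊥
  have hinj : Function.Injective (Bialgebra.counitAlgHom K A).toLinearMap := by
    rw [← LinearMap.ker_eq_bot]
    ext a
    constructor
    · intro ha
      have : a ∈ augIdeal K A := ha
      rw [hbot] at this
      exact this
    · intro ha
      rw [Submodule.mem_bot] at ha
      rw [ha]
      exact zero_mem _
  have := LinearMap.finrank_le_finrank_of_injective hinj
  rw [Module.finrank_self] at this
  omega

/-- The basic data in the local case. -/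
theorem exists_epsDer (h : 1 < Module.finrank K A) :
    ∃ (d : A →ₗ[K] K) (x : A), IsEpsDer d ∧ counit (R := K) x = 0 ∧ d x = 1 ∧
      IsUnit (opOf d x) := by
  obtain ⟨x, hx, hx2⟩ := exists_mem_augIdeal_notMem_sq h
  obtain ⟨d, hd, hdx⟩ := exists_epsDer_of_notMem_sq hx hx2
  refine ⟨d, x, hd, hx, hdx, ?_⟩
  have h1 : counit (R := K) (opOf d x) = 1 := by rw [counit_opOf, hdx]
  by_contra hnu
  have h2 : opOf d x ∈ IsLocalRing.maximalIdeal A := hnu
  rw [← augIdeal_eq_maximalIdeal (K := K), mem_augIdeal, h1] at h2
  exact one_ne_zero h2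

theorem finrank_cast_eq_zero_of_isLocalRing (h : 1 < Module.finrank K A) :
    (Module.finrank K A : K) = 0 := by
  obtain ⟨d, x, hd, -, -, hu⟩ := exists_epsDer h
  exact finrank_cast_eq_zero_of_derivation (opOf d) (opOf_mul hd) x hu

end LocalCase

section Pairing

variable {K : Type u} [Field K] {A : Type v} [AddCommGroup A] [Module K A]

/-- A triangular pairing with nonzero diagonal makes both families linearly independent. -/
theorem linearIndependent_of_triangular_pairing {n : ℕ} (φ : Fin n → (A →ₗ[K] K)) (v : Fin n → A)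
    (h0 : ∀ r c : Fin n, r < c → φ r (v c) = 0) (h1 : ∀ r : Fin n, φ r (v r) ≠ 0) :
    LinearIndependent K φ ∧ LinearIndependent K v := by
  let M : Matrix (Fin n) (Fin n) K := Matrix.of fun r c => φ r (v c)
  have hM : M.IsLowerTriangular := by
    intro i j hij
    exact h0 i j (OrderDual.toDual_lt_toDual.mp hij)
  have hdet : M.det ≠ 0 := by
    rw [Matrix.det_of_isLowerTriangular M hM]
    exact Finset.prod_ne_zero_iff.mpr fun i _ => h1 i
  constructor
  · rw [Fintype.linearIndependent_iff]
    intro g hg
    have : Matrix.vecMul g M = 0 := by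
      ext c
      have := congrArg (fun f : A →ₗ[K] K => f (v c)) hg
      simpa [Matrix.vecMul, dotProduct, M] using this
    exact fun i => congrFun (Matrix.eq_zero_of_vecMul_eq_zero hdet this) i
  · rw [Fintype.linearIndependent_iff]
    intro g hg
    have : M.mulVec g = 0 := by
      ext r
      have := congrArg (φ r) hg
      simpa [Matrix.mulVec, dotProduct, M, mul_comm] using this
    exact fun i => congrFun (Matrix.eq_zero_of_mulVec_eq_zero hdet this) i

end Pairing

section PrimeLocal

variable {K : Type u} [Field K] {A : Type v} [CommRing A] [Bialgebra K A] [Module.Finite K A]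
  [IsLocalRing A]

/-- The local case in prime dimension. -/
theorem local_case {p : ℕ} [hp : Fact p.Prime] (hfr : Module.finrank K A = p) :
    ∃ (d : WithConv (A →ₗ[K] K)) (x : A), counit (R := K) x = 0 ∧ IsEpsDer d.ofConv ∧ d x = 1 ∧
      CharP K p ∧
      (∀ i j : ℕ, j ≤ i → (d ^ j) (x ^ i) = if j = i then (i.factorial : K) else 0) ∧
      LinearIndependent K (fun j : Fin p => d ^ (j : ℕ)) ∧
      LinearIndependent K (fun i : Fin p => x ^ (i : ℕ)) := by
  have h1 : 1 < Module.finrank K A := hfr ▸ hp.out.one_lt
  obtain ⟨d, x, hd, hx, hdx, hu⟩ := exists_epsDer h1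
  have hchar : CharP K p := by
    rw [CharP.charP_iff_prime_eq_zero hp.out, ← hfr]
    exact finrank_cast_eq_zero_of_isLocalRing h1
  have hv : counit (R := K) (opOf d x) = 1 := by rw [counit_opOf, hdx]
  have hpair : ∀ i j : ℕ, j ≤ i →
      (toConv d ^ j) (x ^ i) = if j = i then (i.factorial : K) else 0 := by
    intro i j hji
    rw [conv_pow_apply]
    exact ringHom_iterate_pow (Bialgebra.counitAlgHom K A).toRingHom (opOf d) (opOf_mul hd) x hx hv
      j i hji
  have hfac : ∀ i : Fin p, ((i : ℕ).factorial : K) ≠ 0 := by
    intro i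
    rw [Ne, CharP.cast_eq_zero_iff K p, hp.out.dvd_factorial]
    exact not_le.mpr i.2
  have hli := linearIndependent_of_triangular_pairing
    (fun j : Fin p => (toConv d ^ (j : ℕ)).ofConv) (fun i : Fin p => x ^ (i : ℕ))
    (fun r c hrc => by
      have := hpair c r (le_of_lt (Fin.lt_def.mp hrc))
      rw [if_neg (ne_of_lt (Fin.lt_def.mp hrc))] at this
      exact this)
    (fun r => by
      have := hpair r r le_rfl
      rw [if_pos rfl] at this
      change (toConv d ^ (r : ℕ)) (x ^ (r : ℕ)) ≠ 0
      rw [this]
      exact hfac r)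
  refine ⟨toConv d, x, hx, hd, hdx, hchar, hpair, ?_, hli.2⟩
  exact hli.1.map' (WithConv.linearEquiv ..).symm.toLinearMap (by simp)

end PrimeLocal

end Groth.Agent.Lib.T3H8.OT
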