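import Mathlib
import Groth.Agent.Lib.T3H8OTa
import Groth.Agent.Lib.T3H8OTc

/-!
# Translations and the étale/local dichotomy in prime dimension (helper8, Oort–Tate cluster)
-/

set_option autoImplicit false
universe u v

namespace Groth.Agent.Lib.T3H8.OT

open Coalgebra TensorProduct WithConv

section OpComp

variable {R : Type u} [CommRing R] {A : Type v} [CommRing A] [Bialgebra R A]

theorem opOf_counit : opOf (counit (R := R) (A := A)) = LinearMap.id := by
  ext a
  rw [opOf_apply (ℛ R a), sum_counit_right_smul, LinearMap.id_apply]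

/-- `opOf` turns convolution into composition. -/
theorem opOf_conv_mul (φ ψ : WithConv (A →ₗ[R] R)) :
    opOf (φ * ψ).ofConv = opOf φ.ofConv ∘ₗ opOf ψ.ofConv := by
  ext a
  let F : A ⊗[R] (A ⊗[R] A) →ₗ[R] A :=
    (TensorProduct.rid R A).toLinearMap ∘ₗ
      LinearMap.lTensor A (LinearMap.mul' R R ∘ₗ TensorProduct.map φ.ofConv ψ.ofConv)
  have hF : ∀ x y z : A, F (x ⊗ₜ (y ⊗ₜ z)) = (φ y * ψ z) • x := by
    intro x y z
    simp [F]
  have key := congrArg F (Coalgebra.sum_tmul_tmul_eq (ℛ R a) (fun i => ℛ R ((ℛ R a).left i))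
    (fun i => ℛ R ((ℛ R a).right i)))
  simp only [map_sum, hF] at key
  rw [LinearMap.comp_apply, opOf_apply (ℛ R a) ψ.ofConv, map_sum, opOf_apply (ℛ R a)]
  have e1 : ∑ i ∈ (ℛ R a).index, (φ * ψ).ofConv ((ℛ R a).right i) • (ℛ R a).left i =
      ∑ i ∈ (ℛ R a).index, ∑ j ∈ (ℛ R ((ℛ R a).right i)).index,
        (φ ((ℛ R ((ℛ R a).right i)).left j) * ψ ((ℛ R ((ℛ R a).right i)).right j)) •
          (ℛ R a).left i := by
    refine Finset.sum_congr rfl fun i _ => ?_
    have := (ℛ R ((ℛ R a).right i)).convMul_apply φ ψ
    change (φ * ψ) ((ℛ R a).right i) • _ = _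
    rw [this, Finset.sum_smul]
  have e2 : ∑ i ∈ (ℛ R a).index, (opOf φ.ofConv) (ψ.ofConv ((ℛ R a).right i) • (ℛ R a).left i) =
      ∑ i ∈ (ℛ R a).index, ∑ j ∈ (ℛ R ((ℛ R a).left i)).index,
        (φ ((ℛ R ((ℛ R a).left i)).right j) * ψ ((ℛ R a).right i)) •
          (ℛ R ((ℛ R a).left i)).left j := by
    refine Finset.sum_congr rfl fun i _ => ?_
    rw [map_smul, opOf_apply (ℛ R ((ℛ R a).left i)), Finset.smul_sum]
    refine Finset.sum_congr rfl fun j _ => ?_
    rw [smul_smul, mul_comm]
  rw [e1, e2, key]

end OpComp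

section Transl

variable {R : Type u} [CommRing R] {A : Type v} [CommRing A] [Bialgebra R A]

theorem opOf_algHom_mul (g : A →ₐ[R] R) (a b : A) :
    opOf g.toLinearMap (a * b) = opOf g.toLinearMap a * opOf g.toLinearMap b := by
  rw [opOf_apply ((ℛ R a).mul (ℛ R b)), opOf_apply (ℛ R a), opOf_apply (ℛ R b)]
  simp only [Coalgebra.Repr.mul_index, Coalgebra.Repr.mul_left, Coalgebra.Repr.mul_right,
    AlgHom.toLinearMap_apply, map_mul]
  rw [Finset.sum_product, Finset.sum_mul_sum]
  refine Finset.sum_congr rfl fun i _ => Finset.sum_congr rfl fun j _ => ?_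
  rw [smul_mul_smul_comm]

theorem opOf_algHom_one (g : A →ₐ[R] R) : opOf g.toLinearMap (1 : A) = 1 := by
  unfold opOf
  simp [Bialgebra.comul_one, Algebra.TensorProduct.one_def]

/-- Right translation by a point `g : A → R`, as an algebra endomorphism. -/
noncomputable def transl (g : A →ₐ[R] R) : A →ₐ[R] A :=
  AlgHom.ofLinearMap (opOf g.toLinearMap) (opOf_algHom_one g) (opOf_algHom_mul g)

theorem transl_apply (g : A →ₐ[R] R) (a : A) : transl g a = opOf g.toLinearMap a := rfl

theorem counit_transl (g : A →ₐ[R] R) (a : A) : counit (R := R) (transl g a) = g a :=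
  counit_opOf _ _

theorem transl_mul (g h : WithConv (A →ₐ[R] R)) :
    transl (g * h).ofConv = (transl g.ofConv).comp (transl h.ofConv) := by
  apply AlgHom.toLinearMap_injective
  change opOf (g * h).ofConv.toLinearMap = opOf g.ofConv.toLinearMap ∘ₗ opOf h.ofConv.toLinearMap
  rw [← opOf_conv_mul]
  rfl

theorem transl_one : transl (1 : WithConv (A →ₐ[R] R)).ofConv = AlgHom.id R A := by
  apply AlgHom.toLinearMap_injective
  change opOf (counit (R := R) (A := A)) = _
  rw [opOf_counit]
  rfl

end Transl

section TranslEquiv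

variable {R : Type u} [CommRing R] {A : Type v} [CommRing A] [HopfAlgebra R A]

/-- Right translation by a point as an algebra automorphism. -/
noncomputable def translEquiv (g : A →ₐ[R] R) : A ≃ₐ[R] A :=
  AlgEquiv.ofAlgHom (transl g) (transl (toConv g)⁻¹.ofConv)
    (by
      have := transl_mul (toConv g) (toConv g)⁻¹
      rw [mul_inv_cancel, transl_one] at this
      exact this.symm)
    (by
      have := transl_mul (toConv g)⁻¹ (toConv g)
      rw [inv_mul_cancel, transl_one] at this
      exact this.symm)

theorem translEquiv_apply (g : A →ₐ[R] R) (a : A) : translEquiv g a = transl g a := rfl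

theorem counit_translEquiv (g : A →ₐ[R] R) (a : A) :
    counit (R := R) (translEquiv g a) = g a := counit_transl g a

end TranslEquiv

section AlgClosed

variable {K : Type u} [Field K] [IsAlgClosed K] {A : Type v} [CommRing A] [HopfAlgebra K A]
  [Module.Finite K A]

/-- Over an algebraically closed field every maximal ideal is the kernel of a point. -/
theorem exists_point_ker_eq (m : Ideal A) [hm : m.IsMaximal] :
    ∃ g : A →ₐ[K] K, RingHom.ker g = m := by
  letI : Field (A ⧸ m) := Ideal.Quotient.field m
  haveI : Module.Finite K (A ⧸ m) := Module.Finite.of_surjective (Ideal.Quotient.mkₐ K m).toLinearMap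
    (Ideal.Quotient.mkₐ_surjective K m)
  have hbij : Function.Bijective (algebraMap K (A ⧸ m)) :=
    IsAlgClosed.algebraMap_bijective_of_isIntegral
  let e : K ≃ₐ[K] (A ⧸ m) := AlgEquiv.ofBijective (Algebra.ofId K (A ⧸ m)) hbij
  refine ⟨e.symm.toAlgHom.comp (Ideal.Quotient.mkₐ K m), ?_⟩
  ext a
  rw [RingHom.mem_ker]
  change e.symm (Ideal.Quotient.mk m a) = 0 ↔ _
  rw [map_eq_zero_iff _ e.symm.injective, Ideal.Quotient.eq_zero_iff_mem]

theorem point_ext {g h : A →ₐ[K] K} (hk : RingHom.ker g = RingHom.ker h) : g = h := by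
  ext a
  have h1 : a - algebraMap K A (g a) ∈ RingHom.ker g := by
    rw [RingHom.mem_ker, map_sub, AlgHom.commutes]
    simp
  rw [hk, RingHom.mem_ker, map_sub, AlgHom.commutes] at h1
  have h2 : h a - g a = 0 := by simpa using h1
  exact (sub_eq_zero.mp h2).symm

/-- The kernel of a point is a maximal ideal. -/
theorem ker_point_isMaximal (g : A →ₐ[K] K) : (RingHom.ker g).IsMaximal :=
  RingHom.ker_isMaximal_of_surjective _ fun c => ⟨algebraMap K A c, g.commutes c⟩

/-- Points correspond to maximal ideals. -/
noncomputable def pointEquivMaximalSpectrum : (A →ₐ[K] K) ≃ MaximalSpectrum A :=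
  Equiv.ofBijective (fun g => ⟨RingHom.ker g, ker_point_isMaximal g⟩)
    ⟨fun g h hgh => point_ext (congrArg MaximalSpectrum.asIdeal hgh),
      fun m => by
        haveI := m.isMaximal
        obtain ⟨g, hg⟩ := exists_point_ker_eq (K := K) m.asIdeal
        exact ⟨g, MaximalSpectrum.ext hg⟩⟩

/-- All localisations at maximal ideals have the same dimension. -/
theorem finrank_localization_eq (m : Ideal A) [hm : m.IsMaximal] :
    Module.finrank K (Localization.AtPrime m) =
      Module.finrank K (Localization.AtPrime (augIdeal K A)) := by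
  obtain ⟨g, hg⟩ := exists_point_ker_eq (K := K) m
  let τ := translEquiv g
  have H : Submonoid.map τ.toRingEquiv.toMonoidHom m.primeCompl = (augIdeal K A).primeCompl := by
    ext a
    constructor
    · rintro ⟨b, hb, rfl⟩
      intro hmem
      apply hb
      rw [← hg]
      change g b = 0
      have : counit (R := K) (τ b) = 0 := hmem
      rwa [counit_translEquiv] at this
    · intro ha
      refine ⟨τ.symm a, ?_, τ.apply_symm_apply a⟩
      intro hmem
      apply ha
      have h1 : g (τ.symm a) = 0 := by
        have : τ.symm a ∈ RingHom.ker g := hg ▸ hmem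
        exact this
      have h2 := counit_translEquiv g (τ.symm a)
      rw [h1] at h2
      have h3 : translEquiv g (τ.symm a) = a := τ.apply_symm_apply a
      rw [h3] at h2
      exact h2
  let e := IsLocalization.ringEquivOfRingEquiv (Localization.AtPrime m)
    (Localization.AtPrime (augIdeal K A)) τ.toRingEquiv H
  let e' : Localization.AtPrime m ≃ₐ[K] Localization.AtPrime (augIdeal K A) :=
    AlgEquiv.ofRingEquiv (f := e) (by
      intro c
      rw [IsScalarTower.algebraMap_apply K A (Localization.AtPrime m),
        IsScalarTower.algebraMap_apply K A (Localization.AtPrime (augIdeal K A))]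
      rw [IsLocalization.ringEquivOfRingEquiv_eq]
      congr 1
      exact τ.commutes c)
  exact e'.toLinearEquiv.finrank_eq

end AlgClosed

section Dichotomy

variable {K : Type u} [Field K] [IsAlgClosed K] {A : Type v} [CommRing A] [HopfAlgebra K A]
  [Module.Finite K A]

theorem finite_localization (m : MaximalSpectrum A) :
    Module.Finite K (Localization.AtPrime m.asIdeal) := by
  haveI : IsArtinianRing A := IsArtinianRing.of_finite K A
  let e := (MaximalSpectrum.toPiLocalizationEquiv A).toLinearEquiv.restrictScalars K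
  let f : A →ₗ[K] Localization.AtPrime m.asIdeal :=
    (LinearMap.proj (R := K) (φ := fun I : MaximalSpectrum A => Localization.AtPrime I.asIdeal) m) ∘ₗ
      e.toLinearMap
  refine Module.Finite.of_surjective f ?_
  intro y
  classical
  obtain ⟨a, ha⟩ := e.surjective (Pi.single m y)
  refine ⟨a, ?_⟩
  simp only [f, LinearMap.comp_apply, LinearEquiv.coe_coe, ha, LinearMap.proj_apply, Pi.single_eq_same]

theorem finrank_eq_sum_localization [Fintype (MaximalSpectrum A)] :
    Module.finrank K A =
      ∑ m : MaximalSpectrum A, Module.finrank K (Localization.AtPrime m.asIdeal) := by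
  haveI : IsArtinianRing A := IsArtinianRing.of_finite K A
  haveI := fun m : MaximalSpectrum A => finite_localization (K := K) m
  let e := (MaximalSpectrum.toPiLocalizationEquiv A).toLinearEquiv.restrictScalars K
  rw [e.finrank_eq]
  exact Module.finrank_pi_fintype K

end Dichotomy

section Dichotomy2

variable {K : Type u} [Field K] [IsAlgClosed K] {A : Type v} [CommRing A] [HopfAlgebra K A]
  [Module.Finite K A]

/-- In prime dimension over an algebraically closed field, a finite commutative Hopf algebra is
either local or has exactly `p` points. -/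
theorem isLocalRing_or_card_points {p : ℕ} [hp : Fact p.Prime] (hfr : Module.finrank K A = p) :
    IsLocalRing A ∨ Nat.card (A →ₐ[K] K) = p := by
  haveI : IsArtinianRing A := IsArtinianRing.of_finite K A
  haveI : Finite (MaximalSpectrum A) := inferInstance
  letI : Fintype (MaximalSpectrum A) := Fintype.ofFinite _
  have h1 := finrank_eq_sum_localization (K := K) (A := A)
  have h2 : ∀ m : MaximalSpectrum A, Module.finrank K (Localization.AtPrime m.asIdeal) =
      Module.finrank K (Localization.AtPrime (augIdeal K A)) := by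
    intro m
    haveI := m.isMaximal
    exact finrank_localization_eq m.asIdeal
  rw [Finset.sum_congr rfl fun m _ => h2 m, Finset.sum_const, smul_eq_mul, hfr, Finset.card_univ]
    at h1
  have hdvd : Fintype.card (MaximalSpectrum A) ∣ p := ⟨_, h1⟩
  rcases (Nat.dvd_prime hp.out).mp hdvd with h | h
  · left
    obtain ⟨x, hx⟩ := Fintype.card_eq_one_iff.mp h
    apply IsLocalRing.of_unique_max_ideal
    refine ⟨x.asIdeal, x.isMaximal, fun I hI => ?_⟩
    exact congrArg MaximalSpectrum.asIdeal (hx ⟨I, hI⟩)
  · right
    rw [Nat.card_congr (pointEquivMaximalSpectrum (K := K) (A := A)), Nat.card_eq_fintype_card, h]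

end Dichotomy2

section Etale

variable {K : Type u} [Field K] {A : Type v} [CommRing A] [HopfAlgebra K A] [Module.Finite K A]

/-- The étale case: if there are `p = dim A` points, the dual is generated by a point generating the
cyclic group of points. -/
theorem etale_case {p : ℕ} [hp : Fact p.Prime] (hfr : Module.finrank K A = p)
    (hcard : Nat.card (A →ₐ[K] K) = p) :
    ∃ ξ : WithConv (A →ₗ[K] K),
      Submodule.span K (Set.range fun j : Fin p => ξ ^ (j : ℕ)) = ⊤ := by
  have hcard' : Nat.card (WithConv (A →ₐ[K] K)) = p := by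
    rw [← hcard]; exact Nat.card_congr (WithConv.equiv _)
  haveI : Finite (WithConv (A →ₐ[K] K)) := Nat.finite_of_card_ne_zero (hcard' ▸ hp.out.ne_zero)
  haveI : IsCyclic (WithConv (A →ₐ[K] K)) := isCyclic_of_prime_card hcard'
  obtain ⟨g, hg⟩ := IsCyclic.exists_generator (α := WithConv (A →ₐ[K] K))
  refine ⟨toConv g.ofConv.toLinearMap, ?_⟩
  -- the points are linearly independent functionals
  have hli : LinearIndependent K (fun h : A →ₐ[K] K => h.toLinearMap) :=
    linearIndependent_toLinearMap K A K
  letI : Fintype (A →ₐ[K] K) := @Fintype.ofFinite _ (Nat.finite_of_card_ne_zero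
    (hcard ▸ hp.out.ne_zero))
  have hspan : Submodule.span K (Set.range fun h : A →ₐ[K] K => h.toLinearMap) = ⊤ := by
    apply hli.span_eq_top_of_card_eq_finrank'
    rw [← Nat.card_eq_fintype_card, hcard, ← hfr]
    exact (Subspace.dual_finrank_eq (K := K) (V := A)).symm
  have hord : orderOf g = p := by rw [orderOf_eq_card_of_forall_mem_zpowers hg, hcard']
  have hmem : ∀ h : A →ₐ[K] K, toConv h.toLinearMap ∈
      Submodule.span K (Set.range fun j : Fin p => (toConv g.ofConv.toLinearMap) ^ (j : ℕ)) := by
    intro h
    classical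
    have h1 := (mem_zpowers_iff_mem_range_orderOf (x := g) (y := toConv h)).mp (hg (toConv h))
    rw [hord] at h1
    obtain ⟨k, hk, hk2⟩ := Finset.mem_image.mp h1
    have hk' : k < p := Finset.mem_range.mp hk
    have h2 : toConv h.toLinearMap = (toConv g.ofConv.toLinearMap) ^ k := by
      rw [← AlgHom.toLinearMap_convPow, hk2]
    rw [h2]
    exact Submodule.subset_span ⟨⟨k, hk'⟩, rfl⟩
  rw [eq_top_iff]
  intro φ _
  have hφ : φ.ofConv ∈ Submodule.span K (Set.range fun h : A →ₐ[K] K => h.toLinearMap) := by
    rw [hspan]; trivial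
  have := Submodule.span_induction (p := fun ψ _ => toConv ψ ∈
      Submodule.span K (Set.range fun j : Fin p => (toConv g.ofConv.toLinearMap) ^ (j : ℕ)))
    (by rintro _ ⟨h, rfl⟩; exact hmem h) (Submodule.zero_mem _)
    (fun x y _ _ hx hy => Submodule.add_mem _ hx hy)
    (fun c x _ hx => Submodule.smul_mem _ c hx) hφ
  exact this

end Etale

section FieldCase

variable {K : Type u} [Field K] [IsAlgClosed K] {A : Type v} [CommRing A] [HopfAlgebra K A]
  [Module.Finite K A]

omit [IsAlgClosed K] [HopfAlgebra K A] [Module.Finite K A] in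
theorem finrank_withConv_dual' {A : Type v} [AddCommGroup A] [Module K A] [Module.Finite K A] :
    Module.finrank K (WithConv (A →ₗ[K] K)) = Module.finrank K A := by
  rw [(WithConv.linearEquiv K (A →ₗ[K] K)).finrank_eq]
  exact Subspace.dual_finrank_eq (K := K) (V := A)

theorem finrank_withConv_dual : Module.finrank K (WithConv (A →ₗ[K] K)) = Module.finrank K A :=
  finrank_withConv_dual'

/-- Over an algebraically closed field the dual of a commutative Hopf algebra of prime dimension
is generated by one element. -/
theorem exists_monogenic_dual {p : ℕ} [hp : Fact p.Prime] (hfr : Module.finrank K A = p) :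
    ∃ ξ : WithConv (A →ₗ[K] K),
      Submodule.span K (Set.range fun j : Fin p => ξ ^ (j : ℕ)) = ⊤ := by
  rcases isLocalRing_or_card_points hfr with hloc | hcard
  · haveI := hloc
    obtain ⟨d, x, -, -, -, -, -, hli, -⟩ := local_case (K := K) (A := A) hfr
    refine ⟨d, ?_⟩
    haveI : Module.Finite K (WithConv (A →ₗ[K] K)) :=
      Module.Finite.equiv (WithConv.linearEquiv K (A →ₗ[K] K)).symm
    apply hli.span_eq_top_of_card_eq_finrank'
    rw [Fintype.card_fin, finrank_withConv_dual, hfr]
  · exact etale_case hfr hcard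

end FieldCase

end Groth.Agent.Lib.T3H8.OT
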