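import Mathlib
import Groth.Agent.Lib.T3H8OTb
import Groth.Agent.Lib.T3H8OTd

/-!
# Base change of the dual algebra and cocommutativity in prime rank (helper8, Oort–Tate cluster)
-/

set_option autoImplicit false
universe u v

namespace Groth.Agent.Lib.T3H8.OT

open Coalgebra TensorProduct WithConv

section DualBC

variable {R : Type u} [CommRing R] {A : Type v} [CommRing A] [Bialgebra R A]
  (K : Type u) [CommRing K] [Algebra R K]

instance isScalarTower_withConv {S T M : Type*} [Monoid S] [Monoid T] [SMul S T] [MulAction S M]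
    [MulAction T M] [IsScalarTower S T M] : IsScalarTower S T (WithConv M) :=
  ⟨fun s t x => by
    apply WithConv.ext
    exact smul_assoc s t x.ofConv⟩

/-- Base change of a functional, as an element of the convolution algebra of `K ⊗ A`. -/
noncomputable def bcFun : WithConv (A →ₗ[R] R) →ₗ[R] WithConv (K ⊗[R] A →ₗ[K] K) where
  toFun φ := toConv (Module.Dual.baseChange K φ.ofConv)
  map_add' φ ψ := by
    apply WithConv.ext
    exact map_add (Module.Dual.baseChange K) φ.ofConv ψ.ofConv
  map_smul' r φ := by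
    apply WithConv.ext
    exact map_smul (Module.Dual.baseChange K) r φ.ofConv

theorem bcFun_apply_tmul (φ : WithConv (A →ₗ[R] R)) (t : K) (a : A) :
    bcFun K φ (t ⊗ₜ a) = φ a • t := rfl

theorem comul_tmul_eq (t : K) (a : A) :
    comul (R := K) (t ⊗ₜ[R] a) =
      ∑ i ∈ (ℛ R a).index, ((1 : K) ⊗ₜ[R] (ℛ R a).left i) ⊗ₜ[K] (t ⊗ₜ[R] (ℛ R a).right i) := by
  rw [TensorProduct.comul_tmul, ← (ℛ R a).eq, TensorProduct.tmul_sum, map_sum]
  refine Finset.sum_congr rfl fun i _ => ?_
  rw [CommSemiring.comul_apply, AlgebraTensorModule.tensorTensorTensorComm_tmul]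

theorem bcFun_mul (φ ψ : WithConv (A →ₗ[R] R)) : bcFun K (φ * ψ) = bcFun K φ * bcFun K ψ := by
  apply WithConv.ext
  apply TensorProduct.AlgebraTensorModule.ext
  intro t a
  change bcFun K (φ * ψ) (t ⊗ₜ a) = (bcFun K φ * bcFun K ψ) (t ⊗ₜ a)
  rw [LinearMap.convMul_apply, comul_tmul_eq, map_sum, map_sum, bcFun_apply_tmul,
    (ℛ R a).convMul_apply, Finset.sum_smul]
  refine Finset.sum_congr rfl fun i _ => ?_
  rw [TensorProduct.map_tmul, LinearMap.mul'_apply]
  change _ = bcFun K φ (1 ⊗ₜ _) * bcFun K ψ (t ⊗ₜ _)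
  rw [bcFun_apply_tmul, bcFun_apply_tmul, smul_mul_smul_comm, one_mul]

theorem bcFun_one : bcFun K (1 : WithConv (A →ₗ[R] R)) = 1 := by
  apply WithConv.ext
  apply TensorProduct.AlgebraTensorModule.ext
  intro t a
  change bcFun K 1 (t ⊗ₜ a) = (1 : WithConv (K ⊗[R] A →ₗ[K] K)) (t ⊗ₜ a)
  rw [bcFun_apply_tmul, LinearMap.convOne_apply, LinearMap.convOne_apply, TensorProduct.counit_tmul]
  simp [Algebra.smul_def]

/-- The comparison `K ⊗ A^D → (K ⊗ A)^D` as an algebra map. -/
noncomputable def dualBC : K ⊗[R] WithConv (A →ₗ[R] R) →ₐ[K] WithConv (K ⊗[R] A →ₗ[K] K) :=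
  Algebra.TensorProduct.algHomOfLinearMapTensorProduct (LinearMap.liftBaseChange K (bcFun K))
    (fun a₁ a₂ b₁ b₂ => by
      rw [LinearMap.liftBaseChange_tmul, LinearMap.liftBaseChange_tmul,
        LinearMap.liftBaseChange_tmul, bcFun_mul, smul_mul_smul_comm])
    (by rw [LinearMap.liftBaseChange_tmul, one_smul, bcFun_one])

theorem dualBC_tmul (t : K) (φ : WithConv (A →ₗ[R] R)) : dualBC K (t ⊗ₜ φ) = t • bcFun K φ := rfl

end DualBC

section DualBCBij

variable {R : Type u} [CommRing R] {A : Type v} [CommRing A] [Bialgebra R A]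
  [Module.Finite R A] [Module.Projective R A] (K : Type u) [CommRing K] [Algebra R K]

theorem dualBC_bijective : Function.Bijective (dualBC (R := R) (A := A) K) := by
  let e1 : K ⊗[R] WithConv (A →ₗ[R] R) ≃ₗ[R] (Module.Dual R A) ⊗[R] K :=
    (TensorProduct.congr (LinearEquiv.refl R K) (WithConv.linearEquiv R (A →ₗ[R] R))).trans
      (TensorProduct.comm R K (Module.Dual R A))
  let e2 : (Module.Dual R A) ⊗[R] K ≃ₗ[R] (A →ₗ[R] K) := dualTensorHomEquiv R A K
  let e3 : (A →ₗ[R] K) ≃ₗ[K] (K ⊗[R] A →ₗ[K] K) := LinearMap.liftBaseChangeEquiv K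
  have key : ∀ z : K ⊗[R] WithConv (A →ₗ[R] R), (dualBC K z).ofConv = e3 (e2 (e1 z)) := by
    intro z
    induction z using TensorProduct.induction_on with
    | zero => simp
    | add x y hx hy => rw [map_add, map_add, map_add, map_add, ← hx, ← hy]; rfl
    | tmul t φ =>
      apply TensorProduct.AlgebraTensorModule.ext
      intro s a
      rw [dualBC_tmul]
      change t • (bcFun K φ (s ⊗ₜ a)) = _
      rw [bcFun_apply_tmul]
      have h1 : e1 (t ⊗ₜ φ) = φ.ofConv ⊗ₜ t := rfl
      have h2 : e2 (φ.ofConv ⊗ₜ t) = dualTensorHom R A K (φ.ofConv ⊗ₜ t) := rfl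
      rw [h1, h2]
      change _ = LinearMap.liftBaseChange K (dualTensorHom R A K (φ.ofConv ⊗ₜ t)) (s ⊗ₜ a)
      rw [LinearMap.liftBaseChange_tmul, dualTensorHom_apply]
      simp only [smul_eq_mul, Algebra.smul_def]
      ring
  constructor
  · intro x y hxy
    have := congrArg WithConv.ofConv hxy
    rw [key, key] at this
    exact e1.injective (e2.injective (e3.injective this))
  · intro ψ
    obtain ⟨z, hz⟩ := e1.surjective (e2.symm (e3.symm ψ.ofConv))
    refine ⟨z, ?_⟩
    apply WithConv.ext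
    rw [key, hz]
    simp

end DualBCBij

section Cocomm

variable {R : Type u} [CommRing R] {A : Type v} [CommRing A] [HopfAlgebra R A]
  [Module.Finite R A] [Module.Projective R A]

instance finite_withConv_dual : Module.Finite R (WithConv (A →ₗ[R] R)) :=
  Module.Finite.equiv (WithConv.linearEquiv R (A →ₗ[R] R)).symm

instance projective_withConv_dual : Module.Projective R (WithConv (A →ₗ[R] R)) :=
  Module.Projective.of_equiv (WithConv.linearEquiv R (A →ₗ[R] R)).symm

omit [Module.Finite R A] [Module.Projective R A] in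
/-- pairing of `A ⊗ A` against a pair of functionals. -/
theorem pair_comm (φ ψ : A →ₗ[R] R) (z : A ⊗[R] A) :
    LinearMap.mul' R R (TensorProduct.map ψ φ z) =
      LinearMap.mul' R R (TensorProduct.map φ ψ (TensorProduct.comm R A A z)) := by
  induction z using TensorProduct.induction_on with
  | zero => simp
  | add x y hx hy => simp only [map_add, hx, hy]
  | tmul a b => simp [mul_comm]

/-- Functionals `φ ⊗ ψ` separate the points of `A ⊗ A`. -/
theorem eq_zero_of_pair_eq_zero (z : A ⊗[R] A)
    (h : ∀ φ ψ : A →ₗ[R] R, LinearMap.mul' R R (TensorProduct.map φ ψ z) = 0) : z = 0 := by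
  obtain ⟨n, f, g, -, -, hfg⟩ := Module.Finite.exists_comp_eq_id_of_projective R A
  have hid : ∀ a : A, a = ∑ i, (g a i) • f (Pi.single i 1) := by
    intro a
    have h1 := LinearMap.congr_fun hfg a
    rw [LinearMap.comp_apply, LinearMap.id_apply] at h1
    conv_lhs => rw [← h1]
    conv_lhs => rw [← (Pi.basisFun R (Fin n)).sum_repr (g a)]
    rw [map_sum]
    refine Finset.sum_congr rfl fun i _ => ?_
    rw [map_smul]
    simp
  have key : ∀ w : A ⊗[R] A, w = ∑ i, ∑ j,
      (LinearMap.mul' R R (TensorProduct.map ((LinearMap.proj i) ∘ₗ g) ((LinearMap.proj j) ∘ₗ g) w)) •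
        (f (Pi.single i 1) ⊗ₜ[R] f (Pi.single j 1)) := by
    intro w
    induction w using TensorProduct.induction_on with
    | zero => simp
    | add x y hx hy =>
      conv_lhs => rw [hx, hy]
      simp only [map_add, add_smul, Finset.sum_add_distrib]
    | tmul a b =>
      conv_lhs => rw [hid a, hid b]
      rw [TensorProduct.sum_tmul]
      refine Finset.sum_congr rfl fun i _ => ?_
      rw [TensorProduct.tmul_sum]
      refine Finset.sum_congr rfl fun j _ => ?_
      simp only [TensorProduct.map_tmul, LinearMap.comp_apply, LinearMap.proj_apply,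
        LinearMap.mul'_apply, TensorProduct.smul_tmul_smul]
  rw [key z]
  simp only [h, zero_smul, Finset.sum_const_zero]

/-- If the dual algebra is commutative, the coalgebra is cocommutative. -/
theorem isCocomm_of_mul_comm (h : ∀ φ ψ : WithConv (A →ₗ[R] R), φ * ψ = ψ * φ) :
    Coalgebra.IsCocomm R A := by
  constructor
  ext a
  rw [LinearMap.comp_apply, ← sub_eq_zero]
  apply eq_zero_of_pair_eq_zero
  intro φ ψ
  rw [map_sub, map_sub, sub_eq_zero]
  have h1 := congrArg (fun χ : WithConv (A →ₗ[R] R) => χ a) (h (toConv ψ) (toConv φ))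
  simp only [LinearMap.convMul_apply] at h1
  rw [← h1]
  exact (pair_comm φ ψ (comul a)).symm

end Cocomm

section MainCocomm

variable {R : Type u} [CommRing R] {A : Type v} [CommRing A] [HopfAlgebra R A]
  [Module.Finite R A] [Module.Projective R A]

theorem span_pow_map_algEquiv {K : Type*} [Field K] {C C' : Type*} [Semiring C] [Semiring C'] [Algebra K C]
    [Algebra K C'] (e : C ≃ₐ[K] C') {p : ℕ} (ξ : C')
    (h : Submodule.span K (Set.range fun j : Fin p => ξ ^ (j : ℕ)) = ⊤) :
    Submodule.span K (Set.range fun j : Fin p => (e.symm ξ) ^ (j : ℕ)) = ⊤ := by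
  have h1 : (Submodule.span K (Set.range fun j : Fin p => ξ ^ (j : ℕ))).map
      e.symm.toLinearEquiv.toLinearMap =
      Submodule.span K (Set.range fun j : Fin p => (e.symm ξ) ^ (j : ℕ)) := by
    rw [Submodule.map_span, ← Set.range_comp]
    congr 2
    ext j
    simp
  rw [← h1, h, Submodule.map_top, LinearMap.range_eq_top]
  exact e.symm.surjective

/-- **A finite locally free commutative group scheme of prime order is commutative.** -/
theorem isCocomm_of_rankAtStalk_eq_prime {p : ℕ} [hp : Fact p.Prime]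
    (hrk : ∀ q : PrimeSpectrum R, Module.rankAtStalk A q = p) : Coalgebra.IsCocomm R A := by
  apply isCocomm_of_mul_comm
  apply mul_comm_of_monogenic_geometric_fibers (R := R) (C := WithConv (A →ₗ[R] R)) (p := p)
  · intro k _ _
    let e := LinearEquiv.ofBijective (dualBC (R := R) (A := A) k).toLinearMap (dualBC_bijective k)
    rw [e.finrank_eq, finrank_withConv_dual', finrank_tensor_field_eq hrk k]
  · intro K _ _ _
    have hfr : Module.finrank K (K ⊗[R] A) = p := finrank_tensor_field_eq hrk K
    obtain ⟨ξ', hξ'⟩ := exists_monogenic_dual (K := K) (A := K ⊗[R] A) hfr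
    let e : K ⊗[R] WithConv (A →ₗ[R] R) ≃ₐ[K] WithConv (K ⊗[R] A →ₗ[K] K) :=
      AlgEquiv.ofBijective (dualBC K) (dualBC_bijective K)
    exact ⟨e.symm ξ', span_pow_map_algEquiv e ξ' hξ'⟩

end MainCocomm

end Groth.Agent.Lib.T3H8.OT
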