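import Mathlib
import Groth.Agent.Lib.T3H8OTe

/-!
# Deligne's theorem: a commutative finite locally free group scheme is killed by its order
(helper8, Oort–Tate cluster)
-/

set_option autoImplicit false
universe u v

namespace Groth.Agent.Lib.T3H8.OT

open Coalgebra TensorProduct WithConv

section PostComp

variable {R : Type u} [CommRing R] {C : Type*} [AddCommGroup C] [Module R C] [Coalgebra R C]
  {B B' : Type*} [Ring B] [Algebra R B] [Ring B'] [Algebra R B']

/-- Post-composition with an algebra map, as a ring hom of convolution algebras. -/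
noncomputable def postComp (h : B →ₐ[R] B') : WithConv (C →ₗ[R] B) →+* WithConv (C →ₗ[R] B') where
  toFun f := toConv (h.toLinearMap ∘ₗ f.ofConv)
  map_one' := by
    apply WithConv.ext
    ext c
    simp [LinearMap.convOne_def]
  map_mul' f g := by
    apply WithConv.ext
    exact LinearMap.algHom_comp_convMul_distrib h f g
  map_zero' := by
    apply WithConv.ext
    simp
  map_add' f g := by
    apply WithConv.ext
    simp [LinearMap.comp_add]

theorem postComp_apply (h : B →ₐ[R] B') (f : WithConv (C →ₗ[R] B)) (c : C) :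
    postComp h f c = h (f c) := rfl

end PostComp

section Points

variable {R : Type u} [CommRing R] {A : Type v} [CommRing A] [HopfAlgebra R A]
  [Coalgebra.IsCocomm R A]

/-- The structure map `A^D → Hom(A, A)`, `φ ↦ η ∘ φ`. -/
noncomputable abbrev j0 : WithConv (A →ₗ[R] R) →+* WithConv (A →ₗ[R] A) :=
  postComp (Algebra.ofId R A)

/-- `Hom(A, A)` as an algebra over `A^D`. -/
noncomputable abbrev algE : Algebra (WithConv (A →ₗ[R] R)) (WithConv (A →ₗ[R] A)) :=
  (j0 (R := R) (A := A)).toAlgebra

attribute [local instance] algE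

theorem smul_E_apply (c : WithConv (A →ₗ[R] R)) (g : WithConv (A →ₗ[R] A)) (x : A) :
    (c • g) x = ∑ k ∈ (ℛ R x).index, c ((ℛ R x).left k) • g ((ℛ R x).right k) := by
  change (j0 c * g) x = _
  rw [(ℛ R x).convMul_apply]
  refine Finset.sum_congr rfl fun k _ => ?_
  rw [postComp_apply, Algebra.ofId_apply, Algebra.smul_def]

variable {ι : Type*} [Fintype ι] (b : Module.Basis ι R A)

/-- Coordinates of `Hom(A, A)` over `A^D`. -/
noncomputable def coordE : WithConv (A →ₗ[R] A) ≃ₗ[WithConv (A →ₗ[R] R)] (ι → WithConv (A →ₗ[R] R)) where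
  toFun g i := toConv (b.coord i ∘ₗ g.ofConv)
  map_add' g h := by
    ext i x
    simp [LinearMap.comp_add]
  map_smul' c g := by
    ext i x
    change b.coord i ((c • g) x) = (c * toConv (b.coord i ∘ₗ g.ofConv)) x
    rw [smul_E_apply, (ℛ R x).convMul_apply, map_sum]
    refine Finset.sum_congr rfl fun k _ => ?_
    rw [map_smul, smul_eq_mul]
    rfl
  invFun φ := toConv (∑ i, (LinearMap.toSpanSingleton R A (b i)) ∘ₗ (φ i).ofConv)
  left_inv g := by
    apply WithConv.ext
    ext x
    simp only [ofConv_toConv, LinearMap.coe_sum, Finset.sum_apply, LinearMap.comp_apply,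
      LinearMap.toSpanSingleton_apply]
    exact b.sum_repr (g x)
  right_inv φ := by
    ext i x
    simp only [ofConv_toConv, LinearMap.comp_apply, LinearMap.coe_sum, Finset.sum_apply,
      LinearMap.toSpanSingleton_apply, map_sum, map_smul, Module.Basis.coord_apply,
      Module.Basis.repr_self, smul_eq_mul]
    classical
    simp [Finsupp.single_apply]

end Points

section Points2

variable {R : Type u} [CommRing R] {A : Type v} [CommRing A] [HopfAlgebra R A]
  [Coalgebra.IsCocomm R A]

attribute [local instance] algE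

/-- Post-composition with a translation, as an automorphism of `Hom(A, A)` over `A^D`. -/
noncomputable def translStar (u : A →ₐ[R] R) :
    WithConv (A →ₗ[R] A) ≃ₐ[WithConv (A →ₗ[R] R)] WithConv (A →ₗ[R] A) :=
  AlgEquiv.ofRingEquiv (f := RingEquiv.ofRingHom (postComp (translEquiv u).toAlgHom)
      (postComp (translEquiv u).symm.toAlgHom)
      (by
        ext g x
        simp [postComp_apply])
      (by
        ext g x
        simp [postComp_apply]))
    (by
      intro c
      apply WithConv.ext
      ext x
      change (translEquiv u) ((Algebra.ofId R A) (c x)) = (Algebra.ofId R A) (c x)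
      exact (translEquiv u).commutes (c x))

theorem translStar_id (u : A →ₐ[R] R) :
    translStar u (toConv (LinearMap.id : A →ₗ[R] A)) =
      toConv (LinearMap.id : A →ₗ[R] A) * j0 (toConv u.toLinearMap) := by
  apply WithConv.ext
  ext x
  change translEquiv u x = (toConv (LinearMap.id : A →ₗ[R] A) * j0 (toConv u.toLinearMap)) x
  rw [(ℛ R x).convMul_apply, translEquiv_apply, transl_apply, opOf_apply (ℛ R x)]
  refine Finset.sum_congr rfl fun k _ => ?_
  rw [postComp_apply, Algebra.ofId_apply, Algebra.smul_def, mul_comm]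
  rfl

/-- **Deligne's theorem for rational points**: a point of a commutative finite free group scheme of
order `m` is killed by `m`. -/
theorem point_pow_card {ι : Type*} [Fintype ι] (b : Module.Basis ι R A) (u : A →ₐ[R] R) :
    (toConv u.toLinearMap : WithConv (A →ₗ[R] R)) ^ Fintype.card ι = 1 := by
  let bE : Module.Basis ι (WithConv (A →ₗ[R] R)) (WithConv (A →ₗ[R] A)) :=
    Module.Basis.ofEquivFun (coordE b)
  have hunit : IsUnit (toConv (LinearMap.id : A →ₗ[R] A)) :=
    ⟨⟨_, _, LinearMap.id_mul_antipode, LinearMap.antipode_mul_id⟩, rfl⟩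
  have hN := hunit.map (Algebra.norm (WithConv (A →ₗ[R] R)))
  have h1 := Algebra.norm_eq_of_algEquiv (translStar u) (toConv (LinearMap.id : A →ₗ[R] A))
  rw [translStar_id, map_mul] at h1
  have h2 : Algebra.norm (WithConv (A →ₗ[R] R)) (j0 (toConv u.toLinearMap)) =
      (toConv u.toLinearMap : WithConv (A →ₗ[R] R)) ^ Fintype.card ι :=
    Algebra.norm_algebraMap_of_basis bE _
  rw [h2] at h1
  exact hN.mul_left_cancel (by rw [h1, mul_one])

end Points2

section Universal

variable {R : Type u} [CommRing R] {A : Type v} [CommRing A] [HopfAlgebra R A]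
  [Coalgebra.IsCocomm R A]

theorem comul_tmul_eq' (K : Type*) [CommRing K] [Algebra R K] (t : K) (a : A) :
    comul (R := K) (t ⊗ₜ[R] a) =
      ∑ i ∈ (ℛ R a).index, ((1 : K) ⊗ₜ[R] (ℛ R a).left i) ⊗ₜ[K] (t ⊗ₜ[R] (ℛ R a).right i) := by
  rw [TensorProduct.comul_tmul, ← (ℛ R a).eq, TensorProduct.tmul_sum, map_sum]
  refine Finset.sum_congr rfl fun i _ => ?_
  rw [CommSemiring.comul_apply, AlgebraTensorModule.tensorTensorTensorComm_tmul]

/-- Extension of scalars `Hom_R(A, A) → Hom_A(A ⊗ A, A)` is multiplicative for convolution. -/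
theorem liftBaseChange_conv_mul (f g : WithConv (A →ₗ[R] A)) :
    (toConv (LinearMap.liftBaseChange A (f * g).ofConv) : WithConv (A ⊗[R] A →ₗ[A] A)) =
      toConv (LinearMap.liftBaseChange A f.ofConv) * toConv (LinearMap.liftBaseChange A g.ofConv) := by
  apply WithConv.ext
  apply TensorProduct.AlgebraTensorModule.ext
  intro t a
  change LinearMap.liftBaseChange A (f * g).ofConv (t ⊗ₜ a) =
    (toConv (LinearMap.liftBaseChange A f.ofConv) * toConv (LinearMap.liftBaseChange A g.ofConv))
      (t ⊗ₜ a)
  rw [LinearMap.convMul_apply, comul_tmul_eq', map_sum, map_sum, LinearMap.liftBaseChange_tmul]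
  change t • (f * g) a = _
  rw [(ℛ R a).convMul_apply, Finset.smul_sum]
  refine Finset.sum_congr rfl fun i _ => ?_
  rw [TensorProduct.map_tmul, LinearMap.mul'_apply]
  change _ = LinearMap.liftBaseChange A f.ofConv (1 ⊗ₜ _) * LinearMap.liftBaseChange A g.ofConv (t ⊗ₜ _)
  rw [LinearMap.liftBaseChange_tmul, LinearMap.liftBaseChange_tmul, one_smul, smul_eq_mul,
    smul_eq_mul]
  change t * (f _ * g _) = f _ * (t * g _)
  ring

theorem liftBaseChange_conv_one :
    (toConv (LinearMap.liftBaseChange A (1 : WithConv (A →ₗ[R] A)).ofConv) :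
      WithConv (A ⊗[R] A →ₗ[A] A)) = 1 := by
  apply WithConv.ext
  apply TensorProduct.AlgebraTensorModule.ext
  intro t a
  change LinearMap.liftBaseChange A (1 : WithConv (A →ₗ[R] A)).ofConv (t ⊗ₜ a) =
    (1 : WithConv (A ⊗[R] A →ₗ[A] A)) (t ⊗ₜ a)
  rw [LinearMap.liftBaseChange_tmul]
  change t • (1 : WithConv (A →ₗ[R] A)) a = algebraMap A A (counit (R := A) (t ⊗ₜ[R] a))
  rw [LinearMap.convOne_apply, TensorProduct.counit_tmul]
  simp [Algebra.smul_def, mul_comm]

theorem liftBaseChange_conv_pow (f : WithConv (A →ₗ[R] A)) (n : ℕ) :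
    (toConv (LinearMap.liftBaseChange A (f ^ n).ofConv) : WithConv (A ⊗[R] A →ₗ[A] A)) =
      toConv (LinearMap.liftBaseChange A f.ofConv) ^ n := by
  induction n with
  | zero => rw [pow_zero, pow_zero, liftBaseChange_conv_one]
  | succ n ih => rw [pow_succ, pow_succ, liftBaseChange_conv_mul, ih]

/-- **Deligne's theorem** (free case): a commutative finite free group scheme is killed by its
order. -/
theorem id_pow_card_linear {ι : Type*} [Fintype ι] (b : Module.Basis ι R A) :
    (toConv (LinearMap.id : A →ₗ[R] A)) ^ Fintype.card ι = 1 := by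
  have h1 := point_pow_card (R := A) (A := A ⊗[R] A) (Algebra.TensorProduct.basis A b)
    (Algebra.TensorProduct.lmul'' R)
  have h2 : (toConv (Algebra.TensorProduct.lmul'' R (S := A)).toLinearMap :
      WithConv (A ⊗[R] A →ₗ[A] A)) =
      toConv (LinearMap.liftBaseChange A (toConv (LinearMap.id : A →ₗ[R] A)).ofConv) := by
    apply WithConv.ext
    apply TensorProduct.AlgebraTensorModule.ext
    intro t a
    simp [Algebra.TensorProduct.lmul'']
  rw [h2, ← liftBaseChange_conv_pow, ← liftBaseChange_conv_one] at h1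
  have h3 := congrArg WithConv.ofConv h1
  apply WithConv.ext
  exact (LinearMap.liftBaseChangeEquiv A).injective h3

end Universal

end Groth.Agent.Lib.T3H8.OT
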