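import Mathlib
import Groth.Agent.Lib.T3H8OTf
import Groth.Agent.Lib.Helper25Killed

/-!
# Deligne's theorem for finite locally free commutative group schemes of constant rank
(helper8, Oort–Tate cluster)
-/

set_option autoImplicit false
universe u v

namespace Groth.Agent.Lib.T3H8.OT

open Coalgebra TensorProduct WithConv SGA3b Groth.Agent.Lib.Helper25.Tors

section Free

variable {R : Type u} [CommRing R] {A : Type v} [CommRing A] [HopfAlgebra R A]
  [Coalgebra.IsCocomm R A]

/-- Deligne's theorem, free case, for the convolution monoid of algebra maps. -/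
theorem id_pow_card {ι : Type*} [Fintype ι] (b : Module.Basis ι R A) :
    (toConv (AlgHom.id R A)) ^ Fintype.card ι = 1 := by
  have h := id_pow_card_linear b
  apply WithConv.ext
  apply AlgHom.toLinearMap_injective
  apply WithConv.toConv_injective
  rw [AlgHom.toLinearMap_convPow]
  exact h

end Free

section Proj

variable {R : Type u} [CommRing R] {A : Type u} [CommRing A] [HopfAlgebra R A]
  [Coalgebra.IsCocomm R A] [Module.Finite R A] [Module.Projective R A]

theorem isKilled_of_basis {ι : Type*} [Fintype ι] (b : Module.Basis ι R A) :
    IsKilled R A (Fintype.card ι) := by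
  intro a
  unfold powConv
  rw [id_pow_card b]
  rfl

/-- **Deligne's theorem**: a commutative finite locally free group scheme of constant rank `n` is
killed by `n`. -/
theorem isKilled_of_rankAtStalk {n : ℕ} (hrk : ∀ q : PrimeSpectrum R, Module.rankAtStalk A q = n) :
    IsKilled R A n := by
  intro a
  by_contra hne
  have hz : powConv R A n a - algebraMap R A (counit (R := R) a) ≠ 0 := sub_ne_zero.mpr hne
  obtain ⟨f, hf⟩ := Module.Projective.exists_dual_ne_zero R hz
  have : ∃ (J : Ideal R) (_ : J.IsMaximal), algebraMap R (Localization.AtPrime J)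
      (f (powConv R A n a - algebraMap R A (counit (R := R) a))) ≠ 0 := by
    by_contra hcon
    push Not at hcon
    exact hf (eq_zero_of_localization _ hcon)
  obtain ⟨J, hJ, hJ0⟩ := this
  let S := Localization.AtPrime J
  haveI : Module.Free S (S ⊗[R] A) := Module.free_of_flat_of_isLocalRing
  have hfr : Module.finrank S (S ⊗[R] A) = n := by
    have h1 := Module.rankAtStalk_baseChange (R := R) (M := A) (S := S)
      (IsLocalRing.closedPoint S)
    rw [hrk, Module.rankAtStalk_eq_finrank_of_free] at h1
    exact h1
  let bS : Module.Basis (Fin n) S (S ⊗[R] A) := Module.finBasisOfFinrankEq S _ hfr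
  have hk : IsKilled S (S ⊗[R] A) n := by
    have := isKilled_of_basis bS
    rwa [Fintype.card_fin] at this
  have h1 := IsKilled.one_tmul S hk a
  have h2 := congrArg (Module.Dual.baseChange S f) h1
  rw [Module.Dual.baseChange_apply_tmul, map_zero, Algebra.smul_def, mul_one] at h2
  exact hJ0 h2

/-- Deligne's theorem in the form used by the Oort–Tate statements. -/
theorem id_pow_eq_one_of_rankAtStalk {n : ℕ}
    (hrk : ∀ q : PrimeSpectrum R, Module.rankAtStalk A q = n) :
    (toConv (AlgHom.id R A)) ^ n = 1 := by
  apply WithConv.ext
  ext a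
  exact isKilled_of_rankAtStalk hrk a

end Proj

end Groth.Agent.Lib.T3H8.OT
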