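import Mathlib
import Groth.Agent.Lib.T3H8OTg
import Groth.Agent.Lib.T2H3OortTate
import Groth.Prelude.Def_W4c5ffgsreadingcourseOT

/-!
# The eigenspace `I₁` over an algebraically closed field (helper8, Oort–Tate cluster)

For a commutative cocommutative Hopf algebra `B` of prime dimension `p` over an algebraically closed
field, killed by `p`: there is `x ∈ I₁` with `x^t ≠ 0` for `t < p`.
-/

set_option autoImplicit false
universe u v

namespace Groth.Agent.Lib.T3H8.OT

open Coalgebra TensorProduct WithConv SGA3b Groth.Agent.Lib.T2H3.OortTate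

section EpsDerPow

variable {R : Type u} [CommRing R] {A : Type u} [CommRing A] [HopfAlgebra R A]

theorem powConv_succ_apply (n : ℕ) (a : A) :
    powConv R A (n + 1) a = ∑ i ∈ (ℛ R a).index, powConv R A n ((ℛ R a).left i) * (ℛ R a).right i := by
  unfold powConv
  rw [pow_succ]
  have h := AlgHom.toLinearMap_convMul ((toConv (AlgHom.id R A)) ^ n) (toConv (AlgHom.id R A))
  have h2 := congrArg (fun F : WithConv (A →ₗ[R] A) => F a) h
  simp only at h2
  rw [(ℛ R a).convMul_apply] at h2
  exact h2

/-- An `ε`-derivation satisfies `d([n]a) = n d(a)`. -/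
theorem epsDer_powConv {d : A →ₗ[R] R} (hd : IsEpsDer d) (n : ℕ) (a : A) :
    d (powConv R A n a) = (n : R) * d a := by
  induction n generalizing a with
  | zero =>
    have h0 : powConv R A 0 a = algebraMap R A (counit (R := R) a) := by
      unfold powConv
      rw [pow_zero]
      rfl
    have hd1 : d 1 = 0 := by
      have := hd 1 1
      simp only [mul_one, Bialgebra.counit_one, one_mul] at this
      exact left_eq_add.mp this
    rw [h0, Algebra.algebraMap_eq_smul_one, map_smul, hd1]
    simp
  | succ n ih =>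
    rw [powConv_succ_apply, map_sum]
    have hd' : ∀ a b : A, d (a * b) = counit (R := R) a * d b + d a * counit (R := R) b := hd
    simp only [hd', counit_powConv, ih, Finset.sum_add_distrib]
    have h1 : ∑ i ∈ (ℛ R a).index, counit (R := R) ((ℛ R a).left i) * d ((ℛ R a).right i) = d a := by
      have := congrArg d (Coalgebra.sum_counit_smul (ℛ R a))
      rw [map_sum] at this
      simpa only [map_smul, smul_eq_mul] using this
    have h2 : ∑ i ∈ (ℛ R a).index, (n : R) * d ((ℛ R a).left i) * counit (R := R) ((ℛ R a).right i) =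
        (n : R) * d a := by
      have := congrArg d (sum_counit_right_smul (ℛ R a))
      rw [map_sum] at this
      simp only [map_smul, smul_eq_mul] at this
      rw [← this, Finset.mul_sum]
      refine Finset.sum_congr rfl fun i _ => ?_
      ring
    rw [h1, h2]
    push_cast
    ring

end EpsDerPow

section LocalF

variable {K : Type u} [Field K] {B : Type u} [CommRing B] [HopfAlgebra K B]

theorem pow_ne_zero_of_epsDer {p : ℕ} (hfac : ∀ i < p, ((i.factorial : ℕ) : K) ≠ 0)
    {d : B →ₗ[K] K} (hd : IsEpsDer d) {x : B} (hx : counit (R := K) x = 0) (hdx : d x = 1) :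
    ∀ t < p, x ^ t ≠ 0 := by
  intro t ht h0
  have h1 := conv_pow_apply (toConv d) t (x ^ t)
  have hv : counit (R := K) (opOf d x) = 1 := by rw [counit_opOf, hdx]
  have h2 := ringHom_iterate_pow (Bialgebra.counitAlgHom K B).toRingHom (opOf d) (opOf_mul hd) x hx hv
    t t le_rfl
  rw [if_pos rfl] at h2
  have h3 : (Bialgebra.counitAlgHom K B).toRingHom ((opOf d)^[t] (x ^ t)) = 0 := by
    rw [h0]
    have : ∀ n : ℕ, (opOf d)^[n] (0 : B) = 0 := by
      intro n
      induction n with
      | zero => rfl
      | succ n ih => rw [Function.iterate_succ_apply', ih, map_zero]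
    rw [this, map_zero]
  rw [h3] at h2
  exact hfac t ht h2.symm

variable [Module.Finite K B] [IsLocalRing B]

/-- The local case: a generator of `I₁` all of whose powers below `p` are nonzero. -/
theorem exists_eigen_generator_local (p : ℕ) [hpp : Fact p.Prime] (u : K)
    (hu : u * ((p - 1 : ℕ) : K) = 1) (χ : (ZMod p)ˣ →* Kˣ)
    (hχp : ∀ m : (ZMod p)ˣ, ((χ m : Kˣ) : K) - (((m : ZMod p).val : ℕ) : K) ∈
      Ideal.span ({(p : K)} : Set K))
    (hfr : Module.finrank K B = p) (hp : (toConv (AlgHom.id K B)) ^ p = 1) :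
    ∃ x ∈ OortTate.eigenAug K B p χ 1, ∀ t < p, x ^ t ≠ 0 := by
  have h1 : 1 < Module.finrank K B := hfr ▸ hpp.out.one_lt
  obtain ⟨d, x₀, hd, hx₀, hdx₀, -⟩ := exists_epsDer (K := K) (A := B) h1
  have hp0 : (p : K) = 0 := by
    rw [← hfr]
    exact finrank_cast_eq_zero_of_isLocalRing h1
  haveI hchar : CharP K p := (CharP.charP_iff_prime_eq_zero hpp.out).mpr hp0
  have hχ' : ∀ m : (ZMod p)ˣ, ((χ m : Kˣ) : K) = (((m : ZMod p).val : ℕ) : K) := by
    intro m
    have := hχp m
    rw [hp0, Ideal.span_singleton_eq_bot.mpr rfl, Ideal.mem_bot, sub_eq_zero] at this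
    exact this
  refine ⟨OortTate.proj K B p u χ 1 x₀, proj_mem_eigenAug p hp u χ 1 x₀ hx₀, ?_⟩
  apply pow_ne_zero_of_epsDer (p := p) ?_ hd
  · have := proj_mem_eigenAug p hp u χ 1 x₀ hx₀
    rw [mem_eigenAug_iff] at this
    exact this.1
  · rw [proj_apply p hp, map_smul, map_sum]
    have hterm : ∀ m : (ZMod p)ˣ, d ((((χ m⁻¹ : Kˣ) : K) ^ 1) • rho K B p hp m x₀) = 1 := by
      intro m
      rw [map_smul, rho_apply]
      change _ • d (powConv K B (m : ZMod p).val x₀) = 1
      rw [epsDer_powConv hd, hdx₀, mul_one, pow_one, smul_eq_mul, ← hχ' m, ← Units.val_mul,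
        ← map_mul, inv_mul_cancel, map_one, Units.val_one]
    rw [Finset.sum_congr rfl fun m _ => hterm m, Finset.sum_const, Finset.card_univ,
      ZMod.card_units p, smul_eq_mul, nsmul_eq_mul, mul_one, hu]
  · intro i hi
    rw [Ne, CharP.cast_eq_zero_iff K p, hpp.out.dvd_factorial]
    exact not_le.mpr hi

end LocalF

section EtaleF

variable {K : Type u} [Field K] {B : Type u} [CommRing B] [HopfAlgebra K B] [Module.Finite K B]

/-- Evaluation at the points. -/
noncomputable def evPoints : B →ₗ[K] ((B →ₐ[K] K) → K) where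
  toFun b h := h b
  map_add' a b := by ext h; simp
  map_smul' c b := by ext h; simp

omit [Module.Finite K B] in
theorem evPoints_apply (b : B) (h : B →ₐ[K] K) : evPoints b h = h b := rfl

theorem evPoints_bijective {p : ℕ} [hpp : Fact p.Prime] (hfr : Module.finrank K B = p)
    (hcard : Nat.card (B →ₐ[K] K) = p) : Function.Bijective (evPoints (K := K) (B := B)) := by
  haveI : Finite (B →ₐ[K] K) := Nat.finite_of_card_ne_zero (hcard ▸ hpp.out.ne_zero)
  letI : Fintype (B →ₐ[K] K) := Fintype.ofFinite _
  have hli : LinearIndependent K (fun h : B →ₐ[K] K => h.toLinearMap) :=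
    linearIndependent_toLinearMap K B K
  have hspan : Submodule.span K (Set.range fun h : B →ₐ[K] K => h.toLinearMap) = ⊤ := by
    apply hli.span_eq_top_of_card_eq_finrank'
    rw [← Nat.card_eq_fintype_card, hcard, ← hfr]
    exact (Subspace.dual_finrank_eq (K := K) (V := B)).symm
  have hinj : Function.Injective (evPoints (K := K) (B := B)) := by
    rw [← LinearMap.ker_eq_bot, Submodule.eq_bot_iff]
    intro b hb
    rw [← Module.forall_dual_apply_eq_zero_iff K]
    intro ψ
    have hψ : ψ ∈ Submodule.span K (Set.range fun h : B →ₐ[K] K => h.toLinearMap) := by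
      rw [hspan]; trivial
    refine Submodule.span_induction (p := fun ψ _ => ψ b = 0) ?_ ?_ ?_ ?_ hψ
    · rintro _ ⟨h, rfl⟩
      exact congrFun hb h
    · rfl
    · intro f g _ _ hf hg
      rw [LinearMap.add_apply, hf, hg, add_zero]
    · intro c f _ hf
      rw [LinearMap.smul_apply, hf, smul_zero]
  refine ⟨hinj, ?_⟩
  apply (LinearMap.injective_iff_surjective_of_finrank_eq_finrank ?_).mp hinj
  rw [Module.finrank_pi, ← Nat.card_eq_fintype_card, hcard, hfr]

end EtaleF

section EtaleF2

variable {K : Type u} [Field K] {B : Type u} [CommRing B] [HopfAlgebra K B] [Module.Finite K B]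

theorem exists_eigen_generator_etale (p : ℕ) [hpp : Fact p.Prime] (χ : (ZMod p)ˣ →* Kˣ)
    (hfr : Module.finrank K B = p) (hcard : Nat.card (B →ₐ[K] K) = p) :
    ∃ x ∈ OortTate.eigenAug K B p χ 1, ∀ t < p, x ^ t ≠ 0 := by
  classical
  have hcard' : Nat.card (WithConv (B →ₐ[K] K)) = p := by
    rw [← hcard]; exact Nat.card_congr (WithConv.equiv _)
  haveI : Finite (WithConv (B →ₐ[K] K)) := Nat.finite_of_card_ne_zero (hcard' ▸ hpp.out.ne_zero)
  haveI : IsCyclic (WithConv (B →ₐ[K] K)) := isCyclic_of_prime_card hcard'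
  obtain ⟨g, hg⟩ := IsCyclic.exists_generator (α := WithConv (B →ₐ[K] K))
  have hord : orderOf g = p := by rw [orderOf_eq_card_of_forall_mem_zpowers hg, hcard']
  have hgp : g ^ p = 1 := hord ▸ pow_orderOf_eq_one g
  -- discrete log
  have hlog : ∀ h : WithConv (B →ₐ[K] K), ∃ j : ZMod p, g ^ j.val = h := by
    intro h
    have h1 := (mem_zpowers_iff_mem_range_orderOf (x := g) (y := h)).mp (hg h)
    rw [hord] at h1
    obtain ⟨k, hk, hk2⟩ := Finset.mem_image.mp h1
    have hk' : k < p := Finset.mem_range.mp hk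
    refine ⟨(k : ZMod p), ?_⟩
    rw [ZMod.val_natCast, Nat.mod_eq_of_lt hk', hk2]
  choose lg hlg using hlog
  have hlg_unique : ∀ j : ZMod p, lg (g ^ j.val) = j := by
    intro j
    have h1 := hlg (g ^ j.val)
    have h2 := pow_injOn_Iio_orderOf (x := g) (by simp [hord, ZMod.val_lt])
      (by simp [hord, ZMod.val_lt]) h1
    exact ZMod.val_injective p h2
  let ψ : WithConv (B →ₐ[K] K) → K := fun γ =>
    if hj : lg γ = 0 then 0 else ((χ (Units.mk0 (lg γ) hj) : Kˣ) : K)
  have hψ1 : ψ 1 = 0 := by
    have : lg 1 = 0 := by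
      have := hlg_unique 0
      rwa [ZMod.val_zero, pow_zero] at this
    simp only [ψ]
    rw [dif_pos this]
  have hψg : ψ g = 1 := by
    have h1 : lg g = 1 := by
      have := hlg_unique 1
      rwa [ZMod.val_one, pow_one] at this
    simp only [ψ]
    rw [dif_neg (by rw [h1]; exact one_ne_zero)]
    have : Units.mk0 (lg g) (by rw [h1]; exact one_ne_zero) = 1 := by
      ext; simp [h1]
    rw [this, map_one, Units.val_one]
  have hψpow : ∀ (γ : WithConv (B →ₐ[K] K)) (m : (ZMod p)ˣ),
      ψ (γ ^ (m : ZMod p).val) = ((χ m : Kˣ) : K) * ψ γ := by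
    intro γ m
    have h1 : lg (γ ^ (m : ZMod p).val) = lg γ * m := by
      have h2 : γ ^ (m : ZMod p).val = g ^ (lg γ * m).val := by
        conv_lhs => rw [← hlg γ]
        rw [← pow_mul, ZMod.val_mul, ← pow_eq_pow_mod _ hgp]
      rw [h2, hlg_unique]
    simp only [ψ]
    by_cases hj : lg γ = 0
    · rw [dif_pos hj, dif_pos (by rw [h1, hj, zero_mul]), mul_zero]
    · have hjm : lg (γ ^ (m : ZMod p).val) ≠ 0 := by
        rw [h1]; exact mul_ne_zero hj m.ne_zero
      rw [dif_neg hj, dif_neg hjm]
      have : Units.mk0 (lg (γ ^ (m : ZMod p).val)) hjm = m * Units.mk0 (lg γ) hj := by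
        ext; simp [h1, mul_comm]
      rw [this, map_mul, Units.val_mul]
  let e := LinearEquiv.ofBijective (evPoints (K := K) (B := B)) (evPoints_bijective hfr hcard)
  let x : B := e.symm (fun h => ψ (toConv h))
  have hx : ∀ h : B →ₐ[K] K, h x = ψ (toConv h) := by
    intro h
    have := congrFun (e.apply_symm_apply (fun h => ψ (toConv h))) h
    exact this
  have hone : toConv (Bialgebra.counitAlgHom K B) = (1 : WithConv (B →ₐ[K] K)) := by
    rw [AlgHom.convOne_def]
    congr 1
  refine ⟨x, ?_, ?_⟩
  · rw [mem_eigenAug_iff]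
    refine ⟨?_, ?_⟩
    · have := hx (Bialgebra.counitAlgHom K B)
      rw [hone, hψ1] at this
      exact this
    · intro m
      apply (evPoints_bijective hfr hcard).1
      funext h
      rw [evPoints_apply, evPoints_apply, pow_one, map_smul, smul_eq_mul, hx]
      have h1 := Groth.Agent.Lib.Helper25.Tors.comp_convPow h (toConv (AlgHom.id K B))
        (m : ZMod p).val
      have h2 : h (powConv K B (m : ZMod p).val x) =
          (h.comp ((toConv (AlgHom.id K B)) ^ (m : ZMod p).val).ofConv) x := rfl
      rw [h2, h1, hx]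
      have h3 : toConv (h.comp (toConv (AlgHom.id K B)).ofConv) = toConv h := rfl
      rw [h3]
      exact hψpow (toConv h) m
  · intro t _ h0
    have h1 := hx g.ofConv
    have h2 : g.ofConv (x ^ t) = 1 := by
      rw [map_pow, h1]
      have : toConv g.ofConv = g := rfl
      rw [this, hψg, one_pow]
    rw [h0, map_zero] at h2
    exact zero_ne_one h2

end EtaleF2

end Groth.Agent.Lib.T3H8.OT
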