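import Mathlib
import Groth.Prelude.Def_Red
import Groth.Agent.Lib.T3H8OTh
import Groth.Agent.Lib.Helper25FinHopf
import Groth.Agent.Lib.Helper6Hopf6
import Groth.Agent.Lib.T2H3DeligneGeom

/-!
# A finite locally free group scheme of invertible order is étale (helper8)

* field case: `augR_le_sq_of_finrank_ne_zero` (`x ↦ x^n` is trivial, with differential `n` on the
  cotangent space at the unit section);
* ring case: `formallyUnramified_of_rankAtStalk_ne_zero` (fibrewise vanishing of `Ω`);
* scheme case: `etale_of_finrank_ne_zero`.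
-/

set_option autoImplicit false
set_option linter.style.haveILetI false
universe u v

namespace Groth.Agent.Lib.T2H8.EtOrd


open Coalgebra TensorProduct WithConv SGA3b Groth.Agent.Lib.T2H3.OortTate
open Groth.Agent.Lib.T3H8.OT Groth.Agent.Lib.Helper6.Hopf

section Field

variable (K : Type u) [Field K] (A : Type u) [CommRing A] [HopfAlgebra K A] [Module.Finite K A]

/-- Field case: if `dim_K A` is invertible in `K`, then `I = I²` for the augmentation ideal. -/
theorem augR_le_sq_of_finrank_ne_zero (h : (Module.finrank K A : K) ≠ 0) :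
    augR K A ≤ augR K A ^ 2 := by
  intro x hx
  by_contra hx2
  rw [pow_two] at hx2
  obtain ⟨d, hd, hdx⟩ := exists_epsDer_of_notMem_sq (K := K) (A := A) hx hx2
  have h1 := epsDer_powConv hd (Module.finrank K A) x
  have h2 : powConv K A (Module.finrank K A) x = 0 := by
    unfold powConv
    rw [Groth.Agent.Lib.Helper25.FinHopf.convPow_id_finrank K A]
    have hx0 : counit (R := K) x = 0 := hx
    change algebraMap K A (counit (R := K) x) = 0
    rw [hx0, map_zero]
  rw [h2, map_zero, hdx, mul_one] at h1
  exact h h1.symm

theorem formallyUnramified_of_finrank_ne_zero (h : (Module.finrank K A : K) ≠ 0) :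
    Algebra.FormallyUnramified K A :=
  unramified_of_augR_le_sq (augR_le_sq_of_finrank_ne_zero K A h)

end Field

section Ring

variable {R : Type u} [CommRing R]

/-- A finite module all of whose fibres over primes vanish is zero. -/
theorem subsingleton_of_forall_residueField_tensor {Q : Type v} [AddCommGroup Q] [Module R Q]
    [Module.Finite R Q]
    (h : ∀ q : PrimeSpectrum R, Subsingleton (q.asIdeal.ResidueField ⊗[R] Q)) : Subsingleton Q := by
  by_contra hne
  rw [not_subsingleton_iff_nontrivial] at hne
  obtain ⟨q, hq⟩ := Module.nonempty_support_of_nontrivial (R := R) (M := Q)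
  rw [Module.mem_support_iff_nontrivial_residueField_tensorProduct] at hq
  haveI := h q
  exact not_subsingleton _ ‹_›

theorem comap_bot_residueField (q : PrimeSpectrum R) :
    PrimeSpectrum.comap (algebraMap R q.asIdeal.ResidueField)
      (⊥ : PrimeSpectrum q.asIdeal.ResidueField) = q := by
  apply PrimeSpectrum.ext
  ext x
  change algebraMap R q.asIdeal.ResidueField x ∈ (⊥ : Ideal q.asIdeal.ResidueField) ↔ x ∈ q.asIdeal
  rw [Ideal.mem_bot, ← RingHom.mem_ker, Ideal.ker_algebraMap_residueField]

theorem rankAtStalk_eq_finrank_residueField {L : Type v} [AddCommGroup L] [Module R L]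
    [Module.Finite R L] [Module.Flat R L] (q : PrimeSpectrum R) :
    Module.rankAtStalk L q =
      Module.finrank q.asIdeal.ResidueField (q.asIdeal.ResidueField ⊗[R] L) := by
  have h1 := Module.rankAtStalk_baseChange (R := R) (M := L) (S := q.asIdeal.ResidueField)
    (⊥ : PrimeSpectrum q.asIdeal.ResidueField)
  rw [comap_bot_residueField, Module.rankAtStalk_eq_finrank_of_free] at h1
  exact h1.symm

variable (R) (A : Type u) [CommRing A] [HopfAlgebra R A] [Module.Finite R A] [Module.Flat R A]

/-- Ring case: a finite flat Hopf algebra whose rank is invertible in all residue fields is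
formally unramified. -/
theorem formallyUnramified_of_rankAtStalk_ne_zero
    (h : ∀ q : PrimeSpectrum R, (Module.rankAtStalk A q : q.asIdeal.ResidueField) ≠ 0) :
    Algebra.FormallyUnramified R A := by
  constructor
  haveI : Module.Finite R Ω[A⁄R] := Module.Finite.trans A _
  apply subsingleton_of_forall_residueField_tensor (R := R)
  intro q
  let κ := q.asIdeal.ResidueField
  let _ : Algebra A (κ ⊗[R] A) := Algebra.TensorProduct.rightAlgebra
  have hfr : (Module.finrank κ (κ ⊗[R] A) : κ) ≠ 0 := by
    rw [← rankAtStalk_eq_finrank_residueField]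
    exact h q
  haveI : Algebra.FormallyUnramified κ (κ ⊗[R] A) :=
    formallyUnramified_of_finrank_ne_zero κ (κ ⊗[R] A) hfr
  exact (KaehlerDifferential.tensorKaehlerEquivBase R κ A (κ ⊗[R] A)).subsingleton

theorem etale_of_rankAtStalk_ne_zero [Algebra.FinitePresentation R A]
    (h : ∀ q : PrimeSpectrum R, (Module.rankAtStalk A q : q.asIdeal.ResidueField) ≠ 0) :
    Algebra.Etale R A := by
  haveI : Algebra.FormallyUnramified R A := formallyUnramified_of_rankAtStalk_ne_zero R A h
  exact Algebra.Etale.of_formallyUnramified_of_flat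

end Ring

section Geom

open CategoryTheory CategoryTheory.Limits AlgebraicGeometry MonoidalCategory
  CartesianMonoidalCategory MonObj GrpObj Opposite
open Groth.Agent.Lib.T2H3.DeligneGeom

theorem natCast_ne_zero_of_ringHom {K L : Type*} [Field K] [Field L] (f : K →+* L) (n : ℕ)
    (h : (n : K) ≠ 0) : (n : L) ≠ 0 := by
  intro h0
  apply h
  apply f.injective
  rw [map_natCast, h0, map_zero]

theorem formallyUnramified_affineBase (R : CommRingCat.{u}) (G : Over (Spec R)) [GrpObj G]
    [IsFinite G.hom] [Flat G.hom]
    (h : ∀ s : Spec R, (Scheme.Hom.finrank G.hom s : (Spec R).residueField s) ≠ 0) :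
    FormallyUnramified G.hom := by
  haveI : IsAffine G.left := isAffine_of_isAffineHom G.hom
  obtain ⟨A, _, _, φ, ψ, hφ, hψ, h1, h2⟩ := exists_hopf R G
  let k : Spec (CommRingCat.of A) ⟶ G.left := φ.left
  haveI : IsIso k := ⟨ψ.left, congrArg (fun k => k.left) h2, congrArg (fun k => k.left) h1⟩
  let f₀ : R ⟶ CommRingCat.of A := CommRingCat.ofHom (algebraMap R A)
  have hw : k ≫ G.hom = Spec.map f₀ := Over.w φ
  have hfin : IsFinite (k ≫ G.hom) := inferInstance
  have hflat : Flat (k ≫ G.hom) := inferInstance
  rw [hw] at hfin hflat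
  have hfin' : f₀.hom.Finite := (IsFinite.SpecMap_iff _).mp hfin
  have hflat' : f₀.hom.Flat := Flat.SpecMap_iff.mp hflat
  haveI : Module.Finite R A := RingHom.finite_algebraMap.mp hfin'
  haveI : Module.Flat R A := RingHom.flat_algebraMap_iff.mp hflat'
  have hr' : ∀ p : PrimeSpectrum R, (Module.rankAtStalk A p : p.asIdeal.ResidueField) ≠ 0 := by
    intro p
    have e1 := Scheme.Hom.finrank_SpecMap_algebraMap R A p
    have e2 : Scheme.Hom.finrank (k ≫ G.hom) = Scheme.Hom.finrank G.hom :=
      Scheme.Hom.finrank_comp_left_of_isIso k G.hom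
    rw [hw] at e2
    rw [← e1, congrFun e2 p]
    exact natCast_ne_zero_of_ringHom (Scheme.Spec.residueFieldIso R p).hom.hom _ (h p)
  have hA : Algebra.FormallyUnramified R A := formallyUnramified_of_rankAtStalk_ne_zero R A hr'
  have hS : FormallyUnramified (Spec.map f₀) :=
    (HasRingHomProperty.Spec_iff (P := @FormallyUnramified)).mpr
      (RingHom.formallyUnramified_algebraMap.mpr hA)
  rw [← hw] at hS
  exact (MorphismProperty.cancel_left_of_respectsIso @FormallyUnramified k G.hom).mp hS

theorem formallyUnramified_hom_of_finrank_ne_zero {S : Scheme.{u}} (G : Over S) [GrpObj G]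
    [IsFinite G.hom] [Flat G.hom]
    (h : ∀ s : S, (Scheme.Hom.finrank G.hom s : S.residueField s) ≠ 0) :
    FormallyUnramified G.hom := by
  rw [IsZariskiLocalAtTarget.iff_of_openCover (P := @FormallyUnramified) S.affineOpenCover.openCover]
  intro i
  let j : Spec (S.affineOpenCover.X i) ⟶ S := S.affineOpenCover.f i
  change FormallyUnramified (Red.bc j G).hom
  haveI : IsFinite (Red.bc j G).hom := MorphismProperty.pullback_snd (P := @IsFinite) _ _ inferInstance
  haveI : Flat (Red.bc j G).hom := MorphismProperty.pullback_snd (P := @Flat) _ _ inferInstance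
  refine formallyUnramified_affineBase (S.affineOpenCover.X i) (Red.bc j G) (fun y => ?_)
  have e : Scheme.Hom.finrank (Red.bc j G).hom y = Scheme.Hom.finrank G.hom (j y) :=
    Scheme.Hom.finrank_pullback_snd G.hom j y
  rw [e]
  exact natCast_ne_zero_of_ringHom (Scheme.Hom.residueFieldMap j y).hom _ (h (j y))

theorem etale_of_finrank_ne_zero {S : Scheme.{u}} (G : Over S) [GrpObj G]
    [IsFinite G.hom] [Flat G.hom] [LocallyOfFinitePresentation G.hom]
    (h : ∀ s : S, (Scheme.Hom.finrank G.hom s : S.residueField s) ≠ 0) : Etale G.hom := by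
  haveI := formallyUnramified_hom_of_finrank_ne_zero G h
  exact Etale.of_formallyUnramified_of_flat G.hom

end Geom

end Groth.Agent.Lib.T2H8.EtOrd
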