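import Mathlib
import Groth.Agent.Lib.Helper25FinQuot
import Groth.Agent.Lib.T2H8EtOrdA
import Groth.Prelude.Def_CartDual

/-!
# Étale–étale finite commutative group schemes have order prime to `p` (helper8)

The trace `Tr : A → k` is an integral of the dual Hopf algebra: `Tr * Tr = (dim A) • Tr`; it is
nonzero when `A` is étale, so it is a nonzero nilpotent of the dual when `p ∣ dim A`.
-/

set_option autoImplicit false
universe u v

namespace Groth.Agent.Lib.T2H8.EtEt

open TensorProduct WithConv Coalgebra Groth.Agent.Lib.Helper25 Groth.Agent.Lib.Helper6.Hopf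

section Trace


variable {k : Type u} [Field k] {A : Type v} [CommRing A] [HopfAlgebra k A] [Module.Finite k A]

/-- `(id ⊗ Tr)`. -/
noncomputable def idTr : A ⊗[k] A →ₗ[A] A :=
  (AlgebraTensorModule.rid k A A).toLinearMap ∘ₗ
    (AlgebraTensorModule.map (LinearMap.id : A →ₗ[A] A) (Algebra.trace k A))

theorem idTr_tmul (a b : A) : idTr (k := k) (a ⊗ₜ[k] b) = Algebra.trace k A b • a := by
  simp [idTr]

/-- The trace of `A ⊗ A` over the left factor is `id ⊗ Tr`. -/
theorem trace_left_eq (t : A ⊗[k] A) : Algebra.trace A (A ⊗[k] A) t = idTr t := by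
  induction t using TensorProduct.induction_on with
  | zero => simp
  | add x y hx hy => simp only [map_add, hx, hy]
  | tmul a b =>
    have e : a ⊗ₜ[k] b = a • ((1 : A) ⊗ₜ[k] b) := by
      rw [TensorProduct.smul_tmul', smul_eq_mul, mul_one]
    rw [e, map_smul, map_smul, idTr_tmul]
    congr 1
    rw [Algebra.trace_apply]
    have h : Algebra.lmul A (A ⊗[k] A) ((1 : A) ⊗ₜ[k] b) =
        (Algebra.lmul k A b).baseChange A := by
      apply TensorProduct.AlgebraTensorModule.ext
      intro x y
      simp
    rw [h, LinearMap.trace_baseChange, ← Algebra.trace_apply, Algebra.algebraMap_eq_smul_one]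

/-- The trace is a (right) integral on `A`: `Σ a₁ Tr(a₂) = Tr(a)`. -/
theorem idTr_comul (a : A) : idTr (comul (R := k) a) = algebraMap k A (Algebra.trace k A a) := by
  let T := translEquiv (AlgHom.id k A) ((AlgHom.id k A).comp (HopfAlgebra.antipodeAlgHom k A))
    (conv_antipode_cancel_right _) (conv_antipode_cancel_left _)
  have h1 : T ((1 : A) ⊗ₜ[k] a) = comul (R := k) a := by
    rw [translEquiv_apply, transl_one_tmul, AlgHom.convMul_apply, ofConv_toConv, ofConv_toConv]
    generalize comul (R := k) a = t
    induction t using TensorProduct.induction_on with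
    | zero => simp
    | add x y hx hy => simp only [map_add, hx, hy]
    | tmul x y => simp
  rw [← trace_left_eq, ← h1, Algebra.trace_eq_of_algEquiv T, trace_left_eq, idTr_tmul,
    Algebra.algebraMap_eq_smul_one]


/-- The trace, as an element of the dual Hopf algebra. -/
noncomputable def Lam : CartDual.D k A := toConv (Algebra.trace k A)

theorem Lam_mul_Lam : (Lam * Lam : CartDual.D k A) = (Module.finrank k A : k) • Lam := by
  apply WithConv.ext
  apply LinearMap.ext
  intro a
  have h1 : ∀ t : A ⊗[k] A, LinearMap.mul' k k (TensorProduct.map (Algebra.trace k A)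
      (Algebra.trace k A) t) = Algebra.trace k A (idTr t) := by
    intro t
    induction t using TensorProduct.induction_on with
    | zero => simp
    | add x y hx hy => simp only [map_add, hx, hy]
    | tmul x y => simp [idTr_tmul, mul_comm]
  change LinearMap.mul' k k (TensorProduct.map (Algebra.trace k A) (Algebra.trace k A)
    (comul (R := k) a)) = (Module.finrank k A : k) • Algebra.trace k A a
  rw [h1, idTr_comul, Algebra.trace_algebraMap, nsmul_eq_mul, smul_eq_mul]

end Trace

section NeZero

variable (k : Type u) [Field k] (A : Type v) [CommRing A] [HopfAlgebra k A] [Module.Finite k A]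

/-- An étale (unramified) finite Hopf algebra over a field has an element of trace one. -/
theorem exists_trace_eq_one [Algebra.FormallyUnramified k A] :
    ∃ e₀ : A, Algebra.trace k A e₀ = 1 := by
  haveI : IsNoetherianRing A := IsNoetherianRing.of_finite k A
  have hI : augR k A ≤ augR k A ^ 2 := augR_le_sq_of_unramified
  have hidem : IsIdempotentElem (augR k A) := by
    change augR k A * augR k A = augR k A
    rw [← pow_two]
    exact le_antisymm (Ideal.pow_le_self (by norm_num)) hI
  obtain ⟨e', he', hIe⟩ := (Ideal.isIdempotentElem_iff_of_fg _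
    (IsNoetherian.noetherian (augR k A))).mp hidem
  have he'I : e' ∈ augR k A := by rw [hIe]; exact Ideal.mem_span_singleton_self e'
  have hεe' : counit (R := k) e' = 0 := mem_augR.mp he'I
  set e₀ : A := 1 - e' with he₀
  have hεe₀ : counit (R := k) e₀ = 1 := by
    rw [he₀, map_sub, hεe', Bialgebra.counit_one, sub_zero]
  have hmul : ∀ a : A, e₀ * a = counit (R := k) a • e₀ := by
    intro a
    have h1 : a - algebraMap k A (counit (R := k) a) ∈ augR k A := sub_counit_mem_augR a
    rw [hIe] at h1
    obtain ⟨c, hc⟩ := Ideal.mem_span_singleton'.mp h1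
    have h2 : e₀ * (a - algebraMap k A (counit (R := k) a)) = 0 := by
      rw [← hc, he₀]
      have : e' * e' = e' := he'
      linear_combination (-c) * this
    rw [mul_sub, sub_eq_zero] at h2
    rw [h2, Algebra.smul_def, mul_comm]
  have he₀ne : e₀ ≠ 0 := by
    intro h
    rw [h, map_zero] at hεe₀
    exact zero_ne_one hεe₀
  refine ⟨e₀, ?_⟩
  rw [Algebra.trace_apply]
  have hproj : LinearMap.IsProj (Submodule.span k {e₀}) (Algebra.lmul k A e₀) := by
    constructor
    · intro a
      change e₀ * a ∈ _
      rw [hmul]
      exact Submodule.smul_mem _ _ (Submodule.mem_span_singleton_self e₀)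
    · intro x hx
      obtain ⟨c, rfl⟩ := Submodule.mem_span_singleton.mp hx
      change e₀ * (c • e₀) = c • e₀
      rw [hmul, map_smul, hεe₀, smul_eq_mul, mul_one]
  rw [hproj.trace, finrank_span_singleton he₀ne, Nat.cast_one]

end NeZero

section Main

variable (k : Type u) [Field k] (p : ℕ) [Fact p.Prime] [CharP k p]
  (A : Type u) [CommRing A] [HopfAlgebra k A] [Coalgebra.IsCocomm k A] [FiniteDimensional k A]

omit [Coalgebra.IsCocomm k A] in
/-- An étale Hopf algebra has nonzero trace form. -/
theorem Lam_ne_zero [Algebra.FormallyUnramified k A] : (Lam : CartDual.D k A) ≠ 0 := by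
  obtain ⟨e₀, he₀⟩ := exists_trace_eq_one k A
  intro h
  have h1 : (Lam : CartDual.D k A) e₀ = 0 := by rw [h]; rfl
  have h2 : (Lam : CartDual.D k A) e₀ = Algebra.trace k A e₀ := rfl
  rw [h2, he₀] at h1
  exact one_ne_zero h1

theorem not_dvd_of_etale_etale [Algebra.Etale k A] [Algebra.Etale k (CartDual.D k A)] :
    ¬ p ∣ Module.finrank k A := by
  intro hp
  have h0 : ((Module.finrank k A : ℕ) : k) = 0 := (CharP.cast_eq_zero_iff k p _).mpr hp
  have h1 : (Lam * Lam : CartDual.D k A) = 0 := by rw [Lam_mul_Lam, h0, zero_smul]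
  haveI : IsReduced (CartDual.D k A) := Algebra.FormallyUnramified.isReduced_of_field k _
  have h2 : (Lam : CartDual.D k A) = 0 := by
    have : IsNilpotent (Lam : CartDual.D k A) := ⟨2, by rw [pow_two, h1]⟩
    exact this.eq_zero
  exact Lam_ne_zero k A h2

theorem etale_of_not_dvd (B : Type u) [CommRing B] [HopfAlgebra k B] [FiniteDimensional k B]
    (h : ¬ p ∣ Module.finrank k B) : Algebra.Etale k B := by
  have h0 : ((Module.finrank k B : ℕ) : k) ≠ 0 := fun h1 => h ((CharP.cast_eq_zero_iff k p _).mp h1)
  haveI : Algebra.FormallyUnramified k B :=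
    Groth.Agent.Lib.T2H8.EtOrd.formallyUnramified_of_finrank_ne_zero k B h0
  haveI : Algebra.FinitePresentation k B := Algebra.FinitePresentation.of_finiteType.mp inferInstance
  exact Algebra.Etale.of_formallyUnramified_of_flat

theorem etale_etale_iff :
    (Algebra.Etale k A ∧ Algebra.Etale k (CartDual.D k A)) ↔ ¬ p ∣ Module.finrank k A := by
  constructor
  · rintro ⟨h1, h2⟩
    exact not_dvd_of_etale_etale k p A
  · intro h
    refine ⟨etale_of_not_dvd k p A h, etale_of_not_dvd k p (CartDual.D k A) ?_⟩
    have e : Module.finrank k (CartDual.D k A) = Module.finrank k A := by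
      rw [(CartDual.toDual k A).finrank_eq, Subspace.dual_finrank_eq]
    rw [e]
    exact h

end Main

end Groth.Agent.Lib.T2H8.EtEt
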