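import Mathlib
import Groth.Prelude.Def_EtDual
import Groth.Agent.Lib.T2H8Excision
import Groth.Agent.Lib.Helper9EtPull
import Groth.Agent.Lib.Helper9EtMVCompare
import Groth.Agent.Lib.Helper23DerComp
import Groth.Agent.Lib.Helper9JContAll
import Groth.Agent.Lib.T2H8Recoll

/-!
# Étale excision for cohomology with supports (helper8)
-/

set_option autoImplicit false
set_option linter.style.haveILetI false
set_option linter.unusedSectionVars false
universe u
open CategoryTheory CategoryTheory.Limits AlgebraicGeometry Opposite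

namespace Groth.Agent.Lib.T2H8.EtExcisionH

open Groth.Agent.Lib.T2H8.Excision Groth.Agent.S0651 Groth.Agent.Lib.Helper9.EtPull

section L

variable {X : Scheme.{u}} (F : EtCoh.Ab X)

/-- a section restricts to zero along `e : P ⟶ T` iff its support misses the image of `e` -/
lemma map_eq_zero_iff_sectSupp {P T : X.Etale} (e : P ⟶ T) (s : F.obj.obj (op T)) :
    F.obj.map e.op s = 0 ↔ EtShriek.sectSupp F T s ⊆ (Set.range e.left.base)ᶜ := by
  constructor
  · intro h x hx hx'
    obtain ⟨p, rfl⟩ := hx'
    exact (not_mem_sectSupp_iff F s _).2 ⟨P, e, ⟨p, rfl⟩, h⟩ hx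
  · intro h
    apply eq_of_locally_eq
    intro p
    have hp : e.left.base p ∉ EtShriek.sectSupp F T s := fun hh => h hh ⟨p, rfl⟩
    obtain ⟨W, g, ⟨w, hw⟩, hg⟩ := (not_mem_sectSupp_iff F s _).1 hp
    obtain ⟨Q, a, b, q, hab, ha, hb⟩ := exists_fibre_product g e w p hw
    refine ⟨Q, b, ⟨q, hb⟩, ?_⟩
    rw [← map_comp_apply, ← hab, map_comp_apply, hg, map_zero, map_zero]

end L

section Unit

variable {U X : Scheme.{u}} (j : U ⟶ X) [AlgebraicGeometry.Etale j] [EtShriek.JCont j]

/-- the counit `U ×_X W ⟶ W` of the small étale sites -/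
noncomputable abbrev cU (W : X.Etale) : (EtShriek.compEtale j).obj ((EtCoh.bc j).obj W) ⟶ W :=
  (compBcAdj j).counit.app W

set_option backward.isDefEq.respectTransparency.types false in
lemma restr_unit_app (F : EtCoh.Ab X) (W : X.Etale) :
    ((restrPushAdj j).unit.app F).hom.app (op W) = F.obj.map (cU j W).op := by
  simp [restrPushAdj]

set_option backward.isDefEq.respectTransparency.types false in
/-- the unit `F ⟶ j_* j^* F` kills a section iff restriction to `U ×_X W` does -/
lemma unit_eq_zero_iff (F : EtCoh.Ab X) (W : X.Etale) (s : F.obj.obj (op W)) :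
    ((EtCoh.pullPushAdj j).unit.app F).hom.app (op W) s = 0 ↔ F.obj.map (cU j W).op s = 0 := by
  have h := unit_rho j F
  have h2 : ((EtCoh.push j).map ((rho j).hom.app F)).hom.app (op W)
      (((EtCoh.pullPushAdj j).unit.app F).hom.app (op W) s) = F.obj.map (cU j W).op s := by
    rw [← restr_unit_app j F W, ← h]
    rfl
  haveI : IsIso ((EtCoh.push j).map ((rho j).hom.app F)) := inferInstance
  have hiso : IsIso (((EtCoh.push j).map ((rho j).hom.app F)).hom.app (op W)) := by
    have : IsIso ((sheafToPresheaf _ _).map ((EtCoh.push j).map ((rho j).hom.app F))) := inferInstance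
    exact inferInstanceAs (IsIso (((sheafToPresheaf _ _).map
      ((EtCoh.push j).map ((rho j).hom.app F))).app (op W)))
  have hinj : Function.Injective (((EtCoh.push j).map ((rho j).hom.app F)).hom.app (op W)) :=
    ((ConcreteCategory.isIso_iff_bijective _).1 hiso).1
  constructor
  · intro h0
    rw [← h2, h0, map_zero]
    rfl
  · intro h0
    apply hinj
    rw [h2, h0, map_zero]
    rfl

end Unit

section Kernel

variable {U X : Scheme.{u}} (j : U ⟶ X) (F : EtCoh.Ab X)

/-- sections over `W` -/
noncomputable abbrev secF (W : X.Etale) : EtCoh.Ab X ⥤ AddCommGrpCat.{u + 1} :=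
  sheafToPresheaf X.smallEtaleTopology AddCommGrpCat.{u + 1} ⋙
    (evaluation X.Etaleᵒᵖ AddCommGrpCat.{u + 1}).obj (op W)

/-- the inclusion of sections with support off `U` -/
noncomputable abbrev ιK : (EtDual.secSupp j).obj F ⟶ F := kernel.ι (EtDual.unitApp j F)

/-- the defining left exact sequence -/
noncomputable def scK : ShortComplex (EtCoh.Ab X) :=
  ShortComplex.mk (ιK j F) (EtDual.unitApp j F) (kernel.condition _)

lemma scK_exact : (scK j F).Exact :=
  ShortComplex.exact_of_f_is_kernel _ (kernelIsKernel _)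

instance : Mono (scK j F).f := inferInstanceAs (Mono (kernel.ι _))

lemma ιK_injective (W : X.Etale) : Function.Injective ((ιK j F).hom.app (op W)) := by
  haveI : Mono ((secF W).map (ιK j F)) := inferInstance
  exact (AddCommGrpCat.mono_iff_injective ((secF W).map (ιK j F))).1 inferInstance

lemma exists_ιK_eq_iff (W : X.Etale) (s : F.obj.obj (op W)) :
    (∃ k, (ιK j F).hom.app (op W) k = s) ↔ (EtDual.unitApp j F).hom.app (op W) s = 0 := by
  have hex : ((scK j F).map (secF W)).Exact :=
    (scK_exact j F).map_of_mono_of_preservesKernel (secF W) inferInstance inferInstance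
  rw [ShortComplex.ab_exact_iff] at hex
  constructor
  · rintro ⟨k, rfl⟩
    have h := congrArg (fun m => m.hom.app (op W)) (scK j F).zero
    exact ConcreteCategory.congr_hom h k
  · intro h
    exact hex s h

end Kernel

section Vanish

variable {U X : Scheme.{u}} (j : U ⟶ X) [AlgebraicGeometry.Etale j] [EtShriek.JCont j]
  (F : EtCoh.Ab X)

/-- a section killed by a surjective étale map is zero -/
lemma eq_zero_of_map_eq_zero_of_surjective {P T : X.Etale} (e : P ⟶ T)
    (he : Function.Surjective e.left.base) (s : F.obj.obj (op T)) (h : F.obj.map e.op s = 0) :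
    s = 0 := by
  apply eq_of_locally_eq
  intro x
  obtain ⟨p, rfl⟩ := he x
  exact ⟨P, e, ⟨p, rfl⟩, by rw [h, map_zero]⟩

set_option backward.isDefEq.respectTransparency.types false in
lemma cU_surjective (Q : X.Etale) (hQ : Set.range Q.hom.base ⊆ Set.range j.base) :
    Function.Surjective (cU j Q).left.base := by
  intro w
  obtain ⟨u, hu⟩ := hQ ⟨w, rfl⟩
  obtain ⟨p, hp1, -⟩ := Scheme.Pullback.exists_preimage_pullback (f := Q.hom) (g := j) w u hu.symm
  exact ⟨p, hp1⟩

/-- sections with support off `U` vanish over étale schemes mapping into `U` -/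
lemma secSupp_eq_zero (Q : X.Etale) (hQ : Set.range Q.hom.base ⊆ Set.range j.base)
    (k : ((EtDual.secSupp j).obj F).obj.obj (op Q)) : k = 0 := by
  apply ιK_injective j F Q
  rw [map_zero]
  have h1 : (EtDual.unitApp j F).hom.app (op Q) ((ιK j F).hom.app (op Q) k) = 0 :=
    (exists_ιK_eq_iff j F Q _).1 ⟨k, rfl⟩
  have h2 := (unit_eq_zero_iff j F Q _).1 h1
  exact eq_zero_of_map_eq_zero_of_surjective F (cU j Q) (cU_surjective j Q hQ) _ h2

end Vanish

section Theta

variable {X X' U U' : Scheme.{u}} (f : X' ⟶ X) [AlgebraicGeometry.Etale f] [EtShriek.JCont f]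
  (j : U ⟶ X) [AlgebraicGeometry.Etale j] [EtShriek.JCont j]
  (j' : U' ⟶ X') [AlgebraicGeometry.Etale j'] [EtShriek.JCont j']
  (hU : Set.range j'.base ⊆ f.base ⁻¹' Set.range j.base)

include hU in
set_option backward.isDefEq.respectTransparency.types false in
lemma restr_ι_comp_unit (F : EtCoh.Ab X) :
    (EtShriek.restrAlong f).map (ιK j F) ≫
      EtDual.unitApp j' ((EtShriek.restrAlong f).obj F) = 0 := by
  apply Sheaf.hom_ext
  apply NatTrans.ext
  funext W'
  induction W' using Opposite.rec with | _ W' => ?_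
  apply ConcreteCategory.hom_ext
  intro k
  let Q : X.Etale := (EtShriek.compEtale f).obj ((EtShriek.compEtale j').obj ((EtCoh.bc j').obj W'))
  let q : Q ⟶ (EtShriek.compEtale f).obj W' := (EtShriek.compEtale f).map (cU j' W')
  have hQ : Set.range Q.hom.base ⊆ Set.range j.base := by
    rintro _ ⟨p, rfl⟩
    have e1 : Q.hom.base p = f.base (j'.base (((EtCoh.bc j').obj W').hom.base p)) := by
      change ((((EtCoh.bc j').obj W').hom ≫ j') ≫ f).base p = _
      rw [Scheme.Hom.comp_apply, Scheme.Hom.comp_apply]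
    rw [e1]
    exact hU ⟨_, rfl⟩
  let k' : ((EtDual.secSupp j).obj F).obj.obj (op ((EtShriek.compEtale f).obj W')) := k
  have h0 : F.obj.map q.op ((ιK j F).hom.app (op ((EtShriek.compEtale f).obj W')) k') = 0 := by
    have nat := ConcreteCategory.congr_hom ((ιK j F).hom.naturality q.op) k'
    have nat' : F.obj.map q.op ((ιK j F).hom.app (op ((EtShriek.compEtale f).obj W')) k') =
        (ιK j F).hom.app (op Q) (((EtDual.secSupp j).obj F).obj.map q.op k') := nat.symm
    rw [nat', secSupp_eq_zero j F Q hQ (((EtDual.secSupp j).obj F).obj.map q.op k'), map_zero]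
  exact (unit_eq_zero_iff j' ((EtShriek.restrAlong f).obj F) W' _).2 h0

/-- the comparison of sections-with-support sheaves -/
noncomputable def thetaSharp :
    EtDual.secSupp j ⋙ EtShriek.restrAlong f ⟶ EtShriek.restrAlong f ⋙ EtDual.secSupp j' where
  app F := kernel.lift _ ((EtShriek.restrAlong f).map (ιK j F)) (restr_ι_comp_unit f j j' hU F)
  naturality F G a := by
    apply (cancel_mono (kernel.ι (EtDual.unitApp j' ((EtShriek.restrAlong f).obj G)))).1
    simp only [Functor.comp_map, Category.assoc, kernel.lift_ι]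
    rw [kernel.lift_ι_assoc, ← Functor.map_comp, ← Functor.map_comp]
    congr 1
    exact kernel.lift_ι _ _ _

@[reassoc]
lemma thetaSharp_ι (F : EtCoh.Ab X) :
    (thetaSharp f j j' hU).app F ≫ ιK j' ((EtShriek.restrAlong f).obj F) =
      (EtShriek.restrAlong f).map (ιK j F) :=
  kernel.lift_ι _ _ _

/-- the structure map `X' ⟶ X` as a morphism of the small étale site of `X` to the terminal object -/
noncomputable abbrev φ : (EtShriek.compEtale f).obj (EtCoh.top X') ⟶ EtCoh.top X :=
  (EtCore.topIsTerminal X).from _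

/-- restriction of global sections to `X'` -/
noncomputable def Nres : secF (EtCoh.top X) ⟶ EtShriek.restrAlong f ⋙ secF (EtCoh.top X') where
  app G := G.obj.map (φ f).op
  naturality _ _ a := (a.hom.naturality (φ f).op).symm

/-- the comparison map `Γ_Z(X, F) ⟶ Γ_{Z'}(X', F|X')` as a natural transformation -/
noncomputable def theta :
    EtDual.gammaSupp j ⟶ EtShriek.restrAlong f ⋙ EtDual.gammaSupp j' :=
  (Functor.whiskerLeft (EtDual.secSupp j) (Nres f) :
      EtDual.secSupp j ⋙ secF (EtCoh.top X) ⟶
        EtDual.secSupp j ⋙ EtShriek.restrAlong f ⋙ secF (EtCoh.top X')) ≫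
    (Functor.whiskerRight (thetaSharp f j j' hU) (secF (EtCoh.top X')) :
      (EtDual.secSupp j ⋙ EtShriek.restrAlong f) ⋙ secF (EtCoh.top X') ⟶
        (EtShriek.restrAlong f ⋙ EtDual.secSupp j') ⋙ secF (EtCoh.top X'))

lemma theta_app (F : EtCoh.Ab X) :
    (theta f j j' hU).app F = ((EtDual.secSupp j).obj F).obj.map (φ f).op ≫
      ((thetaSharp f j j' hU).app F).hom.app (op (EtCoh.top X')) := rfl

end Theta

section Char

variable {U X : Scheme.{u}} (j : U ⟶ X) [AlgebraicGeometry.Etale j] [EtShriek.JCont j]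
  (F : EtCoh.Ab X)

set_option backward.isDefEq.respectTransparency.types false in
lemma range_cU_top : Set.range (cU j (EtCoh.top X)).left.base = Set.range j.base := by
  ext x
  constructor
  · rintro ⟨p, rfl⟩
    refine ⟨(pullback.snd (𝟙 X) j).base p, ?_⟩
    have e1 : j.base ((pullback.snd (𝟙 X) j).base p) = (pullback.snd (𝟙 X) j ≫ j).base p :=
      (Scheme.Hom.comp_apply _ _ _).symm
    have e2 : (pullback.fst (𝟙 X) j).base p = (pullback.fst (𝟙 X) j ≫ 𝟙 X).base p := by
      rw [Category.comp_id]
    rw [e1, ← pullback.condition]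
    exact e2.symm
  · rintro ⟨u, rfl⟩
    obtain ⟨p, hp1, -⟩ := Scheme.Pullback.exists_preimage_pullback (f := 𝟙 X) (g := j)
      (j.base u) u rfl
    exact ⟨p, hp1⟩

/-- global sections supported off `U`, through the support of sections -/
lemma exists_ιK_eq_iff_sectSupp (s : F.obj.obj (op (EtCoh.top X))) :
    (∃ k, (ιK j F).hom.app (op (EtCoh.top X)) k = s) ↔
      EtShriek.sectSupp F (EtCoh.top X) s ⊆ (Set.range j.base)ᶜ := by
  rw [exists_ιK_eq_iff, unit_eq_zero_iff, map_eq_zero_iff_sectSupp, range_cU_top]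
  exact Iff.rfl

end Char


section Bij

variable {X X' U U' : Scheme.{u}} (f : X' ⟶ X) [AlgebraicGeometry.Etale f] [EtShriek.JCont f]
  (j : U ⟶ X) [AlgebraicGeometry.Etale j] [EtShriek.JCont j]
  (j' : U' ⟶ X') [AlgebraicGeometry.Etale j'] [EtShriek.JCont j']
  (F : EtCoh.Ab X)

set_option backward.isDefEq.respectTransparency.types false in
/-- sections over `X'` supported off `U'`, through the support of sections computed on `X` -/
lemma exists_ιK_eq_iff_sectSupp' (s' : F.obj.obj (op ((EtShriek.compEtale f).obj (EtCoh.top X')))) :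
    (∃ k', (ιK j' ((EtShriek.restrAlong f).obj F)).hom.app (op (EtCoh.top X')) k' = s') ↔
      EtShriek.sectSupp F ((EtShriek.compEtale f).obj (EtCoh.top X')) s' ⊆
        (Set.range j'.base)ᶜ := by
  rw [exists_ιK_eq_iff j' ((EtShriek.restrAlong f).obj F) (EtCoh.top X') s',
    unit_eq_zero_iff j' ((EtShriek.restrAlong f).obj F) (EtCoh.top X') s']
  have h := map_eq_zero_iff_sectSupp F ((EtShriek.compEtale f).map (cU j' (EtCoh.top X'))) s'
  have hr : Set.range ((EtShriek.compEtale f).map (cU j' (EtCoh.top X'))).left.base =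
      Set.range j'.base := range_cU_top j'
  rw [hr] at h
  exact h

variable (hU' : Set.range j'.base = f.base ⁻¹' Set.range j.base)
  (hZ : Set.BijOn f.base (Set.range j'.base)ᶜ (Set.range j.base)ᶜ)
  (hκ : ∀ x' : ↥X', x' ∉ Set.range j'.base → Function.Surjective (f.residueFieldMap x'))

lemma φ_left : (φ f).left = f := by
  have h : (φ f).left ≫ 𝟙 X = 𝟙 X' ≫ f := MorphismProperty.Over.w (φ f)
  exact (Category.comp_id _).symm.trans (h.trans (Category.id_comp _))

include hU' hZ in
lemma hbij_φ : Set.BijOn (φ f).left.base ((φ f).left.base ⁻¹' (Set.range j.base)ᶜ)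
    (Set.range j.base)ᶜ := by
  have key : ∀ (g : X' ⟶ X), g = f →
      Set.BijOn g.base (g.base ⁻¹' (Set.range j.base)ᶜ) (Set.range j.base)ᶜ := by
    rintro g rfl
    have e : g.base ⁻¹' (Set.range j.base)ᶜ = (Set.range j'.base)ᶜ := by
      rw [hU']
      rfl
    rw [e]
    exact hZ
  exact key _ (φ_left f)

include hU' hκ in
lemma hres_φ : ∀ x ∈ (φ f).left.base ⁻¹' (Set.range j.base)ᶜ,
    Function.Bijective ((φ f).left.residueFieldMap x) := by
  have key : ∀ (g : X' ⟶ X), g = f → ∀ x ∈ g.base ⁻¹' (Set.range j.base)ᶜ,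
      Function.Bijective (g.residueFieldMap x) := by
    rintro g rfl x hx
    have hx' : x ∉ Set.range j'.base := by
      rw [hU']
      exact hx
    exact ⟨(g.residueFieldMap x).hom.injective, hκ x hx'⟩
  exact key _ (φ_left f)

include hU' in
lemma hU_sub : Set.range j'.base ⊆ f.base ⁻¹' Set.range j.base := hU'.le

set_option backward.isDefEq.respectTransparency.types false in
/-- the comparison map composed with the inclusion is restriction of sections -/
lemma ι_theta (k : ((EtDual.secSupp j).obj F).obj.obj (op (EtCoh.top X))) :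
    (ιK j' ((EtShriek.restrAlong f).obj F)).hom.app (op (EtCoh.top X'))
      ((theta f j j' (hU_sub f j j' hU')).app F k) =
    F.obj.map (φ f).op ((ιK j F).hom.app (op (EtCoh.top X)) k) := by
  have h1 := congrArg (fun m => m.hom.app (op (EtCoh.top X')))
    (thetaSharp_ι f j j' (hU_sub f j j' hU') F)
  have h2 := ConcreteCategory.congr_hom h1 (((EtDual.secSupp j).obj F).obj.map (φ f).op k)
  have h3 := ConcreteCategory.congr_hom ((ιK j F).hom.naturality (φ f).op) k
  exact h2.trans h3

include hZ hκ in
set_option backward.isDefEq.respectTransparency.types false in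
theorem theta_bijective :
    Function.Bijective ((theta f j j' (hU_sub f j j' hU')).app F) := by
  have hZc : IsClosed ((Set.range j.base)ᶜ : Set ↥(EtCoh.top X).left) := by
    haveI : IsOpenMap j.base := j.isOpenMap
    exact (j.isOpenMap.isOpen_range).isClosed_compl
  have hB := bijOn F (φ f) (Set.range j.base)ᶜ hZc (hbij_φ f j j' hU' hZ) (hres_φ f j j' hU' hκ)
  have hpre : (φ f).left.base ⁻¹' (Set.range j.base)ᶜ = (Set.range j'.base)ᶜ := by
    have key : ∀ (g : X' ⟶ X), g = f →
        g.base ⁻¹' (Set.range j.base)ᶜ = (Set.range j'.base)ᶜ := by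
      rintro g rfl
      rw [hU']
      rfl
    exact key _ (φ_left f)
  rw [hpre] at hB
  constructor
  · intro k₁ k₂ h
    apply ιK_injective j F (EtCoh.top X)
    apply hB.injOn
    · exact (exists_ιK_eq_iff_sectSupp j F _).1 ⟨k₁, rfl⟩
    · exact (exists_ιK_eq_iff_sectSupp j F _).1 ⟨k₂, rfl⟩
    · rw [← ι_theta f j j' F hU', ← ι_theta f j j' F hU', h]
  · intro k'
    have hs' := (exists_ιK_eq_iff_sectSupp' f j' F _).1 ⟨k', rfl⟩
    obtain ⟨s, hs, hss'⟩ := hB.surjOn hs'
    obtain ⟨k, hk⟩ := (exists_ιK_eq_iff_sectSupp j F s).2 hs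
    refine ⟨k, ?_⟩
    apply ιK_injective j' ((EtShriek.restrAlong f).obj F) (EtCoh.top X')
    rw [ι_theta f j j' F hU', hk]
    exact hss'

end Bij

section Derived

/-- a natural isomorphism of additive functors induces one on right derived functors -/
noncomputable def rightDerivedIso {C D : Type*} [Category C] [Category D] [Abelian C] [Abelian D]
    [HasInjectiveResolutions C] {F G : C ⥤ D} [F.Additive] [G.Additive] (e : F ≅ G) (n : ℕ) :
    F.rightDerived n ≅ G.rightDerived n where
  hom := NatTrans.rightDerived e.hom n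
  inv := NatTrans.rightDerived e.inv n
  hom_inv_id := by rw [← NatTrans.rightDerived_comp, e.hom_inv_id, NatTrans.rightDerived_id]
  inv_hom_id := by rw [← NatTrans.rightDerived_comp, e.inv_hom_id, NatTrans.rightDerived_id]

variable {X X' U U' : Scheme.{u}} (f : X' ⟶ X) [AlgebraicGeometry.Etale f] [EtShriek.JCont f]

instance restr_preservesInjectiveObjects : (EtShriek.restrAlong f).PreservesInjectiveObjects := by
  haveI : (EtShriek.extZero f).PreservesMonomorphisms :=
    ⟨fun g _ => Groth.Agent.S0648.mono_extZero_map f g⟩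
  exact Functor.preservesInjectiveObjects_of_adjunction_of_preservesMonomorphisms
    (EtShriek.extZeroAdj f)

end Derived

section Main

variable {X X' U U' : Scheme.{u}}
    (f : X' ⟶ X) [AlgebraicGeometry.Etale f] (j : U ⟶ X) [IsOpenImmersion j]
    (j' : U' ⟶ X') [IsOpenImmersion j']
    (hU' : Set.range j'.base = f.base ⁻¹' Set.range j.base)
    (hZ : Set.BijOn f.base (Set.range j'.base)ᶜ (Set.range j.base)ᶜ)
    (hκ : ∀ x' : ↥X', x' ∉ Set.range j'.base → Function.Surjective (f.residueFieldMap x'))

include hU' hZ hκ in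
theorem main (F : EtCoh.Ab X) (r : ℕ) :
    Nonempty ((EtDual.HY j r).obj F ≅ (EtDual.HY j' r).obj ((EtCoh.pull f).obj F)) := by
  haveI := Groth.Agent.Lib.Helper9.JContAll.jCont f
  haveI := Groth.Agent.Lib.Helper9.JContAll.jCont j
  haveI := Groth.Agent.Lib.Helper9.JContAll.jCont j'
  have hiso : ∀ G : EtCoh.Ab X, IsIso ((theta f j j' (hU_sub f j j' hU')).app G) := by
    intro G
    exact (ConcreteCategory.isIso_iff_bijective _).2 (theta_bijective f j j' G hU' hZ hκ)
  haveI : IsIso (theta f j j' (hU_sub f j j' hU')) := NatIso.isIso_of_isIso_app _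
  let e₀ : EtDual.gammaSupp j ≅ EtShriek.restrAlong f ⋙ EtDual.gammaSupp j' :=
    asIso (theta f j j' (hU_sub f j j' hU'))
  let e₁ : (EtDual.gammaSupp j).rightDerived r ≅
      (EtShriek.restrAlong f ⋙ EtDual.gammaSupp j').rightDerived r := rightDerivedIso e₀ r
  let e₂ := Groth.Agent.Lib.Helper23DerComp.compIso (EtShriek.restrAlong f) (EtDual.gammaSupp j') r
  let e₃ : (EtDual.HY j' r).obj ((EtShriek.restrAlong f).obj F) ≅
      (EtDual.HY j' r).obj ((EtCoh.pull f).obj F) :=
    (EtDual.HY j' r).mapIso ((rho f).app F).symm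
  exact ⟨e₁.app F ≪≫ e₂.app F ≪≫ e₃⟩

end Main

end Groth.Agent.Lib.T2H8.EtExcisionH
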