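import Mathlib
import Groth.Prelude.Def_EtBaseX

/-!
# The étale local ring at a geometric point is strictly henselian (helper8, team 2)

The étale local ring is the filtered colimit of `Γ(U, 𝒪_U)` over étale neighbourhoods of a geometric
point `ξ : Spec Ω ⟶ X`.  We work with affine stages (`AffStage`), show the evaluation map `ε` to `Ω`
is a local homomorphism, and lift simple roots in `Ω` of monic polynomials through standard étale
algebras (`exists_root`).
-/

set_option autoImplicit false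
universe u
open CategoryTheory CategoryTheory.Limits AlgebraicGeometry Opposite IsLocalRing

namespace Groth.Agent.Lib.T2H8.EtLocRing

variable {X : Scheme.{u}} {Ω : Type u} [Field Ω] [IsSepClosed Ω] (ξ : Spec (CommRingCat.of Ω) ⟶ X)

/-- the point -/
noncomputable abbrev Φ := Scheme.pointSmallEtale ξ

/-- the stage map -/
noncomputable abbrev stage (U : X.Etale) (x : (Φ ξ).fiber.obj U) :
    Γ(U.left, ⊤) ⟶ EtBase.etaleLocalRing ξ :=
  (Φ ξ).toPresheafFiber U x (EtBase.OO X)

lemma stage_surj (p : EtBase.etaleLocalRing ξ) :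
    ∃ (U : X.Etale) (x : (Φ ξ).fiber.obj U) (z : Γ(U.left, ⊤)), stage ξ U x z = p :=
  (Φ ξ).toPresheafFiber_jointly_surjective p

lemma stage_w {U V : X.Etale} (f : V ⟶ U) (y : (Φ ξ).fiber.obj V) :
    f.left.appTop ≫ stage ξ V y = stage ξ U ((Φ ξ).fiber.map f y) :=
  (Φ ξ).toPresheafFiber_w f y (EtBase.OO X)

/-- evaluation at the geometric point -/
noncomputable def ev (U : X.Etale) (x : (Φ ξ).fiber.obj U) : Γ(U.left, ⊤) ⟶ CommRingCat.of Ω :=
  x.left.appTop ≫ (Scheme.ΓSpecIso (CommRingCat.of Ω)).hom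

lemma ev_w {U V : X.Etale} (f : V ⟶ U) (y : (Φ ξ).fiber.obj V) :
    f.left.appTop ≫ ev ξ V y = ev ξ U ((Φ ξ).fiber.map f y) := by
  unfold ev
  rw [← Category.assoc]
  congr 1

/-- the canonical map from the étale local ring to `Ω` -/
noncomputable def ε : EtBase.etaleLocalRing ξ ⟶ CommRingCat.of Ω :=
  (Φ ξ).presheafFiberDesc (P := EtBase.OO X) (fun U x => ev ξ U x) (fun _ _ f x => ev_w ξ f x)

lemma stage_ε (U : X.Etale) (x : (Φ ξ).fiber.obj U) : stage ξ U x ≫ ε ξ = ev ξ U x :=
  (Φ ξ).toPresheafFiber_presheafFiberDesc _ _ U x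

/-- affine étale neighbourhoods of the geometric point -/
structure AffStage where
  /-- the ring -/
  A : CommRingCat.{u}
  /-- the structure map -/
  j : Spec A ⟶ X
  et : Etale j
  /-- the point -/
  χ : A ⟶ CommRingCat.of Ω
  w : Spec.map χ ≫ j = ξ

attribute [instance] AffStage.et

variable {ξ}

/-- the object of the étale site -/
noncomputable abbrev AffStage.obj (s : AffStage ξ) : X.Etale := Scheme.Etale.mk s.j

/-- the point of the fibre -/
noncomputable abbrev AffStage.pt (s : AffStage ξ) : (Φ ξ).fiber.obj s.obj :=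
  Over.homMk (Spec.map s.χ) s.w

/-- the map to the étale local ring -/
noncomputable def AffStage.σ (s : AffStage ξ) : s.A ⟶ EtBase.etaleLocalRing ξ :=
  (Scheme.ΓSpecIso s.A).inv ≫ stage ξ s.obj s.pt

lemma AffStage.σ_ε (s : AffStage ξ) : s.σ ≫ ε ξ = s.χ := by
  have h1 : (stage ξ s.obj s.pt ≫ ε ξ : Γ(Spec s.A, ⊤) ⟶ _) =
      (Spec.map s.χ).appTop ≫ (Scheme.ΓSpecIso (CommRingCat.of Ω)).hom := stage_ε ξ s.obj s.pt
  have h2 : s.σ ≫ ε ξ = (Scheme.ΓSpecIso s.A).inv ≫
      ((stage ξ s.obj s.pt ≫ ε ξ : Γ(Spec s.A, ⊤) ⟶ _)) := Category.assoc _ _ _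
  rw [h2, h1, ← Category.assoc, ← Scheme.ΓSpecIso_inv_naturality, Category.assoc, Iso.inv_hom_id,
    Category.comp_id]

/-- transition between affine stages -/
lemma AffStage.σ_comp (s t : AffStage ξ) (φ : s.A ⟶ t.A) (h1 : Spec.map φ ≫ s.j = t.j)
    (h2 : φ ≫ t.χ = s.χ) : φ ≫ t.σ = s.σ := by
  let f : t.obj ⟶ s.obj := MorphismProperty.Over.homMk (Spec.map φ) h1 trivial
  have hf : (Φ ξ).fiber.map f t.pt = s.pt := by
    apply Over.OverMorphism.ext
    change Spec.map t.χ ≫ Spec.map φ = Spec.map s.χ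
    rw [← Spec.map_comp, h2]
  unfold AffStage.σ
  rw [← hf, ← stage_w ξ f t.pt]
  change _ = (Scheme.ΓSpecIso s.A).inv ≫ (Spec.map φ).appTop ≫ _
  rw [← Category.assoc, ← Category.assoc, Scheme.ΓSpecIso_inv_naturality]

omit [IsSepClosed Ω] in
/-- every pointed étale `X`-scheme contains an affine stage -/
lemma exists_affStage {P : Scheme.{u}} (g : P ⟶ X) [Etale g] (w : Spec (CommRingCat.of Ω) ⟶ P)
    (hw : w ≫ g = ξ) :
    ∃ (s : AffStage ξ) (i : Spec s.A ⟶ P), IsOpenImmersion i ∧ s.j = i ≫ g ∧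
      Spec.map s.χ ≫ i = w := by
  obtain ⟨A, i, hi, hmem, -⟩ := Scheme.exists_affine_mem_range_and_range_subset
    (x := w default) (U := ⊤) (by simp)
  have hrange : Set.range w ⊆ Set.range i := by
    rintro _ ⟨a, rfl⟩
    rwa [Subsingleton.elim a default]
  let w' : Spec (CommRingCat.of Ω) ⟶ Spec A := IsOpenImmersion.lift i w hrange
  have hw' : w' ≫ i = w := IsOpenImmersion.lift_fac i w hrange
  refine ⟨⟨A, i ≫ g, inferInstance, Spec.preimage w', ?_⟩, i, hi, rfl, ?_⟩
  · rw [Spec.map_preimage, ← Category.assoc, hw', hw]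
  · change Spec.map (Spec.preimage w') ≫ i = w
    rw [Spec.map_preimage, hw']

/-- every element of the étale local ring comes from an affine stage -/
lemma exists_affStage_σ (p : EtBase.etaleLocalRing ξ) :
    ∃ (s : AffStage ξ) (a : s.A), s.σ a = p := by
  obtain ⟨U, x, z, rfl⟩ := stage_surj ξ p
  obtain ⟨s, i, hi, h1, h2⟩ := exists_affStage (ξ := ξ) U.hom x.left (Over.w x)
  let f : s.obj ⟶ U := MorphismProperty.Over.homMk i h1.symm trivial
  have hf : (Φ ξ).fiber.map f s.pt = x := by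
    apply Over.OverMorphism.ext
    exact h2
  refine ⟨s, (Scheme.ΓSpecIso s.A).hom (i.appTop z), ?_⟩
  rw [← hf, ← stage_w ξ f s.pt]
  change (stage ξ s.obj s.pt) ((Scheme.ΓSpecIso s.A).inv ((Scheme.ΓSpecIso s.A).hom (i.appTop z))) = _
  rw [← CommRingCat.comp_apply (Scheme.ΓSpecIso s.A).hom, Iso.hom_inv_id]
  rfl

omit [IsSepClosed Ω] in
/-- two affine stages have a common refinement -/
lemma exists_common (s₁ s₂ : AffStage ξ) :
    ∃ (t : AffStage ξ) (φ₁ : s₁.A ⟶ t.A) (φ₂ : s₂.A ⟶ t.A),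
      Spec.map φ₁ ≫ s₁.j = t.j ∧ φ₁ ≫ t.χ = s₁.χ ∧ Spec.map φ₂ ≫ s₂.j = t.j ∧ φ₂ ≫ t.χ = s₂.χ := by
  let w : Spec (CommRingCat.of Ω) ⟶ pullback s₁.j s₂.j :=
    pullback.lift (Spec.map s₁.χ) (Spec.map s₂.χ) (by rw [s₁.w, s₂.w])
  obtain ⟨t, i, hi, h1, h2⟩ := exists_affStage (ξ := ξ) (pullback.fst s₁.j s₂.j ≫ s₁.j) w
    (by rw [← Category.assoc, pullback.lift_fst, s₁.w])
  refine ⟨t, Spec.preimage (i ≫ pullback.fst _ _), Spec.preimage (i ≫ pullback.snd _ _),
    ?_, ?_, ?_, ?_⟩
  · rw [Spec.map_preimage, h1, Category.assoc]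
  · apply Spec.map_injective
    rw [Spec.map_comp, Spec.map_preimage, ← Category.assoc, h2, pullback.lift_fst]
  · rw [Spec.map_preimage, h1, Category.assoc, pullback.condition]
  · apply Spec.map_injective
    rw [Spec.map_comp, Spec.map_preimage, ← Category.assoc, h2, pullback.lift_snd]

open Polynomial in
/-- every polynomial over the étale local ring comes from an affine stage -/
lemma exists_affStage_poly (f : Polynomial (EtBase.etaleLocalRing ξ)) :
    ∃ (s : AffStage ξ) (fs : Polynomial s.A), fs.map s.σ.hom = f := by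
  induction f using Polynomial.induction_on with
  | C a =>
    obtain ⟨s, a', rfl⟩ := exists_affStage_σ a
    exact ⟨s, C a', by simp⟩
  | add p q hp hq =>
    obtain ⟨s₁, p₁, rfl⟩ := hp
    obtain ⟨s₂, p₂, rfl⟩ := hq
    obtain ⟨t, φ₁, φ₂, h1, h2, h3, h4⟩ := exists_common s₁ s₂
    refine ⟨t, p₁.map φ₁.hom + p₂.map φ₂.hom, ?_⟩
    rw [Polynomial.map_add, Polynomial.map_map, Polynomial.map_map,
      ← s₁.σ_comp t φ₁ h1 h2, ← s₂.σ_comp t φ₂ h3 h4]
    rfl
  | monomial n a h =>
    obtain ⟨s, fs, hfs⟩ := h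
    refine ⟨s, fs * Polynomial.X, ?_⟩
    rw [Polynomial.map_mul, hfs, Polynomial.map_X, pow_succ, mul_assoc]

/-- elements not vanishing at the geometric point are units -/
lemma isUnit_σ (s : AffStage ξ) (a : s.A) (ha : s.χ a ≠ 0) : IsUnit (s.σ a) := by
  have hu : IsUnit (s.χ.hom a) := IsUnit.mk0 _ ha
  let alg : s.A ⟶ CommRingCat.of (Localization.Away a) :=
    CommRingCat.ofHom (algebraMap s.A (Localization.Away a))
  let χ' : CommRingCat.of (Localization.Away a) ⟶ CommRingCat.of Ω :=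
    CommRingCat.ofHom (IsLocalization.Away.lift a hu)
  have hχ' : alg ≫ χ' = s.χ := by
    ext r
    exact IsLocalization.Away.lift_eq a hu r
  let t : AffStage ξ :=
    ⟨CommRingCat.of (Localization.Away a), Spec.map alg ≫ s.j, inferInstance, χ', by
      rw [← Category.assoc, ← Spec.map_comp, hχ', s.w]⟩
  have h := s.σ_comp t alg rfl hχ'
  rw [← h]
  change IsUnit (t.σ.hom (algebraMap s.A (Localization.Away a) a))
  exact (IsLocalization.Away.algebraMap_isUnit a).map t.σ.hom

instance isLocalHom_ε : IsLocalHom (ε ξ).hom := by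
  constructor
  intro p hp
  obtain ⟨s, a, rfl⟩ := exists_affStage_σ p
  apply isUnit_σ
  have h : (ε ξ).hom (s.σ a) = s.χ a := by
    rw [← s.σ_ε]
    rfl
  rw [← h]
  exact hp.ne_zero

instance : IsLocalRing (EtBase.etaleLocalRing ξ) := RingHom.domain_isLocalRing (ε ξ).hom

lemma mem_maximalIdeal_iff (p : EtBase.etaleLocalRing ξ) :
    p ∈ maximalIdeal (EtBase.etaleLocalRing ξ) ↔ (ε ξ).hom p = 0 := by
  rw [mem_maximalIdeal, mem_nonunits_iff]
  constructor
  · intro h
    by_contra h0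
    exact h (isUnit_of_map_unit (ε ξ).hom p (IsUnit.mk0 _ h0))
  · intro h hu
    have := hu.map (ε ξ).hom
    rw [h] at this
    exact not_isUnit_zero this

open Polynomial in
/-- the core henselian property of the étale local ring: simple roots in `Ω` lift -/
lemma exists_root (f : Polynomial (EtBase.etaleLocalRing ξ)) (hf : f.Monic) (ω : Ω)
    (h0 : (f.map (ε ξ).hom).eval ω = 0) (h1 : (f.derivative.map (ε ξ).hom).eval ω ≠ 0) :
    ∃ a : EtBase.etaleLocalRing ξ, f.IsRoot a ∧ (ε ξ).hom a = ω := by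
  obtain ⟨s, fs0, hfs0⟩ := exists_affStage_poly f
  have hl : f ∈ Polynomial.lifts s.σ.hom := (Polynomial.mem_lifts f).mpr ⟨fs0, hfs0⟩
  obtain ⟨fs, hfs, -, hmonic⟩ := Polynomial.lifts_and_degree_eq_and_monic hl hf
  let P : StandardEtalePair s.A :=
    { f := fs, monic_f := hmonic, g := derivative fs, cond := ⟨1, 0, 1, by simp⟩ }
  let _ : Algebra s.A Ω := s.χ.hom.toAlgebra
  have hχ : ∀ q : Polynomial s.A, q.map s.χ.hom = (q.map s.σ.hom).map (ε ξ).hom := by
    intro q
    rw [Polynomial.map_map, ← s.σ_ε]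
    rfl
  have hmap : P.HasMap ω := by
    constructor
    · change aeval ω fs = 0
      rw [aeval_def, ← Polynomial.eval_map]
      change eval ω (fs.map s.χ.hom) = 0
      rw [hχ, hfs, h0]
    · change IsUnit (aeval ω (derivative fs))
      rw [aeval_def, ← Polynomial.eval_map]
      change IsUnit (eval ω ((derivative fs).map s.χ.hom))
      rw [hχ, ← derivative_map, hfs]
      exact IsUnit.mk0 _ h1
  let ψ : P.Ring →ₐ[s.A] Ω := P.lift ω hmap
  let alg : s.A ⟶ CommRingCat.of P.Ring := CommRingCat.ofHom (algebraMap s.A P.Ring)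
  have halg : Etale (Spec.map alg) := by
    rw [HasRingHomProperty.Spec_iff (P := @Etale)]
    exact RingHom.etale_algebraMap.mpr inferInstance
  let χ' : CommRingCat.of P.Ring ⟶ CommRingCat.of Ω := CommRingCat.ofHom ψ.toRingHom
  have hχ' : alg ≫ χ' = s.χ := by
    ext r
    exact ψ.commutes r
  let t : AffStage ξ :=
    ⟨CommRingCat.of P.Ring, Spec.map alg ≫ s.j, inferInstance, χ', by
      rw [← Category.assoc, ← Spec.map_comp, hχ', s.w]⟩
  have h := s.σ_comp t alg rfl hχ'
  refine ⟨t.σ.hom P.X, ?_, ?_⟩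
  · rw [IsRoot.def, ← hfs, ← h]
    change eval (t.σ.hom P.X) (fs.map (t.σ.hom.comp (algebraMap s.A P.Ring))) = 0
    rw [← Polynomial.map_map, Polynomial.eval_map, eval₂_hom, Polynomial.eval_map, ← aeval_def]
    have := P.hasMap_X.1
    change aeval P.X fs = 0 at this
    rw [this, map_zero]
  · have h2 : (ε ξ).hom (t.σ.hom P.X) = t.χ.hom P.X := by
      rw [← t.σ_ε]
      rfl
    rw [h2]
    exact P.lift_X ω hmap

open Polynomial in
instance henselian : HenselianLocalRing (EtBase.etaleLocalRing ξ) where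
  is_henselian f hf a₀ h₁ h₂ := by
    have e0 : (ε ξ).hom (f.eval a₀) = 0 := (mem_maximalIdeal_iff _).1 h₁
    have e1 : (ε ξ).hom (f.derivative.eval a₀) ≠ 0 := (h₂.map (ε ξ).hom).ne_zero
    obtain ⟨a, ha, haω⟩ := exists_root f hf ((ε ξ).hom a₀)
      (by rw [Polynomial.eval_map, eval₂_hom]; exact e0)
      (by rw [Polynomial.eval_map, eval₂_hom]; exact e1)
    refine ⟨a, ha, ?_⟩
    rw [mem_maximalIdeal_iff, map_sub, haω, sub_self]

open Polynomial in
instance sepClosed : IsSepClosed (ResidueField (EtBase.etaleLocalRing ξ)) := by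
  refine IsSepClosed.of_exists_root _ ?_
  intro p hp hirr hsep
  -- the embedding of the residue field into Ω
  let εbar : ResidueField (EtBase.etaleLocalRing ξ) →+* Ω :=
    IsLocalRing.ResidueField.lift (ε ξ).hom
  have hεbar : εbar.comp (residue _) = (ε ξ).hom := by
    ext x
    rfl
  -- lift p to a monic polynomial over the local ring
  have hl : p ∈ Polynomial.lifts (residue (EtBase.etaleLocalRing ξ)) := by
    rw [Polynomial.lifts_iff_coeff_lifts]
    intro n
    exact residue_surjective _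
  obtain ⟨f, hf, -, hmonic⟩ := Polynomial.lifts_and_degree_eq_and_monic hl hp
  -- a root of the image of p in Ω
  have hdeg : (p.map εbar).degree ≠ 0 := by
    rw [Polynomial.degree_map]
    exact (Polynomial.degree_pos_of_irreducible hirr).ne'
  obtain ⟨ω, hω⟩ := IsSepClosed.exists_root (p.map εbar) hdeg hsep.map
  have hfp : f.map (ε ξ).hom = p.map εbar := by
    rw [← hf, Polynomial.map_map, hεbar]
  have hder : (f.derivative.map (ε ξ).hom).eval ω ≠ 0 := by
    rw [← Polynomial.derivative_map, hfp, Polynomial.derivative_map, Polynomial.eval_map]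
    apply hsep.eval₂_derivative_ne_zero
    rw [← Polynomial.eval_map]
    exact hω
  obtain ⟨a, ha, -⟩ := exists_root f hmonic ω (by rw [hfp]; exact hω) hder
  refine ⟨residue _ a, ?_⟩
  rw [← hf, Polynomial.eval_map, eval₂_hom, ha, map_zero]

end Groth.Agent.Lib.T2H8.EtLocRing
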