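import Mathlib

set_option autoImplicit false
universe u

namespace Groth.Agent.Lib.T2H8.EtLocal

open IsLocalRing

section general

variable {A R B : Type u} [CommRing A] [CommRing R] [CommRing B] [IsLocalRing B] [Algebra A R]
  [Algebra A B] (ψ : R →ₐ[A] B)

/-- the prime below the maximal ideal -/
abbrev pp : Ideal R := (maximalIdeal B).comap ψ.toRingHom

instance : (pp ψ).IsPrime := Ideal.comap_isPrime _ _

theorem isUnit_of_mem_primeCompl (y : (pp ψ).primeCompl) : IsUnit (ψ y) := by
  have h : (y : R) ∉ pp ψ := y.2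
  by_contra hc
  exact h (Ideal.mem_comap.mpr ((mem_maximalIdeal _).mpr hc))

/-- the induced map from the localization -/
noncomputable def locMap : Localization.AtPrime (pp ψ) →ₐ[A] B :=
  IsLocalization.liftAlgHom (M := (pp ψ).primeCompl) (f := ψ) (isUnit_of_mem_primeCompl ψ)

theorem locMap_surjective (h : ∀ b : B, ∃ x y : R, IsUnit (ψ y) ∧ b * ψ y = ψ x) :
    Function.Surjective (locMap ψ) := by
  intro b
  obtain ⟨x, y, hy, hb⟩ := h b
  have hy' : y ∈ (pp ψ).primeCompl := by
    simpa [pp, Ideal.mem_primeCompl_iff, Ideal.mem_comap] using hy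
  refine ⟨IsLocalization.mk' _ x ⟨y, hy'⟩, ?_⟩
  simp only [locMap, IsLocalization.coe_liftAlgHom, AlgHom.toRingHom_eq_coe]
  rw [IsLocalization.lift_mk'_spec]
  simpa [mul_comm] using hb.symm

theorem locMap_injective (h : ∀ x : R, ψ x = 0 → ∃ s : R, IsUnit (ψ s) ∧ s * x = 0) :
    Function.Injective (locMap ψ) := by
  rw [injective_iff_map_eq_zero]
  intro z hz
  obtain ⟨x, y, rfl⟩ := IsLocalization.exists_mk'_eq (pp ψ).primeCompl z
  simp only [locMap, IsLocalization.coe_liftAlgHom, AlgHom.toRingHom_eq_coe] at hz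
  rw [IsLocalization.lift_mk'_spec] at hz
  simp only [RingHom.coe_coe, mul_zero] at hz
  obtain ⟨s, hs, hsx⟩ := h x hz
  have hs' : s ∈ (pp ψ).primeCompl := by
    simpa [pp, Ideal.mem_primeCompl_iff, Ideal.mem_comap] using hs
  rw [IsLocalization.mk'_eq_zero_iff]
  exact ⟨⟨s, hs'⟩, hsx⟩

end general

variable (A B : Type u) [CommRing A] [CommRing B] [IsLocalRing B] [Algebra A B]
  [Algebra.EssFiniteType A B]

/-- the prime of the finite type subalgebra below the maximal ideal -/
noncomputable abbrev qq : Ideal (Algebra.EssFiniteType.subalgebra A B) :=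
  (maximalIdeal B).comap (algebraMap (Algebra.EssFiniteType.subalgebra A B) B)

instance : (qq A B).IsPrime := Ideal.comap_isPrime _ _

theorem submonoid_eq : Algebra.EssFiniteType.submonoid A B = (qq A B).primeCompl := by
  ext x
  simp only [Algebra.EssFiniteType.submonoid, Submonoid.mem_comap, IsUnit.mem_submonoid_iff,
    Ideal.mem_primeCompl_iff, Ideal.mem_comap, mem_maximalIdeal, mem_nonunits_iff, not_not]

instance isLocAtPrime : IsLocalization.AtPrime B (qq A B) := by
  have h := Algebra.EssFiniteType.isLocalization (R := A) (S := B)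
  rw [submonoid_eq] at h
  exact h

/-- the localization of the subalgebra at `qq` is `B` -/
noncomputable def locEquiv :
    Localization.AtPrime (qq A B) ≃ₐ[A] B :=
  (IsLocalization.algEquiv (qq A B).primeCompl (Localization.AtPrime (qq A B)) B).restrictScalars A


theorem isUnramifiedAt_qq [Algebra.FormallyUnramified A B] : Algebra.IsUnramifiedAt A (qq A B) :=
  Algebra.FormallyUnramified.of_equiv (locEquiv A B).symm

/-- the map from a localization of the subalgebra away from an element outside `qq` -/
noncomputable def awayMap (f : Algebra.EssFiniteType.subalgebra A B) (hf : f ∉ qq A B) :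
    Localization.Away f →ₐ[A] B :=
  IsLocalization.liftAlgHom (M := Submonoid.powers f)
    (f := IsScalarTower.toAlgHom A (Algebra.EssFiniteType.subalgebra A B) B) (by
      rintro ⟨_, n, rfl⟩
      have : IsUnit (algebraMap (Algebra.EssFiniteType.subalgebra A B) B f) := by
        simpa [qq, Ideal.mem_comap] using hf
      simpa using this.pow n)

theorem awayMap_algebraMap (f : Algebra.EssFiniteType.subalgebra A B) (hf : f ∉ qq A B)
    (c : Algebra.EssFiniteType.subalgebra A B) :
    awayMap A B f hf (algebraMap _ (Localization.Away f) c) = algebraMap _ B c := by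
  simp [awayMap]

theorem exists_surj [Algebra.FormallyUnramified A B] :
    ∃ (P : StandardEtalePair A) (ψ : P.Ring →ₐ[A] B),
      ∀ b : B, ∃ x y : P.Ring, IsUnit (ψ y) ∧ b * ψ y = ψ x := by
  have := isUnramifiedAt_qq A B
  obtain ⟨f, hfq, P, φ, hφ⟩ :=
    Algebra.IsUnramifiedAt.exists_hasStandardEtaleSurjectionOn (R := A) (qq A B)
  refine ⟨P, (awayMap A B f hfq).comp φ, fun b => ?_⟩
  obtain ⟨c, m, rfl⟩ := IsLocalization.exists_mk'_eq (qq A B).primeCompl b
  obtain ⟨x, hx⟩ := hφ (algebraMap _ _ c)
  obtain ⟨y, hy⟩ := hφ (algebraMap _ _ (m : Algebra.EssFiniteType.subalgebra A B))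
  refine ⟨x, y, ?_, ?_⟩
  · rw [AlgHom.comp_apply, hy, awayMap_algebraMap]
    exact IsLocalization.map_units B m
  · rw [AlgHom.comp_apply, AlgHom.comp_apply, hx, hy, awayMap_algebraMap, awayMap_algebraMap]
    exact IsLocalization.mk'_spec B c m


section etale

variable [IsLocalRing A] [IsNoetherianRing A] [IsLocalHom (algebraMap A B)] [Module.Flat A B]

theorem formallyEtale_of_flat [Algebra.FormallyUnramified A B] : Algebra.FormallyEtale A B := by
  have hfp : Algebra.FinitePresentation A (Algebra.EssFiniteType.subalgebra A B) :=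
    Algebra.FinitePresentation.of_finiteType.mp inferInstance
  have h1 : Algebra.FormallyEtale (ResidueField A) (TensorProduct (R := A) (ResidueField A) B) :=
    Algebra.FormallyEtale.of_formallyUnramified_of_field _ _
  have h2 : Algebra.FormallySmooth (ResidueField A) (TensorProduct (R := A) (ResidueField A) B) :=
    inferInstance
  have h3 : Algebra.FormallySmooth A B :=
    Algebra.FormallySmooth.of_formallySmooth_residueField_tensor (R := A) (S := B)
      (P := Algebra.EssFiniteType.subalgebra A B) (Algebra.EssFiniteType.submonoid A B)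
  exact Algebra.FormallyEtale.iff_formallyUnramified_and_formallySmooth.mpr ⟨inferInstance, h3⟩

theorem isEtaleAt_qq [Algebra.FormallyUnramified A B] : Algebra.IsEtaleAt A (qq A B) := by
  have := formallyEtale_of_flat A B
  exact Algebra.FormallyEtale.of_equiv (locEquiv A B).symm

theorem exists_bij [Algebra.FormallyUnramified A B] :
    ∃ (P : StandardEtalePair A) (ψ : P.Ring →ₐ[A] B),
      (∀ b : B, ∃ x y : P.Ring, IsUnit (ψ y) ∧ b * ψ y = ψ x) ∧
      (∀ x : P.Ring, ψ x = 0 → ∃ s : P.Ring, IsUnit (ψ s) ∧ s * x = 0) := by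
  have hfp : Algebra.FinitePresentation A (Algebra.EssFiniteType.subalgebra A B) :=
    Algebra.FinitePresentation.of_finiteType.mp inferInstance
  have := isEtaleAt_qq A B
  obtain ⟨f, hfq, hst⟩ := Algebra.IsEtaleAt.exists_isStandardEtale (R := A) (qq A B)
  obtain ⟨Pr⟩ := hst.nonempty_standardEtalePresentation
  let e : Pr.P.Ring ≃ₐ[A] Localization.Away f := Pr.equivRing.symm
  refine ⟨Pr.P, (awayMap A B f hfq).comp e.toAlgHom, fun b => ?_, fun x hx => ?_⟩
  · obtain ⟨c, m, rfl⟩ := IsLocalization.exists_mk'_eq (qq A B).primeCompl b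
    obtain ⟨x, hx⟩ := e.surjective (algebraMap _ _ c)
    obtain ⟨y, hy⟩ := e.surjective (algebraMap _ _ (m : Algebra.EssFiniteType.subalgebra A B))
    refine ⟨x, y, ?_, ?_⟩
    · rw [AlgHom.comp_apply]
      change IsUnit (awayMap A B f hfq (e y))
      rw [hy, awayMap_algebraMap]
      exact IsLocalization.map_units B m
    · rw [AlgHom.comp_apply, AlgHom.comp_apply]
      change _ * awayMap A B f hfq (e y) = awayMap A B f hfq (e x)
      rw [hx, hy, awayMap_algebraMap, awayMap_algebraMap]
      exact IsLocalization.mk'_spec B c m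
  · rw [AlgHom.comp_apply] at hx
    change awayMap A B f hfq (e x) = 0 at hx
    obtain ⟨c, ⟨_, n, rfl⟩, hc⟩ := IsLocalization.exists_mk'_eq (Submonoid.powers f) (e x)
    -- `e x = c / f^n`
    have h1 : awayMap A B f hfq (algebraMap _ _ c) = 0 := by
      have : algebraMap _ (Localization.Away f) c =
          e x * algebraMap _ (Localization.Away f) (f ^ n) := by
        rw [← hc, IsLocalization.mk'_spec]
      rw [this, map_mul, hx, zero_mul]
    rw [awayMap_algebraMap] at h1
    obtain ⟨t, ht⟩ := (IsLocalization.map_eq_zero_iff (qq A B).primeCompl B c).mp h1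
    obtain ⟨s, hs⟩ := e.surjective (algebraMap _ _ (t : Algebra.EssFiniteType.subalgebra A B))
    refine ⟨s, ?_, ?_⟩
    · rw [AlgHom.comp_apply]
      change IsUnit (awayMap A B f hfq (e s))
      rw [hs, awayMap_algebraMap]
      exact IsLocalization.map_units B t
    · apply e.injective
      rw [map_mul, map_zero, hs, ← hc]
      rw [← IsLocalization.mk'_one (M := Submonoid.powers f) (Localization.Away f)
        (t : Algebra.EssFiniteType.subalgebra A B), ← IsLocalization.mk'_mul, ht]
      exact IsLocalization.mk'_zero _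

end etale

end Groth.Agent.Lib.T2H8.EtLocal
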