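import Mathlib
import Groth.Prelude.Def_EtCore
import Groth.Agent.Lib.Helper16SmallEtale

set_option autoImplicit false
set_option linter.style.haveILetI false
set_option linter.unusedSectionVars false
universe u
open CategoryTheory CategoryTheory.Limits AlgebraicGeometry Opposite

namespace Groth.Agent.Lib.T2H8.SepClosedSections

variable (k : Type u) [Field k] [IsSepClosed k]

/-- the base scheme -/
noncomputable abbrev Xk : Scheme.{u} := Spec (CommRingCat.of k)

/-- every point of an étale scheme over a separably closed field is the image of a section -/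
lemma exists_section (U : (Xk k).Etale) (x : U.left) :
    ∃ σ : EtCoh.top (Xk k) ⟶ U, σ.left.base (default : ↥(Spec (CommRingCat.of k))) = x := by
  have hx : U.hom.base x = (𝟙 (Xk k) : Xk k ⟶ Xk k).base (default : ↥(Spec (CommRingCat.of k))) :=
    Subsingleton.elim (α := ↥(Spec (CommRingCat.of k))) _ _
  obtain ⟨l, hl, hlx⟩ := Scheme.exists_fac_of_etale_of_isSepClosed U.hom (𝟙 (Xk k)) x hx
  exact ⟨MorphismProperty.Over.homMk l hl, hlx⟩

/-- the one point subcategory -/
noncomputable abbrev G : Discrete PUnit.{1} ⥤ (Xk k).Etale := Functor.fromPUnit (EtCoh.top (Xk k))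

instance : (G k).Full where
  map_surjective {a b} f := by
    refine ⟨eqToHom (Subsingleton.elim _ _), (EtCore.topIsTerminal (Xk k)).hom_ext _ _⟩

instance : (G k).Faithful where
  map_injective {_ _} _ _ _ := Subsingleton.elim _ _

instance : (G k).IsCoverDense (Xk k).smallEtaleTopology where
  is_cover U := by
    rw [Groth.Agent.Lib.Helper16.SmallEtale.mem_smallEtale_iff]
    intro x
    obtain ⟨σ, hσ⟩ := exists_section k U x
    refine ⟨EtCoh.top (Xk k), σ, (default : ↥(Spec (CommRingCat.of k))), ?_, hσ⟩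
    exact ⟨⟨⟨PUnit.unit⟩, 𝟙 _, σ, Category.id_comp _⟩⟩

/-- the topology induced on the one point category -/
noncomputable abbrev Jr : GrothendieckTopology (Discrete PUnit.{1}) :=
  (G k).restrictedTopology (Xk k).smallEtaleTopology

/-- restriction to the one point category -/
noncomputable abbrev Φ : Sheaf (Xk k).smallEtaleTopology (Type (u + 1)) ⥤ Sheaf (Jr k) (Type (u + 1)) :=
  (G k).sheafPushforwardContinuous (Type (u + 1)) (Jr k) (Xk k).smallEtaleTopology

instance : (Φ k).IsEquivalence := inferInstance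

lemma eq_top_of_mem_Jr (a : Discrete PUnit.{1}) (S : Sieve a) (hS : S ∈ Jr k a) : S = ⊤ := by
  rw [Functor.mem_restrictedTopology_iff,
    Groth.Agent.Lib.Helper16.SmallEtale.mem_smallEtale_iff] at hS
  obtain ⟨W, g, y, ⟨b, f, c, hf, -⟩, -⟩ := hS (default : ↥(Spec (CommRingCat.of k)))
  rw [← Sieve.id_mem_iff_eq_top]
  have : f = 𝟙 a := Subsingleton.elim _ _
  obtain rfl : b = a := Subsingleton.elim _ _
  rwa [← Subsingleton.elim f (𝟙 b)]

/-- evaluation at the point -/
noncomputable abbrev Ψ : Sheaf (Jr k) (Type (u + 1)) ⥤ Type (u + 1) :=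
  (sheafSections (Jr k) (Type (u + 1))).obj (op ⟨PUnit.unit⟩)

lemma map_eq_id (P : (Discrete PUnit.{1})ᵒᵖ ⥤ Type (u + 1)) (a : (Discrete PUnit.{1})ᵒᵖ)
    (f : a ⟶ a) : P.map f = 𝟙 (P.obj a) := by
  have : f = 𝟙 a := Subsingleton.elim _ _
  rw [this]
  exact P.map_id a

instance : (Ψ k).Faithful where
  map_injective {F H} φ ψ h := by
    apply Sheaf.hom_ext
    ext a : 2
    exact h

instance : (Ψ k).Full where
  map_surjective {F H} h := by
    refine ⟨ObjectProperty.homMk { app := fun _ => h, naturality := ?_ }, rfl⟩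
    intro a b f
    rcases a with ⟨⟨⟨⟩⟩⟩
    rcases b with ⟨⟨⟨⟩⟩⟩
    have e1 := map_eq_id F.obj _ f
    have e2 := map_eq_id H.obj _ f
    change F.obj.map f ≫ h = h ≫ H.obj.map f
    rw [e1, e2]
    exact (Category.id_comp h).trans (Category.comp_id h).symm

lemma isSheaf_Jr (P : (Discrete PUnit.{1})ᵒᵖ ⥤ Type (u + 1)) : Presheaf.IsSheaf (Jr k) P := by
  rw [isSheaf_iff_isSheaf_of_type]
  intro a S hS
  rw [eq_top_of_mem_Jr k a S hS]
  exact Presieve.isSheafFor_top P

instance : (Ψ k).EssSurj where
  mem_essImage S :=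
    ⟨⟨(Functor.const _).obj S, isSheaf_Jr k _⟩, ⟨Iso.refl _⟩⟩

instance : (Ψ k).IsEquivalence where

theorem isEquivalence_sections :
    ((sheafSections (Xk k).smallEtaleTopology (Type (u + 1))).obj
      (op (EtCoh.top (Xk k)))).IsEquivalence := by
  change (Φ k ⋙ Ψ k).IsEquivalence
  infer_instance

end Groth.Agent.Lib.T2H8.SepClosedSections
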