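import Mathlib
import Groth.Prelude.Def_SGA4b
import Groth.Agent.Lib.T2H8DescCore

set_option autoImplicit false
universe u
open CategoryTheory CategoryTheory.Limits AlgebraicGeometry Opposite

namespace Groth.Agent.Lib.T2H8PullSec

open Groth.Agent.Lib.T2H8Agree Groth.Agent.Lib.T2H8DescCore Groth.Agent.Lib.T2H8SecPull

section Def

variable {X Y : Scheme.{u}} (f : X ⟶ Y)

set_option backward.isDefEq.respectTransparency.types false in
/-- pullback of sections along a morphism `A' ⟶ A ×_Y X`. -/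
noncomputable def pullSec (F : EtDesc.Sh Y) {A : Y.Etale} {A' : X.Etale}
    (m : A' ⟶ (EtCoh.bc f).obj A) (s : F.obj.obj (op A)) :
    ((EtDesc.pullSh f).obj F).obj.obj (op A') :=
  ((EtDesc.pullSh f).obj F).obj.map m.op (((EtDesc.adjSh f).unit.app F).hom.app (op A) s)

set_option backward.isDefEq.respectTransparency.types false in
lemma pullSec_map (F : EtDesc.Sh Y) {A : Y.Etale} {A' B' : X.Etale}
    (m : A' ⟶ (EtCoh.bc f).obj A) (r : B' ⟶ A') (s : F.obj.obj (op A)) :
    ((EtDesc.pullSh f).obj F).obj.map r.op (pullSec f F m s) = pullSec f F (r ≫ m) s :=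
  map_map_apply _ r m _

set_option backward.isDefEq.respectTransparency.types false in
lemma pullSec_map_base (F : EtDesc.Sh Y) {A B : Y.Etale} {A' : X.Etale}
    (m : A' ⟶ (EtCoh.bc f).obj A) (r : A ⟶ B) (s : F.obj.obj (op B)) :
    pullSec f F m (F.obj.map r.op s) = pullSec f F (m ≫ (EtCoh.bc f).map r) s := by
  dsimp only [pullSec]
  rw [unit_map f F r s, map_map_apply]

end Def

section Comp

variable {Z X Y : Scheme.{u}} (g : Z ⟶ X) (f : X ⟶ Y)

set_option backward.isDefEq.respectTransparency.types false in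
theorem pullSec_comp (F : EtDesc.Sh Y) {A : Y.Etale} {A' : X.Etale} {A'' : Z.Etale}
    (m : A' ⟶ (EtCoh.bc f).obj A) (m' : A'' ⟶ (EtCoh.bc g).obj A')
    (m'' : A'' ⟶ (EtCoh.bc (g ≫ f)).obj A)
    (hm : m''.left ≫ pullback.fst A.hom (g ≫ f) =
      m'.left ≫ pullback.fst A'.hom g ≫ m.left ≫ pullback.fst A.hom f)
    (s : F.obj.obj (op A)) :
    ((EtDesc.pullCompSh g f).hom.app F).hom.app (op A'') (pullSec (g ≫ f) F m'' s) =
      pullSec g ((EtDesc.pullSh f).obj F) m' (pullSec f F m s) := by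
  let M := (EtDesc.pullSh g).obj ((EtDesc.pullSh f).obj F)
  let x₀ := ((EtDesc.adjSh g).unit.app ((EtDesc.pullSh f).obj F)).hom.app
    (op ((EtCoh.bc f).obj A)) (((EtDesc.adjSh f).unit.app F).hom.app (op A) s)
  let ι : (EtCoh.bc (g ≫ f)).obj A ⟶ (EtCoh.bc g).obj ((EtCoh.bc f).obj A) :=
    (MorphismProperty.Over.pullbackComp (P := EtCoh.etaleMP) (Q := ⊤) g f).hom.app A
  have l1 : ((EtDesc.pullCompSh g f).hom.app F).hom.app (op A'') (pullSec (g ≫ f) F m'' s) =
      M.obj.map m''.op
        (((EtDesc.pullCompSh g f).hom.app F).hom.app (op ((EtCoh.bc (g ≫ f)).obj A))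
          (((EtDesc.adjSh (g ≫ f)).unit.app F).hom.app (op A) s)) :=
    NatTrans.naturality_apply ((EtDesc.pullCompSh g f).hom.app F).hom m''.op _
  have l2 : ((EtDesc.pullCompSh g f).hom.app F).hom.app (op ((EtCoh.bc (g ≫ f)).obj A))
          (((EtDesc.adjSh (g ≫ f)).unit.app F).hom.app (op A) s) = M.obj.map ι.op x₀ :=
    congrArg (fun m => m.hom.app (op A) s) (unit_pullCompSh g f F)
  have r1 : pullSec g ((EtDesc.pullSh f).obj F) m' (pullSec f F m s) =
      M.obj.map m'.op (M.obj.map ((EtCoh.bc g).map m).op x₀) := by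
    dsimp only [pullSec]
    congr 1
    exact NatTrans.naturality_apply ((EtDesc.adjSh g).unit.app ((EtDesc.pullSh f).obj F)).hom
      m.op _
  rw [l1, l2, r1, map_map_apply, map_map_apply]
  have key : m'' ≫ ι = m' ≫ (EtCoh.bc g).map m := by
    apply MorphismProperty.Over.Hom.ext
    apply pullback.hom_ext
    · have h1 : (m'' ≫ ι).left ≫ pullback.fst ((EtCoh.bc f).obj A).hom g =
          m''.left ≫ qmap g f (g ≫ f) rfl A :=
        (Category.assoc _ _ _).trans (m''.left ≫= pullbackComp_left_fst g f A)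
      have h2 : (m' ≫ (EtCoh.bc g).map m).left ≫ pullback.fst ((EtCoh.bc f).obj A).hom g =
          m'.left ≫ pullback.fst A'.hom g ≫ m.left := by
        have := (EtCoh.isPullback_bc_map g m).w
        exact (Category.assoc _ _ _).trans (m'.left ≫= this)
      refine h1.trans (Eq.trans ?_ h2.symm)
      have w1 : m''.left ≫ pullback.snd A.hom (g ≫ f) = A''.hom := MorphismProperty.Over.w m''
      have w2 : m'.left ≫ pullback.snd A'.hom g = A''.hom := MorphismProperty.Over.w m'
      have w3 : m.left ≫ pullback.snd A.hom f = A'.hom := MorphismProperty.Over.w m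
      apply pullback.hom_ext
      · exact (Category.assoc _ _ _).trans ((m''.left ≫= qmap_fst g f (g ≫ f) rfl A).trans
          (hm.trans ((Category.assoc _ _ _).trans (m'.left ≫= Category.assoc _ _ _)).symm))
      · have l : (m''.left ≫ qmap g f (g ≫ f) rfl A) ≫ pullback.snd A.hom f = A''.hom ≫ g :=
          (Category.assoc _ _ _).trans ((m''.left ≫= qmap_snd g f (g ≫ f) rfl A).trans
            ((Category.assoc _ _ _).symm.trans (w1 =≫ g)))
        have r : (m'.left ≫ pullback.fst A'.hom g ≫ m.left) ≫ pullback.snd A.hom f = A''.hom ≫ g :=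
          ((Category.assoc _ _ _).trans (m'.left ≫= Category.assoc _ _ _)).trans
            ((m'.left ≫= (pullback.fst A'.hom g ≫= w3)).trans
              ((m'.left ≫= pullback.condition).trans ((Category.assoc _ _ _).symm.trans (w2 =≫ g))))
        exact l.trans r.symm
    · exact (MorphismProperty.Over.w (m'' ≫ ι)).trans (MorphismProperty.Over.w (m' ≫ (EtCoh.bc g).map m)).symm
  rw [key]

set_option backward.isDefEq.respectTransparency.types false in
theorem pullSec_pullVia (b : Z ⟶ Y) (w : g ≫ f = b) (F : EtDesc.Sh Y) {A : Y.Etale} {A' : X.Etale}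
    {A'' : Z.Etale} (m : A' ⟶ (EtCoh.bc f).obj A) (m' : A'' ⟶ (EtCoh.bc g).obj A')
    (m'' : A'' ⟶ (EtCoh.bc b).obj A)
    (hm : m''.left ≫ pullback.fst A.hom b =
      m'.left ≫ pullback.fst A'.hom g ≫ m.left ≫ pullback.fst A.hom f)
    (s : F.obj.obj (op A)) :
    (EtDesc.pullVia g f b w F).hom.hom.app (op A'')
      (pullSec g ((EtDesc.pullSh f).obj F) m' (pullSec f F m s)) = pullSec b F m'' s := by
  subst w
  rw [← pullSec_comp g f F m m' m'' hm s]
  have h1 : (EtDesc.pullVia g f (g ≫ f) rfl F).hom = (EtDesc.pullCompSh g f).inv.app F := by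
    simp [EtDesc.pullVia, EtDesc.pullCongrSh]
  rw [h1]
  exact congrArg (fun m => m.hom.app (op A'') (pullSec (g ≫ f) F m'' s))
    ((EtDesc.pullCompSh g f).hom_inv_id_app F)

end Comp

end Groth.Agent.Lib.T2H8PullSec
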