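import Mathlib
import Groth.Prelude.Def_SGA4b
import Groth.Agent.Lib.T2H8DescCore

set_option autoImplicit false
universe u
open CategoryTheory CategoryTheory.Limits AlgebraicGeometry Opposite

namespace Groth.Agent.Lib.T2H8ShLoc

open Groth.Agent.Lib.T2H8ShStalkA Groth.Agent.Lib.Helper16.SmallEtale
open Groth.Agent.Lib.T2H8StalkFiniteCore Groth.Agent.Lib.T2H8FiniteBC Groth.Agent.S0100
open Groth.Agent.Lib.T2H8Agree Groth.Agent.Lib.T2H8DescCore Groth.Agent.Lib.T2H8SecPull

variable {V S : Scheme.{u}} (j : V ⟶ S) [Etale j]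

/-- extension of etale `V`-schemes to etale `S`-schemes by composition with an etale `j`. -/
noncomputable abbrev sh : V.Etale ⥤ S.Etale :=
  MorphismProperty.Over.map (P := EtCoh.etaleMP) ⊤ (f := j) inferInstance

/-- the adjunction `j_! ⊣ j^*` on small etale sites. -/
noncomputable abbrev adj : sh j ⊣ EtCoh.bc j :=
  MorphismProperty.Over.mapPullbackAdj EtCoh.etaleMP ⊤ j inferInstance trivial

set_option backward.isDefEq.respectTransparency.types false in
/-- the localization map `H(j_! N) → (j^* H)(N)`. -/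
noncomputable def lam (H : EtDesc.Sh S) (N : V.Etale) (s : H.obj.obj (op ((sh j).obj N))) :
    ((EtDesc.pullSh j).obj H).obj.obj (op N) :=
  ((EtDesc.pullSh j).obj H).obj.map ((adj j).unit.app N).op
    (((EtDesc.adjSh j).unit.app H).hom.app (op ((sh j).obj N)) s)

set_option backward.isDefEq.respectTransparency.types false in
lemma lam_map (H : EtDesc.Sh S) {N N' : V.Etale} (q : N' ⟶ N) (s : H.obj.obj (op ((sh j).obj N))) :
    lam j H N' (H.obj.map ((sh j).map q).op s) = ((EtDesc.pullSh j).obj H).obj.map q.op (lam j H N s) := by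
  dsimp only [lam]
  rw [unit_map j H ((sh j).map q) s, map_map_apply, map_map_apply]
  exact congrArg (fun m => ((EtDesc.pullSh j).obj H).obj.map m.op
    (((EtDesc.adjSh j).unit.app H).hom.app (op ((sh j).obj N)) s)) ((adj j).unit.naturality q).symm

set_option backward.isDefEq.respectTransparency.types false in
lemma unit_left_fst (N : V.Etale) :
    ((adj j).unit.app N).left ≫ pullback.fst ((sh j).obj N).hom j = 𝟙 N.left := by
  simp only [adj, MorphismProperty.Over.mapPullbackAdj_unit_app, MorphismProperty.Over.homMk_hom,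
    CategoryTheory.Over.homMk_left]
  exact pullback.lift_fst _ _ _

set_option backward.isDefEq.respectTransparency.types false in
lemma mem_agree_lam_iff (H : EtDesc.Sh S) (N : V.Etale) (s t : H.obj.obj (op ((sh j).obj N)))
    (n : N.left) :
    n ∈ agree ((EtDesc.pullSh j).obj H) (lam j H N s) (lam j H N t) ↔
      (n : ((sh j).obj N).left) ∈ agree H s t := by
  dsimp only [lam]
  refine (mem_agree_map_iff _ ((adj j).unit.app N) _ _ n).trans ?_
  refine (mem_agree_pull_iff j H s t _).trans ?_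
  have e : (pullback.fst ((sh j).obj N).hom j) (((adj j).unit.app N).left n) = n :=
    congrArg (fun m : N.left ⟶ N.left => m n) (unit_left_fst j N)
  rw [e]
  exact Iff.rfl

set_option backward.isDefEq.respectTransparency.types false in
lemma lam_injective (H : EtDesc.Sh S) (N : V.Etale) : Function.Injective (lam j H N) := by
  intro s t hst
  apply eq_of_agree_eq_univ H s t
  intro n
  apply (mem_agree_lam_iff j H N s t n).mp
  rw [hst]
  exact ⟨N, 𝟙 N, n, rfl, rfl⟩

set_option backward.isDefEq.respectTransparency.types false in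
/-- sections of `j^* H` come locally from `H`. -/
lemma exists_local_lam (H : EtDesc.Sh S) (N : V.Etale)
    (σ : ((EtDesc.pullSh j).obj H).obj.obj (op N)) (n : N.left) :
    ∃ (M : V.Etale) (p : M ⟶ N) (m : M.left) (τ : H.obj.obj (op ((sh j).obj M))),
      p.left m = n ∧ lam j H M τ = ((EtDesc.pullSh j).obj H).obj.map p.op σ := by
  obtain ⟨Ω, _, _, ξ, x₀, hx₀⟩ := Groth.Agent.Lib.T2H8StalkAlgClosed.exists_geometric_point N n
  subst hx₀
  let K := (EtDesc.pullSh j).obj H
  let Φ' := Scheme.pointSmallEtale ξ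
  let Φ := Scheme.pointSmallEtale (ξ ≫ j)
  obtain ⟨W, wb, τ, hτ⟩ := Φ.toPresheafFiber_jointly_surjective (P := H.obj)
     ((stalkPullIso j ξ).inv.app H (Φ'.toPresheafFiber N x₀ K.obj σ))
  have ga := Groth.Agent.Lib.T2H8ShBC.stalkPull_germ j ξ H W wb τ
  have ia : (stalkPullIso j ξ).hom.app H ((stalkPullIso j ξ).inv.app H
      (Φ'.toPresheafFiber N x₀ K.obj σ)) = Φ'.toPresheafFiber N x₀ K.obj σ :=
    ConcreteCategory.congr_hom ((stalkPullIso j ξ).inv_hom_id_app H) _
  let y₀ := liftPt j ξ (ξ ≫ j) rfl W wb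
  have Ea : Φ'.toPresheafFiber ((EtCoh.bc j).obj W) y₀ K.obj
      (((EtDesc.adjSh j).unit.app H).hom.app (op W) τ) = Φ'.toPresheafFiber N x₀ K.obj σ :=
    ga.symm.trans ((congrArg ((stalkPullIso j ξ).hom.app H) hτ).trans ia)
  obtain ⟨m, ⟨p₁⟩, ⟨p₂⟩⟩ : ∃ m : Φ'.fiber.Elements,
      Nonempty (m ⟶ ⟨(EtCoh.bc j).obj W, y₀⟩) ∧ Nonempty (m ⟶ ⟨N, x₀⟩) :=
    ⟨IsCofiltered.min _ _, ⟨IsCofiltered.minToLeft _ _⟩, ⟨IsCofiltered.minToRight _ _⟩⟩
  obtain ⟨M₀, m₀⟩ := m
  obtain ⟨p₁, hp₁⟩ := p₁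
  obtain ⟨p₂, hp₂⟩ := p₂
  have hp₁' : Φ'.fiber.map p₁ m₀ = y₀ := hp₁
  have hp₂' : Φ'.fiber.map p₂ m₀ = x₀ := hp₂
  have hA : (m₀.left : Spec (CommRingCat.of Ω) ⟶ M₀.left) (default : Spec (CommRingCat.of Ω)) ∈
      agree K (K.obj.map p₂.op σ)
        (K.obj.map p₁.op (((EtDesc.adjSh j).unit.app H).hom.app (op W) τ)) := by
    apply (mem_agree_iff_germ K _ _ ξ m₀).mpr
    have e1 := Φ'.toPresheafFiber_w_apply p₂ m₀ K.obj σ
    have e2 := Φ'.toPresheafFiber_w_apply p₁ m₀ K.obj
      (((EtDesc.adjSh j).unit.app H).hom.app (op W) τ)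
    rw [hp₂'] at e1
    rw [hp₁'] at e2
    exact e1.trans (Ea.symm.trans e2.symm)
  obtain ⟨M, g, m, hm, hg⟩ := hA
  -- the adjunct of `g ≫ p₁`
  let q : (sh j).obj M ⟶ W := ((adj j).homEquiv M W).symm (g ≫ p₁)
  have hq : (adj j).unit.app M ≫ (EtCoh.bc j).map q = g ≫ p₁ :=
    ((adj j).homEquiv_unit (X := M) (Y := W) (f := q)).symm.trans (Equiv.apply_symm_apply _ _)
  refine ⟨M, g ≫ p₂, m, H.obj.map q.op τ, ?_, ?_⟩
  · have e3 : m₀.left ≫ p₂.left = x₀.left := congrArg (fun m => m.left) hp₂'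
    have e4 : (g ≫ p₂).left m = p₂.left (g.left m) := rfl
    rw [e4, hm, ← e3]
    rfl
  · dsimp only [lam]
    rw [unit_map j H q τ, map_map_apply]
    have e5 : K.obj.map (g ≫ p₂).op σ = K.obj.map g.op (K.obj.map p₂.op σ) :=
      (map_map_apply K.obj g p₂ σ).symm
    rw [e5, hg, map_map_apply]
    exact congrArg (fun m => K.obj.map m.op
      (((EtDesc.adjSh j).unit.app H).hom.app (op W) τ)) hq

set_option backward.isDefEq.respectTransparency.types false in
/-- local solutions are compatible. -/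
lemma compat_lam (H : EtDesc.Sh S) {N M₁ M₂ : V.Etale} (p₁ : M₁ ⟶ N) (p₂ : M₂ ⟶ N)
    (σ : ((EtDesc.pullSh j).obj H).obj.obj (op N))
    (τ₁ : H.obj.obj (op ((sh j).obj M₁))) (τ₂ : H.obj.obj (op ((sh j).obj M₂)))
    (h₁ : lam j H M₁ τ₁ = ((EtDesc.pullSh j).obj H).obj.map p₁.op σ)
    (h₂ : lam j H M₂ τ₂ = ((EtDesc.pullSh j).obj H).obj.map p₂.op σ)
    {Z : S.Etale} (ga : Z ⟶ (sh j).obj M₁) (gb : Z ⟶ (sh j).obj M₂)
    (hgab : ga ≫ (sh j).map p₁ = gb ≫ (sh j).map p₂) :
    H.obj.map ga.op τ₁ = H.obj.map gb.op τ₂ := by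
  let K := (EtDesc.pullSh j).obj H
  let gal : Z.left ⟶ M₁.left := ga.left
  let gbl : Z.left ⟶ M₂.left := gb.left
  haveI : Etale gal := inferInstanceAs (Etale ga.left)
  haveI : Etale gbl := inferInstanceAs (Etale gb.left)
  have hl : gal ≫ p₁.left = gbl ≫ p₂.left := congrArg (fun m => m.left) hgab
  have hw₁ : p₁.left ≫ N.hom = M₁.hom := MorphismProperty.Over.w p₁
  have hw₂ : p₂.left ≫ N.hom = M₂.hom := MorphismProperty.Over.w p₂
  have hab : gbl ≫ M₂.hom = gal ≫ M₁.hom := by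
    rw [← hw₁, ← hw₂]
    exact (Category.assoc _ _ _).symm.trans ((hl.symm =≫ N.hom).trans (Category.assoc _ _ _))
  haveI : Etale (gal ≫ M₁.hom) := inferInstance
  let Z' : V.Etale := Scheme.Etale.mk (gal ≫ M₁.hom)
  have hZ : Z.hom = (gal ≫ M₁.hom) ≫ j :=
    (MorphismProperty.Over.w ga).symm.trans (Category.assoc _ _ _).symm
  let θ : Z ≅ (sh j).obj Z' := MorphismProperty.Over.isoMk
    (show Z.left ≅ ((sh j).obj Z').left from Iso.refl Z.left)
    ((Category.id_comp _).trans hZ.symm)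
  let ga' : Z' ⟶ M₁ := MorphismProperty.Over.homMk (show Z'.left ⟶ M₁.left from gal) rfl trivial
  let gb' : Z' ⟶ M₂ := MorphismProperty.Over.homMk (show Z'.left ⟶ M₂.left from gbl) hab trivial
  have ea : ga = θ.hom ≫ (sh j).map ga' := by
    apply MorphismProperty.Over.Hom.ext
    exact (Category.id_comp _).symm
  have eb : gb = θ.hom ≫ (sh j).map gb' := by
    apply MorphismProperty.Over.Hom.ext
    exact (Category.id_comp _).symm
  have hpp : ga' ≫ p₁ = gb' ≫ p₂ := by
    apply MorphismProperty.Over.Hom.ext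
    exact hl
  have key : H.obj.map ((sh j).map ga').op τ₁ = H.obj.map ((sh j).map gb').op τ₂ := by
    apply lam_injective j H Z'
    rw [lam_map, lam_map, h₁, h₂, map_map_apply, map_map_apply, hpp]
  rw [ea, eb, ← map_map_apply, ← map_map_apply, key]

set_option backward.isDefEq.respectTransparency.types false in
/-- etale localization: sections of `j^* H` over `N` are sections of `H` over `N → V → S`. -/
theorem lam_bijective (H : EtDesc.Sh S) (N : V.Etale) : Function.Bijective (lam j H N) := by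
  refine ⟨lam_injective j H N, ?_⟩
  intro σ
  let K := (EtDesc.pullSh j).obj H
  choose M p m τ hm hτ using exists_local_lam j H N σ
  let R : Sieve ((sh j).obj N) := Sieve.generate
    (Presieve.ofArrows (fun n => (sh j).obj (M n)) (fun n => (sh j).map (p n)))
  have hR : R ∈ S.smallEtaleTopology ((sh j).obj N) := by
    rw [mem_smallEtale_iff]
    intro x
    exact ⟨(sh j).obj (M x), (sh j).map (p x), m x,
      Sieve.le_generate _ _ _ (Presieve.ofArrows.mk x), hm x⟩
  have hsh : Presieve.IsSheafFor (H.obj ⋙ forget (Type (u + 1)))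
      (Presieve.ofArrows (fun n => (sh j).obj (M n)) (fun n => (sh j).map (p n))) :=
    (Presieve.isSheafFor_iff_generate _).mpr
      (Groth.Agent.Lib.T2H8ShBC.isSheaf_forget H R hR)
  rw [Presieve.isSheafFor_arrows_iff] at hsh
  have hcompat : Presieve.Arrows.Compatible (H.obj ⋙ forget (Type (u + 1)))
      (fun n => (sh j).map (p n)) τ := by
    intro i k Z ga gb hgab
    exact compat_lam j H (p i) (p k) σ (τ i) (τ k) (hτ i) (hτ k) ga gb hgab
  obtain ⟨t₀, ht₀, -⟩ := hsh τ hcompat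
  refine ⟨t₀, ?_⟩
  apply Groth.Agent.Lib.T2H8.PullFaithful.eq_of_locally_eq K
  intro n
  refine ⟨M n, p n, ⟨m n, hm n⟩, ?_⟩
  have e2 : H.obj.map ((sh j).map (p n)).op t₀ = τ n := ht₀ n
  rw [← lam_map, e2, hτ n]

end Groth.Agent.Lib.T2H8ShLoc
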