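import Mathlib
import Groth.Prelude.Def_SGA4b
import Groth.Agent.Lib.T2H8ShLoc
import Groth.Agent.Lib.T2H8PullSec
import Groth.Agent.Lib.T2H8FibreConst

set_option autoImplicit false
universe u
open CategoryTheory CategoryTheory.Limits AlgebraicGeometry Opposite

namespace Groth.Agent.Lib.T2H8RelConn

open Groth.Agent.Lib.T2H8Agree Groth.Agent.Lib.T2H8DescCore Groth.Agent.Lib.T2H8SecPull
open Groth.Agent.Lib.T2H8ShLoc Groth.Agent.Lib.T2H8PullSec

section Diag

variable {Z : Scheme.{u}}

set_option backward.isDefEq.respectTransparency.types false in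
/-- etale localization at the top: `H(A) ≅ (A.hom^* H)(A)`. -/
lemma pullSec_diag_bijective (H : EtDesc.Sh Z) (A : Z.Etale)
    (δ : EtCoh.top A.left ⟶ (EtCoh.bc A.hom).obj A)
    (hδ : δ.left ≫ pullback.fst A.hom A.hom = 𝟙 _) :
    Function.Bijective (pullSec A.hom H δ) := by
  haveI : Etale A.hom := A.prop
  let θ : A ≅ (sh A.hom).obj (EtCoh.top A.left) := MorphismProperty.Over.isoMk
    (show A.left ≅ ((sh A.hom).obj (EtCoh.top A.left)).left from Iso.refl A.left)
    ((Category.id_comp _).trans (Category.id_comp _))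
  have hθ : θ.inv.left = 𝟙 A.left := rfl
  have key : (adj A.hom).unit.app (EtCoh.top A.left) ≫ (EtCoh.bc A.hom).map θ.inv = δ := by
    apply MorphismProperty.Over.Hom.ext
    apply pullback.hom_ext
    · have h2 := (EtCoh.isPullback_bc_map A.hom θ.inv).w
      have h3 := unit_left_fst A.hom (EtCoh.top A.left)
      refine Eq.trans ?_ hδ.symm
      exact (Category.assoc _ _ _).trans
        ((((adj A.hom).unit.app (EtCoh.top A.left)).left ≫= h2).trans
          ((Category.assoc _ _ _).symm.trans ((h3 =≫ θ.inv.left).trans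
            ((Category.id_comp _).trans hθ))))
    · exact (MorphismProperty.Over.w
        ((adj A.hom).unit.app (EtCoh.top A.left) ≫ (EtCoh.bc A.hom).map θ.inv)).trans
        (MorphismProperty.Over.w δ).symm
  have e : pullSec A.hom H δ = lam A.hom H (EtCoh.top A.left) ∘ (H.obj.map θ.inv.op) := by
    funext s
    have h1 := pullSec_map_base A.hom H ((adj A.hom).unit.app (EtCoh.top A.left)) θ.inv s
    rw [key] at h1
    exact h1.symm
  rw [e]
  exact (lam_bijective A.hom H (EtCoh.top A.left)).comp (map_iso_inv_bijective H.obj θ)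

/-- the diagonal section `A ⟶ A ×_Z A` as a morphism of the small etale site of `A`. -/
noncomputable def diag (A : Z.Etale) : EtCoh.top A.left ⟶ (EtCoh.bc A.hom).obj A :=
  MorphismProperty.Over.homMk (pullback.lift (𝟙 _) (𝟙 _) rfl) (pullback.lift_snd _ _ _) trivial

lemma diag_left_fst (A : Z.Etale) : (diag A).left ≫ pullback.fst A.hom A.hom = 𝟙 _ :=
  pullback.lift_fst _ _ _

end Diag

section Rel

variable {Z' Z : Scheme.{u}} (p : Z' ⟶ Z)

set_option backward.isDefEq.respectTransparency.types false in
/-- relative version of the bijectivity of pullback of sections along a flat quasi-compact morphism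
with geometrically connected fibres: `H(A) → (p^* H)(A')` is bijective when `A' → A` is such a
morphism. -/
theorem pullSec_bijective_of_flat_geomConn (H : EtDesc.Sh Z) {A : Z.Etale} {A' : Z'.Etale}
    (m : A' ⟶ (EtCoh.bc p).obj A) (a : A'.left ⟶ A.left)
    (ha : m.left ≫ pullback.fst A.hom p = a)
    [Flat a] [QuasiCompact a] [GeometricallyConnected a] :
    Function.Bijective (pullSec p H m) := by
  have wm : m.left ≫ pullback.snd A.hom p = A'.hom := MorphismProperty.Over.w m
  have wa : a ≫ A.hom = A'.hom ≫ p := by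
    rw [← ha]
    exact (Category.assoc _ _ _).trans ((m.left ≫= pullback.condition).trans
      ((Category.assoc _ _ _).symm.trans (wm =≫ p)))
  let b : A'.left ⟶ Z := A'.hom ≫ p
  let H₁ := (EtDesc.pullSh A.hom).obj H
  let H' := (EtDesc.pullSh p).obj H
  let m₂ : EtCoh.top A'.left ⟶ (EtCoh.bc a).obj (EtCoh.top A.left) := (EtCore.bcTopIso a).inv
  let m'' : EtCoh.top A'.left ⟶ (EtCoh.bc b).obj A :=
    MorphismProperty.Over.homMk (pullback.lift a (𝟙 _) (wa.trans (Category.id_comp _).symm))
      (pullback.lift_snd _ _ _) trivial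
  have hm''₁ : m''.left ≫ pullback.fst A.hom b = a := pullback.lift_fst _ _ _
  have wm₂ : m₂.left ≫ pullback.snd (EtCoh.top A.left).hom a = 𝟙 _ := MorphismProperty.Over.w m₂
  have hm₂ : m₂.left ≫ pullback.fst (EtCoh.top A.left).hom a = a := by
    have c : pullback.fst (EtCoh.top A.left).hom a ≫ 𝟙 _ = pullback.snd (EtCoh.top A.left).hom a ≫ a :=
      pullback.condition
    exact (m₂.left ≫= (Category.comp_id _).symm).trans ((m₂.left ≫= c).trans
      ((Category.assoc _ _ _).symm.trans ((wm₂ =≫ a).trans (Category.id_comp _))))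
  have hc1 : m''.left ≫ pullback.fst A.hom b =
      m₂.left ≫ pullback.fst (EtCoh.top A.left).hom a ≫ (diag A).left ≫
        pullback.fst A.hom A.hom := by
    rw [diag_left_fst, hm''₁]
    exact ((m₂.left ≫= Category.comp_id _).trans hm₂).symm
  have hc2 : m''.left ≫ pullback.fst A.hom b =
      (diag A').left ≫ pullback.fst A'.hom A'.hom ≫ m.left ≫ pullback.fst A.hom p := by
    exact hm''₁.trans (ha.symm.trans ((Category.id_comp _).symm.trans
      (((diag_left_fst A') =≫ (m.left ≫ pullback.fst A.hom p)).symm.trans (Category.assoc _ _ _))))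
  -- the three bijections
  have hB1 : Function.Bijective (pullSec A.hom H (diag A)) :=
    pullSec_diag_bijective H A (diag A) (diag_left_fst A)
  have hB3 : Function.Bijective (pullSec A'.hom H' (diag A')) :=
    pullSec_diag_bijective H' A' (diag A') (diag_left_fst A')
  have hB2 : Function.Bijective (pullSec a H₁ m₂) := by
    have e : pullSec a H₁ m₂ = ((EtDesc.pullSh a).obj H₁).obj.map m₂.op ∘
        (((EtDesc.adjSh a).unit.app H₁).hom.app (op (EtCoh.top A.left))) := rfl
    rw [e]
    exact (map_iso_inv_bijective _ (EtCore.bcTopIso a)).comp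
      (Groth.Agent.Lib.T2H8FibreConst.unit_bijective_of_flat a H₁ (EtCoh.top A.left))
  have hV1 : Function.Bijective ((EtDesc.pullVia a A.hom b wa H).hom.hom.app (op (EtCoh.top A'.left))) :=
    bijective_app_of_isIso (EtDesc.pullVia a A.hom b wa H).hom _
  have hV2 : Function.Bijective ((EtDesc.pullVia A'.hom p b rfl H).hom.hom.app (op (EtCoh.top A'.left))) :=
    bijective_app_of_isIso (EtDesc.pullVia A'.hom p b rfl H).hom _
  have E : ((EtDesc.pullVia A'.hom p b rfl H).hom.hom.app (op (EtCoh.top A'.left)) ∘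
      pullSec A'.hom H' (diag A')) ∘ pullSec p H m =
      (EtDesc.pullVia a A.hom b wa H).hom.hom.app (op (EtCoh.top A'.left)) ∘
        pullSec a H₁ m₂ ∘ pullSec A.hom H (diag A) := by
    funext s
    exact (pullSec_pullVia A'.hom p b rfl H m (diag A') m'' hc2 s).trans
      (pullSec_pullVia a A.hom b wa H (diag A) m₂ m'' hc1 s).symm
  have hR : Function.Bijective ((EtDesc.pullVia a A.hom b wa H).hom.hom.app (op (EtCoh.top A'.left)) ∘
        pullSec a H₁ m₂ ∘ pullSec A.hom H (diag A)) := hV1.comp (hB2.comp hB1)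
  rw [← E] at hR
  exact (Function.Bijective.of_comp_iff' (hV2.comp hB3) _).mp hR

end Rel

end Groth.Agent.Lib.T2H8RelConn
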