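import Mathlib
import Groth.Prelude.Def_EtBCD
import Groth.Prelude.Def_SGA4b
import Groth.Agent.Lib.T2H8RelConn

set_option autoImplicit false
universe u
open CategoryTheory CategoryTheory.Limits AlgebraicGeometry Opposite

namespace Groth.Agent.Lib.T2H8FlatConnBC

open Groth.Agent.Lib.T2H8Agree Groth.Agent.Lib.T2H8DescCore Groth.Agent.Lib.T2H8SecPull
open Groth.Agent.Lib.T2H8ShLoc Groth.Agent.Lib.T2H8PullSec Groth.Agent.Lib.T2H8RelConn
open Groth.Agent.Lib.T2H8FiniteBC Groth.Agent.Lib.Helper16.SmallEtale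

section Cov

variable {X : Scheme.{u}}

set_option backward.isDefEq.respectTransparency.types false in
/-- a morphism of sheaves of sets which is bijective on a covering family of every object is an
isomorphism. -/
theorem isIso_of_locally_bijective {P Q : EtDesc.Sh X} (φ : P ⟶ Q)
    (hcov : ∀ U : X.Etale, ∃ (ι : Type u) (Uc : ι → X.Etale) (mU : ∀ i, Uc i ⟶ U),
      (∀ y : U.left, ∃ (i : ι) (z : (Uc i).left), (mU i).left.base z = y) ∧
      ∀ i, Function.Bijective (φ.hom.app (op (Uc i)))) : IsIso φ := by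
  have hinj : ∀ U : X.Etale, Function.Injective (φ.hom.app (op U)) := by
    intro U s t hst
    obtain ⟨ι, Uc, mU, hsurj, hbij⟩ := hcov U
    apply Groth.Agent.Lib.T2H8.PullFaithful.eq_of_locally_eq P s t
    intro x
    obtain ⟨i, z, hz⟩ := hsurj x
    refine ⟨Uc i, mU i, ⟨z, hz⟩, ?_⟩
    apply (hbij i).1
    have n1 := NatTrans.naturality_apply φ.hom (mU i).op s
    have n2 := NatTrans.naturality_apply φ.hom (mU i).op t
    rw [n1, n2, hst]
  have hsurj : ∀ U : X.Etale, Function.Surjective (φ.hom.app (op U)) := by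
    intro U q
    obtain ⟨ι, Uc, mU, hs, hbij⟩ := hcov U
    choose s hs' using fun i => (hbij i).2 (Q.obj.map (mU i).op q)
    let R : Sieve U := Sieve.generate (Presieve.ofArrows Uc mU)
    have hR : R ∈ X.smallEtaleTopology U := by
      rw [mem_smallEtale_iff]
      intro x
      obtain ⟨i, z, hz⟩ := hs x
      exact ⟨Uc i, mU i, z, Sieve.le_generate _ _ _ (Presieve.ofArrows.mk i), hz⟩
    have hsh : Presieve.IsSheafFor (P.obj ⋙ forget (Type (u + 1))) (Presieve.ofArrows Uc mU) :=
      (Presieve.isSheafFor_iff_generate _).mpr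
        (Groth.Agent.Lib.T2H8ShBC.isSheaf_forget P R hR)
    rw [Presieve.isSheafFor_arrows_iff] at hsh
    have hcompat : Presieve.Arrows.Compatible (P.obj ⋙ forget (Type (u + 1))) mU s := by
      intro i k Z ga gb hgab
      apply hinj Z
      have n1 := NatTrans.naturality_apply φ.hom ga.op (s i)
      have n2 := NatTrans.naturality_apply φ.hom gb.op (s k)
      refine n1.trans (Eq.trans ?_ n2.symm)
      rw [hs' i, hs' k, map_map_apply, map_map_apply, hgab]
    obtain ⟨t₀, ht₀, -⟩ := hsh s hcompat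
    refine ⟨t₀, ?_⟩
    apply Groth.Agent.Lib.T2H8.PullFaithful.eq_of_locally_eq Q
    intro x
    obtain ⟨i, z, hz⟩ := hs x
    refine ⟨Uc i, mU i, ⟨z, hz⟩, ?_⟩
    have n1 := NatTrans.naturality_apply φ.hom (mU i).op t₀
    have e2 : P.obj.map (mU i).op t₀ = s i := ht₀ i
    rw [← n1, e2, hs' i]
  haveI : ∀ U : X.Etaleᵒᵖ, IsIso (φ.hom.app U) := by
    intro U
    exact (isIso_iff_bijective _).mpr ⟨hinj U.unop, hsurj U.unop⟩
  haveI : IsIso φ.hom := NatIso.isIso_of_isIso_app φ.hom
  haveI : IsIso ((sheafToPresheaf _ _).map φ) := ‹IsIso φ.hom›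
  exact isIso_of_reflects_iso φ (sheafToPresheaf _ _)

end Cov

section Sq

variable {X S Y T : Scheme.{u}} (f : X ⟶ S) (g : T ⟶ S) (h : Y ⟶ X) (e : Y ⟶ T)
  (w : e ≫ g = h ≫ f) (F : EtDesc.Sh T)

set_option backward.isDefEq.respectTransparency.types false in
/-- the base change map on sections pulled back from `S`, relative form. -/
lemma baseChange0_pullSec {V : S.Etale} {U : X.Etale} (at' : U ⟶ (EtCoh.bc f).obj V)
    (σ : F.obj.obj (op ((EtCoh.bc g).obj V))) :
    (EtBC.baseChange0Sh g f h e w F).hom.app (op U)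
      (pullSec f ((EtDesc.pushSh g).obj F) at' σ) =
    pullSec e F ((EtCoh.bc h).map at' ≫ κ g f h e w V) σ := by
  have n1 := NatTrans.naturality_apply (EtBC.baseChange0Sh g f h e w F).hom at'.op
    (((EtDesc.adjSh f).unit.app ((EtDesc.pushSh g).obj F)).hom.app (op V) σ)
  refine n1.trans ?_
  have k := Groth.Agent.Lib.T2H8ShBC.baseChange0_unit_apply g f h e w F V σ
  have e1 : ((EtDesc.pushSh h).obj ((EtDesc.pullSh e).obj F)).obj.map at'.op
      ((EtBC.baseChange0Sh g f h e w F).hom.app (op ((EtCoh.bc f).obj V))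
        (((EtDesc.adjSh f).unit.app ((EtDesc.pushSh g).obj F)).hom.app (op V) σ)) =
      ((EtDesc.pullSh e).obj F).obj.map ((EtCoh.bc h).map at').op
        (((EtDesc.pullSh e).obj F).obj.map (κ g f h e w V).op
          (((EtDesc.adjSh e).unit.app F).hom.app (op ((EtCoh.bc g).obj V)) σ)) :=
    congrArg (((EtDesc.pullSh e).obj F).obj.map ((EtCoh.bc h).map at').op) k
  refine e1.trans ?_
  exact map_map_apply _ _ _ _

set_option backward.isDefEq.respectTransparency.types false in
/-- the map `U ×_X Y ⟶ V ×_S T` induced by `U ⟶ V ×_S X` is a base change of `U ⟶ V`. -/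
lemma isPullback_top (c : IsPullback e h g f) {V : S.Etale} {U : X.Etale}
    (at' : U ⟶ (EtCoh.bc f).obj V) :
    IsPullback
      (((EtCoh.bc h).map at' ≫ κ g f h e c.w V).left ≫ pullback.fst ((EtCoh.bc g).obj V).hom e)
      (pullback.fst U.hom h) (pullback.fst V.hom g) (at'.left ≫ pullback.fst V.hom f) := by
  let m₂ := (EtCoh.bc h).map at' ≫ κ g f h e c.w V
  let a' := m₂.left ≫ pullback.fst ((EtCoh.bc g).obj V).hom e
  let a := at'.left ≫ pullback.fst V.hom f
  have wat : at'.left ≫ pullback.snd V.hom f = U.hom := MorphismProperty.Over.w at'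
  have wa : a ≫ V.hom = U.hom ≫ f :=
    (Category.assoc _ _ _).trans ((at'.left ≫= pullback.condition).trans
      ((Category.assoc _ _ _).symm.trans (wat =≫ f)))
  -- commutativity of the left square
  have hκ := κ_left_fst_fst g f h e c.w V
  have hbc := (EtCoh.isPullback_bc_map h at').w
  have p1 : a' ≫ pullback.fst V.hom g = pullback.fst U.hom h ≫ a := by
    have e1 : a' ≫ pullback.fst V.hom g = ((EtCoh.bc h).map at').left ≫
        ((κ g f h e c.w V).left ≫ pullback.fst (pullback.snd V.hom g) e ≫ pullback.fst V.hom g) := by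
      simp only [a', m₂, MorphismProperty.Comma.comp_left, Category.assoc]
      rfl
    rw [e1, hκ]
    exact (Category.assoc _ _ _).symm.trans ((hbc =≫ pullback.fst V.hom f).trans
      (Category.assoc _ _ _))
  -- the top composite
  have wm₂ : m₂.left ≫ pullback.snd ((EtCoh.bc g).obj V).hom e = pullback.snd U.hom h :=
    MorphismProperty.Over.w m₂
  have p2 : a' ≫ pullback.snd V.hom g = pullback.snd U.hom h ≫ e :=
    (Category.assoc _ _ _).trans ((m₂.left ≫= pullback.condition).trans
      ((Category.assoc _ _ _).symm.trans (wm₂ =≫ e)))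
  have big : IsPullback (pullback.snd U.hom h ≫ e) (pullback.fst U.hom h) g (U.hom ≫ f) :=
    (IsPullback.of_hasPullback U.hom h).flip.paste_horiz c
  have big' : IsPullback (a' ≫ pullback.snd V.hom g) (pullback.fst U.hom h) g (a ≫ V.hom) := by
    rw [p2, wa]
    exact big
  exact IsPullback.of_right big' p1 (IsPullback.of_hasPullback V.hom g).flip

end Sq

section Main

set_option backward.isDefEq.respectTransparency.types false in
/-- base change for pushforward of sheaves of sets along a flat morphism all of whose etale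
localizations factor through quasi-compact morphisms with geometrically connected fibres
followed by etale morphisms. -/
theorem isIso_baseChange0Sh_of_factorizations {X S Y T : Scheme.{u}} (f : X ⟶ S) [Flat f]
    (g : T ⟶ S) (h : Y ⟶ X) (e : Y ⟶ T) (c : IsPullback e h g f)
    (hcov : ∀ U : X.Etale, ∃ (ι : Type u) (Uc : ι → X.Etale) (mU : ∀ i, Uc i ⟶ U),
      (∀ y : U.left, ∃ (i : ι) (z : (Uc i).left), (mU i).left.base z = y) ∧
      ∀ i, ∃ (V : S.Etale) (a : (Uc i).left ⟶ V.left),
        a ≫ V.hom = (Uc i).hom ≫ f ∧ QuasiCompact a ∧ GeometricallyConnected a)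
    (F : EtDesc.Sh T) :
    IsIso (EtBC.baseChange0Sh g f h e c.w F) := by
  apply isIso_of_locally_bijective
  intro U
  obtain ⟨ι, Uc, mU, hs, hfac⟩ := hcov U
  refine ⟨ι, Uc, mU, hs, fun i => ?_⟩
  obtain ⟨V, a, wa, hqc, hgc⟩ := hfac i
  let at' : Uc i ⟶ (EtCoh.bc f).obj V :=
    MorphismProperty.Over.homMk (pullback.lift a (Uc i).hom wa) (pullback.lift_snd _ _ _) trivial
  have hat : at'.left ≫ pullback.fst V.hom f = a := pullback.lift_fst _ _ _
  let al : (Uc i).left ⟶ pullback V.hom f := pullback.lift a (Uc i).hom wa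
  haveI : Etale al := inferInstanceAs (Etale at'.left)
  haveI : Flat al := inferInstance
  haveI : Flat (al ≫ pullback.fst V.hom f) := inferInstance
  have hal : al ≫ pullback.fst V.hom f = a := pullback.lift_fst _ _ _
  haveI : Flat a := hal ▸ ‹Flat (al ≫ pullback.fst V.hom f)›
  have hρ₁ : Function.Bijective (pullSec f ((EtDesc.pushSh g).obj F) at') :=
    pullSec_bijective_of_flat_geomConn f ((EtDesc.pushSh g).obj F) at' a hat
  let m₂ := (EtCoh.bc h).map at' ≫ κ g f h e c.w V
  let a' := m₂.left ≫ pullback.fst ((EtCoh.bc g).obj V).hom e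
  have sq : IsPullback a' (pullback.fst (Uc i).hom h) (pullback.fst V.hom g) a := by
    have := isPullback_top f g h e c at'
    rw [hat] at this
    exact this
  haveI : Flat a' := MorphismProperty.of_isPullback (P := @Flat) sq.flip ‹_›
  haveI : QuasiCompact a' := MorphismProperty.of_isPullback (P := @QuasiCompact) sq.flip ‹_›
  haveI : GeometricallyConnected a' :=
    MorphismProperty.of_isPullback (P := @GeometricallyConnected) sq.flip ‹_›
  have hρ₂ : Function.Bijective (pullSec e F m₂) :=
    pullSec_bijective_of_flat_geomConn e F m₂ a' rfl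
  have hcomp : (EtBC.baseChange0Sh g f h e c.w F).hom.app (op (Uc i)) ∘
      pullSec f ((EtDesc.pushSh g).obj F) at' = pullSec e F m₂ := by
    funext σ
    exact baseChange0_pullSec f g h e c.w F at' σ
  rw [← hcomp] at hρ₂
  exact (Function.Bijective.of_comp_iff _ hρ₁).mp hρ₂

end Main

end Groth.Agent.Lib.T2H8FlatConnBC
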