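import Mathlib
import Groth.Prelude.Def_EtBCD
import Groth.Prelude.Def_SGA4b
import Groth.Agent.Lib.T2H8FlatConnBC

set_option autoImplicit false
universe u
open CategoryTheory CategoryTheory.Limits AlgebraicGeometry Opposite

namespace Groth.Agent.Lib.T2H8EtLocalBC

open Groth.Agent.Lib.T2H8Agree Groth.Agent.Lib.T2H8DescCore Groth.Agent.Lib.T2H8SecPull
open Groth.Agent.Lib.T2H8ShLoc Groth.Agent.Lib.T2H8PullSec Groth.Agent.Lib.T2H8RelConn
open Groth.Agent.Lib.T2H8FiniteBC Groth.Agent.Lib.Helper16.SmallEtale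
open Groth.Agent.Lib.T2H8FlatConnBC

section Ext

variable {X Y : Scheme.{u}} (f : X ⟶ Y)

set_option backward.isDefEq.respectTransparency.types false in
/-- morphisms out of `f^* G` are determined by their values on the unit sections. -/
lemma pull_hom_ext {G : EtDesc.Sh Y} {P : EtDesc.Sh X} (φ ψ : (EtDesc.pullSh f).obj G ⟶ P)
    (h : ∀ (V : Y.Etale) (σ : G.obj.obj (op V)),
      φ.hom.app (op ((EtCoh.bc f).obj V)) (((EtDesc.adjSh f).unit.app G).hom.app (op V) σ) =
      ψ.hom.app (op ((EtCoh.bc f).obj V)) (((EtDesc.adjSh f).unit.app G).hom.app (op V) σ)) :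
    φ = ψ := by
  apply ((EtDesc.adjSh f).homEquiv G P).injective
  rw [Adjunction.homEquiv_unit, Adjunction.homEquiv_unit]
  apply Sheaf.hom_ext
  apply NatTrans.ext
  funext V
  ext σ
  exact h V.unop σ

set_option backward.isDefEq.respectTransparency.types false in
/-- naturality of `pullSec` in the sheaf. -/
lemma pullSec_naturality {G G' : EtDesc.Sh Y} (φ : G ⟶ G') {A : Y.Etale} {A' : X.Etale}
    (m : A' ⟶ (EtCoh.bc f).obj A) (s : G.obj.obj (op A)) :
    ((EtDesc.pullSh f).map φ).hom.app (op A') (pullSec f G m s) =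
      pullSec f G' m (φ.hom.app (op A) s) := by
  dsimp only [pullSec]
  have n1 := NatTrans.naturality_apply ((EtDesc.pullSh f).map φ).hom m.op
    (((EtDesc.adjSh f).unit.app G).hom.app (op A) s)
  refine n1.trans ?_
  congr 1
  have n2 := (EtDesc.adjSh f).unit.naturality φ
  exact congrArg (fun m => m.hom.app (op A) s) n2.symm

end Ext

section Ext2

variable {Z X Y : Scheme.{u}} (g : Z ⟶ X) (f : X ⟶ Y)

set_option backward.isDefEq.respectTransparency.types false in
/-- morphisms out of `g^* f^* G` are determined by their values on the iterated unit sections. -/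
lemma pull_pull_hom_ext {G : EtDesc.Sh Y} {P : EtDesc.Sh Z}
    (φ ψ : (EtDesc.pullSh g).obj ((EtDesc.pullSh f).obj G) ⟶ P)
    (h : ∀ (V : Y.Etale) (σ : G.obj.obj (op V)),
      φ.hom.app (op ((EtCoh.bc g).obj ((EtCoh.bc f).obj V)))
        (((EtDesc.adjSh g).unit.app ((EtDesc.pullSh f).obj G)).hom.app (op ((EtCoh.bc f).obj V))
          (((EtDesc.adjSh f).unit.app G).hom.app (op V) σ)) =
      ψ.hom.app (op ((EtCoh.bc g).obj ((EtCoh.bc f).obj V)))
        (((EtDesc.adjSh g).unit.app ((EtDesc.pullSh f).obj G)).hom.app (op ((EtCoh.bc f).obj V))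
          (((EtDesc.adjSh f).unit.app G).hom.app (op V) σ))) :
    φ = ψ := by
  apply ((EtDesc.adjSh g).homEquiv ((EtDesc.pullSh f).obj G) P).injective
  apply pull_hom_ext f
  intro V σ
  rw [Adjunction.homEquiv_unit, Adjunction.homEquiv_unit]
  exact h V σ

end Ext2

section IsoCrit

variable {X : Scheme.{u}}

lemma isIso_of_bijective {P Q : EtDesc.Sh X} (φ : P ⟶ Q)
    (h : ∀ U : X.Etale, Function.Bijective (φ.hom.app (op U))) : IsIso φ := by
  haveI : ∀ U : X.Etaleᵒᵖ, IsIso (φ.hom.app U) := by
    intro U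
    exact (isIso_iff_bijective _).mpr (h U.unop)
  haveI : IsIso φ.hom := NatIso.isIso_of_isIso_app φ.hom
  haveI : IsIso ((sheafToPresheaf _ _).map φ) := ‹IsIso φ.hom›
  exact isIso_of_reflects_iso φ (sheafToPresheaf _ _)

end IsoCrit

section EB

variable {X S V X' : Scheme.{u}} (f : X ⟶ S) (j : V ⟶ S) [Etale j] (f' : X' ⟶ V) (j' : X' ⟶ X)
  (c : IsPullback j' f' f j)

include c in
set_option backward.isDefEq.respectTransparency.types false in
/-- the comparison `N ×_V X' ⟶ N ×_S X` is an isomorphism. -/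
lemma isPullback_left (N : V.Etale) :
    IsPullback (pullback.snd N.hom f' ≫ j') (pullback.fst N.hom f') f (N.hom ≫ j) :=
  (IsPullback.of_hasPullback N.hom f').flip.paste_horiz c

include c in
lemma etale_of_isPullback : Etale j' :=
  MorphismProperty.of_isPullback (P := @Etale) c.flip ‹_›

set_option backward.isDefEq.respectTransparency.types false in
/-- etale base change for sheaves of sets. -/
theorem isIso_baseChange0Sh_of_etale (F : EtDesc.Sh X) :
    IsIso (EtBC.baseChange0Sh f j f' j' c.w F) := by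
  haveI : Etale j' := etale_of_isPullback f j f' j' c
  apply isIso_of_bijective
  intro N
  let A : S.Etale := (sh j).obj N
  let m₂ : (EtCoh.bc f').obj N ⟶ (EtCoh.bc j').obj ((EtCoh.bc f).obj A) :=
    (EtCoh.bc f').map ((adj j).unit.app N) ≫ κ f j f' j' c.w A
  -- the isomorphism `sh_{j'} (N ×_V X') ≅ (sh_j N) ×_S X`
  let sq₁ := isPullback_left f j f' j' c N
  let sq₂ : IsPullback (pullback.snd A.hom f) (pullback.fst A.hom f) f (N.hom ≫ j) :=
    (IsPullback.of_hasPullback A.hom f).flip
  let θl : pullback N.hom f' ≅ pullback A.hom f := sq₁.isoIsPullback _ _ sq₂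
  have hθ₁ : θl.hom ≫ pullback.snd A.hom f = pullback.snd N.hom f' ≫ j' :=
    IsPullback.isoIsPullback_hom_fst _ _ sq₁ sq₂
  have hθ₂ : θl.hom ≫ pullback.fst A.hom f = pullback.fst N.hom f' :=
    IsPullback.isoIsPullback_hom_snd _ _ sq₁ sq₂
  let θ : (sh j').obj ((EtCoh.bc f').obj N) ≅ (EtCoh.bc f).obj A :=
    MorphismProperty.Over.isoMk
      (show ((sh j').obj ((EtCoh.bc f').obj N)).left ≅ ((EtCoh.bc f).obj A).left from θl) hθ₁
  have hθl : θ.hom.left = θl.hom := rfl
  -- `m₂` is the adjunct of `θ`
  have hm₂ : m₂ = (adj j').unit.app ((EtCoh.bc f').obj N) ≫ (EtCoh.bc j').map θ.hom := by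
    apply MorphismProperty.Over.Hom.ext
    apply pullback.hom_ext
    · have r1 : ((adj j').unit.app ((EtCoh.bc f').obj N) ≫ (EtCoh.bc j').map θ.hom).left ≫
          pullback.fst ((EtCoh.bc f).obj A).hom j' = θl.hom := by
        have h2 := bc_map_left_fst j' θ.hom
        have h3 := unit_left_fst j' ((EtCoh.bc f').obj N)
        exact (Category.assoc _ _ _).trans
          ((((adj j').unit.app ((EtCoh.bc f').obj N)).left ≫= h2).trans
            ((Category.assoc _ _ _).symm.trans ((h3 =≫ θ.hom.left).trans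
              ((Category.id_comp _).trans hθl))))
      refine Eq.trans ?_ r1.symm
      -- `m₂.left ≫ fst = θl.hom`
      apply sq₂.hom_ext
      · -- snd component
        have w1 : m₂.left ≫ pullback.snd ((EtCoh.bc f).obj A).hom j' = pullback.snd N.hom f' :=
          MorphismProperty.Over.w m₂
        have cnd : pullback.fst ((EtCoh.bc f).obj A).hom j' ≫ pullback.snd A.hom f =
            pullback.snd ((EtCoh.bc f).obj A).hom j' ≫ j' := pullback.condition
        exact (Category.assoc _ _ _).trans ((m₂.left ≫= cnd).trans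
          ((Category.assoc _ _ _).symm.trans ((w1 =≫ j').trans hθ₁.symm)))
      · -- fst component
        have hκ := κ_left_fst_fst f j f' j' c.w A
        have hb := bc_map_left_fst f' ((adj j).unit.app N)
        have hu := unit_left_fst j N
        have e1 : (m₂.left ≫ pullback.fst ((EtCoh.bc f).obj A).hom j') ≫ pullback.fst A.hom f =
            ((EtCoh.bc f').map ((adj j).unit.app N)).left ≫
              ((κ f j f' j' c.w A).left ≫ pullback.fst (pullback.snd A.hom f) j' ≫
                pullback.fst A.hom f) := by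
          simp only [m₂, MorphismProperty.Comma.comp_left, Category.assoc]
          rfl
        refine e1.trans ((((EtCoh.bc f').map ((adj j).unit.app N)).left ≫= hκ).trans ?_)
        exact (Category.assoc _ _ _).symm.trans ((hb =≫ pullback.fst A.hom j).trans
          ((Category.assoc _ _ _).trans ((pullback.fst N.hom f' ≫= hu).trans
            ((Category.comp_id _).trans hθ₂.symm))))
    · exact (MorphismProperty.Over.w m₂).trans (MorphismProperty.Over.w
        ((adj j').unit.app ((EtCoh.bc f').obj N) ≫ (EtCoh.bc j').map θ.hom)).symm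
  -- the composite with `lam`
  have hcomp : (EtBC.baseChange0Sh f j f' j' c.w F).hom.app (op N) ∘
      lam j ((EtDesc.pushSh f).obj F) N =
      lam j' F ((EtCoh.bc f').obj N) ∘ F.obj.map θ.hom.op := by
    funext σ
    have h1 := baseChange0_pullSec j f f' j' c.w F ((adj j).unit.app N) σ
    have h2 := pullSec_map_base j' F ((adj j').unit.app ((EtCoh.bc f').obj N)) θ.hom σ
    rw [← hm₂] at h2
    exact h1.trans h2.symm
  have hb : Function.Bijective (lam j' F ((EtCoh.bc f').obj N) ∘ F.obj.map θ.hom.op) :=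
    (lam_bijective j' F _).comp (map_iso_bijective F.obj θ)
  rw [← hcomp] at hb
  exact (Function.Bijective.of_comp_iff _ (lam_bijective j ((EtDesc.pushSh f).obj F) N)).mp hb

end EB

end Groth.Agent.Lib.T2H8EtLocalBC
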