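import Mathlib
import Groth.Prelude.Def_EtBCD
import Groth.Prelude.Def_SGA4b
import Groth.Agent.Lib.T2H8EtLocalBC

set_option autoImplicit false
universe u
open CategoryTheory CategoryTheory.Limits AlgebraicGeometry Opposite

namespace Groth.Agent.Lib.T2H8EtLocalBC2

open Groth.Agent.Lib.T2H8Agree Groth.Agent.Lib.T2H8DescCore Groth.Agent.Lib.T2H8SecPull
open Groth.Agent.Lib.T2H8ShLoc Groth.Agent.Lib.T2H8PullSec Groth.Agent.Lib.T2H8RelConn
open Groth.Agent.Lib.T2H8FiniteBC Groth.Agent.Lib.Helper16.SmallEtale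
open Groth.Agent.Lib.T2H8FlatConnBC Groth.Agent.Lib.T2H8EtLocalBC

section Chains

universe v' u'
variable {C : Type u'} [Category.{v'} C]

lemma chain2 {A B D E G H I J : C} (k₂ : A ⟶ B) (p₂ : B ⟶ D) (k₁ : D ⟶ E) (p₁ : E ⟶ G)
    (q₁ : G ⟶ H) (r₁ : D ⟶ I) (s₁ : I ⟶ H) (r₂ : A ⟶ J) (s₂ : J ⟶ I)
    (h1 : k₁ ≫ p₁ ≫ q₁ = r₁ ≫ s₁) (h2 : k₂ ≫ p₂ ≫ r₁ = r₂ ≫ s₂) :
    k₂ ≫ p₂ ≫ k₁ ≫ p₁ ≫ q₁ = r₂ ≫ s₂ ≫ s₁ := by
  rw [h1, ← Category.assoc p₂, ← Category.assoc k₂, h2, Category.assoc]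

lemma chainS {A B D E G H I J : C} (k₂ : A ⟶ B) (p₂ : B ⟶ D) (k₁ : D ⟶ E) (p₁ : E ⟶ G)
    (q₁ : G ⟶ H) (p₁' : E ⟶ I) (e : I ⟶ H) (o₁ : D ⟶ I) (p₂' : B ⟶ J) (jy : J ⟶ I) (o₂ : A ⟶ J)
    (c1 : p₁ ≫ q₁ = p₁' ≫ e) (w1 : k₁ ≫ p₁' = o₁) (c2 : p₂ ≫ o₁ = p₂' ≫ jy) (w2 : k₂ ≫ p₂' = o₂) :
    k₂ ≫ p₂ ≫ k₁ ≫ p₁ ≫ q₁ = o₂ ≫ jy ≫ e := by
  rw [c1, ← Category.assoc k₁, w1, ← Category.assoc p₂, c2, Category.assoc, ← Category.assoc k₂, w2]

lemma chain3 {A A' B D E G H I J K L : C} (b : A' ⟶ A) (k₂ : A ⟶ B) (p₂ : B ⟶ D) (k₁ : D ⟶ E)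
    (p₁ : E ⟶ G) (q₁ : G ⟶ H) (r₁ : D ⟶ I) (s₁ : I ⟶ H) (r₂ : A ⟶ J) (s₂ : J ⟶ I)
    (r₅ : A' ⟶ K) (n : K ⟶ J) (u : K ⟶ L) (v : L ⟶ H)
    (h1 : k₁ ≫ p₁ ≫ q₁ = r₁ ≫ s₁) (h2 : k₂ ≫ p₂ ≫ r₁ = r₂ ≫ s₂)
    (h3 : b ≫ r₂ = r₅ ≫ n) (h4 : n ≫ s₂ ≫ s₁ = u ≫ v) :
    (b ≫ k₂) ≫ p₂ ≫ k₁ ≫ p₁ ≫ q₁ = r₅ ≫ u ≫ v := by
  rw [Category.assoc, chain2 k₂ p₂ k₁ p₁ q₁ r₁ s₁ r₂ s₂ h1 h2, ← Category.assoc, h3,
    Category.assoc, h4]

end Chains

section Generic

variable {X : Scheme.{u}}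

lemma sheaf_iso_inv_hom_apply {P Q : EtDesc.Sh X} (i : P ≅ Q) (W : X.Etaleᵒᵖ)
    (z : P.obj.obj W) : i.inv.hom.app W (i.hom.hom.app W z) = z :=
  congrArg (fun m => m.hom.app W z) i.hom_inv_id

lemma sheaf_iso_hom_inv_apply {P Q : EtDesc.Sh X} (i : P ≅ Q) (W : X.Etaleᵒᵖ)
    (z : Q.obj.obj W) : i.hom.hom.app W (i.inv.hom.app W z) = z :=
  congrArg (fun m => m.hom.app W z) i.inv_hom_id

lemma sheaf_comp_apply {P Q R : EtDesc.Sh X} (φ : P ⟶ Q) (ψ : Q ⟶ R) (W : X.Etaleᵒᵖ)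
    (z : P.obj.obj W) : (φ ≫ ψ).hom.app W z = ψ.hom.app W (φ.hom.app W z) := rfl

lemma sheaf_comp3_apply {P₀ P₁ P₂ P₃ : EtDesc.Sh X} (φ₁ : P₀ ⟶ P₁) (φ₂ : P₁ ⟶ P₂)
    (φ₃ : P₂ ⟶ P₃) (W : X.Etaleᵒᵖ) (z : P₀.obj.obj W) :
    (φ₁ ≫ φ₂ ≫ φ₃).hom.app W z = φ₃.hom.app W (φ₂.hom.app W (φ₁.hom.app W z)) := rfl

lemma sheaf_comp5_apply {P₀ P₁ P₂ P₃ P₄ P₅ : EtDesc.Sh X} (φ₁ : P₀ ⟶ P₁) (φ₂ : P₁ ⟶ P₂)
    (φ₃ : P₂ ⟶ P₃) (φ₄ : P₃ ⟶ P₄) (φ₅ : P₄ ⟶ P₅) (W : X.Etaleᵒᵖ) (z : P₀.obj.obj W) :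
    (φ₁ ≫ φ₂ ≫ φ₃ ≫ φ₄ ≫ φ₅).hom.app W z =
      φ₅.hom.app W (φ₄.hom.app W (φ₃.hom.app W (φ₂.hom.app W (φ₁.hom.app W z)))) := rfl

lemma pushSh_map_apply {Y : Scheme.{u}} (f : X ⟶ Y) {P Q : EtDesc.Sh X} (θ : P ⟶ Q)
    (W : Y.Etale) (z : P.obj.obj (op ((EtCoh.bc f).obj W))) :
    ((EtDesc.pushSh f).map θ).hom.app (op W) z = θ.hom.app (op ((EtCoh.bc f).obj W)) z := rfl

set_option backward.isDefEq.respectTransparency.types false in
lemma sheaf_chain5 {Y' : Scheme.{u}} (h' : Y' ⟶ X) {P₀ P₁ P₂ P₃ : EtDesc.Sh X}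
    {Q Q' : EtDesc.Sh Y'} (φ₁ : P₀ ⟶ P₁) (φ₂ : P₁ ⟶ P₂) (φ₃ : P₂ ⟶ P₃)
    (φ₄ : P₃ ⟶ (EtDesc.pushSh h').obj Q) (θ : Q ⟶ Q') (W : X.Etale)
    (x₀ : P₀.obj.obj (op W)) (x₁ : P₁.obj.obj (op W)) (x₂ : P₂.obj.obj (op W))
    (x₃ : P₃.obj.obj (op W)) (x₄ : Q.obj.obj (op ((EtCoh.bc h').obj W)))
    (x₅ : Q'.obj.obj (op ((EtCoh.bc h').obj W)))
    (h1 : φ₁.hom.app (op W) x₀ = x₁) (h2 : φ₂.hom.app (op W) x₁ = x₂)
    (h3 : φ₃.hom.app (op W) x₂ = x₃) (h4 : φ₄.hom.app (op W) x₃ = x₄)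
    (h5 : θ.hom.app (op ((EtCoh.bc h').obj W)) x₄ = x₅) :
    (φ₁ ≫ φ₂ ≫ φ₃ ≫ φ₄ ≫ (EtDesc.pushSh h').map θ).hom.app (op W) x₀ = x₅ := by
  subst h1 h2 h3 h4 h5
  rfl

set_option backward.isDefEq.respectTransparency.types false in
lemma sheaf_chain3 {Y' : Scheme.{u}} (h' : Y' ⟶ X) {P₀ P₁ : EtDesc.Sh X}
    {Q Q' : EtDesc.Sh Y'} (φ₁ : P₀ ⟶ P₁)
    (φ₂ : P₁ ⟶ (EtDesc.pushSh h').obj Q) (θ : Q ⟶ Q') (W : X.Etale)
    (x₀ : P₀.obj.obj (op W)) (x₁ : P₁.obj.obj (op W))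
    (x₂ : Q.obj.obj (op ((EtCoh.bc h').obj W)))
    (x₃ : Q'.obj.obj (op ((EtCoh.bc h').obj W)))
    (h1 : φ₁.hom.app (op W) x₀ = x₁) (h2 : φ₂.hom.app (op W) x₁ = x₂)
    (h3 : θ.hom.app (op ((EtCoh.bc h').obj W)) x₂ = x₃) :
    (φ₁ ≫ φ₂ ≫ (EtDesc.pushSh h').map θ).hom.app (op W) x₀ = x₃ := by
  subst h1 h2 h3
  rfl

end Generic

section Id

variable {X Y : Scheme.{u}} (f : X ⟶ Y)

set_option backward.isDefEq.respectTransparency.types false in
lemma pullSec_id (G : EtDesc.Sh Y) (A : Y.Etale) (s : G.obj.obj (op A)) :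
    pullSec f G (𝟙 ((EtCoh.bc f).obj A)) s = ((EtDesc.adjSh f).unit.app G).hom.app (op A) s :=
  congrArg (fun m => (ConcreteCategory.hom m) (((EtDesc.adjSh f).unit.app G).hom.app (op A) s))
    (((EtDesc.pullSh f).obj G).obj.map_id _)

end Id

section CompMor

variable {Z X Y : Scheme.{u}} (g : Z ⟶ X) (f : X ⟶ Y) (b : Z ⟶ Y) (w : g ≫ f = b)

set_option backward.isDefEq.respectTransparency.types false in
/-- the composite of two relative morphisms. -/
noncomputable def compMor {A : Y.Etale} {A' : X.Etale} {A'' : Z.Etale}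
    (m : A' ⟶ (EtCoh.bc f).obj A) (m' : A'' ⟶ (EtCoh.bc g).obj A') :
    A'' ⟶ (EtCoh.bc b).obj A :=
  MorphismProperty.Over.homMk
    (pullback.lift (m'.left ≫ pullback.fst A'.hom g ≫ m.left ≫ pullback.fst A.hom f) A''.hom (by
      have w1 : m'.left ≫ pullback.snd A'.hom g = A''.hom := MorphismProperty.Over.w m'
      have w2 : m.left ≫ pullback.snd A.hom f = A'.hom := MorphismProperty.Over.w m
      have c1 : pullback.fst A.hom f ≫ A.hom = pullback.snd A.hom f ≫ f := pullback.condition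
      have c2 : pullback.fst A'.hom g ≫ A'.hom = pullback.snd A'.hom g ≫ g := pullback.condition
      have e1 : (m.left ≫ pullback.fst A.hom f) ≫ A.hom = A'.hom ≫ f :=
        (Category.assoc _ _ _).trans ((m.left ≫= c1).trans
          ((Category.assoc _ _ _).symm.trans (w2 =≫ f)))
      have e2 : (m'.left ≫ pullback.fst A'.hom g) ≫ A'.hom = A''.hom ≫ g :=
        (Category.assoc _ _ _).trans ((m'.left ≫= c2).trans
          ((Category.assoc _ _ _).symm.trans (w1 =≫ g)))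
      have e0 : (m'.left ≫ pullback.fst A'.hom g ≫ m.left ≫ pullback.fst A.hom f) ≫ A.hom =
          (m'.left ≫ pullback.fst A'.hom g) ≫ ((m.left ≫ pullback.fst A.hom f) ≫ A.hom) := by
        simp only [Category.assoc]
      exact e0.trans (((m'.left ≫ pullback.fst A'.hom g) ≫= e1).trans
        ((Category.assoc _ _ _).symm.trans ((e2 =≫ f).trans
          ((Category.assoc _ _ _).trans (A''.hom ≫= w)))))))
    (pullback.lift_snd _ _ _) trivial

set_option backward.isDefEq.respectTransparency.types false in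
lemma compMor_left_fst {A : Y.Etale} {A' : X.Etale} {A'' : Z.Etale}
    (m : A' ⟶ (EtCoh.bc f).obj A) (m' : A'' ⟶ (EtCoh.bc g).obj A') :
    (compMor g f b w m m').left ≫ pullback.fst A.hom b =
      m'.left ≫ pullback.fst A'.hom g ≫ m.left ≫ pullback.fst A.hom f :=
  pullback.lift_fst _ _ _

set_option backward.isDefEq.respectTransparency.types false in
/-- two-step pullback of sections in terms of `compMor`. -/
lemma pullSec_pullVia_compMor (F : EtDesc.Sh Y) {A : Y.Etale} {A' : X.Etale} {A'' : Z.Etale}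
    (m : A' ⟶ (EtCoh.bc f).obj A) (m' : A'' ⟶ (EtCoh.bc g).obj A') (s : F.obj.obj (op A)) :
    (EtDesc.pullVia g f b w F).hom.hom.app (op A'')
      (pullSec g ((EtDesc.pullSh f).obj F) m' (pullSec f F m s)) =
      pullSec b F (compMor g f b w m m') s :=
  pullSec_pullVia g f b w F m m' (compMor g f b w m m') (compMor_left_fst g f b w m m') s

set_option backward.isDefEq.respectTransparency.types false in
/-- morphisms into a base change are determined by their first projection. -/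
lemma hom_bc_ext {A : Y.Etale} {A'' : Z.Etale} (m₁ m₂ : A'' ⟶ (EtCoh.bc b).obj A)
    (h : m₁.left ≫ pullback.fst A.hom b = m₂.left ≫ pullback.fst A.hom b) : m₁ = m₂ := by
  apply MorphismProperty.Over.Hom.ext
  apply pullback.hom_ext h
  exact (MorphismProperty.Over.w m₁).trans (MorphismProperty.Over.w m₂).symm

end CompMor

section Local

variable {X S Y T : Scheme.{u}} (f : X ⟶ S) (g : T ⟶ S) (h : Y ⟶ X) (e : Y ⟶ T)
  (c : IsPullback e h g f) (F : EtDesc.Sh T)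
  {U' V₀ : Scheme.{u}} (j : U' ⟶ X) (jV : V₀ ⟶ S) (a : U' ⟶ V₀) (ha : a ≫ jV = j ≫ f)
  {T' Y' : Scheme.{u}} (g' : T' ⟶ V₀) (t : T' ⟶ T) (cT : IsPullback t g' g jV)
  (h' : Y' ⟶ U') (e' : Y' ⟶ T') (cY : IsPullback e' h' g' a)

include ha cT cY in
lemma jY_cond : (e' ≫ t) ≫ g = (h' ≫ j) ≫ f :=
  (Category.assoc _ _ _).trans ((e' ≫= cT.w).trans ((Category.assoc _ _ _).symm.trans
    ((cY.w =≫ jV).trans ((Category.assoc _ _ _).trans ((h' ≫= ha).trans
      (Category.assoc _ _ _).symm)))))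

/-- the induced morphism `Y' ⟶ Y`. -/
noncomputable def jY : Y' ⟶ Y :=
  c.lift (e' ≫ t) (h' ≫ j) (jY_cond f g j jV a ha g' t cT h' e' cY)

lemma jY_e : jY f g h e c j jV a ha g' t cT h' e' cY ≫ e = e' ≫ t := c.lift_fst _ _ _

lemma jY_h : jY f g h e c j jV a ha g' t cT h' e' cY ≫ h = h' ≫ j := c.lift_snd _ _ _

lemma isPullback_jY : IsPullback (jY f g h e c j jV a ha g' t cT h' e' cY) h' h j := by
  have big : IsPullback (e' ≫ t) h' g (a ≫ jV) := cY.paste_horiz cT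
  have big' : IsPullback (jY f g h e c j jV a ha g' t cT h' e' cY ≫ e) h' g (j ≫ f) := by
    rw [jY_e, ← ha]
    exact big
  exact IsPullback.of_right big' (jY_h f g h e c j jV a ha g' t cT h' e' cY) c

end Local

section Star

variable {X S Y T : Scheme.{u}} (f : X ⟶ S) (g : T ⟶ S) (h : Y ⟶ X) (e : Y ⟶ T)
  (w : e ≫ g = h ≫ f) (F : EtDesc.Sh T)
  {U' V₀ : Scheme.{u}} (j : U' ⟶ X) (jV : V₀ ⟶ S) (a : U' ⟶ V₀) (ha : a ≫ jV = j ≫ f)
  {T' Y' : Scheme.{u}} (g' : T' ⟶ V₀) (t : T' ⟶ T) (wT : t ≫ g = g' ≫ jV)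
  (h' : Y' ⟶ U') (e' : Y' ⟶ T') (wY : e' ≫ g' = h' ≫ a)
  (jy : Y' ⟶ Y) (hje : jy ≫ e = e' ≫ t) (hjh : jy ≫ h = h' ≫ j)

include ha in
lemma nmap_cond₁ (V' : S.Etale) :
    (pullback.fst ((EtCoh.bc f).obj V').hom j ≫ pullback.fst V'.hom f) ≫ V'.hom =
      (pullback.snd ((EtCoh.bc f).obj V').hom j ≫ a) ≫ jV := by
  have c1 : pullback.fst V'.hom f ≫ V'.hom = pullback.snd V'.hom f ≫ f := pullback.condition
  have c2 : pullback.fst ((EtCoh.bc f).obj V').hom j ≫ pullback.snd V'.hom f =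
      pullback.snd ((EtCoh.bc f).obj V').hom j ≫ j := pullback.condition
  exact (Category.assoc _ _ _).trans ((_ ≫= c1).trans ((Category.assoc _ _ _).symm.trans
    ((c2 =≫ f).trans ((Category.assoc _ _ _).trans ((_ ≫= ha.symm).trans
      (Category.assoc _ _ _).symm)))))

set_option backward.isDefEq.respectTransparency.types false in
/-- the canonical comparison `(V' ×_S X) ×_X U ⟶ (V' ×_S V) ×_V U`. -/
noncomputable def nmap (V' : S.Etale) :
    (EtCoh.bc j).obj ((EtCoh.bc f).obj V') ⟶ (EtCoh.bc a).obj ((EtCoh.bc jV).obj V') :=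
  MorphismProperty.Over.homMk
    (pullback.lift
      (pullback.lift (pullback.fst ((EtCoh.bc f).obj V').hom j ≫ pullback.fst V'.hom f)
        (pullback.snd ((EtCoh.bc f).obj V').hom j ≫ a) (nmap_cond₁ f j jV a ha V'))
      (pullback.snd ((EtCoh.bc f).obj V').hom j) (pullback.lift_snd _ _ _))
    (pullback.lift_snd _ _ _) trivial

set_option backward.isDefEq.respectTransparency.types false in
lemma nmap_left_fst_fst (V' : S.Etale) :
    (nmap f j jV a ha V').left ≫ pullback.fst ((EtCoh.bc jV).obj V').hom a ≫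
      pullback.fst V'.hom jV =
    pullback.fst ((EtCoh.bc f).obj V').hom j ≫ pullback.fst V'.hom f := by
  have e1 : (nmap f j jV a ha V').left ≫ pullback.fst ((EtCoh.bc jV).obj V').hom a =
      pullback.lift (pullback.fst ((EtCoh.bc f).obj V').hom j ≫ pullback.fst V'.hom f)
        (pullback.snd ((EtCoh.bc f).obj V').hom j ≫ a) (nmap_cond₁ f j jV a ha V') :=
    pullback.lift_fst _ _ _
  exact (Category.assoc _ _ _).symm.trans ((e1 =≫ _).trans (pullback.lift_fst _ _ _))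

set_option backward.isDefEq.respectTransparency.types false in
lemma star_L1 (V' : S.Etale) (σ : ((EtDesc.pushSh g).obj F).obj.obj (op V')) :
    ((EtDesc.pullSh j).map (EtBC.baseChange0Sh g f h e w F)).hom.app
      (op ((EtCoh.bc j).obj ((EtCoh.bc f).obj V')))
      (((EtDesc.adjSh j).unit.app ((EtDesc.pullSh f).obj ((EtDesc.pushSh g).obj F))).hom.app
        (op ((EtCoh.bc f).obj V'))
        (((EtDesc.adjSh f).unit.app ((EtDesc.pushSh g).obj F)).hom.app (op V') σ)) =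
      ((EtDesc.adjSh j).unit.app ((EtDesc.pushSh h).obj ((EtDesc.pullSh e).obj F))).hom.app
        (op ((EtCoh.bc f).obj V')) (pullSec e F (κ g f h e w V') σ) := by
  have n1 := pullSec_naturality j (EtBC.baseChange0Sh g f h e w F) (𝟙 _)
    (((EtDesc.adjSh f).unit.app ((EtDesc.pushSh g).obj F)).hom.app (op V') σ)
  rw [pullSec_id, pullSec_id] at n1
  refine n1.trans ?_
  exact congrArg (((EtDesc.adjSh j).unit.app
      ((EtDesc.pushSh h).obj ((EtDesc.pullSh e).obj F))).hom.app (op ((EtCoh.bc f).obj V')))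
    (Groth.Agent.Lib.T2H8ShBC.baseChange0_unit_apply g f h e w F V' σ)

set_option backward.isDefEq.respectTransparency.types false in
lemma star_L (V' : S.Etale) (σ : ((EtDesc.pushSh g).obj F).obj.obj (op V')) :
    ((EtDesc.pullSh j).map (EtBC.baseChange0Sh g f h e w F) ≫
      EtBC.baseChange0Sh h j h' jy hjh ((EtDesc.pullSh e).obj F) ≫
      (EtDesc.pushSh h').map (EtDesc.pullVia jy e (jy ≫ e) rfl F).hom).hom.app
        (op ((EtCoh.bc j).obj ((EtCoh.bc f).obj V')))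
      (((EtDesc.adjSh j).unit.app ((EtDesc.pullSh f).obj ((EtDesc.pushSh g).obj F))).hom.app
        (op ((EtCoh.bc f).obj V'))
        (((EtDesc.adjSh f).unit.app ((EtDesc.pushSh g).obj F)).hom.app (op V') σ)) =
      pullSec (jy ≫ e) F (compMor jy e (jy ≫ e) rfl (κ g f h e w V')
        (κ h j h' jy hjh ((EtCoh.bc f).obj V'))) σ := by
  let M := (EtCoh.bc f).obj V'
  let κ₁ := κ g f h e w V'
  let κ₂ := κ h j h' jy hjh M
  have L1 := star_L1 f g h e w F j V' σ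
  have L3 : (EtBC.baseChange0Sh h j h' jy hjh ((EtDesc.pullSh e).obj F)).hom.app
      (op ((EtCoh.bc j).obj M))
      (((EtDesc.adjSh j).unit.app _).hom.app (op M) (pullSec e F κ₁ σ)) =
      pullSec jy ((EtDesc.pullSh e).obj F) κ₂ (pullSec e F κ₁ σ) :=
    Groth.Agent.Lib.T2H8ShBC.baseChange0_unit_apply h j h' jy hjh
      ((EtDesc.pullSh e).obj F) M (pullSec e F κ₁ σ)
  have L4 := pullSec_pullVia_compMor jy e (jy ≫ e) rfl F κ₁ κ₂ σ
  refine Eq.trans ?_ L4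
  refine Eq.trans ?_ (congrArg (fun y => (EtDesc.pullVia jy e (jy ≫ e) rfl F).hom.hom.app
        (op ((EtCoh.bc h').obj ((EtCoh.bc j).obj M))) y) L3)
  exact congrArg (fun y => (EtDesc.pullVia jy e (jy ≫ e) rfl F).hom.hom.app
        (op ((EtCoh.bc h').obj ((EtCoh.bc j).obj M)))
        ((EtBC.baseChange0Sh h j h' jy hjh ((EtDesc.pullSh e).obj F)).hom.app
          (op ((EtCoh.bc j).obj M)) y)) L1

set_option backward.isDefEq.respectTransparency.types false in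
lemma star_R1 (V' : S.Etale) (σ : ((EtDesc.pushSh g).obj F).obj.obj (op V')) :
    (EtDesc.pullVia j f (j ≫ f) rfl ((EtDesc.pushSh g).obj F)).hom.hom.app
      (op ((EtCoh.bc j).obj ((EtCoh.bc f).obj V')))
      (((EtDesc.adjSh j).unit.app ((EtDesc.pullSh f).obj ((EtDesc.pushSh g).obj F))).hom.app
        (op ((EtCoh.bc f).obj V'))
        (((EtDesc.adjSh f).unit.app ((EtDesc.pushSh g).obj F)).hom.app (op V') σ)) =
      pullSec (j ≫ f) ((EtDesc.pushSh g).obj F)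
        (compMor j f (j ≫ f) rfl (𝟙 ((EtCoh.bc f).obj V'))
          (𝟙 ((EtCoh.bc j).obj ((EtCoh.bc f).obj V')))) σ := by
  have := pullSec_pullVia_compMor j f (j ≫ f) rfl ((EtDesc.pushSh g).obj F)
    (𝟙 ((EtCoh.bc f).obj V')) (𝟙 ((EtCoh.bc j).obj ((EtCoh.bc f).obj V'))) σ
  rw [pullSec_id, pullSec_id] at this
  exact this

set_option backward.isDefEq.respectTransparency.types false in
lemma id_left_comp {Z : Scheme.{u}} (A : Z.Etale) {W : Scheme.{u}} (k : A.left ⟶ W) :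
    (𝟙 A : A ⟶ A).left ≫ k = k := Category.id_comp k

set_option backward.isDefEq.respectTransparency.types false in
lemma nmap_compMor (V' : S.Etale) :
    compMor a jV (j ≫ f) ha (𝟙 ((EtCoh.bc jV).obj V')) (nmap f j jV a ha V') =
      compMor j f (j ≫ f) rfl (𝟙 ((EtCoh.bc f).obj V'))
        (𝟙 ((EtCoh.bc j).obj ((EtCoh.bc f).obj V'))) := by
  apply hom_bc_ext
  refine (compMor_left_fst a jV (j ≫ f) ha (𝟙 ((EtCoh.bc jV).obj V'))
    (nmap f j jV a ha V')).trans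
      (Eq.trans ?_ (compMor_left_fst j f (j ≫ f) rfl (𝟙 ((EtCoh.bc f).obj V'))
        (𝟙 ((EtCoh.bc j).obj ((EtCoh.bc f).obj V')))).symm)
  have e1 := nmap_left_fst_fst f j jV a ha V'
  let N' := (EtCoh.bc jV).obj V'
  let M := (EtCoh.bc f).obj V'
  let Q := (EtCoh.bc j).obj M
  have l1 : (nmap f j jV a ha V').left ≫ pullback.fst N'.hom a ≫
      (𝟙 N' : N' ⟶ N').left ≫ pullback.fst V'.hom jV =
      (nmap f j jV a ha V').left ≫ pullback.fst N'.hom a ≫ pullback.fst V'.hom jV :=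
    (nmap f j jV a ha V').left ≫= (pullback.fst N'.hom a ≫=
      id_left_comp N' (pullback.fst V'.hom jV))
  have r1 : (𝟙 Q : Q ⟶ Q).left ≫ pullback.fst M.hom j ≫
      (𝟙 M : M ⟶ M).left ≫ pullback.fst V'.hom f =
      pullback.fst M.hom j ≫ pullback.fst V'.hom f :=
    (id_left_comp Q _).trans (pullback.fst M.hom j ≫=
      id_left_comp M (pullback.fst V'.hom f))
  exact l1.trans (e1.trans r1.symm)

set_option backward.isDefEq.respectTransparency.types false in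
lemma star_R2' (V' : S.Etale) (σ : ((EtDesc.pushSh g).obj F).obj.obj (op V')) :
    (EtDesc.pullVia a jV (j ≫ f) ha ((EtDesc.pushSh g).obj F)).hom.hom.app
      (op ((EtCoh.bc j).obj ((EtCoh.bc f).obj V')))
      (pullSec a ((EtDesc.pullSh jV).obj ((EtDesc.pushSh g).obj F)) (nmap f j jV a ha V')
        (((EtDesc.adjSh jV).unit.app ((EtDesc.pushSh g).obj F)).hom.app (op V') σ)) =
      pullSec (j ≫ f) ((EtDesc.pushSh g).obj F)
        (compMor j f (j ≫ f) rfl (𝟙 ((EtCoh.bc f).obj V'))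
          (𝟙 ((EtCoh.bc j).obj ((EtCoh.bc f).obj V')))) σ := by
  have h1 := pullSec_pullVia_compMor a jV (j ≫ f) ha ((EtDesc.pushSh g).obj F)
    (𝟙 ((EtCoh.bc jV).obj V')) (nmap f j jV a ha V') σ
  rw [pullSec_id] at h1
  refine h1.trans ?_
  exact congrArg (fun m => pullSec (j ≫ f) ((EtDesc.pushSh g).obj F) m σ)
    (nmap_compMor f j jV a ha V')

set_option backward.isDefEq.respectTransparency.types false in
lemma star_R2 (V' : S.Etale) (σ : ((EtDesc.pushSh g).obj F).obj.obj (op V')) :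
    (EtDesc.pullVia a jV (j ≫ f) ha ((EtDesc.pushSh g).obj F)).inv.hom.app
      (op ((EtCoh.bc j).obj ((EtCoh.bc f).obj V')))
      (pullSec (j ≫ f) ((EtDesc.pushSh g).obj F)
        (compMor j f (j ≫ f) rfl (𝟙 ((EtCoh.bc f).obj V'))
          (𝟙 ((EtCoh.bc j).obj ((EtCoh.bc f).obj V')))) σ) =
      pullSec a ((EtDesc.pullSh jV).obj ((EtDesc.pushSh g).obj F)) (nmap f j jV a ha V')
        (((EtDesc.adjSh jV).unit.app ((EtDesc.pushSh g).obj F)).hom.app (op V') σ) := by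
  have h1 := star_R2' f g F j jV a ha V' σ
  have h2 := congrArg ((EtDesc.pullVia a jV (j ≫ f) ha
    ((EtDesc.pushSh g).obj F)).inv.hom.app
      (op ((EtCoh.bc j).obj ((EtCoh.bc f).obj V')))) h1
  refine h2.symm.trans ?_
  exact sheaf_iso_inv_hom_apply
    (EtDesc.pullVia a jV (j ≫ f) ha ((EtDesc.pushSh g).obj F)) _ _

set_option backward.isDefEq.respectTransparency.types false in
lemma star_R3 (V' : S.Etale) (σ : ((EtDesc.pushSh g).obj F).obj.obj (op V')) :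
    ((EtDesc.pullSh a).map (EtBC.baseChange0Sh g jV g' t wT F)).hom.app
      (op ((EtCoh.bc j).obj ((EtCoh.bc f).obj V')))
      (pullSec a ((EtDesc.pullSh jV).obj ((EtDesc.pushSh g).obj F)) (nmap f j jV a ha V')
        (((EtDesc.adjSh jV).unit.app ((EtDesc.pushSh g).obj F)).hom.app (op V') σ)) =
      pullSec a ((EtDesc.pushSh g').obj ((EtDesc.pullSh t).obj F)) (nmap f j jV a ha V')
        (pullSec t F (κ g jV g' t wT V') σ) := by
  have n1 := pullSec_naturality a (EtBC.baseChange0Sh g jV g' t wT F) (nmap f j jV a ha V')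
    (((EtDesc.adjSh jV).unit.app ((EtDesc.pushSh g).obj F)).hom.app (op V') σ)
  refine n1.trans ?_
  exact congrArg (pullSec a ((EtDesc.pushSh g').obj ((EtDesc.pullSh t).obj F))
    (nmap f j jV a ha V'))
    (Groth.Agent.Lib.T2H8ShBC.baseChange0_unit_apply g jV g' t wT F V' σ)

set_option backward.isDefEq.respectTransparency.types false in
lemma star_R (V' : S.Etale) (σ : ((EtDesc.pushSh g).obj F).obj.obj (op V')) :
    ((EtDesc.pullVia j f (j ≫ f) rfl ((EtDesc.pushSh g).obj F)).hom ≫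
      (EtDesc.pullVia a jV (j ≫ f) ha ((EtDesc.pushSh g).obj F)).inv ≫
      (EtDesc.pullSh a).map (EtBC.baseChange0Sh g jV g' t wT F) ≫
      EtBC.baseChange0Sh g' a h' e' wY ((EtDesc.pullSh t).obj F) ≫
      (EtDesc.pushSh h').map (EtDesc.pullVia e' t (jy ≫ e) hje.symm F).hom).hom.app
        (op ((EtCoh.bc j).obj ((EtCoh.bc f).obj V')))
      (((EtDesc.adjSh j).unit.app ((EtDesc.pullSh f).obj ((EtDesc.pushSh g).obj F))).hom.app
        (op ((EtCoh.bc f).obj V'))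
        (((EtDesc.adjSh f).unit.app ((EtDesc.pushSh g).obj F)).hom.app (op V') σ)) =
      pullSec (jy ≫ e) F (compMor e' t (jy ≫ e) hje.symm (κ g jV g' t wT V')
        ((EtCoh.bc h').map (nmap f j jV a ha V') ≫
          κ g' a h' e' wY ((EtCoh.bc jV).obj V'))) σ := by
  let M := (EtCoh.bc f).obj V'
  let κ₃ := κ g jV g' t wT V'
  let n' := nmap f j jV a ha V'
  let κ₄ := κ g' a h' e' wY ((EtCoh.bc jV).obj V')
  let m₄ := (EtCoh.bc h').map n' ≫ κ₄
  have R1 := star_R1 f g F j V' σ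
  have R2 := star_R2 f g F j jV a ha V' σ
  have R3 := star_R3 f g F j jV a ha g' t wT V' σ
  have R4 : (EtBC.baseChange0Sh g' a h' e' wY ((EtDesc.pullSh t).obj F)).hom.app
      (op ((EtCoh.bc j).obj M)) (pullSec a _ n' (pullSec t F κ₃ σ)) =
      pullSec e' ((EtDesc.pullSh t).obj F) m₄ (pullSec t F κ₃ σ) :=
    baseChange0_pullSec a g' h' e' wY ((EtDesc.pullSh t).obj F) n' (pullSec t F κ₃ σ)
  have R5 := pullSec_pullVia_compMor e' t (jy ≫ e) hje.symm F κ₃ m₄ σ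
  exact sheaf_chain5 h' _ _ _ _ _ _ _ _ _ _ _ _ R1 R2 R3 R4 R5

set_option backward.isDefEq.respectTransparency.types false in
lemma compMor_eq (V' : S.Etale) :
    compMor jy e (jy ≫ e) rfl (κ g f h e w V') (κ h j h' jy hjh ((EtCoh.bc f).obj V')) =
    compMor e' t (jy ≫ e) hje.symm (κ g jV g' t wT V')
        ((EtCoh.bc h').map (nmap f j jV a ha V') ≫
          κ g' a h' e' wY ((EtCoh.bc jV).obj V')) := by
  let M := (EtCoh.bc f).obj V'
  let b := jy ≫ e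
  let κ₁ := κ g f h e w V'
  let κ₂ := κ h j h' jy hjh M
  let κ₃ := κ g jV g' t wT V'
  let n' := nmap f j jV a ha V'
  let κ₄ := κ g' a h' e' wY ((EtCoh.bc jV).obj V')
  let m₄ := (EtCoh.bc h').map n' ≫ κ₄
  apply hom_bc_ext
  refine (compMor_left_fst jy e b rfl κ₁ κ₂).trans
    (Eq.trans ?_ (compMor_left_fst e' t b hje.symm κ₃ m₄).symm)
  let N' := (EtCoh.bc jV).obj V'
  apply pullback.hom_ext
  · -- first components
    have hκ₁ := κ_left_fst_fst g f h e w V'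
    have hκ₂ := κ_left_fst_fst h j h' jy hjh M
    have hκ₃ := κ_left_fst_fst g jV g' t wT V'
    have hκ₄ := κ_left_fst_fst g' a h' e' wY N'
    have hb := bc_map_left_fst h' n'
    have hn := nmap_left_fst_fst f j jV a ha V'
    have l := chain2 κ₂.left (pullback.fst ((EtCoh.bc h).obj M).hom jy) κ₁.left
      (pullback.fst ((EtCoh.bc g).obj V').hom e) (pullback.fst V'.hom g)
      (pullback.fst M.hom h) (pullback.fst V'.hom f)
      (pullback.fst ((EtCoh.bc j).obj M).hom h') (pullback.fst M.hom j) hκ₁ hκ₂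
    have r := chain3 ((EtCoh.bc h').map n').left κ₄.left
      (pullback.fst ((EtCoh.bc g').obj N').hom e') κ₃.left
      (pullback.fst ((EtCoh.bc g).obj V').hom t) (pullback.fst V'.hom g)
      (pullback.fst N'.hom g') (pullback.fst V'.hom jV)
      (pullback.fst ((EtCoh.bc a).obj N').hom h') (pullback.fst N'.hom a)
      (pullback.fst ((EtCoh.bc j).obj M).hom h') n'.left
      (pullback.fst M.hom j) (pullback.fst V'.hom f) hκ₃ hκ₄ hb hn
    have l' : (κ₂.left ≫ pullback.fst ((EtCoh.bc h).obj M).hom jy ≫ κ₁.left ≫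
        pullback.fst ((EtCoh.bc g).obj V').hom e) ≫ pullback.fst V'.hom g =
        κ₂.left ≫ pullback.fst ((EtCoh.bc h).obj M).hom jy ≫ κ₁.left ≫
        pullback.fst ((EtCoh.bc g).obj V').hom e ≫ pullback.fst V'.hom g := by
      simp only [Category.assoc]
    have r' : (m₄.left ≫ pullback.fst ((EtCoh.bc g').obj N').hom e' ≫ κ₃.left ≫
        pullback.fst ((EtCoh.bc g).obj V').hom t) ≫ pullback.fst V'.hom g =
        (((EtCoh.bc h').map n').left ≫ κ₄.left) ≫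
          pullback.fst ((EtCoh.bc g').obj N').hom e' ≫ κ₃.left ≫
          pullback.fst ((EtCoh.bc g).obj V').hom t ≫ pullback.fst V'.hom g := by
      simp only [Category.assoc]
      rfl
    exact l'.trans (l.trans (r'.trans r).symm)
  · -- second components
    have c1 : pullback.fst ((EtCoh.bc g).obj V').hom e ≫ pullback.snd V'.hom g =
        pullback.snd ((EtCoh.bc g).obj V').hom e ≫ e := pullback.condition
    have w1 : κ₁.left ≫ pullback.snd ((EtCoh.bc g).obj V').hom e = ((EtCoh.bc h).obj M).hom :=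
      MorphismProperty.Over.w κ₁
    have c2 : pullback.fst ((EtCoh.bc h).obj M).hom jy ≫ ((EtCoh.bc h).obj M).hom =
        pullback.snd ((EtCoh.bc h).obj M).hom jy ≫ jy := pullback.condition
    have w2 : κ₂.left ≫ pullback.snd ((EtCoh.bc h).obj M).hom jy =
        ((EtCoh.bc h').obj ((EtCoh.bc j).obj M)).hom := MorphismProperty.Over.w κ₂
    have l := chainS κ₂.left (pullback.fst ((EtCoh.bc h).obj M).hom jy) κ₁.left
      (pullback.fst ((EtCoh.bc g).obj V').hom e) (pullback.snd V'.hom g)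
      (pullback.snd ((EtCoh.bc g).obj V').hom e) e ((EtCoh.bc h).obj M).hom
      (pullback.snd ((EtCoh.bc h).obj M).hom jy) jy _ c1 w1 c2 w2
    have c1' : pullback.fst ((EtCoh.bc g).obj V').hom t ≫ pullback.snd V'.hom g =
        pullback.snd ((EtCoh.bc g).obj V').hom t ≫ t := pullback.condition
    have w1' : κ₃.left ≫ pullback.snd ((EtCoh.bc g).obj V').hom t = ((EtCoh.bc g').obj N').hom :=
      MorphismProperty.Over.w κ₃
    have c2' : pullback.fst ((EtCoh.bc g').obj N').hom e' ≫ ((EtCoh.bc g').obj N').hom =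
        pullback.snd ((EtCoh.bc g').obj N').hom e' ≫ e' := pullback.condition
    have w2' : m₄.left ≫ pullback.snd ((EtCoh.bc g').obj N').hom e' =
        ((EtCoh.bc h').obj ((EtCoh.bc j).obj M)).hom := MorphismProperty.Over.w m₄
    have r := chainS m₄.left (pullback.fst ((EtCoh.bc g').obj N').hom e') κ₃.left
      (pullback.fst ((EtCoh.bc g).obj V').hom t) (pullback.snd V'.hom g)
      (pullback.snd ((EtCoh.bc g).obj V').hom t) t ((EtCoh.bc g').obj N').hom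
      (pullback.snd ((EtCoh.bc g').obj N').hom e') e' _ c1' w1' c2' w2'
    have l' : (κ₂.left ≫ pullback.fst ((EtCoh.bc h).obj M).hom jy ≫ κ₁.left ≫
        pullback.fst ((EtCoh.bc g).obj V').hom e) ≫ pullback.snd V'.hom g =
        κ₂.left ≫ pullback.fst ((EtCoh.bc h).obj M).hom jy ≫ κ₁.left ≫
        pullback.fst ((EtCoh.bc g).obj V').hom e ≫ pullback.snd V'.hom g := by
      simp only [Category.assoc]
    have r' : (m₄.left ≫ pullback.fst ((EtCoh.bc g').obj N').hom e' ≫ κ₃.left ≫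
        pullback.fst ((EtCoh.bc g).obj V').hom t) ≫ pullback.snd V'.hom g =
        m₄.left ≫ pullback.fst ((EtCoh.bc g').obj N').hom e' ≫ κ₃.left ≫
        pullback.fst ((EtCoh.bc g).obj V').hom t ≫ pullback.snd V'.hom g := by
      simp only [Category.assoc]
    refine l'.trans (l.trans (Eq.trans ?_ (r'.trans r).symm))
    exact _ ≫= hje

set_option backward.isDefEq.respectTransparency.types false in
/-- compatibility of the base change map with etale localization on `X` and `S`. -/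
theorem star :
    (EtDesc.pullSh j).map (EtBC.baseChange0Sh g f h e w F) ≫
      EtBC.baseChange0Sh h j h' jy hjh ((EtDesc.pullSh e).obj F) ≫
      (EtDesc.pushSh h').map (EtDesc.pullVia jy e (jy ≫ e) rfl F).hom =
    (EtDesc.pullVia j f (j ≫ f) rfl ((EtDesc.pushSh g).obj F)).hom ≫
      (EtDesc.pullVia a jV (j ≫ f) ha ((EtDesc.pushSh g).obj F)).inv ≫
      (EtDesc.pullSh a).map (EtBC.baseChange0Sh g jV g' t wT F) ≫
      EtBC.baseChange0Sh g' a h' e' wY ((EtDesc.pullSh t).obj F) ≫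
      (EtDesc.pushSh h').map (EtDesc.pullVia e' t (jy ≫ e) hje.symm F).hom := by
  apply pull_pull_hom_ext j f
  intro V' σ
  refine (star_L f g h e w F j h' jy hjh V' σ).trans
    (Eq.trans ?_ (star_R f g e F j jV a ha g' t wT h' e' wY jy hje V' σ).symm)
  exact congrArg (fun m => pullSec (jy ≫ e) F m σ)
    (compMor_eq f g h e w j jV a ha g' t wT h' e' wY jy hje hjh V')

end Star

end Groth.Agent.Lib.T2H8EtLocalBC2
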