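import Mathlib
import Groth.Prelude.Def_EtBCD
import Groth.Prelude.Def_SGA4b
import Groth.Agent.Lib.T2H8EtLocalBC2

set_option autoImplicit false
universe u
open CategoryTheory CategoryTheory.Limits AlgebraicGeometry Opposite

namespace Groth.Agent.Lib.T2H8EtLocalBC3

open Groth.Agent.Lib.T2H8Agree Groth.Agent.Lib.T2H8DescCore Groth.Agent.Lib.T2H8SecPull
open Groth.Agent.Lib.T2H8ShLoc Groth.Agent.Lib.T2H8PullSec Groth.Agent.Lib.T2H8RelConn
open Groth.Agent.Lib.T2H8FiniteBC Groth.Agent.Lib.Helper16.SmallEtale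
open Groth.Agent.Lib.T2H8FlatConnBC Groth.Agent.Lib.T2H8EtLocalBC Groth.Agent.Lib.T2H8EtLocalBC2

section Local

variable {X S Y T : Scheme.{u}} (f : X ⟶ S) (g : T ⟶ S) (h : Y ⟶ X) (e : Y ⟶ T)
  (c : IsPullback e h g f) (F : EtDesc.Sh T)
  {U' V₀ : Scheme.{u}} (j : U' ⟶ X) [Etale j] (jV : V₀ ⟶ S) [Etale jV] (a : U' ⟶ V₀)
  (ha : a ≫ jV = j ≫ f)
  {T' Y' : Scheme.{u}} (g' : T' ⟶ V₀) (t : T' ⟶ T) (cT : IsPullback t g' g jV)
  (h' : Y' ⟶ U') (e' : Y' ⟶ T') (cY : IsPullback e' h' g' a)

include ha cT in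
set_option backward.isDefEq.respectTransparency.types false in
/-- the base change map becomes an isomorphism after restriction to an etale `U' ⟶ X` if the
base change map of the local square is an isomorphism. -/
theorem isIso_pull_baseChange
    (hloc : IsIso (EtBC.baseChange0Sh g' a h' e' cY.w ((EtDesc.pullSh t).obj F))) :
    IsIso ((EtDesc.pullSh j).map (EtBC.baseChange0Sh g f h e c.w F)) := by
  let jy := jY f g h e c j jV a ha g' t cT h' e' cY
  have hje : jy ≫ e = e' ≫ t := jY_e f g h e c j jV a ha g' t cT h' e' cY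
  have hjh : jy ≫ h = h' ≫ j := jY_h f g h e c j jV a ha g' t cT h' e' cY
  have c₂ : IsPullback jy h' h j := isPullback_jY f g h e c j jV a ha g' t cT h' e' cY
  haveI : IsIso (EtBC.baseChange0Sh h j h' jy hjh ((EtDesc.pullSh e).obj F)) :=
    isIso_baseChange0Sh_of_etale h j h' jy c₂ ((EtDesc.pullSh e).obj F)
  haveI : IsIso (EtBC.baseChange0Sh g jV g' t cT.w F) :=
    isIso_baseChange0Sh_of_etale g jV g' t cT F
  haveI := hloc
  have st := Groth.Agent.Lib.T2H8EtLocalBC2.star f g h e c.w F j jV a ha g' t cT.w h' e' cY.w jy hje hjh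
  haveI : IsIso ((EtDesc.pullSh j).map (EtBC.baseChange0Sh g f h e c.w F) ≫
      EtBC.baseChange0Sh h j h' jy hjh ((EtDesc.pullSh e).obj F) ≫
      (EtDesc.pushSh h').map (EtDesc.pullVia jy e (jy ≫ e) rfl F).hom) := by
    rw [st]
    infer_instance
  exact IsIso.of_isIso_comp_right _
    (EtBC.baseChange0Sh h j h' jy hjh ((EtDesc.pullSh e).obj F) ≫
      (EtDesc.pushSh h').map (EtDesc.pullVia jy e (jy ≫ e) rfl F).hom)

end Local

section Cover

variable {X : Scheme.{u}}

set_option backward.isDefEq.respectTransparency.types false in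
lemma lam_naturality {V : Scheme.{u}} (j : V ⟶ X) [Etale j] {H H' : EtDesc.Sh X} (φ : H ⟶ H')
    (N : V.Etale) (s : H.obj.obj (op ((sh j).obj N))) :
    ((EtDesc.pullSh j).map φ).hom.app (op N) (lam j H N s) =
      lam j H' N (φ.hom.app (op ((sh j).obj N)) s) :=
  pullSec_naturality j φ ((adj j).unit.app N) s

set_option backward.isDefEq.respectTransparency.types false in
lemma bijective_of_isIso_pull {V : Scheme.{u}} (j : V ⟶ X) [Etale j] {H H' : EtDesc.Sh X}
    (φ : H ⟶ H') [IsIso ((EtDesc.pullSh j).map φ)] (N : V.Etale) :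
    Function.Bijective (φ.hom.app (op ((sh j).obj N))) := by
  have h1 : lam j H' N ∘ φ.hom.app (op ((sh j).obj N)) =
      ((EtDesc.pullSh j).map φ).hom.app (op N) ∘ lam j H N := by
    funext s
    exact (lam_naturality j φ N s).symm
  have h2 : Function.Bijective (((EtDesc.pullSh j).map φ).hom.app (op N) ∘ lam j H N) :=
    (bijective_app_of_isIso ((EtDesc.pullSh j).map φ) (op N)).comp (lam_bijective j H N)
  rw [← h1] at h2
  exact (Function.Bijective.of_comp_iff' (lam_bijective j H' N) _).mp h2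

set_option backward.isDefEq.respectTransparency.types false in
/-- a morphism of sheaves of sets which becomes an isomorphism on an etale covering is an
isomorphism. -/
theorem isIso_of_pull_cover {P Q : EtDesc.Sh X} (φ : P ⟶ Q) {ι : Type u} (U : ι → X.Etale)
    (hU : EtCoh.Covers U) (h : ∀ i, IsIso ((EtDesc.pullSh (U i).hom).map φ)) : IsIso φ := by
  apply isIso_of_locally_bijective
  intro W
  haveI : ∀ i, Etale (U i).hom := fun i => (U i).prop
  refine ⟨ι, fun i => (sh (U i).hom).obj ((EtCoh.bc (U i).hom).obj W),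
    fun i => (adj (U i).hom).counit.app W, ?_, ?_⟩
  · intro y
    obtain ⟨i, u, hu⟩ := hU (W.hom.base y)
    obtain ⟨z, hz₁, -⟩ := Scheme.Pullback.exists_preimage_pullback (f := W.hom)
      (g := (U i).hom) y u hu.symm
    exact ⟨i, z, hz₁⟩
  · intro i
    haveI := h i
    exact bijective_of_isIso_pull (U i).hom φ ((EtCoh.bc (U i).hom).obj W)

end Cover

section Main

set_option backward.isDefEq.respectTransparency.types false in
/-- the degree zero base change map for sheaves of sets is an isomorphism if it is so etale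
locally on `X` and `S`. -/
theorem isIso_baseChange0Sh_of_etale_local {X S Y T : Scheme.{u}} (f : X ⟶ S) (g : T ⟶ S)
    (h : Y ⟶ X) (e : Y ⟶ T) (c : IsPullback e h g f) (F : EtDesc.Sh T)
    {ι : Type u} (U : ι → X.Etale) (hU : EtCoh.Covers U) (V : ι → S.Etale)
    (a : ∀ i, (U i).left ⟶ (V i).left) (ha : ∀ i, a i ≫ (V i).hom = (U i).hom ≫ f)
    (Ti Yi : ι → Scheme.{u}) (gi : ∀ i, Ti i ⟶ (V i).left) (ti : ∀ i, Ti i ⟶ T)
    (cT : ∀ i, IsPullback (ti i) (gi i) g (V i).hom)
    (hi : ∀ i, Yi i ⟶ (U i).left) (ei : ∀ i, Yi i ⟶ Ti i)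
    (cY : ∀ i, IsPullback (ei i) (hi i) (gi i) (a i))
    (hloc : ∀ i, IsIso (EtBC.baseChange0Sh (gi i) (a i) (hi i) (ei i) (cY i).w
      ((EtDesc.pullSh (ti i)).obj F))) :
    IsIso (EtBC.baseChange0Sh g f h e c.w F) := by
  apply isIso_of_pull_cover _ U hU
  intro i
  haveI : Etale (U i).hom := (U i).prop
  haveI : Etale (V i).hom := (V i).prop
  exact isIso_pull_baseChange f g h e c F (U i).hom (V i).hom (a i) (ha i) (gi i) (ti i) (cT i)
    (hi i) (ei i) (cY i) (hloc i)

end Main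

end Groth.Agent.Lib.T2H8EtLocalBC3
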