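import Mathlib
import Groth.Agent.Lib.T2H8EtOrdA
import Groth.Agent.S2763

set_option autoImplicit false
set_option linter.style.haveILetI false
universe u

open CategoryTheory CategoryTheory.Limits AlgebraicGeometry MonoidalCategory
  CartesianMonoidalCategory MonObj GrpObj Opposite

namespace Groth.Agent.Lib.T2H8.EtOrd

theorem etale_pullback_snd_comp {X S T T' : Scheme.{u}} (f : X ⟶ S) (j : T ⟶ S) (t : T' ⟶ T)
    [Etale (pullback.snd f j)] : Etale (pullback.snd f (t ≫ j)) := by
  have e : (pullbackLeftPullbackSndIso f j t).hom ≫ pullback.snd f (t ≫ j) =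
      pullback.snd (pullback.snd f j) t := pullbackLeftPullbackSndIso_hom_snd f j t
  have h2 : pullback.snd f (t ≫ j) =
      (pullbackLeftPullbackSndIso f j t).inv ≫ pullback.snd (pullback.snd f j) t := by
    rw [← e, Iso.inv_hom_id_assoc]
  rw [h2]
  infer_instance

theorem etale_of_fibre_finrank_ne_zero {S : Scheme.{u}} (G : Over S) [GrpObj G]
    [LocallyQuasiFinite G.hom] [QuasiCompact G.hom] [Flat G.hom] [LocallyOfFinitePresentation G.hom]
    (h : ∀ (s : S) (x : ↥(Spec (S.residueField s))),
      ((pullback.snd G.hom (S.fromSpecResidueField s)).finrank x : S.residueField s) ≠ 0) :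
    Etale G.hom := by
  rw [Groth.Agent.S2763.result (𝟙 S) G.hom G.hom (Category.comp_id _)]
  intro s
  have hj : Etale (pullback.snd G.hom (S.fromSpecResidueField s)) := by
    let j := S.fromSpecResidueField s
    haveI : IsFinite (Red.bc j G).hom :=
      (inferInstance : IsFinite (G.hom.fiberToSpecResidueField s))
    haveI : Flat (Red.bc j G).hom := MorphismProperty.pullback_snd (P := @Flat) _ _ inferInstance
    haveI : LocallyOfFinitePresentation (Red.bc j G).hom :=
      MorphismProperty.pullback_snd (P := @LocallyOfFinitePresentation) _ _ inferInstance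
    refine etale_of_finrank_ne_zero (Red.bc j G) (fun x => ?_)
    let R := S.residueField s
    let φ : R ⟶ (Spec R).residueField x :=
      (Scheme.ΓSpecIso R).inv ≫ (Spec R).presheaf.germ ⊤ x trivial ≫ (Spec R).residue x
    exact natCast_ne_zero_of_ringHom φ.hom _ (h s x)
  have e : Scheme.Hom.fiberι (𝟙 S) s = pullback.snd (𝟙 S) (S.fromSpecResidueField s) ≫ S.fromSpecResidueField s := by
    have := pullback.condition (f := 𝟙 S) (g := S.fromSpecResidueField s)
    rw [Category.comp_id] at this
    exact this
  rw [e]
  exact etale_pullback_snd_comp G.hom (S.fromSpecResidueField s) _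

end Groth.Agent.Lib.T2H8.EtOrd
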