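import Mathlib
import Groth.Agent.Lib.T2H8EtZarB

/-!
# helper8: from vanishing of étale cohomology of affines to vanishing of Zariski cohomology of the
restriction (affine base)
-/

set_option autoImplicit false
set_option linter.unusedSectionVars false
set_option linter.style.haveILetI false
universe u
open CategoryTheory CategoryTheory.Limits AlgebraicGeometry Opposite Abelian TopologicalSpace

namespace Groth.Agent.Lib.T2H8.EtZarC
open Groth.Agent.Lib.Helper9.EtMV Groth.Agent.Lib.Helper9.EtPull Groth.Agent.Lib.T2H8.EtZarA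
open Groth.Agent.Lib.T2H8.EtZarB

variable (X : Scheme.{u})

theorem isIso_aug_top : IsIso (aug (EtCoh.top X)) := by
  apply isIso_of_coyoneda_map_bijective
  intro G
  have e : (zhEquiv (EtCoh.top X) G) ∘ (fun l : EtCoh.const X ℤ ⟶ G => aug (EtCoh.top X) ≫ l) =
      sec G := by
    funext l
    change zhEquiv (EtCoh.top X) G (aug (EtCoh.top X) ≫ l) = _
    rw [zhEquiv_aug_comp]
    have h : (EtCore.topIsTerminal X).from (EtCoh.top X) = 𝟙 _ :=
      (EtCore.topIsTerminal X).hom_ext _ _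
    rw [h, op_id, G.obj.map_id]
    rfl
  have h : Function.Bijective (sec G) := ⟨sec_injective G, sec_surjective G⟩
  rw [← e] at h
  exact (Function.Bijective.of_comp_iff' (zhEquiv (EtCoh.top X) G).bijective _).1 h

/-- the object `obj T.hom` is `T` -/
noncomputable def objIso (T : X.Etale) :
    haveI : AlgebraicGeometry.Etale T.hom := T.prop
    obj T.hom ≅ T :=
  haveI : AlgebraicGeometry.Etale T.hom := T.prop
  MorphismProperty.Over.isoMk (Iso.refl _) (by rfl)

noncomputable def zhIso {P Q : X.Etale} (e : P ≅ Q) : Zh P ≅ Zh Q :=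
  (presheafToSheaf X.smallEtaleTopology AddCommGrpCat.{u + 1}).mapIso
    (Functor.isoWhiskerRight (uliftYoneda.{u + 1}.mapIso e) AddCommGrpCat.free.{u + 1})

theorem ext_eq_zero_of_iso {A B F : EtCoh.Ab X} (e : A ≅ B) (n : ℕ)
    (h : ∀ x : Ext.{u + 1} B F n, x = 0) (x : Ext.{u + 1} A F n) : x = 0 := by
  have h1 : (Ext.mk₀ e.hom).comp ((Ext.mk₀ e.inv).comp x (zero_add n)) (zero_add n) = x := by
    rw [← Ext.comp_assoc (Ext.mk₀ e.hom) (Ext.mk₀ e.inv) x (add_zero 0) (zero_add n)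
      (by lia : 0 + 0 + n = n), Ext.mk₀_comp_mk₀, e.hom_inv_id, Ext.mk₀_id_comp]
  rw [← h1, h ((Ext.mk₀ e.inv).comp x (zero_add n)), Ext.comp_zero]

theorem affAcyc_of_H (G : EtCoh.Ab X)
    (hG : ∀ (T : X.Etale), IsAffine T.left → ∀ i : ℕ, 1 ≤ i →
      Subsingleton (EtCoh.H T.left ((EtCoh.pull T.hom).obj G) i)) : AffAcyc X G := by
  intro T hT i
  haveI : AlgebraicGeometry.Etale T.hom := T.prop
  haveI := Groth.Agent.Lib.Helper9.JContAll.jCont T.hom
  haveI := pull_preservesFiniteLimits_of_etale T.hom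
  apply ext_eq_zero_of_iso X (zhIso X (objIso X T).symm) (i + 1)
  intro x
  have hs : Subsingleton (EtCoh.H T.left ((EtCoh.pull T.hom).obj G) (i + 1)) :=
    hG T hT (i + 1) (by lia)
  exact (Phi T.hom G (i + 1)).injective (hs.elim _ _)

theorem subsingleton_H_of_affAcyc [IsAffine X] (G : EtCoh.Ab X) (hG : AffAcyc X G) (i : ℕ) :
    Subsingleton (EtCoh.H X G (i + 1)) := by
  haveI := isIso_aug_top X
  refine ⟨fun a b => ?_⟩
  have h0 : ∀ x : Ext.{u + 1} (EtCoh.const X ℤ) G (i + 1), x = 0 :=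
    ext_eq_zero_of_iso X (asIso (aug (EtCoh.top X))).symm (i + 1)
      (hG (EtCoh.top X) (inferInstanceAs (IsAffine X)) i)
  exact (h0 a).trans (h0 b).symm

theorem main [IsAffine X] [EtZar.ZarCont X] (G : EtCoh.Ab X)
    (hG : ∀ (T : X.Etale), IsAffine T.left → ∀ i : ℕ, 1 ≤ i →
      Subsingleton (EtCoh.H T.left ((EtCoh.pull T.hom).obj G) i))
    (i : ℕ) (hi : 1 ≤ i) :
    Subsingleton (EtZar.H ((EtZar.resZar X).obj G) i) := by
  obtain ⟨i, rfl⟩ : ∃ k, i = k + 1 := ⟨i - 1, by lia⟩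
  have hA := affAcyc_of_H X G hG
  obtain ⟨e⟩ := nonempty_H_resZar_of_affAcyc X G hA (i + 1)
  haveI := subsingleton_H_of_affAcyc X G hA i
  exact e.toEquiv.subsingleton

end Groth.Agent.Lib.T2H8.EtZarC
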