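import Mathlib
import Groth.Agent.Lib.T2H8EtZarD
import Groth.Agent.Lib.T2H8GaEtale

/-!
# helper8: étale cohomology of `G_a` is Zariski cohomology of its restriction
-/

set_option autoImplicit false
set_option linter.unusedSectionVars false
set_option linter.style.haveILetI false
universe u
open CategoryTheory CategoryTheory.Limits AlgebraicGeometry Opposite Abelian TopologicalSpace

attribute [-instance] Groth.Agent.Lib.T2H8.AdeqRestr.instAlgebraCarrierRC
  Groth.Agent.Lib.T2H8.AdeqRestr.instIsScalarTowerCarrierRC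

namespace Groth.Agent.Lib.T2H8.EtZarE
open Groth.Agent.Lib.T2H8.EtZarA Groth.Agent.Lib.T2H8.EtZarB
open Groth.Agent.Lib.Helper16.Flasque Groth.Agent.Lib.T2H8.Cartan Groth.Agent.Lib.T2H8.GaEtale

variable (X : Scheme.{u}) [EtZar.ZarCont X]

theorem epi_resZar (T : ShortComplex (EtCoh.Ab X)) (hT : T.ShortExact)
    (h1 : CechExact X.smallEtaleTopology (fun {_ _} f => Cov f) T.X₁) :
    Epi ((EtZar.resZar X).map T.g) := by
  suffices h : Sheaf.IsLocallySurjective ((EtZar.resZar X).map T.g) from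
    Sheaf.epi_of_isLocallySurjective _
  refine ⟨fun {U} s => ?_⟩
  intro x hx
  obtain ⟨_, ⟨V, hV : IsAffineOpen V, rfl⟩, hxV, hVU⟩ :=
    X.isBasis_affineOpens.exists_subset_of_mem_open hx U.2
  refine ⟨V, homOfLE hVU, ?_, hxV⟩
  have hsurj := surjB (J := X.smallEtaleTopology)
    (fun Y : X.Etale => IsAffine Y.left) (fun {_ _} f => Cov f)
    (fun f hf => cov_mem f hf)
    (fun Y hY {F F'} ψ s hT => href Y hY ψ s hT) T hT h1
    ((EtZar.zarToEt X).obj V) hV
  obtain ⟨t, ht⟩ := hsurj (T.X₃.obj.map ((EtZar.zarToEt X).map (homOfLE hVU)).op s)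
  exact ⟨t, ht⟩

theorem isZero_RresZar (F : EtCoh.Ab X)
    (hF : CechExact X.smallEtaleTopology (fun {_ _} f => Cov f) F) (n : ℕ) :
    IsZero (((EtZar.resZar X).rightDerived (n + 1)).obj F) :=
  rightDerived_vanish (EtZar.resZar X)
    (fun G' : EtCoh.Ab X => CechExact X.smallEtaleTopology (fun {_ _} f => Cov f) G')
    (fun I hI => by haveI := hI; exact cechExact_of_injective _ I)
    (fun T hT h1 h2 => cechExact_X₃ (fun Y : X.Etale => IsAffine Y.left) (fun {_ _} f => Cov f)
      (fun f hf n x => isAffine_Ux f hf n x) (fun f hf => cov_mem f hf)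
      (fun Y hY {F F'} ψ s hT => href Y hY ψ s hT) T hT h1 h2)
    (fun T hT h1 => epi_resZar X T hT h1) F hF n

theorem nonempty_H_resZar_Ga (p : ℕ) :
    Nonempty (EtZar.H ((EtZar.resZar X).obj (EtCoh.Ga X)) p ≃+ EtCoh.H X (EtCoh.Ga X) p) := by
  refine nonempty_H_resZar_of_acyclic X _ (fun q hq => ?_) p
  obtain ⟨q, rfl⟩ : ∃ k, q = k + 1 := ⟨q - 1, by lia⟩
  exact isZero_RresZar X _ cechExact_Ga q

end Groth.Agent.Lib.T2H8.EtZarE
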