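import Mathlib
import Groth.Agent.Lib.T2H8ULiftSheaf
import Groth.Agent.Lib.T2H8EtZarE
import Groth.Prelude.Def_Coh

set_option autoImplicit false
set_option linter.unusedSectionVars false
set_option linter.style.haveILetI false
universe u
open CategoryTheory CategoryTheory.Limits AlgebraicGeometry Opposite TopologicalSpace

attribute [-instance] Groth.Agent.Lib.T2H8.AdeqRestr.instAlgebraCarrierRC
  Groth.Agent.Lib.T2H8.AdeqRestr.instIsScalarTowerCarrierRC

namespace Groth.Agent.Lib.T2H8.EtZarF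
open Groth.Agent.Lib.T2H8.ULiftSheaf Groth.Agent.Lib.T2H8.ULiftFlasque

variable (X : Scheme.{u}) [EtZar.ZarCont X]

/-- componentwise comparison -/
noncomputable def gaEquiv (U : X.Opens) :
    (((EtZar.resZar X).obj (EtCoh.Ga X)).obj.obj (op U) : Type (u + 1)) ≃+
      (((L X.carrier).obj (Coh.toAb (Coh.structureModule X))).obj.obj (op U) : Type (u + 1)) :=
  (AddEquiv.ulift (α := Γ(U.toScheme, ⊤))).trans
    ((U.topIso.commRingCatIsoToRingEquiv.toAddEquiv).trans (AddEquiv.ulift (α := Γ(X, U))).symm)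

theorem gaEquiv_apply (U : X.Opens) (s : ULift.{u + 1} Γ(U.toScheme, ⊤)) :
    (gaEquiv X U s).down = U.topIso.hom.hom s.down := rfl

/-- the restriction of `G_a` to the Zariski site is the (universe-lifted) structure sheaf -/
noncomputable def gaIso : (EtZar.resZar X).obj (EtCoh.Ga X) ≅
    (L X.carrier).obj (Coh.toAb (Coh.structureModule X)) :=
  (fullyFaithfulSheafToPresheaf _ _).preimageIso
    (NatIso.ofComponents (fun U => (gaEquiv X U.unop).toAddCommGrpIso) (by
      intro U V i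
      ext s
      apply ULift.ext
      change (Scheme.Opens.topIso (unop V : X.Opens)).hom.hom
          ((X.homOfLE (leOfHom i.unop)).appTop.hom s.down) =
        (X.presheaf.map i).hom ((Scheme.Opens.topIso (unop U : X.Opens)).hom.hom s.down)
      rw [X.homOfLE_appTop]
      simp only [Scheme.Opens.topIso_hom]
      rw [← CommRingCat.comp_apply, ← CommRingCat.comp_apply]
      congr 2
      erw [← X.presheaf.map_comp, ← X.presheaf.map_comp]
      congr 1))

/-- `Ext` groups of isomorphic objects -/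
noncomputable def extCongrRight {𝒜 : Type*} [Category 𝒜] [Abelian 𝒜] [HasExt.{u + 1} 𝒜]
    (Z : 𝒜) {A B : 𝒜} (e : A ≅ B) (n : ℕ) :
    Abelian.Ext.{u + 1} Z A n ≃+ Abelian.Ext.{u + 1} Z B n where
  toFun x := x.comp (Abelian.Ext.mk₀ e.hom) (add_zero n)
  invFun y := y.comp (Abelian.Ext.mk₀ e.inv) (add_zero n)
  left_inv x := by
    simp only
    rw [Abelian.Ext.comp_assoc x (Abelian.Ext.mk₀ e.hom) (Abelian.Ext.mk₀ e.inv) (add_zero n)
      (add_zero 0) (by lia), Abelian.Ext.mk₀_comp_mk₀, e.hom_inv_id, Abelian.Ext.comp_mk₀_id]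
  right_inv y := by
    simp only
    rw [Abelian.Ext.comp_assoc y (Abelian.Ext.mk₀ e.inv) (Abelian.Ext.mk₀ e.hom) (add_zero n)
      (add_zero 0) (by lia), Abelian.Ext.mk₀_comp_mk₀, e.inv_hom_id, Abelian.Ext.comp_mk₀_id]
  map_add' x y := Abelian.Ext.add_comp _ _ _ _

omit [EtZar.ZarCont X] in
/-- étale cohomology of `G_a` is Zariski cohomology of the structure sheaf -/
theorem main (p : ℕ) :
    Nonempty (EtCoh.H X (EtCoh.Ga X) p ≃+ Coh.HH X (Coh.structureModule X) p) := by
  haveI := Groth.Agent.Lib.T2H8.EtZarD.zarCont X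
  obtain ⟨e1⟩ := Groth.Agent.Lib.T2H8.EtZarE.nonempty_H_resZar_Ga X p
  obtain ⟨e2⟩ := nonempty_H_L X.carrier (Coh.toAb (Coh.structureModule X)) p
  let e3 : EtZar.H ((EtZar.resZar X).obj (EtCoh.Ga X)) p ≃+
      Sheaf.H.{u + 1} ((L X.carrier).obj (Coh.toAb (Coh.structureModule X))) p :=
    extCongrRight _ (gaIso X) p
  exact ⟨e1.symm.trans (e3.trans e2)⟩

end Groth.Agent.Lib.T2H8.EtZarF
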