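import Mathlib
import Groth.Agent.Lib.T2H8ApproxPrimeB
import Groth.Agent.Lib.T2H8EtaleAtCpl

/-!
# Common étale neighbourhoods from an isomorphism of completions: ring level (helper8)
-/

set_option autoImplicit false
universe u

namespace Groth.Agent.Lib.T2H8.EtaleBoth

open IsLocalRing TensorProduct

/-- the local ring of `D'` at the kernel of `D' → Â → κ` is formally étale over `C₀` -/
theorem formallyEtale_of_cpl_congr {C₀ D₀ D' : Type u} [CommRing C₀] [CommRing D₀] [CommRing D']
    [IsNoetherianRing C₀] [IsNoetherianRing D₀]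
    [Algebra D₀ D'] [Algebra.Etale D₀ D'] [Algebra C₀ D'] [Algebra.FinitePresentation C₀ D']
    (P : Ideal D₀) [P.IsPrime] (A : Type u) [CommRing A] [IsLocalRing A] [Algebra D₀ A]
    [IsLocalization.AtPrime A P] [IsNoetherianRing A]
    (Py : Ideal C₀) [Py.IsPrime] (B : Type u) [CommRing B] [IsLocalRing B] [Algebra C₀ B]
    [IsLocalization.AtPrime B Py] [IsNoetherianRing B]
    (φ : AdicCompletion (maximalIdeal B) B ≃+* AdicCompletion (maximalIdeal A) A)
    (ψ : D' →ₐ[D₀] AdicCompletion (maximalIdeal A) A) (k : ℕ) (hk : 2 ≤ k)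
    (hψ : ∀ t : C₀, AdicCompletion.evalₐ (maximalIdeal A) k (ψ (algebraMap C₀ D' t)) =
      AdicCompletion.evalₐ (maximalIdeal A) k
        (φ (algebraMap C₀ (AdicCompletion (maximalIdeal B) B) t)))
    (Q' : Ideal D') [Q'.IsPrime]
    (hQ' : ∀ d : D', d ∈ Q' ↔ ψ d ∈ maximalIdeal (AdicCompletion (maximalIdeal A) A))
    (A'' : Type u) [CommRing A''] [Algebra D' A''] [IsLocalization.AtPrime A'' Q']
    [Algebra C₀ A''] [IsScalarTower C₀ D' A''] :
    Algebra.FormallyEtale C₀ A'' := by
  classical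
  haveI : IsLocalRing A'' := IsLocalization.AtPrime.isLocalRing A'' Q'
  have hk1 : 1 ≤ k := le_trans (by norm_num) hk
  have hunitÂ : ∀ w : AdicCompletion (maximalIdeal A) A,
      w ∉ maximalIdeal (AdicCompletion (maximalIdeal A) A) → IsUnit w := by
    intro w hw
    by_contra h
    exact hw ((IsLocalRing.mem_maximalIdeal _).mpr h)
  -- `D₀ → A''`
  letI algD₀A'' : Algebra D₀ A'' := ((algebraMap D' A'').comp (algebraMap D₀ D')).toAlgebra
  haveI towD₀D'A'' : IsScalarTower D₀ D' A'' := IsScalarTower.of_algebraMap_eq (fun _ => rfl)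
  have hψD₀ : ∀ d : D₀, ψ (algebraMap D₀ D' d) =
      algebraMap A (AdicCompletion (maximalIdeal A) A) (algebraMap D₀ A d) := by
    intro d
    rw [AlgHom.commutes, ← IsScalarTower.algebraMap_apply]
  have hunitsP : ∀ s : P.primeCompl, IsUnit (algebraMap D₀ A'' s) := by
    intro s
    have h1 : algebraMap D₀ D' (s : D₀) ∉ Q' := by
      rw [hQ', hψD₀]
      intro hmem
      have h2 : IsUnit (algebraMap D₀ A (s : D₀)) := IsLocalization.map_units A s
      exact (IsLocalRing.mem_maximalIdeal _).mp hmem (h2.map _)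
    exact IsLocalization.map_units A'' (⟨algebraMap D₀ D' (s : D₀), h1⟩ : Q'.primeCompl)
  let β : A →+* A'' := IsLocalization.lift (M := P.primeCompl) (g := algebraMap D₀ A'') hunitsP
  letI algAA'' : Algebra A A'' := β.toAlgebra
  haveI towD₀AA'' : IsScalarTower D₀ A A'' :=
    IsScalarTower.of_algebraMap_eq (fun d => (IsLocalization.lift_eq hunitsP d).symm)
  -- `A'' → Â`
  have hunitsQ : ∀ s : Q'.primeCompl, IsUnit (ψ.toRingHom s) := by
    intro s
    apply hunitÂ
    intro hmem
    exact s.2 ((hQ' _).mpr hmem)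
  let γ₀ : A'' →+* AdicCompletion (maximalIdeal A) A :=
    IsLocalization.lift (M := Q'.primeCompl) (g := ψ.toRingHom) hunitsQ
  have hγ₀ : ∀ d : D', γ₀ (algebraMap D' A'' d) = ψ d := fun d =>
    IsLocalization.lift_eq hunitsQ d
  have hγ₀β : γ₀.comp (algebraMap A A'') = algebraMap A (AdicCompletion (maximalIdeal A) A) := by
    apply IsLocalization.ringHom_ext P.primeCompl
    refine RingHom.ext fun d => ?_
    show γ₀ (algebraMap A A'' (algebraMap D₀ A d)) = algebraMap A _ (algebraMap D₀ A d)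
    rw [← IsScalarTower.algebraMap_apply D₀ A A'', IsScalarTower.algebraMap_apply D₀ D' A'', hγ₀,
      hψD₀]
  let γ : A'' →ₐ[A] AdicCompletion (maximalIdeal A) A :=
    { γ₀ with commutes' := fun a => RingHom.congr_fun hγ₀β a }
  have hγ : ∀ d : D', γ (algebraMap D' A'' d) = ψ d := hγ₀
  -- `A''` is unramified over `A`
  haveI : Algebra.FormallyUnramified D' A'' :=
    Algebra.FormallyUnramified.of_isLocalization Q'.primeCompl
  haveI : Algebra.FormallyUnramified D₀ A'' := Algebra.FormallyUnramified.comp D₀ D' A''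
  haveI : Algebra.FormallyUnramified A A'' := Algebra.FormallyUnramified.of_restrictScalars D₀ A A''
  haveI : Algebra.EssFiniteType D' A'' := Algebra.EssFiniteType.of_isLocalization A'' Q'.primeCompl
  haveI : Algebra.EssFiniteType D₀ A'' := Algebra.EssFiniteType.comp D₀ D' A''
  haveI : Algebra.EssFiniteType A A'' := Algebra.EssFiniteType.of_comp D₀ A A''
  haveI : IsLocalHom (algebraMap A A'') := by
    constructor
    intro a ha
    have h1 : IsUnit (γ (algebraMap A A'' a)) := ha.map γ
    rw [AlgHom.commutes] at h1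
    exact isUnit_of_map_unit (algebraMap A (AdicCompletion (maximalIdeal A) A)) a h1
  -- `B → A''`
  have hφunit : ∀ t : C₀, t ∉ Py →
      IsUnit (φ (algebraMap C₀ (AdicCompletion (maximalIdeal B) B) t)) := by
    intro t ht
    have h1 : IsUnit (algebraMap C₀ B t) := IsLocalization.map_units B (⟨t, ht⟩ : Py.primeCompl)
    rw [IsScalarTower.algebraMap_apply C₀ B (AdicCompletion (maximalIdeal B) B)]
    exact (h1.map _).map φ
  have hunitsPy : ∀ s : Py.primeCompl, IsUnit (algebraMap C₀ A'' s) := by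
    intro s
    have h1 : algebraMap C₀ D' (s : C₀) ∉ Q' := by
      rw [hQ']
      intro hmem
      have h2 : IsUnit (ψ (algebraMap C₀ D' (s : C₀))) := by
        apply EtaleAtCpl.isUnit_of_isUnit_evalₐ k hk1
        rw [hψ]
        exact (hφunit s.1 s.2).map _
      exact (IsLocalRing.mem_maximalIdeal _).mp hmem h2
    rw [IsScalarTower.algebraMap_apply C₀ D' A'']
    exact IsLocalization.map_units A'' (⟨algebraMap C₀ D' (s : C₀), h1⟩ : Q'.primeCompl)
  let α : B →+* A'' := IsLocalization.lift (M := Py.primeCompl) (g := algebraMap C₀ A'') hunitsPy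
  letI algBA'' : Algebra B A'' := α.toAlgebra
  haveI towC₀BA'' : IsScalarTower C₀ B A'' :=
    IsScalarTower.of_algebraMap_eq (fun t => (IsLocalization.lift_eq hunitsPy t).symm)
  have hcong : ∀ b : B, AdicCompletion.evalₐ (maximalIdeal A) k (γ (algebraMap B A'' b)) =
      AdicCompletion.evalₐ (maximalIdeal A) k (φ (algebraMap B _ b)) := by
    have h1 : (AdicCompletion.evalₐ (maximalIdeal A) k).toRingHom.comp
          (γ.toRingHom.comp (algebraMap B A'')) =
        (AdicCompletion.evalₐ (maximalIdeal A) k).toRingHom.comp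
          (φ.toRingHom.comp (algebraMap B (AdicCompletion (maximalIdeal B) B))) := by
      apply IsLocalization.ringHom_ext Py.primeCompl
      refine RingHom.ext fun t => ?_
      show AdicCompletion.evalₐ (maximalIdeal A) k (γ (algebraMap B A'' (algebraMap C₀ B t))) =
        AdicCompletion.evalₐ (maximalIdeal A) k (φ (algebraMap B _ (algebraMap C₀ B t)))
      rw [← IsScalarTower.algebraMap_apply C₀ B A'', IsScalarTower.algebraMap_apply C₀ D' A'', hγ,
        ← IsScalarTower.algebraMap_apply C₀ B (AdicCompletion (maximalIdeal B) B)]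
      exact hψ t
    exact fun b => RingHom.congr_fun h1 b
  haveI : IsLocalHom (algebraMap B A'') := by
    constructor
    intro b hb
    have h1 : IsUnit (γ (algebraMap B A'' b)) := hb.map γ
    have h2 : IsUnit (φ (algebraMap B _ b)) := by
      apply EtaleAtCpl.isUnit_of_isUnit_evalₐ k hk1
      rw [← hcong]
      exact h1.map _
    have h3 : IsUnit (algebraMap B (AdicCompletion (maximalIdeal B) B) b) := by
      have := h2.map φ.symm
      rwa [RingEquiv.symm_apply_apply] at this
    exact isUnit_of_map_unit (algebraMap B (AdicCompletion (maximalIdeal B) B)) b h3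
  obtain ⟨hflat, hE2, hE3⟩ := EtaleAtCpl.flat_of_cpl_congr γ φ k hk hcong
  haveI := hflat
  have hQcomap : Q'.comap (algebraMap C₀ D') = Py := by
    ext t
    rw [Ideal.mem_comap, ← IsLocalization.AtPrime.to_map_mem_maximal_iff A'' Q',
      ← IsScalarTower.algebraMap_apply C₀ D' A'', IsScalarTower.algebraMap_apply C₀ B A'',
      ← IsLocalization.AtPrime.to_map_mem_maximal_iff B Py, ← Ideal.mem_comap,
      IsLocalRing.maximalIdeal_comap]
  exact EtaleAtCpl.formallyEtale_atPrime Py Q' hQcomap B A'' hE2 hE3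


/-- ring-level form of the common étale neighbourhood theorem -/
theorem main {R₀ D₀ C₀ : Type u} [CommRing R₀] [CommRing D₀] [CommRing C₀] [IsNoetherianRing R₀]
    (a₁ : R₀ →+* D₀) (a₂ : R₀ →+* C₀) (ha₁ : a₁.FiniteType) (ha₂ : a₂.FiniteType)
    (P : Ideal D₀) [P.IsPrime] (A : Type u) [CommRing A] [IsLocalRing A] [Algebra D₀ A]
    [IsLocalization.AtPrime A P] (hG : CAlg.IsGRing A)
    (Py : Ideal C₀) [Py.IsPrime] (B : Type u) [CommRing B] [IsLocalRing B] [Algebra C₀ B]
    [IsLocalization.AtPrime B Py]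
    (φ : AdicCompletion (maximalIdeal B) B ≃+* AdicCompletion (maximalIdeal A) A)
    (hφ : (φ.toRingHom.comp (algebraMap C₀ (AdicCompletion (maximalIdeal B) B))).comp a₂ =
      (algebraMap D₀ (AdicCompletion (maximalIdeal A) A)).comp a₁)
    (N : ℕ) :
    ∃ (D' : Type u) (_ : CommRing D') (_ : Algebra D₀ D') (_ : Algebra.Etale D₀ D')
      (σ₀ : C₀ →+* D') (ψ : D' →ₐ[D₀] AdicCompletion (maximalIdeal A) A),
      σ₀.comp a₂ = (algebraMap D₀ D').comp a₁ ∧ σ₀.Etale ∧
      ∀ t, AdicCompletion.evalₐ (maximalIdeal A) (N + 2) (ψ (σ₀ t)) =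
        AdicCompletion.evalₐ (maximalIdeal A) (N + 2) (φ (algebraMap C₀ _ t)) := by
  classical
  haveI : IsNoetherianRing A := hG.1
  haveI : IsNoetherianRing D₀ := by
    letI := a₁.toAlgebra
    haveI : Algebra.FiniteType R₀ D₀ := ha₁
    exact Algebra.FiniteType.isNoetherianRing R₀ D₀
  haveI : IsNoetherianRing C₀ := by
    letI := a₂.toAlgebra
    haveI : Algebra.FiniteType R₀ C₀ := ha₂
    exact Algebra.FiniteType.isNoetherianRing R₀ C₀
  haveI : IsNoetherianRing B := IsLocalization.isNoetherianRing Py.primeCompl B inferInstance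
  have ha₂' : a₂.FinitePresentation := RingHom.FinitePresentation.of_finiteType.mp ha₂
  let φ₀ : C₀ →+* AdicCompletion (maximalIdeal A) A :=
    φ.toRingHom.comp (algebraMap C₀ (AdicCompletion (maximalIdeal B) B))
  obtain ⟨D', _, _, hD', σ₀, ψ, hσ₀, hψ⟩ :=
    ApproxPrimeB.approx_etale_rel' a₁ a₂ ha₂' P A hG φ₀ hφ (N + 1)
  haveI := hD'
  letI algC₀D' : Algebra C₀ D' := σ₀.toAlgebra
  haveI : Algebra.FinitePresentation C₀ D' := by
    letI algR₀D₀ : Algebra R₀ D₀ := a₁.toAlgebra
    letI algR₀C₀ : Algebra R₀ C₀ := a₂.toAlgebra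
    letI algR₀D' : Algebra R₀ D' := ((algebraMap D₀ D').comp a₁).toAlgebra
    haveI : IsScalarTower R₀ D₀ D' := IsScalarTower.of_algebraMap_eq (fun _ => rfl)
    haveI : IsScalarTower R₀ C₀ D' :=
      IsScalarTower.of_algebraMap_eq (fun r => (RingHom.congr_fun hσ₀ r).symm)
    haveI : Algebra.FiniteType R₀ D₀ := ha₁
    haveI : Algebra.FiniteType R₀ D' := Algebra.FiniteType.trans (S := D₀) inferInstance inferInstance
    haveI : Algebra.FiniteType C₀ D' := Algebra.FiniteType.of_restrictScalars_finiteType R₀ C₀ D'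
    exact Algebra.FinitePresentation.of_finiteType.mp inferInstance
  obtain ⟨Q', hQ'def⟩ : ∃ Q' : Ideal D',
      Q' = (maximalIdeal (AdicCompletion (maximalIdeal A) A)).comap ψ.toRingHom := ⟨_, rfl⟩
  haveI hQ'prime : Q'.IsPrime := by
    rw [hQ'def]
    exact Ideal.comap_isPrime _ _
  have hQ'mem : ∀ d : D', d ∈ Q' ↔ ψ d ∈ maximalIdeal (AdicCompletion (maximalIdeal A) A) := by
    intro d
    rw [hQ'def]
    rfl
  haveI hEtAt : Algebra.IsEtaleAt C₀ Q' :=
    formallyEtale_of_cpl_congr P A Py B φ ψ (N + 2) (by omega) hψ Q' hQ'mem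
      (Localization.AtPrime Q')
  obtain ⟨g, hgQ, hgEt⟩ := Algebra.exists_etale_of_isEtaleAt (R := C₀) Q'
  have hψg : IsUnit (ψ g) := by
    by_contra hnu
    exact hgQ ((hQ'mem g).mpr ((IsLocalRing.mem_maximalIdeal _).mpr hnu))
  let ψ' : Localization.Away g →ₐ[D₀] AdicCompletion (maximalIdeal A) A :=
    IsLocalization.liftAlgHom (M := Submonoid.powers g) (f := ψ) (by
      rintro ⟨_, n, rfl⟩
      show IsUnit (ψ (g ^ n))
      rw [map_pow]
      exact hψg.pow n)
  have hψ' : ∀ d : D', ψ' (algebraMap D' (Localization.Away g) d) = ψ d := fun d =>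
    IsLocalization.lift_eq _ d
  haveI : Algebra.Etale D' (Localization.Away g) := Algebra.Etale.of_isLocalizationAway g
  haveI : Algebra.Etale D₀ (Localization.Away g) := Algebra.Etale.comp D₀ D' _
  refine ⟨Localization.Away g, inferInstance, inferInstance, inferInstance,
    (algebraMap D' (Localization.Away g)).comp σ₀, ψ', ?_, ?_, fun t => ?_⟩
  · rw [RingHom.comp_assoc, hσ₀, ← RingHom.comp_assoc, ← IsScalarTower.algebraMap_eq]
  · have h1 : (algebraMap C₀ (Localization.Away g)).Etale := RingHom.etale_algebraMap.mpr hgEt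
    rw [IsScalarTower.algebraMap_eq C₀ D' (Localization.Away g)] at h1
    exact h1
  · show AdicCompletion.evalₐ (maximalIdeal A) (N + 2)
      (ψ' (algebraMap D' (Localization.Away g) (σ₀ t))) = _
    rw [hψ']
    exact hψ t

end Groth.Agent.Lib.T2H8.EtaleBoth
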