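import Mathlib
import Groth.Prelude.Def_Exal2

/-!
# helper8: a `Λ`-trivial `A`-extension of `B` by a `C`-module is pulled back from `C`
-/

set_option autoImplicit false
set_option linter.unusedSectionVars false
universe u u' v

namespace Groth.Agent.Lib.T2H8.ExalTriv

open Exal

attribute [local instance] Exal.opModule Exal.isCentralScalar_opModule

variable {Λ : Type u} {A : Type u'} {B C L : Type v}
    [CommRing Λ] [CommRing A] [CommRing B] [CommRing C] [Algebra Λ A] [Algebra Λ B] [Algebra Λ C]
    [Algebra A B] [Algebra B C] [Algebra A C] [IsScalarTower Λ A B] [IsScalarTower Λ A C]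
    [IsScalarTower A B C]
    [AddCommGroup L] [Module C L] [Module B L] [IsScalarTower B C L]

section
variable (Y : Exal.Ext A B L) (s : B →+* Y.E) (hs : ∀ b, Y.proj (s b) = b)

include hs in
theorem proj_sub (a : A) : Y.proj (algebraMap A Y.E a - s (algebraMap A B a)) = 0 := by
  rw [map_sub, hs, AlgHom.commutes, sub_self]

/-- the derivation measuring the failure of `s` to be `A`-linear -/
noncomputable def D (a : A) : L :=
  Y.kerLift (algebraMap A Y.E a - s (algebraMap A B a)) (proj_sub Y s hs a)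

theorem incl_D (a : A) : Y.incl (D Y s hs a) = algebraMap A Y.E a - s (algebraMap A B a) :=
  Y.incl_kerLift _ _

theorem D_one : D Y s hs 1 = 0 := by
  apply Y.isExtension.incl_injective
  rw [incl_D, map_one, map_one, map_one, sub_self, map_zero]

theorem D_zero : D Y s hs 0 = 0 := by
  apply Y.isExtension.incl_injective
  rw [incl_D, map_zero, map_zero, map_zero, sub_self, map_zero]

theorem D_add (a b : A) : D Y s hs (a + b) = D Y s hs a + D Y s hs b := by
  apply Y.isExtension.incl_injective
  rw [map_add, incl_D, incl_D, incl_D, map_add, map_add, map_add]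
  ring

theorem D_mul (a b : A) : D Y s hs (a * b) =
    algebraMap A B a • D Y s hs b + algebraMap A B b • D Y s hs a := by
  apply Y.isExtension.incl_injective
  rw [map_add, incl_D]
  have h1 : Y.incl (algebraMap A B a • D Y s hs b) = algebraMap A Y.E a * Y.incl (D Y s hs b) := by
    rw [Y.isExtension.mul_incl, AlgHom.commutes]
  have h2 : Y.incl (algebraMap A B b • D Y s hs a) =
      s (algebraMap A B b) * Y.incl (D Y s hs a) := by
    rw [Y.isExtension.mul_incl, hs]
  rw [h1, h2, incl_D, incl_D, map_mul, map_mul, map_mul]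
  ring

/-- the ring map `A → C ⊕ L`, `a ↦ (a, D a)` -/
noncomputable def ρ : A →+* TrivSqZeroExt C L where
  toFun a := TrivSqZeroExt.inl (algebraMap A C a) + TrivSqZeroExt.inr (D Y s hs a)
  map_one' := by
    rw [map_one, D_one, TrivSqZeroExt.inr_zero, add_zero, TrivSqZeroExt.inl_one]
  map_mul' a b := by
    apply TrivSqZeroExt.ext
    · simp
    · simp only [TrivSqZeroExt.snd_add, TrivSqZeroExt.snd_inl, TrivSqZeroExt.snd_inr, zero_add,
        TrivSqZeroExt.snd_mul, TrivSqZeroExt.fst_add, TrivSqZeroExt.fst_inl, TrivSqZeroExt.fst_inr,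
        add_zero, op_smul_eq_smul]
      rw [D_mul, IsScalarTower.algebraMap_apply A B C a, IsScalarTower.algebraMap_apply A B C b,
        algebraMap_smul C (algebraMap A B a), algebraMap_smul C (algebraMap A B b)]
  map_zero' := by
    rw [map_zero, D_zero, TrivSqZeroExt.inl_zero, TrivSqZeroExt.inr_zero, add_zero]
  map_add' a b := by
    rw [map_add, D_add, TrivSqZeroExt.inl_add, TrivSqZeroExt.inr_add]
    abel

/-- the carrier of the extension of `C` -/
@[nolint unusedArguments]
def Car (_Y : Exal.Ext A B L) (_s : B →+* _Y.E) (_hs : ∀ b, _Y.proj (_s b) = b) : Type v :=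
  TrivSqZeroExt C L

instance : CommRing (Car (C := C) Y s hs) := inferInstanceAs (CommRing (TrivSqZeroExt C L))

noncomputable instance : Algebra A (Car (C := C) Y s hs) :=
  (ρ (C := C) Y s hs : A →+* Car (C := C) Y s hs).toAlgebra

theorem algebraMap_car (a : A) : algebraMap A (Car (C := C) Y s hs) a =
    (TrivSqZeroExt.inl (algebraMap A C a) + TrivSqZeroExt.inr (D Y s hs a) : TrivSqZeroExt C L) :=
  rfl

/-- the `A`-extension of `C` by `L` attached to `s` -/
noncomputable def X : Exal.Ext A C L where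
  E := Car (C := C) Y s hs
  proj :=
    { toFun := fun x => TrivSqZeroExt.fst (R := C) (M := L) x
      map_one' := TrivSqZeroExt.fst_one
      map_mul' := TrivSqZeroExt.fst_mul
      map_zero' := TrivSqZeroExt.fst_zero
      map_add' := TrivSqZeroExt.fst_add
      commutes' := fun x => by
        change TrivSqZeroExt.fst (TrivSqZeroExt.inl (algebraMap A C x) +
          TrivSqZeroExt.inr (D Y s hs x)) = _
        rw [TrivSqZeroExt.fst_add, TrivSqZeroExt.fst_inl, TrivSqZeroExt.fst_inr, add_zero] }
  incl := (TrivSqZeroExt.inrHom C L).toAddMonoidHom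
  isExtension :=
    { proj_surjective := fun c => ⟨TrivSqZeroExt.inl c, rfl⟩
      incl_injective := TrivSqZeroExt.inr_injective
      exact := fun x => by
        constructor
        · intro hx
          exact ⟨TrivSqZeroExt.snd (R := C) (M := L) x, TrivSqZeroExt.ext hx.symm rfl⟩
        · rintro ⟨z, rfl⟩
          rfl
      mul_incl := fun x z => by
        refine TrivSqZeroExt.ext ?_ ?_
        · change TrivSqZeroExt.fst (R := C) (M := L) x * 0 = 0
          exact mul_zero _
        · change TrivSqZeroExt.fst (R := C) (M := L) x • z +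
            MulOpposite.op (0 : C) • TrivSqZeroExt.snd (R := C) (M := L) x =
            TrivSqZeroExt.fst (R := C) (M := L) x • z
          rw [MulOpposite.op_zero, zero_smul, add_zero] }

theorem X_proj_apply (x : (X (C := C) Y s hs).E) :
    (X (C := C) Y s hs).proj x = TrivSqZeroExt.fst (R := C) (M := L) x := rfl

theorem X_incl_apply (z : L) :
    (X (C := C) Y s hs).incl z = (TrivSqZeroExt.inr z : TrivSqZeroExt C L) := rfl

/-- the comparison map from the pullback to `Y` -/
noncomputable def φ : ((X (C := C) Y s hs).pullback B).E →ₐ[A] Y.E where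
  toFun x := s x.1.2 + Y.incl (TrivSqZeroExt.snd (R := C) (M := L) x.1.1)
  map_one' := by
    change s 1 + Y.incl (TrivSqZeroExt.snd (R := C) (M := L) 1) = 1
    rw [map_one, TrivSqZeroExt.snd_one, map_zero, add_zero]
  map_mul' x y := by
    obtain ⟨⟨e, b⟩, hx⟩ := x
    obtain ⟨⟨e', b'⟩, hy⟩ := y
    have hx' : (X (C := C) Y s hs).proj e = algebraMap B C b := by
      simpa [Exal.Ext.fiberProd, AlgHom.mem_equalizer] using hx
    have hy' : (X (C := C) Y s hs).proj e' = algebraMap B C b' := by
      simpa [Exal.Ext.fiberProd, AlgHom.mem_equalizer] using hy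
    obtain ⟨f, hf⟩ : ∃ f : TrivSqZeroExt C L, f = e := ⟨e, rfl⟩
    obtain ⟨f', hf'⟩ : ∃ f' : TrivSqZeroExt C L, f' = e' := ⟨e', rfl⟩
    have hx'' : TrivSqZeroExt.fst f = algebraMap B C b := by rw [hf]; exact hx'
    have hy'' : TrivSqZeroExt.fst f' = algebraMap B C b' := by rw [hf']; exact hy'
    have h0 : ∀ z z' : L, Y.incl z * Y.incl z' = 0 := by
      intro z z'
      rw [Y.isExtension.mul_incl, (Y.isExtension.exact _).2 ⟨z, rfl⟩, zero_smul, map_zero]
    have goal : s (b * b') + Y.incl (TrivSqZeroExt.snd (f * f')) =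
      (s b + Y.incl (TrivSqZeroExt.snd f)) * (s b' + Y.incl (TrivSqZeroExt.snd f')) := by
      rw [TrivSqZeroExt.snd_mul, hx'', hy'', op_smul_eq_smul, algebraMap_smul C b,
        algebraMap_smul C b', map_add, map_mul, mul_add, add_mul, add_mul, h0, add_zero,
        ← hs b, ← Y.isExtension.mul_incl, hs b, ← hs b', ← Y.isExtension.mul_incl, hs b']
      ring
    rw [hf, hf'] at goal
    exact goal
  map_zero' := by
    change s 0 + Y.incl (TrivSqZeroExt.snd (R := C) (M := L) 0) = 0
    rw [map_zero, TrivSqZeroExt.snd_zero, map_zero, add_zero]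
  map_add' x y := by
    obtain ⟨⟨e, b⟩, hx⟩ := x
    obtain ⟨⟨e', b'⟩, hy⟩ := y
    obtain ⟨f, hf⟩ : ∃ f : TrivSqZeroExt C L, f = e := ⟨e, rfl⟩
    obtain ⟨f', hf'⟩ : ∃ f' : TrivSqZeroExt C L, f' = e' := ⟨e', rfl⟩
    have goal : s (b + b') + Y.incl (TrivSqZeroExt.snd (f + f')) =
      (s b + Y.incl (TrivSqZeroExt.snd f)) + (s b' + Y.incl (TrivSqZeroExt.snd f')) := by
      rw [map_add, TrivSqZeroExt.snd_add, map_add]
      abel
    rw [hf, hf'] at goal
    exact goal
  commutes' a := by
    change s (algebraMap A B a) + Y.incl (TrivSqZeroExt.snd (R := C) (M := L)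
      (TrivSqZeroExt.inl (algebraMap A C a) + TrivSqZeroExt.inr (D Y s hs a))) = _
    rw [TrivSqZeroExt.snd_add, TrivSqZeroExt.snd_inl, TrivSqZeroExt.snd_inr, zero_add, incl_D]
    abel

theorem φ_apply (x : ((X (C := C) Y s hs).pullback B).E) :
    φ (C := C) Y s hs x = s x.1.2 + Y.incl (TrivSqZeroExt.snd (R := C) (M := L) x.1.1) := rfl

theorem proj_φ (x : ((X (C := C) Y s hs).pullback B).E) :
    Y.proj (φ (C := C) Y s hs x) = ((X (C := C) Y s hs).pullback B).proj x := by
  rw [φ_apply, map_add, hs, (Y.isExtension.exact _).2 ⟨_, rfl⟩, add_zero]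
  rfl

theorem φ_bijective : Function.Bijective (φ (C := C) Y s hs) := by
  constructor
  · rw [injective_iff_map_eq_zero]
    intro x hx
    have h1 : ((X (C := C) Y s hs).pullback B).proj x = 0 := by
      rw [← proj_φ, hx, map_zero]
    obtain ⟨z, rfl⟩ := (((X (C := C) Y s hs).pullback B).isExtension.exact x).1 h1
    have h2 : φ (C := C) Y s hs (((X (C := C) Y s hs).pullback B).incl z) = Y.incl z := by
      rw [φ_apply]
      change s 0 + Y.incl (TrivSqZeroExt.snd (R := C) (M := L) (TrivSqZeroExt.inr z)) = _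
      rw [map_zero, zero_add, TrivSqZeroExt.snd_inr]
    rw [h2] at hx
    have : z = 0 := Y.isExtension.incl_injective (by rw [hx, map_zero])
    rw [this, map_zero]
  · intro y
    have hy : Y.proj (y - s (Y.proj y)) = 0 := by rw [map_sub, hs, sub_self]
    obtain ⟨z, hz⟩ := (Y.isExtension.exact _).1 hy
    refine ⟨⟨((TrivSqZeroExt.inl (algebraMap B C (Y.proj y)) + TrivSqZeroExt.inr z :
      TrivSqZeroExt C L), Y.proj y), ?_⟩, ?_⟩
    · change TrivSqZeroExt.fst (R := C) (M := L)
        (TrivSqZeroExt.inl (algebraMap B C (Y.proj y)) + TrivSqZeroExt.inr z) =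
        algebraMap B C (Y.proj y)
      rw [TrivSqZeroExt.fst_add, TrivSqZeroExt.fst_inl, TrivSqZeroExt.fst_inr, add_zero]
    · rw [φ_apply]
      change s (Y.proj y) + Y.incl (TrivSqZeroExt.snd (R := C) (M := L)
        (TrivSqZeroExt.inl (algebraMap B C (Y.proj y)) + TrivSqZeroExt.inr z)) = y
      rw [TrivSqZeroExt.snd_add, TrivSqZeroExt.snd_inl, TrivSqZeroExt.snd_inr, zero_add, hz]
      abel

/-- the pullback of `X` to `B` is equivalent to `Y` -/
noncomputable def equiv : ((X (C := C) Y s hs).pullback B).Equiv Y where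
  toAlgEquiv := AlgEquiv.ofBijective (φ (C := C) Y s hs) (φ_bijective Y s hs)
  proj_apply x := proj_φ Y s hs x
  apply_incl z := by
    change φ (C := C) Y s hs (((X (C := C) Y s hs).pullback B).incl z) = Y.incl z
    rw [φ_apply]
    change s 0 + Y.incl (TrivSqZeroExt.snd (R := C) (M := L) (TrivSqZeroExt.inr z)) = _
    rw [map_zero, zero_add, TrivSqZeroExt.snd_inr]

theorem D_algebraMap (hsΛ : ∀ l : Λ, s (algebraMap Λ B l) = algebraMap A Y.E (algebraMap Λ A l))
    (l : Λ) : D Y s hs (algebraMap Λ A l) = 0 := by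
  apply Y.isExtension.incl_injective
  rw [incl_D, ← IsScalarTower.algebraMap_apply Λ A B, hsΛ, sub_self, map_zero]

theorem X_isTrivialOver
    (hsΛ : ∀ l : Λ, s (algebraMap Λ B l) = algebraMap A Y.E (algebraMap Λ A l)) :
    (X (C := C) Y s hs).IsTrivialOver Λ := by
  refine ⟨{ toFun := fun c => (TrivSqZeroExt.inl c : TrivSqZeroExt C L)
            map_one' := TrivSqZeroExt.inl_one L
            map_mul' := fun c c' => TrivSqZeroExt.inl_mul L c c'
            map_zero' := TrivSqZeroExt.inl_zero L
            map_add' := fun c c' => TrivSqZeroExt.inl_add L c c'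
            commutes' := fun l => ?_ }, fun c => rfl⟩
  change (TrivSqZeroExt.inl (algebraMap Λ C l) : TrivSqZeroExt C L) =
    (TrivSqZeroExt.inl (algebraMap A C (algebraMap Λ A l)) +
      TrivSqZeroExt.inr (D Y s hs (algebraMap Λ A l)) : TrivSqZeroExt C L)
  rw [D_algebraMap Y s hs hsΛ, TrivSqZeroExt.inr_zero, add_zero,
    ← IsScalarTower.algebraMap_apply Λ A C]

end

theorem main (Y : Exal.Ext A B L) (hY : Y.IsTrivialOver Λ) :
    ∃ X : Exal.Ext A C L, X.IsTrivialOver Λ ∧ Nonempty ((X.pullback B).Equiv Y) := by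
  obtain ⟨s', hs'⟩ := hY
  let s : B →+* Y.E := s'.toRingHom
  have hs : ∀ b, Y.proj (s b) = b := hs'
  have hsΛ : ∀ l : Λ, s (algebraMap Λ B l) = algebraMap A Y.E (algebraMap Λ A l) :=
    fun l => s'.commutes l
  exact ⟨X (C := C) Y s hs, X_isTrivialOver Y s hs hsΛ, ⟨equiv Y s hs⟩⟩

end Groth.Agent.Lib.T2H8.ExalTriv
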