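import Mathlib
import Groth.Prelude.Def_EtShriek2
import Groth.Agent.Lib.Helper9ExtZero

set_option autoImplicit false
set_option linter.unusedSectionVars false
set_option linter.style.haveILetI false
universe u
open CategoryTheory CategoryTheory.Limits Opposite AlgebraicGeometry

namespace Groth.Agent.Lib.T2H8.ExtZeroExplicit
open Groth.Agent.Lib.Helper9.ExtZero

variable {U X : Scheme.{u}} (j : U ⟶ X) [hj : Etale j]

/-- `U` as an object of the small étale site of `X` -/
noncomputable abbrev X₀ : X.Etale := MorphismProperty.Over.mk ⊤ j hj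

/-- an étale `X`-scheme with a map to `U` over `X`, as an étale `U`-scheme -/
noncomputable def lamObj (Y : Over (X₀ j)) : U.Etale :=
  MorphismProperty.Over.mk ⊤ Y.hom.left (inferInstanceAs (Etale Y.hom.left))

@[simp] lemma lamObj_left (Y : Over (X₀ j)) : (lamObj j Y).left = Y.left.left := rfl
@[simp] lemma lamObj_hom (Y : Over (X₀ j)) : (lamObj j Y).hom = Y.hom.left := rfl

noncomputable def lam : Over (X₀ j) ⥤ U.Etale where
  obj Y := lamObj j Y
  map {Y Y'} m := MorphismProperty.Over.homMk m.left.left (by
    have := congrArg (fun k => k.left) (Over.w m)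
    exact this)
  map_id Y := by
    apply MorphismProperty.Over.Hom.ext
    rfl
  map_comp m m' := by
    apply MorphismProperty.Over.Hom.ext
    rfl

@[simp] lemma lam_map_left {Y Y' : Over (X₀ j)} (m : Y ⟶ Y') :
    ((lam j).map m).left = m.left.left := rfl

noncomputable def kap : U.Etale ⥤ Over (X₀ j) where
  obj V := Over.mk (MorphismProperty.Over.homMk V.hom rfl :
    (EtShriek.compEtale j).obj V ⟶ X₀ j)
  map {V V'} g := Over.homMk ((EtShriek.compEtale j).map g) (by
    apply MorphismProperty.Over.Hom.ext
    exact MorphismProperty.Over.w g)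
  map_id V := by
    apply Over.OverMorphism.ext
    exact (EtShriek.compEtale j).map_id V
  map_comp g g' := by
    apply Over.OverMorphism.ext
    exact (EtShriek.compEtale j).map_comp g g'


/-- the unit iso -/
noncomputable def unitIso : 𝟭 (Over (X₀ j)) ≅ lam j ⋙ kap j :=
  NatIso.ofComponents
    (fun Y => Over.isoMk (MorphismProperty.Over.isoMk (Iso.refl _) (by
        have := MorphismProperty.Over.w Y.hom
        change 𝟙 _ ≫ Y.hom.left ≫ j = Y.left.hom
        rw [Category.id_comp]
        exact this)) (by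
        apply MorphismProperty.Over.Hom.ext
        change 𝟙 _ ≫ Y.hom.left = Y.hom.left
        exact Category.id_comp _))
    (fun {Y Y'} m => by
      apply Over.OverMorphism.ext
      apply MorphismProperty.Over.Hom.ext
      change m.left.left ≫ 𝟙 _ = 𝟙 _ ≫ m.left.left
      rw [Category.id_comp, Category.comp_id])

/-- the counit iso -/
noncomputable def counitIso : kap j ⋙ lam j ≅ 𝟭 U.Etale :=
  NatIso.ofComponents
    (fun V => MorphismProperty.Over.isoMk (Iso.refl _) (by
      change 𝟙 _ ≫ V.hom = V.hom
      exact Category.id_comp _))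
    (fun {V V'} g => by
      apply MorphismProperty.Over.Hom.ext
      change g.left ≫ 𝟙 _ = 𝟙 _ ≫ g.left
      rw [Category.id_comp, Category.comp_id])

/-- the equivalence between étale `X`-schemes over `U` and étale `U`-schemes -/
noncomputable def eqv : Over (X₀ j) ≌ U.Etale :=
  CategoryTheory.Equivalence.mk (lam j) (kap j) (unitIso j) (counitIso j)

/-- `kap` followed by the forgetful functor is `compEtale` -/
noncomputable def kapForget : kap j ⋙ Over.forget (X₀ j) ≅ EtShriek.compEtale j :=
  NatIso.ofComponents (fun V => Iso.refl _) (fun {V V'} g => by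
    change (EtShriek.compEtale j).map g ≫ 𝟙 _ = 𝟙 _ ≫ (EtShriek.compEtale j).map g
    rw [Category.id_comp, Category.comp_id])


/-- explicit extension by zero of abelian presheaves along `compEtale j` -/
noncomputable def Epre : (U.Etaleᵒᵖ ⥤ AddCommGrpCat.{u + 1}) ⥤ (X.Etaleᵒᵖ ⥤ AddCommGrpCat.{u + 1}) :=
  (Functor.whiskeringLeft _ _ AddCommGrpCat.{u + 1}).obj (lam j).op ⋙ extZero.{u + 1} (X₀ j)

/-- the right adjoint, rewritten -/
noncomputable def rightIso :
    (Functor.whiskeringLeft _ _ AddCommGrpCat.{u + 1}).obj (Over.forget (X₀ j)).op ⋙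
      (Functor.whiskeringLeft _ _ AddCommGrpCat.{u + 1}).obj (kap j).op ≅
    (Functor.whiskeringLeft _ _ AddCommGrpCat.{u + 1}).obj (EtShriek.compEtale j).op :=
  NatIso.ofComponents (fun Q => NatIso.ofComponents (fun V => Iso.refl _)
    (fun {V V'} g => by
      change Q.map _ ≫ 𝟙 _ = 𝟙 _ ≫ Q.map _
      rw [Category.id_comp, Category.comp_id]
      rfl))
    (fun {Q Q'} α => by
      apply NatTrans.ext
      funext V
      change α.app _ ≫ 𝟙 _ = 𝟙 _ ≫ α.app _
      rw [Category.id_comp, Category.comp_id])

/-- the presheaf-level adjunction -/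
noncomputable def EpreAdj : Epre j ⊣
    (Functor.whiskeringLeft _ _ AddCommGrpCat.{u + 1}).obj (EtShriek.compEtale j).op :=
  (((eqv j).toAdjunction.op.whiskerLeft AddCommGrpCat.{u + 1}).comp
    (adj.{u + 1} (X₀ j))).ofNatIsoRight (rightIso j)

variable [EtShriek.JCont j]

/-- explicit extension by zero of abelian sheaves -/
noncomputable def L : EtCoh.Ab U ⥤ EtCoh.Ab X :=
  sheafToPresheaf _ _ ⋙ Epre j ⋙ presheafToSheaf _ _

/-- the explicit extension by zero is left adjoint to restriction -/
noncomputable def LAdj : L j ⊣ EtShriek.restrAlong j :=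
  Adjunction.restrictFullyFaithful
    ((EpreAdj j).comp (sheafificationAdjunction X.smallEtaleTopology AddCommGrpCat.{u + 1}))
    (fullyFaithfulSheafToPresheaf _ _) (Functor.FullyFaithful.id _) (Iso.refl _) (Iso.refl _)

/-- the comparison with the extension by zero functor -/
noncomputable def LIso : EtShriek.extZero j ≅ L j :=
  Adjunction.leftAdjointUniq (EtShriek.extZeroAdj j) (LAdj j)


section Comparison

variable {j}
variable (R : EtCoh.Ab U ⥤ EtCoh.Ab X)
  (Θ : sheafToPresheaf _ _ ⋙ Epre j ⟶ R ⋙ sheafToPresheaf _ _)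

/-- a natural transformation out of the explicit extension by zero, from presheaf-level data -/
noncomputable def ofPre : L j ⟶ R where
  app F := (presheafToSheaf X.smallEtaleTopology AddCommGrpCat.{u + 1}).map (Θ.app F) ≫
    (sheafificationAdjunction X.smallEtaleTopology AddCommGrpCat.{u + 1}).counit.app (R.obj F)
  naturality F F' α := by
    have h1 := congrArg (fun k => (presheafToSheaf X.smallEtaleTopology AddCommGrpCat.{u + 1}).map k)
      (Θ.naturality α)
    simp only [Functor.map_comp] at h1
    have h2 := (sheafificationAdjunction X.smallEtaleTopology AddCommGrpCat.{u + 1}).counit.naturality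
      (R.map α)
    change (presheafToSheaf X.smallEtaleTopology AddCommGrpCat.{u + 1}).map
      ((sheafToPresheaf _ _ ⋙ Epre j).map α) ≫ _ ≫ _ = (_ ≫ _) ≫ R.map α
    rw [← Category.assoc, h1, Category.assoc, Category.assoc]
    congr 1

lemma toSheafify_ofPre_app (F : EtCoh.Ab U) :
    toSheafify X.smallEtaleTopology ((Epre j).obj F.obj) ≫ ((ofPre R Θ).app F).hom = Θ.app F := by
  change toSheafify X.smallEtaleTopology ((Epre j).obj F.obj) ≫
    sheafifyMap X.smallEtaleTopology (Θ.app F) ≫
      ((sheafificationAdjunction X.smallEtaleTopology AddCommGrpCat.{u + 1}).counit.app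
        (R.obj F)).hom = Θ.app F
  rw [← Category.assoc, ← toSheafify_naturality, Category.assoc,
    sheafificationAdjunction_counit_app_val, toSheafify_sheafifyLift]
  exact Category.comp_id _

theorem mono_ofPre_app (F : EtCoh.Ab U)
    (h : Presheaf.IsLocallyInjective X.smallEtaleTopology (Θ.app F)) :
    Mono ((ofPre R Θ).app F) := by
  haveI := h
  haveI : Presheaf.IsLocallyInjective X.smallEtaleTopology
      (toSheafify X.smallEtaleTopology ((Epre j).obj F.obj) ≫ ((ofPre R Θ).app F).hom) := by
    rw [toSheafify_ofPre_app]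
    exact h
  haveI : Presheaf.IsLocallyInjective X.smallEtaleTopology ((ofPre R Θ).app F).hom :=
    Presheaf.isLocallyInjective_of_isLocallyInjective_of_isLocallySurjective
      X.smallEtaleTopology (toSheafify X.smallEtaleTopology ((Epre j).obj F.obj)) _
  haveI : Sheaf.IsLocallyInjective ((ofPre R Θ).app F) := ‹_›
  exact Sheaf.mono_of_isLocallyInjective _

end Comparison

section FromGenerators

attribute [local instance] Classical.propDecidable

variable {j}
variable (R : EtCoh.Ab U ⥤ EtCoh.Ab X)
  (x : ∀ F : EtCoh.Ab U, ((lam j).op ⋙ F.obj ⟶ (Over.forget (X₀ j)).op ⋙ (R.obj F).obj))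
  (hx : ∀ {F F' : EtCoh.Ab U} (α : F ⟶ F'),
    Functor.whiskerLeft (lam j).op α.hom ≫ x F' =
      x F ≫ Functor.whiskerLeft (Over.forget (X₀ j)).op (R.map α).hom)

/-- presheaf-level data from its values on the generators -/
noncomputable def ThetaOf : sheafToPresheaf _ _ ⋙ Epre j ⟶ R ⋙ sheafToPresheaf _ _ where
  app F := ((adj.{u + 1} (X₀ j)).homEquiv ((lam j).op ⋙ F.obj) (R.obj F).obj).symm (x F)
  naturality F F' α := by
    change (extZero.{u + 1} (X₀ j)).map (Functor.whiskerLeft (lam j).op α.hom) ≫
      ((adj.{u + 1} (X₀ j)).homEquiv ((lam j).op ⋙ F'.obj) (R.obj F').obj).symm (x F') =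
      ((adj.{u + 1} (X₀ j)).homEquiv ((lam j).op ⋙ F.obj) (R.obj F).obj).symm (x F) ≫ (R.map α).hom
    rw [← Adjunction.homEquiv_naturality_left_symm, ← Adjunction.homEquiv_naturality_right_symm]
    congr 1
    exact hx α

lemma ThetaOf_app_of (F : EtCoh.Ab U) (W : X.Etale) (φ : W ⟶ X₀ j)
    (s : F.obj.obj (op ((lam j).obj (Over.mk φ)))) :
    ((ThetaOf R x hx).app F).app (op W)
        (DirectSum.of (summand.{u + 1} (X₀ j) ((lam j).op ⋙ F.obj) W) φ s) =
      (x F).app (op (Over.mk φ)) s := by
  change ((((adj.{u + 1} (X₀ j)).homEquiv ((lam j).op ⋙ F.obj) (R.obj F).obj).symm (x F)).app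
    (op W)).hom _ = _
  rw [adj_homEquiv.{u + 1}]
  exact descSec_of.{u + 1} _ _ (x F) (op W) φ s

end FromGenerators

end Groth.Agent.Lib.T2H8.ExtZeroExplicit
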