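import Mathlib
import Groth.Prelude.Def_EtModW
import Groth.Agent.Lib.T2H8FiniteSplitPt
import Groth.Agent.Lib.Helper16EtGlue
import Groth.Agent.Lib.Helper16EtStalk

set_option autoImplicit false
universe u w

open CategoryTheory CategoryTheory.Limits AlgebraicGeometry Opposite

namespace Groth.Agent.Lib.T2H8.FiniteConservative

open Groth.Agent.Lib.Helper16.SmallEtale Groth.Agent.Lib.Helper16.EtGlue
open Groth.Agent.Lib.T2H8FiniteSplitPt

set_option backward.isDefEq.respectTransparency.types false in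
/-- sections of a sheaf of types agreeing locally agree -/
lemma eq_of_locally_eq' {X : Scheme.{u}} (P : X.Etaleᵒᵖ ⥤ Type w)
    (hP : Presieve.IsSheaf X.smallEtaleTopology P) {U : X.Etale} (s t : P.obj (op U))
    (h : ∀ x : U.left, ∃ (W : X.Etale) (g : W ⟶ U), (∃ w : W.left, g.left w = x) ∧
      P.map g.op s = P.map g.op t) : s = t := by
  let S : Sieve U :=
    { arrows := fun Z g => P.map g.op s = P.map g.op t
      downward_closed := by
        intro Z Z' g hg m
        change P.map (m ≫ g).op s = P.map (m ≫ g).op t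
        rw [op_comp, FunctorToTypes.map_comp_apply, FunctorToTypes.map_comp_apply]
        exact congrArg _ hg }
  have hS : S ∈ X.smallEtaleTopology U := by
    rw [mem_smallEtale_iff]
    intro x
    obtain ⟨W, g, ⟨w, hw⟩, hg⟩ := h x
    exact ⟨W, g, w, hg, hw⟩
  apply (hP _ hS).isSeparatedFor.ext
  intro W g hg
  exact hg

set_option backward.isDefEq.respectTransparency.types false in
/-- sections of a sheaf of types agreeing on two jointly surjective pieces agree -/
lemma eq_of_binary {X : Scheme.{u}} (P : X.Etaleᵒᵖ ⥤ Type w)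
    (hP : Presieve.IsSheaf X.smallEtaleTopology P) {Q W1 W2 : X.Etale} (j1 : W1 ⟶ Q) (j2 : W2 ⟶ Q)
    (hcov : ∀ p : Q.left, (∃ x : W1.left, j1.left x = p) ∨ (∃ y : W2.left, j2.left y = p))
    (s t : P.obj (op Q)) (h1 : P.map j1.op s = P.map j1.op t)
    (h2 : P.map j2.op s = P.map j2.op t) : s = t := by
  apply eq_of_locally_eq' P hP
  intro p
  rcases hcov p with ⟨x, hx⟩ | ⟨y, hy⟩
  · exact ⟨W1, j1, ⟨x, hx⟩, h1⟩
  · exact ⟨W2, j2, ⟨y, hy⟩, h2⟩

set_option backward.isDefEq.respectTransparency.types false in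
/-- geometric key: for `f` finite, every point of an etale `X`-scheme `U` has an etale neighbourhood
`W ⟶ U` which is a clopen piece of the base change of an etale `Y`-scheme. -/
theorem exists_clopen_chart {X Y : Scheme.{u}} (f : X ⟶ Y) [IsFinite f] (U : X.Etale) (x : U.left) :
    ∃ (V : Y.Etale) (W Wc : X.Etale) (ja : W ⟶ (EtCoh.bc f).obj V)
      (jc : Wc ⟶ (EtCoh.bc f).obj V) (ha : W ⟶ U), Mono ja.left ∧ Mono jc.left ∧
      (∀ (a : W.left) (b : Wc.left), ja.left a ≠ jc.left b) ∧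
      (∀ p : ((EtCoh.bc f).obj V).left, (∃ a, ja.left a = p) ∨ (∃ b, jc.left b = p)) ∧
      ∃ w : W.left, ha.left w = x := by
  obtain ⟨Ω, _, _, ξ, x₀, hx₀⟩ := Groth.Agent.Lib.Helper16.EtStalk.exists_geometric_point U x
  haveI : Etale U.hom := U.prop
  obtain ⟨S', g', η', X', p, q, hg', hη', sq, D, ξD, h, hDcl, hh, hξh, hξq, -⟩ :=
    exists_pointed_clopen_lift f U.hom (x₀.left : Spec (CommRingCat.of Ω) ⟶ U.left)
  let Vj : Y.Etale := Scheme.Etale.mk g'
  let Pj : X.Etale := (EtCoh.bc f).obj Vj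
  have sq' : IsPullback (pullback.snd Vj.hom f) (pullback.fst Vj.hom f) f g' :=
    (IsPullback.of_hasPullback g' f).flip
  let τ : X' ≅ Pj.left := sq.isoIsPullback _ _ sq'
  have hτ1 : τ.hom ≫ Pj.hom = p := IsPullback.isoIsPullback_hom_fst _ _ sq sq'
  let Dc : X'.Opens := ⟨(D : Set X')ᶜ, hDcl.isOpen_compl⟩
  let W : X.Etale := Scheme.Etale.mk (D.ι ≫ τ.hom ≫ Pj.hom)
  let Wc : X.Etale := Scheme.Etale.mk (Dc.ι ≫ τ.hom ≫ Pj.hom)
  let ja : W ⟶ Pj := MorphismProperty.Over.homMk (D.ι ≫ τ.hom) (Category.assoc _ _ _)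
  let jc : Wc ⟶ Pj := MorphismProperty.Over.homMk (Dc.ι ≫ τ.hom) (Category.assoc _ _ _)
  have hha : h ≫ U.hom = W.hom := by
    rw [hh, ← hτ1]
    rfl
  let ha : W ⟶ U := MorphismProperty.Over.homMk h hha
  refine ⟨Vj, W, Wc, ja, jc, ha, ?_, ?_, ?_, ?_, ?_⟩
  · change Mono (D.ι ≫ τ.hom)
    infer_instance
  · change Mono (Dc.ι ≫ τ.hom)
    infer_instance
  · intro a b hab
    have h1 : (D.ι ≫ τ.hom) a = (Dc.ι ≫ τ.hom) b := hab
    simp only [Scheme.Hom.comp_apply] at h1
    have h2 : D.ι a = Dc.ι b := τ.hom.isOpenEmbedding.injective h1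
    have hx : D.ι a ∈ D := a.2
    have hy : Dc.ι b ∈ Dc := b.2
    rw [← h2] at hy
    exact hy hx
  · intro z
    have hz : τ.hom (τ.inv z) = z :=
      congrArg (fun m : Pj.left ⟶ Pj.left => m z) τ.inv_hom_id
    by_cases hzD : τ.inv z ∈ D
    · left
      exact ⟨⟨_, hzD⟩, hz⟩
    · right
      exact ⟨⟨_, hzD⟩, hz⟩
  · refine ⟨ξD default, ?_⟩
    change h (ξD default) = x
    rw [← hx₀, ← hξh]
    rfl


section Main

variable (Λ : Type (u + 1)) [CommRing Λ] {X Y : Scheme.{u}} (f : X ⟶ Y)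

lemma isSheaf_forget (F : EtModW.Mod Λ X) :
    Presieve.IsSheaf X.smallEtaleTopology (F.obj ⋙ forget (ModuleCat.{u + 1} Λ)) :=
  (isSheaf_iff_isSheaf_of_type _ _).mp
    ((Presheaf.isSheaf_iff_isSheaf_forget _ _ (forget (ModuleCat.{u + 1} Λ))).mp F.property)

variable {Λ}

set_option backward.isDefEq.respectTransparency.types false in
/-- the extension by zero of a section over a clopen chart -/
lemma exists_extension {F : EtModW.Mod Λ X} {Q W Wc : X.Etale} (ja : W ⟶ Q) (jc : Wc ⟶ Q)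
    (hm1 : Mono ja.left) (hm2 : Mono jc.left)
    (hdisj : ∀ (a : W.left) (b : Wc.left), ja.left a ≠ jc.left b)
    (hcov : ∀ p : Q.left, (∃ a, ja.left a = p) ∨ (∃ b, jc.left b = p))
    (s : F.obj.obj (op W)) :
    ∃ t : F.obj.obj (op Q), F.obj.map ja.op t = s ∧ F.obj.map jc.op t = 0 := by
  obtain ⟨t, h1, h2⟩ := exists_glue_binary (F.obj ⋙ forget (ModuleCat.{u + 1} Λ))
    (isSheaf_forget Λ F) ja jc hm1 hm2 hdisj hcov s (0 : F.obj.obj (op Wc))
  exact ⟨t, h1, h2⟩

variable [IsFinite f]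

set_option backward.isDefEq.respectTransparency.types false in
theorem injective_of_bc {F G : EtModW.Mod Λ X} (φ : F ⟶ G)
    (hA : ∀ V : Y.Etale, Function.Injective (φ.hom.app (op ((EtCoh.bc f).obj V))))
    (U : X.Etale) (s : F.obj.obj (op U)) (hs : φ.hom.app (op U) s = 0) : s = 0 := by
  apply eq_of_locally_eq' (F.obj ⋙ forget (ModuleCat.{u + 1} Λ)) (isSheaf_forget Λ F)
  intro x
  obtain ⟨V, W, Wc, ja, jc, ha, hm1, hm2, hdisj, hcov, hw⟩ := exists_clopen_chart f U x
  refine ⟨W, ha, hw, ?_⟩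
  change F.obj.map ha.op s = F.obj.map ha.op 0
  rw [map_zero]
  obtain ⟨t, ht1, ht2⟩ := exists_extension (F := F) ja jc hm1 hm2 hdisj hcov (F.obj.map ha.op s)
  have hφt : φ.hom.app _ t = 0 := by
    apply eq_of_binary (G.obj ⋙ forget (ModuleCat.{u + 1} Λ)) (isSheaf_forget Λ G) ja jc hcov
    · change G.obj.map ja.op (φ.hom.app _ t) = G.obj.map ja.op 0
      rw [← NatTrans.naturality_apply φ.hom ja.op t, ht1, NatTrans.naturality_apply φ.hom ha.op s,
        hs, map_zero, map_zero]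
    · change G.obj.map jc.op (φ.hom.app _ t) = G.obj.map jc.op 0
      rw [← NatTrans.naturality_apply φ.hom jc.op t, ht2, map_zero, map_zero]
  have ht0 : t = 0 := hA V (hφt.trans (map_zero _).symm)
  rw [← ht1, ht0, map_zero]

set_option backward.isDefEq.respectTransparency.types false in
theorem locallySurjective_of_bc {F G : EtModW.Mod Λ X} (φ : F ⟶ G)
    (hA : ∀ V : Y.Etale, Function.Surjective (φ.hom.app (op ((EtCoh.bc f).obj V)))) :
    Sheaf.IsLocallySurjective φ := by
  constructor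
  intro U t
  rw [mem_smallEtale_iff]
  intro x
  obtain ⟨V, W, Wc, ja, jc, ha, hm1, hm2, hdisj, hcov, w, hw⟩ := exists_clopen_chart f U x
  refine ⟨W, ha, w, ?_, hw⟩
  obtain ⟨tt, ht1, ht2⟩ := exists_extension (F := G) ja jc hm1 hm2 hdisj hcov (G.obj.map ha.op t)
  obtain ⟨ss, hss⟩ := hA V tt
  refine ⟨F.obj.map ja.op ss, ?_⟩
  rw [NatTrans.naturality_apply φ.hom ja.op ss, hss, ht1]


set_option backward.isDefEq.respectTransparency.types false in
theorem main_S4162 (Λ : Type (u + 1)) [CommRing Λ] {X Y : Scheme.{u}} (f : X ⟶ Y)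
    [IsFinite f] : (EtModW.push Λ f).ReflectsIsomorphisms := by
  constructor
  intro F G φ hφ
  have hA : ∀ V : Y.Etale, Function.Bijective (φ.hom.app (op ((EtCoh.bc f).obj V))) := by
    intro V
    haveI : IsIso ((sheafToPresheaf _ _).map ((EtModW.push Λ f).map φ)) := Functor.map_isIso _ _
    haveI : IsIso (((sheafToPresheaf _ _).map ((EtModW.push Λ f).map φ)).app (op V)) :=
      inferInstance
    have h1 : IsIso (φ.hom.app (op ((EtCoh.bc f).obj V))) := this
    exact ConcreteCategory.bijective_of_isIso _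
  haveI : Mono φ := by
    haveI : Mono φ.hom := by
      haveI : ∀ U : X.Etaleᵒᵖ, Mono (φ.hom.app U) := by
        intro U
        obtain ⟨U⟩ := U
        rw [ModuleCat.mono_iff_injective]
        intro a b hab
        have h0 : φ.hom.app (op U) (a - b) = 0 := by
          rw [map_sub, sub_eq_zero]
          exact hab
        exact sub_eq_zero.mp (injective_of_bc f φ (fun V => (hA V).1) U _ h0)
      exact NatTrans.mono_of_mono_app _
    exact Sheaf.Hom.mono_of_presheaf_mono _ _ φ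
  haveI : Epi φ := by
    have hls := locallySurjective_of_bc f φ (fun V => (hA V).2)
    exact (Sheaf.isLocallySurjective_iff_epi' (φ := φ)).1 hls
  exact isIso_of_mono_of_epi φ

end Main

end Groth.Agent.Lib.T2H8.FiniteConservative
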