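import Mathlib
import Groth.Prelude.Def_EtShriek2
import Groth.Agent.S0647
import Groth.Agent.S0651
import Groth.Agent.S0652
import Groth.Agent.Lib.T2H8StalkFiniteCore
import Groth.Agent.Lib.Helper16EtStalk

/-!
# Finite direct image and extension by zero (helper8)
-/

set_option autoImplicit false
open CategoryTheory CategoryTheory.Limits AlgebraicGeometry Opposite
universe u

namespace Groth.Agent.Lib.T2H8FiniteShriek

open Groth.Agent.Lib.T2H8StalkFiniteCore Groth.Agent.Lib.Helper16.EtStalk
open Groth.Agent.Lib.Helper16.SmallEtale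

lemma isSheaf_forget {Z : Scheme.{u}} (G : EtCoh.Ab Z) :
    Presieve.IsSheaf Z.smallEtaleTopology (G.obj ⋙ forget AddCommGrpCat.{u + 1}) :=
  (isSheaf_iff_isSheaf_of_type _ _).mp
    ((Presheaf.isSheaf_iff_isSheaf_forget _ _ (forget AddCommGrpCat.{u + 1})).mp G.property)

set_option backward.isDefEq.respectTransparency.types false in
/-- the stalk of a finite direct image vanishes at `η` if all stalks of the sheaf vanish at the
geometric points over the image point of `η`. -/
theorem isZero_stalk_push {X Y : Scheme.{u}} (f : X ⟶ Y) [IsFinite f] (G : EtCoh.Ab X)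
    {Ω : Type u} [Field Ω] [IsSepClosed Ω] (η : Spec (CommRingCat.of Ω) ⟶ Y)
    (hG : ∀ (Ω' : Type u) [Field Ω'] [IsSepClosed Ω'] (ζ : Spec (CommRingCat.of Ω') ⟶ X),
      f (ζ default) = η default → IsZero ((EtCoh.stalk ζ).obj G)) :
    IsZero ((EtCoh.stalk η).obj ((EtCoh.push f).obj G)) := by
  rw [AddCommGrpCat.isZero_iff_subsingleton]
  constructor
  intro p₁ p₂
  obtain ⟨V, v, s₁, s₂, rfl, rfl⟩ :=
    (Scheme.pointSmallEtale η).toPresheafFiber_jointly_surjective₂ p₁ p₂
  have H : ∀ x : ↥(pullback V.hom f), (pullback.fst V.hom f) x =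
        (v.left : Spec (CommRingCat.of Ω) ⟶ V.left) (default : Spec (CommRingCat.of Ω)) →
      ∃ (W : X.Etale) (a : W ⟶ (EtCoh.bc f).obj V) (y : W.left),
        (a.left : W.left ⟶ pullback V.hom f) y = x ∧
        (G.obj ⋙ forget AddCommGrpCat.{u + 1}).map a.op s₁ =
          (G.obj ⋙ forget AddCommGrpCat.{u + 1}).map a.op s₂ := by
    intro x hx
    obtain ⟨Ω', _, _, ζ, x₀, hx₀⟩ := exists_geometric_point ((EtCoh.bc f).obj V) x
    have hζ : f (ζ default) = η default := by
      have e1 : x₀.left ≫ pullback.snd V.hom f = ζ := Over.w x₀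
      have e2 : v.left ≫ V.hom = η := Over.w v
      have a1 : ζ default = (pullback.snd V.hom f) x := by
        rw [← e1, Scheme.Hom.comp_apply]
        exact congrArg (pullback.snd V.hom f) hx₀
      have a2 : f ((pullback.snd V.hom f) x) = V.hom ((pullback.fst V.hom f) x) := by
        rw [← Scheme.Hom.comp_apply, ← Scheme.Hom.comp_apply, pullback.condition]
      have a3 : V.hom ((v.left : Spec (CommRingCat.of Ω) ⟶ V.left)
          (default : Spec (CommRingCat.of Ω))) = η default :=
        congrArg (fun m : Spec (CommRingCat.of Ω) ⟶ Y => m default) e2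
      rw [a1, a2, hx, a3]
    have hz := AddCommGrpCat.isZero_iff_subsingleton.mp (hG Ω' ζ hζ)
    have e := @Subsingleton.elim _ hz
      ((Scheme.pointSmallEtale ζ).toPresheafFiber ((EtCoh.bc f).obj V) x₀ G.obj s₁)
      ((Scheme.pointSmallEtale ζ).toPresheafFiber ((EtCoh.bc f).obj V) x₀ G.obj s₂)
    obtain ⟨W, a, w, hw, ha⟩ := ((Scheme.pointSmallEtale ζ).toPresheafFiber_eq_iff' _ _ s₁ s₂).mp e
    refine ⟨W, a, (w.left : Spec (CommRingCat.of Ω') ⟶ W.left)
      (default : Spec (CommRingCat.of Ω')), ?_, ha⟩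
    have e3 : w.left ≫ a.left = x₀.left := congrArg (fun m => m.left) hw
    rw [← hx₀]
    exact congrArg (fun m : Spec (CommRingCat.of Ω') ⟶ pullback V.hom f => m default) e3
  obtain ⟨V', k, v', hv', hk⟩ := inj_core_pt f η (G.obj ⋙ forget AddCommGrpCat.{u + 1})
    (isSheaf_forget G) V v s₁ s₂ H
  exact ((Scheme.pointSmallEtale η).toPresheafFiber_eq_iff' V v s₁ s₂).mpr ⟨V', k, v', hv', hk⟩

section Square

variable {U X V Y : Scheme.{u}} (f : X ⟶ Y) (j : V ⟶ Y) [AlgebraicGeometry.Etale j]
  (j' : U ⟶ X) [AlgebraicGeometry.Etale j'] (g : U ⟶ V) (h : IsPullback j' g f j)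

include h in
lemma isPullback_paste (W : V.Etale) :
    IsPullback (pullback.snd W.hom g ≫ j') (pullback.fst W.hom g) f (W.hom ≫ j) :=
  (IsPullback.of_hasPullback W.hom g).flip.paste_horiz h

/-- the comparison isomorphism `(W → V → Y) ×_Y X ≅ (W ×_V U → U → X)` -/
noncomputable def εleft (W : V.Etale) : pullback (W.hom ≫ j) f ≅ pullback W.hom g :=
  (IsPullback.of_hasPullback (W.hom ≫ j) f).flip.isoIsPullback _ _ (isPullback_paste f j j' g h W)

lemma εleft_hom_fst (W : V.Etale) :
    (εleft f j j' g h W).hom ≫ pullback.fst W.hom g = pullback.fst (W.hom ≫ j) f :=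
  IsPullback.isoIsPullback_hom_snd _ _ _ _

lemma εleft_hom_snd (W : V.Etale) :
    (εleft f j j' g h W).hom ≫ pullback.snd W.hom g ≫ j' = pullback.snd (W.hom ≫ j) f :=
  IsPullback.isoIsPullback_hom_fst _ _ _ _

set_option backward.isDefEq.respectTransparency.types false in
/-- the natural isomorphism of functors of small etale sites attached to the cartesian square. -/
noncomputable def ε : EtShriek.compEtale j ⋙ EtCoh.bc f ≅ EtCoh.bc g ⋙ EtShriek.compEtale j' :=
  NatIso.ofComponents
    (fun W => MorphismProperty.Over.isoMk (εleft f j j' g h W)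
      ((Category.assoc _ _ _).trans (εleft_hom_snd f j j' g h W)))
    (by
      intro W' W k
      apply MorphismProperty.Over.Hom.ext
      apply (isPullback_paste f j j' g h W).hom_ext
      · have e1 : ((EtShriek.compEtale j ⋙ EtCoh.bc f).map k).left ≫
            pullback.snd (W.hom ≫ j) f = pullback.snd (W'.hom ≫ j) f :=
          bc_map_left_snd f ((EtShriek.compEtale j).map k)
        have e2 : ((EtCoh.bc g).map k).left ≫ pullback.snd W.hom g = pullback.snd W'.hom g :=
          bc_map_left_snd g k
        refine (Category.assoc _ _ _).trans ((_ ≫= εleft_hom_snd f j j' g h W).trans (e1.trans ?_))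
        refine Eq.symm ((Category.assoc _ _ _).trans ?_)
        refine (_ ≫= ((Category.assoc _ _ _).symm.trans (e2 =≫ j'))).trans ?_
        exact εleft_hom_snd f j j' g h W'
      · have e1 : ((EtShriek.compEtale j ⋙ EtCoh.bc f).map k).left ≫
            pullback.fst (W.hom ≫ j) f = pullback.fst (W'.hom ≫ j) f ≫ k.left :=
          bc_map_left_fst f ((EtShriek.compEtale j).map k)
        have e2 : ((EtCoh.bc g).map k).left ≫ pullback.fst W.hom g =
            pullback.fst W'.hom g ≫ k.left := bc_map_left_fst g k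
        refine (Category.assoc _ _ _).trans ((_ ≫= εleft_hom_fst f j j' g h W).trans (e1.trans ?_))
        refine Eq.symm ((Category.assoc _ _ _).trans ?_)
        refine (_ ≫= e2).trans ((Category.assoc _ _ _).symm.trans ?_)
        exact (εleft_hom_fst f j j' g h W' =≫ k.left))

end Square

section Final

variable {U X V Y : Scheme.{u}} (f : X ⟶ Y) (j : V ⟶ Y)
  [AlgebraicGeometry.Etale j] [EtShriek.JCont j] (j' : U ⟶ X)
  [AlgebraicGeometry.Etale j'] [EtShriek.JCont j'] (g : U ⟶ V) (h : IsPullback j' g f j)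

set_option backward.isDefEq.respectTransparency.types false in
/-- direct image then restriction to `V` is restriction to `U` then direct image. -/
noncomputable def pushRestrIso :
    EtCoh.push f ⋙ EtShriek.restrAlong j ≅ EtShriek.restrAlong j' ⋙ EtCoh.push g :=
  haveI : (EtShriek.compEtale j ⋙ EtCoh.bc f).IsContinuous V.smallEtaleTopology
      X.smallEtaleTopology := Functor.isContinuous_comp _ _ _ Y.smallEtaleTopology _
  haveI : (EtCoh.bc g ⋙ EtShriek.compEtale j').IsContinuous V.smallEtaleTopology
      X.smallEtaleTopology := Functor.isContinuous_comp _ _ _ U.smallEtaleTopology _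
  Functor.sheafPushforwardContinuousComp' (F := EtShriek.compEtale j) (G := EtCoh.bc f)
      (FG := EtCoh.bc g ⋙ EtShriek.compEtale j') (ε f j j' g h) AddCommGrpCat.{u + 1}
      V.smallEtaleTopology Y.smallEtaleTopology X.smallEtaleTopology ≪≫
    (Functor.sheafPushforwardContinuousComp (EtCoh.bc g) (EtShriek.compEtale j')
      AddCommGrpCat.{u + 1} V.smallEtaleTopology U.smallEtaleTopology X.smallEtaleTopology).symm

include h in
set_option backward.isDefEq.respectTransparency.types false in
/-- `f_* j'_! F ≅ j_! g_* F` for `f` finite and `j` an open immersion. -/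
theorem push_extZero_iso [IsFinite f] [IsOpenImmersion j] [IsOpenImmersion j']
    (F : EtCoh.Ab U) :
    Nonempty ((EtCoh.push f).obj ((EtShriek.extZero j').obj F) ≅
      (EtShriek.extZero j).obj ((EtCoh.push g).obj F)) := by
  let G' := (EtShriek.extZero j').obj F
  let G := (EtCoh.push f).obj G'
  have hunit : IsIso ((EtShriek.extZeroAdj j').unit.app F) := (Groth.Agent.S0651.result j' F).2
  have hres : Nonempty ((EtShriek.restrAlong j).obj G ≅ (EtCoh.push g).obj F) :=
    ⟨(pushRestrIso f j j' g h).app G' ≪≫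
      (EtCoh.push g).mapIso (asIso ((EtShriek.extZeroAdj j').unit.app F)).symm⟩
  apply Groth.Agent.S0652.result j ((EtCoh.push g).obj F) G hres
  intro Ω _ _ ξ hξ
  apply isZero_stalk_push f G' ξ
  intro Ω' _ _ ζ hζ
  obtain ⟨e⟩ := Groth.Agent.S0647.result j' F ζ
  refine IsZero.of_iso ?_ e
  have hempty : IsEmpty {u : Spec (CommRingCat.of Ω') ⟶ U // u ≫ j' = ζ} := by
    constructor
    rintro ⟨u, hu⟩
    have h1 : ξ.base default ∈ Set.range ξ.base := ⟨default, rfl⟩
    apply hξ h1
    refine ⟨(u ≫ g) default, ?_⟩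
    have h2 : j ((u ≫ g) default) = f (ζ default) := by
      rw [← hu, ← Scheme.Hom.comp_apply, ← Scheme.Hom.comp_apply, Category.assoc, Category.assoc,
        h.w]
    exact h2.trans hζ
  rw [IsZero.iff_id_eq_zero]
  apply Sigma.hom_ext
  intro b
  exact (hempty.false b).elim

end Final

end Groth.Agent.Lib.T2H8FiniteShriek
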