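import Mathlib
import Groth.Prelude.Def_EtShriek2
import Groth.Agent.Lib.T2H8ExtZeroExplicit
import Groth.Agent.Lib.T2H8FiniteConservative
import Groth.Agent.Lib.T2H8FiniteShriek
import Groth.Agent.Lib.T2H8LocTriv

set_option autoImplicit false
set_option linter.unusedSectionVars false
set_option linter.style.haveILetI false
universe u
open CategoryTheory CategoryTheory.Limits Opposite AlgebraicGeometry

namespace Groth.Agent.Lib.T2H8.ExtZeroMono
open Groth.Agent.Lib.T2H8.ExtZeroExplicit Groth.Agent.Lib.Helper9.ExtZero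
open Groth.Agent.Lib.T2H8.FiniteConservative Groth.Agent.Lib.T2H8FiniteShriek
open Groth.Agent.Lib.Helper16.EtGlue
open Groth.Agent.Lib.T2H8.LocTriv (map_map_apply)

section Clopen

variable {Z : Scheme.{u}}

/-- the complement of a closed range, as an open -/
def complOpen {V B : Z.Etale} (γ : V ⟶ B) (hcl : IsClosed (Set.range γ.left)) : B.left.Opens :=
  ⟨(Set.range γ.left)ᶜ, hcl.isOpen_compl⟩

/-- the complement of a closed range, as an object of the small étale site -/
noncomputable def compl {V B : Z.Etale} (γ : V ⟶ B) (hcl : IsClosed (Set.range γ.left)) : Z.Etale :=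
  MorphismProperty.Over.mk ⊤ ((complOpen γ hcl).ι ≫ B.hom)
    (by haveI : Etale B.hom := B.prop; infer_instance)

/-- the inclusion of the complement -/
noncomputable def complι {V B : Z.Etale} (γ : V ⟶ B) (hcl : IsClosed (Set.range γ.left)) :
    compl γ hcl ⟶ B :=
  MorphismProperty.Over.homMk (complOpen γ hcl).ι rfl

lemma range_complι {V B : Z.Etale} (γ : V ⟶ B) (hcl : IsClosed (Set.range γ.left)) :
    Set.range (complι γ hcl).left = (Set.range γ.left)ᶜ := by
  change Set.range (complOpen γ hcl).ι = _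
  rw [Scheme.Opens.range_ι]
  rfl

instance {V B : Z.Etale} (γ : V ⟶ B) (hcl : IsClosed (Set.range γ.left)) :
    IsOpenImmersion (complι γ hcl).left :=
  inferInstanceAs (IsOpenImmersion (complOpen γ hcl).ι)

variable (F : EtCoh.Ab Z)

/-- `t` is the extension by zero of `s` along `γ` -/
def IsExtZ {V B : Z.Etale} (γ : V ⟶ B) (s : F.obj.obj (op V)) (t : F.obj.obj (op B)) : Prop :=
  F.obj.map γ.op t = s ∧ ∀ (Q : Z.Etale) (h : Q ⟶ B),
    (∀ (q : Q.left) (v : V.left), h.left q ≠ γ.left v) → F.obj.map h.op t = 0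

variable {F}

theorem isExtZ_unique {V B : Z.Etale} (γ : V ⟶ B) (hcl : IsClosed (Set.range γ.left))
    {s : F.obj.obj (op V)} {t t' : F.obj.obj (op B)} (h : IsExtZ F γ s t) (h' : IsExtZ F γ s t') :
    t = t' := by
  apply eq_of_binary (F.obj ⋙ forget AddCommGrpCat.{u + 1}) (isSheaf_forget F) γ (complι γ hcl)
  · intro p
    by_cases hp : p ∈ Set.range γ.left
    · exact Or.inl hp
    · right
      have : p ∈ Set.range (complι γ hcl).left := by rw [range_complι]; exact hp
      exact this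
  · exact h.1.trans h'.1.symm
  · have hd : ∀ (q : (compl γ hcl).left) (v : V.left), (complι γ hcl).left q ≠ γ.left v := by
      intro q v hq
      have : (complι γ hcl).left q ∈ (Set.range γ.left)ᶜ := by
        rw [← range_complι γ hcl]; exact ⟨q, rfl⟩
      exact this ⟨v, hq.symm⟩
    exact (h.2 _ _ hd).trans (h'.2 _ _ hd).symm

theorem exists_isExtZ {V B : Z.Etale} (γ : V ⟶ B) (hm : Mono γ.left)
    (hcl : IsClosed (Set.range γ.left)) (s : F.obj.obj (op V)) : ∃ t, IsExtZ F γ s t := by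
  have hd : ∀ (v : V.left) (q : (compl γ hcl).left), γ.left v ≠ (complι γ hcl).left q := by
    intro v q hq
    have : (complι γ hcl).left q ∈ (Set.range γ.left)ᶜ := by
      rw [← range_complι γ hcl]; exact ⟨q, rfl⟩
    exact this ⟨v, hq⟩
  obtain ⟨t, h1, h2⟩ := exists_glue_binary (F.obj ⋙ forget AddCommGrpCat.{u + 1})
    (isSheaf_forget F) γ (complι γ hcl) hm inferInstance hd
    (by
      intro p
      by_cases hp : p ∈ Set.range γ.left
      · exact Or.inl hp
      · right
        have : p ∈ Set.range (complι γ hcl).left := by rw [range_complι]; exact hp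
        exact this)
    s (0 : F.obj.obj (op (compl γ hcl)))
  refine ⟨t, h1, ?_⟩
  intro Q h hQ
  have hsub : Set.range h.left ⊆ Set.range (complι γ hcl).left := by
    rw [range_complι]
    rintro _ ⟨q, rfl⟩ ⟨v, hv⟩
    exact hQ q v hv.symm
  let l : Q.left ⟶ (compl γ hcl).left := IsOpenImmersion.lift (complι γ hcl).left h.left hsub
  have hl : l ≫ (complι γ hcl).left = h.left := IsOpenImmersion.lift_fac _ _ _
  let h' : Q ⟶ compl γ hcl := MorphismProperty.Over.homMk l (by
    change l ≫ (complOpen γ hcl).ι ≫ B.hom = Q.hom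
    rw [← Category.assoc]
    change (l ≫ (complι γ hcl).left) ≫ B.hom = Q.hom
    rw [hl]
    exact MorphismProperty.Over.w h)
  have e : h' ≫ complι γ hcl = h := by
    apply MorphismProperty.Over.Hom.ext
    exact hl
  rw [← e, ← map_map_apply F (complι γ hcl) h' t]
  have h2' : F.obj.map (complι γ hcl).op t = 0 := h2
  rw [h2', map_zero]

theorem IsExtZ.add {V B : Z.Etale} {γ : V ⟶ B} {s s' : F.obj.obj (op V)} {t t' : F.obj.obj (op B)}
    (h : IsExtZ F γ s t) (h' : IsExtZ F γ s' t') : IsExtZ F γ (s + s') (t + t') := by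
  refine ⟨?_, fun Q k hk => ?_⟩
  · rw [map_add, h.1, h'.1]
  · rw [map_add, h.2 Q k hk, h'.2 Q k hk, add_zero]

theorem IsExtZ.zero {V B : Z.Etale} (γ : V ⟶ B) :
    IsExtZ F γ (0 : F.obj.obj (op V)) (0 : F.obj.obj (op B)) :=
  ⟨map_zero _, fun _ _ _ => map_zero _⟩

theorem IsExtZ.map {F' : EtCoh.Ab Z} (α : F ⟶ F') {V B : Z.Etale} {γ : V ⟶ B}
    {s : F.obj.obj (op V)} {t : F.obj.obj (op B)} (h : IsExtZ F γ s t) :
    IsExtZ F' γ (α.hom.app (op V) s) (α.hom.app (op B) t) := by
  refine ⟨?_, fun Q k hk => ?_⟩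
  · have := NatTrans.naturality_apply α.hom γ.op t
    rw [← this, h.1]
  · have := NatTrans.naturality_apply α.hom k.op t
    rw [← this, h.2 Q k hk, map_zero]

theorem IsExtZ.basechange {V B V' B' : Z.Etale} {γ : V ⟶ B} {γ' : V' ⟶ B'} (a : V' ⟶ V)
    (b : B' ⟶ B) (hsq : γ' ≫ b = a ≫ γ)
    (hcart : ∀ (p' : B'.left) (v : V.left), b.left p' = γ.left v → ∃ v' : V'.left, γ'.left v' = p')
    {s : F.obj.obj (op V)} {t : F.obj.obj (op B)} (h : IsExtZ F γ s t) :
    IsExtZ F γ' (F.obj.map a.op s) (F.obj.map b.op t) := by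
  refine ⟨?_, fun Q k hk => ?_⟩
  · rw [map_map_apply, hsq, ← map_map_apply, h.1]
  · rw [map_map_apply]
    apply h.2
    intro q v hq
    have e : (k ≫ b).left q = b.left (k.left q) := Scheme.Hom.comp_apply _ _ _
    rw [e] at hq
    obtain ⟨v', hv'⟩ := hcart _ _ hq
    exact hk q v' hv'.symm

/-- a chosen extension by zero -/
noncomputable def extz {V B : Z.Etale} (γ : V ⟶ B) (hm : Mono γ.left)
    (hcl : IsClosed (Set.range γ.left)) (s : F.obj.obj (op V)) : F.obj.obj (op B) :=
  (exists_isExtZ γ hm hcl s).choose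

theorem isExtZ_extz {V B : Z.Etale} (γ : V ⟶ B) (hm : Mono γ.left)
    (hcl : IsClosed (Set.range γ.left)) (s : F.obj.obj (op V)) :
    IsExtZ F γ s (extz γ hm hcl s) :=
  (exists_isExtZ γ hm hcl s).choose_spec

/-- extension by zero as a homomorphism -/
noncomputable def extzHom (F : EtCoh.Ab Z) {V B : Z.Etale} (γ : V ⟶ B) (hm : Mono γ.left)
    (hcl : IsClosed (Set.range γ.left)) : F.obj.obj (op V) →+ F.obj.obj (op B) where
  toFun s := extz γ hm hcl s
  map_zero' := isExtZ_unique γ hcl (isExtZ_extz γ hm hcl _) (IsExtZ.zero γ)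
  map_add' s s' := isExtZ_unique γ hcl (isExtZ_extz γ hm hcl _)
    ((isExtZ_extz γ hm hcl s).add (isExtZ_extz γ hm hcl s'))

theorem isExtZ_extzHom {V B : Z.Etale} (γ : V ⟶ B) (hm : Mono γ.left)
    (hcl : IsClosed (Set.range γ.left)) (s : F.obj.obj (op V)) :
    IsExtZ F γ s (extzHom F γ hm hcl s) := isExtZ_extz γ hm hcl s

end Clopen

section SchemeGraph

variable {W U X : Scheme.{u}} (p : W ⟶ X) (j : U ⟶ X) (φ : W ⟶ U) (hw : φ ≫ j = p)

/-- the graph of a section -/
noncomputable def graph : W ⟶ pullback p j :=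
  pullback.lift (𝟙 W) φ (by rw [Category.id_comp, hw])

@[reassoc]
lemma graph_fst : graph p j φ hw ≫ pullback.fst p j = 𝟙 W := pullback.lift_fst _ _ _

@[reassoc]
lemma graph_snd : graph p j φ hw ≫ pullback.snd p j = φ := pullback.lift_snd _ _ _

instance mono_graph : Mono (graph p j φ hw) := by
  haveI : Mono (graph p j φ hw ≫ pullback.fst p j) := by rw [graph_fst]; infer_instance
  exact mono_of_mono _ (pullback.fst p j)

lemma graph_apply_fst (y : W) : pullback.fst p j (graph p j φ hw y) = y := by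
  rw [← Scheme.Hom.comp_apply, graph_fst]
  rfl

lemma isClosed_range_graph [IsSeparated j] : IsClosed (Set.range (graph p j φ hw)) := by
  haveI : IsClosedImmersion (graph p j φ hw ≫ pullback.fst p j) := by
    rw [graph_fst]; infer_instance
  haveI : IsClosedImmersion (graph p j φ hw) :=
    IsClosedImmersion.of_comp (graph p j φ hw) (pullback.fst p j)
  exact (graph p j φ hw).isClosedEmbedding.isClosed_range

variable {W' : Scheme.{u}} (p' : W' ⟶ X) (φ' : W' ⟶ U) (hw' : φ' ≫ j = p') (m : W' ⟶ W)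
  (hmφ : m ≫ φ = φ') (b : pullback p' j ⟶ pullback p j)
  (hb1 : b ≫ pullback.fst p j = pullback.fst p' j ≫ m)
  (hb2 : b ≫ pullback.snd p j = pullback.snd p' j)

include hmφ hb1 hb2 in
lemma graph_naturality : graph p' j φ' hw' ≫ b = m ≫ graph p j φ hw := by
  apply pullback.hom_ext
  · rw [Category.assoc, hb1, graph_fst_assoc, Category.assoc, graph_fst, Category.comp_id]
  · rw [Category.assoc, hb2, graph_snd, Category.assoc, graph_snd, hmφ]

include hmφ hb1 hb2 in
lemma graph_cart (hb : IsPullback b (pullback.fst p' j) (pullback.fst p j) m)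
    (z' : ↥(pullback p' j)) (y : W) (h : b z' = graph p j φ hw y) :
    ∃ y' : W', graph p' j φ' hw' y' = z' := by
  have s : IsPullback (graph p' j φ' hw' ≫ pullback.fst p' j) m m
      (graph p j φ hw ≫ pullback.fst p j) := by
    rw [graph_fst, graph_fst]
    exact IsPullback.id_horiz m
  have sq : IsPullback (graph p' j φ' hw') m b (graph p j φ hw) :=
    IsPullback.of_right s (graph_naturality p j φ hw p' φ' hw' m hmφ b hb1 hb2) hb.flip
  obtain ⟨q, hq1, -⟩ := Scheme.Pullback.exists_preimage_pullback (f := b)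
    (g := graph p j φ hw) z' y h
  refine ⟨sq.isoPullback.inv q, ?_⟩
  rw [← Scheme.Hom.comp_apply, IsPullback.isoPullback_inv_fst]
  exact hq1

omit hmφ hb1 hb2 in
lemma graph_eq_of_range_subset (φ₂ : W ⟶ U) (hw₂ : φ₂ ≫ j = p) [IsOpenImmersion (graph p j φ hw)]
    {T : Scheme.{u}} (g : T ⟶ W)
    (h : Set.range g ⊆ (graph p j φ₂ hw₂) ⁻¹' Set.range (graph p j φ hw)) :
    g ≫ φ = g ≫ φ₂ := by
  have c := pullback.condition (f := graph p j φ hw) (g := graph p j φ₂ hw₂)
  have e1 : pullback.fst (graph p j φ hw) (graph p j φ₂ hw₂) =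
      pullback.snd (graph p j φ hw) (graph p j φ₂ hw₂) := by
    have := congrArg (fun k => k ≫ pullback.fst p j) c
    simpa [graph_fst] using this
  have e2 : pullback.snd (graph p j φ hw) (graph p j φ₂ hw₂) ≫ φ =
      pullback.snd (graph p j φ hw) (graph p j φ₂ hw₂) ≫ φ₂ := by
    have := congrArg (fun k => k ≫ pullback.snd p j) c
    simp only [Category.assoc, graph_snd] at this
    rw [e1] at this
    exact this
  have hr : Set.range g ⊆ Set.range (pullback.snd (graph p j φ hw) (graph p j φ₂ hw₂)) := by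
    rw [Scheme.Pullback.range_snd]
    exact h
  have hl := IsOpenImmersion.lift_fac (pullback.snd (graph p j φ hw) (graph p j φ₂ hw₂)) g hr
  rw [← hl, Category.assoc, e2, Category.assoc]

end SchemeGraph

section Graph

variable {U X : Scheme.{u}} (j : U ⟶ X) [hj : Etale j]

/-- base change of the underlying `X`-scheme -/
noncomputable abbrev Bobj (Y : Over (X₀ j)) : U.Etale := (EtCoh.bc j).obj Y.left

lemma w_left (Y : Over (X₀ j)) : Y.hom.left ≫ j = Y.left.hom := MorphismProperty.Over.w Y.hom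

/-- the graph of the structure map -/
noncomputable def gam (Y : Over (X₀ j)) : lamObj j Y ⟶ Bobj j Y :=
  MorphismProperty.Over.homMk (graph Y.left.hom j Y.hom.left (w_left j Y))
    (graph_snd Y.left.hom j Y.hom.left (w_left j Y))

lemma gam_left (Y : Over (X₀ j)) :
    (gam j Y).left = graph Y.left.hom j Y.hom.left (w_left j Y) := rfl

instance mono_gam_left (Y : Over (X₀ j)) : Mono (gam j Y).left :=
  mono_graph Y.left.hom j Y.hom.left (w_left j Y)

lemma isClosed_range_gam [IsSeparated j] (Y : Over (X₀ j)) :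
    IsClosed (Set.range (gam j Y).left) :=
  isClosed_range_graph Y.left.hom j Y.hom.left (w_left j Y)

lemma gam_naturality {Y' Y : Over (X₀ j)} (m : Y' ⟶ Y) :
    gam j Y' ≫ (EtCoh.bc j).map m.left = (lam j).map m ≫ gam j Y := by
  apply MorphismProperty.Over.Hom.ext
  exact graph_naturality Y.left.hom j Y.hom.left (w_left j Y) Y'.left.hom Y'.hom.left (w_left j Y')
    m.left.left (congrArg (fun k => k.left) (Over.w m)) ((EtCoh.bc j).map m.left).left
    (Groth.Agent.Lib.Helper16.SmallEtale.bc_map_left_fst j m.left)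
    (Groth.Agent.Lib.Helper16.SmallEtale.bc_map_left_snd j m.left)

lemma gam_cart {Y' Y : Over (X₀ j)} (m : Y' ⟶ Y) (z' : (Bobj j Y').left) (y : (lamObj j Y).left)
    (h : ((EtCoh.bc j).map m.left).left z' = (gam j Y).left y) :
    ∃ y' : (lamObj j Y').left, (gam j Y').left y' = z' :=
  graph_cart Y.left.hom j Y.hom.left (w_left j Y) Y'.left.hom Y'.hom.left (w_left j Y')
    m.left.left (congrArg (fun k => k.left) (Over.w m)) ((EtCoh.bc j).map m.left).left
    (Groth.Agent.Lib.Helper16.SmallEtale.bc_map_left_fst j m.left)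
    (Groth.Agent.Lib.Helper16.SmallEtale.bc_map_left_snd j m.left)
    (EtCoh.isPullback_bc_map j m.left) z' y h

end Graph

section Theta

variable {U X : Scheme.{u}} (j : U ⟶ X) [hj : Etale j] [IsSeparated j]

/-- extension by zero along the graph -/
noncomputable def xHom (F : EtCoh.Ab U) (Y : Over (X₀ j)) :
    F.obj.obj (op (lamObj j Y)) →+ F.obj.obj (op (Bobj j Y)) :=
  extzHom F (gam j Y) inferInstance (isClosed_range_gam j Y)

lemma isExtZ_xHom (F : EtCoh.Ab U) (Y : Over (X₀ j)) (s : F.obj.obj (op (lamObj j Y))) :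
    IsExtZ F (gam j Y) s (xHom j F Y s) :=
  isExtZ_extzHom (gam j Y) inferInstance (isClosed_range_gam j Y) s

lemma xHom_eq (F : EtCoh.Ab U) (Y : Over (X₀ j)) (s : F.obj.obj (op (lamObj j Y)))
    (t : F.obj.obj (op (Bobj j Y))) (h : IsExtZ F (gam j Y) s t) : xHom j F Y s = t :=
  isExtZ_unique (gam j Y) (isClosed_range_gam j Y) (isExtZ_xHom j F Y s) h

/-- extension by zero along the graphs, as a natural transformation -/
noncomputable def xNat (F : EtCoh.Ab U) :
    (lam j).op ⋙ F.obj ⟶ (Over.forget (X₀ j)).op ⋙ ((EtCoh.push j).obj F).obj where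
  app Y := AddCommGrpCat.ofHom (xHom j F Y.unop)
  naturality Y Y' m := by
    ext s
    exact xHom_eq j F Y'.unop _ _
      ((isExtZ_xHom j F Y.unop s).basechange ((lam j).map m.unop)
        ((EtCoh.bc j).map m.unop.left) (gam_naturality j m.unop) (gam_cart j m.unop))

lemma xNat_app_apply (F : EtCoh.Ab U) (Y : (Over (X₀ j))ᵒᵖ) (s : F.obj.obj (op (lamObj j Y.unop))) :
    (xNat j F).app Y s = xHom j F Y.unop s := rfl

lemma xNat_natural {F F' : EtCoh.Ab U} (α : F ⟶ F') :
    Functor.whiskerLeft (lam j).op α.hom ≫ xNat j F' =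
      xNat j F ≫ Functor.whiskerLeft (Over.forget (X₀ j)).op ((EtCoh.push j).map α).hom := by
  ext Y s
  exact xHom_eq j F' Y.unop _ _ ((isExtZ_xHom j F Y.unop s).map α)

end Theta

section Locus

variable {U X : Scheme.{u}} (j : U ⟶ X) [hj : Etale j] [IsSeparated j] {W : X.Etale}

instance isOpenImmersion_gam_left (Y : Over (X₀ j)) : IsOpenImmersion (gam j Y).left := by
  haveI : Etale (gam j Y).left := inferInstanceAs (Etale (gam j Y).left)
  exact IsOpenImmersion.of_flat_of_mono _

/-- the locus where two sections agree -/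
def eqLocus (φ φ' : W ⟶ X₀ j) : Set W.left :=
  (gam j (Over.mk φ')).left ⁻¹' Set.range (gam j (Over.mk φ)).left

lemma isClopen_eqLocus (φ φ' : W ⟶ X₀ j) : IsClopen (eqLocus j φ φ') := by
  constructor
  · exact (isClosed_range_gam j (Over.mk φ)).preimage (gam j (Over.mk φ')).left.continuous
  · exact ((gam j (Over.mk φ)).left.isOpenEmbedding.isOpen_range).preimage
      (gam j (Over.mk φ')).left.continuous

lemma eq_of_range_subset (φ φ' : W ⟶ X₀ j) {T : X.Etale} (g : T ⟶ W)
    (h : Set.range g.left ⊆ eqLocus j φ φ') : g ≫ φ = g ≫ φ' := by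
  apply MorphismProperty.Over.Hom.ext
  haveI : IsOpenImmersion (graph (Over.mk φ).left.hom j (Over.mk φ).hom.left
      (w_left j (Over.mk φ))) := isOpenImmersion_gam_left j (Over.mk φ)
  exact graph_eq_of_range_subset (Over.mk φ).left.hom j (Over.mk φ).hom.left
    (w_left j (Over.mk φ)) (Over.mk φ').hom.left (w_left j (Over.mk φ')) g.left h

lemma gam_map_apply (φ : W ⟶ X₀ j) {T : X.Etale} (g : T ⟶ W) (q : T.left) :
    ((EtCoh.bc j).map g).left ((gam j (Over.mk (g ≫ φ))).left q) =
      (gam j (Over.mk φ)).left (g.left q) := by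
  have h := gam_naturality j (Over.homMk g rfl : Over.mk (g ≫ φ) ⟶ Over.mk φ)
  have h2 := congrArg (fun k => k.left) h
  have h3 := congrArg (fun k : (lamObj j (Over.mk (g ≫ φ))).left ⟶ (Bobj j (Over.mk φ)).left =>
    k q) h2
  exact h3

lemma disjoint_of_range_disjoint (φ φ' : W ⟶ X₀ j) {T : X.Etale} (g : T ⟶ W)
    (h : Disjoint (Set.range g.left) (eqLocus j φ φ')) (q q' : T.left) :
    (gam j (Over.mk (g ≫ φ))).left q ≠ (gam j (Over.mk (g ≫ φ'))).left q' := by
  intro hq
  have h1 := congrArg (fun z => ((EtCoh.bc j).map g).left z) hq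
  simp only [gam_map_apply] at h1
  have h2 : g.left q' ∈ eqLocus j φ φ' := ⟨g.left q, h1⟩
  exact Set.disjoint_left.mp h ⟨q', rfl⟩ h2

open Classical in
/-- an open neighbourhood of `w` adapted to a finite set of sections -/
def adaptedSet (Φ : Finset (W ⟶ X₀ j)) (w : W.left) : Set W.left :=
  ⋂ φ ∈ Φ, ⋂ φ' ∈ Φ, (if w ∈ eqLocus j φ φ' then eqLocus j φ φ' else (eqLocus j φ φ')ᶜ)

lemma isOpen_adaptedSet (Φ : Finset (W ⟶ X₀ j)) (w : W.left) : IsOpen (adaptedSet j Φ w) := by
  unfold adaptedSet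
  refine isOpen_biInter_finset (fun φ _ => isOpen_biInter_finset (fun φ' _ => ?_))
  split_ifs
  · exact (isClopen_eqLocus j φ φ').isOpen
  · exact (isClopen_eqLocus j φ φ').compl.isOpen

lemma mem_adaptedSet (Φ : Finset (W ⟶ X₀ j)) (w : W.left) : w ∈ adaptedSet j Φ w := by
  unfold adaptedSet
  simp only [Set.mem_iInter]
  intro φ _ φ' _
  split_ifs with h
  · exact h
  · exact h

lemma adaptedSet_cases (Φ : Finset (W ⟶ X₀ j)) (w : W.left) {φ φ' : W ⟶ X₀ j} (hφ : φ ∈ Φ)
    (hφ' : φ' ∈ Φ) :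
    adaptedSet j Φ w ⊆ eqLocus j φ φ' ∨ Disjoint (adaptedSet j Φ w) (eqLocus j φ φ') := by
  by_cases h : w ∈ eqLocus j φ φ'
  · left
    intro z hz
    unfold adaptedSet at hz
    simp only [Set.mem_iInter] at hz
    have := hz φ hφ φ' hφ'
    rwa [if_pos h] at this
  · right
    rw [Set.disjoint_left]
    intro z hz
    unfold adaptedSet at hz
    simp only [Set.mem_iInter] at hz
    have := hz φ hφ φ' hφ'
    rwa [if_neg h] at this

/-- an open subscheme as an object of the small étale site -/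
noncomputable def opObj (O : W.left.Opens) : X.Etale :=
  MorphismProperty.Over.mk ⊤ (O.ι ≫ W.hom) (by haveI : Etale W.hom := W.prop; infer_instance)

/-- the inclusion of an open subscheme -/
noncomputable def opι (O : W.left.Opens) : opObj O ⟶ W := MorphismProperty.Over.homMk O.ι rfl

lemma range_opι (O : W.left.Opens) : Set.range (opι O).left = (O : Set W.left) := by
  change Set.range O.ι = _
  rw [Scheme.Opens.range_ι]

/-- adapted neighbourhoods -/
theorem exists_adapted (Φ : Finset (W ⟶ X₀ j)) (w : W.left) :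
    ∃ (T : X.Etale) (g : T ⟶ W), (∃ t : T.left, g.left t = w) ∧
      ∀ φ ∈ Φ, ∀ φ' ∈ Φ, g ≫ φ = g ≫ φ' ∨
        ∀ q q' : T.left,
          (gam j (Over.mk (g ≫ φ))).left q ≠ (gam j (Over.mk (g ≫ φ'))).left q' := by
  let O : W.left.Opens := ⟨adaptedSet j Φ w, isOpen_adaptedSet j Φ w⟩
  refine ⟨opObj O, opι O, ?_, ?_⟩
  · have : w ∈ Set.range (opι O).left := by rw [range_opι]; exact mem_adaptedSet j Φ w
    exact this
  · intro φ hφ φ' hφ'
    rcases adaptedSet_cases j Φ w hφ hφ' with h | h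
    · left
      apply eq_of_range_subset j φ φ' (opι O)
      rw [range_opι]; exact h
    · right
      apply disjoint_of_range_disjoint j φ φ' (opι O)
      rw [range_opι]; exact h

end Locus

section Main

attribute [local instance] Classical.propDecidable

variable {U X : Scheme.{u}} (j : U ⟶ X) [hj : Etale j] [IsSeparated j] [EtShriek.JCont j]

/-- the presheaf-level comparison map -/
noncomputable def Theta :
    sheafToPresheaf _ _ ⋙ Epre j ⟶ EtCoh.push j ⋙ sheafToPresheaf _ _ :=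
  ThetaOf (EtCoh.push j) (xNat j) (fun α => xNat_natural j α)

variable (F : EtCoh.Ab U)

/-- the presheaf on `Over X₀` -/
noncomputable abbrev NN : (Over (X₀ j))ᵒᵖ ⥤ AddCommGrpCat.{u + 1} := (lam j).op ⋙ F.obj

/-- the comparison map on sections -/
noncomputable def thetaHom (W : X.Etale) :
    Sec.{u + 1} (X₀ j) (NN j F) W →+ F.obj.obj (op ((EtCoh.bc j).obj W)) :=
  (((Theta j).app F).app (op W)).hom

lemma thetaHom_of (W : X.Etale) (φ : W ⟶ X₀ j) (s : F.obj.obj (op (lamObj j (Over.mk φ)))) :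
    thetaHom j F W (DirectSum.of (summand.{u + 1} (X₀ j) (NN j F) W) φ s) =
      xHom j F (Over.mk φ) s :=
  ThetaOf_app_of (EtCoh.push j) (xNat j) (fun α => xNat_natural j α) F W φ s

lemma thetaHom_res {W T : X.Etale} (g : T ⟶ W) (e : Sec.{u + 1} (X₀ j) (NN j F) W) :
    thetaHom j F T (res.{u + 1} (NN j F) g e) =
      F.obj.map ((EtCoh.bc j).map g).op (thetaHom j F W e) :=
  NatTrans.naturality_apply ((Theta j).app F) g.op e

/-- restrict to the graph of `ψ`, then include as the `ψ`-summand -/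
noncomputable def projHom {T : X.Etale} (ψ : T ⟶ X₀ j) :
    Sec.{u + 1} (X₀ j) (NN j F) T →+ Sec.{u + 1} (X₀ j) (NN j F) T :=
  (DirectSum.of (summand.{u + 1} (X₀ j) (NN j F) T) ψ).comp
    ((F.obj.map (gam j (Over.mk ψ)).op).hom.comp (thetaHom j F T))

lemma projHom_apply {T : X.Etale} (ψ : T ⟶ X₀ j) (e : Sec.{u + 1} (X₀ j) (NN j F) T) :
    projHom j F ψ e = DirectSum.of (summand.{u + 1} (X₀ j) (NN j F) T) ψ
      (F.obj.map (gam j (Over.mk ψ)).op (thetaHom j F T e)) := rfl

lemma projHom_of_self {T : X.Etale} (ψ ψ' : T ⟶ X₀ j) (h : ψ' = ψ)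
    (s : F.obj.obj (op (lamObj j (Over.mk ψ')))) :
    projHom j F ψ (DirectSum.of (summand.{u + 1} (X₀ j) (NN j F) T) ψ' s) =
      DirectSum.of (summand.{u + 1} (X₀ j) (NN j F) T) ψ' s := by
  subst h
  rw [projHom_apply, thetaHom_of, (isExtZ_xHom j F (Over.mk ψ') s).1]

lemma projHom_of_disjoint {T : X.Etale} (ψ ψ' : T ⟶ X₀ j)
    (h : ∀ q v, (gam j (Over.mk ψ)).left q ≠ (gam j (Over.mk ψ')).left v)
    (s : F.obj.obj (op (lamObj j (Over.mk ψ')))) :
    projHom j F ψ (DirectSum.of (summand.{u + 1} (X₀ j) (NN j F) T) ψ' s) = 0 := by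
  rw [projHom_apply, thetaHom_of, (isExtZ_xHom j F (Over.mk ψ') s).2 _ (gam j (Over.mk ψ)) h]
  exact map_zero _

set_option maxHeartbeats 400000 in
theorem res_eq_zero_of_theta_eq_zero (W : X.Etale) (e : Sec.{u + 1} (X₀ j) (NN j F) W)
    (he : thetaHom j F W e = 0) (w : W.left) :
    ∃ (T : X.Etale) (g : T ⟶ W), (∃ t : T.left, g.left t = w) ∧
      res.{u + 1} (NN j F) g e = 0 := by
  obtain ⟨T, g, ht, hadapt⟩ := exists_adapted j (DFinsupp.support e) w
  refine ⟨T, g, ht, ?_⟩
  let a : (W ⟶ X₀ j) → Sec.{u + 1} (X₀ j) (NN j F) T := fun φ =>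
    res.{u + 1} (NN j F) g (DirectSum.of (summand.{u + 1} (X₀ j) (NN j F) W) φ (e φ))
  have hsum : res.{u + 1} (NN j F) g e = ∑ φ ∈ DFinsupp.support e, a φ := by
    conv_lhs => rw [← DirectSum.sum_support_of e]
    rw [map_sum]
  have ha : ∀ φ, a φ = DirectSum.of (summand.{u + 1} (X₀ j) (NN j F) T) (g ≫ φ)
      (((NN j F).map (Over.homMk g rfl : Over.mk (g ≫ φ) ⟶ Over.mk φ).op).hom (e φ)) :=
    fun φ => res_of.{u + 1} (NN j F) g φ (g ≫ φ) rfl (e φ)
  have hθ : thetaHom j F T (res.{u + 1} (NN j F) g e) = 0 := by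
    rw [thetaHom_res, he, map_zero]
  have key : ∀ φ₀ ∈ DFinsupp.support e,
      ∑ φ ∈ DFinsupp.support e with g ≫ φ = g ≫ φ₀, a φ = 0 := by
    intro φ₀ hφ₀
    have h0 : projHom j F (g ≫ φ₀) (res.{u + 1} (NN j F) g e) = 0 := by
      rw [projHom_apply, hθ, map_zero]
      exact map_zero _
    rw [hsum, map_sum] at h0
    rw [Finset.sum_filter]
    refine Eq.trans ?_ h0
    apply Finset.sum_congr rfl
    intro φ hφ
    split_ifs with hc
    · rw [ha]
      exact (projHom_of_self j F (g ≫ φ₀) (g ≫ φ) hc _).symm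
    · rw [ha]
      rcases hadapt φ hφ φ₀ hφ₀ with h | h
      · exact absurd h hc
      · exact (projHom_of_disjoint j F (g ≫ φ₀) (g ≫ φ) (fun q v => (h v q).symm) _).symm
  rw [hsum, ← Finset.sum_fiberwise_of_maps_to (t := (DFinsupp.support e).image (fun φ => g ≫ φ))
    (g := fun φ => g ≫ φ) (fun φ hφ => Finset.mem_image_of_mem _ hφ)]
  apply Finset.sum_eq_zero
  intro ψ hψ
  obtain ⟨φ₀, hφ₀, rfl⟩ := Finset.mem_image.1 hψ
  exact key φ₀ hφ₀

theorem isLocallyInjective_Theta :
    Presheaf.IsLocallyInjective X.smallEtaleTopology ((Theta j).app F) := by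
  constructor
  intro Wop x y hxy
  rw [Groth.Agent.Lib.Helper16.SmallEtale.mem_smallEtale_iff]
  intro w
  let x' : Sec.{u + 1} (X₀ j) (NN j F) Wop.unop := x
  let y' : Sec.{u + 1} (X₀ j) (NN j F) Wop.unop := y
  have hxy' : thetaHom j F Wop.unop x' = thetaHom j F Wop.unop y' := hxy
  have he : thetaHom j F Wop.unop (x' - y') = 0 := by rw [map_sub, hxy', sub_self]
  obtain ⟨T, g, ⟨t, ht⟩, hg⟩ := res_eq_zero_of_theta_eq_zero j F Wop.unop (x' - y') he w
  refine ⟨T, g, t, ?_, ht⟩
  rw [map_sub, sub_eq_zero] at hg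
  exact hg

/-- the comparison map from extension by zero to the direct image -/
noncomputable def tau : EtShriek.extZero j ⟶ EtCoh.push j :=
  (LIso j).hom ≫ ofPre (EtCoh.push j) (Theta j)

theorem mono_tau_app : Mono ((tau j).app F) := by
  haveI : Mono ((ofPre (EtCoh.push j) (Theta j)).app F) :=
    mono_ofPre_app (EtCoh.push j) (Theta j) F (isLocallyInjective_Theta j F)
  change Mono ((LIso j).hom.app F ≫ (ofPre (EtCoh.push j) (Theta j)).app F)
  infer_instance

end Main

theorem main_S0650 {U X : Scheme.{u}} (j : U ⟶ X) [AlgebraicGeometry.Etale j]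
    [IsSeparated j] [EtShriek.JCont j] :
    ∃ τ : EtShriek.extZero j ⟶ EtCoh.push j, ∀ F : EtCoh.Ab U, Mono (τ.app F) :=
  ⟨tau j, fun F => mono_tau_app j F⟩

end Groth.Agent.Lib.T2H8.ExtZeroMono
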