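import Mathlib
import Groth.Prelude.Def_EtShriek2
import Groth.Agent.Lib.T2H8ExtZeroMono
import Groth.Agent.Lib.T2H8ShriekSheaf
import Groth.Agent.Lib.Helper20EtSections3
import Groth.Agent.Lib.Helper1ProperOver

set_option autoImplicit false
set_option linter.unusedSectionVars false
set_option linter.style.haveILetI false
universe u
open CategoryTheory CategoryTheory.Limits Opposite AlgebraicGeometry

namespace Groth.Agent.Lib.T2H8.ExtZeroShriek
open Groth.Agent.Lib.T2H8.ExtZeroExplicit Groth.Agent.Lib.Helper9.ExtZero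
open Groth.Agent.Lib.T2H8.ExtZeroMono
open Groth.Agent.Lib.Helper1 Groth.Agent.Lib.Helper20.EtSections

section SchemeLevel

variable {B W₀ : Scheme.{u}} (p : B ⟶ W₀) [Etale p] [IsSeparated p]

/-- the fibre of a closed subset proper over the base is finite (for `p` étale) -/
theorem finite_fibre_of_isProperOver (Z : Set B) (hZ : ClSub.IsProperOver p Z) (w : W₀) :
    (Z ∩ p ⁻¹' {w}).Finite := by
  obtain ⟨hcl, hprop⟩ := hZ
  haveI : IsProper (redι Z hcl ≫ p) := hprop
  haveI : LocallyQuasiFinite p := locallyQuasiFinite_of_etale p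
  have hfin := Scheme.Hom.finite_preimage_singleton (redι Z hcl ≫ p) w
  refine (hfin.image (redι Z hcl)).subset ?_
  rintro b ⟨hbZ, hbw⟩
  rw [← range_redι Z hcl] at hbZ
  obtain ⟨z, rfl⟩ := hbZ
  exact ⟨z, hbw, rfl⟩

/-- images under the projection of closed subsets of the preimage of `Z` are closed -/
theorem isClosed_image_snd (Z : Set B) (hZ : ClSub.IsProperOver p Z) {T : Scheme.{u}} (g : T ⟶ W₀)
    (C : Set ↥(pullback p g)) (hC : IsClosed C) (hCZ : C ⊆ (pullback.fst p g) ⁻¹' Z) :
    IsClosed ((pullback.snd p g) '' C) := by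
  obtain ⟨hcl, hprop⟩ := hZ
  haveI : IsProper (redι Z hcl ≫ p) := hprop
  let q := redι Z hcl ≫ p
  let ι' : pullback q g ⟶ pullback p g :=
    pullback.map q g p g (redι Z hcl) (𝟙 T) (𝟙 W₀) (by simp [q]) (by simp)
  have h1 : ι' ≫ pullback.snd p g = pullback.snd q g := by
    change pullback.map q g p g (redι Z hcl) (𝟙 T) (𝟙 W₀) _ _ ≫ pullback.snd p g = pullback.snd q g
    rw [pullback.lift_snd, Category.comp_id]
  have hrange : ∀ x : ↥(pullback p g), pullback.fst p g x ∈ Z → x ∈ Set.range ι' := by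
    intro x hx
    rw [Scheme.Pullback.range_map]
    refine ⟨?_, by simp⟩
    rw [Set.mem_preimage, range_redι]
    exact hx
  have hcm : IsClosedMap (pullback.snd q g) := (pullback.snd q g).isClosedMap
  have himg : (pullback.snd p g) '' C = (pullback.snd q g) '' (ι' ⁻¹' C) := by
    ext t
    constructor
    · rintro ⟨x, hxC, rfl⟩
      obtain ⟨y, rfl⟩ := hrange x (hCZ hxC)
      refine ⟨y, hxC, ?_⟩
      rw [← h1, Scheme.Hom.comp_apply]
    · rintro ⟨y, hyC, rfl⟩
      refine ⟨ι' y, hyC, ?_⟩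
      rw [← h1, Scheme.Hom.comp_apply]
  rw [himg]
  exact hcm _ (hC.preimage ι'.continuous)

/-- étale locally on the base, a closed subset proper over the base is covered by finitely many
pairwise disjoint sections -/
theorem exists_sections_covering (Z : Set B) (hZ : ClSub.IsProperOver p Z) (w : W₀) :
    ∃ (T : Scheme.{u}) (g : T ⟶ W₀) (t₀ : T), Etale g ∧ g t₀ = w ∧
      ∃ (K : Type) (_ : Finite K) (σ : K → (T ⟶ pullback p g)),
        (∀ k, σ k ≫ pullback.snd p g = 𝟙 T) ∧
        (∀ k k', k ≠ k' → Disjoint (Set.range (σ k)) (Set.range (σ k'))) ∧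
        (∀ x : ↥(pullback p g), pullback.fst p g x ∈ Z → ∃ k, x ∈ Set.range (σ k)) := by
  have hfin := finite_fibre_of_isProperOver p Z hZ w
  have hsec : HasSections p w (Z ∩ p ⁻¹' {w}) := by
    apply hasSections_of_finite p w _ hfin
    intro t ht
    refine ⟨ht.2, ⊤, trivial, ?_⟩
    infer_instance
  obtain ⟨T₀, g₀, t₀, hg₀, hgt₀, K, hK, W', V, hcov, hdW, hdV, hiso, hW'⟩ :=
    hsec.exists_decomposition
  -- the bad closed set
  have hW'cl : IsClosed (W' : Set ↥(pullback p g₀)) := by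
    have : (W' : Set ↥(pullback p g₀)) = (⋃ k, (V k : Set ↥(pullback p g₀)))ᶜ := by
      ext x
      simp only [Set.mem_compl_iff, Set.mem_iUnion, SetLike.mem_coe, not_exists]
      constructor
      · intro hx k hk
        exact (Set.disjoint_left.mp (by
          have := hdW k
          rwa [← TopologicalSpace.Opens.coe_disjoint] at this) hx hk)
      · intro hx
        have hx' : x ∈ (W' ⊔ ⨆ k, V k : (pullback p g₀).Opens) := by rw [hcov]; trivial
        rcases hx' with h | h
        · exact h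
        · exfalso
          have h' : x ∈ (⨆ k, V k : (pullback p g₀).Opens) := h
          rw [TopologicalSpace.Opens.mem_iSup] at h'
          obtain ⟨k, hk⟩ := h'
          exact hx k hk
    rw [this]
    exact (isOpen_iUnion (fun k => (V k).isOpen)).isClosed_compl
  let C : Set ↥(pullback p g₀) := (W' : Set ↥(pullback p g₀)) ∩ (pullback.fst p g₀) ⁻¹' Z
  have hCcl : IsClosed C := hW'cl.inter (hZ.1.preimage (pullback.fst p g₀).continuous)
  have himg : IsClosed ((pullback.snd p g₀) '' C) :=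
    isClosed_image_snd p Z hZ g₀ C hCcl Set.inter_subset_right
  have ht₀ : t₀ ∉ (pullback.snd p g₀) '' C := by
    rintro ⟨x, ⟨hxW, hxZ⟩, hxt⟩
    refine hW' x hxW hxt ⟨hxZ, ?_⟩
    rw [Set.mem_preimage, Set.mem_singleton_iff, ← Scheme.Hom.comp_apply, pullback.condition,
      Scheme.Hom.comp_apply, hxt, hgt₀]
  let T₁ : T₀.Opens := ⟨((pullback.snd p g₀) '' C)ᶜ, himg.isOpen_compl⟩
  have ht₁ : t₀ ∈ Set.range T₁.ι := by rw [Scheme.Opens.range_ι]; exact ht₀
  obtain ⟨t₁, ht₁⟩ := ht₁
  let m := bcMap p g₀ T₁.ι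
  let V' : K → (pullback p (T₁.ι ≫ g₀)).Opens := fun k => m ⁻¹ᵁ V k
  have hiso' : ∀ k, IsIso ((V' k).ι ≫ pullback.snd p (T₁.ι ≫ g₀)) := fun k => by
    haveI := hiso k
    exact isIso_preimage_bcMap p g₀ T₁.ι (V k)
  have hσ : ∀ k, ∃ σ : (T₁ : Scheme.{u}) ⟶ pullback p (T₁.ι ≫ g₀),
      σ ≫ pullback.snd p (T₁.ι ≫ g₀) = 𝟙 _ ∧ IsClosedImmersion σ ∧
        Set.range σ = (V' k : Set ↥(pullback p (T₁.ι ≫ g₀))) := fun k => by
    haveI := hiso' k
    exact exists_section_of_isIso (pullback.snd p (T₁.ι ≫ g₀)) (V' k)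
  choose σ hσ1 hσ2 hσ3 using hσ
  refine ⟨T₁, T₁.ι ≫ g₀, t₁, inferInstance, ?_, K, hK, σ, hσ1, ?_, ?_⟩
  · rw [Scheme.Hom.comp_apply, ht₁, hgt₀]
  · intro k k' hkk'
    rw [hσ3, hσ3, Set.disjoint_left]
    intro x hx hx'
    have h1 : m x ∈ V k := hx
    have h2 : m x ∈ V k' := hx'
    have := hdV k k' hkk'
    rw [← TopologicalSpace.Opens.coe_disjoint] at this
    exact Set.disjoint_left.mp this h1 h2
  · intro x hx
    have hmx : m x ∈ (W' ⊔ ⨆ k, V k : (pullback p g₀).Opens) := by rw [hcov]; trivial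
    rcases hmx with h | h
    · exfalso
      have hC : m x ∈ C := by
        refine ⟨h, ?_⟩
        rw [Set.mem_preimage, bcMap_fst_apply]
        exact hx
      have h1 : pullback.snd p g₀ (m x) ∈ (pullback.snd p g₀) '' C := ⟨m x, hC, rfl⟩
      rw [bcMap_snd_apply] at h1
      have h2 : T₁.ι (pullback.snd p (T₁.ι ≫ g₀) x) ∈ Set.range T₁.ι := ⟨_, rfl⟩
      rw [Scheme.Opens.range_ι] at h2
      exact h2 h1
    · have h' : m x ∈ (⨆ k, V k : (pullback p g₀).Opens) := h
      rw [TopologicalSpace.Opens.mem_iSup] at h'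
      obtain ⟨k, hk⟩ := h'
      refine ⟨k, ?_⟩
      rw [hσ3]
      exact hk

end SchemeLevel

section ProperSupport

open Groth.Agent.Lib.T2H8.ShriekSheaf Groth.Agent.Lib.T2H8.Excision

variable {U X : Scheme.{u}} (j : U ⟶ X) [hj : Etale j] [IsSeparated j] (F : EtCoh.Ab U)

omit hj in
lemma isClosedImmersion_graph {W : Scheme.{u}} (p : W ⟶ X) (φ : W ⟶ U) (hw : φ ≫ j = p) :
    IsClosedImmersion (graph p j φ hw) := by
  haveI : IsClosedImmersion (graph p j φ hw ≫ pullback.fst p j) := by
    rw [graph_fst]; infer_instance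
  exact IsClosedImmersion.of_comp (graph p j φ hw) (pullback.fst p j)

instance isClosedImmersion_gam_left (Y : Over (X₀ j)) : IsClosedImmersion (gam j Y).left :=
  isClosedImmersion_graph j Y.left.hom Y.hom.left (w_left j Y)

/-- extensions by zero along graphs have proper support -/
theorem hasProperSupport_xHom {W : X.Etale} (φ : W ⟶ X₀ j)
    (s : F.obj.obj (op (lamObj j (Over.mk φ)))) :
    EtShriek.HasProperSupport F ((EtCoh.bc j).obj W) (xHom j F (Over.mk φ) s)
      (EtShriek.prV j W) := by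
  refine ⟨Set.range (gam j (Over.mk φ)).left, ?_, ?_⟩
  · intro x hx
    by_contra hxr
    have hcl := isClosed_range_gam j (Over.mk φ)
    have hx' : x ∈ Set.range (complι (gam j (Over.mk φ)) hcl).left := by
      rw [range_complι]; exact hxr
    obtain ⟨q, hq⟩ := hx'
    refine hx _ (complι (gam j (Over.mk φ)) hcl) ⟨q, hq⟩ ?_
    apply (isExtZ_xHom j F (Over.mk φ) s).2
    intro q' v hq'
    have : (complι (gam j (Over.mk φ)) hcl).left q' ∈ (Set.range (gam j (Over.mk φ)).left)ᶜ := by
      rw [← range_complι _ hcl]; exact ⟨q', rfl⟩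
    exact this ⟨v, hq'.symm⟩
  · haveI : LocallyOfFiniteType j := inferInstance
    rw [isProperOver_iff_isProper_comp (EtShriek.prV j W) (gam j (Over.mk φ)).left _ rfl]
    have : (gam j (Over.mk φ)).left ≫ EtShriek.prV j W = 𝟙 _ :=
      graph_fst (Over.mk φ).left.hom j (Over.mk φ).hom.left (w_left j (Over.mk φ))
    rw [this]
    exact (inferInstance : IsProper (𝟙 W.left))

theorem shriekPred_xHom {W : X.Etale} (φ : W ⟶ X₀ j)
    (s : F.obj.obj (op (lamObj j (Over.mk φ)))) :
    EtShriek.ShriekPred j F W (xHom j F (Over.mk φ) s) := by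
  intro V' ψ
  have h := (isExtZ_xHom j F (Over.mk φ) s).basechange
    ((lam j).map (Over.homMk ψ rfl : Over.mk (ψ ≫ φ) ⟶ Over.mk φ))
    ((EtCoh.bc j).map ψ) (gam_naturality j (Over.homMk ψ rfl : Over.mk (ψ ≫ φ) ⟶ Over.mk φ))
    (gam_cart j (Over.homMk ψ rfl : Over.mk (ψ ≫ φ) ⟶ Over.mk φ))
  rw [← xHom_eq j F (Over.mk (ψ ≫ φ)) _ _ h]
  exact hasProperSupport_xHom j F (ψ ≫ φ) _

end ProperSupport

section SchemeLevel2

variable {Wl U X Ts : Scheme.{u}} (pW : Wl ⟶ X) (j : U ⟶ X) (g₀ : Ts ⟶ Wl) (pT : Ts ⟶ X)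
  (hT : g₀ ≫ pW = pT)
  (σ : Ts ⟶ pullback (pullback.fst pW j) g₀)
  (hσ : σ ≫ pullback.snd (pullback.fst pW j) g₀ = 𝟙 Ts)

include hT hσ in
lemma phi_w : (σ ≫ pullback.fst (pullback.fst pW j) g₀ ≫ pullback.snd pW j) ≫ j = pT := by
  have c1 : pullback.snd pW j ≫ j = pullback.fst pW j ≫ pW := pullback.condition.symm
  have c2 : pullback.fst (pullback.fst pW j) g₀ ≫ pullback.fst pW j =
    pullback.snd (pullback.fst pW j) g₀ ≫ g₀ := pullback.condition
  rw [Category.assoc, Category.assoc, c1, reassoc_of% c2, reassoc_of% hσ, hT]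

variable (b : pullback pT j ⟶ pullback pW j)
  (hb1 : b ≫ pullback.fst pW j = pullback.fst pT j ≫ g₀)
  (hb2 : b ≫ pullback.snd pW j = pullback.snd pT j)
  (sq : IsPullback b (pullback.fst pT j) (pullback.fst pW j) g₀)

include hb1 hb2 in
lemma graph_comp_iso :
    graph pT j (σ ≫ pullback.fst (pullback.fst pW j) g₀ ≫ pullback.snd pW j)
      (phi_w pW j g₀ pT hT σ hσ) ≫ sq.isoPullback.hom = σ := by
  have c2 : pullback.fst (pullback.fst pW j) g₀ ≫ pullback.fst pW j =
    pullback.snd (pullback.fst pW j) g₀ ≫ g₀ := pullback.condition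
  apply pullback.hom_ext
  · rw [Category.assoc, IsPullback.isoPullback_hom_fst]
    apply pullback.hom_ext
    · rw [Category.assoc, hb1, graph_fst_assoc, Category.assoc, c2, reassoc_of% hσ]
    · rw [Category.assoc, hb2, graph_snd, Category.assoc]
  · rw [Category.assoc, IsPullback.isoPullback_hom_snd, graph_fst, hσ]

omit hT hσ in
lemma iso_hom_injective {A B : Scheme.{u}} (e : A ≅ B) : Function.Injective e.hom := by
  intro a b hab
  have h := congrArg (fun z => e.inv z) hab
  have e1 : ∀ a : A, e.inv (e.hom a) = a := fun a => by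
    rw [← Scheme.Hom.comp_apply, Iso.hom_inv_id]; rfl
  simpa [e1] using h

lemma isoPullback_hom_fst_apply {P A B C : Scheme.{u}} {a : P ⟶ A} {b' : P ⟶ B} {f : A ⟶ C}
    {g : B ⟶ C} (sq : IsPullback a b' f g) (x : P) :
    pullback.fst f g (sq.isoPullback.hom x) = a x := by
  rw [← Scheme.Hom.comp_apply, IsPullback.isoPullback_hom_fst]

end SchemeLevel2

section LocalSurj

open Groth.Agent.Lib.T2H8.ShriekSheaf Groth.Agent.Lib.T2H8.Excision
open Groth.Agent.Lib.Helper16.SmallEtale

attribute [local instance] Classical.propDecidable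

variable {U X : Scheme.{u}} (j : U ⟶ X) [hj : Etale j] [IsSeparated j] [EtShriek.JCont j]
  (F : EtCoh.Ab U)

set_option backward.isDefEq.respectTransparency.types false in
set_option maxHeartbeats 800000 in
theorem exists_local_preimage (W : X.Etale) (t : F.obj.obj (op ((EtCoh.bc j).obj W)))
    (ht : EtShriek.HasProperSupport F ((EtCoh.bc j).obj W) t (EtShriek.prV j W)) (w : W.left) :
    ∃ (T : X.Etale) (g : T ⟶ W), (∃ t₀ : T.left, g.left t₀ = w) ∧
      ∃ e : Sec.{u + 1} (X₀ j) (NN j F) T,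
        thetaHom j F T e = F.obj.map ((EtCoh.bc j).map g).op t := by
  obtain ⟨Z, hsupp, hZ⟩ := ht
  haveI : Etale (EtShriek.prV j W) :=
    MorphismProperty.pullback_fst (P := @Etale) _ _ inferInstance
  haveI : IsSeparated (EtShriek.prV j W) :=
    MorphismProperty.pullback_fst (P := @IsSeparated) _ _ inferInstance
  obtain ⟨Ts, g₀, t₀, hg₀, hgt₀, K, hK, σ, hσ1, hσdisj, hσcov⟩ :=
    exists_sections_covering (EtShriek.prV j W) Z hZ w
  haveI : Etale W.hom := W.prop
  let T : X.Etale := MorphismProperty.Over.mk ⊤ (g₀ ≫ W.hom) inferInstance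
  let g : T ⟶ W := MorphismProperty.Over.homMk g₀ rfl
  have sq := EtCoh.isPullback_bc_map j g
  let φ : K → (T ⟶ X₀ j) := fun k => MorphismProperty.Over.homMk
    (σ k ≫ pullback.fst (pullback.fst W.hom j) g₀ ≫ pullback.snd W.hom j)
    (phi_w W.hom j g₀ (g₀ ≫ W.hom) rfl (σ k) (hσ1 k))
  have hkey : ∀ k, (gam j (Over.mk (φ k))).left ≫ sq.isoPullback.hom = σ k := fun k =>
    graph_comp_iso W.hom j g₀ (g₀ ≫ W.hom) rfl (σ k) (hσ1 k) ((EtCoh.bc j).map g).left
      (bc_map_left_fst j g) (bc_map_left_snd j g) sq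
  have hkey' : ∀ k (y : T.left),
      sq.isoPullback.hom ((gam j (Over.mk (φ k))).left y) = σ k y := fun k y =>
    congrArg (fun m : T.left ⟶ pullback (pullback.fst W.hom j) g₀ => m y) (hkey k)
  have hinj : Function.Injective sq.isoPullback.hom := iso_hom_injective sq.isoPullback
  have hrange : ∀ k (b : ((EtCoh.bc j).obj T).left), sq.isoPullback.hom b ∈ Set.range (σ k) →
      b ∈ Set.range (gam j (Over.mk (φ k))).left := by
    rintro k b ⟨y, hy⟩
    refine ⟨y, hinj ?_⟩
    rw [hkey' k y, hy]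
  have hdisj : ∀ k k', k ≠ k' → ∀ (q v : T.left),
      (gam j (Over.mk (φ k))).left q ≠ (gam j (Over.mk (φ k'))).left v := by
    intro k k' hkk' q v hqv
    have h1 := congrArg (fun z => sq.isoPullback.hom z) hqv
    simp only [hkey'] at h1
    exact Set.disjoint_left.mp (hσdisj k k' hkk') ⟨q, rfl⟩ ⟨v, h1.symm⟩
  have hcov : ∀ b : ((EtCoh.bc j).obj T).left, ((EtCoh.bc j).map g).left b ∈ Z →
      ∃ k, b ∈ Set.range (gam j (Over.mk (φ k))).left := by
    intro b hb
    have h1 : pullback.fst (EtShriek.prV j W) g₀ (sq.isoPullback.hom b) ∈ Z :=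
      Set.mem_of_eq_of_mem (isoPullback_hom_fst_apply sq b) hb
    obtain ⟨k, hk⟩ := hσcov _ h1
    exact ⟨k, hrange k b hk⟩
  haveI := Fintype.ofFinite K
  let t' : F.obj.obj (op ((EtCoh.bc j).obj T)) := F.obj.map ((EtCoh.bc j).map g).op t
  let sk : ∀ k, F.obj.obj (op (lamObj j (Over.mk (φ k)))) := fun k =>
    F.obj.map (gam j (Over.mk (φ k))).op t'
  let e : Sec.{u + 1} (X₀ j) (NN j F) T :=
    ∑ k, DirectSum.of (summand.{u + 1} (X₀ j) (NN j F) T) (φ k) (sk k)
  have he : thetaHom j F T e = ∑ k, xHom j F (Over.mk (φ k)) (sk k) := by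
    rw [map_sum]
    exact Finset.sum_congr rfl (fun k _ => thetaHom_of j F T (φ k) (sk k))
  refine ⟨T, g, ⟨t₀, hgt₀⟩, e, ?_⟩
  rw [he]
  apply Groth.Agent.Lib.T2H8.FiniteConservative.eq_of_locally_eq'
    (F.obj ⋙ forget AddCommGrpCat.{u + 1}) (Groth.Agent.Lib.T2H8FiniteShriek.isSheaf_forget F)
  intro b
  by_cases hb : ∃ k, b ∈ Set.range (gam j (Over.mk (φ k))).left
  · obtain ⟨k, y, hy⟩ := hb
    refine ⟨lamObj j (Over.mk (φ k)), gam j (Over.mk (φ k)), ⟨y, hy⟩, ?_⟩
    change F.obj.map (gam j (Over.mk (φ k))).op (∑ k', xHom j F (Over.mk (φ k')) (sk k')) =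
      F.obj.map (gam j (Over.mk (φ k))).op t'
    rw [map_sum, Finset.sum_eq_single k]
    · exact (isExtZ_xHom j F (Over.mk (φ k)) (sk k)).1
    · intro k' _ hk'
      exact (isExtZ_xHom j F (Over.mk (φ k')) (sk k')).2 _ (gam j (Over.mk (φ k)))
        (hdisj k k' (Ne.symm hk'))
    · intro h; exact absurd (Finset.mem_univ k) h
  · have hbs : b ∉ EtShriek.sectSupp F ((EtCoh.bc j).obj T) t' := by
      intro hbs
      rw [sectSupp_map F ((EtCoh.bc j).map g) t] at hbs
      exact hb (hcov b (hsupp hbs))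
    rw [not_mem_sectSupp_iff] at hbs
    obtain ⟨Q, h, ⟨q, hq⟩, hQ⟩ := hbs
    let Rg : K → Set ((EtCoh.bc j).obj T).left :=
      fun k => Set.range (gam j (Over.mk (φ k))).left
    have hopen : IsOpen (⋃ k, Rg k)ᶜ := by
      have hc : ∀ k, IsClosed (Rg k) :=
        fun k => isClosed_range_gam j (Over.mk (φ k))
      exact (isClosed_iUnion_of_finite hc).isOpen_compl
    let O₀ : ((EtCoh.bc j).obj T).left.Opens := ⟨_, hopen⟩
    let O : Q.left.Opens := h.left ⁻¹ᵁ O₀
    have hqO : q ∈ Set.range (opι O).left := by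
      rw [range_opι]
      change h.left q ∈ (⋃ k, Rg k)ᶜ
      have hq' : h.left q = b := hq
      rw [hq']
      simpa [Rg] using hb
    obtain ⟨q'', hq''⟩ := hqO
    refine ⟨opObj O, opι O ≫ h, ⟨q'', ?_⟩, ?_⟩
    · have e1 : (opι O ≫ h).left q'' = h.left ((opι O).left q'') := rfl
      rw [e1, hq'']
      exact hq
    · change F.obj.map (opι O ≫ h).op (∑ k', xHom j F (Over.mk (φ k')) (sk k')) =
        F.obj.map (opι O ≫ h).op t'
      have hR : F.obj.map (opι O ≫ h).op t' = 0 := by
        rw [← Groth.Agent.Lib.T2H8.LocTriv.map_map_apply F h (opι O) t', hQ, map_zero]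
      rw [hR, map_sum]
      apply Finset.sum_eq_zero
      intro k _
      apply (isExtZ_xHom j F (Over.mk (φ k)) (sk k)).2
      intro z v hzv
      have hz : (opι O).left z ∈ Set.range (opι O).left := ⟨z, rfl⟩
      rw [range_opι] at hz
      have hz' : h.left ((opι O).left z) ∈ (⋃ k, Rg k)ᶜ := hz
      apply hz'
      rw [Set.mem_iUnion]
      exact ⟨k, v, hzv.symm⟩

theorem thetaHom_mem (W : X.Etale) (e : Sec.{u + 1} (X₀ j) (NN j F) W) :
    thetaHom j F W e ∈ EtShriek.shriekSubgroup j F W := by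
  induction e using DirectSum.induction_on with
  | zero => rw [map_zero]; exact zero_mem _
  | of φ s =>
    rw [thetaHom_of]
    exact AddSubgroup.subset_closure (shriekPred_xHom j F φ s)
  | add x y hx hy => rw [map_add]; exact add_mem hx hy

/-- the comparison map into the presheaf of sections with proper support -/
noncomputable def ThetaShriekApp :
    (Epre j).obj F.obj ⟶ EtShriek.lowerShriekPre j F where
  app V := AddCommGrpCat.ofHom
    ((thetaHom j F V.unop).codRestrict (EtShriek.shriekSubgroup j F V.unop)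
      (fun e => thetaHom_mem j F V.unop e))
  naturality V V' m := by
    ext e
    apply Subtype.ext
    exact thetaHom_res j F m.unop e

lemma ThetaShriekApp_comp_ι :
    ThetaShriekApp j F ≫ EtShriek.lowerShriekPreι j F = (Theta j).app F := by
  ext V e
  rfl

/-- the comparison map, natural in the sheaf -/
noncomputable def ThetaShriek :
    sheafToPresheaf _ _ ⋙ Epre j ⟶ EtShriek.lowerShriekPreFunctor j where
  app F := ThetaShriekApp j F
  naturality F F' α := by
    ext V e
    apply Subtype.ext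
    have h := congrArg (fun k => (k.app V) e) ((Theta j).naturality α)
    exact h

instance isLocallyInjective_ThetaShriekApp :
    Presheaf.IsLocallyInjective X.smallEtaleTopology (ThetaShriekApp j F) := by
  haveI : Presheaf.IsLocallyInjective X.smallEtaleTopology
      (ThetaShriekApp j F ≫ EtShriek.lowerShriekPreι j F) := by
    rw [ThetaShriekApp_comp_ι]
    exact isLocallyInjective_Theta j F
  exact Presheaf.isLocallyInjective_of_isLocallyInjective X.smallEtaleTopology
    (ThetaShriekApp j F) (EtShriek.lowerShriekPreι j F)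

instance isLocallySurjective_ThetaShriekApp :
    Presheaf.IsLocallySurjective X.smallEtaleTopology (ThetaShriekApp j F) := by
  constructor
  intro W x
  rw [mem_smallEtale_iff]
  intro w
  have hx : EtShriek.ShriekPred j F W x.1 := (mem_shriekSubgroup_iff j F W x.1).1 x.2
  have hx' : EtShriek.HasProperSupport F ((EtCoh.bc j).obj W) x.1 (EtShriek.prV j W) := by
    have := hx W (𝟙 W)
    have e1 : F.obj.map ((EtCoh.bc j).map (𝟙 W)).op x.1 = x.1 := by
      rw [CategoryTheory.Functor.map_id, op_id, CategoryTheory.Functor.map_id]; rfl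
    rw [e1] at this
    exact this
  obtain ⟨T, g, ⟨t₀, ht₀⟩, e, he⟩ := exists_local_preimage j F W x.1 hx' w
  refine ⟨T, g, t₀, ⟨e, ?_⟩, ht₀⟩
  apply Subtype.ext
  exact he

theorem isIso_sheafify_ThetaShriekApp :
    IsIso ((presheafToSheaf X.smallEtaleTopology AddCommGrpCat.{u + 1}).map
      (ThetaShriekApp j F)) := by
  rw [← GrothendieckTopology.W_iff]
  exact GrothendieckTopology.W_of_isLocallyBijective _ _

/-- the explicit extension by zero is the direct image with proper support -/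
noncomputable def LIsoShriek : L j ≅ EtShriek.lowerShriek j :=
  NatIso.ofComponents
    (fun F => @asIso _ _ _ _ ((presheafToSheaf X.smallEtaleTopology AddCommGrpCat.{u + 1}).map
        (ThetaShriekApp j F)) (isIso_sheafify_ThetaShriekApp j F))
    (fun {F F'} α => by
      have h := congrArg
        (fun k => (presheafToSheaf X.smallEtaleTopology AddCommGrpCat.{u + 1}).map k)
        ((ThetaShriek j).naturality α)
      simp only [Functor.map_comp] at h
      exact h)

end LocalSurj

theorem main_S0727 {U X : Scheme.{u}} (j : U ⟶ X) [Etale j]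
    [IsSeparated j] [EtShriek.JCont j] :
    Nonempty (EtShriek.extZero j ≅ EtShriek.lowerShriek j) :=
  ⟨LIso j ≪≫ LIsoShriek j⟩

end Groth.Agent.Lib.T2H8.ExtZeroShriek
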