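import Mathlib
import Groth.Agent.Lib.T2H8CplEquiv
import Groth.Agent.Lib.Helper14InvLim

/-!
# Lifting a finite map between reductions of smooth algebras to the completions (S19376)
-/

set_option autoImplicit false
universe u

namespace Groth.Agent.Lib.T2H8.SmoothFinLift

open AdicCompletion

/-- a finite ring hom has explicit module generators -/
theorem exists_gens_of_finite {R S : Type*} [CommRing R] [CommRing S] (ψ : R →+* S)
    (hψ : ψ.Finite) :
    ∃ (n : ℕ) (c : Fin n → S), ∀ s : S, ∃ r : Fin n → R, s = ∑ i, ψ (r i) * c i := by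
  classical
  letI := ψ.toAlgebra
  haveI : Module.Finite R S := hψ
  obtain ⟨n, f, hf⟩ := Module.Finite.exists_fin' R S
  refine ⟨n, fun i => f (fun j => if i = j then 1 else 0), fun s => ?_⟩
  obtain ⟨r, rfl⟩ := hf s
  refine ⟨r, ?_⟩
  rw [LinearMap.pi_apply_eq_sum_univ f r]
  refine Finset.sum_congr rfl fun i _ => ?_
  rw [Algebra.smul_def]
  rfl

/-- complete Nakayama: a ring map out of a complete ring into a separated ring which is finite
modulo the ideal is finite -/
theorem finite_of_complete {P T : Type*} [CommRing P] [CommRing T] (φ : P →+* T) (𝔞 : Ideal P)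
    [IsPrecomplete 𝔞 P] [hH : IsHausdorff (𝔞.map φ) T] (n : ℕ) (t : Fin n → T)
    (h : ∀ s : T, ∃ p : Fin n → P, s - ∑ i, φ (p i) * t i ∈ 𝔞.map φ) : φ.Finite := by
  classical
  letI := φ.toAlgebra
  haveI : IsHausdorff 𝔞 T := by
    have h1 : IsHausdorff (𝔞.map (algebraMap P T)) T := hH
    exact IsHausdorff.map_algebraMap_iff.mp h1
  haveI : IsPrecomplete 𝔞 (Fin n → P) := Groth.Agent.Lib.Helper14.isPrecomplete_pi 𝔞 n
  let F : (Fin n → P) →ₗ[P] T := Fintype.linearCombination P t
  have hF : ∀ p, F p = ∑ i, φ (p i) * t i := by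
    intro p
    show Fintype.linearCombination P t p = _
    rw [Fintype.linearCombination_apply]
    refine Finset.sum_congr rfl fun i _ => ?_
    rw [Algebra.smul_def]
    rfl
  have hsurj : Function.Surjective ((Submodule.mkQ (𝔞 • ⊤ : Submodule P T)) ∘ₗ F) := by
    intro y
    obtain ⟨s, rfl⟩ := Submodule.mkQ_surjective _ y
    obtain ⟨p, hp⟩ := h s
    refine ⟨p, ?_⟩
    rw [LinearMap.comp_apply, Submodule.mkQ_apply, Submodule.mkQ_apply, eq_comm,
      Submodule.Quotient.eq, Ideal.smul_top_eq_map, hF]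
    exact hp
  have hs : Function.Surjective F := surjective_of_mkQ_comp_surjective hsurj
  exact Module.Finite.of_surjective F hs

/-- extension of a map `A → Ĉ` to the completion of `A` -/
theorem exists_extension {V A C : Type u} [CommRing V] [CommRing A] [CommRing C] [Algebra V A]
    [Algebra V C] (K : Ideal A) (J : Ideal C) (g : A →ₐ[V] AdicCompletion J C)
    (hg : ∀ (n : ℕ) (a : A), a ∈ K ^ n → (evalₐ J n).toRingHom.comp g.toRingHom a = 0) :
    ∃ φ : AdicCompletion K A →ₐ[V] AdicCompletion J C,
      ∀ (n : ℕ) (x : AdicCompletion K A) (a : A),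
        evalₐ K n x = Ideal.Quotient.mk (K ^ n) a → evalₐ J n (φ x) = evalₐ J n (g a) := by
  let gb : ∀ n, A ⧸ K ^ n →+* C ⧸ J ^ n := fun n =>
    Ideal.Quotient.lift (K ^ n) ((evalₐ J n).toRingHom.comp g.toRingHom) (hg n)
  have hgb : ∀ n a, gb n (Ideal.Quotient.mk (K ^ n) a) = evalₐ J n (g a) := fun n a => rfl
  let f : ∀ n, AdicCompletion K A →ₐ[V] C ⧸ J ^ n := fun n =>
    { toRingHom := (gb n).comp (evalₐ K n).toRingHom
      commutes' := fun v => by
        show gb n (evalₐ K n (algebraMap V (AdicCompletion K A) v)) = algebraMap V (C ⧸ J ^ n) v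
        rw [AdicCompletion.algebraMap_apply, AdicCompletion.evalₐ_of, hgb, g.commutes,
          AdicCompletion.algebraMap_apply, AdicCompletion.evalₐ_of]
        rfl }
  have hfa : ∀ n x, f n x = gb n (evalₐ K n x) := fun n x => rfl
  have hf : ∀ {m n : ℕ} (hle : m ≤ n),
      (Ideal.Quotient.factorₐ V (Ideal.pow_le_pow_right hle)).comp (f n) = f m := by
    intro m n hle
    refine AlgHom.ext fun x => ?_
    obtain ⟨a, ha⟩ := Ideal.Quotient.mk_surjective (evalₐ K n x)
    have ha' : evalₐ K m x = Ideal.Quotient.mk (K ^ m) a := by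
      rw [← CplEquiv.factor_evalₐ K hle x, ← ha, Ideal.Quotient.factor_mk]
    show Ideal.Quotient.factor (Ideal.pow_le_pow_right hle) (f n x) = f m x
    rw [hfa, hfa, ← ha, ha', hgb, hgb, CplEquiv.factor_evalₐ J hle]
  refine ⟨AdicCompletion.liftAlgHom J f hf, fun n x a hx => ?_⟩
  rw [AdicCompletion.evalₐ_liftAlgHom, hfa, hx, hgb]

/-- main theorem (S19376) -/
theorem main (V : Type u) [CommRing V] [IsNoetherianRing V] (I : Ideal V)
    (A C : Type u) [CommRing A] [Algebra V A] [Algebra.FormallySmooth V A]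
    [CommRing C] [Algebra V C]
    (φ₀ : (A ⧸ I.map (algebraMap V A)) →ₐ[V] (C ⧸ I.map (algebraMap V C)))
    (hφ₀ : φ₀.toRingHom.Finite) :
    ∃ φ : AdicCompletion (I.map (algebraMap V A)) A →ₐ[V]
        AdicCompletion (I.map (algebraMap V C)) C,
      φ.toRingHom.Finite ∧
      (AdicCompletion.evalOneₐ (I.map (algebraMap V C))).toRingHom.comp φ.toRingHom =
        φ₀.toRingHom.comp (AdicCompletion.evalOneₐ (I.map (algebraMap V A))).toRingHom := by
  classical
  have hIfg : I.FG := IsNoetherian.noetherian I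
  have hKfg : (I.map (algebraMap V A)).FG := hIfg.map _
  have hJfg : (I.map (algebraMap V C)).FG := hIfg.map _
  obtain ⟨g, hg⟩ := Algebra.FormallySmooth.exists_adicCompletionEvalOneₐ_comp_eq (R := V) (A := A)
    (S := C) (I := I.map (algebraMap V C))
    (φ₀.comp (Ideal.Quotient.mkₐ V (I.map (algebraMap V A))))
  have hg' : ∀ a, evalOneₐ (I.map (algebraMap V C)) (g a) =
      φ₀ (Ideal.Quotient.mk (I.map (algebraMap V A)) a) := fun a => DFunLike.congr_fun hg a
  have hgV : ∀ v : V, g (algebraMap V A v) =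
      algebraMap C (AdicCompletion (I.map (algebraMap V C)) C) (algebraMap V C v) := by
    intro v
    rw [g.commutes]
    rfl
  have hker : ∀ (n : ℕ) (a : A), a ∈ (I.map (algebraMap V A)) ^ n →
      (evalₐ (I.map (algebraMap V C)) n).toRingHom.comp g.toRingHom a = 0 := by
    intro n a ha
    have h1 : Ideal.map ((evalₐ (I.map (algebraMap V C)) n).toRingHom.comp g.toRingHom)
        ((I.map (algebraMap V A)) ^ n) = ⊥ := by
      rw [Ideal.map_pow, Ideal.map_map]
      have h2 : ((evalₐ (I.map (algebraMap V C)) n).toRingHom.comp g.toRingHom).comp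
          (algebraMap V A) =
          (Ideal.Quotient.mk ((I.map (algebraMap V C)) ^ n)).comp (algebraMap V C) := by
        refine RingHom.ext fun v => ?_
        show evalₐ (I.map (algebraMap V C)) n (g (algebraMap V A v)) = _
        rw [hgV]
        exact AdicCompletion.evalₐ_of _ _ _
      rw [h2, ← Ideal.map_map,
        ← Ideal.map_pow (Ideal.Quotient.mk ((I.map (algebraMap V C)) ^ n)),
        Ideal.map_quotient_self]
    have h3 : (evalₐ (I.map (algebraMap V C)) n).toRingHom.comp g.toRingHom a ∈
        Ideal.map ((evalₐ (I.map (algebraMap V C)) n).toRingHom.comp g.toRingHom)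
          ((I.map (algebraMap V A)) ^ n) := Ideal.mem_map_of_mem _ ha
    rw [h1] at h3
    exact h3
  obtain ⟨φ, hφ⟩ := exists_extension (I.map (algebraMap V A)) (I.map (algebraMap V C)) g hker
  have hφof : ∀ a, φ (of (I.map (algebraMap V A)) A a) = g a := by
    intro a
    refine AdicCompletion.ext_evalₐ fun n => ?_
    exact hφ n (of (I.map (algebraMap V A)) A a) a (AdicCompletion.evalₐ_of _ _ _)
  have hcomm : ∀ x, evalOneₐ (I.map (algebraMap V C)) (φ x) =
      φ₀ (evalOneₐ (I.map (algebraMap V A)) x) := by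
    intro x
    obtain ⟨a, ha⟩ := Ideal.Quotient.mk_surjective (evalₐ (I.map (algebraMap V A)) 1 x)
    have h1 := hφ 1 x a ha.symm
    rw [← AdicCompletion.factorₐ_evalₐ_one, h1, AdicCompletion.factorₐ_evalₐ_one, hg',
      ← AdicCompletion.factorₐ_evalₐ_one (I.map (algebraMap V A)) x, ← ha,
      Ideal.Quotient.factor_mk]
  refine ⟨φ, ?_, RingHom.ext hcomm⟩
  -- finiteness
  obtain ⟨n, c, hc⟩ := exists_gens_of_finite φ₀.toRingHom hφ₀
  choose t ht using fun i => AdicCompletion.evalOneₐ_surjective (I.map (algebraMap V C)) (c i)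
  haveI : IsAdicComplete ((I.map (algebraMap V A)).map
      (algebraMap A (AdicCompletion (I.map (algebraMap V A)) A)))
      (AdicCompletion (I.map (algebraMap V A)) A) :=
    (IsAdicComplete.map_algebraMap_iff _ _).mpr (AdicCompletion.isAdicComplete hKfg)
  have hmap : ((I.map (algebraMap V A)).map
      (algebraMap A (AdicCompletion (I.map (algebraMap V A)) A))).map φ.toRingHom =
      (I.map (algebraMap V C)).map (algebraMap C (AdicCompletion (I.map (algebraMap V C)) C)) := by
    rw [Ideal.map_map]
    have h2 : φ.toRingHom.comp (algebraMap A (AdicCompletion (I.map (algebraMap V A)) A)) =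
        g.toRingHom := RingHom.ext hφof
    rw [h2, Ideal.map_map]
    have h3 : g.toRingHom.comp (algebraMap V A) =
        (algebraMap C (AdicCompletion (I.map (algebraMap V C)) C)).comp (algebraMap V C) :=
      RingHom.ext hgV
    rw [h3, ← Ideal.map_map]
  haveI : IsHausdorff (((I.map (algebraMap V A)).map
      (algebraMap A (AdicCompletion (I.map (algebraMap V A)) A))).map φ.toRingHom)
      (AdicCompletion (I.map (algebraMap V C)) C) := by
    rw [hmap]
    haveI : IsAdicComplete ((I.map (algebraMap V C)).map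
        (algebraMap C (AdicCompletion (I.map (algebraMap V C)) C)))
        (AdicCompletion (I.map (algebraMap V C)) C) :=
      (IsAdicComplete.map_algebraMap_iff _ _).mpr (AdicCompletion.isAdicComplete hJfg)
    infer_instance
  refine finite_of_complete φ.toRingHom ((I.map (algebraMap V A)).map
      (algebraMap A (AdicCompletion (I.map (algebraMap V A)) A))) n t fun s => ?_
  obtain ⟨r, hr⟩ := hc (evalOneₐ (I.map (algebraMap V C)) s)
  choose a ha using fun i => Ideal.Quotient.mk_surjective (r i)
  refine ⟨fun i => of (I.map (algebraMap V A)) A (a i), ?_⟩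
  have hk := AdicCompletion.ker_evalOneₐ_eq_map (I.map (algebraMap V C)) hJfg
  rw [hmap, ← hk, RingHom.mem_ker]
  show evalOneₐ (I.map (algebraMap V C))
    (s - ∑ i, φ (of (I.map (algebraMap V A)) A (a i)) * t i) = 0
  rw [map_sub, map_sum, hr, sub_eq_zero]
  refine Finset.sum_congr rfl fun i _ => ?_
  rw [map_mul, hφof, hg', ht, ha]
  rfl

end Groth.Agent.Lib.T2H8.SmoothFinLift
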