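import Mathlib
import Groth.Agent.Lib.Helper19ComplTwo
import Groth.Agent.Lib.Helper14SysLim
import Groth.Agent.Lib.Helper19PowerSeries
import Groth.Agent.Lib.Helper19ComplNoeth
import Groth.Agent.Lib.T2H8SmoothFinLift

/-!
# Presentation of the completion of a nodal local algebra (S7924)
-/

set_option autoImplicit false
universe u

namespace Groth.Agent.Lib.T2H8.NodePres

open IsLocalRing

/-- A Noetherian `I`-adically complete ring is `J`-adically complete for every `J ≤ I`. -/
theorem isAdicComplete_of_le {A : Type u} [CommRing A] [IsNoetherianRing A] (I J : Ideal A)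
    [IsAdicComplete I A] (hJI : J ≤ I) : IsAdicComplete J A := by
  apply Groth.Agent.Lib.Helper19.isAdicComplete_of_forall_quotient_pow I J
    (hJI.trans (IsAdicComplete.le_jacobson_bot I))
  intro n
  have hk : (J ^ n • ⊤ : Submodule A (A ⧸ I ^ n)) = ⊥ := by
    rw [eq_bot_iff, Submodule.smul_le]
    intro r hr m _
    obtain ⟨a, rfl⟩ := Ideal.Quotient.mk_surjective m
    rw [Submodule.mem_bot]
    change Ideal.Quotient.mk (I ^ n) (r * a) = 0
    rw [Ideal.Quotient.eq_zero_iff_mem]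
    exact Ideal.mul_mem_right _ _ (Ideal.pow_right_mono hJI n hr)
  exact (Groth.Agent.Lib.Helper14.SysLim.isAdicComplete_of_pow_smul_top_eq_bot (I := J) n
    hk).toIsPrecomplete

/-- recursive construction of a sequence -/
theorem exists_seq {T : Type*} (P : ℕ → T → Prop) (R : ℕ → T → T → Prop) (t₀ : T) (h₀ : P 0 t₀)
    (step : ∀ n t, P n t → ∃ t', P (n + 1) t' ∧ R n t t') :
    ∃ f : ℕ → T, f 0 = t₀ ∧ ∀ n, P n (f n) ∧ R n (f n) (f (n + 1)) := by
  choose next hnextP hnextR using step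
  let g : (n : ℕ) → {t // P n t} := fun n =>
    Nat.rec (motive := fun n => {t // P n t}) ⟨t₀, h₀⟩
      (fun n ih => ⟨next n ih.1 ih.2, hnextP n ih.1 ih.2⟩) n
  refine ⟨fun n => (g n).1, rfl, fun n => ⟨(g n).2, ?_⟩⟩
  exact hnextR n (g n).1 (g n).2

/-- limits of sequences with small consecutive differences -/
theorem exists_limit {R : Type*} [CommRing R] (I : Ideal R) [IsPrecomplete I R] (f : ℕ → R)
    (hf : ∀ n, f (n + 1) - f n ∈ I ^ n) : ∃ L, ∀ n, L - f n ∈ I ^ n := by
  have hmn : ∀ m n, m ≤ n → f n - f m ∈ I ^ m := by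
    intro m n hmn
    induction n, hmn using Nat.le_induction with
    | base => rw [sub_self]; exact zero_mem _
    | succ n hmn ih =>
      have h1 : f (n + 1) - f m = (f (n + 1) - f n) + (f n - f m) := by ring
      rw [h1]
      exact add_mem (Ideal.pow_le_pow_right hmn (hf n)) ih
  obtain ⟨L, hL⟩ := IsPrecomplete.prec' (I := I) (M := R) f (by
    intro m n hle
    rw [SModEq.sub_mem, smul_eq_mul, Ideal.mul_top]
    have := hmn m n hle
    rw [← neg_sub]
    exact neg_mem this)
  refine ⟨L, fun n => ?_⟩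
  have h1 := hL n
  rw [SModEq.sub_mem, smul_eq_mul, Ideal.mul_top] at h1
  rw [← neg_sub]
  exact neg_mem h1

/-- evaluation of power series with coefficients in `Λ` at elements of an ideal of a `Λ`-algebra
which is adically complete -/
theorem exists_evalₐ {Λ S : Type u} [CommRing Λ] [CommRing S] [Algebra Λ S] (I : Ideal S)
    [IsAdicComplete I S] {σ : Type} [Fintype σ] (x : σ → S) (hx : ∀ s, x s ∈ I) :
    ∃ ev : MvPowerSeries σ Λ →ₐ[Λ] S, ∀ s, ev (MvPowerSeries.X s) = x s := by
  classical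
  have hnil : ∀ n, (I.map (Ideal.Quotient.mk (I ^ n))) ^ n = ⊥ := fun n => by
    rw [← Ideal.map_pow, Ideal.map_quotient_self]
  have hmem : ∀ n s, Ideal.Quotient.mk (I ^ n) (x s) ∈ I.map (Ideal.Quotient.mk (I ^ n)) :=
    fun n s => Ideal.mem_map_of_mem _ (hx s)
  choose evm hevm using fun n => Groth.Agent.Lib.Helper19.exists_algHom_X_eq (Λ := Λ)
    (A := S ⧸ I ^ n) (I.map (Ideal.Quotient.mk (I ^ n))) n (hnil n)
    (fun s => Ideal.Quotient.mk (I ^ n) (x s)) (hmem n)
  have hcompat : ∀ {m n : ℕ} (hle : m ≤ n),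
      (Ideal.Quotient.factorₐ Λ (Ideal.pow_le_pow_right hle)).comp (evm n) = evm m := by
    intro m n hle
    apply Groth.Agent.Lib.Helper19.algHom_ext_of_X (I.map (Ideal.Quotient.mk (I ^ m))) m (hnil m)
    · intro s
      rw [AlgHom.comp_apply, hevm]
      exact hmem m s
    · intro s
      rw [AlgHom.comp_apply, hevm, hevm]
      rfl
  refine ⟨IsAdicComplete.liftAlgHom I evm hcompat, fun s => ?_⟩
  apply AdicCompletion.of_injective I S
  apply AdicCompletion.ext_evalₐ
  intro n
  rw [AdicCompletion.evalₐ_of, AdicCompletion.evalₐ_of, IsAdicComplete.mk_liftAlgHom, hevm]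

section Decomp

variable {Λ S : Type u} [CommRing Λ] [CommRing S] [Algebra Λ S] [IsLocalRing Λ]
  [IsLocalRing S] [IsNoetherianRing S]

/-- complete Nakayama: `S = Λ + J` as soon as this holds modulo the maximal ideal of `Λ` -/
theorem exists_sub_mem [IsPrecomplete (maximalIdeal Λ) Λ]
    (h𝔞 : (maximalIdeal Λ).map (algebraMap Λ S) ≤ maximalIdeal S)
    (hres : ∀ s : S, ∃ c : Λ, s - algebraMap Λ S c ∈ maximalIdeal S)
    (J : Ideal S) (hgen : maximalIdeal S ≤ J ⊔ (maximalIdeal Λ).map (algebraMap Λ S)) (s : S) :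
    ∃ c : Λ, s - algebraMap Λ S c ∈ J := by
  haveI : IsHausdorff (maximalIdeal S) (S ⧸ J) := inferInstance
  haveI : IsHausdorff (maximalIdeal Λ) (S ⧸ J) :=
    IsHausdorff.of_map (R := Λ) (S := S) (J := maximalIdeal S) h𝔞
  let f : Λ →ₗ[Λ] (S ⧸ J) := Algebra.linearMap Λ (S ⧸ J)
  have hf : ∀ c, f c = Ideal.Quotient.mk J (algebraMap Λ S c) := fun c => rfl
  have hsurj : Function.Surjective
      ((Submodule.mkQ ((maximalIdeal Λ) • ⊤ : Submodule Λ (S ⧸ J))) ∘ₗ f) := by
    intro y
    obtain ⟨y', rfl⟩ := Submodule.mkQ_surjective _ y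
    obtain ⟨s', rfl⟩ := Ideal.Quotient.mk_surjective y'
    obtain ⟨c, hc⟩ := hres s'
    obtain ⟨j, hj, w, hw, hjw⟩ := Submodule.mem_sup.mp (hgen hc)
    refine ⟨c, ?_⟩
    rw [LinearMap.comp_apply, Submodule.mkQ_apply, Submodule.mkQ_apply, eq_comm,
      Submodule.Quotient.eq, Ideal.smul_top_eq_map]
    have h1 : Ideal.Quotient.mk J s' - f c = Ideal.Quotient.mk J w := by
      rw [hf, ← map_sub, ← hjw, map_add, Ideal.Quotient.eq_zero_iff_mem.mpr hj, zero_add]
    rw [h1]
    have h2 : Ideal.map (algebraMap Λ (S ⧸ J)) (maximalIdeal Λ) =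
        Ideal.map (Ideal.Quotient.mk J) (Ideal.map (algebraMap Λ S) (maximalIdeal Λ)) := by
      rw [Ideal.map_map]
      rfl
    show Ideal.Quotient.mk J w ∈ Ideal.map (algebraMap Λ (S ⧸ J)) (maximalIdeal Λ)
    rw [h2]
    exact Ideal.mem_map_of_mem _ hw
  have hs : Function.Surjective f := surjective_of_mkQ_comp_surjective hsurj
  obtain ⟨c, hc⟩ := hs (Ideal.Quotient.mk J s)
  refine ⟨c, ?_⟩
  rw [← Ideal.Quotient.eq]
  exact hc.symm

/-- refined decomposition of elements of powers of `𝔪_Λ S` -/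
theorem exists_decomp_pow [IsPrecomplete (maximalIdeal Λ) Λ]
    (h𝔞 : (maximalIdeal Λ).map (algebraMap Λ S) ≤ maximalIdeal S)
    (hres : ∀ s : S, ∃ c : Λ, s - algebraMap Λ S c ∈ maximalIdeal S)
    (u' v' : S)
    (hgen : maximalIdeal S ≤ Ideal.span {u', v'} ⊔ (maximalIdeal Λ).map (algebraMap Λ S))
    (n : ℕ) (w : S) (hw : w ∈ ((maximalIdeal Λ).map (algebraMap Λ S)) ^ n) :
    ∃ c ∈ (maximalIdeal Λ) ^ n, ∃ p ∈ ((maximalIdeal Λ).map (algebraMap Λ S)) ^ n,
      ∃ q ∈ ((maximalIdeal Λ).map (algebraMap Λ S)) ^ n,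
        w = algebraMap Λ S c + u' * p + v' * q := by
  have hw' : w ∈ Ideal.span ((algebraMap Λ S) '' ((maximalIdeal Λ) ^ n : Ideal Λ)) := by
    have h := hw
    rw [← Ideal.map_pow] at h
    exact h
  induction hw' using Submodule.span_induction with
  | mem x hx =>
    obtain ⟨c, hc, rfl⟩ := hx
    exact ⟨c, hc, 0, zero_mem _, 0, zero_mem _, by ring⟩
  | zero => exact ⟨0, zero_mem _, 0, zero_mem _, 0, zero_mem _, by simp⟩
  | add x y _ _ hx hy =>
    obtain ⟨c₁, hc₁, p₁, hp₁, q₁, hq₁, h₁⟩ := hx (by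
      rw [← Ideal.map_pow]; assumption)
    obtain ⟨c₂, hc₂, p₂, hp₂, q₂, hq₂, h₂⟩ := hy (by
      rw [← Ideal.map_pow]; assumption)
    exact ⟨c₁ + c₂, add_mem hc₁ hc₂, p₁ + p₂, add_mem hp₁ hp₂, q₁ + q₂, add_mem hq₁ hq₂, by
      rw [map_add, h₁, h₂]; ring⟩
  | smul a x _ hx =>
    obtain ⟨c, hc, p, hp, q, hq, h₁⟩ := hx (by
      rw [← Ideal.map_pow]; assumption)
    obtain ⟨c', hc'⟩ := exists_sub_mem h𝔞 hres (Ideal.span {u', v'}) hgen a
    obtain ⟨p', q', hpq⟩ := Ideal.mem_span_pair.mp hc'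
    have halg : algebraMap Λ S c ∈ ((maximalIdeal Λ).map (algebraMap Λ S)) ^ n := by
      rw [← Ideal.map_pow]
      exact Ideal.mem_map_of_mem _ hc
    refine ⟨c' * c, Ideal.mul_mem_left _ _ hc, p' * algebraMap Λ S c + a * p,
      add_mem (Ideal.mul_mem_left _ _ halg) (Ideal.mul_mem_left _ _ hp),
      q' * algebraMap Λ S c + a * q,
      add_mem (Ideal.mul_mem_left _ _ halg) (Ideal.mul_mem_left _ _ hq), ?_⟩
    rw [smul_eq_mul, map_mul, h₁]
    linear_combination (algebraMap Λ S c) * hpq.symm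

end Decomp

section Main

variable {Λ S : Type u} [CommRing Λ] [CommRing S] [Algebra Λ S] [IsLocalRing Λ]
  [IsAdicComplete (maximalIdeal Λ) Λ] [IsLocalRing S] [IsNoetherianRing S]
  [IsAdicComplete (maximalIdeal S) S]

/-- the successive approximation: elements `u', v'` near `u0, v0` whose product comes from `Λ` -/
theorem exists_node_elements
    (h𝔞 : (maximalIdeal Λ).map (algebraMap Λ S) ≤ maximalIdeal S)
    (hres : ∀ s : S, ∃ c : Λ, s - algebraMap Λ S c ∈ maximalIdeal S)
    (u0 v0 : S)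
    (hgen : maximalIdeal S ≤ Ideal.span {u0, v0} ⊔ (maximalIdeal Λ).map (algebraMap Λ S))
    (huv : u0 * v0 ∈ (maximalIdeal Λ).map (algebraMap Λ S)) :
    ∃ (u' v' : S) (α : Λ), u' - u0 ∈ (maximalIdeal Λ).map (algebraMap Λ S) ∧
      v' - v0 ∈ (maximalIdeal Λ).map (algebraMap Λ S) ∧ α ∈ maximalIdeal Λ ∧
      u' * v' = algebraMap Λ S α := by
  classical
  -- abbreviations
  obtain ⟨𝔞, h𝔞def⟩ : ∃ 𝔞 : Ideal S, 𝔞 = (maximalIdeal Λ).map (algebraMap Λ S) := ⟨_, rfl⟩
  rw [← h𝔞def] at h𝔞 hgen huv ⊢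
  have hdec : ∀ (u' v' : S), u' - u0 ∈ 𝔞 → v' - v0 ∈ 𝔞 → ∀ (n : ℕ) (w : S), w ∈ 𝔞 ^ n →
      ∃ c ∈ (maximalIdeal Λ) ^ n, ∃ p ∈ 𝔞 ^ n, ∃ q ∈ 𝔞 ^ n,
        w = algebraMap Λ S c + u' * p + v' * q := by
    intro u' v' hu' hv' n w hw
    have hgen' : maximalIdeal S ≤ Ideal.span {u', v'} ⊔ 𝔞 := by
      refine hgen.trans (sup_le ?_ le_sup_right)
      rw [Ideal.span_le]
      intro x hx
      have hu'm : u' ∈ Ideal.span {u', v'} ⊔ 𝔞 :=
        Ideal.mem_sup_left (Ideal.subset_span (by simp))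
      have hv'm : v' ∈ Ideal.span {u', v'} ⊔ 𝔞 :=
        Ideal.mem_sup_left (Ideal.subset_span (by simp))
      rcases hx with rfl | hx
      · have : x = u' - (u' - x) := by ring
        rw [this]
        exact sub_mem hu'm (Ideal.mem_sup_right hu')
      · have hx' : x = v0 := hx
        subst hx'
        have : x = v' - (v' - x) := by ring
        rw [this]
        exact sub_mem hv'm (Ideal.mem_sup_right hv')
    subst h𝔞def
    exact exists_decomp_pow h𝔞 hres u' v' hgen' n w hw
  have halg : ∀ (n : ℕ) (c : Λ), c ∈ (maximalIdeal Λ) ^ n → algebraMap Λ S c ∈ 𝔞 ^ n := by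
    intro n c hc
    rw [h𝔞def, ← Ideal.map_pow]
    exact Ideal.mem_map_of_mem _ hc
  -- the sequence
  let P : ℕ → S × S × Λ → Prop := fun n t =>
    t.1 - u0 ∈ 𝔞 ∧ t.2.1 - v0 ∈ 𝔞 ∧ t.2.2 ∈ maximalIdeal Λ ∧
      t.1 * t.2.1 - algebraMap Λ S t.2.2 ∈ 𝔞 ^ (n + 1)
  let R : ℕ → S × S × Λ → S × S × Λ → Prop := fun n t t' =>
    t'.1 - t.1 ∈ 𝔞 ^ (n + 1) ∧ t'.2.1 - t.2.1 ∈ 𝔞 ^ (n + 1) ∧
      t'.2.2 - t.2.2 ∈ (maximalIdeal Λ) ^ (n + 1)
  have h₀ : P 0 (u0, v0, 0) := by
    refine ⟨?_, ?_, zero_mem _, ?_⟩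
    · show u0 - u0 ∈ 𝔞
      rw [sub_self]; exact zero_mem _
    · show v0 - v0 ∈ 𝔞
      rw [sub_self]; exact zero_mem _
    · show u0 * v0 - algebraMap Λ S 0 ∈ 𝔞 ^ (0 + 1)
      rw [map_zero, sub_zero, zero_add, pow_one]
      exact huv
  have step : ∀ n t, P n t → ∃ t', P (n + 1) t' ∧ R n t t' := by
    rintro n ⟨u', v', α'⟩ ⟨h1, h2, h3, h4⟩
    obtain ⟨c, hc, p, hp, q, hq, hw⟩ := hdec u' v' h1 h2 (n + 1) _ h4
    have hle1 : 𝔞 ^ (n + 1) ≤ 𝔞 := Ideal.pow_le_self (Nat.succ_ne_zero n)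
    have hle2 : (maximalIdeal Λ) ^ (n + 1) ≤ maximalIdeal Λ :=
      Ideal.pow_le_self (Nat.succ_ne_zero n)
    refine ⟨(u' - q, v' - p, α' + c), ⟨?_, ?_, ?_, ?_⟩, ⟨?_, ?_, ?_⟩⟩
    · show u' - q - u0 ∈ 𝔞
      have : u' - q - u0 = (u' - u0) - q := by ring
      rw [this]
      exact sub_mem h1 (hle1 hq)
    · show v' - p - v0 ∈ 𝔞
      have : v' - p - v0 = (v' - v0) - p := by ring
      rw [this]
      exact sub_mem h2 (hle1 hp)
    · exact add_mem h3 (hle2 hc)
    · show (u' - q) * (v' - p) - algebraMap Λ S (α' + c) ∈ 𝔞 ^ (n + 1 + 1)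
      have h5 : (u' - q) * (v' - p) - algebraMap Λ S (α' + c) = p * q := by
        rw [map_add]
        linear_combination hw
      rw [h5]
      have h6 : p * q ∈ 𝔞 ^ (n + 1) * 𝔞 ^ (n + 1) := Ideal.mul_mem_mul hp hq
      rw [← pow_add] at h6
      exact Ideal.pow_le_pow_right (by omega) h6
    · show u' - q - u' ∈ 𝔞 ^ (n + 1)
      have : u' - q - u' = -q := by ring
      rw [this]
      exact neg_mem hq
    · show v' - p - v' ∈ 𝔞 ^ (n + 1)
      have : v' - p - v' = -p := by ring
      rw [this]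
      exact neg_mem hp
    · show α' + c - α' ∈ (maximalIdeal Λ) ^ (n + 1)
      have : α' + c - α' = c := by ring
      rw [this]
      exact hc
  obtain ⟨f, -, hf⟩ := exists_seq P R (u0, v0, 0) h₀ step
  -- completeness
  haveI : IsAdicComplete 𝔞 S := isAdicComplete_of_le (maximalIdeal S) 𝔞 h𝔞
  obtain ⟨uL, huL⟩ := exists_limit 𝔞 (fun n => (f n).1) (fun n =>
    Ideal.pow_le_pow_right (Nat.le_succ n) (hf n).2.1)
  obtain ⟨vL, hvL⟩ := exists_limit 𝔞 (fun n => (f n).2.1) (fun n =>
    Ideal.pow_le_pow_right (Nat.le_succ n) (hf n).2.2.1)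
  obtain ⟨αL, hαL⟩ := exists_limit (maximalIdeal Λ) (fun n => (f n).2.2) (fun n =>
    Ideal.pow_le_pow_right (Nat.le_succ n) (hf n).2.2.2)
  refine ⟨uL, vL, αL, ?_, ?_, ?_, ?_⟩
  · have : uL - u0 = (uL - (f 1).1) + ((f 1).1 - u0) := by ring
    rw [this]
    have h1 := huL 1
    rw [pow_one] at h1
    exact add_mem h1 (hf 1).1.1
  · have : vL - v0 = (vL - (f 1).2.1) + ((f 1).2.1 - v0) := by ring
    rw [this]
    have h1 := hvL 1
    rw [pow_one] at h1
    exact add_mem h1 (hf 1).1.2.1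
  · have : αL = (αL - (f 1).2.2) + (f 1).2.2 := by ring
    rw [this]
    have h1 := hαL 1
    rw [pow_one] at h1
    exact add_mem h1 (hf 1).1.2.2.1
  · rw [← sub_eq_zero]
    apply IsHausdorff.haus' (I := 𝔞) (M := S)
    intro n
    rw [SModEq.zero, smul_eq_mul, Ideal.mul_top]
    have h1 : uL * vL - algebraMap Λ S αL =
        (uL - (f n).1) * vL + (f n).1 * (vL - (f n).2.1) +
          ((f n).1 * (f n).2.1 - algebraMap Λ S (f n).2.2) -
          algebraMap Λ S (αL - (f n).2.2) := by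
      rw [map_sub]
      ring
    rw [h1]
    refine sub_mem (add_mem (add_mem ?_ ?_) ?_) (halg n _ (hαL n))
    · exact Ideal.mul_mem_right _ _ (huL n)
    · exact Ideal.mul_mem_left _ _ (hvL n)
    · exact Ideal.pow_le_pow_right (Nat.le_succ n) (hf n).1.2.2.2

open MvPowerSeries in
/-- the surjection from the node ring -/
theorem exists_surjection
    (h𝔞 : (maximalIdeal Λ).map (algebraMap Λ S) ≤ maximalIdeal S)
    (hres : ∀ s : S, ∃ c : Λ, s - algebraMap Λ S c ∈ maximalIdeal S)
    (u0 v0 : S) (hu0 : u0 ∈ maximalIdeal S) (hv0 : v0 ∈ maximalIdeal S)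
    (hgen : maximalIdeal S ≤ Ideal.span {u0, v0} ⊔ (maximalIdeal Λ).map (algebraMap Λ S))
    (huv : u0 * v0 ∈ (maximalIdeal Λ).map (algebraMap Λ S)) :
    ∃ (α : Λ) (_ : α ∈ maximalIdeal Λ) (Ψ : MvPowerSeries (Fin 2) Λ →ₐ[Λ] S),
      Function.Surjective Ψ ∧ Ψ (X 0 * X 1 - C α) = 0 ∧
      Ψ (X 0) - u0 ∈ (maximalIdeal Λ).map (algebraMap Λ S) ∧
      Ψ (X 1) - v0 ∈ (maximalIdeal Λ).map (algebraMap Λ S) := by
  classical
  obtain ⟨u', v', α, hu', hv', hα, huv'⟩ := exists_node_elements h𝔞 hres u0 v0 hgen huv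
  have hu'm : u' ∈ maximalIdeal S := by
    have : u' = (u' - u0) + u0 := by ring
    rw [this]
    exact add_mem (h𝔞 hu') hu0
  have hv'm : v' ∈ maximalIdeal S := by
    have : v' = (v' - v0) + v0 := by ring
    rw [this]
    exact add_mem (h𝔞 hv') hv0
  obtain ⟨Ψ, hΨ⟩ := exists_evalₐ (Λ := Λ) (maximalIdeal S) (![u', v'] : Fin 2 → S) (by
    intro i
    fin_cases i
    · exact hu'm
    · exact hv'm)
  have hΨ0 : Ψ (X 0) = u' := hΨ 0
  have hΨ1 : Ψ (X 1) = v' := hΨ 1
  have hΨC : ∀ c : Λ, Ψ (C c) = algebraMap Λ S c := by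
    intro c
    rw [MvPowerSeries.c_eq_algebraMap]
    exact Ψ.commutes c
  refine ⟨α, hα, Ψ, ?_, ?_, ?_, ?_⟩
  · -- surjectivity
    haveI : IsAdicComplete (maximalIdeal (MvPowerSeries (Fin 2) Λ)) (MvPowerSeries (Fin 2) Λ) :=
      Groth.Agent.Lib.Helper19.isAdicComplete_mvPowerSeries
    have hX : ∀ i, (X i : MvPowerSeries (Fin 2) Λ) ∈ maximalIdeal (MvPowerSeries (Fin 2) Λ) := by
      intro i
      rw [IsLocalRing.mem_maximalIdeal, mem_nonunits_iff, MvPowerSeries.isUnit_iff_constantCoeff,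
        MvPowerSeries.constantCoeff_X]
      exact not_isUnit_zero
    have hC : ∀ c ∈ maximalIdeal Λ,
        (C c : MvPowerSeries (Fin 2) Λ) ∈ maximalIdeal (MvPowerSeries (Fin 2) Λ) := by
      intro c hc
      rw [IsLocalRing.mem_maximalIdeal, mem_nonunits_iff, MvPowerSeries.isUnit_iff_constantCoeff,
        MvPowerSeries.constantCoeff_C]
      exact hc
    have hle : maximalIdeal S ≤
        (maximalIdeal (MvPowerSeries (Fin 2) Λ)).map Ψ.toRingHom := by
      have h𝔞le : (maximalIdeal Λ).map (algebraMap Λ S) ≤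
          (maximalIdeal (MvPowerSeries (Fin 2) Λ)).map Ψ.toRingHom := by
        rw [Ideal.map_le_iff_le_comap]
        intro c hc
        rw [Ideal.mem_comap, ← hΨC]
        exact Ideal.mem_map_of_mem Ψ.toRingHom (hC c hc)
      refine hgen.trans (sup_le ?_ h𝔞le)
      rw [Ideal.span_le]
      intro x hx
      rcases hx with rfl | hx
      · have : x = u' - (u' - x) := by ring
        rw [this]
        refine sub_mem ?_ (h𝔞le hu')
        rw [← hΨ0]
        exact Ideal.mem_map_of_mem Ψ.toRingHom (hX 0)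
      · have hx' : x = v0 := hx
        subst hx'
        have : x = v' - (v' - x) := by ring
        rw [this]
        refine sub_mem ?_ (h𝔞le hv')
        rw [← hΨ1]
        exact Ideal.mem_map_of_mem Ψ.toRingHom (hX 1)
    have hne : (maximalIdeal (MvPowerSeries (Fin 2) Λ)).map Ψ.toRingHom ≤ maximalIdeal S := by
      rw [Ideal.map_le_iff_le_comap]
      intro g hg
      rw [Ideal.mem_comap]
      have hg' : constantCoeff g ∈ maximalIdeal Λ := by
        rw [IsLocalRing.mem_maximalIdeal, mem_nonunits_iff] at hg ⊢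
        rwa [MvPowerSeries.isUnit_iff_constantCoeff] at hg
      have hvars : ∀ h ∈ Groth.Agent.Lib.Helper19.varsIdeal (Fin 2) Λ, Ψ h ∈ maximalIdeal S := by
        intro h hh
        have hmap : Ideal.map Ψ.toRingHom (Groth.Agent.Lib.Helper19.varsIdeal (Fin 2) Λ) ≤
            maximalIdeal S := by
          rw [Ideal.map_span, Ideal.span_le]
          rintro _ ⟨_, ⟨i, rfl⟩, rfl⟩
          show Ψ (X i) ∈ maximalIdeal S
          rw [hΨ i]
          fin_cases i
          · exact hu'm
          · exact hv'm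
        exact hmap (Ideal.mem_map_of_mem Ψ.toRingHom hh)
      have hmem : g - C (constantCoeff g) ∈ Groth.Agent.Lib.Helper19.varsIdeal (Fin 2) Λ := by
        have h1 := Groth.Agent.Lib.Helper19.mem_varsIdeal_pow_of_coeff_eq_zero 1
          (g - C (constantCoeff g)) (by
            intro β hβ
            have hβ0 : β = 0 := by
              rw [← Finsupp.degree_eq_zero_iff]
              omega
            rw [hβ0, map_sub, MvPowerSeries.coeff_zero_eq_constantCoeff_apply,
              MvPowerSeries.coeff_zero_eq_constantCoeff_apply, MvPowerSeries.constantCoeff_C,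
              sub_self])
        rwa [pow_one] at h1
      have hsplit : Ψ.toRingHom g = Ψ (C (constantCoeff g)) + Ψ (g - C (constantCoeff g)) := by
        rw [← map_add]
        show Ψ g = _
        congr 1
        ring
      rw [hsplit, hΨC]
      exact add_mem (h𝔞 (Ideal.mem_map_of_mem _ hg')) (hvars _ hmem)
    haveI : IsHausdorff ((maximalIdeal (MvPowerSeries (Fin 2) Λ)).map Ψ.toRingHom) S :=
      IsHausdorff.of_le_jacobson _ _
        (hne.trans (IsLocalRing.maximalIdeal_le_jacobson ⊥))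
    have := surjective_of_mk_map_comp_surjective Ψ.toRingHom
      (I := maximalIdeal (MvPowerSeries (Fin 2) Λ)) (by
        intro y
        obtain ⟨s, rfl⟩ := Ideal.Quotient.mk_surjective y
        obtain ⟨c, hc⟩ := hres s
        refine ⟨C c, ?_⟩
        rw [RingHom.comp_apply, Ideal.Quotient.eq]
        show Ψ (C c) - s ∈ _
        rw [hΨC, ← neg_sub]
        exact neg_mem (hle hc))
    exact this
  · rw [map_sub, map_mul, hΨ0, hΨ1, hΨC, huv', sub_self]
  · rw [hΨ0]; exact hu'
  · rw [hΨ1]; exact hv'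

end Main

section Final

open MvPowerSeries

variable (A B : Type u) [CommRing A] [IsLocalRing A] [IsNoetherianRing A]
    [CommRing B] [IsLocalRing B] [IsNoetherianRing B] [Algebra A B] [IsLocalHom (algebraMap A B)]

/-- an `A`-algebra map between the completions -/
theorem nonempty_cplMap : Nonempty (AdicCompletion (maximalIdeal A) A →ₐ[A]
    AdicCompletion (maximalIdeal B) B) := by
  have hle : (maximalIdeal A).map (algebraMap A B) ≤ maximalIdeal B :=
    ((IsLocalRing.local_hom_TFAE (algebraMap A B)).out 0 2).mp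
      (inferInstance : IsLocalHom (algebraMap A B))
  obtain ⟨φ, -⟩ := SmoothFinLift.exists_extension (V := A) (maximalIdeal A) (maximalIdeal B)
    (Algebra.ofId A (AdicCompletion (maximalIdeal B) B)) (by
      intro n a ha
      show AdicCompletion.evalₐ (maximalIdeal B) n
        (algebraMap A (AdicCompletion (maximalIdeal B) B) a) = 0
      rw [AdicCompletion.algebraMap_apply, AdicCompletion.evalₐ_of,
        Ideal.Quotient.eq_zero_iff_mem]
      have h1 : algebraMap A B a ∈ ((maximalIdeal A) ^ n).map (algebraMap A B) :=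
        Ideal.mem_map_of_mem _ ha
      rw [Ideal.map_pow] at h1
      exact Ideal.pow_right_mono hle n h1)
  exact ⟨φ⟩

/-- main theorem (S7924) -/
theorem main (hres : Function.Bijective (IsLocalRing.ResidueField.map (algebraMap A B)))
    (u v : B) (hu : u ∈ IsLocalRing.maximalIdeal B) (hv : v ∈ IsLocalRing.maximalIdeal B)
    (huv : u * v ∈ (IsLocalRing.maximalIdeal A).map (algebraMap A B))
    (hgen : IsLocalRing.maximalIdeal B = Ideal.span {u, v} ⊔ (IsLocalRing.maximalIdeal A).map (algebraMap A B)) :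
    ∃ (α : AdicCompletion (IsLocalRing.maximalIdeal A) A)
      (_ : α ∈ (IsLocalRing.maximalIdeal A).map (algebraMap A (AdicCompletion (IsLocalRing.maximalIdeal A) A)))
      (ψ : (MvPowerSeries (Fin 2) (AdicCompletion (IsLocalRing.maximalIdeal A) A) ⧸ Ideal.span
          {(MvPowerSeries.X 0 * MvPowerSeries.X 1 -
            MvPowerSeries.C α :
              MvPowerSeries (Fin 2) (AdicCompletion (IsLocalRing.maximalIdeal A) A))}) →ₐ[A]
        AdicCompletion (IsLocalRing.maximalIdeal B) B),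
      Function.Surjective ψ ∧
        ψ (Ideal.Quotient.mk _ (MvPowerSeries.X 0)) -
            algebraMap B (AdicCompletion (IsLocalRing.maximalIdeal B) B) u ∈
          (IsLocalRing.maximalIdeal A).map (algebraMap A (AdicCompletion (IsLocalRing.maximalIdeal B) B)) ∧
        ψ (Ideal.Quotient.mk _ (MvPowerSeries.X 1)) -
            algebraMap B (AdicCompletion (IsLocalRing.maximalIdeal B) B) v ∈
          (IsLocalRing.maximalIdeal A).map (algebraMap A (AdicCompletion (IsLocalRing.maximalIdeal B) B)) := by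
  classical
  haveI : IsNoetherianRing (AdicCompletion (maximalIdeal A) A) :=
    Groth.Agent.Lib.Helper19.isNoetherianRing_adicCompletion _
  haveI : IsNoetherianRing (AdicCompletion (maximalIdeal B) B) :=
    Groth.Agent.Lib.Helper19.isNoetherianRing_adicCompletion _
  obtain ⟨κ⟩ := nonempty_cplMap A B
  letI : Algebra (AdicCompletion (maximalIdeal A) A) (AdicCompletion (maximalIdeal B) B) :=
    κ.toRingHom.toAlgebra
  have hκalg : ∀ c : AdicCompletion (maximalIdeal A) A,
      algebraMap (AdicCompletion (maximalIdeal A) A) (AdicCompletion (maximalIdeal B) B) c = κ c :=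
    fun c => rfl
  have hcompAB : (algebraMap B (AdicCompletion (maximalIdeal B) B)).comp (algebraMap A B) =
      algebraMap A (AdicCompletion (maximalIdeal B) B) := RingHom.ext fun a => rfl
  have hmap𝔞 : (maximalIdeal (AdicCompletion (maximalIdeal A) A)).map
      (algebraMap (AdicCompletion (maximalIdeal A) A) (AdicCompletion (maximalIdeal B) B)) =
      (maximalIdeal A).map (algebraMap A (AdicCompletion (maximalIdeal B) B)) := by
    rw [AdicCompletion.maximalIdeal_eq_map, Ideal.map_map]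
    congr 1
    exact RingHom.ext fun a => κ.commutes a
  have hmB : maximalIdeal (AdicCompletion (maximalIdeal B) B) =
      Ideal.span {algebraMap B (AdicCompletion (maximalIdeal B) B) u,
        algebraMap B (AdicCompletion (maximalIdeal B) B) v} ⊔
      (maximalIdeal A).map (algebraMap A (AdicCompletion (maximalIdeal B) B)) := by
    have h1 : (maximalIdeal B).map (algebraMap B (AdicCompletion (maximalIdeal B) B)) =
        (Ideal.span {u, v} ⊔ (maximalIdeal A).map (algebraMap A B)).map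
          (algebraMap B (AdicCompletion (maximalIdeal B) B)) :=
      congrArg (Ideal.map (algebraMap B (AdicCompletion (maximalIdeal B) B))) hgen
    rw [AdicCompletion.maximalIdeal_eq_map, h1, Ideal.map_sup, Ideal.map_span, Set.image_pair,
      Ideal.map_map, hcompAB]
  have h𝔞 : (maximalIdeal (AdicCompletion (maximalIdeal A) A)).map
      (algebraMap (AdicCompletion (maximalIdeal A) A) (AdicCompletion (maximalIdeal B) B)) ≤
      maximalIdeal (AdicCompletion (maximalIdeal B) B) := by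
    rw [hmap𝔞]
    conv_rhs => rw [hmB]
    exact le_sup_right
  have hres' : ∀ s : AdicCompletion (maximalIdeal B) B, ∃ c : AdicCompletion (maximalIdeal A) A,
      s - algebraMap (AdicCompletion (maximalIdeal A) A) (AdicCompletion (maximalIdeal B) B) c ∈
        maximalIdeal (AdicCompletion (maximalIdeal B) B) := by
    intro s
    obtain ⟨b, hb⟩ := Ideal.Quotient.mk_surjective (AdicCompletion.evalOneₐ (maximalIdeal B) s)
    obtain ⟨a', ha'⟩ := hres.2 (IsLocalRing.residue B b)
    obtain ⟨a, rfl⟩ := IsLocalRing.residue_surjective a'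
    have h1 : algebraMap A B a - b ∈ maximalIdeal B := by
      rw [IsLocalRing.ResidueField.map_residue] at ha'
      exact (Ideal.Quotient.eq).mp ha'
    refine ⟨AdicCompletion.of _ _ a, ?_⟩
    rw [hκalg]
    have h2 : κ (AdicCompletion.of _ _ a) = algebraMap A (AdicCompletion (maximalIdeal B) B) a :=
      κ.commutes a
    rw [h2, AdicCompletion.maximalIdeal_eq_map,
      ← AdicCompletion.ker_evalOneₐ_eq_map (maximalIdeal B) (maximalIdeal B).fg_of_isNoetherianRing,
      RingHom.mem_ker]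
    show AdicCompletion.evalOneₐ (maximalIdeal B)
      (s - algebraMap A (AdicCompletion (maximalIdeal B) B) a) = 0
    rw [map_sub, ← hb]
    have h3 : AdicCompletion.evalOneₐ (maximalIdeal B)
        (algebraMap A (AdicCompletion (maximalIdeal B) B) a) =
        Ideal.Quotient.mk _ (algebraMap A B a) := rfl
    rw [h3, ← map_sub, Ideal.Quotient.eq_zero_iff_mem, ← neg_sub]
    exact neg_mem h1
  have hu0 : algebraMap B (AdicCompletion (maximalIdeal B) B) u ∈
      maximalIdeal (AdicCompletion (maximalIdeal B) B) := by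
    rw [AdicCompletion.maximalIdeal_eq_map]
    exact Ideal.mem_map_of_mem _ hu
  have hv0 : algebraMap B (AdicCompletion (maximalIdeal B) B) v ∈
      maximalIdeal (AdicCompletion (maximalIdeal B) B) := by
    rw [AdicCompletion.maximalIdeal_eq_map]
    exact Ideal.mem_map_of_mem _ hv
  have hgen' : maximalIdeal (AdicCompletion (maximalIdeal B) B) ≤
      Ideal.span {algebraMap B (AdicCompletion (maximalIdeal B) B) u,
        algebraMap B (AdicCompletion (maximalIdeal B) B) v} ⊔
      (maximalIdeal (AdicCompletion (maximalIdeal A) A)).map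
        (algebraMap (AdicCompletion (maximalIdeal A) A) (AdicCompletion (maximalIdeal B) B)) := by
    rw [hmap𝔞]
    exact le_of_eq hmB
  have huv' : algebraMap B (AdicCompletion (maximalIdeal B) B) u *
      algebraMap B (AdicCompletion (maximalIdeal B) B) v ∈
      (maximalIdeal (AdicCompletion (maximalIdeal A) A)).map
        (algebraMap (AdicCompletion (maximalIdeal A) A) (AdicCompletion (maximalIdeal B) B)) := by
    rw [hmap𝔞, ← map_mul, ← hcompAB, ← Ideal.map_map]
    exact Ideal.mem_map_of_mem _ huv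
  obtain ⟨α, hα, Ψ, hsurj, hrel, hX0, hX1⟩ := exists_surjection h𝔞 hres' _ _ hu0 hv0 hgen' huv'
  rw [hmap𝔞] at hX0 hX1
  let ΨA : MvPowerSeries (Fin 2) (AdicCompletion (maximalIdeal A) A) →ₐ[A]
      AdicCompletion (maximalIdeal B) B :=
    { toRingHom := Ψ.toRingHom
      commutes' := fun a => by
        show Ψ (algebraMap A (MvPowerSeries (Fin 2) (AdicCompletion (maximalIdeal A) A)) a) =
          algebraMap A (AdicCompletion (maximalIdeal B) B) a
        rw [MvPowerSeries.algebraMap_apply, MvPowerSeries.c_eq_algebraMap, Ψ.commutes, hκalg]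
        exact κ.commutes a }
  have hΨA : ∀ g, ΨA g = Ψ g := fun g => rfl
  refine ⟨α, by rw [← AdicCompletion.maximalIdeal_eq_map]; exact hα,
    Ideal.Quotient.liftₐ _ ΨA (by
      intro g hg
      obtain ⟨r, rfl⟩ := Ideal.mem_span_singleton'.mp hg
      rw [hΨA, map_mul, hrel, mul_zero]), ?_, ?_, ?_⟩
  · intro s
    obtain ⟨g, rfl⟩ := hsurj s
    exact ⟨Ideal.Quotient.mk _ g, rfl⟩
  · exact hX0
  · exact hX1

end Final

end Groth.Agent.Lib.T2H8.NodePres
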