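import Mathlib
import Groth.Prelude.Def_FSRel
import Groth.Agent.Lib.Helper19ComplNoeth
import Groth.Agent.Lib.Helper22SigmaComplete
import Groth.Agent.Lib.T2H8CplEquiv
import Groth.Agent.Lib.T2H8NodePres

/-!
# The completion of a finite algebra is formally smooth relative to the base (S4581)

Let `A₀ → A` be a finite ring map with `A` Noetherian, `I` an ideal of `A` and `Â` the `I`-adic
completion.  Then `Â` is a formally smooth `A`-algebra relative to `A₀` (discrete topologies).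

Proof: with `T = Â ⊗[A₀] A`, `K = ker (T → Â)` and `P = T / K²`, the ring `P` is a finite `Â`-algebra,
hence complete for the ideal generated by `I` through the *left* structure; the ideals generated by `I`
through the left and the right structure differ by the square-zero ideal `K / K²`, so `P` is also complete
for the right structure and the right structure map `A → P` extends to `Â → P`, a section of `P → Â`.
-/

set_option autoImplicit false
universe u

namespace Groth.Agent.Lib.T2H8.FSRelCompl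

open TensorProduct

section Compare

variable {E : Type*} [CommRing E]

theorem smodEq_pow_iff' (𝔞 : Ideal E) (n : ℕ) (x y : E) :
    x ≡ y [SMOD (𝔞 ^ n • ⊤ : Submodule E E)] ↔ x - y ∈ 𝔞 ^ n := by
  rw [SModEq.sub_mem, smul_eq_mul, Ideal.mul_top]

/-- two ideals defining the same adic topology: completeness transfers -/
theorem isAdicComplete_of_pow_le (𝔟 𝔞 : Ideal E) (k : ℕ) (hk : 0 < k)
    (h1 : 𝔟 ≤ 𝔞) (h2 : 𝔞 ^ k ≤ 𝔟) [IsAdicComplete 𝔟 E] : IsAdicComplete 𝔞 E := by
  have hpow : ∀ n, 𝔞 ^ (k * n) ≤ 𝔟 ^ n := fun n => by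
    rw [pow_mul]; exact Ideal.pow_right_mono h2 n
  have hH : IsHausdorff 𝔞 E := by
    refine ⟨fun x hx => ?_⟩
    refine IsHausdorff.haus (inferInstance : IsHausdorff 𝔟 E) x (fun n => ?_)
    have := hx (k * n)
    rw [smodEq_pow_iff'] at this ⊢
    exact hpow n this
  have hP : IsPrecomplete 𝔞 E := by
    refine ⟨fun f hf => ?_⟩
    obtain ⟨L, hL⟩ := IsPrecomplete.prec (inferInstance : IsPrecomplete 𝔟 E)
      (f := fun n => f (k * n)) (fun {m n} hmn => by
        have := hf (Nat.mul_le_mul_left k hmn)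
        rw [smodEq_pow_iff'] at this ⊢
        exact hpow m this)
    refine ⟨L, fun n => ?_⟩
    have h3 := hf (show n ≤ k * n from Nat.le_mul_of_pos_left n hk)
    have h4 := hL n
    rw [smodEq_pow_iff'] at h3 h4 ⊢
    have : f n - L = (f n - f (k * n)) + (f (k * n) - L) := by ring
    rw [this]
    exact add_mem h3 (Ideal.pow_right_mono h1 n h4)
  rw [isAdicComplete_iff]
  exact ⟨hH, hP⟩

end Compare

section Lift

variable {A : Type u} [CommRing A] (I : Ideal A)

theorem exists_sub_mem (hI : I.FG) (n : ℕ) (x : AdicCompletion I A) :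
    ∃ a : A, x - AdicCompletion.of I A a ∈ (I ^ n • ⊤ : Submodule A (AdicCompletion I A)) := by
  obtain ⟨a, ha⟩ := Submodule.mkQ_surjective _ (AdicCompletion.eval I A n x)
  refine ⟨a, ?_⟩
  rw [AdicCompletion.pow_smul_top_eq_ker_eval hI, LinearMap.mem_ker, map_sub,
    AdicCompletion.eval_of, ha, sub_self]

theorem map_mem_pow {Q : Type*} [CommRing Q] (φ : AdicCompletion I A →+* Q) (𝔮 : Ideal Q)
    (h : ∀ a ∈ I, φ (AdicCompletion.of I A a) ∈ 𝔮) (n : ℕ) (y : AdicCompletion I A)
    (hy : y ∈ (I ^ n • ⊤ : Submodule A (AdicCompletion I A))) : φ y ∈ 𝔮 ^ n := by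
  have hpow : ∀ r ∈ I ^ n, φ (algebraMap A (AdicCompletion I A) r) ∈ 𝔮 ^ n := by
    intro r hr
    have hle : I.map (φ.comp (algebraMap A (AdicCompletion I A))) ≤ 𝔮 := by
      rw [Ideal.map_le_iff_le_comap]; intro a ha; exact h a ha
    have : (φ.comp (algebraMap A (AdicCompletion I A))) r ∈
        (I ^ n).map (φ.comp (algebraMap A (AdicCompletion I A))) := Ideal.mem_map_of_mem _ hr
    rw [Ideal.map_pow] at this
    exact Ideal.pow_right_mono hle n this
  refine Submodule.smul_induction_on hy (fun r hr z _ => ?_) (fun y z hy hz => ?_)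
  · rw [Algebra.smul_def, map_mul]
    exact Ideal.mul_mem_right _ _ (hpow r hr)
  · rw [map_add]; exact add_mem hy hz

theorem ringHom_ext (hI : I.FG) {Q : Type*} [CommRing Q] (𝔮 : Ideal Q) [IsHausdorff 𝔮 Q]
    (φ ψ : AdicCompletion I A →+* Q)
    (h : ∀ a, φ (AdicCompletion.of I A a) = ψ (AdicCompletion.of I A a))
    (hφ : ∀ a ∈ I, φ (AdicCompletion.of I A a) ∈ 𝔮) : φ = ψ := by
  ext x
  rw [← sub_eq_zero]
  refine IsHausdorff.haus (inferInstance : IsHausdorff 𝔮 Q) _ (fun n => ?_)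
  rw [smodEq_pow_iff', sub_zero]
  obtain ⟨a, ha⟩ := exists_sub_mem I hI n x
  have h1 := map_mem_pow I φ 𝔮 hφ n _ ha
  have h2 := map_mem_pow I ψ 𝔮 (fun a ha => h a ▸ hφ a ha) n _ ha
  have : φ x - ψ x = φ (x - AdicCompletion.of I A a) - ψ (x - AdicCompletion.of I A a) := by
    rw [map_sub, map_sub, h a]; ring
  rw [this]; exact sub_mem h1 h2

theorem exists_lift {P : Type u} [CommRing P] (𝔠 : Ideal P) [IsAdicComplete 𝔠 P] (τ : A →+* P)
    (hτ : I.map τ ≤ 𝔠) :
    ∃ s : AdicCompletion I A →+* P, ∀ a, s (AdicCompletion.of I A a) = τ a := by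
  have hmem : ∀ n a, a ∈ I ^ n → τ a ∈ 𝔠 ^ n := by
    intro n a ha
    have : τ a ∈ (I ^ n).map τ := Ideal.mem_map_of_mem _ ha
    rw [Ideal.map_pow] at this
    exact Ideal.pow_right_mono hτ n this
  let gb : ∀ n, A ⧸ I ^ n →+* P ⧸ 𝔠 ^ n := fun n =>
    Ideal.Quotient.lift (I ^ n) ((Ideal.Quotient.mk (𝔠 ^ n)).comp τ) (fun a ha => by
      rw [RingHom.comp_apply, Ideal.Quotient.eq_zero_iff_mem]; exact hmem n a ha)
  have hgb : ∀ n a, gb n (Ideal.Quotient.mk (I ^ n) a) = Ideal.Quotient.mk (𝔠 ^ n) (τ a) :=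
    fun n a => rfl
  let f : ∀ n, AdicCompletion I A →+* P ⧸ 𝔠 ^ n := fun n =>
    (gb n).comp (AdicCompletion.evalₐ I n).toRingHom
  have hfa : ∀ n x, f n x = gb n (AdicCompletion.evalₐ I n x) := fun n x => rfl
  have hf : ∀ {m n : ℕ} (hle : m ≤ n), (Ideal.Quotient.factorPow 𝔠 hle).comp (f n) = f m := by
    intro m n hle
    refine RingHom.ext fun x => ?_
    obtain ⟨a, ha⟩ := Ideal.Quotient.mk_surjective (AdicCompletion.evalₐ I n x)
    have ha' : AdicCompletion.evalₐ I m x = Ideal.Quotient.mk (I ^ m) a := by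
      rw [← CplEquiv.factor_evalₐ I hle x, ← ha, Ideal.Quotient.factor_mk]
    rw [RingHom.comp_apply, hfa, hfa, ← ha, ha', hgb, hgb]
    exact Ideal.Quotient.factor_mk _ _
  refine ⟨IsAdicComplete.liftRingHom 𝔠 f hf, fun a => ?_⟩
  rw [← sub_eq_zero]
  refine IsHausdorff.haus (inferInstance : IsHausdorff 𝔠 P) _ (fun n => ?_)
  rw [smodEq_pow_iff', sub_zero, ← Ideal.Quotient.eq_zero_iff_mem, map_sub,
    IsAdicComplete.mk_liftRingHom, hfa, AdicCompletion.evalₐ_of, hgb, sub_self]

end Lift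

section Section

variable {A : Type u} [CommRing A] [IsNoetherianRing A] (I : Ideal A)

/-- completeness for an ideal that differs from a complete one by a square-zero ideal -/
theorem isAdicComplete_of_sqZero {P : Type u} [CommRing P] [IsNoetherianRing P] (𝔟 𝔫 𝔠 : Ideal P)
    (h𝔫 : 𝔫 ^ 2 = ⊥) [IsAdicComplete 𝔟 P] (h𝔠 : 𝔠 ≤ 𝔟 ⊔ 𝔫) : IsAdicComplete 𝔠 P := by
  have h𝔞 : (𝔟 ⊔ 𝔫) ^ 2 ≤ 𝔟 := by
    rw [pow_two, Ideal.sup_mul, Ideal.mul_sup, Ideal.mul_sup, ← pow_two 𝔫, h𝔫]
    exact sup_le (sup_le Ideal.mul_le_left Ideal.mul_le_left) (sup_le Ideal.mul_le_right bot_le)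
  haveI : IsAdicComplete (𝔟 ⊔ 𝔫) P :=
    isAdicComplete_of_pow_le 𝔟 (𝔟 ⊔ 𝔫) 2 two_pos le_sup_left h𝔞
  exact NodePres.isAdicComplete_of_le (𝔟 ⊔ 𝔫) 𝔠 h𝔠

/-- a square-zero extension `P → Â`, finite over `Â`, has a section extending any given lift of
`A → Â`. -/
theorem exists_section {P : Type u} [CommRing P] [Algebra (AdicCompletion I A) P]
    [Module.Finite (AdicCompletion I A) P] (π : P →+* AdicCompletion I A)
    (hπ : ∀ x, π (algebraMap (AdicCompletion I A) P x) = x)
    (hker' : ∀ x y, π x = 0 → π y = 0 → x * y = 0)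
    (τ : A →+* P) (hτ : ∀ a, π (τ a) = AdicCompletion.of I A a) :
    ∃ s : AdicCompletion I A →+* P, (∀ a, s (AdicCompletion.of I A a) = τ a) ∧ ∀ x, π (s x) = x := by
  have hker : (RingHom.ker π) ^ 2 = ⊥ := by
    rw [eq_bot_iff, pow_two, Ideal.mul_le]
    intro x hx y hy
    rw [Ideal.mem_bot]
    exact hker' x y (RingHom.mem_ker.mp hx) (RingHom.mem_ker.mp hy)
  haveI : IsNoetherianRing (AdicCompletion I A) := Helper19.isNoetherianRing_adicCompletion I
  have hIfg : I.FG := IsNoetherian.noetherian I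
  haveI hcplt : IsAdicComplete (I.map (algebraMap A (AdicCompletion I A))) (AdicCompletion I A) :=
    AdicCompletion.isAdicComplete_self I hIfg
  haveI : IsNoetherianRing P := IsNoetherianRing.of_finite (AdicCompletion I A) P
  haveI hcP : IsAdicComplete (I.map (algebraMap A (AdicCompletion I A))) P := by
    haveI : IsHausdorff (I.map (algebraMap A (AdicCompletion I A))) P :=
      IsHausdorff.of_le_jacobson _ _ (IsAdicComplete.le_jacobson_bot _)
    haveI : IsPrecomplete (I.map (algebraMap A (AdicCompletion I A))) P :=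
      Groth.Agent.Lib.Helper22.SigmaComplete.isPrecomplete_of_finite _ _
    rw [isAdicComplete_iff]; exact ⟨inferInstance, inferInstance⟩
  haveI h𝔟 : IsAdicComplete ((I.map (algebraMap A (AdicCompletion I A))).map
      (algebraMap (AdicCompletion I A) P)) P := by
    have h := (IsAdicComplete.map_algebraMap_iff (S := P)
      (I.map (algebraMap A (AdicCompletion I A))) P).mpr hcP
    exact h
  have h𝔠 : I.map τ ≤ (I.map (algebraMap A (AdicCompletion I A))).map
      (algebraMap (AdicCompletion I A) P) ⊔ RingHom.ker π := by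
    rw [Ideal.map_le_iff_le_comap]
    intro a ha
    rw [Ideal.mem_comap]
    refine Submodule.mem_sup.mpr ⟨algebraMap (AdicCompletion I A) P (AdicCompletion.of I A a),
      Ideal.mem_map_of_mem _ (Ideal.mem_map_of_mem _ ha),
      τ a - algebraMap (AdicCompletion I A) P (AdicCompletion.of I A a), ?_, by ring⟩
    rw [RingHom.mem_ker, map_sub, hτ, hπ, sub_self]
  haveI : IsAdicComplete (I.map τ) P :=
    isAdicComplete_of_sqZero _ (RingHom.ker π) (I.map τ) hker h𝔠
  obtain ⟨s, hs⟩ := exists_lift I (I.map τ) τ le_rfl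
  refine ⟨s, hs, ?_⟩
  have hπs : π.comp s = RingHom.id (AdicCompletion I A) :=
    ringHom_ext I hIfg (I.map (algebraMap A (AdicCompletion I A))) (π.comp s) (RingHom.id _)
      (fun a => by rw [RingHom.comp_apply, hs, hτ]; rfl)
      (fun a ha => by
        rw [RingHom.comp_apply, hs, hτ]
        exact Ideal.mem_map_of_mem (algebraMap A (AdicCompletion I A)) ha)
  exact fun x => RingHom.congr_fun hπs x

end Section

section Main

variable {A₀ A : Type u} [CommRing A₀] [CommRing A] [Algebra A₀ A] [Module.Finite A₀ A]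
  [IsNoetherianRing A] (I : Ideal A)

local notation "Ah" => AdicCompletion I A
local notation "TT" => AdicCompletion I A ⊗[A₀] A

/-- main theorem (S4581, for an arbitrary ideal) -/
theorem main : EGA41.IsFormallySmoothRel A₀ A (AdicCompletion I A) := by
  intro C _ _ _ _ J hJ u₀ ⟨u, hu⟩
  let μ : TT →ₐ[A₀] Ah :=
    Algebra.TensorProduct.productMap (AlgHom.id A₀ Ah) (IsScalarTower.toAlgHom A₀ A Ah)
  let w : TT →ₐ[A₀] C :=
    Algebra.TensorProduct.productMap u (IsScalarTower.toAlgHom A₀ A C)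
  have hμ : ∀ (a : Ah) (b : A), μ (a ⊗ₜ b) = a * AdicCompletion.of I A b := fun a b => by
    show Algebra.TensorProduct.productMap _ _ _ = _
    rw [Algebra.TensorProduct.productMap_apply_tmul]; rfl
  have hw : ∀ (a : Ah) (b : A), w (a ⊗ₜ b) = u a * algebraMap A C b := fun a b => by
    show Algebra.TensorProduct.productMap _ _ _ = _
    rw [Algebra.TensorProduct.productMap_apply_tmul]; rfl
  have h1 : ∀ t : TT, Ideal.Quotient.mk J (w t) = u₀ (μ t) := by
    have : (Ideal.Quotient.mkₐ A₀ J).comp w = (u₀.restrictScalars A₀).comp μ := by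
      apply Algebra.TensorProduct.ext'
      intro a b
      show Ideal.Quotient.mk J (w (a ⊗ₜ b)) = u₀ (μ (a ⊗ₜ b))
      rw [hμ, hw, map_mul, map_mul]
      have e1 : Ideal.Quotient.mk J (u a) = u₀ a := AlgHom.congr_fun hu a
      have e2 : u₀ (AdicCompletion.of I A b) = Ideal.Quotient.mk J (algebraMap A C b) :=
        u₀.commutes b
      rw [e1, e2]
    intro t; exact AlgHom.congr_fun this t
  have h2 : RingHom.ker μ ≤ J.comap w := by
    intro t ht
    rw [Ideal.mem_comap, ← Ideal.Quotient.eq_zero_iff_mem, h1, RingHom.mem_ker.mp ht, map_zero]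
  obtain ⟨K2, hK2⟩ : ∃ K2 : Ideal TT, K2 = RingHom.ker μ ^ 2 := ⟨_, rfl⟩
  have h3 : ∀ t ∈ K2, (w : TT →+* C) t = 0 := by
    intro t ht
    rw [hK2] at ht
    have := Ideal.le_comap_pow w 2 (Ideal.pow_right_mono h2 2 ht)
    rw [hJ, Ideal.mem_comap, Ideal.mem_bot] at this
    exact this
  have h4 : ∀ t ∈ K2, (μ : TT →+* Ah) t = 0 := fun t ht => by
    rw [hK2] at ht
    exact RingHom.mem_ker.mp (Ideal.pow_le_self two_ne_zero ht)
  let wb : (TT ⧸ K2) →+* C := Ideal.Quotient.lift K2 (w : TT →+* C) h3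
  let π : (TT ⧸ K2) →+* Ah := Ideal.Quotient.lift K2 (μ : TT →+* Ah) h4
  let τ : A →+* (TT ⧸ K2) := (Ideal.Quotient.mk K2).comp
    (Algebra.TensorProduct.includeRight : A →ₐ[A₀] TT).toRingHom
  have hτ : ∀ a, τ a = Ideal.Quotient.mk K2 (1 ⊗ₜ a) := fun a => rfl
  have hwb : ∀ t, wb (Ideal.Quotient.mk K2 t) = w t := fun t => rfl
  have hπ : ∀ t, π (Ideal.Quotient.mk K2 t) = μ t := fun t => rfl
  have hwτ : ∀ a, wb (τ a) = algebraMap A C a := fun a => by
    rw [hτ, hwb, hw, map_one, one_mul]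
  have hπτ : ∀ a, π (τ a) = AdicCompletion.of I A a := fun a => by
    rw [hτ, hπ, hμ, one_mul]
  have hwπ : ∀ p, Ideal.Quotient.mk J (wb p) = u₀ (π p) := fun p => by
    obtain ⟨t, rfl⟩ := Ideal.Quotient.mk_surjective p
    rw [hwb, hπ]
    exact h1 t
  have hπalg : ∀ x : Ah, π (algebraMap Ah (TT ⧸ K2) x) = x := fun x => by
    rw [← Ideal.Quotient.mk_algebraMap Ah K2 x, hπ, Algebra.TensorProduct.algebraMap_apply, hμ]
    show x * algebraMap A Ah 1 = x
    rw [map_one, mul_one]
  have hker : ∀ x y : TT ⧸ K2, π x = 0 → π y = 0 → x * y = 0 := by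
    intro x y hx hy
    obtain ⟨t, rfl⟩ := Ideal.Quotient.mk_surjective x
    obtain ⟨t', rfl⟩ := Ideal.Quotient.mk_surjective y
    rw [hπ] at hx hy
    rw [← map_mul, Ideal.Quotient.eq_zero_iff_mem, hK2, pow_two]
    exact Ideal.mul_mem_mul (RingHom.mem_ker.mpr hx) (RingHom.mem_ker.mpr hy)
  obtain ⟨s, hs, hπs⟩ := exists_section (P := TT ⧸ K2) I π hπalg hker τ hπτ
  let v : Ah →ₐ[A] C :=
    { toRingHom := wb.comp s
      commutes' := fun a => by
        show wb (s (algebraMap A Ah a)) = algebraMap A C a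
        rw [AdicCompletion.algebraMap_apply, hs, hwτ]
        rfl }
  refine ⟨v, AlgHom.ext fun x => ?_⟩
  show Ideal.Quotient.mk J (wb (s x)) = u₀ x
  rw [hwπ, hπs]

end Main

end Groth.Agent.Lib.T2H8.FSRelCompl
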