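import Mathlib
import Groth.Prelude.Def_EtMod2
import Groth.Agent.Lib.T2H8LocTrivExactMod

/-!
# Extensions of finite type trivialized étale sheaves of modules (Noetherian coefficients)
are locally trivialized
-/

set_option autoImplicit false
set_option linter.unusedSectionVars false
set_option linter.style.haveILetI false
universe u
open CategoryTheory CategoryTheory.Limits Opposite AlgebraicGeometry

namespace Groth.Agent.Lib.T2H8.LocTrivExtMod
open Groth.Agent.Lib.T2H8.LocTriv (exists_mem_range_of_mem bot_not_mem exists_common iInf_mem)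
open Groth.Agent.Lib.T2H8.LocTrivMod Groth.Agent.Lib.T2H8.LocTrivExactMod

variable {Λ : Type (u + 1)} [CommRing Λ] {X : Scheme.{u}}
variable {S : ShortComplex (Sheaf X.smallEtaleTopology (ModuleCat.{u + 1} Λ))}

section core

variable (hS : S.ShortExact) {Z : X.Etale} {M' M'' : ModuleCat.{u + 1} Λ}
  {t' : M' ⟶ S.X₁.obj.obj (op Z)} {t'' : M'' ⟶ S.X₃.obj.obj (op Z)}
  (ht' : IsTriv S.X₁ Z M' t') (ht'' : IsTriv S.X₃ Z M'' t'')
  {k : ℕ} (b : Fin k → M'') (hb : Submodule.span Λ (Set.range b) = ⊤)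
  (σ : Fin k → S.X₂.obj.obj (op Z)) (hσ : ∀ j, S.g.hom.app (op Z) (σ j) = t'' (b j))
  (hrel : ∀ l : Fin k → Λ, Fintype.linearCombination Λ b l = 0 →
    ∃ a' : M', Fintype.linearCombination Λ σ l = S.f.hom.app (op Z) (t' a'))

/-- the parametrization of the extension module -/
noncomputable def Phi (t' : M' ⟶ S.X₁.obj.obj (op Z)) (σ : Fin k → S.X₂.obj.obj (op Z)) :
    (M' × (Fin k → Λ)) →ₗ[Λ] S.X₂.obj.obj (op Z) :=
  ((S.f.hom.app (op Z)).hom ∘ₗ t'.hom).coprod (Fintype.linearCombination Λ σ)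

theorem Phi_apply (a : M') (l : Fin k → Λ) :
    Phi t' σ (a, l) = S.f.hom.app (op Z) (t' a) + Fintype.linearCombination Λ σ l := rfl

/-- the extension module -/
noncomputable def extMod (t' : M' ⟶ S.X₁.obj.obj (op Z)) (σ : Fin k → S.X₂.obj.obj (op Z)) :
    Submodule Λ (S.X₂.obj.obj (op Z)) := LinearMap.range (Phi t' σ)

theorem finite_extMod [Module.Finite Λ M'] : Module.Finite Λ (extMod t' σ) :=
  Module.Finite.range (Phi t' σ)

/-- the inclusion of the extension module -/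
noncomputable def tExt : ModuleCat.of Λ (extMod t' σ) ⟶ S.X₂.obj.obj (op Z) :=
  ModuleCat.ofHom (extMod t' σ).subtype

include hS ht' ht'' hb hσ hrel in
theorem isTriv_ext : IsTriv S.X₂ Z (ModuleCat.of Λ (extMod t' σ)) (tExt (t' := t') (σ := σ)) := by
  haveI : Mono S.f := hS.mono_f
  haveI : Epi S.g := hS.epi_g
  have hex : S.Exact := hS.exact
  -- `g` of a linear combination of the lifts
  have hgσ0 : ∀ l : Fin k → Λ, S.g.hom.app (op Z) (Fintype.linearCombination Λ σ l) =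
      t'' (Fintype.linearCombination Λ b l) := by
    intro l
    simp only [Fintype.linearCombination_apply, map_sum, map_smul, hσ]
  have hgσ : ∀ (Y : X.Etale) (f' : Y ⟶ Z) (l : Fin k → Λ),
      S.g.hom.app (op Y) (S.X₂.obj.map f'.op (Fintype.linearCombination Λ σ l)) =
        S.X₃.obj.map f'.op (t'' (Fintype.linearCombination Λ b l)) := by
    intro Y f' l
    have n := NatTrans.naturality_apply S.g.hom f'.op (Fintype.linearCombination Λ σ l)
    rw [n, hgσ0]
  have hPhi : ∀ (Y : X.Etale) (f' : Y ⟶ Z) (a : M') (l : Fin k → Λ),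
      S.X₂.obj.map f'.op (Phi t' σ (a, l)) =
        S.f.hom.app (op Y) (S.X₁.obj.map f'.op (t' a)) +
          S.X₂.obj.map f'.op (Fintype.linearCombination Λ σ l) := by
    intro Y f' a l
    have n := NatTrans.naturality_apply S.f.hom f'.op (t' a)
    rw [Phi_apply, map_add, n]
  have hzero : ∀ (Y : X.Etale) (f' : Y ⟶ Z) (a : M') (l : Fin k → Λ),
      S.X₂.obj.map f'.op (Phi t' σ (a, l)) = 0 →
        Phi t' σ (a, l) = 0 ∨ (⊥ : Sieve Y) ∈ X.smallEtaleTopology Y := by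
    intro Y f' a l h0
    have h1 : S.X₃.obj.map f'.op (t'' (Fintype.linearCombination Λ b l)) =
        S.X₃.obj.map f'.op (t'' 0) := by
      have h2 := congrArg (S.g.hom.app (op Y)) h0
      rw [hPhi, map_add, LocTrivExactMod.zero_apply, zero_add, hgσ, map_zero] at h2
      rw [h2, map_zero, map_zero]
    rcases ht''.inj Y f' _ 0 h1 with hb0 | hb0
    · obtain ⟨a', ha'⟩ := hrel l hb0
      have h3 : Phi t' σ (a, l) = S.f.hom.app (op Z) (t' (a + a')) := by
        rw [Phi_apply, ha', map_add, map_add]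
      rw [h3] at h0 ⊢
      have n := NatTrans.naturality_apply S.f.hom f'.op (t' (a + a'))
      rw [← n] at h0
      have h4 : S.X₁.obj.map f'.op (t' (a + a')) = S.X₁.obj.map f'.op (t' 0) := by
        apply f_injective S Y
        rw [h0, map_zero, map_zero, map_zero]
      rcases ht'.inj Y f' (a + a') 0 h4 with ha | ha
      · left
        rw [ha, map_zero, map_zero]
      · exact Or.inr ha
    · exact Or.inr hb0
  have hsurjρ : ∀ b₀ : M'', ∃ l : Fin k → Λ, Fintype.linearCombination Λ b l = b₀ := by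
    intro b₀
    have : b₀ ∈ Submodule.span Λ (Set.range b) := by
      rw [hb]
      trivial
    rw [← Fintype.range_linearCombination] at this
    exact this
  constructor
  · rintro Y f' e e' hee
    obtain ⟨⟨a, l⟩, hab⟩ := (e - e').2
    have h0 : S.X₂.obj.map f'.op (Phi t' σ (a, l)) = 0 := by
      rw [hab]
      change S.X₂.obj.map f'.op ((e : S.X₂.obj.obj (op Z)) - (e' : S.X₂.obj.obj (op Z))) = 0
      rw [map_sub]
      exact sub_eq_zero.2 hee
    rcases hzero Y f' a l h0 with h1 | h1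
    · left
      rw [hab] at h1
      exact sub_eq_zero.1 (Subtype.ext h1)
    · exact Or.inr h1
  · intro Y f' y
    refine X.smallEtaleTopology.transitive (ht''.surj Y f' (S.g.hom.app (op Y) y)) _ ?_
    rintro Y₁ k₁ ⟨b₀, hb₀⟩
    obtain ⟨l, rfl⟩ := hsurjρ b₀
    let y' : S.X₂.obj.obj (op Y₁) :=
      S.X₂.obj.map k₁.op y - S.X₂.obj.map (k₁ ≫ f').op (Fintype.linearCombination Λ σ l)
    have hy' : S.g.hom.app (op Y₁) y' = 0 := by
      have n := NatTrans.naturality_apply S.g.hom k₁.op y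
      simp only [y', map_sub]
      rw [hgσ, n, hb₀, sub_self]
    obtain ⟨x, hx⟩ := exists_lift S hex Y₁ y' hy'
    refine X.smallEtaleTopology.superset_covering ?_ (ht'.surj Y₁ (k₁ ≫ f') x)
    rintro Y₂ l₂ ⟨a, ha⟩
    refine ⟨⟨Phi t' σ (a, l), ⟨(a, l), rfl⟩⟩, ?_⟩
    change S.X₂.obj.map ((l₂ ≫ k₁) ≫ f').op (Phi t' σ (a, l)) = S.X₂.obj.map (l₂ ≫ k₁).op y
    rw [hPhi, Category.assoc, ha]
    have n := NatTrans.naturality_apply S.f.hom l₂.op x
    rw [n, hx]
    simp only [y', map_sub]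
    rw [map_map_apply, map_map_apply]
    abel

end core

/-- an extension of finite type trivialized sheaves is locally trivialized by a finite module -/
theorem exists_ext_local [IsNoetherianRing Λ] (hS : S.ShortExact) {U : X.Etale}
    {M' M'' : ModuleCat.{u + 1} Λ} [Module.Finite Λ M'] [Module.Finite Λ M'']
    {t' : M' ⟶ S.X₁.obj.obj (op U)} {t'' : M'' ⟶ S.X₃.obj.obj (op U)}
    (ht' : IsTriv S.X₁ U M' t') (ht'' : IsTriv S.X₃ U M'' t'') (u : U.left) :
    ∃ (Z : X.Etale) (g : Z ⟶ U) (z : Z.left) (E : ModuleCat.{u + 1} Λ) (_ : Module.Finite Λ E)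
      (tE : E ⟶ S.X₂.obj.obj (op Z)), g.left.base z = u ∧ IsTriv S.X₂ Z E tE := by
  haveI : Mono S.f := hS.mono_f
  haveI : Epi S.g := hS.epi_g
  have hex : S.Exact := hS.exact
  obtain ⟨k, b, hb⟩ := Module.Finite.exists_fin (R := Λ) (M := M'')
  -- Step 1: lifts of the generators of the quotient
  have hR : (⨅ j : Fin k, Presheaf.imageSieve S.g.hom (t'' (b j))) ∈ X.smallEtaleTopology U :=
    iInf_mem _ (Fin k) _ fun j => imageSieve_mem_of_epi S.g U (t'' (b j))
  obtain ⟨Z₁, g₁, hg₁, z₁, hz₁⟩ := exists_mem_range_of_mem hR u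
  rw [LocTriv.iInf_apply] at hg₁
  choose σ₁ hσ₁' using hg₁
  let t'₁ : M' ⟶ S.X₁.obj.obj (op Z₁) := t' ≫ S.X₁.obj.map g₁.op
  let t''₁ : M'' ⟶ S.X₃.obj.obj (op Z₁) := t'' ≫ S.X₃.obj.map g₁.op
  have ht'₁ : IsTriv S.X₁ Z₁ M' t'₁ := ht'.restrict _ g₁
  have ht''₁ : IsTriv S.X₃ Z₁ M'' t''₁ := ht''.restrict _ g₁
  have hσ₁ : ∀ j, S.g.hom.app (op Z₁) (σ₁ j) = t''₁ (b j) := fun j => hσ₁' j
  have hgσ₁ : ∀ l : Fin k → Λ, S.g.hom.app (op Z₁) (Fintype.linearCombination Λ σ₁ l) =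
      t''₁ (Fintype.linearCombination Λ b l) := by
    intro l
    simp only [Fintype.linearCombination_apply, map_sum, map_smul, hσ₁]
  -- Step 2: the relations
  have hfg : (LinearMap.ker (Fintype.linearCombination Λ b)).FG := IsNoetherian.noetherian _
  obtain ⟨n, r, hr⟩ := Submodule.fg_iff_exists_fin_generating_family.1 hfg
  have hrker : ∀ i, Fintype.linearCombination Λ b (r i) = 0 := by
    intro i
    have : r i ∈ LinearMap.ker (Fintype.linearCombination Λ b) := by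
      rw [← hr]
      exact Submodule.subset_span ⟨i, rfl⟩
    exact this
  have hy : ∀ i : Fin n, ∃ y : S.X₁.obj.obj (op Z₁),
      S.f.hom.app (op Z₁) y = Fintype.linearCombination Λ σ₁ (r i) := by
    intro i
    apply exists_lift S hex Z₁
    rw [hgσ₁, hrker, map_zero]
  choose y hy using hy
  have hR₂ : (⨅ i : Fin n, imgSieve S.X₁ t'₁ (𝟙 Z₁) (y i)) ∈ X.smallEtaleTopology Z₁ :=
    iInf_mem _ (Fin n) _ fun i => ht'₁.surj Z₁ (𝟙 Z₁) (y i)
  obtain ⟨Z₂, g₂, hg₂, z₂, hz₂⟩ := exists_mem_range_of_mem hR₂ z₁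
  rw [LocTriv.iInf_apply] at hg₂
  choose a ha using hg₂
  let σ₂ : Fin k → S.X₂.obj.obj (op Z₂) := fun j => S.X₂.obj.map g₂.op (σ₁ j)
  let t'₂ : M' ⟶ S.X₁.obj.obj (op Z₂) := t'₁ ≫ S.X₁.obj.map g₂.op
  let t''₂ : M'' ⟶ S.X₃.obj.obj (op Z₂) := t''₁ ≫ S.X₃.obj.map g₂.op
  have ht'₂ : IsTriv S.X₁ Z₂ M' t'₂ := ht'₁.restrict _ g₂
  have ht''₂ : IsTriv S.X₃ Z₂ M'' t''₂ := ht''₁.restrict _ g₂
  have hσ₂ : ∀ j, S.g.hom.app (op Z₂) (σ₂ j) = t''₂ (b j) := by
    intro j
    have n := NatTrans.naturality_apply S.g.hom g₂.op (σ₁ j)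
    simp only [σ₂]
    rw [n, hσ₁]
    rfl
  have hSig : ∀ l : Fin k → Λ, Fintype.linearCombination Λ σ₂ l =
      S.X₂.obj.map g₂.op (Fintype.linearCombination Λ σ₁ l) := by
    intro l
    simp only [Fintype.linearCombination_apply, map_sum, map_smul, σ₂]
  have hrel : ∀ l : Fin k → Λ, Fintype.linearCombination Λ b l = 0 →
      ∃ a' : M', Fintype.linearCombination Λ σ₂ l = S.f.hom.app (op Z₂) (t'₂ a') := by
    intro l hl
    let L : Submodule Λ (Fin k → Λ) :=
      (LinearMap.range ((S.f.hom.app (op Z₂)).hom ∘ₗ t'₂.hom)).comap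
        (Fintype.linearCombination Λ σ₂)
    have hL : LinearMap.ker (Fintype.linearCombination Λ b) ≤ L := by
      rw [← hr, Submodule.span_le]
      rintro _ ⟨i, rfl⟩
      refine ⟨a i, ?_⟩
      have h1 := ha i
      rw [Category.comp_id] at h1
      have n := NatTrans.naturality_apply S.f.hom g₂.op (y i)
      change S.f.hom.app (op Z₂) (S.X₁.obj.map g₂.op (t'₁ (a i))) = _
      rw [h1, n, hy, hSig]
    obtain ⟨a', ha'⟩ := hL hl
    exact ⟨a', ha'.symm⟩
  refine ⟨Z₂, g₂ ≫ g₁, z₂, ModuleCat.of Λ (extMod t'₂ σ₂), finite_extMod σ₂, tExt σ₂, ?_,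
    isTriv_ext hS ht'₂ ht''₂ b hb σ₂ hσ₂ hrel⟩
  change g₁.left.base (g₂.left.base z₂) = u
  rw [hz₂, hz₁]

end Groth.Agent.Lib.T2H8.LocTrivExtMod
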