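import Mathlib
import Groth.Prelude.Def_EtMod2
import Groth.Agent.Lib.T2H8LocTrivMod

/-!
# Maps of finite type locally constant sheaves of modules are locally maps of constant sheaves
-/

set_option autoImplicit false
set_option linter.unusedSectionVars false
set_option linter.style.haveILetI false
universe u
open CategoryTheory CategoryTheory.Limits Opposite AlgebraicGeometry

namespace Groth.Agent.Lib.T2H8.LocTrivHomMod
open Groth.Agent.Lib.T2H8.LocTriv (exists_mem_range_of_mem bot_not_mem exists_common iInf_mem)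
open Groth.Agent.Lib.T2H8.LocTrivMod

variable {Λ : Type (u + 1)} [CommRing Λ] {X : Scheme.{u}}

/-- pointwise finite type trivializations -/
def FTTrivAt (F : EtModW.Mod Λ X) (x : X) : Prop :=
  ∃ (U : X.Etale) (u : U.left), U.hom.base u = x ∧
    ∃ (M : ModuleCat.{u + 1} Λ) (_ : Module.Finite Λ M) (t : M ⟶ F.obj.obj (op U)), IsTriv F U M t

theorem ftTrivAt_of (F : EtModW.Mod Λ X) (hF : EtModW.IsFTLocConst Λ F) (x : X) :
    FTTrivAt F x := by
  obtain ⟨ι, U, hU, hFU⟩ := hF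
  obtain ⟨i, u, hu⟩ := hU x
  obtain ⟨M₀, _, _, hfin, ⟨α⟩⟩ := hFU i
  have ht0 := isTriv_of_iso F (U i) _ ((sheafToPresheaf _ _).mapIso α)
  exact ⟨U i, u, hu, _, hfin, _, ht0⟩

theorem isFTLocConst_of (F : EtModW.Mod Λ X) (h : ∀ x, FTTrivAt F x) :
    EtModW.IsFTLocConst Λ F := by
  choose U u hu M hM t ht using h
  refine ⟨X, U, fun x => ⟨x, u x, hu x⟩, fun x => ?_⟩
  exact ⟨M x, inferInstance, inferInstance, hM x, ⟨isoOfTriv (ht x)⟩⟩

/-- a common trivialization of a map of finite type locally constant sheaves -/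
theorem local_at_fin (F G : EtModW.Mod Λ X) (φ : F ⟶ G) (x : X)
    (hF : FTTrivAt F x) (hG : FTTrivAt G x) :
    ∃ (Z : X.Etale) (z : Z.left), Z.hom.base z = x ∧
      ∃ (M N : ModuleCat.{u + 1} Λ) (_ : Module.Finite Λ M) (_ : Module.Finite Λ N) (h : M ⟶ N)
        (t : M ⟶ F.obj.obj (op Z)) (s : N ⟶ G.obj.obj (op Z)),
        IsTriv F Z M t ∧ IsTriv G Z N s ∧ t ≫ φ.hom.app (op Z) = h ≫ s := by
  obtain ⟨U, u, hu, M, hM, t, ht0⟩ := hF
  obtain ⟨V, v, hv, N, hN, s, hs0⟩ := hG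
  obtain ⟨W, a, b, w, hwa, hwb⟩ := exists_common U V u v (hu.trans hv.symm)
  have ht := ht0.restrict F a
  have hs := hs0.restrict G b
  obtain ⟨Z, g, z, h, hz, heq⟩ := exists_hom_local φ ht hs w
  refine ⟨Z, z, ?_, M, N, hM, hN, h, _, _, ht.restrict F g, hs.restrict G g, heq⟩
  have e1 : Z.hom = g.left ≫ W.hom := (MorphismProperty.Over.w g).symm
  have e2 : W.hom = a.left ≫ U.hom := (MorphismProperty.Over.w a).symm
  rw [e1, e2]
  change U.hom.base (a.left.base (g.left.base z)) = x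
  rw [hz, hwa, hu]

theorem main (Λ : Type (u + 1)) [CommRing Λ] {X : Scheme.{u}} (F G : EtModW.Mod Λ X)
    (φ : F ⟶ G) (hF : EtModW.IsFTLocConst Λ F) (hG : EtModW.IsFTLocConst Λ G) :
    ∃ (ι : Type u) (U : ι → X.Etale), EtCoh.Covers U ∧ ∀ i, ∃ (M N : Type (u + 1)) (_ : AddCommGroup M) (_ : AddCommGroup N)
      (_ : Module Λ M) (_ : Module Λ N) (h : M →ₗ[Λ] N)
      (α : EtModW.restr Λ F (U i) ≅ (constantSheaf (X.smallEtaleTopology.over (U i)) (ModuleCat.{u + 1} Λ)).obj (ModuleCat.of Λ M))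
      (β : EtModW.restr Λ G (U i) ≅ (constantSheaf (X.smallEtaleTopology.over (U i)) (ModuleCat.{u + 1} Λ)).obj (ModuleCat.of Λ N)),
      (X.smallEtaleTopology.overPullback (ModuleCat.{u + 1} Λ) (U i)).map φ ≫ β.hom =
        α.hom ≫ (constantSheaf (X.smallEtaleTopology.over (U i)) (ModuleCat.{u + 1} Λ)).map (ModuleCat.ofHom h) := by
  choose Z z hz M N hM hN h t s ht hs heq using
    fun x => local_at_fin F G φ x (ftTrivAt_of F hF x) (ftTrivAt_of G hG x)
  refine ⟨X, Z, fun x => ⟨x, z x, hz x⟩, fun x => ?_⟩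
  exact ⟨M x, N x, inferInstance, inferInstance, inferInstance, inferInstance, (h x).hom,
    isoOfTriv (ht x), isoOfTriv (hs x),
    isoOfTriv_comp φ (t x) (s x) (h x) (ht x) (hs x) (heq x)⟩

end Groth.Agent.Lib.T2H8.LocTrivHomMod
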