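import Mathlib
import Groth.Prelude.Def_EtMod2
import Groth.Agent.Lib.T2H8LocTrivHomMod
import Groth.Agent.Lib.T2H8LocTrivExtMod

/-!
# Finite type locally constant étale sheaves of modules over a Noetherian ring form a weak Serre
subcategory
-/

set_option autoImplicit false
set_option linter.unusedSectionVars false
set_option linter.style.haveILetI false
universe u
open CategoryTheory CategoryTheory.Limits Opposite AlgebraicGeometry

namespace Groth.Agent.Lib.T2H8.FTLCSerre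
open Groth.Agent.Lib.T2H8.LocTriv (exists_mem_range_of_mem bot_not_mem exists_common iInf_mem)
open Groth.Agent.Lib.T2H8.LocTrivMod Groth.Agent.Lib.T2H8.LocTrivExactMod
open Groth.Agent.Lib.T2H8.LocTrivExtMod Groth.Agent.Lib.T2H8.LocTrivHomMod

variable {Λ : Type (u + 1)} [CommRing Λ] [IsNoetherianRing Λ] {X : Scheme.{u}}

theorem ftlc_kernel (F G : EtModW.Mod Λ X) (φ : F ⟶ G) (hF : EtModW.IsFTLocConst Λ F)
    (hG : EtModW.IsFTLocConst Λ G) : EtModW.IsFTLocConst Λ (kernel φ) := by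
  apply isFTLocConst_of
  intro x
  obtain ⟨Z, z, hz, M, N, hM, hN, h, t, s, ht, hs, w⟩ :=
    local_at_fin F G φ x (ftTrivAt_of F hF x) (ftTrivAt_of G hG x)
  let S : ShortComplex (EtModW.Mod Λ X) := ShortComplex.mk (kernel.ι φ) φ (kernel.condition φ)
  have hS : S.Exact := ShortComplex.exact_kernel φ
  haveI : Mono S.f := inferInstanceAs (Mono (kernel.ι φ))
  have hK := isTriv_ker (S := S) hS ht hs w
  haveI : IsNoetherian Λ M := isNoetherian_of_isNoetherianRing_of_finite Λ M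
  have hfin : Module.Finite Λ (LinearMap.ker h.hom) :=
    Module.Finite.of_fg (IsNoetherian.noetherian (LinearMap.ker h.hom))
  exact ⟨Z, z, hz, ModuleCat.of Λ (LinearMap.ker h.hom), hfin, _, hK⟩

theorem ftlc_cokernel (F G : EtModW.Mod Λ X) (φ : F ⟶ G) (hF : EtModW.IsFTLocConst Λ F)
    (hG : EtModW.IsFTLocConst Λ G) : EtModW.IsFTLocConst Λ (cokernel φ) := by
  apply isFTLocConst_of
  intro x
  obtain ⟨Z, z, hz, M, N, hM, hN, h, t, s, ht, hs, w⟩ :=
    local_at_fin F G φ x (ftTrivAt_of F hF x) (ftTrivAt_of G hG x)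
  let S : ShortComplex (EtModW.Mod Λ X) := ShortComplex.mk φ (cokernel.π φ) (cokernel.condition φ)
  have hS : S.Exact := ShortComplex.exact_cokernel φ
  haveI : Epi S.g := inferInstanceAs (Epi (cokernel.π φ))
  have := isTriv_coker (S := S) hS ht hs w
  exact ⟨Z, z, hz, _, inferInstanceAs (Module.Finite Λ (N ⧸ LinearMap.range h.hom)), _, this⟩

theorem ftlc_extension (S : ShortComplex (EtModW.Mod Λ X)) (hS : S.ShortExact)
    (h₁ : EtModW.IsFTLocConst Λ S.X₁) (h₃ : EtModW.IsFTLocConst Λ S.X₃) :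
    EtModW.IsFTLocConst Λ S.X₂ := by
  apply isFTLocConst_of
  intro x
  obtain ⟨U, u, hu, M', hM', t', ht0⟩ := ftTrivAt_of S.X₁ h₁ x
  obtain ⟨V, v, hv, M'', hM'', t'', hs0⟩ := ftTrivAt_of S.X₃ h₃ x
  obtain ⟨W, a, b, w, hwa, hwb⟩ := exists_common U V u v (hu.trans hv.symm)
  have ht := ht0.restrict _ a
  have hs := hs0.restrict _ b
  obtain ⟨Z, g, z, E, hE, tE, hz, hE'⟩ := exists_ext_local hS ht hs w
  refine ⟨Z, z, ?_, E, hE, tE, hE'⟩
  have e1 : Z.hom = g.left ≫ W.hom := (MorphismProperty.Over.w g).symm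
  have e2 : W.hom = a.left ≫ U.hom := (MorphismProperty.Over.w a).symm
  rw [e1, e2]
  change U.hom.base (a.left.base (g.left.base z)) = x
  rw [hz, hwa, hu]

theorem main (Λ : Type (u + 1)) [CommRing Λ] [IsNoetherianRing Λ] (X : Scheme.{u}) :
    (∀ (F G : EtModW.Mod Λ X) (φ : F ⟶ G), EtModW.IsFTLocConst Λ F → EtModW.IsFTLocConst Λ G →
      EtModW.IsFTLocConst Λ (kernel φ) ∧ EtModW.IsFTLocConst Λ (cokernel φ)) ∧
    ObjectProperty.IsClosedUnderExtensions (fun F : EtModW.Mod Λ X => EtModW.IsFTLocConst Λ F) :=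
  ⟨fun F G φ hF hG => ⟨ftlc_kernel F G φ hF hG, ftlc_cokernel F G φ hF hG⟩,
    ⟨fun {S} hS h₁ h₃ => ftlc_extension S hS h₁ h₃⟩⟩

end Groth.Agent.Lib.T2H8.FTLCSerre
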