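import Mathlib
import Groth.Agent.Lib.Helper14FTDim
import Groth.Agent.Lib.Helper15Noether
set_option autoImplicit false
open MvPolynomial

namespace Groth.Agent.Lib.T2H8.RelNN

universe u

/-- more elements than the dimension are algebraically dependent -/
theorem exists_ne_zero_aeval_eq_zero {F B : Type u} [Field F] [CommRing B] [Algebra F B]
    [Algebra.FiniteType F B] (d n : ℕ) (hd : ringKrullDim B ≤ (d : WithBot ℕ∞)) (hn : d < n)
    (a : Fin n → B) :
    ∃ P : MvPolynomial (Fin n) F, P ≠ 0 ∧ aeval a P = 0 := by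
  by_contra hcon
  push_neg at hcon
  set φ : MvPolynomial (Fin n) F →ₐ[F] B := aeval a with hφ
  have hinj : Function.Injective φ := by
    rw [injective_iff_map_eq_zero]
    intro P hP
    by_contra hne
    exact hcon P hne hP
  haveI : IsNoetherianRing B := Algebra.FiniteType.isNoetherianRing F B
  have hfin : (minimalPrimes B).Finite := minimalPrimes.finite_of_isNoetherianRing B
  have hle : hfin.toFinset.inf (fun 𝔭 => Ideal.comap φ 𝔭) ≤ (⊥ : Ideal (MvPolynomial (Fin n) F)) := by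
    intro x hx
    rw [Submodule.mem_finsetInf] at hx
    have h1 : φ x ∈ sInf (minimalPrimes B) := by
      rw [Submodule.mem_sInf]
      intro 𝔭 h𝔭
      exact hx 𝔭 (hfin.mem_toFinset.mpr h𝔭)
    rw [minimalPrimes, Ideal.sInf_minimalPrimes] at h1
    obtain ⟨m, hm⟩ := h1
    rw [← map_pow] at hm
    have : x ^ m = 0 := hinj (by rw [map_zero]; exact hm)
    rw [Ideal.mem_bot]
    exact pow_eq_zero_iff (fun h0 => by
      subst h0; rw [pow_zero] at this; exact one_ne_zero this) |>.mp this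
  obtain ⟨𝔭, h𝔭, h𝔭le⟩ := (Ideal.IsPrime.inf_le' (Ideal.isPrime_bot)).mp hle
  have h𝔭min : 𝔭 ∈ minimalPrimes B := hfin.mem_toFinset.mp h𝔭
  haveI : 𝔭.IsPrime := h𝔭min.1.1
  -- the quotient domain
  have hinj2 : Function.Injective ((Ideal.Quotient.mkₐ F 𝔭).comp φ) := by
    rw [injective_iff_map_eq_zero]
    intro x hx
    have : x ∈ Ideal.comap φ 𝔭 := by
      rw [Ideal.mem_comap]
      exact Ideal.Quotient.eq_zero_iff_mem.mp hx
    exact (Ideal.mem_bot.mp (h𝔭le this))
  have hcomp : (Ideal.Quotient.mkₐ F 𝔭).comp φ = aeval (fun i => Ideal.Quotient.mk 𝔭 (a i)) := by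
    apply MvPolynomial.algHom_ext
    intro i
    simp [hφ]
  have hai : AlgebraicIndependent F (fun i => Ideal.Quotient.mk 𝔭 (a i)) := by
    rw [AlgebraicIndependent, ← hcomp]
    exact hinj2
  obtain ⟨n₀, htr, hdim, -⟩ := Groth.Agent.Lib.Helper14.FTDim.exists_dim F (B ⧸ 𝔭)
  have hai2 := hai.map' (f := IsScalarTower.toAlgHom F (B ⧸ 𝔭) (FractionRing (B ⧸ 𝔭)))
    (IsFractionRing.injective _ _)
  have hcard := hai2.lift_cardinalMk_le_trdeg
  rw [htr] at hcard
  have hnn : n ≤ n₀ := by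
    simpa using hcard
  have h3 : ringKrullDim (B ⧸ 𝔭) ≤ ringKrullDim B := ringKrullDim_quotient_le 𝔭
  rw [hdim] at h3
  have h4 : ((n₀ : ℕ) : WithBot ℕ∞) ≤ (d : WithBot ℕ∞) := h3.trans hd
  have h5 : n₀ ≤ d := by exact_mod_cast h4
  omega



open Groth.Agent.Lib.Helper15


section L2

variable {F B : Type*} [Field F] [CommRing B] [Algebra F B]

theorem eval₂_finSuccEquiv (m : ℕ) (t : B) (c : Fin m → B) (Q : MvPolynomial (Fin (m + 1)) F) :
    Polynomial.eval₂ (aeval c : MvPolynomial (Fin m) F →ₐ[F] B).toRingHom t (finSuccEquiv F m Q) =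
      aeval (Fin.cons t c : Fin (m + 1) → B) Q := by
  induction Q using MvPolynomial.induction_on with
  | C a =>
    rw [finSuccEquiv_apply]
    simp
  | add p q hp hq => rw [map_add, Polynomial.eval₂_add, hp, hq, map_add]
  | mul_X p i hp =>
    rw [map_mul, Polynomial.eval₂_mul, hp, map_mul]
    congr 1
    refine Fin.cases ?_ (fun j => ?_) i
    · rw [finSuccEquiv_X_zero, Polynomial.eval₂_X, aeval_X, Fin.cons_zero]
    · rw [finSuccEquiv_X_succ, Polynomial.eval₂_C, aeval_X, Fin.cons_succ]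
      simp

theorem aeval_T (m : ℕ) (P : MvPolynomial (Fin (m + 1)) F) (t : B) (c : Fin m → B)
    (Q : MvPolynomial (Fin (m + 1)) F) :
    aeval (Fin.cons t (fun i : Fin m => c i - t ^ ((2 + P.totalDegree) ^ ((i : ℕ) + 1))) :
      Fin (m + 1) → B) (NN.T P Q) = aeval (Fin.cons t c : Fin (m + 1) → B) Q := by
  have : (aeval (Fin.cons t (fun i : Fin m => c i - t ^ ((2 + P.totalDegree) ^ ((i : ℕ) + 1))) :
      Fin (m + 1) → B)).comp (NN.T1 P (1 : F)) = aeval (Fin.cons t c : Fin (m + 1) → B) := by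
    apply MvPolynomial.algHom_ext
    intro i
    refine Fin.cases ?_ (fun j => ?_) i
    · simp
    · simp [Fin.succ_ne_zero]
  rw [← this]
  rfl

theorem isIntegralElem_of_relation (m : ℕ) (P : MvPolynomial (Fin (m + 1)) F) (hP : P ≠ 0)
    (t : B) (c : Fin m → B) (h0 : aeval (Fin.cons t c : Fin (m + 1) → B) P = 0) :
    (aeval (fun i : Fin m => c i - t ^ ((2 + P.totalDegree) ^ ((i : ℕ) + 1))) :
      MvPolynomial (Fin m) F →ₐ[F] B).toRingHom.IsIntegralElem t := by
  set c' : Fin m → B := fun i : Fin m => c i - t ^ ((2 + P.totalDegree) ^ ((i : ℕ) + 1)) with hc'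
  set G : Polynomial (MvPolynomial (Fin m) F) := finSuccEquiv F m (NN.T P P) with hG
  have hu : IsUnit G.leadingCoeff := NN.T_leadingcoeff_isUnit P hP
  have hev : Polynomial.eval₂ (aeval c' : MvPolynomial (Fin m) F →ₐ[F] B).toRingHom t G = 0 := by
    rw [hG, eval₂_finSuccEquiv, hc', aeval_T, h0]
  set G₁ : Polynomial (MvPolynomial (Fin m) F) := (hu.unit⁻¹ : (MvPolynomial (Fin m) F)ˣ) • G with hG₁
  have hmon : G₁.Monic := Polynomial.monic_of_isUnit_leadingCoeff_inv_smul hu
  refine ⟨G₁, hmon, ?_⟩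
  have hG₁' : G₁ = Polynomial.C ((hu.unit⁻¹ : (MvPolynomial (Fin m) F)ˣ) : MvPolynomial (Fin m) F) * G := by
    rw [hG₁, Units.smul_def, Polynomial.smul_eq_C_mul]
  rw [hG₁', Polynomial.eval₂_mul, hev, mul_zero]

end L2



/-- transitivity of integrality for ring homs into a common target -/
theorem isIntegral_of_forall_isIntegralElem {R₁ R₂ B : Type*} [CommRing R₁] [CommRing R₂]
    [CommRing B] (f : R₁ →+* B) (g : R₂ →+* B) (hf : f.IsIntegral)
    (h : ∀ r, g.IsIntegralElem (f r)) : g.IsIntegral := by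
  letI := g.toAlgebra
  intro b
  obtain ⟨p, hp, hpb⟩ := hf b
  set IC := integralClosure R₂ B with hIC
  have hcoe : (↑(p.map f).coeffs : Set B) ⊆ IC.toSubring := by
    intro x hx
    rw [Finset.mem_coe, Polynomial.mem_coeffs_iff] at hx
    obtain ⟨n, -, rfl⟩ := hx
    rw [Polynomial.coeff_map]
    exact h _
  have hb : IsIntegral IC b := by
    refine ⟨(p.map f).toSubring IC.toSubring hcoe, ?_, ?_⟩
    · exact (Polynomial.monic_toSubring _ _ _).mpr (hp.map f)
    · have h1 : Polynomial.eval₂ (RingHom.id B) b (p.map f) = 0 := by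
        rw [Polynomial.eval₂_map]
        simpa using hpb
      rw [← Polynomial.map_toSubring (p.map f) IC.toSubring hcoe, Polynomial.eval₂_map] at h1
      exact h1
  exact isIntegral_trans (R := R₂) (A := IC) b hb

end Groth.Agent.Lib.T2H8.RelNN
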