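import Mathlib
import Groth.Agent.Lib.T2H8RelNNA
set_option autoImplicit false
open MvPolynomial

namespace Groth.Agent.Lib.T2H8.RelNN

universe u v

section defs

variable {R : Type*} [CommRing R] (F : Type*) {B : Type*} [Field F] [CommRing B] [Algebra F B]
  (ι : R →+* B)

/-- `B` is integral over the `F`-subalgebra generated by the images of the family `a`. -/
def IsInt {σ : Type*} (a : σ → R) : Prop :=
  (aeval (fun s => ι (a s)) : MvPolynomial σ F →ₐ[F] B).toRingHom.IsIntegral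

variable {F ι}

theorem isIntegralElem_gen {τ : Type*} (a' : τ → R) (s : τ) :
    (aeval (fun s => ι (a' s)) : MvPolynomial τ F →ₐ[F] B).toRingHom.IsIntegralElem (ι (a' s)) := by
  have : ι (a' s) = (aeval (fun s => ι (a' s)) : MvPolynomial τ F →ₐ[F] B).toRingHom (X s) := by
    simp
  rw [this]
  exact RingHom.isIntegralElem_map _

theorem IsInt.of_forall {σ τ : Type*} (a : σ → R) (a' : τ → R) (h : IsInt F ι a)
    (h' : ∀ s, (aeval (fun s => ι (a' s)) : MvPolynomial τ F →ₐ[F] B).toRingHom.IsIntegralElem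
      (ι (a s))) : IsInt F ι a' := by
  refine isIntegral_of_forall_isIntegralElem _ _ h (fun r => ?_)
  induction r using MvPolynomial.induction_on with
  | C c =>
    have : (aeval (fun s => ι (a s)) : MvPolynomial σ F →ₐ[F] B).toRingHom (C c) =
        (aeval (fun s => ι (a' s)) : MvPolynomial τ F →ₐ[F] B).toRingHom (C c) := by simp
    rw [this]
    exact RingHom.isIntegralElem_map _
  | add p q hp hq =>
    rw [map_add]
    exact RingHom.IsIntegralElem.add _ hp hq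
  | mul_X p i hp =>
    rw [map_mul]
    refine RingHom.IsIntegralElem.mul _ hp ?_
    have : (aeval (fun s => ι (a s)) : MvPolynomial σ F →ₐ[F] B).toRingHom (X i) = ι (a i) := by
      simp
    rw [this]
    exact h' i

end defs

section step

variable {R : Type*} [CommRing R] (N : ℕ) (hN : 1 ≤ N)
  {F₁ B₁ : Type u} [Field F₁] [CommRing B₁] [Algebra F₁ B₁] [Algebra.FiniteType F₁ B₁]
  (ι₁ : R →+* B₁)
  {F₂ B₂ : Type v} [Field F₂] [CommRing B₂] [Algebra F₂ B₂] [Algebra.FiniteType F₂ B₂]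
  (ι₂ : R →+* B₂)
  (d : ℕ) (hd₁ : ringKrullDim B₁ ≤ (d : WithBot ℕ∞)) (hd₂ : ringKrullDim B₂ ≤ (d : WithBot ℕ∞))

/-- one-fibre part of the step, with a prescribed degree -/
theorem step_one {F B : Type u} [Field F] [CommRing B] [Algebra F B] [Algebra.FiniteType F B]
    (ι : R →+* B) (m : ℕ) (c : Fin m → R) (w : R) (hN : 1 ≤ N)
    (h : IsInt F ι (Fin.cons w c : Fin (m + 1) → R))
    (P : MvPolynomial (Fin (m + 1)) F) (hP : P ≠ 0)
    (h0 : aeval (Fin.cons (ι (w ^ N)) (fun i => ι (c i)) : Fin (m + 1) → B) P = 0) :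
    IsInt F ι (fun i : Fin m => c i - (w ^ ((2 + P.totalDegree) ^ ((i : ℕ) + 1))) ^ N) := by
  set up := 2 + P.totalDegree with hup
  set c' : Fin m → R := fun i : Fin m => c i - (w ^ (up ^ ((i : ℕ) + 1))) ^ N with hc'
  have ht := isIntegralElem_of_relation m P hP (ι (w ^ N)) (fun i => ι (c i)) h0
  have hfun : (fun i : Fin m => ι (c i) - ι (w ^ N) ^ ((2 + P.totalDegree) ^ ((i : ℕ) + 1))) =
      fun i => ι (c' i) := by
    funext i
    rw [hc', map_sub, map_pow, map_pow, map_pow, ← pow_mul, ← pow_mul, mul_comm]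
  rw [hfun] at ht
  refine IsInt.of_forall _ c' h (fun s => ?_)
  letI := (aeval (fun s => ι (c' s)) : MvPolynomial (Fin m) F →ₐ[F] B).toRingHom.toAlgebra
  have ht' : IsIntegral (MvPolynomial (Fin m) F) (ι (w ^ N)) := ht
  refine Fin.cases ?_ (fun i => ?_) s
  · rw [Fin.cons_zero]
    show IsIntegral (MvPolynomial (Fin m) F) (ι w)
    rw [map_pow] at ht'
    exact IsIntegral.of_pow (by omega) ht'
  · rw [Fin.cons_succ]
    show IsIntegral (MvPolynomial (Fin m) F) (ι (c i))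
    have h1 : IsIntegral (MvPolynomial (Fin m) F) (ι (c' i)) := isIntegralElem_gen c' i
    have h2 : ι (c i) = ι (c' i) + (ι (w ^ N)) ^ (up ^ ((i : ℕ) + 1)) := by
      rw [hc', map_sub, map_pow, map_pow, map_pow, ← pow_mul, ← pow_mul, mul_comm]
      ring
    rw [h2]
    exact h1.add (ht'.pow _)

include hd₁ hd₂ in
theorem step (m : ℕ) (hm : d ≤ m) (c : Fin m → R) (w : R) (hN : 1 ≤ N)
    (h₁ : IsInt F₁ ι₁ (Fin.cons w c : Fin (m + 1) → R))
    (h₂ : IsInt F₂ ι₂ (Fin.cons w c : Fin (m + 1) → R)) :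
    ∃ e : Fin m → ℕ, IsInt F₁ ι₁ (fun i => c i - (w ^ e i) ^ N) ∧
      IsInt F₂ ι₂ (fun i => c i - (w ^ e i) ^ N) := by
  obtain ⟨P₁, hP₁, hP₁0⟩ := exists_ne_zero_aeval_eq_zero (F := F₁) d (m + 1) hd₁ (by omega)
    (Fin.cons (ι₁ (w ^ N)) (fun i => ι₁ (c i)) : Fin (m + 1) → B₁)
  obtain ⟨P₂, hP₂, hP₂0⟩ := exists_ne_zero_aeval_eq_zero (F := F₂) d (m + 1) hd₂ (by omega)
    (Fin.cons (ι₂ (w ^ N)) (fun i => ι₂ (c i)) : Fin (m + 1) → B₂)
  set D := max P₁.totalDegree P₂.totalDegree with hD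
  set Q₁ := P₁ * X 0 ^ (D - P₁.totalDegree) with hQ₁
  set Q₂ := P₂ * X 0 ^ (D - P₂.totalDegree) with hQ₂
  have hX₁ : (X 0 ^ (D - P₁.totalDegree) : MvPolynomial (Fin (m + 1)) F₁) ≠ 0 :=
    pow_ne_zero _ (X_ne_zero _)
  have hX₂ : (X 0 ^ (D - P₂.totalDegree) : MvPolynomial (Fin (m + 1)) F₂) ≠ 0 :=
    pow_ne_zero _ (X_ne_zero _)
  have hQ₁ne : Q₁ ≠ 0 := mul_ne_zero hP₁ hX₁
  have hQ₂ne : Q₂ ≠ 0 := mul_ne_zero hP₂ hX₂
  have hdeg₁ : Q₁.totalDegree = D := by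
    rw [hQ₁, totalDegree_mul_of_isDomain hP₁ hX₁, totalDegree_X_pow]
    have : P₁.totalDegree ≤ D := le_max_left _ _
    omega
  have hdeg₂ : Q₂.totalDegree = D := by
    rw [hQ₂, totalDegree_mul_of_isDomain hP₂ hX₂, totalDegree_X_pow]
    have : P₂.totalDegree ≤ D := le_max_right _ _
    omega
  have hQ₁0 : aeval (Fin.cons (ι₁ (w ^ N)) (fun i => ι₁ (c i)) : Fin (m + 1) → B₁) Q₁ = 0 := by
    rw [hQ₁, map_mul, hP₁0, zero_mul]
  have hQ₂0 : aeval (Fin.cons (ι₂ (w ^ N)) (fun i => ι₂ (c i)) : Fin (m + 1) → B₂) Q₂ = 0 := by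
    rw [hQ₂, map_mul, hP₂0, zero_mul]
  have r₁ := step_one N ι₁ m c w hN h₁ Q₁ hQ₁ne hQ₁0
  have r₂ := step_one N ι₂ m c w hN h₂ Q₂ hQ₂ne hQ₂0
  rw [hdeg₁] at r₁
  rw [hdeg₂] at r₂
  exact ⟨fun i => (2 + D) ^ ((i : ℕ) + 1), r₁, r₂⟩

end step

end Groth.Agent.Lib.T2H8.RelNN
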