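import Mathlib
import Groth.Agent.Lib.T2H8RelNNB
set_option autoImplicit false
open MvPolynomial

namespace Groth.Agent.Lib.T2H8.RelNN

universe u v

section main

variable {R : Type*} [CommRing R] (N : ℕ) (hN : 1 ≤ N)
  {F₁ B₁ : Type u} [Field F₁] [CommRing B₁] [Algebra F₁ B₁] [Algebra.FiniteType F₁ B₁]
  (ι₁ : R →+* B₁)
  {F₂ B₂ : Type v} [Field F₂] [CommRing B₂] [Algebra F₂ B₂] [Algebra.FiniteType F₂ B₂]
  (ι₂ : R →+* B₂)
  (d : ℕ) (hd₁ : ringKrullDim B₁ ≤ (d : WithBot ℕ∞)) (hd₂ : ringKrullDim B₂ ≤ (d : WithBot ℕ∞))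

theorem pow_mem_closure (r : R) : r ^ N ∈ Subring.closure (Set.range fun r : R => r ^ N) :=
  Subring.subset_closure ⟨r, rfl⟩

include hN hd₁ hd₂ in
theorem main_aux : ∀ (j : ℕ) (x : Fin d → R) (w : Fin j → R),
    IsInt F₁ ι₁ (Sum.elim x w) → IsInt F₂ ι₂ (Sum.elim x w) →
    ∃ y : Fin d → R, (∀ i, y i ∈ Subring.closure (Set.range fun r : R => r ^ N)) ∧
      IsInt F₁ ι₁ (fun i => x i + y i) ∧ IsInt F₂ ι₂ (fun i => x i + y i) := by
  intro j
  induction j with
  | zero =>
    intro x w h₁ h₂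
    refine ⟨fun _ => 0, fun _ => Subring.zero_mem _, ?_, ?_⟩
    · refine IsInt.of_forall _ _ h₁ (fun s => ?_)
      rcases s with i | l
      · have := isIntegralElem_gen (F := F₁) (ι := ι₁) (fun i => x i + 0) i
        simpa using this
      · exact l.elim0
    · refine IsInt.of_forall _ _ h₂ (fun s => ?_)
      rcases s with i | l
      · have := isIntegralElem_gen (F := F₂) (ι := ι₂) (fun i => x i + 0) i
        simpa using this
      · exact l.elim0
  | succ j ih =>
    intro x w h₁ h₂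
    set c : Fin (d + j) → R := fun l => Sum.elim x (Fin.tail w) (finSumFinEquiv.symm l) with hc
    set w₀ := w 0 with hw₀
    have key : ∀ s : Fin d ⊕ Fin (j + 1), ∃ l : Fin (d + j + 1),
        Sum.elim x w s = (Fin.cons w₀ c : Fin (d + j + 1) → R) l := by
      intro s
      rcases s with i | l
      · refine ⟨(finSumFinEquiv (Sum.inl i)).succ, ?_⟩
        rw [Fin.cons_succ, hc]
        simp
      · refine Fin.cases ?_ (fun l' => ?_) l
        · exact ⟨0, by simp [hw₀]⟩
        · refine ⟨(finSumFinEquiv (Sum.inr l')).succ, ?_⟩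
          rw [Fin.cons_succ, hc]
          simp [Fin.tail]
    have g₁ : IsInt F₁ ι₁ (Fin.cons w₀ c : Fin (d + j + 1) → R) := by
      refine IsInt.of_forall _ _ h₁ (fun s => ?_)
      obtain ⟨l, hl⟩ := key s
      rw [hl]
      exact isIntegralElem_gen _ l
    have g₂ : IsInt F₂ ι₂ (Fin.cons w₀ c : Fin (d + j + 1) → R) := by
      refine IsInt.of_forall _ _ h₂ (fun s => ?_)
      obtain ⟨l, hl⟩ := key s
      rw [hl]
      exact isIntegralElem_gen _ l
    obtain ⟨e, s₁, s₂⟩ := step N ι₁ ι₂ d hd₁ hd₂ (d + j) (by omega) c w₀ hN g₁ g₂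
    set x' : Fin d → R := fun i => x i - (w₀ ^ e (finSumFinEquiv (Sum.inl i))) ^ N with hx'
    set w' : Fin j → R := fun l => w l.succ - (w₀ ^ e (finSumFinEquiv (Sum.inr l))) ^ N with hw'
    have key2 : ∀ l : Fin (d + j), c l - (w₀ ^ e l) ^ N = Sum.elim x' w' (finSumFinEquiv.symm l) := by
      intro l
      obtain ⟨s, rfl⟩ := finSumFinEquiv.surjective l
      rw [Equiv.symm_apply_apply, hc]
      rcases s with i | l'
      · simp [hx']
      · simp [hw', Fin.tail]
    have t₁ : IsInt F₁ ι₁ (Sum.elim x' w') := by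
      refine IsInt.of_forall _ _ s₁ (fun l => ?_)
      rw [key2 l]
      exact isIntegralElem_gen _ _
    have t₂ : IsInt F₂ ι₂ (Sum.elim x' w') := by
      refine IsInt.of_forall _ _ s₂ (fun l => ?_)
      rw [key2 l]
      exact isIntegralElem_gen _ _
    obtain ⟨y', hy', u₁, u₂⟩ := ih x' w' t₁ t₂
    refine ⟨fun i => y' i - (w₀ ^ e (finSumFinEquiv (Sum.inl i))) ^ N,
      fun i => Subring.sub_mem _ (hy' i) (pow_mem_closure N _), ?_, ?_⟩
    · have : (fun i => x i + (y' i - (w₀ ^ e (finSumFinEquiv (Sum.inl i))) ^ N)) =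
          fun i => x' i + y' i := by
        funext i
        rw [hx']
        ring
      rw [this]
      exact u₁
    · have : (fun i => x i + (y' i - (w₀ ^ e (finSumFinEquiv (Sum.inl i))) ^ N)) =
          fun i => x' i + y' i := by
        funext i
        rw [hx']
        ring
      rw [this]
      exact u₂

end main

end Groth.Agent.Lib.T2H8.RelNN
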