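import Mathlib
import Groth.Agent.Lib.T2H8RelNNC
set_option autoImplicit false
open MvPolynomial
open scoped TensorProduct

namespace Groth.Agent.Lib.T2H8.RelNN

universe u

section final

variable {V R : Type u} [CommRing V] [CommRing R] [Algebra V R]

theorem isInt_gens (F : Type u) [Field F] [Algebra V F] {s : ℕ} (g : Fin s → R)
    (hg : Algebra.adjoin V (Set.range g) = ⊤) :
    IsInt F (Algebra.TensorProduct.includeRight : R →ₐ[V] F ⊗[V] R).toRingHom g := by
  refine RingHom.isIntegral_of_surjective _ ?_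
  have h1 := Algebra.TensorProduct.adjoin_one_tmul_image_eq_top (A := F) (Set.range g) hg
  have h2 : ((1 : F) ⊗ₜ[V] ·) '' Set.range g =
      Set.range (fun s => (Algebra.TensorProduct.includeRight : R →ₐ[V] F ⊗[V] R).toRingHom (g s)) := by
    rw [← Set.range_comp]
    rfl
  rw [h2, Algebra.adjoin_range_eq_range_aeval] at h1
  exact AlgHom.range_eq_top _ |>.mp h1

theorem finite_of_isInt (F : Type u) [Field F] [Algebra V F] [Algebra.FiniteType V R] {d : ℕ}
    (a : Fin d → R)
    (h : IsInt F (Algebra.TensorProduct.includeRight : R →ₐ[V] F ⊗[V] R).toRingHom a) :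
    (MvPolynomial.aeval (fun i => (1 : F) ⊗ₜ[V] (a i)) :
      MvPolynomial (Fin d) F →ₐ[F] F ⊗[V] R).toRingHom.Finite := by
  refine RingHom.IsIntegral.to_finite h ?_
  refine RingHom.FiniteType.of_comp_finiteType (f := (C : F →+* MvPolynomial (Fin d) F)) ?_
  have : (MvPolynomial.aeval (fun i => (1 : F) ⊗ₜ[V] (a i)) :
      MvPolynomial (Fin d) F →ₐ[F] F ⊗[V] R).toRingHom.comp C = algebraMap F (F ⊗[V] R) := by
    ext c
    simp
  rw [this]
  exact RingHom.finiteType_algebraMap.mpr inferInstance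

theorem main_S14379 (V : Type u) [CommRing V] [IsDomain V]
    [IsDiscreteValuationRing V] (R : Type u) [CommRing R] [Algebra V R] [Module.Flat V R]
    [Algebra.FiniteType V R] (d : ℕ)
    (hs : ringKrullDim (IsLocalRing.ResidueField V ⊗[V] R) ≤ d)
    (hη : ringKrullDim (FractionRing V ⊗[V] R) ≤ d)
    (x : Fin d → R) (N : ℕ) (hN : 1 ≤ N) :
    ∃ y : Fin d → R, (∀ i, y i ∈ Subring.closure (Set.range fun r : R => r ^ N)) ∧
      (MvPolynomial.aeval (fun i => (1 : IsLocalRing.ResidueField V) ⊗ₜ[V] (x i + y i)) :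
          MvPolynomial (Fin d) (IsLocalRing.ResidueField V) →ₐ[IsLocalRing.ResidueField V]
            IsLocalRing.ResidueField V ⊗[V] R).toRingHom.Finite ∧
      (MvPolynomial.aeval (fun i => (1 : FractionRing V) ⊗ₜ[V] (x i + y i)) :
          MvPolynomial (Fin d) (FractionRing V) →ₐ[FractionRing V] FractionRing V ⊗[V] R).toRingHom.Finite := by
  obtain ⟨S, hS⟩ := (Algebra.FiniteType.out : (⊤ : Subalgebra V R).FG)
  classical
  set g : Fin S.card → R := fun i => (S.equivFin.symm i : R) with hg
  have hrange : Set.range g = (S : Set R) := by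
    ext r
    constructor
    · rintro ⟨i, rfl⟩
      exact (S.equivFin.symm i).2
    · intro hr
      exact ⟨S.equivFin ⟨r, hr⟩, by simp [hg]⟩
  have hgtop : Algebra.adjoin V (Set.range g) = ⊤ := by rw [hrange, hS]
  have i₁ := isInt_gens (IsLocalRing.ResidueField V) g hgtop
  have i₂ := isInt_gens (FractionRing V) g hgtop
  have j₁ : IsInt (IsLocalRing.ResidueField V)
      (Algebra.TensorProduct.includeRight : R →ₐ[V] IsLocalRing.ResidueField V ⊗[V] R).toRingHom
      (Sum.elim x g) := by
    refine IsInt.of_forall _ _ i₁ (fun s => ?_)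
    exact isIntegralElem_gen (Sum.elim x g) (Sum.inr s)
  have j₂ : IsInt (FractionRing V)
      (Algebra.TensorProduct.includeRight : R →ₐ[V] FractionRing V ⊗[V] R).toRingHom
      (Sum.elim x g) := by
    refine IsInt.of_forall _ _ i₂ (fun s => ?_)
    exact isIntegralElem_gen (Sum.elim x g) (Sum.inr s)
  obtain ⟨y, hy, k₁, k₂⟩ := main_aux N hN _ _ d hs hη S.card x g j₁ j₂
  exact ⟨y, hy, finite_of_isInt _ _ k₁, finite_of_isInt _ _ k₂⟩

end final

end Groth.Agent.Lib.T2H8.RelNN
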