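import Mathlib
import Groth.Agent.Lib.T2H8RelNND
set_option autoImplicit false
open PrimeSpectrum Topology TensorProduct MvPolynomial

namespace Groth.Agent.Lib.T2H8.WeakNN


/-- finite subcovers for covers by sets open in the constructible topology -/
theorem exists_finite_cover_of_constructible {R : Type*} [CommRing R] {ι : Type*}
    (E : ι → Set (PrimeSpectrum R))
    (hopen : ∀ i, ∀ 𝔭 ∈ E i, ∃ (Q : Finset R) (h : R),
      𝔭 ∈ zeroLocus (↑Q : Set R) ∩ (basicOpen h : Set (PrimeSpectrum R)) ∧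
      zeroLocus (↑Q : Set R) ∩ (basicOpen h : Set (PrimeSpectrum R)) ⊆ E i)
    (hcov : ∀ 𝔭, ∃ i, 𝔭 ∈ E i) : ∃ T : Finset ι, ∀ 𝔭, ∃ i ∈ T, 𝔭 ∈ E i := by
  have hE : ∀ i, IsOpen[constructibleTopology (PrimeSpectrum R)] (E i) := by
    intro i
    refine (@isOpen_iff_forall_mem_open _ (constructibleTopology (PrimeSpectrum R)) _).mpr ?_
    intro x hx
    obtain ⟨Q, h, hmem, hsub⟩ := hopen i x hx
    refine ⟨_, hsub, ?_, hmem⟩
    refine @IsOpen.inter _ (constructibleTopology (PrimeSpectrum R)) _ _ ?_ ?_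
    · refine IsCompact.isOpen_constructibleTopology_of_isClosed ?_ (isClosed_zeroLocus _)
      have : (zeroLocus (↑Q : Set R))ᶜ = ⋃ q ∈ Q, (basicOpen q : Set (PrimeSpectrum R)) := by
        ext 𝔮
        simp only [Set.mem_compl_iff, mem_zeroLocus, Set.not_subset, Finset.mem_coe, Set.mem_iUnion,
          SetLike.mem_coe, mem_basicOpen, exists_prop]
      rw [this]
      exact Q.isCompact_biUnion (fun q _ => isCompact_basicOpen q)
    · exact IsCompact.isOpen_constructibleTopology_of_isOpen (isCompact_basicOpen h)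
        (basicOpen h).isOpen
  haveI : CompactSpace (WithConstructibleTopology (PrimeSpectrum R)) := inferInstance
  set U : ι → Set (WithConstructibleTopology (PrimeSpectrum R)) :=
    fun i => WithTopology.ofTopology ⁻¹' (E i) with hU
  have hUo : ∀ i, IsOpen (U i) := fun i => hE i
  have hUc : (Set.univ : Set (WithConstructibleTopology (PrimeSpectrum R))) ⊆ ⋃ i, U i := by
    intro x _
    obtain ⟨i, hi⟩ := hcov (WithTopology.ofTopology x)
    exact Set.mem_iUnion.mpr ⟨i, hi⟩
  obtain ⟨T, hT⟩ := isCompact_univ.elim_finite_subcover U hUo hUc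
  refine ⟨T, fun 𝔭 => ?_⟩
  have := hT (Set.mem_univ (WithTopology.toTopology (constructibleTopology (PrimeSpectrum R)) 𝔭))
  simp only [Set.mem_iUnion, exists_prop] at this
  obtain ⟨i, hiT, hi⟩ := this
  exact ⟨i, hiT, hi⟩



/-- the kernel of `S → κ(p) ⊗ S` -/
theorem exists_smul_mem_map_of_one_tmul_eq_zero {R S : Type*} [CommRing R] [CommRing S]
    [Algebra R S] (p : Ideal R) [p.IsPrime] (s : S)
    (h : (1 : p.ResidueField) ⊗ₜ[R] s = 0) :
    ∃ u : R, u ∉ p ∧ u • s ∈ Ideal.map (algebraMap R S) p := by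
  letI : Algebra S (p.Fiber S) := Algebra.TensorProduct.rightAlgebra
  have e := Ideal.Fiber.algEquivAux₁ (S := S) p
  have h1 : algebraMap S (p.Fiber S) s = 0 := h
  have h2 := e.commutes s
  rw [h1, map_zero] at h2
  have h3 : algebraMap S (Localization (Algebra.algebraMapSubmonoid S p.primeCompl)) s ∈
      Ideal.map (algebraMap S (Localization (Algebra.algebraMapSubmonoid S p.primeCompl)))
        (Ideal.map (algebraMap R S) p) :=
    Ideal.Quotient.eq_zero_iff_mem.mp h2.symm
  rw [IsLocalization.mem_map_algebraMap_iff (Algebra.algebraMapSubmonoid S p.primeCompl)] at h3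
  obtain ⟨⟨⟨t, ht⟩, ⟨m, hm⟩⟩, h4⟩ := h3
  simp only at h4
  rw [← map_mul, IsLocalization.eq_iff_exists (Algebra.algebraMapSubmonoid S p.primeCompl)] at h4
  obtain ⟨⟨m', hm'⟩, h5⟩ := h4
  simp only at h5
  obtain ⟨u, hu, rfl⟩ := hm
  obtain ⟨u', hu', rfl⟩ := hm'
  refine ⟨u' * u, p.primeCompl.mul_mem hu' hu, ?_⟩
  have : (u' * u) • s = algebraMap R S u' * (s * algebraMap R S u) := by
    rw [Algebra.smul_def, map_mul]
    ring
  rw [this, h5]
  exact Ideal.mul_mem_left _ _ ht



universe u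

section

variable {R S : Type u} [CommRing R] [CommRing S] [Algebra R S]

/-- converse to `exists_smul_mem_map_of_one_tmul_eq_zero` -/
theorem one_tmul_eq_zero_of_smul_mem_map (p : Ideal R) [p.IsPrime] (s : S) (u : R) (hu : u ∉ p)
    (h : u • s ∈ Ideal.map (algebraMap R S) p) : (1 : p.ResidueField) ⊗ₜ[R] s = 0 := by
  have key : ∀ x ∈ Ideal.map (algebraMap R S) p, (1 : p.ResidueField) ⊗ₜ[R] x = 0 := by
    intro x hx
    refine Submodule.span_induction (p := fun x _ => (1 : p.ResidueField) ⊗ₜ[R] x = 0)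
      ?_ ?_ ?_ ?_ hx
    · rintro _ ⟨r, hr, rfl⟩
      rw [Algebra.algebraMap_eq_smul_one, ← TensorProduct.smul_tmul, ← Algebra.algebraMap_eq_smul_one,
        (Ideal.algebraMap_residueField_eq_zero).mpr hr, TensorProduct.zero_tmul]
    · exact TensorProduct.tmul_zero _ _
    · intro x y _ _ hx hy
      rw [TensorProduct.tmul_add, hx, hy, add_zero]
    · intro a x _ hx
      have : (1 : p.ResidueField) ⊗ₜ[R] (a • x) = ((1 : p.ResidueField) ⊗ₜ[R] a) * ((1 : p.ResidueField) ⊗ₜ[R] x) := by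
        rw [Algebra.TensorProduct.tmul_mul_tmul, one_mul, smul_eq_mul]
      rw [this, hx, mul_zero]
  have h1 := key _ h
  rw [TensorProduct.tmul_smul] at h1
  have h2 : algebraMap R p.ResidueField u ≠ 0 := by
    rw [Ne, Ideal.algebraMap_residueField_eq_zero]
    exact hu
  have h3 : (algebraMap R p.ResidueField u) • ((1 : p.ResidueField) ⊗ₜ[R] s) = 0 := by
    rw [algebraMap_smul]
    exact h1
  have h4 : (algebraMap R p.ResidueField u)⁻¹ • ((algebraMap R p.ResidueField u) •
      ((1 : p.ResidueField) ⊗ₜ[R] s)) = 0 := by rw [h3, smul_zero]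
  rwa [smul_smul, inv_mul_cancel₀ h2, one_smul] at h4

end

end Groth.Agent.Lib.T2H8.WeakNN
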