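import Mathlib
import Groth.Agent.Lib.T2H8WeakNNA
set_option autoImplicit false
open PrimeSpectrum Topology TensorProduct MvPolynomial

namespace Groth.Agent.Lib.T2H8.WeakNN

universe u

section

variable {R S : Type u} [CommRing R] [CommRing S] [Algebra R S]

/-- the set of primes where `g` gives a nonzero relation among the `a i` in the fibre -/
def relSet {m : ℕ} (a : Fin m → S) (g : MvPolynomial (Fin m) R) : Set (PrimeSpectrum R) :=
  {𝔭 | MvPolynomial.map (algebraMap R 𝔭.asIdeal.ResidueField) g ≠ 0 ∧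
    (1 : 𝔭.asIdeal.ResidueField) ⊗ₜ[R] (aeval a g) = 0}

theorem relSet_open {m : ℕ} (a : Fin m → S) (g : MvPolynomial (Fin m) R) :
    ∀ 𝔭 ∈ relSet a g, ∃ (Q : Finset R) (h : R),
      𝔭 ∈ zeroLocus (↑Q : Set R) ∩ (basicOpen h : Set (PrimeSpectrum R)) ∧
      zeroLocus (↑Q : Set R) ∩ (basicOpen h : Set (PrimeSpectrum R)) ⊆ relSet a g := by
  classical
  rintro 𝔭 ⟨h1, h2⟩
  obtain ⟨v, hv⟩ : ∃ v, coeff v g ∉ 𝔭.asIdeal := by
    by_contra hcon
    push_neg at hcon
    apply h1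
    ext v
    rw [coeff_map, coeff_zero, Ideal.algebraMap_residueField_eq_zero]
    exact hcon v
  obtain ⟨u, hu, hus⟩ := exists_smul_mem_map_of_one_tmul_eq_zero 𝔭.asIdeal (aeval a g) h2
  rw [Ideal.map] at hus
  obtain ⟨T, hT, husT⟩ := Submodule.mem_span_finite_of_mem_span hus
  obtain ⟨Q, hQ, rfl⟩ := Finset.subset_set_image_iff.mp hT
  refine ⟨Q, u * coeff v g, ⟨?_, ?_⟩, ?_⟩
  · exact hQ
  · exact 𝔭.isPrime.mul_notMem hu hv
  · rintro 𝔭' ⟨hQ', hb⟩
    have hb' : u * coeff v g ∉ 𝔭'.asIdeal := hb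
    have hu' : u ∉ 𝔭'.asIdeal := fun h => hb' (Ideal.mul_mem_right _ _ h)
    have hv' : coeff v g ∉ 𝔭'.asIdeal := fun h => hb' (Ideal.mul_mem_left _ _ h)
    refine ⟨?_, ?_⟩
    · intro h0
      have := congrArg (coeff v) h0
      rw [coeff_map, coeff_zero, Ideal.algebraMap_residueField_eq_zero] at this
      exact hv' this
    · refine one_tmul_eq_zero_of_smul_mem_map 𝔭'.asIdeal _ u hu' ?_
      have hsub : Ideal.span ((Q.image (algebraMap R S) : Finset S) : Set S) ≤
          Ideal.map (algebraMap R S) 𝔭'.asIdeal := by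
        rw [Ideal.span_le]
        intro x hx
        rw [Finset.coe_image] at hx
        obtain ⟨r, hr, rfl⟩ := hx
        exact Ideal.mem_map_of_mem _ (hQ' hr)
      exact hsub husT

end

end Groth.Agent.Lib.T2H8.WeakNN
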