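import Mathlib
import Groth.Agent.Lib.T2H8WeakNNB
set_option autoImplicit false
open PrimeSpectrum Topology TensorProduct MvPolynomial

namespace Groth.Agent.Lib.T2H8.WeakNN

universe u

section

variable {R S : Type u} [CommRing R] [CommRing S] [Algebra R S]

theorem one_tmul_aeval {m : ℕ} (a : Fin m → S) (g : MvPolynomial (Fin m) R) (𝔭 : PrimeSpectrum R) :
    (1 : 𝔭.asIdeal.ResidueField) ⊗ₜ[R] (aeval a g) =
      aeval (fun i => (1 : 𝔭.asIdeal.ResidueField) ⊗ₜ[R] a i)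
        (MvPolynomial.map (algebraMap R 𝔭.asIdeal.ResidueField) g) := by
  rw [aeval_map_algebraMap]
  exact comp_aeval_apply a (Algebra.TensorProduct.includeRight :
    S →ₐ[R] 𝔭.asIdeal.ResidueField ⊗[R] S) g

theorem exists_mem_relSet [Algebra.FiniteType R S] (d : ℕ) (𝔭 : PrimeSpectrum R)
    (hd : ringKrullDim (𝔭.asIdeal.Fiber S) ≤ (d : WithBot ℕ∞)) (m : ℕ) (hm : d < m)
    (a : Fin m → S) : ∃ g, 𝔭 ∈ relSet a g := by
  obtain ⟨P, hP, hP0⟩ := Groth.Agent.Lib.T2H8.RelNN.exists_ne_zero_aeval_eq_zero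
    (F := 𝔭.asIdeal.ResidueField) (B := 𝔭.asIdeal.ResidueField ⊗[R] S) d m hd hm
    (fun i => (1 : 𝔭.asIdeal.ResidueField) ⊗ₜ[R] a i)
  set e := algebraTensorAlgEquiv (σ := Fin m) R 𝔭.asIdeal.ResidueField with he
  obtain ⟨r, hr, g, hg⟩ := Ideal.Fiber.exists_smul_eq_one_tmul 𝔭.asIdeal (e.symm P)
  have hr' : algebraMap R 𝔭.asIdeal.ResidueField r ≠ 0 := by
    rw [Ne, Ideal.algebraMap_residueField_eq_zero]
    exact hr
  have hmap : MvPolynomial.map (algebraMap R 𝔭.asIdeal.ResidueField) g =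
      algebraMap R 𝔭.asIdeal.ResidueField r • P := by
    have := congrArg e hg
    rw [he, algebraTensorAlgEquiv_tmul, one_smul] at this
    rw [← this, ← algebraMap_smul 𝔭.asIdeal.ResidueField r, map_smul, AlgEquiv.apply_symm_apply]
  refine ⟨g, ?_, ?_⟩
  · rw [hmap]
    exact smul_ne_zero hr' hP
  · rw [one_tmul_aeval, hmap, map_smul, hP0, smul_zero]

theorem exists_uniform_relation [Algebra.FiniteType R S] (d : ℕ)
    (hd : ∀ 𝔭 : PrimeSpectrum R, ringKrullDim (𝔭.asIdeal.Fiber S) ≤ (d : WithBot ℕ∞))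
    (m : ℕ) (hm : d < m) (a : Fin m → S) :
    ∃ D : ℕ, ∀ 𝔭 : PrimeSpectrum R, ∃ P : MvPolynomial (Fin m) 𝔭.asIdeal.ResidueField,
      P ≠ 0 ∧ P.totalDegree ≤ D ∧
        aeval (fun i => (1 : 𝔭.asIdeal.ResidueField) ⊗ₜ[R] a i) P = 0 := by
  obtain ⟨T, hT⟩ := exists_finite_cover_of_constructible (fun g => relSet a g) (relSet_open a)
    (fun 𝔭 => exists_mem_relSet d 𝔭 (hd 𝔭) m hm a)
  refine ⟨T.sup MvPolynomial.totalDegree, fun 𝔭 => ?_⟩
  obtain ⟨g, hgT, hg⟩ := hT 𝔭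
  have hg1 : MvPolynomial.map (algebraMap R 𝔭.asIdeal.ResidueField) g ≠ 0 := hg.1
  have hg2 : (1 : 𝔭.asIdeal.ResidueField) ⊗ₜ[R] (aeval a g) = 0 := hg.2
  refine ⟨MvPolynomial.map (algebraMap R 𝔭.asIdeal.ResidueField) g, hg1, ?_, ?_⟩
  · refine le_trans ?_ (Finset.le_sup (f := MvPolynomial.totalDegree) hgT)
    rw [totalDegree, totalDegree]
    exact Finset.sup_mono (support_map_subset _ _)
  · exact (one_tmul_aeval a g 𝔭).symm.trans hg2

end

end Groth.Agent.Lib.T2H8.WeakNN
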