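import Mathlib
import Groth.Agent.Lib.T2H8WeakNNC
import Groth.Agent.Lib.Helper14FTDim
import Groth.Agent.Lib.Helper14LocalDim
import Groth.Agent.Lib.Helper5IntDim
set_option autoImplicit false
open PrimeSpectrum TensorProduct MvPolynomial

namespace Groth.Agent.Lib.T2H8.FibDim

universe u

/-- a finite type domain of dimension `> d` over a field has `d + 1` algebraically independent
elements -/
theorem exists_algebraicIndependent_of_not_dim_le (F E : Type u) [Field F] [CommRing E] [IsDomain E]
    [Algebra F E] [Algebra.FiniteType F E] (d : ℕ) (h : ¬ ringKrullDim E ≤ (d : WithBot ℕ∞)) :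
    ∃ y : Fin (d + 1) → E, AlgebraicIndependent F y := by
  obtain ⟨n, g, hinj, hfin⟩ := exists_finite_inj_algHom_of_fg F E
  letI algBS : Algebra (MvPolynomial (Fin n) F) E := g.toRingHom.toAlgebra
  haveI : Module.Finite (MvPolynomial (Fin n) F) E := hfin
  haveI : Algebra.IsIntegral (MvPolynomial (Fin n) F) E := Algebra.IsIntegral.of_finite _ E
  have hdim : ringKrullDim E = n := by
    rw [Groth.Agent.Lib.Helper5.ringKrullDim_eq_of_isIntegral_of_injective (MvPolynomial (Fin n) F) E hinj]
    rw [MvPolynomial.ringKrullDim_of_isNoetherianRing, ringKrullDim_eq_zero_of_field]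
    simp
  have hn : d + 1 ≤ n := by
    by_contra hcon
    apply h
    rw [hdim]
    have : n ≤ d := by omega
    exact_mod_cast this
  have h1 : AlgebraicIndependent F (fun i : Fin n => g (X i)) := by
    have := (algebraicIndependent_X (Fin n) F).map' (f := g) hinj
    exact this
  exact ⟨fun i => g (X (Fin.castLE hn i)), h1.comp (Fin.castLE hn) (Fin.castLE_injective hn)⟩

/-- scaling by nonzero scalars preserves algebraic independence -/
theorem algebraicIndependent_smul {F E : Type*} [Field F] [CommRing E] [Algebra F E] {ι : Type*}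
    (y : ι → E) (c : ι → F) (hc : ∀ i, c i ≠ 0) (hy : AlgebraicIndependent F y) :
    AlgebraicIndependent F (fun i => c i • y i) := by
  have h1 : (aeval (fun i => c i • y i) : MvPolynomial ι F →ₐ[F] E) =
      (aeval y).comp (aeval (fun i => c i • (X i : MvPolynomial ι F))) := by
    apply MvPolynomial.algHom_ext
    intro i
    simp
  have h2 : Function.Injective (aeval (fun i => c i • (X i : MvPolynomial ι F)) :
      MvPolynomial ι F →ₐ[F] MvPolynomial ι F) := by
    have h3 : ((aeval (fun i => (c i)⁻¹ • (X i : MvPolynomial ι F)) :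
        MvPolynomial ι F →ₐ[F] MvPolynomial ι F)).comp
        (aeval (fun i => c i • (X i : MvPolynomial ι F))) = AlgHom.id F _ := by
      apply MvPolynomial.algHom_ext
      intro i
      simp [smul_smul, hc i]
    intro a b hab
    have := congrArg (aeval (fun i => (c i)⁻¹ • (X i : MvPolynomial ι F)) :
        MvPolynomial ι F →ₐ[F] MvPolynomial ι F) hab
    rw [← AlgHom.comp_apply, ← AlgHom.comp_apply, h3] at this
    exact this
  rw [AlgebraicIndependent, h1, AlgHom.coe_comp]
  exact Function.Injective.comp hy h2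

section

variable {A S : Type u} [CommRing A] [CommRing S] [Algebra A S]

/-- fibre dimension `≤ d` gives algebraic dependence of any `d + 1` elements modulo any prime of
the fibre -/
theorem dep_of_fiberDim_le [Algebra.FiniteType A S] (d : ℕ) (P : PrimeSpectrum A)
    (hd : ringKrullDim (P.asIdeal.Fiber S) ≤ (d : WithBot ℕ∞))
    (𝔮 : Ideal S) [𝔮.IsPrime] (h𝔮 : 𝔮.comap (algebraMap A S) = P.asIdeal) (s : Fin (d + 1) → S) :
    ∃ g : MvPolynomial (Fin (d + 1)) A, (∃ m, coeff m g ∉ P.asIdeal) ∧ aeval s g ∈ 𝔮 := by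
  obtain ⟨g, hg1, hg2⟩ := Groth.Agent.Lib.T2H8.WeakNN.exists_mem_relSet d P hd (d + 1)
    (Nat.lt_succ_self d) s
  refine ⟨g, ?_, ?_⟩
  · by_contra hcon
    push_neg at hcon
    apply hg1
    ext v
    rw [coeff_map, coeff_zero, Ideal.algebraMap_residueField_eq_zero]
    exact hcon v
  · obtain ⟨u, hu, hus⟩ := Groth.Agent.Lib.T2H8.WeakNN.exists_smul_mem_map_of_one_tmul_eq_zero
      P.asIdeal (aeval s g) hg2
    have hle : Ideal.map (algebraMap A S) P.asIdeal ≤ 𝔮 := by
      rw [Ideal.map_le_iff_le_comap, h𝔮]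
    have h1 := hle hus
    rw [Algebra.smul_def] at h1
    rcases Ideal.IsPrime.mem_or_mem inferInstance h1 with h2 | h2
    · exfalso
      apply hu
      rw [← h𝔮]
      exact h2
    · exact h2

/-- converse: algebraic dependence of any `d + 1` elements modulo every prime of the fibre bounds
the fibre dimension -/
theorem fiberDim_le_of_dep [Algebra.FiniteType A S] (d : ℕ) (P : PrimeSpectrum A)
    (h : ∀ (𝔮 : Ideal S) [𝔮.IsPrime], 𝔮.comap (algebraMap A S) = P.asIdeal →
      ∀ s : Fin (d + 1) → S, ∃ g : MvPolynomial (Fin (d + 1)) A,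
        (∃ m, coeff m g ∉ P.asIdeal) ∧ aeval s g ∈ 𝔮) :
    ringKrullDim (P.asIdeal.Fiber S) ≤ (d : WithBot ℕ∞) := by
  rw [ringKrullDim_le_iff_height_le]
  intro Q hQ
  have key := Groth.Agent.Lib.Helper14.LocalDim.height_le_of_forall_minimalPrimes Q (d : ℕ∞) ?_
  · exact_mod_cast key
  intro q hq hqQ
  haveI : q.IsPrime := hq.1.1
  by_contra hcon
  obtain ⟨y, hy⟩ := exists_algebraicIndependent_of_not_dim_le P.asIdeal.ResidueField
    (P.asIdeal.Fiber S ⧸ q) d hcon
  choose b hb using fun i => Ideal.Quotient.mk_surjective (y i)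
  choose r hr s hs using fun i => Ideal.Fiber.exists_smul_eq_one_tmul P.asIdeal (b i)
  set 𝔮 : Ideal S := q.comap
    (Algebra.TensorProduct.includeRight : S →ₐ[A] P.asIdeal.Fiber S).toRingHom with h𝔮def
  haveI : 𝔮.IsPrime := Ideal.comap_isPrime _ q
  have h𝔮 : 𝔮.comap (algebraMap A S) = P.asIdeal := by
    have h1 : q.under A = P.asIdeal := (Ideal.over_def q P.asIdeal).symm
    rw [← h1, h𝔮def, Ideal.comap_comap]
    congr 1
    ext a
    simp
  obtain ⟨g, ⟨m, hm⟩, hg⟩ := h 𝔮 h𝔮 s
  have hc : ∀ i, algebraMap A P.asIdeal.ResidueField (r i) ≠ 0 := by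
    intro i
    rw [Ne, Ideal.algebraMap_residueField_eq_zero]
    exact hr i
  have hy' := algebraicIndependent_smul y (fun i => algebraMap A P.asIdeal.ResidueField (r i)) hc hy
  have hfam : (fun i => algebraMap A P.asIdeal.ResidueField (r i) • y i) =
      fun i => Ideal.Quotient.mk q ((1 : P.asIdeal.ResidueField) ⊗ₜ[A] s i) := by
    funext i
    rw [← hs i, ← hb i, algebraMap_smul]
    rfl
  rw [hfam] at hy'
  have h0 : aeval (fun i => Ideal.Quotient.mk q ((1 : P.asIdeal.ResidueField) ⊗ₜ[A] s i))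
      (MvPolynomial.map (algebraMap A P.asIdeal.ResidueField) g) = 0 := by
    have h1 : (1 : P.asIdeal.ResidueField) ⊗ₜ[A] (aeval s g) ∈ q := hg
    rw [Groth.Agent.Lib.T2H8.WeakNN.one_tmul_aeval] at h1
    have h2 := Ideal.Quotient.eq_zero_iff_mem.mpr h1
    rw [← h2]
    exact (comp_aeval_apply _ (Ideal.Quotient.mkₐ P.asIdeal.ResidueField q) _).symm
  have h3 := (injective_iff_map_eq_zero _).mp hy' _ h0
  apply hm
  rw [← Ideal.algebraMap_residueField_eq_zero, ← coeff_map, h3, coeff_zero]

end

end Groth.Agent.Lib.T2H8.FibDim
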