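import Mathlib
set_option autoImplicit false
open MvPolynomial

namespace Groth.Agent.Lib.T2H8.FibDim

universe u

/-- transcendence degree `> k` gives `k + 1` algebraically independent elements -/
theorem exists_algebraicIndependent_of_not_trdeg_le {B' D : Type u} [CommRing B'] [CommRing D]
    [Algebra B' D] (k : ℕ) (h : ¬ Algebra.trdeg B' D ≤ (k : Cardinal.{u})) :
    ∃ x : Fin (k + 1) → D, AlgebraicIndependent B' x := by
  by_contra hcon
  push_neg at hcon
  apply h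
  rw [Algebra.trdeg]
  refine ciSup_le' fun s => ?_
  by_contra hlt
  rw [not_le] at hlt
  have h1 : ((k + 1 : ℕ) : Cardinal.{u}) ≤ Cardinal.mk s.1 := by
    rw [Nat.cast_succ]
    exact Cardinal.add_one_le_of_lt hlt
  have h2 : Cardinal.lift.{u} (Cardinal.mk (Fin (k + 1))) ≤ Cardinal.lift.{0} (Cardinal.mk s.1) := by
    rw [Cardinal.mk_fin, Cardinal.lift_natCast, Cardinal.lift_id']
    exact h1
  obtain ⟨f⟩ := Cardinal.lift_mk_le'.mp h2
  exact hcon (fun i => ((f i : s.1) : D)) (s.2.comp f f.injective)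

/-- `k + 1` algebraically independent elements force transcendence degree `> k` -/
theorem not_algebraicIndependent_of_trdeg_le {B' D : Type u} [CommRing B'] [Nontrivial B']
    [CommRing D] [Algebra B' D] (k : ℕ) (h : Algebra.trdeg B' D ≤ (k : Cardinal.{u}))
    (x : Fin (k + 1) → D) : ¬ AlgebraicIndependent B' x := by
  intro hx
  have h1 := hx.lift_cardinalMk_le_trdeg
  rw [Cardinal.mk_fin, Cardinal.lift_natCast, Cardinal.lift_id'] at h1
  have h2 := h1.trans h
  rw [Nat.cast_le] at h2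
  omega

section

variable {S : Type u} [CommRing S] (𝔮 : Ideal S)
variable {A : Type*} [CommRing A] (ψ : A →+* S)
variable {B' : Type u} [CommRing B'] [Algebra B' (S ⧸ 𝔮)] (φ : A →+* B')

theorem aeval_mk_map (hφ : ∀ c, algebraMap B' (S ⧸ 𝔮) (φ c) = Ideal.Quotient.mk 𝔮 (ψ c))
    {σ : Type*} (s : σ → S) (g : MvPolynomial σ A) :
    aeval (fun i => Ideal.Quotient.mk 𝔮 (s i)) (MvPolynomial.map φ g) =
      Ideal.Quotient.mk 𝔮 (eval₂ ψ s g) := by
  rw [aeval_def, eval₂_map, eval₂_comp_left]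
  congr 1
  ext c
  exact hφ c

/-- elementwise algebraic dependence modulo `𝔮` bounds the transcendence degree of `S ⧸ 𝔮` over
any ring `B'` receiving the coefficient ring compatibly -/
theorem trdeg_le_of_dep (hφ : ∀ c, algebraMap B' (S ⧸ 𝔮) (φ c) = Ideal.Quotient.mk 𝔮 (ψ c))
    (k : ℕ)
    (h : ∀ s : Fin (k + 1) → S, ∃ g : MvPolynomial (Fin (k + 1)) A,
      (∃ m, ψ (coeff m g) ∉ 𝔮) ∧ eval₂ ψ s g ∈ 𝔮) :
    Algebra.trdeg B' (S ⧸ 𝔮) ≤ (k : Cardinal.{u}) := by
  by_contra hcon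
  obtain ⟨x, hx⟩ := exists_algebraicIndependent_of_not_trdeg_le k hcon
  choose s hs using fun i => Ideal.Quotient.mk_surjective (x i)
  obtain ⟨g, ⟨m, hm⟩, hg⟩ := h s
  have h1 : aeval x (MvPolynomial.map φ g) = 0 := by
    have : x = fun i => Ideal.Quotient.mk 𝔮 (s i) := funext fun i => (hs i).symm
    rw [this, aeval_mk_map 𝔮 ψ φ hφ, Ideal.Quotient.eq_zero_iff_mem]
    exact hg
  have h2 := (injective_iff_map_eq_zero _).mp hx _ h1
  apply hm
  rw [← Ideal.Quotient.eq_zero_iff_mem, ← hφ, ← coeff_map, h2, coeff_zero, map_zero]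

/-- conversely a bound on the transcendence degree gives elementwise algebraic dependence -/
theorem dep_of_trdeg_le [Nontrivial B']
    (hφ : ∀ c, algebraMap B' (S ⧸ 𝔮) (φ c) = Ideal.Quotient.mk 𝔮 (ψ c))
    (hsurj : Function.Surjective φ) (hinj : Function.Injective (algebraMap B' (S ⧸ 𝔮)))
    (k : ℕ) (h : Algebra.trdeg B' (S ⧸ 𝔮) ≤ (k : Cardinal.{u})) (s : Fin (k + 1) → S) :
    ∃ g : MvPolynomial (Fin (k + 1)) A, (∃ m, ψ (coeff m g) ∉ 𝔮) ∧ eval₂ ψ s g ∈ 𝔮 := by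
  have h1 := not_algebraicIndependent_of_trdeg_le k h (fun i => Ideal.Quotient.mk 𝔮 (s i))
  rw [AlgebraicIndependent, injective_iff_map_eq_zero] at h1
  push_neg at h1
  obtain ⟨g', hg'0, hg'⟩ := h1
  obtain ⟨g, rfl⟩ := MvPolynomial.map_surjective φ hsurj g'
  refine ⟨g, ?_, ?_⟩
  · obtain ⟨m, hm⟩ := MvPolynomial.ne_zero_iff.mp hg'
    refine ⟨m, ?_⟩
    rw [coeff_map] at hm
    rw [← Ideal.Quotient.eq_zero_iff_mem, ← hφ]
    intro h0
    exact hm (hinj (h0.trans (map_zero _).symm))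
  · rw [aeval_mk_map 𝔮 ψ φ hφ, Ideal.Quotient.eq_zero_iff_mem] at hg'0
    exact hg'0

end

end Groth.Agent.Lib.T2H8.FibDim
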