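import Mathlib
set_option autoImplicit false

namespace Groth.Agent.Lib.T2H8.FibDim

open Polynomial in
/-- substituting `Y := c - X^n` into a nonzero bivariate polynomial whose `X`-degrees are `< n`
gives a nonzero polynomial -/
theorem eval_sub_pow_ne_zero {Λ : Type*} [CommRing Λ] [IsDomain Λ] (c : Λ) (n : ℕ)
    (G : Polynomial (Polynomial Λ)) (hG : G ≠ 0) (hdeg : ∀ j, (G.coeff j).natDegree < n) :
    G.eval (Polynomial.C c - Polynomial.X ^ n) ≠ 0 := by
  have hn : 0 < n := lt_of_le_of_lt (Nat.zero_le _) (hdeg 0)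
  set q : Polynomial Λ := Polynomial.C c - Polynomial.X ^ n with hq
  have hqdeg : q.natDegree = n := by
    rw [hq, natDegree_sub_eq_right_of_natDegree_lt]
    · exact natDegree_X_pow n
    · rw [natDegree_C, natDegree_X_pow]
      exact hn
  have hq0 : q ≠ 0 := by
    intro h0
    rw [h0, natDegree_zero] at hqdeg
    omega
  set J := G.natDegree with hJ
  have hGJ : G.coeff J ≠ 0 := by
    rw [hJ]
    exact leadingCoeff_ne_zero.mpr hG
  rw [eval_eq_sum_range, Finset.sum_range_succ, ← hJ]
  have h1 : degree (∑ j ∈ Finset.range J, G.coeff j * q ^ j) < ((J * n : ℕ) : WithBot ℕ) := by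
    refine lt_of_le_of_lt (degree_sum_le _ _) ?_
    rw [Finset.sup_lt_iff (WithBot.bot_lt_coe _)]
    intro j hj
    rw [Finset.mem_range] at hj
    refine lt_of_le_of_lt degree_le_natDegree ?_
    rw [Nat.cast_lt]
    refine lt_of_le_of_lt natDegree_mul_le ?_
    have h2 : (q ^ j).natDegree ≤ j * n := by
      refine le_trans natDegree_pow_le ?_
      rw [hqdeg]
    have h3 := hdeg j
    calc (G.coeff j).natDegree + (q ^ j).natDegree < n + j * n := by omega
      _ = (j + 1) * n := by ring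
      _ ≤ J * n := Nat.mul_le_mul_right n hj
  have h2 : ((J * n : ℕ) : WithBot ℕ) ≤ degree (G.coeff J * q ^ J) := by
    rw [degree_eq_natDegree (mul_ne_zero hGJ (pow_ne_zero _ hq0)), Nat.cast_le,
      natDegree_mul hGJ (pow_ne_zero _ hq0), natDegree_pow, hqdeg]
    omega
  intro h0
  have h3 := degree_add_eq_right_of_degree_lt (lt_of_lt_of_le h1 h2)
  rw [h0, degree_zero] at h3
  exact (mul_ne_zero hGJ (pow_ne_zero _ hq0)) (degree_eq_bot.mp h3.symm)

open MvPolynomial in
/-- the substitution map `Y ↦ c - X₀^n` commutes with peeling off two variables -/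
theorem finSuccEquiv_aeval_cons {A₁ : Type*} [CommRing A₁] (k : ℕ) (c : A₁) (n : ℕ)
    (g : MvPolynomial (Fin (k + 2)) A₁) :
    finSuccEquiv A₁ k (aeval (Fin.cons (C c - X 0 ^ n) X :
        Fin (k + 2) → MvPolynomial (Fin (k + 1)) A₁) g) =
      (Polynomial.map (finSuccEquiv A₁ k : MvPolynomial (Fin (k + 1)) A₁ →+* Polynomial (MvPolynomial (Fin k) A₁))
        (finSuccEquiv A₁ (k + 1) g)).eval (Polynomial.C (C c) - Polynomial.X ^ n) := by
  set q : Polynomial (MvPolynomial (Fin k) A₁) := Polynomial.C (C c) - Polynomial.X ^ n with hq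
  have key : ((finSuccEquiv A₁ k : MvPolynomial (Fin (k + 1)) A₁ →+* Polynomial (MvPolynomial (Fin k) A₁))).comp
      ((aeval (Fin.cons (C c - X 0 ^ n) X :
        Fin (k + 2) → MvPolynomial (Fin (k + 1)) A₁) : MvPolynomial (Fin (k + 2)) A₁ →ₐ[A₁] _) :
          MvPolynomial (Fin (k + 2)) A₁ →+* _) =
      ((Polynomial.evalRingHom q).comp (Polynomial.mapRingHom
        (finSuccEquiv A₁ k : MvPolynomial (Fin (k + 1)) A₁ →+* Polynomial (MvPolynomial (Fin k) A₁)))).comp
        ((finSuccEquiv A₁ (k + 1) : MvPolynomial (Fin (k + 2)) A₁ →+* _)) := by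
    apply MvPolynomial.ringHom_ext
    · intro r
      simp [finSuccEquiv_apply]
    · intro i
      refine Fin.cases ?_ (fun j => ?_) i
      · simp [finSuccEquiv_X_zero, hq, finSuccEquiv_apply]
      · simp [finSuccEquiv_X_succ]
  exact congrArg (fun f => f g) key

open MvPolynomial in
/-- the endgame: a relation of degree `< n` cannot vanish at `(c - x₀^n, x)` when `x` is
algebraically independent -/
theorem aeval_cons_sub_pow_ne_zero {A₁ D : Type*} [CommRing A₁] [IsDomain A₁] [CommRing D]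
    [Algebra A₁ D] (k : ℕ) (c : A₁) (x : Fin (k + 1) → D) (hx : AlgebraicIndependent A₁ x) (n : ℕ)
    (g : MvPolynomial (Fin (k + 2)) A₁) (hg : g ≠ 0) (hdeg : g.totalDegree < n) :
    aeval (Fin.cons (algebraMap A₁ D c - x 0 ^ n) x : Fin (k + 2) → D) g ≠ 0 := by
  have fact1 : (aeval (Fin.cons (algebraMap A₁ D c - x 0 ^ n) x : Fin (k + 2) → D) :
      MvPolynomial (Fin (k + 2)) A₁ →ₐ[A₁] D) =
      (aeval x).comp (aeval (Fin.cons (C c - X 0 ^ n) X :
        Fin (k + 2) → MvPolynomial (Fin (k + 1)) A₁)) := by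
    apply MvPolynomial.algHom_ext
    intro i
    refine Fin.cases ?_ (fun j => ?_) i
    · simp
    · simp
  rw [fact1, AlgHom.comp_apply]
  intro h0
  have h1 := (injective_iff_map_eq_zero _).mp hx _ h0
  have h2 := finSuccEquiv_aeval_cons k c n g
  rw [h1, map_zero] at h2
  refine eval_sub_pow_ne_zero (C c) n _ ?_ ?_ h2.symm
  · intro h3
    apply hg
    have h4 : Function.Injective (Polynomial.map
        (finSuccEquiv A₁ k : MvPolynomial (Fin (k + 1)) A₁ →+* Polynomial (MvPolynomial (Fin k) A₁))) :=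
      Polynomial.map_injective (finSuccEquiv A₁ k : MvPolynomial (Fin (k + 1)) A₁ →+* Polynomial (MvPolynomial (Fin k) A₁))
        (finSuccEquiv A₁ k).injective
    have h5 := h4 (h3.trans (Polynomial.map_zero _).symm)
    exact (finSuccEquiv A₁ (k + 1)).injective (h5.trans (map_zero _).symm)
  · intro j
    rw [Polynomial.coeff_map]
    have h6 := natDegree_finSuccEquiv (Polynomial.coeff (finSuccEquiv A₁ (k + 1) g) j)
    have h7 := degreeOf_coeff_finSuccEquiv g (0 : Fin (k + 1)) j
    have h8 := degreeOf_le_totalDegree g (Fin.succ (0 : Fin (k + 1)))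
    calc _ = degreeOf 0 (Polynomial.coeff (finSuccEquiv A₁ (k + 1) g) j) := h6
      _ ≤ _ := h7
      _ ≤ _ := h8
      _ < n := hdeg

end Groth.Agent.Lib.T2H8.FibDim
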