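import Mathlib
import Groth.Agent.Lib.T2H8WeakNNC
set_option autoImplicit false
open PrimeSpectrum Topology TensorProduct MvPolynomial

namespace Groth.Agent.Lib.T2H8.WeakNN

open Groth.Agent.Lib.T2H8.RelNN

universe u

/-- abstract elimination engine -/
theorem engine {R : Type*} [CommRing R] (Good : ∀ {σ : Type}, (σ → R) → Prop)
    (hre : ∀ {σ τ : Type} (a : σ → R) (a' : τ → R), Good a → (∀ s, ∃ l, a s = a' l) → Good a')
    (d : ℕ)
    (hstep : ∀ m, d ≤ m → ∀ (c : Fin m → R) (w : R), Good (Fin.cons w c : Fin (m + 1) → R) →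
      ∃ e : Fin m → ℕ, Good (fun i => c i - w ^ e i)) :
    ∀ (j : ℕ) (x : Fin d → R) (w : Fin j → R), Good (Sum.elim x w) → ∃ y : Fin d → R, Good y := by
  intro j
  induction j with
  | zero =>
    intro x w h
    refine ⟨x, hre _ _ h (fun s => ?_)⟩
    rcases s with i | l
    · exact ⟨i, rfl⟩
    · exact l.elim0
  | succ j ih =>
    intro x w h
    set c : Fin (d + j) → R := fun l => Sum.elim x (Fin.tail w) (finSumFinEquiv.symm l) with hc
    set w₀ := w 0 with hw₀
    have key : ∀ s : Fin d ⊕ Fin (j + 1), ∃ l : Fin (d + j + 1),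
        Sum.elim x w s = (Fin.cons w₀ c : Fin (d + j + 1) → R) l := by
      intro s
      rcases s with i | l
      · refine ⟨(finSumFinEquiv (Sum.inl i)).succ, ?_⟩
        rw [Fin.cons_succ, hc]
        simp
      · refine Fin.cases ?_ (fun l' => ?_) l
        · exact ⟨0, by simp [hw₀]⟩
        · refine ⟨(finSumFinEquiv (Sum.inr l')).succ, ?_⟩
          rw [Fin.cons_succ, hc]
          simp [Fin.tail]
    have g₁ : Good (Fin.cons w₀ c : Fin (d + j + 1) → R) := hre _ _ h key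
    obtain ⟨e, s₁⟩ := hstep (d + j) (by omega) c w₀ g₁
    set x' : Fin d → R := fun i => x i - w₀ ^ e (finSumFinEquiv (Sum.inl i)) with hx'
    set w' : Fin j → R := fun l => w l.succ - w₀ ^ e (finSumFinEquiv (Sum.inr l)) with hw'
    have key2 : ∀ l : Fin (d + j), ∃ s, c l - w₀ ^ e l = Sum.elim x' w' s := by
      intro l
      refine ⟨finSumFinEquiv.symm l, ?_⟩
      obtain ⟨s, rfl⟩ := finSumFinEquiv.surjective l
      rw [Equiv.symm_apply_apply, hc]
      rcases s with i | l'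
      · simp [hx']
      · simp [hw', Fin.tail]
    exact ih x' w' (hre _ _ s₁ key2)

section fibres

variable {R S : Type u} [CommRing R] [CommRing S] [Algebra R S]

/-- fibrewise integrality over the subalgebra generated by a family -/
def Good {σ : Type} (a : σ → S) : Prop :=
  ∀ 𝔭 : PrimeSpectrum R, IsInt 𝔭.asIdeal.ResidueField
    (Algebra.TensorProduct.includeRight : S →ₐ[R] 𝔭.asIdeal.ResidueField ⊗[R] S).toRingHom a

theorem Good.reindex {σ τ : Type} (a : σ → S) (a' : τ → S) (h : Good (R := R) a)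
    (h' : ∀ s, ∃ l, a s = a' l) : Good (R := R) a' := by
  intro 𝔭
  refine IsInt.of_forall _ _ (h 𝔭) (fun s => ?_)
  obtain ⟨l, hl⟩ := h' s
  rw [hl]
  exact isIntegralElem_gen a' l

theorem Good.step [Algebra.FiniteType R S] (d : ℕ)
    (hd : ∀ 𝔭 : PrimeSpectrum R, ringKrullDim (𝔭.asIdeal.Fiber S) ≤ (d : WithBot ℕ∞))
    (m : ℕ) (hm : d ≤ m) (c : Fin m → S) (w : S)
    (h : Good (R := R) (Fin.cons w c : Fin (m + 1) → S)) :
    ∃ e : Fin m → ℕ, Good (R := R) (fun i => c i - w ^ e i) := by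
  obtain ⟨D, hD⟩ := exists_uniform_relation (R := R) d hd (m + 1) (by omega)
    (Fin.cons w c : Fin (m + 1) → S)
  refine ⟨fun i => (2 + D) ^ ((i : ℕ) + 1), fun 𝔭 => ?_⟩
  obtain ⟨P, hP, hdeg, hP0⟩ := hD 𝔭
  set Q := P * X 0 ^ (D - P.totalDegree) with hQ
  have hX : (X 0 ^ (D - P.totalDegree) : MvPolynomial (Fin (m + 1)) 𝔭.asIdeal.ResidueField) ≠ 0 :=
    pow_ne_zero _ (X_ne_zero _)
  have hQne : Q ≠ 0 := mul_ne_zero hP hX
  have hQdeg : Q.totalDegree = D := by
    rw [hQ, totalDegree_mul_of_isDomain hP hX, totalDegree_X_pow]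
    omega
  have hfun : (fun i => (1 : 𝔭.asIdeal.ResidueField) ⊗ₜ[R] (Fin.cons w c : Fin (m + 1) → S) i) =
      (Fin.cons ((Algebra.TensorProduct.includeRight :
          S →ₐ[R] 𝔭.asIdeal.ResidueField ⊗[R] S).toRingHom (w ^ 1))
        (fun i => (Algebra.TensorProduct.includeRight :
          S →ₐ[R] 𝔭.asIdeal.ResidueField ⊗[R] S).toRingHom (c i)) :
        Fin (m + 1) → 𝔭.asIdeal.ResidueField ⊗[R] S) := by
    funext i
    refine Fin.cases ?_ (fun j => ?_) i
    · simp
    · simp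
  have hQ0 : aeval (Fin.cons ((Algebra.TensorProduct.includeRight :
          S →ₐ[R] 𝔭.asIdeal.ResidueField ⊗[R] S).toRingHom (w ^ 1))
        (fun i => (Algebra.TensorProduct.includeRight :
          S →ₐ[R] 𝔭.asIdeal.ResidueField ⊗[R] S).toRingHom (c i)) :
        Fin (m + 1) → 𝔭.asIdeal.ResidueField ⊗[R] S) Q = 0 := by
    rw [← hfun, hQ, map_mul, hP0, zero_mul]
  have := step_one 1 (Algebra.TensorProduct.includeRight :
      S →ₐ[R] 𝔭.asIdeal.ResidueField ⊗[R] S).toRingHom m c w le_rfl (h 𝔭) Q hQne hQ0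
  rw [hQdeg] at this
  simpa only [pow_one] using this

end fibres

end Groth.Agent.Lib.T2H8.WeakNN
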