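import Mathlib
import Groth.Agent.Lib.T2H8WeakNND
set_option autoImplicit false
open PrimeSpectrum Topology TensorProduct MvPolynomial

namespace Groth.Agent.Lib.T2H8.WeakNN

open Groth.Agent.Lib.T2H8.RelNN

universe u

section

variable {R S : Type u} [CommRing R] [CommRing S] [Algebra R S]

/-- the base change of `aeval y` to the residue field at `𝔭` is finite -/
theorem finite_baseChange_of_good [Algebra.FiniteType R S] {d : ℕ} (y : Fin d → S)
    (h : Good (R := R) y) (𝔭 : PrimeSpectrum R) :
    (Algebra.TensorProduct.map (AlgHom.id 𝔭.asIdeal.ResidueField 𝔭.asIdeal.ResidueField)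
      (aeval y : MvPolynomial (Fin d) R →ₐ[R] S)).toRingHom.Finite := by
  set κ := 𝔭.asIdeal.ResidueField with hκ
  set ψ' := Algebra.TensorProduct.map (AlgHom.id κ κ) (aeval y : MvPolynomial (Fin d) R →ₐ[R] S)
    with hψ'
  set e := algebraTensorAlgEquiv (σ := Fin d) R κ with he
  have hcomp : (aeval (fun i => (Algebra.TensorProduct.includeRight : S →ₐ[R] κ ⊗[R] S).toRingHom
      (y i)) : MvPolynomial (Fin d) κ →ₐ[κ] κ ⊗[R] S) = ψ'.comp e.symm.toAlgHom := by
    apply MvPolynomial.algHom_ext
    intro i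
    simp [he, hψ', algebraTensorAlgEquiv_symm_X]
  have hint : ψ'.toRingHom.IsIntegral := by
    have h1 := h 𝔭
    unfold IsInt at h1
    rw [hcomp] at h1
    exact RingHom.IsIntegral.tower_top (e.symm.toAlgHom.toRingHom) ψ'.toRingHom h1
  refine RingHom.IsIntegral.to_finite hint ?_
  refine RingHom.FiniteType.of_comp_finiteType
    (f := (algebraMap κ (κ ⊗[R] MvPolynomial (Fin d) R))) ?_
  have : ψ'.toRingHom.comp (algebraMap κ (κ ⊗[R] MvPolynomial (Fin d) R)) =
      algebraMap κ (κ ⊗[R] S) := by
    ext c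
    simp
  rw [this]
  exact RingHom.finiteType_algebraMap.mpr inferInstance

end

end Groth.Agent.Lib.T2H8.WeakNN
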