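import Mathlib
import Groth.Agent.Lib.T2H8WeakNNE
set_option autoImplicit false
open PrimeSpectrum Topology TensorProduct MvPolynomial

namespace Groth.Agent.Lib.T2H8.WeakNN

open Groth.Agent.Lib.T2H8.RelNN

universe u

section

variable {R S : Type u} [CommRing R] [CommRing S] [Algebra R S]

theorem quasiFinite_of_good [Algebra.FiniteType R S] {d : ℕ} (y : Fin d → S)
    (h : Good (R := R) y) :
    (aeval y : MvPolynomial (Fin d) R →ₐ[R] S).toRingHom.QuasiFinite := by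
  set φ := (aeval y : MvPolynomial (Fin d) R →ₐ[R] S) with hφ
  letI : Algebra (MvPolynomial (Fin d) R) S := φ.toRingHom.toAlgebra
  haveI : IsScalarTower R (MvPolynomial (Fin d) R) S :=
    IsScalarTower.of_algebraMap_eq' (φ.comp_algebraMap).symm
  haveI : Algebra.FiniteType (MvPolynomial (Fin d) R) S :=
    Algebra.FiniteType.of_restrictScalars_finiteType R _ S
  show Algebra.QuasiFinite (MvPolynomial (Fin d) R) S
  rw [Algebra.QuasiFinite.iff_finite_comap_preimage_singleton]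
  intro 𝔓
  set 𝔭 : PrimeSpectrum R := PrimeSpectrum.comap (algebraMap R (MvPolynomial (Fin d) R)) 𝔓 with h𝔭
  set κ := 𝔭.asIdeal.ResidueField with hκ
  set ψ' := Algebra.TensorProduct.map (AlgHom.id κ κ) φ with hψ'
  have hfin : ψ'.toRingHom.Finite := finite_baseChange_of_good y h 𝔭
  have hqf : ψ'.toRingHom.QuasiFinite := RingHom.QuasiFinite.of_finite hfin
  set eS := PrimeSpectrum.preimageEquivFiber R S 𝔭 with heS
  set eA := PrimeSpectrum.preimageEquivFiber R (MvPolynomial (Fin d) R) 𝔭 with heA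
  set 𝔓' : PrimeSpectrum (κ ⊗[R] MvPolynomial (Fin d) R) := eA ⟨𝔓, rfl⟩ with h𝔓'
  have hT : (PrimeSpectrum.comap ψ'.toRingHom ⁻¹' {𝔓'}).Finite :=
    @Algebra.QuasiFinite.finite_comap_preimage_singleton _ _ _ _ ψ'.toRingHom.toAlgebra hqf 𝔓'
  have hcompR : ∀ 𝔔 : PrimeSpectrum S, PrimeSpectrum.comap (algebraMap (MvPolynomial (Fin d) R) S) 𝔔 = 𝔓 →
      PrimeSpectrum.comap (algebraMap R S) 𝔔 = 𝔭 := by
    intro 𝔔 h𝔔
    rw [h𝔭, ← h𝔔, IsScalarTower.algebraMap_eq R (MvPolynomial (Fin d) R) S, PrimeSpectrum.comap_comp]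
    rfl
  have hsq : ψ'.toRingHom.comp (Algebra.TensorProduct.includeRight :
        MvPolynomial (Fin d) R →ₐ[R] κ ⊗[R] MvPolynomial (Fin d) R).toRingHom =
      (Algebra.TensorProduct.includeRight : S →ₐ[R] κ ⊗[R] S).toRingHom.comp φ.toRingHom := by
    refine RingHom.ext (fun x => ?_)
    simp [hψ']
  have hclaim : ∀ (𝔔 : PrimeSpectrum S)
      (h𝔔 : PrimeSpectrum.comap (algebraMap (MvPolynomial (Fin d) R) S) 𝔔 = 𝔓),
      PrimeSpectrum.comap ψ'.toRingHom (eS ⟨𝔔, hcompR 𝔔 h𝔔⟩) = 𝔓' := by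
    intro 𝔔 h𝔔
    apply eA.symm.injective
    rw [h𝔓', Equiv.symm_apply_apply]
    apply Subtype.ext
    rw [heA, PrimeSpectrum.preimageEquivFiber_symm_apply_coe]
    rw [← PrimeSpectrum.comap_comp_apply, hsq, PrimeSpectrum.comap_comp_apply]
    have : PrimeSpectrum.comap (Algebra.TensorProduct.includeRight : S →ₐ[R] κ ⊗[R] S).toRingHom
        (eS ⟨𝔔, hcompR 𝔔 h𝔔⟩) = 𝔔 := by
      have h1 := congrArg Subtype.val (eS.symm_apply_apply ⟨𝔔, hcompR 𝔔 h𝔔⟩)
      rw [heS, PrimeSpectrum.preimageEquivFiber_symm_apply_coe] at h1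
      exact h1
    rw [this]
    exact h𝔔
  rw [← Set.finite_coe_iff]
  haveI : Finite ↥(PrimeSpectrum.comap ψ'.toRingHom ⁻¹' {𝔓'}) := hT.to_subtype
  refine Finite.of_injective
    (fun x : ↥(PrimeSpectrum.comap (algebraMap (MvPolynomial (Fin d) R) S) ⁻¹' {𝔓}) =>
      (⟨eS ⟨x.1, hcompR x.1 x.2⟩, hclaim x.1 x.2⟩ : ↥(PrimeSpectrum.comap ψ'.toRingHom ⁻¹' {𝔓'}))) ?_
  intro x x' hxx
  have h1 := congrArg Subtype.val hxx
  have h2 := eS.injective h1
  exact Subtype.ext (Subtype.mk.inj h2)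

end

end Groth.Agent.Lib.T2H8.WeakNN
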