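import Mathlib
import Groth.Agent.Lib.T2H8WeakNNF
set_option autoImplicit false
open PrimeSpectrum Topology TensorProduct MvPolynomial

namespace Groth.Agent.Lib.T2H8.WeakNN

open Groth.Agent.Lib.T2H8.RelNN

universe u

theorem main_S1362 {R S : Type u} [CommRing R] [CommRing S] [Algebra R S] [Algebra.FiniteType R S]
    (d : ℕ)
    (hd : ⨆ p : PrimeSpectrum R, ringKrullDim (p.asIdeal.Fiber S) = (d : WithBot ℕ∞)) :
    ∃ φ : MvPolynomial (Fin d) R →ₐ[R] S, φ.toRingHom.QuasiFinite := by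
  have hd' : ∀ 𝔭 : PrimeSpectrum R, ringKrullDim (𝔭.asIdeal.Fiber S) ≤ (d : WithBot ℕ∞) := by
    intro 𝔭
    rw [← hd]
    exact le_iSup (fun p : PrimeSpectrum R => ringKrullDim (p.asIdeal.Fiber S)) 𝔭
  obtain ⟨T, hT⟩ := (Algebra.FiniteType.out : (⊤ : Subalgebra R S).FG)
  classical
  set g : Fin T.card → S := fun i => (T.equivFin.symm i : S) with hg
  have hrange : Set.range g = (T : Set S) := by
    ext r
    constructor
    · rintro ⟨i, rfl⟩
      exact (T.equivFin.symm i).2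
    · intro hr
      exact ⟨T.equivFin ⟨r, hr⟩, by simp [hg]⟩
  have hgtop : Algebra.adjoin R (Set.range g) = ⊤ := by rw [hrange, hT]
  have hg1 : Good (R := R) g := fun 𝔭 => isInt_gens 𝔭.asIdeal.ResidueField g hgtop
  have hg2 : Good (R := R) (Sum.elim (fun _ : Fin d => (0 : S)) g) :=
    Good.reindex g _ hg1 (fun s => ⟨Sum.inr s, rfl⟩)
  obtain ⟨y, hy⟩ := engine (R := S) (fun {σ} a => Good (R := R) a)
    (fun a a' h h' => Good.reindex a a' h h') d
    (fun m hm c w h => Good.step d hd' m hm c w h) T.card (fun _ => 0) g hg2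
  exact ⟨aeval y, quasiFinite_of_good y hy⟩

end Groth.Agent.Lib.T2H8.WeakNN
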