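import Mathlib
import Groth.Agent.Lib.T2H8FibDimC
import Groth.Agent.Lib.T2H8WeakNNG
set_option autoImplicit false
open MvPolynomial

namespace Groth.Agent.Lib.T2H8.FibDim

universe u

open Groth.Agent.Lib.T2H8.WeakNN Groth.Agent.Lib.T2H8.RelNN in
/-- variant of `main_S1362` with only an upper bound on the fibre dimensions -/
theorem exists_quasiFinite_of_forall_le {R S : Type u} [CommRing R] [CommRing S] [Algebra R S]
    [Algebra.FiniteType R S] (d : ℕ)
    (hd' : ∀ 𝔭 : PrimeSpectrum R, ringKrullDim (𝔭.asIdeal.Fiber S) ≤ (d : WithBot ℕ∞)) :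
    ∃ φ : MvPolynomial (Fin d) R →ₐ[R] S, φ.toRingHom.QuasiFinite := by
  obtain ⟨T, hT⟩ := (Algebra.FiniteType.out : (⊤ : Subalgebra R S).FG)
  classical
  set g : Fin T.card → S := fun i => (T.equivFin.symm i : S) with hg
  have hrange : Set.range g = (T : Set S) := by
    ext r
    constructor
    · rintro ⟨i, rfl⟩
      exact (T.equivFin.symm i).2
    · intro hr
      exact ⟨T.equivFin ⟨r, hr⟩, by simp [hg]⟩
  have hgtop : Algebra.adjoin R (Set.range g) = ⊤ := by rw [hrange, hT]
  have hg1 : Good (R := R) g := fun 𝔭 => isInt_gens 𝔭.asIdeal.ResidueField g hgtop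
  have hg2 : Good (R := R) (Sum.elim (fun _ : Fin d => (0 : S)) g) :=
    Good.reindex g _ hg1 (fun s => ⟨Sum.inr s, rfl⟩)
  obtain ⟨y, hy⟩ := engine (R := S) (fun {σ} a => Good (R := R) a)
    (fun a a' h h' => Good.reindex a a' h h') d
    (fun m hm c w h => Good.step d hd' m hm c w h) T.card (fun _ => 0) g hg2
  exact ⟨aeval y, quasiFinite_of_good y hy⟩

/-- the core: if `D` is algebraic over `A₀[a, t₁..t_d]` and `(c - a^n, a, t)` satisfy a nonzero
relation of degree `< n` over `A₀`, then `D` has transcendence degree `≤ d` over any subalgebra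
`A₁` containing `c` -/
theorem trdeg_le_of_relation {A₀ D : Type u} [CommRing A₀] [IsDomain A₀] [CommRing D]
    [IsDomain D] [Algebra A₀ D] (hinj : Function.Injective (algebraMap A₀ D)) (d n : ℕ)
    (A₁ : Subalgebra A₀ D) (c : D) (hc : c ∈ A₁)
    (a : D) (t : Fin d → D)
    (halg : Algebra.IsAlgebraic (Algebra.adjoin A₀ (insert a (Set.range t))) D)
    (g : MvPolynomial (Fin (d + 2)) A₀) (hg : g ≠ 0) (hdeg : g.totalDegree < n)
    (hg0 : aeval (Fin.cons (c - a ^ n) (Fin.cons a t) : Fin (d + 2) → D) g = 0) :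
    Algebra.trdeg A₁ D ≤ (d : Cardinal.{u}) := by
  -- `D` is algebraic over `A₁[x]`
  have hle : Algebra.adjoin A₀ (insert a (Set.range t)) ≤
      (Algebra.adjoin A₁ (Set.range (Fin.cons a t : Fin (d + 1) → D))).restrictScalars A₀ := by
    have hm : ∀ j, (Fin.cons a t : Fin (d + 1) → D) j ∈
        Algebra.adjoin A₁ (Set.range (Fin.cons a t : Fin (d + 1) → D)) :=
      fun j => Algebra.subset_adjoin ⟨j, rfl⟩
    refine Algebra.adjoin_le ?_
    intro y hy
    rcases hy with rfl | ⟨i, rfl⟩
    · have := hm 0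
      rw [Fin.cons_zero] at this
      exact this
    · have := hm i.succ
      rw [Fin.cons_succ] at this
      exact this
  letI : Algebra (Algebra.adjoin A₀ (insert a (Set.range t)))
      (Algebra.adjoin A₁ (Set.range (Fin.cons a t : Fin (d + 1) → D))) :=
    (Subalgebra.inclusion hle).toAlgebra
  haveI : IsScalarTower (Algebra.adjoin A₀ (insert a (Set.range t)))
      (Algebra.adjoin A₁ (Set.range (Fin.cons a t : Fin (d + 1) → D))) D :=
    .of_algebraMap_eq fun _ => rfl
  haveI halg1 : Algebra.IsAlgebraic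
      (Algebra.adjoin A₁ (Set.range (Fin.cons a t : Fin (d + 1) → D))) D :=
    .extendScalars (Subalgebra.inclusion_injective hle)
  by_contra hcon
  rw [not_le] at hcon
  have h1 : Cardinal.lift.{u} (Cardinal.mk (Fin (d + 1))) ≤
      Cardinal.lift.{0} (Algebra.trdeg A₁ D) := by
    rw [Cardinal.mk_fin, Cardinal.lift_natCast, Cardinal.lift_id', Nat.cast_succ]
    exact Cardinal.add_one_le_of_lt hcon
  have hxB := Algebra.IsAlgebraic.isTranscendenceBasis_of_lift_le_trdeg_of_finite A₁
    (Fin.cons a t : Fin (d + 1) → D) h1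
  have hxI : AlgebraicIndependent A₁ (Fin.cons a t : Fin (d + 1) → D) := hxB.1
  have hinj1 : Function.Injective (algebraMap A₀ A₁) := by
    intro r r' hrr
    apply hinj
    have := congrArg (algebraMap A₁ D) hrr
    rwa [← IsScalarTower.algebraMap_apply, ← IsScalarTower.algebraMap_apply] at this
  have hg1 : MvPolynomial.map (algebraMap A₀ A₁) g ≠ 0 := by
    intro h0
    exact hg (MvPolynomial.map_injective _ hinj1 (h0.trans (map_zero _).symm))
  have hdeg1 : (MvPolynomial.map (algebraMap A₀ A₁) g).totalDegree < n := by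
    refine lt_of_le_of_lt ?_ hdeg
    rw [totalDegree, totalDegree]
    exact Finset.sup_mono (support_map_subset _ _)
  have key := aeval_cons_sub_pow_ne_zero d (⟨c, hc⟩ : A₁) (Fin.cons a t : Fin (d + 1) → D) hxI n
    (MvPolynomial.map (algebraMap A₀ A₁) g) hg1 hdeg1
  apply key
  rw [aeval_map_algebraMap]
  exact hg0

end Groth.Agent.Lib.T2H8.FibDim
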