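import Mathlib
import Groth.Agent.Lib.T2H8FibDimA
import Groth.Agent.Lib.T2H8FibDimB
import Groth.Agent.Lib.T2H8FibDimD
set_option autoImplicit false
open MvPolynomial

namespace Groth.Agent.Lib.T2H8.FibDim

universe u

section prime

variable {R S : Type u} [CommRing R] [CommRing S] [Algebra R S] (𝔮 : Ideal S)

theorem algebraMap_quotient_mk (r : R) :
    algebraMap (R ⧸ 𝔮.comap (algebraMap R S)) (S ⧸ 𝔮) (Ideal.Quotient.mk _ r) =
      Ideal.Quotient.mk 𝔮 (algebraMap R S r) := rfl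

/-- the image of `R[X]` under `X ↦ e` lands in `A₀[ē]` -/
theorem mk_aeval_mem_adjoin (e : S) (c : Polynomial R) :
    Ideal.Quotient.mk 𝔮 (Polynomial.aeval e c) ∈
      Algebra.adjoin (R ⧸ 𝔮.comap (algebraMap R S)) {Ideal.Quotient.mk 𝔮 e} := by
  induction c using Polynomial.induction_on' with
  | add p q hp hq =>
    rw [map_add, map_add]
    exact Subalgebra.add_mem _ hp hq
  | monomial n r =>
    have h1 : Ideal.Quotient.mk 𝔮 (algebraMap R S r) ∈
        Algebra.adjoin (R ⧸ 𝔮.comap (algebraMap R S)) {Ideal.Quotient.mk 𝔮 e} :=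
      Subalgebra.algebraMap_mem (Algebra.adjoin (R ⧸ 𝔮.comap (algebraMap R S))
        {Ideal.Quotient.mk 𝔮 e}) (Ideal.Quotient.mk _ r)
    have h2 : Ideal.Quotient.mk 𝔮 (Polynomial.aeval e (Polynomial.monomial n r)) =
        Ideal.Quotient.mk 𝔮 (algebraMap R S r) * (Ideal.Quotient.mk 𝔮 e) ^ n := by
      rw [Polynomial.aeval_monomial, RingHom.map_mul, RingHom.map_pow]
    rw [h2]
    exact Subalgebra.mul_mem _ h1 (Subalgebra.pow_mem _ (Algebra.self_mem_adjoin_singleton _ _) n)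

/-- and is all of `A₀[ē]` -/
theorem exists_mk_aeval_eq (e : S) (β : S ⧸ 𝔮)
    (hβ : β ∈ Algebra.adjoin (R ⧸ 𝔮.comap (algebraMap R S)) {Ideal.Quotient.mk 𝔮 e}) :
    ∃ c : Polynomial R, Ideal.Quotient.mk 𝔮 (Polynomial.aeval e c) = β := by
  induction hβ using Algebra.adjoin_induction with
  | mem x hx =>
    rw [Set.mem_singleton_iff] at hx
    exact ⟨Polynomial.X, by rw [Polynomial.aeval_X, hx]⟩
  | algebraMap r =>
    obtain ⟨r, rfl⟩ := Ideal.Quotient.mk_surjective r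
    exact ⟨Polynomial.C r, by rw [Polynomial.aeval_C, algebraMap_quotient_mk]⟩
  | add x y _ _ hx hy =>
    obtain ⟨c, rfl⟩ := hx
    obtain ⟨c', rfl⟩ := hy
    exact ⟨c + c', by rw [map_add, map_add]⟩
  | mul x y _ _ hx hy =>
    obtain ⟨c, rfl⟩ := hx
    obtain ⟨c', rfl⟩ := hy
    exact ⟨c * c', by rw [map_mul, map_mul]⟩

/-- the comparison ring hom `R[X] → A₀[ē]` -/
noncomputable def polyHom (e : S) :
    Polynomial R →+* Algebra.adjoin (R ⧸ 𝔮.comap (algebraMap R S)) {Ideal.Quotient.mk 𝔮 e} :=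
  RingHom.codRestrict ((Ideal.Quotient.mk 𝔮).comp
      ((Polynomial.aeval e : Polynomial R →ₐ[R] S) : Polynomial R →+* S))
    (Algebra.adjoin (R ⧸ 𝔮.comap (algebraMap R S)) {Ideal.Quotient.mk 𝔮 e})
    (mk_aeval_mem_adjoin 𝔮 e)

theorem polyHom_apply (e : S) (c : Polynomial R) :
    algebraMap (Algebra.adjoin (R ⧸ 𝔮.comap (algebraMap R S)) {Ideal.Quotient.mk 𝔮 e}) (S ⧸ 𝔮)
      (polyHom 𝔮 e c) = Ideal.Quotient.mk 𝔮
        (((Polynomial.aeval e : Polynomial R →ₐ[R] S) : Polynomial R →+* S) c) :=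
  rfl

theorem polyHom_surjective (e : S) : Function.Surjective (polyHom (R := R) 𝔮 e) := by
  rintro ⟨β, hβ⟩
  obtain ⟨c, hc⟩ := exists_mk_aeval_eq 𝔮 e β hβ
  exact ⟨c, Subtype.ext hc⟩

/-- a bound on the transcendence degree over `A₀[ē]` gives elementwise dependence over `R[X]`
(acting through `X ↦ e`) -/
theorem dep_of_trdeg_adjoin_le [𝔮.IsPrime] (e : S) (k : ℕ)
    (h : Algebra.trdeg (Algebra.adjoin (R ⧸ 𝔮.comap (algebraMap R S)) {Ideal.Quotient.mk 𝔮 e})
      (S ⧸ 𝔮) ≤ (k : Cardinal.{u})) (s : Fin (k + 1) → S) :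
    ∃ g : MvPolynomial (Fin (k + 1)) (Polynomial R),
      (∃ m, ((Polynomial.aeval e : Polynomial R →ₐ[R] S) : Polynomial R →+* S) (coeff m g) ∉ 𝔮) ∧
      eval₂ ((Polynomial.aeval e : Polynomial R →ₐ[R] S) : Polynomial R →+* S) s g ∈ 𝔮 :=
  dep_of_trdeg_le 𝔮 _ (polyHom 𝔮 e) (polyHom_apply 𝔮 e) (polyHom_surjective 𝔮 e)
    Subtype.val_injective k h s

/-- a bound on the transcendence degree over `A₀` gives elementwise dependence over `R` -/
theorem dep_of_trdeg_quotient_le [𝔮.IsPrime] (k : ℕ)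
    (h : Algebra.trdeg (R ⧸ 𝔮.comap (algebraMap R S)) (S ⧸ 𝔮) ≤ (k : Cardinal.{u}))
    (s : Fin (k + 1) → S) :
    ∃ g : MvPolynomial (Fin (k + 1)) R,
      (∃ m, algebraMap R S (coeff m g) ∉ 𝔮) ∧ eval₂ (algebraMap R S) s g ∈ 𝔮 :=
  dep_of_trdeg_le 𝔮 (algebraMap R S) (Ideal.Quotient.mk (𝔮.comap (algebraMap R S)))
    (fun _ => rfl) Ideal.Quotient.mk_surjective Ideal.algebraMap_quotient_injective k h s

open Groth.Agent.Lib.T2H8.WeakNN in
/-- a relation in the fibre over `𝔮 ∩ R` gives a relation in `S ⧸ 𝔮` over `A₀` -/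
theorem relation_of_mem_relSet [𝔮.IsPrime] {m : ℕ} (z : Fin m → S) (g : MvPolynomial (Fin m) R)
    (h : (⟨𝔮.comap (algebraMap R S), inferInstance⟩ : PrimeSpectrum R) ∈ relSet z g) :
    MvPolynomial.map (Ideal.Quotient.mk (𝔮.comap (algebraMap R S))) g ≠ 0 ∧
      aeval (fun i => Ideal.Quotient.mk 𝔮 (z i))
        (MvPolynomial.map (Ideal.Quotient.mk (𝔮.comap (algebraMap R S))) g) = 0 := by
  obtain ⟨h1, h2⟩ := h
  constructor
  · intro h0
    apply h1
    have : algebraMap R (𝔮.comap (algebraMap R S)).ResidueField =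
        (algebraMap (R ⧸ 𝔮.comap (algebraMap R S)) (𝔮.comap (algebraMap R S)).ResidueField).comp
          (Ideal.Quotient.mk (𝔮.comap (algebraMap R S))) :=
      IsScalarTower.algebraMap_eq R (R ⧸ 𝔮.comap (algebraMap R S)) _
    show MvPolynomial.map (algebraMap R (𝔮.comap (algebraMap R S)).ResidueField) g = 0
    rw [this, ← MvPolynomial.map_map, h0, map_zero]
  · rw [aeval_mk_map 𝔮 (algebraMap R S) (Ideal.Quotient.mk (𝔮.comap (algebraMap R S)))
      (fun _ => rfl), Ideal.Quotient.eq_zero_iff_mem]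
    obtain ⟨u, hu, hus⟩ := exists_smul_mem_map_of_one_tmul_eq_zero
      (𝔮.comap (algebraMap R S)) (aeval z g) h2
    have hle : Ideal.map (algebraMap R S) (𝔮.comap (algebraMap R S)) ≤ 𝔮 :=
      Ideal.map_comap_le
    have h3 := hle hus
    rw [Algebra.smul_def] at h3
    rcases Ideal.IsPrime.mem_or_mem inferInstance h3 with h4 | h4
    · exact absurd h4 hu
    · exact h4

/-- quasi-finiteness of `R[X][T₁..T_d] → S` makes `S ⧸ 𝔮` algebraic over `A₀[ā, t̄]` -/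
theorem isAlgebraic_of_quasiFinite [Algebra.FiniteType R S] [𝔮.IsPrime] (a : S) (d : ℕ)
    (ψ : MvPolynomial (Fin d) (Polynomial R) →+* S)
    (hψC : ∀ c : Polynomial R, ψ (C c) = Polynomial.aeval a c) (hψ : ψ.QuasiFinite) :
    Algebra.IsAlgebraic (Algebra.adjoin (R ⧸ 𝔮.comap (algebraMap R S))
      (insert (Ideal.Quotient.mk 𝔮 a) (Set.range fun i => Ideal.Quotient.mk 𝔮 (ψ (X i))))) (S ⧸ 𝔮) := by
  letI algA : Algebra (MvPolynomial (Fin d) (Polynomial R)) S := ψ.toAlgebra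
  haveI : Algebra.QuasiFinite (MvPolynomial (Fin d) (Polynomial R)) S := hψ
  haveI : IsScalarTower R (MvPolynomial (Fin d) (Polynomial R)) S := by
    refine IsScalarTower.of_algebraMap_eq fun r => ?_
    show algebraMap R S r = ψ (algebraMap R (MvPolynomial (Fin d) (Polynomial R)) r)
    rw [MvPolynomial.algebraMap_apply, hψC, Polynomial.algebraMap_apply, Polynomial.aeval_C]
    rfl
  haveI : Algebra.FiniteType (MvPolynomial (Fin d) (Polynomial R)) S :=
    .of_restrictScalars_finiteType R _ S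
  set Ω := Algebra.adjoin (R ⧸ 𝔮.comap (algebraMap R S))
      (insert (Ideal.Quotient.mk 𝔮 a) (Set.range fun i => Ideal.Quotient.mk 𝔮 (ψ (X i)))) with hΩ
  have hmem : ∀ c, ((Ideal.Quotient.mk 𝔮).comp ψ) c ∈ Ω := by
    intro c
    induction c using MvPolynomial.induction_on with
    | C c' =>
      show Ideal.Quotient.mk 𝔮 (ψ (C c')) ∈ Ω
      rw [hψC]
      refine Algebra.adjoin_mono ?_ (mk_aeval_mem_adjoin 𝔮 a c')
      intro y hy
      rw [Set.mem_singleton_iff] at hy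
      exact Or.inl hy
    | add p q hp hq =>
      rw [map_add]
      exact Subalgebra.add_mem _ hp hq
    | mul_X p i hp =>
      rw [map_mul]
      refine Subalgebra.mul_mem _ hp (Algebra.subset_adjoin (Set.mem_insert_of_mem _ ⟨i, rfl⟩))
  set φ' : MvPolynomial (Fin d) (Polynomial R) →+* Ω :=
    RingHom.codRestrict ((Ideal.Quotient.mk 𝔮).comp ψ) Ω hmem with hφ'
  have h0 : Algebra.trdeg Ω (S ⧸ 𝔮) ≤ ((0 : ℕ) : Cardinal.{u}) := by
    refine trdeg_le_of_dep 𝔮 ψ φ' (fun _ => rfl) 0 (fun s => ?_)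
    have hdim : ringKrullDim ((⟨𝔮.comap ψ, inferInstance⟩ : PrimeSpectrum
        (MvPolynomial (Fin d) (Polynomial R))).asIdeal.Fiber S) ≤ ((0 : ℕ) : WithBot ℕ∞) := by
      rw [← Ring.krullDimLE_iff]
      infer_instance
    obtain ⟨g, ⟨m, hm⟩, hg⟩ := dep_of_fiberDim_le 0 ⟨𝔮.comap ψ, inferInstance⟩ hdim 𝔮 rfl s
    exact ⟨g, ⟨m, hm⟩, hg⟩
  rw [Nat.cast_zero, nonpos_iff_eq_zero, trdeg_eq_zero_iff] at h0
  exact h0

end prime

section main

open Groth.Agent.Lib.T2H8.WeakNN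

variable {R S : Type u} [CommRing R] [CommRing S] [Algebra R S]

theorem card_insert_range_le {D : Type u} (x : D) (d : ℕ) (t : Fin d → D) :
    Cardinal.mk (insert x (Set.range t) : Set D) ≤ ((d + 1 : ℕ) : Cardinal.{u}) := by
  refine Cardinal.mk_insert_le.trans ?_
  rw [Nat.cast_succ]
  gcongr
  have := Cardinal.mk_range_le_lift (f := t)
  rw [Cardinal.lift_id', Cardinal.mk_fin, Cardinal.lift_natCast] at this
  exact this

open Polynomial in
theorem main_S1430 [Algebra.FiniteType R S] (d : ℕ) (a b : S)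
    (ha : ∀ P : PrimeSpectrum R[X],
      letI := (Polynomial.aeval (R := R) a).toRingHom.toAlgebra
      ringKrullDim (P.asIdeal.Fiber S) ≤ d) :
    ∃ n₀ : ℕ, ∀ n ≥ n₀, ∀ P : PrimeSpectrum R[X],
      letI := (Polynomial.aeval (R := R) (a ^ n + b)).toRingHom.toAlgebra
      ringKrullDim (P.asIdeal.Fiber S) ≤ d := by
  -- Step A: a quasi-finite map from `R[X][T₁..T_d]`
  obtain ⟨ψ, hψC, hψ⟩ : ∃ ψ : MvPolynomial (Fin d) R[X] →+* S,
      (∀ c : R[X], ψ (MvPolynomial.C c) = Polynomial.aeval a c) ∧ ψ.QuasiFinite := by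
    letI alg : Algebra R[X] S := (Polynomial.aeval (R := R) a).toRingHom.toAlgebra
    haveI : IsScalarTower R R[X] S := by
      refine IsScalarTower.of_algebraMap_eq fun r => ?_
      show algebraMap R S r = Polynomial.aeval a (algebraMap R R[X] r)
      rw [Polynomial.algebraMap_apply, Polynomial.aeval_C]
      rfl
    haveI : Algebra.FiniteType R[X] S := .of_restrictScalars_finiteType R _ S
    obtain ⟨φ, hφ⟩ := exists_quasiFinite_of_forall_le d ha
    exact ⟨φ.toRingHom, fun c => φ.commutes c, hφ⟩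
  have halg : ∀ (𝔮 : Ideal S) [𝔮.IsPrime], Algebra.IsAlgebraic
      (Algebra.adjoin (R ⧸ 𝔮.comap (algebraMap R S)) (insert (Ideal.Quotient.mk 𝔮 a)
        (Set.range fun i => Ideal.Quotient.mk 𝔮 (ψ (MvPolynomial.X i))))) (S ⧸ 𝔮) :=
    fun 𝔮 _ => isAlgebraic_of_quasiFinite 𝔮 a d ψ hψC hψ
  -- Step C: the fibres of `R → S` have dimension `≤ d + 1`
  have hdimR : ∀ 𝔭 : PrimeSpectrum R,
      ringKrullDim (𝔭.asIdeal.Fiber S) ≤ ((d + 1 : ℕ) : WithBot ℕ∞) := by
    intro 𝔭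
    refine fiberDim_le_of_dep (d + 1) 𝔭 (fun 𝔮 _ h𝔮 s => ?_)
    haveI := halg 𝔮
    have htr : Algebra.trdeg (R ⧸ 𝔮.comap (algebraMap R S)) (S ⧸ 𝔮) ≤
        ((d + 1 : ℕ) : Cardinal.{u}) :=
      (Algebra.IsAlgebraic.trdeg_le_cardinalMk (R ⧸ 𝔮.comap (algebraMap R S))
        (insert (Ideal.Quotient.mk 𝔮 a)
          (Set.range fun i => Ideal.Quotient.mk 𝔮 (ψ (MvPolynomial.X i))))).trans
        (card_insert_range_le _ d _)
    obtain ⟨g, ⟨m, hm⟩, hg⟩ := dep_of_trdeg_quotient_le 𝔮 (d + 1) htr s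
    refine ⟨g, ⟨m, ?_⟩, ?_⟩
    · rw [← h𝔮]
      exact hm
    · rw [MvPolynomial.aeval_def]
      exact hg
  -- Step D: uniform relations among `(b, a, t)`
  set z : Fin (d + 2) → S := Fin.cons b (Fin.cons a (fun i => ψ (MvPolynomial.X i))) with hz
  obtain ⟨𝒯, h𝒯⟩ := exists_finite_cover_of_constructible (fun g => relSet z g) (relSet_open z)
    (fun 𝔭 => exists_mem_relSet (d + 1) 𝔭 (hdimR 𝔭) (d + 2) (by omega) z)
  refine ⟨𝒯.sup MvPolynomial.totalDegree + 1, fun n hn P => ?_⟩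
  -- Step E
  letI alg : Algebra R[X] S := (Polynomial.aeval (R := R) (a ^ n + b)).toRingHom.toAlgebra
  haveI : IsScalarTower R R[X] S := by
    refine IsScalarTower.of_algebraMap_eq fun r => ?_
    show algebraMap R S r = Polynomial.aeval (a ^ n + b) (algebraMap R R[X] r)
    rw [Polynomial.algebraMap_apply, Polynomial.aeval_C]
    rfl
  haveI : Algebra.FiniteType R[X] S := .of_restrictScalars_finiteType R _ S
  refine fiberDim_le_of_dep d P (fun 𝔮 _ h𝔮 s => ?_)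
  obtain ⟨g, hg𝒯, hg⟩ := h𝒯 ⟨𝔮.comap (algebraMap R S), inferInstance⟩
  obtain ⟨hg1, hg2⟩ := relation_of_mem_relSet 𝔮 z g hg
  have htr : Algebra.trdeg (Algebra.adjoin (R ⧸ 𝔮.comap (algebraMap R S))
      {Ideal.Quotient.mk 𝔮 (a ^ n + b)}) (S ⧸ 𝔮) ≤ (d : Cardinal.{u}) := by
    refine trdeg_le_of_relation Ideal.algebraMap_quotient_injective d n _
      (Ideal.Quotient.mk 𝔮 (a ^ n + b)) (Algebra.self_mem_adjoin_singleton _ _)
      (Ideal.Quotient.mk 𝔮 a) (fun i => Ideal.Quotient.mk 𝔮 (ψ (MvPolynomial.X i))) (halg 𝔮)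
      (MvPolynomial.map (Ideal.Quotient.mk (𝔮.comap (algebraMap R S))) g) hg1 ?_ ?_
    · have h1 : g.totalDegree ≤ 𝒯.sup MvPolynomial.totalDegree :=
        Finset.le_sup (f := MvPolynomial.totalDegree) hg𝒯
      have h2 : (MvPolynomial.map (Ideal.Quotient.mk (𝔮.comap (algebraMap R S))) g).totalDegree ≤
          g.totalDegree := by
        rw [MvPolynomial.totalDegree, MvPolynomial.totalDegree]
        exact Finset.sup_mono (MvPolynomial.support_map_subset _ _)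
      omega
    · have hfam : (Fin.cons (Ideal.Quotient.mk 𝔮 (a ^ n + b) - Ideal.Quotient.mk 𝔮 a ^ n)
          (Fin.cons (Ideal.Quotient.mk 𝔮 a)
            (fun i => Ideal.Quotient.mk 𝔮 (ψ (MvPolynomial.X i)))) : Fin (d + 2) → S ⧸ 𝔮) =
          fun i => Ideal.Quotient.mk 𝔮 (z i) := by
        funext i
        refine Fin.cases ?_ (fun j => ?_) i
        · simp [hz]
        · refine Fin.cases ?_ (fun k => ?_) j
          · simp [hz]
          · simp [hz]
      rw [hfam]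
      exact hg2
  obtain ⟨g', ⟨m, hm⟩, hg'⟩ := dep_of_trdeg_adjoin_le 𝔮 (a ^ n + b) d htr s
  refine ⟨g', ⟨m, ?_⟩, hg'⟩
  rw [← h𝔮]
  exact hm

end main

end Groth.Agent.Lib.T2H8.FibDim
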