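import Mathlib
import Groth.Prelude.Def_EtCore
import Groth.Agent.Lib.T2H8DescCoreAb
import Groth.Agent.Lib.T2H8SepClosedSections
import Groth.Agent.Lib.T2H8IntBC

set_option autoImplicit false
universe u
open CategoryTheory CategoryTheory.Limits AlgebraicGeometry Opposite

namespace Groth.Agent.Lib.T2H8FibreConstAb

open Groth.Agent.Lib.Helper16.StalkPull Groth.Agent.S0101 Groth.Agent.Lib.Helper16.SmallEtale
open Groth.Agent.Lib.T2H8StalkFiniteCore Groth.Agent.Lib.T2H8FiniteBC Groth.Agent.S0100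
open Groth.Agent.Lib.T2H8AgreeAb Groth.Agent.Lib.T2H8DescCoreAb

section Rel

variable {Z : Scheme.{u}}

lemma agree_symm (G : EtCoh.Ab Z) {V : Z.Etale} (a b : G.obj.obj (op V)) (v : V.left)
    (h : v ∈ agree G a b) : v ∈ agree G b a := by
  obtain ⟨W, g, w, hw, hg⟩ := h
  exact ⟨W, g, w, hw, hg.symm⟩

lemma agree_trans (G : EtCoh.Ab Z) {V : Z.Etale} (a b c : G.obj.obj (op V)) (v : V.left)
    (h₁ : v ∈ agree G a b) (h₂ : v ∈ agree G b c) : v ∈ agree G a c := by
  obtain ⟨Ω, _, _, ξ, x₀, hx₀⟩ := Groth.Agent.Lib.T2H8StalkAlgClosed.exists_geometric_point V v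
  subst hx₀
  have k1 := mem_agree_iff_germ G a b ξ x₀
  have k2 := mem_agree_iff_germ G b c ξ x₀
  have k3 := mem_agree_iff_germ G a c ξ x₀
  exact k3.mpr ((k1.mp h₁).trans (k2.mp h₂))

end Rel

section Discrete

variable (k : Type u) [Field k] [IsSepClosed k]

/-- every subset of an etale scheme over a separably closed field is open. -/
lemma isOpen_of_etale_over_sepClosed (U : (Spec (CommRingCat.of k)).Etale) (D : Set U.left) :
    IsOpen D := by
  rw [isOpen_iff_forall_mem_open]
  intro x hx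
  obtain ⟨σ, hσ⟩ := Groth.Agent.Lib.T2H8.SepClosedSections.exists_section k U x
  haveI : Etale σ.left := inferInstanceAs (Etale σ.left)
  refine ⟨Set.range σ.left, ?_, σ.left.isOpenMap.isOpen_range,
    ⟨(default : ↥(Spec (CommRingCat.of k))), hσ⟩⟩
  rintro _ ⟨p, rfl⟩
  have : p = (default : ↥(Spec (CommRingCat.of k))) :=
    Subsingleton.elim (α := ↥(Spec (CommRingCat.of k))) _ _
  rw [this]
  exact hσ ▸ hx

end Discrete


section Closed

variable {Ω : Type u} [Field Ω] [IsSepClosed Ω] {Z : Scheme.{u}}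
  (g : Z ⟶ Spec (CommRingCat.of Ω))

set_option backward.isDefEq.respectTransparency.types false in
/-- for a scheme over a separably closed field, agreement loci of sections of a sheaf pulled back
from the base field are closed. -/
lemma isClosed_agree_pull (G : EtCoh.Ab (Spec (CommRingCat.of Ω))) {V : Z.Etale}
    (a b : ((EtCoh.pull g).obj G).obj.obj (op V)) :
    IsClosed (agree ((EtCoh.pull g).obj G) a b) := by
  rw [← isOpen_compl_iff, isOpen_iff_forall_mem_open]
  intro v hv
  obtain ⟨Ω', _, _, ξ, x₀, hx₀⟩ := Groth.Agent.Lib.T2H8StalkAlgClosed.exists_geometric_point V v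
  subst hx₀
  let M := (EtCoh.pull g).obj G
  let Φ' := Scheme.pointSmallEtale ξ
  let Φ := Scheme.pointSmallEtale (ξ ≫ g)
  obtain ⟨W, wb, τa, τb, hτa, hτb⟩ := Φ.toPresheafFiber_jointly_surjective₂ (P := G.obj)
     ((stalkPullIso g ξ).inv.app G (Φ'.toPresheafFiber V x₀ M.obj a))
     ((stalkPullIso g ξ).inv.app G (Φ'.toPresheafFiber V x₀ M.obj b))
  have ga := Groth.Agent.Lib.T2H8IntBC.stalkPull_germ g ξ G W wb τa
  have gb := Groth.Agent.Lib.T2H8IntBC.stalkPull_germ g ξ G W wb τb
  have ia : (stalkPullIso g ξ).hom.app G ((stalkPullIso g ξ).inv.app G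
      (Φ'.toPresheafFiber V x₀ M.obj a)) = Φ'.toPresheafFiber V x₀ M.obj a :=
    ConcreteCategory.congr_hom ((stalkPullIso g ξ).inv_hom_id_app G) _
  have ib : (stalkPullIso g ξ).hom.app G ((stalkPullIso g ξ).inv.app G
      (Φ'.toPresheafFiber V x₀ M.obj b)) = Φ'.toPresheafFiber V x₀ M.obj b :=
    ConcreteCategory.congr_hom ((stalkPullIso g ξ).inv_hom_id_app G) _
  let y₀ := liftPt g ξ (ξ ≫ g) rfl W wb
  have Ea : Φ'.toPresheafFiber ((EtCoh.bc g).obj W) y₀ M.obj
      (((EtCoh.pullPushAdj g).unit.app G).hom.app (op W) τa) = Φ'.toPresheafFiber V x₀ M.obj a :=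
    ga.symm.trans ((congrArg ((stalkPullIso g ξ).hom.app G) hτa).trans ia)
  have Eb : Φ'.toPresheafFiber ((EtCoh.bc g).obj W) y₀ M.obj
      (((EtCoh.pullPushAdj g).unit.app G).hom.app (op W) τb) = Φ'.toPresheafFiber V x₀ M.obj b :=
    gb.symm.trans ((congrArg ((stalkPullIso g ξ).hom.app G) hτb).trans ib)
  obtain ⟨m, ⟨p₁⟩, ⟨p₂⟩⟩ : ∃ m : Φ'.fiber.Elements,
      Nonempty (m ⟶ ⟨(EtCoh.bc g).obj W, y₀⟩) ∧ Nonempty (m ⟶ ⟨V, x₀⟩) :=
    ⟨IsCofiltered.min _ _, ⟨IsCofiltered.minToLeft _ _⟩, ⟨IsCofiltered.minToRight _ _⟩⟩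
  obtain ⟨N, n⟩ := m
  obtain ⟨p₁, hp₁⟩ := p₁
  obtain ⟨p₂, hp₂⟩ := p₂
  have hp₁' : Φ'.fiber.map p₁ n = y₀ := hp₁
  have hp₂' : Φ'.fiber.map p₂ n = x₀ := hp₂
  have hA : (n.left : Spec (CommRingCat.of Ω') ⟶ N.left) (default : Spec (CommRingCat.of Ω')) ∈
      agree M (M.obj.map p₂.op a)
        (M.obj.map p₁.op (((EtCoh.pullPushAdj g).unit.app G).hom.app (op W) τa)) := by
    apply (mem_agree_iff_germ M _ _ ξ n).mpr
    have e1 := Φ'.toPresheafFiber_w_apply p₂ n M.obj a
    have e2 := Φ'.toPresheafFiber_w_apply p₁ n M.obj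
      (((EtCoh.pullPushAdj g).unit.app G).hom.app (op W) τa)
    rw [hp₂'] at e1
    rw [hp₁'] at e2
    exact e1.trans (Ea.symm.trans e2.symm)
  have hB : (n.left : Spec (CommRingCat.of Ω') ⟶ N.left) (default : Spec (CommRingCat.of Ω')) ∈
      agree M (M.obj.map p₂.op b)
        (M.obj.map p₁.op (((EtCoh.pullPushAdj g).unit.app G).hom.app (op W) τb)) := by
    apply (mem_agree_iff_germ M _ _ ξ n).mpr
    have e1 := Φ'.toPresheafFiber_w_apply p₂ n M.obj b
    have e2 := Φ'.toPresheafFiber_w_apply p₁ n M.obj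
      (((EtCoh.pullPushAdj g).unit.app G).hom.app (op W) τb)
    rw [hp₂'] at e1
    rw [hp₁'] at e2
    exact e1.trans (Eb.symm.trans e2.symm)
  -- the key equivalences
  have k1 : ∀ n' : N.left, n' ∈ agree M (M.obj.map p₂.op a) (M.obj.map p₂.op b) ↔
      p₂.left n' ∈ agree M a b := fun n' => mem_agree_map_iff M p₂ a b n'
  have k2 : ∀ n' : N.left,
      n' ∈ agree M (M.obj.map p₁.op (((EtCoh.pullPushAdj g).unit.app G).hom.app (op W) τa))
        (M.obj.map p₁.op (((EtCoh.pullPushAdj g).unit.app G).hom.app (op W) τb)) ↔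
      (pullback.fst W.hom g) (p₁.left n') ∈ agree G τa τb := fun n' =>
    (mem_agree_map_iff M p₁ _ _ n').trans (mem_agree_pull_iff g G τa τb (p₁.left n'))
  have hpv : p₂.left ((n.left : Spec (CommRingCat.of Ω') ⟶ N.left)
      (default : Spec (CommRingCat.of Ω'))) =
      (x₀.left : Spec (CommRingCat.of Ω') ⟶ V.left) (default : Spec (CommRingCat.of Ω')) := by
    have e3 : n.left ≫ p₂.left = x₀.left := congrArg (fun m => m.left) hp₂'
    rw [← e3]
    rfl
  haveI : Etale p₂.left := inferInstanceAs (Etale p₂.left)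
  haveI : Etale p₁.left := inferInstanceAs (Etale p₁.left)
  have hDopen : IsOpen ((agree G τa τb)ᶜ) := isOpen_of_etale_over_sepClosed Ω W _
  have hcont : Continuous (fun n' : N.left => (pullback.fst W.hom g) (p₁.left n')) :=
    (pullback.fst W.hom g).continuous.comp p₁.left.continuous
  let O : Set N.left :=
    (agree M (M.obj.map p₂.op a)
        (M.obj.map p₁.op (((EtCoh.pullPushAdj g).unit.app G).hom.app (op W) τa)) ∩
      agree M (M.obj.map p₂.op b)
        (M.obj.map p₁.op (((EtCoh.pullPushAdj g).unit.app G).hom.app (op W) τb))) ∩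
      (fun n' : N.left => (pullback.fst W.hom g) (p₁.left n')) ⁻¹' ((agree G τa τb)ᶜ)
  have hO : IsOpen O :=
    ((isOpen_agree M _ _).inter (isOpen_agree M _ _)).inter (hDopen.preimage hcont)
  refine ⟨p₂.left '' O, ?_, p₂.left.isOpenMap _ hO, ?_⟩
  · rintro _ ⟨n', ⟨⟨h1, h2⟩, h3⟩, rfl⟩ hmem
    apply h3
    apply (k2 n').mp
    have h4 := (k1 n').mpr hmem
    exact agree_trans M _ _ _ n' (agree_symm M _ _ n' h1) (agree_trans M _ _ _ n' h4 h2)
  · refine ⟨_, ⟨⟨hA, hB⟩, ?_⟩, hpv⟩
    intro hD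
    apply hv
    rw [← hpv]
    apply (k1 _).mp
    have h4 := (k2 _).mpr hD
    exact agree_trans M _ _ _ _ hA (agree_trans M _ _ _ _ h4 (agree_symm M _ _ _ hB))

end Closed


section Fibre

set_option backward.isDefEq.respectTransparency.types false in
/-- two points with the same image are the images of two geometric points with the same image. -/
lemma exists_geometric_pair {T B : Scheme.{u}} (π : T ⟶ B) (y z : T) (h : π y = π z) :
    ∃ (Ω : Type u) (_ : Field Ω) (_ : IsAlgClosed Ω) (yb zb : Spec (CommRingCat.of Ω) ⟶ T),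
      yb ≫ π = zb ≫ π ∧ yb (default : Spec (CommRingCat.of Ω)) = y ∧
        zb (default : Spec (CommRingCat.of Ω)) = z := by
  obtain ⟨w₀, hw₁, hw₂⟩ := Scheme.Pullback.exists_preimage_pullback (f := π) (g := π) y z h
  let Ω := AlgebraicClosure ((pullback π π).residueField w₀)
  let l : Spec (CommRingCat.of Ω) ⟶ pullback π π :=
    Spec.map (CommRingCat.ofHom (algebraMap ((pullback π π).residueField w₀) Ω)) ≫
      (pullback π π).fromSpecResidueField w₀
  have hl : l (default : Spec (CommRingCat.of Ω)) = w₀ := by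
    dsimp only [l]
    rw [Scheme.Hom.comp_apply]
    exact Scheme.fromSpecResidueField_apply _ _
  refine ⟨Ω, inferInstance, inferInstance, l ≫ pullback.fst π π, l ≫ pullback.snd π π, ?_, ?_, ?_⟩
  · exact (Category.assoc _ _ _).trans ((l ≫= pullback.condition).trans (Category.assoc _ _ _).symm)
  · rw [Scheme.Hom.comp_apply, hl, hw₁]
  · rw [Scheme.Hom.comp_apply, hl, hw₂]

variable {X S : Scheme.{u}} (f : X ⟶ S)

set_option backward.isDefEq.respectTransparency.types false in
/-- agreement loci on a geometric fibre are clopen. -/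
lemma isClopen_agree_fibre {Ω : Type u} [Field Ω] [IsSepClosed Ω]
    (xb : Spec (CommRingCat.of Ω) ⟶ S) (F : EtCoh.Ab S) {V : (pullback f xb).Etale}
    (A B : ((EtCoh.pull (pullback.fst f xb)).obj ((EtCoh.pull f).obj F)).obj.obj (op V)) :
    IsClopen (agree ((EtCoh.pull (pullback.fst f xb)).obj ((EtCoh.pull f).obj F)) A B) := by
  refine ⟨?_, isOpen_agree _ A B⟩
  let Ψ : (EtCoh.pull (pullback.fst f xb)).obj ((EtCoh.pull f).obj F) ≅
      (EtCoh.pull (pullback.snd f xb)).obj ((EtCoh.pull xb).obj F) :=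
    ((EtCore.pullComp (pullback.fst f xb) f).symm ≪≫ EtCore.pullCongr pullback.condition ≪≫
      EtCore.pullComp (pullback.snd f xb) xb).app F
  rw [← agree_eq_of_iso Ψ A B]
  exact isClosed_agree_pull (pullback.snd f xb) ((EtCoh.pull xb).obj F) _ _

end Fibre


section Sat

variable {X S : Scheme.{u}} (f : X ⟶ S)

set_option backward.isDefEq.respectTransparency.types false in
/-- agreement loci of sections of `f^* F` over `U ×_S X` are saturated for the projection to `U`
when the geometric fibres of `f` are connected. -/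
theorem agree_saturated
    (hc : ∀ (Ω : Type u) [Field Ω] [IsAlgClosed Ω] (s : Spec (CommRingCat.of Ω) ⟶ S),
      ConnectedSpace ↥(pullback f s))
    (F : EtCoh.Ab S) (U : S.Etale)
    (a b : ((EtCoh.pull f).obj F).obj.obj (op ((EtCoh.bc f).obj U)))
    (y z : ((EtCoh.bc f).obj U).left)
    (hyz : (pullback.fst U.hom f) y = (pullback.fst U.hom f) z)
    (hy : y ∈ agree ((EtCoh.pull f).obj F) a b) : z ∈ agree ((EtCoh.pull f).obj F) a b := by
  obtain ⟨Ω, _, _, yb, zb, hπ, hyb, hzb⟩ := exists_geometric_pair (pullback.fst U.hom f) y z hyz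
  subst hyb hzb
  let ub : Spec (CommRingCat.of Ω) ⟶ U.left := yb ≫ pullback.fst U.hom f
  let xb : Spec (CommRingCat.of Ω) ⟶ S := ub ≫ U.hom
  haveI : ConnectedSpace ↥(pullback f xb) := hc Ω xb
  let F' := (EtCoh.pull f).obj F
  -- the map j
  have hjc : (pullback.snd f xb ≫ ub) ≫ U.hom = pullback.fst f xb ≫ f :=
    (Category.assoc _ _ _).trans pullback.condition.symm
  let j : pullback f xb ⟶ pullback U.hom f := pullback.lift (pullback.snd f xb ≫ ub)
    (pullback.fst f xb) hjc
  have hj₁ : j ≫ pullback.fst U.hom f = pullback.snd f xb ≫ ub := pullback.lift_fst _ _ _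
  have hj₂ : j ≫ pullback.snd U.hom f = pullback.fst f xb := pullback.lift_snd _ _ _
  -- the section of `V := (U ×_S X) ×_X Y` defined by `j`
  have hsc : j ≫ ((EtCoh.bc f).obj U).hom = 𝟙 _ ≫ pullback.fst f xb :=
    hj₂.trans (Category.id_comp _).symm
  let sj : pullback f xb ⟶ ((EtCoh.bc (pullback.fst f xb)).obj ((EtCoh.bc f).obj U)).left :=
    pullback.lift j (𝟙 _) hsc
  have hsj : sj ≫ pullback.fst ((EtCoh.bc f).obj U).hom (pullback.fst f xb) = j :=
    pullback.lift_fst _ _ _
  have hcl := isClopen_agree_fibre f xb F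
    (((EtCoh.pullPushAdj (pullback.fst f xb)).unit.app F').hom.app (op ((EtCoh.bc f).obj U)) a)
    (((EtCoh.pullPushAdj (pullback.fst f xb)).unit.app F').hom.app (op ((EtCoh.bc f).obj U)) b)
  have hEY := hcl.preimage sj.continuous
  have hmem : ∀ p : ↥(pullback f xb),
      p ∈ sj ⁻¹' (agree ((EtCoh.pull (pullback.fst f xb)).obj F')
        (((EtCoh.pullPushAdj (pullback.fst f xb)).unit.app F').hom.app (op ((EtCoh.bc f).obj U)) a)
        (((EtCoh.pullPushAdj (pullback.fst f xb)).unit.app F').hom.app (op ((EtCoh.bc f).obj U)) b)) ↔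
      j p ∈ agree F' a b := by
    intro p
    have k := mem_agree_pull_iff (pullback.fst f xb) F' a b (sj p)
    have e : (pullback.fst ((EtCoh.bc f).obj U).hom (pullback.fst f xb)) (sj p) = j p :=
      congrArg (fun m : pullback f xb ⟶ pullback U.hom f => m p) hsj
    rw [e] at k
    exact k
  -- the geometric points of the fibre
  have hyc : (yb ≫ pullback.snd U.hom f) ≫ f = 𝟙 _ ≫ xb :=
    (Category.assoc _ _ _).trans ((yb ≫= pullback.condition.symm).trans
      ((Category.assoc _ _ _).symm.trans (Category.id_comp _).symm))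
  have hzc : (zb ≫ pullback.snd U.hom f) ≫ f = 𝟙 _ ≫ xb :=
    (Category.assoc _ _ _).trans ((zb ≫= pullback.condition.symm).trans
      ((Category.assoc _ _ _).symm.trans ((hπ.symm =≫ U.hom).trans (Category.id_comp _).symm)))
  let yt : Spec (CommRingCat.of Ω) ⟶ pullback f xb :=
    pullback.lift (yb ≫ pullback.snd U.hom f) (𝟙 _) hyc
  let zt : Spec (CommRingCat.of Ω) ⟶ pullback f xb :=
    pullback.lift (zb ≫ pullback.snd U.hom f) (𝟙 _) hzc
  have hyt : yt ≫ j = yb := by
    apply pullback.hom_ext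
    · rw [Category.assoc, hj₁, ← Category.assoc, pullback.lift_snd, Category.id_comp]
    · rw [Category.assoc, hj₂, pullback.lift_fst]
  have hzt : zt ≫ j = zb := by
    apply pullback.hom_ext
    · rw [Category.assoc, hj₁, ← Category.assoc, pullback.lift_snd, Category.id_comp]
      exact hπ
    · rw [Category.assoc, hj₂, pullback.lift_fst]
  have hy' := (hmem (yt (default : Spec (CommRingCat.of Ω)))).mpr (by
    rw [← Scheme.Hom.comp_apply, hyt]
    exact hy)
  rcases isClopen_iff.mp hEY with h0 | h1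
  · rw [h0] at hy'
    exact hy'.elim
  · have h2 := (hmem (zt (default : Spec (CommRingCat.of Ω)))).mp (by
      rw [h1]
      trivial)
    rwa [← Scheme.Hom.comp_apply, hzt] at h2

end Sat


section Main

variable {X S : Scheme.{u}} (f : X ⟶ S)

set_option backward.isDefEq.respectTransparency.types false in
lemma quotient_fst_of_univ
    (hsub : ∀ (S' : Scheme.{u}) (g : S' ⟶ S), Topology.IsQuotientMap (pullback.snd f g).base)
    (U : S.Etale) : Topology.IsQuotientMap (pullback.fst U.hom f) := by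
  have h1 := hsub U.left U.hom
  have e : pullback.fst U.hom f = (pullbackSymmetry U.hom f).hom ≫ pullback.snd f U.hom :=
    (pullbackSymmetry_hom_comp_snd U.hom f).symm
  rw [e]
  have h2 : Topology.IsQuotientMap ((pullbackSymmetry U.hom f).hom) :=
    (Scheme.homeoOfIso (pullbackSymmetry U.hom f)).isQuotientMap
  exact h1.comp h2

set_option backward.isDefEq.respectTransparency.types false in
/-- for a universally submersive morphism with connected geometric fibres, global sections of an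
abelian sheaf and of its pullback agree. -/
theorem sections_pull_bijective
    (hsub : ∀ (S' : Scheme.{u}) (g : S' ⟶ S), Topology.IsQuotientMap (pullback.snd f g).base)
    (hc : ∀ (Ω : Type u) [Field Ω] [IsAlgClosed Ω] (s : Spec (CommRingCat.of Ω) ⟶ S),
      ConnectedSpace ↥(pullback f s))
    (F : EtCoh.Ab S) :
    Function.Bijective (((EtCoh.pullPushAdj f).unit.app F).hom.app (op (EtCoh.top S))) := by
  have hq : ∀ U : S.Etale, Topology.IsQuotientMap (pullback.fst U.hom f) :=
    fun U => quotient_fst_of_univ f hsub U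
  refine ⟨unit_injective f hq F (EtCoh.top S), ?_⟩
  intro σ
  exact exists_descent f hq F (EtCoh.top S) σ
    (fun U h t y z hyz hy => agree_saturated f hc F U _ _ y z hyz hy)

end Main

end Groth.Agent.Lib.T2H8FibreConstAb
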