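import Mathlib
import Groth.Prelude.Def_W4c1hilbchowincPtFun
import Groth.Prelude.Def_HTop2
import Groth.Agent.Lib.T2H8NormalPtFun
import Groth.Agent.Lib.T2H8SubInt
import Groth.Agent.Lib.T2H8ComplDVR
import Groth.Agent.Lib.Helper11SN
import Groth.Agent.S7420

/-!
# Descent of sections along proper surjective morphisms to seminormal schemes (helper8)
-/

set_option autoImplicit false
set_option linter.style.haveILetI false

universe u

namespace Groth.Agent.Lib.T2H8.FibreDesc

open AlgebraicGeometry CategoryTheory Limits W4c1hilbchowinc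
open Groth.Agent.Lib.T2H8.NormalPtFun Groth.Agent.Lib.T2H8.SubInt Groth.Agent.Lib.T2H8.ComplDVR

/-- A section equalized by the two projections of `Y ×_X Y` has the same pullback along any two
morphisms to `Y` which agree over `X`. -/
theorem appTop_eq_of_comp_eq {X Y W : Scheme.{u}} (π : Y ⟶ X) (s : Γ(Y, ⊤))
    (hs : (pullback.fst π π).appTop s = (pullback.snd π π).appTop s) (a₁ a₂ : W ⟶ Y)
    (h : a₁ ≫ π = a₂ ≫ π) : a₁.appTop s = a₂.appTop s := by
  calc a₁.appTop s = (pullback.lift a₁ a₂ h ≫ pullback.fst π π).appTop s := by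
        rw [pullback.lift_fst]
    _ = (pullback.lift a₁ a₂ h).appTop ((pullback.fst π π).appTop s) := by
        rw [Scheme.Hom.comp_appTop]; rfl
    _ = (pullback.lift a₁ a₂ h).appTop ((pullback.snd π π).appTop s) := by rw [hs]
    _ = (pullback.lift a₁ a₂ h ≫ pullback.snd π π).appTop s := by
        rw [Scheme.Hom.comp_appTop]; rfl
    _ = a₂.appTop s := by rw [pullback.lift_snd]

/-- The pullback of a global section to the spectrum of a residue field is its value. -/
theorem fromSpecResidueField_appTop (X : Scheme.{u}) (x : X) :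
    (X.fromSpecResidueField x).appTop =
      X.Γevaluation x ≫ (Scheme.ΓSpecIso (X.residueField x)).inv := by
  have h1 : X.fromSpecResidueField x ≫ X.toSpecΓ = Spec.map (X.Γevaluation x) := by
    unfold Scheme.fromSpecResidueField
    rw [Category.assoc, Scheme.fromSpecStalk_toSpecΓ, ← Spec.map_comp]
    rfl
  rw [Scheme.toSpecΓ_naturality, ← SpecMap_ΓSpecIso_hom, ← Spec.map_comp] at h1
  have h2 := Spec.map_injective h1
  rw [← h2, Category.assoc, Iso.hom_inv_id, Category.comp_id]

theorem fromSpecResidueField_appTop_apply (X : Scheme.{u}) (x : X) (t : Γ(X, ⊤)) :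
    (X.fromSpecResidueField x).appTop t = sec (X.residueField x) (X.Γevaluation x t) := by
  rw [fromSpecResidueField_appTop]
  rfl

theorem appTop_SpecMap_comp_fromSpecResidueField {Y : Scheme.{u}} (y : Y) {T : Type u}
    [CommRing T] (i : Y.residueField y →+* T) (s : Γ(Y, ⊤)) :
    (Spec.map (CommRingCat.ofHom i) ≫ Y.fromSpecResidueField y).appTop s =
      sec T (i (Y.Γevaluation y s)) := by
  rw [Scheme.Hom.comp_appTop]
  show (Spec.map (CommRingCat.ofHom i)).appTop ((Y.fromSpecResidueField y).appTop s) = _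
  rw [fromSpecResidueField_appTop_apply]
  exact appTop_sec i _

open scoped TensorProduct in
/-- **Fibrewise descent.** The value at `y` of a section equalized by the two projections of
`Y ×_X Y` comes from the residue field of the image point. -/
theorem exists_residueFieldMap_eq {X Y : Scheme.{u}} (π : Y ⟶ X) (s : Γ(Y, ⊤))
    (hs : (pullback.fst π π).appTop s = (pullback.snd π π).appTop s) (y : Y) :
    ∃ e : X.residueField (π y), π.residueFieldMap y e = Y.Γevaluation y s := by
  letI : Algebra (X.residueField (π y)) (Y.residueField y) :=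
    (π.residueFieldMap y).hom.toAlgebra
  let T : Type u := Y.residueField y ⊗[X.residueField (π y)] Y.residueField y
  let i₁ : Y.residueField y →+* T := Algebra.TensorProduct.includeLeftRingHom
  let i₂ : Y.residueField y →+* T :=
    (Algebra.TensorProduct.includeRight :
      Y.residueField y →ₐ[X.residueField (π y)] T).toRingHom
  have h12 : (Spec.map (CommRingCat.ofHom i₁) ≫ Y.fromSpecResidueField y) ≫ π =
      (Spec.map (CommRingCat.ofHom i₂) ≫ Y.fromSpecResidueField y) ≫ π := by
    rw [Category.assoc, Category.assoc,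
      ← Scheme.Hom.SpecMap_residueFieldMap_fromSpecResidueField, ← Spec.map_comp_assoc,
      ← Spec.map_comp_assoc]
    congr 2
    ext k
    exact Algebra.TensorProduct.tmul_one_eq_one_tmul (A := Y.residueField y)
      (B := Y.residueField y) k
  have h := appTop_eq_of_comp_eq π s hs _ _ h12
  rw [appTop_SpecMap_comp_fromSpecResidueField, appTop_SpecMap_comp_fromSpecResidueField] at h
  have hl : i₁ (Y.Γevaluation y s) = i₂ (Y.Γevaluation y s) := sec_injective T h
  have heff : Algebra.IsEffective (X.residueField (π y)) (Y.residueField y) :=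
    Algebra.IsEffective.of_faithfullyFlat _ _
  obtain ⟨e, he⟩ := (heff (Y.Γevaluation y s)).mp (by
    rw [Algebra.TensorProduct.includeLeftSubRight_apply, sub_eq_zero]
    exact hl)
  exact ⟨e, he⟩

/-- `e` is the common value of `s` at all field-valued points of `Y` over `x`. -/
def IsValueAt {X Y : Scheme.{u}} (π : Y ⟶ X) (s : Γ(Y, ⊤)) (x : X) (e : X.residueField x) : Prop :=
  ∀ (Ω : Type u) [Field Ω] (a : Spec (CommRingCat.of Ω) ⟶ Y) (β : X.residueField x →+* Ω),
    a ≫ π = Spec.map (CommRingCat.ofHom β) ≫ X.fromSpecResidueField x →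
    a.appTop s = sec Ω (β e)

open scoped TensorProduct in
theorem isValueAt_of_residueFieldMap_eq {X Y : Scheme.{u}} (π : Y ⟶ X) (s : Γ(Y, ⊤))
    (hs : (pullback.fst π π).appTop s = (pullback.snd π π).appTop s) (y₀ : Y)
    (e : X.residueField (π y₀)) (he : π.residueFieldMap y₀ e = Y.Γevaluation y₀ s) :
    IsValueAt π s (π y₀) e := by
  intro Ω _ a β hab
  letI : Algebra (X.residueField (π y₀)) (Y.residueField y₀) :=
    (π.residueFieldMap y₀).hom.toAlgebra
  letI : Algebra (X.residueField (π y₀)) Ω := β.toAlgebra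
  let T : Type u := Ω ⊗[X.residueField (π y₀)] Y.residueField y₀
  haveI : Nontrivial T := Algebra.TensorProduct.nontrivial_of_algebraMap_injective_of_isDomain
    (X.residueField (π y₀)) Ω (Y.residueField y₀) (RingHom.injective _) (RingHom.injective _)
  obtain ⟨m, hm⟩ := Ideal.exists_maximal T
  letI : Field (T ⧸ m) := Ideal.Quotient.field m
  let jΩ : Ω →+* T ⧸ m := (Ideal.Quotient.mk m).comp Algebra.TensorProduct.includeLeftRingHom
  let jL : Y.residueField y₀ →+* T ⧸ m := (Ideal.Quotient.mk m).comp
    (Algebra.TensorProduct.includeRight : Y.residueField y₀ →ₐ[X.residueField (π y₀)] T).toRingHom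
  have hj : jΩ.comp β = jL.comp (π.residueFieldMap y₀).hom := by
    ext k
    show Ideal.Quotient.mk m ((β k) ⊗ₜ[X.residueField (π y₀)] (1 : Y.residueField y₀)) =
      Ideal.Quotient.mk m ((1 : Ω) ⊗ₜ[X.residueField (π y₀)] ((π.residueFieldMap y₀).hom k))
    congr 1
    exact Algebra.TensorProduct.tmul_one_eq_one_tmul (A := Ω) (B := Y.residueField y₀) k
  have h12 : (Spec.map (CommRingCat.ofHom jΩ) ≫ a) ≫ π =
      (Spec.map (CommRingCat.ofHom jL) ≫ Y.fromSpecResidueField y₀) ≫ π := by
    rw [Category.assoc, Category.assoc, hab,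
      ← Scheme.Hom.SpecMap_residueFieldMap_fromSpecResidueField, ← Spec.map_comp_assoc,
      ← Spec.map_comp_assoc]
    congr 2
    ext k
    exact congrArg (fun φ => φ k) hj
  have h := appTop_eq_of_comp_eq π s hs _ _ h12
  obtain ⟨w, hw⟩ := sec_surjective Ω (a.appTop s)
  rw [appTop_SpecMap_comp_fromSpecResidueField, Scheme.Hom.comp_appTop] at h
  have h' : sec (T ⧸ m) (jΩ w) = sec (T ⧸ m) (jL (Y.Γevaluation y₀ s)) := by
    rw [← h, ← appTop_sec jΩ w, hw]
    rfl
  have h'' : jΩ w = jΩ (β e) := by
    rw [sec_injective _ h', ← he]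
    exact (congrArg (fun φ => φ e) hj).symm
  rw [← hw, jΩ.injective h'']

/-- A section equalized by the two projections of `Y ×_X Y`, for `π : Y ⟶ X` surjective, has
pointwise function pulled back from a pointwise function on `X`. -/
theorem exists_ptFun {X Y : Scheme.{u}} (π : Y ⟶ X) [Surjective π] (s : Γ(Y, ⊤))
    (hs : (pullback.fst π π).appTop s = (pullback.snd π π).appTop s) :
    ∃ f : PtFun X, PtFun.ofSection Y s = f.pullback π := by
  have hex : ∀ x : X, ∃ e : X.residueField x, IsValueAt π s x e := by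
    intro x
    obtain ⟨y₀, rfl⟩ := π.surjective x
    obtain ⟨e, he⟩ := exists_residueFieldMap_eq π s hs y₀
    exact ⟨e, isValueAt_of_residueFieldMap_eq π s hs y₀ e he⟩
  choose f hf using hex
  refine ⟨f, ?_⟩
  funext y
  have h1 := hf (π y) (Y.residueField y) (Y.fromSpecResidueField y) (π.residueFieldMap y).hom
    (Scheme.Hom.SpecMap_residueFieldMap_fromSpecResidueField π y).symm
  rw [fromSpecResidueField_appTop_apply] at h1
  exact sec_injective _ h1

/-- **Affine case.** Over the spectrum of a seminormal ring, a section of a reduced proper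
surjective scheme whose pointwise function is pulled back from the base descends. -/
theorem exists_section_of_affine {A : Type u} [CommRing A] (hA : HTop.IsSeminormalRing A)
    {Y : Scheme.{u}} (π : Y ⟶ Spec (CommRingCat.of A)) [IsProper π] [Surjective π] [IsReduced Y]
    (s : Γ(Y, ⊤)) (f : PtFun (Spec (CommRingCat.of A)))
    (hf : PtFun.ofSection Y s = f.pullback π) :
    ∃ t : A, π.appTop (sec A t) = s ∧ PtFun.ofSection _ (sec A t) = f := by
  haveI : _root_.IsReduced A := Groth.Agent.Lib.Helper11.isReduced_of_isSeminormalRing hA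
  let F : CommRingCat.of A ⟶ Γ(Y, ⊤) := (Scheme.ΓSpecIso (CommRingCat.of A)).inv ≫ π.appTop
  have hF : ∀ a : A, F.hom a = π.appTop (sec A a) := fun a => rfl
  have hπsurj : Function.Surjective π := π.surjective
  have hinj : Function.Injective F.hom := by
    rw [injective_iff_map_eq_zero]
    intro a ha
    rw [hF] at ha
    have h1 : PtFun.ofSection _ (sec A a) = PtFun.ofSection _ (0 : Γ(Spec (CommRingCat.of A), ⊤)) := by
      apply eq_of_pullback_eq π hπsurj
      rw [pullback_ofSection, pullback_ofSection, ha, map_zero]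
    have h2 : sec A a = 0 := by
      apply Groth.Agent.Lib.T2H8.PtFunSN.eq_zero_of_forall_Γevaluation
      intro x
      have := congrFun h1 x
      show (Spec (CommRingCat.of A)).Γevaluation x (sec A a) = 0
      rw [show (Spec (CommRingCat.of A)).Γevaluation x (sec A a) =
        (Spec (CommRingCat.of A)).Γevaluation x 0 from this, map_zero]
    apply sec_injective A
    rw [h2]
    unfold sec
    rw [map_zero]
  have hint : F.hom.IsIntegral := by
    have h1 : π.appTop.hom.IsIntegral := isIntegral_appTop_of_universallyClosed π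
    have h2 : (Scheme.ΓSpecIso (CommRingCat.of A)).inv.hom.IsIntegral :=
      RingHom.isIntegral_of_surjective _
        (ConcreteCategory.bijective_of_isIso (Scheme.ΓSpecIso (CommRingCat.of A)).inv).2
    exact h2.trans _ _ h1
  have hcomp : Y.toSpecΓ ≫ Spec.map F = π := by
    have h1 := Scheme.toSpecΓ_naturality π
    rw [← SpecMap_ΓSpecIso_hom] at h1
    show Y.toSpecΓ ≫ Spec.map ((Scheme.ΓSpecIso (CommRingCat.of A)).inv ≫ π.appTop) = π
    rw [Spec.map_comp, ← Category.assoc, ← h1, Category.assoc, ← Spec.map_comp, Iso.inv_hom_id,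
      Spec.map_id, Category.comp_id]
  haveI : CompactSpace Y := (quasiCompact_iff_compactSpace π).mp inferInstance
  haveI : UniversallyClosed (Y.toSpecΓ ≫ Spec.map F) := by rw [hcomp]; infer_instance
  haveI : UniversallyClosed Y.toSpecΓ := .of_comp_of_isSeparated _ (Spec.map F)
  have hqsurj : Function.Surjective Y.toSpecΓ := Y.toSpecΓ.surjective
  have hfC : PtFun.ofSection _ (sec Γ(Y, ⊤) s) = f.pullback (Spec.map (CommRingCat.ofHom F.hom)) := by
    apply eq_of_pullback_eq Y.toSpecΓ hqsurj
    have e1 : Y.toSpecΓ.appTop (sec Γ(Y, ⊤) s) = s := by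
      rw [Scheme.toSpecΓ_appTop]
      exact congrArg (fun k => k.hom s) (Scheme.ΓSpecIso Γ(Y, ⊤)).inv_hom_id
    have e2 : Y.toSpecΓ ≫ Spec.map (CommRingCat.ofHom F.hom) = π := hcomp
    calc PtFun.pullback Y.toSpecΓ (PtFun.ofSection _ (sec Γ(Y, ⊤) s))
        = PtFun.ofSection Y (Y.toSpecΓ.appTop (sec Γ(Y, ⊤) s)) :=
          pullback_ofSection Y.toSpecΓ _
      _ = PtFun.ofSection Y s := by rw [e1]
      _ = f.pullback π := hf
      _ = f.pullback (Y.toSpecΓ ≫ Spec.map (CommRingCat.ofHom F.hom)) := by rw [e2]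
      _ = _ := pullback_comp _ _ _
  obtain ⟨a, ha⟩ := exists_eq_of_ofSection_eq_pullback hA F.hom hinj hint s f hfC
  refine ⟨a, ha, ?_⟩
  apply eq_of_pullback_eq π hπsurj
  rw [pullback_ofSection, ← hf]
  exact congrArg _ ha

theorem sec_eq_of_ofSection_eq {A : Type u} [CommRing A] [_root_.IsReduced A] (a b : A)
    (h : PtFun.ofSection _ (sec A a) = PtFun.ofSection _ (sec A b)) : a = b := by
  apply sec_injective A
  rw [← sub_eq_zero]
  apply Groth.Agent.Lib.T2H8.PtFunSN.eq_zero_of_forall_Γevaluation
  intro x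
  rw [map_sub, sub_eq_zero]
  exact congrFun h x

theorem isReduced_of_isSeminormal {X : Scheme.{u}} (hX : HTop.IsSeminormal X) : IsReduced X := by
  haveI : ∀ x : X, _root_.IsReduced (X.presheaf.stalk x) := by
    intro x
    obtain ⟨U, hxU, hU⟩ := hX x
    haveI : _root_.IsReduced Γ(X, U.1) := Groth.Agent.Lib.Helper11.isReduced_of_isSeminormalRing hU
    letI := X.presheaf.algebra_section_stalk (U := U.1) ⟨x, hxU⟩
    haveI := U.2.isLocalization_stalk ⟨x, hxU⟩
    exact isReduced_localizationPreserves (U.2.primeIdealOf ⟨x, hxU⟩).asIdeal.primeCompl _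
      inferInstance
  exact isReduced_of_isReduced_stalk X

/-- The pullback of a global section along the inclusion of an affine open. -/
theorem fromSpec_appTop_apply {X : Scheme.{u}} {U : X.Opens} (hU : IsAffineOpen U) (g : Γ(X, ⊤)) :
    hU.fromSpec.appTop g = sec Γ(X, U) (X.presheaf.map (homOfLE le_top).op g) := by
  have h1 := hU.fromSpec_toSpecΓ
  rw [Scheme.toSpecΓ_naturality, ← SpecMap_ΓSpecIso_hom, ← Spec.map_comp] at h1
  have h2 := Spec.map_injective h1
  have h3 : hU.fromSpec.appTop =
      X.presheaf.map (homOfLE le_top).op ≫ (Scheme.ΓSpecIso Γ(X, U)).inv := by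
    rw [← h2, Category.assoc, Iso.hom_inv_id, Category.comp_id]
  rw [h3]
  rfl

/-- Sections over all affine opens compatible with restriction glue to a global section. -/
theorem exists_glue (X : Scheme.{u}) (t : ∀ U : X.affineOpens, Γ(X, U.1))
    (ht : ∀ (U V : X.affineOpens) (h : V.1 ≤ U.1), X.presheaf.map (homOfLE h).op (t U) = t V) :
    ∃ g : Γ(X, ⊤), ∀ U : X.affineOpens, X.presheaf.map (homOfLE le_top).op g = t U := by
  have hcompat : TopCat.Presheaf.IsCompatible X.presheaf (fun U : X.affineOpens => U.1) t := by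
    intro U V
    apply X.sheaf.eq_of_locally_eq'
      (fun W : {W : X.affineOpens // W.1 ≤ U.1 ⊓ V.1} => W.1.1) (U.1 ⊓ V.1)
      (fun W => homOfLE W.2)
    · intro x hx
      obtain ⟨W, hW, hxW, hWUV⟩ :=
        exists_isAffineOpen_mem_and_subset (x := x) (U := U.1 ⊓ V.1) hx
      exact TopologicalSpace.Opens.mem_iSup.mpr ⟨⟨⟨W, hW⟩, hWUV⟩, hxW⟩
    · intro W
      have h1 := ht U W.1 (W.2.trans inf_le_left)
      have h2 := ht V W.1 (W.2.trans inf_le_right)
      show (X.presheaf.map _ ≫ X.presheaf.map _) (t U) = (X.presheaf.map _ ≫ X.presheaf.map _) (t V)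
      rw [← Functor.map_comp, ← Functor.map_comp]
      exact h1.trans h2.symm
  obtain ⟨g, hg, -⟩ := X.sheaf.existsUnique_gluing' (fun U : X.affineOpens => U.1) ⊤
    (fun U => homOfLE le_top) (by rw [iSup_affineOpens_eq_top]) t hcompat
  exact ⟨g, hg⟩

theorem eq_of_ofSection_eq {Y : Scheme.{u}} [IsReduced Y] (a b : Γ(Y, ⊤))
    (h : PtFun.ofSection Y a = PtFun.ofSection Y b) : a = b := by
  rw [← sub_eq_zero]
  apply Groth.Agent.Lib.T2H8.PtFunSN.eq_zero_of_forall_Γevaluation
  intro x
  rw [map_sub, sub_eq_zero]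
  exact congrFun h x

/-- **Descent of sections along proper surjective morphisms to seminormal schemes.** -/
theorem existsUnique_descend {X Y : Scheme.{u}} (hX : HTop.IsSeminormal X) (π : Y ⟶ X)
    [IsProper π] [Surjective π] [IsReduced Y] (s : Γ(Y, ⊤))
    (hs : (pullback.fst π π).appTop s = (pullback.snd π π).appTop s) :
    ∃! t : Γ(X, ⊤), π.appTop t = s := by
  haveI := isReduced_of_isSeminormal hX
  obtain ⟨f, hf⟩ := exists_ptFun π s hs
  have hπsurj : Function.Surjective π := π.surjective
  have hSN : ∀ U : X.affineOpens, HTop.IsSeminormalRing Γ(X, U.1) :=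
    (Groth.Agent.S7420.result X).1.mp hX
  have hloc : ∀ U : X.affineOpens, ∃ t : Γ(X, U.1),
      PtFun.ofSection _ (sec Γ(X, U.1) t) = f.pullback U.2.fromSpec := by
    intro U
    let πU : pullback π U.2.fromSpec ⟶ Spec (CommRingCat.of Γ(X, U.1)) :=
      pullback.snd π U.2.fromSpec
    haveI : IsReduced (pullback π U.2.fromSpec) :=
      isReduced_of_isOpenImmersion (pullback.fst π U.2.fromSpec)
    have h1 : PtFun.ofSection _ ((pullback.fst π U.2.fromSpec).appTop s) =
        (f.pullback U.2.fromSpec).pullback πU := by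
      rw [← pullback_ofSection, hf, ← pullback_comp, ← pullback_comp, pullback.condition]
    obtain ⟨t, -, ht⟩ := exists_section_of_affine (hSN U) πU _ (f.pullback U.2.fromSpec) h1
    exact ⟨t, ht⟩
  choose t ht using hloc
  have hcompat : ∀ (U V : X.affineOpens) (h : V.1 ≤ U.1),
      X.presheaf.map (homOfLE h).op (t U) = t V := by
    intro U V h
    haveI : _root_.IsReduced Γ(X, V.1) :=
      Groth.Agent.Lib.Helper11.isReduced_of_isSeminormalRing (hSN V)
    apply sec_eq_of_ofSection_eq
    rw [ht V, ← U.2.map_fromSpec V.2 (homOfLE h).op, pullback_comp, ← ht U]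
    exact ((pullback_ofSection (Spec.map (X.presheaf.map (homOfLE h).op)) (sec _ (t U))).trans
      (congrArg _ (appTop_SpecMap_ΓSpecIso_inv (X.presheaf.map (homOfLE h).op) (t U)))).symm
  obtain ⟨g, hg⟩ := exists_glue X t hcompat
  have hgf : PtFun.ofSection X g = f := by
    funext x
    obtain ⟨U, hU, hxU, -⟩ := exists_isAffineOpen_mem_and_subset (x := x) (U := ⊤) trivial
    have hx : x ∈ Set.range hU.fromSpec := by
      rw [hU.range_fromSpec]
      exact hxU
    obtain ⟨z, rfl⟩ := hx
    have h1 : (PtFun.ofSection X g).pullback hU.fromSpec = f.pullback hU.fromSpec := by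
      rw [pullback_ofSection, fromSpec_appTop_apply, hg ⟨U, hU⟩]
      exact ht ⟨U, hU⟩
    exact (hU.fromSpec.residueFieldMap z).hom.injective (congrFun h1 z)
  refine ⟨g, ?_, ?_⟩
  · apply eq_of_ofSection_eq
    rw [← pullback_ofSection, hgf, hf]
  · intro t' ht'
    apply eq_of_ofSection_eq
    rw [hgf]
    apply eq_of_pullback_eq π hπsurj
    rw [pullback_ofSection, ht', hf]

end Groth.Agent.Lib.T2H8.FibreDesc
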