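import Mathlib
import Groth.Agent.Lib.Helper1LocalCx

/-!
# Bounded complexes of finite free modules over a local ring with fibre cohomology in one degree

(helper8)  If a complex of finite free modules over a local ring is exact modulo the maximal ideal
outside degree `i`, then it is exact outside degree `i` and its cohomology in degree `i` is free.
-/

set_option autoImplicit false
universe u
open CategoryTheory CategoryTheory.Limits TensorProduct

namespace Groth.Agent.Lib.T2H8.LocalCx

section Abelian

variable {𝒜 : Type*} [Category 𝒜] [Abelian 𝒜]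

/-- the kernel of an epimorphism onto a projective object is a retract of the source -/
noncomputable def retractKernelOfEpi {A B : 𝒜} (f : A ⟶ B) [Epi f] [Projective B] :
    Retract (kernel f) A :=
  have hs : Projective.factorThru (𝟙 B) f ≫ f = 𝟙 B := Projective.factorThru_comp _ _
  have h : (𝟙 A - f ≫ Projective.factorThru (𝟙 B) f) ≫ f = 0 := by
    rw [Preadditive.sub_comp, Category.id_comp, Category.assoc, hs, Category.comp_id, sub_self]
  { i := kernel.ι f
    r := kernel.lift f (𝟙 A - f ≫ Projective.factorThru (𝟙 B) f) h
    retract := by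
      ext
      simp }

/-- the kernel of an epimorphism between projective objects is projective -/
lemma projective_kernel_of_epi {A B : 𝒜} (f : A ⟶ B) [Epi f] [Projective A] [Projective B] :
    Projective (kernel f) :=
  (retractKernelOfEpi f).projective

variable (K : CochainComplex 𝒜 ℤ)

open HomologicalComplex

/-- if `K` is exact in degree `j = i + 1` and the terms `K^j`, `K^{j+1}` and the cokernel of `d^j`
are projective, then the cohomology in degree `i` is a retract of the cokernel of `d^{i-1}` -/
lemma projective_homology (i j k : ℤ) (hij : i + 1 = j) (hjk : j + 1 = k)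
    (hj : K.ExactAt j) [Projective (K.X j)] [Projective (K.X k)]
    [Projective (K.opcycles k)] :
    Nonempty (Retract (K.homology i) (K.opcycles i)) := by
  -- the image of `d^j`
  haveI hI : Projective (kernel (K.pOpcycles k)) := projective_kernel_of_epi _
  have hz : K.d j k ≫ K.pOpcycles k = 0 := K.d_pOpcycles j k
  have hex : (ShortComplex.mk (K.d j k) (K.pOpcycles k) hz).Exact :=
    ShortComplex.exact_of_g_is_cokernel _ (K.opcyclesIsCokernel j k (by simp [← hjk]))
  haveI : Epi (kernel.lift (K.pOpcycles k) (K.d j k) hz) :=
    (ShortComplex.exact_iff_epi_kernel_lift _).1 hex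
  -- the cycles in degree `j`
  haveI hZ' : Projective (kernel (kernel.lift (K.pOpcycles k) (K.d j k) hz)) :=
    projective_kernel_of_epi _
  have hfac : kernel.lift (K.pOpcycles k) (K.d j k) hz ≫ kernel.ι (K.pOpcycles k) = K.d j k :=
    kernel.lift_ι _ _ _
  let e1 : kernel (kernel.lift (K.pOpcycles k) (K.d j k) hz) ≅ kernel (K.d j k) :=
    (kernelCompMono (kernel.lift (K.pOpcycles k) (K.d j k) hz)
      (kernel.ι (K.pOpcycles k))).symm ≪≫ kernel.mapIso _ _ (Iso.refl _) (Iso.refl _)
        (by simp [hfac])
  let e2 : kernel (K.d j k) ≅ K.cycles j :=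
    IsLimit.conePointUniqueUpToIso (kernelIsKernel (K.d j k))
      (K.cyclesIsKernel j k (by simp [← hjk]))
  haveI hZ : Projective (K.cycles j) := Projective.of_iso (e1 ≪≫ e2) hZ'
  -- `opcycles i ⟶ cycles j` is an epimorphism with kernel the homology in degree `i`
  have hrel : (ComplexShape.up ℤ).Rel i j := hij
  let T := ShortComplex.mk (K.opcyclesToCycles i j) (K.homologyπ j) (by simp)
  let T' := ShortComplex.mk (K.toCycles i j) (K.homologyπ j) (by simp)
  let π : T' ⟶ T :=
    { τ₁ := K.pOpcycles i
      τ₂ := 𝟙 _
      τ₃ := 𝟙 _ }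
  have hT : T.Exact := by
    rw [← ShortComplex.exact_iff_of_epi_of_isIso_of_mono π]
    exact T'.exact_of_g_is_cokernel (K.homologyIsCokernel i j (by simp [← hij]))
  have hzero : IsZero (K.homology j) := hj.isZero_homology
  haveI : Epi (K.opcyclesToCycles i j) := hT.epi_f (hzero.eq_of_tgt _ _)
  let Rk : Retract (kernel (K.opcyclesToCycles i j)) (K.opcycles i) :=
    retractKernelOfEpi (K.opcyclesToCycles i j)
  let S := ShortComplex.mk (K.homologyι i) (K.opcyclesToCycles i j) (by simp)
  let S' := ShortComplex.mk (K.homologyι i) (K.fromOpcycles i j) (by simp)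
  let ι : S ⟶ S' :=
    { τ₁ := 𝟙 _
      τ₂ := 𝟙 _
      τ₃ := K.iCycles j }
  have hS : S.Exact := by
    rw [ShortComplex.exact_iff_of_epi_of_isIso_of_mono ι]
    exact S'.exact_of_f_is_kernel (K.homologyIsKernel i j (by simp [← hij]))
  haveI : Mono S.f := by
    dsimp [S]
    infer_instance
  let e : kernel (K.opcyclesToCycles i j) ≅ K.homology i :=
    IsLimit.conePointUniqueUpToIso (kernelIsKernel (K.opcyclesToCycles i j)) hS.fIsKernel
  exact ⟨{ i := e.inv ≫ Rk.i
           r := Rk.r ≫ e.hom
           retract := by
            rw [Category.assoc, ← Category.assoc Rk.i, Rk.retract, Category.id_comp,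
              e.inv_hom_id] }⟩

end Abelian

section Local

open HomologicalComplex

variable {R : Type u} [CommRing R] [IsLocalRing R] (K : CochainComplex (ModuleCat.{u} R) ℤ)

/-- exactness modulo the maximal ideal in degree `q` -/
def ExactModAt (q : ℤ) : Prop :=
  Function.Exact ((K.d (q - 1) q).hom.lTensor (IsLocalRing.ResidueField R))
    ((K.d q (q + 1)).hom.lTensor (IsLocalRing.ResidueField R))

lemma exactAt_and_projective_opcycles (q : ℤ) (h : ExactModAt K q)
    [Module.Finite R (K.X q)] [Module.Finite R (K.X (q + 1))] [Module.Free R (K.X (q + 1))] :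
    K.ExactAt q ∧ Projective (K.opcycles (q + 1)) := by
  have h0 : (K.d q (q + 1)).hom ∘ₗ (K.d (q - 1) q).hom = 0 := by
    rw [← ModuleCat.hom_comp, K.d_comp_d]
    rfl
  obtain ⟨h1, h2⟩ :=
    Groth.Agent.Lib.Helper1.LocalCx.exact_and_projective_of_exact_lTensor_residueField
      (K.d (q - 1) q).hom (K.d q (q + 1)).hom h0 h
  constructor
  · rw [K.exactAt_iff' (q - 1) q (q + 1) (by simp) (by simp),
      ShortComplex.ShortExact.moduleCat_exact_iff_function_exact]
    exact h1
  · haveI : Projective (ModuleCat.of R (K.X (q + 1) ⧸ LinearMap.range (K.d q (q + 1)).hom)) :=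
      (IsProjective.iff_projective _).1 h2
    let e : K.opcycles (q + 1) ≅
        ModuleCat.of R (K.X (q + 1) ⧸ LinearMap.range (K.d q (q + 1)).hom) :=
      IsColimit.coconePointUniqueUpToIso (K.opcyclesIsCokernel q (q + 1) (by simp))
        (cokernelIsCokernel (K.d q (q + 1))) ≪≫ ModuleCat.cokernelIsoRangeQuotient _
    exact Projective.of_iso e.symm inferInstance

/-- a complex of finite free modules over a local ring which is exact modulo the maximal ideal
outside degree `i` is exact outside degree `i`, and its cohomology in degree `i` is finite free -/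
theorem free_homology (hfin : ∀ q, Module.Finite R (K.X q)) (hfree : ∀ q, Module.Free R (K.X q))
    (i : ℤ) (h : ∀ q, q ≠ i → ExactModAt K q) :
    (∀ q, q ≠ i → IsZero (K.homology q)) ∧ Module.Free R (K.homology i) ∧
      Module.Finite R (K.homology i) := by
  have key : ∀ q, q ≠ i → K.ExactAt q ∧ Projective (K.opcycles (q + 1)) := fun q hq =>
    @exactAt_and_projective_opcycles R _ _ K q (h q hq) (hfin q) (hfin (q + 1)) (hfree (q + 1))
  refine ⟨fun q hq => (key q hq).1.isZero_homology, ?_⟩
  obtain ⟨-, h1⟩ := key (i - 1) (by omega)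
  obtain ⟨h2, h3⟩ := key (i + 1) (by omega)
  rw [show i - 1 + 1 = i by omega] at h1
  rw [show i + 1 + 1 = i + 2 by omega] at h3
  haveI := h1
  haveI := h3
  haveI : Projective (K.X (i + 1)) :=
    (IsProjective.iff_projective _).1 (@Module.Projective.of_free R _ _ _ _ (hfree (i + 1)))
  haveI : Projective (K.X (i + 2)) :=
    (IsProjective.iff_projective _).1 (@Module.Projective.of_free R _ _ _ _ (hfree (i + 2)))
  obtain ⟨Rt⟩ := projective_homology K i (i + 1) (i + 2) rfl (by omega) h2
  haveI : Projective (K.homology i) := Rt.projective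
  haveI : Module.Projective R (K.homology i) := (IsProjective.iff_projective _).2 inferInstance
  -- finiteness
  haveI : Module.Finite R (K.opcycles i) := by
    haveI : Epi (K.pOpcycles i) := inferInstance
    haveI := hfin i
    exact Module.Finite.of_surjective (K.pOpcycles i).hom
      ((ModuleCat.epi_iff_surjective _).1 inferInstance)
  have hsurj : Function.Surjective Rt.r.hom := by
    intro y
    refine ⟨Rt.i.hom y, ?_⟩
    have := Rt.retract
    exact congrArg (fun f => f.hom y) this
  haveI : Module.Finite R (K.homology i) := Module.Finite.of_surjective Rt.r.hom hsurj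
  exact ⟨Module.free_of_flat_of_isLocalRing, inferInstance⟩

end Local

end Groth.Agent.Lib.T2H8.LocalCx
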