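import Mathlib
import Groth.Agent.Lib.T2H8Betti
import Groth.Agent.Lib.T2H8LocalCx
import Groth.Agent.Lib.T2H8FreeLoc
import Groth.Agent.Lib.Helper2RankLoc
import Groth.Agent.Lib.Helper1KBC2

/-!
# From fibre complexes to stalk complexes (helper8)

* `fd_eq_fibreRank`, `finrank_fibF_eq_fibreRank`: the fibre dimension of a quasi-coherent module
  along a one-point scheme mapping to `x` is the fibre rank `dim_k (k ⊗ M_x)` at `x`.
* `free_stalk_homology_of_fibre`: if the fibre complex of a strictly perfect complex along a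
  one-point scheme mapping to `x` is exact outside degree `i`, then the stalks at `x` of all
  cohomology sheaves are free, and zero outside degree `i`.
-/

set_option autoImplicit false
universe u
open CategoryTheory CategoryTheory.Limits AlgebraicGeometry TensorProduct Opposite

namespace Groth.Agent.Lib.T2H8.FibreStalk

open Groth.Agent.S2380 Groth.Agent.Lib.T2H8.BettiLin Groth.Agent.Lib.T2H8.Betti
  Groth.Agent.Lib.T2H8.EulerChar Groth.Agent.Lib.Helper2.RankLoc Groth.Agent.Lib.Helper2.FlatOver
  Groth.Agent.Lib.Helper20.PullbackAff Groth.Agent.Lib.Helper20.Thickening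

section Alg

variable {A : Type u} [CommRing A] (p : Ideal A) [p.IsPrime] (R : Type u) [CommRing R]
  [IsLocalRing R] [Algebra A R] [IsLocalization.AtPrime R p]
  (M : Type u) [AddCommGroup M] [Module A M] (Nx : Type u) [AddCommGroup Nx] [Module A Nx]
  [Module R Nx] [IsScalarTower A R Nx] (f : M →ₗ[A] Nx) [IsLocalizedModule p.primeCompl f]

include f in
/-- the fibre dimension at `p` is the fibre rank of the localization at `p` -/
theorem fd_eq_finrank_residueField_tensor :
    fd M ⟨p, inferInstance⟩ =
      Module.finrank (IsLocalRing.ResidueField R) (IsLocalRing.ResidueField R ⊗[R] Nx) := by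
  have hbc : IsBaseChange R f := (isLocalizedModule_iff_isBaseChange p.primeCompl R f).1 inferInstance
  let e2 := TensorProduct.AlgebraTensorModule.cancelBaseChange A R (IsLocalRing.ResidueField R)
    (IsLocalRing.ResidueField R) M
  let e3 : (IsLocalRing.ResidueField R) ⊗[R] (R ⊗[A] M) ≃ₗ[IsLocalRing.ResidueField R]
      (IsLocalRing.ResidueField R) ⊗[R] Nx :=
    TensorProduct.AlgebraTensorModule.congr
      (LinearEquiv.refl (IsLocalRing.ResidueField R) (IsLocalRing.ResidueField R)) hbc.equiv
  have h1 : Module.finrank (IsLocalRing.ResidueField R) (IsLocalRing.ResidueField R ⊗[R] Nx) =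
      Module.finrank (IsLocalRing.ResidueField R) (IsLocalRing.ResidueField R ⊗[A] M) :=
    (e3.symm.trans e2).finrank_eq
  have h2 := finrank_tensor_eq_fd (A := A) (K := IsLocalRing.ResidueField R) M
  rw [h1, h2]
  congr 1
  apply PrimeSpectrum.ext
  ext a
  change a ∈ p ↔ algebraMap A (IsLocalRing.ResidueField R) a = 0
  rw [← IsLocalization.AtPrime.to_map_mem_maximal_iff R p a, ← IsLocalRing.residue_eq_zero_iff]
  rfl

end Alg

section FibreRank

variable {Y : Scheme.{u}}

/-- the fibre dimension of the module of sections over an affine open at the prime of `x` is the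
fibre rank at `x` -/
theorem fd_eq_fibreRank (N : Y.Modules) [N.IsQuasicoherent] {W : Y.Opens} (hW : IsAffineOpen W)
    (x : Y) (hx : x ∈ W) :
    fd Γ(N, W) (hW.primeIdealOf ⟨x, hx⟩) = fibreRank N x := by
  letI aAR : Algebra Γ(Y, W) (Y.presheaf.stalk x) := Y.presheaf.algebra_section_stalk ⟨x, hx⟩
  haveI lR := hW.isLocalization_stalk ⟨x, hx⟩
  letI mAP : Module Γ(Y, W) (N.presheaf.stalk x) := moduleStalkSections N W x hx
  haveI tARP : IsScalarTower Γ(Y, W) (Y.presheaf.stalk x) (N.presheaf.stalk x) :=
    IsScalarTower.of_algebraMap_smul (fun b n => rfl)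
  haveI locP := isLocalizedModule_germ hW N x hx
  exact fd_eq_finrank_residueField_tensor (hW.primeIdealOf ⟨x, hx⟩).asIdeal (Y.presheaf.stalk x)
    Γ(N, W) (N.presheaf.stalk x) (germₗ N W x hx)

end FibreRank

section FibreDim

variable {T Y : Scheme.{u}}

/-- the fibre dimension of a quasi-coherent module along a one-point scheme mapping to `x` is the
fibre rank at `x` -/
theorem finrank_pullback_eq_fibreRank [Subsingleton T] [IsAffine T] (hK : IsField Γ(T, ⊤))
    (t₀ : T) (j : T ⟶ Y) (N : Y.Modules) [N.IsQuasicoherent] :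
    Module.finrank Γ(T, ⊤) Γ((Scheme.Modules.pullback j).obj N, ⊤) = fibreRank N (j t₀) := by
  obtain ⟨W, hW, hxW, -⟩ :=
    exists_isAffineOpen_mem_and_subset (x := j t₀) (U := ⊤) trivial
  rw [finrank_pullback_eq_fd hK t₀ j N hW (hW.primeIdealOf ⟨j t₀, hxW⟩)
    (hW.fromSpec_primeIdealOf ⟨j t₀, hxW⟩), ← fd_eq_fibreRank N hW (j t₀) hxW]
  unfold fd
  exact (TensorProduct.AlgebraTensorModule.congr
    (LinearEquiv.refl (hW.primeIdealOf ⟨j t₀, hxW⟩).asIdeal.ResidueField
      (hW.primeIdealOf ⟨j t₀, hxW⟩).asIdeal.ResidueField) (ΓUEquiv hW N).symm).finrank_eq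

end FibreDim

section LinAlg

variable {k : Type*} [Field k] {V₁ V₂ V₃ : Type*} [AddCommGroup V₁] [AddCommGroup V₂]
  [AddCommGroup V₃] [Module k V₁] [Module k V₂] [Module k V₃] [Module.Finite k V₂]
  [Module.Finite k V₃]

/-- a dimension criterion for the exactness of a three term complex of vector spaces -/
theorem exact_of_finrank_eq (f : V₁ →ₗ[k] V₂) (g : V₂ →ₗ[k] V₃) (h0 : g ∘ₗ f = 0)
    (h : Module.finrank k (V₂ ⧸ LinearMap.range f) + Module.finrank k (V₃ ⧸ LinearMap.range g) =
      Module.finrank k V₃) : Function.Exact f g := by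
  have h1 := (LinearMap.range f).finrank_quotient_add_finrank
  have h2 := (LinearMap.range g).finrank_quotient_add_finrank
  have h3 := LinearMap.finrank_range_add_finrank_ker g
  have hle : LinearMap.range f ≤ LinearMap.ker g := by
    rintro _ ⟨v, rfl⟩
    exact LinearMap.congr_fun h0 v
  rw [LinearMap.exact_iff]
  exact (Submodule.eq_of_le_of_finrank_eq hle (by omega)).symm

end LinAlg

section LocalAlg

variable {R : Type u} [CommRing R] [IsLocalRing R] {A B C : Type u} [AddCommGroup A]
  [AddCommGroup B] [AddCommGroup C] [Module R A] [Module R B] [Module R C] [Module.Finite R B]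
  [Module.Finite R C]

/-- exactness modulo the maximal ideal from a rank identity for the cokernels -/
theorem exact_lTensor_residueField_of_finrank_eq (f : A →ₗ[R] B) (g : B →ₗ[R] C)
    (h0 : g ∘ₗ f = 0)
    (h : Module.finrank (IsLocalRing.ResidueField R)
          (IsLocalRing.ResidueField R ⊗[R] (B ⧸ LinearMap.range f)) +
        Module.finrank (IsLocalRing.ResidueField R)
          (IsLocalRing.ResidueField R ⊗[R] (C ⧸ LinearMap.range g)) =
      Module.finrank (IsLocalRing.ResidueField R) (IsLocalRing.ResidueField R ⊗[R] C)) :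
    Function.Exact (f.lTensor (IsLocalRing.ResidueField R))
      (g.lTensor (IsLocalRing.ResidueField R)) := by
  have h0' : g.baseChange (IsLocalRing.ResidueField R) ∘ₗ
      f.baseChange (IsLocalRing.ResidueField R) = 0 := by
    rw [← LinearMap.baseChange_comp, h0, LinearMap.baseChange_zero]
  have hq1 := (quotBaseChangeEquiv (IsLocalRing.ResidueField R) f).finrank_eq
  have hq2 := (quotBaseChangeEquiv (IsLocalRing.ResidueField R) g).finrank_eq
  exact exact_of_finrank_eq (f.baseChange (IsLocalRing.ResidueField R))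
    (g.baseChange (IsLocalRing.ResidueField R)) h0' (by rw [hq1, hq2]; exact h)

end LocalAlg

section StalkCx

open Groth.Agent.Lib.Helper1.Sky Groth.Agent.Lib.Helper1.StalkTensor
  Groth.Agent.Lib.T2H8.LocalCx Groth.Agent.Lib.Helper1.KBC

variable {Y : Scheme.{u}} (P : CochainComplex Y.Modules ℤ) (x : Y)

/-- the complex of stalks at `x` -/
noncomputable abbrev stalkCx : CochainComplex (ModuleCat.{u} (Y.presheaf.stalk x)) ℤ :=
  ((stalkFun x).mapHomologicalComplex (ComplexShape.up ℤ)).obj P

/-- exactness modulo the maximal ideal of the complex of stalks, from a rank identity -/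
theorem exactModAt_stalkCx (q : ℤ)
    (hf1 : Module.Finite (Y.presheaf.stalk x) ((P.X q).presheaf.stalk x))
    (hf2 : Module.Finite (Y.presheaf.stalk x) ((P.X (q + 1)).presheaf.stalk x))
    (hrank : fibreRank (cokernel (P.d (q - 1) q)) x + fibreRank (cokernel (P.d q (q + 1))) x =
      fibreRank (P.X (q + 1)) x) : ExactModAt (stalkCx P x) q := by
  haveI : Module.Finite (Y.presheaf.stalk x) ((stalkFun x).obj (P.X q)) := hf1
  haveI : Module.Finite (Y.presheaf.stalk x) ((stalkFun x).obj (P.X (q + 1))) := hf2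
  have h0 : ((stalkFun x).map (P.d q (q + 1))).hom ∘ₗ ((stalkFun x).map (P.d (q - 1) q)).hom =
      0 := by
    change ((stalkFun x).map (P.d (q - 1) q) ≫ (stalkFun x).map (P.d q (q + 1))).hom = 0
    rw [← Functor.map_comp, P.d_comp_d, Functor.map_zero]
    rfl
  obtain ⟨e1⟩ := nonempty_quotient_range_equiv (stalkFun x) (P.d (q - 1) q)
  obtain ⟨e2⟩ := nonempty_quotient_range_equiv (stalkFun x) (P.d q (q + 1))
  have hq1 : Module.finrank (IsLocalRing.ResidueField (Y.presheaf.stalk x))
      (IsLocalRing.ResidueField (Y.presheaf.stalk x) ⊗[Y.presheaf.stalk x]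
        (((stalkFun x).obj (P.X q)) ⧸ LinearMap.range ((stalkFun x).map (P.d (q - 1) q)).hom)) =
      fibreRank (cokernel (P.d (q - 1) q)) x :=
    (TensorProduct.AlgebraTensorModule.congr (LinearEquiv.refl _ _) e1).finrank_eq
  have hq2 : Module.finrank (IsLocalRing.ResidueField (Y.presheaf.stalk x))
      (IsLocalRing.ResidueField (Y.presheaf.stalk x) ⊗[Y.presheaf.stalk x]
        (((stalkFun x).obj (P.X (q + 1))) ⧸
          LinearMap.range ((stalkFun x).map (P.d q (q + 1))).hom)) =
      fibreRank (cokernel (P.d q (q + 1))) x :=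
    (TensorProduct.AlgebraTensorModule.congr (LinearEquiv.refl _ _) e2).finrank_eq
  have key := exact_lTensor_residueField_of_finrank_eq
    ((stalkFun x).map (P.d (q - 1) q)).hom ((stalkFun x).map (P.d q (q + 1))).hom h0
    (by rw [hq1, hq2]; exact hrank)
  exact key

end StalkCx

section Main

open Groth.Agent.Lib.Helper1.Sky Groth.Agent.Lib.Helper1.StalkTensor
  Groth.Agent.Lib.T2H8.LocalCx Groth.Agent.Lib.Helper1.KBC Groth.Agent.Lib.T2H8.FreeLoc
  Groth.Agent.Lib.T2H8.HomologyCoprod Groth.Agent.Lib.T2H8.StalkRestrict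
  Groth.Agent.Lib.Helper23.QCohLocal

variable {T Y : Scheme.{u}} [Subsingleton T] [Nonempty T] [IsAffine T]

/-- if the fibre complex of a strictly perfect complex along a one-point scheme mapping to `x` is
exact outside degree `i`, then the stalks at `x` of all cohomology sheaves are free, and zero
outside degree `i` -/
theorem free_stalk_homology_of_fibre (hK : IsField Γ(T, ⊤)) (t₀ : T) (j : T ⟶ Y)
    (P : CochainComplex Y.Modules ℤ) (hP : DCoh.IsStrictlyPerfect P) (i : ℤ)
    (hfib : ∀ q, q ≠ i → IsZero (((pullC j).obj P).homology q)) :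
    (∀ q, Module.Free (Y.presheaf.stalk (j t₀)) ((P.homology q).presheaf.stalk (j t₀))) ∧
      ∀ q, q ≠ i → Subsingleton ((P.homology q).presheaf.stalk (j t₀)) := by
  haveI hq : ∀ q, (P.X q).IsQuasicoherent := fun q =>
    Groth.Agent.Lib.T2H8.PCohQCoh.isQCoh_of_isFinLocFree _ (hP.2 q)
  -- stalks of the terms
  have hst : ∀ q, Module.Free (Y.presheaf.stalk (j t₀)) ((P.X q).presheaf.stalk (j t₀)) ∧
      Module.Finite (Y.presheaf.stalk (j t₀)) ((P.X q).presheaf.stalk (j t₀)) := fun q =>
    (lfAt_of_isFinLocFree (hP.2 q) (j t₀)).free_finite_stalk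
  -- fibres of the terms are finite
  have hfin : ∀ q, Module.Finite (Coh.Γtop T) ((fibF j).obj (P.X q)) := by
    intro q
    obtain ⟨U', n, hU', ⟨e'⟩⟩ := hP.2 q (j t₀)
    obtain ⟨bs⟩ := nonempty_basis_pullback t₀ j (P.X q) e' hU'
    exact Module.Finite.of_basis bs
  -- the rank identities
  have hrank : ∀ q, q ≠ i →
      fibreRank (cokernel (P.d (q - 1) q)) (j t₀) + fibreRank (cokernel (P.d q (q + 1))) (j t₀) =
        fibreRank (P.X (q + 1)) (j t₀) := by
    intro q hqi
    have h1 := finrank_homology_fibre hK j P q hfin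
    obtain ⟨e⟩ := nonempty_homology_iso T ((pullC j).obj P) q
    have hz : IsZero ((((ΓT T).mapHomologicalComplex (ComplexShape.up ℤ)).obj
        ((pullC j).obj P)).homology q) :=
      IsZero.of_iso ((ΓT T).map_isZero (hfib q hqi)) e
    haveI : Subsingleton ((((ΓT T).mapHomologicalComplex (ComplexShape.up ℤ)).obj
        ((pullC j).obj P)).homology q) := ModuleCat.subsingleton_of_isZero hz
    haveI : Nontrivial (Coh.Γtop T) := hK.nontrivial
    rw [Module.finrank_zero_of_subsingleton, zero_add] at h1
    haveI : (cokernel (P.d (q - 1) q)).IsQuasicoherent := isQuasicoherent_cokernel _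
    haveI : (cokernel (P.d q (q + 1))).IsQuasicoherent := isQuasicoherent_cokernel _
    rw [finrank_fibF_eq, finrank_fibF_eq, finrank_fibF_eq,
      finrank_pullback_eq_fibreRank hK t₀ j, finrank_pullback_eq_fibreRank hK t₀ j,
      finrank_pullback_eq_fibreRank hK t₀ j] at h1
    exact h1.symm
  have hex : ∀ q, q ≠ i → ExactModAt (stalkCx P (j t₀)) q := fun q hqi =>
    exactModAt_stalkCx P (j t₀) q (hst q).2 (hst (q + 1)).2 (hrank q hqi)
  obtain ⟨h1, h2, -⟩ := free_homology (stalkCx P (j t₀)) (fun q => (hst q).2)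
    (fun q => (hst q).1) i hex
  let eS : ∀ q, (stalkFun (j t₀)).obj (P.homology q) ≅ (stalkCx P (j t₀)).homology q := fun q =>
    (homologyMapIso (stalkFun (j t₀)) P q).symm
  have hsub : ∀ q, q ≠ i → Subsingleton ((P.homology q).presheaf.stalk (j t₀)) := fun q hqi =>
    ModuleCat.subsingleton_of_isZero (IsZero.of_iso (h1 q hqi) (eS q))
  refine ⟨fun q => ?_, hsub⟩
  by_cases hqi : q = i
  · subst hqi
    exact Module.Free.of_equiv (eS q).symm.toLinearEquiv
  · haveI := hsub q hqi
    exact Module.Free.of_subsingleton _ _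

end Main

end Groth.Agent.Lib.T2H8.FibreStalk
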