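import Mathlib
import Groth.Prelude.Def_EtCore
import Groth.Agent.Lib.T2H8FibreConstAb

set_option autoImplicit false
universe u
open CategoryTheory CategoryTheory.Limits AlgebraicGeometry Opposite

namespace Groth.Agent.Lib.T2H8FlatConn

set_option backward.isDefEq.respectTransparency.types false in
/-- a morphism with nonempty geometric fibres is surjective. -/
lemma surjective_of_geometric_fibres_nonempty {T S : Scheme.{u}} (f : T ⟶ S)
    (hc : ∀ (Ω : Type u) [Field Ω] [IsAlgClosed Ω] (s : Spec (CommRingCat.of Ω) ⟶ S),
      Nonempty ↥(pullback f s)) : Surjective f := by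
  constructor
  intro s
  let Ω := AlgebraicClosure (S.residueField s)
  let sb : Spec (CommRingCat.of Ω) ⟶ S :=
    Spec.map (CommRingCat.ofHom (algebraMap (S.residueField s) Ω)) ≫ S.fromSpecResidueField s
  have hsb : ∀ q : ↥(Spec (CommRingCat.of Ω)), sb q = s := by
    intro q
    dsimp only [sb]
    rw [Scheme.Hom.comp_apply]
    exact Scheme.fromSpecResidueField_apply _ _
  obtain ⟨p⟩ := hc Ω sb
  refine ⟨(pullback.fst f sb) p, ?_⟩
  have e := congrArg (fun m : pullback f sb ⟶ S => m p) (pullback.condition (f := f) (g := sb))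
  have e' : f ((pullback.fst f sb) p) = sb ((pullback.snd f sb) p) := e
  rw [e', hsb]

set_option backward.isDefEq.respectTransparency.types false in
theorem sections_pull_bijective_of_flat {T S : Scheme.{u}} (f : T ⟶ S) [Flat f] [QuasiCompact f]
    (hc : ∀ (Ω : Type u) [Field Ω] [IsAlgClosed Ω] (s : Spec (CommRingCat.of Ω) ⟶ S),
      ConnectedSpace ↥(pullback f s))
    (F : EtCoh.Ab S) :
    Function.Bijective (((EtCoh.pullPushAdj f).unit.app F).hom.app (op (EtCoh.top S))) := by
  haveI : Surjective f := surjective_of_geometric_fibres_nonempty f (fun Ω _ _ s => by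
    haveI := hc Ω s
    infer_instance)
  apply Groth.Agent.Lib.T2H8FibreConstAb.sections_pull_bijective f _ hc F
  intro S' g
  exact Flat.isQuotientMap_of_surjective (pullback.snd f g)

end Groth.Agent.Lib.T2H8FlatConn
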