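import Mathlib

set_option autoImplicit false
open TensorProduct

namespace Groth.Agent.Lib.T2H8TensorDomain

section Eval

variable (k : Type*) [Field k] [IsAlgClosed k] (A : Type*) [CommRing A] [Algebra k A]

/-- evaluation at a maximal ideal of a finitely generated algebra over an algebraically closed
field. -/
lemma exists_eval [Algebra.FiniteType k A] (m : Ideal A) [m.IsMaximal] :
    ∃ ev : A →ₐ[k] k, ∀ a : A, ev a = 0 ↔ a ∈ m := by
  letI : Field (A ⧸ m) := Ideal.Quotient.field m
  haveI : Algebra.FiniteType k (A ⧸ m) :=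
    Algebra.FiniteType.of_surjective (Ideal.Quotient.mkₐ k m) (Ideal.Quotient.mkₐ_surjective k m)
  haveI : Module.Finite k (A ⧸ m) := finite_of_finite_type_of_isJacobsonRing k (A ⧸ m)
  have hb : Function.Bijective (algebraMap k (A ⧸ m)) :=
    IsAlgClosed.algebraMap_bijective_of_isIntegral
  let e : k ≃ₐ[k] (A ⧸ m) := AlgEquiv.ofBijective (Algebra.ofId k (A ⧸ m)) hb
  refine ⟨e.symm.toAlgHom.comp (Ideal.Quotient.mkₐ k m), fun a => ?_⟩
  change e.symm (Ideal.Quotient.mk m a) = 0 ↔ _
  rw [map_eq_zero_iff _ e.symm.injective, Ideal.Quotient.eq_zero_iff_mem]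

end Eval


section Key

variable (k : Type*) [Field k] [IsAlgClosed k] (A B : Type*) [CommRing A] [CommRing B]
  [Algebra k A] [Algebra k B] [IsDomain A] [IsDomain B]

lemma mul_eq_zero_of_finiteType [Algebra.FiniteType k A] (x y : A ⊗[k] B) (h : x * y = 0) :
    x = 0 ∨ y = 0 := by
  classical
  let ι := Module.Free.ChooseBasisIndex k B
  let b : Module.Basis ι k B := Module.Free.chooseBasis k B
  let E := TensorProduct.equivFinsuppOfBasisRight (M := A) b
  have key : ∀ (m : Ideal A) [m.IsMaximal], (∀ i, E x i ∈ m) ∨ (∀ j, E y j ∈ m) := by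
    intro m _
    obtain ⟨ev, hev⟩ := exists_eval k A m
    let Φ : A ⊗[k] B →ₐ[k] B :=
      (Algebra.TensorProduct.lid k B).toAlgHom.comp (Algebra.TensorProduct.map ev (AlgHom.id k B))
    have hΦ : ∀ z : A ⊗[k] B, ∀ i, b.repr (Φ z) i = ev (E z i) := by
      intro z i
      induction z using TensorProduct.induction_on with
      | zero => simp
      | tmul a c =>
        simp [Φ, E, TensorProduct.equivFinsuppOfBasisRight_apply_tmul_apply, mul_comm]
      | add z₁ z₂ h₁ h₂ => simp [map_add, h₁, h₂]
    have h0 : Φ x * Φ y = 0 := by rw [← map_mul, h, map_zero]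
    rcases mul_eq_zero.mp h0 with hx | hy
    · left
      intro i
      rw [← hev, ← hΦ, hx]
      simp
    · right
      intro j
      rw [← hev, ← hΦ, hy]
      simp
  have hprod : ∀ i j, E x i * E y j = 0 := by
    intro i j
    haveI hJ : IsJacobsonRing A := isJacobsonRing_of_finiteType (A := k)
    have hbot : (⊥ : Ideal A).jacobson = ⊥ := IsJacobsonRing.out hJ Ideal.isRadical_bot
    have hmem : E x i * E y j ∈ (⊥ : Ideal A).jacobson := by
      rw [Ideal.jacobson, Ideal.mem_sInf]
      rintro m ⟨-, hm⟩
      rcases key m with h1 | h2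
      · exact m.mul_mem_right _ (h1 i)
      · exact m.mul_mem_left _ (h2 j)
    rw [hbot] at hmem
    exact hmem
  by_cases hx : x = 0
  · exact Or.inl hx
  · right
    have hEx : E x ≠ 0 := fun h0 => hx (E.injective (h0.trans (map_zero E).symm))
    obtain ⟨i, hi⟩ := Finsupp.ne_iff.mp hEx
    apply E.injective
    ext j
    have := hprod i j
    rcases mul_eq_zero.mp this with h1 | h2
    · exact absurd h1 hi
    · simpa using h2

end Key


section Main

variable (k : Type*) [Field k] [IsAlgClosed k] (A B : Type*) [CommRing A] [CommRing B]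
  [Algebra k A] [Algebra k B] [IsDomain A] [IsDomain B]

lemma mul_eq_zero_tensor (x y : A ⊗[k] B) (h : x * y = 0) : x = 0 ∨ y = 0 := by
  classical
  let ι := Module.Free.ChooseBasisIndex k B
  let b : Module.Basis ι k B := Module.Free.chooseBasis k B
  let E := TensorProduct.equivFinsuppOfBasisRight (M := A) b
  let S : Finset A := (E x).support.image (E x) ∪ (E y).support.image (E y)
  let A₀ : Subalgebra k A := Algebra.adjoin k (S : Set A)
  haveI : Algebra.FiniteType k A₀ :=
    (Subalgebra.fg_iff_finiteType A₀).mp (Subalgebra.fg_adjoin_finset S)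
  let incl : A₀ ⊗[k] B →ₐ[k] A ⊗[k] B := Algebra.TensorProduct.map A₀.val (AlgHom.id k B)
  have hinj : Function.Injective incl := by
    have := Module.Flat.rTensor_preserves_injective_linearMap (M := B) A₀.val.toLinearMap
      Subtype.val_injective
    exact this
  have hrange : ∀ z : A ⊗[k] B, (∀ i ∈ (E z).support, E z i ∈ A₀) → z ∈ incl.range := by
    intro z hz
    rw [← E.symm_apply_apply z, TensorProduct.equivFinsuppOfBasisRight_symm_apply]
    apply sum_mem
    intro i hi
    exact ⟨(⟨E z i, hz i hi⟩ : A₀) ⊗ₜ b i, by simp [incl]⟩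
  obtain ⟨x₀, hx₀⟩ := hrange x (fun i hi => Algebra.subset_adjoin (by
    simp only [S, Finset.coe_union, Finset.coe_image, Set.mem_union, Set.mem_image]
    exact Or.inl ⟨i, hi, rfl⟩))
  obtain ⟨y₀, hy₀⟩ := hrange y (fun i hi => Algebra.subset_adjoin (by
    simp only [S, Finset.coe_union, Finset.coe_image, Set.mem_union, Set.mem_image]
    exact Or.inr ⟨i, hi, rfl⟩))
  have h0 : x₀ * y₀ = 0 := by
    apply hinj
    rw [map_mul, map_zero]
    exact (congrArg₂ (· * ·) hx₀ hy₀).trans h
  rcases mul_eq_zero_of_finiteType k A₀ B x₀ y₀ h0 with h1 | h1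
  · left
    rw [← hx₀]
    exact (congrArg incl h1).trans (map_zero incl)
  · right
    rw [← hy₀]
    exact (congrArg incl h1).trans (map_zero incl)

/-- the tensor product of two domains over an algebraically closed field is a domain. -/
theorem isDomain_tensorProduct : IsDomain (A ⊗[k] B) := by
  haveI : Nontrivial (A ⊗[k] B) :=
    (Algebra.TensorProduct.includeLeft_injective (R := k) (S := k) (A := A) (B := B)
      (FaithfulSMul.algebraMap_injective k B)).nontrivial
  haveI : NoZeroDivisors (A ⊗[k] B) := ⟨fun {x y} h => mul_eq_zero_tensor k A B x y h⟩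
  exact NoZeroDivisors.to_isDomain _

end Main

end Groth.Agent.Lib.T2H8TensorDomain
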