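import Mathlib
import Groth.Agent.Lib.T2H8TensorDomain

set_option autoImplicit false
open TensorProduct

namespace Groth.Agent.Lib.T2H8SepClosedTensor

section PowMem

variable (k k' K : Type*) [Field k] [Field k'] [Field K] [Algebra k k'] [Algebra k K]
  [IsPurelyInseparable k k'] (q : ℕ) [ExpChar k q]

/-- every element of `k' ⊗ K` has a `q`-power in `K` when `k'/k` is purely inseparable. -/
lemma exists_pow_mem_range (z : k' ⊗[k] K) :
    ∃ (n : ℕ) (y : K), z ^ q ^ n = (1 : k') ⊗ₜ[k] y := by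
  haveI : ExpChar (k' ⊗[k] K) q :=
    expChar_of_injective_algebraMap (FaithfulSMul.algebraMap_injective k (k' ⊗[k] K)) q
  induction z using TensorProduct.induction_on with
  | zero => exact ⟨0, 0, by simp⟩
  | tmul c x =>
    obtain ⟨n, d, hd⟩ := IsPurelyInseparable.pow_mem k q c
    refine ⟨n, d • x ^ q ^ n, ?_⟩
    rw [Algebra.TensorProduct.tmul_pow, ← hd, Algebra.algebraMap_eq_smul_one, TensorProduct.smul_tmul]
  | add z₁ z₂ h₁ h₂ =>
    obtain ⟨n₁, y₁, e₁⟩ := h₁
    obtain ⟨n₂, y₂, e₂⟩ := h₂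
    refine ⟨n₁ + n₂, y₁ ^ q ^ n₂ + y₂ ^ q ^ n₁, ?_⟩
    rw [add_pow_expChar_pow, TensorProduct.tmul_add]
    congr 1
    · rw [pow_add, pow_mul, e₁, Algebra.TensorProduct.tmul_pow, one_pow]
    · rw [add_comm n₁ n₂, pow_add, pow_mul, e₂, Algebra.TensorProduct.tmul_pow, one_pow]

end PowMem


section Prime

variable (k k' K : Type*) [Field k] [Field k'] [Field K] [Algebra k k'] [Algebra k K]
  [IsPurelyInseparable k k']

lemma includeRight_injective' :
    Function.Injective (fun y : K => (1 : k') ⊗ₜ[k] y) :=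
  Algebra.TensorProduct.includeRight_injective (R := k) (A := k') (B := K)
    (FaithfulSMul.algebraMap_injective k k')

/-- the nilradical of `k' ⊗ K` is prime for `k'/k` purely inseparable. -/
lemma nilradical_isPrime : (nilradical (k' ⊗[k] K)).IsPrime := by
  let q := ringExpChar k
  haveI : ExpChar k q := ringExpChar.expChar k
  have hinj := includeRight_injective' k k' K
  haveI : Nontrivial (k' ⊗[k] K) := hinj.nontrivial
  rw [Ideal.isPrime_iff]
  refine ⟨?_, ?_⟩
  · intro h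
    have h1 : (1 : k' ⊗[k] K) ∈ nilradical (k' ⊗[k] K) := h ▸ Submodule.mem_top
    rw [mem_nilradical] at h1
    obtain ⟨m, hm⟩ := h1
    rw [one_pow] at hm
    exact one_ne_zero hm
  · intro z w hzw
    simp only [mem_nilradical] at hzw ⊢
    obtain ⟨n₁, y₁, e₁⟩ := exists_pow_mem_range k k' K q z
    obtain ⟨n₂, y₂, e₂⟩ := exists_pow_mem_range k k' K q w
    obtain ⟨m, hm⟩ := hzw
    have e3 : (z * w) ^ (q ^ (n₁ + n₂)) = (1 : k') ⊗ₜ[k] (y₁ ^ q ^ n₂ * y₂ ^ q ^ n₁) := by
      rw [mul_pow]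
      have a1 : z ^ q ^ (n₁ + n₂) = (1 : k') ⊗ₜ[k] (y₁ ^ q ^ n₂) := by
        rw [pow_add, pow_mul, e₁, Algebra.TensorProduct.tmul_pow, one_pow]
      have a2 : w ^ q ^ (n₁ + n₂) = (1 : k') ⊗ₜ[k] (y₂ ^ q ^ n₁) := by
        rw [add_comm n₁ n₂, pow_add, pow_mul, e₂, Algebra.TensorProduct.tmul_pow, one_pow]
      rw [a1, a2, Algebra.TensorProduct.tmul_mul_tmul, one_mul]
    have e4 : (1 : k') ⊗ₜ[k] ((y₁ ^ q ^ n₂ * y₂ ^ q ^ n₁) ^ m) = 0 := by
      have : ((z * w) ^ (q ^ (n₁ + n₂))) ^ m = 0 := by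
        rw [← pow_mul, Nat.mul_comm, pow_mul, hm, zero_pow]
        exact (pow_pos (expChar_pos k q) _).ne'
      rw [e3, Algebra.TensorProduct.tmul_pow, one_pow] at this
      exact this
    have e5 : (y₁ ^ q ^ n₂ * y₂ ^ q ^ n₁) ^ m = 0 :=
      hinj (e4.trans (TensorProduct.tmul_zero K (1 : k')).symm)
    rcases mul_eq_zero.mp (eq_zero_of_pow_eq_zero e5) with h1 | h1
    · left
      refine ⟨q ^ n₁, ?_⟩
      rw [e₁, eq_zero_of_pow_eq_zero h1, TensorProduct.tmul_zero]
    · right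
      refine ⟨q ^ n₂, ?_⟩
      rw [e₂, eq_zero_of_pow_eq_zero h1, TensorProduct.tmul_zero]

end Prime


section Main

universe u v w

variable (k : Type u) (K : Type v) (Ω : Type w) [Field k] [IsSepClosed k] [Field K] [Field Ω]
  [IsAlgClosed Ω] [Algebra k K] [Algebra k Ω]

/-- over a separably closed field `k`, the tensor product of an algebraically closed extension
and an arbitrary extension has only trivial idempotents. -/
theorem eq_zero_or_one_of_isIdempotentElem (e : Ω ⊗[k] K) (he : IsIdempotentElem e) :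
    e = 0 ∨ e = 1 := by
  let k' := AlgebraicClosure k
  let j : k' →ₐ[k] Ω := IsAlgClosed.lift
  letI : Algebra k' Ω := j.toRingHom.toAlgebra
  haveI : IsScalarTower k k' Ω := IsScalarTower.of_algebraMap_eq (fun x => (j.commutes x).symm)
  haveI hP := nilradical_isPrime k k' K
  haveI : IsDomain ((k' ⊗[k] K) ⧸ nilradical (k' ⊗[k] K)) := Ideal.Quotient.isDomain _
  haveI : IsDomain (Ω ⊗[k'] ((k' ⊗[k] K) ⧸ nilradical (k' ⊗[k] K))) :=
    Groth.Agent.Lib.T2H8TensorDomain.isDomain_tensorProduct k' Ω _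
  let π : (k' ⊗[k] K) →ₐ[k'] ((k' ⊗[k] K) ⧸ nilradical (k' ⊗[k] K)) :=
    Ideal.Quotient.mkₐ k' (nilradical (k' ⊗[k] K))
  have hπ : Function.Surjective π := Ideal.Quotient.mkₐ_surjective k' _
  let Ψ₁ : Ω ⊗[k'] (k' ⊗[k] K) →ₐ[k'] Ω ⊗[k'] ((k' ⊗[k] K) ⧸ nilradical (k' ⊗[k] K)) :=
    Algebra.TensorProduct.map (AlgHom.id k' Ω) π
  let c : Ω ⊗[k'] (k' ⊗[k] K) ≃ₐ[k'] Ω ⊗[k] K :=
    Algebra.TensorProduct.cancelBaseChange k k' k' Ω K
  have hker : ∀ z : Ω ⊗[k'] (k' ⊗[k] K), Ψ₁ z = 0 → IsNilpotent z := by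
    intro z hz
    have h1 : z ∈ RingHom.ker Ψ₁ := hz
    rw [Algebra.TensorProduct.lTensor_ker π hπ] at h1
    have h2 : (RingHom.ker π).map
        (Algebra.TensorProduct.includeRight : (k' ⊗[k] K) →ₐ[k'] Ω ⊗[k'] (k' ⊗[k] K)) ≤
        nilradical (Ω ⊗[k'] (k' ⊗[k] K)) := by
      rw [Ideal.map_le_iff_le_comap]
      intro a ha
      have ha' : a ∈ nilradical (k' ⊗[k] K) := by
        have : π a = 0 := ha
        exact Ideal.Quotient.eq_zero_iff_mem.mp this
      rw [Ideal.mem_comap, mem_nilradical]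
      exact (mem_nilradical.mp ha').map _
    exact mem_nilradical.mp (h2 h1)
  have key : ∀ e' : Ω ⊗[k'] (k' ⊗[k] K), IsIdempotentElem e' → e' = 0 ∨ e' = 1 := by
    intro e' he'
    have hΨ : IsIdempotentElem (Ψ₁ e') := he'.map Ψ₁
    rcases IsIdempotentElem.iff_eq_zero_or_one.mp hΨ with h0 | h1
    · left
      exact he'.eq_zero_of_isNilpotent (hker e' h0)
    · right
      have h2 : Ψ₁ (1 - e') = 0 := by rw [map_sub, map_one, h1, sub_self]
      have h3 := he'.one_sub.eq_zero_of_isNilpotent (hker _ h2)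
      exact (sub_eq_zero.mp h3).symm
  have he' : IsIdempotentElem (c.symm e) := he.map c.symm
  rcases key _ he' with h0 | h1
  · left
    have := congrArg c h0
    rwa [AlgEquiv.apply_symm_apply, map_zero] at this
  · right
    have := congrArg c h1
    rwa [AlgEquiv.apply_symm_apply, map_one] at this

end Main


section Spectrum

universe u v w

variable (k : Type u) (K : Type v) (Ω : Type w) [Field k] [IsSepClosed k] [Field K] [Field Ω]
  [IsAlgClosed Ω] [Algebra k K] [Algebra k Ω]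

/-- `Spec (Ω ⊗ K)` is connected over a separably closed field. -/
theorem connectedSpace_primeSpectrum : ConnectedSpace (PrimeSpectrum (Ω ⊗[k] K)) := by
  haveI : Nontrivial (Ω ⊗[k] K) :=
    (Algebra.TensorProduct.includeLeft_injective (R := k) (S := k) (A := Ω) (B := K)
      (FaithfulSMul.algebraMap_injective k K)).nontrivial
  rw [connectedSpace_iff_clopen]
  refine ⟨inferInstance, fun s hs => ?_⟩
  obtain ⟨e, he, rfl⟩ := PrimeSpectrum.isClopen_iff.mp hs
  rcases eq_zero_or_one_of_isIdempotentElem k K Ω e he with rfl | rfl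
  · left
    rw [PrimeSpectrum.basicOpen_zero]
    rfl
  · right
    rw [PrimeSpectrum.basicOpen_one]
    rfl

end Spectrum

end Groth.Agent.Lib.T2H8SepClosedTensor
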