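import Mathlib
import Groth.Prelude.Def_EtCore
import Groth.Agent.Lib.T2H8SepClosedTensor
import Groth.Agent.Lib.T2H8FlatConn

set_option autoImplicit false
universe u
open CategoryTheory CategoryTheory.Limits AlgebraicGeometry Opposite TensorProduct

namespace Groth.Agent.Lib.T2H8FieldExt

section Fibre

variable {k K : Type u} [Field k] [IsSepClosed k] [Field K] [Algebra k K]
  {S : Scheme.{u}} (a : S ⟶ Spec (CommRingCat.of k))

set_option backward.isDefEq.respectTransparency.types false in
/-- the geometric fibres of `S_K ⟶ S` are connected when `k` is separably closed. -/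
theorem connectedSpace_fibre (Ω : Type u) [Field Ω] [IsAlgClosed Ω]
    (s : Spec (CommRingCat.of Ω) ⟶ S) :
    ConnectedSpace ↥(pullback (pullback.fst a (Spec.map (CommRingCat.ofHom (algebraMap k K)))) s) := by
  let c : Spec (CommRingCat.of K) ⟶ Spec (CommRingCat.of k) :=
    Spec.map (CommRingCat.ofHom (algebraMap k K))
  -- the `k`-algebra structure of `Ω`
  obtain ⟨φ, hφ⟩ := Spec.map_surjective (s ≫ a)
  letI : Algebra k Ω := φ.hom.toAlgebra
  have hφ' : Spec.map (CommRingCat.ofHom (algebraMap k Ω)) = s ≫ a := hφ
  haveI := Groth.Agent.Lib.T2H8SepClosedTensor.connectedSpace_primeSpectrum k K Ω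
  -- the chain of isomorphisms
  let e₁ : pullback (pullback.fst a c) s ≅ pullback s (pullback.fst a c) := pullbackSymmetry _ _
  let e₂ : pullback s (pullback.fst a c) ≅ pullback (s ≫ a) c := pullbackRightPullbackFstIso a c s
  let e₃ : pullback (s ≫ a) c ≅ pullback (Spec.map (CommRingCat.ofHom (algebraMap k Ω))) c :=
    pullback.congrHom hφ'.symm rfl
  let e₄ : pullback (Spec.map (CommRingCat.ofHom (algebraMap k Ω))) c ≅
      Spec (CommRingCat.of (Ω ⊗[k] K)) := pullbackSpecIso k Ω K
  let e := e₁ ≪≫ e₂ ≪≫ e₃ ≪≫ e₄
  haveI : ConnectedSpace ↥(Spec (CommRingCat.of (Ω ⊗[k] K))) :=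
    inferInstanceAs (ConnectedSpace (PrimeSpectrum (Ω ⊗[k] K)))
  exact (Scheme.homeoOfIso e.symm).surjective.connectedSpace (Scheme.homeoOfIso e.symm).continuous

end Fibre


section Main

variable {k K : Type u} [Field k] [IsSepClosed k] [Field K] [Algebra k K]
  {S : Scheme.{u}} (a : S ⟶ Spec (CommRingCat.of k))

set_option backward.isDefEq.respectTransparency.types false in
instance flat_specMap_field : Flat (Spec.map (CommRingCat.ofHom (algebraMap k K))) := by
  rw [HasRingHomProperty.Spec_iff (P := @Flat)]
  exact (RingHom.flat_algebraMap_iff.mpr inferInstance)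

set_option backward.isDefEq.respectTransparency.types false in
/-- `S0095`. -/
theorem sections_pull_bijective_field_ext (F : EtCoh.Ab S) :
    Function.Bijective (((EtCoh.pullPushAdj
      (pullback.fst a (Spec.map (CommRingCat.ofHom (algebraMap k K))))).unit.app F).hom.app
        (op (EtCoh.top S))) := by
  haveI : Flat (pullback.fst a (Spec.map (CommRingCat.ofHom (algebraMap k K)))) := inferInstance
  haveI : QuasiCompact (pullback.fst a (Spec.map (CommRingCat.ofHom (algebraMap k K)))) :=
    inferInstance
  exact Groth.Agent.Lib.T2H8FlatConn.sections_pull_bijective_of_flat _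
    (fun Ω _ _ s => connectedSpace_fibre a Ω s) F

end Main

end Groth.Agent.Lib.T2H8FieldExt
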