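import Mathlib
import Groth.Prelude.Def_EtBase
import Groth.Agent.Lib.T2H8FLCSerre
import Groth.Agent.Lib.Helper16EtGlue
import Groth.Agent.Lib.Helper20EtSplitSch
import Groth.Agent.Lib.T2H8FiniteSplit

set_option autoImplicit false
set_option linter.unusedSectionVars false
set_option linter.style.haveILetI false
universe u
open CategoryTheory CategoryTheory.Limits Opposite AlgebraicGeometry

/-!
# Direct image of finite locally constant sheaves along finite étale morphisms (helper8)
-/

namespace Groth.Agent.Lib.T2H8.FinEtPush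
open Groth.Agent.Lib.T2H8.FLC Groth.Agent.Lib.T2H8.LocTriv Groth.Agent.Lib.T2H8.FLCSerre
open Groth.Agent.Lib.Helper16.SmallEtale Groth.Agent.Lib.Helper16.EtGlue

section Geometry

variable {X Y V : Scheme.{u}} (f : X ⟶ Y) (g : V ⟶ Y) [Etale g] {n : ℕ}
  (top : (∐ fun _ : Fin n => V) ⟶ X)
  (hpb : IsPullback top (Sigma.desc fun _ : Fin n => 𝟙 V) f g)

/-- the `k`-th section of the split cover -/
noncomputable def sec (k : Fin n) : V ⟶ X := Sigma.ι (fun _ : Fin n => V) k ≫ top

include hpb in
lemma sec_comp (k : Fin n) : sec top k ≫ f = g := by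
  rw [sec, Category.assoc, hpb.w, ← Category.assoc, Sigma.ι_desc, Category.id_comp]

include hpb in
lemma etale_top : Etale top := by
  exact MorphismProperty.of_isPullback (P := @Etale) hpb.flip inferInstance

include hpb in
lemma etale_sec (k : Fin n) : Etale (sec top k) := by
  haveI := etale_top f g top hpb
  unfold sec
  infer_instance

/-- the data of a scheme étale over `V` -/
structure OverV (g : V ⟶ Y) where
  (W : Y.Etale)
  (h : W.left ⟶ V)
  (w : h ≫ g = W.hom)

variable {g}

lemma OverV.etale_h (A : OverV g) : Etale A.h := by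
  haveI : Etale (A.h ≫ g) := by rw [A.w]; infer_instance
  exact Etale.of_comp A.h g

/-- restriction of the data along a morphism of `Y.Etale` -/
noncomputable def OverV.res (A : OverV g) {W' : Y.Etale} (ψ : W' ⟶ A.W) : OverV g where
  W := W'
  h := ψ.left ≫ A.h
  w := by rw [Category.assoc, A.w]; exact MorphismProperty.Over.w ψ

variable (A : OverV g) (hs : ∀ k, Etale (sec top k)) (hsf : ∀ k, sec top k ≫ f = g)

/-- `W` as an étale `X`-scheme through the `k`-th section -/
noncomputable def Wk (k : Fin n) : X.Etale :=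
  haveI := hs k
  haveI := A.etale_h
  Scheme.Etale.mk (A.h ≫ sec top k)

lemma Wk_hom (k : Fin n) : (Wk top A hs k).hom = A.h ≫ sec top k := rfl

include hsf in
lemma sk_cond (k : Fin n) : 𝟙 A.W.left ≫ A.W.hom = (A.h ≫ sec top k) ≫ f := by
  rw [Category.id_comp, Category.assoc, hsf k, A.w]

/-- the `k`-th section of the base change of `W` -/
noncomputable def sk (k : Fin n) : Wk top A hs k ⟶ (EtCoh.bc f).obj A.W :=
  MorphismProperty.Over.homMk
    (show A.W.left ⟶ ((EtCoh.bc f).obj A.W).left from
      pullback.lift (𝟙 A.W.left) (A.h ≫ sec top k) (sk_cond f top A hsf k))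
    (by
      change pullback.lift _ _ _ ≫ pullback.snd A.W.hom f = _
      rw [pullback.lift_snd]; rfl) trivial

lemma sk_left_fst (k : Fin n) :
    (sk f top A hs hsf k).left ≫ (pullback.fst A.W.hom f : ((EtCoh.bc f).obj A.W).left ⟶ A.W.left) =
      𝟙 A.W.left := by
  change pullback.lift _ _ _ ≫ _ = _
  exact pullback.lift_fst _ _ _

lemma sk_left_snd (k : Fin n) :
    (sk f top A hs hsf k).left ≫ (pullback.snd A.W.hom f : ((EtCoh.bc f).obj A.W).left ⟶ X) =
      A.h ≫ sec top k := by
  change pullback.lift _ _ _ ≫ _ = _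
  exact pullback.lift_snd _ _ _

variable {W' : Y.Etale} (ψ : W' ⟶ A.W)

/-- restriction between the `k`-th copies -/
noncomputable def rk (k : Fin n) : Wk top (A.res ψ) hs k ⟶ Wk top A hs k :=
  MorphismProperty.Over.homMk (show W'.left ⟶ A.W.left from ψ.left)
    (by
      change ψ.left ≫ A.h ≫ sec top k = (ψ.left ≫ A.h) ≫ sec top k
      rw [Category.assoc]) trivial

lemma rk_left (k : Fin n) : (rk top A hs ψ k).left = ψ.left := rfl

lemma rk_sk (k : Fin n) :
    rk top A hs ψ k ≫ sk f top A hs hsf k =
      sk f top (A.res ψ) hs hsf k ≫ (EtCoh.bc f).map ψ := by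
  apply MorphismProperty.Over.Hom.ext
  change ψ.left ≫ (sk f top A hs hsf k).left =
    (sk f top (A.res ψ) hs hsf k).left ≫ ((EtCoh.bc f).map ψ).left
  apply pullback.hom_ext
  · have e1 := sk_left_fst f top A hs hsf k
    have e2 := sk_left_fst f top (A.res ψ) hs hsf k
    have e3 := bc_map_left_fst f ψ
    calc (ψ.left ≫ (sk f top A hs hsf k).left) ≫ pullback.fst A.W.hom f
        = ψ.left ≫ ((sk f top A hs hsf k).left ≫ pullback.fst A.W.hom f) := Category.assoc _ _ _
      _ = ψ.left ≫ 𝟙 _ := whisker_eq _ e1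
      _ = ψ.left := Category.comp_id _
      _ = 𝟙 _ ≫ ψ.left := (Category.id_comp _).symm
      _ = ((sk f top (A.res ψ) hs hsf k).left ≫ pullback.fst W'.hom f) ≫ ψ.left :=
          eq_whisker e2.symm _
      _ = (sk f top (A.res ψ) hs hsf k).left ≫ (pullback.fst W'.hom f ≫ ψ.left) :=
          Category.assoc _ _ _
      _ = (sk f top (A.res ψ) hs hsf k).left ≫ (((EtCoh.bc f).map ψ).left ≫
            pullback.fst A.W.hom f) := whisker_eq _ e3.symm
      _ = _ := (Category.assoc _ _ _).symm
  · have e1 := sk_left_snd f top A hs hsf k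
    have e2 := sk_left_snd f top (A.res ψ) hs hsf k
    have e3 := bc_map_left_snd f ψ
    calc (ψ.left ≫ (sk f top A hs hsf k).left) ≫ pullback.snd A.W.hom f
        = ψ.left ≫ ((sk f top A hs hsf k).left ≫ pullback.snd A.W.hom f) := Category.assoc _ _ _
      _ = ψ.left ≫ (A.h ≫ sec top k) := whisker_eq _ e1
      _ = (ψ.left ≫ A.h) ≫ sec top k := (Category.assoc _ _ _).symm
      _ = (sk f top (A.res ψ) hs hsf k).left ≫ pullback.snd W'.hom f := e2.symm
      _ = (sk f top (A.res ψ) hs hsf k).left ≫ (((EtCoh.bc f).map ψ).left ≫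
            pullback.snd A.W.hom f) := whisker_eq _ e3.symm
      _ = _ := (Category.assoc _ _ _).symm

/-! ### the sections form a disjoint cover by monomorphisms -/

lemma mono_sk_left (k : Fin n) : Mono (sk f top A hs hsf k).left :=
  (SplitMono.mk _ (sk_left_fst f top A hs hsf k)).mono

include hpb in
/-- the projection of the base change of `W` to the split cover -/
lemma piAux_cond : pullback.snd A.W.hom f ≫ f = (pullback.fst A.W.hom f ≫ A.h) ≫ g := by
  rw [Category.assoc, A.w, pullback.condition]

/-- the projection of the base change of `W` to the split cover -/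
noncomputable def piAux : pullback A.W.hom f ⟶ ∐ fun _ : Fin n => V :=
  hpb.lift (pullback.snd A.W.hom f) (pullback.fst A.W.hom f ≫ A.h) (piAux_cond f top hpb A)

lemma piAux_top : piAux f top hpb A ≫ top = pullback.snd A.W.hom f := hpb.lift_fst _ _ _

lemma piAux_desc : piAux f top hpb A ≫ (Sigma.desc fun _ : Fin n => 𝟙 V) =
    pullback.fst A.W.hom f ≫ A.h := hpb.lift_snd _ _ _

lemma sk_piAux (k : Fin n) :
    (show A.W.left ⟶ pullback A.W.hom f from (sk f top A hs hsf k).left) ≫ piAux f top hpb A =
      A.h ≫ Sigma.ι (fun _ : Fin n => V) k := by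
  apply hpb.hom_ext
  · rw [Category.assoc, piAux_top, Category.assoc]
    exact sk_left_snd f top A hs hsf k
  · rw [Category.assoc, piAux_desc, Category.assoc, Sigma.ι_desc, Category.comp_id,
      ← Category.assoc]
    exact (eq_whisker (sk_left_fst f top A hs hsf k) _).trans (Category.id_comp _)

lemma isPullback_sk (k : Fin n) :
    IsPullback (show A.W.left ⟶ pullback A.W.hom f from (sk f top A hs hsf k).left) A.h
      (piAux f top hpb A) (Sigma.ι (fun _ : Fin n => V) k) := by
  refine ⟨⟨sk_piAux f top hpb A hs hsf k⟩, ⟨PullbackCone.IsLimit.mk _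
    (fun c => c.fst ≫ pullback.fst A.W.hom f) ?_ ?_ ?_⟩⟩
  · intro c
    have hc := c.condition
    have e0 : c.snd = c.fst ≫ pullback.fst A.W.hom f ≫ A.h := by
      have := congrArg (fun m => m ≫ (Sigma.desc fun _ : Fin n => 𝟙 V)) hc
      simp only [Category.assoc, Sigma.ι_desc, Category.comp_id] at this
      rw [piAux_desc] at this
      exact this.symm
    apply pullback.hom_ext
    · rw [Category.assoc]
      exact (whisker_eq _ (sk_left_fst f top A hs hsf k)).trans (Category.comp_id _)
    · rw [Category.assoc]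
      refine (whisker_eq _ (sk_left_snd f top A hs hsf k)).trans ?_
      rw [← piAux_top f top hpb A, ← Category.assoc c.fst, hc, e0]
      simp only [Category.assoc, sec]
      exact Category.assoc _ _ _
  · intro c
    have hc := c.condition
    have := congrArg (fun m => m ≫ (Sigma.desc fun _ : Fin n => 𝟙 V)) hc
    simp only [Category.assoc, Sigma.ι_desc, Category.comp_id] at this
    rw [piAux_desc] at this
    simpa only [Category.assoc] using this
  · intro c m hm1 hm2
    have := congrArg (fun q => q ≫ pullback.fst A.W.hom f) hm1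
    simp only [Category.assoc] at this
    rw [← this]
    exact ((whisker_eq _ (sk_left_fst f top A hs hsf k)).trans (Category.comp_id _)).symm

include hpb in
lemma sk_disjoint (k l : Fin n) (hkl : k ≠ l) (x y : A.W.left) :
    (sk f top A hs hsf k).left x ≠ (sk f top A hs hsf l).left y := by
  intro hxy
  have h1 := congrArg (piAux f top hpb A) hxy
  have e1 := congrArg (fun m => m x) (sk_piAux f top hpb A hs hsf k)
  have e2 := congrArg (fun m => m y) (sk_piAux f top hpb A hs hsf l)
  simp only [Scheme.Hom.comp_apply] at e1 e2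
  have h2 : Sigma.ι (fun _ : Fin n => V) k (A.h x) = Sigma.ι (fun _ : Fin n => V) l (A.h y) :=
    e1.symm.trans (h1.trans e2)
  have h3 := (sigmaι_eq_iff (fun _ : Fin n => V) k l _ _).1 h2
  exact hkl (congrArg Sigma.fst h3)

include hpb in
lemma sk_cover (p : ((EtCoh.bc f).obj A.W).left) :
    ∃ (k : Fin n) (x : A.W.left), (sk f top A hs hsf k).left x = p := by
  obtain ⟨k, v, hv⟩ := (sigmaOpenCover (fun _ : Fin n => V)).exists_eq
    (piAux f top hpb A p)
  obtain ⟨x, hx1, -⟩ := Groth.Agent.Lib.T2H8FiniteSplit.exists_preimage_of_isPullback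
    (isPullback_sk f top hpb A hs hsf k) p v hv.symm
  exact ⟨k, x, hx1⟩

end Geometry

section Common

/-- a common étale refinement of finitely many étale neighbourhoods of a point -/
theorem exists_common_fin {S : Scheme.{u}} (p : S) : ∀ (n : ℕ) (Z : Fin n → S.Etale)
    (_ : ∀ k, ∃ z : (Z k).left, (Z k).hom z = p),
    ∃ (W : S.Etale) (w : W.left), W.hom w = p ∧ ∀ k, Nonempty (W ⟶ Z k) := by
  intro n
  induction n with
  | zero =>
    intro Z _
    exact ⟨Scheme.Etale.mk (𝟙 S), p, rfl, fun k => k.elim0⟩
  | succ n ih =>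
    intro Z hz
    obtain ⟨W', w', hw', hW'⟩ := ih (fun k => Z k.castSucc) (fun k => hz _)
    obtain ⟨z, hz'⟩ := hz (Fin.last n)
    obtain ⟨W, a, b, w, hwa, hwb⟩ := exists_common W' (Z (Fin.last n)) w' z (hw'.trans hz'.symm)
    refine ⟨W, w, ?_, ?_⟩
    · have e : a.left ≫ W'.hom = W.hom := MorphismProperty.Over.w a
      rw [← e, Scheme.Hom.comp_apply]
      exact (congrArg _ hwa).trans hw'
    · intro k
      refine Fin.lastCases ?_ (fun k => ?_) k
      · exact ⟨b⟩
      · exact ⟨a ≫ (hW' k).some⟩

end Common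

section Sheaf

variable {X Y V : Scheme.{u}} (f : X ⟶ Y) {g : V ⟶ Y} [Etale g] {n : ℕ}
  (top : (∐ fun _ : Fin n => V) ⟶ X)
  (hpb : IsPullback top (Sigma.desc fun _ : Fin n => 𝟙 V) f g)
  (A : OverV g) (hs : ∀ k, Etale (sec top k)) (hsf : ∀ k, sec top k ≫ f = g)
  (F : EtCoh.Ab X)

lemma isSheaf_forget (G : EtCoh.Ab X) :
    Presieve.IsSheaf X.smallEtaleTopology (G.obj ⋙ forget AddCommGrpCat.{u + 1}) :=
  (isSheaf_iff_isSheaf_of_type _ _).mp
    ((Presheaf.isSheaf_iff_isSheaf_forget _ _ (forget AddCommGrpCat.{u + 1})).mp G.property)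

include hpb in
/-- sections over the base change of `W` are families of sections over the copies of `W` -/
theorem glue (t : ∀ k, F.obj.obj (op (Wk top A hs k))) :
    ∃! s : F.obj.obj (op ((EtCoh.bc f).obj A.W)),
      ∀ k, F.obj.map (sk f top A hs hsf k).op s = t k :=
  exists_unique_glue (F.obj ⋙ forget AddCommGrpCat.{u + 1}) (isSheaf_forget F)
    (fun k => Wk top A hs k) (fun k => sk f top A hs hsf k)
    (fun k => mono_sk_left f top A hs hsf k)
    (fun k l hkl x y => sk_disjoint f top hpb A hs hsf k l hkl x y)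
    (fun p => sk_cover f top hpb A hs hsf p) t

/-- all restrictions to the copies of `W` -/
noncomputable def resAll : F.obj.obj (op ((EtCoh.bc f).obj A.W)) →+
    (∀ k, F.obj.obj (op (Wk top A hs k))) :=
  AddMonoidHom.pi fun k => (F.obj.map (sk f top A hs hsf k).op).hom

lemma resAll_apply (s : F.obj.obj (op ((EtCoh.bc f).obj A.W))) (k : Fin n) :
    resAll f top A hs hsf F s k = F.obj.map (sk f top A hs hsf k).op s := rfl

include hpb in
lemma resAll_bijective : Function.Bijective (resAll f top A hs hsf F) := by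
  constructor
  · intro s s' hss
    obtain ⟨s₀, -, hu⟩ := glue f top hpb A hs hsf F (resAll f top A hs hsf F s)
    have e1 := hu s (fun k => rfl)
    have e2 := hu s' (fun k => (congrFun hss k).symm)
    rw [e1, e2]
  · intro t
    obtain ⟨s₀, hs₀, -⟩ := glue f top hpb A hs hsf F t
    exact ⟨s₀, funext hs₀⟩

variable (M : Fin n → AddCommGrpCat.{u + 1})
  (tk : ∀ k, M k ⟶ F.obj.obj (op (Wk top A hs k)))

/-- the product trivialization -/
noncomputable def tAll : AddCommGrpCat.of (∀ k, M k) ⟶
    ((EtCoh.push f).obj F).obj.obj (op A.W) :=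
  AddCommGrpCat.ofHom
    ((AddEquiv.ofBijective (resAll f top A hs hsf F)
      (resAll_bijective f top hpb A hs hsf F)).symm.toAddMonoidHom.comp
      (AddMonoidHom.pi fun k => (tk k).hom.comp (Pi.evalAddMonoidHom (fun k => M k) k)))

lemma tAll_spec (m : ∀ k, M k) (k : Fin n) :
    F.obj.map (sk f top A hs hsf k).op
      ((tAll f top hpb A hs hsf F M tk : _ ⟶ _) m :
        F.obj.obj (op ((EtCoh.bc f).obj A.W))) = tk k (m k) := by
  have h := (AddEquiv.ofBijective (resAll f top A hs hsf F)
      (resAll_bijective f top hpb A hs hsf F)).apply_symm_apply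
      (fun k => tk k (m k))
  exact congrFun h k

lemma push_map_apply {W W' : Y.Etale} (ψ : W' ⟶ W)
    (s : ((EtCoh.push f).obj F).obj.obj (op W)) :
    ((EtCoh.push f).obj F).obj.map ψ.op s =
      F.obj.map ((EtCoh.bc f).map ψ).op (show F.obj.obj (op ((EtCoh.bc f).obj W)) from s) := rfl

/-- the product trivialization as a section of `F` -/
noncomputable def sAll (m : ∀ k, M k) : F.obj.obj (op ((EtCoh.bc f).obj A.W)) :=
  (tAll f top hpb A hs hsf F M tk : _ ⟶ _) m

lemma sAll_spec (m : ∀ k, M k) (k : Fin n) :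
    F.obj.map (sk f top A hs hsf k).op (sAll f top hpb A hs hsf F M tk m) = tk k (m k) :=
  tAll_spec f top hpb A hs hsf F M tk m k

/-- restriction of the product trivialization, computed on the `k`-th copy -/
lemma sk_res_sAll {W' : Y.Etale} (ψ : W' ⟶ A.W) (m : ∀ k, M k) (k : Fin n) :
    F.obj.map (sk f top (A.res ψ) hs hsf k).op
      (F.obj.map ((EtCoh.bc f).map ψ).op (sAll f top hpb A hs hsf F M tk m)) =
      F.obj.map (rk top A hs ψ k).op (tk k (m k)) :=
  (map_map_apply F ((EtCoh.bc f).map ψ) (sk f top (A.res ψ) hs hsf k) _).trans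
    ((congrArg (fun q => F.obj.map q.op (sAll f top hpb A hs hsf F M tk m))
      (rk_sk f top A hs hsf ψ k).symm).trans
    ((map_map_apply F (sk f top A hs hsf k) (rk top A hs ψ k) _).symm.trans
      (congrArg _ (sAll_spec f top hpb A hs hsf F M tk m k))))

include hpb in
theorem isTriv_push (htk : ∀ k, IsTriv F (Wk top A hs k) (M k) (tk k)) :
    IsTriv ((EtCoh.push f).obj F) A.W (AddCommGrpCat.of (∀ k, M k))
      (tAll f top hpb A hs hsf F M tk) := by
  constructor
  · intro Y' ψ m m' hm
    by_cases hE : IsEmpty Y'.left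
    · right
      rw [mem_smallEtale_iff]
      intro x
      exact (hE.false x).elim
    · left
      rw [not_isEmpty_iff] at hE
      obtain ⟨y'⟩ := hE
      have hm' : F.obj.map ((EtCoh.bc f).map ψ).op (sAll f top hpb A hs hsf F M tk m) =
          F.obj.map ((EtCoh.bc f).map ψ).op (sAll f top hpb A hs hsf F M tk m') := hm
      funext k
      have h1 := sk_res_sAll f top hpb A hs hsf F M tk ψ m k
      have h2 := sk_res_sAll f top hpb A hs hsf F M tk ψ m' k
      rcases (htk k).inj _ (rk top A hs ψ k) (m k) (m' k)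
        (h1.symm.trans ((congrArg _ hm').trans h2)) with h | h
      · exact h
      · exact absurd h (bot_not_mem (show (Wk top (A.res ψ) hs k).left from y'))
  · intro Y' ψ z
    rw [mem_smallEtale_iff]
    intro y'
    let z' : F.obj.obj (op ((EtCoh.bc f).obj Y')) := z
    have h1 : ∀ k, ∃ (Zk : X.Etale) (c : Zk ⟶ Wk top (A.res ψ) hs k),
        (imgSieve F (tk k) (rk top A hs ψ k)
          (F.obj.map (sk f top (A.res ψ) hs hsf k).op z')) c ∧
          (show (Wk top (A.res ψ) hs k).left from y') ∈ Set.range c.left := fun k =>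
      exists_mem_range_of_mem ((htk k).surj _ (rk top A hs ψ k) _) _
    choose Zk c hc hy using h1
    let cl : ∀ k, (Zk k).left ⟶ Y'.left := fun k => (c k).left
    haveI hcl : ∀ k, Etale (cl k) := fun k => inferInstanceAs (Etale (c k).left)
    obtain ⟨W₂, w₂, hw₂, hW₂⟩ := exists_common_fin (S := Y'.left) y' n
      (fun k => Scheme.Etale.mk (cl k)) (fun k => hy k)
    let Z : Y.Etale := Scheme.Etale.mk (W₂.hom ≫ Y'.hom)
    let χ : Z ⟶ Y' := MorphismProperty.Over.homMk (show Z.left ⟶ Y'.left from W₂.hom) rfl trivial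
    refine ⟨Z, χ, w₂, ?_, hw₂⟩
    choose mk hmk using hc
    refine ⟨mk, ?_⟩
    let B : OverV g := (A.res ψ).res χ
    change F.obj.map ((EtCoh.bc f).map (χ ≫ ψ)).op (sAll f top hpb A hs hsf F M tk mk) =
      F.obj.map ((EtCoh.bc f).map χ).op z'
    apply (resAll_bijective f top hpb B hs hsf F).1
    funext k
    rw [resAll_apply, resAll_apply]
    let d : W₂ ⟶ Scheme.Etale.mk (cl k) := (hW₂ k).some
    have hd : d.left ≫ cl k = W₂.hom := MorphismProperty.Over.w d
    let e : Wk top B hs k ⟶ Zk k := MorphismProperty.Over.homMk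
      (show W₂.left ⟶ (Zk k).left from d.left)
      (by
        have e1 : (c k).left ≫ (Wk top (A.res ψ) hs k).hom = (Zk k).hom :=
          MorphismProperty.Over.w (c k)
        change d.left ≫ (Zk k).hom = (W₂.hom ≫ (A.res ψ).h) ≫ sec top k
        rw [← e1, ← hd]
        simp only [Category.assoc]
        rfl) trivial
    have he : e ≫ c k = rk top (A.res ψ) hs χ k := by
      apply MorphismProperty.Over.Hom.ext
      exact hd
    -- left-hand side
    have hL : F.obj.map (sk f top B hs hsf k).op
        (F.obj.map ((EtCoh.bc f).map (χ ≫ ψ)).op (sAll f top hpb A hs hsf F M tk mk)) =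
        F.obj.map (rk top (A.res ψ) hs χ k).op
          (F.obj.map (rk top A hs ψ k).op (tk k (mk k))) := by
      have a1 : F.obj.map ((EtCoh.bc f).map (χ ≫ ψ)).op (sAll f top hpb A hs hsf F M tk mk) =
          F.obj.map ((EtCoh.bc f).map χ).op
            (F.obj.map ((EtCoh.bc f).map ψ).op (sAll f top hpb A hs hsf F M tk mk)) :=
        (congrArg (fun q => F.obj.map q.op (sAll f top hpb A hs hsf F M tk mk))
          ((EtCoh.bc f).map_comp χ ψ)).trans
          (map_map_apply F ((EtCoh.bc f).map ψ) ((EtCoh.bc f).map χ) _).symm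
      refine (congrArg _ a1).trans ?_
      refine (map_map_apply F ((EtCoh.bc f).map χ) (sk f top B hs hsf k) _).trans ?_
      refine (congrArg (fun q => F.obj.map q.op
        (F.obj.map ((EtCoh.bc f).map ψ).op (sAll f top hpb A hs hsf F M tk mk)))
        (rk_sk f top (A.res ψ) hs hsf χ k).symm).trans ?_
      refine (map_map_apply F (sk f top (A.res ψ) hs hsf k) (rk top (A.res ψ) hs χ k) _).symm.trans ?_
      exact congrArg _ (sk_res_sAll f top hpb A hs hsf F M tk ψ mk k)
    have hR : F.obj.map (sk f top B hs hsf k).op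
        (F.obj.map ((EtCoh.bc f).map χ).op z') =
        F.obj.map (rk top (A.res ψ) hs χ k).op
          (F.obj.map (sk f top (A.res ψ) hs hsf k).op z') := by
      refine (map_map_apply F ((EtCoh.bc f).map χ) (sk f top B hs hsf k) _).trans ?_
      refine (congrArg (fun q => F.obj.map q.op z')
        (rk_sk f top (A.res ψ) hs hsf χ k).symm).trans ?_
      exact (map_map_apply F (sk f top (A.res ψ) hs hsf k) (rk top (A.res ψ) hs χ k) _).symm
    refine hL.trans (Eq.trans ?_ hR.symm)
    have hk := hmk k
    -- hk : F.map (c k ≫ rk A ψ k).op (tk k (mk k)) = F.map (c k).op (z_k)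
    have b1 : F.obj.map (rk top (A.res ψ) hs χ k).op
        (F.obj.map (rk top A hs ψ k).op (tk k (mk k))) =
        F.obj.map e.op (F.obj.map (c k ≫ rk top A hs ψ k).op (tk k (mk k))) := by
      refine (map_map_apply F (rk top A hs ψ k) (rk top (A.res ψ) hs χ k) _).trans ?_
      refine Eq.trans ?_ (map_map_apply F (c k ≫ rk top A hs ψ k) e _).symm
      have he' : rk top (A.res ψ) hs χ k ≫ rk top A hs ψ k = e ≫ c k ≫ rk top A hs ψ k := by
        rw [← he, Category.assoc]
      exact congrArg (fun q : Wk top B hs k ⟶ Wk top A hs k =>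
        F.obj.map q.op (tk k (mk k))) he'
    have b2 : F.obj.map (rk top (A.res ψ) hs χ k).op
        (F.obj.map (sk f top (A.res ψ) hs hsf k).op z') =
        F.obj.map e.op (F.obj.map (c k).op (F.obj.map (sk f top (A.res ψ) hs hsf k).op z')) := by
      refine Eq.trans ?_ (map_map_apply F (c k) e _).symm
      exact congrArg (fun q => F.obj.map q.op (F.obj.map (sk f top (A.res ψ) hs hsf k).op z')) he.symm
    exact b1.trans ((congrArg _ hk).trans b2.symm)

end Sheaf

section Main

variable {X Y : Scheme.{u}} (f : X ⟶ Y) [IsFinite f] [Etale f]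

theorem finTrivAt_push (F : EtCoh.Ab X) (hF : EtCoh.IsFiniteLocallyConstant F) (y : Y) :
    FinTrivAt ((EtCoh.push f).obj F) y := by
  obtain ⟨R', g, hg, v, hv, n, top, hpb⟩ :=
    Groth.Agent.Lib.Helper20.EtSplit.exists_isPullback_sigma f y
  have hs := etale_sec f g top hpb
  have hsf := sec_comp f g top hpb
  have h1 := fun k : Fin n => finTrivAt_of_flc F hF (sec top k v)
  choose U u hu M hM t ht using h1
  -- pull the neighbourhoods back along the sections
  haveI hfst : ∀ k, Etale (pullback.fst (sec top k) (U k).hom) := fun k => inferInstance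
  obtain ⟨W₁, w₁, hw₁, hW₁⟩ := exists_common_fin (S := Spec R') v n
    (fun k => Scheme.Etale.mk (pullback.fst (sec top k) (U k).hom))
    (fun k => by
      obtain ⟨z, hz1, -⟩ := Scheme.Pullback.exists_preimage_pullback
        (f := sec top k) (g := (U k).hom) v (u k) (hu k).symm
      exact ⟨z, hz1⟩)
  let A : OverV g := ⟨Scheme.Etale.mk (W₁.hom ≫ g), W₁.hom, rfl⟩
  let a : ∀ k, Wk top A hs k ⟶ U k := fun k =>
    MorphismProperty.Over.homMk
      (show W₁.left ⟶ (U k).left from (hW₁ k).some.left ≫ pullback.snd (sec top k) (U k).hom)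
      (by
        have e1 : (hW₁ k).some.left ≫ pullback.fst (sec top k) (U k).hom = W₁.hom :=
          MorphismProperty.Over.w (hW₁ k).some
        change ((hW₁ k).some.left ≫ pullback.snd (sec top k) (U k).hom) ≫ (U k).hom =
          W₁.hom ≫ sec top k
        exact (Category.assoc _ _ _).trans ((whisker_eq _ pullback.condition.symm).trans
          ((Category.assoc _ _ _).symm.trans (eq_whisker e1 _)))) trivial
  have htk : ∀ k, IsTriv F (Wk top A hs k) (M k) (t k ≫ F.obj.map (a k).op) :=
    fun k => (ht k).restrict F (a k)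
  haveI : ∀ k, Finite (M k) := hM
  refine ⟨A.W, w₁, ?_, AddCommGrpCat.of (∀ k, M k), Pi.finite, _,
    isTriv_push f top hpb A hs hsf F M _ htk⟩
  change g (W₁.hom w₁) = y
  rw [hw₁, hv]

/-- **the direct image of a finite locally constant sheaf along a finite étale morphism is
finite locally constant** -/
theorem main (F : EtCoh.Ab X) (hF : EtCoh.IsFiniteLocallyConstant F) :
    EtCoh.IsFiniteLocallyConstant ((EtCoh.push f).obj F) :=
  flc_of_finTrivAt _ fun y => finTrivAt_push f F hF y

end Main

end Groth.Agent.Lib.T2H8.FinEtPush
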