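import Mathlib
import Groth.Agent.Lib.Helper3HenselC
import Groth.Agent.Lib.Helper3HenselInt
import Groth.Agent.Lib.T2H8StrictHens
import Groth.Agent.Lib.T2H8GaEtale
import Groth.Agent.Lib.Helper16SmallEtale

set_option autoImplicit false
set_option linter.style.haveILetI false
universe u
open IsLocalRing CategoryTheory CategoryTheory.Limits AlgebraicGeometry Opposite

attribute [-instance] Groth.Agent.Lib.T2H8.AdeqRestr.instAlgebraCarrierRC
  Groth.Agent.Lib.T2H8.AdeqRestr.instIsScalarTowerCarrierRC

namespace Groth.Agent.Lib.T2H8.FinHens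

/-- a local ring finite over a strictly henselian local ring is strictly henselian -/
theorem strictHens_of_finite (R : Type u) [CommRing R] [HenselianLocalRing R]
    [IsSepClosed (ResidueField R)] (A : Type u) [CommRing A] [IsLocalRing A] [Algebra R A]
    [Module.Finite R A] : HenselianLocalRing A ∧ IsSepClosed (ResidueField A) := by
  haveI : Algebra.IsIntegral R A := Algebra.IsIntegral.of_finite R A
  refine ⟨Groth.Agent.Lib.Helper3.HenselInt.henselian_of_isIntegral R A, ?_⟩
  haveI : Module.Finite R (ResidueField A) :=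
    Module.Finite.of_surjective (IsScalarTower.toAlgHom R A (ResidueField A)).toLinearMap
      (residue_surjective)
  haveI : Algebra.IsIntegral R (ResidueField A) := Algebra.IsIntegral.of_finite R _
  haveI : Algebra.IsAlgebraic (ResidueField R) (ResidueField A) :=
    Algebra.IsAlgebraic.of_finite _ _
  exact Algebra.IsAlgebraic.isSepClosed (F := ResidueField R) (E := ResidueField A)

/-- a finite algebra over a strictly henselian local ring is a finite product of strictly
henselian local rings -/
theorem exists_pi_strictHens (R : Type u) [CommRing R] [HenselianLocalRing R]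
    [IsSepClosed (ResidueField R)] (B : Type u) [CommRing B] [Algebra R B] [Module.Finite R B] :
    ∃ (ι : Type u) (_ : Fintype ι) (A : ι → Type u) (_ : ∀ i, CommRing (A i))
      (_ : ∀ i, HenselianLocalRing (A i)),
      (∀ i, IsSepClosed (ResidueField (A i))) ∧ Nonempty (B ≃+* ∀ i, A i) := by
  obtain ⟨ι, hι, A, hA, hloc, ⟨e⟩⟩ :=
    Groth.Agent.Lib.Helper3.Hensel.exists_pi_isLocalRing_of_finite R B
  have key : ∀ i, HenselianLocalRing (A i) ∧ IsSepClosed (ResidueField (A i)) := by
    intro i
    haveI := hloc i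
    let ψ : B →+* A i := (Pi.evalRingHom A i).comp e.toRingHom
    have hψ : Function.Surjective ψ := by
      intro a
      classical
      refine ⟨e.symm (Function.update 0 i a), ?_⟩
      simp [ψ]
    letI : Algebra R (A i) := (ψ.comp (algebraMap R B)).toAlgebra
    let ψl : B →ₗ[R] A i :=
      { toFun := ψ
        map_add' := map_add ψ
        map_smul' := by
          intro r b
          simp only [Algebra.smul_def, map_mul, RingHom.id_apply]
          rfl }
    haveI : Module.Finite R (A i) := Module.Finite.of_surjective ψl hψ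
    exact strictHens_of_finite R (A i)
  exact ⟨ι, hι, A, hA, fun i => (key i).1, fun i => (key i).2, ⟨e⟩⟩

/-- a scheme finite over a strictly henselian local ring is a finite disjoint union of spectra of
strictly henselian local rings -/
theorem exists_strictHens_cover (R : Type u) [CommRing R] [HenselianLocalRing R]
    [IsSepClosed (ResidueField R)] (X : Scheme.{u}) (f : X ⟶ Spec (CommRingCat.of R))
    [IsFinite f] :
    ∃ (ι : Type u) (_ : Fintype ι) (A : ι → Type u) (_ : ∀ i, CommRing (A i))
      (_ : ∀ i, HenselianLocalRing (A i)) (_ : ∀ i, IsSepClosed (ResidueField (A i)))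
      (g : ∀ i, Spec (CommRingCat.of (A i)) ⟶ X),
      (∀ i, IsOpenImmersion (g i)) ∧ (∀ x : X, ∃ i y, g i y = x) ∧
        (∀ i j y z, g i y = g j z → i = j) := by
  haveI : IsAffine X := isAffine_of_isAffineHom f
  let φ : CommRingCat.of R ⟶ Γ(X, ⊤) := (Scheme.ΓSpecIso (CommRingCat.of R)).inv ≫ f.appTop
  have hφ : φ.hom.Finite := by
    have h1 : f.appTop.hom.Finite := f.finite_appTop
    have h2 : (Scheme.ΓSpecIso (CommRingCat.of R)).inv.hom.Finite :=
      RingHom.Finite.of_surjective _
        (ConcreteCategory.bijective_of_isIso (Scheme.ΓSpecIso (CommRingCat.of R)).inv).2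
    exact h1.comp h2
  algebraize [φ.hom]
  obtain ⟨ι, hι, A, hA, hH, hS, ⟨e⟩⟩ := exists_pi_strictHens R Γ(X, ⊤)
  let h : X ≅ Spec (CommRingCat.of (∀ i, A i)) :=
    X.isoSpec ≪≫ Scheme.Spec.mapIso (e.toCommRingCatIso).op.symm
  refine ⟨ι, hι, A, hA, hH, hS,
    fun i => Spec.map (CommRingCat.ofHom (Pi.evalRingHom A i)) ≫ h.inv, fun i => inferInstance,
    ?_, ?_⟩
  · intro x
    obtain ⟨⟨i, p⟩, hp⟩ := (PrimeSpectrum.sigmaToPi_bijective A).2 (h.hom x)
    refine ⟨i, p, ?_⟩
    rw [Scheme.Hom.comp_apply]
    have : (Spec.map (CommRingCat.ofHom (Pi.evalRingHom A i))) p = h.hom x := hp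
    rw [this, ← Scheme.Hom.comp_apply, h.hom_inv_id]
    rfl
  · intro i j y z hyz
    have h1 : (Spec.map (CommRingCat.ofHom (Pi.evalRingHom A i))) y =
        (Spec.map (CommRingCat.ofHom (Pi.evalRingHom A j))) z := by
      have := congrArg (fun t => h.hom t) hyz
      simp only [← Scheme.Hom.comp_apply, Category.assoc, h.inv_hom_id, Category.comp_id] at this
      exact this
    have h2 : PrimeSpectrum.sigmaToPi A ⟨i, y⟩ = PrimeSpectrum.sigmaToPi A ⟨j, z⟩ := h1
    exact congrArg Sigma.fst (PrimeSpectrum.sigmaToPi_injective A h2)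

open Groth.Agent.Lib.T2H8.CartanBig in
/-- over a scheme finite over a strictly henselian local ring, epimorphisms of abelian étale
sheaves are surjective on global sections -/
theorem surjective_sections_of_epi (R : Type u) [CommRing R] [HenselianLocalRing R]
    [IsSepClosed (ResidueField R)] (X : Scheme.{u}) (f : X ⟶ Spec (CommRingCat.of R))
    [IsFinite f] {E F' : EtCoh.Ab X} (e : E ⟶ F') [Epi e]
    (s : F'.obj.obj (op (EtCoh.top X))) :
    ∃ t : E.obj.obj (op (EtCoh.top X)), (e.hom.app (op (EtCoh.top X))).hom t = s := by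
  obtain ⟨ι, hι, A, hA, hH, hS, g, himm, hsurj, hdisj⟩ := exists_strictHens_cover R X f
  haveI := himm
  let Y : ι → X.Etale := fun i => Scheme.Etale.mk (g i)
  let k : ∀ i, Y i ⟶ EtCoh.top X := fun i => (EtCore.topIsTerminal X).from _
  have hcov : Sieve.ofArrows (fun i => (Over.mk (k i)).left) (fun i => (Over.mk (k i)).hom) ∈
      X.smallEtaleTopology (EtCoh.top X) := by
    refine (Scheme.ofArrows_mem_smallEtaleTopology_iff (fun i => k i)).2 ?_
    ext x
    simp only [Set.mem_iUnion, Set.mem_range, Set.mem_univ, iff_true]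
    obtain ⟨i, y, hy⟩ := hsurj x
    refine ⟨i, y, ?_⟩
    have h1 : (k i).left ≫ 𝟙 X = g i := MorphismProperty.Over.w (k i)
    have h1' : (k i).left = g i := (Category.comp_id _).symm.trans h1
    rw [h1']
    exact hy
  have hls : Sheaf.IsLocallySurjective e :=
    (Sheaf.isLocallySurjective_iff_epi' (φ := e)).2 inferInstance
  have hmem := Presheaf.imageSieve_mem X.smallEtaleTopology e.hom (U := op (EtCoh.top X)) s
  have hlift : ∀ i, ∃ t : E.obj.obj (op (Y i)),
      (e.hom.app (op (Y i))).hom t = (F'.obj.map (k i).op).hom s := by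
    intro i
    haveI := hH i
    haveI := hS i
    obtain ⟨W, kW, w, hkW, hw⟩ := (Groth.Agent.Lib.Helper16.SmallEtale.mem_smallEtale_iff _ _).1
      hmem (g i (closedPoint (A i)))
    haveI : Etale W.hom := W.prop
    have hW : W.hom w = g i (closedPoint (A i)) := by
      have h1 : kW.left ≫ 𝟙 X = W.hom := MorphismProperty.Over.w kW
      have h1' : kW.left = W.hom := (Category.comp_id _).symm.trans h1
      rw [← h1']
      exact hw
    obtain ⟨p, hp1, hp2⟩ := Scheme.Pullback.exists_preimage_pullback (f := W.hom)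
      (g := g i) w (closedPoint (A i)) hW
    obtain ⟨σ, hσ⟩ := Groth.Agent.Lib.T2H8.StrictHens.exists_section (A i)
      (pullback.snd W.hom (g i)) p hp2
    have hτ : (σ ≫ pullback.fst W.hom (g i)) ≫ W.hom = g i := by
      rw [Category.assoc, pullback.condition, ← Category.assoc, hσ, Category.id_comp]
    let m : Y i ⟶ W := MorphismProperty.Over.homMk (σ ≫ pullback.fst W.hom (g i)) hτ
    have hm : m ≫ kW = k i := (EtCore.topIsTerminal X).hom_ext _ _
    have h4 : Presheaf.imageSieve e.hom s (m ≫ kW) :=
      (Presheaf.imageSieve e.hom s).downward_closed hkW m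
    rw [hm] at h4
    exact h4
  choose t ht using hlift
  have hcompat : ∀ i j (Z : X.Etale) (gi : Z ⟶ (Over.mk (k i)).left) (gj : Z ⟶ (Over.mk (k j)).left),
      gi ≫ (Over.mk (k i)).hom = gj ≫ (Over.mk (k j)).hom →
        E.obj.map gi.op (t i) = E.obj.map gj.op (t j) := by
    intro i j Z gi gj _
    by_cases hij : i = j
    · subst hij
      have : gi = gj := by
        apply MorphismProperty.Over.Hom.ext
        have h1 : gi.left ≫ g i = Z.hom := MorphismProperty.Over.w gi
        have h2 : gj.left ≫ g i = Z.hom := MorphismProperty.Over.w gj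
        exact (cancel_mono (g i)).1 (h1.trans h2.symm)
      rw [this]
    · have hZ : IsEmpty Z.left := by
        refine ⟨fun z => hij ?_⟩
        have h1 : gi.left ≫ g i = Z.hom := MorphismProperty.Over.w gi
        have h2 : gj.left ≫ g j = Z.hom := MorphismProperty.Over.w gj
        refine hdisj i j (gi.left z) (gj.left z) ?_
        have e1 : (g i) (gi.left z) = (gi.left ≫ g i) z := (Scheme.Hom.comp_apply _ _ _).symm
        have e2 : (g j) (gj.left z) = (gj.left ≫ g j) z := (Scheme.Hom.comp_apply _ _ _).symm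
        rw [e1, e2, h1, h2]
      haveI := Groth.Agent.Lib.T2H8.GaEtale.subsingleton_of_isEmpty E Z hZ
      exact Subsingleton.elim _ _
  obtain ⟨T, hT⟩ := glue_site' (fun i => Over.mk (k i)) hcov E t hcompat
  refine ⟨T, ?_⟩
  refine sep_site' (fun i => Over.mk (k i)) hcov F' _ _ (fun i => ?_)
  have nat := congrArg (fun m => m.hom T) (e.hom.naturality (k i).op)
  simp only [AddCommGrpCat.hom_comp, AddMonoidHom.coe_comp, Function.comp_apply] at nat
  change (F'.obj.map (k i).op).hom ((e.hom.app (op (EtCoh.top X))).hom T) = _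
  rw [← nat]
  have hT' : (E.obj.map (k i).op).hom T = t i := hT i
  rw [hT']
  exact ht i

open Groth.Agent.Lib.Helper9.EtPull in
/-- the constant sheaf `ℤ` is projective on a scheme finite over a strictly henselian local ring -/
theorem projective_constZ (R : Type u) [CommRing R] [HenselianLocalRing R]
    [IsSepClosed (ResidueField R)] (X : Scheme.{u}) (f : X ⟶ Spec (CommRingCat.of R))
    [IsFinite f] : Projective (EtCoh.const X ℤ) := by
  constructor
  intro E F' φ e he
  obtain ⟨y, hy⟩ := surjective_sections_of_epi R X f e (sec F' φ)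
  obtain ⟨ψ, hψ⟩ := sec_surjective E y
  refine ⟨ψ, ?_⟩
  apply sec_injective
  rw [sec_comp, hψ]
  exact hy

theorem main (R : Type u) [CommRing R] [HenselianLocalRing R]
    [IsSepClosed (ResidueField R)] (X : Scheme.{u}) (f : X ⟶ Spec (CommRingCat.of R))
    [IsFinite f] (F : EtCoh.Ab X) (j : ℕ) (hj : 1 ≤ j) : Subsingleton (EtCoh.H X F j) := by
  obtain ⟨j, rfl⟩ : ∃ k, j = k + 1 := ⟨j - 1, by lia⟩
  haveI := projective_constZ R X f
  refine ⟨fun a b => ?_⟩
  have h0 : ∀ x : Abelian.Ext.{u + 1} (EtCoh.const X ℤ) F (j + 1), x = 0 :=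
    fun x => Abelian.Ext.eq_zero_of_projective x
  exact (h0 a).trans (h0 b).symm

end Groth.Agent.Lib.T2H8.FinHens
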