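import Mathlib
import Groth.Agent.Lib.Helper1IndEtale

/-!
# Flat local extensions with prescribed residue field (helper8)

`main`: for a local ring `R` with residue field `k` and any field extension `K/k` there is a
flat local `R`-algebra `R'` with `𝔪 R' = 𝔪_{R'}` and residue field `K` (EGA 0_III 10.3.1).

Transcendental part: localise `R[T]` (`T` a transcendence basis) at `𝔪 R[T]`.
Algebraic part: Zorn's lemma on partial solutions `(S, I)`, `S ⊆ K`, `I` an ideal of
`R[X_a : a ∈ K]` living on the variables in `S`; one step = adjoin a root of a monic lift of a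
minimal polynomial.
-/

set_option autoImplicit false
set_option linter.unusedSectionVars false

open MvPolynomial IsLocalRing
open scoped Classical

namespace Groth.Agent.Lib.T2H8.FlatRes

universe u
variable {A : Type u} [CommRing A] {K : Type u}

/-- retraction of the polynomial ring onto the variables in `S` (other variables ↦ 0). -/
noncomputable def r (S : Set K) : MvPolynomial K A →ₐ[A] MvPolynomial K A :=
  MvPolynomial.aeval (fun b => if b ∈ S then (X b : MvPolynomial K A) else 0)

lemma r_X_mem {S : Set K} {b : K} (h : b ∈ S) : r (A := A) S (X b) = X b := by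
  simp [r, h]

lemma r_X_not_mem {S : Set K} {b : K} (h : b ∉ S) : r (A := A) S (X b) = 0 := by
  simp [r, h]

lemma r_C (S : Set K) (c : A) : r (A := A) S (C c) = C c := by
  simp [r]

lemma r_r_of_subset {S T : Set K} (h : S ⊆ T) (f : MvPolynomial K A) :
    r S (r T f) = r S f := by
  induction f using MvPolynomial.induction_on with
  | C a => simp [r_C]
  | add p q hp hq => simp [map_add, hp, hq]
  | mul_X p b hp =>
    rw [map_mul, map_mul, map_mul, hp]
    congr 1
    by_cases hb : b ∈ S
    · rw [r_X_mem (h hb), r_X_mem hb]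
    · by_cases hbT : b ∈ T
      · rw [r_X_mem hbT]
      · rw [r_X_not_mem hbT, r_X_not_mem hb, map_zero]

lemma r_r_of_subset' {S T : Set K} (h : S ⊆ T) (f : MvPolynomial K A) :
    r T (r S f) = r S f := by
  induction f using MvPolynomial.induction_on with
  | C a => simp [r_C]
  | add p q hp hq => simp [map_add, hp, hq]
  | mul_X p b hp =>
    rw [map_mul, map_mul, hp]
    congr 1
    by_cases hb : b ∈ S
    · rw [r_X_mem hb, r_X_mem (h hb)]
    · rw [r_X_not_mem hb, map_zero]

lemma r_r (S : Set K) (f : MvPolynomial K A) : r S (r S f) = r S f :=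
  r_r_of_subset (le_refl S) f

lemma r_univ (f : MvPolynomial K A) : r (Set.univ : Set K) f = f := by
  induction f using MvPolynomial.induction_on with
  | C a => simp [r_C]
  | add p q hp hq => simp [map_add, hp, hq]
  | mul_X p b hp => rw [map_mul, hp, r_X_mem (Set.mem_univ b)]

variable [Field K] (e : A →+* K)

/-- evaluation `X_b ↦ b` for `b ∈ S`, other variables ↦ 0. -/
noncomputable def evS (S : Set K) : MvPolynomial K A →+* K :=
  MvPolynomial.eval₂Hom e (fun b => if b ∈ S then b else 0)

lemma evS_C (S : Set K) (c : A) : evS e S (C c) = e c := by simp [evS]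

lemma evS_X_mem {S : Set K} {b : K} (h : b ∈ S) : evS (A := A) e S (X b) = b := by
  simp [evS, h]

lemma evS_X_not_mem {S : Set K} {b : K} (h : b ∉ S) : evS (A := A) e S (X b) = 0 := by
  simp [evS, h]

lemma evS_r {S T : Set K} (h : S ⊆ T) (f : MvPolynomial K A) :
    evS e T (r S f) = evS e S f := by
  induction f using MvPolynomial.induction_on with
  | C a => simp [r_C, evS_C]
  | add p q hp hq => simp [map_add, hp, hq]
  | mul_X p b hp =>
    rw [map_mul, map_mul, map_mul, hp]
    congr 1
    by_cases hb : b ∈ S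
    · rw [r_X_mem hb, evS_X_mem e hb, evS_X_mem e (h hb)]
    · rw [r_X_not_mem hb, map_zero, evS_X_not_mem e hb]

variable [IsLocalRing A]

/-- A partial solution: a quotient of the polynomial ring living on the variables in `S`. -/
structure Good (S : Set K) (I : Ideal (MvPolynomial K A)) : Prop where
  supp : ∀ f, f ∈ I ↔ r S f ∈ I
  flat : Module.Flat A (MvPolynomial K A ⧸ I)
  ker : ∀ f ∈ I, evS e S f = 0
  unit : ∀ f, evS e S f ≠ 0 → ∃ g, f * g - 1 ∈ I
  max : ∀ f, evS e S f = 0 → f ∈ I ⊔ (maximalIdeal A).map (C : A →+* MvPolynomial K A)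

lemma Good.sub_r_mem {S : Set K} {I : Ideal (MvPolynomial K A)} (h : Good e S I)
    (f : MvPolynomial K A) : f - r S f ∈ I := by
  rw [h.supp, map_sub, r_r, sub_self]
  exact I.zero_mem

/-- the order on partial solutions. -/
def le (p q : Set K × Ideal (MvPolynomial K A)) : Prop :=
  p.1 ⊆ q.1 ∧ ∀ f, f ∈ p.2 ↔ r p.1 f ∈ q.2

lemma le_trans' {p q s : Set K × Ideal (MvPolynomial K A)} (h1 : le p q) (h2 : le q s) :
    le p s := by
  refine ⟨h1.1.trans h2.1, fun f => ?_⟩
  rw [h1.2, h2.2, r_r_of_subset' h1.1]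

lemma r_empty (f : MvPolynomial K A) : r (∅ : Set K) f = C (constantCoeff f) := by
  induction f using MvPolynomial.induction_on with
  | C a => simp [r_C]
  | add p q hp hq => simp [map_add, hp, hq]
  | mul_X p b hp => rw [map_mul, r_X_not_mem (Set.notMem_empty b)]; simp

lemma evS_empty (f : MvPolynomial K A) : evS e (∅ : Set K) f = e (constantCoeff f) := by
  induction f using MvPolynomial.induction_on with
  | C a => simp [evS_C]
  | add p q hp hq => simp [map_add, hp, hq]
  | mul_X p b hp => rw [map_mul, evS_X_not_mem e (Set.notMem_empty b)]; simp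

/-- the base partial solution. -/
theorem good_base (he : ∀ x, e x = 0 ↔ x ∈ maximalIdeal A) :
    Good e (∅ : Set K) (RingHom.ker (constantCoeff : MvPolynomial K A →+* A)) := by
  refine ⟨fun f => ?_, ?_, fun f hf => ?_, fun f hf => ?_, fun f hf => ?_⟩
  · rw [RingHom.mem_ker, RingHom.mem_ker, r_empty, constantCoeff_C]
  · -- P / ker ≃ A
    let φ : MvPolynomial K A →ₐ[A] A := MvPolynomial.aeval (fun _ => (0 : A))
    have hφ : ∀ f, φ f = constantCoeff f := by
      intro f
      simp [φ, MvPolynomial.constantCoeff_eq, MvPolynomial.aeval_def, MvPolynomial.eval₂_eq_eval_map]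
    have hsurj : Function.Surjective φ := fun a => ⟨C a, by simp [φ]⟩
    have hker : RingHom.ker (constantCoeff : MvPolynomial K A →+* A) = RingHom.ker φ := by
      ext f; simp [RingHom.mem_ker, hφ]
    rw [hker]
    exact Module.Flat.of_linearEquiv (Ideal.quotientKerAlgEquivOfSurjective hsurj).toLinearEquiv
  · rw [evS_empty, RingHom.mem_ker.mp hf, map_zero]
  · rw [evS_empty] at hf
    have hu : IsUnit (constantCoeff f) := by
      by_contra hnu
      exact hf ((he _).mpr hnu)
    obtain ⟨u, hu⟩ := hu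
    refine ⟨C (↑u⁻¹ : A), ?_⟩
    rw [RingHom.mem_ker, map_sub, map_mul, constantCoeff_C, ← hu, map_one]
    simp
  · rw [evS_empty, he] at hf
    have : f = (f - C (constantCoeff f)) + C (constantCoeff f) := by ring
    rw [this]
    refine Ideal.add_mem _ (Ideal.mem_sup_left ?_) (Ideal.mem_sup_right (Ideal.mem_map_of_mem _ hf))
    rw [RingHom.mem_ker, map_sub, constantCoeff_C, sub_self]

omit [Field K] in
lemma key1 {p q : Set K × Ideal (MvPolynomial K A)} {T : Set K} (hpq : le p q) (hqT : q.1 ⊆ T)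
    {f : MvPolynomial K A} (h : r T f = r p.1 f) : r T f = r q.1 f := by
  rw [← r_r_of_subset hqT f, h, r_r_of_subset' hpq.1]

omit [Field K] in
lemma key2 {p q : Set K × Ideal (MvPolynomial K A)} {T : Set K} (hpq : le p q) (hqT : q.1 ⊆ T)
    (hq : ∀ f, f ∈ q.2 ↔ r q.1 f ∈ q.2)
    {f : MvPolynomial K A} (h : r T f = r p.1 f) (hf : f ∈ p.2) : f ∈ q.2 := by
  rw [hq, ← key1 hpq hqT h, h, ← hpq.2]
  exact hf

section Chain

variable (c : Set (Set K × Ideal (MvPolynomial K A)))

/-- union of the variable sets in the chain -/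
def supS : Set K := ⋃ p ∈ c, (p : Set K × Ideal (MvPolynomial K A)).1

omit [Field K] in
lemma subset_supS {p : Set K × Ideal (MvPolynomial K A)} (hp : p ∈ c) : p.1 ⊆ supS c :=
  Set.subset_biUnion_of_mem (u := fun p : Set K × Ideal (MvPolynomial K A) => p.1) hp

variable {c}
variable (hc : ∀ p ∈ c, ∀ q ∈ c, le p q ∨ le q p) (hne : c.Nonempty)

omit [Field K] in
include hc hne in
lemma exists_stage (f : MvPolynomial K A) : ∃ p ∈ c, r (supS c) f = r p.1 f := by
  induction f using MvPolynomial.induction_on with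
  | C a =>
    obtain ⟨p, hp⟩ := hne
    exact ⟨p, hp, by rw [r_C, r_C]⟩
  | add f g hf hg =>
    obtain ⟨p, hp, hpf⟩ := hf
    obtain ⟨q, hq, hqg⟩ := hg
    rcases hc p hp q hq with h | h
    · exact ⟨q, hq, by rw [map_add, map_add, key1 h (subset_supS c hq) hpf, hqg]⟩
    · exact ⟨p, hp, by rw [map_add, map_add, key1 h (subset_supS c hp) hqg, hpf]⟩
  | mul_X f b hf =>
    obtain ⟨p, hp, hpf⟩ := hf
    by_cases hb : b ∈ supS c
    · obtain ⟨q, hq, hbq⟩ : ∃ q ∈ c, b ∈ (q : Set K × Ideal (MvPolynomial K A)).1 := by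
        simpa [supS] using hb
      rcases hc p hp q hq with h | h
      · refine ⟨q, hq, ?_⟩
        rw [map_mul, map_mul, key1 h (subset_supS c hq) hpf, r_X_mem hb, r_X_mem hbq]
      · refine ⟨p, hp, ?_⟩
        rw [map_mul, map_mul, hpf, r_X_mem hb, r_X_mem (h.1 hbq)]
    · refine ⟨p, hp, ?_⟩
      have hbp : b ∉ p.1 := fun h => hb (subset_supS c hp h)
      rw [map_mul, map_mul, r_X_not_mem hb, r_X_not_mem hbp, mul_zero, mul_zero]

omit [Field K] in
include hc hne in
lemma exists_stage_fin {l : ℕ} (g : Fin l → MvPolynomial K A) :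
    ∃ p ∈ c, ∀ i, r (supS c) (g i) = r p.1 (g i) := by
  induction l with
  | zero =>
    obtain ⟨p, hp⟩ := hne
    exact ⟨p, hp, fun i => i.elim0⟩
  | succ n ih =>
    obtain ⟨p, hp, hpg⟩ := ih (fun i => g i.succ)
    obtain ⟨q, hq, hq0⟩ := exists_stage hc hne (g 0)
    rcases hc p hp q hq with h | h
    · refine ⟨q, hq, fun i => ?_⟩
      refine Fin.cases hq0 (fun i => ?_) i
      exact key1 h (subset_supS c hq) (hpg i)
    · refine ⟨p, hp, fun i => ?_⟩
      refine Fin.cases ?_ (fun i => hpg i) i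
      exact key1 h (subset_supS c hp) hq0

variable (hsupp : ∀ p ∈ c, ∀ f, f ∈ (p : Set K × Ideal (MvPolynomial K A)).2 ↔ r p.1 f ∈ p.2)

/-- union of the ideals in the chain -/
def supI (hc : ∀ p ∈ c, ∀ q ∈ c, le p q ∨ le q p) (hne : c.Nonempty)
    (hsupp : ∀ p ∈ c, ∀ f, f ∈ (p : Set K × Ideal (MvPolynomial K A)).2 ↔ r p.1 f ∈ p.2) :
    Ideal (MvPolynomial K A) where
  carrier := {f | ∃ p ∈ c, r (supS c) f = r p.1 f ∧ f ∈ p.2}
  zero_mem' := by
    obtain ⟨p, hp⟩ := hne
    exact ⟨p, hp, by rw [map_zero, map_zero], p.2.zero_mem⟩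
  add_mem' := by
    rintro f g ⟨p, hp, hpf, hfp⟩ ⟨q, hq, hqg, hgq⟩
    rcases hc p hp q hq with h | h
    · exact ⟨q, hq, by rw [map_add, map_add, key1 h (subset_supS c hq) hpf, hqg],
        q.2.add_mem (key2 h (subset_supS c hq) (hsupp q hq) hpf hfp) hgq⟩
    · exact ⟨p, hp, by rw [map_add, map_add, key1 h (subset_supS c hp) hqg, hpf],
        p.2.add_mem hfp (key2 h (subset_supS c hp) (hsupp p hp) hqg hgq)⟩
  smul_mem' := by
    rintro h f ⟨p, hp, hpf, hfp⟩
    obtain ⟨q, hq, hqh⟩ := exists_stage hc hne h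
    rcases hc p hp q hq with h' | h'
    · exact ⟨q, hq, by rw [smul_eq_mul, map_mul, map_mul, key1 h' (subset_supS c hq) hpf, hqh],
        q.2.mul_mem_left _ (key2 h' (subset_supS c hq) (hsupp q hq) hpf hfp)⟩
    · exact ⟨p, hp, by rw [smul_eq_mul, map_mul, map_mul, key1 h' (subset_supS c hp) hqh, hpf],
        p.2.mul_mem_left _ hfp⟩

omit [Field K] in
lemma mem_supI {f : MvPolynomial K A} :
    f ∈ supI hc hne hsupp ↔ ∃ p ∈ c, r (supS c) f = r p.1 f ∧ f ∈ p.2 := Iff.rfl


omit [Field K] in
include hc hne hsupp in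
lemma le_sup {p : Set K × Ideal (MvPolynomial K A)} (hp : p ∈ c) :
    le p (supS c, supI hc hne hsupp) := by
  refine ⟨subset_supS c hp, fun f => ?_⟩
  constructor
  · intro hf
    refine ⟨p, hp, ?_, (hsupp p hp f).mp hf⟩
    rw [r_r_of_subset' (subset_supS c hp), r_r]
  · rintro ⟨q, hq, hqf, hfq⟩
    rw [r_r_of_subset' (subset_supS c hp)] at hqf
    rcases hc p hp q hq with h | h
    · exact (h.2 f).mpr hfq
    · rw [h.2, ← hqf, ← hsupp p hp] at hfq
      exact hfq

include hc hne in
theorem good_sup (hg : ∀ p ∈ c, Good e (p : Set K × Ideal (MvPolynomial K A)).1 p.2) :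
    Good e (supS c) (supI hc hne (fun p hp => (hg p hp).supp)) := by
  have hsupp := fun p hp => (hg p hp).supp
  have hev : ∀ {p : Set K × Ideal (MvPolynomial K A)}, p ∈ c → ∀ {f : MvPolynomial K A},
      r (supS c) f = r p.1 f → evS e (supS c) f = evS e p.1 f := by
    intro p hp f hf
    rw [← evS_r e (le_refl (supS c)) f, hf, evS_r e (subset_supS c hp)]
  refine ⟨fun f => ?_, ?_, ?_, ?_, ?_⟩
  · constructor
    · rintro ⟨p, hp, hpf, hfp⟩
      refine ⟨p, hp, ?_, ?_⟩
      · rw [r_r, r_r_of_subset (subset_supS c hp), hpf]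
      · rw [hpf, ← hsupp p hp]; exact hfp
    · rintro ⟨p, hp, hpf, hfp⟩
      rw [r_r, r_r_of_subset (subset_supS c hp)] at hpf
      refine ⟨p, hp, hpf, ?_⟩
      rw [hpf, ← hsupp p hp] at hfp
      exact hfp
  · -- flatness
    have hle : ∀ p : c, (p : Set K × Ideal (MvPolynomial K A)).2 ≤
        (supI hc hne hsupp).comap (r (p : Set K × Ideal (MvPolynomial K A)).1) := by
      intro p f hf
      exact ((le_sup hc hne hsupp p.2).2 f).mp hf
    haveI : ∀ p : c, Module.Flat A
        (MvPolynomial K A ⧸ (p : Set K × Ideal (MvPolynomial K A)).2) := fun p => (hg p p.2).flat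
    refine Groth.Agent.Lib.Helper1.IndEtale.flat_of_family (fun _ : c => A)
      (fun p : c => MvPolynomial K A ⧸ (p : Set K × Ideal (MvPolynomial K A)).2)
      (fun _ => RingHom.id A)
      (fun p => (Ideal.quotientMapₐ (supI hc hne hsupp) (r p.1.1) (hle p)).toLinearMap.toAddMonoidHom)
      (fun p a m => by simp) ?_
    intro l f x h
    have hx : ∀ i, ∃ g : MvPolynomial K A, Ideal.Quotient.mk _ g = x i :=
      fun i => Ideal.Quotient.mk_surjective (x i)
    choose g hgx using hx
    have hq : ∑ i, f i • g i ∈ supI hc hne hsupp := by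
      rw [← Ideal.Quotient.eq_zero_iff_mem, map_sum, ← h]
      refine Finset.sum_congr rfl fun i _ => ?_
      rw [← hgx i]
      rfl
    obtain ⟨p₀, hp₀, hp₀q, hqp₀⟩ := hq
    obtain ⟨p₁, hp₁, hp₁g⟩ := exists_stage_fin hc hne g
    -- a common stage
    obtain ⟨p, hp, hpq, hqp, hpg⟩ : ∃ p ∈ c, r (supS c) (∑ i, f i • g i) = r p.1 (∑ i, f i • g i) ∧
        (∑ i, f i • g i) ∈ p.2 ∧ ∀ i, r (supS c) (g i) = r p.1 (g i) := by
      rcases hc p₀ hp₀ p₁ hp₁ with h' | h'
      · exact ⟨p₁, hp₁, key1 h' (subset_supS c hp₁) hp₀q,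
          key2 h' (subset_supS c hp₁) (hsupp p₁ hp₁) hp₀q hqp₀, hp₁g⟩
      · exact ⟨p₀, hp₀, hp₀q, hqp₀, fun i => key1 h' (subset_supS c hp₀) (hp₁g i)⟩
    refine ⟨⟨p, hp⟩, f, fun i => Ideal.Quotient.mk _ (g i), fun _ => rfl, fun i => ?_, ?_⟩
    · rw [← hgx i]
      change Ideal.Quotient.mk _ (r p.1 (g i)) = _
      rw [eq_comm, Ideal.Quotient.eq]
      refine ⟨p, hp, ?_, Good.sub_r_mem e (hg p hp) _⟩
      rw [map_sub, map_sub, hpg i, r_r, r_r_of_subset' (subset_supS c hp)]
    · have : ∑ i, f i • (Ideal.Quotient.mk p.2 (g i)) = Ideal.Quotient.mk p.2 (∑ i, f i • g i) := by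
        rw [map_sum]
        rfl
      rw [this, Ideal.Quotient.eq_zero_iff_mem]
      exact hqp
  · rintro f ⟨p, hp, hpf, hfp⟩
    rw [hev hp hpf]
    exact (hg p hp).ker f hfp
  · intro f hf
    obtain ⟨p, hp, hpf⟩ := exists_stage hc hne f
    rw [hev hp hpf] at hf
    obtain ⟨g, hg'⟩ := (hg p hp).unit f hf
    refine ⟨r p.1 g, p, hp, ?_, ?_⟩
    · simp only [map_sub, map_mul, map_one, hpf, r_r, r_r_of_subset' (subset_supS c hp)]
    · rw [hsupp p hp] at hg' ⊢
      simpa only [map_sub, map_mul, map_one, r_r] using hg'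
  · intro f hf
    obtain ⟨p, hp, hpf⟩ := exists_stage hc hne f
    rw [hev hp hpf] at hf
    have h1 := (hg p hp).max f hf
    obtain ⟨i, hi, μ, hμ, rfl⟩ := Submodule.mem_sup.mp h1
    have e1 : i + μ = ((i + μ) - r p.1 (i + μ)) + r p.1 i + r p.1 μ := by
      rw [map_add]; ring
    rw [e1]
    refine Ideal.add_mem _ (Ideal.mem_sup_left (Ideal.add_mem _ ?_ ?_)) (Ideal.mem_sup_right ?_)
    · refine ⟨p, hp, ?_, Good.sub_r_mem e (hg p hp) _⟩
      rw [map_sub, map_sub, hpf, r_r, r_r_of_subset' (subset_supS c hp)]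
    · refine ⟨p, hp, ?_, (hsupp p hp i).mp hi⟩
      rw [r_r, r_r_of_subset' (subset_supS c hp)]
    · have : (maximalIdeal A).map (C : A →+* MvPolynomial K A) ≤
          ((maximalIdeal A).map (C : A →+* MvPolynomial K A)).comap (r p.1).toRingHom := by
        rw [Ideal.map_le_iff_le_comap]
        intro a ha
        rw [Ideal.mem_comap, Ideal.mem_comap]
        change r p.1 (C a) ∈ _
        rw [r_C]
        exact Ideal.mem_map_of_mem _ ha
      exact this hμ

end Chain

open scoped Polynomial in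
lemma of_injective_of_monic {B : Type*} [CommRing B] {F : B[X]} (hF : F.Monic)
    (hd : F.natDegree ≠ 0) : Function.Injective (AdjoinRoot.of F) := by
  rw [injective_iff_map_eq_zero]
  intro c hc
  rw [← AdjoinRoot.mk_C, AdjoinRoot.mk_eq_zero] at hc
  by_contra hc0
  haveI : Nontrivial B := ⟨⟨c, 0, hc0⟩⟩
  have hC : (Polynomial.C c : B[X]) ≠ 0 := by
    rwa [Ne, Polynomial.C_eq_zero]
  refine hF.not_dvd_of_degree_lt hC ?_ hc
  rw [Polynomial.degree_C hc0, Polynomial.degree_eq_natDegree hF.ne_zero]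
  exact_mod_cast Nat.pos_of_ne_zero hd

open scoped Polynomial in
/-- The one-step extension: adjoin a root of a monic lift of the minimal polynomial. -/
theorem step {B : Type*} [CommRing B] [IsLocalRing B] {K : Type*} [Field K] (ē : B →+* K)
    (hē : ∀ x, ē x = 0 ↔ x ∈ maximalIdeal B) (a : K) (ha : ē.IsIntegralElem a) :
    ∃ F : B[X], F.Monic ∧ F.natDegree ≠ 0 ∧ ∃ e' : AdjoinRoot F →+* K,
      e'.comp (AdjoinRoot.of F) = ē ∧ e' (AdjoinRoot.root F) = a ∧
      (∀ x, e' x ≠ 0 → IsUnit x) ∧
      (∀ x, e' x = 0 → x ∈ (maximalIdeal B).map (AdjoinRoot.of F)) := by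
  haveI : IsLocalHom ē := ⟨fun x hx => by
    by_contra hnu
    have : ē x = 0 := (hē x).mpr hnu
    rw [this] at hx
    exact not_isUnit_zero hx⟩
  let ι : ResidueField B →+* K := IsLocalRing.ResidueField.lift ē
  have hι : ι.comp (residue B) = ē := IsLocalRing.ResidueField.lift_comp_residue ē
  letI : Algebra (ResidueField B) K := ι.toAlgebra
  have haint : IsIntegral (ResidueField B) a := by
    obtain ⟨p, hp, hpa⟩ := ha
    refine ⟨p.map (residue B), hp.map _, ?_⟩
    rw [Polynomial.eval₂_map]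
    change Polynomial.eval₂ (ι.comp (residue B)) a p = 0
    rw [hι]; exact hpa
  set μ := minpoly (ResidueField B) a with hμ
  have hμm : μ.Monic := minpoly.monic haint
  have hμirr : Irreducible μ := minpoly.irreducible haint
  obtain ⟨F, hFμ, hFdeg, hFm⟩ := Polynomial.lifts_and_natDegree_eq_and_monic
    ((Polynomial.mem_lifts _).mpr (Polynomial.map_surjective (residue B) residue_surjective μ)) hμm
  have hd : F.natDegree ≠ 0 := by
    rw [hFdeg]; exact (minpoly.natDegree_pos haint).ne'
  have hev : ∀ g : B[X], Polynomial.eval₂ ē a g = Polynomial.aeval a (g.map (residue B)) := by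
    intro g
    rw [Polynomial.aeval_def, Polynomial.eval₂_map]
    change _ = Polynomial.eval₂ (ι.comp (residue B)) a g
    rw [hι]
  have hFa : Polynomial.eval₂ ē a F = 0 := by
    rw [hev, hFμ, hμ, minpoly.aeval]
  refine ⟨F, hFm, hd, AdjoinRoot.lift ē a hFa, AdjoinRoot.lift_comp_of _, AdjoinRoot.lift_root _, ?_⟩
  set e' := AdjoinRoot.lift ē a hFa with he'
  set M := (maximalIdeal B).map (AdjoinRoot.of F) with hM
  -- kernel of e' is contained in M
  have hker : ∀ x, e' x = 0 → x ∈ M := by
    intro x hx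
    obtain ⟨g, rfl⟩ := AdjoinRoot.mk_surjective x
    have hg : AdjoinRoot.mk F g = AdjoinRoot.mk F (g %ₘ F) := by
      rw [AdjoinRoot.mk_eq_mk]
      refine ⟨g /ₘ F, ?_⟩
      have := Polynomial.modByMonic_add_div g F
      linear_combination -this
    rw [hg] at hx ⊢
    set h := g %ₘ F with hh
    rw [he', AdjoinRoot.lift_mk, hev] at hx
    have hdvd : μ ∣ h.map (residue B) := minpoly.dvd _ _ hx
    have hdeg : (h.map (residue B)).degree < μ.degree := by
      refine lt_of_le_of_lt (Polynomial.degree_map_le) ?_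
      have h1 : h.degree < F.degree := Polynomial.degree_modByMonic_lt g hFm
      rwa [Polynomial.degree_eq_natDegree hFm.ne_zero, hFdeg,
        ← Polynomial.degree_eq_natDegree hμm.ne_zero] at h1
    have hzero : h.map (residue B) = 0 := Polynomial.eq_zero_of_dvd_of_degree_lt hdvd hdeg
    have hmem : h ∈ (maximalIdeal B).map (Polynomial.C : B →+* B[X]) := by
      rw [Ideal.mem_map_C_iff]
      intro n
      have := congrArg (fun q => Polynomial.coeff q n) hzero
      simp only [Polynomial.coeff_map, Polynomial.coeff_zero] at this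
      rwa [residue_eq_zero_iff] at this
    have : AdjoinRoot.mk F h ∈ ((maximalIdeal B).map (Polynomial.C : B →+* B[X])).map
        (AdjoinRoot.mk F) := Ideal.mem_map_of_mem _ hmem
    rwa [Ideal.map_map] at this
  have hMker : ∀ x ∈ M, e' x = 0 := by
    intro x hx
    have : M ≤ RingHom.ker e' := by
      rw [hM, Ideal.map_le_iff_le_comap]
      intro b hb
      rw [Ideal.mem_comap, RingHom.mem_ker]
      change (e'.comp (AdjoinRoot.of F)) b = 0
      rw [he', AdjoinRoot.lift_comp_of]
      exact (hē b).mpr hb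
    exact this hx
  -- M is maximal
  have hMmax : M.IsMaximal := by
    have hmaxμ : (Ideal.span {μ}).IsMaximal := PrincipalIdealRing.isMaximal_of_irreducible hμirr
    have hmax' : (Ideal.span ({F.map (Ideal.Quotient.mk (maximalIdeal B))} :
        Set (B ⧸ maximalIdeal B)[X])).IsMaximal := by
      rw [← hFμ] at hmaxμ
      exact hmaxμ
    have hfield := (Ideal.Quotient.maximal_ideal_iff_isField_quotient _).mp hmax'
    exact Ideal.Quotient.maximal_of_isField M (MulEquiv.isField hfield
      (AdjoinRoot.quotAdjoinRootEquivQuotPolynomialQuot (maximalIdeal B) F).toMulEquiv)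
  refine ⟨fun x hx => ?_, hker⟩
  by_contra hnu
  obtain ⟨N, hN, hxN⟩ := exists_max_ideal_of_mem_nonunits hnu
  haveI : Algebra.IsIntegral B (AdjoinRoot F) := by
    haveI := hFm.finite_adjoinRoot
    exact Algebra.IsIntegral.of_finite B (AdjoinRoot F)
  have hcomap : (N.comap (algebraMap B (AdjoinRoot F))).IsMaximal :=
    Ideal.isMaximal_comap_of_isIntegral_of_isMaximal N
  have hcomap' : N.comap (algebraMap B (AdjoinRoot F)) = maximalIdeal B :=
    IsLocalRing.eq_maximalIdeal hcomap
  have hMN : M ≤ N := by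
    rw [hM, Ideal.map_le_iff_le_comap]
    exact hcomap'.ge
  have : M = N := hMmax.eq_of_le hN.ne_top hMN
  exact hx (hMker x (this ▸ hxN))

section LocalOfGood

variable {e} {S : Set K} {I : Ideal (MvPolynomial K A)} (h : Good e S I)

/-- the induced map to `K`. -/
noncomputable def Good.ebar : (MvPolynomial K A ⧸ I) →+* K :=
  Ideal.Quotient.lift I (evS e S) h.ker

lemma Good.ebar_mk (f : MvPolynomial K A) : h.ebar (Ideal.Quotient.mk I f) = evS e S f := rfl

lemma Good.isUnit_of_ebar_ne_zero (x : MvPolynomial K A ⧸ I) (hx : h.ebar x ≠ 0) : IsUnit x := by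
  obtain ⟨f, rfl⟩ := Ideal.Quotient.mk_surjective x
  obtain ⟨g, hg⟩ := h.unit f hx
  refine IsUnit.of_mul_eq_one (Ideal.Quotient.mk I g) ?_
  rw [← map_mul, ← map_one (Ideal.Quotient.mk I), Ideal.Quotient.eq]
  exact hg

lemma Good.ebar_eq_zero_iff (x : MvPolynomial K A ⧸ I) : h.ebar x = 0 ↔ ¬ IsUnit x := by
  constructor
  · intro hx hu
    have := hu.map h.ebar
    rw [hx] at this
    exact not_isUnit_zero this
  · intro hx
    by_contra h0
    exact hx (h.isUnit_of_ebar_ne_zero x h0)

include h in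
lemma Good.isLocalRing : IsLocalRing (MvPolynomial K A ⧸ I) := by
  haveI : Nontrivial (MvPolynomial K A ⧸ I) := by
    refine ⟨⟨0, 1, fun h01 => ?_⟩⟩
    have := congrArg h.ebar h01
    simp at this
  refine IsLocalRing.of_nonunits_add ?_
  intro x y hx hy
  have hx' := (h.ebar_eq_zero_iff x).mpr hx
  have hy' := (h.ebar_eq_zero_iff y).mpr hy
  exact (h.ebar_eq_zero_iff (x + y)).mp (by rw [map_add, hx', hy', add_zero])

lemma Good.ebar_eq_zero_iff_mem (x : MvPolynomial K A ⧸ I) :
    h.ebar x = 0 ↔ x ∈ @maximalIdeal (MvPolynomial K A ⧸ I) _ h.isLocalRing := by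
  rw [h.ebar_eq_zero_iff]
  exact Iff.rfl

lemma Good.ebar_algebraMap (c : A) : h.ebar (algebraMap A _ c) = e c := by
  change h.ebar (Ideal.Quotient.mk I (C c)) = _
  rw [h.ebar_mk, evS_C]

lemma Good.maximalIdeal_eq (he : ∀ x, e x = 0 ↔ x ∈ maximalIdeal A) :
    @maximalIdeal (MvPolynomial K A ⧸ I) _ h.isLocalRing =
      (maximalIdeal A).map (algebraMap A (MvPolynomial K A ⧸ I)) := by
  letI := h.isLocalRing
  apply le_antisymm
  · intro x hx
    rw [← h.ebar_eq_zero_iff_mem] at hx
    obtain ⟨f, rfl⟩ := Ideal.Quotient.mk_surjective x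
    have h1 := h.max f hx
    obtain ⟨i, hi, μ, hμ, rfl⟩ := Submodule.mem_sup.mp h1
    rw [map_add, Ideal.Quotient.eq_zero_iff_mem.mpr hi, zero_add]
    have : Ideal.Quotient.mk I μ ∈ ((maximalIdeal A).map (C : A →+* MvPolynomial K A)).map
        (Ideal.Quotient.mk I) := Ideal.mem_map_of_mem _ hμ
    rwa [Ideal.map_map] at this
  · rw [Ideal.map_le_iff_le_comap]
    intro c hc
    rw [Ideal.mem_comap, ← h.ebar_eq_zero_iff_mem, h.ebar_algebraMap]
    exact (he c).mpr hc

end LocalOfGood

theorem good_step {S : Set K} {I : Ideal (MvPolynomial K A)} (h : Good e S I)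
    (he : ∀ x, e x = 0 ↔ x ∈ maximalIdeal A) (a : K) (haS : a ∉ S) (ha : e.IsIntegralElem a) :
    ∃ I' : Ideal (MvPolynomial K A), Good e (insert a S) I' ∧ le (S, I) (insert a S, I') := by
  letI := h.isLocalRing
  have hint : h.ebar.IsIntegralElem a := by
    obtain ⟨p, hp, hpa⟩ := ha
    refine ⟨p.map (algebraMap A (MvPolynomial K A ⧸ I)), hp.map _, ?_⟩
    rw [Polynomial.eval₂_map]
    have : h.ebar.comp (algebraMap A (MvPolynomial K A ⧸ I)) = e :=
      RingHom.ext fun c => h.ebar_algebraMap c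
    rw [this]; exact hpa
  obtain ⟨F, hFm, hFd, e', he'of, he'root, he'unit, he'ker⟩ :=
    step h.ebar h.ebar_eq_zero_iff_mem a hint
  -- the presentation
  let φ : MvPolynomial K A →ₐ[A] AdjoinRoot F :=
    MvPolynomial.aeval (fun b => if b = a then AdjoinRoot.root F else
      if b ∈ S then AdjoinRoot.of F (Ideal.Quotient.mk I (X b)) else 0)
  have hφa : φ (X a) = AdjoinRoot.root F := by simp [φ]
  have hφS : ∀ b ∈ S, φ (X b) = AdjoinRoot.of F (Ideal.Quotient.mk I (X b)) := by
    intro b hb
    have hba : b ≠ a := fun hba => haS (hba ▸ hb)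
    simp [φ, hba, hb]
  have hφ0 : ∀ b, b ≠ a → b ∉ S → φ (X b) = 0 := by
    intro b hba hb
    simp [φ, hba, hb]
  have hφC : ∀ c : A, φ (C c) = AdjoinRoot.of F (Ideal.Quotient.mk I (C c)) := by
    intro c
    simp only [φ, MvPolynomial.aeval_C]
    rw [IsScalarTower.algebraMap_apply A (MvPolynomial K A ⧸ I) (AdjoinRoot F),
      AdjoinRoot.algebraMap_eq]
    rfl
  have hXI : ∀ b, b ∉ S → Ideal.Quotient.mk I (X b) = 0 := by
    intro b hb
    rw [Ideal.Quotient.eq_zero_iff_mem, h.supp, r_X_not_mem hb]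
    exact I.zero_mem
  have h1 : ∀ f, φ (r (insert a S) f) = φ f := by
    intro f
    induction f using MvPolynomial.induction_on with
    | C c => rw [r_C]
    | add p q hp hq => rw [map_add, map_add, map_add, hp, hq]
    | mul_X p b hp =>
      rw [map_mul, map_mul, map_mul, hp]
      congr 1
      by_cases hb : b ∈ insert a S
      · rw [r_X_mem hb]
      · rw [r_X_not_mem hb, map_zero]
        rw [Set.mem_insert_iff, not_or] at hb
        rw [hφ0 b hb.1 hb.2]
  have h2 : ∀ f, φ (r S f) = AdjoinRoot.of F (Ideal.Quotient.mk I f) := by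
    intro f
    induction f using MvPolynomial.induction_on with
    | C c => rw [r_C, hφC]
    | add p q hp hq => rw [map_add, map_add, map_add, map_add, hp, hq]
    | mul_X p b hp =>
      rw [map_mul, map_mul, map_mul, map_mul, hp]
      congr 1
      by_cases hb : b ∈ S
      · rw [r_X_mem hb, hφS b hb]
      · rw [r_X_not_mem hb, map_zero, hXI b hb, map_zero]
  have hsurj : Function.Surjective φ := by
    intro x
    obtain ⟨g, rfl⟩ := AdjoinRoot.mk_surjective x
    induction g using Polynomial.induction_on with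
    | C c =>
      obtain ⟨f, rfl⟩ := Ideal.Quotient.mk_surjective c
      exact ⟨r S f, by rw [h2, AdjoinRoot.mk_C]⟩
    | add p q hp hq =>
      obtain ⟨f, hf⟩ := hp
      obtain ⟨g, hg⟩ := hq
      exact ⟨f + g, by rw [map_add, map_add, hf, hg]⟩
    | monomial n c hp =>
      obtain ⟨f, hf⟩ := hp
      refine ⟨f * X a, ?_⟩
      rw [map_mul, hf, hφa, pow_succ, ← mul_assoc,
        map_mul (AdjoinRoot.mk F) (Polynomial.C c * Polynomial.X ^ n), AdjoinRoot.mk_X]
  have h3 : ∀ f, e' (φ f) = evS e (insert a S) f := by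
    intro f
    induction f using MvPolynomial.induction_on with
    | C c =>
      rw [hφC, ← RingHom.comp_apply, he'of, h.ebar_mk, evS_C, evS_C]
    | add p q hp hq => rw [map_add, map_add, map_add, hp, hq]
    | mul_X p b hp =>
      rw [map_mul, map_mul, map_mul, hp]
      congr 1
      by_cases hba : b = a
      · subst hba
        rw [hφa, he'root, evS_X_mem e (Set.mem_insert _ _)]
      · by_cases hb : b ∈ S
        · rw [hφS b hb, ← RingHom.comp_apply, he'of, h.ebar_mk, evS_X_mem e hb,
            evS_X_mem e (Set.mem_insert_of_mem _ hb)]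
        · rw [hφ0 b hba hb, map_zero, evS_X_not_mem e]
          rw [Set.mem_insert_iff, not_or]
          exact ⟨hba, hb⟩
  refine ⟨RingHom.ker φ, ⟨fun f => ?_, ?_, fun f hf => ?_, fun f hf => ?_, fun f hf => ?_⟩,
    Set.subset_insert _ _, fun f => ?_⟩
  · rw [RingHom.mem_ker, RingHom.mem_ker, h1]
  · haveI : Module.Flat A (MvPolynomial K A ⧸ I) := h.flat
    haveI : Module.Free (MvPolynomial K A ⧸ I) (AdjoinRoot F) := hFm.free_adjoinRoot
    haveI : Module.Flat A (AdjoinRoot F) := Module.Flat.trans A (MvPolynomial K A ⧸ I) (AdjoinRoot F)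
    exact Module.Flat.of_linearEquiv (Ideal.quotientKerAlgEquivOfSurjective hsurj).toLinearEquiv
  · rw [← h3, RingHom.mem_ker.mp hf, map_zero]
  · rw [← h3] at hf
    obtain ⟨y, hy⟩ := (he'unit _ hf).exists_right_inv
    obtain ⟨g, rfl⟩ := hsurj y
    refine ⟨g, ?_⟩
    rw [RingHom.mem_ker, map_sub, map_mul, hy, map_one, sub_self]
  · rw [← h3] at hf
    have hmem := he'ker _ hf
    rw [h.maximalIdeal_eq he, Ideal.map_map] at hmem
    have hcomp : (AdjoinRoot.of F).comp (algebraMap A (MvPolynomial K A ⧸ I)) =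
        (φ : MvPolynomial K A →+* AdjoinRoot F).comp (C : A →+* MvPolynomial K A) := by
      ext c
      simp only [RingHom.comp_apply]
      exact (hφC c).symm
    rw [hcomp, ← Ideal.map_map] at hmem
    obtain ⟨μ, hμ, hμf⟩ := (Ideal.mem_map_iff_of_surjective (φ : MvPolynomial K A →+* AdjoinRoot F)
      hsurj).mp hmem
    have : f = (f - μ) + μ := by ring
    rw [this]
    refine Ideal.add_mem _ (Ideal.mem_sup_left ?_) (Ideal.mem_sup_right hμ)
    rw [RingHom.mem_ker, map_sub, sub_eq_zero]
    exact hμf.symm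
  · change f ∈ I ↔ r S f ∈ RingHom.ker φ
    rw [RingHom.mem_ker, h2, map_eq_zero_iff _ (of_injective_of_monic hFm hFd),
      Ideal.Quotient.eq_zero_iff_mem]

/-- Zorn: a partial solution on all variables. -/
theorem exists_good_univ (he : ∀ x, e x = 0 ↔ x ∈ maximalIdeal A)
    (hint : ∀ a : K, e.IsIntegralElem a) :
    ∃ I : Ideal (MvPolynomial K A), Good e (Set.univ : Set K) I := by
  let α := {p : Set K × Ideal (MvPolynomial K A) // Good e p.1 p.2}
  let rel : α → α → Prop := fun x y => le x.1 y.1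
  have hrefl : ∀ x : α, rel x x := fun x => ⟨le_refl _, x.2.supp⟩
  obtain ⟨m, hm⟩ : ∃ m : α, ∀ a, rel m a → rel a m := by
    refine exists_maximal_of_chains_bounded (r := rel) ?_ (fun h1 h2 => le_trans' h1 h2)
    intro c hchain
    by_cases hne : c.Nonempty
    · let c' : Set (Set K × Ideal (MvPolynomial K A)) := Subtype.val '' c
      have hc' : ∀ p ∈ c', ∀ q ∈ c', le p q ∨ le q p := by
        rintro _ ⟨x, hx, rfl⟩ _ ⟨y, hy, rfl⟩
        by_cases hxy : x = y
        · subst hxy; exact Or.inl (hrefl x)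
        · exact hchain hx hy hxy
      have hne' : c'.Nonempty := hne.image _
      have hg : ∀ p ∈ c', Good e (p : Set K × Ideal (MvPolynomial K A)).1 p.2 := by
        rintro _ ⟨x, _, rfl⟩
        exact x.2
      refine ⟨⟨(supS c', supI hc' hne' (fun p hp => (hg p hp).supp)), good_sup e hc' hne' hg⟩,
        fun x hx => ?_⟩
      exact le_sup hc' hne' (fun p hp => (hg p hp).supp) ⟨x, hx, rfl⟩
    · refine ⟨⟨(∅, RingHom.ker (constantCoeff : MvPolynomial K A →+* A)), good_base e he⟩,
        fun x hx => ?_⟩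
      exact absurd ⟨x, hx⟩ hne
  obtain ⟨⟨S, I⟩, hgood⟩ := m
  have hS : S = Set.univ := by
    by_contra hS
    obtain ⟨a, ha⟩ := (Set.ne_univ_iff_exists_notMem S).mp hS
    obtain ⟨I', hI', hle⟩ := good_step e hgood he a ha (hint a)
    have := hm ⟨(insert a S, I'), hI'⟩ hle
    exact ha (this.1 (Set.mem_insert a S))
  subst hS
  exact ⟨I, hgood⟩

/-- The algebraic case. -/
theorem core (he : ∀ x, e x = 0 ↔ x ∈ maximalIdeal A) (hint : ∀ a : K, e.IsIntegralElem a) :
    ∃ (R' : Type u) (_ : CommRing R') (_ : IsLocalRing R') (_ : Algebra A R') (e' : R' →+* K),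
      e'.comp (algebraMap A R') = e ∧ Function.Surjective e' ∧ Module.Flat A R' ∧
      (maximalIdeal A).map (algebraMap A R') = maximalIdeal R' ∧
      (∀ x, e' x = 0 ↔ x ∈ maximalIdeal R') := by
  obtain ⟨I, h⟩ := exists_good_univ e he hint
  refine ⟨MvPolynomial K A ⧸ I, inferInstance, h.isLocalRing, inferInstance, h.ebar,
    RingHom.ext fun c => h.ebar_algebraMap c, fun a => ⟨Ideal.Quotient.mk I (X a), ?_⟩, h.flat,
    (h.maximalIdeal_eq he).symm, h.ebar_eq_zero_iff_mem⟩
  rw [h.ebar_mk, evS_X_mem e (Set.mem_univ a)]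

/-- a root of a nonzero polynomial with coefficients in the range of a field hom is integral. -/
lemma isIntegralElem_of_lifts {F K : Type*} [Field F] [Field K] (ι : F →+* K) (a : K)
    (p : Polynomial K) (hp0 : p ≠ 0) (hpa : p.eval a = 0) (hp : ∀ n, p.coeff n ∈ Set.range ι) :
    ι.IsIntegralElem a := by
  obtain ⟨p', rfl⟩ := (Polynomial.mem_lifts _).mp ((Polynomial.lifts_iff_coeff_lifts p).mpr hp)
  have hp'0 : p' ≠ 0 := by
    rintro rfl
    exact hp0 (Polynomial.map_zero _)
  refine ⟨p' * Polynomial.C (p'.leadingCoeff)⁻¹, Polynomial.monic_mul_leadingCoeff_inv hp'0, ?_⟩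
  rw [Polynomial.eval₂_mul, ← Polynomial.eval_map, hpa, zero_mul]

/-- The transcendental step. -/
theorem trans_step {A K : Type u} [CommRing A] [IsLocalRing A] [Field K] (e : A →+* K)
    (he : ∀ x, e x = 0 ↔ x ∈ maximalIdeal A) :
    ∃ (R₁ : Type u) (_ : CommRing R₁) (_ : IsLocalRing R₁) (_ : Algebra A R₁) (e₁ : R₁ →+* K),
      e₁.comp (algebraMap A R₁) = e ∧ Module.Flat A R₁ ∧
      (maximalIdeal A).map (algebraMap A R₁) = maximalIdeal R₁ ∧
      (∀ x, e₁ x = 0 ↔ x ∈ maximalIdeal R₁) ∧ ∀ a : K, e₁.IsIntegralElem a := by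
  haveI : IsLocalHom e := ⟨fun x hx => by
    by_contra hnu
    have : e x = 0 := (he x).mpr hnu
    rw [this] at hx
    exact not_isUnit_zero hx⟩
  let ι : ResidueField A →+* K := IsLocalRing.ResidueField.lift e
  have hι : ι.comp (residue A) = e := IsLocalRing.ResidueField.lift_comp_residue e
  letI : Algebra (ResidueField A) K := ι.toAlgebra
  obtain ⟨T, hT⟩ := exists_isTranscendenceBasis (ResidueField A) K
  let evT : MvPolynomial T A →+* K := eval₂Hom e (fun t => (t : K))
  have hevT : ∀ f, evT f =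
      MvPolynomial.aeval (R := ResidueField A) (fun t : T => (t : K)) (map (residue A) f) := by
    intro f
    rw [MvPolynomial.aeval_def, MvPolynomial.eval₂_map]
    change _ = eval₂ (ι.comp (residue A)) _ f
    rw [hι]
    rfl
  let q : Ideal (MvPolynomial T A) := RingHom.ker evT
  haveI hqp : q.IsPrime := RingHom.ker_isPrime evT
  have hq : q = (maximalIdeal A).map (C : A →+* MvPolynomial T A) := by
    rw [← ker_residue (R := A), ← MvPolynomial.ker_map]
    ext f
    rw [RingHom.mem_ker, RingHom.mem_ker, hevT]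
    exact map_eq_zero_iff _ hT.1
  let R₁ := Localization.AtPrime q
  have hunit : ∀ y : q.primeCompl, IsUnit (evT y) := by
    intro y
    have : evT y ≠ 0 := fun h => y.2 (RingHom.mem_ker.mpr h)
    exact this.isUnit
  let e₁ : R₁ →+* K := IsLocalization.lift (M := q.primeCompl) (g := evT) hunit
  have he₁ : ∀ f, e₁ (algebraMap (MvPolynomial T A) R₁ f) = evT f :=
    fun f => IsLocalization.lift_eq hunit f
  have hmax : maximalIdeal R₁ = (maximalIdeal A).map (algebraMap A R₁) := by
    have h1 : q.map (algebraMap (MvPolynomial T A) R₁) = maximalIdeal R₁ :=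
      Localization.AtPrime.map_eq_maximalIdeal
    have h2 : q.map (algebraMap (MvPolynomial T A) R₁) =
        ((maximalIdeal A).map (C : A →+* MvPolynomial T A)).map
          (algebraMap (MvPolynomial T A) R₁) :=
      congrArg (fun J => Ideal.map (algebraMap (MvPolynomial T A) R₁) J) hq
    rw [← h1, h2, Ideal.map_map]
    rfl
  have hker : ∀ x, e₁ x = 0 ↔ x ∈ maximalIdeal R₁ := by
    intro x
    constructor
    · intro hx
      have hle : RingHom.ker e₁ ≤ maximalIdeal R₁ :=
        IsLocalRing.le_maximalIdeal (RingHom.ker_ne_top e₁)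
      exact hle (RingHom.mem_ker.mpr hx)
    · intro hx
      have hle : maximalIdeal R₁ ≤ RingHom.ker e₁ := by
        rw [← Localization.AtPrime.map_eq_maximalIdeal (I := q), Ideal.map_le_iff_le_comap]
        intro f hf
        rw [Ideal.mem_comap, RingHom.mem_ker, he₁]
        exact RingHom.mem_ker.mp hf
      exact RingHom.mem_ker.mp (hle hx)
  refine ⟨R₁, inferInstance, inferInstance, inferInstance, e₁, ?_, ?_, hmax.symm, hker, ?_⟩
  · ext c
    rw [RingHom.comp_apply, IsScalarTower.algebraMap_apply A (MvPolynomial T A) R₁, he₁]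
    simp [evT]
  · haveI : Module.Flat (MvPolynomial T A) R₁ := IsLocalization.flat R₁ q.primeCompl
    exact Module.Flat.trans A (MvPolynomial T A) R₁
  · -- integrality
    intro a
    haveI : IsLocalHom e₁ := ⟨fun x hx => by
      by_contra hnu
      have : e₁ x = 0 := (hker x).mpr hnu
      rw [this] at hx
      exact not_isUnit_zero hx⟩
    let ι₁ : ResidueField R₁ →+* K := IsLocalRing.ResidueField.lift e₁
    have hι₁ : ι₁.comp (residue R₁) = e₁ := IsLocalRing.ResidueField.lift_comp_residue e₁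
    -- the algebra generated by T lies in the range of ι₁
    have hD : ∀ d ∈ Algebra.adjoin (ResidueField A) (Set.range fun t : T => (t : K)),
        d ∈ Set.range ι₁ := by
      intro d hd
      induction hd using Algebra.adjoin_induction with
      | mem x hx =>
        obtain ⟨t, rfl⟩ := hx
        refine ⟨residue R₁ (algebraMap (MvPolynomial T A) R₁ (X t)), ?_⟩
        rw [← RingHom.comp_apply, hι₁, he₁]
        simp [evT]
      | algebraMap c =>
        obtain ⟨c, rfl⟩ := residue_surjective c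
        refine ⟨residue R₁ (algebraMap (MvPolynomial T A) R₁ (C c)), ?_⟩
        rw [← RingHom.comp_apply, hι₁, he₁]
        simp only [evT, coe_eval₂Hom, eval₂_C]
        change _ = ι.comp (residue A) c
        rw [hι]
      | add x y _ _ hx hy =>
        obtain ⟨x', rfl⟩ := hx
        obtain ⟨y', rfl⟩ := hy
        exact ⟨x' + y', map_add _ _ _⟩
      | mul x y _ _ hx hy =>
        obtain ⟨x', rfl⟩ := hx
        obtain ⟨y', rfl⟩ := hy
        exact ⟨x' * y', map_mul _ _ _⟩
    haveI := hT.isAlgebraic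
    obtain ⟨p, hp0, hpa⟩ := Algebra.IsAlgebraic.isAlgebraic
      (R := Algebra.adjoin (ResidueField A) (Set.range fun t : T => (t : K))) a
    have h1 : ι₁.IsIntegralElem a := by
      refine isIntegralElem_of_lifts ι₁ a (p.map (algebraMap _ K)) ?_ ?_ ?_
      · rwa [Ne, Polynomial.map_eq_zero_iff]
        exact Subtype.val_injective
      · rw [Polynomial.eval_map, ← Polynomial.aeval_def]; exact hpa
      · intro n
        rw [Polynomial.coeff_map]
        exact hD _ (p.coeff n).2
    obtain ⟨p₁, hp₁m, hp₁a⟩ := h1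
    obtain ⟨P, hPp, -, hPm⟩ := Polynomial.lifts_and_natDegree_eq_and_monic
      ((Polynomial.mem_lifts _).mpr (Polynomial.map_surjective (residue R₁) residue_surjective p₁))
      hp₁m
    refine ⟨P, hPm, ?_⟩
    rw [← hι₁, ← Polynomial.eval₂_map, hPp]
    exact hp₁a

theorem main {R K : Type u} [CommRing R] [IsLocalRing R] [Field K]
    [Algebra (IsLocalRing.ResidueField R) K] :
    ∃ (R' : Type u) (_ : CommRing R') (_ : IsLocalRing R') (_ : Algebra R R')
      (_ : IsLocalHom (algebraMap R R')),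
      Module.Flat R R' ∧
      (IsLocalRing.maximalIdeal R).map (algebraMap R R') = IsLocalRing.maximalIdeal R' ∧
      Nonempty (IsLocalRing.ResidueField R' ≃ₐ[IsLocalRing.ResidueField R] K) := by
  let e : R →+* K := (algebraMap (ResidueField R) K).comp (residue R)
  have he : ∀ x, e x = 0 ↔ x ∈ maximalIdeal R := by
    intro x
    change algebraMap (ResidueField R) K (residue R x) = 0 ↔ _
    rw [map_eq_zero, residue_eq_zero_iff]
  obtain ⟨R₁, _, _, _, e₁, he₁, hflat₁, hmax₁, hker₁, hint₁⟩ := trans_step e he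
  obtain ⟨R', _, _, _, e', he', hsurj, hflat', hmax', hker'⟩ := core e₁ hker₁ hint₁
  letI : Algebra R R' := ((algebraMap R₁ R').comp (algebraMap R R₁)).toAlgebra
  haveI : IsScalarTower R R₁ R' := IsScalarTower.of_algebraMap_eq (fun x => rfl)
  have hcomp : ∀ x : R, e' (algebraMap R R' x) = e x := by
    intro x
    change e' (algebraMap R₁ R' (algebraMap R R₁ x)) = _
    rw [← RingHom.comp_apply, he', ← RingHom.comp_apply, he₁]
  have hloc : IsLocalHom (algebraMap R R') := ⟨fun x hx => by
    by_contra hnu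
    have h0 : e x = 0 := (he x).mpr hnu
    have := hx.map e'
    rw [hcomp, h0] at this
    exact not_isUnit_zero this⟩
  refine ⟨R', inferInstance, inferInstance, inferInstance, hloc, ?_, ?_, ?_⟩
  · exact Module.Flat.trans R R₁ R'
  · rw [IsScalarTower.algebraMap_eq R R₁ R', ← Ideal.map_map, hmax₁, hmax']
  · haveI : IsLocalHom e' := ⟨fun x hx => by
      by_contra hnu
      have : e' x = 0 := (hker' x).mpr hnu
      rw [this] at hx
      exact not_isUnit_zero hx⟩
    let ψ : ResidueField R' →+* K := IsLocalRing.ResidueField.lift e'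
    have hψ : ∀ x, ψ (residue R' x) = e' x := fun x => IsLocalRing.ResidueField.lift_residue_apply e' x
    have hcomm : ∀ c : ResidueField R, ψ (algebraMap (ResidueField R) (ResidueField R') c) =
        algebraMap (ResidueField R) K c := by
      intro c
      obtain ⟨x, rfl⟩ := residue_surjective c
      rw [IsLocalRing.ResidueField.algebraMap_residue, hψ, hcomp]
      rfl
    let ψa : ResidueField R' →ₐ[ResidueField R] K := { ψ with commutes' := hcomm }
    have hbij : Function.Bijective ψa := by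
      refine ⟨ψ.injective, fun a => ?_⟩
      obtain ⟨x, rfl⟩ := hsurj a
      exact ⟨residue R' x, hψ x⟩
    exact ⟨AlgEquiv.ofBijective ψa hbij⟩

end Groth.Agent.Lib.T2H8.FlatRes
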