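import Mathlib
import Groth.Agent.Lib.T2H8FlatResA

/-!
# Flat local extensions with prescribed residue field, carrying an invariant (helper8)

`core_inv`: the transfinite (Zorn) construction of `T2H8FlatResA.core`, with an extra invariant
`Inv` of `A`-algebras which is stable under isomorphisms, directed unions and the one-step
extensions `AdjoinRoot F` (with `F` chosen by the user).
-/

set_option autoImplicit false
set_option linter.unusedSectionVars false

open MvPolynomial IsLocalRing
open scoped Classical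

namespace Groth.Agent.Lib.T2H8.FlatRes

universe u
variable {A : Type u} [CommRing A] {K : Type u} [Field K] (e : A →+* K) [IsLocalRing A]

section ChainMaps

variable {c : Set (Set K × Ideal (MvPolynomial K A))}
variable (hc : ∀ p ∈ c, ∀ q ∈ c, le p q ∨ le q p) (hne : c.Nonempty)
variable (hsupp : ∀ p ∈ c, ∀ f, f ∈ (p : Set K × Ideal (MvPolynomial K A)).2 ↔ r p.1 f ∈ p.2)

/-- the inclusion of a stage of a chain into the union. -/
noncomputable def supMap {p : Set K × Ideal (MvPolynomial K A)} (hp : p ∈ c) :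
    (MvPolynomial K A ⧸ p.2) →ₐ[A] (MvPolynomial K A ⧸ supI hc hne hsupp) :=
  Ideal.quotientMapₐ (supI hc hne hsupp) (r p.1)
    (fun f hf => ((le_sup hc hne hsupp hp).2 f).mp hf)

lemma supMap_mk {p : Set K × Ideal (MvPolynomial K A)} (hp : p ∈ c) (f : MvPolynomial K A) :
    supMap hc hne hsupp hp (Ideal.Quotient.mk _ f) = Ideal.Quotient.mk _ (r p.1 f) := rfl

lemma supMap_injective {p : Set K × Ideal (MvPolynomial K A)} (hp : p ∈ c) :
    Function.Injective (supMap hc hne hsupp hp) := by
  rw [injective_iff_map_eq_zero]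
  intro x hx
  obtain ⟨f, rfl⟩ := Ideal.Quotient.mk_surjective x
  rw [supMap_mk, Ideal.Quotient.eq_zero_iff_mem] at hx
  rw [Ideal.Quotient.eq_zero_iff_mem]
  exact ((le_sup hc hne hsupp hp).2 f).mpr hx

lemma supMap_range_mono {p q : Set K × Ideal (MvPolynomial K A)} (hp : p ∈ c) (hq : q ∈ c)
    (hpq : le p q) : (supMap hc hne hsupp hp).range ≤ (supMap hc hne hsupp hq).range := by
  rintro _ ⟨x, rfl⟩
  obtain ⟨f, rfl⟩ := Ideal.Quotient.mk_surjective x
  refine ⟨Ideal.Quotient.mk _ (r p.1 f), ?_⟩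
  change supMap hc hne hsupp hq (Ideal.Quotient.mk _ (r p.1 f)) =
    supMap hc hne hsupp hp (Ideal.Quotient.mk _ f)
  rw [supMap_mk, supMap_mk, r_r_of_subset' hpq.1]

lemma supMap_surj (hg : ∀ p ∈ c, Good e (p : Set K × Ideal (MvPolynomial K A)).1 p.2)
    (x : MvPolynomial K A ⧸ supI hc hne hsupp) :
    ∃ (p : Set K × Ideal (MvPolynomial K A)) (hp : p ∈ c) (y : MvPolynomial K A ⧸ p.2),
      supMap hc hne hsupp hp y = x := by
  obtain ⟨f, rfl⟩ := Ideal.Quotient.mk_surjective x
  obtain ⟨p, hp, hpf⟩ := exists_stage hc hne f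
  refine ⟨p, hp, Ideal.Quotient.mk _ f, ?_⟩
  rw [supMap_mk, eq_comm, Ideal.Quotient.eq]
  refine ⟨p, hp, ?_, Good.sub_r_mem e (hg p hp) _⟩
  rw [map_sub, map_sub, hpf, r_r, r_r_of_subset' (subset_supS c hp)]

end ChainMaps

open scoped Polynomial in
/-- The one-step extension with a prescribed monic lift `F`. -/
theorem step' {B : Type*} [CommRing B] [IsLocalRing B] {K : Type*} [Field K] (ē : B →+* K)
    (hē : ∀ x, ē x = 0 ↔ x ∈ maximalIdeal B) (a : K) (F : B[X]) (hFm : F.Monic)
    (hFirr : Irreducible (F.map (residue B))) (hFa : Polynomial.eval₂ ē a F = 0) :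
    F.natDegree ≠ 0 ∧ ∃ e' : AdjoinRoot F →+* K,
      e'.comp (AdjoinRoot.of F) = ē ∧ e' (AdjoinRoot.root F) = a ∧
      (∀ x, e' x ≠ 0 → IsUnit x) ∧
      (∀ x, e' x = 0 → x ∈ (maximalIdeal B).map (AdjoinRoot.of F)) := by
  haveI : IsLocalHom ē := ⟨fun x hx => by
    by_contra hnu
    have : ē x = 0 := (hē x).mpr hnu
    rw [this] at hx
    exact not_isUnit_zero hx⟩
  let ι : ResidueField B →+* K := IsLocalRing.ResidueField.lift ē
  have hι : ι.comp (residue B) = ē := IsLocalRing.ResidueField.lift_comp_residue ē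
  letI : Algebra (ResidueField B) K := ι.toAlgebra
  have hev : ∀ g : B[X], Polynomial.eval₂ ē a g = Polynomial.aeval a (g.map (residue B)) := by
    intro g
    rw [Polynomial.aeval_def, Polynomial.eval₂_map]
    change _ = Polynomial.eval₂ (ι.comp (residue B)) a g
    rw [hι]
  set μ := F.map (residue B) with hμ
  have hμm : μ.Monic := hFm.map _
  have hμa : Polynomial.aeval a μ = 0 := by rw [← hev]; exact hFa
  have hμmin : μ = minpoly (ResidueField B) a := minpoly.eq_of_irreducible_of_monic hFirr hμa hμm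
  have hFdeg : F.natDegree = μ.natDegree := (hFm.natDegree_map _).symm
  have hd : F.natDegree ≠ 0 := by
    rw [hFdeg]
    intro h0
    have : μ = 1 := (Polynomial.Monic.natDegree_eq_zero hμm).mp h0
    exact hFirr.not_isUnit (this ▸ isUnit_one)
  refine ⟨hd, AdjoinRoot.lift ē a hFa, AdjoinRoot.lift_comp_of _, AdjoinRoot.lift_root _, ?_⟩
  set e' := AdjoinRoot.lift ē a hFa with he'
  set M := (maximalIdeal B).map (AdjoinRoot.of F) with hM
  have hker : ∀ x, e' x = 0 → x ∈ M := by
    intro x hx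
    obtain ⟨g, rfl⟩ := AdjoinRoot.mk_surjective x
    have hg : AdjoinRoot.mk F g = AdjoinRoot.mk F (g %ₘ F) := by
      rw [AdjoinRoot.mk_eq_mk]
      refine ⟨g /ₘ F, ?_⟩
      have := Polynomial.modByMonic_add_div g F
      linear_combination -this
    rw [hg] at hx ⊢
    set h := g %ₘ F with hh
    rw [he', AdjoinRoot.lift_mk, hev] at hx
    have hdvd : μ ∣ h.map (residue B) := by
      rw [hμmin]; exact minpoly.dvd _ _ hx
    have hdeg : (h.map (residue B)).degree < μ.degree := by
      refine lt_of_le_of_lt (Polynomial.degree_map_le) ?_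
      have h1 : h.degree < F.degree := Polynomial.degree_modByMonic_lt g hFm
      rwa [Polynomial.degree_eq_natDegree hFm.ne_zero, hFdeg,
        ← Polynomial.degree_eq_natDegree hμm.ne_zero] at h1
    have hzero : h.map (residue B) = 0 := Polynomial.eq_zero_of_dvd_of_degree_lt hdvd hdeg
    have hmem : h ∈ (maximalIdeal B).map (Polynomial.C : B →+* B[X]) := by
      rw [Ideal.mem_map_C_iff]
      intro n
      have := congrArg (fun q => Polynomial.coeff q n) hzero
      simp only [Polynomial.coeff_map, Polynomial.coeff_zero] at this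
      rwa [residue_eq_zero_iff] at this
    have : AdjoinRoot.mk F h ∈ ((maximalIdeal B).map (Polynomial.C : B →+* B[X])).map
        (AdjoinRoot.mk F) := Ideal.mem_map_of_mem _ hmem
    rwa [Ideal.map_map] at this
  have hMker : ∀ x ∈ M, e' x = 0 := by
    intro x hx
    have : M ≤ RingHom.ker e' := by
      rw [hM, Ideal.map_le_iff_le_comap]
      intro b hb
      rw [Ideal.mem_comap, RingHom.mem_ker]
      change (e'.comp (AdjoinRoot.of F)) b = 0
      rw [he', AdjoinRoot.lift_comp_of]
      exact (hē b).mpr hb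
    exact this hx
  have hMmax : M.IsMaximal := by
    have hmaxμ : (Ideal.span {μ}).IsMaximal := PrincipalIdealRing.isMaximal_of_irreducible hFirr
    have hmax' : (Ideal.span ({F.map (Ideal.Quotient.mk (maximalIdeal B))} :
        Set (B ⧸ maximalIdeal B)[X])).IsMaximal := hmaxμ
    have hfield := (Ideal.Quotient.maximal_ideal_iff_isField_quotient _).mp hmax'
    exact Ideal.Quotient.maximal_of_isField M (MulEquiv.isField hfield
      (AdjoinRoot.quotAdjoinRootEquivQuotPolynomialQuot (maximalIdeal B) F).toMulEquiv)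
  refine ⟨fun x hx => ?_, hker⟩
  by_contra hnu
  obtain ⟨N, hN, hxN⟩ := exists_max_ideal_of_mem_nonunits hnu
  haveI : Algebra.IsIntegral B (AdjoinRoot F) := by
    haveI := hFm.finite_adjoinRoot
    exact Algebra.IsIntegral.of_finite B (AdjoinRoot F)
  have hcomap : (N.comap (algebraMap B (AdjoinRoot F))).IsMaximal :=
    Ideal.isMaximal_comap_of_isIntegral_of_isMaximal N
  have hcomap' : N.comap (algebraMap B (AdjoinRoot F)) = maximalIdeal B :=
    IsLocalRing.eq_maximalIdeal hcomap
  have hMN : M ≤ N := by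
    rw [hM, Ideal.map_le_iff_le_comap]
    exact hcomap'.ge
  have : M = N := hMmax.eq_of_le hN.ne_top hMN
  exact hx (hMker x (this ▸ hxN))

theorem good_step' {S : Set K} {I : Ideal (MvPolynomial K A)} (h : Good e S I)
    (he : ∀ x, e x = 0 ↔ x ∈ maximalIdeal A) (a : K) (haS : a ∉ S)
    (F : Polynomial (MvPolynomial K A ⧸ I)) (hFm : F.Monic)
    (hFirr : Irreducible (F.map (@residue _ _ h.isLocalRing)))
    (hFa : Polynomial.eval₂ h.ebar a F = 0) :
    ∃ I' : Ideal (MvPolynomial K A), Good e (insert a S) I' ∧ le (S, I) (insert a S, I') ∧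
      Nonempty ((MvPolynomial K A ⧸ I') ≃ₐ[A] AdjoinRoot F) := by
  letI := h.isLocalRing
  obtain ⟨hFd, e', he'of, he'root, he'unit, he'ker⟩ :=
    step' h.ebar h.ebar_eq_zero_iff_mem a F hFm hFirr hFa
  -- the presentation
  let φ : MvPolynomial K A →ₐ[A] AdjoinRoot F :=
    MvPolynomial.aeval (fun b => if b = a then AdjoinRoot.root F else
      if b ∈ S then AdjoinRoot.of F (Ideal.Quotient.mk I (X b)) else 0)
  have hφa : φ (X a) = AdjoinRoot.root F := by simp [φ]
  have hφS : ∀ b ∈ S, φ (X b) = AdjoinRoot.of F (Ideal.Quotient.mk I (X b)) := by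
    intro b hb
    have hba : b ≠ a := fun hba => haS (hba ▸ hb)
    simp [φ, hba, hb]
  have hφ0 : ∀ b, b ≠ a → b ∉ S → φ (X b) = 0 := by
    intro b hba hb
    simp [φ, hba, hb]
  have hφC : ∀ c : A, φ (C c) = AdjoinRoot.of F (Ideal.Quotient.mk I (C c)) := by
    intro c
    simp only [φ, MvPolynomial.aeval_C]
    rw [IsScalarTower.algebraMap_apply A (MvPolynomial K A ⧸ I) (AdjoinRoot F),
      AdjoinRoot.algebraMap_eq]
    rfl
  have hXI : ∀ b, b ∉ S → Ideal.Quotient.mk I (X b) = 0 := by
    intro b hb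
    rw [Ideal.Quotient.eq_zero_iff_mem, h.supp, r_X_not_mem hb]
    exact I.zero_mem
  have h1 : ∀ f, φ (r (insert a S) f) = φ f := by
    intro f
    induction f using MvPolynomial.induction_on with
    | C c => rw [r_C]
    | add p q hp hq => rw [map_add, map_add, map_add, hp, hq]
    | mul_X p b hp =>
      rw [map_mul, map_mul, map_mul, hp]
      congr 1
      by_cases hb : b ∈ insert a S
      · rw [r_X_mem hb]
      · rw [r_X_not_mem hb, map_zero]
        rw [Set.mem_insert_iff, not_or] at hb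
        rw [hφ0 b hb.1 hb.2]
  have h2 : ∀ f, φ (r S f) = AdjoinRoot.of F (Ideal.Quotient.mk I f) := by
    intro f
    induction f using MvPolynomial.induction_on with
    | C c => rw [r_C, hφC]
    | add p q hp hq => rw [map_add, map_add, map_add, map_add, hp, hq]
    | mul_X p b hp =>
      rw [map_mul, map_mul, map_mul, map_mul, hp]
      congr 1
      by_cases hb : b ∈ S
      · rw [r_X_mem hb, hφS b hb]
      · rw [r_X_not_mem hb, map_zero, hXI b hb, map_zero]
  have hsurj : Function.Surjective φ := by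
    intro x
    obtain ⟨g, rfl⟩ := AdjoinRoot.mk_surjective x
    induction g using Polynomial.induction_on with
    | C c =>
      obtain ⟨f, rfl⟩ := Ideal.Quotient.mk_surjective c
      exact ⟨r S f, by rw [h2, AdjoinRoot.mk_C]⟩
    | add p q hp hq =>
      obtain ⟨f, hf⟩ := hp
      obtain ⟨g, hg⟩ := hq
      exact ⟨f + g, by rw [map_add, map_add, hf, hg]⟩
    | monomial n c hp =>
      obtain ⟨f, hf⟩ := hp
      refine ⟨f * X a, ?_⟩
      rw [map_mul, hf, hφa, pow_succ, ← mul_assoc,
        map_mul (AdjoinRoot.mk F) (Polynomial.C c * Polynomial.X ^ n), AdjoinRoot.mk_X]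
  have h3 : ∀ f, e' (φ f) = evS e (insert a S) f := by
    intro f
    induction f using MvPolynomial.induction_on with
    | C c =>
      rw [hφC, ← RingHom.comp_apply, he'of, h.ebar_mk, evS_C, evS_C]
    | add p q hp hq => rw [map_add, map_add, map_add, hp, hq]
    | mul_X p b hp =>
      rw [map_mul, map_mul, map_mul, hp]
      congr 1
      by_cases hba : b = a
      · subst hba
        rw [hφa, he'root, evS_X_mem e (Set.mem_insert _ _)]
      · by_cases hb : b ∈ S
        · rw [hφS b hb, ← RingHom.comp_apply, he'of, h.ebar_mk, evS_X_mem e hb,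
            evS_X_mem e (Set.mem_insert_of_mem _ hb)]
        · rw [hφ0 b hba hb, map_zero, evS_X_not_mem e]
          rw [Set.mem_insert_iff, not_or]
          exact ⟨hba, hb⟩
  refine ⟨RingHom.ker φ, ⟨fun f => ?_, ?_, fun f hf => ?_, fun f hf => ?_, fun f hf => ?_⟩,
    ⟨Set.subset_insert _ _, fun f => ?_⟩, ⟨Ideal.quotientKerAlgEquivOfSurjective hsurj⟩⟩
  · rw [RingHom.mem_ker, RingHom.mem_ker, h1]
  · haveI : Module.Flat A (MvPolynomial K A ⧸ I) := h.flat
    haveI : Module.Free (MvPolynomial K A ⧸ I) (AdjoinRoot F) := hFm.free_adjoinRoot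
    haveI : Module.Flat A (AdjoinRoot F) := Module.Flat.trans A (MvPolynomial K A ⧸ I) (AdjoinRoot F)
    exact Module.Flat.of_linearEquiv (Ideal.quotientKerAlgEquivOfSurjective hsurj).toLinearEquiv
  · rw [← h3, RingHom.mem_ker.mp hf, map_zero]
  · rw [← h3] at hf
    obtain ⟨y, hy⟩ := (he'unit _ hf).exists_right_inv
    obtain ⟨g, rfl⟩ := hsurj y
    refine ⟨g, ?_⟩
    rw [RingHom.mem_ker, map_sub, map_mul, hy, map_one, sub_self]
  · rw [← h3] at hf
    have hmem := he'ker _ hf
    rw [h.maximalIdeal_eq he, Ideal.map_map] at hmem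
    have hcomp : (AdjoinRoot.of F).comp (algebraMap A (MvPolynomial K A ⧸ I)) =
        (φ : MvPolynomial K A →+* AdjoinRoot F).comp (C : A →+* MvPolynomial K A) := by
      ext c
      simp only [RingHom.comp_apply]
      exact (hφC c).symm
    rw [hcomp, ← Ideal.map_map] at hmem
    obtain ⟨μ, hμ, hμf⟩ := (Ideal.mem_map_iff_of_surjective (φ : MvPolynomial K A →+* AdjoinRoot F)
      hsurj).mp hmem
    have : f = (f - μ) + μ := by ring
    rw [this]
    refine Ideal.add_mem _ (Ideal.mem_sup_left ?_) (Ideal.mem_sup_right hμ)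
    rw [RingHom.mem_ker, map_sub, sub_eq_zero]
    exact hμf.symm
  · change f ∈ I ↔ r S f ∈ RingHom.ker φ
    rw [RingHom.mem_ker, h2, map_eq_zero_iff _ (of_injective_of_monic hFm hFd),
      Ideal.Quotient.eq_zero_iff_mem]

/-- The algebraic case with an extra invariant carried through the transfinite construction. -/
theorem core_inv (he : ∀ x, e x = 0 ↔ x ∈ maximalIdeal A) 
    (Inv : ∀ (B : Type u) [CommRing B] [Algebra A B], Prop)
    (hequiv : ∀ (B B' : Type u) [CommRing B] [CommRing B'] [Algebra A B] [Algebra A B'],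
      (B ≃ₐ[A] B') → Inv B → Inv B')
    (hbase : Inv A)
    (hunion : ∀ (B : Type u) [CommRing B] [Algebra A B] (ι : Type u) [Nonempty ι]
      (Bi : ι → Type u) [∀ i, CommRing (Bi i)] [∀ i, Algebra A (Bi i)] (ψ : ∀ i, Bi i →ₐ[A] B),
      (∀ i, Function.Injective (ψ i)) →
      (∀ i j, ∃ k, (ψ i).range ≤ (ψ k).range ∧ (ψ j).range ≤ (ψ k).range) →
      (∀ x, ∃ i y, ψ i y = x) → (∀ i, Inv (Bi i)) → Inv B)
    (hstep : ∀ (B : Type u) [CommRing B] [Algebra A B] [IsLocalRing B] (eb : B →+* K),
      (∀ x, eb x = 0 ↔ x ∈ maximalIdeal B) → eb.comp (algebraMap A B) = e → Module.Flat A B →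
      maximalIdeal B = (maximalIdeal A).map (algebraMap A B) → Inv B → ∀ a : K,
      ∃ F : Polynomial B, F.Monic ∧ Irreducible (F.map (residue B)) ∧
        Polynomial.eval₂ eb a F = 0 ∧ Inv (AdjoinRoot F)) :
    ∃ (R' : Type u) (_ : CommRing R') (_ : IsLocalRing R') (_ : Algebra A R') (e' : R' →+* K),
      e'.comp (algebraMap A R') = e ∧ Function.Surjective e' ∧ Module.Flat A R' ∧
      (maximalIdeal A).map (algebraMap A R') = maximalIdeal R' ∧
      (∀ x, e' x = 0 ↔ x ∈ maximalIdeal R') ∧ Inv R' := by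
  let α := {p : Set K × Ideal (MvPolynomial K A) // Good e p.1 p.2 ∧ Inv (MvPolynomial K A ⧸ p.2)}
  let rel : α → α → Prop := fun x y => le x.1 y.1
  have hrefl : ∀ x : α, rel x x := fun x => ⟨le_refl _, x.2.1.supp⟩
  have hbase' : Inv (MvPolynomial K A ⧸ RingHom.ker (constantCoeff : MvPolynomial K A →+* A)) := by
    let φ : MvPolynomial K A →ₐ[A] A := MvPolynomial.aeval (fun _ => (0 : A))
    have hφ : ∀ f, φ f = constantCoeff f := by
      intro f
      simp [φ, MvPolynomial.constantCoeff_eq, MvPolynomial.aeval_def,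
        MvPolynomial.eval₂_eq_eval_map]
    have hsurj : Function.Surjective φ := fun a => ⟨C a, by simp [φ]⟩
    have hker : RingHom.ker (constantCoeff : MvPolynomial K A →+* A) = RingHom.ker φ := by
      ext f; simp [RingHom.mem_ker, hφ]
    rw [hker]
    exact hequiv _ _ (Ideal.quotientKerAlgEquivOfSurjective hsurj).symm hbase
  obtain ⟨m, hm⟩ : ∃ m : α, ∀ a, rel m a → rel a m := by
    refine exists_maximal_of_chains_bounded (r := rel) ?_ (fun h1 h2 => le_trans' h1 h2)
    intro c hchain
    by_cases hne : c.Nonempty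
    · let c' : Set (Set K × Ideal (MvPolynomial K A)) := Subtype.val '' c
      have hc' : ∀ p ∈ c', ∀ q ∈ c', le p q ∨ le q p := by
        rintro _ ⟨x, hx, rfl⟩ _ ⟨y, hy, rfl⟩
        by_cases hxy : x = y
        · subst hxy; exact Or.inl (hrefl x)
        · exact hchain hx hy hxy
      have hne' : c'.Nonempty := hne.image _
      have hg : ∀ p ∈ c', Good e (p : Set K × Ideal (MvPolynomial K A)).1 p.2 := by
        rintro _ ⟨x, _, rfl⟩
        exact x.2.1
      have hinv : ∀ p ∈ c', Inv (MvPolynomial K A ⧸ (p : Set K × Ideal (MvPolynomial K A)).2) := by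
        rintro _ ⟨x, _, rfl⟩
        exact x.2.2
      have hsupp := fun p hp => (hg p hp).supp
      have hInvSup : Inv (MvPolynomial K A ⧸ supI hc' hne' hsupp) := by
        haveI : Nonempty c' := hne'.to_subtype
        refine hunion _ c' (fun p => MvPolynomial K A ⧸ (p : Set K × Ideal (MvPolynomial K A)).2)
          (fun p => supMap hc' hne' hsupp p.2) (fun p => supMap_injective hc' hne' hsupp p.2)
          ?_ ?_ (fun p => hinv p p.2)
        · intro p q
          rcases hc' p p.2 q q.2 with h | h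
          · exact ⟨q, supMap_range_mono hc' hne' hsupp p.2 q.2 h, le_refl _⟩
          · exact ⟨p, le_refl _, supMap_range_mono hc' hne' hsupp q.2 p.2 h⟩
        · intro x
          obtain ⟨p, hp, y, hy⟩ := supMap_surj e hc' hne' hsupp hg x
          exact ⟨⟨p, hp⟩, y, hy⟩
      refine ⟨⟨(supS c', supI hc' hne' hsupp), good_sup e hc' hne' hg, hInvSup⟩,
        fun x hx => ?_⟩
      exact le_sup hc' hne' hsupp ⟨x, hx, rfl⟩
    · refine ⟨⟨(∅, RingHom.ker (constantCoeff : MvPolynomial K A →+* A)), good_base e he, hbase'⟩,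
        fun x hx => ?_⟩
      exact absurd ⟨x, hx⟩ hne
  obtain ⟨⟨S, I⟩, hgood, hinvI⟩ := m
  have hS : S = Set.univ := by
    by_contra hS
    obtain ⟨a, ha⟩ := (Set.ne_univ_iff_exists_notMem S).mp hS
    obtain ⟨F, hFm, hFirr, hFa, hFinv⟩ := @hstep (MvPolynomial K A ⧸ I) _ _ hgood.isLocalRing
      hgood.ebar hgood.ebar_eq_zero_iff_mem (RingHom.ext fun c => hgood.ebar_algebraMap c)
      hgood.flat (hgood.maximalIdeal_eq he) hinvI a
    obtain ⟨I', hI', hle, ⟨Φ⟩⟩ := good_step' e hgood he a ha F hFm hFirr hFa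
    have := hm ⟨(insert a S, I'), hI', hequiv _ _ Φ.symm hFinv⟩ hle
    exact ha (this.1 (Set.mem_insert a S))
  subst hS
  have h := hgood
  refine ⟨MvPolynomial K A ⧸ I, inferInstance, h.isLocalRing, inferInstance, h.ebar,
    RingHom.ext fun c => h.ebar_algebraMap c, fun a => ⟨Ideal.Quotient.mk I (X a), ?_⟩, h.flat,
    (h.maximalIdeal_eq he).symm, h.ebar_eq_zero_iff_mem, hinvI⟩
  rw [h.ebar_mk, evS_X_mem e (Set.mem_univ a)]

end Groth.Agent.Lib.T2H8.FlatRes
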