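import Mathlib
import Groth.Agent.Lib.T2H8FlatResB

/-!
# Unramified extensions of a DVR with prescribed algebraic residue field (helper8)

`main_dvr`: for a DVR `O` with residue field `k` and an algebraic extension `k'/k` there is a DVR
`OL ⊇ O` with the same uniformizer, residue field `k'`, integral over `O` with separable fraction
field extension.  Uses the transfinite construction `FlatRes.core_inv` with the invariant `InvDVR`.
-/

set_option autoImplicit false

open IsLocalRing
open scoped Polynomial

namespace Groth.Agent.Lib.T2H8.FlatResDVR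

universe u

/-- A local ring whose maximal ideal is generated by a nonzerodivisor `ϖ` and in which every
nonzero element is a unit times a power of `ϖ` is a discrete valuation ring. -/
theorem isDVR_of_V {B : Type*} [CommRing B] [IsLocalRing B] (ϖ : B)
    (hmax : maximalIdeal B = Ideal.span {ϖ}) (hnzd : ∀ x : B, ϖ * x = 0 → x = 0)
    (hV : ∀ x : B, x ≠ 0 → ∃ (n : ℕ) (u : B), IsUnit u ∧ x = u * ϖ ^ n) :
    ∃ (_ : IsDomain B), IsDiscreteValuationRing B := by
  have hpow : ∀ (n : ℕ) (x : B), ϖ ^ n * x = 0 → x = 0 := by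
    intro n
    induction n with
    | zero => intro x hx; simpa using hx
    | succ n ih =>
      intro x hx
      rw [pow_succ, mul_assoc] at hx
      exact hnzd x (ih _ hx)
  haveI : NoZeroDivisors B := ⟨fun {x y} hxy => by
    by_contra hne
    rw [not_or] at hne
    obtain ⟨n, u, hu, rfl⟩ := hV x hne.1
    obtain ⟨m, v, hv, rfl⟩ := hV y hne.2
    have h1 : ϖ ^ (n + m) * (u * v) = 0 := by
      rw [← hxy, pow_add]; ring
    have h2 := hpow _ _ h1
    exact (hu.mul hv).ne_zero h2⟩
  haveI hdom : IsDomain B := NoZeroDivisors.to_isDomain B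
  have hϖ0 : ϖ ≠ 0 := by
    rintro rfl
    exact one_ne_zero (hnzd 1 (by simp))
  have hprime : Prime ϖ := by
    rw [← Ideal.span_singleton_prime hϖ0, ← hmax]
    exact (maximalIdeal.isMaximal B).isPrime
  refine ⟨hdom, IsDiscreteValuationRing.ofHasUnitMulPowIrreducibleFactorization
    ⟨ϖ, hprime.irreducible, fun {x} hx => ?_⟩⟩
  obtain ⟨n, u, hu, rfl⟩ := hV x hx
  obtain ⟨u, rfl⟩ := hu
  exact ⟨n, u, mul_comm _ _⟩

/-- Krull intersection: in a noetherian local ring with principal maximal ideal `(ϖ)`, every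
nonzero element is a unit times a power of `ϖ`. -/
theorem V_of_noetherian {B : Type*} [CommRing B] [IsLocalRing B] [IsNoetherianRing B] (ϖ : B)
    (hmax : maximalIdeal B = Ideal.span {ϖ}) :
    ∀ x : B, x ≠ 0 → ∃ (n : ℕ) (u : B), IsUnit u ∧ x = u * ϖ ^ n := by
  intro x hx
  have hinf : ⨅ n : ℕ, (maximalIdeal B) ^ n = ⊥ :=
    Ideal.iInf_pow_eq_bot_of_isLocalRing _ (maximalIdeal.isMaximal B).ne_top
  have hex : ∃ n : ℕ, x ∉ (maximalIdeal B) ^ n := by
    by_contra hall
    push_neg at hall
    have : x ∈ ⨅ n : ℕ, (maximalIdeal B) ^ n := (Ideal.mem_iInf).mpr hall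
    rw [hinf, Ideal.mem_bot] at this
    exact hx this
  classical
  set n := Nat.find hex with hn
  have hnot : x ∉ (maximalIdeal B) ^ n := Nat.find_spec hex
  have hn0 : n ≠ 0 := by
    intro h0
    rw [h0, pow_zero, Ideal.one_eq_top] at hnot
    exact hnot Submodule.mem_top
  obtain ⟨k, hk⟩ := Nat.exists_eq_succ_of_ne_zero hn0
  have hmem : x ∈ (maximalIdeal B) ^ k := by
    by_contra hk'
    have := Nat.find_min' hex hk'
    omega
  rw [hmax, Ideal.span_singleton_pow, Ideal.mem_span_singleton'] at hmem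
  obtain ⟨u, hu⟩ := hmem
  refine ⟨k, u, ?_, hu.symm⟩
  by_contra hnu
  have : u ∈ maximalIdeal B := hnu
  rw [hmax, Ideal.mem_span_singleton'] at this
  obtain ⟨w, rfl⟩ := this
  apply hnot
  rw [hk, hmax, Ideal.span_singleton_pow, Ideal.mem_span_singleton']
  exact ⟨w, by rw [← hu, pow_succ]; ring⟩

/-- A monic lift of a monic polynomial of positive degree with nonzero derivative. -/
theorem exists_lift {B : Type*} [CommRing B] [IsLocalRing B] (ϖ : B) (hϖ : ϖ ∈ maximalIdeal B)
    (hϖ0 : ϖ ≠ 0) (μ : (ResidueField B)[X]) (hμ : μ.Monic) (hd : μ.natDegree ≠ 0) :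
    ∃ F : B[X], F.Monic ∧ F.map (residue B) = μ ∧ Polynomial.derivative F ≠ 0 := by
  obtain ⟨F₀, hF₀μ, hF₀deg, hF₀m⟩ := Polynomial.lifts_and_natDegree_eq_and_monic
    ((Polynomial.mem_lifts _).mpr (Polynomial.map_surjective (residue B) residue_surjective μ)) hμ
  by_cases hder : Polynomial.derivative F₀ = 0
  · have hd1 : F₀.natDegree ≠ 1 := by
      intro h1
      have := congrArg (fun q => Polynomial.coeff q 0) hder
      simp only [Polynomial.coeff_derivative, Polynomial.coeff_zero] at this
      have hc : F₀.coeff 1 = 1 := by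
        have := hF₀m.coeff_natDegree
        rwa [h1] at this
      rw [zero_add, hc] at this
      simp at this
    have hd2 : 2 ≤ F₀.natDegree := by
      have : F₀.natDegree ≠ 0 := by rw [hF₀deg]; exact hd
      omega
    have hdeglt : (Polynomial.C ϖ * Polynomial.X : B[X]).degree < F₀.degree := by
      rw [Polynomial.degree_eq_natDegree hF₀m.ne_zero]
      refine lt_of_le_of_lt (Polynomial.degree_C_mul_X_le ϖ) ?_
      exact_mod_cast hd2
    refine ⟨F₀ + Polynomial.C ϖ * Polynomial.X, hF₀m.add_of_left hdeglt, ?_, ?_⟩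
    · rw [Polynomial.map_add, hF₀μ, Polynomial.map_mul, Polynomial.map_C,
        (residue_eq_zero_iff ϖ).mpr hϖ, map_zero, zero_mul, add_zero]
    · rw [map_add, hder, zero_add, Polynomial.derivative_C_mul, Polynomial.derivative_X, mul_one]
      rwa [Ne, Polynomial.C_eq_zero]
  · exact ⟨F₀, hF₀m, hF₀μ, hder⟩

theorem sep_of_irreducible {B : Type u} [CommRing B] [IsDomain B] [IsIntegrallyClosed B]
    (F : B[X]) (hFm : F.Monic) (hFirr : Irreducible F) (hFder : Polynomial.derivative F ≠ 0) :
    (F.map (algebraMap B (FractionRing B))).Separable := by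
  have h1 : Irreducible (F.map (algebraMap B (FractionRing B))) :=
    (Polynomial.Monic.irreducible_iff_irreducible_map_fraction_map hFm).mp hFirr
  have h3 : Polynomial.derivative (F.map (algebraMap B (FractionRing B))) ≠ 0 := by
    rw [Polynomial.derivative_map]
    intro h0
    apply hFder
    exact (Polynomial.map_eq_zero_iff (IsFractionRing.injective B (FractionRing B))).mp h0
  exact (Polynomial.separable_iff_derivative_ne_zero h1).mpr h3


theorem sep_map_of_injective {B L' : Type*} [CommRing B] [IsDomain B] [Field L'] (g : B →+* L')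
    (hg : Function.Injective g) (F : B[X])
    (h : (F.map (algebraMap B (FractionRing B))).Separable) : (F.map g).Separable := by
  have hj : ∀ x, (IsFractionRing.lift hg : FractionRing B →+* L') (algebraMap B (FractionRing B) x)
      = g x := fun x => IsFractionRing.lift_algebraMap hg x
  have := h.map (f := (IsFractionRing.lift hg : FractionRing B →+* L'))
  rw [Polynomial.map_map] at this
  have hcomp : (IsFractionRing.lift hg : FractionRing B →+* L').comp
      (algebraMap B (FractionRing B)) = g := RingHom.ext hj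
  rwa [hcomp] at this


/-- separability passes to `AdjoinRoot F` when `F' ≠ 0`. -/
theorem sep_step {O : Type u} [CommRing O] [IsDomain O] [IsIntegrallyClosed O]
    {B : Type u} [CommRing B] [IsDomain B] [IsIntegrallyClosed B] [Algebra O B]
    (hB : ∀ x : B, ∃ p : O[X], p.Monic ∧ (p.map (algebraMap O (FractionRing O))).Separable ∧
      Polynomial.aeval x p = 0)
    (F : B[X]) (hFm : F.Monic) (hFder : Polynomial.derivative F ≠ 0) [IsDomain (AdjoinRoot F)]
    (hinj : Function.Injective (algebraMap O (AdjoinRoot F))) :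
    ∀ y : AdjoinRoot F, ∃ p : O[X], p.Monic ∧
      (p.map (algebraMap O (FractionRing O))).Separable ∧ Polynomial.aeval y p = 0 := by
  have hFd : F.natDegree ≠ 0 := by
    intro h0
    apply hFder
    rw [Polynomial.eq_C_of_natDegree_eq_zero h0, Polynomial.derivative_C]
  haveI : FaithfulSMul O (AdjoinRoot F) := (faithfulSMul_iff_algebraMap_injective O _).mpr hinj
  letI : Algebra (FractionRing O) (FractionRing (AdjoinRoot F)) :=
    FractionRing.liftAlgebra O (FractionRing (AdjoinRoot F))
  haveI : IsScalarTower O (FractionRing O) (FractionRing (AdjoinRoot F)) :=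
    FractionRing.isScalarTower_liftAlgebra O (FractionRing (AdjoinRoot F))
  haveI : IsScalarTower O B (FractionRing (AdjoinRoot F)) :=
    IsScalarTower.of_algebraMap_eq (fun x => by
      rw [IsScalarTower.algebraMap_apply O (AdjoinRoot F) (FractionRing (AdjoinRoot F)),
        IsScalarTower.algebraMap_apply O B (AdjoinRoot F),
        ← IsScalarTower.algebraMap_apply B (AdjoinRoot F) (FractionRing (AdjoinRoot F))])
  set E := separableClosure (FractionRing O) (FractionRing (AdjoinRoot F)) with hE
  have hsepmem : ∀ (x' : FractionRing (AdjoinRoot F)) (p : O[X]),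
      (p.map (algebraMap O (FractionRing O))).Separable → Polynomial.aeval x' p = 0 → x' ∈ E := by
    intro x' p hp hx
    rw [hE, mem_separableClosure_iff]
    have h1 : Polynomial.aeval x' (p.map (algebraMap O (FractionRing O))) = 0 := by
      rw [Polynomial.aeval_map_algebraMap]; exact hx
    exact hp.of_dvd (minpoly.dvd _ _ h1)
  -- (a)
  have ha : ∀ x : B, algebraMap B (FractionRing (AdjoinRoot F)) x ∈ E := by
    intro x
    obtain ⟨p, -, hp, hx⟩ := hB x
    refine hsepmem _ p hp ?_
    rw [Polynomial.aeval_algebraMap_apply, hx, map_zero]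
  -- injectivity of B → L'
  have hinjB : Function.Injective (algebraMap B (FractionRing (AdjoinRoot F))) := by
    rw [IsScalarTower.algebraMap_eq B (AdjoinRoot F) (FractionRing (AdjoinRoot F))]
    refine (IsFractionRing.injective (AdjoinRoot F) (FractionRing (AdjoinRoot F))).comp ?_
    rw [AdjoinRoot.algebraMap_eq]
    exact Groth.Agent.Lib.T2H8.FlatRes.of_injective_of_monic hFm hFd
  -- (b) separability of G
  have hFirr : Irreducible F := by
    have hprime : (Ideal.span {F}).IsPrime := by
      rw [← Ideal.Quotient.isDomain_iff_prime]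
      exact (inferInstance : IsDomain (AdjoinRoot F))
    exact ((Ideal.span_singleton_prime hFm.ne_zero).mp hprime).irreducible
  have hGsep : (F.map (algebraMap B (FractionRing (AdjoinRoot F)))).Separable := by
    have h2 : (F.map (algebraMap B (FractionRing B))).Separable :=
      sep_of_irreducible F hFm hFirr hFder
    exact sep_map_of_injective _ hinjB F h2
  set root' := algebraMap (AdjoinRoot F) (FractionRing (AdjoinRoot F)) (AdjoinRoot.root F)
    with hroot'
  have hroot0 : Polynomial.eval root' (F.map (algebraMap B (FractionRing (AdjoinRoot F)))) = 0 := by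
    rw [Polynomial.eval_map, IsScalarTower.algebraMap_eq B (AdjoinRoot F)
      (FractionRing (AdjoinRoot F)), ← Polynomial.hom_eval₂, AdjoinRoot.algebraMap_eq,
      AdjoinRoot.eval₂_root, map_zero]
  have hrootE : root' ∈ E := by
    have hlifts : F.map (algebraMap B (FractionRing (AdjoinRoot F))) ∈
        Polynomial.lifts (algebraMap E (FractionRing (AdjoinRoot F))) := by
      rw [Polynomial.lifts_iff_coeff_lifts]
      intro n
      rw [Polynomial.coeff_map]
      exact ⟨⟨_, ha (F.coeff n)⟩, rfl⟩
    obtain ⟨GE, hGE⟩ := (Polynomial.mem_lifts _).mp hlifts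
    have hGEsep : GE.Separable := by
      rw [← Polynomial.separable_map (algebraMap E (FractionRing (AdjoinRoot F))), hGE]
      exact hGsep
    have hGEroot : Polynomial.aeval root' GE = 0 := by
      rw [Polynomial.aeval_def, ← Polynomial.eval_map, hGE]
      exact hroot0
    have h1 : IsSeparable E root' := hGEsep.of_dvd (minpoly.dvd _ _ hGEroot)
    have h2 : IsSeparable (FractionRing O) root' :=
      IsSeparable.of_algebra_isSeparable_of_isSeparable (FractionRing O) h1
    rw [hE, mem_separableClosure_iff]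
    exact h2
  -- (c)
  have hc : ∀ y : AdjoinRoot F, algebraMap (AdjoinRoot F) (FractionRing (AdjoinRoot F)) y ∈ E := by
    intro y
    obtain ⟨g, rfl⟩ := AdjoinRoot.mk_surjective y
    induction g using Polynomial.induction_on' with
    | add p q hp hq =>
      rw [map_add, map_add]
      exact E.add_mem hp hq
    | monomial n c =>
      rw [← Polynomial.C_mul_X_pow_eq_monomial, map_mul, map_pow, AdjoinRoot.mk_C, AdjoinRoot.mk_X,
        map_mul, map_pow]
      refine E.mul_mem ?_ (E.pow_mem hrootE n)
      have : algebraMap (AdjoinRoot F) (FractionRing (AdjoinRoot F)) (AdjoinRoot.of F c) =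
          algebraMap B (FractionRing (AdjoinRoot F)) c := by
        rw [IsScalarTower.algebraMap_apply B (AdjoinRoot F) (FractionRing (AdjoinRoot F)),
          AdjoinRoot.algebraMap_eq]
      rw [this]
      exact ha c
  -- (d)
  intro y
  have hyint : IsIntegral O y := by
    haveI : Algebra.IsIntegral O B := ⟨fun x => by
      obtain ⟨p, hp, -, hx⟩ := hB x
      exact ⟨p, hp, hx⟩⟩
    haveI : Algebra.IsIntegral B (AdjoinRoot F) := by
      haveI := hFm.finite_adjoinRoot
      exact Algebra.IsIntegral.of_finite B (AdjoinRoot F)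
    haveI : Algebra.IsIntegral O (AdjoinRoot F) := Algebra.IsIntegral.trans (R := O) B
    exact Algebra.IsIntegral.isIntegral y
  set y' := algebraMap (AdjoinRoot F) (FractionRing (AdjoinRoot F)) y with hy'
  have hy'int : IsIntegral O y' := hyint.algebraMap
  have hy'sep : IsSeparable (FractionRing O) y' := by
    have := hc y
    rwa [hE, mem_separableClosure_iff] at this
  have hmin : minpoly (FractionRing O) y' =
      (minpoly O y').map (algebraMap O (FractionRing O)) :=
    minpoly.isIntegrallyClosed_eq_field_fractions' (FractionRing O) hy'int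
  have hmin' : minpoly O y' = minpoly O y :=
    minpoly.algebraMap_eq (IsFractionRing.injective (AdjoinRoot F) (FractionRing (AdjoinRoot F))) y
  refine ⟨minpoly O y, minpoly.monic hyint, ?_, minpoly.aeval O y⟩
  rw [← hmin', ← hmin]
  exact hy'sep

/-- the invariant carried through the construction over a DVR. -/
def InvDVR (O : Type u) [CommRing O] [IsDomain O] (ϖ : O) (B : Type u) [CommRing B]
    [Algebra O B] : Prop :=
  (∀ x : B, x ≠ 0 → ∃ (n : ℕ) (u : B), IsUnit u ∧ x = u * (algebraMap O B ϖ) ^ n) ∧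
  (∀ x : B, ∃ p : O[X], p.Monic ∧ (p.map (algebraMap O (FractionRing O))).Separable ∧
      Polynomial.aeval x p = 0)

/-- a ring all of whose elements outside the kernel of a map to a field are units is local. -/
theorem isLocalRing_of_hom {R K : Type*} [CommRing R] [Field K] (e' : R →+* K)
    (h : ∀ x, e' x ≠ 0 → IsUnit x) :
    ∃ (_ : IsLocalRing R), ∀ x, x ∈ maximalIdeal R ↔ e' x = 0 := by
  have hiff : ∀ x, e' x = 0 ↔ ¬ IsUnit x := by
    intro x
    constructor
    · intro hx hu
      have := hu.map e'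
      rw [hx] at this
      exact not_isUnit_zero this
    · intro hx
      by_contra h0
      exact hx (h x h0)
  haveI : Nontrivial R := by
    refine ⟨⟨0, 1, fun h01 => ?_⟩⟩
    have := congrArg e' h01
    simp at this
  have hloc : IsLocalRing R := by
    refine IsLocalRing.of_nonunits_add ?_
    intro x y hx hy
    have hx' := (hiff x).mpr hx
    have hy' := (hiff y).mpr hy
    exact (hiff (x + y)).mp (by rw [map_add, hx', hy', add_zero])
  exact ⟨hloc, fun x => (hiff x).symm⟩

section

variable (O : Type u) [CommRing O] [IsDomain O] [IsDiscreteValuationRing O]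

theorem invDVR_equiv (ϖ : O) (B B' : Type u) [CommRing B] [CommRing B'] [Algebra O B]
    [Algebra O B'] (Φ : B ≃ₐ[O] B') (h : InvDVR O ϖ B) : InvDVR O ϖ B' := by
  refine ⟨fun x hx => ?_, fun x => ?_⟩
  · have hx' : Φ.symm x ≠ 0 := by
      intro h0
      apply hx
      rw [← Φ.apply_symm_apply x, h0, map_zero]
    obtain ⟨n, u, hu, hxu⟩ := h.1 _ hx'
    refine ⟨n, Φ u, hu.map Φ, ?_⟩
    rw [← Φ.apply_symm_apply x, hxu, map_mul, map_pow, Φ.commutes]
  · obtain ⟨p, hp, hps, hpx⟩ := h.2 (Φ.symm x)
    refine ⟨p, hp, hps, ?_⟩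
    have := congrArg Φ hpx
    rwa [← Polynomial.aeval_algHom_apply, Φ.apply_symm_apply, map_zero] at this

theorem invDVR_base (ϖ : O) (hϖ : Irreducible ϖ) : InvDVR O ϖ O := by
  refine ⟨fun x hx => ?_, fun x => ?_⟩
  · obtain ⟨n, u, rfl⟩ := IsDiscreteValuationRing.eq_unit_mul_pow_irreducible hx hϖ
    exact ⟨n, u, u.isUnit, rfl⟩
  · refine ⟨Polynomial.X - Polynomial.C x, Polynomial.monic_X_sub_C x, ?_, by simp⟩
    rw [Polynomial.map_sub, Polynomial.map_X, Polynomial.map_C]
    exact Polynomial.separable_X_sub_C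

theorem invDVR_union (ϖ : O) (B : Type u) [CommRing B] [Algebra O B] (ι : Type u)
    (Bi : ι → Type u) [∀ i, CommRing (Bi i)] [∀ i, Algebra O (Bi i)] (ψ : ∀ i, Bi i →ₐ[O] B)
    (hsurj : ∀ x, ∃ i y, ψ i y = x) (hinv : ∀ i, InvDVR O ϖ (Bi i)) : InvDVR O ϖ B := by
  refine ⟨fun x hx => ?_, fun x => ?_⟩
  · obtain ⟨i, y, rfl⟩ := hsurj x
    have hy : y ≠ 0 := by
      rintro rfl
      exact hx (map_zero _)
    obtain ⟨n, u, hu, rfl⟩ := (hinv i).1 y hy
    exact ⟨n, ψ i u, hu.map (ψ i), by rw [map_mul, map_pow, (ψ i).commutes]⟩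
  · obtain ⟨i, y, rfl⟩ := hsurj x
    obtain ⟨p, hp, hps, hpy⟩ := (hinv i).2 y
    refine ⟨p, hp, hps, ?_⟩
    rw [Polynomial.aeval_algHom_apply, hpy, map_zero]


theorem nzd_of_flat (ϖ : O) (hϖ0 : ϖ ≠ 0) (B : Type u) [CommRing B] [Algebra O B]
    [Module.Flat O B] : ∀ x : B, algebraMap O B ϖ * x = 0 → x = 0 := by
  intro x hx
  have hreg : IsSMulRegular B ϖ :=
    Module.Flat.isSMulRegular_of_nonZeroDivisors (mem_nonZeroDivisors_of_ne_zero hϖ0)
  apply hreg
  simp only [smul_zero]
  rw [Algebra.smul_def]; exact hx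

theorem maximalIdeal_eq_span (ϖ : O) (hϖ : Irreducible ϖ) (B : Type u) [CommRing B] [Algebra O B]
    [IsLocalRing B] (hmax : maximalIdeal B = (maximalIdeal O).map (algebraMap O B)) :
    maximalIdeal B = Ideal.span {algebraMap O B ϖ} := by
  rw [hmax, hϖ.maximalIdeal_eq, Ideal.map_span, Set.image_singleton]

theorem invDVR_step (ϖ : O) (hϖ : Irreducible ϖ) {k' : Type u} [Field k'] (e : O →+* k')
    (hint : ∀ a : k', e.IsIntegralElem a)
    (B : Type u) [CommRing B] [Algebra O B] [IsLocalRing B] (eb : B →+* k')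
    (heb : ∀ x, eb x = 0 ↔ x ∈ maximalIdeal B) (hcomp : eb.comp (algebraMap O B) = e)
    (hflat : Module.Flat O B) (hmax : maximalIdeal B = (maximalIdeal O).map (algebraMap O B))
    (hinv : InvDVR O ϖ B) (a : k') :
    ∃ F : B[X], F.Monic ∧ Irreducible (F.map (residue B)) ∧ Polynomial.eval₂ eb a F = 0 ∧
      InvDVR O ϖ (AdjoinRoot F) := by
  have hϖ0 : ϖ ≠ 0 := hϖ.ne_zero
  have hmaxB := maximalIdeal_eq_span O ϖ hϖ B hmax
  have hnzdB := nzd_of_flat O ϖ hϖ0 B
  obtain ⟨hdomB, hdvrB⟩ := isDVR_of_V (algebraMap O B ϖ) hmaxB hnzdB hinv.1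
  -- residue field algebra
  haveI : IsLocalHom eb := ⟨fun x hx => by
    by_contra hnu
    have : eb x = 0 := (heb x).mpr hnu
    rw [this] at hx
    exact not_isUnit_zero hx⟩
  let ι : ResidueField B →+* k' := IsLocalRing.ResidueField.lift eb
  have hι : ι.comp (residue B) = eb := IsLocalRing.ResidueField.lift_comp_residue eb
  letI : Algebra (ResidueField B) k' := ι.toAlgebra
  have hev : ∀ g : B[X], Polynomial.eval₂ eb a g = Polynomial.aeval a (g.map (residue B)) := by
    intro g
    rw [Polynomial.aeval_def, Polynomial.eval₂_map]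
    change _ = Polynomial.eval₂ (ι.comp (residue B)) a g
    rw [hι]
  have haint : IsIntegral (ResidueField B) a := by
    obtain ⟨p, hp, hpa⟩ := hint a
    refine ⟨(p.map (algebraMap O B)).map (residue B), (hp.map _).map _, ?_⟩
    rw [← Polynomial.aeval_def, ← hev, Polynomial.eval₂_map, hcomp]
    exact hpa
  have hμm := minpoly.monic haint
  have hμirr := minpoly.irreducible haint
  have hμd : (minpoly (ResidueField B) a).natDegree ≠ 0 := (minpoly.natDegree_pos haint).ne'
  have hϖB0 : algebraMap O B ϖ ≠ 0 := by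
    intro h0
    have := hnzdB 1 (by rw [h0, zero_mul])
    exact one_ne_zero this
  have hϖBmem : algebraMap O B ϖ ∈ maximalIdeal B := by
    rw [hmaxB]; exact Ideal.mem_span_singleton_self _
  obtain ⟨F, hFm, hFμ, hFder⟩ := exists_lift (algebraMap O B ϖ) hϖBmem hϖB0 _ hμm hμd
  have hFirr : Irreducible (F.map (residue B)) := by rw [hFμ]; exact hμirr
  have hFa : Polynomial.eval₂ eb a F = 0 := by rw [hev, hFμ, minpoly.aeval]
  refine ⟨F, hFm, hFirr, hFa, ?_⟩
  -- the invariant for AdjoinRoot F
  obtain ⟨hFd, e', he'of, he'root, he'unit, he'ker⟩ :=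
    Groth.Agent.Lib.T2H8.FlatRes.step' eb heb a F hFm hFirr hFa
  obtain ⟨hloc', hmem'⟩ := isLocalRing_of_hom e' he'unit
  have hmax' : maximalIdeal (AdjoinRoot F) = Ideal.span {algebraMap O (AdjoinRoot F) ϖ} := by
    have h1 : maximalIdeal (AdjoinRoot F) = (maximalIdeal B).map (AdjoinRoot.of F) := by
      apply le_antisymm
      · intro x hx
        exact he'ker x ((hmem' x).mp hx)
      · rw [Ideal.map_le_iff_le_comap]
        intro b hb
        rw [Ideal.mem_comap, hmem']
        change (e'.comp (AdjoinRoot.of F)) b = 0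
        rw [he'of]
        exact (heb b).mpr hb
    rw [h1, hmaxB, Ideal.map_span, Set.image_singleton,
      IsScalarTower.algebraMap_apply O B (AdjoinRoot F), AdjoinRoot.algebraMap_eq]
  haveI : Module.Free B (AdjoinRoot F) := hFm.free_adjoinRoot
  haveI : Module.Finite B (AdjoinRoot F) := hFm.finite_adjoinRoot
  haveI : Module.Flat O (AdjoinRoot F) := Module.Flat.trans O B (AdjoinRoot F)
  have hnzd' := nzd_of_flat O ϖ hϖ0 (AdjoinRoot F)
  haveI : IsNoetherianRing (AdjoinRoot F) := IsNoetherianRing.of_finite B (AdjoinRoot F)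
  have hV' := V_of_noetherian (algebraMap O (AdjoinRoot F) ϖ) hmax'
  obtain ⟨hdom', -⟩ := isDVR_of_V (algebraMap O (AdjoinRoot F) ϖ) hmax' hnzd' hV'
  have hinj' : Function.Injective (algebraMap O (AdjoinRoot F)) := by
    rw [injective_iff_map_eq_zero]
    intro x hx
    by_contra hx0
    have hreg : IsSMulRegular (AdjoinRoot F) x :=
      Module.Flat.isSMulRegular_of_nonZeroDivisors (mem_nonZeroDivisors_of_ne_zero hx0)
    have : (1 : AdjoinRoot F) = 0 := by
      apply hreg
      simp only [smul_zero]
      rw [Algebra.smul_def, hx, zero_mul]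
    exact one_ne_zero this
  exact ⟨hV', sep_step hinv.2 F hFm hFder hinj'⟩


theorem main_dvr (k' : Type u) [Field k'] [Algebra (IsLocalRing.ResidueField O) k']
    [Algebra.IsAlgebraic (IsLocalRing.ResidueField O) k'] :
    ∃ (OL : Type u) (_ : CommRing OL) (_ : IsDomain OL) (_ : IsDiscreteValuationRing OL)
      (φ : O →+* OL),
      Function.Injective φ ∧ IsLocalHom φ ∧
      Ideal.map φ (IsLocalRing.maximalIdeal O) = IsLocalRing.maximalIdeal OL ∧
      (∃ e : IsLocalRing.ResidueField OL ≃+* k',
        ∀ a : O, e (IsLocalRing.residue OL (φ a)) =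
          algebraMap (IsLocalRing.ResidueField O) k' (IsLocalRing.residue O a)) ∧
      ∀ x : OL, ∃ p : Polynomial O,
        (p.map (algebraMap O (FractionRing O))).Separable ∧ Polynomial.eval₂ φ x p = 0 := by
  let e : O →+* k' := (algebraMap (ResidueField O) k').comp (residue O)
  have he : ∀ x, e x = 0 ↔ x ∈ maximalIdeal O := by
    intro x
    change algebraMap (ResidueField O) k' (residue O x) = 0 ↔ _
    rw [map_eq_zero, residue_eq_zero_iff]
  have hint : ∀ a : k', e.IsIntegralElem a := by
    intro a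
    obtain ⟨p, hp, hpa⟩ := (Algebra.IsAlgebraic.isAlgebraic (R := ResidueField O) a).isIntegral
    obtain ⟨P, hPp, -, hPm⟩ := Polynomial.lifts_and_natDegree_eq_and_monic
      ((Polynomial.mem_lifts _).mpr (Polynomial.map_surjective (residue O) residue_surjective p)) hp
    refine ⟨P, hPm, ?_⟩
    change Polynomial.eval₂ ((algebraMap (ResidueField O) k').comp (residue O)) a P = 0
    rw [← Polynomial.eval₂_map, hPp]
    exact hpa
  obtain ⟨ϖ, hϖ⟩ := IsDiscreteValuationRing.exists_irreducible O
  obtain ⟨R', _, _, _, e', he', hsurj, hflat', hmax', hker', hinv'⟩ :=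
    Groth.Agent.Lib.T2H8.FlatRes.core_inv e he (fun B _ _ => InvDVR O ϖ B)
      (fun B B' _ _ _ _ Φ h => invDVR_equiv O ϖ B B' Φ h)
      (invDVR_base O ϖ hϖ)
      (fun B _ _ ι _ Bi _ _ ψ _ _ hs hi => invDVR_union O ϖ B ι Bi ψ hs hi)
      (fun B _ _ _ eb heb hcomp hflat hmax hinv a =>
        invDVR_step O ϖ hϖ e hint B eb heb hcomp hflat hmax hinv a)
  have hmaxR' := maximalIdeal_eq_span O ϖ hϖ R' hmax'.symm
  have hnzd' := nzd_of_flat O ϖ hϖ.ne_zero R'
  obtain ⟨hdom, hdvr⟩ := isDVR_of_V (algebraMap O R' ϖ) hmaxR' hnzd' hinv'.1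
  have hcomp : ∀ x : O, e' (algebraMap O R' x) = e x := by
    intro x
    rw [← RingHom.comp_apply, he']
  refine ⟨R', inferInstance, hdom, hdvr, algebraMap O R', ?_, ?_, hmax', ?_, ?_⟩
  · rw [injective_iff_map_eq_zero]
    intro x hx
    by_contra hx0
    have hreg : IsSMulRegular R' x :=
      Module.Flat.isSMulRegular_of_nonZeroDivisors (mem_nonZeroDivisors_of_ne_zero hx0)
    have : (1 : R') = 0 := by
      apply hreg
      simp only [smul_zero]
      rw [Algebra.smul_def, hx, zero_mul]
    exact one_ne_zero this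
  · refine ⟨fun x hx => ?_⟩
    by_contra hnu
    have h0 : e x = 0 := (he x).mpr hnu
    have := hx.map e'
    rw [hcomp, h0] at this
    exact not_isUnit_zero this
  · haveI : IsLocalHom e' := ⟨fun x hx => by
      by_contra hnu
      have : e' x = 0 := (hker' x).mpr hnu
      rw [this] at hx
      exact not_isUnit_zero hx⟩
    let ψ : ResidueField R' →+* k' := IsLocalRing.ResidueField.lift e'
    have hψ : ∀ x, ψ (residue R' x) = e' x :=
      fun x => IsLocalRing.ResidueField.lift_residue_apply e' x
    have hbij : Function.Bijective ψ := by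
      refine ⟨ψ.injective, fun a => ?_⟩
      obtain ⟨x, rfl⟩ := hsurj a
      exact ⟨residue R' x, hψ x⟩
    refine ⟨RingEquiv.ofBijective ψ hbij, fun a => ?_⟩
    change ψ (residue R' (algebraMap O R' a)) = _
    rw [hψ, hcomp]
    rfl
  · intro x
    obtain ⟨p, -, hps, hpx⟩ := hinv'.2 x
    exact ⟨p, hps, by rw [← Polynomial.aeval_def]; exact hpx⟩

end

end Groth.Agent.Lib.T2H8.FlatResDVR
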