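import Mathlib
import Groth.Agent.Lib.T2H8FlatResC
import Groth.Agent.Lib.Helper3HenselInt

/-!
# Henselian DVR: unramified integral extension with perfect residue field (helper8)

`main_perf`: a henselian DVR `R` with residue field `k` of exponential characteristic `p` has an
integral extension `R'` which is a henselian DVR with the same uniformizer, is a directed union of
finite free subalgebras of `p`-power rank, and has residue field the perfect closure of `k`.
Uses `FlatRes.core_inv` with the invariant "(V) ∧ FF".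
-/

set_option autoImplicit false

open IsLocalRing
open scoped Polynomial

namespace Groth.Agent.Lib.T2H8.FlatResPerf

universe u

/-- every finite subset lies in a finite free subalgebra of `p`-power rank. -/
def FF (R : Type u) [CommRing R] (p : ℕ) (B : Type u) [CommRing B] [Algebra R B] : Prop :=
  ∀ s : Finset B, ∃ S : Subalgebra R B, (↑s : Set B) ⊆ ↑S ∧ Module.Finite R S ∧ Module.Free R S ∧
    ∃ m : ℕ, Module.finrank R S = p ^ m

theorem ff_step (R : Type u) [CommRing R] [Nontrivial R] (p : ℕ) (hp : 0 < p) (B : Type u) [CommRing B] [Algebra R B]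
    (hB : FF R p B) (F : B[X]) (hFm : F.Monic) (j : ℕ) (hdeg : F.natDegree = p ^ j) :
    FF R p (AdjoinRoot F) := by
  classical
  intro s
  have hg : ∀ y : AdjoinRoot F, ∃ g : B[X], AdjoinRoot.mk F g = y := AdjoinRoot.mk_surjective
  choose g hgy using hg
  obtain ⟨S₀, hTS, hfin, hfree, m, hrank⟩ := hB (F.coeffs ∪ s.biUnion (fun y => (g y).coeffs))
  have hlift : ∀ q : B[X], (↑q.coeffs : Set B) ⊆ ↑S₀ → q ∈ Polynomial.lifts (algebraMap S₀ B) := by
    intro q hq
    rw [Polynomial.lifts_iff_coeff_lifts]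
    intro n
    by_cases h0 : q.coeff n = 0
    · exact ⟨0, by rw [map_zero, h0]⟩
    · exact ⟨⟨q.coeff n, hq (Polynomial.coeff_mem_coeffs h0)⟩, rfl⟩
  have hFS : (↑F.coeffs : Set B) ⊆ ↑S₀ := by
    intro c hc
    exact hTS (by simp only [Finset.coe_union, Set.mem_union]; exact Or.inl hc)
  have hgS : ∀ y ∈ s, (↑(g y).coeffs : Set B) ⊆ ↑S₀ := by
    intro y hy c hc
    refine hTS ?_
    simp only [Finset.coe_union, Finset.coe_biUnion, Set.mem_union, Set.mem_iUnion]
    exact Or.inr ⟨y, hy, hc⟩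
  obtain ⟨F₀, hF₀, hF₀deg, hF₀m⟩ := Polynomial.lifts_and_natDegree_eq_and_monic (hlift F hFS) hFm
  let i : S₀ →ₐ[R] AdjoinRoot F := (IsScalarTower.toAlgHom R B (AdjoinRoot F)).comp S₀.val
  have hi : (i : S₀ →+* AdjoinRoot F) = (AdjoinRoot.of F).comp (algebraMap S₀ B) := by
    ext x; rfl
  have hroot : F₀.eval₂ i (AdjoinRoot.root F) = 0 := by
    change F₀.eval₂ (i : S₀ →+* AdjoinRoot F) (AdjoinRoot.root F) = 0
    rw [hi, ← Polynomial.eval₂_map, hF₀, AdjoinRoot.eval₂_root]
  let Ψ : AdjoinRoot F₀ →ₐ[R] AdjoinRoot F := AdjoinRoot.liftAlgHom F₀ i (AdjoinRoot.root F) hroot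
  have hΨ : ∀ g₀ : S₀[X], Ψ (AdjoinRoot.mk F₀ g₀) = AdjoinRoot.mk F (g₀.map (algebraMap S₀ B)) := by
    intro g₀
    change AdjoinRoot.lift (i : S₀ →+* AdjoinRoot F) _ hroot (AdjoinRoot.mk F₀ g₀) = _
    rw [AdjoinRoot.lift_mk, hi, ← Polynomial.eval₂_map, ← AdjoinRoot.aeval_eq,
      Polynomial.aeval_def, AdjoinRoot.algebraMap_eq]
  have hΨinj : Function.Injective Ψ := by
    rw [injective_iff_map_eq_zero]
    intro x hx
    obtain ⟨g₀, rfl⟩ := AdjoinRoot.mk_surjective x
    have hg₀ : AdjoinRoot.mk F₀ g₀ = AdjoinRoot.mk F₀ (g₀ %ₘ F₀) := by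
      rw [AdjoinRoot.mk_eq_mk]
      refine ⟨g₀ /ₘ F₀, ?_⟩
      have := Polynomial.modByMonic_add_div g₀ F₀
      linear_combination -this
    rw [hg₀] at hx ⊢
    set h := g₀ %ₘ F₀ with hh
    rw [hΨ, AdjoinRoot.mk_eq_zero] at hx
    have hinj : Function.Injective (algebraMap S₀ B) := Subtype.val_injective
    by_cases h0 : h = 0
    · rw [h0, map_zero]
    · exfalso
      haveI : Nontrivial S₀ := by
        by_contra hnt
        rw [not_nontrivial_iff_subsingleton] at hnt
        exact h0 (Subsingleton.elim _ _)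
      haveI : Nontrivial B := hinj.nontrivial
      have hmap0 : h.map (algebraMap S₀ B) ≠ 0 := by
        rwa [Ne, Polynomial.map_eq_zero_iff hinj]
      refine hFm.not_dvd_of_degree_lt hmap0 ?_ hx
      rw [Polynomial.degree_map_eq_of_injective hinj]
      have h1 : h.degree < F₀.degree := Polynomial.degree_modByMonic_lt g₀ hF₀m
      rwa [Polynomial.degree_eq_natDegree hF₀m.ne_zero, hF₀deg,
        ← Polynomial.degree_eq_natDegree hFm.ne_zero] at h1
  refine ⟨Ψ.range, ?_, ?_, ?_, m + j, ?_⟩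
  · intro y hy
    obtain ⟨g₀, hg₀⟩ := (Polynomial.mem_lifts _).mp (hlift (g y) (hgS y hy))
    exact ⟨AdjoinRoot.mk F₀ g₀, show Ψ (AdjoinRoot.mk F₀ g₀) = y by rw [hΨ, hg₀, hgy]⟩
  all_goals
    haveI : Nontrivial S₀ := Module.nontrivial_of_finrank_pos (R := R) (by rw [hrank]; positivity)
    haveI : Module.Free S₀ (AdjoinRoot F₀) := hF₀m.free_adjoinRoot
    haveI : Module.Finite S₀ (AdjoinRoot F₀) := hF₀m.finite_adjoinRoot
    haveI : Module.Free R (AdjoinRoot F₀) := Module.Free.trans (R := R) (S := S₀)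
    haveI : Module.Finite R (AdjoinRoot F₀) := Module.Finite.trans S₀ (AdjoinRoot F₀)
    have eΨ : AdjoinRoot F₀ ≃ₗ[R] Ψ.range := (AlgEquiv.ofInjective Ψ hΨinj).toLinearEquiv
  · exact Module.Finite.equiv eΨ
  · exact Module.Free.of_equiv eΨ
  · rw [← eΨ.finrank_eq, ← Module.finrank_mul_finrank R S₀ (AdjoinRoot F₀), hrank,
      (AdjoinRoot.powerBasis' hF₀m).finrank, AdjoinRoot.powerBasis'_dim, hF₀deg, hdeg, pow_add]


theorem ff_map (R : Type u) [CommRing R] (p : ℕ) {B B' : Type u} [CommRing B] [CommRing B']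
    [Algebra R B] [Algebra R B'] (ψ : B →ₐ[R] B') (hψ : Function.Injective ψ) (h : FF R p B)
    (s : Finset B') (hs : (↑s : Set B') ⊆ Set.range ψ) :
    ∃ S : Subalgebra R B', (↑s : Set B') ⊆ ↑S ∧ Module.Finite R S ∧ Module.Free R S ∧
      ∃ m : ℕ, Module.finrank R S = p ^ m := by
  classical
  rw [← Set.image_univ] at hs
  obtain ⟨s', -, rfl⟩ := Finset.subset_set_image_iff.mp hs
  obtain ⟨S, hsS, hfin, hfree, m, hrank⟩ := h s'
  have eS : S ≃ₗ[R] S.map ψ := (S.equivMapOfInjective ψ hψ).toLinearEquiv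
  refine ⟨S.map ψ, ?_, Module.Finite.equiv eS, Module.Free.of_equiv eS, m, ?_⟩
  · intro y hy
    rw [Finset.coe_image] at hy
    obtain ⟨x, hx, rfl⟩ := hy
    exact ⟨x, hsS hx, rfl⟩
  · rw [← eS.finrank_eq, hrank]

theorem ff_equiv (R : Type u) [CommRing R] (p : ℕ) {B B' : Type u} [CommRing B] [CommRing B']
    [Algebra R B] [Algebra R B'] (Φ : B ≃ₐ[R] B') (h : FF R p B) : FF R p B' := by
  intro s
  refine ff_map R p (Φ : B →ₐ[R] B') Φ.injective h s ?_
  intro y _
  exact ⟨Φ.symm y, Φ.apply_symm_apply y⟩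

theorem ff_base (R : Type u) [CommRing R] [Nontrivial R] (p : ℕ) : FF R p R := by
  intro s
  have eT : (⊤ : Subalgebra R R) ≃ₗ[R] R := (Subalgebra.topEquiv).toLinearEquiv
  refine ⟨⊤, fun _ _ => Algebra.mem_top, Module.Finite.equiv eT.symm, Module.Free.of_equiv eT.symm,
    0, ?_⟩
  rw [eT.finrank_eq, Module.finrank_self, pow_zero]

theorem ff_union (R : Type u) [CommRing R] (p : ℕ) (B : Type u) [CommRing B] [Algebra R B]
    (ι : Type u) [Nonempty ι] (Bi : ι → Type u) [∀ i, CommRing (Bi i)] [∀ i, Algebra R (Bi i)]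
    (ψ : ∀ i, Bi i →ₐ[R] B) (hinj : ∀ i, Function.Injective (ψ i))
    (hdir : ∀ i j, ∃ k, (ψ i).range ≤ (ψ k).range ∧ (ψ j).range ≤ (ψ k).range)
    (hsurj : ∀ x, ∃ i y, ψ i y = x) (hff : ∀ i, FF R p (Bi i)) : FF R p B := by
  classical
  intro s
  have hstage : ∃ k, (↑s : Set B) ⊆ Set.range (ψ k) := by
    induction s using Finset.induction_on with
    | empty => exact ⟨Classical.arbitrary ι, by simp⟩
    | insert x t _ ih =>
      obtain ⟨k, hk⟩ := ih
      obtain ⟨i, y, hy⟩ := hsurj x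
      obtain ⟨l, hkl, hil⟩ := hdir k i
      refine ⟨l, ?_⟩
      intro z hz
      rw [Finset.coe_insert, Set.mem_insert_iff] at hz
      rcases hz with rfl | hz
      · exact hil ⟨y, hy⟩
      · exact hkl (hk hz)
  obtain ⟨k, hk⟩ := hstage
  exact ff_map R p (ψ k) (hinj k) (hff k) s hk


open Groth.Agent.Lib.T2H8.FlatResDVR in
theorem invP_step (O : Type u) [CommRing O] [IsDomain O] [IsDiscreteValuationRing O]
    (ϖ : O) (hϖ : Irreducible ϖ) (p : ℕ) [hp : Fact p.Prime] {k' : Type u} [Field k'] [CharP k' p]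
    (e : O →+* k') (hpi : ∀ a : k', ∃ (n : ℕ) (x : O), a ^ p ^ n = e x)
    (B : Type u) [CommRing B] [Algebra O B] [IsLocalRing B] (eb : B →+* k')
    (heb : ∀ x, eb x = 0 ↔ x ∈ maximalIdeal B) (hcomp : eb.comp (algebraMap O B) = e)
    (hflat : Module.Flat O B) (hmax : maximalIdeal B = (maximalIdeal O).map (algebraMap O B))
    (hV : ∀ x : B, x ≠ 0 → ∃ (n : ℕ) (u : B), IsUnit u ∧ x = u * (algebraMap O B ϖ) ^ n)
    (hFF : FF O p B) (a : k') :
    ∃ F : B[X], F.Monic ∧ Irreducible (F.map (residue B)) ∧ Polynomial.eval₂ eb a F = 0 ∧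
      (∀ x : AdjoinRoot F, x ≠ 0 → ∃ (n : ℕ) (u : AdjoinRoot F), IsUnit u ∧
        x = u * (algebraMap O (AdjoinRoot F) ϖ) ^ n) ∧ FF O p (AdjoinRoot F) := by
  have hϖ0 : ϖ ≠ 0 := hϖ.ne_zero
  have hmaxB := maximalIdeal_eq_span O ϖ hϖ B hmax
  have hnzdB := nzd_of_flat O ϖ hϖ0 B
  obtain ⟨hdomB, hdvrB⟩ := isDVR_of_V (algebraMap O B ϖ) hmaxB hnzdB hV
  haveI : IsLocalHom eb := ⟨fun x hx => by
    by_contra hnu
    have : eb x = 0 := (heb x).mpr hnu
    rw [this] at hx
    exact not_isUnit_zero hx⟩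
  let ι : ResidueField B →+* k' := IsLocalRing.ResidueField.lift eb
  have hι : ι.comp (residue B) = eb := IsLocalRing.ResidueField.lift_comp_residue eb
  letI : Algebra (ResidueField B) k' := ι.toAlgebra
  have hev : ∀ g : B[X], Polynomial.eval₂ eb a g = Polynomial.aeval a (g.map (residue B)) := by
    intro g
    rw [Polynomial.aeval_def, Polynomial.eval₂_map]
    change _ = Polynomial.eval₂ (ι.comp (residue B)) a g
    rw [hι]
  haveI : CharP (ResidueField B) p := ι.charP ι.injective p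
  haveI : ExpChar (ResidueField B) p := ExpChar.prime hp.out
  haveI : IsPurelyInseparable (ResidueField B) k' := by
    rw [isPurelyInseparable_iff_pow_mem (ResidueField B) p]
    intro x
    obtain ⟨n, y, hy⟩ := hpi x
    refine ⟨n, residue B (algebraMap O B y), ?_⟩
    change ι (residue B (algebraMap O B y)) = _
    rw [hy, ← hcomp]
    rfl
  obtain ⟨n, y, hμ⟩ := IsPurelyInseparable.minpoly_eq_X_pow_sub_C (ResidueField B) p a
  have haint : IsIntegral (ResidueField B) a := Algebra.IsIntegral.isIntegral a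
  have hμm := minpoly.monic haint
  have hμirr := minpoly.irreducible haint
  obtain ⟨F, hFμ, hFdeg, hFm⟩ := Polynomial.lifts_and_natDegree_eq_and_monic
    ((Polynomial.mem_lifts _).mpr (Polynomial.map_surjective (residue B) residue_surjective
      (minpoly (ResidueField B) a))) hμm
  have hFd : F.natDegree = p ^ n := by
    rw [hFdeg, hμ, Polynomial.natDegree_X_pow_sub_C]
  have hFirr : Irreducible (F.map (residue B)) := by rw [hFμ]; exact hμirr
  have hFa : Polynomial.eval₂ eb a F = 0 := by rw [hev, hFμ, minpoly.aeval]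
  refine ⟨F, hFm, hFirr, hFa, ?_, ff_step O p hp.out.pos B hFF F hFm n hFd⟩
  obtain ⟨-, e', he'of, he'root, he'unit, he'ker⟩ :=
    Groth.Agent.Lib.T2H8.FlatRes.step' eb heb a F hFm hFirr hFa
  obtain ⟨hloc', hmem'⟩ := isLocalRing_of_hom e' he'unit
  have hmax' : maximalIdeal (AdjoinRoot F) = Ideal.span {algebraMap O (AdjoinRoot F) ϖ} := by
    have h1 : maximalIdeal (AdjoinRoot F) = (maximalIdeal B).map (AdjoinRoot.of F) := by
      apply le_antisymm
      · intro x hx
        exact he'ker x ((hmem' x).mp hx)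
      · rw [Ideal.map_le_iff_le_comap]
        intro b hb
        rw [Ideal.mem_comap, hmem']
        change (e'.comp (AdjoinRoot.of F)) b = 0
        rw [he'of]
        exact (heb b).mpr hb
    rw [h1, hmaxB, Ideal.map_span, Set.image_singleton,
      IsScalarTower.algebraMap_apply O B (AdjoinRoot F), AdjoinRoot.algebraMap_eq]
  haveI : Module.Finite B (AdjoinRoot F) := hFm.finite_adjoinRoot
  haveI : IsNoetherianRing (AdjoinRoot F) := IsNoetherianRing.of_finite B (AdjoinRoot F)
  exact V_of_noetherian (algebraMap O (AdjoinRoot F) ϖ) hmax'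


section Main

variable (R : Type u) [CommRing R] [IsDomain R] [IsDiscreteValuationRing R] [HenselianLocalRing R]

/-- the conclusion of the theorem, for a given exponent `q`. -/
def Concl (q : ℕ) : Prop :=
  ∃ (R' : Type u) (_ : CommRing R') (_ : IsDomain R') (_ : IsDiscreteValuationRing R')
      (_ : HenselianLocalRing R') (_ : Algebra R R'),
      Function.Injective (algebraMap R R') ∧
      Ideal.map (algebraMap R R') (IsLocalRing.maximalIdeal R) = IsLocalRing.maximalIdeal R' ∧
      (∀ s : Finset R', ∃ S : Subalgebra R R', (↑s : Set R') ⊆ ↑S ∧ Module.Finite R S ∧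
        Module.Free R S ∧ ∃ m : ℕ, Module.finrank R S = q ^ m) ∧
      (∀ y : R', ∃ z : R', z ^ q - y ∈ IsLocalRing.maximalIdeal R') ∧
      (∀ y : R', ∃ (m : ℕ) (z : R),
        algebraMap R R' z - y ^ (q ^ m) ∈ IsLocalRing.maximalIdeal R')

theorem concl_one : Concl R 1 := by
  refine ⟨R, inferInstance, inferInstance, inferInstance, inferInstance, inferInstance,
    fun _ _ h => h, Ideal.map_id _, ff_base R 1, fun y => ⟨y, by simp⟩, fun y => ⟨0, y, by simp⟩⟩

open Groth.Agent.Lib.T2H8.FlatResDVR in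
theorem concl_prime (p : ℕ) [hp : Fact p.Prime] [CharP (ResidueField R) p] : Concl R p := by
  let k' := PerfectClosure (ResidueField R) p
  let e : R →+* k' := (PerfectClosure.of (ResidueField R) p).comp (residue R)
  have he : ∀ x, e x = 0 ↔ x ∈ maximalIdeal R := by
    intro x
    change PerfectClosure.of (ResidueField R) p (residue R x) = 0 ↔ _
    rw [map_eq_zero, residue_eq_zero_iff]
  have hpi : ∀ a : k', ∃ (n : ℕ) (x : R), a ^ p ^ n = e x := by
    intro a
    induction a using PerfectClosure.induction_on with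
    | _ x =>
      obtain ⟨n, x⟩ := x
      obtain ⟨y, rfl⟩ := residue_surjective x
      refine ⟨n, y, ?_⟩
      rw [← iterate_frobenius, PerfectClosure.iterate_frobenius_mk]
      rfl
  obtain ⟨ϖ, hϖ⟩ := IsDiscreteValuationRing.exists_irreducible R
  obtain ⟨R', _, _, _, e', he', hsurj, hflat', hmax', hker', hV', hFF'⟩ :=
    Groth.Agent.Lib.T2H8.FlatRes.core_inv e he
      (fun B _ _ => (∀ x : B, x ≠ 0 → ∃ (n : ℕ) (u : B), IsUnit u ∧
        x = u * (algebraMap R B ϖ) ^ n) ∧ FF R p B)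
      (fun B B' _ _ _ _ Φ h => ⟨fun x hx => by
        have hx' : Φ.symm x ≠ 0 := by
          intro h0
          apply hx
          rw [← Φ.apply_symm_apply x, h0, map_zero]
        obtain ⟨n, u, hu, hxu⟩ := h.1 _ hx'
        refine ⟨n, Φ u, hu.map Φ, ?_⟩
        rw [← Φ.apply_symm_apply x, hxu, map_mul, map_pow, Φ.commutes], ff_equiv R p Φ h.2⟩)
      ⟨fun x hx => by
        obtain ⟨n, u, rfl⟩ := IsDiscreteValuationRing.eq_unit_mul_pow_irreducible hx hϖ
        exact ⟨n, u, u.isUnit, rfl⟩, ff_base R p⟩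
      (fun B _ _ ι _ Bi _ _ ψ hinj hdir hs hi => ⟨fun x hx => by
        obtain ⟨i, y, rfl⟩ := hs x
        have hy : y ≠ 0 := by
          rintro rfl
          exact hx (map_zero _)
        obtain ⟨n, u, hu, rfl⟩ := (hi i).1 y hy
        exact ⟨n, ψ i u, hu.map (ψ i), by rw [map_mul, map_pow, (ψ i).commutes]⟩,
        ff_union R p B ι Bi ψ hinj hdir hs (fun i => (hi i).2)⟩)
      (fun B _ _ _ eb heb hcomp hflat hmax hinv a =>
        invP_step R ϖ hϖ p e hpi B eb heb hcomp hflat hmax hinv.1 hinv.2 a)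
  have hmaxR' := maximalIdeal_eq_span R ϖ hϖ R' hmax'.symm
  have hnzd' := nzd_of_flat R ϖ hϖ.ne_zero R'
  obtain ⟨hdom, hdvr⟩ := isDVR_of_V (algebraMap R R' ϖ) hmaxR' hnzd' hV'
  have hcomp : ∀ x : R, e' (algebraMap R R' x) = e x := by
    intro x
    rw [← RingHom.comp_apply, he']
  haveI : Algebra.IsIntegral R R' := ⟨fun x => by
    obtain ⟨S, hxS, hfin, -, -⟩ := hFF' {x}
    have hx : x ∈ S := hxS (by simp)
    exact IsIntegral.of_mem_of_fg S (Module.Finite.iff_fg.mp hfin) x hx⟩
  have hhens : HenselianLocalRing R' :=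
    Groth.Agent.Lib.Helper3.HenselInt.henselian_of_isIntegral R R'
  refine ⟨R', inferInstance, hdom, hdvr, hhens, inferInstance, ?_, hmax', hFF', ?_, ?_⟩
  · rw [injective_iff_map_eq_zero]
    intro x hx
    by_contra hx0
    have hreg : IsSMulRegular R' x :=
      Module.Flat.isSMulRegular_of_nonZeroDivisors (mem_nonZeroDivisors_of_ne_zero hx0)
    have : (1 : R') = 0 := by
      apply hreg
      simp only [smul_zero]
      rw [Algebra.smul_def, hx, zero_mul]
    exact one_ne_zero this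
  · intro y
    obtain ⟨w, hw⟩ := surjective_frobenius k' p (e' y)
    obtain ⟨z, rfl⟩ := hsurj w
    refine ⟨z, ?_⟩
    rw [← hker', map_sub, map_pow, ← frobenius_def, hw, sub_self]
  · intro y
    obtain ⟨n, x, hx⟩ := hpi (e' y)
    refine ⟨n, x, ?_⟩
    rw [← hker', map_sub, map_pow, hcomp, hx, sub_self]

theorem main_perf : Concl R (ringExpChar (ResidueField R)) := by
  have hexp : ExpChar (ResidueField R) (ringExpChar (ResidueField R)) := inferInstance
  generalize ringExpChar (ResidueField R) = q at hexp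
  cases hexp with
  | zero => exact concl_one R
  | prime hq =>
    haveI : Fact q.Prime := ⟨hq⟩
    exact concl_prime R q

end Main

end Groth.Agent.Lib.T2H8.FlatResPerf
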