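import Mathlib

/-!
# Charts of a finitely presented module at a prime, and quotients by basic elements

Infrastructure for S13533 (free submodules of modules free in low codimension).
-/

namespace Groth.Agent.Lib.T2H8.FreeSub

open Module

section General

variable {R : Type*} [CommRing R] (S : Submonoid R)

/-- The coordinatewise localisation map `(ι → R) → (ι → Rₛ)` is a localisation of modules. -/
theorem isLocalizedModule_pi (Rₛ : Type*) [CommRing Rₛ] [Algebra R Rₛ] [IsLocalization S Rₛ]
    (ι : Type*) [Finite ι] :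
    IsLocalizedModule S ((Algebra.linearMap R Rₛ).compLeft ι) := by
  classical
  haveI : Fintype ι := Fintype.ofFinite ι
  refine ⟨?_, ?_, ?_⟩
  · exact (isLocalizedModule_id S (ι → Rₛ) Rₛ).map_units
  · intro y
    obtain ⟨b, hb⟩ := IsLocalization.exist_integer_multiples_of_finite S y
    choose a ha using hb
    refine ⟨(a, b), ?_⟩
    funext i
    simp only [LinearMap.compLeft_apply, Function.comp_apply, Algebra.linearMap_apply]
    rw [ha i]
    simp [Submonoid.smul_def, Algebra.smul_def]
  · intro x₁ x₂ h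
    have h' : ∀ i, ∃ c : S, (c : R) * x₁ i = (c : R) * x₂ i := by
      intro i
      have hi := congrFun h i
      simp only [LinearMap.compLeft_apply, Function.comp_apply, Algebra.linearMap_apply] at hi
      exact (IsLocalization.eq_iff_exists S Rₛ).mp hi
    choose c hc using h'
    refine ⟨∏ i, c i, ?_⟩
    funext i
    simp only [Submonoid.smul_def, Pi.smul_apply, smul_eq_mul, Submonoid.coe_finset_prod]
    rw [← Finset.prod_erase_mul _ _ (Finset.mem_univ i), mul_assoc, mul_assoc, hc i]

/-- If `φ : P → Q` is "bijective up to `S`" elementwise and `f : Q → Q'` is a localisation at `S`,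
then `f ∘ φ` is a localisation of `P` at `S`. -/
theorem isLocalizedModule_comp_of_props {P Q Q' : Type*} [AddCommGroup P] [AddCommGroup Q]
    [AddCommGroup Q'] [Module R P] [Module R Q] [Module R Q'] (f : Q →ₗ[R] Q')
    [IsLocalizedModule S f] (φ : P →ₗ[R] Q)
    (hinj : ∀ x, φ x = 0 → ∃ s ∈ S, s • x = 0)
    (hsurj : ∀ y, ∃ x, ∃ s ∈ S, φ x = s • y) : IsLocalizedModule S (f ∘ₗ φ) := by
  refine ⟨IsLocalizedModule.map_units f, ?_, ?_⟩
  · intro y'
    obtain ⟨⟨q, s⟩, hqs⟩ := IsLocalizedModule.surj S f y'
    obtain ⟨x, s', hs', hx⟩ := hsurj q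
    refine ⟨(x, ⟨s', hs'⟩ * s), ?_⟩
    simp only [LinearMap.comp_apply, hx, map_smul]
    rw [← hqs, Submonoid.smul_def, Submonoid.smul_def, Submonoid.coe_mul, mul_smul]
  · intro x₁ x₂ h
    simp only [LinearMap.comp_apply] at h
    obtain ⟨c, hc⟩ := IsLocalizedModule.exists_of_eq (S := S) (f := f) h
    have h0 : φ ((c : R) • (x₁ - x₂)) = 0 := by
      rw [map_smul, map_sub, smul_sub, sub_eq_zero]
      exact hc
    obtain ⟨s, hs, hsx⟩ := hinj _ h0
    refine ⟨⟨s, hs⟩ * c, ?_⟩
    rw [Submonoid.smul_def, Submonoid.smul_def, Submonoid.coe_mul, ← sub_eq_zero, ← smul_sub,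
      mul_smul]
    exact hsx

end General

/-- A chart of `M` near a prime: `ψ : M → A^r` bijective after inverting `g`, in elementwise
form. -/
structure IsChart {A M : Type*} [CommRing A] [AddCommGroup M] [Module A M] {r : ℕ}
    (ψ : M →ₗ[A] (Fin r → A)) (g : A) : Prop where
  inj : ∀ x, ψ x = 0 → ∃ n : ℕ, g ^ n • x = 0
  surj : ∀ y, ∃ (x : M) (n : ℕ), ψ x = g ^ n • y

/-- A finitely presented module free of rank `r` at `p` has a chart near `p`. -/
theorem exists_chart {A M : Type*} [CommRing A] [AddCommGroup M] [Module A M]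
    [Module.FinitePresentation A M] {r : ℕ} (p : Ideal A) [p.IsPrime]
    (e : LocalizedModule p.primeCompl M ≃ₗ[Localization.AtPrime p]
      (Fin r → Localization.AtPrime p)) :
    ∃ (ψ : M →ₗ[A] (Fin r → A)) (g : A), g ∉ p ∧ IsChart ψ g := by
  let f : (Fin r → A) →ₗ[A] (Fin r → Localization.AtPrime p) :=
    (Algebra.linearMap A (Localization.AtPrime p)).compLeft (Fin r)
  haveI : IsLocalizedModule p.primeCompl f := isLocalizedModule_pi p.primeCompl _ _
  let g0 : M →ₗ[A] (Fin r → Localization.AtPrime p) :=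
    (e.restrictScalars A).toLinearMap ∘ₗ LocalizedModule.mkLinearMap p.primeCompl M
  obtain ⟨ψ, s, hψ⟩ :=
    Module.FinitePresentation.exists_lift_of_isLocalizedModule p.primeCompl f g0
  have hmap : IsLocalizedModule.map p.primeCompl (LocalizedModule.mkLinearMap p.primeCompl M) f ψ
      = (s : A) • (e.restrictScalars A).toLinearMap := by
    apply IsLocalizedModule.linearMap_ext p.primeCompl
      (LocalizedModule.mkLinearMap p.primeCompl M) f
    rw [IsLocalizedModule.map_comp, hψ]
    ext x i
    simp [g0, Submonoid.smul_def]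
  have hbij : Function.Bijective
      (IsLocalizedModule.map p.primeCompl (LocalizedModule.mkLinearMap p.primeCompl M) f ψ) := by
    rw [hmap]
    have hu := IsLocalizedModule.map_units f s
    have hb : Function.Bijective
        (algebraMap A (Module.End A (Fin r → Localization.AtPrime p)) (s : A)) :=
      (Module.End.isUnit_iff _).mp hu
    have : ⇑((s : A) • (e.restrictScalars A).toLinearMap) =
        ⇑(algebraMap A (Module.End A (Fin r → Localization.AtPrime p)) (s : A)) ∘
          ⇑(e.restrictScalars A) := by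
      funext x
      simp
    rw [this]
    exact hb.comp (e.restrictScalars A).bijective
  obtain ⟨g, hg, hgb⟩ := Module.FinitePresentation.exists_notMem_bijective ψ p
    (LocalizedModule.mkLinearMap p.primeCompl M) f hbij
  refine ⟨ψ, g, hg, ⟨?_, ?_⟩⟩
  · intro x hx
    have h0 : LocalizedModule.map (Submonoid.powers g) ψ (LocalizedModule.mk x 1) = 0 := by
      rw [LocalizedModule.map_mk, hx, LocalizedModule.zero_mk]
    have h1 : (LocalizedModule.mk x 1 : LocalizedModule (Submonoid.powers g) M) = 0 :=
      hgb.1 (by rw [h0, map_zero])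
    rw [← LocalizedModule.zero_mk (1 : Submonoid.powers g), LocalizedModule.mk_eq] at h1
    obtain ⟨⟨u, n, rfl⟩, hu⟩ := h1
    refine ⟨n, ?_⟩
    simpa [Submonoid.smul_def] using hu
  · intro y
    obtain ⟨z, hz⟩ := hgb.2 (LocalizedModule.mk y 1)
    induction z using LocalizedModule.induction_on with
    | h x t =>
      rw [LocalizedModule.map_mk, LocalizedModule.mk_eq] at hz
      obtain ⟨⟨u, n, rfl⟩, hu⟩ := hz
      obtain ⟨t, n', rfl⟩ := t
      refine ⟨g ^ n • x, n + n', ?_⟩
      simp only [Submonoid.smul_def, one_smul] at hu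
      rw [map_smul, hu, pow_add, mul_smul]

/-- The quotient of `M` by an element which is basic at `p` (seen in a chart) is free of rank one
less at `p`. -/
theorem quotient_localized_equiv {A M : Type*} [CommRing A] [AddCommGroup M] [Module A M] {r : ℕ}
    (p : Ideal A) [p.IsPrime] (ψ : M →ₗ[A] (Fin (r + 1) → A)) (g : A) (hg : g ∉ p)
    (hc : IsChart ψ g) (m : M) (t : Fin (r + 1)) (ht : ψ m t ∉ p) :
    Nonempty (LocalizedModule p.primeCompl (M ⧸ Submodule.span A {m}) ≃ₗ[Localization.AtPrime p]
      (Fin r → Localization.AtPrime p)) := by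
  let χ : M →ₗ[A] (Fin r → A) := LinearMap.pi fun i =>
    (ψ m t) • (LinearMap.proj (t.succAbove i) ∘ₗ ψ) -
      (ψ m (t.succAbove i)) • (LinearMap.proj t ∘ₗ ψ)
  have hχ : ∀ x i, χ x i = ψ m t * ψ x (t.succAbove i) - ψ m (t.succAbove i) * ψ x t := by
    intro x i
    simp [χ]
  have hχm : χ m = 0 := by
    ext i
    rw [hχ]
    simp [mul_comm]
  let χ' : (M ⧸ Submodule.span A {m}) →ₗ[A] (Fin r → A) :=
    Submodule.liftQ _ χ (by rw [Submodule.span_le]; simpa using hχm)
  have hχ' : ∀ x, χ' (Submodule.Quotient.mk x) = χ x := fun x => rfl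
  have hinj : ∀ x, χ' x = 0 → ∃ s ∈ p.primeCompl, s • x = 0 := by
    intro x hx
    induction x using Submodule.Quotient.induction_on with
    | H x0 =>
      rw [hχ'] at hx
      have hz : ψ (ψ m t • x0 - ψ x0 t • m) = 0 := by
        ext j
        rcases Fin.eq_self_or_eq_succAbove t j with rfl | ⟨i, rfl⟩
        · simp [mul_comm]
        · have := congrFun hx i
          rw [hχ] at this
          simp only [map_sub, map_smul, Pi.sub_apply, Pi.smul_apply, smul_eq_mul, Pi.zero_apply]
          simp only [Pi.zero_apply] at this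
          rw [← this]
          ring
      obtain ⟨n, hn⟩ := hc.inj _ hz
      refine ⟨g ^ n * ψ m t, ?_, ?_⟩
      · intro hmem
        rcases (Ideal.IsPrime.mul_mem_iff_mem_or_mem (inferInstance : p.IsPrime)).mp hmem with h | h
        · exact hg (Ideal.IsPrime.mem_of_pow_mem inferInstance n h)
        · exact ht h
      · rw [← Submodule.Quotient.mk_smul, Submodule.Quotient.mk_eq_zero,
          Submodule.mem_span_singleton]
        refine ⟨g ^ n * ψ x0 t, ?_⟩
        rw [smul_sub, sub_eq_zero] at hn
        rw [mul_smul, mul_smul, hn]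
  have hsurj : ∀ y, ∃ x, ∃ s ∈ p.primeCompl, χ' x = s • y := by
    intro y
    obtain ⟨x, n, hx⟩ := hc.surj (Fin.insertNth t (0 : A) y)
    refine ⟨Submodule.Quotient.mk x, ψ m t * g ^ n, ?_, ?_⟩
    · intro hmem
      rcases (Ideal.IsPrime.mul_mem_iff_mem_or_mem (inferInstance : p.IsPrime)).mp hmem with h | h
      · exact ht h
      · exact hg (Ideal.IsPrime.mem_of_pow_mem inferInstance n h)
    · rw [hχ']
      ext i
      rw [hχ, hx]
      simp only [Pi.smul_apply, smul_eq_mul, Fin.insertNth_apply_succAbove,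
        Fin.insertNth_apply_same, mul_zero, sub_zero]
      ring
  let f : (Fin r → A) →ₗ[A] (Fin r → Localization.AtPrime p) :=
    (Algebra.linearMap A (Localization.AtPrime p)).compLeft (Fin r)
  haveI : IsLocalizedModule p.primeCompl f := isLocalizedModule_pi p.primeCompl _ _
  haveI : IsLocalizedModule p.primeCompl (f ∘ₗ χ') :=
    isLocalizedModule_comp_of_props p.primeCompl f χ' hinj hsurj
  exact ⟨(IsLocalizedModule.iso p.primeCompl (f ∘ₗ χ')).extendScalarsOfIsLocalization
    p.primeCompl (Localization.AtPrime p)⟩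

end Groth.Agent.Lib.T2H8.FreeSub
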