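import Groth.Agent.Lib.T2H4BasicElt
import Groth.Agent.Lib.T2H8FreeSubA

/-!
# Basic elements for modules free in low codimension, and free submodules

Main results: `exists_basic` (module form of the Eisenbud–Evans theorem, built on
`Groth.Agent.Lib.T2H4.BasicElt.ee`) and `main_S13533`.
-/

universe u

namespace Groth.Agent.Lib.T2H8.FreeSub

open Module Groth.Agent.Lib.T2H4.BasicElt

/-- In a chart at a prime not containing `g`, the reductions of `g • ψ (gen i)` span `κ(p)^r`. -/
theorem span_red_eq_top {A M : Type*} [CommRing A] [AddCommGroup M] [Module A M] {r n : ℕ}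
    (p : PrimeSpectrum A) (ψ : M →ₗ[A] (Fin r → A)) (g : A) (hg : g ∉ p.asIdeal)
    (hc : IsChart ψ g) (gen : Fin n → M) (hgen : Submodule.span A (Set.range gen) = ⊤) :
    Submodule.span p.asIdeal.ResidueField
      (Set.range fun i : Fin n => (fun t : Fin r =>
        algebraMap A p.asIdeal.ResidueField (g * ψ (gen i) t))) = ⊤ := by
  classical
  have hg0 : algebraMap A p.asIdeal.ResidueField g ≠ 0 := fun h0 =>
    hg (Ideal.algebraMap_residueField_eq_zero.1 h0)
  rw [eq_top_iff]
  rintro y -
  have hy : y = ∑ t, y t • (Pi.single t (1 : p.asIdeal.ResidueField) : Fin r → _) := by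
    funext t'
    simp [Finset.sum_apply, Pi.single_apply]
  rw [hy]
  refine Submodule.sum_mem _ fun t _ => Submodule.smul_mem _ _ ?_
  obtain ⟨x, N, hx⟩ := hc.surj (Pi.single t (1 : A))
  have hxs : x ∈ Submodule.span A (Set.range gen) := by rw [hgen]; trivial
  obtain ⟨a, ha⟩ := (Submodule.mem_span_range_iff_exists_fun A).mp hxs
  have hsum : (Pi.single t (1 : p.asIdeal.ResidueField) : Fin r → p.asIdeal.ResidueField) =
      ∑ i, (algebraMap A p.asIdeal.ResidueField (a i) *
        (algebraMap A p.asIdeal.ResidueField g ^ (N + 1))⁻¹) •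
        (fun t' : Fin r => algebraMap A p.asIdeal.ResidueField (g * ψ (gen i) t')) := by
    funext t'
    have h1 : ψ x t' = g ^ N * (Pi.single t (1 : A) : Fin r → A) t' := by
      rw [hx]; rfl
    have h2 : ψ x t' = ∑ i, a i * ψ (gen i) t' := by
      rw [← ha]
      simp [Finset.sum_apply]
    have h3 : algebraMap A p.asIdeal.ResidueField (g ^ N * (Pi.single t (1 : A) : Fin r → A) t') =
        ∑ i, algebraMap A p.asIdeal.ResidueField (a i) *
          algebraMap A p.asIdeal.ResidueField (ψ (gen i) t') := by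
      rw [← h1, h2, map_sum]
      simp
    simp only [Finset.sum_apply, Pi.smul_apply, smul_eq_mul, map_mul]
    have h4 : ∀ i, algebraMap A p.asIdeal.ResidueField (a i) *
        (algebraMap A p.asIdeal.ResidueField g ^ (N + 1))⁻¹ *
        (algebraMap A p.asIdeal.ResidueField g *
          algebraMap A p.asIdeal.ResidueField (ψ (gen i) t')) =
        (algebraMap A p.asIdeal.ResidueField g ^ N)⁻¹ *
          (algebraMap A p.asIdeal.ResidueField (a i) *
            algebraMap A p.asIdeal.ResidueField (ψ (gen i) t')) := by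
      intro i
      field_simp
      ring
    rw [Finset.sum_congr rfl fun i _ => h4 i, ← Finset.mul_sum, ← h3, map_mul, map_pow,
      ← mul_assoc, inv_mul_cancel₀ (pow_ne_zero _ hg0), one_mul]
    by_cases htt : t' = t
    · subst htt; simp
    · simp [Pi.single_apply, htt]
  rw [hsum]
  exact Submodule.sum_mem _ fun i _ => Submodule.smul_mem _ _ (Submodule.subset_span ⟨i, rfl⟩)

/-- Module form of the Eisenbud–Evans basic element theorem: a finite module over a Noetherian
ring which is free of rank `r > k` at all primes of height `≤ k` has an element which is basic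
(seen in charts) at all these primes. -/
theorem exists_basic {A M : Type*} [CommRing A] [IsNoetherianRing A] [AddCommGroup M] [Module A M]
    [Module.Finite A M] (k r : ℕ) (hkr : k < r)
    (hM : ∀ p : PrimeSpectrum A, p.asIdeal.height ≤ k →
      Nonempty (LocalizedModule p.asIdeal.primeCompl M ≃ₗ[Localization.AtPrime p.asIdeal]
        (Fin r → Localization.AtPrime p.asIdeal))) :
    ∃ m : M, ∀ p : PrimeSpectrum A, p.asIdeal.height ≤ k →
      ∃ (ψ : M →ₗ[A] (Fin r → A)) (g : A) (t : Fin r),
        g ∉ p.asIdeal ∧ IsChart ψ g ∧ ψ m t ∉ p.asIdeal := by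
  classical
  haveI : Module.FinitePresentation A M := Module.finitePresentation_of_finite A M
  -- charts
  let X := {p : PrimeSpectrum A // p.asIdeal.height ≤ k}
  have hch : ∀ x : X, ∃ (ψ : M →ₗ[A] (Fin r → A)) (g : A), g ∉ x.1.asIdeal ∧ IsChart ψ g :=
    fun x => exists_chart x.1.asIdeal (hM x.1 x.2).some
  choose ψ g hg hc using hch
  -- finite subfamily
  have hfg : (Ideal.span (Set.range g)).FG := (isNoetherianRing_iff_ideal_fg A).mp inferInstance _
  obtain ⟨s', hs'sub, hs'eq⟩ := (Submodule.fg_span_iff_fg_span_finset_subset _).mp hfg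
  have hpick : ∀ a : s', ∃ x : X, g x = a.1 := fun a => hs'sub a.2
  choose P hP using hpick
  let J := s'.card
  let Pj : Fin J → X := fun j => P (s'.equivFin.symm j)
  have hcover : ∀ p : PrimeSpectrum A, p.asIdeal.height ≤ k → ∃ j, g (Pj j) ∉ p.asIdeal := by
    intro p hp
    by_contra hcon
    push Not at hcon
    have hle : Ideal.span (Set.range g) ≤ p.asIdeal := by
      rw [show Ideal.span (Set.range g) = Submodule.span A (Set.range g) from rfl, hs'eq,
        Submodule.span_le]
      intro a ha
      have := hcon (s'.equivFin ⟨a, ha⟩)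
      simp only [Pj, Equiv.symm_apply_apply, hP] at this
      exact this
    exact hg ⟨p, hp⟩ (hle (Ideal.subset_span ⟨⟨p, hp⟩, rfl⟩))
  -- generators
  obtain ⟨n, gen0, hgen0⟩ := Module.Finite.exists_fin (R := A) (M := M)
  let gen : Fin (n + 1) → M := Fin.cons 0 gen0
  have hgen : Submodule.span A (Set.range gen) = ⊤ := by
    rw [eq_top_iff, ← hgen0]
    apply Submodule.span_mono
    rintro _ ⟨i, rfl⟩
    exact ⟨i.succ, by simp [gen]⟩
  -- the vectors
  let v : Fin (n + 1) → (Fin (J * r) → A) := fun i idx =>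
    g (Pj (finProdFinEquiv.symm idx).1) *
      ψ (Pj (finProdFinEquiv.symm idx).1) (gen i) (finProdFinEquiv.symm idx).2
  let Pr : Set (PrimeSpectrum A) := {p | p.asIdeal.height ≤ k}
  let δ : PrimeSpectrum A → ℕ := fun p => k - p.asIdeal.height.toNat
  have hPr : ∀ 𝔭 ∈ Pr, ∀ 𝔮 : PrimeSpectrum A, 𝔮 ≤ 𝔭 → 𝔮 ∈ Pr := by
    intro 𝔭 h𝔭 𝔮 hle
    exact (Ideal.height_mono hle).trans h𝔭
  have hδ : ∀ 𝔭 ∈ Pr, ∀ 𝔮 : PrimeSpectrum A, 𝔮 < 𝔭 → δ 𝔭 + 1 ≤ δ 𝔮 := by
    intro 𝔭 h𝔭 𝔮 hlt
    have h𝔭' : 𝔭.asIdeal.height ≤ k := h𝔭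
    have hne : 𝔭.asIdeal.height ≠ ⊤ := ne_top_of_le_ne_top (ENat.natCast_ne_top k) h𝔭'
    haveI : 𝔭.asIdeal.FiniteHeight := 𝔭.asIdeal.finiteHeight_iff.mpr (Or.inr hne)
    have hlt' : 𝔮.asIdeal.height < 𝔭.asIdeal.height :=
      Ideal.height_strict_mono_of_isPrime_of_isPrime hlt
    have h1 : 𝔮.asIdeal.height.toNat < 𝔭.asIdeal.height.toNat := by
      by_contra hcon
      push Not at hcon
      have h3 : 𝔭.asIdeal.height ≤ 𝔮.asIdeal.height := by
        calc 𝔭.asIdeal.height = (𝔭.asIdeal.height.toNat : ℕ∞) := (ENat.natCast_toNat hne).symm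
          _ ≤ (𝔮.asIdeal.height.toNat : ℕ∞) := by exact_mod_cast hcon
          _ ≤ 𝔮.asIdeal.height := ENat.natCast_toNat_le_self _
      exact absurd hlt' (not_lt.mpr h3)
    have h2 : 𝔭.asIdeal.height.toNat ≤ k := ENat.toNat_le_of_le_natCast h𝔭'
    simp only [δ]
    omega
  have hv : ∀ 𝔭 ∈ Pr, min (n + 1) (δ 𝔭 + 1) ≤ rk 𝔭 v := by
    intro 𝔭 h𝔭
    obtain ⟨j, hj⟩ := hcover 𝔭 h𝔭
    have hr : r ≤ rk 𝔭 v := by
      let π : (Fin (J * r) → 𝔭.asIdeal.ResidueField) →ₗ[𝔭.asIdeal.ResidueField]
          (Fin r → 𝔭.asIdeal.ResidueField) :=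
        LinearMap.funLeft _ _ (fun t => finProdFinEquiv (j, t))
      have hmap : Submodule.map π
          (Submodule.span 𝔭.asIdeal.ResidueField (Set.range fun i => red 𝔭 (v i))) = ⊤ := by
        rw [Submodule.map_span, ← Set.range_comp]
        convert span_red_eq_top 𝔭 (ψ (Pj j)) (g (Pj j)) hj (hc (Pj j)) gen hgen using 3
        funext i t
        have hvi : v i (finProdFinEquiv (j, t)) = g (Pj j) * ψ (Pj j) (gen i) t := by
          simp only [v, Equiv.symm_apply_apply]
        show algebraMap A 𝔭.asIdeal.ResidueField (v i (finProdFinEquiv (j, t))) = _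
        rw [hvi]
      have h1 := Submodule.finrank_map_le π
        (Submodule.span 𝔭.asIdeal.ResidueField (Set.range fun i => red 𝔭 (v i)))
      rw [hmap, finrank_top] at h1
      simpa [rk, dimSpan] using h1
    have hδk : δ 𝔭 + 1 ≤ r := by
      simp only [δ]
      omega
    exact (min_le_right _ _).trans (hδk.trans hr)
  obtain ⟨c, -, hcp⟩ := ee Pr hPr δ hδ n v hv
  refine ⟨∑ s, c s • gen s, fun p hp => ?_⟩
  obtain ⟨idx, hidx⟩ := hcp p hp
  refine ⟨ψ (Pj (finProdFinEquiv.symm idx).1), g (Pj (finProdFinEquiv.symm idx).1),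
    (finProdFinEquiv.symm idx).2, ?_, hc _, ?_⟩
  · intro hmem
    apply hidx
    simp only [Finset.sum_apply, Pi.smul_apply, smul_eq_mul, v]
    refine Ideal.sum_mem _ fun s _ => ?_
    rw [mul_left_comm]
    exact Ideal.mul_mem_right _ _ hmem
  · intro hmem
    apply hidx
    have : (∑ s, c s • v s) idx =
        g (Pj (finProdFinEquiv.symm idx).1) *
          ψ (Pj (finProdFinEquiv.symm idx).1) (∑ s, c s • gen s) (finProdFinEquiv.symm idx).2 := by
      simp only [Finset.sum_apply, Pi.smul_apply, smul_eq_mul, v, map_sum, map_smul,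
        Finset.mul_sum]
      refine Finset.sum_congr rfl fun s _ => ?_
      ring
    rw [this]
    exact Ideal.mul_mem_left _ _ hmem

/-- Localised form of a linear equivalence, composed with a given trivialisation. -/
theorem nonempty_localized_equiv_of_equiv {A P Q : Type*} [CommRing A] [AddCommGroup P]
    [AddCommGroup Q] [Module A P] [Module A Q] (e : P ≃ₗ[A] Q) (p : Ideal A) [p.IsPrime] {k : ℕ}
    (h : Nonempty (LocalizedModule p.primeCompl Q ≃ₗ[Localization.AtPrime p]
      (Fin k → Localization.AtPrime p))) :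
    Nonempty (LocalizedModule p.primeCompl P ≃ₗ[Localization.AtPrime p]
      (Fin k → Localization.AtPrime p)) :=
  ⟨(IsLocalizedModule.mapEquiv p.primeCompl (LocalizedModule.mkLinearMap p.primeCompl P)
    (LocalizedModule.mkLinearMap p.primeCompl Q) (Localization.AtPrime p) e).trans h.some⟩

theorem main_aux (A : Type u) [CommRing A] [IsNoetherianRing A] (k : ℕ)
    (hAss : ∀ p ∈ associatedPrimes A A, p.height ≤ k) :
    ∀ (d : ℕ) (M : Type u) [AddCommGroup M] [Module A M] [Module.Finite A M],
      (∀ p : PrimeSpectrum A, p.asIdeal.height ≤ k →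
        Nonempty (LocalizedModule p.asIdeal.primeCompl M ≃ₗ[Localization.AtPrime p.asIdeal]
          (Fin (k + d) → Localization.AtPrime p.asIdeal))) →
      ∃ N : Submodule A M, Nonempty (N ≃ₗ[A] (Fin d → A)) ∧
        ∀ p : PrimeSpectrum A, p.asIdeal.height ≤ k →
          Nonempty (LocalizedModule p.asIdeal.primeCompl (M ⧸ N) ≃ₗ[Localization.AtPrime p.asIdeal]
            (Fin k → Localization.AtPrime p.asIdeal)) := by
  intro d
  induction d with
  | zero =>
    intro M _ _ _ hM
    refine ⟨⊥, ⟨LinearEquiv.ofSubsingleton _ _⟩, fun p hp => ?_⟩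
    exact nonempty_localized_equiv_of_equiv (Submodule.quotEquivOfEqBot ⊥ rfl) p.asIdeal (hM p hp)
  | succ d ih =>
    intro M _ _ _ hM
    classical
    obtain ⟨m, hm⟩ := exists_basic (A := A) (M := M) k (k + d + 1) (by omega) hM
    -- annihilator of `m` vanishes
    have hann : ∀ a : A, a • m = 0 → a = 0 := by
      intro a ha
      by_contra ha0
      obtain ⟨P, hP, hle⟩ := exists_le_isAssociatedPrime_of_isNoetherianRing A a ha0
      haveI := hP.isPrime
      obtain ⟨ψ, g, t, -, -, ht⟩ := hm ⟨P, hP.isPrime⟩ (hAss P hP)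
      apply ht
      apply hle
      rw [Submodule.mem_colon]
      intro y hy
      rw [Set.mem_singleton_iff] at hy
      subst hy
      rw [Submodule.mem_bot, smul_eq_mul, mul_comm]
      have : ψ (y • m) t = 0 := by rw [ha]; simp
      simpa using this
    have hQ : ∀ p : PrimeSpectrum A, p.asIdeal.height ≤ k →
        Nonempty (LocalizedModule p.asIdeal.primeCompl (M ⧸ Submodule.span A {m})
          ≃ₗ[Localization.AtPrime p.asIdeal] (Fin (k + d) → Localization.AtPrime p.asIdeal)) := by
      intro p hp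
      obtain ⟨ψ, g, t, hg, hc, ht⟩ := hm p hp
      exact quotient_localized_equiv p.asIdeal ψ g hg hc m t ht
    obtain ⟨N', ⟨ε⟩, hN'⟩ := ih (M ⧸ Submodule.span A {m}) hQ
    let φ : M →ₗ[A] (M ⧸ Submodule.span A {m}) ⧸ N' := N'.mkQ ∘ₗ (Submodule.span A {m}).mkQ
    have hφs : Function.Surjective φ :=
      (Submodule.mkQ_surjective _).comp (Submodule.mkQ_surjective _)
    refine ⟨LinearMap.ker φ, ?_, fun p hp => ?_⟩
    · have hlift : ∀ i : Fin d, ∃ x : M,
          (Submodule.span A {m}).mkQ x = (ε.symm (Pi.single i 1) : M ⧸ Submodule.span A {m}) :=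
        fun i => Submodule.mkQ_surjective _ _
      choose x hx using hlift
      let Λ : (A × (Fin d → A)) →ₗ[A] M :=
        (LinearMap.toSpanSingleton A M m).coprod (Fintype.linearCombination A x)
      have hL : (Submodule.span A {m}).mkQ ∘ₗ Fintype.linearCombination A x =
          N'.subtype ∘ₗ ε.symm.toLinearMap := by
        apply LinearMap.pi_ext'
        intro i
        ext
        simp [Fintype.linearCombination_apply_single, hx]
      have hmk : ∀ z : A × (Fin d → A),
          (Submodule.span A {m}).mkQ (Λ z) = (ε.symm z.2 : M ⧸ Submodule.span A {m}) := by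
        rintro ⟨a, c⟩
        have h1 : (Submodule.span A {m}).mkQ m = 0 := by
          simp
        have h2 := LinearMap.congr_fun hL c
        simp only [LinearMap.comp_apply, LinearEquiv.coe_coe, Submodule.subtype_apply] at h2
        simp only [Λ, LinearMap.coprod_apply, LinearMap.toSpanSingleton_apply, map_add, map_smul,
          h1, smul_zero, zero_add]
        exact h2
      have hΛinj : Function.Injective Λ := by
        rw [← LinearMap.ker_eq_bot, LinearMap.ker_eq_bot']
        rintro ⟨a, c⟩ hz
        have h1 := hmk (a, c)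
        rw [hz, map_zero] at h1
        have hc0 : c = 0 := by
          have : ε.symm c = 0 := Subtype.ext h1.symm
          simpa using this
        subst hc0
        have ha : a • m = 0 := by
          simpa [Λ] using hz
        rw [hann a ha]
        rfl
      have hΛrange : LinearMap.range Λ = LinearMap.ker φ := by
        apply le_antisymm
        · rintro _ ⟨z, rfl⟩
          rw [LinearMap.mem_ker]
          simp only [φ, LinearMap.comp_apply]
          rw [hmk z]
          simp
        · intro y hy
          rw [LinearMap.mem_ker] at hy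
          simp only [φ, LinearMap.comp_apply, Submodule.mkQ_apply] at hy
          rw [Submodule.Quotient.mk_eq_zero] at hy
          let c := ε ⟨_, hy⟩
          have h1 : (Submodule.span A {m}).mkQ (y - Λ (0, c)) = 0 := by
            rw [map_sub, hmk]
            simp [c]
          rw [Submodule.mkQ_apply, Submodule.Quotient.mk_eq_zero,
            Submodule.mem_span_singleton] at h1
          obtain ⟨a, ha⟩ := h1
          refine ⟨(a, c), ?_⟩
          have : Λ (a, c) = a • m + Λ (0, c) := by
            simp [Λ]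
          rw [this, ha]
          abel
      exact ⟨((LinearEquiv.ofInjective Λ hΛinj).trans (LinearEquiv.ofEq _ _ hΛrange)).symm.trans
        (Fin.consLinearEquiv A (fun _ : Fin (d + 1) => A))⟩
    · exact nonempty_localized_equiv_of_equiv (φ.quotKerEquivOfSurjective hφs) p.asIdeal (hN' p hp)

theorem main_S13533 (A : Type u) [CommRing A] [IsNoetherianRing A]
    (M : Type u) [AddCommGroup M] [Module A M] [Module.Finite A M] (k r : ℕ) (hkr : k ≤ r)
    (hAss : ∀ p ∈ associatedPrimes A A, p.height ≤ k)
    (hM : ∀ p : PrimeSpectrum A, p.asIdeal.height ≤ k →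
      Nonempty (LocalizedModule p.asIdeal.primeCompl M ≃ₗ[Localization.AtPrime p.asIdeal]
        (Fin r → Localization.AtPrime p.asIdeal))) :
    ∃ N : Submodule A M, Nonempty (N ≃ₗ[A] (Fin (r - k) → A)) ∧
      ∀ p : PrimeSpectrum A, p.asIdeal.height ≤ k →
        Nonempty (LocalizedModule p.asIdeal.primeCompl (M ⧸ N) ≃ₗ[Localization.AtPrime p.asIdeal]
          (Fin k → Localization.AtPrime p.asIdeal)) := by
  obtain ⟨d, rfl⟩ := Nat.exists_eq_add_of_le hkr
  have hd : k + d - k = d := by omega
  rw [hd]
  exact main_aux A k hAss d M hM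

end Groth.Agent.Lib.T2H8.FreeSub
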