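import Mathlib

/-!
# T2H8GalCplA: algebra lemmas for decomposition groups and completions

* `σ A g` : the action of `g` on a base change `A ⊗[R] S`;
* `exists_tmul_one_of_invariant` : invariants commute with flat base change;
* `exists_invariant_lift` : the orbit-sum argument;
* `IsIdemAt` : the idempotent cutting out the local factor at a maximal ideal.
-/

set_option autoImplicit false
universe u v w

namespace Groth.Agent.Lib.T2H8.GalCplA

open TensorProduct

section flatInv

variable {R : Type u} {S : Type v} {G : Type w} [CommRing R] [CommRing S] [Algebra R S]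
  [Group G] [MulSemiringAction G S] [SMulCommClass G R S]
  (A : Type*) [CommRing A] [Algebra R A]

/-- the action of `g` on the base change -/
noncomputable def σ (g : G) : A ⊗[R] S →ₐ[R] A ⊗[R] S :=
  Algebra.TensorProduct.map (AlgHom.id R A) (MulSemiringAction.toAlgHom R S g)

theorem σ_tmul (g : G) (a : A) (s : S) : σ A g (a ⊗ₜ[R] s) = a ⊗ₜ[R] (g • s) := by
  simp [σ]

theorem σ_one_apply (t : A ⊗[R] S) : σ A (1 : G) t = t := by
  induction t using TensorProduct.induction_on with
  | zero => simp
  | tmul a s => simp [σ_tmul]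
  | add x y hx hy => rw [map_add, hx, hy]

theorem σ_mul_apply (g h : G) (t : A ⊗[R] S) : σ A (g * h) t = σ A g (σ A h t) := by
  induction t using TensorProduct.induction_on with
  | zero => simp
  | tmul a s => simp [σ_tmul, mul_smul]
  | add x y hx hy => rw [map_add, hx, hy, map_add, map_add]

variable [Finite G] [Algebra.IsInvariant R S G] [Module.Flat R A]

/-- Invariants commute with flat base change. -/
theorem exists_tmul_one_of_invariant (t : A ⊗[R] S) (ht : ∀ g : G, σ A g t = t) :
    ∃ a : A, t = a ⊗ₜ[R] (1 : S) := by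
  classical
  haveI := Fintype.ofFinite G
  let f : R →ₗ[R] S := Algebra.linearMap R S
  let δ : S →ₗ[R] (G → S) :=
    LinearMap.pi fun g => (MulSemiringAction.toAlgHom R S g).toLinearMap - LinearMap.id
  have hδ_apply : ∀ (s : S) (g : G), δ s g = g • s - s := fun s g => rfl
  have hex : Function.Exact f δ := by
    intro s
    constructor
    · intro hs
      have h1 : ∀ g : G, g • s = s := fun g => by
        have := congrFun hs g
        rw [hδ_apply] at this
        exact sub_eq_zero.mp this
      obtain ⟨r, hr⟩ := Algebra.IsInvariant.isInvariant (A := R) (G := G) s h1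
      exact ⟨r, hr⟩
    · rintro ⟨r, rfl⟩
      funext g
      rw [hδ_apply]
      simp [f]
  have hex' := Module.Flat.lTensor_exact A hex
  have key : ∀ (u : A ⊗[R] S) (g : G),
      TensorProduct.piRight R R A (fun _ : G => S) (δ.lTensor A u) g = σ A g u - u := by
    intro u g
    induction u using TensorProduct.induction_on with
    | zero => simp
    | tmul a s =>
      rw [LinearMap.lTensor_tmul, TensorProduct.piRight_apply, TensorProduct.piRightHom_tmul]
      show a ⊗ₜ[R] δ s g = _
      rw [hδ_apply, σ_tmul, TensorProduct.tmul_sub]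
    | add x y hx hy =>
      rw [map_add, map_add, Pi.add_apply, hx, hy, map_add]
      abel
  have hδ : δ.lTensor A t = 0 := by
    apply (TensorProduct.piRight R R A (fun _ : G => S)).injective
    rw [map_zero]
    funext g
    rw [key, ht g, sub_self]
    rfl
  obtain ⟨u, hu⟩ := (hex' t).mp hδ
  refine ⟨TensorProduct.rid R A u, ?_⟩
  rw [← hu]
  have h1 : u = (TensorProduct.rid R A u) ⊗ₜ[R] (1 : R) := by
    rw [← TensorProduct.rid_symm_apply, LinearEquiv.symm_apply_apply]
  conv_lhs => rw [h1]
  rw [LinearMap.lTensor_tmul]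
  simp [f]

end flatInv

section orbit

/-- The orbit-sum argument: an element of a local factor which is fixed by the decomposition group
is the image of a globally invariant element. -/
theorem exists_invariant_lift {T B : Type*} [CommRing T] [CommRing B] {G : Type*} [Group G]
    [Finite G] (σ : G → T →+* T) (hσ1 : ∀ t, σ 1 t = t) (hσm : ∀ g h t, σ (g * h) t = σ g (σ h t))
    (D : Subgroup G) (π : T →+* B) (e : T) (he : IsIdempotentElem e) (hπe : π e = 1)
    (hDe : ∀ d ∈ D, σ d e = e) (hge : ∀ g, g ∉ D → e * σ g e = 0)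
    (hker : ∀ t, π t = 0 → e * t = 0)
    (t₀ : T) (hD : ∀ d ∈ D, π (σ d t₀) = π t₀) :
    ∃ y : T, (∀ g, σ g y = y) ∧ π y = π t₀ := by
  classical
  haveI := Fintype.ofFinite G
  obtain ⟨t, ht⟩ : ∃ t, t = e * t₀ := ⟨_, rfl⟩
  have hπt : π t = π t₀ := by rw [ht, map_mul, hπe, one_mul]
  have het : e * t = t := by rw [ht, ← mul_assoc, he.eq]
  have hDt : ∀ d ∈ D, σ d t = t := by
    intro d hd
    have h1 : σ d t = e * σ d t₀ := by rw [ht, map_mul, hDe d hd]
    have h2 : π (σ d t - t) = 0 := by
      rw [map_sub, h1, map_mul, hπe, one_mul, hD d hd, hπt, sub_self]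
    have h3 := hker _ h2
    have h4 : e * (σ d t - t) = σ d t - t := by
      rw [h1, ht, mul_sub, ← mul_assoc, ← mul_assoc, he.eq]
    rw [h4] at h3
    exact sub_eq_zero.mp h3
  have hgt : ∀ g, g ∉ D → π (σ g t) = 0 := by
    intro g hg
    have h1 : σ g t = σ g e * σ g t := by rw [← map_mul, het]
    have h2 : π (σ g e) = 0 := by
      have := congrArg π (hge g hg)
      rwa [map_mul, hπe, one_mul, map_zero] at this
    rw [h1, map_mul, h2, zero_mul]
  let O : Finset T := Finset.univ.image (fun g : G => σ g t)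
  have hσinj : ∀ h : G, Function.Injective (σ h) := by
    intro h x y hxy
    have := congrArg (σ h⁻¹) hxy
    rwa [← hσm, ← hσm, inv_mul_cancel, hσ1, hσ1] at this
  refine ⟨∑ x ∈ O, x, ?_, ?_⟩
  · intro h
    rw [map_sum]
    have himg : O.image (σ h) = O := by
      ext x
      simp only [O, Finset.mem_image, Finset.mem_univ, true_and]
      constructor
      · rintro ⟨_, ⟨g, rfl⟩, rfl⟩
        exact ⟨h * g, hσm h g t⟩
      · rintro ⟨g, rfl⟩
        refine ⟨σ (h⁻¹ * g) t, ⟨_, rfl⟩, ?_⟩
        rw [← hσm, mul_inv_cancel_left]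
    conv_rhs => rw [← himg]
    rw [Finset.sum_image (fun x _ y _ hxy => hσinj h hxy)]
  · rw [map_sum]
    have htO : t ∈ O := Finset.mem_image.mpr ⟨1, Finset.mem_univ _, hσ1 t⟩
    rw [Finset.sum_eq_single_of_mem t htO, hπt]
    intro x hx hxt
    obtain ⟨g, -, rfl⟩ := Finset.mem_image.mp hx
    apply hgt
    intro hg
    exact hxt (hDt g hg)

end orbit

section idem

variable {T : Type*} [CommRing T]

/-- An idempotent lying in every maximal ideal is zero. -/
theorem eq_zero_of_idem_mem_all (e : T) (he : IsIdempotentElem e)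
    (h : ∀ n : Ideal T, n.IsMaximal → e ∈ n) : e = 0 := by
  have htop : Ideal.span {1 - e} = (⊤ : Ideal T) := by
    by_contra hne
    obtain ⟨n, hn, hle⟩ := Ideal.exists_le_maximal _ hne
    have h1 : 1 - e ∈ n := hle (Ideal.subset_span rfl)
    have : (1 : T) ∈ n := by
      have := n.add_mem h1 (h n hn)
      rwa [sub_add_cancel] at this
    exact hn.ne_top ((Ideal.eq_top_iff_one _).mpr this)
  obtain ⟨u, hu⟩ := Ideal.mem_span_singleton'.mp ((Ideal.eq_top_iff_one _).mp htop)
  calc e = e * (u * (1 - e)) := by rw [hu, mul_one]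
    _ = u * (e - e * e) := by ring
    _ = 0 := by rw [he.eq, sub_self, mul_zero]

/-- `e` is the idempotent of the maximal ideal `n`: it is not in `n` but lies in every other
maximal ideal. -/
def IsIdemAt (e : T) (n : Ideal T) : Prop :=
  IsIdempotentElem e ∧ e ∉ n ∧ ∀ n' : Ideal T, n'.IsMaximal → n' ≠ n → e ∈ n'

theorem IsIdemAt.one_sub_mem {e : T} {n : Ideal T} (hn : n.IsMaximal) (h : IsIdemAt e n) :
    1 - e ∈ n := by
  have h0 : e * (1 - e) ∈ n := by
    have : e * (1 - e) = 0 := by rw [mul_sub, mul_one, h.1.eq, sub_self]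
    rw [this]; exact n.zero_mem
  exact (hn.isPrime.mem_or_mem h0).resolve_left h.2.1

theorem IsIdemAt.mul_one_sub_eq_zero {e e' : T} {n : Ideal T} (hn : n.IsMaximal)
    (h : IsIdemAt e n) (h' : IsIdemAt e' n) : e * (1 - e') = 0 := by
  apply eq_zero_of_idem_mem_all
  · have h1 : IsIdempotentElem (1 - e') := h'.1.one_sub
    exact h.1.mul h1
  · intro m hm
    by_cases hmn : m = n
    · subst hmn
      exact m.mul_mem_left _ (h'.one_sub_mem hm)
    · exact m.mul_mem_right _ (h.2.2 m hm hmn)

theorem IsIdemAt.unique {e e' : T} {n : Ideal T} (hn : n.IsMaximal)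
    (h : IsIdemAt e n) (h' : IsIdemAt e' n) : e = e' := by
  have h1 := h.mul_one_sub_eq_zero hn h'
  have h2 := h'.mul_one_sub_eq_zero hn h
  rw [mul_sub, mul_one, sub_eq_zero] at h1 h2
  rw [h1, mul_comm, ← h2]

theorem IsIdemAt.mul_eq_zero {e e' : T} {n n' : Ideal T} (hne : n ≠ n')
    (h : IsIdemAt e n) (h' : IsIdemAt e' n') : e * e' = 0 := by
  apply eq_zero_of_idem_mem_all
  · exact h.1.mul h'.1
  · intro m hm
    by_cases hmn : m = n
    · subst hmn
      exact m.mul_mem_left _ (h'.2.2 m hm hne)
    · exact m.mul_mem_right _ (h.2.2 m hm hmn)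

/-- Transport of `IsIdemAt` along an automorphism given by mutually inverse ring maps. -/
theorem IsIdemAt.map {e : T} {n : Ideal T} (φ φ' : T →+* T) (h1 : ∀ t, φ' (φ t) = t)
    (h2 : ∀ t, φ (φ' t) = t) (h : IsIdemAt e n) : IsIdemAt (φ e) (n.comap φ') := by
  refine ⟨?_, ?_, ?_⟩
  · have := congrArg φ h.1.eq
    rwa [map_mul] at this
  · rw [Ideal.mem_comap, h1]
    exact h.2.1
  · intro m hm hmn
    have hsurj : Function.Surjective φ := fun t => ⟨φ' t, h2 t⟩
    haveI := hm
    have hm' : (m.comap φ).IsMaximal := Ideal.comap_isMaximal_of_surjective φ hsurj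
    have hne : m.comap φ ≠ n := by
      intro heq
      apply hmn
      rw [← heq]
      ext t
      simp only [Ideal.mem_comap, h2]
    exact h.2.2 _ hm' hne

end idem

end Groth.Agent.Lib.T2H8.GalCplA
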