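import Mathlib
import Groth.Prelude.Def_EGA4b
import Groth.Agent.Lib.Helper18ComplProd
import Groth.Agent.Lib.Helper19ComplExtend
import Groth.Agent.Lib.Helper19ComplNoeth
import Groth.Agent.Lib.Helper28ComplQuot
import Groth.Agent.Lib.T2H8GalCplA

/-!
# T2H8GalCplB: the local factor of `R̂_P ⊗_R S` at a prime `Q` over `P` is `Ŝ_Q`
-/

set_option autoImplicit false
set_option linter.unusedSectionVars false
universe u

namespace Groth.Agent.Lib.T2H8.GalCplB

open TensorProduct IsLocalRing
open Groth.Agent.Lib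

variable {R S : Type u} [CommRing R] [CommRing S] [Algebra R S]
  (P : Ideal R) [P.IsPrime] (Q : Ideal S) [Q.IsPrime]


/-- the canonical map `S → Ŝ_Q` -/
noncomputable def iota : S →+* (EGA4.Cpl (Localization.AtPrime Q)) := (algebraMap (Localization.AtPrime Q) (EGA4.Cpl (Localization.AtPrime Q))).comp (algebraMap S (Localization.AtPrime Q))

theorem iota_apply (s : S) : iota Q s = algebraMap (Localization.AtPrime Q) (EGA4.Cpl (Localization.AtPrime Q)) (algebraMap S (Localization.AtPrime Q) s) := rfl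

theorem iota_mem_iff [IsNoetherianRing S] (s : S) : iota Q s ∈ maximalIdeal (EGA4.Cpl (Localization.AtPrime Q)) ↔ s ∈ Q := by
  haveI : IsNoetherianRing (Localization.AtPrime Q) := IsLocalization.isNoetherianRing Q.primeCompl _ inferInstance
  rw [iota_apply, IsLocalRing.mem_maximalIdeal, map_mem_nonunits_iff, ← IsLocalRing.mem_maximalIdeal]
  exact IsLocalization.AtPrime.to_map_mem_maximal_iff (Localization.AtPrime Q) Q s

theorem maximalIdeal_cpl_eq [IsNoetherianRing R] :
    maximalIdeal (EGA4.Cpl (Localization.AtPrime P)) =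
      P.map (algebraMap R (EGA4.Cpl (Localization.AtPrime P))) := by
  rw [AdicCompletion.maximalIdeal_eq_map]
  have h := IsLocalization.AtPrime.map_eq_maximalIdeal P (Localization.AtPrime P)
  have h2 := congrArg (Ideal.map (algebraMap (Localization.AtPrime P)
    (EGA4.Cpl (Localization.AtPrime P)))) h.symm
  refine h2.trans ?_
  rw [Ideal.map_map]
  rfl

variable [Algebra (EGA4.Cpl (Localization.AtPrime P)) (EGA4.Cpl (Localization.AtPrime Q))]
  (halg : ∀ r : R, algebraMap (EGA4.Cpl (Localization.AtPrime P)) (EGA4.Cpl (Localization.AtPrime Q)) (algebraMap (Localization.AtPrime P) (EGA4.Cpl (Localization.AtPrime P)) (algebraMap R (Localization.AtPrime P) r)) =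
    algebraMap (Localization.AtPrime Q) (EGA4.Cpl (Localization.AtPrime Q)) (algebraMap S (Localization.AtPrime Q) (algebraMap R S r)))

include halg

theorem isScalarTower_cpl :
    IsScalarTower R (EGA4.Cpl (Localization.AtPrime P)) (EGA4.Cpl (Localization.AtPrime Q)) :=
  IsScalarTower.of_algebraMap_eq (fun r => by
    rw [IsScalarTower.algebraMap_apply R (Localization.AtPrime P)
        (EGA4.Cpl (Localization.AtPrime P)), halg,
      ← IsScalarTower.algebraMap_apply R S (Localization.AtPrime Q),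
      ← IsScalarTower.algebraMap_apply R (Localization.AtPrime Q)
        (EGA4.Cpl (Localization.AtPrime Q))])

/-- the canonical map `R̂_P ⊗_R S → Ŝ_Q` -/
noncomputable def piHom :
    (EGA4.Cpl (Localization.AtPrime P)) ⊗[R] S →+* (EGA4.Cpl (Localization.AtPrime Q)) :=
  haveI : IsScalarTower R (EGA4.Cpl (Localization.AtPrime P))
    (EGA4.Cpl (Localization.AtPrime Q)) := isScalarTower_cpl P Q halg
  (Algebra.TensorProduct.productMap
    (IsScalarTower.toAlgHom R (EGA4.Cpl (Localization.AtPrime P))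
      (EGA4.Cpl (Localization.AtPrime Q)))
    ((IsScalarTower.toAlgHom R (Localization.AtPrime Q) (EGA4.Cpl (Localization.AtPrime Q))).comp
      (IsScalarTower.toAlgHom R S (Localization.AtPrime Q)))).toRingHom

theorem piHom_tmul (a : (EGA4.Cpl (Localization.AtPrime P))) (s : S) :
    piHom P Q halg (a ⊗ₜ[R] s) =
      algebraMap (EGA4.Cpl (Localization.AtPrime P)) (EGA4.Cpl (Localization.AtPrime Q)) a *
        iota Q s := by
  unfold piHom
  exact Algebra.TensorProduct.productMap_apply_tmul _ _ a s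

theorem algebraMap_mem_of_mem [IsNoetherianRing R] [IsNoetherianRing S] [Q.LiesOver P] :
    (maximalIdeal (EGA4.Cpl (Localization.AtPrime P))).map
      (algebraMap (EGA4.Cpl (Localization.AtPrime P)) (EGA4.Cpl (Localization.AtPrime Q))) ≤
      maximalIdeal (EGA4.Cpl (Localization.AtPrime Q)) := by
  rw [maximalIdeal_cpl_eq, Ideal.map_map, Ideal.map_le_iff_le_comap]
  intro p hp
  rw [Ideal.mem_comap]
  show algebraMap (EGA4.Cpl (Localization.AtPrime P)) (EGA4.Cpl (Localization.AtPrime Q))
    (algebraMap (Localization.AtPrime P) (EGA4.Cpl (Localization.AtPrime P))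
      (algebraMap R (Localization.AtPrime P) p)) ∈ _
  rw [halg]
  have hpQ : algebraMap R S p ∈ Q := by
    have h := Ideal.over_def Q P
    rw [h] at hp
    exact hp
  exact (iota_mem_iff Q _).mpr hpQ

theorem structure_main [IsNoetherianRing R] [IsNoetherianRing S] [Module.Finite R S]
    [Q.LiesOver P] :
    Function.Surjective (piHom P Q halg) ∧
    ∃ e : (EGA4.Cpl (Localization.AtPrime P)) ⊗[R] S, GalCplA.IsIdemAt e ((maximalIdeal (EGA4.Cpl (Localization.AtPrime Q))).comap (piHom P Q halg)) ∧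
      ((maximalIdeal (EGA4.Cpl (Localization.AtPrime Q))).comap (piHom P Q halg)).IsMaximal ∧ piHom P Q halg e = 1 ∧
      ∀ t, piHom P Q halg t = 0 → e * t = 0 := by
  classical
  haveI : IsNoetherianRing (Localization.AtPrime P) := IsLocalization.isNoetherianRing P.primeCompl _ inferInstance
  haveI : IsNoetherianRing (Localization.AtPrime Q) := IsLocalization.isNoetherianRing Q.primeCompl _ inferInstance
  haveI : IsNoetherianRing (EGA4.Cpl (Localization.AtPrime P)) := Helper19.isNoetherianRing_adicCompletion _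
  haveI : HenselianLocalRing (EGA4.Cpl (Localization.AtPrime P)) :=
    { is_henselian := fun f hf a₀ h₁ h₂ =>
        (inferInstance : HenselianRing (EGA4.Cpl (Localization.AtPrime P)) (maximalIdeal (EGA4.Cpl (Localization.AtPrime P)))).is_henselian f hf a₀ h₁
          (h₂.map (Ideal.Quotient.mk (maximalIdeal (EGA4.Cpl (Localization.AtPrime P))))) }
  obtain ⟨ι, hι, A, hA, hloc, ⟨Φ⟩⟩ :=
    Helper3.Hensel.exists_pi_isLocalRing_of_finite (EGA4.Cpl (Localization.AtPrime P)) ((EGA4.Cpl (Localization.AtPrime P)) ⊗[R] S)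
  obtain ⟨π, hπ⟩ : ∃ π, π = piHom P Q halg := ⟨_, rfl⟩
  rw [← hπ]
  have hπtmul : ∀ (a : (EGA4.Cpl (Localization.AtPrime P))) (s : S), π (a ⊗ₜ[R] s) = algebraMap (EGA4.Cpl (Localization.AtPrime P)) (EGA4.Cpl (Localization.AtPrime Q)) a * iota Q s := by
    intro a s; rw [hπ]; exact piHom_tmul P Q halg a s
  have hAB := algebraMap_mem_of_mem P Q halg
  have hπalg : ∀ a : (EGA4.Cpl (Localization.AtPrime P)), π (algebraMap (EGA4.Cpl (Localization.AtPrime P)) ((EGA4.Cpl (Localization.AtPrime P)) ⊗[R] S) a) = algebraMap (EGA4.Cpl (Localization.AtPrime P)) (EGA4.Cpl (Localization.AtPrime Q)) a := by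
    intro a
    rw [Algebra.TensorProduct.algebraMap_apply, hπtmul, map_one, mul_one]
    rfl
  obtain ⟨n₀, hn₀⟩ : ∃ n₀, n₀ = (maximalIdeal (EGA4.Cpl (Localization.AtPrime Q))).comap π := ⟨_, rfl⟩
  rw [← hn₀]
  have hn₀mem : ∀ t, t ∈ n₀ ↔ π t ∈ maximalIdeal (EGA4.Cpl (Localization.AtPrime Q)) := by
    intro t; rw [hn₀, Ideal.mem_comap]
  have hn₀max : n₀.IsMaximal := by
    haveI : n₀.IsPrime := by rw [hn₀]; exact Ideal.comap_isPrime π _
    have hcomap : n₀.comap (algebraMap (EGA4.Cpl (Localization.AtPrime P)) ((EGA4.Cpl (Localization.AtPrime P)) ⊗[R] S)) = maximalIdeal (EGA4.Cpl (Localization.AtPrime P)) := by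
      refine ((maximalIdeal.isMaximal (EGA4.Cpl (Localization.AtPrime P))).eq_of_le ?_ ?_).symm
      · exact Ideal.comap_ne_top _ (Ideal.IsPrime.ne_top inferInstance)
      · intro a ha
        rw [Ideal.mem_comap, hn₀mem, hπalg]
        exact hAB (Ideal.mem_map_of_mem _ ha)
    haveI : Algebra.IsIntegral (EGA4.Cpl (Localization.AtPrime P)) ((EGA4.Cpl (Localization.AtPrime P)) ⊗[R] S) := Algebra.IsIntegral.of_finite (EGA4.Cpl (Localization.AtPrime P)) _
    apply Ideal.isMaximal_of_isIntegral_of_isMaximal_comap (R := (EGA4.Cpl (Localization.AtPrime P))) n₀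
    rw [hcomap]; exact maximalIdeal.isMaximal (EGA4.Cpl (Localization.AtPrime P))
  obtain ⟨i₀, hi₀⟩ := Helper18ComplProd.eq_maxI_of_isMaximal A Φ n₀ hn₀max
  obtain ⟨e, he⟩ : ∃ e, e = Helper18ComplProd.idem A Φ i₀ := ⟨_, rfl⟩
  obtain ⟨p, hp⟩ : ∃ p, p = Helper18ComplProd.proj A Φ i₀ := ⟨_, rfl⟩
  have hpsurj : Function.Surjective p := by rw [hp]; exact Helper18ComplProd.proj_surjective A Φ i₀
  have he_idem : IsIdempotentElem e := by rw [he]; exact Helper18ComplProd.idem_mul_self A Φ i₀
  have he_not : e ∉ n₀ := by rw [he, hi₀]; exact Helper18ComplProd.idem_notMem A Φ i₀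
  have hπe : π e = 1 := by
    have hu : IsUnit (π e) := by
      by_contra hnu
      exact he_not ((hn₀mem e).mpr ((IsLocalRing.mem_maximalIdeal _).mpr hnu))
    obtain ⟨v, hv⟩ := hu.exists_right_inv
    calc π e = π e * (π e * v) := by rw [hv, mul_one]
      _ = π (e * e) * v := by rw [map_mul, mul_assoc]
      _ = 1 := by rw [he_idem.eq, hv]
  have hmem_iff : ∀ t, t ∈ n₀ ↔ p t ∈ maximalIdeal (A i₀) := by
    intro t; rw [hi₀, hp]; rfl
  have hmul_idem : ∀ t, p t = 0 → t * e = 0 := by
    intro t ht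
    rw [he]; rw [hp] at ht
    exact Helper18ComplProd.mul_idem_eq_zero A Φ i₀ t ht
  -- the `(EGA4.Cpl (Localization.AtPrime P))`-algebra structure on the local factor
  letI : Algebra (EGA4.Cpl (Localization.AtPrime P)) (A i₀) := (p.comp (algebraMap (EGA4.Cpl (Localization.AtPrime P)) ((EGA4.Cpl (Localization.AtPrime P)) ⊗[R] S))).toAlgebra
  haveI : Module.Finite (EGA4.Cpl (Localization.AtPrime P)) (A i₀) := by
    let pl : ((EGA4.Cpl (Localization.AtPrime P)) ⊗[R] S) →ₐ[(EGA4.Cpl (Localization.AtPrime P))] A i₀ := { p with commutes' := fun a => rfl }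
    exact Module.Finite.of_surjective pl.toLinearMap hpsurj
  obtain ⟨hA0N, hA0C⟩ := Helper18ComplProd.isAdicComplete_of_finite (EGA4.Cpl (Localization.AtPrime P)) (A i₀)
  -- the map from `S`
  let j : S →+* (EGA4.Cpl (Localization.AtPrime P)) ⊗[R] S := (Algebra.TensorProduct.includeRight : S →ₐ[R] (EGA4.Cpl (Localization.AtPrime P)) ⊗[R] S).toRingHom
  have hj : ∀ s, j s = (1 : (EGA4.Cpl (Localization.AtPrime P))) ⊗ₜ[R] s := fun s => rfl
  have hπj : ∀ s, π (j s) = iota Q s := by
    intro s; rw [hj, hπtmul, map_one, one_mul]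
  have hjQ : ∀ s, j s ∈ n₀ ↔ s ∈ Q := by
    intro s
    rw [hn₀mem, hπj]
    exact iota_mem_iff Q s
  have hunit : ∀ s : Q.primeCompl, IsUnit ((p.comp j) s) := by
    intro s
    by_contra hnu
    have : j s ∈ n₀ := (hmem_iff _).mpr ((IsLocalRing.mem_maximalIdeal _).mpr hnu)
    exact s.2 ((hjQ _).mp this)
  let ψ : (Localization.AtPrime Q) →+* A i₀ := IsLocalization.lift (M := Q.primeCompl) (g := p.comp j) hunit
  have hψ : ∀ s, ψ (algebraMap S (Localization.AtPrime Q) s) = p (j s) := fun s => IsLocalization.lift_eq _ s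
  have hψloc : (maximalIdeal (Localization.AtPrime Q)).map ψ ≤ maximalIdeal (A i₀) := by
    rw [← IsLocalization.AtPrime.map_eq_maximalIdeal Q (Localization.AtPrime Q), Ideal.map_map,
      Ideal.map_le_iff_le_comap]
    intro s hs
    rw [Ideal.mem_comap, RingHom.comp_apply, hψ]
    exact (hmem_iff _).mp ((hjQ s).mpr hs)
  haveI := hA0C
  letI algψ : Algebra (Localization.AtPrime Q) (A i₀) := ψ.toAlgebra
  obtain ⟨Ψ, hΨ⟩ := Helper19.exists_algHom_adicCompletion (R := Localization.AtPrime Q)
    (maximalIdeal (Localization.AtPrime Q)) (maximalIdeal (A i₀))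
    (Algebra.ofId (Localization.AtPrime Q) (A i₀)) hψloc
  have hΨι : ∀ s, Ψ (iota Q s) = p (j s) := by
    intro s
    rw [iota_apply]
    exact (hΨ _).trans (hψ s)
  have hRj : ∀ r : R, algebraMap (EGA4.Cpl (Localization.AtPrime P)) ((EGA4.Cpl (Localization.AtPrime P)) ⊗[R] S) (algebraMap (Localization.AtPrime P) (EGA4.Cpl (Localization.AtPrime P)) (algebraMap R (Localization.AtPrime P) r)) =
      j (algebraMap R S r) := by
    intro r
    rw [Algebra.TensorProduct.algebraMap_apply, hj]
    show (algebraMap R (EGA4.Cpl (Localization.AtPrime P)) r) ⊗ₜ[R] (1 : S) = (1 : (EGA4.Cpl (Localization.AtPrime P))) ⊗ₜ[R] (algebraMap R S r)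
    rw [Algebra.algebraMap_eq_smul_one, Algebra.algebraMap_eq_smul_one (A := S),
      TensorProduct.smul_tmul]
  haveI : IsHausdorff (maximalIdeal (A i₀)) (A i₀) := hA0C.toIsHausdorff
  have hA_part : (p.comp (algebraMap (EGA4.Cpl (Localization.AtPrime P)) ((EGA4.Cpl (Localization.AtPrime P)) ⊗[R] S))) =
      (Ψ : (EGA4.Cpl (Localization.AtPrime Q)) →+* A i₀).comp (algebraMap (EGA4.Cpl (Localization.AtPrime P)) (EGA4.Cpl (Localization.AtPrime Q))) := by
    apply Helper28.adicCompletion_ringHom_ext (maximalIdeal (Localization.AtPrime P))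
      (maximalIdeal (Localization.AtPrime P)).fg_of_isNoetherianRing
      (maximalIdeal (A i₀))
    · intro i hi
      rw [RingHom.comp_apply]
      apply (hmem_iff _).mp
      rw [hn₀mem, hπalg]
      apply hAB
      apply Ideal.mem_map_of_mem
      rw [AdicCompletion.maximalIdeal_eq_map]
      exact Ideal.mem_map_of_mem _ hi
    · have h1 : (p.comp (algebraMap (EGA4.Cpl (Localization.AtPrime P)) ((EGA4.Cpl (Localization.AtPrime P)) ⊗[R] S))).comp (algebraMap (Localization.AtPrime P) (EGA4.Cpl (Localization.AtPrime P))) =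
          ((Ψ : (EGA4.Cpl (Localization.AtPrime Q)) →+* A i₀).comp (algebraMap (EGA4.Cpl (Localization.AtPrime P)) (EGA4.Cpl (Localization.AtPrime Q)))).comp (algebraMap (Localization.AtPrime P) (EGA4.Cpl (Localization.AtPrime P))) := by
        apply IsLocalization.ringHom_ext P.primeCompl
        ext r
        simp only [RingHom.comp_apply]
        rw [halg, hRj]
        exact (hΨι _).symm
      intro a
      exact RingHom.congr_fun h1 a
  have hΨπ : ∀ t, Ψ (π t) = p t := by
    intro t
    induction t using TensorProduct.induction_on with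
    | zero => simp
    | tmul a s =>
      have h1 : a ⊗ₜ[R] s = algebraMap (EGA4.Cpl (Localization.AtPrime P)) ((EGA4.Cpl (Localization.AtPrime P)) ⊗[R] S) a * j s := by
        rw [Algebra.TensorProduct.algebraMap_apply, hj, Algebra.TensorProduct.tmul_mul_tmul,
          mul_one, one_mul]
        rfl
      rw [h1, map_mul, map_mul, map_mul, hπalg, hπj, hΨι]
      congr 1
      exact (RingHom.congr_fun hA_part a).symm
    | add x y hx hy => rw [map_add, map_add, map_add, hx, hy]
  have hker : ∀ t, π t = 0 → e * t = 0 := by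
    intro t ht
    have h0 : p t = 0 := by rw [← hΨπ, ht, map_zero]
    rw [mul_comm]
    exact hmul_idem t h0
  have hkerp : ∀ t, p t = 0 → π t = 0 := by
    intro t ht
    have := congrArg π (hmul_idem t ht)
    rwa [map_mul, hπe, mul_one, map_zero] at this
  have hsurj : Function.Surjective π := by
    let π₀ : A i₀ →+* (EGA4.Cpl (Localization.AtPrime Q)) := RingHom.liftOfSurjective p hpsurj
      ⟨π, fun t ht => (RingHom.mem_ker).mpr (hkerp t ((RingHom.mem_ker).mp ht))⟩
    have hπ₀ : ∀ t, π₀ (p t) = π t := fun t =>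
      RingHom.liftOfRightInverse_comp_apply _ _ _ _ t
    have hid : (RingHom.id (EGA4.Cpl (Localization.AtPrime Q))) = π₀.comp (Ψ : (EGA4.Cpl (Localization.AtPrime Q)) →+* A i₀) := by
      apply Helper28.adicCompletion_ringHom_ext (maximalIdeal (Localization.AtPrime Q))
        (maximalIdeal (Localization.AtPrime Q)).fg_of_isNoetherianRing
        (maximalIdeal (EGA4.Cpl (Localization.AtPrime Q)))
      · intro i hi
        rw [RingHom.id_apply, AdicCompletion.maximalIdeal_eq_map]
        exact Ideal.mem_map_of_mem _ hi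
      · have h1 : (RingHom.id (EGA4.Cpl (Localization.AtPrime Q))).comp (algebraMap (Localization.AtPrime Q) (EGA4.Cpl (Localization.AtPrime Q))) =
            (π₀.comp (Ψ : (EGA4.Cpl (Localization.AtPrime Q)) →+* A i₀)).comp (algebraMap (Localization.AtPrime Q) (EGA4.Cpl (Localization.AtPrime Q))) := by
          apply IsLocalization.ringHom_ext Q.primeCompl
          ext s
          simp only [RingHom.comp_apply, RingHom.id_apply]
          have h2 := hΨι s
          rw [iota_apply] at h2
          erw [h2]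
          rw [hπ₀, hπj, iota_apply]
        intro b
        exact RingHom.congr_fun h1 b
    intro x
    obtain ⟨t, ht⟩ := hpsurj (Ψ x)
    refine ⟨t, ?_⟩
    rw [← hπ₀, ht]
    exact (RingHom.congr_fun hid x).symm
  refine ⟨hsurj, e, ⟨he_idem, he_not, ?_⟩, hn₀max, hπe, hker⟩
  intro n hn hne
  obtain ⟨i, hi⟩ := Helper18ComplProd.eq_maxI_of_isMaximal A Φ n hn
  have hii : i₀ ≠ i := by
    rintro rfl
    exact hne (hi.trans hi₀.symm)
  rw [hi]
  show Helper18ComplProd.proj A Φ i e ∈ maximalIdeal (A i)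
  have h0 : Helper18ComplProd.proj A Φ i e = 0 := by
    rw [he]
    simp [Helper18ComplProd.proj_apply, Helper18ComplProd.idem, Pi.single_eq_of_ne hii.symm]
  rw [h0]
  exact Ideal.zero_mem _

end Groth.Agent.Lib.T2H8.GalCplB
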