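import Mathlib
import Groth.Prelude.Def_EGA4b
import Groth.Agent.Lib.T2H8GalCplB

/-!
# T2H8GalCplC: the decomposition group is the Galois group of the completed extension
-/

set_option autoImplicit false
set_option linter.unusedSectionVars false
universe u

namespace Groth.Agent.Lib.T2H8.GalCplC

open TensorProduct IsLocalRing
open scoped Pointwise
open Groth.Agent.Lib Groth.Agent.Lib.T2H8

theorem finite_of_isGaloisGroup (R S G : Type u) [CommRing R] [CommRing S] [IsDomain R]
    [IsDomain S] [IsIntegrallyClosed R] [IsIntegrallyClosed S] [IsNoetherianRing R]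
    [Algebra R S] [FaithfulSMul R S]
    [Group G] [Finite G] [MulSemiringAction G S] [hG : IsGaloisGroup G R S] :
    Module.Finite R S := by
  haveI : Algebra.IsInvariant R S G := hG.isInvariant
  haveI : Algebra.IsIntegral R S := Algebra.IsInvariant.isIntegral R S G
  haveI : FaithfulSMul R (FractionRing S) := by
    rw [faithfulSMul_iff_algebraMap_injective, IsScalarTower.algebraMap_eq R S (FractionRing S)]
    exact (IsFractionRing.injective S (FractionRing S)).comp
      (FaithfulSMul.algebraMap_injective R S)
  let := FractionRing.liftAlgebra R (FractionRing S)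
  let := IsFractionRing.mulSemiringAction G S (FractionRing S)
  have := IsGaloisGroup.to_isFractionRing G R S (FractionRing R) (FractionRing S)
  haveI : FiniteDimensional (FractionRing R) (FractionRing S) :=
    IsGaloisGroup.finiteDimensional G _ _
  haveI : IsGalois (FractionRing R) (FractionRing S) := IsGaloisGroup.isGalois G _ _
  haveI : IsIntegralClosure S R (FractionRing S) :=
    IsIntegralClosure.of_isIntegrallyClosed S R (FractionRing S)
  exact IsIntegralClosure.finite R (FractionRing R) (FractionRing S) S

theorem isUnit_smul_iff' {D B : Type*} [Group D] [CommRing B] [MulSemiringAction D B] (d : D)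
    (x : B) : IsUnit (d • x) ↔ IsUnit x := by
  have key : ∀ (g : D) (y : B), IsUnit y → IsUnit (g • y) := by
    intro g y hy
    obtain ⟨v, hv⟩ := hy.exists_right_inv
    refine IsUnit.of_mul_eq_one (g • v) ?_
    rw [← smul_mul', hv, smul_one]
  refine ⟨fun h => ?_, key d x⟩
  have := key d⁻¹ _ h
  rwa [inv_smul_smul] at this

theorem main (R S G : Type u) [CommRing R] [CommRing S] [IsDomain R] [IsDomain S]
    [IsIntegrallyClosed R] [IsIntegrallyClosed S] [IsNoetherianRing R]
    [Algebra R S] [FaithfulSMul R S]
    [Group G] [Finite G] [MulSemiringAction G S] [SMulCommClass G R S] [hG : IsGaloisGroup G R S]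
    (P : Ideal R) [P.IsPrime] (Q : Ideal S) [Q.IsPrime] [Q.LiesOver P]
    [MulSemiringAction (MulAction.stabilizer G Q) (EGA4.Cpl (Localization.AtPrime Q))]
    (hact : ∀ (g : MulAction.stabilizer G Q) (s : S),
      g • algebraMap (Localization.AtPrime Q) (EGA4.Cpl (Localization.AtPrime Q))
          (algebraMap S (Localization.AtPrime Q) s) =
        algebraMap (Localization.AtPrime Q) (EGA4.Cpl (Localization.AtPrime Q))
          (algebraMap S (Localization.AtPrime Q) (g • s)))
    [Algebra (EGA4.Cpl (Localization.AtPrime P)) (EGA4.Cpl (Localization.AtPrime Q))]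
    (halg : ∀ r : R,
      algebraMap (EGA4.Cpl (Localization.AtPrime P)) (EGA4.Cpl (Localization.AtPrime Q))
          (algebraMap (Localization.AtPrime P) (EGA4.Cpl (Localization.AtPrime P))
            (algebraMap R (Localization.AtPrime P) r)) =
        algebraMap (Localization.AtPrime Q) (EGA4.Cpl (Localization.AtPrime Q))
          (algebraMap S (Localization.AtPrime Q) (algebraMap R S r))) :
    IsGaloisGroup (MulAction.stabilizer G Q) (EGA4.Cpl (Localization.AtPrime P))
      (EGA4.Cpl (Localization.AtPrime Q)) := by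
  classical
  haveI hfin : Module.Finite R S := finite_of_isGaloisGroup R S G
  haveI : IsNoetherianRing S := IsNoetherianRing.of_finite R S
  haveI : IsNoetherianRing (Localization.AtPrime P) :=
    IsLocalization.isNoetherianRing P.primeCompl _ inferInstance
  haveI : IsNoetherianRing (Localization.AtPrime Q) :=
    IsLocalization.isNoetherianRing Q.primeCompl _ inferInstance
  haveI : Algebra.IsInvariant R S G := hG.isInvariant
  haveI : FaithfulSMul G S := hG.faithful
  have hAB := GalCplB.algebraMap_mem_of_mem P Q halg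
  have hιact : ∀ (d : MulAction.stabilizer G Q) (s : S),
      d • GalCplB.iota Q s = GalCplB.iota Q ((d : G) • s) := fun d s => hact d s
  -- Step 1: the action fixes the image of the completion of `R_P`
  have hcomm : ∀ (d : MulAction.stabilizer G Q) (a : EGA4.Cpl (Localization.AtPrime P)),
      d • algebraMap (EGA4.Cpl (Localization.AtPrime P)) (EGA4.Cpl (Localization.AtPrime Q)) a =
        algebraMap (EGA4.Cpl (Localization.AtPrime P)) (EGA4.Cpl (Localization.AtPrime Q)) a := by
    intro d a
    have key : (algebraMap (EGA4.Cpl (Localization.AtPrime P))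
        (EGA4.Cpl (Localization.AtPrime Q))) =
        (MulSemiringAction.toRingHom (MulAction.stabilizer G Q)
          (EGA4.Cpl (Localization.AtPrime Q)) d).comp
          (algebraMap (EGA4.Cpl (Localization.AtPrime P)) (EGA4.Cpl (Localization.AtPrime Q))) := by
      apply Helper28.adicCompletion_ringHom_ext (maximalIdeal (Localization.AtPrime P))
        (maximalIdeal (Localization.AtPrime P)).fg_of_isNoetherianRing
        (maximalIdeal (EGA4.Cpl (Localization.AtPrime Q)))
      · intro i hi
        apply hAB
        apply Ideal.mem_map_of_mem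
        rw [AdicCompletion.maximalIdeal_eq_map]
        exact Ideal.mem_map_of_mem _ hi
      · have h1 : (algebraMap (EGA4.Cpl (Localization.AtPrime P))
            (EGA4.Cpl (Localization.AtPrime Q))).comp
              (algebraMap (Localization.AtPrime P) (EGA4.Cpl (Localization.AtPrime P))) =
            ((MulSemiringAction.toRingHom (MulAction.stabilizer G Q)
              (EGA4.Cpl (Localization.AtPrime Q)) d).comp
              (algebraMap (EGA4.Cpl (Localization.AtPrime P))
                (EGA4.Cpl (Localization.AtPrime Q)))).comp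
              (algebraMap (Localization.AtPrime P) (EGA4.Cpl (Localization.AtPrime P))) := by
          apply IsLocalization.ringHom_ext P.primeCompl
          ext r
          simp only [RingHom.comp_apply, MulSemiringAction.toRingHom_apply]
          rw [halg, hact]
          have : (d • algebraMap R S r : S) = algebraMap R S r := by
            show (d : G) • algebraMap R S r = _
            exact smul_algebraMap _ _
          rw [this]
        intro a
        exact RingHom.congr_fun h1 a
    exact (RingHom.congr_fun key a).symm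
  -- Step 2: injectivity of `S → Ŝ_Q`
  have hιinj : Function.Injective (GalCplB.iota Q) := by
    have h1 : Function.Injective (algebraMap S (Localization.AtPrime Q)) :=
      IsLocalization.injective (Localization.AtPrime Q) Q.primeCompl_le_nonZeroDivisors
    have h2 : Function.Injective (algebraMap (Localization.AtPrime Q)
        (EGA4.Cpl (Localization.AtPrime Q))) := fun a b h =>
      AdicCompletion.of_injective (maximalIdeal (Localization.AtPrime Q))
        (Localization.AtPrime Q) h
    exact h2.comp h1
  refine ⟨⟨?_⟩, ⟨?_⟩, ⟨?_⟩⟩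
  · -- faithful
    intro d₁ d₂ h
    apply Subtype.ext
    apply eq_of_smul_eq_smul (α := S)
    intro s
    apply hιinj
    rw [← hιact, ← hιact, h]
  · -- commutes
    intro d a x
    rw [Algebra.smul_def, Algebra.smul_def, smul_mul', hcomm]
  · -- invariants
    intro x hx
    obtain ⟨hsurj, e, hidem, hmax, hπe, hker⟩ := GalCplB.structure_main P Q halg
    obtain ⟨π, hπ⟩ : ∃ π, π = GalCplB.piHom P Q halg := ⟨_, rfl⟩
    rw [← hπ] at hsurj hidem hmax hπe hker
    have hπtmul : ∀ (a : EGA4.Cpl (Localization.AtPrime P)) (s : S), π (a ⊗ₜ[R] s) =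
        algebraMap (EGA4.Cpl (Localization.AtPrime P)) (EGA4.Cpl (Localization.AtPrime Q)) a *
          GalCplB.iota Q s := by
      intro a s; rw [hπ]; exact GalCplB.piHom_tmul P Q halg a s
    haveI : Module.Flat R (EGA4.Cpl (Localization.AtPrime P)) :=
      Module.Flat.trans R (Localization.AtPrime P) (EGA4.Cpl (Localization.AtPrime P))
    -- the action
    let σ : G → (EGA4.Cpl (Localization.AtPrime P)) ⊗[R] S →+*
        (EGA4.Cpl (Localization.AtPrime P)) ⊗[R] S := fun g =>
      (GalCplA.σ (EGA4.Cpl (Localization.AtPrime P)) g).toRingHom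
    have hσtmul : ∀ (g : G) (a : EGA4.Cpl (Localization.AtPrime P)) (s : S),
        σ g (a ⊗ₜ[R] s) = a ⊗ₜ[R] (g • s) := fun g a s => GalCplA.σ_tmul _ g a s
    have hσ1 : ∀ t, σ 1 t = t := fun t => GalCplA.σ_one_apply _ t
    have hσm : ∀ g h t, σ (g * h) t = σ g (σ h t) := fun g h t => GalCplA.σ_mul_apply _ g h t
    -- equivariance
    have hequiv : ∀ (d : MulAction.stabilizer G Q) (t), π (σ (d : G) t) = d • π t := by
      intro d t
      induction t using TensorProduct.induction_on with
      | zero => simp
      | tmul a s => rw [hσtmul, hπtmul, hπtmul, smul_mul', hcomm, hιact]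
      | add y z hy hz => rw [map_add, map_add, map_add, hy, hz, smul_add]
    obtain ⟨n₀, hn₀⟩ : ∃ n₀, n₀ = (maximalIdeal (EGA4.Cpl (Localization.AtPrime Q))).comap π :=
      ⟨_, rfl⟩
    rw [← hn₀] at hidem hmax
    have hn₀mem : ∀ t, t ∈ n₀ ↔ π t ∈ maximalIdeal (EGA4.Cpl (Localization.AtPrime Q)) := by
      intro t; rw [hn₀, Ideal.mem_comap]
    -- the stabilizer of `n₀`
    have hDn : ∀ d ∈ MulAction.stabilizer G Q, n₀.comap (σ d⁻¹) = n₀ := by
      intro d hd
      ext t
      rw [Ideal.mem_comap, hn₀mem, hn₀mem]
      have h1 := hequiv (⟨d, hd⟩⁻¹ : MulAction.stabilizer G Q) t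
      have h2 : ((⟨d, hd⟩⁻¹ : MulAction.stabilizer G Q) : G) = d⁻¹ := rfl
      rw [h2] at h1
      rw [h1, IsLocalRing.mem_maximalIdeal, IsLocalRing.mem_maximalIdeal, mem_nonunits_iff,
        mem_nonunits_iff, isUnit_smul_iff']
    have hjn : ∀ s : S, ((1 : EGA4.Cpl (Localization.AtPrime P)) ⊗ₜ[R] s) ∈ n₀ ↔ s ∈ Q := by
      intro s
      rw [hn₀mem, hπtmul, map_one, one_mul]
      exact GalCplB.iota_mem_iff Q s
    have hgn : ∀ g, g ∉ MulAction.stabilizer G Q → n₀ ≠ n₀.comap (σ g⁻¹) := by
      intro g hg heq
      apply hg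
      rw [MulAction.mem_stabilizer_iff]
      ext s
      rw [Ideal.mem_pointwise_smul_iff_inv_smul_mem, ← hjn, ← hjn s, ← hσtmul, ← Ideal.mem_comap,
        ← heq]
    have hDe : ∀ d ∈ MulAction.stabilizer G Q, σ d e = e := by
      intro d hd
      have h1 : GalCplA.IsIdemAt (σ d e) (n₀.comap (σ d⁻¹)) :=
        GalCplA.IsIdemAt.map (σ d) (σ d⁻¹)
          (fun t => by rw [← hσm, inv_mul_cancel, hσ1])
          (fun t => by rw [← hσm, mul_inv_cancel, hσ1]) hidem
      rw [hDn d hd] at h1
      exact GalCplA.IsIdemAt.unique hmax h1 hidem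
    have hge : ∀ g, g ∉ MulAction.stabilizer G Q → e * σ g e = 0 := by
      intro g hg
      have h1 : GalCplA.IsIdemAt (σ g e) (n₀.comap (σ g⁻¹)) :=
        GalCplA.IsIdemAt.map (σ g) (σ g⁻¹)
          (fun t => by rw [← hσm, inv_mul_cancel, hσ1])
          (fun t => by rw [← hσm, mul_inv_cancel, hσ1]) hidem
      exact GalCplA.IsIdemAt.mul_eq_zero (hgn g hg) hidem h1
    obtain ⟨t₀, ht₀⟩ := hsurj x
    have hD : ∀ d ∈ MulAction.stabilizer G Q, π (σ d t₀) = π t₀ := by
      intro d hd
      have := hequiv ⟨d, hd⟩ t₀
      rw [this, ht₀, hx]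
    obtain ⟨y, hy, hπy⟩ := GalCplA.exists_invariant_lift σ hσ1 hσm (MulAction.stabilizer G Q) π e
      hidem.1 hπe hDe hge hker t₀ hD
    obtain ⟨a, ha⟩ := GalCplA.exists_tmul_one_of_invariant (G := G)
      (EGA4.Cpl (Localization.AtPrime P)) y hy
    refine ⟨a, ?_⟩
    rw [← ht₀, ← hπy, ha, hπtmul, map_one, mul_one]

end Groth.Agent.Lib.T2H8.GalCplC
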