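import Mathlib
import Groth.Agent.Lib.T2H8GalIdemB
import Groth.Agent.Lib.T1H8PtNormB
import Groth.Prelude.Def_W4c4chowquasisplitNorm
set_option autoImplicit false
set_option linter.style.haveILetI false

/-!
# S17746: the norm subgroup of a connected scheme whose base change to a finite Galois extension is
disconnected
-/

namespace Groth.Agent.Lib.T2H8.GalIdemSch

universe u
open AlgebraicGeometry CategoryTheory CategoryTheory.Limits
open Groth.Agent.Lib.T1H8.PtNorm

/-- the norm subgroup is everything for a `k`-scheme that factors through `Spec F`, `F ≠ k` finite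
inside `K` (no hypothesis on the morphism to `Spec F`) -/
theorem normSubgroup_eq_top_of_factor
    (k : Type u) [Field k] (K : Type u) [Field K] [Algebra k K]
    (F : IntermediateField k K) [FiniteDimensional k F] (hF : F ≠ ⊥)
    (X : Scheme.{u}) [X.Over (Spec (CommRingCat.of k))] (g : X ⟶ Spec (CommRingCat.of F))
    (hg : g ≫ Spec.map (CommRingCat.ofHom (algebraMap k F)) = X ↘ Spec (CommRingCat.of k))
    (δ : X → ℤ) (j : ℤ) :
    QsChow.normSubgroup k K X δ j = ⊤ := by
  rw [eq_top_iff]
  intro c _
  obtain ⟨⟨β, hβ⟩, rfl⟩ := QuotientAddGroup.mk_surjective c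
  apply AddSubgroup.subset_closure
  let s : X ⟶ Curv2.bc k X F := Limits.pullback.lift (𝟙 X) g (by rw [Category.id_comp, hg])
  have hs : s ≫ Curv2.bcFst k X F = 𝟙 X := Limits.pullback.lift_fst _ _ _
  haveI : IsClosedImmersion s := isClosedImmersion_of_section s _ hs
  have hmap := map_pi_map_s s (Curv2.bcFst k X F) hs δ β
  refine ⟨F, inferInstance, hF,
    AlgebraicCycle.map s (fun z => (δ ∘ ⇑(Curv2.bcFst k X F).base) (s z))
      (δ ∘ ⇑(Curv2.bcFst k X F).base) β, ?_, ?_, ?_⟩
  · intro y hy
    by_cases hyr : y ∈ Set.range s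
    · obtain ⟨z, rfl⟩ := hyr
      rw [map_apply_self]
      apply hβ
      intro h
      apply hy
      change δ ((Curv2.bcFst k X F) (s z)) = j
      rw [pi_s_apply s _ hs z]
      exact h
    · exact map_apply_of_notMem s _ β y hyr
  · rw [hmap]
    exact hβ
  · unfold ChowOps.cl
    congr 1
    apply Subtype.ext
    exact hmap.symm

theorem main_S17746
    (k : Type u) [Field k] (K : Type u) [Field K] [Algebra k K] [Algebra.IsSeparable k K]
    (L : IntermediateField k K) [FiniteDimensional k L] [IsGalois k L]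
    (X : Scheme.{u}) [X.Over (Spec (CommRingCat.of k))]
    (hsm : Smooth (X ↘ Spec (CommRingCat.of k))) [IsSeparated (X ↘ Spec (CommRingCat.of k))]
    [QuasiCompact (X ↘ Spec (CommRingCat.of k))]
    [ConnectedSpace X] (hdisc : ¬ ConnectedSpace ↥(Curv2.bc k X L))
    (δ : X → ℤ) (hδ : Cyc.IsSetup X δ)
    (hcompat : Cyc.DeltaCompat (X ↘ Spec (CommRingCat.of k)) δ (fun _ => 0)) (j : ℤ) :
    QsChow.normSubgroup k K X δ j = ⊤ := by
  obtain ⟨F₀, hF₀, g₀, hg₀⟩ := exists_factor k ↥L (X ↘ Spec (CommRingCat.of k)) hdisc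
  let eq : F₀ ≃ₐ[k] IntermediateField.lift F₀ := IntermediateField.liftAlgEquiv F₀
  haveI : FiniteDimensional k (IntermediateField.lift F₀) := Module.Finite.equiv eq.toLinearEquiv
  have hF : IntermediateField.lift F₀ ≠ ⊥ := by
    intro h
    apply hF₀
    apply IntermediateField.lift_injective L
    rw [h, IntermediateField.lift_bot]
  refine normSubgroup_eq_top_of_factor k K (IntermediateField.lift F₀) hF X
    (g₀ ≫ Spec.map (CommRingCat.ofHom (eq.symm : IntermediateField.lift F₀ →ₐ[k] F₀).toRingHom))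
    ?_ δ j
  rw [Category.assoc, ← Spec.map_comp]
  have h1 : CommRingCat.ofHom (algebraMap k (IntermediateField.lift F₀)) ≫
      CommRingCat.ofHom (eq.symm : IntermediateField.lift F₀ →ₐ[k] F₀).toRingHom =
      CommRingCat.ofHom (algebraMap k F₀) := by
    refine CommRingCat.hom_ext (RingHom.ext fun a => ?_)
    exact eq.symm.commutes a
  rw [h1]
  exact hg₀

end Groth.Agent.Lib.T2H8.GalIdemSch
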