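import Mathlib
import Groth.Prelude.Def_EtCore
import Groth.Agent.Lib.T2H8Excision

/-!
# Sections over a Galois covering: invariants (helper8)
-/

set_option autoImplicit false
set_option linter.style.haveILetI false
set_option linter.unusedSectionVars false
universe u
open CategoryTheory CategoryTheory.Limits AlgebraicGeometry Opposite

namespace Groth.Agent.Lib.T2H8.GaloisInv

open Groth.Agent.Lib.T2H8.Excision

variable {X : Scheme.{u}}

set_option backward.isDefEq.respectTransparency.types false in
/-- the members of a colimit cofan in the small étale site are jointly surjective -/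
theorem jointly_surjective_of_isColimit {ι : Type u} (Y : ι → X.Etale) (P : X.Etale)
    (inj : ∀ i, Y i ⟶ P) (hc : IsColimit (Cofan.mk P inj)) (p : P.left) :
    ∃ (i : ι) (y : (Y i).left), (inj i).left.base y = p := by
  let W : P.left.Opens := ⟨⋃ i, Set.range (inj i).left.base,
    isOpen_iUnion (fun i => (inj i).left.isOpenMap.isOpen_range)⟩
  haveI hWι : IsOpenImmersion W.ι := inferInstance
  let Wobj : X.Etale := Scheme.Etale.mk (W.ι ≫ P.hom)
  let incl : Wobj ⟶ P := MorphismProperty.Over.homMk W.ι rfl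
  have hsub : ∀ i, Set.range (inj i).left.base ⊆ Set.range W.ι.base := by
    intro i
    rw [Scheme.Opens.range_ι]
    intro x hx
    exact Set.mem_iUnion.2 ⟨i, hx⟩
  let l : ∀ i, (Y i).left ⟶ (W : Scheme.{u}) := fun i =>
    IsOpenImmersion.lift W.ι (inj i).left (hsub i)
  have hl : ∀ i, l i ≫ W.ι = (inj i).left := fun i =>
    IsOpenImmersion.lift_fac W.ι (inj i).left (hsub i)
  let inj' : ∀ i, Y i ⟶ Wobj := fun i =>
    MorphismProperty.Over.homMk (l i) (by
      change l i ≫ W.ι ≫ P.hom = (Y i).hom
      rw [← Category.assoc, hl]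
      exact MorphismProperty.Over.w (inj i))
  have hfac : ∀ i, inj' i ≫ incl = inj i := by
    intro i
    apply MorphismProperty.Over.Hom.ext
    exact hl i
  let d : P ⟶ Wobj := Cofan.IsColimit.desc hc inj'
  have hd : ∀ i, inj i ≫ d = inj' i := fun i => Cofan.IsColimit.fac hc inj' i
  have hid : d ≫ incl = 𝟙 P := by
    apply Cofan.IsColimit.hom_ext hc
    intro i
    change inj i ≫ d ≫ incl = inj i ≫ 𝟙 P
    rw [← Category.assoc, hd, hfac, Category.comp_id]
  have hp : W.ι.base (d.left.base p) = p := by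
    have e1 : W.ι.base (d.left.base p) = (d ≫ incl).left.base p :=
      (Scheme.Hom.comp_apply _ _ _).symm
    rw [e1, hid]
    rfl
  have hpW : p ∈ W := by
    rw [← hp]
    exact (d.left.base p).2
  obtain ⟨i, hi⟩ := Set.mem_iUnion.1 hpW
  obtain ⟨y, hy⟩ := hi
  exact ⟨i, y, hy⟩

set_option backward.isDefEq.respectTransparency.types false in
theorem main (X : Scheme.{u})
    (Y : X.Etale) (hY : Function.Surjective Y.hom.base)
    {G : Type u} [Group G] (σ : G →* Aut Y)
    (hgal : Nonempty (IsColimit (Cofan.mk (Y ⨯ Y) (fun g : G => prod.lift (𝟙 Y) (σ g).hom))))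
    (F : EtCoh.Ab X) :
    Function.Injective (F.obj.map ((EtCore.topIsTerminal X).from Y).op) ∧
      Set.range (F.obj.map ((EtCore.topIsTerminal X).from Y).op) =
        {s : EtCoh.sect F Y | ∀ g : G, F.obj.map (σ g).hom.op s = s} := by
  let π : Y ⟶ EtCoh.top X := (EtCore.topIsTerminal X).from Y
  have hπ : π.left = Y.hom := by
    have h : π.left ≫ 𝟙 X = Y.hom := MorphismProperty.Over.w π
    exact (Category.comp_id _).symm.trans h
  have hπsurj : ∀ x : (EtCoh.top X).left, ∃ y : Y.left, π.left.base y = x := by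
    have key : ∀ (m : Y.left ⟶ X), m = Y.hom → ∀ x : X, ∃ y : Y.left, m.base y = x := by
      rintro m rfl x
      exact hY x
    exact key _ hπ
  refine ⟨?_, ?_⟩
  · intro s₁ s₂ h
    apply eq_of_locally_eq
    intro x
    obtain ⟨y, hy⟩ := hπsurj x
    exact ⟨Y, π, ⟨y, hy⟩, h⟩
  · ext s
    constructor
    · rintro ⟨t, rfl⟩ g
      change F.obj.map (σ g).hom.op (F.obj.map π.op t) = F.obj.map π.op t
      rw [← map_comp_apply]
      have e : (σ g).hom ≫ π = π := (EtCore.topIsTerminal X).hom_ext _ _
      rw [e]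
    · intro hs
      obtain ⟨hc⟩ := hgal
      -- the two pullbacks of `s` to `Y ⨯ Y` agree
      have hpr : F.obj.map (prod.fst : Y ⨯ Y ⟶ Y).op s = F.obj.map (prod.snd : Y ⨯ Y ⟶ Y).op s := by
        apply eq_of_locally_eq
        intro p
        obtain ⟨g, y, hy⟩ := jointly_surjective_of_isColimit (fun _ : G => Y) (Y ⨯ Y)
          (fun g : G => prod.lift (𝟙 Y) (σ g).hom) hc p
        refine ⟨Y, prod.lift (𝟙 Y) (σ g).hom, ⟨y, hy⟩, ?_⟩
        rw [← map_comp_apply, ← map_comp_apply, prod.lift_fst, prod.lift_snd]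
        have e1 : F.obj.map (𝟙 Y).op s = s := by
          rw [op_id, F.obj.map_id]
          rfl
        rw [e1]
        exact (hs g).symm
      let Y' : Unit → X.Etale := fun _ => Y
      let π' : ∀ b, Y' b ⟶ EtCoh.top X := fun _ => π
      let xs : ∀ b, (F.obj ⋙ forget AddCommGrpCat.{u + 1}).obj (op (Y' b)) := fun _ => s
      have hS : Sieve.ofArrows Y' π' ∈ X.smallEtaleTopology (EtCoh.top X) := by
        rw [Groth.Agent.Lib.Helper16.SmallEtale.mem_smallEtale_iff]
        intro x
        obtain ⟨y, hy⟩ := hπsurj x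
        exact ⟨Y, π, y, Sieve.ofArrows_mk Y' π' (), hy⟩
      have h1 : Presieve.IsSheafFor (F.obj ⋙ forget AddCommGrpCat.{u + 1})
          (Presieve.ofArrows Y' π') :=
        (Presieve.isSheafFor_iff_generate (Presieve.ofArrows Y' π')).mpr ((isSheaf_forget F) _ hS)
      rw [Presieve.isSheafFor_arrows_iff] at h1
      have hcompat : Presieve.Arrows.Compatible (F.obj ⋙ forget AddCommGrpCat.{u + 1}) π' xs := by
        intro a b T ga gb _
        change F.obj.map ga.op s = F.obj.map gb.op s
        have e1 : ga = prod.lift ga gb ≫ prod.fst := (prod.lift_fst ga gb).symm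
        have e2 : gb = prod.lift ga gb ≫ prod.snd := (prod.lift_snd ga gb).symm
        rw [e1, map_comp_apply, hpr, ← map_comp_apply, prod.lift_snd]
      obtain ⟨t, ht, -⟩ := h1 xs hcompat
      exact ⟨t, ht ()⟩

end Groth.Agent.Lib.T2H8.GaloisInv
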