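import Mathlib

set_option autoImplicit false
universe u
open scoped TensorProduct

namespace Groth.Agent.Lib.T2H8.GammaRed

section coord
variable {A : Type u} [CommRing A] {B : Type u} [CommRing B] [Algebra A B]
variable {K : Type u} [Field K] [Algebra A K]

/-- coordinates of `S ⊗[A] B` with respect to a `K`-basis of `K ⊗[A] B` -/
noncomputable def coord {ι : Type*} (b : Module.Basis ι K (K ⊗[A] B)) (S : Type u) [CommRing S]
    [Algebra K S] [Algebra A S] [IsScalarTower A K S] : S ⊗[A] B ≃ₗ[S] (ι →₀ S) :=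
  (Algebra.TensorProduct.cancelBaseChange A K S S B).symm.toLinearEquiv.trans (b.baseChange S).repr

lemma coord_tmul {ι : Type*} (b : Module.Basis ι K (K ⊗[A] B)) (S : Type u) [CommRing S]
    [Algebra K S] [Algebra A S] [IsScalarTower A K S] (s : S) (x : B) (i : ι) :
    coord b S (s ⊗ₜ[A] x) i = b.repr ((1 : K) ⊗ₜ[A] x) i • s := by
  simp [coord, Module.Basis.baseChange_repr_tmul]

lemma coord_nat {ι : Type*} (b : Module.Basis ι K (K ⊗[A] B)) (R L : Type u) [CommRing R]
    [Algebra K R] [Algebra A R] [IsScalarTower A K R] [CommRing L]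
    [Algebra K L] [Algebra A L] [IsScalarTower A K L] (ρ : R →ₐ[K] L) (ρA : R →ₐ[A] L)
    (hρ : ∀ r, ρA r = ρ r) (x : R ⊗[A] B) (i : ι) :
    coord b L (Algebra.TensorProduct.map ρA (AlgHom.id A B) x) i = ρ (coord b R x i) := by
  induction x using TensorProduct.induction_on with
  | zero => simp
  | tmul r y =>
    rw [Algebra.TensorProduct.map_tmul, coord_tmul, coord_tmul, hρ, AlgHom.id_apply, map_smul]
  | add x y hx hy => simp only [map_add, Finsupp.add_apply, hx, hy]

/-- a reduced `K`-algebra tensored with a "fieldwise reduced" `A`-algebra is reduced -/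
theorem isReduced_tensor_of_fieldwise
    (hred : ∀ (L : Type u) [Field L] [Algebra A L], IsReduced (L ⊗[A] B))
    (R : Type u) [CommRing R] [Algebra K R] [Algebra A R]
    [IsScalarTower A K R] [IsReduced R] : IsReduced (R ⊗[A] B) := by
  classical
  refine ⟨fun x hx => ?_⟩
  let b := Module.Free.chooseBasis K (K ⊗[A] B)
  apply (coord b R).injective
  rw [map_zero]
  ext i
  rw [Finsupp.zero_apply]
  have hnil : coord b R x i ∈ nilradical R := by
    rw [nilradical_eq_sInf, Ideal.mem_sInf]
    intro P hP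
    haveI : P.IsPrime := hP
    haveI : IsScalarTower A K P.ResidueField := by
      refine IsScalarTower.of_algebraMap_eq fun a => ?_
      rw [IsScalarTower.algebraMap_apply A R P.ResidueField,
        IsScalarTower.algebraMap_apply A K R, ← IsScalarTower.algebraMap_apply K R P.ResidueField]
    let ρ : R →ₐ[K] P.ResidueField := IsScalarTower.toAlgHom K R P.ResidueField
    let ρA : R →ₐ[A] P.ResidueField := IsScalarTower.toAlgHom A R P.ResidueField
    have h1 := coord_nat b R P.ResidueField ρ ρA (fun _ => rfl) x i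
    haveI := hred P.ResidueField
    have h2 : Algebra.TensorProduct.map ρA (AlgHom.id A B) x = 0 :=
      (hx.map (Algebra.TensorProduct.map ρA (AlgHom.id A B))).eq_zero
    rw [h2, map_zero, Finsupp.zero_apply] at h1
    have h3 : algebraMap R P.ResidueField (coord b R x i) = 0 := h1.symm
    rwa [Ideal.algebraMap_residueField_eq_zero] at h3
  rwa [nilradical_eq_zero, Ideal.zero_eq_bot, Ideal.mem_bot] at hnil

end coord

section PiSplit
open PiTensorProduct

variable (k : Type*) [CommRing k] {ι : Type*} (F : ι → Type*) [∀ i, CommRing (F i)]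
  [∀ i, Algebra k (F i)]

/-- multiplicativity of a linear map out of a tensor product can be checked on pure tensors -/
theorem piTensor_map_mul {E : Type*} [Ring E] [Algebra k E]
    (f : (⨂[k] i, F i) →ₗ[k] E)
    (h : ∀ x y : Π i, F i, f (tprod k x * tprod k y) = f (tprod k x) * f (tprod k y))
    (x y : ⨂[k] i, F i) : f (x * y) = f x * f y := by
  induction x using PiTensorProduct.induction_on with
  | smul_tprod r x =>
    induction y using PiTensorProduct.induction_on with
    | smul_tprod s y =>
      rw [smul_mul_smul_comm, map_smul, map_smul, map_smul, h, smul_mul_smul_comm]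
    | add y z hy hz => rw [mul_add, map_add, map_add, mul_add, hy, hz]
  | add x z hx hz => rw [add_mul, map_add, map_add, add_mul, hx, hz]

/-- the empty tensor product is the base ring -/
noncomputable def piEmptyEquiv [IsEmpty ι] : (⨂[k] i, F i) ≃ₐ[k] k :=
  AlgEquiv.ofLinearEquiv (isEmptyEquiv ι)
    (by rw [PiTensorProduct.one_def, isEmptyEquiv_apply_tprod])
    (by
      apply piTensor_map_mul
      intro x y
      simp [tprod_mul_tprod])

variable [DecidableEq ι]

/-- splitting off one factor of a tensor product of algebras -/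
noncomputable def piSplit (i₀ : ι) :
    (⨂[k] i, F i) ≃ₐ[k] (⨂[k] (i : ({i₀}ᶜ : Set ι)), F i) ⊗[k] F i₀ :=
  AlgEquiv.ofLinearEquiv (equivPiTensorComplSingletonTensor k F i₀)
    (by
      rw [PiTensorProduct.one_def, equivPiTensorComplSingletonTensor_tprod,
        Algebra.TensorProduct.one_def, PiTensorProduct.one_def]
      rfl)
    (by
      apply piTensor_map_mul
      intro x y
      simp only [LinearEquiv.coe_coe]
      rw [tprod_mul_tprod, equivPiTensorComplSingletonTensor_tprod,
        equivPiTensorComplSingletonTensor_tprod, equivPiTensorComplSingletonTensor_tprod,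
        Algebra.TensorProduct.tmul_mul_tmul, tprod_mul_tprod]
      rfl)

end PiSplit

section power
variable {A : Type u} [CommRing A] {B : Type u} [CommRing B] [Algebra A B]
variable {K : Type u} [Field K] [Algebra A K]

/-- tensor powers of a "fieldwise reduced" algebra stay reduced after reduced base change -/
theorem isReduced_tensor_piTensor
    (hred : ∀ (L : Type u) [Field L] [Algebra A L], IsReduced (L ⊗[A] B)) :
    ∀ (n : ℕ) (ι : Type) [Fintype ι] [DecidableEq ι], Fintype.card ι = n →
      ∀ (R : Type u) [CommRing R] [Algebra K R] [Algebra A R] [IsScalarTower A K R] [IsReduced R],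
        IsReduced (R ⊗[A] (⨂[A] _ : ι, B)) := by
  classical
  intro n
  induction n with
  | zero =>
    intro ι _ _ hι R _ _ _ _ _
    haveI : IsEmpty ι := Fintype.card_eq_zero_iff.mp hι
    let e1 : R ⊗[A] (⨂[A] _ : ι, B) ≃ₐ[A] R ⊗[A] A :=
      Algebra.TensorProduct.congr (AlgEquiv.refl (R := A) (A₁ := R)) (piEmptyEquiv A (fun _ : ι => B))
    let e2 : R ⊗[A] A ≃ₐ[A] R := Algebra.TensorProduct.rid A A R
    exact isReduced_of_injective (e1.trans e2).toRingEquiv.toRingHom (e1.trans e2).injective
  | succ n ih =>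
    intro ι _ _ hι R _ _ _ _ _
    have hne : Nonempty ι := by
      rw [← Fintype.card_pos_iff, hι]
      exact Nat.succ_pos n
    obtain ⟨i₀⟩ := hne
    have hcard : Fintype.card ↥({i₀}ᶜ : Set ι) = n := by
      rw [Fintype.card_compl_set, hι]
      simp
    haveI hR' : IsReduced (R ⊗[A] (⨂[A] _ : ↥({i₀}ᶜ : Set ι), B)) :=
      ih ↥({i₀}ᶜ : Set ι) hcard R
    haveI := isReduced_tensor_of_fieldwise (K := K) hred (R ⊗[A] (⨂[A] _ : ↥({i₀}ᶜ : Set ι), B))
    let e1 : R ⊗[A] (⨂[A] _ : ι, B) ≃ₐ[A] R ⊗[A] ((⨂[A] _ : ↥({i₀}ᶜ : Set ι), B) ⊗[A] B) :=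
      Algebra.TensorProduct.congr (AlgEquiv.refl (R := A) (A₁ := R)) (piSplit A (fun _ : ι => B) i₀)
    let e2 : R ⊗[A] ((⨂[A] _ : ↥({i₀}ᶜ : Set ι), B) ⊗[A] B) ≃ₐ[A]
        (R ⊗[A] (⨂[A] _ : ↥({i₀}ᶜ : Set ι), B)) ⊗[A] B :=
      (Algebra.TensorProduct.assoc A A A R (⨂[A] _ : ↥({i₀}ᶜ : Set ι), B) B).symm
    exact isReduced_of_injective (e1.trans e2).toRingEquiv.toRingHom (e1.trans e2).injective

end power

end Groth.Agent.Lib.T2H8.GammaRed
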