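import Mathlib
import Groth.Agent.Lib.Helper14FlatStage2
import Groth.Agent.Lib.Helper14TSFree

/-!
# Purity of symmetric tensors inside the tensor power of a flat module (helper8)
-/

set_option autoImplicit false
universe u
open scoped TensorProduct

namespace Groth.Agent.Lib.T2H8.GammaRed
open Groth.Agent.Lib.Helper14.FlatStage Groth.Agent.Lib.Helper14.TSFree

section flatT
variable {A : Type u} [CommRing A] (M : Type u) [AddCommGroup M] [Module A M] [Module.Flat A M]

/-- tensor powers of a flat module are flat -/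
theorem flat_piTensor : ∀ (n : ℕ) (ι : Type) [Fintype ι] [DecidableEq ι], Fintype.card ι = n →
    Module.Flat A (⨂[A] _ : ι, M) := by
  classical
  intro n
  induction n with
  | zero =>
    intro ι _ _ hι
    haveI : IsEmpty ι := Fintype.card_eq_zero_iff.mp hι
    exact Module.Flat.of_linearEquiv (PiTensorProduct.isEmptyEquiv ι)
  | succ n ih =>
    intro ι _ _ hι
    have hne : Nonempty ι := by
      rw [← Fintype.card_pos_iff, hι]
      exact Nat.succ_pos n
    obtain ⟨i₀⟩ := hne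
    have hcard : Fintype.card ↥({i₀}ᶜ : Set ι) = n := by
      rw [Fintype.card_compl_set, hι]
      simp
    haveI := ih ↥({i₀}ᶜ : Set ι) hcard
    exact Module.Flat.of_linearEquiv
      (PiTensorProduct.equivPiTensorComplSingletonTensor A (fun _ : ι => M) i₀)

end flatT

section TSm
variable (A : Type u) [CommRing A] (M : Type u) [AddCommGroup M] [Module A M] (d : ℕ)

/-- symmetric tensors of a module -/
def TSm : Submodule A (⨂[A] _ : Fin d, M) where
  carrier := {t | ∀ σ : Equiv.Perm (Fin d),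
    PiTensorProduct.reindex A (fun _ : Fin d => M) σ t = t}
  add_mem' {x y} hx hy σ := by rw [map_add, hx σ, hy σ]
  zero_mem' σ := map_zero _
  smul_mem' a {x} hx σ := by rw [map_smul, hx σ]

variable {A M}

lemma mem_TSm_iff (t : ⨂[A] _ : Fin d, M) :
    t ∈ TSm A M d ↔ ∀ σ : Equiv.Perm (Fin d),
      PiTensorProduct.reindex A (fun _ : Fin d => M) σ t = t := Iff.rfl

/-- functoriality of symmetric tensors in linear maps -/
noncomputable def TSmMap {M' : Type u} [AddCommGroup M'] [Module A M'] (f : M →ₗ[A] M') :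
    TSm A M d →ₗ[A] TSm A M' d :=
  ((Tmap d f) ∘ₗ (TSm A M d).subtype).codRestrict (TSm A M' d) (fun t σ => by
    rw [LinearMap.comp_apply, Submodule.subtype_apply, ← Tmap_reindex, t.2 σ])

lemma TSmMap_coe {M' : Type u} [AddCommGroup M'] [Module A M'] (f : M →ₗ[A] M')
    (t : TSm A M d) : ((TSmMap d f t : TSm A M' d) : ⨂[A] _ : Fin d, M') = Tmap d f t.1 := rfl

variable (A)

/-- the value of the retraction on a basis vector -/
noncomputable def retrVal (m : ℕ) (c : Fin d → Fin m) : TSm A (Fin m → A) d :=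
  if c = rep d m c then ⟨symT A d m (type c), fun σ => reindex_symT A d m σ _⟩ else 0

/-- a retraction of the tensor power of a finite free module onto its symmetric tensors -/
noncomputable def retr (m : ℕ) : (⨂[A] _ : Fin d, (Fin m → A)) →ₗ[A] TSm A (Fin m → A) d :=
  (bTb A d m).constr A (retrVal A d m)

lemma retr_of_mem (m : ℕ) (z : ⨂[A] _ : Fin d, (Fin m → A)) (hz : z ∈ TSm A (Fin m → A) d) :
    retr A d m z = ⟨z, hz⟩ := by
  classical
  apply Subtype.ext
  rw [retr, Module.Basis.constr_apply_fintype]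
  show ((∑ c, (bTb A d m).equivFun z c • retrVal A d m c : TSm A (Fin m → A) d) :
    ⨂[A] _ : Fin d, (Fin m → A)) = z
  conv_rhs => rw [symm_decomp A d m hz]
  rw [Submodule.coe_sum]
  refine Finset.sum_congr rfl (fun c _ => ?_)
  rw [Submodule.coe_smul, retrVal]
  by_cases h : c = rep d m c
  · rw [if_pos h, if_pos h]
    rfl
  · rw [if_neg h, if_neg h, zero_smul]
    simp

end TSm

section purity
variable {A : Type u} [CommRing A] {M : Type u} [AddCommGroup M] [Module A M] (d : ℕ)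

/-- basis expansion of a finite sum of pure tensors -/
lemma sum_tmul_eq_sum_basis {N' : Type*} [AddCommGroup N'] [Module A N'] (m : ℕ)
    {ι : Type*} (S : Finset ι) (n : ι → N') (z : ι → ⨂[A] _ : Fin d, (Fin m → A)) :
    ∑ p ∈ S, n p ⊗ₜ[A] z p =
      ∑ c : Fin d → Fin m, (∑ p ∈ S, (bTb A d m).repr (z p) c • n p) ⊗ₜ[A] bTb A d m c := by
  classical
  have h1 : ∀ p, n p ⊗ₜ[A] z p =
      ∑ c : Fin d → Fin m, ((bTb A d m).repr (z p) c • n p) ⊗ₜ[A] bTb A d m c := by
    intro p
    conv_lhs => rw [← (bTb A d m).sum_repr (z p), TensorProduct.tmul_sum]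
    refine Finset.sum_congr rfl (fun c _ => ?_)
    rw [TensorProduct.tmul_smul, TensorProduct.smul_tmul']
  simp_rw [h1, TensorProduct.sum_tmul]
  rw [Finset.sum_comm]

variable [Module.Flat A M]

/-- symmetric tensors of a flat module form a pure submodule of the tensor power -/
theorem lTensor_TSm_injective (N' : Type*) [AddCommGroup N'] [Module A N'] :
    Function.Injective (LinearMap.lTensor N' (TSm A M d).subtype) := by
  classical
  rw [injective_iff_map_eq_zero]
  intro Z hZ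
  obtain ⟨S, rfl⟩ := TensorProduct.exists_finset Z
  -- step 1: symmetric lifts to a finite free stage
  obtain ⟨m, u, z, hz⟩ := exists_symm_rep_family_fin d S
    (fun p : N' × TSm A M d => (p.2 : ⨂[A] _ : Fin d, M)) (fun p _ σ => p.2.2 σ)
  set κ : (Fin d → Fin m) → N' := fun c => ∑ p ∈ S, (bTb A d m).repr (z p) c • p.1 with hκ
  have hW : ∑ p ∈ S, p.1 ⊗ₜ[A] z p = ∑ c : Fin d → Fin m, κ c ⊗ₜ[A] bTb A d m c :=
    sum_tmul_eq_sum_basis d m S (fun p => p.1) z
  have hvan : ∑ c : Fin d → Fin m, κ c ⊗ₜ[A] Tmap d u (bTb A d m c) =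
      (0 : N' ⊗[A] (⨂[A] _ : Fin d, M)) := by
    have h1 := congrArg (LinearMap.lTensor N' (Tmap d u)) hW
    simp only [map_sum, LinearMap.lTensor_tmul] at h1
    rw [← h1, ← hZ, map_sum]
    refine Finset.sum_congr rfl (fun p hp => ?_)
    rw [LinearMap.lTensor_tmul, (hz p hp).2]
    rfl
  -- step 3: the relation vanishes trivially since `T^d(M)` is flat
  haveI hTflat : Module.Flat A (⨂[A] _ : Fin d, M) :=
    flat_piTensor M d (Fin d) (Fintype.card_fin d)
  obtain ⟨k, a, y, hy, ha⟩ :=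
    TensorProduct.vanishesTrivially_of_sum_tmul_eq_zero_of_rTensor_injective A
      (Module.Flat.rTensor_preserves_injective_linearMap _ (Submodule.injective_subtype _)) hvan
  have hy' : ∀ c, Tmap d u (bTb A d m c) = ∑ j, a c j • y j := fun c => hy c
  -- step 4: lift the `y j`
  obtain ⟨κ', _, _, u', yt, hyt⟩ := exists_rep_family d (Finset.univ : Finset (Fin k)) y
  set w : (Fin d → Fin m) → ⨂[A] _ : Fin d, (Fin m ⊕ κ' → A) := fun c =>
    Tmap d (sumInl (A := A) (Fin m) κ') (bTb A d m c) -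
      ∑ j, a c j • Tmap d (sumInr (A := A) (Fin m) κ') (yt j) with hwdef
  have hw : ∀ c ∈ (Finset.univ : Finset (Fin d → Fin m)), Tmap d (sumMap u u') (w c) = 0 := by
    intro c _
    simp only [hwdef, map_sub, map_sum, map_smul]
    rw [← Tmap_comp, sumMap_comp_sumInl, hy' c, sub_eq_zero]
    refine Finset.sum_congr rfl (fun j _ => ?_)
    rw [← Tmap_comp, sumMap_comp_sumInr, hyt j (Finset.mem_univ j)]
  -- step 5: factor through a further stage killing the `w c`
  obtain ⟨κ'', _, _, a₀, y₀, hy₀, ha₀⟩ :=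
    exists_factor_of_forall_map_eq_zero d Finset.univ (sumMap u u') w hw
  let e : κ'' ≃ Fin (Fintype.card κ'') := Fintype.equivFin κ''
  let L : (Fin (Fintype.card κ'') → A) ≃ₗ[A] (κ'' → A) := LinearEquiv.funCongrLeft A A e
  let a₁ : (Fin m ⊕ κ' → A) →ₗ[A] (Fin (Fintype.card κ'') → A) := L.symm.toLinearMap ∘ₗ a₀
  let y₁ : (Fin (Fintype.card κ'') → A) →ₗ[A] M := y₀ ∘ₗ L.toLinearMap
  have hy₁ : y₁ ∘ₗ a₁ = sumMap u u' := by
    rw [← hy₀]
    ext x
    simp [y₁, a₁]
  have ha₁ : ∀ c, Tmap d a₁ (w c) = 0 := fun c => by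
    rw [Tmap_comp, ha₀ c (Finset.mem_univ c), map_zero]
  -- step 6
  let α : (Fin m → A) →ₗ[A] (Fin (Fintype.card κ'') → A) := a₁ ∘ₗ sumInl (A := A) (Fin m) κ'
  have hα : y₁ ∘ₗ α = u := by
    rw [← LinearMap.comp_assoc, hy₁, sumMap_comp_sumInl]
  let v : Fin k → ⨂[A] _ : Fin d, (Fin (Fintype.card κ'') → A) := fun j =>
    Tmap d (a₁ ∘ₗ sumInr (A := A) (Fin m) κ') (yt j)
  have hαe : ∀ c, Tmap d α (bTb A d m c) = ∑ j, a c j • v j := by
    intro c
    have h := ha₁ c
    simp only [hwdef, map_sub, map_sum, map_smul] at h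
    rw [sub_eq_zero] at h
    have h0 : Tmap d α (bTb A d m c) =
        Tmap d a₁ (Tmap d (sumInl (A := A) (Fin m) κ') (bTb A d m c)) :=
      Tmap_comp d a₁ (sumInl (A := A) (Fin m) κ') _
    rw [h0, h]
    refine Finset.sum_congr rfl (fun j _ => ?_)
    exact congrArg _ (Tmap_comp d a₁ (sumInr (A := A) (Fin m) κ') (yt j)).symm
  -- step 7
  have h7 : ∑ p ∈ S, p.1 ⊗ₜ[A] Tmap d α (z p) =
      (0 : N' ⊗[A] (⨂[A] _ : Fin d, (Fin (Fintype.card κ'') → A))) := by
    have h1 := congrArg (LinearMap.lTensor N' (Tmap d α)) hW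
    simp only [map_sum, LinearMap.lTensor_tmul] at h1
    rw [h1]
    simp_rw [hαe, TensorProduct.tmul_sum, TensorProduct.tmul_smul, TensorProduct.smul_tmul']
    rw [Finset.sum_comm]
    simp_rw [← TensorProduct.sum_tmul, ha, TensorProduct.zero_tmul, Finset.sum_const_zero]
  -- step 8
  have hsym : ∀ p ∈ S, Tmap d α (z p) ∈ TSm A (Fin (Fintype.card κ'') → A) d := fun p hp σ => by
    rw [← Tmap_reindex, (hz p hp).1 σ]
  have h8 : ∑ p ∈ S.attach, p.1.1 ⊗ₜ[A]
      (⟨Tmap d α (z p.1), hsym p.1 p.2⟩ : TSm A (Fin (Fintype.card κ'') → A) d) = 0 := by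
    have h1 := congrArg (LinearMap.lTensor N' (retr A d (Fintype.card κ''))) h7
    rw [map_zero, map_sum, ← Finset.sum_attach] at h1
    rw [← h1]
    refine Finset.sum_congr rfl (fun p _ => ?_)
    rw [LinearMap.lTensor_tmul, retr_of_mem A d (Fintype.card κ'') _ (hsym p.1 p.2)]
  -- step 9
  have h9 : ∑ p ∈ S, p.1 ⊗ₜ[A] p.2 = LinearMap.lTensor N' (TSmMap d y₁)
      (∑ p ∈ S.attach, p.1.1 ⊗ₜ[A]
        (⟨Tmap d α (z p.1), hsym p.1 p.2⟩ : TSm A (Fin (Fintype.card κ'') → A) d)) := by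
    rw [map_sum, ← Finset.sum_attach]
    refine Finset.sum_congr rfl (fun p _ => ?_)
    rw [LinearMap.lTensor_tmul]
    congr 1
    apply Subtype.ext
    rw [TSmMap_coe]
    show p.1.2.1 = Tmap d y₁ (Tmap d α (z p.1))
    rw [← Tmap_comp, hα, (hz p.1 p.2).2]
  rw [h9, h8, map_zero]

end purity

end Groth.Agent.Lib.T2H8.GammaRed
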