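import Mathlib
import Groth.Agent.Lib.Helper14TSGamma5
import Groth.Agent.Lib.T2H8GammaRedA
import Groth.Agent.Lib.T2H8GammaRedB

/-!
# Geometric reducedness of the fibres of `Γ^d_A(B)` for flat `B` (helper8)
-/

set_option autoImplicit false
universe u
open scoped TensorProduct

namespace Groth.Agent.Lib.T2H8.GammaRed

variable {A : Type u} [CommRing A] {B : Type u} [CommRing B] [Algebra A B]
  {C : Type u} [CommRing C] [Algebra A C] {d : ℕ}

/-- for flat `B`, `Γ^d_A(B)` is a retract of (in fact isomorphic to) `TS^d_A(B)` -/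
theorem exists_retract_TS (γ : PolLaw.MulLaw A B C d) (hγ : PolLaw.IsGammaD γ) [Module.Flat A B] :
    ∃ (f : C →ₐ[A] SymTen.TS A B d) (g : SymTen.TS A B d →ₐ[A] C), g.comp f = AlgHom.id A C := by
  have hτ := Groth.Agent.Lib.Helper14.TSGamma.isGammaD_tau_flat (A := A) (B := B) d
  obtain ⟨f, hf, -⟩ := hγ _ (Groth.Agent.Lib.Helper14.TSGamma.tau (A := A) (B := B) d)
  obtain ⟨g, hg, -⟩ := hτ C γ
  have h1 : PolLaw.postcomp (g.comp f).toLinearMap γ.law = γ.law := by
    ext S _ _ t
    show (g.comp f).toLinearMap.lTensor S (γ.law.toFun' S t) = _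
    rw [AlgHom.comp_toLinearMap, LinearMap.lTensor_comp, LinearMap.comp_apply]
    have h2 : f.toLinearMap.lTensor S (γ.law.toFun' S t) =
        (Groth.Agent.Lib.Helper14.TSGamma.tau (A := A) (B := B) d).law.toFun' S t := by
      rw [← hf]
      rfl
    rw [h2, ← hg]
    rfl
  have h3 : PolLaw.postcomp (AlgHom.id A C).toLinearMap γ.law = γ.law := by
    ext S _ _ t
    show (AlgHom.id A C).toLinearMap.lTensor S (γ.law.toFun' S t) = _
    simp
  exact ⟨f, g, (hγ C γ).unique h1 h3⟩

/-- the symmetric tensors as a subalgebra and as a submodule -/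
noncomputable def TSequiv (A : Type u) [CommRing A] (B : Type u) [CommRing B] [Algebra A B]
    (d : ℕ) : ↥(SymTen.TS A B d) ≃ₗ[A] ↥(TSm A B d) where
  toFun x := ⟨x.1, x.2⟩
  invFun x := ⟨x.1, x.2⟩
  map_add' _ _ := rfl
  map_smul' _ _ := rfl
  left_inv _ := rfl
  right_inv _ := rfl

theorem main (γ : PolLaw.MulLaw A B C d) (hγ : PolLaw.IsGammaD γ) [Module.Flat A B]
    (hred : ∀ (K : Type u) [Field K] [Algebra A K], IsReduced (K ⊗[A] B))
    (K : Type u) [Field K] [Algebra A K] : IsReduced (K ⊗[A] C) := by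
  obtain ⟨f, g, hgf⟩ := exists_retract_TS γ hγ
  let φ : K ⊗[A] C →ₐ[K] K ⊗[A] ↥(SymTen.TS A B d) :=
    Algebra.TensorProduct.map (AlgHom.id K K) f
  let ψ : K ⊗[A] ↥(SymTen.TS A B d) →ₐ[K] K ⊗[A] C :=
    Algebra.TensorProduct.map (AlgHom.id K K) g
  have hψφ : ψ.comp φ = AlgHom.id K (K ⊗[A] C) := by
    rw [← Algebra.TensorProduct.map_comp, hgf, AlgHom.comp_id, Algebra.TensorProduct.map_id]
  have hφ : Function.Injective φ := by
    intro x y hxy
    have := congrArg ψ hxy
    rwa [← AlgHom.comp_apply, ← AlgHom.comp_apply, hψφ] at this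
  let ι : K ⊗[A] ↥(SymTen.TS A B d) →ₐ[K] K ⊗[A] (⨂[A] _ : Fin d, B) :=
    Algebra.TensorProduct.map (AlgHom.id K K) (SymTen.TS A B d).val
  have hι : Function.Injective ι := by
    have h1 : (ι : K ⊗[A] ↥(SymTen.TS A B d) → K ⊗[A] (⨂[A] _ : Fin d, B)) =
        (LinearMap.lTensor K (TSm A B d).subtype) ∘
          (LinearMap.lTensor K (TSequiv A B d).toLinearMap) := by
      funext x
      induction x using TensorProduct.induction_on with
      | zero => simp
      | tmul k t => rfl
      | add x y hx hy =>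
        rw [map_add, hx, hy]
        simp only [Function.comp_apply, map_add]
    rw [h1]
    refine (lTensor_TSm_injective d K).comp ?_
    exact (TensorProduct.congr (LinearEquiv.refl A K) (TSequiv A B d)).injective
  haveI : IsReduced (K ⊗[A] (⨂[A] _ : Fin d, B)) :=
    isReduced_tensor_piTensor (K := K) hred d (Fin d) (Fintype.card_fin d) K
  exact isReduced_of_injective (ι.comp φ) (hι.comp hφ)

end Groth.Agent.Lib.T2H8.GammaRed
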