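import Mathlib
import Groth.Agent.Lib.Helper28ComplIso
import Groth.Agent.Lib.Helper19GRLoc

/-!
# Generic formal fibres of finite extensions of regular rings in characteristic zero (S4602), part 1:
abstract lemmas
-/

set_option autoImplicit false
universe u

namespace Groth.Agent.Lib.T2H8.GenFF

open IsLocalRing

section Unram

variable {C W D B R : Type*} [CommRing C] [CommRing W] [CommRing D] [CommRing B] [CommRing R]
  [IsLocalRing C] [IsLocalRing W]

/-- `W` is a localization of `D`, `D` is generated by the images of `B` and `R`, the image of `B`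
comes from `C` and the image of `R` comes from `C` modulo `𝔪_C W`: then `𝔪_C W = 𝔪_W` and the residue
field extension is trivial. -/
theorem unramified_of_generated (κ : C →+* W) [IsLocalHom κ] (μ : D →+* W)
    (hloc : ∀ w : W, ∃ d t : D, IsUnit (μ t) ∧ w * μ t = μ d)
    (β : B →+* D) (ρ : R →+* D)
    (hgen : ∀ (P : D → Prop), P 0 → (∀ b z, P (β b * ρ z)) → (∀ x y, P x → P y → P (x + y)) →
      ∀ d, P d)
    (hβ : ∀ b, ∃ c, μ (β b) = κ c)
    (hρ : ∀ z, ∃ c, μ (ρ z) - κ c ∈ (maximalIdeal C).map κ) :
    (maximalIdeal C).map κ = maximalIdeal W ∧ ∀ w, ∃ c, w - κ c ∈ maximalIdeal W := by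
  have hle : (maximalIdeal C).map κ ≤ maximalIdeal W :=
    ((IsLocalRing.local_hom_TFAE κ).out 0 2).mp (inferInstance : IsLocalHom κ)
  -- step 1
  have h1 : ∀ d : D, ∃ c, μ d - κ c ∈ (maximalIdeal C).map κ := by
    apply hgen
    · exact ⟨0, by simp⟩
    · intro b z
      obtain ⟨cb, hcb⟩ := hβ b
      obtain ⟨cz, hcz⟩ := hρ z
      refine ⟨cb * cz, ?_⟩
      have : μ (β b * ρ z) - κ (cb * cz) = κ cb * (μ (ρ z) - κ cz) := by
        rw [map_mul, map_mul, hcb]; ring
      rw [this]
      exact Ideal.mul_mem_left _ _ hcz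
    · rintro x y ⟨cx, hx⟩ ⟨cy, hy⟩
      refine ⟨cx + cy, ?_⟩
      have : μ (x + y) - κ (cx + cy) = (μ x - κ cx) + (μ y - κ cy) := by
        rw [map_add, map_add]; ring
      rw [this]
      exact add_mem hx hy
  -- step 2
  have h2 : ∀ w : W, ∃ c, w - κ c ∈ (maximalIdeal C).map κ := by
    intro w
    obtain ⟨d, t, ht, hw⟩ := hloc w
    obtain ⟨cd, hcd⟩ := h1 d
    obtain ⟨ct, hct⟩ := h1 t
    have hκct : IsUnit (κ ct) := by
      by_contra hnu
      have h3 : κ ct ∈ maximalIdeal W := (mem_maximalIdeal _).mpr hnu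
      have h4 : μ t ∈ maximalIdeal W := by
        have := add_mem (hle hct) h3
        rwa [sub_add_cancel] at this
      exact (mem_maximalIdeal _).mp h4 ht
    have hct' : IsUnit ct := isUnit_of_map_unit κ ct hκct
    obtain ⟨u, rfl⟩ := hct'
    refine ⟨cd * ((u⁻¹ : Cˣ) : C), ?_⟩
    have key : (w - κ (cd * ((u⁻¹ : Cˣ) : C))) * μ t =
        (μ d - κ cd) - κ (cd * ((u⁻¹ : Cˣ) : C)) * (μ t - κ (u : C)) := by
      have e1 : κ (cd * ((u⁻¹ : Cˣ) : C)) * κ (u : C) = κ cd := by
        rw [← map_mul, mul_assoc, Units.inv_mul, mul_one]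
      have e2 : (w - κ (cd * ((u⁻¹ : Cˣ) : C))) * μ t =
          w * μ t - κ (cd * ((u⁻¹ : Cˣ) : C)) * μ t := by ring
      rw [e2, hw]
      have e3 : κ (cd * ((u⁻¹ : Cˣ) : C)) * (μ t - κ (u : C)) =
          κ (cd * ((u⁻¹ : Cˣ) : C)) * μ t - κ cd := by
        rw [mul_sub, e1]
      rw [e3]; ring
    have hmem : (w - κ (cd * ((u⁻¹ : Cˣ) : C))) * μ t ∈ (maximalIdeal C).map κ := by
      rw [key]
      exact sub_mem hcd (Ideal.mul_mem_left _ _ hct)
    exact (Ideal.mul_unit_mem_iff_mem _ ht).mp hmem
  refine ⟨le_antisymm hle ?_, fun w => ?_⟩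
  · intro w hw
    obtain ⟨c, hc⟩ := h2 w
    have h3 : κ c ∈ maximalIdeal W := by
      have := sub_mem hw (hle hc)
      rwa [sub_sub_cancel] at this
    have h4 : c ∈ maximalIdeal C := by
      rw [mem_maximalIdeal, mem_nonunits_iff]
      intro hu
      exact (mem_maximalIdeal _).mp h3 (hu.map κ)
    have := add_mem hc (Ideal.mem_map_of_mem κ h4)
    rwa [sub_add_cancel] at this
  · obtain ⟨c, hc⟩ := h2 w
    exact ⟨c, hle hc⟩

end Unram

section RegLoc

/-- If a localization `T` of `D` is a regular ring, then `D` is regular at every prime disjoint from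
the multiplicative set. -/
theorem isRegularLocalRing_localization_of_disjoint {D T : Type u} [CommRing D] [CommRing T]
    [Algebra D T] (M : Submonoid D) [IsLocalization M T] [IsRegularRing T]
    (Q : Ideal D) [hQ : Q.IsPrime] (hd : Disjoint (M : Set D) (Q : Set D)) :
    IsRegularLocalRing (Localization.AtPrime Q) := by
  have hQ'' : (Q.map (algebraMap D T)).IsPrime :=
    IsLocalization.isPrime_of_isPrime_disjoint M T Q hQ hd
  have hcomap : (Q.map (algebraMap D T)).comap (algebraMap D T) = Q :=
    IsLocalization.comap_map_of_isPrime_disjoint M T hQ hd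
  have h1 : IsLocalization.AtPrime (Localization.AtPrime (Q.map (algebraMap D T)))
      ((Q.map (algebraMap D T)).comap (algebraMap D T)) :=
    IsLocalization.isLocalization_isLocalization_atPrime_isLocalization M
      (Localization.AtPrime (Q.map (algebraMap D T))) (Q.map (algebraMap D T))
  have key : ∀ (P : Ideal D) [P.IsPrime], P = Q →
      IsLocalization.AtPrime (Localization.AtPrime (Q.map (algebraMap D T))) P →
      IsLocalization.AtPrime (Localization.AtPrime (Q.map (algebraMap D T))) Q := by
    rintro P _ rfl h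
    exact h
  have h2 := key _ hcomap h1
  exact IsRegularLocalRing.of_ringEquiv (IsLocalization.algEquiv Q.primeCompl
    (Localization.AtPrime (Q.map (algebraMap D T))) (Localization.AtPrime Q)).toRingEquiv

/-- transport of regularity of a localization along a ring isomorphism -/
theorem isRegularLocalRing_localization_of_ringEquiv {S T : Type u} [CommRing S] [CommRing T]
    (ε : S ≃+* T) (q : Ideal S) [q.IsPrime] (Q : Ideal T) [Q.IsPrime]
    (hQ : Q.comap (ε : S →+* T) = q) (hreg : IsRegularLocalRing (Localization.AtPrime Q)) :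
    IsRegularLocalRing (Localization.AtPrime q) := by
  have hmap : q.primeCompl.map (ε : S →* T) = Q.primeCompl := by
    ext y
    constructor
    · rintro ⟨x, hx, rfl⟩
      intro hy
      apply hx
      rw [← hQ]
      exact hy
    · intro hy
      refine ⟨ε.symm y, ?_, by simp⟩
      change ε.symm y ∈ q.primeCompl
      rw [Ideal.mem_primeCompl_iff, ← hQ, Ideal.mem_comap]
      simpa using hy
  let f : Localization.AtPrime q ≃+* Localization.AtPrime Q :=
    IsLocalization.ringEquivOfRingEquiv (Localization.AtPrime q) (Localization.AtPrime Q) ε hmap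
  exact IsRegularLocalRing.of_ringEquiv f.symm

end RegLoc

section ComplIso

/-- A flat local homomorphism `C → W` to a complete local ring with `𝔪_C W = 𝔪_W` and trivial residue
field extension identifies `W` with the completion of `C`. -/
theorem exists_ringEquiv_cpl_of_complete (C W : Type u) [CommRing C] [CommRing W]
    [IsNoetherianRing C] [IsNoetherianRing W] [IsLocalRing C] [IsLocalRing W] [Algebra C W]
    [IsLocalHom (algebraMap C W)] [Module.Flat C W] [IsAdicComplete (maximalIdeal W) W]
    (h1 : (maximalIdeal C).map (algebraMap C W) = maximalIdeal W)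
    (h2 : ∀ w : W, ∃ c : C, w - algebraMap C W c ∈ maximalIdeal W) :
    ∃ ε : AdicCompletion (maximalIdeal C) C ≃+* W,
      ∀ c : C, ε (algebraMap C (AdicCompletion (maximalIdeal C) C) c) = algebraMap C W c := by
  obtain ⟨e, he⟩ :=
    Groth.Agent.Lib.Helper28.exists_ringEquiv_adicCompletion_of_flat_of_map_maximalIdeal C W h1 h2
  let o : W ≃ₐ[W] AdicCompletion (maximalIdeal W) W := AdicCompletion.ofAlgEquiv (maximalIdeal W)
  refine ⟨e.trans o.symm.toRingEquiv, fun c => ?_⟩
  show o.symm (e (algebraMap C _ c)) = algebraMap C W c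
  rw [he, o.symm.commutes]
  rfl

end ComplIso

end Groth.Agent.Lib.T2H8.GenFF
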