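import Mathlib
import Groth.Agent.Lib.T2H8GenFF
import Groth.Agent.Lib.Helper18ComplProd
import Groth.Agent.Lib.Helper7PsCoreGen
import Groth.Agent.Lib.Helper7PsSepStep
import Groth.Agent.Lib.Helper6SepBC
import Groth.Agent.Lib.Helper19FSFlat
import Groth.Agent.Lib.Helper7FracLoc
import Groth.Agent.Lib.Helper7Reg751b
import Groth.Agent.Lib.Helper28ComplFlatLocal
import Groth.Agent.Lib.Helper19ComplNoeth

/-!
# Generic formal fibres of finite extensions of regular rings in characteristic zero (S4602), part 2
-/

set_option autoImplicit false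
universe u

namespace Groth.Agent.Lib.T2H8.GenFFMain

open IsLocalRing TensorProduct

section LemP

/-- plumbing for `A_P → B_Q` -/
theorem localization_liesOver_facts {A B : Type u} [CommRing A] [CommRing B] [Algebra A B]
    (P : Ideal A) [P.IsPrime] (Q : Ideal B) [Q.IsPrime] [Q.LiesOver P] :
    letI := Localization.AtPrime.algebraOfLiesOver P Q
    IsLocalHom (algebraMap (Localization.AtPrime P) (Localization.AtPrime Q)) ∧
    IsScalarTower A (Localization.AtPrime P) (Localization.AtPrime Q) ∧
    (Module.Flat A B → Module.Flat (Localization.AtPrime P) (Localization.AtPrime Q)) := by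
  letI alg := Localization.AtPrime.algebraOfLiesOver P Q
  refine ⟨?_, inferInstance, fun hfl => ?_⟩
  · rw [RingHom.algebraMap_toAlgebra]
    exact Localization.isLocalHom_localRingHom P Q (algebraMap A B) Ideal.LiesOver.over
  · have hflatB : Module.Flat B (Localization.AtPrime Q) := IsLocalization.flat _ Q.primeCompl
    have hflatA : Module.Flat A (Localization.AtPrime Q) := Module.Flat.trans A B _
    exact (Module.flat_iff_of_isLocalization (Localization.AtPrime P) P.primeCompl _).mpr hflatA

end LemP

section S1

variable {A B : Type u} [CommRing A] [IsDomain A] [IsRegularRing A] [CharZero A] [CommRing B]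
  [IsDomain B] [Algebra A B] [Module.Finite A B]

/-- `Frac(B) ⊗_A (A_p)^` is a regular ring -/
theorem isRegularRing_fractionRing_tensor_cpl (hinj : Function.Injective (algebraMap A B))
    (p : Ideal A) [p.IsPrime] :
    IsRegularRing (FractionRing B ⊗[A] EGA4.Cpl (Localization.AtPrime p)) := by
  haveI : IsFractionRing A (⊥ : Ideal (Localization.AtPrime p)).ResidueField :=
    Groth.Agent.Lib.Helper7.FracLoc.isFractionRing_of_isLocalization A
      (Localization.AtPrime p) _ p.primeCompl
  haveI : CharZero (⊥ : Ideal (Localization.AtPrime p)).ResidueField :=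
    charZero_of_injective_algebraMap
      (IsFractionRing.injective A (⊥ : Ideal (Localization.AtPrime p)).ResidueField)
  have hinjL : Function.Injective (algebraMap A (FractionRing B)) := by
    rw [IsScalarTower.algebraMap_eq A B (FractionRing B)]
    exact (IsFractionRing.injective B (FractionRing B)).comp hinj
  letI : Algebra (⊥ : Ideal (Localization.AtPrime p)).ResidueField (FractionRing B) :=
    (IsFractionRing.lift hinjL).toAlgebra
  haveI : IsScalarTower A (⊥ : Ideal (Localization.AtPrime p)).ResidueField (FractionRing B) :=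
    .of_algebraMap_eq (fun a => (IsFractionRing.lift_algebraMap hinjL a).symm)
  haveI : FaithfulSMul A B := (faithfulSMul_iff_algebraMap_injective A B).mpr hinj
  haveI : Algebra.IsIntegral A B := Algebra.IsIntegral.of_finite A B
  haveI : Algebra.IsAlgebraic A B := Algebra.IsIntegral.isAlgebraic
  haveI : IsLocalization (Algebra.algebraMapSubmonoid B (nonZeroDivisors A)) (FractionRing B) :=
    inferInstance
  haveI : Module.Finite (⊥ : Ideal (Localization.AtPrime p)).ResidueField (FractionRing B) :=
    Module.Finite.of_isLocalization A B (nonZeroDivisors A)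
  haveI : Algebra.IsSeparable (⊥ : Ideal (Localization.AtPrime p)).ResidueField (FractionRing B) :=
    inferInstance
  exact Groth.Agent.Lib.Helper7.PsSep.isRegularRing_tensor_of_isSeparable A
    (⊥ : Ideal (Localization.AtPrime p)).ResidueField (FractionRing B) _
    (Groth.Agent.Lib.Helper7.PsCoreGen.isRegularRing_base A p)

end S1

section Main

variable {A B : Type u} [CommRing A] [IsDomain A] [IsRegularRing A] [CharZero A] [CommRing B]
  [IsDomain B] [Algebra A B] [Module.Finite A B] (hinj : Function.Injective (algebraMap A B))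
  (n : Ideal B) [n.IsPrime]

local notation "Ap" => Localization.AtPrime (Ideal.under A n)
local notation "Rc" => AdicCompletion (maximalIdeal (Localization.AtPrime (Ideal.under A n)))
  (Localization.AtPrime (Ideal.under A n))
local notation "Cn" => Localization.AtPrime n
local notation "Cc" => AdicCompletion (maximalIdeal (Localization.AtPrime n)) (Localization.AtPrime n)
local notation "Dt" => B ⊗[A] AdicCompletion (maximalIdeal (Localization.AtPrime (Ideal.under A n)))
  (Localization.AtPrime (Ideal.under A n))

set_option maxHeartbeats 3200000 in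
include hinj in
/-- the local rings of the generic formal fibre of `B_n` are regular -/
theorem isRegularLocalRing_generic_formalFibre
    (q : Ideal Cc) [q.IsPrime] (hq : q.comap (algebraMap Cn Cc) = ⊥) :
    IsRegularLocalRing (Localization.AtPrime q) := by
  classical
  haveI : IsNoetherianRing B := IsNoetherianRing.of_finite A B
  haveI : IsNoetherianRing Ap :=
    IsLocalization.isNoetherianRing (Ideal.under A n).primeCompl _ inferInstance
  haveI : IsNoetherianRing Cn := IsLocalization.isNoetherianRing n.primeCompl _ inferInstance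
  haveI : IsNoetherianRing Rc := Groth.Agent.Lib.Helper19.isNoetherianRing_adicCompletion _
  haveI : IsNoetherianRing Cc := Groth.Agent.Lib.Helper19.isNoetherianRing_adicCompletion _
  -- `A' → C`
  letI algAC : Algebra Ap Cn := Localization.AtPrime.algebraOfLiesOver (Ideal.under A n) n
  obtain ⟨hlocAC, htowAC, -⟩ := localization_liesOver_facts (Ideal.under A n) n
  haveI := hlocAC
  haveI := htowAC
  -- `R → Ĉ`
  obtain ⟨algRC, htowRC, hlocRC, -⟩ :=
    Groth.Agent.Lib.Helper28.exists_algebra_adicCompletion_of_isLocalHom Ap Cn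
  letI := algRC
  haveI := htowRC
  haveI := hlocRC
  haveI : IsScalarTower A Rc Cc := IsScalarTower.to₁₃₄ A Ap Rc Cc
  -- flatness
  haveI : Module.Flat A Ap := IsLocalization.flat _ (Ideal.under A n).primeCompl
  haveI : Module.Flat A Rc := Module.Flat.trans A Ap Rc
  -- the map `φ`
  let φ : Dt →ₐ[A] Cc := Algebra.TensorProduct.productMap (IsScalarTower.toAlgHom A B Cc)
    (IsScalarTower.toAlgHom A Rc Cc)
  have hφ : ∀ (b : B) (z : Rc), φ (b ⊗ₜ z) = algebraMap B Cc b * algebraMap Rc Cc z :=
    fun b z => by
      show Algebra.TensorProduct.productMap _ _ _ = _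
      rw [Algebra.TensorProduct.productMap_apply_tmul]; rfl
  have hβ1 : ∀ b : B, algebraMap B Dt b = b ⊗ₜ[A] (1 : Rc) := fun b => by
    rw [Algebra.TensorProduct.algebraMap_apply]; rfl
  obtain ⟨nt, hnt⟩ : ∃ nt : Ideal Dt, nt = (maximalIdeal Cc).comap φ.toRingHom := ⟨_, rfl⟩
  haveI hntP : nt.IsPrime := by rw [hnt]; exact Ideal.comap_isPrime _ _
  have hmem_nt : ∀ d, d ∈ nt ↔ φ d ∈ maximalIdeal Cc := fun d => by rw [hnt]; rfl
  have hmemC : ∀ c : Cn, algebraMap Cn Cc c ∈ maximalIdeal Cc ↔ c ∈ maximalIdeal Cn := fun c =>
    Ideal.ext_iff.mp (IsLocalRing.maximalIdeal_comap (algebraMap Cn Cc)) c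
  have hmemR : ∀ z : Rc, algebraMap Rc Cc z ∈ maximalIdeal Cc ↔ z ∈ maximalIdeal Rc := fun z =>
    Ideal.ext_iff.mp (IsLocalRing.maximalIdeal_comap (algebraMap Rc Cc)) z
  haveI hliesnt : nt.LiesOver n := by
    refine ⟨?_⟩
    ext b
    rw [Ideal.under, Ideal.mem_comap, hmem_nt, hβ1, hφ, map_one, mul_one,
      IsScalarTower.algebraMap_apply B Cn Cc, hmemC,
      IsLocalization.AtPrime.to_map_mem_maximal_iff Cn n b]
  -- the `R`-algebra structure on `D`
  letI algRD : Algebra Rc Dt := Algebra.TensorProduct.rightAlgebra
  haveI : Module.Finite Rc Dt := by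
    let g : Rc ⊗[A] B →ₐ[Rc] Dt := Algebra.TensorProduct.lift (Algebra.ofId Rc Dt)
      (IsScalarTower.toAlgHom A B Dt) (fun _ _ => Commute.all _ _)
    refine Module.Finite.of_surjective g.toLinearMap ?_
    intro d
    induction d using TensorProduct.induction_on with
    | zero => exact ⟨0, map_zero _⟩
    | tmul b z =>
      refine ⟨z ⊗ₜ b, ?_⟩
      show g (z ⊗ₜ b) = _
      rw [Algebra.TensorProduct.lift_tmul]
      show algebraMap Rc Dt z * algebraMap B Dt b = _
      rw [Algebra.TensorProduct.right_algebraMap_apply, hβ1, Algebra.TensorProduct.tmul_mul_tmul,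
        one_mul, mul_one]
    | add x y hx hy =>
      obtain ⟨x', hx'⟩ := hx
      obtain ⟨y', hy'⟩ := hy
      exact ⟨x' + y', by rw [map_add, hx', hy']⟩
  haveI : Algebra.IsIntegral Rc Dt := Algebra.IsIntegral.of_finite Rc Dt
  have hntmax : nt.IsMaximal := by
    apply Ideal.isMaximal_of_isIntegral_of_isMaximal_comap (R := Rc) nt
    have : nt.comap (algebraMap Rc Dt) = maximalIdeal Rc := by
      ext z
      rw [Ideal.mem_comap, hmem_nt, Algebra.TensorProduct.right_algebraMap_apply, hφ, map_one,
        one_mul, hmemR]
    rw [this]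
    infer_instance
  have hW := (Groth.Agent.Lib.Helper18ComplProd.main Rc Dt).2.2 ⟨nt, hntmax⟩
  haveI : IsNoetherianRing (Localization.AtPrime nt) := hW.1
  haveI : IsAdicComplete (maximalIdeal (Localization.AtPrime nt)) (Localization.AtPrime nt) := by
    exact hW.2
  -- `C → W`
  letI algCW : Algebra Cn (Localization.AtPrime nt) := Localization.AtPrime.algebraOfLiesOver n nt
  obtain ⟨hlocCW, htowCW, hflCW⟩ := localization_liesOver_facts n nt
  haveI := hlocCW
  haveI := htowCW
  haveI : Module.Flat Cn (Localization.AtPrime nt) := hflCW inferInstance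
  haveI : IsScalarTower A Cn (Localization.AtPrime nt) :=
    IsScalarTower.to₁₃₄ A B Cn (Localization.AtPrime nt)
  -- compatibility on `A'`
  have key1 : ((algebraMap Dt (Localization.AtPrime nt)).comp (algebraMap Rc Dt)).comp
      (algebraMap Ap Rc) = (algebraMap Cn (Localization.AtPrime nt)).comp (algebraMap Ap Cn) := by
    apply IsLocalization.ringHom_ext (Ideal.under A n).primeCompl
    refine RingHom.ext fun a => ?_
    simp only [RingHom.comp_apply]
    rw [← IsScalarTower.algebraMap_apply A Ap Rc, ← IsScalarTower.algebraMap_apply A Rc Dt,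
      ← IsScalarTower.algebraMap_apply A Dt (Localization.AtPrime nt),
      ← IsScalarTower.algebraMap_apply A Ap Cn,
      ← IsScalarTower.algebraMap_apply A Cn (Localization.AtPrime nt)]
  -- unramifiedness
  obtain ⟨h1, h2⟩ := Groth.Agent.Lib.T2H8.GenFF.unramified_of_generated
    (κ := algebraMap Cn (Localization.AtPrime nt)) (μ := algebraMap Dt (Localization.AtPrime nt))
    (fun (w : Localization.AtPrime nt) => by
      obtain ⟨⟨d, t⟩, h⟩ := IsLocalization.surj nt.primeCompl w
      exact ⟨d, t, IsLocalization.map_units _ t, h⟩)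
    (β := algebraMap B Dt) (ρ := algebraMap Rc Dt)
    (fun P h0 hm ha d => by
      induction d using TensorProduct.induction_on with
      | zero => exact h0
      | tmul b z =>
        have := hm b z
        rwa [hβ1, Algebra.TensorProduct.right_algebraMap_apply,
          Algebra.TensorProduct.tmul_mul_tmul, one_mul, mul_one] at this
      | add x y hx hy => exact ha x y hx hy)
    (fun b => ⟨algebraMap B Cn b, by
      rw [← IsScalarTower.algebraMap_apply B Dt (Localization.AtPrime nt),
        ← IsScalarTower.algebraMap_apply B Cn (Localization.AtPrime nt)]⟩)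
    (fun z => by
      obtain ⟨a', ha'⟩ := Groth.Agent.Lib.Helper7.Reg751.exists_sub_mem_maximalIdeal_cpl Ap z
      refine ⟨algebraMap Ap Cn a', ?_⟩
      have e1 : algebraMap Dt (Localization.AtPrime nt) (algebraMap Rc Dt (algebraMap Ap Rc a')) =
          algebraMap Cn (Localization.AtPrime nt) (algebraMap Ap Cn a') :=
        RingHom.congr_fun key1 a'
      have e2 : algebraMap Dt (Localization.AtPrime nt) (algebraMap Rc Dt z) -
          algebraMap Cn (Localization.AtPrime nt) (algebraMap Ap Cn a') =
          ((algebraMap Dt (Localization.AtPrime nt)).comp (algebraMap Rc Dt))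
            (z - algebraMap Ap Rc a') := by
        rw [map_sub, RingHom.comp_apply, RingHom.comp_apply, e1]
      rw [e2]
      rw [AdicCompletion.maximalIdeal_eq_map] at ha'
      have h3 := Ideal.mem_map_of_mem
        ((algebraMap Dt (Localization.AtPrime nt)).comp (algebraMap Rc Dt)) ha'
      rw [Ideal.map_map, key1, ← Ideal.map_map] at h3
      exact Ideal.map_mono (IsLocalRing.map_maximalIdeal_le (algebraMap Ap Cn)) h3)
  obtain ⟨ε, hε⟩ := Groth.Agent.Lib.T2H8.GenFF.exists_ringEquiv_cpl_of_complete Cn
    (Localization.AtPrime nt) h1 h2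
  -- the prime `Q`
  obtain ⟨Q, hQdef⟩ : ∃ Q : Ideal (Localization.AtPrime nt), Q = q.comap (ε.symm : _ →+* Cc) :=
    ⟨_, rfl⟩
  haveI hQP : Q.IsPrime := by rw [hQdef]; exact Ideal.comap_isPrime _ _
  have hQ : Q.comap (ε : Cc →+* _) = q := by
    ext x
    rw [hQdef, Ideal.mem_comap, Ideal.mem_comap]
    simp
  refine Groth.Agent.Lib.T2H8.GenFF.isRegularLocalRing_localization_of_ringEquiv ε q Q hQ ?_
  have hQC : Q.comap (algebraMap Cn (Localization.AtPrime nt)) = ⊥ := by
    rw [← hq]
    ext c
    rw [Ideal.mem_comap, Ideal.mem_comap, hQdef, Ideal.mem_comap, ← hε c]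
    simp
  -- the prime `Q'` of `D`
  let e3 := IsLocalization.localizationLocalizationAtPrimeIsoLocalization nt.primeCompl Q
  suffices hR : IsRegularLocalRing (Localization.AtPrime
      (Q.comap (algebraMap Dt (Localization nt.primeCompl)))) by
    haveI := hR
    exact IsRegularLocalRing.of_ringEquiv (R := Localization.AtPrime
      (Q.comap (algebraMap Dt (Localization nt.primeCompl)))) e3.toRingEquiv
  -- regularity of the localization of `D` at `B∖0`
  have hreg0 := isRegularRing_fractionRing_tensor_cpl hinj (Ideal.under A n) (B := B)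
  let e1 := Localization.tensorRightAlgEquiv (nonZeroDivisors B) Dt
  let e2 := Algebra.TensorProduct.cancelBaseChange A B (FractionRing B) (FractionRing B) Rc
  haveI : IsRegularRing (Localization (Algebra.algebraMapSubmonoid Dt (nonZeroDivisors B))) :=
    IsRegularRing.of_ringEquiv (e2.symm.toRingEquiv.trans e1.toRingEquiv)
  apply Groth.Agent.Lib.T2H8.GenFF.isRegularLocalRing_localization_of_disjoint
    (T := Localization (Algebra.algebraMapSubmonoid Dt (nonZeroDivisors B)))
    (Algebra.algebraMapSubmonoid Dt (nonZeroDivisors B))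
  rw [Set.disjoint_left]
  rintro x ⟨b, hb, rfl⟩ hx
  have hx' : algebraMap Dt (Localization.AtPrime nt) (algebraMap B Dt b) ∈ Q := hx
  rw [← IsScalarTower.algebraMap_apply B Dt (Localization.AtPrime nt),
    IsScalarTower.algebraMap_apply B Cn (Localization.AtPrime nt)] at hx'
  have h0 : algebraMap B Cn b ∈ Q.comap (algebraMap Cn (Localization.AtPrime nt)) := hx'
  rw [hQC, Ideal.mem_bot] at h0
  have hb0 : b = 0 := by
    apply IsLocalization.injective Cn (M := n.primeCompl) n.primeCompl_le_nonZeroDivisors
    rw [h0, map_zero]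
  exact nonZeroDivisors.ne_zero hb hb0

end Main

end Groth.Agent.Lib.T2H8.GenFFMain
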