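import Mathlib
import Groth.Prelude.Def_EtBase
import Groth.Prelude.Def_EtCore
import Groth.Agent.Lib.T2H8SepClosedSections
import Groth.Agent.Lib.T2H8ClosedPts
import Groth.Agent.Lib.T2H8ClosedEss
import Groth.Agent.Lib.T2H8FiniteBC

/-!
# Direct images from the spectrum of a separably closed field are exact
-/

set_option autoImplicit false
set_option linter.unusedSectionVars false
set_option linter.style.haveILetI false
universe u
open CategoryTheory CategoryTheory.Limits Opposite AlgebraicGeometry

namespace Groth.Agent.Lib.T2H8.GeomPush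

open Groth.Agent.Lib.T2H8.SepClosedSections Groth.Agent.Lib.Helper16.SmallEtale

section Sections

variable (K : Type u) [Field K] [IsSepClosed K]

set_option backward.isDefEq.respectTransparency.types false in
/-- over a separably closed field an epimorphism of sheaves is surjective on global sections -/
theorem surjective_top {G G' : EtCoh.Ab (Xk K)} (φ : G ⟶ G') [Epi φ] :
    Function.Surjective (φ.hom.app (op (EtCoh.top (Xk K)))) := by
  intro s'
  have h1 : Sheaf.IsLocallySurjective φ :=
    (Sheaf.isLocallySurjective_iff_epi' AddCommGrpCat.{u + 1} φ).2 inferInstance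
  have h2 := h1.imageSieve_mem s'
  rw [mem_smallEtale_iff] at h2
  obtain ⟨Z, g, z, ⟨s, hs⟩, -⟩ := h2 (default : ↥(Spec (CommRingCat.of K)))
  obtain ⟨τ, -⟩ := exists_section K Z z
  refine ⟨G.obj.map τ.op s, ?_⟩
  have n1 := NatTrans.naturality_apply φ.hom τ.op s
  refine n1.trans ?_
  rw [hs]
  have e : τ ≫ g = 𝟙 _ := (EtCore.topIsTerminal (Xk K)).hom_ext _ _
  have e2 : G'.obj.map τ.op (G'.obj.map g.op s') = G'.obj.map (τ ≫ g).op s' := by
    rw [op_comp, Functor.map_comp]
    rfl
  rw [e2, e, op_id, G'.obj.map_id]
  rfl

set_option backward.isDefEq.respectTransparency.types false in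
/-- over a separably closed field an epimorphism of sheaves is surjective on all sections -/
theorem surjective_sections {G G' : EtCoh.Ab (Xk K)} (φ : G ⟶ G') [Epi φ] (U : (Xk K).Etale) :
    Function.Surjective (φ.hom.app (op U)) := by
  intro s'
  have hG : Presieve.IsSheaf (Xk K).smallEtaleTopology (G.obj ⋙ forget _) :=
    Groth.Agent.Lib.T2H8FiniteBC.isSheaf_forget G
  have hG' : Presieve.IsSheaf (Xk K).smallEtaleTopology (G'.obj ⋙ forget _) :=
    Groth.Agent.Lib.T2H8FiniteBC.isSheaf_forget G'
  choose σ hσ using fun x : U.left => exists_section K U x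
  choose l hl using fun x : U.left => surjective_top K φ (G'.obj.map (σ x).op s')
  have hcov : Sieve.generate (Presieve.ofArrows (fun _ : U.left => EtCoh.top (Xk K)) σ) ∈
      (Xk K).smallEtaleTopology U := by
    rw [mem_smallEtale_iff]
    intro x
    exact ⟨EtCoh.top (Xk K), σ x, (default : ↥(Spec (CommRingCat.of K))),
      Sieve.le_generate _ _ _ (Presieve.ofArrows.mk x), hσ x⟩
  have hsh := hG.isSheafFor _ hcov
  rw [Presieve.isSheafFor_arrows_iff] at hsh
  have hcomp : Presieve.Arrows.Compatible (G.obj ⋙ forget _) σ l := by
    intro x y Z gi gj hij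
    have hgg : gi = gj := (EtCore.topIsTerminal (Xk K)).hom_ext _ _
    by_cases hZ : IsEmpty Z.left
    · have hz := Groth.Agent.Lib.T2H8.ClosedEss.isZero_of_isEmpty G Z
      have hss := AddCommGrpCat.subsingleton_of_isZero hz
      exact hss.elim _ _
    · rw [not_isEmpty_iff] at hZ
      obtain ⟨z⟩ := hZ
      have e1 : (gi ≫ σ x).left z = (gj ≫ σ y).left z := by rw [hij]
      have e2 : (gi ≫ σ x).left z = x := by
        change (σ x).left (gi.left z) = x
        have : gi.left z = (default : ↥(Spec (CommRingCat.of K))) :=
          Subsingleton.elim (α := ↥(Spec (CommRingCat.of K))) _ _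
        rw [this]
        exact hσ x
      have e3 : (gj ≫ σ y).left z = y := by
        change (σ y).left (gj.left z) = y
        have : gj.left z = (default : ↥(Spec (CommRingCat.of K))) :=
          Subsingleton.elim (α := ↥(Spec (CommRingCat.of K))) _ _
        rw [this]
        exact hσ y
      have hxy : x = y := e2.symm.trans (e1.trans e3)
      subst hxy
      rw [hgg]
  obtain ⟨t, ht, -⟩ := hsh l hcomp
  refine ⟨t, ?_⟩
  have hsep := (hG'.isSheafFor _ hcov).isSeparatedFor
  apply hsep.ext
  rintro _ _ ⟨x⟩
  have n1 := NatTrans.naturality_apply φ.hom (σ x).op t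
  have e1 : G.obj.map (σ x).op t = l x := ht x
  change G'.obj.map (σ x).op (φ.hom.app (op U) t) = G'.obj.map (σ x).op s'
  rw [← n1, e1, hl x]

end Sections

section Push

variable (K : Type u) [Field K] [IsSepClosed K] {Y : Scheme.{u}} (g : Xk K ⟶ Y)

set_option backward.isDefEq.respectTransparency.types false in
/-- the direct image from the spectrum of a separably closed field preserves epimorphisms -/
theorem push_preservesEpimorphisms : (EtCoh.push g).PreservesEpimorphisms := by
  constructor
  intro G G' φ hφ
  rw [← Sheaf.isLocallySurjective_iff_epi' (φ := (EtCoh.push g).map φ)]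
  refine ⟨fun {V} s' => ?_⟩
  obtain ⟨s, hs⟩ := surjective_sections K φ ((EtCoh.bc g).obj V) s'
  have : Presheaf.imageSieve ((EtCoh.push g).map φ).hom s' = ⊤ := by
    rw [← Sieve.id_mem_iff_eq_top]
    refine ⟨s, ?_⟩
    have e : (((EtCoh.push g).obj G').obj.map (𝟙 V).op) s' = s' := by
      rw [op_id, CategoryTheory.Functor.map_id]
      rfl
    exact hs.trans e.symm
  rw [this]
  exact Y.smallEtaleTopology.top_mem V

/-- the direct image from the spectrum of a separably closed field is exact -/
theorem preservesFiniteColimits_push : PreservesFiniteColimits (EtCoh.push g) :=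
  Groth.Agent.Lib.T2H8PropBPush.preservesFiniteColimits_push_of_preservesEpimorphisms _
    (push_preservesEpimorphisms K g)

set_option backward.isDefEq.respectTransparency.types false in
/-- the cohomology of a direct image from the spectrum of a separably closed field vanishes in
positive degrees -/
theorem H_push_eq_zero (G : EtCoh.Ab (Xk K)) (q : ℕ)
    (y : EtCoh.H Y ((EtCoh.push g).obj G) (q + 1)) : y = 0 := by
  haveI := preservesFiniteColimits_push K g
  haveI : Algebra.IsIntegral K (IsLocalRing.ResidueField K) :=
    Algebra.IsIntegral.of_surjective (Algebra.ofId _ _) IsLocalRing.residue_surjective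
  haveI : IsSepClosed (IsLocalRing.ResidueField K) :=
    Algebra.IsAlgebraic.isSepClosed (F := K)
  refine Groth.Agent.Lib.T2H8.ClosedPts.H_push_eq_zero g ?_ q G y
  intro G' y'
  have h1 : Subsingleton (EtCoh.H (Spec (CommRingCat.of K)) G' 1) :=
    Groth.Agent.S0073.result K G' 1 le_rfl
  exact h1.elim _ _

end Push

end Groth.Agent.Lib.T2H8.GeomPush
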