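import Mathlib
import Groth.Prelude.Def_W4bk4grassmannianPl
import Groth.Prelude.Def_CAlg
import Groth.Agent.Lib.T2H8GrassCM
import Groth.Agent.Lib.LeadGCMd
import Groth.Agent.Lib.Helper28Unmixed

/-!
# Cohen–Macaulayness of Schubert cones: final assembly (helper8, with lead's graded CM toolkit)
-/

noncomputable section

open MvPolynomial W4bk4grassmannian

namespace Groth.Agent.Lib.T2H8.Grass

universe u

attribute [local instance] MvPolynomial.gradedAlgebra

section CMg

variable (K : Type u) [Field K] (d n : ℕ)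

theorem glueHyp : GlueHyp K d n := by
  intro I J hI hJ e he hIcm hJcm hIJcm hIdim hJdim hIJdim
  exact Groth.Agent.Lib.LeadGCM.isCohenMacaulayRing_quotient_inf
    (homogeneousSubmodule (Idx d n) K) (Groth.Agent.Lib.LeadGCM.h0_mvPolynomial K (Idx d n))
    I J hI hJ e he hIcm hJcm hIJcm hIdim hJdim hIJdim

theorem liftHyp : LiftHyp K d n := by
  intro I hI x k hk hx hreg hCM
  exact Groth.Agent.Lib.LeadGCM.isCohenMacaulayRing_quotient_of_nzd
    (homogeneousSubmodule (Idx d n) K) (Groth.Agent.Lib.LeadGCM.h0_mvPolynomial K (Idx d n))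
    I hI x k hk ((mem_homogeneousSubmodule k x).mpr hx) hreg hCM

theorem fieldHyp : FieldHyp K d n := by
  intro M hM
  letI : Field (PlRing K d n ⧸ M) := Ideal.Quotient.field M
  exact Groth.Agent.Lib.Helper28.isCohenMacaulayRing_of_field (PlRing K d n ⧸ M)

end CMg

theorem main_S11258 (K : Type u) [Field K] [IsAlgClosed K] (d n : ℕ)
    (hd : 0 < d) (hdn : d < n) (τ : Idx d n) :
    LocCoh.IsCohenMacaulayRing (PlRing K d n ⧸ schubertVanishing K d n τ) :=
  cm_schubert K (glueHyp K d n) (liftHyp K d n) (fieldHyp K d n) hd hdn τ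

theorem main_S11279 (K : Type u) [Field K] [IsAlgClosed K] (d n : ℕ)
    (hd : 0 < d) (hdn : d < n) (τ : Idx d n) (s : ℕ) (φ : Fin s → Idx d n)
    (hφ : ∀ i, φ i ∈ divisors τ) :
    LocCoh.IsCohenMacaulayRing (PlRing K d n ⧸ ⨅ i, schubertVanishing K d n (φ i)) :=
  cm_union K (glueHyp K d n) (liftHyp K d n) (fieldHyp K d n) hd hdn τ s φ hφ

end Groth.Agent.Lib.T2H8.Grass
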