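import Mathlib
import Groth.Prelude.Def_W4bk4grassmannianPl
import Groth.Prelude.Def_CAlgX
import Groth.Agent.Lib.T2H8GrassDetB
import Groth.Agent.Lib.T2H8GrassDim
import Groth.Agent.Lib.T2H8GrassNormal
import Groth.Agent.Lib.T2H8GrassCMFinal
import Groth.Agent.Lib.Helper28ProjNormal
import Groth.Agent.Lib.Helper28PolyCM
import Groth.Agent.Lib.Helper14FTDim

/-!
# Determinantal rings are dehomogenized Schubert cones (helper8)

`K[Z]/I_{n+1} ≃ (S/J(φ))/(x - 1)`; consequences: integral domain, Cohen–Macaulay, dimension.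
-/

noncomputable section

open MvPolynomial W4bk4grassmannian

namespace Groth.Agent.Lib.T2H8.GrassDet

open Groth.Agent.Lib.T2H8.Grass

universe u

section Iso

variable (K : Type u) [Field K] [IsAlgClosed K] {d r n : ℕ}

theorem eval_eq_zero_of_mem_minorIdeal {f : CellRing K d r}
    (hf : f ∈ CAlgX.minorIdeal (genMatrix K r d) (n + 1))
    (U : Matrix (Fin r) (Fin n) K) (W : Matrix (Fin n) (Fin d) K) :
    eval (fun p : Fin r × Fin d => (U * W) p.1 p.2) f = 0 :=
  eval_eq_zero_of_mem_ker K r n d (minorIdeal_le_ker K r n d hf) U W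

theorem homogenize_sub_mem {σ : Type*} (F : MvPolynomial σ K) (x : σ) :
    homogenize F x - F ∈ Ideal.span {(X x - 1 : MvPolynomial σ K)} := by
  have h1 : homogenize F x - F = ∑ k ∈ Finset.range (F.totalDegree + 1),
      homogeneousComponent k F * (X x ^ (F.totalDegree - k) - 1) := by
    have h0 : homogenize F x - F = homogenize F x -
        ∑ k ∈ Finset.range (F.totalDegree + 1), homogeneousComponent k F := by
      rw [sum_homogeneousComponent]
    rw [h0]
    unfold homogenize
    rw [← Finset.sum_sub_distrib]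
    refine Finset.sum_congr rfl fun k _ => ?_
    ring
  rw [h1]
  refine Ideal.sum_mem _ fun k _ => Ideal.mul_mem_left _ _ ?_
  rw [Ideal.mem_span_singleton]
  have := sub_dvd_pow_sub_pow (X x : MvPolynomial σ K) 1 (F.totalDegree - k)
  rwa [one_pow] at this

variable (d r) in
/-- the least index `(0, …, d-1)` -/
abbrev iota0 (hr : 0 < r) : Idx d (d + r) := iotaIdx (Nat.lt_add_of_pos_right hr : d < d + r)

theorem comap_Psi_minorIdeal (hnd : n + 1 ≤ d) (hnr : n + 1 ≤ r) :
    Ideal.comap (Psi K d r) (CAlgX.minorIdeal (genMatrix K r d) (n + 1)) =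
      schubertVanishing K d (d + r) (phiIdx (Nat.succ_pos n) hnd hnr) ⊔
        Ideal.span {(X (iota0 d r (lt_of_lt_of_le (Nat.succ_pos n) hnr)) - 1 : PlRing K d (d + r))} := by
  haveI : Infinite K := inferInstance
  have hr : 0 < r := lt_of_lt_of_le (Nat.succ_pos n) hnr
  apply le_antisymm
  · intro F hF
    rw [Ideal.mem_comap] at hF
    set ι₀ := iota0 d r hr with hι₀
    have hΨG : Psi K d r (homogenize F ι₀) = Psi K d r F :=
      map_homogenize (Psi K d r).toRingHom F ι₀ (Psi_iota K d r hr)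
    have h1 := mem_schubert_of_vanishing K (Nat.succ_pos n) hnd hnr (homogenize F ι₀) _
      (homogenize_isHomogeneous F ι₀)
      (by rw [hΨG]; exact fun U W => eval_eq_zero_of_mem_minorIdeal K hF U W)
    have h2 := homogenize_sub_mem K F ι₀
    have h3 : F = homogenize F ι₀ * X ι₀ - homogenize F ι₀ * (X ι₀ - 1) - (homogenize F ι₀ - F) := by
      ring
    rw [h3]
    refine Ideal.sub_mem _ (Ideal.sub_mem _ (Ideal.mem_sup_left h1) (Ideal.mem_sup_right ?_))
      (Ideal.mem_sup_right h2)
    exact Ideal.mul_mem_left _ _ (Ideal.mem_span_singleton_self _)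
  · refine sup_le ?_ ?_
    · intro F hF
      exact Psi_mem_minorIdeal_of_mem_schubert K (Nat.succ_pos n) hnd hnr hF
    · rw [Ideal.span_le]
      rintro _ rfl
      rw [SetLike.mem_coe, Ideal.mem_comap, map_sub, map_one, Psi_iota K d r hr, sub_self]
      exact Submodule.zero_mem _

end Iso

section Consequences

variable (K : Type u) [Field K] [IsAlgClosed K] {d r n : ℕ} (hnd : n + 1 ≤ d) (hnr : n + 1 ≤ r)

/-- the coordinate ring of the cone over the Schubert variety `X(φ)` -/
abbrev ACone : Type u :=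
  PlRing K d (d + r) ⧸ schubertVanishing K d (d + r) (phiIdx (Nat.succ_pos n) hnd hnr)

/-- the element `x - 1` of the cone, `x` the Plücker coordinate of the least index -/
def xm1 : ACone K hnd hnr :=
  Ideal.Quotient.mk _ (X (iota0 d r (lt_of_lt_of_le (Nat.succ_pos n) hnr)) - 1)

/-- the determinantal ring -/
abbrev DetRing (K : Type u) [Field K] (d r n : ℕ) : Type u :=
  CellRing K d r ⧸ CAlgX.minorIdeal (genMatrix K r d) (n + 1)

theorem ker_mk_comp_Psi :
    RingHom.ker ((Ideal.Quotient.mk (CAlgX.minorIdeal (genMatrix K r d) (n + 1))).comp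
      (Psi K d r).toRingHom) =
      schubertVanishing K d (d + r) (phiIdx (Nat.succ_pos n) hnd hnr) ⊔
        Ideal.span {(X (iota0 d r (lt_of_lt_of_le (Nat.succ_pos n) hnr)) - 1 : PlRing K d (d + r))} := by
  rw [← RingHom.comap_ker, Ideal.mk_ker]
  exact comap_Psi_minorIdeal K hnd hnr

/-- the determinantal ring is the dehomogenization of the Schubert cone -/
def detEquiv : DetRing K d r n ≃+* (ACone K hnd hnr ⧸ Ideal.span {xm1 K hnd hnr}) := by
  haveI : Infinite K := inferInstance
  have hr : 0 < r := lt_of_lt_of_le (Nat.succ_pos n) hnr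
  have hsurj : Function.Surjective ((Ideal.Quotient.mk (CAlgX.minorIdeal (genMatrix K r d) (n + 1))).comp
      (Psi K d r).toRingHom) :=
    Ideal.Quotient.mk_surjective.comp (Psi_surjective K d r hr)
  have e1 := RingHom.quotientKerEquivOfSurjective hsurj
  have e2 := Ideal.quotEquivOfEq (ker_mk_comp_Psi K hnd hnr)
  have e3 := DoubleQuot.quotQuotEquivQuotSup
    (schubertVanishing K d (d + r) (phiIdx (Nat.succ_pos n) hnd hnr))
    (Ideal.span {(X (iota0 d r hr) - 1 : PlRing K d (d + r))})
  have h4 : (Ideal.span {(X (iota0 d r hr) - 1 : PlRing K d (d + r))}).map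
      (Ideal.Quotient.mk (schubertVanishing K d (d + r) (phiIdx (Nat.succ_pos n) hnd hnr))) =
      Ideal.span {xm1 K hnd hnr} := by
    rw [Ideal.map_span, Set.image_singleton]
    rfl
  have e4 := Ideal.quotEquivOfEq h4
  exact e1.symm.trans (e2.trans (e3.symm.trans e4))

theorem detRing_isDomain (K : Type u) [Field K] [IsAlgClosed K] (d r n : ℕ) :
    IsDomain (DetRing K d r n) := by
  have h := main_S11267 K r n d
  haveI : (CAlgX.minorIdeal (genMatrix K r d) (n + 1)).IsPrime := by
    rw [← h]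
    exact RingHom.ker_isPrime _
  exact Ideal.Quotient.isDomain _

instance acone_isDomain : IsDomain (ACone K hnd hnr) :=
  (main_S11259 K d (d + r) (lt_of_lt_of_le (Nat.succ_pos n) hnd)
    (Nat.lt_add_of_pos_right (lt_of_lt_of_le (Nat.succ_pos n) hnr)) _).1

theorem xm1_ne_zero : xm1 K hnd hnr ≠ 0 := by
  intro h
  have hd : 0 < d := lt_of_lt_of_le (Nat.succ_pos n) hnd
  rw [xm1, Ideal.Quotient.eq_zero_iff_mem] at h
  unfold schubertVanishing at h
  simp only [Ideal.mem_iInf] at h
  have h0 : ∀ φ : Idx d (d + r), ((0 : Matrix (Fin (d + r)) (Fin d) K).submatrix φ.1 id).det = 0 := by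
    intro φ
    haveI : Nonempty (Fin d) := ⟨⟨0, hd⟩⟩
    have : (0 : Matrix (Fin (d + r)) (Fin d) K).submatrix φ.1 id = 0 := by ext; simp
    rw [this, Matrix.det_zero]
  have h1 := h 0 (fun φ _ => h0 φ)
  rw [RingHom.mem_ker] at h1
  have h2 : evalMinors K d (d + r) 0 (X (iota0 d r (lt_of_lt_of_le (Nat.succ_pos n) hnr)) - 1) = -1 := by
    rw [map_sub, map_one, evalMinors_X, h0, zero_sub]
  have h3 : (-1 : K) = 0 := by rw [← h2]; exact h1
  exact one_ne_zero (neg_eq_zero.mp h3)

include hnd hnr in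
theorem detRing_isCohenMacaulay :
    LocCoh.IsCohenMacaulayRing (DetRing K d r n) := by
  have hd : 0 < d := lt_of_lt_of_le (Nat.succ_pos n) hnd
  have hr : 0 < r := lt_of_lt_of_le (Nat.succ_pos n) hnr
  haveI hA : LocCoh.IsCohenMacaulayRing (ACone K hnd hnr) :=
    main_S11258 K d (d + r) hd (Nat.lt_add_of_pos_right hr) _
  have hnzd : xm1 K hnd hnr ∈ nonZeroDivisors (ACone K hnd hnr) :=
    mem_nonZeroDivisors_of_ne_zero (xm1_ne_zero K hnd hnr)
  have h1 := (Groth.Agent.Lib.Helper28.isCohenMacaulayRing_quotient_of_eq_ofList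
    [xm1 K hnd hnr] (Ideal.span {xm1 K hnd hnr}) (Ideal.ofList_singleton _).symm
    (by
      simp only [List.length_singleton, Nat.cast_one]
      exact Ideal.one_le_height_span_singleton_of_mem_nonZeroDivisors hnzd)).1
  exact Groth.Agent.Lib.Helper28.isCohenMacaulayRing_of_ringEquiv
    (R := ACone K hnd hnr ⧸ Ideal.span {xm1 K hnd hnr}) (hR := h1) (detEquiv K hnd hnr).symm

theorem withBot_add_one_cancel (a : WithBot ℕ∞) (c : ℕ)
    (h : a + 1 = ((c + 1 : ℕ) : WithBot ℕ∞)) : a = (c : WithBot ℕ∞) := by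
  induction a using WithBot.recBotCoe with
  | bot =>
    exfalso
    rw [WithBot.bot_add] at h
    exact (WithBot.natCast_ne_bot _) h.symm
  | coe a =>
    induction a using ENat.recTopCoe with
    | top =>
      exfalso
      have h' : ((⊤ + 1 : ℕ∞) : WithBot ℕ∞) = (((c + 1 : ℕ) : ℕ∞) : WithBot ℕ∞) := h
      have := WithBot.coe_injective h'
      rw [top_add] at this
      exact ENat.top_ne_natCast _ this
    | coe a =>
      have h' : (((a + 1 : ℕ) : ℕ∞) : WithBot ℕ∞) = (((c + 1 : ℕ) : ℕ∞) : WithBot ℕ∞) := by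
        rw [show (((c + 1 : ℕ) : ℕ∞) : WithBot ℕ∞) = ((c + 1 : ℕ) : WithBot ℕ∞) from rfl, ← h]
        push_cast; rfl
      have h2 : a + 1 = c + 1 := by exact_mod_cast WithBot.coe_injective h'
      have h3 : a = c := by omega
      rw [h3]; rfl

theorem codeg_phiIdx {d r n : ℕ} (hnd : n + 1 ≤ d) (hnr : n + 1 ≤ r) :
    codeg (phiIdx (Nat.succ_pos n) hnd hnr) = n * (d + r - n) := by
  unfold codeg
  have h1 : ∀ s : Fin d, ((phiIdx (Nat.succ_pos n) hnd hnr).1 s).val - s.val =
      (fun s : ℕ => if s + (n + 1) ≤ d then n else r) s.val := by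
    intro s
    rw [phiIdx_val]
    dsimp only
    split_ifs <;> omega
  simp only [h1]
  rw [Fin.sum_univ_eq_sum_range (fun s : ℕ => if s + (n + 1) ≤ d then n else r) d]
  have h2 : d = (d - n) + n := by omega
  conv_lhs => rw [h2]
  rw [Finset.sum_range_add]
  have h3 : ∑ x ∈ Finset.range (d - n), (if x + (n + 1) ≤ d - n + n then n else r) = (d - n) * n := by
    rw [Finset.sum_congr rfl (g := fun _ => n)]
    · simp
    · intro x hx
      have := Finset.mem_range.mp hx
      rw [if_pos (by omega)]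
  have h4 : ∑ x ∈ Finset.range n, (if d - n + x + (n + 1) ≤ d - n + n then n else r) = n * r := by
    rw [Finset.sum_congr rfl (g := fun _ => r)]
    · simp
    · intro x hx
      rw [if_neg (by omega)]
  rw [h3, h4]
  have h5 : d + r - n = (d - n) + r := by omega
  rw [h5]
  ring

include hnd hnr in
theorem detRing_dim :
    ringKrullDim (DetRing K d r n) = ((n * (d + r - n) : ℕ) : WithBot ℕ∞) := by
  have hd : 0 < d := lt_of_lt_of_le (Nat.succ_pos n) hnd
  have hr : 0 < r := lt_of_lt_of_le (Nat.succ_pos n) hnr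
  haveI := detRing_isDomain K d r n
  rw [ringKrullDim_eq_of_ringEquiv (S := ACone K hnd hnr ⧸ Ideal.span {xm1 K hnd hnr})
    (detEquiv K hnd hnr)]
  have hnzd : xm1 K hnd hnr ∈ nonZeroDivisors (ACone K hnd hnr) :=
    mem_nonZeroDivisors_of_ne_zero (xm1_ne_zero K hnd hnr)
  have hne : Ideal.span {xm1 K hnd hnr} ≠ ⊤ := by
    intro h
    haveI : Subsingleton (ACone K hnd hnr ⧸ Ideal.span {xm1 K hnd hnr}) :=
      Ideal.Quotient.subsingleton_iff.mpr h
    haveI : Subsingleton (DetRing K d r n) := (detEquiv K hnd hnr).injective.subsingleton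
    exact not_subsingleton (DetRing K d r n) inferInstance
  obtain ⟨m, hm, hle⟩ := Ideal.exists_le_maximal _ hne
  obtain ⟨N, -, hdim, hht⟩ := Groth.Agent.Lib.Helper14.FTDim.exists_dim K (ACone K hnd hnr)
  haveI := hm.isPrime
  have h1 := Module.ringKrullDim_quotient_add_one_of_mem_nonZeroDivisors hnzd (p := m)
    (by rw [hht m, hdim]; rfl) (hle (Ideal.mem_span_singleton_self _))
  have h2 := main_S11255 K d (d + r) hd (Nat.lt_add_of_pos_right hr) (phiIdx (Nat.succ_pos n) hnd hnr)
  rw [h2, codeg_phiIdx] at h1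
  exact withBot_add_one_cancel _ _ h1

end Consequences

end Groth.Agent.Lib.T2H8.GrassDet
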