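import Mathlib
import Groth.Prelude.Def_W4bk4grassmannianPl
import Groth.Prelude.Def_CAlgX
import Groth.Agent.Lib.T2H8GrassDetC

/-!
# Standard monomial bases of dehomogenized Schubert cones (helper8)
-/

noncomputable section

open MvPolynomial W4bk4grassmannian

namespace Groth.Agent.Lib.T2H8.GrassBit

open Groth.Agent.Lib.T2H8.Grass Groth.Agent.Lib.T2H8.GrassDet

universe u

section Chains

variable {d n : ℕ}

theorem antitone_append {m e : ℕ} (c : Fin m → Idx d n) (hc : Antitone c) (b : Idx d n)
    (hb : ∀ θ : Idx d n, b ≤ θ) : Antitone (Fin.append c (fun _ : Fin e => b)) := by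
  intro x y
  induction y using Fin.addCases with
  | left i =>
    induction x using Fin.addCases with
    | left i' =>
      intro hxy
      rw [Fin.append_left, Fin.append_left]
      have h1 : i' ≤ i := by
        rw [Fin.le_def] at hxy ⊢
        simpa using hxy
      exact hc h1
    | right j' =>
      intro hxy
      exfalso
      rw [Fin.le_def] at hxy
      simp at hxy
      omega
  | right j =>
    intro _
    rw [Fin.append_right]
    exact hb _

variable (K : Type u) [CommRing K]

theorem chainMon_append {m e : ℕ} (c : Fin m → Idx d n) (c' : Fin e → Idx d n) :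
    chainMon K (Fin.append c c') = chainMon K c * chainMon K c' := by
  unfold chainMon
  rw [Fin.prod_univ_add]
  simp

theorem chainMon_const {e : ℕ} (b : Idx d n) :
    chainMon K (fun _ : Fin e => b) = X b ^ e := by
  unfold chainMon
  simp

theorem chainMon_isHomogeneous {m : ℕ} (c : Fin m → Idx d n) :
    (chainMon K c).IsHomogeneous m := by
  unfold chainMon
  have := IsHomogeneous.prod (Finset.univ : Finset (Fin m)) (fun k => (X (c k) : PlRing K d n))
    (fun _ => 1) (fun k _ => isHomogeneous_X K (c k))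
  simpa using this

/-- number of entries different from `b` -/
def nzCount (b : Idx d n) (p : Σ m : ℕ, Fin m → Idx d n) : ℕ :=
  (Finset.univ.filter fun k => p.2 k ≠ b).card

theorem nzCount_append {m e : ℕ} (c : Fin m → Idx d n) (b : Idx d n) (hc : ∀ k, c k ≠ b) :
    nzCount b ⟨m + e, Fin.append c (fun _ : Fin e => b)⟩ = m := by
  unfold nzCount
  rw [Finset.card_filter, Fin.sum_univ_add]
  simp [hc]

theorem append_inj {m m' e e' : ℕ} (c : Fin m → Idx d n) (c' : Fin m' → Idx d n) (b : Idx d n)
    (hc : ∀ k, c k ≠ b) (hc' : ∀ k, c' k ≠ b)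
    (h : (⟨m + e, Fin.append c (fun _ : Fin e => b)⟩ : Σ m : ℕ, Fin m → Idx d n) =
      ⟨m' + e', Fin.append c' (fun _ : Fin e' => b)⟩) :
    (⟨m, c⟩ : Σ m : ℕ, Fin m → Idx d n) = ⟨m', c'⟩ := by
  have h1 := congrArg (nzCount b) h
  rw [nzCount_append c b hc, nzCount_append c' b hc'] at h1
  subst h1
  have h2 := h
  simp only [Sigma.mk.injEq] at h2
  obtain ⟨h3, h4⟩ := h2
  have h5 : e = e' := by omega
  subst h5
  have h6 := eq_of_heq h4
  congr 1
  funext k
  have := congrFun h6 (Fin.castAdd e k)
  rwa [Fin.append_left, Fin.append_left] at this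

end Chains


section General

variable (K : Type u) [Field K] {d r : ℕ}

/-- the product of the cell minors along a tuple -/
def cellProd {m : ℕ} (c : Fin m → Idx d (d + r)) : CellRing K d r :=
  ∏ k, cellMinor K d r (c k)

theorem Psi_chainMon {m : ℕ} (c : Fin m → Idx d (d + r)) :
    Psi K d r (chainMon K c) = cellProd K c := by
  unfold chainMon cellProd
  rw [map_prod]
  exact Finset.prod_congr rfl fun k _ => Psi_X K d r (c k)

/-- index type: standard chains below `φ` avoiding the least index -/
abbrev FreeIdx (hr : 0 < r) (φ : Idx d (d + r)) : Type :=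
  Σ m : ℕ, {c : Fin m → Idx d (d + r) // Antitone c ∧ (∀ k, c k ≤ φ) ∧ ∀ k, c k ≠ iota0 d r hr}

theorem indep_free [Infinite K] (hd : 0 < d) (hr : 0 < r) (φ : Idx d (d + r))
    (I : Ideal (CellRing K d r))
    (H1 : ∀ (G : PlRing K d (d + r)) (N : ℕ), G.IsHomogeneous N → Psi K d r G ∈ I →
      G * X (iota0 d r hr) ∈ schubertVanishing K d (d + r) φ) :
    LinearIndependent K (fun c : FreeIdx hr φ => Ideal.Quotient.mk I (cellProd K c.2.1)) := by
  classical
  rw [linearIndependent_iff']
  intro s g hsum i hi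
  set ι₀ := iota0 d r hr with hι₀
  set N := s.sup (fun c => c.1) with hN
  have hle : ∀ c ∈ s, c.1 ≤ N := fun c hc => Finset.le_sup (f := fun c : FreeIdx hr φ => c.1) hc
  set G : PlRing K d (d + r) := ∑ c ∈ s, g c • (chainMon K c.2.1 * X ι₀ ^ (N - c.1)) with hG
  have hGhom : G.IsHomogeneous N := by
    apply IsHomogeneous.sum
    intro c hc
    have h1 := (chainMon_isHomogeneous K c.2.1).mul (isHomogeneous_X_pow (R := K) ι₀ (N - c.1))
    have h2 : c.1 + (N - c.1) = N := by have := hle c hc; omega
    rw [h2] at h1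
    rw [MvPolynomial.smul_eq_C_mul]
    have := (isHomogeneous_C (Idx d (d + r)) (g c)).mul h1
    rwa [zero_add] at this
  have hΨ : Psi K d r G = ∑ c ∈ s, g c • cellProd K c.2.1 := by
    rw [hG, map_sum]
    refine Finset.sum_congr rfl fun c _ => ?_
    rw [map_smul, map_mul, map_pow, Psi_iota K d r hr, one_pow, mul_one, Psi_chainMon]
  have hmem : Psi K d r G ∈ I := by
    rw [← Ideal.Quotient.eq_zero_iff_mem, hΨ, map_sum, ← hsum]
    exact Finset.sum_congr rfl fun c _ => mk_smul' I _ _
  have h1 := H1 G N hGhom hmem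
  have h2 : G * X ι₀ = ∑ c ∈ s, g c • chainMon K
      (Fin.append c.2.1 (fun _ : Fin (N - c.1 + 1) => ι₀)) := by
    rw [hG, Finset.sum_mul]
    refine Finset.sum_congr rfl fun c _ => ?_
    rw [chainMon_append, chainMon_const, smul_mul_assoc, pow_succ, mul_assoc]
  rw [h2] at h1
  refine indep_core K hd φ s (fun c => c.1 + (N - c.1 + 1))
    (fun c => Fin.append c.2.1 (fun _ : Fin (N - c.1 + 1) => ι₀))
    (fun c _ => antitone_append c.2.1 c.2.2.1 ι₀ (iotaIdx_le _)) ?_ g h1 i hi ?_
  · intro a _ b _ hab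
    have h3 := append_inj a.2.1 b.2.1 ι₀ a.2.2.2.2 b.2.2.2.2 hab
    obtain ⟨m, c, hc⟩ := a
    obtain ⟨m', c', hc'⟩ := b
    simp only [Sigma.mk.injEq] at h3
    obtain ⟨rfl, h4⟩ := h3
    have h5 := eq_of_heq h4
    subst h5
    rfl
  · intro k
    induction k using Fin.addCases with
    | left j => rw [Fin.append_left]; exact i.2.2.2.1 j
    | right j => rw [Fin.append_right]; exact iotaIdx_le _ _


theorem cellProd_mem_span (hr : 0 < r) (φ : Idx d (d + r)) (I : Ideal (CellRing K d r))
    (H2 : ∀ θ : Idx d (d + r), ¬ θ ≤ φ → cellMinor K d r θ ∈ I) :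
    ∀ (m : ℕ) (c : Fin m → Idx d (d + r)), Antitone c →
      Ideal.Quotient.mk I (cellProd K c) ∈ Submodule.span K (Set.range
        fun c : FreeIdx hr φ => Ideal.Quotient.mk I (cellProd K c.2.1)) := by
  intro m
  induction m with
  | zero =>
    intro c hc
    exact Submodule.subset_span ⟨⟨0, c, hc, fun k => k.elim0, fun k => k.elim0⟩, rfl⟩
  | succ m ih =>
    intro c hc
    by_cases hφ : ∀ k, c k ≤ φ
    · by_cases hlast : c (Fin.last m) = iota0 d r hr
      · have h1 : cellProd K c = cellProd K (Fin.init c) := by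
          unfold cellProd
          rw [Fin.prod_univ_castSucc, hlast]
          have h2 : cellMinor K d r (iota0 d r hr) = 1 := by
            rw [← Psi_X, Psi_iota K d r hr]
          rw [h2, mul_one]
          rfl
        rw [h1]
        apply ih
        intro a b hab
        exact hc (Fin.castSucc_le_castSucc_iff.mpr hab)
      · refine Submodule.subset_span ⟨⟨m + 1, c, hc, hφ, fun k hk => hlast ?_⟩, rfl⟩
        apply le_antisymm _ (iotaIdx_le _ _)
        have h3 : c (Fin.last m) ≤ c k := hc (Fin.le_last k)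
        rwa [hk] at h3
    · push Not at hφ
      obtain ⟨k, hk⟩ := hφ
      have h1 : cellProd K c ∈ I := by
        unfold cellProd
        exact Ideal.mem_of_dvd _ (Finset.dvd_prod_of_mem _ (Finset.mem_univ k)) (H2 _ hk)
      rw [Ideal.Quotient.eq_zero_iff_mem.mpr h1]
      exact Submodule.zero_mem _

theorem span_free [Infinite K] (hr : 0 < r) (φ : Idx d (d + r)) (I : Ideal (CellRing K d r))
    (H2 : ∀ θ : Idx d (d + r), ¬ θ ≤ φ → cellMinor K d r θ ∈ I) :
    Submodule.span K (Set.range
      fun c : FreeIdx hr φ => Ideal.Quotient.mk I (cellProd K c.2.1)) = ⊤ := by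
  rw [eq_top_iff]
  rintro q -
  obtain ⟨f, rfl⟩ := Ideal.Quotient.mk_surjective q
  obtain ⟨F, rfl⟩ := Psi_surjective K d r hr f
  have hp : Ideal.Quotient.mk (plIdealTop (d := d) (n := d + r) K) F ∈
      Helper24Grass.Std K d (d + r) := by rw [Helper24Grass.std_eq_top]; trivial
  unfold Helper24Grass.Std at hp
  obtain ⟨a, ha⟩ := Finsupp.mem_span_range_iff_exists_finsupp.mp hp
  have h1 : Ideal.Quotient.mk (plIdealTop (d := d) (n := d + r) K)
      (a.sum fun i x => x • chainMon K i.2.1) =
      Ideal.Quotient.mk (plIdealTop (d := d) (n := d + r) K) F := by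
    rw [← ha, Finsupp.sum, Finsupp.sum, map_sum]
    exact Finset.sum_congr rfl fun i _ => mk_smul' _ _ _
  have h2 : (a.sum fun i x => x • chainMon K i.2.1) - F ∈ plIdealTop (d := d) (n := d + r) K :=
    Ideal.Quotient.eq.mp h1
  have h3 := Psi_eq_zero_of_mem_vanishing K d r (plIdealTop_le_vanishing h2)
  rw [map_sub, sub_eq_zero] at h3
  rw [← h3, Finsupp.sum, map_sum, map_sum]
  apply Submodule.sum_mem
  intro i _
  rw [map_smul, Psi_chainMon, mk_smul']
  exact Submodule.smul_mem _ _ (cellProd_mem_span K hr φ I H2 i.1 i.2.1 i.2.2)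

end General

end Groth.Agent.Lib.T2H8.GrassBit
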