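import Mathlib
import Groth.Prelude.Def_W4bk4grassmannianPl
import Groth.Prelude.Def_CAlgX
import Groth.Agent.Lib.T2H8GrassBitA

/-!
# Hypotheses of the dehomogenized standard monomial basis: determinantal ideals, zero ideal (helper8)
-/

noncomputable section

open MvPolynomial W4bk4grassmannian

namespace Groth.Agent.Lib.T2H8.GrassBit

open Groth.Agent.Lib.T2H8.Grass Groth.Agent.Lib.T2H8.GrassDet

universe u

section Det

variable (K : Type u) [Field K] [IsAlgClosed K] {d r t : ℕ}

theorem H1_det (ht : 0 < t) (htd : t ≤ d) (htr : t ≤ r) (G : PlRing K d (d + r)) (N : ℕ)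
    (hG : G.IsHomogeneous N) (h : Psi K d r G ∈ CAlgX.minorIdeal (genMatrix K r d) t) :
    G * X (iota0 d r (lt_of_lt_of_le ht htr)) ∈
      schubertVanishing K d (d + r) (phiIdx ht htd htr) := by
  obtain ⟨n, rfl⟩ : ∃ n, t = n + 1 := ⟨t - 1, by omega⟩
  exact mem_schubert_of_vanishing K ht htd htr G N hG
    (fun U W => eval_eq_zero_of_mem_minorIdeal K h U W)

theorem H2_det (ht : 0 < t) (htd : t ≤ d) (htr : t ≤ r) (θ : Idx d (d + r))
    (h : ¬ θ ≤ phiIdx ht htd htr) :
    cellMinor K d r θ ∈ CAlgX.minorIdeal (genMatrix K r d) t := by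
  have hd : 0 < d := lt_of_lt_of_le ht htd
  rw [← Groth.Agent.S11275.result K d r t hd ht htd htr]
  exact Ideal.subset_span ⟨θ, le_of_not_le_phiIdx ht htd htr θ h, rfl⟩

end Det

section Top

variable (K : Type u) [Field K] {d r : ℕ}

/-- the greatest index `(r, …, d + r - 1)` -/
def topIdx (d r : ℕ) : Idx d (d + r) :=
  ⟨fun k => ⟨r + k.val, by have := k.isLt; omega⟩, fun a b hab => by
    rw [Fin.lt_def] at hab ⊢
    simp only
    omega⟩

theorem le_topIdx (θ : Idx d (d + r)) : θ ≤ topIdx d r := by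
  intro k
  rw [Fin.le_def]
  show (θ.1 k).val ≤ r + k.val
  have hk := k.isLt
  have h1 := strictMono_add_le θ (d - 1 - k.val) k ⟨d - 1, by omega⟩ (by simp only; omega)
  have h2 := (θ.1 ⟨d - 1, by omega⟩).isLt
  omega

theorem evalMinors_eq_of_top_invertible (hr : 0 < r) (A : Matrix (Fin (d + r)) (Fin d) K)
    (hδ : (A.submatrix (iota0 d r hr).1 id).det ≠ 0)
    (G : PlRing K d (d + r)) (N : ℕ) (hG : G.IsHomogeneous N) :
    ∃ z : Fin r × Fin d → K, evalMinors K d (d + r) A G =
      (A.submatrix (iota0 d r hr).1 id).det ^ N * eval z (Psi K d r G) := by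
  set ι₀ := iota0 d r hr with hι₀
  set T : Matrix (Fin d) (Fin d) K := A.submatrix ι₀.1 id with hT
  have hTu : IsUnit T.det := IsUnit.mk0 _ hδ
  set Bot : Matrix (Fin r) (Fin d) K := A.submatrix (Fin.natAdd d) id with hBot
  set z : Fin r × Fin d → K := fun p => (Bot * T⁻¹) p.1 p.2 with hz
  have hιc : ∀ c : Fin d, ι₀.1 c = Fin.castAdd r c := fun c => Fin.ext rfl
  have hAeq : A = cellPt K d r z * T := by
    ext i j
    refine Fin.addCases (fun c => ?_) (fun ρ => ?_) i
    · rw [Matrix.mul_apply]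
      simp only [cellPt_castAdd]
      rw [Finset.sum_eq_single c]
      · rw [if_pos rfl, one_mul, hT, Matrix.submatrix_apply, hιc, id]
      · intro b _ hb
        rw [if_neg (Ne.symm hb), zero_mul]
      · intro h; exact absurd (Finset.mem_univ c) h
    · rw [Matrix.mul_apply]
      simp only [cellPt_natAdd]
      have h1 : ∑ k, z (ρ, k) * T k j = ((Bot * T⁻¹) * T) ρ j := by
        rw [Matrix.mul_apply]
      rw [h1, Matrix.nonsing_inv_mul_cancel_right _ _ hTu]
      rfl
  refine ⟨z, ?_⟩
  have h1 : (fun θ : Idx d (d + r) => (A.submatrix θ.1 id).det) =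
      fun θ => T.det * ((cellPt K d r z).submatrix θ.1 id).det := by
    funext θ
    have : A.submatrix θ.1 id = (cellPt K d r z).submatrix θ.1 id * T := by
      rw [hAeq]; ext s j; simp [Matrix.mul_apply]
    rw [this, Matrix.det_mul, mul_comm]
  have e1 : evalMinors K d (d + r) A G =
      eval (fun θ : Idx d (d + r) => (A.submatrix θ.1 id).det) G := rfl
  have e2 : evalMinors K d (d + r) (cellPt K d r z) G =
      eval (fun θ : Idx d (d + r) => ((cellPt K d r z).submatrix θ.1 id).det) G := rfl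
  rw [e1, h1, eval_mul_of_isHomogeneous hG, ← e2, eval_Psi]

theorem vanishing_le_schubertVanishing' {n : ℕ} (τ : Idx d n) :
    vanishing K d n ≤ schubertVanishing K d n τ := by
  unfold vanishing schubertVanishing
  exact le_iInf fun A => le_iInf fun _ => iInf_le _ A

theorem H1_top (hr : 0 < r) (G : PlRing K d (d + r)) (N : ℕ)
    (hG : G.IsHomogeneous N) (h : Psi K d r G ∈ (⊥ : Ideal (CellRing K d r))) :
    G * X (iota0 d r hr) ∈ schubertVanishing K d (d + r) (topIdx d r) := by
  apply vanishing_le_schubertVanishing'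
  rw [Ideal.mem_bot] at h
  unfold vanishing
  rw [Ideal.mem_iInf]
  intro A
  rw [RingHom.mem_ker]
  show evalMinors K d (d + r) A (G * X (iota0 d r hr)) = 0
  rw [map_mul, evalMinors_X]
  by_cases hδ : (A.submatrix (iota0 d r hr).1 id).det = 0
  · rw [hδ, mul_zero]
  · obtain ⟨z, hz⟩ := evalMinors_eq_of_top_invertible K hr A hδ G N hG
    rw [hz, h, map_zero, mul_zero, zero_mul]

end Top

end Groth.Agent.Lib.T2H8.GrassBit
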