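import Mathlib
import Groth.Prelude.Def_W4bk4grassmannianPl
import Groth.Prelude.Def_CAlgX
import Groth.Agent.Lib.T2H8GrassBitB

/-!
# The dictionary between Plücker indices and minors: counting functions (helper8)
-/

noncomputable section

open W4bk4grassmannian

namespace Groth.Agent.Lib.T2H8.GrassBit

universe u

section Count

variable {p p' N : ℕ}

/-- the number of entries of a tuple lying below `x` -/
def cntf (a : Fin p → Fin N) (x : ℕ) : ℕ := (Finset.univ.filter fun i => (a i).val < x).card

theorem cntf_le (a : Fin p → Fin N) (x : ℕ) : cntf a x ≤ p := by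
  unfold cntf
  calc _ ≤ (Finset.univ : Finset (Fin p)).card := Finset.card_filter_le _ _
    _ = p := by simp

theorem cntf_of_le (a : Fin p → Fin N) {x : ℕ} (h : N ≤ x) : cntf a x = p := by
  unfold cntf
  rw [Finset.filter_true_of_mem]
  · simp
  · intro i _
    exact lt_of_lt_of_le (a i).isLt h

theorem lt_iff_lt_cntf {a : Fin p → Fin N} (ha : StrictMono a) (j : Fin p) (x : ℕ) :
    (a j).val < x ↔ j.val < cntf a x := by
  unfold cntf
  constructor
  · intro h
    have h1 : Finset.Iic j ⊆ Finset.univ.filter fun i => (a i).val < x := by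
      intro i hi
      rw [Finset.mem_Iic] at hi
      rw [Finset.mem_filter]
      refine ⟨Finset.mem_univ _, lt_of_le_of_lt ?_ h⟩
      exact Fin.le_def.mp (ha.monotone hi)
    have h2 := Finset.card_le_card h1
    rw [Fin.card_Iic] at h2
    omega
  · intro h
    by_contra hcon
    rw [not_lt] at hcon
    have h1 : (Finset.univ.filter fun i => (a i).val < x) ⊆ Finset.Iio j := by
      intro i hi
      rw [Finset.mem_filter] at hi
      rw [Finset.mem_Iio]
      by_contra hij
      rw [not_lt] at hij
      have := Fin.le_def.mp (ha.monotone hij)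
      omega
    have h2 := Finset.card_le_card h1
    rw [Fin.card_Iio] at h2
    omega

theorem cntf_le_iff {a : Fin p → Fin N} {a' : Fin p' → Fin N} (ha : StrictMono a)
    (ha' : StrictMono a') :
    (∀ x, cntf a x ≤ cntf a' x) ↔
      (p ≤ p' ∧ ∀ (j : Fin p) (j' : Fin p'), j.val = j'.val → a' j' ≤ a j) := by
  constructor
  · intro h
    refine ⟨?_, ?_⟩
    · have h1 := h N
      rw [cntf_of_le a le_rfl] at h1
      exact le_trans h1 (cntf_le a' N)
    · intro j j' hjj'
      have h1 : j.val < cntf a ((a j).val + 1) := (lt_iff_lt_cntf ha j _).mp (Nat.lt_succ_self _)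
      have h2 := h ((a j).val + 1)
      have h3 : (a' j').val < (a j).val + 1 := (lt_iff_lt_cntf ha' j' _).mpr (by omega)
      rw [Fin.le_def]
      omega
  · rintro ⟨hpp, h⟩ x
    by_contra hcon
    rw [not_le] at hcon
    have h1 := cntf_le a x
    have h2 : (a ⟨cntf a' x, by omega⟩).val < x := (lt_iff_lt_cntf ha ⟨cntf a' x, by omega⟩ x).mpr hcon
    have h3 := h ⟨cntf a' x, by omega⟩ ⟨cntf a' x, by omega⟩ rfl
    rw [Fin.le_def] at h3
    have h4 := (lt_iff_lt_cntf ha' ⟨cntf a' x, by omega⟩ x).mp (lt_of_le_of_lt h3 h2)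
    simp at h4

end Count


section Dict

variable {d r q : ℕ}

theorem card_filter_split (P : Fin (d + r) → Prop) [DecidablePred P] :
    (Finset.univ.filter P).card =
      (Finset.univ.filter fun c : Fin d => P (Fin.castAdd r c)).card +
        (Finset.univ.filter fun a : Fin r => P (Fin.natAdd d a)).card := by
  simp only [Finset.card_filter]
  rw [Fin.sum_univ_add]

theorem card_filter_val_lt (N x : ℕ) :
    (Finset.univ.filter fun c : Fin N => c.val < x).card = min x N := by
  rcases le_or_gt N x with h | h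
  · rw [Finset.filter_true_of_mem (fun c _ => lt_of_lt_of_le c.isLt h)]
    simp [h]
  · have : (Finset.univ.filter fun c : Fin N => c.val < x) = Finset.Iio ⟨x, h⟩ := by
      ext c
      simp [Fin.lt_def]
    rw [this, Fin.card_Iio]
    simp [le_of_lt h]

/-- the dictionary relation between a Plücker index `θ` and the minor with rows `A` (reversed)
and columns `B` -/
structure IsDict (θ : Idx d (d + r)) (A : Fin q → Fin r) (B : Fin q → Fin d) : Prop where
  left : ∀ c : Fin d, Fin.castAdd r c ∈ Set.range θ.1 ↔ c ∉ Set.range B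
  right : ∀ a : Fin r, Fin.natAdd d a ∈ Set.range θ.1 ↔ Fin.rev a ∈ Set.range A

open Classical in
theorem cntf_eq_of_injective {p N : ℕ} (a : Fin p → Fin N) (ha : Function.Injective a) (x : ℕ) :
    cntf a x = (Finset.univ.filter fun y : Fin N => y ∈ Set.range a ∧ y.val < x).card := by
  unfold cntf
  rw [← Finset.card_image_of_injective _ ha]
  congr 1
  ext y
  simp only [Finset.mem_image, Finset.mem_filter, Finset.mem_univ, true_and, Set.mem_range]
  constructor
  · rintro ⟨i, hi, rfl⟩
    exact ⟨⟨i, rfl⟩, hi⟩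
  · rintro ⟨⟨i, rfl⟩, hi⟩
    exact ⟨i, hi, rfl⟩

open Classical in
theorem IsDict.cntf_eq {θ : Idx d (d + r)} {A : Fin q → Fin r} {B : Fin q → Fin d}
    (h : IsDict θ A B) (x : ℕ) :
    cntf θ.1 x = (Finset.univ.filter fun c : Fin d => c ∉ Set.range B ∧ c.val < x).card +
      (Finset.univ.filter fun a : Fin r => Fin.rev a ∈ Set.range A ∧ d + a.val < x).card := by
  rw [cntf_eq_of_injective θ.1 θ.2.injective, card_filter_split]
  congr 1
  · refine congrArg Finset.card (Finset.filter_congr fun c _ => ?_)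
    rw [h.left c]
    simp
  · refine congrArg Finset.card (Finset.filter_congr fun a _ => ?_)
    rw [h.right a]
    simp

open Classical in
theorem card_compl_filter_add (B : Fin q → Fin d) (hB : Function.Injective B) (x : ℕ) :
    (Finset.univ.filter fun c : Fin d => c ∉ Set.range B ∧ c.val < x).card + cntf B x =
      min x d := by
  rw [cntf_eq_of_injective B hB, ← card_filter_val_lt d x]
  rw [← Finset.card_union_of_disjoint]
  · congr 1
    ext c
    simp only [Finset.mem_union, Finset.mem_filter, Finset.mem_univ, true_and]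
    tauto
  · rw [Finset.disjoint_left]
    intro c hc hc'
    rw [Finset.mem_filter] at hc hc'
    exact hc.2.1 hc'.2.1

open Classical in
theorem card_rev_filter (A : Fin q → Fin r) (hA : Function.Injective A) (x : ℕ) :
    (Finset.univ.filter fun a : Fin r => Fin.rev a ∈ Set.range A ∧ d + a.val < x).card =
      (Finset.univ.filter fun j : Fin q => d + (r - 1 - (A j).val) < x).card := by
  have hinj : Function.Injective fun j => Fin.rev (A j) := fun i j hij => hA (Fin.rev_injective hij)
  rw [← Finset.card_image_of_injective _ hinj]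
  congr 1
  ext a
  simp only [Finset.mem_image, Finset.mem_filter, Finset.mem_univ, true_and, Set.mem_range]
  constructor
  · rintro ⟨⟨j, hj⟩, hx⟩
    refine ⟨j, ?_, ?_⟩
    · have h1 : a = Fin.rev (A j) := by rw [hj, Fin.rev_rev]
      rw [h1, Fin.val_rev] at hx
      have := (A j).isLt
      omega
    · rw [hj, Fin.rev_rev]
  · rintro ⟨j, hj, rfl⟩
    refine ⟨⟨j, by rw [Fin.rev_rev]⟩, ?_⟩
    rw [Fin.val_rev]
    have := (A j).isLt
    omega

theorem card_filter_rev_add (A : Fin q → Fin r) (y : ℕ) :
    (Finset.univ.filter fun j : Fin q => d + (r - 1 - (A j).val) < d + y).card + cntf A (r - y) =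
      q := by
  unfold cntf
  have h1 : (Finset.univ.filter fun j : Fin q => d + (r - 1 - (A j).val) < d + y) =
      Finset.univ.filter fun j : Fin q => ¬ (A j).val < r - y := by
    refine Finset.filter_congr fun j _ => ?_
    have := (A j).isLt
    omega
  rw [h1, add_comm, Finset.card_filter_add_card_filter_not]
  simp

theorem IsDict.F1 {θ : Idx d (d + r)} {A : Fin q → Fin r} {B : Fin q → Fin d}
    (h : IsDict θ A B) (hB : Function.Injective B) {x : ℕ} (hx : x ≤ d) :
    cntf θ.1 x + cntf B x = x := by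
  classical
  rw [h.cntf_eq x]
  have h1 : (Finset.univ.filter fun a : Fin r => Fin.rev a ∈ Set.range A ∧ d + a.val < x) = ∅ := by
    rw [Finset.filter_eq_empty_iff]
    intro a _
    omega
  rw [h1, Finset.card_empty, add_zero, card_compl_filter_add B hB x]
  exact min_eq_left hx

theorem IsDict.F2 {θ : Idx d (d + r)} {A : Fin q → Fin r} {B : Fin q → Fin d}
    (h : IsDict θ A B) (hA : Function.Injective A) (hB : Function.Injective B) (y : ℕ) :
    cntf θ.1 (d + y) + cntf A (r - y) = d := by
  classical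
  rw [h.cntf_eq (d + y), card_rev_filter A hA]
  have h1 := card_compl_filter_add B hB (d + y)
  rw [cntf_of_le B (Nat.le_add_right d y)] at h1
  have h2 := card_filter_rev_add (d := d) A y
  have h3 : min (d + y) d = d := by omega
  omega


theorem le_iff_cntf (θ θ' : Idx d (d + r)) :
    θ ≤ θ' ↔ ∀ x, cntf θ'.1 x ≤ cntf θ.1 x := by
  rw [cntf_le_iff θ'.2 θ.2]
  constructor
  · intro h
    refine ⟨le_rfl, fun j j' hjj' => ?_⟩
    have : j = j' := Fin.ext hjj'
    subst this
    exact h j
  · rintro ⟨-, h⟩ k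
    exact h k k rfl

variable {q' : ℕ}

theorem IsDict.le_iff {θ θ' : Idx d (d + r)} {A : Fin q → Fin r} {B : Fin q → Fin d}
    {A' : Fin q' → Fin r} {B' : Fin q' → Fin d}
    (h : IsDict θ A B) (h' : IsDict θ' A' B') (hA : StrictMono A) (hB : StrictMono B)
    (hA' : StrictMono A') (hB' : StrictMono B') :
    θ ≤ θ' ↔ (q ≤ q' ∧ ∀ (j : Fin q) (j' : Fin q'), j.val = j'.val →
      A' j' ≤ A j ∧ B' j' ≤ B j) := by
  have hqd : q ≤ d := by simpa using Fintype.card_le_of_injective B hB.injective
  have hqd' : q' ≤ d := by simpa using Fintype.card_le_of_injective B' hB'.injective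
  have key : θ ≤ θ' ↔ (∀ x, cntf A x ≤ cntf A' x) ∧ (∀ x, cntf B x ≤ cntf B' x) := by
    rw [le_iff_cntf]
    constructor
    · intro hθ
      have hq : q ≤ q' := by
        have e1 := h.F1 hB.injective (le_refl d)
        have e2 := h'.F1 hB'.injective (le_refl d)
        rw [cntf_of_le B le_rfl] at e1
        rw [cntf_of_le B' le_rfl] at e2
        have := hθ d
        omega
      refine ⟨fun w => ?_, fun x => ?_⟩
      · rcases le_or_gt w r with hw | hw
        · have e1 := h.F2 hA.injective hB.injective (r - w)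
          have e2 := h'.F2 hA'.injective hB'.injective (r - w)
          have e3 : r - (r - w) = w := by omega
          rw [e3] at e1 e2
          have := hθ (d + (r - w))
          omega
        · rw [cntf_of_le A (le_of_lt hw), cntf_of_le A' (le_of_lt hw)]
          exact hq
      · rcases le_or_gt x d with hx | hx
        · have e1 := h.F1 hB.injective hx
          have e2 := h'.F1 hB'.injective hx
          have := hθ x
          omega
        · rw [cntf_of_le B (le_of_lt hx), cntf_of_le B' (le_of_lt hx)]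
          exact hq
    · rintro ⟨hAA, hBB⟩ x
      rcases le_or_gt x d with hx | hx
      · have e1 := h.F1 hB.injective hx
        have e2 := h'.F1 hB'.injective hx
        have := hBB x
        omega
      · obtain ⟨y, rfl⟩ : ∃ y, x = d + y := ⟨x - d, by omega⟩
        have e1 := h.F2 hA.injective hB.injective y
        have e2 := h'.F2 hA'.injective hB'.injective y
        have := hAA (r - y)
        omega
  rw [key, cntf_le_iff hA hA', cntf_le_iff hB hB']
  constructor
  · rintro ⟨⟨h1, h2⟩, ⟨-, h3⟩⟩
    exact ⟨h1, fun j j' hjj' => ⟨h2 j j' hjj', h3 j j' hjj'⟩⟩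
  · rintro ⟨h1, h2⟩
    exact ⟨⟨h1, fun j j' hjj' => (h2 j j' hjj').1⟩, ⟨h1, fun j j' hjj' => (h2 j j' hjj').2⟩⟩

/-- the number of entries of `θ` below `d` -/
theorem IsDict.cntf_d {θ : Idx d (d + r)} {A : Fin q → Fin r} {B : Fin q → Fin d}
    (h : IsDict θ A B) (hA : Function.Injective A) (hB : Function.Injective B) :
    cntf θ.1 d + q = d := by
  have e1 := h.F2 hA hB 0
  rw [Nat.sub_zero, cntf_of_le A le_rfl, add_zero] at e1
  exact e1

theorem IsDict.val_lt_iff {θ : Idx d (d + r)} {A : Fin q → Fin r} {B : Fin q → Fin d}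
    (h : IsDict θ A B) (hA : Function.Injective A) (hB : Function.Injective B) (j : Fin d) :
    (θ.1 j).val < d ↔ j.val + q < d := by
  rw [lt_iff_lt_cntf θ.2 j d]
  have := h.cntf_d hA hB
  omega


open Groth.Agent.Lib.T2H8.Grass Groth.Agent.Lib.T2H8.GrassDet in
theorem IsDict.le_phiIdx_iff {t : ℕ} (ht : 0 < t) (htd : t ≤ d) (htr : t ≤ r)
    {θ : Idx d (d + r)} {A : Fin q → Fin r} {B : Fin q → Fin d}
    (h : IsDict θ A B) (hA : Function.Injective A) (hB : Function.Injective B) :
    θ ≤ phiIdx ht htd htr ↔ q + 1 ≤ t := by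
  have key := h.val_lt_iff hA hB ⟨d - t, Nat.sub_lt (lt_of_lt_of_le ht htd) ht⟩
  constructor
  · intro hle
    have h1 := Fin.le_def.mp (hle ⟨d - t, Nat.sub_lt (lt_of_lt_of_le ht htd) ht⟩)
    rw [phiIdx_val, if_pos (by show d - t + t ≤ d; omega)] at h1
    have h2 : (θ.1 ⟨d - t, Nat.sub_lt (lt_of_lt_of_le ht htd) ht⟩).val < d := by
      simp only at h1; omega
    have := key.mp h2
    simp only at this
    omega
  · intro hq
    by_contra hcon
    have h1 := le_of_not_le_phiIdx ht htd htr θ hcon
    have h2 : ¬ (θ.1 ⟨d - t, Nat.sub_lt (lt_of_lt_of_le ht htd) ht⟩).val < d := by omega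
    apply h2
    rw [key]
    simp only
    omega

theorem IsDict.unique_left {θ θ' : Idx d (d + r)} {A : Fin q → Fin r} {B : Fin q → Fin d}
    (h : IsDict θ A B) (h' : IsDict θ' A B) : θ = θ' := by
  apply Subtype.ext
  apply (StrictMono.range_inj θ.2 θ'.2).mp
  ext y
  induction y using Fin.addCases with
  | left c => rw [h.left, h'.left]
  | right a => rw [h.right, h'.right]

variable {q' : ℕ} in
theorem IsDict.unique_right {θ : Idx d (d + r)} {A : Fin q → Fin r} {B : Fin q → Fin d}
    {A' : Fin q' → Fin r} {B' : Fin q' → Fin d}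
    (h : IsDict θ A B) (h' : IsDict θ A' B') (hA : StrictMono A) (hB : StrictMono B)
    (hA' : StrictMono A') (hB' : StrictMono B') :
    (⟨q, A, B⟩ : Σ q : ℕ, (Fin q → Fin r) × (Fin q → Fin d)) = ⟨q', A', B'⟩ := by
  have hBB : Set.range B = Set.range B' := by
    ext c
    have h1 := h.left c
    have h2 := h'.left c
    tauto
  have hAA : Set.range A = Set.range A' := by
    ext a
    have h1 := h.right (Fin.rev a)
    have h2 := h'.right (Fin.rev a)
    rw [Fin.rev_rev] at h1 h2
    tauto
  have hq : q = q' := by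
    have e1 := Set.card_range_of_injective hB.injective
    have e2 := Set.card_range_of_injective hB'.injective
    simp only [Fintype.card_fin] at e1 e2
    rw [← e1, ← e2]
    simp only [hBB]
  subst hq
  have e1 := (StrictMono.range_inj hA hA').mp hAA
  have e2 := (StrictMono.range_inj hB hB').mp hBB
  subst e1 e2
  rfl

open Groth.Agent.Lib.T2H8.Grass Groth.Agent.Lib.T2H8.GrassDet in
theorem IsDict.ne_iota (hr : 0 < r) {θ : Idx d (d + r)} {A : Fin q → Fin r} {B : Fin q → Fin d}
    (h : IsDict θ A B) (hq : 0 < q) : θ ≠ iota0 d r hr := by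
  intro hθ
  have h1 := (h.left (B ⟨0, hq⟩)).mp (by
    rw [hθ]
    exact ⟨B ⟨0, hq⟩, Fin.ext rfl⟩)
  exact h1 ⟨_, rfl⟩

open Groth.Agent.Lib.T2H8.Grass Groth.Agent.Lib.T2H8.GrassDet in
theorem IsDict.eq_iota (hr : 0 < r) {θ : Idx d (d + r)} {A : Fin 0 → Fin r} {B : Fin 0 → Fin d}
    (h : IsDict θ A B) : θ = iota0 d r hr := by
  have hA : Function.Injective A := fun i => i.elim0
  have hB : Function.Injective B := fun i => i.elim0
  apply le_antisymm _ (iotaIdx_le _ _)
  intro j
  rw [Fin.le_def]
  show (θ.1 j).val ≤ j.val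
  have hj := j.isLt
  have h1 : (θ.1 ⟨d - 1, by omega⟩).val < d := (h.val_lt_iff hA hB ⟨d - 1, by omega⟩).mpr (by
    simp only; omega)
  have h2 := strictMono_add_le θ (d - 1 - j.val) j ⟨d - 1, by omega⟩ (by simp only; omega)
  omega


open Classical in
theorem exists_isDict_of_minor (A : Fin q → Fin r) (B : Fin q → Fin d)
    (hA : Function.Injective A) (hB : Function.Injective B) :
    ∃ θ : Idx d (d + r), IsDict θ A B := by
  set P : Fin (d + r) → Prop := fun y =>
    (∃ c, c ∉ Set.range B ∧ y = Fin.castAdd r c) ∨ (∃ j, y = Fin.natAdd d (Fin.rev (A j))) with hP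
  have hPl : ∀ c : Fin d, P (Fin.castAdd r c) ↔ c ∉ Set.range B := by
    intro c
    constructor
    · rintro (⟨c', hc', e⟩ | ⟨j, e⟩)
      · rwa [Fin.castAdd_injective d r e]
      · exfalso
        have := congrArg Fin.val e
        simp only [Fin.val_castAdd, Fin.val_natAdd] at this
        have := c.isLt
        omega
    · intro hc
      exact Or.inl ⟨c, hc, rfl⟩
  have hPr : ∀ a : Fin r, P (Fin.natAdd d a) ↔ Fin.rev a ∈ Set.range A := by
    intro a
    constructor
    · rintro (⟨c', _, e⟩ | ⟨j, e⟩)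
      · exfalso
        have := congrArg Fin.val e
        simp only [Fin.val_castAdd, Fin.val_natAdd] at this
        have := c'.isLt
        omega
      · have := Fin.natAdd_injective r d e
        exact ⟨j, by rw [this, Fin.rev_rev]⟩
    · rintro ⟨j, hj⟩
      exact Or.inr ⟨j, by rw [hj, Fin.rev_rev]⟩
  have hcard : (Finset.univ.filter P).card = d := by
    rw [card_filter_split]
    have h1 : (Finset.univ.filter fun c : Fin d => P (Fin.castAdd r c)) =
        Finset.univ.filter fun c : Fin d => c ∉ Set.range B ∧ c.val < d := by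
      refine Finset.filter_congr fun c _ => ?_
      rw [hPl c]
      simp
    have h2 : (Finset.univ.filter fun a : Fin r => P (Fin.natAdd d a)) =
        Finset.univ.filter fun a : Fin r => Fin.rev a ∈ Set.range A ∧ d + a.val < d + r := by
      refine Finset.filter_congr fun a _ => ?_
      rw [hPr a]
      simp
    rw [h1, h2, card_rev_filter A hA]
    have h3 := card_compl_filter_add B hB d
    rw [cntf_of_le B le_rfl, min_self] at h3
    have h4 : (Finset.univ.filter fun j : Fin q => d + (r - 1 - (A j).val) < d + r) =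
        Finset.univ := by
      rw [Finset.filter_true_of_mem]
      intro j _
      have := (A j).isLt
      omega
    rw [h4, Finset.card_univ, Fintype.card_fin]
    exact h3
  refine ⟨⟨fun k => (Finset.univ.filter P).orderEmbOfFin hcard k,
    ((Finset.univ.filter P).orderEmbOfFin hcard).strictMono⟩, ?_, ?_⟩
  · intro c
    rw [← hPl c]
    show Fin.castAdd r c ∈ Set.range ((Finset.univ.filter P).orderEmbOfFin hcard) ↔ _
    rw [Finset.range_orderEmbOfFin]
    simp
  · intro a
    rw [← hPr a]
    show Fin.natAdd d a ∈ Set.range ((Finset.univ.filter P).orderEmbOfFin hcard) ↔ _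
    rw [Finset.range_orderEmbOfFin]
    simp

open Classical in
theorem exists_isDict_of_idx (θ : Idx d (d + r)) :
    ∃ (q : ℕ) (A : Fin q → Fin r) (B : Fin q → Fin d),
      StrictMono A ∧ StrictMono B ∧ IsDict θ A B := by
  set Bset : Finset (Fin d) := Finset.univ.filter fun c => Fin.castAdd r c ∉ Set.range θ.1 with hBset
  set Aset' : Finset (Fin r) := Finset.univ.filter fun a => Fin.natAdd d a ∈ Set.range θ.1
    with hAset'
  set Aset : Finset (Fin r) := Aset'.image Fin.rev with hAset
  have hmemA : ∀ a, a ∈ Aset ↔ Fin.natAdd d (Fin.rev a) ∈ Set.range θ.1 := by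
    intro a
    rw [hAset, Finset.mem_image]
    constructor
    · rintro ⟨a', ha', rfl⟩
      rw [Fin.rev_rev]
      exact (Finset.mem_filter.mp ha').2
    · intro h
      exact ⟨Fin.rev a, Finset.mem_filter.mpr ⟨Finset.mem_univ _, h⟩, Fin.rev_rev a⟩
  have hcardA : Aset.card = Bset.card := by
    rw [hAset, Finset.card_image_of_injective _ Fin.rev_injective]
    have h1 := cntf_of_le θ.1 (le_refl (d + r))
    rw [cntf_eq_of_injective θ.1 θ.2.injective, card_filter_split] at h1
    have h2 : (Finset.univ.filter fun c : Fin d => Fin.castAdd r c ∈ Set.range θ.1 ∧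
        (Fin.castAdd r c).val < d + r) =
        Finset.univ.filter fun c : Fin d => ¬ Fin.castAdd r c ∉ Set.range θ.1 := by
      refine Finset.filter_congr fun c _ => ?_
      have := c.isLt
      simp only [Fin.val_castAdd, not_not]
      constructor
      · exact fun h => h.1
      · exact fun h => ⟨h, by omega⟩
    have h3 : (Finset.univ.filter fun a : Fin r => Fin.natAdd d a ∈ Set.range θ.1 ∧
        (Fin.natAdd d a).val < d + r) = Aset' := by
      refine Finset.filter_congr fun a _ => ?_
      have := a.isLt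
      simp only [Fin.val_natAdd]
      constructor
      · exact fun h => h.1
      · exact fun h => ⟨h, by omega⟩
    rw [h2, h3] at h1
    have h4 := Finset.card_filter_add_card_filter_not (s := (Finset.univ : Finset (Fin d)))
      (fun c : Fin d => Fin.castAdd r c ∉ Set.range θ.1)
    rw [Finset.card_univ, Fintype.card_fin] at h4
    have h5 : Bset.card =
        (Finset.univ.filter fun c : Fin d => Fin.castAdd r c ∉ Set.range θ.1).card := rfl
    omega
  refine ⟨Bset.card, fun j => Aset.orderEmbOfFin hcardA j, fun j => Bset.orderEmbOfFin rfl j,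
    (Aset.orderEmbOfFin hcardA).strictMono, (Bset.orderEmbOfFin rfl).strictMono, ?_, ?_⟩
  · intro c
    show _ ↔ c ∉ Set.range (Bset.orderEmbOfFin rfl)
    rw [Finset.range_orderEmbOfFin]
    simp [hBset]
  · intro a
    show _ ↔ Fin.rev a ∈ Set.range (Aset.orderEmbOfFin hcardA)
    rw [Finset.range_orderEmbOfFin, Finset.mem_coe, hmemA, Fin.rev_rev]


/-- the Plücker index of a minor (rows reversed) -/
def Theta (M : MinorIdx r d) : Idx d (d + r) :=
  (exists_isDict_of_minor M.2.1.1 M.2.2.1 M.2.1.2.injective M.2.2.2.injective).choose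

theorem Theta_spec (M : MinorIdx r d) : IsDict (Theta M) M.2.1.1 M.2.2.1 :=
  (exists_isDict_of_minor M.2.1.1 M.2.2.1 M.2.1.2.injective M.2.2.2.injective).choose_spec

theorem Theta_injective : Function.Injective (Theta : MinorIdx r d → Idx d (d + r)) := by
  intro M M' h
  have h1 := Theta_spec M
  have h2 := Theta_spec M'
  rw [h] at h1
  have h3 := h1.unique_right h2 M.2.1.2 M.2.2.2 M'.2.1.2 M'.2.2.2
  obtain ⟨s, ⟨A, hA⟩, ⟨B, hB⟩⟩ := M
  obtain ⟨s', ⟨A', hA'⟩, ⟨B', hB'⟩⟩ := M'
  simp only [Sigma.mk.injEq] at h3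
  obtain ⟨h4, h5⟩ := h3
  have h6 : s = s' := by omega
  subst h6
  have h7 := eq_of_heq h5
  simp only [Prod.mk.injEq] at h7
  obtain ⟨rfl, rfl⟩ := h7
  rfl

open Groth.Agent.Lib.T2H8.Grass Groth.Agent.Lib.T2H8.GrassDet in
theorem Theta_ne_iota (hr : 0 < r) (M : MinorIdx r d) : Theta M ≠ iota0 d r hr :=
  (Theta_spec M).ne_iota hr (Nat.succ_pos _)

open Groth.Agent.Lib.T2H8.Grass Groth.Agent.Lib.T2H8.GrassDet in
theorem exists_Theta_eq (hr : 0 < r) (θ : Idx d (d + r)) (hθ : θ ≠ iota0 d r hr) :
    ∃ M : MinorIdx r d, Theta M = θ := by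
  obtain ⟨q, A, B, hA, hB, h⟩ := exists_isDict_of_idx θ
  rcases Nat.eq_zero_or_pos q with hq | hq
  · subst hq
    exact absurd (h.eq_iota hr) hθ
  · obtain ⟨s, rfl⟩ : ∃ s, q = s + 1 := ⟨q - 1, by omega⟩
    refine ⟨⟨s, ⟨A, hA⟩, ⟨B, hB⟩⟩, ?_⟩
    exact (Theta_spec (⟨s, ⟨A, hA⟩, ⟨B, hB⟩⟩ : MinorIdx r d)).unique_left h

theorem Theta_le_iff (M M' : MinorIdx r d) : Theta M ≤ Theta M' ↔ MinorGE M M' := by
  rw [(Theta_spec M).le_iff (Theta_spec M') M.2.1.2 M.2.2.2 M'.2.1.2 M'.2.2.2]
  unfold MinorGE
  constructor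
  · rintro ⟨h1, h2⟩
    exact ⟨by omega, h2⟩
  · rintro ⟨h1, h2⟩
    exact ⟨by omega, h2⟩

open Groth.Agent.Lib.T2H8.Grass Groth.Agent.Lib.T2H8.GrassDet in
theorem Theta_le_phiIdx_iff {t : ℕ} (ht : 0 < t) (htd : t ≤ d) (htr : t ≤ r) (M : MinorIdx r d) :
    Theta M ≤ phiIdx ht htd htr ↔ M.1 + 1 ≤ t - 1 := by
  rw [(Theta_spec M).le_phiIdx_iff ht htd htr M.2.1.2.injective M.2.2.2.injective]
  omega

theorem minorIdx_size_le (M : MinorIdx r d) : M.1 + 1 ≤ min r d := by
  have h1 : M.1 + 1 ≤ r := by simpa using Fintype.card_le_of_injective _ M.2.1.2.injective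
  have h2 : M.1 + 1 ≤ d := by simpa using Fintype.card_le_of_injective _ M.2.2.2.injective
  exact le_min h1 h2

end Dict

end Groth.Agent.Lib.T2H8.GrassBit
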