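import Mathlib
import Groth.Prelude.Def_W4bk4grassmannianPl
import Groth.Prelude.Def_CAlgX
import Groth.Agent.Lib.T2H8GrassBitC

/-!
# Standard bitableaux: minors versus Plücker coordinates, row reversal (helper8)
-/

noncomputable section

open MvPolynomial W4bk4grassmannian

namespace Groth.Agent.Lib.T2H8.GrassBit

open Groth.Agent.Lib.T2H8.Grass Groth.Agent.Lib.T2H8.GrassDet

universe u

section Equivs

theorem exists_sumEquiv {α : Type*} [Fintype α] {s t : ℕ} (f : Fin s → α) (g : Fin t → α)
    (hf : Function.Injective f) (hg : Function.Injective g) (hdisj : ∀ i j, f i ≠ g j)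
    (hcard : s + t = Fintype.card α) :
    ∃ e : Fin s ⊕ Fin t ≃ α, (∀ i, e (Sum.inl i) = f i) ∧ (∀ j, e (Sum.inr j) = g j) := by
  have hinj : Function.Injective (Sum.elim f g) := by
    rintro (i | i) (j | j) h
    · exact congrArg Sum.inl (hf h)
    · exact absurd h (hdisj i j)
    · exact absurd h.symm (hdisj j i)
    · exact congrArg Sum.inr (hg h)
  have hbij : Function.Bijective (Sum.elim f g) := by
    rw [Fintype.bijective_iff_injective_and_card]
    exact ⟨hinj, by simp [hcard]⟩
  exact ⟨Equiv.ofBijective _ hbij, fun i => rfl, fun j => rfl⟩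

end Equivs

section RowRev

variable (K : Type u) [Field K] (d r : ℕ)

/-- reversal of the rows of the generic matrix -/
def rowRev : CellRing K d r ≃ₐ[K] CellRing K d r :=
  MvPolynomial.renameEquiv K (Equiv.prodCongr Fin.revPerm (Equiv.refl (Fin d)))

theorem rowRev_X (i : Fin r) (j : Fin d) :
    rowRev K d r (X (i, j)) = X (Fin.rev i, j) := by
  simp [rowRev]

theorem rowRev_det {q : ℕ} (f : Fin q → Fin r) (g : Fin q → Fin d) :
    rowRev K d r ((genMatrix K r d).submatrix f g).det =
      ((genMatrix K r d).submatrix (fun i => Fin.rev (f i)) g).det := by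
  have h1 := AlgHom.map_det (rowRev K d r).toAlgHom ((genMatrix K r d).submatrix f g)
  have h2 : (rowRev K d r).toAlgHom.mapMatrix ((genMatrix K r d).submatrix f g) =
      (genMatrix K r d).submatrix (fun i => Fin.rev (f i)) g := by
    ext i j
    simp [genMatrix, rowRev_X]
  rw [h2] at h1
  exact h1

theorem rowRev_rowRev (x : CellRing K d r) : rowRev K d r (rowRev K d r x) = x := by
  induction x using MvPolynomial.induction_on with
  | C a =>
    have h1 : rowRev K d r (C a) = C a := (rowRev K d r).commutes a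
    rw [h1, h1]
  | add p q hp hq => rw [map_add, map_add, hp, hq]
  | mul_X p i hp =>
    obtain ⟨i, j⟩ := i
    rw [map_mul, map_mul, hp, rowRev_X, rowRev_X, Fin.rev_rev]

theorem map_rowRev_minorIdeal (t : ℕ) :
    (CAlgX.minorIdeal (genMatrix K r d) t).map (rowRev K d r) =
      CAlgX.minorIdeal (genMatrix K r d) t := by
  have hle : (CAlgX.minorIdeal (genMatrix K r d) t).map (rowRev K d r) ≤
      CAlgX.minorIdeal (genMatrix K r d) t := by
    unfold CAlgX.minorIdeal
    rw [Ideal.map_span, Ideal.span_le]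
    rintro _ ⟨_, ⟨⟨f, g⟩, rfl⟩, rfl⟩
    simp only
    rw [rowRev_det]
    exact Ideal.subset_span ⟨(fun i => Fin.rev (f i), g), rfl⟩
  apply le_antisymm hle
  intro x hx
  have h1 : rowRev K d r x ∈ (CAlgX.minorIdeal (genMatrix K r d) t).map (rowRev K d r) :=
    Ideal.mem_map_of_mem _ hx
  have h2 := Ideal.mem_map_of_mem (rowRev K d r) (hle h1)
  rwa [rowRev_rowRev] at h2

end RowRev


section MinorId

variable (K : Type u) [Field K] {d r : ℕ}

theorem cellMinor_Theta_eq (M : MinorIdx r d) :
    ∃ u : ℤˣ, cellMinor K d r (Theta M) =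
      ((u : ℤ) : CellRing K d r) * rowRev K d r (minorOf K M) := by
  classical
  obtain ⟨p, ⟨A, hA⟩, ⟨B, hB⟩⟩ := M
  have hspec := Theta_spec (⟨p, ⟨A, hA⟩, ⟨B, hB⟩⟩ : MinorIdx r d)
  set θ := Theta (⟨p, ⟨A, hA⟩, ⟨B, hB⟩⟩ : MinorIdx r d) with hθ
  simp only at hspec
  have hqd : p + 1 ≤ d := by simpa using Fintype.card_le_of_injective B hB.injective
  -- enumeration of the complement of the columns
  have hcardc : Fintype.card {c : Fin d // c ∉ Set.range B} = d - (p + 1) := by
    rw [Fintype.card_subtype_compl, Fintype.card_fin]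
    have := Set.card_range_of_injective hB.injective
    rw [Fintype.card_fin] at this
    have h2 : Fintype.card {x : Fin d // x ∈ Set.range B} = p + 1 :=
      (Fintype.card_congr (Equiv.refl _)).trans this
    rw [h2]
  let e := Fintype.equivFinOfCardEq hcardc
  set θ₁ : Fin (d - (p + 1)) → Fin d := fun i => (e.symm i).1 with hθ₁
  have hθ₁inj : Function.Injective θ₁ := Subtype.val_injective.comp e.symm.injective
  have hθ₁B : ∀ i j, θ₁ i ≠ B j := fun i j h => (e.symm i).2 ⟨j, h.symm⟩
  obtain ⟨colEq, hcl, hcr⟩ := exists_sumEquiv θ₁ B hθ₁inj hB.injective hθ₁B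
    (by rw [Fintype.card_fin]; omega)
  -- the row equivalence
  have hL : ∀ i, ∃ k, θ.1 k = Fin.castAdd r (θ₁ i) := fun i =>
    (hspec.left (θ₁ i)).mpr (e.symm i).2
  have hR : ∀ j, ∃ k, θ.1 k = Fin.natAdd d (Fin.rev (A j)) := fun j =>
    (hspec.right (Fin.rev (A j))).mpr ⟨j, by rw [Fin.rev_rev]⟩
  choose fL hfL using hL
  choose fR hfR using hR
  have hfLinj : Function.Injective fL := by
    intro i j hij
    have := hfL i
    rw [hij, hfL j] at this
    exact hθ₁inj (Fin.castAdd_injective d r this).symm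
  have hfRinj : Function.Injective fR := by
    intro i j hij
    have := hfR i
    rw [hij, hfR j] at this
    exact hA.injective (Fin.rev_injective (Fin.natAdd_injective r d this)).symm
  have hdisj : ∀ i j, fL i ≠ fR j := by
    intro i j hij
    have := hfL i
    rw [hij, hfR j] at this
    have h2 := congrArg Fin.val this
    simp only [Fin.val_natAdd, Fin.val_castAdd] at h2
    have := (θ₁ i).isLt
    omega
  obtain ⟨rowEq, hrl, hrr⟩ := exists_sumEquiv fL fR hfLinj hfRinj hdisj
    (by rw [Fintype.card_fin]; omega)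
  obtain ⟨u, hu⟩ := Groth.Agent.S11275.block_det K d r (d - (p + 1)) (p + 1) θ₁ hθ₁inj B hθ₁B
    colEq hcl hcr (fun j => Fin.rev (A j)) θ.1 rowEq
    (fun i => by rw [hrl, hfL]) (fun j => by rw [hrr, hfR])
  refine ⟨u, ?_⟩
  unfold cellMinor
  rw [hu]
  congr 1
  unfold minorOf
  rw [rowRev_det]

theorem exists_unit_rowRev_minorOf (M : MinorIdx r d) :
    ∃ u : Kˣ, rowRev K d r (minorOf K M) = (u : K) • cellMinor K d r (Theta M) := by
  obtain ⟨u, hu⟩ := cellMinor_Theta_eq K M
  refine ⟨Units.map (Int.castRingHom K).toMonoidHom u, ?_⟩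
  rw [hu, MvPolynomial.smul_eq_C_mul, ← mul_assoc]
  have h1 : (C ((Units.map (Int.castRingHom K).toMonoidHom u : Kˣ) : K) : CellRing K d r) =
      ((u : ℤ) : CellRing K d r) := by
    simp
  rw [h1, ← Int.cast_mul, ← Units.val_mul, Int.units_mul_self]
  simp

end MinorId


section Transfer

variable (K : Type u) [Field K] {d r : ℕ}

/-- index type of the standard bitableaux with minors of size at most `t - 1` -/
abbrev BitIdx (r d t : ℕ) : Type :=
  Σ k : ℕ, {c : Fin k → MinorIdx r d //
    (∀ i, (c i).1 + 1 ≤ t - 1) ∧ ∀ i j, i < j → MinorGE (c i) (c j)}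

theorem rowRev_bitProd {k : ℕ} (c : Fin k → MinorIdx r d) :
    ∃ u : Kˣ, rowRev K d r (∏ i, minorOf K (c i)) =
      (u : K) • cellProd K (fun i => Theta (c (Fin.rev i))) := by
  choose u hu using fun i => exists_unit_rowRev_minorOf K (c i)
  refine ⟨∏ i, u i, ?_⟩
  rw [map_prod]
  simp_rw [hu]
  rw [Finset.prod_smul]
  congr 1
  · simp
  · unfold cellProd
    exact (Equiv.prod_comp Fin.revPerm (fun i => cellMinor K d r (Theta (c i)))).symm

/-- the map from standard bitableaux to standard chains -/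
def bitToFree (hr : 0 < r) (t : ℕ) (φ : Idx d (d + r))
    (hsize : ∀ M : MinorIdx r d, Theta M ≤ φ ↔ M.1 + 1 ≤ t - 1)
    (c : BitIdx r d t) : FreeIdx hr φ :=
  ⟨c.1, fun i => Theta (c.2.1 (Fin.rev i)), by
    intro a b hab
    rcases eq_or_lt_of_le hab with h | h
    · rw [h]
    · exact (Theta_le_iff _ _).mpr (c.2.2.2 _ _ (Fin.rev_lt_rev.mpr h)),
    fun k => (hsize _).mpr (c.2.2.1 _), fun k => Theta_ne_iota hr _⟩

theorem bitToFree_injective (hr : 0 < r) (t : ℕ) (φ : Idx d (d + r))
    (hsize : ∀ M : MinorIdx r d, Theta M ≤ φ ↔ M.1 + 1 ≤ t - 1) :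
    Function.Injective (bitToFree hr t φ hsize) := by
  rintro ⟨k, c, hc⟩ ⟨k', c', hc'⟩ h
  unfold bitToFree at h
  simp only [Sigma.mk.injEq] at h
  obtain ⟨rfl, h2⟩ := h
  have h3 := eq_of_heq h2
  simp only [Subtype.mk.injEq] at h3
  have h4 : c = c' := by
    funext i
    have := congrFun h3 (Fin.rev i)
    simp only [Fin.rev_rev] at this
    exact Theta_injective this
  subst h4
  rfl

theorem bitToFree_surjective (hr : 0 < r) (t : ℕ) (φ : Idx d (d + r))
    (hsize : ∀ M : MinorIdx r d, Theta M ≤ φ ↔ M.1 + 1 ≤ t - 1) :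
    Function.Surjective (bitToFree hr t φ hsize) := by
  rintro ⟨k, c', hanti, hle, hne⟩
  choose M hM using fun i => exists_Theta_eq hr (c' i) (hne i)
  refine ⟨⟨k, fun i => M (Fin.rev i), fun i => (hsize _).mp (by rw [hM]; exact hle _), ?_⟩, ?_⟩
  · intro i j hij
    rw [← Theta_le_iff, hM, hM]
    exact hanti (le_of_lt (Fin.rev_lt_rev.mpr hij))
  · unfold bitToFree
    simp only [Fin.rev_rev, hM]

theorem transfer (hr : 0 < r) (t : ℕ) (φ : Idx d (d + r)) (I : Ideal (CellRing K d r))
    (hI : I.map (rowRev K d r) = I)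
    (hsize : ∀ M : MinorIdx r d, Theta M ≤ φ ↔ M.1 + 1 ≤ t - 1)
    (hli : LinearIndependent K (fun c : FreeIdx hr φ => Ideal.Quotient.mk I (cellProd K c.2.1)))
    (hsp : Submodule.span K (Set.range
      fun c : FreeIdx hr φ => Ideal.Quotient.mk I (cellProd K c.2.1)) = ⊤) :
    LinearIndependent K (fun c : BitIdx r d t =>
        Ideal.Quotient.mk I (∏ i, minorOf K (c.2.1 i))) ∧
      Submodule.span K (Set.range fun c : BitIdx r d t =>
        Ideal.Quotient.mk I (∏ i, minorOf K (c.2.1 i))) = ⊤ := by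
  set ρ' : (CellRing K d r ⧸ I) ≃ₐ[K] (CellRing K d r ⧸ I) :=
    Ideal.quotientEquivAlg I I (rowRev K d r) hI.symm with hρ'
  have hρmk : ∀ x, ρ' (Ideal.Quotient.mk I x) = Ideal.Quotient.mk I (rowRev K d r x) :=
    fun x => rfl
  choose u hu using fun c : BitIdx r d t => rowRev_bitProd K c.2.1
  have hfam : ∀ c : BitIdx r d t, ρ' (Ideal.Quotient.mk I (∏ i, minorOf K (c.2.1 i))) =
      ((u c : Kˣ) : K) • Ideal.Quotient.mk I (cellProd K (bitToFree hr t φ hsize c).2.1) := by
    intro c
    rw [hρmk, hu c, mk_smul']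
    rfl
  constructor
  · apply LinearIndependent.of_comp ρ'.toLinearMap
    have h1 := (hli.comp _ (bitToFree_injective hr t φ hsize)).units_smul u
    have h2 : (⇑ρ'.toLinearMap ∘ fun c : BitIdx r d t =>
        Ideal.Quotient.mk I (∏ i, minorOf K (c.2.1 i))) =
        u • ((fun c : FreeIdx hr φ => Ideal.Quotient.mk I (cellProd K c.2.1)) ∘
          bitToFree hr t φ hsize) := by
      funext c
      exact hfam c
    rw [h2]
    exact h1
  · rw [eq_top_iff]
    rintro x -
    have h1 : ρ' x ∈ Submodule.span K (Set.range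
        fun c : FreeIdx hr φ => Ideal.Quotient.mk I (cellProd K c.2.1)) := by rw [hsp]; trivial
    have h2 : Submodule.span K (Set.range
        fun c : FreeIdx hr φ => Ideal.Quotient.mk I (cellProd K c.2.1)) ≤
        (Submodule.span K (Set.range fun c : BitIdx r d t =>
          Ideal.Quotient.mk I (∏ i, minorOf K (c.2.1 i)))).map ρ'.toLinearMap := by
      rw [Submodule.span_le]
      rintro _ ⟨c', rfl⟩
      obtain ⟨c, rfl⟩ := bitToFree_surjective hr t φ hsize c'
      refine ⟨((u c : Kˣ) : K)⁻¹ • Ideal.Quotient.mk I (∏ i, minorOf K (c.2.1 i)), ?_, ?_⟩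
      · exact Submodule.smul_mem _ _ (Submodule.subset_span ⟨c, rfl⟩)
      · show ρ' _ = _
        rw [map_smul, hfam c, smul_smul, inv_mul_cancel₀ (u c).ne_zero, one_smul]
    obtain ⟨y, hy, hyx⟩ := h2 h1
    have : y = x := ρ'.injective hyx
    rwa [this] at hy

end Transfer


section Main

theorem main_S11265 (K : Type u) [Field K] [IsAlgClosed K]
    (m n t : ℕ) (hm : 0 < m) (hn : 0 < n) (ht : 1 ≤ t) (htmn : t ≤ min m n + 1) :
    LinearIndependent K (fun c : (Σ k : ℕ, {c : Fin k → MinorIdx m n //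
        (∀ i, (c i).1 + 1 ≤ t - 1) ∧ ∀ i j, i < j → MinorGE (c i) (c j)}) =>
        Ideal.Quotient.mk (CAlgX.minorIdeal (genMatrix K m n) t)
          (Finset.univ.prod fun i => minorOf K (c.2.1 i))) ∧
      Submodule.span K (Set.range fun c : (Σ k : ℕ, {c : Fin k → MinorIdx m n //
        (∀ i, (c i).1 + 1 ≤ t - 1) ∧ ∀ i j, i < j → MinorGE (c i) (c j)}) =>
        Ideal.Quotient.mk (CAlgX.minorIdeal (genMatrix K m n) t)
          (Finset.univ.prod fun i => minorOf K (c.2.1 i))) = ⊤ := by
  haveI : Infinite K := inferInstance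
  have ht' : 0 < t := ht
  by_cases hcase : t ≤ min m n
  · have htd : t ≤ n := le_trans hcase (min_le_right _ _)
    have htr : t ≤ m := le_trans hcase (min_le_left _ _)
    exact transfer K hm t (phiIdx ht' htd htr) (CAlgX.minorIdeal (genMatrix K m n) t)
      (map_rowRev_minorIdeal K n m t)
      (fun M => Theta_le_phiIdx_iff ht' htd htr M)
      (indep_free K hn hm _ _ (fun G N hG h => H1_det K ht' htd htr G N hG h))
      (span_free K hm _ _ (fun θ h => H2_det K ht' htd htr θ h))
  · have hteq : t = min m n + 1 := by omega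
    have hbot : CAlgX.minorIdeal (genMatrix K m n) t = ⊥ := by
      rw [hteq]
      rcases le_total m n with h | h
      · rw [min_eq_left h]
        exact minorIdeal_eq_bot_of_rows_lt K m m n (Nat.lt_succ_self m)
      · rw [min_eq_right h]
        exact minorIdeal_eq_bot_of_cols_lt K m n n (Nat.lt_succ_self n)
    exact transfer K hm t (topIdx n m) (CAlgX.minorIdeal (genMatrix K m n) t)
      (map_rowRev_minorIdeal K n m t)
      (fun M => ⟨fun _ => by have := minorIdx_size_le M; omega, fun _ => le_topIdx _⟩)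
      (indep_free K hn hm _ _ (fun G N hG h => H1_top K hm G N hG (hbot ▸ h)))
      (span_free K hm _ _ (fun θ h => absurd (le_topIdx θ) h))

end Main

end Groth.Agent.Lib.T2H8.GrassBit
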