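import Mathlib
import Groth.Prelude.Def_W4bk4grassmannianPl
import Groth.Agent.Lib.Helper24Grass
import Groth.Agent.Lib.T2H8GrassPlucker
import Groth.Agent.Lib.T2H8GrassRich
import Groth.Agent.Lib.T2H8GrassPrime
import Groth.Agent.Lib.T2H8GrassFFT

noncomputable section

open MvPolynomial W4bk4grassmannian

namespace Groth.Agent.Lib.T2H8.Grass

universe u

section StraightA

variable (K : Type u) [Field K] (d n : ℕ)

/-- weights on the matrix variables: (degree, row index) -/
def wMat : Fin n × Fin d → ℕ × ℕ := fun p => (1, p.1.val)

/-- weights on the Plücker variables: (d, sum of rows) -/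
def wPl : Idx d n → ℕ × ℕ := fun θ => (d, Helper24Grass.wt θ.1)

theorem minor_isWeightedHomogeneous (a : Fin d → Fin n) :
    IsWeightedHomogeneous (wMat d n) (minor K d n a) (d, ∑ s, (a s).val) := by
  unfold minor
  rw [Matrix.det_apply]
  apply IsWeightedHomogeneous.sum
  intro σ _
  have hprod : IsWeightedHomogeneous (wMat d n)
      (∏ i, (Matrix.of fun s t : Fin d => (X (a s, t) : MatRing K d n)) (σ i) i)
      (d, ∑ s, (a s).val) := by
    have h1 := IsWeightedHomogeneous.prod (R := K) (w := wMat d n) Finset.univ
      (fun i : Fin d => (X (a (σ i), i) : MatRing K d n))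
      (fun i => wMat d n (a (σ i), i)) (fun i _ => isWeightedHomogeneous_X K (wMat d n) _)
    have h2 : ∑ i, wMat d n (a (σ i), i) = (d, ∑ s, (a s).val) := by
      apply Prod.ext
      · rw [Prod.fst_sum]
        simp [wMat]
      · rw [Prod.snd_sum]
        simp only [wMat]
        exact Equiv.sum_comp σ (fun s => (a s).val)
    rw [h2] at h1
    exact h1
  rcases Int.units_eq_one_or (Equiv.Perm.sign σ) with h | h
  · rw [h, one_smul]
    exact hprod
  · rw [h, Units.neg_smul, one_smul]
    exact hprod.neg

theorem pluckerMap_monomial_isWeightedHomogeneous (e : Idx d n →₀ ℕ) (c : K) :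
    IsWeightedHomogeneous (wMat d n) (pluckerMap K d n (monomial e c))
      (Finsupp.weight (wPl d n) e) := by
  unfold pluckerMap
  rw [aeval_monomial, Finsupp.weight_apply, Finsupp.prod, Finsupp.sum]
  have h1 := IsWeightedHomogeneous.prod (R := K) (w := wMat d n) e.support
    (fun θ : Idx d n => (minor K d n θ.1) ^ e θ)
    (fun θ => e θ • wPl d n θ)
    (fun θ _ => (minor_isWeightedHomogeneous K d n θ.1).pow (e θ))
  exact IsWeightedHomogeneous.C_mul h1 c

theorem pluckerMap_component (m : ℕ × ℕ) (F : PlRing K d n) :
    pluckerMap K d n (weightedHomogeneousComponent (wPl d n) m F) =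
      weightedHomogeneousComponent (wMat d n) m (pluckerMap K d n F) := by
  classical
  induction F using MvPolynomial.induction_on' with
  | monomial e c =>
    have h1 : (monomial e c : PlRing K d n) ∈
        weightedHomogeneousSubmodule K (wPl d n) (Finsupp.weight (wPl d n) e) :=
      isWeightedHomogeneous_monomial (wPl d n) e c rfl
    have h2 : pluckerMap K d n (monomial e c) ∈
        weightedHomogeneousSubmodule K (wMat d n) (Finsupp.weight (wPl d n) e) :=
      pluckerMap_monomial_isWeightedHomogeneous K d n e c
    rw [weightedHomogeneousComponent_of_mem h1, weightedHomogeneousComponent_of_mem h2]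
    split_ifs
    · rfl
    · rw [map_zero]
  | add p q hp hq => rw [map_add, map_add, map_add, map_add, hp, hq]

theorem mem_vanishing_iff [Infinite K] (F : PlRing K d n) :
    F ∈ vanishing K d n ↔ pluckerMap K d n F = 0 := by
  constructor
  · intro hF
    apply MvPolynomial.funext
    intro v
    rw [eval_pluckerMap, map_zero]
    unfold vanishing at hF
    simp only [Ideal.mem_iInf] at hF
    exact hF (ptMat K v)
  · intro h
    unfold vanishing
    simp only [Ideal.mem_iInf]
    intro A
    show evalMinors K d n A F = 0
    have h1 := eval_pluckerMap K (fun p : Fin n × Fin d => A p.1 p.2) F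
    rw [h, map_zero] at h1
    have h2 : ptMat K (fun p : Fin n × Fin d => A p.1 p.2) = A := by
      ext i s
      rfl
    rw [h2] at h1
    exact h1.symm

theorem component_mem_vanishing [Infinite K] (m : ℕ × ℕ) {F : PlRing K d n}
    (hF : F ∈ vanishing K d n) :
    weightedHomogeneousComponent (wPl d n) m F ∈ vanishing K d n := by
  rw [mem_vanishing_iff] at hF ⊢
  rw [pluckerMap_component, hF, map_zero]

theorem chainMon_isWeightedHomogeneous {m : ℕ} (c : Fin m → Idx d n) :
    IsWeightedHomogeneous (wPl d n) (chainMon K c)
      (m * d, ∑ k, Helper24Grass.wt (c k).1) := by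
  unfold chainMon
  have h1 := IsWeightedHomogeneous.prod (R := K) (w := wPl d n) Finset.univ
    (fun k : Fin m => (X (c k) : PlRing K d n))
    (fun k => wPl d n (c k)) (fun k _ => isWeightedHomogeneous_X K (wPl d n) _)
  have h2 : ∑ k, wPl d n (c k) = (m * d, ∑ k, Helper24Grass.wt (c k).1) := by
    apply Prod.ext
    · rw [Prod.fst_sum]
      simp [wPl]
    · rw [Prod.snd_sum]
      rfl
  rw [h2] at h1
  exact h1

end StraightA

end Groth.Agent.Lib.T2H8.Grass
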