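import Mathlib
import Groth.Prelude.Def_W4bk4grassmannianPl
import Groth.Agent.Lib.Helper24Grass
import Groth.Agent.Lib.T2H8GrassPlucker
import Groth.Agent.Lib.T2H8GrassRich
import Groth.Agent.Lib.T2H8GrassPrime
import Groth.Agent.Lib.T2H8GrassFFT
import Groth.Agent.Lib.T2H8GrassSMT
import Groth.Agent.Lib.T2H8GrassStraightA

noncomputable section

open MvPolynomial W4bk4grassmannian

namespace Groth.Agent.Lib.T2H8.Grass

universe u

section StraightB

variable {d n : ℕ}

theorem le_sup_left' (τ φ : Idx d n) : τ ≤ W4bk4grassmannian.sup τ φ := fun t => le_max_left _ _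

theorem le_sup_right' (τ φ : Idx d n) : φ ≤ W4bk4grassmannian.sup τ φ := fun t => le_max_right _ _

theorem sup_le' {τ φ α : Idx d n} (h1 : τ ≤ α) (h2 : φ ≤ α) : W4bk4grassmannian.sup τ φ ≤ α :=
  fun t => max_le (h1 t) (h2 t)

theorem inf_le_left' (τ φ : Idx d n) : W4bk4grassmannian.inf τ φ ≤ τ := fun t => min_le_left _ _

theorem inf_le_right' (τ φ : Idx d n) : W4bk4grassmannian.inf τ φ ≤ φ := fun t => min_le_right _ _

theorem le_inf' {τ φ β : Idx d n} (h1 : β ≤ τ) (h2 : β ≤ φ) : β ≤ W4bk4grassmannian.inf τ φ :=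
  fun t => le_min (h1 t) (h2 t)

theorem wt_sup_add_wt_inf (τ φ : Idx d n) :
    Helper24Grass.wt (W4bk4grassmannian.sup τ φ).1 + Helper24Grass.wt (W4bk4grassmannian.inf τ φ).1 =
      Helper24Grass.wt τ.1 + Helper24Grass.wt φ.1 := by
  unfold Helper24Grass.wt
  rw [← Finset.sum_add_distrib, ← Finset.sum_add_distrib]
  apply Finset.sum_congr rfl
  intro t _
  show (max (τ.1 t) (φ.1 t)).val + (min (τ.1 t) (φ.1 t)).val = _
  rcases le_total (τ.1 t) (φ.1 t) with h | h
  · rw [max_eq_right h, min_eq_left h]; omega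
  · rw [max_eq_left h, min_eq_right h]

/-- standard pairs `α ≥ β` of total weight `W` -/
abbrev SPair (d n W : ℕ) : Type :=
  {p : Idx d n × Idx d n // p.2 ≤ p.1 ∧ Helper24Grass.wt p.1.1 + Helper24Grass.wt p.2.1 = W}

theorem antitone_pair {a b : Idx d n} (h : b ≤ a) : Antitone (![a, b] : Fin 2 → Idx d n) := by
  intro i j hij
  fin_cases i <;> fin_cases j
  · exact le_refl _
  · exact h
  · exact absurd hij (by decide)
  · exact le_refl _

end StraightB

section StraightC

variable (K : Type u) [Field K] {d n : ℕ}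

theorem chainMon_pair (a b : Idx d n) : chainMon K (![a, b] : Fin 2 → Idx d n) = X a * X b := by
  unfold chainMon
  rw [Fin.prod_univ_two]
  rfl

theorem vanishing_le_schubertVanishing (τ : Idx d n) :
    vanishing K d n ≤ schubertVanishing K d n τ := by
  unfold vanishing schubertVanishing
  exact le_iInf fun A => le_iInf fun _ => iInf_le _ A

/-- the degree two standard expansion with the weight constraint -/
theorem exists_expansion [Infinite K] (hd : 0 < d) (τ φ : Idx d n) :
    ∃ c : SPair d n (Helper24Grass.wt τ.1 + Helper24Grass.wt φ.1) →₀ K,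
      X τ * X φ - c.sum (fun p a => a • ((X p.1.1 : PlRing K d n) * X p.1.2)) ∈
        vanishing K d n := by
  classical
  set W := Helper24Grass.wt τ.1 + Helper24Grass.wt φ.1 with hW
  have h0 := Helper24Grass.mk_chainMon_mem K (![τ, φ] : Fin 2 → Idx d n)
  unfold Helper24Grass.Std at h0
  obtain ⟨a, ha⟩ := Finsupp.mem_span_range_iff_exists_finsupp.mp h0
  have hG : chainMon K (![τ, φ] : Fin 2 → Idx d n) -
      ∑ i ∈ a.support, a i • chainMon K i.2.1 ∈ vanishing K d n := by
    apply plIdealTop_le_vanishing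
    rw [← Ideal.Quotient.eq_zero_iff_mem, map_sub, sub_eq_zero, ← ha, Finsupp.sum, map_sum]
    exact Finset.sum_congr rfl fun i _ => (mk_smul' _ _ _).symm
  have hG2 := component_mem_vanishing K d n (2 * d, W) hG
  rw [map_sub, map_sum] at hG2
  have h1 : weightedHomogeneousComponent (wPl d n) (2 * d, W)
      (chainMon K (![τ, φ] : Fin 2 → Idx d n)) = chainMon K (![τ, φ] : Fin 2 → Idx d n) := by
    apply weightedHomogeneousComponent_eq_self
    have := chainMon_isWeightedHomogeneous K d n (![τ, φ] : Fin 2 → Idx d n)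
    rw [Fin.sum_univ_two] at this
    exact this
  rw [h1, chainMon_pair] at hG2
  -- the sum lies in the span of the standard pairs
  have hV : ∑ i ∈ a.support, weightedHomogeneousComponent (wPl d n) (2 * d, W)
      (a i • chainMon K i.2.1) ∈ Submodule.span K (Set.range fun p : SPair d n W =>
        ((X p.1.1 : PlRing K d n) * X p.1.2)) := by
    apply Submodule.sum_mem
    rintro ⟨m, c, hc⟩ _
    rw [map_smul]
    apply Submodule.smul_mem
    have hmem : chainMon K c ∈ weightedHomogeneousSubmodule K (wPl d n)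
        (m * d, ∑ k, Helper24Grass.wt (c k).1) := chainMon_isWeightedHomogeneous K d n c
    simp only
    rw [weightedHomogeneousComponent_of_mem hmem]
    split_ifs with hw
    · have hm : m = 2 := by
        have := congrArg Prod.fst hw
        simp only at this
        exact (Nat.eq_of_mul_eq_mul_right hd this).symm
      subst hm
      have hw2 := congrArg Prod.snd hw
      simp only [Fin.sum_univ_two] at hw2
      have hc01 : c 1 ≤ c 0 := hc (by decide)
      refine Submodule.subset_span ⟨⟨(c 0, c 1), hc01, hw2.symm⟩, ?_⟩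
      unfold chainMon
      rw [Fin.prod_univ_two]
    · exact Submodule.zero_mem _
  obtain ⟨c, hc⟩ := Finsupp.mem_span_range_iff_exists_finsupp.mp hV
  refine ⟨c, ?_⟩
  rw [hc]
  exact hG2

end StraightC

section StraightD

variable (K : Type u) [Field K] [Infinite K] {d n : ℕ}

/-- shape of the terms of the expansion -/
theorem expansion_bounds (hd : 0 < d) (τ φ : Idx d n) {W : ℕ} (c : SPair d n W →₀ K)
    (hc : X τ * X φ - c.sum (fun p a => a • ((X p.1.1 : PlRing K d n) * X p.1.2)) ∈
      vanishing K d n) (p₀ : SPair d n W) (hp₀ : p₀ ∈ c.support) :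
    (τ ≤ p₀.1.1 ∧ φ ≤ p₀.1.1) ∧ (p₀.1.2 ≤ τ ∧ p₀.1.2 ≤ φ) := by
  classical
  by_contra hcon
  set α := p₀.1.1 with hα
  set β := p₀.1.2 with hβ
  have h1 : evalShape2 K β α (X τ * X φ) = 0 := by
    rw [map_mul, evalShape2_X, evalShape2_X]
    by_cases hτ : β ≤ τ ∧ τ ≤ α
    · by_cases hφ : β ≤ φ ∧ φ ≤ α
      · exact absurd ⟨⟨hτ.2, hφ.2⟩, ⟨hτ.1, hφ.1⟩⟩ hcon
      · rw [not_and_or] at hφ
        rcases hφ with h | h
        · rw [minorAt2_eq_zero_of_not_ge K h, mul_zero]
        · rw [minorAt2_eq_zero_of_not_le K h, mul_zero]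
    · rw [not_and_or] at hτ
      rcases hτ with h | h
      · rw [minorAt2_eq_zero_of_not_ge K h, zero_mul]
      · rw [minorAt2_eq_zero_of_not_le K h, zero_mul]
  have h2 := evalShape2_eq_zero_of_mem K β α (vanishing_le_schubertVanishing K α hc)
  rw [map_sub, h1, zero_sub, neg_eq_zero] at h2
  have h3 : c.sum (fun p a => a • ((X p.1.1 : PlRing K d n) * X p.1.2)) =
      ∑ p ∈ c.support, c p • chainMon K (![p.1.1, p.1.2] : Fin 2 → Idx d n) := by
    rw [Finsupp.sum]
    exact Finset.sum_congr rfl fun p _ => by rw [chainMon_pair]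
  rw [h3] at h2
  have h4 := indep_core2 K hd β α c.support (fun _ => 2)
    (fun p => (![p.1.1, p.1.2] : Fin 2 → Idx d n)) (fun p _ => antitone_pair p.2.1)
    (by
      intro i _ j _ hij
      have h5 := eq_of_heq (Sigma.mk.inj hij).2
      apply Subtype.ext
      apply Prod.ext
      · exact congrFun h5 0
      · exact congrFun h5 1) (fun p => c p) h2 p₀ hp₀
    (by
      intro k
      fin_cases k
      · exact ⟨p₀.2.1, le_refl _⟩
      · exact ⟨le_refl _, p₀.2.1⟩)
  exact (Finsupp.mem_support_iff.mp hp₀) h4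

theorem expansion_extreme (τ φ : Idx d n) (p : SPair d n (Helper24Grass.wt τ.1 + Helper24Grass.wt φ.1))
    (h1 : W4bk4grassmannian.sup τ φ ≤ p.1.1) (h2 : p.1.2 ≤ W4bk4grassmannian.inf τ φ) :
    p.1.1 = W4bk4grassmannian.sup τ φ ↔ p.1.2 = W4bk4grassmannian.inf τ φ := by
  have hw := wt_sup_add_wt_inf τ φ
  have hp := p.2.2
  constructor
  · intro h
    apply Helper24Grass.eq_of_le_of_wt_eq h2
    rw [h] at hp
    omega
  · intro h
    symm
    apply Helper24Grass.eq_of_le_of_wt_eq h1
    rw [h] at hp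
    omega

theorem straightening_shape (hd : 0 < d) (τ φ : Idx d n) :
    ∃ g ∈ Submodule.span K {f : PlRing K d n | ∃ α β : Idx d n,
        β ≤ α ∧ W4bk4grassmannian.sup τ φ < α ∧ β < W4bk4grassmannian.inf τ φ ∧
          f = MvPolynomial.X α * MvPolynomial.X β},
      MvPolynomial.X τ * MvPolynomial.X φ -
          MvPolynomial.X (W4bk4grassmannian.sup τ φ) * MvPolynomial.X (W4bk4grassmannian.inf τ φ) - g ∈
        vanishing K d n := by
  classical
  obtain ⟨c, hc⟩ := exists_expansion K hd τ φ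
  set σ := W4bk4grassmannian.sup τ φ with hσ
  set ρ := W4bk4grassmannian.inf τ φ with hρ
  have hb := expansion_bounds K hd τ φ c hc
  have hb1 : ∀ p ∈ c.support, σ ≤ p.1.1 := fun p hp => sup_le' (hb p hp).1.1 (hb p hp).1.2
  have hb2 : ∀ p ∈ c.support, p.1.2 ≤ ρ := fun p hp => le_inf' (hb p hp).2.1 (hb p hp).2.2
  have hρσ : ρ ≤ σ := le_trans (inf_le_left' τ φ) (le_sup_left' τ φ)
  let pstar : SPair d n (Helper24Grass.wt τ.1 + Helper24Grass.wt φ.1) :=
    ⟨(σ, ρ), hρσ, wt_sup_add_wt_inf τ φ⟩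
  have hne : ∀ p ∈ c.support, p ≠ pstar → σ < p.1.1 ∧ p.1.2 < ρ := by
    intro p hp hpne
    have hiff := expansion_extreme τ φ p (hb1 p hp) (hb2 p hp)
    have h1 : p.1.1 ≠ σ := by
      intro h
      apply hpne
      apply Subtype.ext
      exact Prod.ext h (hiff.mp h)
    have h2 : p.1.2 ≠ ρ := fun h => h1 (hiff.mpr h)
    exact ⟨lt_of_le_of_ne (hb1 p hp) (Ne.symm h1), lt_of_le_of_ne (hb2 p hp) h2⟩
  -- the coefficient of the extreme pair is one
  have hone : c pstar = 1 := by
    have h2 := evalShape2_eq_zero_of_mem K ρ σ (vanishing_le_schubertVanishing K σ hc)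
    rw [map_sub, sub_eq_zero, Finsupp.sum, map_sum] at h2
    have h3 : ∑ p ∈ c.support, evalShape2 K ρ σ (c p • ((X p.1.1 : PlRing K d n) * X p.1.2)) =
        c pstar • (minorAt2 K ρ σ σ * minorAt2 K ρ σ ρ) := by
      rw [Finset.sum_eq_single pstar]
      · rw [map_smul, map_mul, evalShape2_X, evalShape2_X]
      · intro p hp hpne
        have hlt := (hne p hp hpne).1
        rw [map_smul, map_mul, evalShape2_X, evalShape2_X,
          minorAt2_eq_zero_of_not_le K (not_le_of_gt hlt), zero_mul, smul_zero]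
      · intro hnot
        rw [Finsupp.notMem_support_iff.mp hnot, zero_smul, map_zero]
    rw [h3, map_mul, evalShape2_X, evalShape2_X] at h2
    have hL : (MonomialOrder.lex : MonomialOrder (Var n d)).Monic
        (minorAt2 K ρ σ τ * minorAt2 K ρ σ φ) :=
      (monic_minorAt2 K hd ρ σ τ (inf_le_left' τ φ) (le_sup_left' τ φ)).mul
        (monic_minorAt2 K hd ρ σ φ (inf_le_right' τ φ) (le_sup_right' τ φ))
    have hR : (MonomialOrder.lex : MonomialOrder (Var n d)).Monic
        (minorAt2 K ρ σ σ * minorAt2 K ρ σ ρ) :=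
      (monic_minorAt2 K hd ρ σ σ hρσ (le_refl _)).mul
        (monic_minorAt2 K hd ρ σ ρ (le_refl _) hρσ)
    have hL' : (MonomialOrder.lex : MonomialOrder (Var n d)).leadingCoeff
        (minorAt2 K ρ σ τ * minorAt2 K ρ σ φ) = 1 := hL
    have hR' : (MonomialOrder.lex : MonomialOrder (Var n d)).leadingCoeff
        (minorAt2 K ρ σ σ * minorAt2 K ρ σ ρ) = 1 := hR
    have h5 : (MonomialOrder.lex : MonomialOrder (Var n d)).leadingCoeff
        (c pstar • (minorAt2 K ρ σ σ * minorAt2 K ρ σ ρ)) = c pstar := by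
      rw [smul_eq_C_mul, MonomialOrder.leadingCoeff_mul, MonomialOrder.leadingCoeff_C, hR',
        mul_one]
    rw [← h5, ← h2, hL']
  have hmem : pstar ∈ c.support := by
    rw [Finsupp.mem_support_iff, hone]
    exact one_ne_zero
  refine ⟨∑ p ∈ c.support.erase pstar, c p • ((X p.1.1 : PlRing K d n) * X p.1.2), ?_, ?_⟩
  · apply Submodule.sum_mem
    intro p hp
    apply Submodule.smul_mem
    apply Submodule.subset_span
    have hp' := Finset.mem_erase.mp hp
    exact ⟨p.1.1, p.1.2, p.2.1, (hne p hp'.2 hp'.1).1, (hne p hp'.2 hp'.1).2, rfl⟩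
  · have hsplit : c.sum (fun p a => a • ((X p.1.1 : PlRing K d n) * X p.1.2)) =
        X σ * X ρ + ∑ p ∈ c.support.erase pstar, c p • ((X p.1.1 : PlRing K d n) * X p.1.2) := by
      rw [Finsupp.sum, ← Finset.add_sum_erase _ _ hmem, hone, one_smul]
    rw [hsplit] at hc
    rw [sub_sub]
    exact hc

end StraightD

end Groth.Agent.Lib.T2H8.Grass
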