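import Mathlib

/-!
# Rees degenerations (helper8)

Given a commutative `K`-algebra `A` with a basis `e`, a weight `v` on the index set such that the
spans `Fil k` of the basis vectors of weight `≤ k` form a multiplicative filtration, the Rees algebra
`R = ⊕ Fil k t^k ⊆ A[t]` is free over `K[t]`, its fibres at `c ≠ 0` are `A` and its fibre at `0` is
the associated graded ring.
-/

noncomputable section

open Polynomial

namespace Groth.Agent.Lib.T2H8.Rees

universe u

section Fil

variable {K : Type*} [Field K] {A : Type*} [CommRing A] [Algebra K A] {I : Type*}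
  (e : Module.Basis I K A) (v : I → ℕ)

/-- the filtration by weight -/
def Fil (k : ℕ) : Submodule K A where
  carrier := {x | ∀ i, e.repr x i ≠ 0 → v i ≤ k}
  add_mem' := by
    intro x y hx hy i hi
    rw [map_add, Finsupp.add_apply] at hi
    by_cases h : e.repr x i = 0
    · rw [h, zero_add] at hi
      exact hy i hi
    · exact hx i h
  zero_mem' := by
    intro i hi
    rw [map_zero, Finsupp.zero_apply] at hi
    exact absurd rfl hi
  smul_mem' := by
    intro c x hx i hi
    rw [map_smul, Finsupp.smul_apply, smul_eq_mul] at hi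
    exact hx i (right_ne_zero_of_mul hi)

theorem mem_Fil {k : ℕ} {x : A} : x ∈ Fil e v k ↔ ∀ i, e.repr x i ≠ 0 → v i ≤ k := Iff.rfl

theorem Fil_mono {k l : ℕ} (h : k ≤ l) : Fil e v k ≤ Fil e v l :=
  fun _ hx i hi => le_trans (hx i hi) h

theorem basis_mem_Fil {i : I} {k : ℕ} (h : v i ≤ k) : e i ∈ Fil e v k := by
  classical
  intro j hj
  rw [e.repr_self, Finsupp.single_apply] at hj
  split_ifs at hj with hij
  · rw [← hij]; exact h
  · exact absurd rfl hj

theorem linearCombination_mem_Fil {k : ℕ} (c : I →₀ K) (hc : ∀ i ∈ c.support, v i ≤ k) :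
    Finsupp.linearCombination K e c ∈ Fil e v k := by
  rw [Finsupp.linearCombination_apply, Finsupp.sum]
  exact Submodule.sum_mem _ fun i hi => Submodule.smul_mem _ _ (basis_mem_Fil e v (hc i hi))

theorem Fil_mul (hmul : ∀ i j, e i * e j ∈ Fil e v (v i + v j)) {a b : ℕ} {x y : A}
    (hx : x ∈ Fil e v a) (hy : y ∈ Fil e v b) : x * y ∈ Fil e v (a + b) := by
  rw [← e.linearCombination_repr x, ← e.linearCombination_repr y,
    Finsupp.linearCombination_apply, Finsupp.linearCombination_apply, Finsupp.sum, Finsupp.sum,
    Finset.sum_mul_sum]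
  refine Submodule.sum_mem _ fun i hi => Submodule.sum_mem _ fun j hj => ?_
  rw [smul_mul_smul_comm]
  apply Submodule.smul_mem
  have hi' := hx i (Finsupp.mem_support_iff.mp hi)
  have hj' := hy j (Finsupp.mem_support_iff.mp hj)
  exact Fil_mono e v (Nat.add_le_add hi' hj') (hmul i j)

end Fil

section ReesDef

variable {K : Type u} [Field K] {A : Type u} [CommRing A] [Algebra K A] {I : Type*}
  (e : Module.Basis I K A) (v : I → ℕ)

/-- the `K[t]`-algebra structure on `A[t]` -/
@[reducible] def polyAlgebra (K : Type u) [Field K] (A : Type u) [CommRing A] [Algebra K A] :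
    Algebra K[X] A[X] := (Polynomial.mapRingHom (algebraMap K A)).toAlgebra

attribute [local instance] polyAlgebra

theorem polyAlgebra_algebraMap (q : K[X]) : algebraMap K[X] A[X] q = q.map (algebraMap K A) := rfl

instance polyTower : IsScalarTower K K[X] A[X] := by
  apply IsScalarTower.of_algebraMap_eq
  intro x
  rw [polyAlgebra_algebraMap, Polynomial.algebraMap_apply, Polynomial.algebraMap_apply,
    Polynomial.map_C]
  rfl

/-- the Rees algebra of the filtration -/
def rees (h1 : (1 : A) ∈ Fil e v 0) (hmul : ∀ i j, e i * e j ∈ Fil e v (v i + v j)) :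
    Subalgebra K[X] A[X] where
  carrier := {p | ∀ k, p.coeff k ∈ Fil e v k}
  mul_mem' := by
    intro p q hp hq k
    rw [Polynomial.coeff_mul]
    refine Submodule.sum_mem _ fun ab hab => ?_
    have := Fil_mul e v hmul (hp ab.1) (hq ab.2)
    rwa [Finset.HasAntidiagonal.mem_antidiagonal.mp hab] at this
  add_mem' := by
    intro p q hp hq k
    rw [Polynomial.coeff_add]
    exact Submodule.add_mem _ (hp k) (hq k)
  algebraMap_mem' := by
    intro q k
    rw [polyAlgebra_algebraMap, Polynomial.coeff_map, Algebra.algebraMap_eq_smul_one]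
    exact Submodule.smul_mem _ _ (Fil_mono e v (Nat.zero_le k) h1)

end ReesDef

section ReesFree

variable {K : Type u} [Field K] {A : Type u} [CommRing A] [Algebra K A] {I : Type*}
  (e : Module.Basis I K A) (v : I → ℕ)
  (h1 : (1 : A) ∈ Fil e v 0) (hmul : ∀ i j, e i * e j ∈ Fil e v (v i + v j))

attribute [local instance] polyAlgebra

theorem coeff_map_mul_monomial (q : K[X]) (a : A) (n k : ℕ) :
    ((q.map (algebraMap K A)) * monomial n a).coeff k =
      if n ≤ k then (q.coeff (k - n)) • a else 0 := by
  rw [← C_mul_X_pow_eq_monomial, ← mul_assoc, coeff_mul_X_pow']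
  split_ifs with h
  · rw [coeff_mul_C, coeff_map, Algebra.smul_def]
  · rfl

/-- the basis elements `e i t^(v i)` of the Rees algebra -/
def bas (i : I) : rees e v h1 hmul :=
  ⟨monomial (v i) (e i), by
    intro k
    rw [coeff_monomial]
    split_ifs with h
    · exact basis_mem_Fil e v (le_of_eq h)
    · exact Submodule.zero_mem _⟩

theorem bas_val (i : I) : ((bas e v h1 hmul i : rees e v h1 hmul) : A[X]) = monomial (v i) (e i) :=
  rfl

theorem smul_val (q : K[X]) (r : rees e v h1 hmul) :
    ((q • r : rees e v h1 hmul) : A[X]) = (q.map (algebraMap K A)) * (r : A[X]) := by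
  rw [Subalgebra.coe_smul, Algebra.smul_def, polyAlgebra_algebraMap]

/-- the comparison map from the free module -/
def Phi : (I →₀ K[X]) →ₗ[K[X]] rees e v h1 hmul :=
  Finsupp.linearCombination K[X] (bas e v h1 hmul)

theorem Phi_val (g : I →₀ K[X]) :
    ((Phi e v h1 hmul g : rees e v h1 hmul) : A[X]) =
      ∑ i ∈ g.support, (g i).map (algebraMap K A) * monomial (v i) (e i) := by
  unfold Phi
  rw [Finsupp.linearCombination_apply, Finsupp.sum, AddSubmonoidClass.coe_finset_sum]
  exact Finset.sum_congr rfl fun i _ => by rw [smul_val, bas_val]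

theorem repr_coeff_Phi (g : I →₀ K[X]) (j : I) (k : ℕ) :
    e.repr (((Phi e v h1 hmul g : rees e v h1 hmul) : A[X]).coeff k) j =
      if v j ≤ k then (g j).coeff (k - v j) else 0 := by
  classical
  rw [Phi_val, Polynomial.finset_sum_coeff, map_sum, Finsupp.finset_sum_apply]
  have hterm : ∀ i ∈ g.support,
      e.repr (((g i).map (algebraMap K A) * monomial (v i) (e i)).coeff k) j =
        if i = j then (if v j ≤ k then (g j).coeff (k - v j) else 0) else 0 := by
    intro i _
    rw [coeff_map_mul_monomial]
    by_cases hij : i = j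
    · subst hij
      rw [if_pos rfl]
      split_ifs with h
      · rw [map_smul, e.repr_self, Finsupp.smul_apply, Finsupp.single_eq_same, smul_eq_mul,
          mul_one]
      · rw [map_zero, Finsupp.zero_apply]
    · rw [if_neg hij]
      split_ifs with h
      · rw [map_smul, e.repr_self, Finsupp.smul_apply, Finsupp.single_eq_of_ne (Ne.symm hij),
          smul_zero]
      · rw [map_zero, Finsupp.zero_apply]
  rw [Finset.sum_congr rfl hterm, Finset.sum_ite_eq' g.support j]
  split_ifs with hj h
  · rfl
  · rfl
  · rw [Finsupp.notMem_support_iff.mp hj, coeff_zero]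
  · rfl

theorem Phi_injective : Function.Injective (Phi e v h1 hmul) := by
  rw [← LinearMap.ker_eq_bot, LinearMap.ker_eq_bot']
  intro g hg
  ext j m
  have := repr_coeff_Phi e v h1 hmul g j (m + v j)
  rw [hg] at this
  simp only [ZeroMemClass.coe_zero, coeff_zero, map_zero, Finsupp.zero_apply,
    Nat.le_add_left, if_true, Nat.add_sub_cancel] at this
  rw [Finsupp.zero_apply, coeff_zero]
  exact this.symm

theorem Phi_surjective : Function.Surjective (Phi e v h1 hmul) := by
  classical
  intro r
  set p : A[X] := (r : A[X]) with hp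
  have hpk : ∀ k, p.coeff k ∈ Fil e v k := r.2
  refine ⟨∑ k ∈ p.support, ∑ i ∈ (e.repr (p.coeff k)).support,
    Finsupp.single i (monomial (k - v i) (e.repr (p.coeff k) i)), ?_⟩
  apply Subtype.ext
  rw [map_sum, AddSubmonoidClass.coe_finset_sum]
  have hk : ∀ k ∈ p.support, ((Phi e v h1 hmul (∑ i ∈ (e.repr (p.coeff k)).support,
      Finsupp.single i (monomial (k - v i) (e.repr (p.coeff k) i))) : rees e v h1 hmul) : A[X]) =
      monomial k (p.coeff k) := by
    intro k _
    rw [map_sum, AddSubmonoidClass.coe_finset_sum]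
    have hi : ∀ i ∈ (e.repr (p.coeff k)).support,
        ((Phi e v h1 hmul (Finsupp.single i (monomial (k - v i) (e.repr (p.coeff k) i))) :
          rees e v h1 hmul) : A[X]) = monomial k (e.repr (p.coeff k) i • e i) := by
      intro i hi
      have hvi : v i ≤ k := hpk k i (Finsupp.mem_support_iff.mp hi)
      unfold Phi
      rw [Finsupp.linearCombination_single, smul_val, bas_val, Polynomial.map_monomial,
        monomial_mul_monomial, Nat.sub_add_cancel hvi, Algebra.smul_def]
    rw [Finset.sum_congr rfl hi, ← map_sum]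
    congr 1
    have := e.linearCombination_repr (p.coeff k)
    rw [Finsupp.linearCombination_apply, Finsupp.sum] at this
    exact this
  rw [Finset.sum_congr rfl hk]
  exact (Polynomial.as_sum_support p).symm

/-- the Rees algebra is free over `K[t]` -/
def PhiEquiv : (I →₀ K[X]) ≃ₗ[K[X]] rees e v h1 hmul :=
  LinearEquiv.ofBijective (Phi e v h1 hmul)
    ⟨Phi_injective e v h1 hmul, Phi_surjective e v h1 hmul⟩

theorem free_rees : Module.Free K[X] (rees e v h1 hmul) :=
  Module.Free.of_equiv (PhiEquiv e v h1 hmul)

end ReesFree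

section ReesGeneric

variable {K : Type u} [Field K] {A : Type u} [CommRing A] [Algebra K A] {I : Type*}
  (e : Module.Basis I K A) (v : I → ℕ)
  (h1 : (1 : A) ∈ Fil e v 0) (hmul : ∀ i j, e i * e j ∈ Fil e v (v i + v j))

attribute [local instance] polyAlgebra

/-- evaluation at `t = c` -/
def evalAt (c : K) : rees e v h1 hmul →ₐ[K] A where
  toRingHom := (Polynomial.evalRingHom (algebraMap K A c)).comp (rees e v h1 hmul).subtype
  commutes' := by
    intro x
    show Polynomial.eval (algebraMap K A c) ((algebraMap K (rees e v h1 hmul) x : _) : A[X]) = _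
    rw [Subalgebra.coe_algebraMap, Polynomial.algebraMap_apply, Polynomial.eval_C]

theorem evalAt_apply (c : K) (r : rees e v h1 hmul) :
    evalAt e v h1 hmul c r = Polynomial.eval (algebraMap K A c) (r : A[X]) := rfl

theorem evalAt_Phi (c : K) (g : I →₀ K[X]) :
    evalAt e v h1 hmul c (Phi e v h1 hmul g) =
      ∑ i ∈ g.support, ((g i).eval c * c ^ v i) • e i := by
  rw [evalAt_apply, Phi_val, Polynomial.eval_finset_sum]
  apply Finset.sum_congr rfl
  intro i _
  rw [Polynomial.eval_mul, Polynomial.eval_monomial, Polynomial.eval_map_algebraMap,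
    Polynomial.aeval_algebraMap_apply_eq_algebraMap_eval, ← map_pow, Algebra.smul_def, map_mul]
  ring

theorem repr_evalAt_Phi (c : K) (g : I →₀ K[X]) (j : I) :
    e.repr (evalAt e v h1 hmul c (Phi e v h1 hmul g)) j = (g j).eval c * c ^ v j := by
  classical
  rw [evalAt_Phi, map_sum, Finsupp.finset_sum_apply]
  have hterm : ∀ i ∈ g.support, e.repr (((g i).eval c * c ^ v i) • e i) j =
      if i = j then (g j).eval c * c ^ v j else 0 := by
    intro i _
    rw [map_smul, e.repr_self, Finsupp.smul_apply, Finsupp.single_apply]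
    split_ifs with hij
    · subst hij
      rw [smul_eq_mul, mul_one]
    · rw [smul_zero]
  rw [Finset.sum_congr rfl hterm, Finset.sum_ite_eq' g.support j]
  split_ifs with hj
  · rfl
  · rw [Finsupp.notMem_support_iff.mp hj, Polynomial.eval_zero, zero_mul]

theorem evalAt_surjective (c : K) (hc : c ≠ 0) : Function.Surjective (evalAt e v h1 hmul c) := by
  intro a
  have hmem : a ∈ (LinearMap.range (evalAt e v h1 hmul c).toLinearMap) := by
    have hspan : (⊤ : Submodule K A) ≤ LinearMap.range (evalAt e v h1 hmul c).toLinearMap := by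
      rw [← e.span_eq, Submodule.span_le]
      rintro _ ⟨i, rfl⟩
      refine ⟨(c ^ v i)⁻¹ • bas e v h1 hmul i, ?_⟩
      rw [AlgHom.toLinearMap_apply, map_smul, evalAt_apply, bas_val, Polynomial.eval_monomial,
        ← map_pow, Algebra.smul_def, ← mul_assoc, mul_comm _ (e i), mul_assoc, ← map_mul,
        inv_mul_cancel₀ (pow_ne_zero _ hc), map_one, mul_one]
    exact hspan trivial
  obtain ⟨r, hr⟩ := hmem
  exact ⟨r, hr⟩

theorem ker_evalAt (c : K) (hc : c ≠ 0) :
    RingHom.ker (evalAt e v h1 hmul c) =
      Ideal.span {algebraMap K[X] (rees e v h1 hmul) (X - C c)} := by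
  apply le_antisymm
  · intro r hr
    rw [RingHom.mem_ker] at hr
    obtain ⟨g, rfl⟩ := Phi_surjective e v h1 hmul r
    have hroot : ∀ j, (g j).IsRoot c := by
      intro j
      have := repr_evalAt_Phi e v h1 hmul c g j
      rw [hr, map_zero, Finsupp.zero_apply] at this
      rcases mul_eq_zero.mp this.symm with h | h
      · exact h
      · exact absurd h (pow_ne_zero _ hc)
    set h : I →₀ K[X] := g.mapRange (fun p => p /ₘ (X - C c)) (Polynomial.zero_divByMonic _) with hh
    have hg : g = (X - C c) • h := by
      ext j : 1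
      rw [Finsupp.smul_apply, hh, Finsupp.mapRange_apply, smul_eq_mul]
      exact (Polynomial.mul_divByMonic_eq_iff_isRoot.mpr (hroot j)).symm
    rw [hg, map_smul, Algebra.smul_def]
    exact Ideal.mul_mem_right _ _ (Ideal.subset_span rfl)
  · rw [Ideal.span_le, Set.singleton_subset_iff]
    show evalAt e v h1 hmul c (algebraMap K[X] (rees e v h1 hmul) (X - C c)) = 0
    rw [evalAt_apply]
    show Polynomial.eval (algebraMap K A c) (algebraMap K[X] A[X] (X - C c)) = 0
    rw [polyAlgebra_algebraMap, Polynomial.map_sub, Polynomial.map_X, Polynomial.map_C,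
      Polynomial.eval_sub, Polynomial.eval_X, Polynomial.eval_C, sub_self]

/-- the fibre of the Rees algebra at `c ≠ 0` is `A` -/
def fibreEquiv (c : K) (hc : c ≠ 0) :
    (rees e v h1 hmul ⧸ Ideal.span {algebraMap K[X] (rees e v h1 hmul) (X - C c)}) ≃ₐ[K] A :=
  (Ideal.quotientEquivAlgOfEq K (ker_evalAt e v h1 hmul c hc).symm).trans
    (Ideal.quotientKerAlgEquivOfSurjective (evalAt_surjective e v h1 hmul c hc))

end ReesGeneric

section ReesSpecial

variable {K : Type u} [Field K] {A : Type u} [CommRing A] [Algebra K A] {I : Type*}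
  (e : Module.Basis I K A) (v : I → ℕ)
  {B : Type*} [CommRing B] [Algebra K B] (f : Module.Basis I K B)

/-- the weight `k` part of an element of `A`, read in `B` -/
def top (k : ℕ) : A →ₗ[K] B :=
  (Finsupp.linearCombination K (fun i => if v i = k then f i else 0)) ∘ₗ e.repr.toLinearMap

theorem top_basis (k : ℕ) (i : I) : top e v f k (e i) = if v i = k then f i else 0 := by
  unfold top
  rw [LinearMap.comp_apply, LinearEquiv.coe_coe, e.repr_self, Finsupp.linearCombination_single,
    one_smul]

theorem repr_top (k : ℕ) (x : A) (j : I) :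
    f.repr (top e v f k x) j = if v j = k then e.repr x j else 0 := by
  classical
  unfold top
  rw [LinearMap.comp_apply, LinearEquiv.coe_coe, Finsupp.linearCombination_apply, Finsupp.sum,
    map_sum, Finsupp.finset_sum_apply]
  have hterm : ∀ i ∈ (e.repr x).support,
      f.repr ((e.repr x i) • (if v i = k then f i else 0)) j =
        if i = j then (if v j = k then e.repr x j else 0) else 0 := by
    intro i _
    by_cases hij : i = j
    · subst hij
      rw [if_pos rfl]
      split_ifs with h
      · rw [map_smul, f.repr_self, Finsupp.smul_apply, Finsupp.single_eq_same, smul_eq_mul,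
          mul_one]
      · rw [smul_zero, map_zero, Finsupp.zero_apply]
    · rw [if_neg hij]
      split_ifs with h
      · rw [map_smul, f.repr_self, Finsupp.smul_apply, Finsupp.single_eq_of_ne (Ne.symm hij),
          smul_zero]
      · rw [smul_zero, map_zero, Finsupp.zero_apply]
  rw [Finset.sum_congr rfl hterm, Finset.sum_ite_eq' (e.repr x).support j]
  split_ifs with hj h h
  · rfl
  · rfl
  · exact (Finsupp.notMem_support_iff.mp hj).symm
  · rfl

theorem top_eq_zero {a k : ℕ} {x : A} (hx : x ∈ Fil e v a) (hak : a < k) : top e v f k x = 0 := by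
  apply f.repr.injective
  ext j
  rw [repr_top, map_zero, Finsupp.zero_apply]
  split_ifs with h
  · by_contra hne
    have := hx j hne
    omega
  · rfl

variable (hmul : ∀ i j, e i * e j ∈ Fil e v (v i + v j))
  (htop : ∀ i j, top e v f (v i + v j) (e i * e j) = f i * f j)

include hmul htop in
theorem top_mul {a b : ℕ} {x y : A} (hx : x ∈ Fil e v a) (hy : y ∈ Fil e v b) :
    top e v f (a + b) (x * y) = top e v f a x * top e v f b y := by
  conv_lhs => rw [← e.linearCombination_repr x, ← e.linearCombination_repr y]
  conv_rhs => rw [← e.linearCombination_repr x, ← e.linearCombination_repr y]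
  simp only [Finsupp.linearCombination_apply, Finsupp.sum, Finset.sum_mul_sum, map_sum]
  refine Finset.sum_congr rfl fun i hi => Finset.sum_congr rfl fun j hj => ?_
  have hi' := hx i (Finsupp.mem_support_iff.mp hi)
  have hj' := hy j (Finsupp.mem_support_iff.mp hj)
  rw [smul_mul_smul_comm, map_smul, map_smul, map_smul, smul_mul_smul_comm, top_basis, top_basis]
  congr 1
  by_cases hia : v i = a
  · by_cases hjb : v j = b
    · rw [if_pos hia, if_pos hjb, ← hia, ← hjb]
      exact htop i j
    · rw [if_neg hjb, mul_zero]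
      exact top_eq_zero e v f (hmul i j) (by omega)
  · rw [if_neg hia, zero_mul]
    exact top_eq_zero e v f (hmul i j) (by omega)

/-- the specialization map on all of `A[t]` (linear only) -/
def spec0 : A[X] →ₗ[K] B := Polynomial.lsum (fun k => top e v f k)

theorem spec0_monomial (k : ℕ) (x : A) : spec0 e v f (monomial k x) = top e v f k x := by
  unfold spec0
  rw [Polynomial.lsum_apply, Polynomial.sum_monomial_index]
  exact map_zero _

theorem spec0_eq_sum (p : A[X]) :
    spec0 e v f p = ∑ k ∈ p.support, top e v f k (p.coeff k) := by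
  unfold spec0
  rw [Polynomial.lsum_apply, Polynomial.sum_def]

theorem repr_spec0 (p : A[X]) (j : I) :
    f.repr (spec0 e v f p) j = e.repr (p.coeff (v j)) j := by
  classical
  rw [spec0_eq_sum, map_sum, Finsupp.finset_sum_apply]
  have hterm : ∀ k ∈ p.support, f.repr (top e v f k (p.coeff k)) j =
      if k = v j then e.repr (p.coeff (v j)) j else 0 := by
    intro k _
    rw [repr_top]
    by_cases h : v j = k
    · rw [if_pos h, if_pos h.symm, h]
    · rw [if_neg h, if_neg (Ne.symm h)]
  rw [Finset.sum_congr rfl hterm, Finset.sum_ite_eq' p.support (v j)]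
  split_ifs with hj
  · rfl
  · rw [Polynomial.notMem_support_iff.mp hj, map_zero, Finsupp.zero_apply]

include hmul htop in
theorem spec0_mul {p q : A[X]} (hp : ∀ k, p.coeff k ∈ Fil e v k) (hq : ∀ k, q.coeff k ∈ Fil e v k) :
    spec0 e v f (p * q) = spec0 e v f p * spec0 e v f q := by
  have hpq : p * q = ∑ a ∈ p.support, ∑ b ∈ q.support,
      monomial a (p.coeff a) * monomial b (q.coeff b) := by
    conv_lhs => rw [Polynomial.as_sum_support p, Polynomial.as_sum_support q]
    rw [Finset.sum_mul_sum]
  rw [hpq, map_sum, spec0_eq_sum e v f p, spec0_eq_sum e v f q, Finset.sum_mul_sum]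
  refine Finset.sum_congr rfl fun a _ => ?_
  rw [map_sum]
  refine Finset.sum_congr rfl fun b _ => ?_
  rw [monomial_mul_monomial, spec0_monomial]
  exact top_mul e v f hmul htop (hp a) (hq b)

end ReesSpecial

section ReesZero

variable {K : Type u} [Field K] {A : Type u} [CommRing A] [Algebra K A] {I : Type*}
  (e : Module.Basis I K A) (v : I → ℕ)
  {B : Type*} [CommRing B] [Algebra K B] (f : Module.Basis I K B)
  (h1 : (1 : A) ∈ Fil e v 0) (hmul : ∀ i j, e i * e j ∈ Fil e v (v i + v j))
  (htop : ∀ i j, top e v f (v i + v j) (e i * e j) = f i * f j)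
  (htop1 : top e v f 0 1 = 1)

attribute [local instance] polyAlgebra

/-- specialization at `t = 0` -/
def specAt0 : rees e v h1 hmul →ₐ[K] B where
  toFun r := spec0 e v f (r : A[X])
  map_one' := by
    show spec0 e v f ((1 : rees e v h1 hmul) : A[X]) = 1
    rw [OneMemClass.coe_one, ← Polynomial.monomial_zero_one, spec0_monomial]
    exact htop1
  map_mul' := by
    intro r s
    show spec0 e v f ((r * s : rees e v h1 hmul) : A[X]) = _
    rw [MulMemClass.coe_mul]
    exact spec0_mul e v f hmul htop r.2 s.2
  map_zero' := by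
    show spec0 e v f ((0 : rees e v h1 hmul) : A[X]) = 0
    rw [ZeroMemClass.coe_zero, map_zero]
  map_add' := by
    intro r s
    show spec0 e v f ((r + s : rees e v h1 hmul) : A[X]) = _
    rw [AddMemClass.coe_add, map_add]
  commutes' := by
    intro x
    show spec0 e v f ((algebraMap K (rees e v h1 hmul) x : rees e v h1 hmul) : A[X]) = _
    rw [Subalgebra.coe_algebraMap, Polynomial.algebraMap_apply, ← Polynomial.monomial_zero_left,
      spec0_monomial, Algebra.algebraMap_eq_smul_one, map_smul, htop1,
      Algebra.algebraMap_eq_smul_one]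

theorem specAt0_apply (r : rees e v h1 hmul) :
    specAt0 e v f h1 hmul htop htop1 r = spec0 e v f (r : A[X]) := rfl

theorem repr_specAt0_Phi (g : I →₀ K[X]) (j : I) :
    f.repr (specAt0 e v f h1 hmul htop htop1 (Phi e v h1 hmul g)) j = (g j).coeff 0 := by
  rw [specAt0_apply, repr_spec0, repr_coeff_Phi, if_pos (le_refl _), Nat.sub_self]

theorem specAt0_bas (j : I) : specAt0 e v f h1 hmul htop htop1 (bas e v h1 hmul j) = f j := by
  rw [specAt0_apply, bas_val, spec0_monomial, top_basis, if_pos rfl]

theorem specAt0_surjective : Function.Surjective (specAt0 e v f h1 hmul htop htop1) := by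
  intro b
  have hspan : (⊤ : Submodule K B) ≤
      LinearMap.range (specAt0 e v f h1 hmul htop htop1).toLinearMap := by
    rw [← f.span_eq, Submodule.span_le]
    rintro _ ⟨j, rfl⟩
    exact ⟨bas e v h1 hmul j, specAt0_bas e v f h1 hmul htop htop1 j⟩
  obtain ⟨r, hr⟩ := hspan (Submodule.mem_top (x := b))
  exact ⟨r, hr⟩

theorem ker_specAt0 :
    RingHom.ker (specAt0 e v f h1 hmul htop htop1) =
      Ideal.span {algebraMap K[X] (rees e v h1 hmul) X} := by
  apply le_antisymm
  · intro r hr
    rw [RingHom.mem_ker] at hr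
    obtain ⟨g, rfl⟩ := Phi_surjective e v h1 hmul r
    have hzero : ∀ j, (g j).coeff 0 = 0 := by
      intro j
      have := repr_specAt0_Phi e v f h1 hmul htop htop1 g j
      rw [hr, map_zero, Finsupp.zero_apply] at this
      exact this.symm
    set h : I →₀ K[X] := g.mapRange Polynomial.divX Polynomial.divX_zero with hh
    have hg : g = (X : K[X]) • h := by
      ext j : 1
      rw [Finsupp.smul_apply, hh, Finsupp.mapRange_apply, smul_eq_mul]
      have := Polynomial.divX_mul_X_add (g j)
      rw [hzero j, map_zero, add_zero] at this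
      rw [mul_comm]
      exact this.symm
    rw [hg, map_smul, Algebra.smul_def]
    exact Ideal.mul_mem_right _ _ (Ideal.subset_span rfl)
  · rw [Ideal.span_le, Set.singleton_subset_iff]
    show specAt0 e v f h1 hmul htop htop1 (algebraMap K[X] (rees e v h1 hmul) X) = 0
    rw [specAt0_apply]
    show spec0 e v f (algebraMap K[X] A[X] X) = 0
    rw [polyAlgebra_algebraMap, Polynomial.map_X, ← Polynomial.monomial_one_one_eq_X,
      spec0_monomial]
    exact top_eq_zero e v f h1 Nat.zero_lt_one

/-- the fibre of the Rees algebra at `0` is `B` -/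
def fibreZeroEquiv :
    (rees e v h1 hmul ⧸ Ideal.span {algebraMap K[X] (rees e v h1 hmul) X}) ≃ₐ[K] B :=
  (Ideal.quotientEquivAlgOfEq K (ker_specAt0 e v f h1 hmul htop htop1).symm).trans
    (Ideal.quotientKerAlgEquivOfSurjective (specAt0_surjective e v f h1 hmul htop htop1))

end ReesZero

section ReesMain

attribute [local instance] polyAlgebra

/-- **Rees degeneration**: a `K`-algebra `A` with basis `e` and a weight `v` defining a
multiplicative filtration degenerates, in a free family over `K[t]`, to any algebra `B` with a basis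
`f` whose multiplication is the top weight part of that of `A`. -/
theorem rees_degeneration {K : Type u} [Field K] {A : Type u} [CommRing A] [Algebra K A]
    {I : Type*} (e : Module.Basis I K A) (v : I → ℕ)
    {B : Type*} [CommRing B] [Algebra K B] (f : Module.Basis I K B)
    (h1 : (1 : A) ∈ Fil e v 0) (hmul : ∀ i j, e i * e j ∈ Fil e v (v i + v j))
    (htop : ∀ i j, top e v f (v i + v j) (e i * e j) = f i * f j)
    (htop1 : top e v f 0 1 = 1) :
    ∃ (R : Type u) (_ : CommRing R) (_ : Algebra K R) (_ : Algebra (Polynomial K) R)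
      (_ : IsScalarTower K (Polynomial K) R),
      Module.Free (Polynomial K) R ∧
      Nonempty ((R ⧸ Ideal.span {algebraMap (Polynomial K) R Polynomial.X}) ≃ₐ[K] B) ∧
      ∀ c : K, c ≠ 0 →
        Nonempty ((R ⧸ Ideal.span {algebraMap (Polynomial K) R (Polynomial.X - Polynomial.C c)})
          ≃ₐ[K] A) :=
  ⟨rees e v h1 hmul, inferInstance, inferInstance, inferInstance, inferInstance,
    free_rees e v h1 hmul, ⟨fibreZeroEquiv e v f h1 hmul htop htop1⟩,
    fun c hc => ⟨fibreEquiv e v h1 hmul c hc⟩⟩

end ReesMain

end Groth.Agent.Lib.T2H8.Rees
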