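import Mathlib
import Groth.Prelude.Def_W4bk4grassmannianPl
import Groth.Agent.Lib.Helper24Grass
import Groth.Agent.Lib.T2H8GrassSMT
import Groth.Agent.Lib.T2H8GrassStraightB
import Groth.Agent.Lib.T2H8Rees

/-!
# Degenerations of Schubert cones: the standard monomial basis (helper8)
-/

noncomputable section

open MvPolynomial W4bk4grassmannian

namespace Groth.Agent.Lib.T2H8.Grass

universe u

section DegenA

variable {d n : ℕ}

/-- standard chains on the Schubert variety `X(w)` -/
abbrev SI (w : Idx d n) : Type :=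
  Σ m : ℕ, {c : Fin m → Idx d n // Antitone c ∧ ∀ k, c k ≤ w}

theorem SI_inj (w : Idx d n) (i j : SI w)
    (h : (⟨i.1, i.2.1⟩ : Σ m : ℕ, Fin m → Idx d n) = ⟨j.1, j.2.1⟩) : i = j := by
  obtain ⟨m, c, hc⟩ := i
  obtain ⟨m', c', hc'⟩ := j
  simp only [Sigma.mk.injEq] at h
  obtain ⟨rfl, h⟩ := h
  have h' := eq_of_heq h
  subst h'
  rfl

/-- the empty chain -/
def SI.nil (w : Idx d n) : SI w := ⟨0, Fin.elim0, fun a => a.elim0, fun k => k.elim0⟩

end DegenA

section DegenB

variable (K : Type u) [Field K] {d n : ℕ}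

theorem indep_SI [Infinite K] (hd : 0 < d) (w : Idx d n) :
    LinearIndependent K (fun c : SI w =>
      Ideal.Quotient.mk (schubertVanishing K d n w) (chainMon K c.2.1)) := by
  rw [linearIndependent_iff']
  intro s g hsum i hi
  have h0 : ∑ i ∈ s, g i • chainMon K i.2.1 ∈ schubertVanishing K d n w := by
    rw [← Ideal.Quotient.eq_zero_iff_mem, map_sum, ← hsum]
    exact Finset.sum_congr rfl fun i _ => mk_smul' _ _ _
  exact indep_core K hd w s (fun i => i.1) (fun i => i.2.1) (fun i _ => i.2.2.1)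
    (fun i _ j _ h => SI_inj w i j h) g h0 i hi i.2.2.2

theorem span_SI (w : Idx d n) :
    ⊤ ≤ Submodule.span K (Set.range fun c : SI w =>
      Ideal.Quotient.mk (schubertVanishing K d n w) (chainMon K c.2.1)) := by
  have h1 := span_union K (fun _ : Unit => w) (schubertVanishing K d n w)
    (plIdealTop_le_schubertVanishing w) (fun φ hφ => X_mem_schubertVanishing (hφ ()))
  rw [← h1, Submodule.span_le]
  rintro _ ⟨⟨m, c, hc, hex⟩, rfl⟩
  obtain ⟨_, hle⟩ := hex
  exact Submodule.subset_span ⟨⟨m, c, hc, hle⟩, rfl⟩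

/-- the standard monomial basis of the Schubert cone -/
def stdBasis [Infinite K] (hd : 0 < d) (w : Idx d n) :
    Module.Basis (SI w) K (PlRing K d n ⧸ schubertVanishing K d n w) :=
  Module.Basis.mk (indep_SI K hd w) (span_SI K w)

theorem stdBasis_apply [Infinite K] (hd : 0 < d) (w : Idx d n) (c : SI w) :
    stdBasis K hd w c = Ideal.Quotient.mk (schubertVanishing K d n w) (chainMon K c.2.1) := by
  unfold stdBasis
  rw [Module.Basis.mk_apply]

theorem stdBasis_nil [Infinite K] (hd : 0 < d) (w : Idx d n) :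
    stdBasis K hd w (SI.nil w) = 1 := by
  rw [stdBasis_apply]
  unfold chainMon
  simp [SI.nil]

end DegenB

section DegenC

variable {d n : ℕ}

open Helper24Grass in
/-- the weight of a tuple for the degeneration to the Stanley–Reisner ring -/
def vT {m : ℕ} (t : Fin m → Idx d n) : ℕ := ∑ k, (2 ^ (d * n) - 2 ^ Helper24Grass.wt (t k).1)

theorem vT_add_pot {m : ℕ} (t : Fin m → Idx d n) :
    vT t + Helper24Grass.pot t = m * 2 ^ (d * n) := by
  unfold vT Helper24Grass.pot
  rw [← Finset.sum_add_distrib]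
  have : ∀ k ∈ (Finset.univ : Finset (Fin m)),
      (2 ^ (d * n) - 2 ^ Helper24Grass.wt (t k).1) + 2 ^ Helper24Grass.wt (t k).1 = 2 ^ (d * n) := by
    intro k _
    exact Nat.sub_add_cancel (Nat.pow_le_pow_right (by norm_num) (Helper24Grass.wt_le _))
  rw [Finset.sum_congr rfl this, Finset.sum_const, Finset.card_univ, Fintype.card_fin, smul_eq_mul]

theorem vT_comp_perm {m : ℕ} (t : Fin m → Idx d n) (σ : Equiv.Perm (Fin m)) :
    vT (t ∘ σ) = vT t := by
  unfold vT
  exact Equiv.sum_comp σ (fun k => 2 ^ (d * n) - 2 ^ Helper24Grass.wt (t k).1)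

theorem vT_append {m m' : ℕ} (t : Fin m → Idx d n) (t' : Fin m' → Idx d n) :
    vT (Fin.append t t') = vT t + vT t' := by
  unfold vT
  rw [Fin.sum_univ_add]
  simp only [Fin.append_left, Fin.append_right]

theorem vT_repl_lt {m : ℕ} (t : Fin m → Idx d n) (k₁ k₂ : Fin m) (h : k₁ ≠ k₂) (i' j' : Idx d n)
    (h1 : Helper24Grass.wt (t k₁).1 < Helper24Grass.wt i'.1)
    (h2 : Helper24Grass.wt (t k₂).1 ≤ Helper24Grass.wt (t k₁).1) :
    vT (Helper24Grass.repl t k₁ k₂ i' j') < vT t := by
  have e1 := vT_add_pot t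
  have e2 := vT_add_pot (Helper24Grass.repl t k₁ k₂ i' j')
  have e3 := Helper24Grass.pot_repl_gt t k₁ k₂ h i' j' h1 h2
  omega

end DegenC

section DegenD

variable (K : Type u) [Field K] [Infinite K] {d n : ℕ}

theorem chainMon_mem_of_not_le (w : Idx d n) {m : ℕ} (t : Fin m → Idx d n) (k : Fin m)
    (hk : ¬ t k ≤ w) : chainMon K t ∈ schubertVanishing K d n w := by
  unfold chainMon
  exact Ideal.mem_of_dvd _ (Finset.dvd_prod_of_mem _ (Finset.mem_univ k))
    (X_mem_schubertVanishing hk)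

theorem chainMon_comp_perm {m : ℕ} (t : Fin m → Idx d n) (σ : Equiv.Perm (Fin m)) :
    chainMon K (t ∘ σ) = chainMon K t := by
  unfold chainMon
  exact Equiv.prod_comp σ (fun k => (X (t k) : PlRing K d n))

/-- one straightening step: rewriting an incomparable pair -/
theorem mk_chainMon_eq_sum (w : Idx d n) {m : ℕ} (t : Fin m → Idx d n) (k₁ k₂ : Fin m)
    (hk : k₁ ≠ k₂) {W : ℕ} (c : SPair d n W →₀ K)
    (hc : X (t k₁) * X (t k₂) - c.sum (fun p a => a • ((X p.1.1 : PlRing K d n) * X p.1.2)) ∈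
      vanishing K d n) :
    Ideal.Quotient.mk (schubertVanishing K d n w) (chainMon K t) =
      ∑ p ∈ c.support, c p • Ideal.Quotient.mk (schubertVanishing K d n w)
        (chainMon K (Helper24Grass.repl t k₁ k₂ p.1.1 p.1.2)) := by
  have h1 : ∑ p ∈ c.support, c p • Ideal.Quotient.mk (schubertVanishing K d n w)
      (chainMon K (Helper24Grass.repl t k₁ k₂ p.1.1 p.1.2)) =
      Ideal.Quotient.mk (schubertVanishing K d n w)
        (∑ p ∈ c.support, c p • chainMon K (Helper24Grass.repl t k₁ k₂ p.1.1 p.1.2)) := by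
    rw [map_sum]
    exact Finset.sum_congr rfl fun p _ => (mk_smul' _ _ _).symm
  rw [h1, Ideal.Quotient.eq]
  apply vanishing_le_schubertVanishing K w
  have h2 : chainMon K t - ∑ p ∈ c.support,
      c p • chainMon K (Helper24Grass.repl t k₁ k₂ p.1.1 p.1.2) =
      (X (t k₁) * X (t k₂) - c.sum (fun p a => a • ((X p.1.1 : PlRing K d n) * X p.1.2))) *
        ∏ k ∈ (Finset.univ.erase k₁).erase k₂, (X (t k) : PlRing K d n) := by
    rw [sub_mul, Finsupp.sum, Finset.sum_mul, ← Helper24Grass.chainMon_split K t k₁ k₂ hk]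
    congr 1
    apply Finset.sum_congr rfl
    intro p _
    rw [Helper24Grass.chainMon_repl K t k₁ k₂ hk, smul_mul_assoc]
  rw [h2]
  exact Ideal.mul_mem_right _ _ hc

theorem refSR_step (hd : 0 < d) (w : Idx d n) (N : ℕ)
    (ih : ∀ N' < N, ∀ {m : ℕ} (t : Fin m → Idx d n), vT t = N' →
      ∀ i, (stdBasis K hd w).repr
        (Ideal.Quotient.mk (schubertVanishing K d n w) (chainMon K t)) i ≠ 0 → vT i.2.1 ≤ N')
    {m : ℕ} (t : Fin m → Idx d n) (ht : vT t = N) (k₁ k₂ : Fin m)
    (h1 : ¬ t k₁ ≤ t k₂) (h2 : ¬ t k₂ ≤ t k₁)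
    (hw : Helper24Grass.wt (t k₂).1 ≤ Helper24Grass.wt (t k₁).1) :
    ∀ i, (stdBasis K hd w).repr
      (Ideal.Quotient.mk (schubertVanishing K d n w) (chainMon K t)) i ≠ 0 → vT i.2.1 < N := by
  have hk : k₁ ≠ k₂ := by
    rintro rfl
    exact h1 (le_refl _)
  obtain ⟨c, hc⟩ := exists_expansion K hd (t k₁) (t k₂)
  have hb := expansion_bounds K hd (t k₁) (t k₂) c hc
  rw [mk_chainMon_eq_sum K w t k₁ k₂ hk c hc]
  intro i hi
  rw [map_sum, Finsupp.finset_sum_apply] at hi
  obtain ⟨p, hp, hpi⟩ := Finset.exists_ne_zero_of_sum_ne_zero hi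
  rw [map_smul, Finsupp.smul_apply, smul_eq_mul] at hpi
  have hpi' := right_ne_zero_of_mul hpi
  have hwt : Helper24Grass.wt (t k₁).1 < Helper24Grass.wt p.1.1.1 := by
    have hle := (hb p hp).1.1
    apply lt_of_le_of_ne (Helper24Grass.wt_mono hle)
    intro heq
    have := Helper24Grass.eq_of_le_of_wt_eq hle heq
    apply h2
    rw [this]
    exact (hb p hp).1.2
  have hlt := vT_repl_lt t k₁ k₂ hk p.1.1 p.1.2 hwt hw
  rw [ht] at hlt
  exact lt_of_le_of_lt (ih _ hlt _ rfl i hpi') hlt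

/-- refined straightening: the standard expansion of a monomial only involves standard monomials of
weight at most that of the monomial, and of strictly smaller weight when the monomial is not
a chain -/
theorem refSR (hd : 0 < d) (w : Idx d n) :
    ∀ (N : ℕ) {m : ℕ} (t : Fin m → Idx d n), vT t = N →
      (∀ i, (stdBasis K hd w).repr
        (Ideal.Quotient.mk (schubertVanishing K d n w) (chainMon K t)) i ≠ 0 → vT i.2.1 ≤ N) ∧
      ((∃ k₁ k₂, ¬ t k₁ ≤ t k₂ ∧ ¬ t k₂ ≤ t k₁) →
        ∀ i, (stdBasis K hd w).repr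
          (Ideal.Quotient.mk (schubertVanishing K d n w) (chainMon K t)) i ≠ 0 → vT i.2.1 < N) := by
  classical
  intro N
  induction N using Nat.strong_induction_on with
  | _ N ih =>
    intro m t ht
    have ih' : ∀ N' < N, ∀ {m : ℕ} (t : Fin m → Idx d n), vT t = N' →
        ∀ i, (stdBasis K hd w).repr
          (Ideal.Quotient.mk (schubertVanishing K d n w) (chainMon K t)) i ≠ 0 →
          vT i.2.1 ≤ N' := fun N' hN' m t ht' => (ih N' hN' t ht').1
    have hstrict : (∃ k₁ k₂, ¬ t k₁ ≤ t k₂ ∧ ¬ t k₂ ≤ t k₁) →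
        ∀ i, (stdBasis K hd w).repr
          (Ideal.Quotient.mk (schubertVanishing K d n w) (chainMon K t)) i ≠ 0 →
          vT i.2.1 < N := by
      rintro ⟨k₁, k₂, h1, h2⟩
      rcases le_total (Helper24Grass.wt (t k₂).1) (Helper24Grass.wt (t k₁).1) with hw | hw
      · exact refSR_step K hd w N ih' t ht k₁ k₂ h1 h2 hw
      · exact refSR_step K hd w N ih' t ht k₂ k₁ h2 h1 hw
    refine ⟨?_, hstrict⟩
    by_cases hcomp : ∀ k₁ k₂, t k₁ ≤ t k₂ ∨ t k₂ ≤ t k₁
    · obtain ⟨σ, hσ⟩ := Helper24Grass.sortable t hcomp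
      by_cases hw : ∀ k, t k ≤ w
      · let c : SI w := ⟨m, t ∘ σ, hσ, fun k => hw (σ k)⟩
        have hc : Ideal.Quotient.mk (schubertVanishing K d n w) (chainMon K t) =
            stdBasis K hd w c := by
          rw [stdBasis_apply, ← chainMon_comp_perm K t σ]
        rw [hc, Module.Basis.repr_self]
        intro i hi
        rw [Finsupp.single_apply] at hi
        split_ifs at hi with hci
        · rw [← hci]
          show vT (t ∘ σ) ≤ N
          rw [vT_comp_perm, ht]
        · exact absurd rfl hi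
      · push Not at hw
        obtain ⟨k, hk⟩ := hw
        rw [Ideal.Quotient.eq_zero_iff_mem.mpr (chainMon_mem_of_not_le K w t k hk), map_zero]
        intro i hi
        exact absurd rfl hi
    · push Not at hcomp
      obtain ⟨k₁, k₂, h1, h2⟩ := hcomp
      intro i hi
      exact le_of_lt (hstrict ⟨k₁, k₂, h1, h2⟩ i hi)

end DegenD

end Groth.Agent.Lib.T2H8.Grass
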