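import Mathlib
import Groth.Prelude.Def_W4bk4grassmannianPl
import Groth.Agent.Lib.Helper24Grass
import Groth.Agent.Lib.T2H8GrassIndep
import Groth.Agent.Lib.T2H8GrassDegenA

/-!
# Degenerations of Schubert cones: monomials in the variables `x_θ`, `θ ≤ w` (helper8)
-/

noncomputable section

open MvPolynomial W4bk4grassmannian

namespace Groth.Agent.Lib.T2H8.Grass

universe u

section DegenE

variable (K : Type u) [Field K] {d n : ℕ}

/-- the monomial of a tuple of variables -/
def tupMon {σ : Type*} {m : ℕ} (t : Fin m → σ) : MvPolynomial σ K := ∏ k, X (t k)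

theorem span_tupMon_eq_top (σ : Type*) :
    Submodule.span K {p : MvPolynomial σ K | ∃ (m : ℕ) (t : Fin m → σ), p = tupMon K t} = ⊤ := by
  rw [eq_top_iff]
  rintro p -
  induction p using MvPolynomial.induction_on with
  | C a =>
    have : (C a : MvPolynomial σ K) = a • tupMon K (Fin.elim0 : Fin 0 → σ) := by
      unfold tupMon
      simp [Algebra.smul_def]
    rw [this]
    exact Submodule.smul_mem _ _ (Submodule.subset_span ⟨0, _, rfl⟩)
  | add p q hp hq => exact Submodule.add_mem _ hp hq
  | mul_X p θ hp =>
    induction hp using Submodule.span_induction with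
    | mem x hx =>
      obtain ⟨m, c, rfl⟩ := hx
      refine Submodule.subset_span ⟨m + 1, Fin.snoc c θ, ?_⟩
      unfold tupMon
      rw [Fin.prod_univ_castSucc]
      simp
    | zero => rw [zero_mul]; exact Submodule.zero_mem _
    | add x y _ _ hx hy => rw [add_mul]; exact Submodule.add_mem _ hx hy
    | smul a x _ hx => rw [smul_mul_assoc]; exact Submodule.smul_mem _ _ hx

theorem tupMon_comp_perm {σ : Type*} {m : ℕ} (t : Fin m → σ) (π : Equiv.Perm (Fin m)) :
    tupMon K (t ∘ π) = tupMon K t := by
  unfold tupMon
  exact Equiv.prod_comp π (fun k => (X (t k) : MvPolynomial σ K))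

theorem tupMon_append {σ : Type*} {m m' : ℕ} (t : Fin m → σ) (t' : Fin m' → σ) :
    tupMon K (Fin.append t t') = tupMon K t * tupMon K t' := by
  unfold tupMon
  rw [Fin.prod_univ_add]
  simp only [Fin.append_left, Fin.append_right]

/-- exponent vector of a tuple -/
def tupExp {σ : Type*} {m : ℕ} (t : Fin m → σ) : σ →₀ ℕ := ∑ k, Finsupp.single (t k) 1

theorem tupMon_eq_monomial {σ : Type*} {m : ℕ} (t : Fin m → σ) :
    tupMon K t = monomial (tupExp t) 1 := by
  unfold tupMon tupExp
  rw [monomial_sum_one]
  rfl

theorem mem_support_tupExp {σ : Type*} {m : ℕ} (t : Fin m → σ) (a : σ)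
    (ha : a ∈ (tupExp t).support) : ∃ k, t k = a := by
  classical
  by_contra hcon
  push Not at hcon
  rw [Finsupp.mem_support_iff] at ha
  apply ha
  unfold tupExp
  rw [Finsupp.finset_sum_apply]
  apply Finset.sum_eq_zero
  intro k _
  rw [Finsupp.single_apply, if_neg (hcon k)]

variable {w : Idx d n}

/-- the tuple of variables of a standard chain -/
def belowTup (c : SI w) : Fin c.1 → Below w := fun k => ⟨c.2.1 k, c.2.2.2 k⟩

/-- the additive map sending `θ` to the exponent of the diagonal term of the minor on rows `θ` -/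
def diagHom (w : Idx d n) : (Below w →₀ ℕ) →ₗ[ℕ] (Var n d →₀ ℕ) :=
  Finsupp.linearCombination ℕ (fun a : Below w => diagExp a.1.1)

theorem diagHom_tupExp {m : ℕ} (t : Fin m → Below w) :
    diagHom w (tupExp t) = chainExp (fun k => (t k).1) := by
  unfold diagHom tupExp chainExp
  rw [map_sum]
  apply Finset.sum_congr rfl
  intro k _
  rw [Finsupp.linearCombination_single, one_smul]

theorem tupExp_belowTup_injective (hd : 0 < d) (i j : SI w)
    (h : tupExp (belowTup i) = tupExp (belowTup j)) : i = j := by
  apply SI_inj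
  have h1 := congrArg (diagHom w) h
  rw [diagHom_tupExp, diagHom_tupExp] at h1
  exact sigma_eq_of_chainExp_eq hd i.2.1 j.2.1 i.2.2.1 j.2.2.1 h1

/-- a linear combination of monomials of standard chains: extraction of a coefficient -/
theorem coeff_sum_belowMon (hd : 0 < d) (s : Finset (SI w)) (g : SI w → K) (j : SI w)
    (hj : j ∈ s) :
    coeff (tupExp (belowTup j)) (∑ i ∈ s, g i • tupMon K (belowTup i)) = g j := by
  classical
  rw [coeff_sum]
  have hterm : ∀ i ∈ s, coeff (tupExp (belowTup j)) (g i • tupMon K (belowTup i)) =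
      if i = j then g j else 0 := by
    intro i _
    rw [tupMon_eq_monomial, coeff_smul, coeff_monomial]
    by_cases hij : i = j
    · subst hij
      rw [if_pos rfl, if_pos rfl, smul_eq_mul, mul_one]
    · rw [if_neg hij, if_neg (fun h => hij (tupExp_belowTup_injective hd i j h)), smul_zero]
  rw [Finset.sum_congr rfl hterm, Finset.sum_ite_eq' s j, if_pos hj]

end DegenE

end Groth.Agent.Lib.T2H8.Grass
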