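import Mathlib
import Groth.Prelude.Def_W4bk4grassmannianPl
import Groth.Agent.Lib.Helper24Grass
import Groth.Agent.Lib.T2H8GrassIndep
import Groth.Agent.Lib.T2H8GrassDegenA
import Groth.Agent.Lib.T2H8GrassDegenB

/-!
# Degeneration of Schubert cones to the Hibi ring, part 1: weights and leading terms (helper8)
-/

noncomputable section

open MvPolynomial W4bk4grassmannian

namespace Groth.Agent.Lib.T2H8.Grass

universe u

section HibiA

variable {d n : ℕ}

/-- weight of the matrix variables: row index times column index -/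
def wgt (n d : ℕ) : Var n d → ℕ := fun p => (ofLex p).1.val * (ofLex p).2.val

theorem weight_diagExp (ρ : Fin d → Fin n) :
    Finsupp.weight (wgt n d) (diagExp ρ) = ∑ t, (ρ t).val * t.val := by
  unfold diagExp
  rw [map_sum]
  apply Finset.sum_congr rfl
  intro t _
  rw [Finsupp.weight_single, one_smul]
  rfl

theorem perm_eq_one_of_monovary (σ : Equiv.Perm (Fin d))
    (h : ∀ i j : Fin d, i < j → σ i ≤ σ j) : σ = 1 := by
  have hs : StrictMono σ := by
    intro i j hij
    exact lt_of_le_of_ne (h i j hij) (fun heq => (ne_of_lt hij) (σ.injective heq))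
  have := (StrictMono.range_inj (f := ⇑σ) (g := id) hs strictMono_id).mp (by
    rw [Set.range_id, Equiv.range_eq_univ])
  ext i
  rw [this]
  rfl

/-- the rearrangement inequality for the diagonal weights -/
theorem sum_comp_perm_lt (θ : Idx d n) (σ : Equiv.Perm (Fin d)) (hσ : σ ≠ 1) :
    ∑ t, (θ.1 (σ t)).val * t.val < ∑ t, (θ.1 t).val * t.val := by
  have hmono : Monovary (fun t : Fin d => (θ.1 t).val) (fun t : Fin d => t.val) := by
    intro i j hij
    exact Fin.le_def.mp (θ.2.monotone (le_of_lt (Fin.lt_def.mpr hij)))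
  rw [Monovary.sum_comp_perm_mul_lt_sum_mul_iff hmono]
  intro hcon
  apply hσ
  apply perm_eq_one_of_monovary
  intro i j hij
  have := hcon (Fin.lt_def.mp hij)
  simp only [Function.comp_apply] at this
  exact θ.2.le_iff_le.mp (Fin.le_def.mpr this)

end HibiA

section HibiB

variable (K : Type u) [Field K] {d n : ℕ}

/-- all monomials have weight at most `N` -/
def WLe (N : ℕ) (P : MvPolynomial (Var n d) K) : Prop :=
  ∀ m ∈ P.support, Finsupp.weight (wgt n d) m ≤ N

/-- all monomials have weight less than `N` -/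
def WLt (N : ℕ) (P : MvPolynomial (Var n d) K) : Prop :=
  ∀ m ∈ P.support, Finsupp.weight (wgt n d) m < N

variable {K}

theorem WLt.wle {N : ℕ} {P : MvPolynomial (Var n d) K} (h : WLt K N P) : WLe K N P :=
  fun m hm => le_of_lt (h m hm)

theorem WLe.add {N : ℕ} {P Q : MvPolynomial (Var n d) K} (hP : WLe K N P) (hQ : WLe K N Q) :
    WLe K N (P + Q) := by
  classical
  intro m hm
  rcases Finset.mem_union.mp (MvPolynomial.support_add hm) with h | h
  · exact hP m h
  · exact hQ m h

theorem WLt.add {N : ℕ} {P Q : MvPolynomial (Var n d) K} (hP : WLt K N P) (hQ : WLt K N Q) :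
    WLt K N (P + Q) := by
  classical
  intro m hm
  rcases Finset.mem_union.mp (MvPolynomial.support_add hm) with h | h
  · exact hP m h
  · exact hQ m h

theorem WLt.mul_wle {N N' : ℕ} {P Q : MvPolynomial (Var n d) K} (hP : WLt K N P)
    (hQ : WLe K N' Q) : WLt K (N + N') (P * Q) := by
  classical
  intro m hm
  obtain ⟨a, ha, b, hb, rfl⟩ := Finset.mem_add.mp (MvPolynomial.support_mul P Q hm)
  rw [map_add]
  exact add_lt_add_of_lt_of_le (hP a ha) (hQ b hb)

theorem WLe.mul_wlt {N N' : ℕ} {P Q : MvPolynomial (Var n d) K} (hP : WLe K N P)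
    (hQ : WLt K N' Q) : WLt K (N + N') (P * Q) := by
  rw [mul_comm, add_comm]
  exact hQ.mul_wle hP

theorem wle_of_isWeightedHomogeneous {N : ℕ} {P : MvPolynomial (Var n d) K}
    (h : IsWeightedHomogeneous (wgt n d) P N) : WLe K N P := by
  intro m hm
  exact le_of_eq (h (mem_support_iff.mp hm))

theorem wlt_zero (N : ℕ) : WLt K N (0 : MvPolynomial (Var n d) K) := by
  intro m hm
  simp at hm

theorem wlt_prod_sub {ι : Type*} (s : Finset ι) (L R : ι → MvPolynomial (Var n d) K) (N : ι → ℕ)
    (hL : ∀ k ∈ s, IsWeightedHomogeneous (wgt n d) (L k) (N k))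
    (hR : ∀ k ∈ s, WLt K (N k) (R k)) :
    WLt K (∑ k ∈ s, N k) (∏ k ∈ s, (L k + R k) - ∏ k ∈ s, L k) := by
  classical
  induction s using Finset.induction_on with
  | empty =>
    simp only [Finset.prod_empty, sub_self]
    exact wlt_zero _
  | insert a s ha ih =>
    have ih' := ih (fun k hk => hL k (Finset.mem_insert_of_mem hk))
      (fun k hk => hR k (Finset.mem_insert_of_mem hk))
    rw [Finset.prod_insert ha, Finset.prod_insert ha, Finset.sum_insert ha]
    have hLa := hL a (Finset.mem_insert_self a s)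
    have hRa := hR a (Finset.mem_insert_self a s)
    have hPL : IsWeightedHomogeneous (wgt n d) (∏ k ∈ s, L k) (∑ k ∈ s, N k) :=
      IsWeightedHomogeneous.prod s L N (fun k hk => hL k (Finset.mem_insert_of_mem hk))
    have hPi : WLe K (∑ k ∈ s, N k) (∏ k ∈ s, (L k + R k)) := by
      have : ∏ k ∈ s, (L k + R k) = ∏ k ∈ s, L k + (∏ k ∈ s, (L k + R k) - ∏ k ∈ s, L k) := by
        ring
      rw [this]
      exact (wle_of_isWeightedHomogeneous hPL).add ih'.wle
    have : (L a + R a) * ∏ k ∈ s, (L k + R k) - L a * ∏ k ∈ s, L k =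
        L a * (∏ k ∈ s, (L k + R k) - ∏ k ∈ s, L k) + R a * ∏ k ∈ s, (L k + R k) := by ring
    rw [this]
    exact ((wle_of_isWeightedHomogeneous hLa).mul_wlt ih').add (hRa.mul_wle hPi)

end HibiB

section HibiC

variable (K : Type u) [Field K] {d n : ℕ}

theorem wlt_sum {ι : Type*} (s : Finset ι) (P : ι → MvPolynomial (Var n d) K) (N : ℕ)
    (h : ∀ k ∈ s, WLt K N (P k)) : WLt K N (∑ k ∈ s, P k) := by
  classical
  induction s using Finset.induction_on with
  | empty =>
    rw [Finset.sum_empty]
    exact wlt_zero _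
  | insert a s ha ih =>
    rw [Finset.sum_insert ha]
    exact (h a (Finset.mem_insert_self a s)).add
      (ih fun k hk => h k (Finset.mem_insert_of_mem hk))

/-- the weight of the diagonal term of the minor on rows `θ` -/
def omega (θ : Idx d n) : ℕ := ∑ t, (θ.1 t).val * t.val

/-- the Hibi weight of a tuple -/
def vHt {m : ℕ} (t : Fin m → Idx d n) : ℕ := ∑ k, omega (t k)

theorem weight_chainExp {m : ℕ} (t : Fin m → Idx d n) :
    Finsupp.weight (wgt n d) (chainExp t) = vHt t := by
  unfold chainExp vHt
  rw [map_sum]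
  exact Finset.sum_congr rfl fun k _ => weight_diagExp _

theorem minorAt_sub_wlt (w θ : Idx d n) (h : θ ≤ w) :
    WLt K (omega θ) (minorAt K w θ - monomial (diagExp θ.1) 1) := by
  classical
  rw [minorAt_eq K w θ h, add_sub_cancel_left]
  apply wlt_sum
  intro σ hσ
  intro m hm
  have hm' := MvPolynomial.support_monomial_subset hm
  rw [Finset.mem_singleton] at hm'
  rw [hm', weight_diagExp]
  exact sum_comp_perm_lt θ σ (Finset.ne_of_mem_erase hσ)

theorem coeff_evalShape_chainMon (w : Idx d n) {m : ℕ} (u : Fin m → Idx d n)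
    (hu : ∀ k, u k ≤ w) (e : Var n d →₀ ℕ) (he : vHt u ≤ Finsupp.weight (wgt n d) e) :
    coeff e (evalShape K w (chainMon K u)) = if e = chainExp u then 1 else 0 := by
  classical
  rw [evalShape_chainMon]
  set L : Fin m → MvPolynomial (Var n d) K := fun k => monomial (diagExp (u k).1) 1 with hL
  set R : Fin m → MvPolynomial (Var n d) K := fun k => minorAt K w (u k) - L k with hR
  have hprod : ∏ k, minorAt K w (u k) = ∏ k, (L k + R k) := by
    apply Finset.prod_congr rfl
    intro k _
    rw [hR]
    ring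
  have hlt := wlt_prod_sub (K := K) Finset.univ L R (fun k => omega (u k))
    (fun k _ => isWeightedHomogeneous_monomial _ _ _ (weight_diagExp _))
    (fun k _ => minorAt_sub_wlt K w (u k) (hu k))
  have hPL : ∏ k, L k = monomial (chainExp u) (1 : K) := by
    unfold chainExp
    rw [monomial_sum_one]
  rw [hprod]
  have : ∏ k, (L k + R k) = ∏ k, L k + (∏ k, (L k + R k) - ∏ k, L k) := by ring
  rw [this, coeff_add, hPL, coeff_monomial]
  have hzero : coeff e (∏ k, (L k + R k) - monomial (chainExp u) (1 : K)) = 0 := by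
    by_contra hne
    have := hlt e (by rw [hPL]; exact mem_support_iff.mpr hne)
    unfold vHt at he
    omega
  rw [hzero, add_zero]
  by_cases h : e = chainExp u
  · rw [if_pos h, if_pos h.symm]
  · rw [if_neg h, if_neg (Ne.symm h)]

end HibiC

section HibiD

variable (K : Type u) [Field K] [Infinite K] {d n : ℕ}

/-- the Hibi weight of a standard chain -/
def vH (w : Idx d n) : SI w → ℕ := fun c => vHt c.2.1

theorem chainExp_SI_injective (hd : 0 < d) {w : Idx d n} (c c' : SI w)
    (h : chainExp c.2.1 = chainExp c'.2.1) : c = c' :=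
  SI_inj w c c' (sigma_eq_of_chainExp_eq hd c.2.1 c'.2.1 c.2.2.1 c'.2.2.1 h)

theorem evalShape_expansion (hd : 0 < d) (w : Idx d n) {m : ℕ} (t : Fin m → Idx d n)
    (e : Var n d →₀ ℕ) :
    coeff e (evalShape K w (chainMon K t)) =
      ∑ c ∈ ((stdBasis K hd w).repr
        (Ideal.Quotient.mk (schubertVanishing K d n w) (chainMon K t))).support,
        ((stdBasis K hd w).repr
          (Ideal.Quotient.mk (schubertVanishing K d n w) (chainMon K t))) c *
          coeff e (evalShape K w (chainMon K c.2.1)) := by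
  set x := Ideal.Quotient.mk (schubertVanishing K d n w) (chainMon K t) with hx
  set r := (stdBasis K hd w).repr x with hr
  have h1 : x = Ideal.Quotient.mk (schubertVanishing K d n w)
      (∑ c ∈ r.support, r c • chainMon K c.2.1) := by
    conv_lhs => rw [← (stdBasis K hd w).linearCombination_repr x]
    rw [Finsupp.linearCombination_apply, Finsupp.sum, map_sum]
    apply Finset.sum_congr rfl
    intro c _
    rw [stdBasis_apply, mk_smul']
  have h2 : chainMon K t - ∑ c ∈ r.support, r c • chainMon K c.2.1 ∈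
      schubertVanishing K d n w := Ideal.Quotient.eq.mp h1
  have h3 := evalShape_eq_zero_of_mem K w h2
  rw [map_sub, sub_eq_zero] at h3
  rw [h3, map_sum, coeff_sum]
  apply Finset.sum_congr rfl
  intro c _
  rw [map_smul, coeff_smul, smul_eq_mul]

theorem hibi_bound (hd : 0 < d) (w : Idx d n) {m : ℕ} (t : Fin m → Idx d n)
    (ht : ∀ k, t k ≤ w) :
    ∀ c, ((stdBasis K hd w).repr
      (Ideal.Quotient.mk (schubertVanishing K d n w) (chainMon K t))) c ≠ 0 →
      vH w c ≤ vHt t := by
  classical
  set r := (stdBasis K hd w).repr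
    (Ideal.Quotient.mk (schubertVanishing K d n w) (chainMon K t)) with hr
  intro c₁ hc₁
  by_contra hlt
  rw [not_le] at hlt
  obtain ⟨cs, hcs, hmax⟩ := Finset.exists_max_image r.support (vH w)
    ⟨c₁, Finsupp.mem_support_iff.mpr hc₁⟩
  have hM : vHt t < vH w cs := lt_of_lt_of_le hlt (hmax c₁ (Finsupp.mem_support_iff.mpr hc₁))
  have hwe : Finsupp.weight (wgt n d) (chainExp cs.2.1) = vH w cs := weight_chainExp _
  have hexp := evalShape_expansion K hd w t (chainExp cs.2.1)
  rw [coeff_evalShape_chainMon K w t ht _ (by rw [hwe]; exact le_of_lt hM)] at hexp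
  have hne : chainExp cs.2.1 ≠ chainExp t := by
    intro heq
    have := weight_chainExp t
    rw [← heq, hwe] at this
    omega
  rw [if_neg hne] at hexp
  have hterm : ∀ c ∈ r.support, r c * coeff (chainExp cs.2.1) (evalShape K w (chainMon K c.2.1)) =
      if c = cs then r cs else 0 := by
    intro c hc
    rw [coeff_evalShape_chainMon K w c.2.1 c.2.2.2 _ (by rw [hwe]; exact hmax c hc)]
    by_cases h : c = cs
    · subst h
      rw [if_pos rfl, if_pos rfl, mul_one]
    · rw [if_neg h, if_neg (fun heq => h (chainExp_SI_injective hd c cs heq.symm)), mul_zero]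
  rw [Finset.sum_congr rfl hterm, Finset.sum_ite_eq' r.support cs, if_pos hcs] at hexp
  exact (Finsupp.mem_support_iff.mp hcs) hexp.symm

theorem hibi_top (hd : 0 < d) (w : Idx d n) {m : ℕ} (t : Fin m → Idx d n)
    (ht : ∀ k, t k ≤ w) (c₀ : SI w) (hc₀ : vH w c₀ = vHt t) :
    ((stdBasis K hd w).repr
      (Ideal.Quotient.mk (schubertVanishing K d n w) (chainMon K t))) c₀ =
      if chainExp c₀.2.1 = chainExp t then 1 else 0 := by
  classical
  set r := (stdBasis K hd w).repr
    (Ideal.Quotient.mk (schubertVanishing K d n w) (chainMon K t)) with hr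
  have hwe : Finsupp.weight (wgt n d) (chainExp c₀.2.1) = vHt t := by
    rw [weight_chainExp]; exact hc₀
  have hexp := evalShape_expansion K hd w t (chainExp c₀.2.1)
  rw [coeff_evalShape_chainMon K w t ht _ (by rw [hwe])] at hexp
  have hterm : ∀ c ∈ r.support, r c * coeff (chainExp c₀.2.1) (evalShape K w (chainMon K c.2.1)) =
      if c = c₀ then r c₀ else 0 := by
    intro c hc
    have hb := hibi_bound K hd w t ht c (Finsupp.mem_support_iff.mp hc)
    rw [coeff_evalShape_chainMon K w c.2.1 c.2.2.2 _ (by rw [hwe]; exact hb)]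
    by_cases h : c = c₀
    · subst h
      rw [if_pos rfl, if_pos rfl, mul_one]
    · rw [if_neg h, if_neg (fun heq => h (chainExp_SI_injective hd c c₀ heq.symm)), mul_zero]
  rw [Finset.sum_congr rfl hterm, Finset.sum_ite_eq' r.support c₀] at hexp
  rw [hexp]
  split_ifs with h
  · rfl
  · exact Finsupp.notMem_support_iff.mp h

end HibiD

end Groth.Agent.Lib.T2H8.Grass
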