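import Mathlib
import Groth.Prelude.Def_W4bk4grassmannianPl
import Groth.Agent.Lib.Helper24Grass
import Groth.Agent.Lib.T2H8GrassIndep
import Groth.Agent.Lib.T2H8GrassDegenA
import Groth.Agent.Lib.T2H8GrassDegenB
import Groth.Agent.Lib.T2H8Rees

/-!
# Degeneration of Schubert cones to the Stanley–Reisner ring (helper8)
-/

noncomputable section

open MvPolynomial W4bk4grassmannian

namespace Groth.Agent.Lib.T2H8.Grass

universe u

section SRa

variable (K : Type u) [Field K] {d n : ℕ} (w : Idx d n)

theorem srIdeal_eq :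
    srIdeal K w = Ideal.span ((fun s => monomial s (1 : K)) ''
      {s : Below w →₀ ℕ | ∃ a b : Below w, ¬ a ≤ b ∧ ¬ b ≤ a ∧
        s = Finsupp.single a 1 + Finsupp.single b 1}) := by
  unfold srIdeal
  congr 1
  ext f
  constructor
  · rintro ⟨a, b, h1, h2, rfl⟩
    refine ⟨_, ⟨a, b, h1, h2, rfl⟩, ?_⟩
    show monomial (Finsupp.single a 1 + Finsupp.single b 1) (1 : K) = X a * X b
    rw [X, X, monomial_mul, one_mul]
  · rintro ⟨s, ⟨a, b, h1, h2, rfl⟩, rfl⟩
    refine ⟨a, b, h1, h2, ?_⟩
    show monomial (Finsupp.single a 1 + Finsupp.single b 1) (1 : K) = X a * X b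
    rw [X, X, monomial_mul, one_mul]

variable {w}

theorem tupMon_mem_srIdeal {m : ℕ} (t : Fin m → Below w) (k₁ k₂ : Fin m)
    (h1 : ¬ t k₁ ≤ t k₂) (h2 : ¬ t k₂ ≤ t k₁) : tupMon K t ∈ srIdeal K w := by
  have hk : k₁ ≠ k₂ := by
    rintro rfl
    exact h1 (le_refl _)
  unfold tupMon
  rw [Helper24Grass.prod_split _ k₁ k₂ hk]
  apply Ideal.mul_mem_right
  exact Ideal.subset_span ⟨t k₁, t k₂, h1, h2, rfl⟩

theorem indep_sr (hd : 0 < d) :
    LinearIndependent K (fun c : SI w =>
      Ideal.Quotient.mk (srIdeal K w) (tupMon K (belowTup c))) := by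
  classical
  rw [linearIndependent_iff']
  intro s g hsum i hi
  have h0 : ∑ i ∈ s, g i • tupMon K (belowTup i) ∈ srIdeal K w := by
    rw [← Ideal.Quotient.eq_zero_iff_mem, map_sum, ← hsum]
    exact Finset.sum_congr rfl fun i _ => mk_smul' _ _ _
  by_contra hne
  rw [srIdeal_eq, mem_ideal_span_monomial_image] at h0
  have hsupp : tupExp (belowTup i) ∈ (∑ i ∈ s, g i • tupMon K (belowTup i)).support := by
    rw [mem_support_iff, coeff_sum_belowMon K hd s g i hi]
    exact hne
  obtain ⟨si, ⟨a, b, hab, hba, rfl⟩, hle⟩ := h0 _ hsupp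
  have ha : a ∈ (tupExp (belowTup i)).support := by
    rw [Finsupp.mem_support_iff]
    have := hle a
    rw [Finsupp.add_apply, Finsupp.single_eq_same] at this
    omega
  have hb : b ∈ (tupExp (belowTup i)).support := by
    rw [Finsupp.mem_support_iff]
    have := hle b
    rw [Finsupp.add_apply, Finsupp.single_eq_same] at this
    omega
  obtain ⟨k, rfl⟩ := mem_support_tupExp _ a ha
  obtain ⟨k', rfl⟩ := mem_support_tupExp _ b hb
  rcases le_total k k' with h | h
  · exact hba (i.2.2.1 h)
  · exact hab (i.2.2.1 h)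

theorem span_sr :
    ⊤ ≤ Submodule.span K (Set.range fun c : SI w =>
      Ideal.Quotient.mk (srIdeal K w) (tupMon K (belowTup c))) := by
  rintro q -
  obtain ⟨p, rfl⟩ := Ideal.Quotient.mk_surjective q
  have hp : p ∈ Submodule.span K {p : MvPolynomial (Below w) K |
      ∃ (m : ℕ) (t : Fin m → Below w), p = tupMon K t} := by
    rw [span_tupMon_eq_top]; trivial
  induction hp using Submodule.span_induction with
  | mem x hx =>
    obtain ⟨m, t, rfl⟩ := hx
    by_cases hcomp : ∀ k₁ k₂, (t k₁).1 ≤ (t k₂).1 ∨ (t k₂).1 ≤ (t k₁).1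
    · obtain ⟨σ, hσ⟩ := Helper24Grass.sortable (fun k => (t k).1) hcomp
      refine Submodule.subset_span ⟨⟨m, fun k => (t (σ k)).1, hσ, fun k => (t (σ k)).2⟩, ?_⟩
      show Ideal.Quotient.mk (srIdeal K w) (tupMon K (t ∘ σ)) = _
      rw [tupMon_comp_perm]
    · push Not at hcomp
      obtain ⟨k₁, k₂, h1, h2⟩ := hcomp
      rw [Ideal.Quotient.eq_zero_iff_mem.mpr (tupMon_mem_srIdeal K t k₁ k₂ h1 h2)]
      exact Submodule.zero_mem _
  | zero => rw [map_zero]; exact Submodule.zero_mem _
  | add x y _ _ hx hy => rw [map_add]; exact Submodule.add_mem _ hx hy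
  | smul a x _ hx => rw [mk_smul']; exact Submodule.smul_mem _ _ hx

/-- the standard monomial basis of the Stanley–Reisner ring -/
def srBasis (hd : 0 < d) (w : Idx d n) :
    Module.Basis (SI w) K (MvPolynomial (Below w) K ⧸ srIdeal K w) :=
  Module.Basis.mk (indep_sr K hd) (span_sr K)

theorem srBasis_apply (hd : 0 < d) (c : SI w) :
    srBasis K hd w c = Ideal.Quotient.mk (srIdeal K w) (tupMon K (belowTup c)) := by
  unfold srBasis
  rw [Module.Basis.mk_apply]

end SRa

section SRb

open Rees

theorem top_eq_zero_of_lt {K : Type u} [Field K] {A : Type u} [CommRing A] [Algebra K A] {I : Type*}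
    (e : Module.Basis I K A) (v : I → ℕ) {B : Type*} [CommRing B] [Algebra K B]
    (f : Module.Basis I K B) {N : ℕ} {x : A} (hx : ∀ i, e.repr x i ≠ 0 → v i < N) :
    top e v f N x = 0 := by
  apply f.repr.injective
  ext j
  rw [repr_top, map_zero, Finsupp.zero_apply]
  split_ifs with h
  · by_contra hne
    have := hx j hne
    omega
  · rfl

variable (K : Type u) [Field K] {d n : ℕ}

theorem chainMon_append {m m' : ℕ} (t : Fin m → Idx d n) (t' : Fin m' → Idx d n) :
    chainMon K (Fin.append t t') = chainMon K t * chainMon K t' := by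
  unfold chainMon
  rw [Fin.prod_univ_add]
  simp only [Fin.append_left, Fin.append_right]

variable {w : Idx d n}

theorem append_belowTup_val (i j : SI w) (k : Fin (i.1 + j.1)) :
    (Fin.append (belowTup i) (belowTup j) k).1 = Fin.append i.2.1 j.2.1 k := by
  induction k using Fin.addCases with
  | left k => rw [Fin.append_left, Fin.append_left]; rfl
  | right k => rw [Fin.append_right, Fin.append_right]; rfl

theorem append_le (i j : SI w) (k : Fin (i.1 + j.1)) : Fin.append i.2.1 j.2.1 k ≤ w := by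
  rw [← append_belowTup_val]
  exact (Fin.append (belowTup i) (belowTup j) k).2

/-- the weight of a standard chain for the Stanley–Reisner degeneration -/
def vS (w : Idx d n) : SI w → ℕ := fun c => vT c.2.1

variable [Infinite K]

theorem sr_one_mem (hd : 0 < d) (w : Idx d n) :
    (1 : PlRing K d n ⧸ schubertVanishing K d n w) ∈ Fil (stdBasis K hd w) (vS w) 0 := by
  rw [← stdBasis_nil K hd w]
  apply basis_mem_Fil
  show vT (SI.nil w).2.1 ≤ 0
  unfold vT
  simp [SI.nil]

theorem sr_mul_eq (hd : 0 < d) (i j : SI w) :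
    stdBasis K hd w i * stdBasis K hd w j =
      Ideal.Quotient.mk (schubertVanishing K d n w) (chainMon K (Fin.append i.2.1 j.2.1)) := by
  rw [stdBasis_apply, stdBasis_apply, chainMon_append, map_mul]

theorem sr_mul_mem (hd : 0 < d) (i j : SI w) :
    stdBasis K hd w i * stdBasis K hd w j ∈
      Fil (stdBasis K hd w) (vS w) (vS w i + vS w j) := by
  rw [sr_mul_eq]
  intro c hc
  have := (refSR K hd w (vT (Fin.append i.2.1 j.2.1)) (Fin.append i.2.1 j.2.1) rfl).1 c hc
  rw [vT_append] at this
  exact this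

theorem sr_top (hd : 0 < d) (i j : SI w) :
    top (stdBasis K hd w) (vS w) (srBasis K hd w) (vS w i + vS w j)
      (stdBasis K hd w i * stdBasis K hd w j) = srBasis K hd w i * srBasis K hd w j := by
  have hf : srBasis K hd w i * srBasis K hd w j =
      Ideal.Quotient.mk (srIdeal K w) (tupMon K (Fin.append (belowTup i) (belowTup j))) := by
    rw [srBasis_apply, srBasis_apply, tupMon_append, map_mul]
  rw [hf, sr_mul_eq]
  set t := Fin.append i.2.1 j.2.1 with ht
  have hvt : vT t = vS w i + vS w j := vT_append _ _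
  by_cases hcomp : ∀ k₁ k₂, t k₁ ≤ t k₂ ∨ t k₂ ≤ t k₁
  · obtain ⟨σ, hσ⟩ := Helper24Grass.sortable t hcomp
    let c : SI w := ⟨i.1 + j.1, t ∘ σ, hσ, fun k => append_le i j (σ k)⟩
    have hc : Ideal.Quotient.mk (schubertVanishing K d n w) (chainMon K t) =
        stdBasis K hd w c := by
      rw [stdBasis_apply, ← chainMon_comp_perm K t σ]
    have hvc : vS w c = vS w i + vS w j := by
      show vT (t ∘ σ) = _
      rw [vT_comp_perm, hvt]
    rw [hc, top_basis, if_pos hvc, srBasis_apply]
    congr 1
    have hb : belowTup c = (Fin.append (belowTup i) (belowTup j)) ∘ σ := by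
      funext k
      apply Subtype.ext
      rw [Function.comp_apply, append_belowTup_val]
      rfl
    rw [hb, tupMon_comp_perm]
  · push Not at hcomp
    obtain ⟨k₁, k₂, h1, h2⟩ := hcomp
    have hzero := (refSR K hd w (vT t) t rfl).2 ⟨k₁, k₂, h1, h2⟩
    rw [hvt] at hzero
    rw [top_eq_zero_of_lt (stdBasis K hd w) (vS w) (srBasis K hd w) hzero]
    symm
    rw [Ideal.Quotient.eq_zero_iff_mem]
    apply tupMon_mem_srIdeal K _ k₁ k₂
    · intro hle
      apply h1
      have : (Fin.append (belowTup i) (belowTup j) k₁).1 ≤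
          (Fin.append (belowTup i) (belowTup j) k₂).1 := hle
      rwa [append_belowTup_val, append_belowTup_val] at this
    · intro hle
      apply h2
      have : (Fin.append (belowTup i) (belowTup j) k₂).1 ≤
          (Fin.append (belowTup i) (belowTup j) k₁).1 := hle
      rwa [append_belowTup_val, append_belowTup_val] at this

theorem sr_top_one (hd : 0 < d) (w : Idx d n) :
    top (stdBasis K hd w) (vS w) (srBasis K hd w) 0
      (1 : PlRing K d n ⧸ schubertVanishing K d n w) = 1 := by
  rw [← stdBasis_nil K hd w, top_basis]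
  have h0 : vS w (SI.nil w) = 0 := by
    show vT (SI.nil w).2.1 = 0
    unfold vT
    simp [SI.nil]
  rw [if_pos h0, srBasis_apply]
  unfold tupMon
  simp [SI.nil]

theorem main_S11274 (K : Type u) [Field K] [IsAlgClosed K] (d n : ℕ)
    (hd : 0 < d) (_hdn : d < n) (w : Idx d n) :
    ∃ (R : Type u) (_ : CommRing R) (_ : Algebra K R) (_ : Algebra (Polynomial K) R)
      (_ : IsScalarTower K (Polynomial K) R),
      Module.Free (Polynomial K) R ∧
      Nonempty ((R ⧸ Ideal.span {algebraMap (Polynomial K) R Polynomial.X}) ≃ₐ[K]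
        (MvPolynomial (Below w) K ⧸ srIdeal K w)) ∧
      ∀ c : K, c ≠ 0 →
        Nonempty ((R ⧸ Ideal.span {algebraMap (Polynomial K) R (Polynomial.X - Polynomial.C c)}) ≃ₐ[K]
          (PlRing K d n ⧸ schubertVanishing K d n w)) := by
  haveI : Infinite K := inferInstance
  exact rees_degeneration (stdBasis K hd w) (vS w) (srBasis K hd w) (sr_one_mem K hd w)
    (sr_mul_mem K hd) (sr_top K hd) (sr_top_one K hd w)

end SRb

end Groth.Agent.Lib.T2H8.Grass
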