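import Mathlib
import Groth.Prelude.Def_W4bk4grassmannianPl
import Groth.Agent.Lib.Helper24Grass
import Groth.Agent.Lib.T2H8GrassIndep
import Groth.Agent.Lib.T2H8GrassStraightB
import Groth.Agent.Lib.T2H8GrassDegenA
import Groth.Agent.Lib.T2H8GrassDegenB
import Groth.Agent.Lib.T2H8GrassDegenSR
import Groth.Agent.Lib.T2H8GrassDegenHA
import Groth.Agent.Lib.T2H8Rees

/-!
# Degeneration of Schubert cones to the Hibi ring, part 2 (helper8)
-/

noncomputable section

open MvPolynomial W4bk4grassmannian

namespace Groth.Agent.Lib.T2H8.Grass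

universe u

section HibiE

variable {d n : ℕ}

theorem diagExp_sup_add_inf (a b : Idx d n) :
    diagExp (W4bk4grassmannian.sup a b).1 + diagExp (W4bk4grassmannian.inf a b).1 =
      diagExp a.1 + diagExp b.1 := by
  unfold diagExp
  rw [← Finset.sum_add_distrib, ← Finset.sum_add_distrib]
  apply Finset.sum_congr rfl
  intro t _
  show Finsupp.single (toLex (max (a.1 t) (b.1 t), t)) 1 +
    Finsupp.single (toLex (min (a.1 t) (b.1 t), t)) 1 = _
  rcases le_total (a.1 t) (b.1 t) with h | h
  · rw [max_eq_right h, min_eq_left h, add_comm]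
  · rw [max_eq_left h, min_eq_right h]

theorem sum_split' {M : Type*} [AddCommMonoid M] {m : ℕ} (f : Fin m → M) (k₁ k₂ : Fin m)
    (h : k₁ ≠ k₂) :
    ∑ k, f k = f k₁ + f k₂ + ∑ k ∈ (Finset.univ.erase k₁).erase k₂, f k := by
  rw [← Finset.add_sum_erase Finset.univ f (Finset.mem_univ k₁),
    ← Finset.add_sum_erase (Finset.univ.erase k₁) f
      (Finset.mem_erase.mpr ⟨h.symm, Finset.mem_univ k₂⟩), add_assoc]

theorem chainExp_comp_perm {m : ℕ} (t : Fin m → Idx d n) (σ : Equiv.Perm (Fin m)) :
    chainExp (t ∘ σ) = chainExp t := by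
  unfold chainExp
  exact Equiv.sum_comp σ (fun k => diagExp (t k).1)

theorem chainExp_repl_sup_inf {m : ℕ} (t : Fin m → Idx d n) (k₁ k₂ : Fin m) (h : k₁ ≠ k₂) :
    chainExp (Helper24Grass.repl t k₁ k₂ (W4bk4grassmannian.sup (t k₁) (t k₂))
      (W4bk4grassmannian.inf (t k₁) (t k₂))) = chainExp t := by
  unfold chainExp
  rw [sum_split' _ k₁ k₂ h, sum_split' (fun k => diagExp (t k).1) k₁ k₂ h,
    Helper24Grass.repl_k₁ t k₁ k₂ h, Helper24Grass.repl_k₂, diagExp_sup_add_inf]
  congr 1
  exact Finset.sum_congr rfl fun k hk => by rw [Helper24Grass.repl_other t k₁ k₂ _ _ k hk]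

end HibiE

section HibiF

variable (K : Type u) [Field K] {d n : ℕ} (w : Idx d n)

/-- the monomial map of the Hibi ring -/
def hibiMap : MvPolynomial (Below w) K →ₐ[K] MvPolynomial (Var n d) K :=
  aeval (fun a : Below w => monomial (diagExp a.1.1) (1 : K))

variable {w}

theorem hibiMap_tupMon {m : ℕ} (t : Fin m → Below w) :
    hibiMap K w (tupMon K t) = monomial (chainExp (fun k => (t k).1)) 1 := by
  unfold hibiMap tupMon chainExp
  rw [map_prod, monomial_sum_one]
  exact Finset.prod_congr rfl fun k _ => aeval_X _ _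

theorem hibiIdeal_le_ker : hibiIdeal K w ≤ RingHom.ker (hibiMap K w) := by
  unfold hibiIdeal
  rw [Ideal.span_le]
  rintro f ⟨a, b, rfl⟩
  rw [SetLike.mem_coe, RingHom.mem_ker]
  unfold hibiMap
  rw [map_sub, map_mul, map_mul, aeval_X, aeval_X, aeval_X, aeval_X, monomial_mul, monomial_mul,
    sub_eq_zero, one_mul]
  exact congrArg (fun e => monomial e (1 : K)) (diagExp_sup_add_inf a.1 b.1).symm

theorem indep_hibi (hd : 0 < d) :
    LinearIndependent K (fun c : SI w =>
      Ideal.Quotient.mk (hibiIdeal K w) (tupMon K (belowTup c))) := by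
  classical
  rw [linearIndependent_iff']
  intro s g hsum i hi
  have h0 : ∑ i ∈ s, g i • tupMon K (belowTup i) ∈ hibiIdeal K w := by
    rw [← Ideal.Quotient.eq_zero_iff_mem, map_sum, ← hsum]
    exact Finset.sum_congr rfl fun i _ => mk_smul' _ _ _
  have h1 := hibiIdeal_le_ker K h0
  rw [RingHom.mem_ker, map_sum] at h1
  have h2 := congrArg (coeff (chainExp i.2.1)) h1
  rw [coeff_sum, coeff_zero] at h2
  have hterm : ∀ j ∈ s, coeff (chainExp i.2.1) (hibiMap K w (g j • tupMon K (belowTup j))) =
      if j = i then g i else 0 := by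
    intro j _
    rw [map_smul, hibiMap_tupMon, coeff_smul, coeff_monomial,
      show (fun k => (belowTup j k).1) = j.2.1 from rfl]
    by_cases hji : j = i
    · subst hji
      rw [if_pos rfl, if_pos rfl, smul_eq_mul, mul_one]
    · rw [if_neg hji, if_neg (fun h => hji (chainExp_SI_injective hd j i h)), smul_zero]
  rw [Finset.sum_congr rfl hterm, Finset.sum_ite_eq' s i, if_pos hi] at h2
  exact h2

/-- sorting in the Hibi ring: every monomial equals a standard one with the same exponent -/
theorem hibi_sort :
    ∀ (N : ℕ) {m : ℕ} (t : Fin m → Below w), vT (fun k => (t k).1) = N →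
      ∃ c : SI w, chainExp c.2.1 = chainExp (fun k => (t k).1) ∧
        Ideal.Quotient.mk (hibiIdeal K w) (tupMon K t) =
          Ideal.Quotient.mk (hibiIdeal K w) (tupMon K (belowTup c)) := by
  classical
  intro N
  induction N using Nat.strong_induction_on with
  | _ N ih =>
    intro m t ht
    by_cases hcomp : ∀ k₁ k₂, (t k₁).1 ≤ (t k₂).1 ∨ (t k₂).1 ≤ (t k₁).1
    · obtain ⟨σ, hσ⟩ := Helper24Grass.sortable (fun k => (t k).1) hcomp
      refine ⟨⟨m, fun k => (t (σ k)).1, hσ, fun k => (t (σ k)).2⟩, ?_, ?_⟩
      · exact chainExp_comp_perm (fun k => (t k).1) σ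
      · show _ = Ideal.Quotient.mk (hibiIdeal K w) (tupMon K (t ∘ σ))
        rw [tupMon_comp_perm]
    · push Not at hcomp
      have key : ∀ k₁ k₂ : Fin m, ¬ (t k₁).1 ≤ (t k₂).1 → ¬ (t k₂).1 ≤ (t k₁).1 →
          Helper24Grass.wt (t k₂).1.1 ≤ Helper24Grass.wt (t k₁).1.1 →
          ∃ c : SI w, chainExp c.2.1 = chainExp (fun k => (t k).1) ∧
            Ideal.Quotient.mk (hibiIdeal K w) (tupMon K t) =
              Ideal.Quotient.mk (hibiIdeal K w) (tupMon K (belowTup c)) := by
        intro k₁ k₂ h1 h2 hw
        have hk : k₁ ≠ k₂ := by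
          rintro rfl
          exact h1 (le_refl _)
        set a := t k₁ with ha
        set b := t k₂ with hb
        set t' : Fin m → Below w :=
          Function.update (Function.update t k₁ (Below.sup a b)) k₂ (Below.inf a b) with ht'
        have hval : (fun k => (t' k).1) = Helper24Grass.repl (fun k => (t k).1) k₁ k₂
            (W4bk4grassmannian.sup a.1 b.1) (W4bk4grassmannian.inf a.1 b.1) := by
          funext k
          unfold Helper24Grass.repl
          rw [ht']
          by_cases hk2 : k = k₂
          · subst hk2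
            rw [Function.update_self, Function.update_self]
            rfl
          · rw [Function.update_of_ne hk2, Function.update_of_ne hk2]
            by_cases hk1 : k = k₁
            · subst hk1
              rw [Function.update_self, Function.update_self]
              rfl
            · rw [Function.update_of_ne hk1, Function.update_of_ne hk1]
        have hwt : Helper24Grass.wt a.1.1 < Helper24Grass.wt (W4bk4grassmannian.sup a.1 b.1).1 := by
          have hle := le_sup_left' a.1 b.1
          apply lt_of_le_of_ne (Helper24Grass.wt_mono hle)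
          intro heq
          have := Helper24Grass.eq_of_le_of_wt_eq hle heq
          apply h2
          show b.1 ≤ a.1
          rw [this]
          exact le_sup_right' a.1 b.1
        have hlt : vT (fun k => (t' k).1) < N := by
          rw [hval, ← ht]
          exact vT_repl_lt (fun k => (t k).1) k₁ k₂ hk _ _ hwt hw
        obtain ⟨c, hc1, hc2⟩ := ih _ hlt t' rfl
        refine ⟨c, ?_, ?_⟩
        · rw [hc1, hval]
          exact chainExp_repl_sup_inf (fun k => (t k).1) k₁ k₂ hk
        · rw [← hc2, Ideal.Quotient.eq]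
          have h3 : tupMon K t - tupMon K t' =
              (X a * X b - X (Below.sup a b) * X (Below.inf a b)) *
                ∏ k ∈ (Finset.univ.erase k₁).erase k₂, (X (t k) : MvPolynomial (Below w) K) := by
            unfold tupMon
            rw [Helper24Grass.prod_split _ k₁ k₂ hk,
              Helper24Grass.prod_split (fun k => (X (t' k) : MvPolynomial (Below w) K)) k₁ k₂ hk,
              sub_mul]
            have e1 : t' k₁ = Below.sup a b := by
              rw [ht', Function.update_of_ne hk, Function.update_self]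
            have e2 : t' k₂ = Below.inf a b := by
              rw [ht', Function.update_self]
            have e3 : ∏ k ∈ (Finset.univ.erase k₁).erase k₂, (X (t' k) : MvPolynomial (Below w) K) =
                ∏ k ∈ (Finset.univ.erase k₁).erase k₂, (X (t k) : MvPolynomial (Below w) K) := by
              apply Finset.prod_congr rfl
              intro k hk'
              have hk2 : k ≠ k₂ := Finset.ne_of_mem_erase hk'
              have hk1 : k ≠ k₁ := Finset.ne_of_mem_erase (Finset.mem_of_mem_erase hk')
              rw [ht', Function.update_of_ne hk2, Function.update_of_ne hk1]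
            rw [e1, e2, e3]
          rw [h3]
          apply Ideal.mul_mem_right
          exact Ideal.subset_span ⟨a, b, rfl⟩
      obtain ⟨k₁, k₂, h1, h2⟩ := hcomp
      rcases le_total (Helper24Grass.wt (t k₂).1.1) (Helper24Grass.wt (t k₁).1.1) with hw | hw
      · exact key k₁ k₂ h1 h2 hw
      · exact key k₂ k₁ h2 h1 hw

theorem span_hibi :
    ⊤ ≤ Submodule.span K (Set.range fun c : SI w =>
      Ideal.Quotient.mk (hibiIdeal K w) (tupMon K (belowTup c))) := by
  rintro q -
  obtain ⟨p, rfl⟩ := Ideal.Quotient.mk_surjective q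
  have hp : p ∈ Submodule.span K {p : MvPolynomial (Below w) K |
      ∃ (m : ℕ) (t : Fin m → Below w), p = tupMon K t} := by
    rw [span_tupMon_eq_top]; trivial
  induction hp using Submodule.span_induction with
  | mem x hx =>
    obtain ⟨m, t, rfl⟩ := hx
    obtain ⟨c, -, hc⟩ := hibi_sort K _ t rfl
    rw [hc]
    exact Submodule.subset_span ⟨c, rfl⟩
  | zero => rw [map_zero]; exact Submodule.zero_mem _
  | add x y _ _ hx hy => rw [map_add]; exact Submodule.add_mem _ hx hy
  | smul a x _ hx => rw [mk_smul']; exact Submodule.smul_mem _ _ hx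

/-- the standard monomial basis of the Hibi ring -/
def hibiBasis (hd : 0 < d) (w : Idx d n) :
    Module.Basis (SI w) K (MvPolynomial (Below w) K ⧸ hibiIdeal K w) :=
  Module.Basis.mk (indep_hibi K hd) (span_hibi K)

theorem hibiBasis_apply (hd : 0 < d) (c : SI w) :
    hibiBasis K hd w c = Ideal.Quotient.mk (hibiIdeal K w) (tupMon K (belowTup c)) := by
  unfold hibiBasis
  rw [Module.Basis.mk_apply]

end HibiF

section HibiG

open Rees

variable (K : Type u) [Field K] [Infinite K] {d n : ℕ} {w : Idx d n}

theorem vHt_append {m m' : ℕ} (t : Fin m → Idx d n) (t' : Fin m' → Idx d n) :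
    vHt (Fin.append t t') = vHt t + vHt t' := by
  unfold vHt
  rw [Fin.sum_univ_add]
  simp only [Fin.append_left, Fin.append_right]

theorem vH_nil (w : Idx d n) : vH w (SI.nil w) = 0 := by
  show vHt (SI.nil w).2.1 = 0
  unfold vHt
  simp [SI.nil]

theorem hibi_one_mem (hd : 0 < d) (w : Idx d n) :
    (1 : PlRing K d n ⧸ schubertVanishing K d n w) ∈ Fil (stdBasis K hd w) (vH w) 0 := by
  rw [← stdBasis_nil K hd w]
  apply basis_mem_Fil
  exact le_of_eq (vH_nil w)

theorem hibi_mul_mem (hd : 0 < d) (i j : SI w) :
    stdBasis K hd w i * stdBasis K hd w j ∈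
      Fil (stdBasis K hd w) (vH w) (vH w i + vH w j) := by
  rw [sr_mul_eq]
  intro c hc
  have := hibi_bound K hd w (Fin.append i.2.1 j.2.1) (append_le i j) c hc
  rw [vHt_append] at this
  exact this

theorem hibi_top' (hd : 0 < d) (i j : SI w) :
    top (stdBasis K hd w) (vH w) (hibiBasis K hd w) (vH w i + vH w j)
      (stdBasis K hd w i * stdBasis K hd w j) = hibiBasis K hd w i * hibiBasis K hd w j := by
  classical
  set t := Fin.append i.2.1 j.2.1 with ht
  set tb := Fin.append (belowTup i) (belowTup j) with htb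
  have hval : (fun k => (tb k).1) = t := by
    funext k
    exact append_belowTup_val i j k
  obtain ⟨c₁, hc1, hc2⟩ := hibi_sort K _ tb rfl
  rw [hval] at hc1
  have hf : hibiBasis K hd w i * hibiBasis K hd w j = hibiBasis K hd w c₁ := by
    rw [hibiBasis_apply, hibiBasis_apply, hibiBasis_apply, ← hc2, htb, tupMon_append, map_mul]
  have hvt : vHt t = vH w i + vH w j := vHt_append _ _
  have hv1 : vH w c₁ = vHt t := by
    show vHt c₁.2.1 = vHt t
    rw [← weight_chainExp, ← weight_chainExp, hc1]
  rw [hf, sr_mul_eq]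
  apply (hibiBasis K hd w).repr.injective
  ext c
  rw [repr_top, Module.Basis.repr_self, Finsupp.single_apply, ← hvt]
  by_cases hcc : c₁ = c
  · subst hcc
    rw [if_pos rfl, if_pos hv1, hibi_top K hd w t (append_le i j) c₁ hv1, if_pos hc1]
  · rw [if_neg hcc]
    split_ifs with hv
    · rw [hibi_top K hd w t (append_le i j) c hv, if_neg]
      intro heq
      apply hcc
      exact chainExp_SI_injective hd c₁ c (by rw [hc1, heq])
    · rfl

theorem hibi_top_one (hd : 0 < d) (w : Idx d n) :
    top (stdBasis K hd w) (vH w) (hibiBasis K hd w) 0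
      (1 : PlRing K d n ⧸ schubertVanishing K d n w) = 1 := by
  rw [← stdBasis_nil K hd w, top_basis, if_pos (vH_nil w), hibiBasis_apply]
  unfold tupMon
  simp [SI.nil]

theorem main_S11273 (K : Type u) [Field K] [IsAlgClosed K] (d n : ℕ)
    (hd : 0 < d) (_hdn : d < n) (w : Idx d n) :
    ∃ (R : Type u) (_ : CommRing R) (_ : Algebra K R) (_ : Algebra (Polynomial K) R)
      (_ : IsScalarTower K (Polynomial K) R),
      Module.Free (Polynomial K) R ∧
      Nonempty ((R ⧸ Ideal.span {algebraMap (Polynomial K) R Polynomial.X}) ≃ₐ[K]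
        (MvPolynomial (Below w) K ⧸ hibiIdeal K w)) ∧
      ∀ c : K, c ≠ 0 →
        Nonempty ((R ⧸ Ideal.span {algebraMap (Polynomial K) R (Polynomial.X - Polynomial.C c)}) ≃ₐ[K]
          (PlRing K d n ⧸ schubertVanishing K d n w)) := by
  haveI : Infinite K := inferInstance
  exact rees_degeneration (stdBasis K hd w) (vH w) (hibiBasis K hd w) (hibi_one_mem K hd w)
    (hibi_mul_mem K hd) (hibi_top' K hd) (hibi_top_one K hd w)

end HibiG

end Groth.Agent.Lib.T2H8.Grass
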