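import Mathlib
import Groth.Prelude.Def_W4bk4grassmannianPl
import Groth.Prelude.Def_CAlgX
import Groth.Agent.Lib.T2H8GrassDetC
import Groth.Agent.Lib.T2H8GrassCM

/-!
# Normality of determinantal rings (helper8)

The localization of the Schubert cone at the least Plücker coordinate is the ring of Laurent
polynomials over the determinantal ring; normality descends.
-/

noncomputable section

open MvPolynomial W4bk4grassmannian

namespace Groth.Agent.Lib.T2H8.GrassDet

open Groth.Agent.Lib.T2H8.Grass LaurentPolynomial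

universe u

section General

/-- an integral domain is integrally closed as soon as its ring of Laurent polynomials is -/
theorem isIntegrallyClosed_of_laurent (D : Type*) [CommRing D] [IsDomain D]
    [IsDomain D[T;T⁻¹]] [IsIntegrallyClosed D[T;T⁻¹]] : IsIntegrallyClosed D := by
  classical
  rw [isIntegrallyClosed_iff (FractionRing D)]
  intro x hx
  obtain ⟨a, b, rfl⟩ := IsLocalization.exists_mk'_eq (nonZeroDivisors D) x
  set F := FractionRing D[T;T⁻¹] with hF
  set g : D →+* F := (algebraMap D[T;T⁻¹] F).comp (LaurentPolynomial.C : D →+* D[T;T⁻¹]) with hg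
  have hCinj : Function.Injective (LaurentPolynomial.C : D →+* D[T;T⁻¹]) := by
    intro u v huv
    have := congrArg (fun p : D[T;T⁻¹] => p.coeff 0) huv
    simpa using this
  have hginj : Function.Injective g :=
    (IsFractionRing.injective D[T;T⁻¹] F).comp hCinj
  set φ : FractionRing D →+* F := IsFractionRing.lift hginj with hφ
  have hφalg : ∀ y : D, φ (algebraMap D (FractionRing D) y) = g y := fun y =>
    IsFractionRing.lift_algebraMap hginj y
  have h1 : IsIntegral D[T;T⁻¹] (φ (IsLocalization.mk' (FractionRing D) a b)) := by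
    obtain ⟨p, hp, hpx⟩ := hx
    refine ⟨p.map (LaurentPolynomial.C : D →+* D[T;T⁻¹]), hp.map _, ?_⟩
    rw [Polynomial.eval₂_map]
    have h2 : (algebraMap D[T;T⁻¹] F).comp (LaurentPolynomial.C : D →+* D[T;T⁻¹]) =
        φ.comp (algebraMap D (FractionRing D)) := by
      ext y
      exact (hφalg y).symm
    rw [h2, ← Polynomial.hom_eval₂, hpx, map_zero]
  obtain ⟨gL, hgL⟩ := IsIntegrallyClosed.algebraMap_eq_of_integral h1
  have h3 : φ (IsLocalization.mk' (FractionRing D) a b) * g b = g a := by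
    rw [← hφalg, ← hφalg, ← map_mul, IsLocalization.mk'_spec]
  rw [← hgL] at h3
  have h4 : gL * LaurentPolynomial.C (b : D) = LaurentPolynomial.C a := by
    apply IsFractionRing.injective D[T;T⁻¹] F
    rw [map_mul]
    exact h3
  have h5 : (gL * LaurentPolynomial.C (b : D)).coeff 0 = (LaurentPolynomial.C a : D[T;T⁻¹]).coeff 0 :=
    congrArg (fun p : D[T;T⁻¹] => p.coeff 0) h4
  refine ⟨gL.coeff 0, ?_⟩
  rw [IsLocalization.eq_mk'_iff_mul_eq, ← map_mul]
  congr 1
  have h6 : (gL * LaurentPolynomial.C (b : D)).coeff 0 = gL.coeff 0 * (b : D) := by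
    rw [← single_eq_C]
    exact AddMonoidAlgebra.coeff_mul_single_zero gL (b : D) (0 : ℤ)
  rw [h6] at h5
  rw [h5]
  simp

end General

section Scale

variable {K : Type*} [Field K] {σ : Type*} {B : Type*} [CommRing B]

theorem eval₂_mul_of_isHomogeneous (c : K →+* B) (g : σ → B) (u : B) {G : MvPolynomial σ K} {N : ℕ}
    (hG : G.IsHomogeneous N) :
    MvPolynomial.eval₂ c (fun s => g s * u) G = MvPolynomial.eval₂ c g G * u ^ N := by
  rw [MvPolynomial.eval₂_eq, MvPolynomial.eval₂_eq, Finset.sum_mul]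
  refine Finset.sum_congr rfl fun m hm => ?_
  have hdeg := hG.degree_eq_sum_deg_support hm
  simp only [mul_pow, Finset.prod_mul_distrib, Finset.prod_pow_eq_pow_sum]
  rw [← hdeg]
  ring

end Scale

section Eta

variable (K : Type u) [Field K] [IsAlgClosed K] {d r n : ℕ} (hnd : n + 1 ≤ d) (hnr : n + 1 ≤ r)

/-- `K[Z] → D[T;T⁻¹]` -/
def mkC (K : Type u) [Field K] (d r n : ℕ) : CellRing K d r →+* (DetRing K d r n)[T;T⁻¹] :=
  (LaurentPolynomial.C : DetRing K d r n →+* (DetRing K d r n)[T;T⁻¹]).comp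
    (Ideal.Quotient.mk (CAlgX.minorIdeal (genMatrix K r d) (n + 1)))

/-- the graded map `S → D[T;T⁻¹]`, `X_θ ↦ [cellMinor θ] T` -/
def eta0 (K : Type u) [Field K] (d r n : ℕ) : PlRing K d (d + r) →+* (DetRing K d r n)[T;T⁻¹] :=
  MvPolynomial.eval₂Hom ((mkC K d r n).comp MvPolynomial.C)
    (fun θ => mkC K d r n (cellMinor K d r θ) * T 1)

theorem eta0_X (θ : Idx d (d + r)) :
    eta0 K d r n (X θ) = mkC K d r n (cellMinor K d r θ) * T 1 := by
  simp [eta0]

theorem eta0_of_isHomogeneous {G : PlRing K d (d + r)} {N : ℕ} (hG : G.IsHomogeneous N) :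
    eta0 K d r n G = mkC K d r n (Psi K d r G) * T (N : ℤ) := by
  have h1 : eta0 K d r n G = MvPolynomial.eval₂ ((mkC K d r n).comp MvPolynomial.C)
      (fun θ => mkC K d r n (cellMinor K d r θ) * T 1) G := rfl
  rw [h1, eval₂_mul_of_isHomogeneous _ _ _ hG, T_pow, mul_one]
  congr 1
  have h2 : Psi K d r G = MvPolynomial.eval₂ MvPolynomial.C (fun θ => cellMinor K d r θ) G := rfl
  rw [h2, MvPolynomial.eval₂_comp_left]
  rfl

attribute [local instance] MvPolynomial.gradedAlgebra

theorem eta0_eq_sum (F : PlRing K d (d + r)) :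
    eta0 K d r n F = ∑ k ∈ Finset.range (F.totalDegree + 1),
      mkC K d r n (Psi K d r (homogeneousComponent k F)) * T (k : ℤ) := by
  have h1 := congrArg (eta0 K d r n) (sum_homogeneousComponent F).symm
  rw [h1, map_sum]
  exact Finset.sum_congr rfl fun k _ =>
    eta0_of_isHomogeneous K (homogeneousComponent_isHomogeneous k F)

include hnd hnr in
theorem eta0_eq_zero_of_mem {F : PlRing K d (d + r)}
    (hF : F ∈ schubertVanishing K d (d + r) (phiIdx (Nat.succ_pos n) hnd hnr)) :
    eta0 K d r n F = 0 := by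
  have hd : 0 < d := lt_of_lt_of_le (Nat.succ_pos n) hnd
  have hr : 0 < r := lt_of_lt_of_le (Nat.succ_pos n) hnr
  rw [eta0_eq_sum]
  apply Finset.sum_eq_zero
  intro k _
  have hk := MvPolynomial.homogeneousComponent_mem_of_mem
    (schubertVanishing_isHomogeneous K hd (Nat.lt_add_of_pos_right hr) _) hF k
  have h2 := Psi_mem_minorIdeal_of_mem_schubert K (Nat.succ_pos n) hnd hnr hk
  show LaurentPolynomial.C (Ideal.Quotient.mk _ (Psi K d r (homogeneousComponent k F))) * T (k : ℤ) = 0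
  rw [Ideal.Quotient.eq_zero_iff_mem.mpr h2, map_zero, zero_mul]

/-- the map `S/J(φ) → D[T;T⁻¹]` -/
def eta : ACone K hnd hnr →+* (DetRing K d r n)[T;T⁻¹] :=
  Ideal.Quotient.lift _ (eta0 K d r n) (fun _ ha => eta0_eq_zero_of_mem K hnd hnr ha)

theorem eta_mk (F : PlRing K d (d + r)) :
    eta K hnd hnr (Ideal.Quotient.mk _ F) = eta0 K d r n F := rfl

theorem mem_of_eta0_eq_zero {F : PlRing K d (d + r)} (h : eta0 K d r n F = 0) :
    F ∈ schubertVanishing K d (d + r) (phiIdx (Nat.succ_pos n) hnd hnr) := by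
  classical
  haveI : Infinite K := inferInstance
  have hd : 0 < d := lt_of_lt_of_le (Nat.succ_pos n) hnd
  have hr : 0 < r := lt_of_lt_of_le (Nat.succ_pos n) hnr
  haveI : Fact (0 < d) := ⟨hd⟩
  rw [eta0_eq_sum] at h
  have hk : ∀ k ∈ Finset.range (F.totalDegree + 1), homogeneousComponent k F ∈
      schubertVanishing K d (d + r) (phiIdx (Nat.succ_pos n) hnd hnr) := by
    intro k hk
    have h1 := congrArg (fun p : (DetRing K d r n)[T;T⁻¹] => p.coeff (k : ℤ)) h
    simp only [mkC, RingHom.comp_apply, ← single_eq_C_mul_T, AddMonoidAlgebra.coeff_sum,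
      AddMonoidAlgebra.coeff_single, Finsupp.finset_sum_apply, Finsupp.single_apply,
      Nat.cast_inj, AddMonoidAlgebra.coeff_zero, Finsupp.coe_zero, Pi.zero_apply] at h1
    rw [Finset.sum_ite_eq' _ k, if_pos hk, Ideal.Quotient.eq_zero_iff_mem] at h1
    have h3 := mem_schubert_of_vanishing K (Nat.succ_pos n) hnd hnr (homogeneousComponent k F) k
      (homogeneousComponent_isHomogeneous k F)
      (fun U W => eval_eq_zero_of_mem_minorIdeal K h1 U W)
    exact (Ideal.IsPrime.mem_or_mem inferInstance h3).resolve_right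
      (X_iota_notMem K hd (Nat.lt_add_of_pos_right hr) _)
  rw [← sum_homogeneousComponent F]
  exact Ideal.sum_mem _ hk

theorem eta_injective : Function.Injective (eta K hnd hnr) := by
  rw [injective_iff_map_eq_zero]
  intro a ha
  obtain ⟨F, rfl⟩ := Ideal.Quotient.mk_surjective a
  rw [eta_mk] at ha
  exact Ideal.Quotient.eq_zero_iff_mem.mpr (mem_of_eta0_eq_zero K hnd hnr ha)

/-- the class of the least Plücker coordinate -/
def xbar : ACone K hnd hnr :=
  Ideal.Quotient.mk _ (X (iota0 d r (lt_of_lt_of_le (Nat.succ_pos n) hnr)))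

theorem eta_xbar : eta K hnd hnr (xbar K hnd hnr) = T 1 := by
  have hr : 0 < r := lt_of_lt_of_le (Nat.succ_pos n) hnr
  rw [xbar, eta_mk, eta0_X, ← Psi_X, Psi_iota K d r hr, map_one, one_mul]

theorem xbar_ne_zero : xbar K hnd hnr ≠ 0 := by
  haveI : Infinite K := inferInstance
  have hd : 0 < d := lt_of_lt_of_le (Nat.succ_pos n) hnd
  have hr : 0 < r := lt_of_lt_of_le (Nat.succ_pos n) hnr
  intro h
  rw [xbar, Ideal.Quotient.eq_zero_iff_mem] at h
  exact X_iota_notMem K hd (Nat.lt_add_of_pos_right hr) _ h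

theorem eta_surj (z : (DetRing K d r n)[T;T⁻¹]) :
    ∃ (a : ACone K hnd hnr) (k : ℕ), z * T (k : ℤ) = eta K hnd hnr a := by
  haveI : Infinite K := inferInstance
  have hr : 0 < r := lt_of_lt_of_le (Nat.succ_pos n) hnr
  induction z using LaurentPolynomial.induction_on' with
  | add p q hp hq =>
    obtain ⟨a₁, k₁, h₁⟩ := hp
    obtain ⟨a₂, k₂, h₂⟩ := hq
    refine ⟨a₁ * xbar K hnd hnr ^ k₂ + a₂ * xbar K hnd hnr ^ k₁, k₁ + k₂, ?_⟩
    rw [map_add, map_mul, map_mul, map_pow, map_pow, eta_xbar, T_pow, T_pow, ← h₁, ← h₂, mul_one,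
      mul_one, mul_assoc, mul_assoc, ← T_add, ← T_add, add_mul]
    push_cast
    rw [add_comm (k₂ : ℤ) (k₁ : ℤ)]
  | C_mul_T j a =>
    obtain ⟨f, rfl⟩ := Ideal.Quotient.mk_surjective a
    obtain ⟨F, rfl⟩ := Psi_surjective K d r hr f
    set ι₀ := iota0 d r hr with hι₀
    have hΨG : Psi K d r (homogenize F ι₀) = Psi K d r F :=
      map_homogenize (Psi K d r).toRingHom F ι₀ (Psi_iota K d r hr)
    have hG := eta0_of_isHomogeneous K (n := n) (homogenize_isHomogeneous F ι₀)
    rw [hΨG] at hG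
    set N := F.totalDegree with hN
    obtain ⟨k, e, hke⟩ : ∃ k e : ℕ, j + (k : ℤ) = (N : ℤ) + (e : ℤ) :=
      ⟨((N : ℤ) - j).toNat, (j + ((N : ℤ) - j).toNat - N).toNat, by omega⟩
    refine ⟨Ideal.Quotient.mk _ (homogenize F ι₀) * xbar K hnd hnr ^ e, k, ?_⟩
    rw [map_mul, map_pow, eta_xbar, eta_mk, hG, T_pow, mul_one, mul_assoc, mul_assoc, ← T_add, ← T_add,
      hke]
    rfl

theorem isLocalization_eta :
    letI := (eta K hnd hnr).toAlgebra
    IsLocalization (Submonoid.powers (xbar K hnd hnr)) (DetRing K d r n)[T;T⁻¹] := by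
  letI := (eta K hnd hnr).toAlgebra
  rw [isLocalization_iff]
  refine ⟨?_, ?_, ?_⟩
  · rintro ⟨y, k, rfl⟩
    show IsUnit (eta K hnd hnr (xbar K hnd hnr ^ k))
    rw [map_pow, eta_xbar, T_pow]
    exact isUnit_T _
  · intro z
    obtain ⟨a, k, h⟩ := eta_surj K hnd hnr z
    refine ⟨(a, ⟨xbar K hnd hnr ^ k, k, rfl⟩), ?_⟩
    show z * eta K hnd hnr (xbar K hnd hnr ^ k) = eta K hnd hnr a
    rw [map_pow, eta_xbar, T_pow, mul_one]
    exact h
  · intro x y hxy
    exact ⟨1, by rw [eta_injective K hnd hnr hxy]⟩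

include hnd hnr in
theorem detRing_isIntegrallyClosed : IsIntegrallyClosed (DetRing K d r n) := by
  have hd : 0 < d := lt_of_lt_of_le (Nat.succ_pos n) hnd
  have hr : 0 < r := lt_of_lt_of_le (Nat.succ_pos n) hnr
  haveI := detRing_isDomain K d r n
  letI := (eta K hnd hnr).toAlgebra
  haveI := isLocalization_eta K hnd hnr
  haveI : IsIntegrallyClosed (ACone K hnd hnr) :=
    (main_S11259 K d (d + r) hd (Nat.lt_add_of_pos_right hr) _).2
  have hle : Submonoid.powers (xbar K hnd hnr) ≤ nonZeroDivisors (ACone K hnd hnr) :=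
    powers_le_nonZeroDivisors_of_noZeroDivisors (xbar_ne_zero K hnd hnr)
  haveI : IsDomain (DetRing K d r n)[T;T⁻¹] :=
    IsLocalization.isDomain_of_le_nonZeroDivisors (R := ACone K hnd hnr) _ hle
  haveI : IsIntegrallyClosed (DetRing K d r n)[T;T⁻¹] :=
    isIntegrallyClosed_of_isLocalization _ (Submonoid.powers (xbar K hnd hnr)) hle
  exact isIntegrallyClosed_of_laurent _

end Eta

section MainDet

/-- S11264: determinantal rings are normal Cohen–Macaulay domains of the expected dimension. -/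
theorem main_S11264 (K : Type u) [Field K] [IsAlgClosed K] (m n t : ℕ)
    (_hm : 0 < m) (_hn : 0 < n) (ht : 1 ≤ t) (htm : t ≤ m) (htn : t ≤ n) :
    IsDomain (MvPolynomial (Fin m × Fin n) K ⧸ CAlgX.minorIdeal (genMatrix K m n) t) ∧
      IsIntegrallyClosed (MvPolynomial (Fin m × Fin n) K ⧸ CAlgX.minorIdeal (genMatrix K m n) t) ∧
      LocCoh.IsCohenMacaulayRing (MvPolynomial (Fin m × Fin n) K ⧸ CAlgX.minorIdeal (genMatrix K m n) t) ∧
      ringKrullDim (MvPolynomial (Fin m × Fin n) K ⧸ CAlgX.minorIdeal (genMatrix K m n) t) =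
        (((t - 1) * (m + n - t + 1) : ℕ) : WithBot ℕ∞) := by
  obtain ⟨t', rfl⟩ : ∃ t', t = t' + 1 := ⟨t - 1, by omega⟩
  refine ⟨detRing_isDomain K n m t', detRing_isIntegrallyClosed K htn htm,
    detRing_isCohenMacaulay K htn htm, ?_⟩
  have h1 := detRing_dim K htn htm
  have h2 : (t' + 1 - 1) * (m + n - (t' + 1) + 1) = t' * (n + m - t') := by
    have e1 : t' + 1 - 1 = t' := by omega
    have e2 : m + n - (t' + 1) + 1 = n + m - t' := by omega
    rw [e1, e2]
  rw [h2]
  exact h1

end MainDet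

end Groth.Agent.Lib.T2H8.GrassDet
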