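import Mathlib
import Groth.Prelude.Def_W4bk4grassmannianPl
import Groth.Prelude.Def_CAlgX
import Groth.Agent.Lib.T2H8GrassDetC

/-!
# The vanishing ideal of the hyperplane section `δ = 0` of a determinantal variety (helper8)
-/

noncomputable section

open MvPolynomial W4bk4grassmannian

namespace Groth.Agent.Lib.T2H8.GrassDet

open Groth.Agent.Lib.T2H8.Grass

universe u

section MainE

variable (K : Type u) [Field K] [IsAlgClosed K] {d r t : ℕ}

theorem mem_schubert_of_vanishing' (ht : 0 < t) (htd : t ≤ d) (htr : t ≤ r)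
    (φ' : Idx d (d + r)) (hφ' : φ' ≤ phiIdx ht htd htr)
    (G : PlRing K d (d + r)) (N : ℕ) (hG : G.IsHomogeneous N)
    (hvan : ∀ (U : Matrix (Fin r) (Fin (t - 1)) K) (W : Matrix (Fin (t - 1)) (Fin d) K),
      (∀ θ : Idx d (d + r), ¬ θ ≤ φ' →
        eval (fun p : Fin r × Fin d => (U * W) p.1 p.2) (cellMinor K d r θ) = 0) →
      eval (fun p : Fin r × Fin d => (U * W) p.1 p.2) (Psi K d r G) = 0) :
    G * X (iotaIdx (Nat.lt_add_of_pos_right (lt_of_lt_of_le ht htr) : d < d + r)) ∈
      schubertVanishing K d (d + r) φ' := by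
  classical
  haveI : Infinite K := inferInstance
  have hd : 0 < d := lt_of_lt_of_le ht htd
  have hr : 0 < r := lt_of_lt_of_le ht htr
  set ι₀ := iotaIdx (Nat.lt_add_of_pos_right hr : d < d + r) with hι₀
  set φ := phiIdx ht htd htr with hφ
  have hφ'v : ∀ s : Fin d, (φ'.1 s).val ≤ (φ.1 s).val := fun s => Fin.le_def.mp (hφ' s)
  rw [schubertVanishing_eq_ker_evalShape K hd φ']
  show evalShape K φ' (G * X ι₀) = 0
  apply MvPolynomial.funext
  intro a
  rw [eval_evalShape, map_zero, map_mul, evalMinors_X]
  set A : Matrix (Fin (d + r)) (Fin d) K := (shapeMat K φ').map (eval a) with hA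
  have hAs : A = shapePt K φ' a := rfl
  set T : Matrix (Fin d) (Fin d) K := A.submatrix ι₀.1 id with hT
  by_cases hδ : T.det = 0
  · rw [hδ, mul_zero]
  · have hTu : IsUnit T.det := IsUnit.mk0 _ hδ
    set Bot : Matrix (Fin r) (Fin d) K := A.submatrix (Fin.natAdd d) id with hBot
    set z : Fin r × Fin d → K := fun p => (Bot * T⁻¹) p.1 p.2 with hz
    have hιc : ∀ c : Fin d, ι₀.1 c = Fin.castAdd r c := fun c => Fin.ext rfl
    have hAeq : A = cellPt K d r z * T := by
      ext i j
      refine Fin.addCases (fun c => ?_) (fun ρ => ?_) i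
      · rw [Matrix.mul_apply]
        simp only [cellPt_castAdd]
        rw [Finset.sum_eq_single c]
        · rw [if_pos rfl, one_mul, hT, Matrix.submatrix_apply, hιc, id]
        · intro b _ hb
          rw [if_neg (Ne.symm hb), zero_mul]
        · intro h; exact absurd (Finset.mem_univ c) h
      · rw [Matrix.mul_apply]
        simp only [cellPt_natAdd]
        have h1 : ∑ k, z (ρ, k) * T k j = ((Bot * T⁻¹) * T) ρ j := by
          rw [Matrix.mul_apply]
        rw [h1, Matrix.nonsing_inv_mul_cancel_right _ _ hTu]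
        rfl
    have hscale : evalMinors K d (d + r) A G = T.det ^ N * evalMinors K d (d + r) (cellPt K d r z) G := by
      have h1 : (fun θ : Idx d (d + r) => (A.submatrix θ.1 id).det) =
          fun θ => T.det * ((cellPt K d r z).submatrix θ.1 id).det := by
        funext θ
        have : A.submatrix θ.1 id = (cellPt K d r z).submatrix θ.1 id * T := by
          rw [hAeq]; ext s j; simp [Matrix.mul_apply]
        rw [this, Matrix.det_mul, mul_comm]
      have e1 : evalMinors K d (d + r) A G =
          eval (fun θ : Idx d (d + r) => (A.submatrix θ.1 id).det) G := rfl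
      have e2 : evalMinors K d (d + r) (cellPt K d r z) G =
          eval (fun θ : Idx d (d + r) => ((cellPt K d r z).submatrix θ.1 id).det) G := rfl
      rw [e1, e2, h1, eval_mul_of_isHomogeneous hG]
    -- the factorization of the bottom block
    set U : Matrix (Fin r) (Fin (t - 1)) K := Bot.submatrix id (lastCols d t htd) with hU
    set P : Matrix (Fin (t - 1)) (Fin d) K :=
      (1 : Matrix (Fin d) (Fin d) K).submatrix (lastCols d t htd) id with hP
    have hUP : U * P = Bot := by
      ext ρ s
      rw [Matrix.mul_apply]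
      by_cases hs : s.val + t ≤ d
      · have h0 : Bot ρ s = 0 := by
          rw [hBot, Matrix.submatrix_apply, id, hAs]
          apply shapePt_support
          rw [Fin.lt_def]
          have h1 := hφ'v s
          rw [hφ, phiIdx_val, if_pos hs] at h1
          show (φ'.1 s).val < d + ρ.val
          omega
        rw [h0]
        apply Finset.sum_eq_zero
        intro j _
        have : lastCols d t htd j ≠ s := by
          intro h
          have := congrArg Fin.val h
          simp only [lastCols] at this
          omega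
        rw [hP, Matrix.submatrix_apply, id, Matrix.one_apply_ne this, mul_zero]
      · have hs' := s.isLt
        have hj : s.val - (d - t + 1) < t - 1 := by omega
        rw [Finset.sum_eq_single (⟨s.val - (d - t + 1), hj⟩ : Fin (t - 1))]
        · have : lastCols d t htd ⟨s.val - (d - t + 1), hj⟩ = s := by
            apply Fin.ext
            simp only [lastCols]
            omega
          rw [hU, hP, Matrix.submatrix_apply, Matrix.submatrix_apply, id, id, this,
            Matrix.one_apply_eq, mul_one]
        · intro j _ hj'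
          have : lastCols d t htd j ≠ s := by
            intro h
            apply hj'
            apply Fin.ext
            have := congrArg Fin.val h
            simp only [lastCols] at this
            show j.val = s.val - (d - t + 1)
            omega
          rw [hP, Matrix.submatrix_apply, id, Matrix.one_apply_ne this, mul_zero]
        · intro h; exact absurd (Finset.mem_univ _) h
    have hz' : (fun p : Fin r × Fin d => (U * (P * T⁻¹)) p.1 p.2) = z := by
      rw [← Matrix.mul_assoc, hUP]
    have hcond : ∀ θ : Idx d (d + r), ¬ θ ≤ φ' →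
        eval (fun p : Fin r × Fin d => (U * (P * T⁻¹)) p.1 p.2) (cellMinor K d r θ) = 0 := by
      intro θ hθ
      rw [hz', eval_cellMinor]
      have h1 : A.submatrix θ.1 id = (cellPt K d r z).submatrix θ.1 id * T := by
        rw [hAeq]; ext s j; simp [Matrix.mul_apply]
      have h2 : (A.submatrix θ.1 id).det = 0 := schubert_cond_shapeMat K φ' a θ hθ
      rw [h1, Matrix.det_mul] at h2
      exact (mul_eq_zero.mp h2).resolve_right hδ
    rw [hscale, ← eval_Psi, ← hz', hvan U (P * T⁻¹) hcond, mul_zero, zero_mul]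


end MainE

section L3

variable (K : Type u) [Field K] [IsAlgClosed K] {d r n : ℕ}

theorem iota_lt_phi (hn : 0 < n) (hnd : n + 1 ≤ d) (hnr : n + 1 ≤ r) :
    iota0 d r (lt_of_lt_of_le (Nat.succ_pos n) hnr) < phiIdx (Nat.succ_pos n) hnd hnr := by
  refine lt_of_le_of_ne (iotaIdx_le _ _) ?_
  intro h
  have hd : 0 < d := lt_of_lt_of_le (Nat.succ_pos n) hnd
  have h1 := congrArg (fun θ : Idx d (d + r) => (θ.1 ⟨0, hd⟩).val) h
  simp only [phiIdx_val] at h1
  rw [if_pos (by omega)] at h1
  have h2 : ((iota0 d r (lt_of_lt_of_le (Nat.succ_pos n) hnr)).1 ⟨0, hd⟩).val = 0 := rfl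
  omega

/-- the vanishing ideal of the rank `≤ n` matrices on which the minor `δ = cellMinor φ` vanishes is
`I_{n+1} + (δ)` -/
theorem mem_sup_of_vanishing (hn : 0 < n) (hnd : n + 1 ≤ d) (hnr : n + 1 ≤ r) (g : CellRing K d r)
    (hvan : ∀ (U : Matrix (Fin r) (Fin n) K) (W : Matrix (Fin n) (Fin d) K),
      eval (fun p : Fin r × Fin d => (U * W) p.1 p.2)
        (cellMinor K d r (phiIdx (Nat.succ_pos n) hnd hnr)) = 0 →
      eval (fun p : Fin r × Fin d => (U * W) p.1 p.2) g = 0) :
    g ∈ CAlgX.minorIdeal (genMatrix K r d) (n + 1) ⊔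
      Ideal.span {cellMinor K d r (phiIdx (Nat.succ_pos n) hnd hnr)} := by
  haveI : Infinite K := inferInstance
  have hd : 0 < d := lt_of_lt_of_le (Nat.succ_pos n) hnd
  have hr : 0 < r := lt_of_lt_of_le (Nat.succ_pos n) hnr
  obtain ⟨F, rfl⟩ := Psi_surjective K d r hr g
  set ι₀ := iota0 d r hr with hι₀
  set φ := phiIdx (Nat.succ_pos n) hnd hnr with hφ
  have hΨG : Psi K d r (homogenize F ι₀) = Psi K d r F :=
    map_homogenize (Psi K d r).toRingHom F ι₀ (Psi_iota K d r hr)
  have h1 : homogenize F ι₀ * X ι₀ ∈ ⨅ φ' ∈ divisors φ, schubertVanishing K d (d + r) φ' := by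
    refine Ideal.mem_iInf.mpr fun φ' => Ideal.mem_iInf.mpr fun hφ' => ?_
    exact mem_schubert_of_vanishing' K (Nat.succ_pos n) hnd hnr φ' (le_of_lt hφ'.1)
      (homogenize F ι₀) _ (homogenize_isHomogeneous F ι₀)
      (fun U W hc => by rw [hΨG]; exact hvan U W (hc φ (not_le_of_gt hφ'.1)))
  rw [← main_S11254 K d (d + r) hd (Nat.lt_add_of_pos_right hr) φ ⟨ι₀, iota_lt_phi hn hnd hnr⟩] at h1
  obtain ⟨j, hj, c, hc, hjc⟩ := Submodule.mem_sup.mp h1
  obtain ⟨c', rfl⟩ := Ideal.mem_span_singleton'.mp hc
  have h2 : Psi K d r F = Psi K d r j + Psi K d r c' * cellMinor K d r φ := by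
    rw [← hΨG, ← mul_one (Psi K d r (homogenize F ι₀)), ← Psi_iota K d r hr, ← map_mul, ← hjc,
      map_add, map_mul, Psi_X]
  rw [h2]
  refine Ideal.add_mem _ (Ideal.mem_sup_left ?_) (Ideal.mem_sup_right ?_)
  · exact Psi_mem_minorIdeal_of_mem_schubert K (Nat.succ_pos n) hnd hnr hj
  · exact Ideal.mul_mem_left _ _ (Ideal.mem_span_singleton_self _)

end L3

section BlockPhi

variable (K : Type u) [Field K] {d r n : ℕ}

/-- the last `n` rows -/
def lastRows (r n : ℕ) (hnr : n ≤ r) (j : Fin n) : Fin r := ⟨r - n + j.val, by have := j.isLt; omega⟩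

/-- the first `n` columns -/
def firstCols (d n : ℕ) (hnd : n ≤ d) (j : Fin n) : Fin d := ⟨j.val, by have := j.isLt; omega⟩

/-- the minor `δ` of the generic matrix on the last `n` rows and first `n` columns -/
def deltaGen (K : Type u) [Field K] (d r n : ℕ) (hnd : n ≤ d) (hnr : n ≤ r) : CellRing K d r :=
  ((genMatrix K r d).submatrix (lastRows r n hnr) (firstCols d n hnd)).det

theorem cellMinor_phi_eq (hnd : n + 1 ≤ d) (hnr : n + 1 ≤ r) :
    ∃ u : ℤˣ, cellMinor K d r (phiIdx (Nat.succ_pos n) hnd hnr) =
      ((u : ℤ) : CellRing K d r) * deltaGen K d r n (by omega) (by omega) := by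
  have h1 : n + (d - n) = d := by omega
  have h2 : d - n + n = d := by omega
  refine Groth.Agent.S11275.block_det K d r (d - n) n
    (fun i => ⟨n + i.val, by have := i.isLt; omega⟩) ?_ (firstCols d n (by omega)) ?_
    ((Equiv.sumComm (Fin (d - n)) (Fin n)).trans (finSumFinEquiv.trans (finCongr h1))) ?_ ?_
    (lastRows r n (by omega)) (phiIdx (Nat.succ_pos n) hnd hnr).1
    (finSumFinEquiv.trans (finCongr h2)) ?_ ?_
  · intro a b hab
    have := congrArg Fin.val hab
    simp only at this
    exact Fin.ext (by omega)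
  · intro i j h
    have := congrArg Fin.val h
    simp only [firstCols] at this
    have := j.isLt
    omega
  · intro i
    apply Fin.ext
    simp
  · intro j
    apply Fin.ext
    simp [firstCols]
  · intro i
    apply Fin.ext
    rw [phiIdx_val]
    have hi := i.isLt
    have e : ((finSumFinEquiv.trans (finCongr h2)) (Sum.inl i) : Fin d).val = i.val := by simp
    rw [e, if_pos (by omega)]
    simp
  · intro j
    apply Fin.ext
    rw [phiIdx_val]
    have hj := j.isLt
    have e : ((finSumFinEquiv.trans (finCongr h2)) (Sum.inr j) : Fin d).val = d - n + j.val := by simp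
    rw [e, if_neg (by omega)]
    simp only [lastRows, Fin.natAdd_mk]
    omega

end BlockPhi

section L3'

variable (K : Type u) [Field K] [IsAlgClosed K] {d r n : ℕ}

theorem mem_sup_deltaGen_of_vanishing (hn : 0 < n) (hnd : n + 1 ≤ d) (hnr : n + 1 ≤ r)
    (g : CellRing K d r)
    (hvan : ∀ (U : Matrix (Fin r) (Fin n) K) (W : Matrix (Fin n) (Fin d) K),
      eval (fun p : Fin r × Fin d => (U * W) p.1 p.2) (deltaGen K d r n (by omega) (by omega)) = 0 →
      eval (fun p : Fin r × Fin d => (U * W) p.1 p.2) g = 0) :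
    g ∈ CAlgX.minorIdeal (genMatrix K r d) (n + 1) ⊔
      Ideal.span {deltaGen K d r n (by omega) (by omega)} := by
  obtain ⟨u, hu⟩ := cellMinor_phi_eq K hnd hnr
  have huu : ((u : ℤ) : CellRing K d r) * ((u : ℤ) : CellRing K d r) = 1 := by
    rw [← Int.cast_mul, ← Units.val_mul, Int.units_mul_self]; simp
  have h1 := mem_sup_of_vanishing K hn hnd hnr g (fun U W h => hvan U W (by
    rw [hu, map_mul] at h
    rcases mul_eq_zero.mp h with h' | h'
    · exfalso
      have := congrArg (eval fun p : Fin r × Fin d => (U * W) p.1 p.2) huu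
      rw [map_mul, h', zero_mul, map_one] at this
      exact zero_ne_one this
    · exact h'))
  have h2 : Ideal.span {cellMinor K d r (phiIdx (Nat.succ_pos n) hnd hnr)} ≤
      Ideal.span {deltaGen K d r n (by omega) (by omega)} := by
    rw [Ideal.span_le, Set.singleton_subset_iff, hu]
    exact Ideal.mul_mem_left _ _ (Ideal.mem_span_singleton_self _)
  exact sup_le_sup_left h2 _ h1

end L3'

end Groth.Agent.Lib.T2H8.GrassDet
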