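import Mathlib
import Groth.Prelude.Def_W4bk4grassmannianPl
import Groth.Prelude.Def_CAlgX
import Groth.Agent.Lib.T2H8GrassDetC
import Groth.Agent.Lib.Helper4TensorDim

/-!
# The dimension of generic determinantal rings over an arbitrary field (helper8)
-/

noncomputable section

open MvPolynomial W4bk4grassmannian TensorProduct

namespace Groth.Agent.Lib.T2H8.GrassDet

universe u

section BaseChange

variable (k : Type u) [Field k] (K : Type u) [Field K] [Algebra k K] (d r t : ℕ)

theorem map_minorIdeal :
    (CAlgX.minorIdeal (genMatrix k r d) t).map (MvPolynomial.map (algebraMap k K)) =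
      CAlgX.minorIdeal (genMatrix K r d) t := by
  unfold CAlgX.minorIdeal
  rw [Ideal.map_span]
  congr 1
  ext x
  constructor
  · rintro ⟨_, ⟨fg, rfl⟩, rfl⟩
    refine ⟨fg, ?_⟩
    simp only
    rw [RingHom.map_det]
    congr 1
    ext i j
    simp [genMatrix]
  · rintro ⟨fg, rfl⟩
    refine ⟨_, ⟨fg, rfl⟩, ?_⟩
    simp only
    rw [RingHom.map_det]
    congr 1
    ext i j
    simp [genMatrix]

/-- base change of the determinantal ring -/
def detBaseChange :
    K ⊗[k] (CellRing k d r ⧸ CAlgX.minorIdeal (genMatrix k r d) t) ≃+*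
      (CellRing K d r ⧸ CAlgX.minorIdeal (genMatrix K r d) t) :=
  (Algebra.TensorProduct.tensorQuotientEquiv (R := k) K (CellRing k d r) K
    (CAlgX.minorIdeal (genMatrix k r d) t)).toRingEquiv.trans
  (Ideal.quotientEquiv _ _ (MvPolynomial.algebraTensorAlgEquiv k K).toRingEquiv (by
    have h1 : Ideal.map ((MvPolynomial.algebraTensorAlgEquiv (σ := Fin r × Fin d) k K).toRingEquiv :
          K ⊗[k] MvPolynomial (Fin r × Fin d) k →+* MvPolynomial (Fin r × Fin d) K)
        (Ideal.map (Algebra.TensorProduct.includeRight : CellRing k d r →ₐ[k] K ⊗[k] CellRing k d r)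
          (CAlgX.minorIdeal (genMatrix k r d) t)) =
        Ideal.map ((((MvPolynomial.algebraTensorAlgEquiv (σ := Fin r × Fin d) k K).toRingEquiv :
          K ⊗[k] MvPolynomial (Fin r × Fin d) k →+* MvPolynomial (Fin r × Fin d) K)).comp
          (Algebra.TensorProduct.includeRight :
            CellRing k d r →ₐ[k] K ⊗[k] CellRing k d r).toRingHom)
          (CAlgX.minorIdeal (genMatrix k r d) t) := Ideal.map_map _ _
    rw [h1, ← map_minorIdeal k K d r t]
    congr 1
    ext p
    · simp
    · simp))

end BaseChange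

section DimAny

variable (k : Type u) [Field k] {d r n : ℕ}

theorem detRing_dim_anyField (hnd : n + 1 ≤ d) (hnr : n + 1 ≤ r) :
    ringKrullDim (CellRing k d r ⧸ CAlgX.minorIdeal (genMatrix k r d) (n + 1)) =
      ((n * (d + r - n) : ℕ) : WithBot ℕ∞) := by
  have h1 := Groth.Agent.Lib.Helper4.TensorDim.ringKrullDim_tensor_eq_add k
    (CellRing k d r ⧸ CAlgX.minorIdeal (genMatrix k r d) (n + 1)) (AlgebraicClosure k)
  rw [ringKrullDim_eq_zero_of_field, add_zero] at h1
  rw [← h1, ringKrullDim_eq_of_ringEquiv (Algebra.TensorProduct.comm k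
      (CellRing k d r ⧸ CAlgX.minorIdeal (genMatrix k r d) (n + 1)) (AlgebraicClosure k)).toRingEquiv,
    ringKrullDim_eq_of_ringEquiv (detBaseChange k (AlgebraicClosure k) d r (n + 1))]
  exact detRing_dim (AlgebraicClosure k) hnd hnr

end DimAny

section Main10870
variable (k : Type u) [Field k]

theorem ringKrullDim_quot_bot_mvPolynomial (n m : ℕ) :
    ringKrullDim (MvPolynomial (Fin n × Fin m) k ⧸ (⊥ : Ideal (MvPolynomial (Fin n × Fin m) k))) =
      ((n * m : ℕ) : WithBot ℕ∞) := by
  rw [ringKrullDim_eq_of_ringEquiv (RingEquiv.quotientBot (MvPolynomial (Fin n × Fin m) k)),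
    MvPolynomial.ringKrullDim_of_isNoetherianRing, ringKrullDim_eq_zero_of_field, zero_add]
  simp

theorem main_S10870 (n m r : ℕ) (hr : r ≤ min n m) :
    ringKrullDim (MvPolynomial (Fin n × Fin m) k ⧸ CAlgX.minorIdeal (Matrix.of fun (i : Fin n) (j : Fin m) => (MvPolynomial.X (i, j) : MvPolynomial (Fin n × Fin m) k)) (r + 1)) =
      ((r * (m + n - r) : ℕ) : WithBot ℕ∞) := by
  have hrn : r ≤ n := le_trans hr (min_le_left _ _)
  have hrm : r ≤ m := le_trans hr (min_le_right _ _)
  by_cases h : r + 1 ≤ n ∧ r + 1 ≤ m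
  · exact detRing_dim_anyField k (d := m) (r := n) (n := r) h.2 h.1
  · have hbot : CAlgX.minorIdeal (Matrix.of fun (i : Fin n) (j : Fin m) => (MvPolynomial.X (i, j) : MvPolynomial (Fin n × Fin m) k)) (r + 1) = ⊥ := by
      by_cases h1 : r + 1 ≤ n
      · exact minorIdeal_eq_bot_of_cols_lt k n r m (by omega)
      · exact minorIdeal_eq_bot_of_rows_lt k n r m (by omega)
    rw [hbot, ringKrullDim_quot_bot_mvPolynomial]
    have : r * (m + n - r) = n * m := by
      by_cases h1 : r + 1 ≤ n
      · have : r = m := by omega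
        subst this
        rw [show r + n - r = n by omega, mul_comm]
      · have : r = n := by omega
        subst this
        rw [show m + r - r = m by omega]
    rw [this]

end Main10870

end Groth.Agent.Lib.T2H8.GrassDet
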