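import Mathlib
import Groth.Prelude.Def_W4bk4grassmannianPl
import Groth.Agent.Lib.T2H8GrassDetB

/-!
# The First Fundamental Theorem for `GL_n`, part a: basics (helper8)
-/

noncomputable section

open MvPolynomial W4bk4grassmannian

namespace Groth.Agent.Lib.T2H8.GrassDet

universe u

section Basics

variable (K : Type u) [Field K] (m n q : ℕ)

theorem eval_glTranslate (A : GL (Fin n) K) (U : Matrix (Fin m) (Fin n) K)
    (W : Matrix (Fin n) (Fin q) K) (f : PairRing K n m q) :
    eval (pairPt K m n q U W) (glTranslate K n m q A f) =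
      eval (pairPt K m n q (U * ((A⁻¹ : GL (Fin n) K) : Matrix (Fin n) (Fin n) K))
        ((A : Matrix (Fin n) (Fin n) K) * W)) f := by
  induction f using MvPolynomial.induction_on with
  | C a => simp [glTranslate]
  | add p q hp hq => rw [map_add, map_add, map_add, hp, hq]
  | mul_X p i hp =>
    rw [map_mul, map_mul, map_mul, hp]
    congr 1
    rcases i with ⟨i, k⟩ | ⟨k, j⟩
    · simp [glTranslate, pairPt, Matrix.mul_apply]
    · simp [glTranslate, pairPt, Matrix.mul_apply]

theorem eval_eq_of_invariant {f : PairRing K n m q}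
    (hf : ∀ A : GL (Fin n) K, glTranslate K n m q A f = f)
    (A : GL (Fin n) K) (U : Matrix (Fin m) (Fin n) K) (W : Matrix (Fin n) (Fin q) K) :
    eval (pairPt K m n q (U * ((A⁻¹ : GL (Fin n) K) : Matrix (Fin n) (Fin n) K))
        ((A : Matrix (Fin n) (Fin n) K) * W)) f = eval (pairPt K m n q U W) f := by
  rw [← eval_glTranslate, hf A]

theorem glTranslate_pairingMap [Infinite K] (A : GL (Fin n) K) (g : MvPolynomial (Fin m × Fin q) K) :
    glTranslate K n m q A (pairingMap K n m q g) = pairingMap K n m q g := by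
  apply MvPolynomial.funext
  intro x
  have hx : x = pairPt K m n q (Matrix.of fun i k => x (Sum.inl (i, k)))
      (Matrix.of fun k j => x (Sum.inr (k, j))) := by
    funext v
    rcases v with ⟨i, k⟩ | ⟨k, j⟩ <;> rfl
  rw [hx, eval_glTranslate, eval_pairingMap, eval_pairingMap]
  congr 2
  funext p
  have h1 : ((A⁻¹ : GL (Fin n) K) : Matrix (Fin n) (Fin n) K) * (A : Matrix (Fin n) (Fin n) K) = 1 := by
    rw [← Matrix.GeneralLinearGroup.coe_mul, inv_mul_cancel]; rfl
  rw [Matrix.mul_assoc, ← Matrix.mul_assoc _ (A : Matrix (Fin n) (Fin n) K), h1, Matrix.one_mul]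

/-- two polynomials agreeing where a nonzero polynomial does not vanish are equal -/
theorem eq_of_eval_eq_of_ne_zero [Infinite K] {σ : Type*} {f g p : MvPolynomial σ K} (hp : p ≠ 0)
    (h : ∀ x : σ → K, eval x p ≠ 0 → eval x f = eval x g) : f = g := by
  have h1 : (f - g) * p = 0 := by
    apply MvPolynomial.funext
    intro x
    rw [map_mul, map_sub, map_zero]
    by_cases hx : eval x p = 0
    · rw [hx, mul_zero]
    · rw [h x hx, sub_self, zero_mul]
  rcases mul_eq_zero.mp h1 with h2 | h2
  · exact sub_eq_zero.mp h2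
  · exact absurd h2 hp

/-- every point of the pair space is a pair of matrices -/
theorem exists_pairPt (x : (Fin m × Fin n) ⊕ (Fin n × Fin q) → K) :
    ∃ (U : Matrix (Fin m) (Fin n) K) (W : Matrix (Fin n) (Fin q) K), x = pairPt K m n q U W := by
  refine ⟨Matrix.of fun i k => x (Sum.inl (i, k)), Matrix.of fun k j => x (Sum.inr (k, j)), ?_⟩
  funext v
  rcases v with ⟨i, k⟩ | ⟨k, j⟩ <;> rfl

/-- a polynomial in one variable taking the same value at all nonzero points is constant -/
theorem eval_zero_eq_of_forall_ne_zero [Infinite K] (P : Polynomial K) (c : K)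
    (h : ∀ l : K, l ≠ 0 → P.eval l = c) : P.eval 0 = c := by
  have h1 : P - Polynomial.C c = 0 := by
    apply Polynomial.eq_zero_of_infinite_isRoot
    have hsub : {l : K | l ≠ 0} ⊆ {l | (P - Polynomial.C c).IsRoot l} := by
      intro l hl
      simp only [Set.mem_setOf_eq, Polynomial.IsRoot, Polynomial.eval_sub, Polynomial.eval_C]
      rw [h l hl, sub_self]
    refine Set.Infinite.mono hsub ?_
    have : {l : K | l ≠ 0} = ({0} : Set K)ᶜ := by ext; simp
    rw [this]
    exact (Set.finite_singleton (0 : K)).infinite_compl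
  have h2 := congrArg (Polynomial.eval 0) h1
  simp only [Polynomial.eval_sub, Polynomial.eval_C, Polynomial.eval_zero] at h2
  exact sub_eq_zero.mp h2

end Basics

end Groth.Agent.Lib.T2H8.GrassDet
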