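import Mathlib
import Groth.Prelude.Def_W4bk4grassmannianPl
import Groth.Agent.Lib.T2H8GrassFFTa

/-!
# The First Fundamental Theorem for `GL_n`, part b: the case `m ≤ n` (helper8)
-/

noncomputable section

open MvPolynomial W4bk4grassmannian

namespace Groth.Agent.Lib.T2H8.GrassDet

universe u

section CaseC

variable (K : Type u) [Field K] {m n q : ℕ}

/-- completion of `U` to a square matrix by `l` times the identity -/
def complMat (U : Matrix (Fin m) (Fin n) K) (l : K) : Matrix (Fin n) (Fin n) K :=
  Matrix.of fun k j => if hk : k.val < m then U ⟨k.val, hk⟩ j else if k = j then l else 0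

/-- the matrix `[I_m | 0]` -/
def idRect (K : Type u) [Field K] (m n : ℕ) : Matrix (Fin m) (Fin n) K :=
  Matrix.of fun i k => if i.val = k.val then 1 else 0

theorem det_complMat_ne_zero (hmn : m ≤ n) (U : Matrix (Fin m) (Fin n) K) (l : K) (hl : l ≠ 0)
    (hU : (U.submatrix id (Fin.castLE hmn)).det ≠ 0) : (complMat K U l).det ≠ 0 := by
  classical
  rw [Matrix.twoBlockTriangular_det _ (fun k : Fin n => k.val < m)]
  · apply mul_ne_zero
    · let e₁ : {k : Fin n // k.val < m} ≃ Fin m :=
        ⟨fun k => ⟨k.1.val, k.2⟩, fun i => ⟨Fin.castLE hmn i, i.isLt⟩,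
          fun k => Subtype.ext (Fin.ext rfl), fun i => Fin.ext rfl⟩
      have h1 : Matrix.toSquareBlockProp (complMat K U l) (fun k : Fin n => k.val < m) =
          (U.submatrix id (Fin.castLE hmn)).submatrix e₁ e₁ := by
        ext i j
        simp only [Matrix.toSquareBlockProp, Matrix.toBlock_apply, complMat, Matrix.of_apply,
          Matrix.submatrix_apply, id]
        rw [dif_pos i.2]
        congr 1
      rw [h1, Matrix.det_submatrix_equiv_self]
      exact hU
    · have h2 : Matrix.toSquareBlockProp (complMat K U l) (fun k : Fin n => ¬ k.val < m) =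
          l • (1 : Matrix {k : Fin n // ¬ k.val < m} {k : Fin n // ¬ k.val < m} K) := by
        ext i j
        simp only [Matrix.toSquareBlockProp, Matrix.toBlock_apply, complMat, Matrix.of_apply,
          Matrix.smul_apply, Matrix.one_apply, smul_eq_mul]
        rw [dif_neg i.2]
        by_cases hij : i = j
        · rw [if_pos (congrArg Subtype.val hij), if_pos hij, mul_one]
        · rw [if_neg (fun h => hij (Subtype.ext h)), if_neg hij, mul_zero]
      rw [h2, Matrix.det_smul, Matrix.det_one, mul_one]
      exact pow_ne_zero _ hl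
  · intro i hi j hj
    simp only [complMat, Matrix.of_apply]
    rw [dif_neg hi, if_neg]
    rintro rfl
    exact hi hj

theorem idRect_mul_complMat (hmn : m ≤ n) (U : Matrix (Fin m) (Fin n) K) (l : K) :
    idRect K m n * complMat K U l = U := by
  ext i j
  rw [Matrix.mul_apply, Finset.sum_eq_single (Fin.castLE hmn i)]
  · simp [idRect, complMat]
  · intro k _ hk
    have : i.val ≠ k.val := fun h => hk (Fin.ext h.symm)
    simp [idRect, this]
  · intro h; exact absurd (Finset.mem_univ _) h

theorem complMat_mul (U : Matrix (Fin m) (Fin n) K) (l : K) (W : Matrix (Fin n) (Fin q) K)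
    (k : Fin n) (j : Fin q) :
    (complMat K U l * W) k j =
      if hk : k.val < m then (U * W) ⟨k.val, hk⟩ j else l * W k j := by
  rw [Matrix.mul_apply]
  by_cases hk : k.val < m
  · rw [dif_pos hk, Matrix.mul_apply]
    refine Finset.sum_congr rfl fun x _ => ?_
    simp [complMat, hk]
  · rw [dif_neg hk, Finset.sum_eq_single k]
    · simp [complMat, hk]
    · intro b _ hb
      simp [complMat, hk, Ne.symm hb]
    · intro h; exact absurd (Finset.mem_univ _) h

end CaseC

section CaseC2

variable (K : Type u) [Field K] {m n q : ℕ}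

/-- the point `([I_m | 0], [Y ; l W₂])` as a function of the variables -/
def normPtC (Y : Matrix (Fin m) (Fin q) K) (W : Matrix (Fin n) (Fin q) K) (l : K) :
    (Fin m × Fin n) ⊕ (Fin n × Fin q) → K :=
  Sum.elim (fun p => idRect K m n p.1 p.2)
    (fun p => if hk : p.1.val < m then Y ⟨p.1.val, hk⟩ p.2 else l * W p.1 p.2)

/-- the polynomial `g(Y) = f([I_m | 0], [Y ; 0])` -/
def normPolyC (f : PairRing K n m q) : MvPolynomial (Fin m × Fin q) K :=
  MvPolynomial.aeval (Sum.elim (fun p : Fin m × Fin n => C (idRect K m n p.1 p.2))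
    (fun p : Fin n × Fin q => if hk : p.1.val < m then X (⟨p.1.val, hk⟩, p.2) else 0)) f

theorem eval_normPolyC (f : PairRing K n m q) (Y : Matrix (Fin m) (Fin q) K)
    (W : Matrix (Fin n) (Fin q) K) :
    eval (fun p : Fin m × Fin q => Y p.1 p.2) (normPolyC K f) = eval (normPtC K Y W 0) f := by
  unfold normPolyC
  rw [MvPolynomial.aeval_def, MvPolynomial.eval₂_comp_left (eval fun p : Fin m × Fin q => Y p.1 p.2)]
  have h1 : (eval fun p : Fin m × Fin q => Y p.1 p.2).comp
      (algebraMap K (MvPolynomial (Fin m × Fin q) K)) = RingHom.id K := by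
    ext a; simp
  rw [h1]
  show eval₂ (RingHom.id K) _ f = eval₂ (RingHom.id K) _ f
  congr 1
  funext v
  rcases v with ⟨i, k⟩ | ⟨k, j⟩
  · simp [normPtC]
  · simp only [Function.comp, Sum.elim_inr, normPtC]
    split_ifs <;> simp

/-- the one-variable polynomial `l ↦ f([I_m | 0], [Y ; l W₂])` -/
def lamPolyC (f : PairRing K n m q) (Y : Matrix (Fin m) (Fin q) K) (W : Matrix (Fin n) (Fin q) K) :
    Polynomial K :=
  MvPolynomial.aeval (Sum.elim (fun p : Fin m × Fin n => Polynomial.C (idRect K m n p.1 p.2))
    (fun p : Fin n × Fin q => if hk : p.1.val < m then Polynomial.C (Y ⟨p.1.val, hk⟩ p.2)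
      else Polynomial.C (W p.1 p.2) * Polynomial.X)) f

theorem eval_lamPolyC (f : PairRing K n m q) (Y : Matrix (Fin m) (Fin q) K)
    (W : Matrix (Fin n) (Fin q) K) (l : K) :
    (lamPolyC K f Y W).eval l = eval (normPtC K Y W l) f := by
  unfold lamPolyC
  rw [MvPolynomial.aeval_def, ← Polynomial.coe_evalRingHom,
    MvPolynomial.eval₂_comp_left (Polynomial.evalRingHom l)]
  have h1 : (Polynomial.evalRingHom l).comp (algebraMap K (Polynomial K)) = RingHom.id K := by
    ext a; simp
  rw [h1]
  show eval₂ (RingHom.id K) _ f = eval₂ (RingHom.id K) _ f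
  congr 1
  funext v
  rcases v with ⟨i, k⟩ | ⟨k, j⟩
  · simp [normPtC]
  · simp only [Function.comp, Sum.elim_inr, normPtC]
    by_cases hk : k.val < m
    · rw [dif_pos hk, dif_pos hk]
      exact Polynomial.eval_C
    · rw [dif_neg hk, dif_neg hk]
      show Polynomial.eval l (Polynomial.C (W k j) * Polynomial.X) = l * W k j
      rw [Polynomial.eval_mul, Polynomial.eval_C, Polynomial.eval_X, mul_comm]

theorem fft_of_le_left [Infinite K] (hmn : m ≤ n) {f : PairRing K n m q}
    (hf : ∀ A : GL (Fin n) K, glTranslate K n m q A f = f) :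
    f ∈ (pairingMap K n m q).range := by
  classical
  refine ⟨normPolyC K f, ?_⟩
  show pairingMap K n m q (normPolyC K f) = f
  symm
  -- the nonvanishing polynomial
  set p : PairRing K n m q :=
    (Matrix.of fun i j : Fin m => (X (Sum.inl (i, Fin.castLE hmn j)) : PairRing K n m q)).det with hp
  have hpe : ∀ (U : Matrix (Fin m) (Fin n) K) (W : Matrix (Fin n) (Fin q) K),
      eval (pairPt K m n q U W) p = (U.submatrix id (Fin.castLE hmn)).det := by
    intro U W
    rw [hp, RingHom.map_det]
    congr 1
    ext i j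
    simp [pairPt]
  have hp0 : p ≠ 0 := by
    intro h0
    have h1 := hpe (idRect K m n) 0
    rw [h0, map_zero] at h1
    have h2 : (idRect K m n).submatrix id (Fin.castLE hmn) = (1 : Matrix (Fin m) (Fin m) K) := by
      ext i j
      simp only [idRect, Matrix.submatrix_apply, Matrix.of_apply, id, Matrix.one_apply,
        Fin.val_castLE]
      by_cases hij : i = j
      · rw [if_pos (congrArg Fin.val hij), if_pos hij]
      · rw [if_neg (fun h => hij (Fin.ext h)), if_neg hij]
    rw [h2, Matrix.det_one] at h1
    exact zero_ne_one h1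
  apply eq_of_eval_eq_of_ne_zero K hp0
  intro x hx
  obtain ⟨U, W, rfl⟩ := exists_pairPt K m n q x
  rw [hpe] at hx
  rw [eval_pairingMap, eval_normPolyC K f (U * W) W]
  -- the value of `f` at the normal forms
  have key : ∀ l : K, l ≠ 0 → eval (normPtC K (U * W) W l) f = eval (pairPt K m n q U W) f := by
    intro l hl
    have hdet := det_complMat_ne_zero K hmn U l hl hx
    set A : GL (Fin n) K := Matrix.GeneralLinearGroup.mkOfDetNeZero (complMat K U l) hdet with hA
    have h1 := eval_eq_of_invariant K m n q hf A U W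
    rw [← h1]
    have hAc : (A : Matrix (Fin n) (Fin n) K) = complMat K U l := rfl
    have hAi : ((A⁻¹ : GL (Fin n) K) : Matrix (Fin n) (Fin n) K) = (complMat K U l)⁻¹ := by
      rw [Matrix.coe_units_inv]; rfl
    have hUA : U * (complMat K U l)⁻¹ = idRect K m n := by
      have h2 := idRect_mul_complMat K hmn U l
      calc U * (complMat K U l)⁻¹ = (idRect K m n * complMat K U l) * (complMat K U l)⁻¹ := by
            rw [h2]
        _ = idRect K m n := Matrix.mul_nonsing_inv_cancel_right _ _ (IsUnit.mk0 _ hdet)
    rw [hAc, hAi, hUA]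
    have hpt : normPtC K (U * W) W l = pairPt K m n q (idRect K m n) (complMat K U l * W) := by
      funext v
      rcases v with ⟨i, k⟩ | ⟨k, j⟩
      · rfl
      · simp only [normPtC, pairPt, Sum.elim_inr]
        rw [complMat_mul]
    rw [hpt]
  have h3 := eval_zero_eq_of_forall_ne_zero K (lamPolyC K f (U * W) W)
    (eval (pairPt K m n q U W) f) (fun l hl => by rw [eval_lamPolyC]; exact key l hl)
  rw [eval_lamPolyC] at h3
  exact h3.symm

end CaseC2

end Groth.Agent.Lib.T2H8.GrassDet
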