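import Mathlib
import Groth.Prelude.Def_W4bk4grassmannianPl
import Groth.Agent.Lib.T2H8GrassFFTb

/-!
# The First Fundamental Theorem for `GL_n`, part c: the case `q ≤ n`, by transposition (helper8)
-/

noncomputable section

open MvPolynomial W4bk4grassmannian

namespace Groth.Agent.Lib.T2H8.GrassDet

universe u

section Swap

variable (K : Type u) [Field K] (m n q : ℕ)

/-- the transposition `(U, W) ↦ (Wᵀ, Uᵀ)` on functions -/
def swapPair : PairRing K n m q →ₐ[K] PairRing K n q m :=
  MvPolynomial.rename (Sum.elim (fun p : Fin m × Fin n => Sum.inr (p.2, p.1))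
    (fun p : Fin n × Fin q => Sum.inl (p.2, p.1)))

theorem eval_swapPair (U' : Matrix (Fin q) (Fin n) K) (W' : Matrix (Fin n) (Fin m) K)
    (f : PairRing K n m q) :
    eval (pairPt K q n m U' W') (swapPair K m n q f) =
      eval (pairPt K m n q W'.transpose U'.transpose) f := by
  unfold swapPair
  rw [MvPolynomial.eval_rename]
  have h : (pairPt K q n m U' W' ∘ Sum.elim (fun p : Fin m × Fin n => Sum.inr (p.2, p.1))
      (fun p : Fin n × Fin q => Sum.inl (p.2, p.1))) =
      pairPt K m n q W'.transpose U'.transpose := by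
    funext v
    rcases v with ⟨i, k⟩ | ⟨k, j⟩ <;> rfl
  rw [h]

/-- the inverse transpose of an invertible matrix -/
def invTranspose {K : Type u} [Field K] {n : ℕ} (A : GL (Fin n) K) : GL (Fin n) K :=
  ⟨((A⁻¹ : GL (Fin n) K) : Matrix (Fin n) (Fin n) K).transpose,
    (A : Matrix (Fin n) (Fin n) K).transpose,
    by
      rw [← Matrix.transpose_mul, ← Matrix.GeneralLinearGroup.coe_mul, mul_inv_cancel]
      simp,
    by
      rw [← Matrix.transpose_mul, ← Matrix.GeneralLinearGroup.coe_mul, inv_mul_cancel]
      simp⟩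

theorem swapPair_invariant [Infinite K] {f : PairRing K n m q}
    (hf : ∀ A : GL (Fin n) K, glTranslate K n m q A f = f) (A : GL (Fin n) K) :
    glTranslate K n q m A (swapPair K m n q f) = swapPair K m n q f := by
  apply MvPolynomial.funext
  intro x
  obtain ⟨U', W', rfl⟩ := exists_pairPt K q n m x
  rw [eval_glTranslate, eval_swapPair, eval_swapPair]
  have h1 := eval_eq_of_invariant K m n q hf (invTranspose A) W'.transpose U'.transpose
  rw [← h1]
  have e1 : ((invTranspose A)⁻¹ : GL (Fin n) K).1 = (A : Matrix (Fin n) (Fin n) K).transpose := rfl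
  have e2 : (invTranspose A : GL (Fin n) K).1 =
      ((A⁻¹ : GL (Fin n) K) : Matrix (Fin n) (Fin n) K).transpose := rfl
  have e3 : ((A : Matrix (Fin n) (Fin n) K) * W').transpose =
      W'.transpose * ((invTranspose A)⁻¹ : GL (Fin n) K).1 := by
    rw [Matrix.transpose_mul, e1]
  have e4 : (U' * ((A⁻¹ : GL (Fin n) K) : Matrix (Fin n) (Fin n) K)).transpose =
      (invTranspose A : GL (Fin n) K).1 * U'.transpose := by
    rw [Matrix.transpose_mul, e2]
  rw [e3, e4]

theorem mem_range_of_swapPair [Infinite K] {f : PairRing K n m q}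
    (h : swapPair K m n q f ∈ (pairingMap K n q m).range) :
    f ∈ (pairingMap K n m q).range := by
  obtain ⟨g, hg⟩ := h
  refine ⟨MvPolynomial.rename Prod.swap g, ?_⟩
  show pairingMap K n m q (MvPolynomial.rename Prod.swap g) = f
  apply MvPolynomial.funext
  intro x
  obtain ⟨U, W, rfl⟩ := exists_pairPt K m n q x
  have h1 := eval_swapPair K m n q W.transpose U.transpose f
  rw [Matrix.transpose_transpose, Matrix.transpose_transpose] at h1
  rw [← h1, ← hg]
  show _ = eval _ (pairingMap K n q m g)
  rw [eval_pairingMap, eval_pairingMap, MvPolynomial.eval_rename]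
  have h : ((fun p : Fin m × Fin q => (U * W) p.1 p.2) ∘ Prod.swap) =
      fun p : Fin q × Fin m => (W.transpose * U.transpose) p.1 p.2 := by
    funext p
    show (U * W) p.2 p.1 = (W.transpose * U.transpose) p.1 p.2
    rw [← Matrix.transpose_mul]
    rfl
  rw [h]

theorem fft_of_le_right [Infinite K] {m n q : ℕ} (hqn : q ≤ n) {f : PairRing K n m q}
    (hf : ∀ A : GL (Fin n) K, glTranslate K n m q A f = f) :
    f ∈ (pairingMap K n m q).range :=
  mem_range_of_swapPair K m n q
    (fft_of_le_left K hqn (swapPair_invariant K m n q hf))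

end Swap

end Groth.Agent.Lib.T2H8.GrassDet
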