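import Mathlib
import Groth.Prelude.Def_W4bk4grassmannianPl
import Groth.Agent.Lib.T2H8GrassFFTc
import Groth.Agent.Lib.T2H8GrassDetE

/-!
# The First Fundamental Theorem for `GL_n`, part d: the case `n < m, q` (helper8)
-/

noncomputable section

open MvPolynomial W4bk4grassmannian

namespace Groth.Agent.Lib.T2H8.GrassDet

universe u

section Clear

variable {K : Type u} [Field K] {σ τ : Type*}

theorem eval_aeval' (y : τ → K) (g : σ → MvPolynomial τ K) (F : MvPolynomial σ K) :
    eval y (aeval g F) = eval (fun s => eval y (g s)) F := by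
  rw [MvPolynomial.aeval_def, MvPolynomial.eval₂_comp_left (eval y)]
  have h1 : (eval y).comp (algebraMap K (MvPolynomial τ K)) = RingHom.id K := by
    ext a; simp
  rw [h1]
  rfl

/-- clearing denominators in a substitution of fractions with a common denominator -/
theorem exists_clear_denominators (f : MvPolynomial σ K) (a : σ → MvPolynomial τ K)
    (c : MvPolynomial τ K) :
    ∃ (b : MvPolynomial τ K) (N : ℕ), ∀ y : τ → K, eval y c ≠ 0 →
      eval y b = (eval y c) ^ N * eval (fun s => eval y (a s) / eval y c) f := by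
  classical
  set f' : MvPolynomial (Option σ) K := rename some f with hf'
  refine ⟨aeval (fun o : Option σ => Option.elim o c a) (homogenize f' none), f'.totalDegree, ?_⟩
  intro y hy
  rw [eval_aeval']
  have h1 : (fun o : Option σ => eval y (Option.elim o c a)) =
      fun o => eval y c * Option.elim o 1 (fun s => eval y (a s) / eval y c) := by
    funext o
    cases o with
    | none => simp
    | some s =>
      simp only [Option.elim_some]
      field_simp
  rw [h1, eval_mul_of_isHomogeneous (homogenize_isHomogeneous f' none)]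
  congr 1
  have h2 := map_homogenize
    (eval (fun o : Option σ => Option.elim o (1 : K) (fun s => eval y (a s) / eval y c))) f' none
    (by simp)
  rw [h2, hf', eval_rename]
  rfl

end Clear

section Normal

variable (K : Type u) [Field K] {m n q : ℕ} (hnm : n ≤ m) (hnq : n ≤ q)

theorem lastRows_injective : Function.Injective (lastRows m n hnm) := by
  intro a b h
  have := congrArg Fin.val h
  simp only [lastRows] at this
  exact Fin.ext (by omega)

theorem firstCols_injective : Function.Injective (firstCols q n hnq) := by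
  intro a b h
  have := congrArg Fin.val h
  simp only [firstCols] at this
  exact Fin.ext this

theorem eval_deltaGen (Y : Matrix (Fin m) (Fin q) K) :
    eval (fun p : Fin m × Fin q => Y p.1 p.2) (deltaGen K q m n hnq hnm) =
      (Y.submatrix (lastRows m n hnm) (firstCols q n hnq)).det := by
  unfold deltaGen
  rw [RingHom.map_det]
  congr 1
  ext i j
  simp [genMatrix]

theorem eval_deltaGen_mul (U : Matrix (Fin m) (Fin n) K) (W : Matrix (Fin n) (Fin q) K) :
    eval (fun p : Fin m × Fin q => (U * W) p.1 p.2) (deltaGen K q m n hnq hnm) =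
      (U.submatrix (lastRows m n hnm) id).det * (W.submatrix id (firstCols q n hnq)).det := by
  rw [eval_deltaGen, ← Matrix.det_mul]
  congr 1

/-- the substitution defining the normal form -/
def normSubst : (Fin m × Fin n) ⊕ (Fin n × Fin q) → MvPolynomial (Fin m × Fin q) K :=
  Sum.elim
    (fun p => ((genMatrix K m q).submatrix id (firstCols q n hnq) *
      ((genMatrix K m q).submatrix (lastRows m n hnm) (firstCols q n hnq)).adjugate) p.1 p.2)
    (fun p => deltaGen K q m n hnq hnm * genMatrix K m q (lastRows m n hnm p.1) p.2)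

theorem normSubst_point (U : Matrix (Fin m) (Fin n) K) (W : Matrix (Fin n) (Fin q) K)
    (hU : (U.submatrix (lastRows m n hnm) id).det ≠ 0)
    (hW : (W.submatrix id (firstCols q n hnq)).det ≠ 0) :
    (fun s => eval (fun p : Fin m × Fin q => (U * W) p.1 p.2) (normSubst K hnm hnq s) /
      eval (fun p : Fin m × Fin q => (U * W) p.1 p.2) (deltaGen K q m n hnq hnm)) =
    pairPt K m n q (U * (U.submatrix (lastRows m n hnm) id)⁻¹)
      (U.submatrix (lastRows m n hnm) id * W) := by
  set U₁ := U.submatrix (lastRows m n hnm) id with hU₁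
  set W₁ := W.submatrix id (firstCols q n hnq) with hW₁
  set y : Fin m × Fin q → K := fun p => (U * W) p.1 p.2 with hy
  have hδ : eval y (deltaGen K q m n hnq hnm) = U₁.det * W₁.det := eval_deltaGen_mul K hnm hnq U W
  have hδ0 : U₁.det * W₁.det ≠ 0 := mul_ne_zero hU hW
  have hmap : (genMatrix K m q).map (eval y) = U * W := by
    ext i j; simp [genMatrix, hy]
  funext s
  rcases s with ⟨i, k⟩ | ⟨k, j⟩
  · simp only [normSubst, Sum.elim_inl, pairPt]
    rw [hδ]
    have h1 : eval y (((genMatrix K m q).submatrix id (firstCols q n hnq) *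
        ((genMatrix K m q).submatrix (lastRows m n hnm) (firstCols q n hnq)).adjugate) i k) =
        ((U * W₁) * (U₁ * W₁).adjugate) i k := by
      have e1 : ((genMatrix K m q).submatrix id (firstCols q n hnq)).map (eval y) = U * W₁ := by
        rw [← Matrix.submatrix_map, hmap]; rfl
      have e2 : ((genMatrix K m q).submatrix (lastRows m n hnm) (firstCols q n hnq)).map (eval y) =
          U₁ * W₁ := by
        rw [← Matrix.submatrix_map, hmap]; rfl
      have e3 := RingHom.map_adjugate (eval y)
        ((genMatrix K m q).submatrix (lastRows m n hnm) (firstCols q n hnq))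
      rw [RingHom.mapMatrix_apply, RingHom.mapMatrix_apply, e2] at e3
      have e4 : eval y (((genMatrix K m q).submatrix id (firstCols q n hnq) *
          ((genMatrix K m q).submatrix (lastRows m n hnm) (firstCols q n hnq)).adjugate) i k) =
          (((genMatrix K m q).submatrix id (firstCols q n hnq) *
          ((genMatrix K m q).submatrix (lastRows m n hnm) (firstCols q n hnq)).adjugate).map
            (eval y)) i k := rfl
      rw [e4, Matrix.map_mul, e1, e3]
    rw [h1]
    have h2 : U * U₁⁻¹ = (U₁.det * W₁.det)⁻¹ • ((U * W₁) * (U₁ * W₁).adjugate) := by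
      have hU₁u : IsUnit U₁.det := IsUnit.mk0 _ hU
      have hW₁u : IsUnit W₁.det := IsUnit.mk0 _ hW
      have e5 : (U₁ * W₁)⁻¹ = (U₁.det * W₁.det)⁻¹ • (U₁ * W₁).adjugate := by
        rw [Matrix.inv_def, Matrix.det_mul, Ring.inverse_eq_inv']
      calc U * U₁⁻¹ = (U * W₁) * (U₁ * W₁)⁻¹ := by
            rw [Matrix.mul_inv_rev, Matrix.mul_assoc, ← Matrix.mul_assoc W₁,
              Matrix.mul_nonsing_inv _ hW₁u, Matrix.one_mul]
        _ = (U * W₁) * ((U₁.det * W₁.det)⁻¹ • (U₁ * W₁).adjugate) := by rw [e5]
        _ = _ := Matrix.mul_smul _ _ _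
    rw [h2, Matrix.smul_apply, smul_eq_mul, div_eq_inv_mul]
  · simp only [normSubst, Sum.elim_inr, pairPt]
    rw [map_mul, hδ, mul_div_assoc, mul_comm, ]
    rw [div_mul_cancel₀] <;> [skip; exact hδ0]
    simp only [genMatrix, Matrix.of_apply, eval_X, hy]
    rw [Matrix.mul_apply, Matrix.mul_apply]
    rfl

end Normal

section NormalForm

variable (K : Type u) [Field K] {m n q : ℕ} (hnm : n ≤ m) (hnq : n ≤ q)

theorem pairingMap_deltaGen_ne_zero :
    pairingMap K n m q (deltaGen K q m n hnq hnm) ≠ 0 := by
  classical
  intro h0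
  set U : Matrix (Fin m) (Fin n) K := Matrix.of fun i k => if i = lastRows m n hnm k then 1 else 0
    with hU
  set W : Matrix (Fin n) (Fin q) K := Matrix.of fun k j => if j = firstCols q n hnq k then 1 else 0
    with hW
  have h1 := eval_pairingMap K m n q U W (deltaGen K q m n hnq hnm)
  rw [h0, map_zero, eval_deltaGen_mul] at h1
  have hU1 : U.submatrix (lastRows m n hnm) id = 1 := by
    ext a b
    simp only [hU, Matrix.submatrix_apply, Matrix.of_apply, id, Matrix.one_apply,
      (lastRows_injective hnm).eq_iff]
  have hW1 : W.submatrix id (firstCols q n hnq) = 1 := by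
    ext a b
    simp only [hW, Matrix.submatrix_apply, Matrix.of_apply, id, Matrix.one_apply,
      (firstCols_injective hnq).eq_iff, eq_comm]
  rw [hU1, hW1, Matrix.det_one, mul_one] at h1
  exact zero_ne_one h1

theorem exists_normal_form [Infinite K] {f : PairRing K n m q}
    (hf : ∀ A : GL (Fin n) K, glTranslate K n m q A f = f) :
    ∃ (b : MvPolynomial (Fin m × Fin q) K) (N : ℕ),
      pairingMap K n m q b = pairingMap K n m q (deltaGen K q m n hnq hnm) ^ N * f := by
  obtain ⟨b, N, hb⟩ := exists_clear_denominators f (normSubst K hnm hnq) (deltaGen K q m n hnq hnm)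
  refine ⟨b, N, ?_⟩
  apply eq_of_eval_eq_of_ne_zero K (pairingMap_deltaGen_ne_zero K hnm hnq)
  intro x hx
  obtain ⟨U, W, rfl⟩ := exists_pairPt K m n q x
  rw [eval_pairingMap, eval_deltaGen_mul] at hx
  have hU : (U.submatrix (lastRows m n hnm) id).det ≠ 0 := left_ne_zero_of_mul hx
  have hW : (W.submatrix id (firstCols q n hnq)).det ≠ 0 := right_ne_zero_of_mul hx
  rw [map_mul, map_pow, eval_pairingMap, eval_pairingMap,
    hb _ (by rw [eval_deltaGen_mul]; exact hx), normSubst_point K hnm hnq U W hU hW]
  congr 1
  set A : GL (Fin n) K :=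
    Matrix.GeneralLinearGroup.mkOfDetNeZero (U.submatrix (lastRows m n hnm) id) hU with hA
  have h1 := eval_eq_of_invariant K m n q hf A U W
  have hAi : ((A⁻¹ : GL (Fin n) K) : Matrix (Fin n) (Fin n) K) =
      (U.submatrix (lastRows m n hnm) id)⁻¹ := by
    rw [Matrix.coe_units_inv]; rfl
  rw [hAi] at h1
  exact h1

end NormalForm

section Induct

variable (K : Type u) [Field K] [IsAlgClosed K] {m n q : ℕ}

theorem mem_range_of_pow_mul (hn : 0 < n) (hnm : n + 1 ≤ m) (hnq : n + 1 ≤ q) :
    ∀ (N : ℕ) (f : PairRing K n m q) (b : MvPolynomial (Fin m × Fin q) K),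
      pairingMap K n m q b =
        pairingMap K n m q (deltaGen K q m n (by omega) (by omega)) ^ N * f →
      f ∈ (pairingMap K n m q).range := by
  intro N
  induction N with
  | zero =>
    intro f b h
    rw [pow_zero, one_mul] at h
    exact ⟨b, h⟩
  | succ N ih =>
    intro f b h
    have hvan : ∀ (U : Matrix (Fin m) (Fin n) K) (W : Matrix (Fin n) (Fin q) K),
        eval (fun p : Fin m × Fin q => (U * W) p.1 p.2)
          (deltaGen K q m n (by omega) (by omega)) = 0 →
        eval (fun p : Fin m × Fin q => (U * W) p.1 p.2) b = 0 := by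
      intro U W h0
      rw [← eval_pairingMap, h, map_mul, map_pow, eval_pairingMap, h0, pow_succ, mul_zero, zero_mul]
    have h1 := mem_sup_deltaGen_of_vanishing K hn hnq hnm b hvan
    obtain ⟨i, hi, c, hc, hic⟩ := Submodule.mem_sup.mp h1
    obtain ⟨c', rfl⟩ := Ideal.mem_span_singleton'.mp hc
    have hi0 : pairingMap K n m q i = 0 := minorIdeal_le_ker K m n q hi
    have h2 : pairingMap K n m q (deltaGen K q m n (by omega) (by omega)) *
        pairingMap K n m q c' =
        pairingMap K n m q (deltaGen K q m n (by omega) (by omega)) *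
          (pairingMap K n m q (deltaGen K q m n (by omega) (by omega)) ^ N * f) := by
      rw [← mul_assoc, ← pow_succ', ← h, ← hic, map_add, hi0, zero_add, map_mul, mul_comm]
    have h3 := mul_left_cancel₀ (pairingMap_deltaGen_ne_zero K (by omega) (by omega)) h2
    exact ih f c' h3

theorem fft_of_lt [Infinite K] (hn : 0 < n) (hnm : n + 1 ≤ m) (hnq : n + 1 ≤ q)
    {f : PairRing K n m q} (hf : ∀ A : GL (Fin n) K, glTranslate K n m q A f = f) :
    f ∈ (pairingMap K n m q).range := by
  obtain ⟨b, N, hb⟩ := exists_normal_form K (by omega : n ≤ m) (by omega : n ≤ q) hf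
  exact mem_range_of_pow_mul K hn hnm hnq N f b hb

end Induct

section MainFFT

/-- S11266: the First Fundamental Theorem for `GL_n`. -/
theorem main_S11266 (K : Type u) [Field K] [IsAlgClosed K] (m n q : ℕ) (f : PairRing K n m q) :
    (∀ A : GL (Fin n) K, glTranslate K n m q A f = f) ↔ f ∈ (pairingMap K n m q).range := by
  haveI : Infinite K := inferInstance
  constructor
  · intro hf
    by_cases hmn : m ≤ n
    · exact fft_of_le_left K hmn hf
    by_cases hqn : q ≤ n
    · exact fft_of_le_right K hqn hf
    rcases Nat.eq_zero_or_pos n with hn | hn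
    · subst hn
      haveI : IsEmpty ((Fin m × Fin 0) ⊕ (Fin 0 × Fin q)) :=
        ⟨fun v => by rcases v with ⟨_, k⟩ | ⟨k, _⟩ <;> exact k.elim0⟩
      obtain ⟨c, hc⟩ := MvPolynomial.C_surjective (R := K) ((Fin m × Fin 0) ⊕ (Fin 0 × Fin q)) f
      refine ⟨C c, ?_⟩
      show pairingMap K 0 m q (C c) = f
      rw [← hc]
      simp [pairingMap]
    · exact fft_of_lt K hn (by omega) (by omega) hf
  · rintro ⟨g, rfl⟩ A
    exact glTranslate_pairingMap K m n q A g

end MainFFT

end Groth.Agent.Lib.T2H8.GrassDet
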