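import Mathlib
import Groth.Prelude.Def_W4bk4grassmannianPl
import Groth.Agent.Lib.Helper24Grass
import Groth.Agent.Lib.T2H8GrassCoord

/-!
# The Plücker quadrics cut out the Grassmannian set-theoretically (helper8)

* `coord_comp_perm`: the signed Plücker coordinate is alternating in the tuple.
* `quadric_eval_minors`: the quadrics vanish at the minors of any matrix.
* `exists_matrix_of_quadrics`: a nonzero vector at which all quadrics vanish is the vector of minors
  of a matrix.
-/

noncomputable section

open MvPolynomial W4bk4grassmannian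

namespace Groth.Agent.Lib.T2H8.GrassQuad

open Groth.Agent.Lib.T2H8.Grass

variable {K : Type*} [CommRing K] {d n : ℕ}

/-- sign of a permutation in a ring -/
def sgn (K : Type*) [CommRing K] {m : ℕ} (σ : Equiv.Perm (Fin m)) : K :=
  (((Equiv.Perm.sign σ : ℤˣ) : ℤ) : K)

theorem sgn_mul_self {m : ℕ} (σ : Equiv.Perm (Fin m)) : sgn K σ * sgn K σ = 1 := by
  unfold sgn
  rw [← Int.cast_mul, ← Units.val_mul, Int.units_mul_self]; simp

theorem sgn_mul {m : ℕ} (σ τ : Equiv.Perm (Fin m)) : sgn K (σ * τ) = sgn K σ * sgn K τ := by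
  unfold sgn; simp

theorem image_comp_perm (a : Fin d → Fin n) (σ : Equiv.Perm (Fin d)) :
    Finset.univ.image (a ∘ σ) = Finset.univ.image a := by
  ext x
  simp only [Finset.mem_image, Finset.mem_univ, true_and, Function.comp]
  constructor
  · rintro ⟨s, rfl⟩; exact ⟨σ s, rfl⟩
  · rintro ⟨s, rfl⟩; exact ⟨σ.symm s, by simp⟩

theorem sortIdx_congr (a a' : Fin d → Fin n) (h : (Finset.univ.image a).card = d)
    (h' : (Finset.univ.image a').card = d) (he : Finset.univ.image a = Finset.univ.image a') :
    sortIdx d n a h = sortIdx d n a' h' := by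
  unfold sortIdx
  apply Subtype.ext
  simp only
  generalize Finset.univ.image a = S at *
  subst he
  rfl

theorem coord_comp_perm (a : Fin d → Fin n) (σ : Equiv.Perm (Fin d)) :
    coord K d n (a ∘ σ) = C (sgn K σ) * coord K d n a := by
  unfold coord
  by_cases h : (Finset.univ.image a).card = d
  · have h' : (Finset.univ.image (a ∘ σ)).card = d := by rw [image_comp_perm]; exact h
    rw [dif_pos h, dif_pos h', sortIdx_congr (a ∘ σ) a h' h (image_comp_perm a σ)]
    obtain ⟨τ, hτ⟩ := exists_perm_sort a h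
    have ha : a = (sortIdx d n a h).1 ∘ τ := funext fun s => (hτ s).symm
    have h1 := sign_eq_invCount (sortIdx d n a h) τ
    have h2 := sign_eq_invCount (sortIdx d n a h) (τ * σ)
    have h3 : (sortIdx d n a h).1 ∘ ⇑(τ * σ) = a ∘ σ := by
      funext s; simp [hτ]
    rw [h3] at h2
    rw [← ha] at h1
    have e1 : ((-1 : PlRing K d n) ^ invCount d n (a ∘ σ)) = C (sgn K (τ * σ)) := by
      unfold sgn; rw [h2]; simp
    have e2 : ((-1 : PlRing K d n) ^ invCount d n a) = C (sgn K τ) := by
      unfold sgn; rw [h1]; simp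
    rw [e1, e2, sgn_mul, C_mul]; ring
  · have h' : ¬ (Finset.univ.image (a ∘ σ)).card = d := by rw [image_comp_perm]; exact h
    rw [dif_neg h, dif_neg h', mul_zero]

theorem invCount_idx (θ : Idx d n) : invCount d n θ.1 = 0 := by
  unfold invCount
  rw [Finset.card_eq_zero, Finset.filter_eq_empty_iff]
  rintro ⟨s, t⟩ _ ⟨h1, h2⟩
  exact absurd (θ.2 h1) (not_lt.mpr h2.le)

theorem coord_idx (θ : Idx d n) : coord K d n θ.1 = X θ := by
  have h := Helper24Grass.card_image_of_strictMono θ.2
  unfold coord
  rw [dif_pos h, Helper24Grass.sortIdx_of_strictMono θ h, invCount_idx, pow_zero, one_mul]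

theorem coord_not_injective (a : Fin d → Fin n) (ha : ¬ Function.Injective a) :
    coord K d n a = 0 := by
  unfold coord
  rw [dif_neg]
  intro h
  exact ha (Helper24Grass.injective_of_card h)

/-! ### the quadrics vanish at the minors of a matrix -/

theorem det_snoc_eq {e : ℕ} (A : Matrix (Fin n) (Fin (e + 1)) K) (i' : Fin e → Fin n) (x : Fin n) :
    (A.submatrix (Fin.snoc i' x) id).det =
      ∑ t : Fin (e + 1), ((-1) ^ (e + t.val) * (A.submatrix i' t.succAbove).det) * A x t := by
  rw [Matrix.det_succ_row _ (Fin.last e)]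
  refine Finset.sum_congr rfl fun t _ => ?_
  have h1 : (A.submatrix (Fin.snoc i' x : Fin (e + 1) → Fin n) id).submatrix (Fin.last e).succAbove
      t.succAbove = A.submatrix i' t.succAbove := by
    ext s u
    simp [Fin.succAbove_last]
  rw [h1]
  simp only [Matrix.submatrix_apply, Fin.snoc_last, id, Fin.val_last]
  ring

theorem laplace_repeated {e : ℕ} (A : Matrix (Fin n) (Fin (e + 1)) K) (j' : Fin (e + 2) → Fin n)
    (t : Fin (e + 1)) :
    ∑ h : Fin (e + 2), (-1 : K) ^ h.val * A (j' h) t * (A.submatrix (j' ∘ h.succAbove) id).det = 0 := by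
  have h0 : (A.submatrix j' (Fin.cons t id : Fin (e + 2) → Fin (e + 1))).det = 0 := by
    apply Matrix.det_zero_of_column_eq (i := 0) (j := t.succ) (Fin.succ_ne_zero t).symm
    intro k
    simp
  rw [Matrix.det_succ_column_zero] at h0
  rw [← h0]
  refine Finset.sum_congr rfl fun h _ => ?_
  congr 1

theorem quadric_evalMinors {e : ℕ} (A : Matrix (Fin n) (Fin (e + 1)) K)
    (i' : Idx e n) (j' : Idx (e + 2) n) :
    evalMinors K (e + 1) n A (quadric K i' j') = 0 := by
  unfold quadric
  rw [map_sum]
  simp only [map_mul, map_pow, map_neg, map_one, evalMinors_coord]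
  simp only [det_snoc_eq, Finset.mul_sum, Finset.sum_mul]
  rw [Finset.sum_comm]
  apply Finset.sum_eq_zero
  intro t _
  have := laplace_repeated A j'.1 t
  have h2 := congrArg (fun z => -((-1 : K) ^ (e + t.val) * (A.submatrix i'.1 t.succAbove).det) * z) this
  simp only [mul_zero, Finset.mul_sum] at h2
  rw [← h2]
  refine Finset.sum_congr rfl fun h _ => ?_
  rw [pow_succ]
  ring

/-! ### alternating functions of tuples -/

section Alt

variable {α : Type*} {m : ℕ}

/-- extension of a permutation of `Fin m` to `Fin (m+1)` fixing the last element -/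
def extLast (σ : Equiv.Perm (Fin m)) : Equiv.Perm (Fin (m + 1)) :=
  (finSuccEquivLast.symm).permCongr (Equiv.optionCongr σ)

theorem extLast_castSucc (σ : Equiv.Perm (Fin m)) (t : Fin m) :
    extLast σ t.castSucc = (σ t).castSucc := by
  simp [extLast, Equiv.permCongr_apply]

theorem extLast_last (σ : Equiv.Perm (Fin m)) : extLast σ (Fin.last m) = Fin.last m := by
  simp [extLast, Equiv.permCongr_apply]

theorem sgn_extLast (σ : Equiv.Perm (Fin m)) : sgn K (extLast σ) = sgn K σ := by
  unfold sgn extLast
  rw [Equiv.Perm.sign_permCongr, Equiv.optionCongr_sign]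

theorem snoc_comp_extLast (i' : Fin m → α) (y : α) (σ : Equiv.Perm (Fin m)) :
    (Fin.snoc (i' ∘ σ) y : Fin (m + 1) → α) = (Fin.snoc i' y : Fin (m + 1) → α) ∘ extLast σ := by
  funext t
  refine Fin.lastCases ?_ (fun s => ?_) t
  · simp [extLast_last]
  · simp [extLast_castSucc]

theorem update_eq_snoc_comp_swap (a : Fin (m + 1) → α) (p : Fin (m + 1)) (y : α) :
    Function.update a p y =
      (Fin.snoc (fun t : Fin m => a (Equiv.swap p (Fin.last m) t.castSucc)) y : Fin (m + 1) → α) ∘
        Equiv.swap p (Fin.last m) := by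
  funext t
  simp only [Function.comp]
  rcases Fin.eq_castSucc_or_eq_last (Equiv.swap p (Fin.last m) t) with ⟨u, hu⟩ | hu
  · rw [hu, Fin.snoc_castSucc, ← hu, Equiv.swap_apply_self]
    have : t ≠ p := by
      rintro rfl
      rw [Equiv.swap_apply_left] at hu
      exact (Fin.castSucc_lt_last u).ne' hu
    rw [Function.update_of_ne this]
  · rw [hu, Fin.snoc_last]
    have : t = p := by
      have := congrArg (Equiv.swap p (Fin.last m)) hu
      rw [Equiv.swap_apply_self, Equiv.swap_apply_right] at this
      exact this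
    rw [this, Function.update_self]

theorem star_update (F : (Fin (m + 1) → α) → K)
    (hperm : ∀ (a : Fin (m + 1) → α) (σ : Equiv.Perm (Fin (m + 1))), F (a ∘ σ) = sgn K σ * F a)
    (b : α → Fin (m + 1) → K) (θ₀ : Fin (m + 1) → α)
    (hsnoc : ∀ (i' : Fin m → α) (x : α), F (Fin.snoc i' x : Fin (m + 1) → α) =
      ∑ s, b x s * F (Fin.snoc i' (θ₀ s) : Fin (m + 1) → α))
    (a : Fin (m + 1) → α) (p : Fin (m + 1)) (x : α) :
    F (Function.update a p x) = ∑ s, b x s * F (Function.update a p (θ₀ s)) := by
  simp only [update_eq_snoc_comp_swap a p, hperm]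
  rw [hsnoc, Finset.mul_sum]
  refine Finset.sum_congr rfl fun s _ => ?_
  ring

theorem alt_uniq (D : (Fin (m + 1) → α) → K) (b : α → Fin (m + 1) → K) (θ₀ : Fin (m + 1) → α)
    (hstar : ∀ (a : Fin (m + 1) → α) (p : Fin (m + 1)) (x : α),
      D (Function.update a p x) = ∑ s, b x s * D (Function.update a p (θ₀ s)))
    (hbase : ∀ f : Fin (m + 1) → Fin (m + 1), D (θ₀ ∘ f) = 0) (a : Fin (m + 1) → α) : D a = 0 := by
  have claim : ∀ k : ℕ, ∀ a : Fin (m + 1) → α,
      (∀ t : Fin (m + 1), k ≤ t.val → a t ∈ Set.range θ₀) → D a = 0 := by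
    intro k
    induction k with
    | zero =>
      intro a ha
      choose f hf using fun t => ha t (Nat.zero_le _)
      have : a = θ₀ ∘ f := funext fun t => (hf t).symm
      rw [this]; exact hbase f
    | succ k ih =>
      intro a ha
      by_cases hk : k < m + 1
      · rw [← Function.update_eq_self ⟨k, hk⟩ a, hstar]
        apply Finset.sum_eq_zero
        intro s _
        rw [ih, mul_zero]
        intro t ht
        by_cases htk : t = ⟨k, hk⟩
        · rw [htk, Function.update_self]; exact ⟨s, rfl⟩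
        · rw [Function.update_of_ne htk]
          apply ha
          have : t.val ≠ k := fun h => htk (Fin.ext h)
          omega
      · apply ih
        intro t ht
        exact absurd t.isLt (by omega)
  apply claim (m + 1)
  intro t ht
  exact absurd t.isLt (by omega)

end Alt

/-! ### the function `Q(a) = q(coord a)` -/

section Q

variable {m : ℕ} (q : Idx (m + 1) n → K)

/-- the value of the signed coordinate of the tuple `a` at the point `q` -/
def Qf (a : Fin (m + 1) → Fin n) : K := MvPolynomial.eval q (coord K (m + 1) n a)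

theorem Qf_perm (a : Fin (m + 1) → Fin n) (σ : Equiv.Perm (Fin (m + 1))) :
    Qf q (a ∘ σ) = sgn K σ * Qf q a := by
  unfold Qf
  rw [coord_comp_perm, map_mul, eval_C]

theorem Qf_not_injective (a : Fin (m + 1) → Fin n) (ha : ¬ Function.Injective a) : Qf q a = 0 := by
  unfold Qf
  rw [coord_not_injective a ha, map_zero]

theorem Qf_idx (θ : Idx (m + 1) n) : Qf q θ.1 = q θ := by
  unfold Qf
  rw [coord_idx, eval_X]

theorem eval_quadric (i' : Idx m n) (j' : Idx (m + 2) n) :
    MvPolynomial.eval q (quadric K i' j') =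
      ∑ h : Fin (m + 2), (-1 : K) ^ (h.val + 1) * Qf q (Fin.snoc i'.1 (j'.1 h)) *
        Qf q (j'.1 ∘ h.succAbove) := by
  unfold quadric Qf
  rw [map_sum]
  simp only [map_mul, map_pow, map_neg, map_one]

end Q

/-- sorted insertion of a new element into a strictly increasing tuple -/
theorem exists_insert {m : ℕ} (θ₀ : Idx (m + 1) n) (x : Fin n) (hx : x ∉ Set.range θ₀.1) :
    ∃ (j : Idx (m + 2) n) (p : Fin (m + 2)), j.1 p = x ∧ j.1 ∘ p.succAbove = θ₀.1 := by
  classical
  have hcard : (Finset.univ.image θ₀.1).card = m + 1 := Helper24Grass.card_image_of_strictMono θ₀.2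
  have hxS : x ∉ Finset.univ.image θ₀.1 := by
    intro h
    obtain ⟨s, _, hs⟩ := Finset.mem_image.mp h
    exact hx ⟨s, hs⟩
  have hS : (insert x (Finset.univ.image θ₀.1)).card = m + 2 := by
    rw [Finset.card_insert_of_notMem hxS, hcard]
  let e := (insert x (Finset.univ.image θ₀.1)).orderEmbOfFin hS
  have hmem : ∀ t, e t ∈ insert x (Finset.univ.image θ₀.1) := fun t =>
    Finset.orderEmbOfFin_mem _ hS t
  have hrange : x ∈ Set.range e := by
    rw [Finset.range_orderEmbOfFin]
    exact Finset.mem_coe.mpr (Finset.mem_insert_self _ _)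
  obtain ⟨p, hp⟩ := hrange
  refine ⟨⟨fun t => e t, e.strictMono⟩, p, hp, ?_⟩
  have hmono : StrictMono ((fun t => e t) ∘ p.succAbove) :=
    e.strictMono.comp (Fin.strictMono_succAbove p)
  have h1 := Finset.orderEmbOfFin_unique hcard (f := (fun t => e t) ∘ p.succAbove) (fun s => by
    have h2 := hmem (p.succAbove s)
    rcases Finset.mem_insert.mp h2 with h3 | h3
    · exfalso
      have : e (p.succAbove s) = e p := h3.trans hp.symm
      exact Fin.succAbove_ne p s (e.injective this)
    · exact h3) hmono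
  have h2 := Finset.orderEmbOfFin_unique hcard (f := θ₀.1)
    (fun s => Finset.mem_image_of_mem _ (Finset.mem_univ s)) θ₀.2
  show (fun t => e t) ∘ p.succAbove = θ₀.1
  exact h1.trans h2.symm

/-! ### the matrix attached to a point of the quadrics -/

section Field

variable {F : Type*} [Field F] {m : ℕ} (q : Idx (m + 1) n → F)

theorem exists_row (hquad : ∀ (i' : Idx m n) (j' : Idx (m + 2) n),
      MvPolynomial.eval q (quadric F i' j') = 0)
    (θ₀ : Idx (m + 1) n) (hθ₀ : q θ₀ ≠ 0) (x : Fin n) :
    ∃ v : Fin (m + 1) → F,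
      (∀ i' : Idx m n, Qf q (Fin.snoc i'.1 x) = ∑ s, v s * Qf q (Fin.snoc i'.1 (θ₀.1 s))) ∧
      (∀ s₁, x = θ₀.1 s₁ → v = Pi.single s₁ 1) := by
  classical
  by_cases hx : x ∈ Set.range θ₀.1
  · obtain ⟨s₀, rfl⟩ := hx
    refine ⟨Pi.single s₀ 1, fun i' => ?_, fun s₁ h => ?_⟩
    · simp [Pi.single_apply]
    · rw [θ₀.2.injective h]
  · obtain ⟨j, p, hjp, hj⟩ := exists_insert θ₀ x hx
    refine ⟨fun s => -((-1 : F) ^ (p.val + 1) * (-1 : F) ^ ((p.succAbove s).val + 1) *
      Qf q (j.1 ∘ (p.succAbove s).succAbove)) / q θ₀, fun i' => ?_, fun s₁ h => ?_⟩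
    · have h1 := hquad i' j
      rw [eval_quadric, Fin.sum_univ_succAbove _ p, hjp, hj, Qf_idx] at h1
      have h2 : ∀ s, j.1 (p.succAbove s) = θ₀.1 s := fun s => congrFun hj s
      simp only [h2] at h1
      have hpp : ((-1 : F) ^ (p.val + 1)) * ((-1 : F) ^ (p.val + 1)) = 1 := by
        rw [← pow_add, ← two_mul, pow_mul]; simp
      have h3 : Qf q (Fin.snoc i'.1 x) * q θ₀ = -((-1 : F) ^ (p.val + 1) *
          ∑ s, (-1 : F) ^ ((p.succAbove s).val + 1) * Qf q (Fin.snoc i'.1 (θ₀.1 s)) *
            Qf q (j.1 ∘ (p.succAbove s).succAbove)) := by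
        have h4 := congrArg (fun z => (-1 : F) ^ (p.val + 1) * z) h1
        simp only [mul_zero, mul_add] at h4
        rw [← mul_assoc, ← mul_assoc, hpp, one_mul] at h4
        exact eq_neg_of_add_eq_zero_left h4
      rw [eq_div_of_mul_eq hθ₀ h3, Finset.mul_sum, ← Finset.sum_neg_distrib, Finset.sum_div]
      refine Finset.sum_congr rfl fun s _ => ?_
      simp only
      ring
    · exact absurd ⟨s₁, h.symm⟩ hx

theorem exists_matrix_of_quadrics (hquad : ∀ (i' : Idx m n) (j' : Idx (m + 2) n),
      MvPolynomial.eval q (quadric F i' j') = 0) (hq : q ≠ 0) :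
    ∃ A : Matrix (Fin n) (Fin (m + 1)) F, ∀ θ : Idx (m + 1) n, q θ = (A.submatrix θ.1 id).det := by
  classical
  obtain ⟨θ₀, hθ₀⟩ : ∃ θ₀, q θ₀ ≠ 0 := by
    by_contra h
    push Not at h
    exact hq (funext h)
  choose b hb1 hb2 using exists_row q hquad θ₀ hθ₀
  let B : Matrix (Fin n) (Fin (m + 1)) F := Matrix.of b
  let P : (Fin (m + 1) → Fin n) → F := fun a => q θ₀ * (B.submatrix a id).det
  have hQsnoc : ∀ (i' : Fin m → Fin n) (x : Fin n), Qf q (Fin.snoc i' x) =
      ∑ s, b x s * Qf q (Fin.snoc i' (θ₀.1 s)) := by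
    intro i' x
    by_cases hinj : Function.Injective i'
    · have hc : (Finset.univ.image i').card = m := by
        rw [Finset.card_image_of_injective _ hinj]; simp
      obtain ⟨σ, hσ⟩ := exists_perm_sort i' hc
      have hi : i' = (sortIdx m n i' hc).1 ∘ σ := funext fun s => (hσ s).symm
      rw [hi]
      simp only [snoc_comp_extLast, Qf_perm]
      rw [hb1 x (sortIdx m n i' hc), Finset.mul_sum]
      refine Finset.sum_congr rfl fun s _ => by ring
    · have : ∀ y, ¬ Function.Injective (Fin.snoc i' y : Fin (m + 1) → Fin n) := by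
        intro y hy
        apply hinj
        intro s t hst
        have := @hy s.castSucc t.castSucc (by simp [hst])
        exact Fin.castSucc_injective _ this
      simp only [Qf_not_injective q _ (this _), mul_zero, Finset.sum_const_zero]
  have hQstar := star_update (Qf q) (Qf_perm q) b θ₀.1 hQsnoc
  have hBθ : ∀ s, B (θ₀.1 s) = Pi.single s 1 := fun s => hb2 (θ₀.1 s) s rfl
  have hPperm : ∀ (a : Fin (m + 1) → Fin n) (σ : Equiv.Perm (Fin (m + 1))),
      P (a ∘ σ) = sgn F σ * P a := by
    intro a σ
    show q θ₀ * (B.submatrix (a ∘ σ) id).det = sgn F σ * (q θ₀ * (B.submatrix a id).det)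
    have : B.submatrix (a ∘ σ) id = (B.submatrix a id).submatrix σ id := by ext; simp
    rw [this, Matrix.det_permute]; unfold sgn; ring
  have hPstar : ∀ (a : Fin (m + 1) → Fin n) (p : Fin (m + 1)) (x : Fin n),
      P (Function.update a p x) = ∑ s, b x s * P (Function.update a p (θ₀.1 s)) := by
    intro a p x
    have key : ∀ y, (B.submatrix (Function.update a p y) id).det =
        Matrix.cramer (Matrix.transpose (B.submatrix a id)) (B y) p := by
      intro y
      rw [Matrix.cramer_transpose_apply]
      congr 1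
      ext t u
      by_cases h : t = p
      · subst h; simp
      · simp [h]
    show q θ₀ * _ = ∑ s, b x s * (q θ₀ * _)
    simp only [key]
    have hBx : B x = ∑ s, b x s • B (θ₀.1 s) := by
      funext u
      simp [hBθ, Pi.single_apply, B]
    rw [hBx, map_sum]
    simp only [map_smul, Finset.sum_apply, Pi.smul_apply, smul_eq_mul, Finset.mul_sum]
    refine Finset.sum_congr rfl fun s _ => by ring
  have hD : ∀ a, Qf q a - P a = 0 := by
    apply alt_uniq (fun a => Qf q a - P a) b θ₀.1
    · intro a p x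
      simp only [hQstar a p x, hPstar a p x, ← Finset.sum_sub_distrib, mul_sub]
    · intro f
      by_cases hf : Function.Injective f
      · let σ : Equiv.Perm (Fin (m + 1)) :=
          Equiv.ofBijective f (Finite.injective_iff_bijective.mp hf)
        have hσ : θ₀.1 ∘ f = θ₀.1 ∘ σ := rfl
        simp only [hσ, Qf_perm, hPperm]
        have h0 : Qf q θ₀.1 - P θ₀.1 = 0 := by
          rw [Qf_idx]
          show q θ₀ - q θ₀ * (B.submatrix θ₀.1 id).det = 0
          have : B.submatrix θ₀.1 id = 1 := by
            ext s t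
            simp [hBθ, Matrix.one_apply, Pi.single_apply, eq_comm]
          rw [this, Matrix.det_one, mul_one, sub_self]
        rw [← mul_sub, h0, mul_zero]
      · have h1 : ¬ Function.Injective (θ₀.1 ∘ f) := fun h => hf (Function.Injective.of_comp h)
        rw [Qf_not_injective q _ h1]
        rw [Function.Injective] at hf
        push Not at hf
        obtain ⟨s, t, hst, hne⟩ := hf
        show 0 - q θ₀ * (B.submatrix (θ₀.1 ∘ f) id).det = 0
        rw [Matrix.det_zero_of_row_eq hne (by ext u; simp [hst]), mul_zero, sub_zero]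
  refine ⟨Matrix.of fun x s => (if s = 0 then q θ₀ else 1) * b x s, fun θ => ?_⟩
  have h1 := hD θ.1
  rw [Qf_idx, sub_eq_zero] at h1
  rw [h1]
  show q θ₀ * (B.submatrix θ.1 id).det = _
  have : (Matrix.of fun x s => (if s = 0 then q θ₀ else 1) * b x s).submatrix θ.1 id =
      Matrix.of fun t s => (fun s => if s = (0 : Fin (m + 1)) then q θ₀ else 1) s *
        (B.submatrix θ.1 id) t s := by
    ext t s; simp [B]
  rw [this, Matrix.det_mul_row]
  simp

end Field

/-- S11256: the Plücker quadrics cut out the Grassmannian set-theoretically (any field). -/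
theorem main_S11256 (K : Type*) [Field K] (e n : ℕ)
    (q : Idx (e + 1) n → K) (hq : q ≠ 0) :
    (∀ (i' : Idx e n) (j' : Idx (e + 2) n), MvPolynomial.eval q (quadric K i' j') = 0) ↔
      ∃ A : Matrix (Fin n) (Fin (e + 1)) K, ∀ θ : Idx (e + 1) n, q θ = (A.submatrix θ.1 id).det := by
  constructor
  · intro h
    exact exists_matrix_of_quadrics q h hq
  · rintro ⟨A, hA⟩ i' j'
    have h1 := quadric_evalMinors A i' j'
    have h2 : q = fun θ : Idx (e + 1) n => (A.submatrix θ.1 id).det := funext hA
    rw [h2]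
    unfold evalMinors at h1
    rw [← MvPolynomial.coe_aeval_eq_eval]
    exact h1

end Groth.Agent.Lib.T2H8.GrassQuad
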