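import Mathlib
import Groth.Prelude.Def_W4bk4grassmannianPl
import Groth.Agent.Lib.T2H8GrassCell
import Groth.Agent.Lib.T2H8GrassDim
import Groth.Agent.Lib.T2H8GrassNormal

/-!
# Factoriality of Schubert cones, part (a): UFD iff `X_τ` prime (helper8)
-/

noncomputable section

open MvPolynomial W4bk4grassmannian

namespace Groth.Agent.Lib.T2H8.Grass

universe u

section UFDa

variable (K : Type u) [Field K] {d n : ℕ}

theorem isUnit_of_isUnit_val (hd : 0 < d) (τ : Idx d n) (a : (cellMap K hd τ).range)
    (ha : IsUnit (a : MvPolynomial (Option (CellIdx τ)) K)) : IsUnit a := by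
  obtain ⟨r, hr, har⟩ := MvPolynomial.isUnit_iff_eq_C_of_isReduced.mp ha
  have : a = algebraMap K (cellMap K hd τ).range r := Subtype.ext har
  rw [this]
  exact hr.map (algebraMap K (cellMap K hd τ).range)

theorem irreducible_X_none_range (hd : 0 < d) (τ : Idx d n) :
    Irreducible (⟨X none, X_none_mem_range K hd τ⟩ : (cellMap K hd τ).range) := by
  have hprime : Prime (X none : MvPolynomial (Option (CellIdx τ)) K) := MvPolynomial.X_prime
  rw [irreducible_iff]
  constructor
  · intro hu
    exact hprime.not_unit (hu.map (cellMap K hd τ).range.val)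
  · intro a b hab
    have h1 : (X none : MvPolynomial (Option (CellIdx τ)) K) = (a : _) * (b : _) :=
      congrArg Subtype.val hab
    rcases hprime.irreducible.isUnit_or_isUnit h1 with h | h
    · exact Or.inl (isUnit_of_isUnit_val K hd τ a h)
    · exact Or.inr (isUnit_of_isUnit_val K hd τ b h)

theorem quotEquivRange_X [Infinite K] (hd : 0 < d) (τ : Idx d n) :
    quotEquivRange K hd τ (Ideal.Quotient.mk _ (X τ)) =
      (⟨X none, X_none_mem_range K hd τ⟩ : (cellMap K hd τ).range) := by
  apply Subtype.ext
  rw [quotEquivRange_mk, cellMap_X, cellMinor'_tau]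

theorem irreducible_mk_X [Infinite K] (hd : 0 < d) (τ : Idx d n) :
    Irreducible (Ideal.Quotient.mk (schubertVanishing K d n τ) (X τ)) := by
  rw [← MulEquiv.irreducible_iff (quotEquivRange K hd τ).toMulEquiv]
  show Irreducible (quotEquivRange K hd τ (Ideal.Quotient.mk _ (X τ)))
  rw [quotEquivRange_X]
  exact irreducible_X_none_range K hd τ

/-- the localization of `K[z, u]` at `u` is a localization of the Schubert cone at `X_τ` -/
theorem isLocalization_away [Infinite K] (hd : 0 < d) (τ : Idx d n) :
    letI : Algebra (PlRing K d n ⧸ schubertVanishing K d n τ)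
        (Localization.Away (X none : MvPolynomial (Option (CellIdx τ)) K)) :=
      ((algebraMap (MvPolynomial (Option (CellIdx τ)) K) (Localization.Away
        (X none : MvPolynomial (Option (CellIdx τ)) K))).comp
          ((cellMap K hd τ).range.val.toRingHom.comp
            (quotEquivRange K hd τ).toRingEquiv.toRingHom)).toAlgebra
    IsLocalization (Submonoid.powers (Ideal.Quotient.mk (schubertVanishing K d n τ) (X τ)))
      (Localization.Away (X none : MvPolynomial (Option (CellIdx τ)) K)) := by
  letI alg : Algebra (PlRing K d n ⧸ schubertVanishing K d n τ)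
      (Localization.Away (X none : MvPolynomial (Option (CellIdx τ)) K)) :=
    ((algebraMap (MvPolynomial (Option (CellIdx τ)) K) (Localization.Away
      (X none : MvPolynomial (Option (CellIdx τ)) K))).comp
        ((cellMap K hd τ).range.val.toRingHom.comp
          (quotEquivRange K hd τ).toRingEquiv.toRingHom)).toAlgebra
  set B := MvPolynomial (Option (CellIdx τ)) K with hB
  set L := Localization.Away (X none : B) with hL
  have hmap : ∀ r : PlRing K d n ⧸ schubertVanishing K d n τ,
      algebraMap _ L r = algebraMap B L ((quotEquivRange K hd τ r : (cellMap K hd τ).range) : B) :=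
    fun r => rfl
  have hinjB : Function.Injective (algebraMap B L) :=
    IsLocalization.injective L (powers_le_nonZeroDivisors_of_noZeroDivisors
      (MvPolynomial.X_ne_zero (none : Option (CellIdx τ))))
  rw [isLocalization_iff]
  refine ⟨?_, ?_, ?_⟩
  · rintro ⟨y, k, rfl⟩
    rw [hmap, map_pow, quotEquivRange_X]
    simp only [SubmonoidClass.coe_pow, map_pow]
    exact (IsLocalization.map_units L
      (⟨X none, Submonoid.mem_powers _⟩ : Submonoid.powers (X none : B))).pow k
  · intro z
    obtain ⟨⟨b, s⟩, hz⟩ := IsLocalization.surj (Submonoid.powers (X none : B)) z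
    obtain ⟨j, hj⟩ := (Submonoid.mem_powers_iff _ _).mp s.2
    obtain ⟨m, hm⟩ := exists_pow_mul_mem_range K hd τ b
    refine ⟨((quotEquivRange K hd τ).symm ⟨_, hm⟩,
      ⟨(Ideal.Quotient.mk _ (X τ)) ^ (m + j), Submonoid.pow_mem _ (Submonoid.mem_powers _) _⟩), ?_⟩
    rw [hmap, hmap, AlgEquiv.apply_symm_apply, map_pow, quotEquivRange_X]
    simp only [SubmonoidClass.coe_pow, map_pow, map_mul]
    simp only at hz
    rw [← hz, ← hj, map_pow]
    ring
  · intro x y hxy
    rw [hmap, hmap] at hxy
    have h1 := hinjB hxy
    have h2 : quotEquivRange K hd τ x = quotEquivRange K hd τ y := Subtype.ext h1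
    exact ⟨1, by rw [(quotEquivRange K hd τ).injective h2]⟩

theorem ufd_of_prime [Infinite K] (hd : 0 < d) (τ : Idx d n)
    (hp : Prime (Ideal.Quotient.mk (schubertVanishing K d n τ) (X τ))) :
    UniqueFactorizationMonoid (PlRing K d n ⧸ schubertVanishing K d n τ) := by
  haveI : Fact (0 < d) := ⟨hd⟩
  haveI : IsDomain (PlRing K d n ⧸ schubertVanishing K d n τ) := Ideal.Quotient.isDomain _
  rw [UniqueFactorizationMonoid.iff_localizationAway_of_prime hp]
  letI alg : Algebra (PlRing K d n ⧸ schubertVanishing K d n τ)
      (Localization.Away (X none : MvPolynomial (Option (CellIdx τ)) K)) :=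
    ((algebraMap (MvPolynomial (Option (CellIdx τ)) K) (Localization.Away
      (X none : MvPolynomial (Option (CellIdx τ)) K))).comp
        ((cellMap K hd τ).range.val.toRingHom.comp
          (quotEquivRange K hd τ).toRingEquiv.toRingHom)).toAlgebra
  haveI hloc := isLocalization_away K hd τ
  have hufd : UniqueFactorizationMonoid
      (Localization.Away (X none : MvPolynomial (Option (CellIdx τ)) K)) :=
    UniqueFactorizationMonoid.of_isLocalization
      (Submonoid.powers (X none : MvPolynomial (Option (CellIdx τ)) K)) _
  have e := IsLocalization.algEquiv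
    (Submonoid.powers (Ideal.Quotient.mk (schubertVanishing K d n τ) (X τ)))
    (Localization.Away (X none : MvPolynomial (Option (CellIdx τ)) K))
    (Localization.Away (Ideal.Quotient.mk (schubertVanishing K d n τ) (X τ)))
  exact MulEquiv.uniqueFactorizationMonoid e.toMulEquiv hufd

theorem ufd_iff_prime [Infinite K] (hd : 0 < d) (τ : Idx d n) :
    UniqueFactorizationMonoid (PlRing K d n ⧸ schubertVanishing K d n τ) ↔
      Prime (Ideal.Quotient.mk (schubertVanishing K d n τ) (X τ)) := by
  constructor
  · intro h
    exact UniqueFactorizationMonoid.irreducible_iff_prime.mp (irreducible_mk_X K hd τ)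
  · exact ufd_of_prime K hd τ

end UFDa

end Groth.Agent.Lib.T2H8.Grass
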