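import Mathlib
import Groth.Prelude.Def_Grpd
import Groth.Agent.Lib.Helper10ClosureProd

set_option autoImplicit false
set_option linter.unusedSectionVars false
universe u
open CategoryTheory CategoryTheory.Limits AlgebraicGeometry
open Grpd

namespace Groth.Agent.Lib.T2H8.GrpdClosure

theorem fieldLike {U : Scheme.{u}} (k : Type u) [Field k] (eU : U ≅ Spec (CommRingCat.of k)) :
    IsIntegral U ∧ Subsingleton U := by
  constructor
  · exact IsIntegral.of_isIso eU.inv
  · refine ⟨fun x y => ?_⟩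
    have h : eU.hom x = eU.hom y := Subsingleton.elim _ _
    have hx : eU.inv (eU.hom x) = x := by
      change (eU.hom ≫ eU.inv) x = x
      rw [Iso.hom_inv_id]
      rfl
    have hy : eU.inv (eU.hom y) = y := by
      change (eU.hom ≫ eU.inv) y = y
      rw [Iso.hom_inv_id]
      rfl
    rw [← hx, ← hy, h]

/-- closure of a product set, in the form used below -/
theorem mem_closure_of_fst_snd {X Y U : Scheme.{u}} (f : X ⟶ U) (g : Y ⟶ U) [IsIntegral U]
    [Subsingleton U] (A : Set X) (B : Set Y) (p : ↑(pullback f g))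
    (h₁ : pullback.fst f g p ∈ closure A) (h₂ : pullback.snd f g p ∈ closure B) :
    p ∈ closure ((pullback.fst f g) ⁻¹' A ∩ (pullback.snd f g) ⁻¹' B) := by
  have h := Groth.Agent.Lib.Helper10.ClosureProd.closure_inter_preimage
    (IsPullback.of_hasPullback f g) A B
  have hp : p ∈ (pullback.fst f g).base ⁻¹' closure A ∩ (pullback.snd f g).base ⁻¹' closure B :=
    ⟨h₁, h₂⟩
  rw [← h] at hp
  exact hp

variable {S : Scheme.{u}} {G₁ G₂ : Grpd.GroupoidScheme S} (f : Grpd.GroupoidScheme.Hom G₁ G₂)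

/-- the induced map on composable pairs -/
noncomputable def mapPairs : pullback G₁.s G₁.t ⟶ pullback G₂.s G₂.t :=
  pullback.map G₁.s G₁.t G₂.s G₂.t f.fR f.fR f.fU f.comm_s.symm f.comm_t.symm

theorem mapPairs_c : mapPairs f ≫ G₂.c = G₁.c ≫ f.fR := by
  have h := f.comm_c (pullback.fst G₁.s G₁.t) (pullback.snd G₁.s G₁.t) pullback.condition
  have hid : pullback.lift (pullback.fst G₁.s G₁.t) (pullback.snd G₁.s G₁.t) pullback.condition =
      𝟙 _ := by
    apply pullback.hom_ext <;> simp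
  rw [hid, Category.id_comp] at h
  rw [h]
  rfl

theorem comp_mem_closure [IsIso f.fU] (k : Type u) [Field k]
    (eU : G₂.U ≅ Spec (CommRingCat.of k)) (p : ↑(pullback G₂.s G₂.t))
    (h₁ : pullback.fst G₂.s G₂.t p ∈ closure (Set.range ⇑f.fR))
    (h₂ : pullback.snd G₂.s G₂.t p ∈ closure (Set.range ⇑f.fR)) :
    G₂.c p ∈ closure (Set.range ⇑f.fR) := by
  obtain ⟨hI, hS⟩ := fieldLike k eU
  have hp := mem_closure_of_fst_snd G₂.s G₂.t (Set.range ⇑f.fR) (Set.range ⇑f.fR) p h₁ h₂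
  have hr : Set.range (mapPairs f) =
      (pullback.fst G₂.s G₂.t) ⁻¹' Set.range ⇑f.fR ∩ (pullback.snd G₂.s G₂.t) ⁻¹' Set.range ⇑f.fR :=
    Scheme.Pullback.range_map G₁.s G₁.t G₂.s G₂.t f.fR f.fR f.fU f.comm_s.symm f.comm_t.symm
  rw [← hr] at hp
  have hcont : Continuous G₂.c := G₂.c.continuous
  have h3 : G₂.c p ∈ closure (G₂.c '' Set.range (mapPairs f)) :=
    image_closure_subset_closure_image hcont ⟨p, hp, rfl⟩
  refine closure_mono ?_ h3
  rintro _ ⟨_, ⟨v, rfl⟩, rfl⟩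
  refine ⟨G₁.c v, ?_⟩
  change (G₁.c ≫ f.fR) v = (mapPairs f ≫ G₂.c) v
  rw [mapPairs_c]

end Groth.Agent.Lib.T2H8.GrpdClosure
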