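import Mathlib
import Groth.Prelude.Def_Grpd

set_option autoImplicit false
set_option linter.unusedSectionVars false
universe u
open CategoryTheory CategoryTheory.Limits AlgebraicGeometry
open Grpd

namespace Groth.Agent.Lib.T2H8.GrpdOrbit

variable {S : Scheme.{u}} (G : Grpd.GroupoidScheme S)

/-- two points of `U` are in the same orbit -/
def Orb (a b : G.U) : Prop := ∃ r : G.R, G.s r = a ∧ G.t r = b

theorem orb_symm {a b : G.U} (h : Orb G a b) : Orb G b a := by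
  obtain ⟨r, hs, ht⟩ := h
  refine ⟨G.i r, ?_, ?_⟩
  · have : G.s (G.i r) = (G.i ≫ G.s) r := rfl
    rw [this, G.i_s, ht]
  · have : G.t (G.i r) = (G.i ≫ G.t) r := rfl
    rw [this, G.i_t, hs]

theorem c_s : G.c ≫ G.s = pullback.snd G.s G.t ≫ G.s := by
  have h := G.comp_s (pullback.fst G.s G.t) (pullback.snd G.s G.t) pullback.condition
  have hid : pullback.lift (pullback.fst G.s G.t) (pullback.snd G.s G.t) pullback.condition =
      𝟙 _ := by
    apply pullback.hom_ext <;> simp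
  rw [hid, Category.id_comp] at h
  exact h

theorem c_t : G.c ≫ G.t = pullback.fst G.s G.t ≫ G.t := by
  have h := G.comp_t (pullback.fst G.s G.t) (pullback.snd G.s G.t) pullback.condition
  have hid : pullback.lift (pullback.fst G.s G.t) (pullback.snd G.s G.t) pullback.condition =
      𝟙 _ := by
    apply pullback.hom_ext <;> simp
  rw [hid, Category.id_comp] at h
  exact h

theorem orb_trans {a b c : G.U} (h₁ : Orb G a b) (h₂ : Orb G b c) : Orb G a c := by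
  obtain ⟨r₁, hs₁, ht₁⟩ := h₁
  obtain ⟨r₂, hs₂, ht₂⟩ := h₂
  obtain ⟨z, hz₁, hz₂⟩ := Scheme.Pullback.exists_preimage_pullback (f := G.s) (g := G.t) r₂ r₁
    (hs₂.trans ht₁.symm)
  refine ⟨G.c z, ?_, ?_⟩
  · have : G.s (G.c z) = (G.c ≫ G.s) z := rfl
    rw [this, c_s]
    change G.s (pullback.snd G.s G.t z) = a
    rw [hz₂, hs₁]
  · have : G.t (G.c z) = (G.c ≫ G.t) z := rfl
    rw [this, c_t]
    change G.t (pullback.fst G.s G.t z) = c
    rw [hz₁, ht₂]

variable [IsFinite G.s] [IsFinite G.t]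

/-- the key step: a strict specialization inside an orbit can be continued -/
theorem step {a b : G.U} (hab : Orb G a b) (hsp : a ⤳ b) (hne : a ≠ b) :
    ∃ c : G.U, Orb G b c ∧ b ⤳ c ∧ b ≠ c := by
  obtain ⟨r₁, hs₁, ht₁⟩ := hab
  have hcl : IsClosedMap G.s := G.s.isClosedMap
  obtain ⟨r₂, hr, hs₂⟩ := hcl.specializingMap (a := r₁) (b := b) (by rw [hs₁]; exact hsp)
  refine ⟨G.t r₂, ⟨r₂, hs₂, rfl⟩, ?_, ?_⟩
  · rw [← ht₁]
    exact hr.map G.t.continuous
  · intro hbc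
    have hdisc := G.t.isDiscrete_preimage_singleton b
    rw [isDiscrete_iff_forall_mem_exists_isOpen] at hdisc
    have hr₂ : r₂ ∈ G.t ⁻¹' {b} := hbc.symm
    have hr₁ : r₁ ∈ G.t ⁻¹' {b} := ht₁
    obtain ⟨u, hu, hu2⟩ := hdisc r₂ hr₂
    have h2u : r₂ ∈ u := by
      have : r₂ ∈ u ∩ G.t ⁻¹' {b} := by rw [hu2]; rfl
      exact this.1
    have h1u : r₁ ∈ u := hr.mem_open hu h2u
    have h12 : r₁ ∈ u ∩ G.t ⁻¹' {b} := ⟨h1u, hr₁⟩
    rw [hu2] at h12
    have : r₁ = r₂ := h12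
    apply hne
    rw [← hs₁, this, hs₂]

theorem not_specializes {a b : G.U} (hab : Orb G a b) (hne : a ≠ b) : ¬ (a ⤳ b) := by
  intro hsp
  -- the set of bad targets
  let T : Set G.U := {y | ∃ x, Orb G a x ∧ Orb G x y ∧ x ⤳ y ∧ x ≠ y}
  have hTfin : T.Finite := by
    have h1 : (G.s ⁻¹' {a}).Finite := G.s.finite_preimage_singleton a
    refine (h1.image G.t).subset ?_
    rintro y ⟨x, hax, hxy, -, -⟩
    obtain ⟨r, hs, ht⟩ := orb_trans G hax hxy
    exact ⟨r, hs, ht⟩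
  have hTne : T.Nonempty := ⟨b, a, ⟨G.e a, by
      have : G.s (G.e a) = (G.e ≫ G.s) a := rfl
      rw [this, G.e_s]; rfl, by
      have : G.t (G.e a) = (G.e ≫ G.t) a := rfl
      rw [this, G.e_t]; rfl⟩, hab, hsp, hne⟩
  -- a most special element
  obtain ⟨y, hyT, hymin⟩ : ∃ y ∈ T, ∀ z ∈ T, y ⤳ z → z ⤳ y := by
    let _ : Preorder G.U := specializationPreorder G.U
    obtain ⟨y, hy⟩ := hTfin.exists_minimal hTne
    exact ⟨y, hy.1, fun z hz hyz => hy.2 hz hyz⟩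
  obtain ⟨x, hax, hxy, hsxy, hnxy⟩ := hyT
  obtain ⟨c, hyc, hsyc, hnyc⟩ := step G hxy hsxy hnxy
  have hcT : c ∈ T := ⟨y, orb_trans G hax hxy, hyc, hsyc, hnyc⟩
  have hcy : c ⤳ y := hymin c hcT hsyc
  exact hnyc (hsyc.antisymm hcy).eq

end Groth.Agent.Lib.T2H8.GrpdOrbit
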