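import Mathlib
import Groth.Prelude.Def_Grpd
import Groth.Agent.Lib.T2H8GrpdClosure
import Groth.Agent.Lib.T2H8GrpdOrbit

set_option autoImplicit false
set_option linter.unusedSectionVars false
universe u
open CategoryTheory CategoryTheory.Limits AlgebraicGeometry
open Grpd

namespace Groth.Agent.Lib.T2H8.GrpdClosureJ
open Groth.Agent.Lib.T2H8.GrpdClosure Groth.Agent.Lib.T2H8.GrpdOrbit

variable {S : Scheme.{u}} (G : Grpd.GroupoidScheme S)

theorem j_fst : G.j ≫ pullback.fst G.pU G.pU = G.t := pullback.lift_fst _ _ _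
theorem j_snd : G.j ≫ pullback.snd G.pU G.pU = G.s := pullback.lift_snd _ _ _

/-- the induced map on composable pairs -/
noncomputable def mapJ : pullback G.s G.t ⟶
    pullback (pullback.snd G.pU G.pU) (pullback.fst G.pU G.pU) :=
  pullback.map G.s G.t (pullback.snd G.pU G.pU) (pullback.fst G.pU G.pU) G.j G.j (𝟙 G.U)
    (by rw [Category.comp_id, j_snd]) (by rw [Category.comp_id, j_fst])

theorem mapJ_fst : mapJ G ≫ pullback.fst _ _ = pullback.fst G.s G.t ≫ G.j :=
  pullback.lift_fst _ _ _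

theorem mapJ_snd : mapJ G ≫ pullback.snd _ _ = pullback.snd G.s G.t ≫ G.j :=
  pullback.lift_snd _ _ _

variable (pr02 : pullback (pullback.snd G.pU G.pU) (pullback.fst G.pU G.pU) ⟶ pullback G.pU G.pU)
  (h0 : pr02 ≫ pullback.fst G.pU G.pU =
    pullback.fst (pullback.snd G.pU G.pU) (pullback.fst G.pU G.pU) ≫ pullback.fst G.pU G.pU)
  (h1 : pr02 ≫ pullback.snd G.pU G.pU =
    pullback.snd (pullback.snd G.pU G.pU) (pullback.fst G.pU G.pU) ≫ pullback.snd G.pU G.pU)

include h0 h1 in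
theorem mapJ_pr02 : mapJ G ≫ pr02 = G.c ≫ G.j := by
  apply pullback.hom_ext
  · rw [Category.assoc, h0, ← Category.assoc, mapJ_fst, Category.assoc, j_fst, Category.assoc,
      j_fst, c_t]
  · rw [Category.assoc, h1, ← Category.assoc, mapJ_snd, Category.assoc, j_snd, Category.assoc,
      j_snd, c_s]

include h0 h1 in
theorem pr02_mem_closure (k : Type u) [Field k] (eU : G.U ≅ Spec (CommRingCat.of k))
    (p : ↑(pullback (pullback.snd G.pU G.pU) (pullback.fst G.pU G.pU)))
    (h₁ : pullback.fst (pullback.snd G.pU G.pU) (pullback.fst G.pU G.pU) p ∈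
      closure (Set.range ⇑G.j))
    (h₂ : pullback.snd (pullback.snd G.pU G.pU) (pullback.fst G.pU G.pU) p ∈
      closure (Set.range ⇑G.j)) :
    pr02 p ∈ closure (Set.range ⇑G.j) := by
  obtain ⟨hI, hS⟩ := fieldLike k eU
  have hp := mem_closure_of_fst_snd (pullback.snd G.pU G.pU) (pullback.fst G.pU G.pU)
    (Set.range ⇑G.j) (Set.range ⇑G.j) p h₁ h₂
  have hr : Set.range (mapJ G) =
      (pullback.fst (pullback.snd G.pU G.pU) (pullback.fst G.pU G.pU)) ⁻¹' Set.range ⇑G.j ∩
      (pullback.snd (pullback.snd G.pU G.pU) (pullback.fst G.pU G.pU)) ⁻¹' Set.range ⇑G.j :=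
    Scheme.Pullback.range_map G.s G.t (pullback.snd G.pU G.pU) (pullback.fst G.pU G.pU) G.j G.j
      (𝟙 G.U) (by rw [Category.comp_id, j_snd]) (by rw [Category.comp_id, j_fst])
  rw [← hr] at hp
  have hcont : Continuous pr02 := pr02.continuous
  have h3 : pr02 p ∈ closure (pr02 '' Set.range (mapJ G)) :=
    image_closure_subset_closure_image hcont ⟨p, hp, rfl⟩
  refine closure_mono ?_ h3
  rintro _ ⟨_, ⟨v, rfl⟩, rfl⟩
  refine ⟨G.c v, ?_⟩
  change (G.c ≫ G.j) v = (mapJ G ≫ pr02) v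
  rw [mapJ_pr02 G pr02 h0 h1]

end Groth.Agent.Lib.T2H8.GrpdClosureJ
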