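import Mathlib
import Groth.Prelude.Def_Grpd

set_option autoImplicit false
set_option linter.unusedSectionVars false
universe u
open CategoryTheory CategoryTheory.Limits AlgebraicGeometry
open Grpd

namespace Groth.Agent.Lib.T2H8.GrpdPts

variable {S : Scheme.{u}} (G : Grpd.GroupoidScheme S)

/-- composition of `T`-valued points -/
noncomputable def cmp {T : Scheme.{u}} (α β : T ⟶ G.R) (h : α ≫ G.s = β ≫ G.t) : T ⟶ G.R :=
  pullback.lift α β h ≫ G.c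

theorem cmp_congr {T : Scheme.{u}} {α α' β β' : T ⟶ G.R} (h : α ≫ G.s = β ≫ G.t)
    (hα : α = α') (hβ : β = β') :
    cmp G α β h = cmp G α' β' (by rw [← hα, ← hβ]; exact h) := by
  subst hα
  subst hβ
  rfl

theorem cmp_s {T : Scheme.{u}} (α β : T ⟶ G.R) (h : α ≫ G.s = β ≫ G.t) :
    cmp G α β h ≫ G.s = β ≫ G.s := G.comp_s α β h

theorem cmp_t {T : Scheme.{u}} (α β : T ⟶ G.R) (h : α ≫ G.s = β ≫ G.t) :
    cmp G α β h ≫ G.t = α ≫ G.t := G.comp_t α β h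

theorem pre_cmp {T T' : Scheme.{u}} (f : T' ⟶ T) (α β : T ⟶ G.R) (h : α ≫ G.s = β ≫ G.t) :
    f ≫ cmp G α β h = cmp G (f ≫ α) (f ≫ β) (by rw [Category.assoc, Category.assoc, h]) := by
  unfold cmp
  rw [← Category.assoc]
  congr 1
  apply pullback.hom_ext
  · rw [Category.assoc, pullback.lift_fst, pullback.lift_fst]
  · rw [Category.assoc, pullback.lift_snd, pullback.lift_snd]

theorem cmp_assoc {T : Scheme.{u}} (α β γ : T ⟶ G.R) (h₁ : α ≫ G.s = β ≫ G.t)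
    (h₂ : β ≫ G.s = γ ≫ G.t) :
    cmp G (cmp G α β h₁) γ ((cmp_s G α β h₁).trans h₂) =
      cmp G α (cmp G β γ h₂) (h₁.trans (cmp_t G β γ h₂).symm) :=
  G.assoc α β γ h₁ h₂

theorem cmp_e {T : Scheme.{u}} (α : T ⟶ G.R) (ε : T ⟶ G.R) (hε : ε = α ≫ G.s ≫ G.e)
    (h : α ≫ G.s = ε ≫ G.t) : cmp G α ε h = α := by
  subst hε
  exact G.comp_e α

theorem e_cmp {T : Scheme.{u}} (α : T ⟶ G.R) (ε : T ⟶ G.R) (hε : ε = α ≫ G.t ≫ G.e)
    (h : ε ≫ G.s = α ≫ G.t) : cmp G ε α h = α := by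
  subst hε
  exact G.e_comp α

theorem cmp_i {T : Scheme.{u}} (α : T ⟶ G.R) (β : T ⟶ G.R) (hβ : β = α ≫ G.i)
    (h : α ≫ G.s = β ≫ G.t) : cmp G α β h = α ≫ G.t ≫ G.e := by
  subst hβ
  exact G.comp_i α

theorem i_cmp {T : Scheme.{u}} (α : T ⟶ G.R) (β : T ⟶ G.R) (hβ : β = α ≫ G.i)
    (h : β ≫ G.s = α ≫ G.t) : cmp G β α h = α ≫ G.s ≫ G.e := by
  subst hβ
  exact G.i_comp α


section translate
variable {K : Scheme.{u}} (h : K ⟶ G.R) (a b : K ⟶ G.U) (ha : h ≫ G.t = a) (hb : h ≫ G.s = b)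

/-- right translation by `h : b → a` from arrows with source `a` to arrows with source `b` -/
noncomputable def Ψ : pullback G.s a ⟶ pullback G.s b :=
  pullback.lift
    (cmp G (pullback.fst G.s a) (pullback.snd G.s a ≫ h)
      (by rw [pullback.condition, Category.assoc, ha]))
    (pullback.snd G.s a)
    (by rw [cmp_s, Category.assoc, hb])

theorem Ψ_fst : Ψ G h a b ha hb ≫ pullback.fst G.s b =
    cmp G (pullback.fst G.s a) (pullback.snd G.s a ≫ h)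
      (by rw [pullback.condition, Category.assoc, ha]) := pullback.lift_fst _ _ _

theorem Ψ_snd : Ψ G h a b ha hb ≫ pullback.snd G.s b = pullback.snd G.s a :=
  pullback.lift_snd _ _ _

theorem Ψ_Ψ (h' : K ⟶ G.R) (hh' : h' = h ≫ G.i) (ha' : h' ≫ G.t = b) (hb' : h' ≫ G.s = a) :
    Ψ G h a b ha hb ≫ Ψ G h' b a ha' hb' = 𝟙 _ := by
  apply pullback.hom_ext
  · rw [Category.assoc, Ψ_fst, pre_cmp, Category.id_comp]
    have e1 : Ψ G h a b ha hb ≫ pullback.fst G.s b =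
        cmp G (pullback.fst G.s a) (pullback.snd G.s a ≫ h)
          (by rw [pullback.condition, Category.assoc, ha]) := Ψ_fst G h a b ha hb
    have e2 : Ψ G h a b ha hb ≫ pullback.snd G.s b ≫ h' = (pullback.snd G.s a ≫ h) ≫ G.i := by
      rw [← Category.assoc, Ψ_snd, hh', Category.assoc]
    have hc : (pullback.snd G.s a ≫ h) ≫ G.s = ((pullback.snd G.s a ≫ h) ≫ G.i) ≫ G.t := by
      rw [Category.assoc _ G.i G.t, G.i_t]
    rw [cmp_congr G _ e1 e2, cmp_assoc G _ _ _ _ hc]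
    have e3 : cmp G (pullback.snd G.s a ≫ h) ((pullback.snd G.s a ≫ h) ≫ G.i) hc =
        (pullback.snd G.s a ≫ h) ≫ G.t ≫ G.e := cmp_i G _ _ rfl hc
    rw [cmp_congr G _ rfl e3]
    apply cmp_e
    rw [Category.assoc, ← Category.assoc h, ha, ← Category.assoc, ← pullback.condition,
      Category.assoc]
  · rw [Category.assoc, Ψ_snd, Ψ_snd, Category.id_comp]

theorem Ψ_Ψ' (h' : K ⟶ G.R) (hh' : h' = h ≫ G.i) (ha' : h' ≫ G.t = b) (hb' : h' ≫ G.s = a) :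
    Ψ G h' b a ha' hb' ≫ Ψ G h a b ha hb = 𝟙 _ := by
  apply pullback.hom_ext
  · rw [Category.assoc, Ψ_fst, pre_cmp, Category.id_comp]
    have e1 : Ψ G h' b a ha' hb' ≫ pullback.fst G.s a =
        cmp G (pullback.fst G.s b) (pullback.snd G.s b ≫ h')
          (by rw [pullback.condition, Category.assoc, ha']) := Ψ_fst G h' b a ha' hb'
    have e2 : Ψ G h' b a ha' hb' ≫ pullback.snd G.s a ≫ h = pullback.snd G.s b ≫ h := by
      rw [← Category.assoc, Ψ_snd]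
    have e0 : pullback.snd G.s b ≫ h' = (pullback.snd G.s b ≫ h) ≫ G.i := by
      rw [hh', Category.assoc]
    have hc : (pullback.snd G.s b ≫ h') ≫ G.s = (pullback.snd G.s b ≫ h) ≫ G.t := by
      rw [Category.assoc, Category.assoc, hb', ha]
    rw [cmp_congr G _ e1 e2, cmp_assoc G _ _ _ _ hc]
    have e3 : cmp G (pullback.snd G.s b ≫ h') (pullback.snd G.s b ≫ h) hc =
        (pullback.snd G.s b ≫ h) ≫ G.s ≫ G.e := i_cmp G _ _ e0 hc
    rw [cmp_congr G _ rfl e3]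
    apply cmp_e
    rw [Category.assoc, ← Category.assoc h, hb, ← Category.assoc, ← pullback.condition,
      Category.assoc]
  · rw [Category.assoc, Ψ_snd, Ψ_snd, Category.id_comp]

/-- right translation as an isomorphism -/
noncomputable def Φ : pullback G.s a ≅ pullback G.s b where
  hom := Ψ G h a b ha hb
  inv := Ψ G (h ≫ G.i) b a (by rw [Category.assoc, G.i_t, hb]) (by rw [Category.assoc, G.i_s, ha])
  hom_inv_id := Ψ_Ψ G h a b ha hb _ rfl _ _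
  inv_hom_id := Ψ_Ψ' G h a b ha hb _ rfl _ _

end translate


theorem exists_iso_fibres (r r' : G.R) (h : G.t r = G.t r') :
    ∃ (k : Type u) (_ : Field k) (a b : Spec (CommRingCat.of k) ⟶ G.U)
      (φ : pullback G.s a ≅ pullback G.s b) (p : ↑(pullback G.s a)),
      a (IsLocalRing.closedPoint k) = G.s r ∧ b (IsLocalRing.closedPoint k) = G.s r' ∧
      φ.hom ≫ pullback.snd G.s b = pullback.snd G.s a ∧ pullback.fst G.s a p = r ∧
      pullback.fst G.s b (φ.hom p) = r' := by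
  obtain ⟨z, hz₁, hz₂⟩ := Scheme.Pullback.exists_preimage_pullback (f := G.t) (g := G.t) r r' h
  let P := pullback G.t G.t
  let k : Type u := P.residueField z
  let ξ : Spec (CommRingCat.of k) ⟶ P := P.fromSpecResidueField z
  let ρ₀ : Spec (CommRingCat.of k) ⟶ G.R := ξ ≫ pullback.fst _ _
  let ρ₀' : Spec (CommRingCat.of k) ⟶ G.R := ξ ≫ pullback.snd _ _
  have ht : ρ₀ ≫ G.t = ρ₀' ≫ G.t := by
    change (ξ ≫ pullback.fst _ _) ≫ G.t = (ξ ≫ pullback.snd _ _) ≫ G.t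
    rw [Category.assoc, Category.assoc, pullback.condition]
  let a : Spec (CommRingCat.of k) ⟶ G.U := ρ₀ ≫ G.s
  let b : Spec (CommRingCat.of k) ⟶ G.U := ρ₀' ≫ G.s
  have hc : (ρ₀ ≫ G.i) ≫ G.s = ρ₀' ≫ G.t := by rw [Category.assoc _ G.i G.s, G.i_s, ht]
  let hh : Spec (CommRingCat.of k) ⟶ G.R := cmp G (ρ₀ ≫ G.i) ρ₀' hc
  have hha : hh ≫ G.t = a := by
    change cmp G (ρ₀ ≫ G.i) ρ₀' hc ≫ G.t = ρ₀ ≫ G.s
    rw [cmp_t, Category.assoc _ G.i G.t, G.i_t]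
  have hhb : hh ≫ G.s = b := cmp_s G _ _ hc
  let x₀ : ↑(Spec (CommRingCat.of k)) := IsLocalRing.closedPoint k
  have hξ : ξ x₀ = z := Scheme.fromSpecResidueField_apply _ _
  have hρ₀ : ρ₀ x₀ = r := by
    change pullback.fst G.t G.t (ξ x₀) = r
    rw [hξ, hz₁]
  have hρ₀' : ρ₀' x₀ = r' := by
    change pullback.snd G.t G.t (ξ x₀) = r'
    rw [hξ, hz₂]
  let σ : Spec (CommRingCat.of k) ⟶ pullback G.s a :=
    pullback.lift ρ₀ (𝟙 _) (by rw [Category.id_comp])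
  have hσ₁ : σ ≫ pullback.fst G.s a = ρ₀ := pullback.lift_fst _ _ _
  have hσ₂ : σ ≫ pullback.snd G.s a = 𝟙 _ := pullback.lift_snd _ _ _
  refine ⟨k, inferInstance, a, b, Φ G hh a b hha hhb, σ x₀, ?_, ?_, Ψ_snd G hh a b hha hhb, ?_, ?_⟩
  · change G.s (ρ₀ x₀) = G.s r
    rw [hρ₀]
  · change G.s (ρ₀' x₀) = G.s r'
    rw [hρ₀']
  · change (σ ≫ pullback.fst G.s a) x₀ = r
    rw [hσ₁, hρ₀]
  · change (σ ≫ Ψ G hh a b hha hhb ≫ pullback.fst G.s b) x₀ = r'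
    have key : σ ≫ Ψ G hh a b hha hhb ≫ pullback.fst G.s b = ρ₀' := by
      rw [Ψ_fst, pre_cmp]
      have e2 : σ ≫ pullback.snd G.s a ≫ hh = cmp G (ρ₀ ≫ G.i) ρ₀' hc := by
        rw [← Category.assoc, hσ₂, Category.id_comp]
      rw [cmp_congr G _ hσ₁ e2]
      have hc1 : ρ₀ ≫ G.s = (ρ₀ ≫ G.i) ≫ G.t := by rw [Category.assoc _ G.i G.t, G.i_t]
      rw [← cmp_assoc G ρ₀ (ρ₀ ≫ G.i) ρ₀' hc1 hc]
      have e3 : cmp G ρ₀ (ρ₀ ≫ G.i) hc1 = ρ₀' ≫ G.t ≫ G.e := by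
        rw [cmp_i G ρ₀ _ rfl hc1, ← Category.assoc, ht, Category.assoc]
      rw [cmp_congr G _ e3 rfl]
      exact e_cmp G ρ₀' _ rfl _
    rw [key, hρ₀']

end Groth.Agent.Lib.T2H8.GrpdPts
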