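import Mathlib
import Groth.Agent.Lib.T2H8GrpdPts

/-!
# helper8: the sub-groupoid scheme cut out by a monomorphism `ι : Z ⟶ R`
-/

set_option autoImplicit false
set_option linter.unusedSectionVars false
universe u
open CategoryTheory CategoryTheory.Limits AlgebraicGeometry
open Grpd

namespace Groth.Agent.Lib.T2H8.GrpdSub
open Groth.Agent.Lib.T2H8.GrpdPts

variable {S : Scheme.{u}} (G : Grpd.GroupoidScheme S) {Z : Scheme.{u}} (ι : Z ⟶ G.R) [Mono ι]

/-- the composite of the two projections restricted to `Z` -/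
noncomputable def cZ : pullback (ι ≫ G.s) (ι ≫ G.t) ⟶ G.R :=
  cmp G (pullback.fst _ _ ≫ ι) (pullback.snd _ _ ≫ ι)
    (by rw [Category.assoc, Category.assoc, pullback.condition])

variable (e' : G.U ⟶ Z) (he : e' ≫ ι = G.e)
  (i' : Z ⟶ Z) (hi : i' ≫ ι = ι ≫ G.i)
  (c' : pullback (ι ≫ G.s) (ι ≫ G.t) ⟶ Z) (hc : c' ≫ ι = cZ G ι)

include hc in
theorem lift_c'_ι {T : Scheme.{u}} (α β : T ⟶ Z) (h : α ≫ ι ≫ G.s = β ≫ ι ≫ G.t) :
    (pullback.lift α β h ≫ c') ≫ ι = cmp G (α ≫ ι) (β ≫ ι)
      (by rw [Category.assoc, Category.assoc, h]) := by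
  rw [Category.assoc, hc, cZ, pre_cmp]
  exact cmp_congr G _ (by rw [← Category.assoc, pullback.lift_fst])
    (by rw [← Category.assoc, pullback.lift_snd])

/-- the sub-groupoid -/
noncomputable def sub : Grpd.GroupoidScheme S where
  U := G.U
  R := Z
  pU := G.pU
  pR := ι ≫ G.pR
  s := ι ≫ G.s
  t := ι ≫ G.t
  e := e'
  i := i'
  c := c'
  s_over := by rw [Category.assoc, G.s_over]
  t_over := by rw [Category.assoc, G.t_over]
  comp_s α β h := by
    rw [← Category.assoc, lift_c'_ι G ι c' hc, cmp_s, Category.assoc]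
  comp_t α β h := by
    rw [← Category.assoc, lift_c'_ι G ι c' hc, cmp_t, Category.assoc]
  assoc α β γ h₁ h₂ := by
    rw [← cancel_mono ι]
    refine (lift_c'_ι G ι c' hc _ _ _).trans ?_
    refine Eq.trans ?_ (lift_c'_ι G ι c' hc _ _ _).symm
    have e1 := lift_c'_ι G ι c' hc α β h₁
    have e2 := lift_c'_ι G ι c' hc β γ h₂
    rw [cmp_congr G _ e1 rfl, cmp_congr G _ rfl e2]
    exact cmp_assoc G _ _ _ _ _
  e_s := by rw [← Category.assoc, he, G.e_s]
  e_t := by rw [← Category.assoc, he, G.e_t]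
  comp_e α := by
    rw [← cancel_mono ι, lift_c'_ι G ι c' hc]
    apply cmp_e
    rw [Category.assoc, Category.assoc, Category.assoc, he, Category.assoc]
  e_comp α := by
    rw [← cancel_mono ι, lift_c'_ι G ι c' hc]
    apply e_cmp
    rw [Category.assoc, Category.assoc, Category.assoc, he, Category.assoc]
  i_s := by rw [← Category.assoc, hi, Category.assoc, G.i_s]
  i_t := by rw [← Category.assoc, hi, Category.assoc, G.i_t]
  comp_i α := by
    rw [← cancel_mono ι, lift_c'_ι G ι c' hc]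
    rw [cmp_i G (α ≫ ι) ((α ≫ i') ≫ ι) (by rw [Category.assoc, hi, Category.assoc])]
    rw [Category.assoc, Category.assoc, Category.assoc, he, Category.assoc]
  i_comp α := by
    rw [← cancel_mono ι, lift_c'_ι G ι c' hc]
    rw [i_cmp G (α ≫ ι) ((α ≫ i') ≫ ι) (by rw [Category.assoc, hi, Category.assoc])]
    rw [Category.assoc, Category.assoc, Category.assoc, he, Category.assoc]

/-- the inclusion of the sub-groupoid -/
noncomputable def subHom : Grpd.GroupoidScheme.Hom (sub G ι e' he i' hi c' hc) G where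
  fU := 𝟙 _
  fR := ι
  fU_over := Category.id_comp _
  comm_s := (Category.comp_id _).symm
  comm_t := (Category.comp_id _).symm
  comm_c α β h := lift_c'_ι G ι c' hc α β h

end Groth.Agent.Lib.T2H8.GrpdSub
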