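import Mathlib
import Groth.Agent.Lib.T2H8GrpdSub
import Groth.Agent.S1891
import Groth.Agent.Lib.T2H8GrpdClosure

/-!
# helper8: the groupoid on the scheme-theoretic image of a morphism of groupoids over a field
-/

set_option autoImplicit false
set_option linter.unusedSectionVars false
universe u
open CategoryTheory CategoryTheory.Limits AlgebraicGeometry
open Grpd

namespace Groth.Agent.Lib.T2H8.SchImage
open Groth.Agent.Lib.T2H8.GrpdPts Groth.Agent.Lib.T2H8.GrpdSub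

section general
variable {X Y : Scheme.{u}} (f : X ⟶ Y)

/-- the map onto the scheme-theoretic image is scheme-theoretically dominant -/
instance toImage_dominant [QuasiCompact f] : IsSchemeTheoreticallyDominant f.toImage := by
  rw [isSchemeTheoreticallyDominant_iff]
  refine Scheme.IdealSheafData.ext_of_iSup_eq_top
    (fun U : Y.affineOpens => ⟨f.imageι ⁻¹ᵁ U.1, U.2.preimage f.imageι⟩) ?_ ?_
  · rw [← Scheme.Hom.preimage_iSup, iSup_affineOpens_eq_top, Scheme.Hom.preimage_top]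
  · intro U
    rw [Scheme.Hom.ker_apply, Scheme.IdealSheafData.ideal_bot, Pi.bot_apply,
      ← RingHom.injective_iff_ker_eq_bot]
    exact f.toImage_app_injective U

/-- composing with a scheme-theoretically dominant morphism does not change the kernel -/
theorem ker_comp_of_dominant {W : Scheme.{u}} (d : W ⟶ X) [IsSchemeTheoreticallyDominant d] :
    (d ≫ f).ker = f.ker := by
  rw [Scheme.Hom.ker_comp, d.ker_eq_bot, Scheme.IdealSheafData.map_bot]

end general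

section catlemma
variable {C : Type*} [Category C]

theorem isPullback_comp_mono {P X Y Z W : C} {fst : P ⟶ X} {snd : P ⟶ Y} {f : X ⟶ Z} {g : Y ⟶ Z}
    (h : IsPullback fst snd f g) (i : Z ⟶ W) [Mono i] : IsPullback fst snd (f ≫ i) (g ≫ i) := by
  refine ⟨⟨by rw [reassoc_of% h.w]⟩, ⟨PullbackCone.IsLimit.mk _
    (fun s => h.lift s.fst s.snd ((cancel_mono i).1 (by simpa using s.condition)))
    (fun s => h.lift_fst _ _ _) (fun s => h.lift_snd _ _ _)
    (fun s m h1 h2 => h.hom_ext (by rw [h1, h.lift_fst]) (by rw [h2, h.lift_snd]))⟩⟩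

@[reassoc]
theorem map_fst [HasPullbacks C] {W X Y Z S T : C} (f₁ : W ⟶ S) (f₂ : X ⟶ S) (g₁ : Y ⟶ T)
    (g₂ : Z ⟶ T) (i₁ : W ⟶ Y) (i₂ : X ⟶ Z) (i₃ : S ⟶ T) (e₁ : f₁ ≫ i₃ = i₁ ≫ g₁)
    (e₂ : f₂ ≫ i₃ = i₂ ≫ g₂) :
    pullback.map f₁ f₂ g₁ g₂ i₁ i₂ i₃ e₁ e₂ ≫ pullback.fst g₁ g₂ = pullback.fst f₁ f₂ ≫ i₁ :=
  pullback.lift_fst _ _ _

@[reassoc]
theorem map_snd [HasPullbacks C] {W X Y Z S T : C} (f₁ : W ⟶ S) (f₂ : X ⟶ S) (g₁ : Y ⟶ T)
    (g₂ : Z ⟶ T) (i₁ : W ⟶ Y) (i₂ : X ⟶ Z) (i₃ : S ⟶ T) (e₁ : f₁ ≫ i₃ = i₁ ≫ g₁)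
    (e₂ : f₂ ≫ i₃ = i₂ ≫ g₂) :
    pullback.map f₁ f₂ g₁ g₂ i₁ i₂ i₃ e₁ e₂ ≫ pullback.snd g₁ g₂ = pullback.snd f₁ f₂ ≫ i₂ :=
  pullback.lift_snd _ _ _

end catlemma

section prod
variable {U₁ U₂ X₁ Y₁ X₂ Y₂ : Scheme.{u}} (φ : U₁ ⟶ U₂) [Mono φ] [Subsingleton U₂] [IsIntegral U₂]
  (p : X₁ ⟶ U₁) (q : Y₁ ⟶ U₁) (p₂ : X₂ ⟶ U₂) (q₂ : Y₂ ⟶ U₂) (a : X₁ ⟶ X₂) (b : Y₁ ⟶ Y₂)
  [IsSchemeTheoreticallyDominant a] [QuasiCompact a]
  [IsSchemeTheoreticallyDominant b] [QuasiCompact b]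
  (ha : p ≫ φ = a ≫ p₂) (hb : q ≫ φ = b ≫ q₂)

include ha hb in
/-- a product of scheme-theoretically dominant quasi-compact morphisms over a field is
scheme-theoretically dominant -/
theorem dominant_map : IsSchemeTheoreticallyDominant (pullback.map p q p₂ q₂ a b φ ha hb) := by
  let d₁ : pullback p q ⟶ pullback p₂ (q ≫ φ) :=
    pullback.map p q p₂ (q ≫ φ) a (𝟙 Y₁) φ ha (by rw [Category.id_comp])
  let d₂ : pullback p₂ (q ≫ φ) ⟶ pullback p₂ q₂ :=
    pullback.map p₂ (q ≫ φ) p₂ q₂ (𝟙 X₂) b (𝟙 U₂) (by rw [Category.id_comp, Category.comp_id])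
      (by rw [Category.comp_id, hb])
  have hd : pullback.map p q p₂ q₂ a b φ ha hb = d₁ ≫ d₂ := by
    apply pullback.hom_ext
    · rw [Category.assoc, map_fst, map_fst, map_fst_assoc, Category.comp_id]
    · rw [Category.assoc, map_snd, map_snd, map_snd_assoc, Category.id_comp]
  -- second step
  have H₂ : IsPullback (pullback.snd p₂ (q ≫ φ)) d₂ b (pullback.snd p₂ q₂) := by
    refine IsPullback.flip (IsPullback.of_right (h₁₂ := pullback.fst p₂ q₂) (h₂₂ := q₂)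
      (v₁₃ := p₂) ?_ ?_ (IsPullback.of_hasPullback p₂ q₂))
    · have e1 : d₂ ≫ pullback.fst p₂ q₂ = pullback.fst p₂ (q ≫ φ) := by
        rw [map_fst, Category.comp_id]
      rw [e1, ← hb]
      exact IsPullback.of_hasPullback p₂ (q ≫ φ)
    · exact map_snd _ _ _ _ _ _ _ _ _
  haveI : Flat p₂ := inferInstance
  haveI : IsSchemeTheoreticallyDominant d₂ := IsSchemeTheoreticallyDominant.of_isPullback H₂
  -- first step
  have H₁ : IsPullback (pullback.fst p q) d₁ a (pullback.fst p₂ (q ≫ φ)) := by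
    refine IsPullback.flip (IsPullback.of_right (h₁₂ := pullback.snd p₂ (q ≫ φ)) (h₂₂ := p₂)
      (v₁₃ := q ≫ φ) ?_ ?_ (IsPullback.of_hasPullback p₂ (q ≫ φ)).flip)
    · have e1 : d₁ ≫ pullback.snd p₂ (q ≫ φ) = pullback.snd p q := by
        rw [map_snd, Category.comp_id]
      rw [e1, ← ha]
      exact (isPullback_comp_mono (IsPullback.of_hasPullback p q) φ).flip
    · exact map_fst _ _ _ _ _ _ _ _ _
  haveI : Flat (q ≫ φ) := inferInstance
  haveI : IsSchemeTheoreticallyDominant d₁ := IsSchemeTheoreticallyDominant.of_isPullback H₁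
  rw [hd]
  infer_instance

end prod

section main
variable {S : Scheme.{u}} {G₁ G₂ : Grpd.GroupoidScheme S} (f : Grpd.GroupoidScheme.Hom G₁ G₂)
  [IsIso f.fU] [Subsingleton G₂.U] [IsIntegral G₂.U]
  {Z : Scheme.{u}} (ι : Z ⟶ G₂.R) [IsClosedImmersion ι] (a' : G₁.R ⟶ Z) (ha' : a' ≫ ι = f.fR)
  [IsSchemeTheoreticallyDominant a'] [QuasiCompact a']

include ha' in
theorem ker_le_cZ : ι.ker ≤ (cZ G₂ ι).ker := by
  have h1 : G₁.s ≫ f.fU = a' ≫ ι ≫ G₂.s := by rw [← Category.assoc, ha', f.comm_s]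
  have h2 : G₁.t ≫ f.fU = a' ≫ ι ≫ G₂.t := by rw [← Category.assoc, ha', f.comm_t]
  let d : pullback G₁.s G₁.t ⟶ pullback (ι ≫ G₂.s) (ι ≫ G₂.t) :=
    pullback.map G₁.s G₁.t (ι ≫ G₂.s) (ι ≫ G₂.t) a' a' f.fU h1 h2
  haveI : IsSchemeTheoreticallyDominant d :=
    dominant_map f.fU G₁.s G₁.t (ι ≫ G₂.s) (ι ≫ G₂.t) a' a' h1 h2
  have hd : d ≫ cZ G₂ ι = (G₁.c ≫ a') ≫ ι := by
    rw [Category.assoc, ha', ← Groth.Agent.Lib.T2H8.GrpdClosure.mapPairs_c]
    unfold cZ GrpdPts.cmp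
    rw [← Category.assoc]
    congr 1
    apply pullback.hom_ext
    · rw [Category.assoc, pullback.lift_fst, map_fst_assoc, ha']
      exact (pullback.lift_fst _ _ _).symm
    · rw [Category.assoc, pullback.lift_snd, map_snd_assoc, ha']
      exact (pullback.lift_snd _ _ _).symm
  rw [← ker_comp_of_dominant (cZ G₂ ι) d, hd]
  exact Scheme.Hom.le_ker_comp _ _

include ha' in
theorem ker_le_i : ι.ker ≤ (ι ≫ G₂.i).ker := by
  rw [← ker_comp_of_dominant (ι ≫ G₂.i) a', ← Category.assoc, ha',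
    ← Groth.Agent.S1891.hom_i f, ← ha', ← Category.assoc]
  exact Scheme.Hom.le_ker_comp _ _

/-- the groupoid on the image -/
noncomputable def imgGrpd : Grpd.GroupoidScheme S :=
  sub G₂ ι (inv f.fU ≫ G₁.e ≫ a')
    (by rw [Category.assoc, Category.assoc, ha', Groth.Agent.S1891.hom_e f, IsIso.inv_hom_id_assoc])
    (IsClosedImmersion.lift ι (ι ≫ G₂.i) (ker_le_i f ι a' ha')) (IsClosedImmersion.lift_fac _ _ _)
    (IsClosedImmersion.lift ι (cZ G₂ ι) (ker_le_cZ f ι a' ha')) (IsClosedImmersion.lift_fac _ _ _)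

/-- the inclusion of the groupoid on the image -/
noncomputable def imgHom : Grpd.GroupoidScheme.Hom (imgGrpd f ι a' ha') G₂ :=
  subHom G₂ ι _ _ _ _ _ _

theorem imgHom_fU : (imgHom f ι a' ha').fU = 𝟙 _ := rfl
theorem imgHom_fR : (imgHom f ι a' ha').fR = ι := rfl

/-- the factorization through the groupoid on the image -/
noncomputable def toImg : Grpd.GroupoidScheme.Hom G₁ (imgGrpd f ι a' ha') where
  fU := f.fU
  fR := a'
  fU_over := f.fU_over
  comm_s := by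
    change a' ≫ ι ≫ G₂.s = G₁.s ≫ f.fU
    rw [← Category.assoc, ha', f.comm_s]
  comm_t := by
    change a' ≫ ι ≫ G₂.t = G₁.t ≫ f.fU
    rw [← Category.assoc, ha', f.comm_t]
  comm_c α β h := by
    have hc : (α ≫ a') ≫ ι ≫ G₂.s = (β ≫ a') ≫ ι ≫ G₂.t := by
      rw [Category.assoc, Category.assoc, ← Category.assoc a', ← Category.assoc a', ha', f.comm_s,
        f.comm_t, ← Category.assoc, ← Category.assoc, h]
    have e1 : (pullback.lift (α ≫ a') (β ≫ a') hc ≫ (imgGrpd f ι a' ha').c) ≫ ι =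
        GrpdPts.cmp G₂ ((α ≫ a') ≫ ι) ((β ≫ a') ≫ ι)
          (by rw [Category.assoc (α ≫ a'), Category.assoc (β ≫ a'), hc]) :=
      lift_c'_ι G₂ ι _ (IsClosedImmersion.lift_fac _ _ _) _ _ hc
    have key : ((pullback.lift α β h ≫ G₁.c) ≫ a') ≫ ι =
        (pullback.lift (α ≫ a') (β ≫ a') hc ≫ (imgGrpd f ι a' ha').c) ≫ ι := by
      rw [e1, Category.assoc, ha', f.comm_c α β h]
      exact GrpdPts.cmp_congr G₂ _ (by rw [Category.assoc, ha']) (by rw [Category.assoc, ha'])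
    exact (cancel_mono ι).1 key

end main

end Groth.Agent.Lib.T2H8.SchImage
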