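import Mathlib
import Groth.Agent.Lib.T2H8SchImage

/-!
# helper8: the pair groupoid `U ×_S U ⇉ U` and the morphism `j : G ⟶ Pair`
-/

set_option autoImplicit false
set_option linter.unusedSectionVars false
universe u
open CategoryTheory CategoryTheory.Limits AlgebraicGeometry
open Grpd

namespace Groth.Agent.Lib.T2H8.GrpdPair
open Groth.Agent.Lib.T2H8.GrpdPts Groth.Agent.Lib.T2H8.GrpdSub Groth.Agent.Lib.T2H8.SchImage

variable {S : Scheme.{u}} {U : Scheme.{u}} (pU : U ⟶ S)

/-- the composition `pr₀₂` on the pair groupoid -/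
noncomputable def pairC :
    pullback (pullback.snd pU pU) (pullback.fst pU pU) ⟶ pullback pU pU :=
  pullback.lift (pullback.fst _ _ ≫ pullback.fst pU pU) (pullback.snd _ _ ≫ pullback.snd pU pU)
    (by
      rw [Category.assoc, Category.assoc, pullback.condition, ← Category.assoc,
        pullback.condition, Category.assoc, pullback.condition])

theorem lift_pairC_fst {T : Scheme.{u}} (α β : T ⟶ pullback pU pU)
    (h : α ≫ pullback.snd pU pU = β ≫ pullback.fst pU pU) :
    (pullback.lift α β h ≫ pairC pU) ≫ pullback.fst pU pU = α ≫ pullback.fst pU pU := by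
  unfold pairC
  rw [Category.assoc, pullback.lift_fst, ← Category.assoc, pullback.lift_fst]

theorem lift_pairC_snd {T : Scheme.{u}} (α β : T ⟶ pullback pU pU)
    (h : α ≫ pullback.snd pU pU = β ≫ pullback.fst pU pU) :
    (pullback.lift α β h ≫ pairC pU) ≫ pullback.snd pU pU = β ≫ pullback.snd pU pU := by
  unfold pairC
  rw [Category.assoc, pullback.lift_snd, ← Category.assoc, pullback.lift_snd]

/-- the pair groupoid on `U` over `S` -/
noncomputable def pair : Grpd.GroupoidScheme S where
  U := U
  R := pullback pU pU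
  pU := pU
  pR := pullback.fst pU pU ≫ pU
  s := pullback.snd pU pU
  t := pullback.fst pU pU
  e := pullback.lift (𝟙 U) (𝟙 U) rfl
  i := pullback.lift (pullback.snd pU pU) (pullback.fst pU pU) pullback.condition.symm
  c := pairC pU
  s_over := pullback.condition.symm
  t_over := rfl
  comp_s α β h := lift_pairC_snd pU α β h
  comp_t α β h := lift_pairC_fst pU α β h
  assoc α β γ h₁ h₂ := by
    apply pullback.hom_ext
    · rw [lift_pairC_fst, lift_pairC_fst, lift_pairC_fst]
    · rw [lift_pairC_snd, lift_pairC_snd, lift_pairC_snd]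
  e_s := pullback.lift_snd _ _ _
  e_t := pullback.lift_fst _ _ _
  comp_e α := by
    apply pullback.hom_ext
    · rw [lift_pairC_fst]
    · rw [lift_pairC_snd]
      simp only [Category.assoc, pullback.lift_snd, Category.comp_id]
  e_comp α := by
    apply pullback.hom_ext
    · rw [lift_pairC_fst]
      simp only [Category.assoc, pullback.lift_fst, Category.comp_id]
    · rw [lift_pairC_snd]
  i_s := pullback.lift_snd _ _ _
  i_t := pullback.lift_fst _ _ _
  comp_i α := by
    apply pullback.hom_ext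
    · rw [lift_pairC_fst]
      simp only [Category.assoc, pullback.lift_fst, Category.comp_id]
    · rw [lift_pairC_snd]
      simp only [Category.assoc, pullback.lift_snd, Category.comp_id]
  i_comp α := by
    apply pullback.hom_ext
    · rw [lift_pairC_fst]
      simp only [Category.assoc, pullback.lift_fst, Category.comp_id]
    · rw [lift_pairC_snd]
      simp only [Category.assoc, pullback.lift_snd, Category.comp_id]

theorem pair_j : ((pair pU).j : pullback pU pU ⟶ pullback pU pU) = 𝟙 (pullback pU pU) := by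
  apply pullback.hom_ext
  · exact (pullback.lift_fst _ _ _).trans (Category.id_comp _).symm
  · exact (pullback.lift_snd _ _ _).trans (Category.id_comp _).symm

variable (G : Grpd.GroupoidScheme S)

theorem toPair_comm_c {T : Scheme.{u}} (α β : T ⟶ G.R) (h : α ≫ G.s = β ≫ G.t)
    (h' : (α ≫ G.j) ≫ pullback.snd G.pU G.pU = (β ≫ G.j) ≫ pullback.fst G.pU G.pU) :
    (pullback.lift α β h ≫ G.c) ≫ G.j = pullback.lift (α ≫ G.j) (β ≫ G.j) h' ≫ pairC G.pU := by
  have hj1 : G.j ≫ pullback.fst G.pU G.pU = G.t := pullback.lift_fst _ _ _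
  have hj2 : G.j ≫ pullback.snd G.pU G.pU = G.s := pullback.lift_snd _ _ _
  apply pullback.hom_ext
  · rw [lift_pairC_fst]
    simp only [Category.assoc, hj1]
    exact (Category.assoc _ _ _).symm.trans (G.comp_t α β h)
  · rw [lift_pairC_snd]
    simp only [Category.assoc, hj2]
    exact (Category.assoc _ _ _).symm.trans (G.comp_s α β h)

/-- `j` as a morphism of groupoids to the pair groupoid -/
noncomputable def toPair : Grpd.GroupoidScheme.Hom G (pair G.pU) where
  fU := 𝟙 _
  fR := G.j
  fU_over := Category.id_comp _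
  comm_s := (pullback.lift_snd _ _ _).trans (Category.comp_id _).symm
  comm_t := (pullback.lift_fst _ _ _).trans (Category.comp_id _).symm
  comm_c α β h := toPair_comm_c G α β h _

theorem toPair_fU : (toPair G).fU = 𝟙 _ := rfl
theorem toPair_fR : (toPair G).fR = G.j := rfl

instance : IsIso (toPair G).fU := IsIso.id _

/-- the `j` of a sub-groupoid -/
theorem sub_j {Z : Scheme.{u}} (ι : Z ⟶ G.R) [Mono ι] (e' : G.U ⟶ Z) (he : e' ≫ ι = G.e)
    (i' : Z ⟶ Z) (hi : i' ≫ ι = ι ≫ G.i)
    (c' : pullback (ι ≫ G.s) (ι ≫ G.t) ⟶ Z) (hc : c' ≫ ι = cZ G ι) :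
    ((sub G ι e' he i' hi c' hc).j : Z ⟶ pullback G.pU G.pU) = ι ≫ G.j := by
  apply pullback.hom_ext
  · refine (pullback.lift_fst _ _ _).trans ?_
    exact ((Category.assoc _ _ _).trans (congrArg (ι ≫ ·) (pullback.lift_fst _ _ _))).symm
  · refine (pullback.lift_snd _ _ _).trans ?_
    exact ((Category.assoc _ _ _).trans (congrArg (ι ≫ ·) (pullback.lift_snd _ _ _))).symm

/-- quasi-separatedness of `U ×_S U` for affine `U` -/
theorem quasiSeparatedSpace_pullback [IsAffine U] : QuasiSeparatedSpace ↥(pullback pU pU) := by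
  haveI : IsSeparated pU := inferInstance
  haveI : IsSeparated (pullback.fst pU pU) := inferInstance
  exact quasiSeparatedSpace_of_quasiSeparated (pullback.fst pU pU)

end Groth.Agent.Lib.T2H8.GrpdPair

namespace Groth.Agent.Lib.T2H8.GrpdPair
open Groth.Agent.Lib.T2H8.GrpdPts Groth.Agent.Lib.T2H8.GrpdSub Groth.Agent.Lib.T2H8.SchImage

section img
variable {S : Scheme.{u}} {G₁ G₂ : Grpd.GroupoidScheme S} (f : Grpd.GroupoidScheme.Hom G₁ G₂)
  [IsIso f.fU] [Subsingleton G₂.U] [IsIntegral G₂.U]
  {Z : Scheme.{u}} (ι : Z ⟶ G₂.R) [IsClosedImmersion ι] (a' : G₁.R ⟶ Z) (ha' : a' ≫ ι = f.fR)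
  [IsSchemeTheoreticallyDominant a'] [QuasiCompact a']

theorem imgGrpd_j :
    ((imgGrpd f ι a' ha').j : Z ⟶ pullback G₂.pU G₂.pU) = ι ≫ G₂.j :=
  sub_j G₂ ι _ _ _ _ _ _

end img


end Groth.Agent.Lib.T2H8.GrpdPair
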