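import Mathlib
import Groth.Agent.Lib.T2H8GrpdPair
import Groth.Agent.Lib.Helper25NilHopf
import Groth.Agent.Lib.Helper12GeomReduced
import Groth.Agent.Lib.Helper10RedInd

/-!
# helper8: the groupoid on the reduced closure of the image of a morphism of groupoids over a
perfect field
-/

set_option autoImplicit false
set_option linter.unusedSectionVars false
set_option linter.style.haveILetI false
universe u
open CategoryTheory CategoryTheory.Limits AlgebraicGeometry TopologicalSpace TensorProduct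
open Grpd

namespace Groth.Agent.Lib.T2H8.GrpdRedCl
open Groth.Agent.Lib.T2H8.GrpdPts Groth.Agent.Lib.T2H8.GrpdSub Groth.Agent.Lib.T2H8.SchImage

section reduced
variable {k : Type u} [Field k] [PerfectField k]

theorem isReduced_pullback_affine {W T : Scheme.{u}} [IsAffine W] [IsAffine T]
    (a : W ⟶ Spec (CommRingCat.of k)) (b : T ⟶ Spec (CommRingCat.of k))
    [IsReduced W] [IsReduced T] : IsReduced (pullback a b) := by
  let φ : CommRingCat.of k ⟶ Γ(W, ⊤) := Spec.preimage (W.isoSpec.inv ≫ a)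
  let ψ : CommRingCat.of k ⟶ Γ(T, ⊤) := Spec.preimage (T.isoSpec.inv ≫ b)
  have hφ : Spec.map φ = W.isoSpec.inv ≫ a := Spec.map_preimage _
  have hψ : Spec.map ψ = T.isoSpec.inv ≫ b := Spec.map_preimage _
  algebraize [φ.hom, ψ.hom]
  have hφ' : Spec.map (CommRingCat.ofHom (algebraMap k Γ(W, ⊤))) = W.isoSpec.inv ≫ a := hφ
  have hψ' : Spec.map (CommRingCat.ofHom (algebraMap k Γ(T, ⊤))) = T.isoSpec.inv ≫ b := hψ
  haveI : _root_.IsReduced Γ(W, ⊤) := inferInstance
  haveI : _root_.IsReduced Γ(T, ⊤) := inferInstance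
  haveI := Groth.Agent.Lib.Helper25.NilHopf.isGeometricallyReduced_of_perfectField k Γ(W, ⊤)
  have hred : _root_.IsReduced (Γ(W, ⊤) ⊗[k] Γ(T, ⊤)) :=
    Groth.Agent.Lib.Helper25.NilHopf.isReduced_tensor_of_isReduced k Γ(W, ⊤) Γ(T, ⊤)
  have h4 : IsReduced (Spec (CommRingCat.of (Γ(W, ⊤) ⊗[k] Γ(T, ⊤)))) :=
    (affine_isReduced_iff _).mpr hred
  have h5 : IsReduced (pullback
      (Spec.map (CommRingCat.ofHom (algebraMap k Γ(W, ⊤))))
      (Spec.map (CommRingCat.ofHom (algebraMap k Γ(T, ⊤))))) :=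
    isReduced_of_isOpenImmersion (pullbackSpecIso k Γ(W, ⊤) Γ(T, ⊤)).hom
  exact Groth.Agent.Lib.Helper12.GR.isReduced_pullback_of_iso a b
    (Spec.map (CommRingCat.ofHom (algebraMap k Γ(W, ⊤))))
    (Spec.map (CommRingCat.ofHom (algebraMap k Γ(T, ⊤)))) W.isoSpec T.isoSpec
    (by rw [hφ', Iso.hom_inv_id_assoc]) (by rw [hψ', Iso.hom_inv_id_assoc])

theorem isReduced_pullback_Spec {X Y : Scheme.{u}}
    (f : X ⟶ Spec (CommRingCat.of k)) (g : Y ⟶ Spec (CommRingCat.of k)) [IsReduced X]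
    [IsReduced Y] : IsReduced (pullback f g) := by
  apply +allowSynthFailures @IsReduced.of_openCover
    (𝒰 := Scheme.Pullback.openCoverOfLeftRight X.affineCover Y.affineCover f g)
  rintro ⟨i, j⟩
  change IsReduced (pullback (X.affineCover.f i ≫ f) (Y.affineCover.f j ≫ g))
  haveI : IsReduced (X.affineCover.X i) := isReduced_of_isOpenImmersion (X.affineCover.f i)
  haveI : IsReduced (Y.affineCover.X j) := isReduced_of_isOpenImmersion (Y.affineCover.f j)
  exact isReduced_pullback_affine _ _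

theorem isReduced_pullback {U X Y : Scheme.{u}} (eU : U ≅ Spec (CommRingCat.of k))
    (f : X ⟶ U) (g : Y ⟶ U) [IsReduced X] [IsReduced Y] : IsReduced (pullback f g) := by
  have h := isPullback_comp_mono (IsPullback.of_hasPullback f g) eU.hom
  haveI : IsReduced (pullback (f ≫ eU.hom) (g ≫ eU.hom)) := isReduced_pullback_Spec _ _
  exact isReduced_of_isOpenImmersion h.isoPullback.hom

end reduced

section lift

open Scheme.IdealSheafData in
theorem exists_lift {T X : Scheme.{u}} [IsReduced T] (x : T ⟶ X) (Z : Closeds X)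
    (h : Set.range x ⊆ (Z : Set X)) :
    ∃ l : T ⟶ (vanishingIdeal Z).subscheme, l ≫ (vanishingIdeal Z).subschemeι = x := by
  have hker : (vanishingIdeal Z).subschemeι.ker ≤ x.ker := by
    rw [ker_subschemeι, Groth.Agent.Lib.Helper10.RedInd.ker_eq_vanishingIdeal_of_isReduced x]
    apply vanishingIdeal_antimono
    rw [Closeds.closure_le]
    exact h
  exact ⟨IsClosedImmersion.lift _ x hker, IsClosedImmersion.lift_fac _ x hker⟩

end lift

section main
variable {S : Scheme.{u}} {G₁ G₂ : Grpd.GroupoidScheme S} (f : Grpd.GroupoidScheme.Hom G₁ G₂)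
  [IsIso f.fU] (k : Type u) [Field k] [PerfectField k] (eU : G₂.U ≅ Spec (CommRingCat.of k))

open Scheme.IdealSheafData in
include eU in
theorem exists_redClosure :
    ∃ (Z : Scheme.{u}) (ι : Z ⟶ G₂.R) (_ : IsClosedImmersion ι) (e' : G₂.U ⟶ Z)
      (he : e' ≫ ι = G₂.e) (i' : Z ⟶ Z) (hi : i' ≫ ι = ι ≫ G₂.i)
      (c' : pullback (ι ≫ G₂.s) (ι ≫ G₂.t) ⟶ Z) (_ : c' ≫ ι = cZ G₂ ι),
      IsReduced Z ∧ Set.range ⇑ι = closure (Set.range ⇑f.fR) := by
  obtain ⟨hI, hS⟩ := Groth.Agent.Lib.T2H8.GrpdClosure.fieldLike k eU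
  let W : Closeds G₂.R := ⟨closure (Set.range ⇑f.fR), isClosed_closure⟩
  let ι := (vanishingIdeal W).subschemeι
  haveI hZred : IsReduced (vanishingIdeal W).subscheme :=
    Groth.Agent.Lib.Helper10.RedInd.isReduced_subscheme_vanishingIdeal W
  have hrange : Set.range ⇑ι = closure (Set.range ⇑f.fR) := by
    rw [range_subschemeι, coe_support_vanishingIdeal]
    rfl
  -- e
  have he0 : G₂.e = inv f.fU ≫ G₁.e ≫ f.fR := by
    rw [Groth.Agent.S1891.hom_e, IsIso.inv_hom_id_assoc]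
  obtain ⟨e', he'⟩ := exists_lift G₂.e W (by
    rintro _ ⟨u, rfl⟩
    refine subset_closure ⟨G₁.e (inv f.fU u), ?_⟩
    rw [he0]
    rfl)
  -- i
  obtain ⟨i', hi'⟩ := exists_lift (ι ≫ G₂.i) W (by
    rintro _ ⟨z, rfl⟩
    have hz : ι z ∈ closure (Set.range ⇑f.fR) := hrange ▸ Set.mem_range_self z
    have h1 : G₂.i (ι z) ∈ closure (G₂.i '' Set.range ⇑f.fR) :=
      image_closure_subset_closure_image G₂.i.continuous ⟨_, hz, rfl⟩
    refine closure_mono ?_ h1
    rintro _ ⟨_, ⟨r, rfl⟩, rfl⟩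
    refine ⟨G₁.i r, ?_⟩
    change (G₁.i ≫ f.fR) r = (f.fR ≫ G₂.i) r
    rw [Groth.Agent.S1891.hom_i])
  -- c
  haveI : IsReduced (pullback (ι ≫ G₂.s) (ι ≫ G₂.t)) := isReduced_pullback eU _ _
  obtain ⟨c', hc'⟩ := exists_lift (cZ G₂ ι) W (by
    rintro _ ⟨p, rfl⟩
    have hcz : cZ G₂ ι = pullback.lift (pullback.fst _ _ ≫ ι) (pullback.snd _ _ ≫ ι)
        (by rw [Category.assoc, Category.assoc, pullback.condition]) ≫ G₂.c := rfl
    rw [hcz]
    refine Groth.Agent.Lib.T2H8.GrpdClosure.comp_mem_closure f k eU _ ?_ ?_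
    · have : pullback.fst G₂.s G₂.t ((pullback.lift (pullback.fst (ι ≫ G₂.s) (ι ≫ G₂.t) ≫ ι)
          (pullback.snd _ _ ≫ ι)
          (by rw [Category.assoc, Category.assoc, pullback.condition])) p) =
          ι (pullback.fst (ι ≫ G₂.s) (ι ≫ G₂.t) p) := by
        change (pullback.lift _ _ _ ≫ pullback.fst G₂.s G₂.t) p = _
        rw [pullback.lift_fst]
        rfl
      refine Set.mem_of_eq_of_mem this ?_
      exact hrange ▸ Set.mem_range_self _
    · have : pullback.snd G₂.s G₂.t ((pullback.lift (pullback.fst (ι ≫ G₂.s) (ι ≫ G₂.t) ≫ ι)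
          (pullback.snd _ _ ≫ ι)
          (by rw [Category.assoc, Category.assoc, pullback.condition])) p) =
          ι (pullback.snd (ι ≫ G₂.s) (ι ≫ G₂.t) p) := by
        change (pullback.lift _ _ _ ≫ pullback.snd G₂.s G₂.t) p = _
        rw [pullback.lift_snd]
        rfl
      refine Set.mem_of_eq_of_mem this ?_
      exact hrange ▸ Set.mem_range_self _)
  exact ⟨_, ι, inferInstance, e', he', i', hi', c', hc', hZred, hrange⟩

end main

end Groth.Agent.Lib.T2H8.GrpdRedCl
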