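import Mathlib
import Groth.Agent.Lib.T2H8GrpdPts
import Groth.Agent.Lib.T2H8GrpdClosure
import Groth.Agent.Lib.Helper5FibSmConstr
import Groth.Agent.S1891

/-!
# helper8: smoothness of source and target of a reduced groupoid over a perfect field
-/

set_option autoImplicit false
set_option linter.unusedSectionVars false
set_option linter.style.haveILetI false
universe u
open CategoryTheory CategoryTheory.Limits AlgebraicGeometry
open Grpd

namespace Groth.Agent.Lib.T2H8.GrpdSmooth
open Groth.Agent.Lib.T2H8.GrpdPts Groth.Agent.Lib.Helper5.FibSmConstr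
  Groth.Agent.Lib.Helper20.FlatDesc

variable {S : Scheme.{u}} (G : Grpd.GroupoidScheme S)

theorem i_i : G.i ≫ G.i = 𝟙 G.R := by
  have h : (𝟙 G.R) ≫ G.s = ((𝟙 G.R) ≫ G.i) ≫ G.t := by
    rw [Category.id_comp, Category.id_comp, G.i_t]
  have hh := Groth.Agent.Lib.Helper2.Grpd.comp_i G (𝟙 G.R) h
  have := Groth.Agent.S1891.eq_inv_of_comp_eq_e G (𝟙 G.R) ((𝟙 G.R) ≫ G.i) h (by
    rw [hh, Category.id_comp, Category.id_comp, ← Category.assoc, G.i_s])
  rw [Category.id_comp] at this
  exact this.symm

theorem isIso_i : IsIso G.i := ⟨G.i, i_i G, i_i G⟩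

/-- homogeneity: over a one-point base, smoothness of `s` at one point gives it everywhere -/
theorem smooth_at_of_smooth_at [Subsingleton G.U] [IsIntegral G.U]
    [LocallyOfFinitePresentation G.s] (r₀ r : G.R)
    (h₀ : (G.s.stalkMap r₀).hom.FormallySmooth) : (G.s.stalkMap r).hom.FormallySmooth := by
  obtain ⟨K, _, a, b, φ, p, -, -, hφ, hp, hp'⟩ :=
    exists_iso_fibres G r₀ r (Subsingleton.elim _ _)
  have h1 : ((pullback.snd G.s a).stalkMap p).hom.FormallySmooth :=
    formallySmooth_stalkMap_pullback_snd G.s a p (by rw [hp]; exact h₀)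
  have h2 : ((pullback.snd G.s b).stalkMap (φ.hom p)).hom.FormallySmooth := by
    have := (stalkMap_congr_iff (Q := fun φ => RingHom.FormallySmooth φ) hφ p).mpr h1
    exact (stalkMap_comp_iff_left RingHom.FormallySmooth.respectsIso φ.hom
      (pullback.snd G.s b) p).mp this
  haveI : Flat b := inferInstance
  have h3 := (formallySmooth_stalkMap_iff_of_isPullback (IsPullback.of_hasPullback G.s b)
    (φ.hom p)).mp h2
  rwa [hp'] at h3

theorem smooth_s (k : Type u) [Field k] [PerfectField k] (eU : G.U ≅ Spec (CommRingCat.of k))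
    [LocallyOfFiniteType G.s] [IsReduced G.R] : Smooth G.s := by
  obtain ⟨hI, hS⟩ := Groth.Agent.Lib.T2H8.GrpdClosure.fieldLike k eU
  haveI : IsLocallyNoetherian G.U := isLocallyNoetherian_of_isOpenImmersion eU.hom
  haveI : LocallyOfFinitePresentation G.s := inferInstance
  rw [← Scheme.Hom.smoothLocus_eq_top_iff, eq_top_iff]
  intro r _
  haveI : Nonempty G.R := ⟨r⟩
  haveI : LocallyOfFinitePresentation (G.s ≫ eU.hom) := inferInstance
  obtain ⟨r₀, hr₀⟩ := (Scheme.Hom.dense_smoothLocus_of_perfectField (G.s ≫ eU.hom)).nonempty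
  have h₀ : (G.s.stalkMap r₀).hom.FormallySmooth :=
    (stalkMap_comp_iff_right RingHom.FormallySmooth.respectsIso G.s eU.hom r₀).mp hr₀
  exact smooth_at_of_smooth_at G r₀ r h₀

theorem smooth_t (k : Type u) [Field k] [PerfectField k] (eU : G.U ≅ Spec (CommRingCat.of k))
    [LocallyOfFiniteType G.s] [IsReduced G.R] : Smooth G.t := by
  haveI := smooth_s G k eU
  haveI := isIso_i G
  rw [← G.i_s]
  infer_instance

end Groth.Agent.Lib.T2H8.GrpdSmooth
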