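import Mathlib
import Groth.Prelude.Def_HTop
import Groth.Agent.Lib.T2H8ValLift
import Groth.Agent.Lib.T2H8VSubm

set_option autoImplicit false
set_option linter.style.haveILetI false

universe w v u

namespace Groth.Agent.Lib.T2H8.HSigma

open CategoryTheory Limits AlgebraicGeometry Opposite HTop IsLocalRing
open Groth.Agent.Lib.T2H8.ValLift

/-- A compact scheme covered by a family of opens admits a finite cover by affine opens each
contained in a member of the family. -/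
theorem exists_finite_affine_refinement {Y : Scheme.{u}} [CompactSpace Y] {ι : Type v}
    (O : ι → Y.Opens) (hO : ∀ y : Y, ∃ i, y ∈ O i) :
    ∃ (n : ℕ) (W : Fin n → Y.Opens) (i : Fin n → ι), (∀ a, IsAffineOpen (W a)) ∧
      (∀ a, W a ≤ O (i a)) ∧ ∀ y : Y, ∃ a, y ∈ W a := by
  classical
  have hW : ∀ y : Y, ∃ (W : Y.Opens) (i : ι), IsAffineOpen W ∧ W ≤ O i ∧ y ∈ W := by
    intro y
    obtain ⟨i, hi⟩ := hO y
    obtain ⟨_, ⟨W, hW, rfl⟩, hyW, hWO⟩ :=
      Y.isBasis_affineOpens.exists_subset_of_mem_open hi (O i).2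
    exact ⟨W, i, hW, hWO, hyW⟩
  choose W i hWaff hWle hyW using hW
  obtain ⟨t, ht⟩ := isCompact_univ.elim_finite_subcover (fun y : Y => ((W y : Y.Opens) : Set Y))
    (fun y => (W y).2) (fun y _ => Set.mem_iUnion.2 ⟨y, hyW y⟩)
  let e : Fin t.card ≃ t := t.equivFin.symm
  refine ⟨t.card, fun a => W (e a).1, fun a => i (e a).1, fun a => hWaff _, fun a => hWle _,
    fun y => ?_⟩
  have hy := ht (Set.mem_univ y)
  simp only [Set.mem_iUnion] at hy
  obtain ⟨z, hzt, hyz⟩ := hy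
  refine ⟨e.symm ⟨z, hzt⟩, ?_⟩
  show y ∈ W (e (e.symm ⟨z, hzt⟩)).1
  rw [Equiv.apply_symm_apply]
  exact hyz

/-- If the morphism from the coproduct is, as a one-member family, a V covering, so is the
family. -/
theorem isVCover_of_isVCover_sigmaDesc {T : Scheme.{u}} (E : PreZeroHypercover.{u} T)
    (h : IsVCover (PreZeroHypercover.singleton.{0} (Sigma.desc E.f))) : IsVCover E := by
  intro U
  obtain ⟨F, hF, href⟩ := h U
  haveI := hF.finite_index
  have hc : ∀ j : F.I₀, ∃ c : F.X j ⟶ ∐ E.X, c ≫ Sigma.desc E.f = F.f j ≫ (U : T.Opens).ι := by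
    intro j
    obtain ⟨_, c, hc⟩ := href j
    exact ⟨c, hc⟩
  choose c hc using hc
  have hcov : ∀ j : F.I₀, ∃ (n : ℕ) (W : Fin n → (F.X j).Opens) (i : Fin n → E.I₀),
      (∀ a, IsAffineOpen (W a)) ∧ (∀ a, W a ≤ (c j) ⁻¹ᵁ (Sigma.ι E.X (i a)).opensRange) ∧
        ∀ y : F.X j, ∃ a, y ∈ W a := by
    intro j
    haveI : IsAffine (F.X j) := hF.isAffine_obj j
    refine exists_finite_affine_refinement
      (fun i : E.I₀ => (c j) ⁻¹ᵁ (Sigma.ι E.X i).opensRange) (fun y => ?_)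
    obtain ⟨i, x, hx⟩ := (sigmaOpenCover E.X).exists_eq ((c j).base y)
    exact ⟨i, x, hx⟩
  choose n W i hWaff hWle hWcov using hcov
  let F' : PreZeroHypercover.{0} ((U : T.Opens) : Scheme.{u}) :=
    { I₀ := Σ j : F.I₀, Fin (n j)
      X := fun p => ((W p.1 p.2 : (F.X p.1).Opens) : Scheme.{u})
      f := fun p => (W p.1 p.2).ι ≫ F.f p.1 }
  refine ⟨F', ⟨hF.isAffine, inferInstanceAs (Finite (Σ j : F.I₀, Fin (n j))),
    fun p => hWaff p.1 p.2, ?_⟩, ?_⟩
  · intro V _ _ g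
    obtain ⟨R, hRd, hRv, φ, hφ, j, g', hg'⟩ := hF.lift V g
    obtain ⟨a, ha⟩ := hWcov j (g'.base (IsLocalRing.closedPoint R))
    obtain ⟨l, hl⟩ := exists_lift_of_closedPoint_mem_range (W j a).ι g'
      (by rw [Scheme.Opens.range_ι]; exact ha)
    refine ⟨R, hRd, hRv, φ, hφ, ⟨j, a⟩, l, ?_⟩
    show l ≫ (W j a).ι ≫ F.f j = _
    rw [← Category.assoc, hl, hg']
  · rintro ⟨j, a⟩
    have hrange : Set.range ((W j a).ι ≫ c j).base ⊆ Set.range (Sigma.ι E.X (i j a)).base := by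
      rintro _ ⟨x, rfl⟩
      exact hWle j a x.2
    refine ⟨i j a, IsOpenImmersion.lift (Sigma.ι E.X (i j a)) ((W j a).ι ≫ c j) hrange, ?_⟩
    show _ ≫ E.f (i j a) = ((W j a).ι ≫ F.f j) ≫ (U : T.Opens).ι
    rw [← Sigma.ι_desc E.f (i j a), ← Category.assoc, IsOpenImmersion.lift_fac, Category.assoc,
      Category.assoc, hc]

end Groth.Agent.Lib.T2H8.HSigma
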