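import Mathlib
import Groth.Prelude
import Groth.Agent.Lib.Helper7ExcDim1

/-!
# `ULift ℤ` is a G-ring (helper8)
-/

set_option autoImplicit false
set_option linter.style.haveILetI false
set_option linter.unusedSectionVars false
universe u

namespace Groth.Agent.Lib.T2H8.IntGRing

open CAlg

/-- An integrally closed Noetherian domain with perfect fraction field is N-2. -/
theorem isN2_of_perfect (D : Type u) [CommRing D] [IsDomain D] [IsIntegrallyClosed D]
    [IsNoetherianRing D] [PerfectField (FractionRing D)] : CAlg.IsN2 D := by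
  intro L _ _ _ _ hfin
  haveI := hfin
  haveI : Algebra.IsSeparable (FractionRing D) L := Algebra.IsAlgebraic.isSeparable_of_perfectField
  exact IsIntegralClosure.finite D (FractionRing D) L (integralClosure D L)

instance : IsDomain (ULift.{u} ℤ) := MulEquiv.isDomain ℤ (ULift.ringEquiv (R := ℤ)).toMulEquiv

instance : IsPrincipalIdealRing (ULift.{u} ℤ) :=
  IsPrincipalIdealRing.of_surjective (ULift.ringEquiv (R := ℤ)).symm.toRingHom
    (ULift.ringEquiv (R := ℤ)).symm.surjective

instance : CharZero (ULift.{u} ℤ) :=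
  charZero_of_injective_ringHom (f := (ULift.ringEquiv (R := ℤ)).symm.toRingHom)
    (ULift.ringEquiv (R := ℤ)).symm.injective

theorem finite_quotient_of_ne_bot (p : Ideal (ULift.{u} ℤ)) (hp : p ≠ ⊥) :
    Finite (ULift.{u} ℤ ⧸ p) := by
  obtain ⟨n, hn, hn0⟩ := Submodule.exists_mem_ne_zero_of_ne_bot hp
  have hnd : n.down ≠ 0 := fun h => hn0 (ULift.ext _ _ h)
  let g : Fin n.down.natAbs → ULift.{u} ℤ ⧸ p := fun k => Ideal.Quotient.mk p ⟨(k : ℕ)⟩
  refine Finite.of_surjective g ?_
  intro z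
  obtain ⟨x, rfl⟩ := Ideal.Quotient.mk_surjective z
  have hpos : 0 < n.down.natAbs := Int.natAbs_pos.mpr hnd
  have h1 : 0 ≤ x.down % n.down := Int.emod_nonneg _ hnd
  have h2 : x.down % n.down < |n.down| := Int.emod_lt_abs _ hnd
  have h3 : (x.down % n.down).toNat < n.down.natAbs := by
    have : ((x.down % n.down).toNat : ℤ) < (n.down.natAbs : ℤ) := by
      rw [Int.toNat_of_nonneg h1, Int.natCast_natAbs]
      exact h2
    exact_mod_cast this
  refine ⟨⟨(x.down % n.down).toNat, h3⟩, ?_⟩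
  simp only [g]
  rw [Ideal.Quotient.eq]
  have h4 : (⟨((x.down % n.down).toNat : ℕ)⟩ : ULift.{u} ℤ) - x = n * ⟨-(x.down / n.down)⟩ := by
    apply ULift.ext
    simp only [ULift.sub_down, ULift.mul_down]
    rw [Int.toNat_of_nonneg h1]
    have := Int.emod_add_mul_ediv x.down n.down
    linarith
  rw [h4]
  exact p.mul_mem_right _ hn

theorem isNagata_ulift_int : CAlg.IsNagata (ULift.{u} ℤ) := by
  refine ⟨inferInstance, fun p hp => ?_⟩
  haveI : IsPrincipalIdealRing (ULift.{u} ℤ ⧸ p) :=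
    IsPrincipalIdealRing.of_surjective (Ideal.Quotient.mk p) Ideal.Quotient.mk_surjective
  haveI : PerfectField (FractionRing (ULift.{u} ℤ ⧸ p)) := by
    by_cases hp0 : p = ⊥
    · subst hp0
      haveI : CharZero (ULift.{u} ℤ ⧸ (⊥ : Ideal (ULift.{u} ℤ))) :=
        charZero_of_injective_ringHom
          (f := (RingEquiv.quotientBot (ULift.{u} ℤ)).symm.toRingHom)
          (RingEquiv.quotientBot (ULift.{u} ℤ)).symm.injective
      haveI : CharZero (FractionRing (ULift.{u} ℤ ⧸ (⊥ : Ideal (ULift.{u} ℤ)))) :=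
        charZero_of_injective_algebraMap
          (IsFractionRing.injective (ULift.{u} ℤ ⧸ (⊥ : Ideal (ULift.{u} ℤ))) _)
      infer_instance
    · haveI : Finite (ULift.{u} ℤ ⧸ p) := finite_quotient_of_ne_bot p hp0
      haveI : Finite (FractionRing (ULift.{u} ℤ ⧸ p)) := by
        refine Finite.of_surjective (algebraMap (ULift.{u} ℤ ⧸ p) (FractionRing (ULift.{u} ℤ ⧸ p))) ?_
        intro z
        obtain ⟨a, b, rfl⟩ := IsLocalization.exists_mk'_eq (nonZeroDivisors (ULift.{u} ℤ ⧸ p)) z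
        haveI : p.IsMaximal := Ideal.IsPrime.isMaximal hp hp0
        letI := Ideal.Quotient.field p
        have hb : (b : ULift.{u} ℤ ⧸ p) ≠ 0 := nonZeroDivisors.ne_zero b.2
        refine ⟨a * (b : ULift.{u} ℤ ⧸ p)⁻¹, ?_⟩
        rw [IsLocalization.eq_mk'_iff_mul_eq, ← map_mul, mul_assoc, inv_mul_cancel₀ hb, mul_one]
      infer_instance
  exact isN2_of_perfect (ULift.{u} ℤ ⧸ p)

theorem isGRing_ulift_int : CAlg.IsGRing (ULift.{u} ℤ) :=
  Groth.Agent.Lib.Helper7.ExcDim1.isGRing_of_isNagata_of_dim_le_one _ isNagata_ulift_int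
    (Ring.krullDimLE_iff.mp inferInstance)

end Groth.Agent.Lib.T2H8.IntGRing
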