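import Mathlib
import Groth.Prelude
import Groth.Agent.Lib.T2H8IntGRing
import Groth.Agent.Lib.Helper3HzD
import Groth.Agent.Lib.Helper3HzP
import Groth.Agent.S2045
import Groth.Agent.Lib.Helper7PolyGRing2
import Groth.Agent.Lib.Helper7ExcLoc
import Groth.Agent.Lib.Helper2CoeffField

/-!
# A henselian local ring is a directed union of henselian local G-rings (helper8, for S9309)
-/

set_option autoImplicit false
set_option linter.style.haveILetI false
set_option linter.unusedSectionVars false
universe u

namespace Groth.Agent.Lib.T2H8.HensColim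

open IsLocalRing Groth.Agent.Lib.Helper3.Hz

section Construction

variable {A : Type u} [CommRing A] [HenselianLocalRing A]
variable {P : Type u} [CommRing P] (e : P →+* A)

/-- the prime of `P` below the maximal ideal of `A` -/
def pr : Ideal P := (maximalIdeal A).comap e

instance : (pr e).IsPrime := Ideal.comap_isPrime e _

/-- the local ring of `P` at that prime -/
abbrev Loc : Type u := Localization.AtPrime (pr e)

theorem isUnit_of_mem_primeCompl (y : (pr e).primeCompl) : IsUnit (e y) := by
  have h : e y ∉ maximalIdeal A := y.2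
  by_contra hnu
  exact h ((IsLocalRing.mem_maximalIdeal _).mpr hnu)

/-- the canonical local map `P_p → A` -/
noncomputable def locMap : Loc e →+* A :=
  IsLocalization.lift (M := (pr e).primeCompl) (g := e) (isUnit_of_mem_primeCompl e)

theorem locMap_algebraMap (x : P) : locMap e (algebraMap P (Loc e) x) = e x :=
  IsLocalization.lift_eq _ x

instance isLocalHom_locMap : IsLocalHom (locMap e) := by
  constructor
  intro x hx
  obtain ⟨a, s, rfl⟩ := IsLocalization.exists_mk'_eq (pr e).primeCompl x
  have h1 : locMap e (IsLocalization.mk' (Loc e) a s) * e s = e a := by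
    rw [← locMap_algebraMap e (s : P), ← map_mul, IsLocalization.mk'_spec, locMap_algebraMap]
  have ha : IsUnit (e a) := h1 ▸ hx.mul (isUnit_of_mem_primeCompl e s)
  have ha' : a ∈ (pr e).primeCompl := by
    intro hmem
    have h2 : e a ∈ maximalIdeal A := hmem
    exact ((IsLocalRing.mem_maximalIdeal _).mp h2) ha
  exact (IsLocalization.AtPrime.isUnit_mk'_iff (Loc e) (pr e) a s).mpr ha'

/-- the canonical map from the henselization of `P_p` to `A` -/
noncomputable def hzMap : Rh (Loc e) →+* A :=
  Classical.choose (Hensel.IsHenselization.universal (R := Loc e) (S := Rh (Loc e)) A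
    (locMap e) inferInstance).exists

theorem hzMap_comp : (hzMap e).comp (algebraMap (Loc e) (Rh (Loc e))) = locMap e :=
  Classical.choose_spec (Hensel.IsHenselization.universal (R := Loc e) (S := Rh (Loc e)) A
    (locMap e) inferInstance).exists

theorem hzMap_unique (g : Rh (Loc e) →+* A)
    (hg : g.comp (algebraMap (Loc e) (Rh (Loc e))) = locMap e) : g = hzMap e :=
  (Hensel.IsHenselization.universal (R := Loc e) (S := Rh (Loc e)) A
    (locMap e) inferInstance).unique hg (hzMap_comp e)

instance isLocalHom_hzMap : IsLocalHom (hzMap e) := by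
  refine ((local_hom_TFAE (hzMap e)).out 0 3 rfl rfl).mpr ?_
  rw [← Groth.Agent.Lib.Helper3.HzP.hz_map_maximalIdeal (Loc e) (Rh (Loc e)),
    Ideal.map_le_iff_le_comap, Ideal.comap_comap, hzMap_comp]
  exact ((local_hom_TFAE (locMap e)).out 0 3 rfl rfl).mp inferInstance

/-- the henselian subring of `A` attached to `e` -/
noncomputable def H : Subring A := (hzMap e).range

theorem range_le_H : e.range ≤ H e := by
  rintro _ ⟨x, rfl⟩
  refine ⟨algebraMap (Loc e) (Rh (Loc e)) (algebraMap P (Loc e) x), ?_⟩
  have := congrArg (fun φ : Loc e →+* A => φ (algebraMap P (Loc e) x)) (hzMap_comp e)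
  simp only [RingHom.comp_apply] at this
  rw [this, locMap_algebraMap]

instance henselian_H : HenselianLocalRing (H e) :=
  Groth.Agent.Lib.Helper2.henselianLocalRing_of_surjective (hzMap e).rangeRestrict
    (hzMap e).rangeRestrict_surjective

instance isLocalHom_subtype_H : IsLocalHom (H e).subtype := by
  constructor
  rintro ⟨_, ⟨h, rfl⟩⟩ hx
  have hu : IsUnit h := IsLocalHom.map_nonunit (f := hzMap e) h hx
  exact hu.map (hzMap e).rangeRestrict

theorem isGRing_H (hP : CAlg.IsGRing P) : CAlg.IsGRing (H e) := by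
  haveI := hP.1
  have hLoc : CAlg.IsGRing (Loc e) :=
    Groth.Agent.Lib.Helper7.ExcLoc.isGRing_localization P hP (pr e).primeCompl
  haveI : IsNoetherianRing (Loc e) := hLoc.1
  have hRh : CAlg.IsGRing (Rh (Loc e)) := Groth.Agent.S2045.result hLoc
  have hq := Groth.Agent.Lib.Helper7.PolyGRing2.isGRing_quotient _ hRh (RingHom.ker (hzMap e))
  exact Groth.Agent.Lib.Helper7.PolyGRing2.isGRing_of_ringEquiv
    (RingHom.quotientKerEquivRange (hzMap e)) hq

variable {P' : Type u} [CommRing P'] (e' : P' →+* A) (θ : P →+* P') (hθ : e'.comp θ = e)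

include hθ in
theorem H_mono : H e ≤ H e' := by
  have hpr : pr e = (pr e').comap θ := by
    rw [pr, pr, Ideal.comap_comap, hθ]
  let ψ : Loc e →+* Loc e' := Localization.localRingHom (pr e) (pr e') θ hpr
  haveI : IsLocalHom ψ := Localization.isLocalHom_localRingHom _ _ _ hpr
  let c : Loc e →+* Rh (Loc e') := (algebraMap (Loc e') (Rh (Loc e'))).comp ψ
  haveI : IsLocalHom c := RingHom.isLocalHom_comp _ _
  obtain ⟨k, hk, -⟩ := Hensel.IsHenselization.universal (R := Loc e) (S := Rh (Loc e))
    (Rh (Loc e')) c inferInstance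
  have h1 : ((hzMap e').comp k).comp (algebraMap (Loc e) (Rh (Loc e))) = locMap e := by
    rw [RingHom.comp_assoc, hk]
    change (hzMap e').comp ((algebraMap (Loc e') (Rh (Loc e'))).comp ψ) = locMap e
    rw [← RingHom.comp_assoc, hzMap_comp]
    refine IsLocalization.ringHom_ext (pr e).primeCompl ?_
    ext x
    simp only [RingHom.comp_apply]
    rw [locMap_algebraMap]
    have : ψ (algebraMap P (Loc e) x) = algebraMap P' (Loc e') (θ x) :=
      Localization.localRingHom_to_map _ _ _ hpr x
    rw [this, locMap_algebraMap, ← hθ]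
    rfl
  have h2 := hzMap_unique e _ h1
  rintro _ ⟨x, rfl⟩
  rw [← h2]
  exact ⟨k x, rfl⟩

end Construction

section Poly

variable (A : Type u) [CommRing A]

/-- `ULift ℤ → A` -/
noncomputable def zMap : ULift.{u} ℤ →+* A :=
  (Int.castRingHom A).comp (ULift.ringEquiv (R := ℤ)).toRingHom

/-- evaluation `ℤ[s] → A` for a finite subset `s` of `A` -/
noncomputable def ev (s : Finset A) : MvPolynomial (↥s) (ULift.{u} ℤ) →+* A :=
  MvPolynomial.eval₂Hom (zMap A) (fun x : ↥s => (x : A))

noncomputable def ren {s t : Finset A} (h : s ⊆ t) :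
    MvPolynomial (↥s) (ULift.{u} ℤ) →+* MvPolynomial (↥t) (ULift.{u} ℤ) :=
  (MvPolynomial.rename (fun x : ↥s => (⟨x.1, h x.2⟩ : ↥t))).toRingHom

theorem ev_comp_ren {s t : Finset A} (h : s ⊆ t) : (ev A t).comp (ren A h) = ev A s := by
  apply MvPolynomial.ringHom_ext
  · intro r
    simp [ev, ren]
  · intro i
    simp [ev, ren]

theorem isGRing_mvPolynomial_finset (s : Finset A) :
    CAlg.IsGRing (MvPolynomial (↥s) (ULift.{u} ℤ)) :=
  Groth.Agent.Lib.Helper7.PolyGRing2.isGRing_of_finiteType (ULift.{u} ℤ)
    Groth.Agent.Lib.T2H8.IntGRing.isGRing_ulift_int _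

end Poly

/-- **S9309**. -/
theorem main (A : Type u) [CommRing A] [HenselianLocalRing A] :
    ∃ (ι : Type u) (_ : Preorder ι) (_ : IsDirectedOrder ι) (_ : Nonempty ι) (G : ι → Type u)
      (_ : ∀ i, CommRing (G i)) (f : ∀ i j : ι, i ≤ j → (G i →+* G j))
      (_ : DirectedSystem G (fun i j h => f i j h)),
      (∀ i, HenselianLocalRing (G i) ∧ CAlg.IsGRing (G i)) ∧
      (∀ (i j : ι) (h : i ≤ j), IsLocalHom (f i j h)) ∧
      Nonempty (A ≃+* DirectLimit G f) := by
  classical
  have hmono : ∀ s t : Finset A, s ≤ t → H (ev A s) ≤ H (ev A t) :=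
    fun s t h => H_mono (ev A s) (ev A t) (ren A h) (ev_comp_ren A h)
  haveI hdir : IsDirectedOrder (Finset A) :=
    ⟨fun s t => ⟨s ∪ t, Finset.subset_union_left, Finset.subset_union_right⟩⟩
  haveI hsys : DirectedSystem (fun s : Finset A => ↥(H (ev A s)))
      (fun s t h => (Subring.inclusion (hmono s t h) : ↥(H (ev A s)) → ↥(H (ev A t)))) :=
    ⟨fun i x => by ext; rfl, fun k j i hij hjk x => by ext; rfl⟩
  have hcover : ∀ a : A, a ∈ H (ev A {a}) := by
    intro a
    apply range_le_H (ev A {a})
    refine ⟨MvPolynomial.X ⟨a, Finset.mem_singleton_self a⟩, ?_⟩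
    simp [ev]
  refine ⟨Finset A, inferInstance, hdir, inferInstance, fun s => ↥(H (ev A s)),
    fun s => inferInstance, fun s t h => Subring.inclusion (hmono s t h), hsys, ?_, ?_, ?_⟩
  · intro s
    exact ⟨inferInstance, isGRing_H (ev A s) (isGRing_mvPolynomial_finset A s)⟩
  · intro s t h
    constructor
    intro x hx
    have h1 : IsUnit ((H (ev A s)).subtype x) := by
      have := hx.map (H (ev A t)).subtype
      exact this
    exact IsLocalHom.map_nonunit (f := (H (ev A s)).subtype) x h1
  · have compat : ∀ (i j : Finset A) (h : i ≤ j) (x : ↥(H (ev A i))),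
        (H (ev A i)).subtype x = (H (ev A j)).subtype (Subring.inclusion (hmono i j h) x) :=
      fun i j h x => rfl
    let Φ : DirectLimit (fun s : Finset A => ↥(H (ev A s)))
        (fun s t h => Subring.inclusion (hmono s t h)) →+* A :=
      { toFun := DirectLimit.lift _ (fun i => ⇑((H (ev A i)).subtype)) compat
        map_one' := DirectLimit.lift_one (fun i => (H (ev A i)).subtype) compat
        map_mul' := DirectLimit.lift_mul (fun i => (H (ev A i)).subtype) compat
        map_zero' := DirectLimit.lift_zero (fun i => (H (ev A i)).subtype) compat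
        map_add' := DirectLimit.lift_add (fun i => (H (ev A i)).subtype) compat }
    have hinj : Function.Injective Φ :=
      DirectLimit.lift_injective _ _ compat (fun i => Subtype.val_injective)
    have hsurj : Function.Surjective Φ := by
      intro a
      exact ⟨⟦⟨{a}, ⟨a, hcover a⟩⟩⟧, rfl⟩
    exact ⟨(RingEquiv.ofBijective Φ ⟨hinj, hsurj⟩).symm⟩

end Groth.Agent.Lib.T2H8.HensColim
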