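import Mathlib
import Groth.Agent.Lib.Helper26LimFP5
import Groth.Agent.Lib.Helper26FGZ
import Groth.Agent.Lib.Helper3HzN
import Groth.Agent.Lib.Helper3HzD

/-!
# Descent of a finitely presented scheme over a henselian local ring to a Noetherian henselian
local ring (S5058)
-/

set_option autoImplicit false
universe u

namespace Groth.Agent.Lib.T2H8.HensDesc

open CategoryTheory Limits AlgebraicGeometry IsLocalRing
open Groth.Agent.Lib.Helper26.FGZ Groth.Agent.Lib.Helper3.Hz

instance (A : Type u) [CommRing A] (i : (FGSub A)ᵒᵖ) : CompactSpace ((specDiagram A).obj i) := by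
  show CompactSpace (Spec _)
  infer_instance

instance (A : Type u) [CommRing A] (i : (FGSub A)ᵒᵖ) :
    QuasiSeparatedSpace ((specDiagram A).obj i) := by
  show QuasiSeparatedSpace (Spec _)
  infer_instance

theorem main (A : Type u) [CommRing A] [HenselianLocalRing A]
    {X : Scheme.{u}} (f : X ⟶ Spec (CommRingCat.of A)) [hf1 : LocallyOfFinitePresentation f]
    [hf2 : QuasiCompact f] [hf3 : QuasiSeparated f] :
    ∃ (A₀ : Type u) (_ : CommRing A₀) (_ : HenselianLocalRing A₀) (_ : IsNoetherianRing A₀)
      (φ : A₀ →+* A) (_ : IsLocalHom φ)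
      (X₀ : Scheme.{u}) (f₀ : X₀ ⟶ Spec (CommRingCat.of A₀)) (g : X ⟶ X₀),
      LocallyOfFiniteType f₀ ∧ QuasiCompact f₀ ∧
        IsPullback g f f₀ (Spec.map (CommRingCat.ofHom φ)) := by
  classical
  obtain ⟨j, Xj, fj, gj, h1, h2, h3, pb⟩ :=
    @Groth.Agent.Lib.Helper26.LimFP.desc_of_fp (FGSub A)ᵒᵖ _ (specDiagram A) (specCone A) _ _ _ _
      (specIsLimit A) X f hf1 hf2 hf3
  -- the stage
  obtain ⟨⟨B₀, hB₀⟩⟩ := j
  haveI : Algebra.FiniteType ℤ B₀ := (Subalgebra.fg_iff_finiteType B₀).1 hB₀
  haveI : IsNoetherianRing B₀ := Algebra.FiniteType.isNoetherianRing ℤ B₀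
  let p : Ideal B₀ := (maximalIdeal A).comap (algebraMap B₀ A)
  haveI : p.IsPrime := Ideal.comap_isPrime _ _
  have hunit : ∀ y : p.primeCompl, IsUnit (algebraMap B₀ A y) := by
    intro y
    by_contra h
    exact y.2 ((IsLocalRing.mem_maximalIdeal _).mpr h)
  let lift : Localization.AtPrime p →+* A :=
    IsLocalization.lift (M := p.primeCompl) (g := algebraMap B₀ A) hunit
  have hlift_comp : lift.comp (algebraMap B₀ (Localization.AtPrime p)) = algebraMap B₀ A :=
    IsLocalization.lift_comp _
  have hlift_local : IsLocalHom lift := by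
    constructor
    intro x hx
    obtain ⟨a, s, rfl⟩ := IsLocalization.exists_mk'_eq p.primeCompl x
    have h1 : lift (IsLocalization.mk' (Localization.AtPrime p) a s) * algebraMap B₀ A s =
        algebraMap B₀ A a := by
      have h2 : algebraMap B₀ A s = lift (algebraMap B₀ (Localization.AtPrime p) s) :=
        (RingHom.congr_fun hlift_comp s).symm
      have h3 : algebraMap B₀ A a = lift (algebraMap B₀ (Localization.AtPrime p) a) :=
        (RingHom.congr_fun hlift_comp a).symm
      rw [h2, h3, ← map_mul, IsLocalization.mk'_spec]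
    have ha : IsUnit (algebraMap B₀ A a) := by
      rw [← h1]
      exact hx.mul (hunit s)
    have hap : a ∈ p.primeCompl := by
      intro hmem
      exact ((IsLocalRing.mem_maximalIdeal _).mp hmem) ha
    have h4 : IsLocalization.mk' (Localization.AtPrime p) a s =
        IsLocalization.mk' (Localization.AtPrime p) a (1 : p.primeCompl) *
        IsLocalization.mk' (Localization.AtPrime p) 1 s := by
      rw [← IsLocalization.mk'_mul, mul_one, one_mul]
    rw [h4]
    refine IsUnit.mul ?_ ?_
    · rw [IsLocalization.mk'_one]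
      exact IsLocalization.map_units _ (⟨a, hap⟩ : p.primeCompl)
    · have h5 : IsLocalization.mk' (Localization.AtPrime p) (1 : B₀) s *
          algebraMap B₀ (Localization.AtPrime p) s = 1 := by
        rw [IsLocalization.mk'_spec, map_one]
      exact IsUnit.of_mul_eq_one _ h5
  obtain ⟨φ, hφ, -⟩ := universal (R := Localization.AtPrime p) A lift hlift_local
  have hφ' : φ.comp (algebraMap (Localization.AtPrime p) (Rh (Localization.AtPrime p))) = lift := hφ
  have hφloc : IsLocalHom φ := by
    apply ((local_hom_TFAE φ).out 0 2).mpr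
    rw [Groth.Agent.Lib.Helper3.Hz.maximalIdeal_eq_map, Ideal.map_map, hφ']
    exact ((local_hom_TFAE lift).out 0 2).mp hlift_local
  let ψ : B₀ →+* Rh (Localization.AtPrime p) :=
    (algebraMap (Localization.AtPrime p) (Rh (Localization.AtPrime p))).comp
      (algebraMap B₀ (Localization.AtPrime p))
  have hφψ : φ.comp ψ = algebraMap B₀ A := by
    show φ.comp ((algebraMap (Localization.AtPrime p) (Rh (Localization.AtPrime p))).comp
      (algebraMap B₀ (Localization.AtPrime p))) = _
    rw [← RingHom.comp_assoc, hφ', hlift_comp]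
  have hcomp : Spec.map (CommRingCat.ofHom φ) ≫ Spec.map (CommRingCat.ofHom ψ) =
      (specCone A).π.app (Opposite.op ⟨B₀, hB₀⟩) := by
    rw [← Spec.map_comp, ← CommRingCat.ofHom_comp, hφψ]
    rfl
  have hw : gj ≫ fj = (f ≫ Spec.map (CommRingCat.ofHom φ)) ≫ Spec.map (CommRingCat.ofHom ψ) := by
    rw [Category.assoc, hcomp]
    exact pb.w
  refine ⟨Rh (Localization.AtPrime p), inferInstance, inferInstance, inferInstance, φ, hφloc,
    pullback fj (Spec.map (CommRingCat.ofHom ψ)), pullback.snd fj _,
    pullback.lift gj (f ≫ Spec.map (CommRingCat.ofHom φ)) hw, ?_, ?_, ?_⟩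
  · haveI : LocallyOfFiniteType fj := inferInstance
    exact MorphismProperty.pullback_snd _ _ inferInstance
  · exact MorphismProperty.pullback_snd _ _ h2
  · refine IsPullback.of_right ?_ (pullback.lift_snd _ _ _) (IsPullback.of_hasPullback fj _)
    have key : ∀ (a : X ⟶ Xj)
        (b : Spec (CommRingCat.of A) ⟶ (specDiagram A).obj (Opposite.op ⟨B₀, hB₀⟩)),
        a = gj → b = (specCone A).π.app (Opposite.op ⟨B₀, hB₀⟩) → IsPullback a f fj b := by
      rintro a b rfl rfl
      exact pb
    exact key _ _ (pullback.lift_fst _ _ _) hcomp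

end Groth.Agent.Lib.T2H8.HensDesc
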