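import Mathlib
import Groth.Agent.Lib.T2H8ApproxMax
import Groth.Agent.Lib.T2H8PopMain

/-!
# Functors preserving filtered colimits over a Henselian pair with regular completion (S15755)
-/

set_option autoImplicit false
universe u

namespace Groth.Agent.Lib.T2H8.HensFun

open CategoryTheory Limits Groth.Agent.Lib.T2H8

/-- two elements over `A` which agree over `Bh` agree over a finitely presented `A`-algebra
mapping to `Bh` (`Under` version) -/
theorem exists_fp_eq_of_preserves (A Bh : Type u) [CommRing A] [CommRing Bh] [Algebra A Bh]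
    (Φ : Under (CommRingCat.of A) ⥤ Type u)
    (hΦ : ∀ (J : Type u) [SmallCategory J] [IsFiltered J], PreservesColimitsOfShape J Φ)
    (x₁ x₂ : Φ.obj (Under.mk (CommRingCat.ofHom (algebraMap A A))))
    (h : Φ.map (ApproxFun.underHom (Algebra.ofId A Bh)) x₁ =
      Φ.map (ApproxFun.underHom (Algebra.ofId A Bh)) x₂) :
    ∃ (B : Type u) (_ : CommRing B) (_ : Algebra A B) (_ : Algebra.FinitePresentation A B)
      (_ : B →ₐ[A] Bh),
      Φ.map (ApproxFun.underHom (Algebra.ofId A B)) x₁ =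
        Φ.map (ApproxFun.underHom (Algebra.ofId A B)) x₂ := by
  classical
  let Good : ∀ (C : Type u) [CommRing C], (A →+* C) → Prop := fun _ _ _ => True
  have hkey : ∀ d : Groth.Agent.Lib.Helper20.FPD.D A Bh, Groth.Agent.Lib.Helper20.FPD.Rel d →
      ∃ d' : Groth.Agent.Lib.Helper20.FPD.D A Bh, Groth.Agent.Lib.Helper20.FPD.le d d' ∧
        Groth.Agent.Lib.Helper20.FPD.Rel d' ∧
        Good (Groth.Agent.Lib.Helper20.FPD.Q d') (algebraMap A (Groth.Agent.Lib.Helper20.FPD.Q d')) :=
    fun d hd => ⟨d, Groth.Agent.Lib.Helper20.FPD.le_refl' d, hd, trivial⟩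
  haveI : IsFiltered (Groth.Agent.Lib.Helper20.FPD.J A Bh Good) :=
    Groth.Agent.Lib.Helper20.FPD.isFiltered_J hkey
  haveI := hΦ (Groth.Agent.Lib.Helper20.FPD.J A Bh Good)
  have hcol := isColimitOfPreserves Φ (Groth.Agent.Lib.Helper20.FPD.isColimitCocone hkey)
  obtain ⟨j₀⟩ := Groth.Agent.Lib.Helper20.FPD.nonempty_J hkey
  have hleg : ∀ (j : Groth.Agent.Lib.Helper20.FPD.J A Bh Good)
      (x : Φ.obj (Under.mk (CommRingCat.ofHom (algebraMap A A)))),
      (Φ.mapCocone (Groth.Agent.Lib.Helper20.FPD.cocone (A := A) (B := Bh) (Good := Good))).ι.app j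
        (Φ.map (ApproxFun.underHom (Algebra.ofId A (Groth.Agent.Lib.Helper20.FPD.Q j.1))) x) =
        Φ.map (ApproxFun.underHom (Algebra.ofId A Bh)) x := by
    intro j x
    have hc : ApproxFun.underHom (Algebra.ofId A (Groth.Agent.Lib.Helper20.FPD.Q j.1)) ≫
        (Groth.Agent.Lib.Helper20.FPD.cocone (A := A) (B := Bh) (Good := Good)).ι.app j =
        ApproxFun.underHom (Algebra.ofId A Bh) := by
      apply Under.UnderMorphism.ext
      apply CommRingCat.hom_ext
      refine RingHom.ext fun a => ?_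
      exact (Groth.Agent.Lib.Helper20.FPD.iota j.1 j.2.1).commutes a
    exact (FunctorToTypes.map_comp_apply Φ _ _ x).symm.trans (congrArg (fun m => Φ.map m x) hc)
  have heq : (Φ.mapCocone (Groth.Agent.Lib.Helper20.FPD.cocone (A := A) (B := Bh)
      (Good := Good))).ι.app j₀
        (Φ.map (ApproxFun.underHom (Algebra.ofId A (Groth.Agent.Lib.Helper20.FPD.Q j₀.1))) x₁) =
      (Φ.mapCocone (Groth.Agent.Lib.Helper20.FPD.cocone (A := A) (B := Bh)
      (Good := Good))).ι.app j₀
        (Φ.map (ApproxFun.underHom (Algebra.ofId A (Groth.Agent.Lib.Helper20.FPD.Q j₀.1))) x₂) := by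
    rw [hleg, hleg, h]
  obtain ⟨k, f, hf⟩ := (Types.FilteredColimit.isColimit_eq_iff' hcol _ _).mp heq
  refine ⟨Groth.Agent.Lib.Helper20.FPD.Q k.1, inferInstance, inferInstance,
    Groth.Agent.Lib.Helper20.FPD.finitePresentation_Q k.1,
    Groth.Agent.Lib.Helper20.FPD.iota k.1 k.2.1, ?_⟩
  have hc : ApproxFun.underHom (Algebra.ofId A (Groth.Agent.Lib.Helper20.FPD.Q j₀.1)) ≫
      (Groth.Agent.Lib.Helper20.FPD.F (A := A) (B := Bh) (Good := Good)).map f =
      ApproxFun.underHom (Algebra.ofId A (Groth.Agent.Lib.Helper20.FPD.Q k.1)) := by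
    apply Under.UnderMorphism.ext
    apply CommRingCat.hom_ext
    refine RingHom.ext fun a => ?_
    exact (Groth.Agent.Lib.Helper20.FPD.tau (leOfHom f)).commutes a
  have e1 : Φ.map ((Groth.Agent.Lib.Helper20.FPD.F (A := A) (B := Bh) (Good := Good)).map f)
      (Φ.map (ApproxFun.underHom (Algebra.ofId A (Groth.Agent.Lib.Helper20.FPD.Q j₀.1))) x₁) =
      Φ.map (ApproxFun.underHom (Algebra.ofId A (Groth.Agent.Lib.Helper20.FPD.Q k.1))) x₁ :=
    (FunctorToTypes.map_comp_apply Φ _ _ x₁).symm.trans (congrArg (fun m => Φ.map m x₁) hc)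
  have e2 : Φ.map ((Groth.Agent.Lib.Helper20.FPD.F (A := A) (B := Bh) (Good := Good)).map f)
      (Φ.map (ApproxFun.underHom (Algebra.ofId A (Groth.Agent.Lib.Helper20.FPD.Q j₀.1))) x₂) =
      Φ.map (ApproxFun.underHom (Algebra.ofId A (Groth.Agent.Lib.Helper20.FPD.Q k.1))) x₂ :=
    (FunctorToTypes.map_comp_apply Φ _ _ x₂).symm.trans (congrArg (fun m => Φ.map m x₂) hc)
  exact e1.symm.trans (hf.trans e2)

/-- `CommAlgCat` version -/
theorem exists_fp_eq_of_preserves_commAlgCat (A Bh : Type u) [CommRing A] [CommRing Bh]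
    [Algebra A Bh] (F : CommAlgCat.{u} A ⥤ Type u) [Limits.PreservesFilteredColimits F]
    (x₁ x₂ : F.obj (CommAlgCat.of A A))
    (h : F.map (CommAlgCat.ofHom (Algebra.ofId A Bh)) x₁ =
      F.map (CommAlgCat.ofHom (Algebra.ofId A Bh)) x₂) :
    ∃ (B : Type u) (_ : CommRing B) (_ : Algebra A B) (_ : Algebra.FinitePresentation A B)
      (_ : B →ₐ[A] Bh),
      F.map (CommAlgCat.ofHom (Algebra.ofId A B)) x₁ =
        F.map (CommAlgCat.ofHom (Algebra.ofId A B)) x₂ := by
  let E := commAlgCatEquivUnder (CommRingCat.of A)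
  let Φ : Under (CommRingCat.of A) ⥤ Type u := E.inverse ⋙ F
  have hΦ : ∀ (J : Type u) [SmallCategory J] [IsFiltered J], PreservesColimitsOfShape J Φ := by
    intro J _ _
    haveI : PreservesColimitsOfShape J F :=
      PreservesFilteredColimitsOfSize.preserves_filtered_colimits J
    infer_instance
  -- naturality of the unit
  have hnat : ∀ (C : Type u) [CommRing C] [Algebra A C],
      E.unit.app (CommAlgCat.of A A) ≫ E.inverse.map (ApproxFun.underHom (Algebra.ofId A C)) =
      CommAlgCat.ofHom (Algebra.ofId A C) ≫ E.unit.app (CommAlgCat.of A C) := by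
    intro C _ _
    have h1 : E.functor.map (CommAlgCat.ofHom (Algebra.ofId A C)) =
        ApproxFun.underHom (Algebra.ofId A C) := rfl
    rw [← h1]
    exact (E.unit.naturality (CommAlgCat.ofHom (Algebra.ofId A C))).symm
  have hmap : ∀ (C : Type u) [CommRing C] [Algebra A C] (x : F.obj (CommAlgCat.of A A)),
      Φ.map (ApproxFun.underHom (Algebra.ofId A C)) (F.map (E.unit.app (CommAlgCat.of A A)) x) =
      F.map (E.unit.app (CommAlgCat.of A C)) (F.map (CommAlgCat.ofHom (Algebra.ofId A C)) x) := by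
    intro C _ _ x
    exact ((FunctorToTypes.map_comp_apply F _ _ x).symm.trans
      (congrArg (fun m => F.map m x) (hnat C))).trans (FunctorToTypes.map_comp_apply F _ _ x)
  obtain ⟨B, _, _, hB, f, hf⟩ := exists_fp_eq_of_preserves A Bh Φ hΦ
    (F.map (E.unit.app (CommAlgCat.of A A)) x₁) (F.map (E.unit.app (CommAlgCat.of A A)) x₂)
    (by rw [hmap Bh, hmap Bh, h])
  refine ⟨B, inferInstance, inferInstance, hB, f, ?_⟩
  rw [hmap B, hmap B] at hf
  have h3 : E.unit.app (CommAlgCat.of A B) ≫ E.unitInv.app (CommAlgCat.of A B) = 𝟙 _ :=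
    E.unitIso.hom_inv_id_app _
  have h6 : ∀ c : F.obj (CommAlgCat.of A B), F.map (E.unitInv.app (CommAlgCat.of A B))
      (F.map (E.unit.app (CommAlgCat.of A B)) c) = c := by
    intro c
    exact ((FunctorToTypes.map_comp_apply F _ _ c).symm.trans
      (congrArg (fun m => F.map m c) h3)).trans (FunctorToTypes.map_id_apply F c)
  have h4 := congrArg (F.map (E.unitInv.app (CommAlgCat.of A B))) hf
  exact (h6 _).symm.trans (h4.trans (h6 _))

/-- main theorem: injectivity and the lifting criterion (S15755) -/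
theorem main (A : Type u) [CommRing A] [IsNoetherianRing A] (I : Ideal A) [HenselianRing A I]
    (hreg : CAlg.IsRegularHom A (AdicCompletion I A))
    (F : CommAlgCat.{u} A ⥤ Type u) [PreservesFilteredColimitsOfSize.{u, u} F] :
    Function.Injective (F.map (CommAlgCat.ofHom (Algebra.ofId A (AdicCompletion I A)))) ∧
    ∀ xbar : F.obj (CommAlgCat.of A (A ⧸ I)),
      (∃ x : F.obj (CommAlgCat.of A A), F.map (CommAlgCat.ofHom (Ideal.Quotient.mkₐ A I)) x = xbar) ↔
      (∃ y : F.obj (CommAlgCat.of A (AdicCompletion I A)),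
        F.map (CommAlgCat.ofHom (AdicCompletion.evalOneₐ I)) y = xbar) := by
  haveI : IsNoetherianRing (AdicCompletion I A) :=
    Groth.Agent.Lib.Helper19.isNoetherianRing_adicCompletion _
  have hind : Smoothing.IndSmooth A (AdicCompletion I A) := PopMain.popescu A _ hreg
  refine ⟨?_, fun xbar => ⟨?_, ?_⟩⟩
  · intro x₁ x₂ h
    obtain ⟨B, _, _, hB, f, hf⟩ :=
      exists_fp_eq_of_preserves_commAlgCat A (AdicCompletion I A) F x₁ x₂ h
    haveI := hB
    obtain ⟨σ, -⟩ := ApproxFun.approx_hens A I hind B f 1 le_rfl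
    have hid : CommAlgCat.ofHom (Algebra.ofId A B) ≫ CommAlgCat.ofHom σ = 𝟙 (CommAlgCat.of A A) := by
      rw [← CommAlgCat.ofHom_comp]
      have : σ.comp (Algebra.ofId A B) = AlgHom.id A A := Subsingleton.elim _ _
      rw [this]
      rfl
    have h4 := congrArg (F.map (CommAlgCat.ofHom σ)) hf
    rw [← FunctorToTypes.map_comp_apply, ← FunctorToTypes.map_comp_apply, hid,
      FunctorToTypes.map_id_apply, FunctorToTypes.map_id_apply] at h4
    exact h4
  · rintro ⟨x, rfl⟩
    refine ⟨F.map (CommAlgCat.ofHom (Algebra.ofId A (AdicCompletion I A))) x, ?_⟩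
    rw [← FunctorToTypes.map_comp_apply, ← CommAlgCat.ofHom_comp]
    have : (AdicCompletion.evalOneₐ I).comp (Algebra.ofId A (AdicCompletion I A)) =
        Ideal.Quotient.mkₐ A I := Subsingleton.elim _ _
    rw [this]
  · rintro ⟨y, rfl⟩
    obtain ⟨B, _, _, hB, f, yB, hyB⟩ :=
      ApproxMax.exists_fp_of_preserves_commAlgCat A (AdicCompletion I A) F y
    haveI := hB
    obtain ⟨σ, hσ⟩ := ApproxFun.approx_hens A I hind B f 1 le_rfl
    refine ⟨F.map (CommAlgCat.ofHom σ) yB, ?_⟩
    rw [← hyB, ← FunctorToTypes.map_comp_apply, ← FunctorToTypes.map_comp_apply,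
      ← CommAlgCat.ofHom_comp, ← CommAlgCat.ofHom_comp]
    have h1 : (Ideal.Quotient.mkₐ A I).comp σ = (AdicCompletion.evalOneₐ I).comp f := by
      refine AlgHom.ext fun b => ?_
      have h2 := congrArg (Ideal.Quotient.factor (show I ^ 1 ≤ I by simp)) (hσ b)
      rw [Ideal.Quotient.factor_mk] at h2
      exact h2
    rw [h1]

end Groth.Agent.Lib.T2H8.HensFun
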