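import Mathlib
import Groth.Agent.Lib.Helper3HenselN
import Groth.Agent.Lib.T2H8IdxB

set_option autoImplicit false

namespace Groth.Agent.Lib.T2H8.HensRed

open TensorProduct IsLocalRing Coalgebra

universe u

section Lift

variable (A : Type u) [CommRing A] [IsLocalRing A]
  (C : Type u) [CommRing C] [Algebra A C]

/-- the comparison `C ⧸ 𝔪C ≃ k ⊗ C` as an `A`-algebra isomorphism -/
noncomputable def quotEquiv :
    (C ⧸ (maximalIdeal A).map (algebraMap A C)) ≃ₐ[A] ResidueField A ⊗[A] C :=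
  (Algebra.TensorProduct.quotIdealMapEquivQuotTensor C (maximalIdeal A)).restrictScalars A

theorem quotEquiv_mk (c : C) :
    quotEquiv A C (Ideal.Quotient.mk _ c) = (1 : ResidueField A) ⊗ₜ[A] c := rfl

theorem tmul_eq_iff (c c' : C) :
    (1 : ResidueField A) ⊗ₜ[A] c = (1 : ResidueField A) ⊗ₜ[A] c' ↔
      Ideal.Quotient.mk ((maximalIdeal A).map (algebraMap A C)) c = Ideal.Quotient.mk _ c' := by
  rw [← quotEquiv_mk, ← quotEquiv_mk]
  exact (quotEquiv A C).injective.eq_iff

end Lift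

section Hens

variable (A : Type u) [CommRing A] [HenselianLocalRing A]
  (C : Type u) [CommRing C] [Algebra A C] [Module.Finite A C]
  (E : Type u) [CommRing E] [Algebra A E] [Algebra.Etale A E]

open Groth.Agent.Lib.Helper3.Hensel

theorem algHom_ext_of_tmul (g g' : E →ₐ[A] C)
    (h : ∀ x, (1 : ResidueField A) ⊗ₜ[A] g x = (1 : ResidueField A) ⊗ₜ[A] g' x) : g = g' := by
  apply (algHom_quotient_bijective A C E).1
  apply AlgHom.ext
  intro x
  exact (tmul_eq_iff A C _ _).mp (h x)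

theorem exists_algHom_lift (g₀ : E →ₐ[A] ResidueField A ⊗[A] C) :
    ∃ g : E →ₐ[A] C, ∀ x, (1 : ResidueField A) ⊗ₜ[A] g x = g₀ x := by
  obtain ⟨g, hg⟩ := (algHom_quotient_bijective A C E).2
    (((quotEquiv A C).symm : _ →ₐ[A] _).comp g₀)
  refine ⟨g, fun x => ?_⟩
  have := congrArg (fun φ => quotEquiv A C (φ x)) hg
  simpa [quotEquiv_mk] using this

end Hens

section Rho

variable (A : Type u) [CommRing A] [IsLocalRing A]
  (F F' : Type u) [AddCommGroup F] [Module A F] [AddCommGroup F'] [Module A F']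

/-- reduction `F ⊗ F' → (k ⊗ F) ⊗_k (k ⊗ F')` -/
noncomputable def rho₂ :
    F ⊗[A] F' →ₗ[A] (ResidueField A ⊗[A] F) ⊗[ResidueField A] (ResidueField A ⊗[A] F') :=
  ((AlgebraTensorModule.distribBaseChange A (ResidueField A) F F').toLinearMap.restrictScalars A) ∘ₗ
    (TensorProduct.mk A (ResidueField A) (F ⊗[A] F') 1)

theorem rho₂_tmul (f : F) (f' : F') :
    rho₂ A F F' (f ⊗ₜ[A] f') =
      ((1 : ResidueField A) ⊗ₜ[A] f) ⊗ₜ[ResidueField A] ((1 : ResidueField A) ⊗ₜ[A] f') := by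
  simp [rho₂]

theorem rho₂_eq_iff (t t' : F ⊗[A] F') :
    rho₂ A F F' t = rho₂ A F F' t' ↔
      (1 : ResidueField A) ⊗ₜ[A] t = (1 : ResidueField A) ⊗ₜ[A] t' :=
  (AlgebraTensorModule.distribBaseChange A (ResidueField A) F F').injective.eq_iff

variable {A F F'} in
theorem rho₂_map {E E' : Type u} [AddCommGroup E] [Module A E] [AddCommGroup E'] [Module A E']
    (g : E →ₗ[A] F) (g' : E' →ₗ[A] F')
    (g₀ : ResidueField A ⊗[A] E →ₗ[ResidueField A] ResidueField A ⊗[A] F)
    (g₀' : ResidueField A ⊗[A] E' →ₗ[ResidueField A] ResidueField A ⊗[A] F')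
    (h : ∀ x, (1 : ResidueField A) ⊗ₜ[A] g x = g₀ (1 ⊗ₜ[A] x))
    (h' : ∀ x, (1 : ResidueField A) ⊗ₜ[A] g' x = g₀' (1 ⊗ₜ[A] x)) (t : E ⊗[A] E') :
    rho₂ A F F' (TensorProduct.map g g' t) = TensorProduct.map g₀ g₀' (rho₂ A E E' t) := by
  induction t using TensorProduct.induction_on with
  | zero => simp
  | add y z hy hz => simp only [map_add, hy, hz]
  | tmul a b => simp [rho₂_tmul, h, h']

end Rho

section Bialg

variable (A : Type u) [CommRing A] [IsLocalRing A]
  (F : Type u) [CommRing F] [Bialgebra A F]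

theorem comul_one_tmul' (f : F) :
    comul (R := ResidueField A) ((1 : ResidueField A) ⊗ₜ[A] f) =
      ∑ i ∈ (ℛ A f).index, ((1 : ResidueField A) ⊗ₜ[A] (ℛ A f).left i) ⊗ₜ[ResidueField A]
        ((1 : ResidueField A) ⊗ₜ[A] (ℛ A f).right i) := by
  rw [TensorProduct.comul_tmul, ← (ℛ A f).eq, TensorProduct.tmul_sum, map_sum]
  refine Finset.sum_congr rfl fun i _ => ?_
  rw [CommSemiring.comul_apply, AlgebraTensorModule.tensorTensorTensorComm_tmul]

theorem rho₂_comul (f : F) :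
    rho₂ A F F (comul f) = comul (R := ResidueField A) ((1 : ResidueField A) ⊗ₜ[A] f) := by
  rw [comul_one_tmul', ← (ℛ A f).eq, map_sum]
  refine Finset.sum_congr rfl fun i _ => ?_
  rw [rho₂_tmul]

end Bialg

section BialgLift

variable (A : Type u) [CommRing A] [HenselianLocalRing A]
  (E : Type u) [CommRing E] [Bialgebra A E] [Algebra.Etale A E]
  (F : Type u) [CommRing F] [Bialgebra A F] [Module.Finite A F]

theorem one_tmul_eq_iff_residue (a a' : A) :
    (1 : ResidueField A) ⊗ₜ[A] a = (1 : ResidueField A) ⊗ₜ[A] a' ↔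
      a • (1 : ResidueField A) = a' • (1 : ResidueField A) := by
  have e : ∀ b : A, (1 : ResidueField A) ⊗ₜ[A] b = (b • (1 : ResidueField A)) ⊗ₜ[A] (1 : A) := by
    intro b
    rw [TensorProduct.smul_tmul, smul_eq_mul, mul_one]
  rw [e, e]
  constructor
  · intro h
    have := congrArg (TensorProduct.rid A (ResidueField A)) h
    simpa using this
  · intro h
    rw [h]

theorem exists_bialgHom_lift (g₀ : ResidueField A ⊗[A] E →ₐc[ResidueField A] ResidueField A ⊗[A] F) :
    ∃ g : E →ₐc[A] F, ∀ x, (1 : ResidueField A) ⊗ₜ[A] g x = g₀ (1 ⊗ₜ[A] x) := by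
  let g₀' : E →ₐ[A] ResidueField A ⊗[A] F :=
    ((g₀ : ResidueField A ⊗[A] E →ₐ[ResidueField A] ResidueField A ⊗[A] F).restrictScalars A).comp
      Algebra.TensorProduct.includeRight
  obtain ⟨g, hg⟩ := exists_algHom_lift A F E g₀'
  have hg' : ∀ x, (1 : ResidueField A) ⊗ₜ[A] g x = g₀ (1 ⊗ₜ[A] x) := hg
  have hcounit : (Bialgebra.counitAlgHom A F).comp g = Bialgebra.counitAlgHom A E := by
    apply algHom_ext_of_tmul A A E
    intro x
    have h1 : counit (R := ResidueField A) ((1 : ResidueField A) ⊗ₜ[A] g x) =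
        counit (R := ResidueField A) ((1 : ResidueField A) ⊗ₜ[A] x) := by
      rw [hg', CoalgHomClass.counit_comp_apply]
    rw [TensorProduct.counit_tmul, TensorProduct.counit_tmul] at h1
    rw [one_tmul_eq_iff_residue]
    simpa using h1
  have hcomul : (Algebra.TensorProduct.map g g).comp (Bialgebra.comulAlgHom A E) =
      (Bialgebra.comulAlgHom A F).comp g := by
    apply algHom_ext_of_tmul A (F ⊗[A] F) E
    intro x
    rw [← rho₂_eq_iff]
    simp only [AlgHom.comp_apply, Bialgebra.comulAlgHom_apply]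
    have e1 : (Algebra.TensorProduct.map g g) (comul x) =
        TensorProduct.map g.toLinearMap g.toLinearMap (comul x) := rfl
    let g₀l : ResidueField A ⊗[A] E →ₗ[ResidueField A] ResidueField A ⊗[A] F :=
      (g₀ : ResidueField A ⊗[A] E →ₐ[ResidueField A] ResidueField A ⊗[A] F).toLinearMap
    have hgl : ∀ x, (1 : ResidueField A) ⊗ₜ[A] g.toLinearMap x = g₀l (1 ⊗ₜ[A] x) := hg'
    rw [e1, rho₂_map g.toLinearMap g.toLinearMap g₀l g₀l hgl hgl, rho₂_comul, rho₂_comul, hg']
    exact CoalgHomClass.map_comp_comul_apply g₀ _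
  exact ⟨BialgHom.ofAlgHom g hcounit hcomul, hg'⟩

end BialgLift

end Groth.Agent.Lib.T2H8.HensRed
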