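import Mathlib
import Groth.Prelude.Def_CartDual2
import Groth.Agent.Lib.T2H8IdxB

set_option autoImplicit false

/-!
# T2H8IsoB: base change of the Cartier dual algebra

`S ⊗[R] D R A ≃ₐ[S] D S (S ⊗[R] A)` for `A` finite projective over `R`.
-/

namespace Groth.Agent.Lib.T2H8.Iso

open TensorProduct WithConv CartDual Coalgebra

universe u v

section BC

variable (R : Type u) [CommRing R] (S : Type u) [CommRing S] [Algebra R S]
  (A : Type u) [CommRing A] [HopfAlgebra R A]

/-- scalar tower instance for the convolution wrapper -/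
theorem isScalarTower_withConv (R S M : Type*) [Semiring R] [Semiring S] [AddCommMonoid M]
    [Module R M] [Module S M] [SMul R S] [IsScalarTower R S M] : IsScalarTower R S (WithConv M) :=
  ⟨fun r s x => WithConv.ext (smul_assoc r s x.ofConv)⟩

attribute [local instance] isScalarTower_withConv

theorem rightDistribClass_tensor : RightDistribClass (S ⊗[R] D R A) := by
  let _ : Semiring (S ⊗[R] D R A) := inferInstance
  infer_instance

theorem leftDistribClass_tensor : LeftDistribClass (S ⊗[R] D R A) := by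
  let _ : Semiring (S ⊗[R] D R A) := inferInstance
  infer_instance

theorem mulZeroClass_tensor_zero_mul (z : S ⊗[R] D R A) : 0 * z = 0 := by
  let _ : Semiring (S ⊗[R] D R A) := inferInstance
  exact zero_mul z

theorem mulZeroClass_tensor_mul_zero (z : S ⊗[R] D R A) : z * 0 = 0 := by
  let _ : Semiring (S ⊗[R] D R A) := inferInstance
  exact mul_zero z

attribute [local instance] rightDistribClass_tensor leftDistribClass_tensor

/-- `x ↦ (s ⊗ a ↦ s * x a)` -/
noncomputable def psi0 : D R A →ₗ[R] D S (S ⊗[R] A) where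
  toFun x := toConv (LinearMap.liftBaseChange S ((Algebra.linearMap R S) ∘ₗ x.ofConv))
  map_add' x y := by
    apply WithConv.ext
    apply TensorProduct.AlgebraTensorModule.ext
    intro s a
    simp [mul_add]
  map_smul' r x := by
    apply WithConv.ext
    apply TensorProduct.AlgebraTensorModule.ext
    intro s a
    simp [Algebra.smul_def]
    ring

theorem psi0_apply (x : D R A) (s : S) (a : A) :
    psi0 R S A x (s ⊗ₜ[R] a) = s * algebraMap R S (x a) := by
  change (LinearMap.liftBaseChange S ((Algebra.linearMap R S) ∘ₗ x.ofConv)) (s ⊗ₜ[R] a) = _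
  rw [LinearMap.liftBaseChange_tmul]
  rfl

/-- the comparison map `S ⊗ D(A) → D_S(S ⊗ A)` -/
noncomputable def psi : S ⊗[R] D R A →ₗ[S] D S (S ⊗[R] A) :=
  LinearMap.liftBaseChange S (psi0 R S A)

theorem psi_tmul_apply (s : S) (x : D R A) (t : S) (a : A) :
    psi R S A (s ⊗ₜ[R] x) (t ⊗ₜ[R] a) = s * (t * algebraMap R S (x a)) := by
  rw [psi, LinearMap.liftBaseChange_tmul]
  change s • (psi0 R S A x (t ⊗ₜ[R] a)) = _
  rw [psi0_apply, smul_eq_mul]

theorem psi_one : psi R S A 1 = 1 := by
  rw [Algebra.TensorProduct.one_def]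
  apply WithConv.ext
  apply TensorProduct.AlgebraTensorModule.ext
  intro t a
  change psi R S A ((1 : S) ⊗ₜ[R] (1 : D R A)) (t ⊗ₜ[R] a) = (1 : D S (S ⊗[R] A)) (t ⊗ₜ[R] a)
  rw [psi_tmul_apply, LinearMap.convOne_apply, LinearMap.convOne_apply, TensorProduct.counit_tmul]
  simp [Algebra.smul_def]
  ring

theorem psi_mul_tmul (s s' : S) (x x' : D R A) :
    psi R S A ((s ⊗ₜ[R] x) * (s' ⊗ₜ[R] x')) = psi R S A (s ⊗ₜ[R] x) * psi R S A (s' ⊗ₜ[R] x') := by
  rw [Algebra.TensorProduct.tmul_mul_tmul]
  apply WithConv.ext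
  apply TensorProduct.AlgebraTensorModule.ext
  intro t a
  change psi R S A ((s * s') ⊗ₜ[R] (x * x')) (t ⊗ₜ[R] a) =
    (psi R S A (s ⊗ₜ[R] x) * psi R S A (s' ⊗ₜ[R] x')) (t ⊗ₜ[R] a)
  rw [psi_tmul_apply, (ℛ R a).convMul_apply]
  have e : t ⊗ₜ[R] a = t • ((1 : S) ⊗ₜ[R] a) := by
    rw [TensorProduct.smul_tmul', smul_eq_mul, mul_one]
  rw [LinearMap.convMul_apply, e, map_smul, map_smul, map_smul,
    Groth.Agent.Lib.T2H8.Idx.comul_one_tmul (R := R) (A := A) S a, map_sum, map_sum, map_sum,
    smul_eq_mul, Finset.mul_sum, Finset.mul_sum, Finset.mul_sum]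
  refine Finset.sum_congr rfl fun i _ => ?_
  rw [TensorProduct.map_tmul, LinearMap.mul'_apply]
  change _ = t * (psi R S A (s ⊗ₜ[R] x) ((1 : S) ⊗ₜ[R] (ℛ R a).left i) *
    psi R S A (s' ⊗ₜ[R] x') ((1 : S) ⊗ₜ[R] (ℛ R a).right i))
  rw [psi_tmul_apply, psi_tmul_apply, map_mul]
  ring

theorem psi_mul (z z' : S ⊗[R] D R A) :
    psi R S A (z * z') = psi R S A z * psi R S A z' := by
  induction z using TensorProduct.induction_on with
  | zero => rw [mulZeroClass_tensor_zero_mul, map_zero, zero_mul]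
  | add y y' hy hy' => rw [add_mul, map_add, map_add, hy, hy', add_mul]
  | tmul s x =>
    induction z' using TensorProduct.induction_on with
    | zero => rw [mulZeroClass_tensor_mul_zero, map_zero, mul_zero]
    | add y y' hy hy' => rw [mul_add, map_add, map_add, hy, hy', mul_add]
    | tmul s' x' => exact psi_mul_tmul R S A s s' x x'

/-- the comparison algebra map -/
noncomputable def psiAlg : S ⊗[R] D R A →ₐ[S] D S (S ⊗[R] A) :=
  AlgHom.ofLinearMap (psi R S A) (psi_one R S A) (psi_mul R S A)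

theorem psiAlg_apply (z : S ⊗[R] D R A) : psiAlg R S A z = psi R S A z := rfl

theorem psi_bijective [Module.Finite R A] [Module.Projective R A] :
    Function.Bijective (psi R S A) := by
  let e1 : S ⊗[R] D R A ≃ₗ[R] S ⊗[R] Module.Dual R A :=
    TensorProduct.congr (LinearEquiv.refl R S) (toDual R A)
  let e2 : S ⊗[R] Module.Dual R A ≃ₗ[R] Module.Dual R A ⊗[R] S := TensorProduct.comm R _ _
  let e3 : Module.Dual R A ⊗[R] S ≃ₗ[R] (A →ₗ[R] S) := dualTensorHomEquiv R A S
  let e4 : (A →ₗ[R] S) ≃ₗ[S] (S ⊗[R] A →ₗ[S] S) := LinearMap.liftBaseChangeEquiv S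
  have key : ∀ z, psi R S A z = toConv (e4 (e3 (e2 (e1 z)))) := by
    intro z
    induction z using TensorProduct.induction_on with
    | zero => simp
    | add y y' hy hy' => rw [map_add, hy, hy', map_add, map_add, map_add, map_add]; rfl
    | tmul s x =>
      apply WithConv.ext
      apply TensorProduct.AlgebraTensorModule.ext
      intro t a
      change psi R S A (s ⊗ₜ[R] x) (t ⊗ₜ[R] a) = e4 (e3 (e2 (e1 (s ⊗ₜ[R] x)))) (t ⊗ₜ[R] a)
      rw [psi_tmul_apply]
      simp only [e1, e2, e3, e4, TensorProduct.congr_tmul, TensorProduct.comm_tmul,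
        LinearEquiv.refl_apply, dualTensorHomEquiv, LinearEquiv.ofBijective_apply,
        dualTensorHom_apply]
      change _ = (LinearMap.liftBaseChange S _) (t ⊗ₜ[R] a)
      rw [LinearMap.liftBaseChange_tmul]
      simp [Algebra.smul_def]
      ring
  have hb : Function.Bijective (fun z => toConv (e4 (e3 (e2 (e1 z)))) :
      S ⊗[R] D R A → D S (S ⊗[R] A)) :=
    (WithConv.equiv _).symm.bijective.comp
      (e4.bijective.comp (e3.bijective.comp (e2.bijective.comp e1.bijective)))
  have : (⇑(psi R S A)) = fun z => toConv (e4 (e3 (e2 (e1 z)))) := funext key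
  rw [this]
  exact hb

/-- base change of the Cartier dual algebra -/
noncomputable def psiEquiv [Module.Finite R A] [Module.Projective R A] :
    S ⊗[R] D R A ≃ₐ[S] D S (S ⊗[R] A) :=
  AlgEquiv.ofBijective (psiAlg R S A) (psi_bijective R S A)

theorem psiEquiv_tmul_apply [Module.Finite R A] [Module.Projective R A]
    (s : S) (x : D R A) (t : S) (a : A) :
    psiEquiv R S A (s ⊗ₜ[R] x) (t ⊗ₜ[R] a) = s * (t * algebraMap R S (x a)) :=
  psi_tmul_apply R S A s x t a

end BC

end Groth.Agent.Lib.T2H8.Iso
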