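import Mathlib
import Groth.Prelude.Def_CartDual2
import Groth.Agent.Lib.T2H8IsoB

set_option autoImplicit false

/-!
# T2H8HensRedB: base change of the Cartier dual is an isomorphism of bialgebras
-/

namespace Groth.Agent.Lib.T2H8.HensRed

open TensorProduct WithConv CartDual Coalgebra Groth.Agent.Lib.T2H8.Iso

universe u

section PsiBialg

variable (R : Type u) [CommRing R] (S : Type u) [CommRing S] [Algebra R S]
  (A : Type u) [CommRing A] [HopfAlgebra R A] [Module.Finite R A] [Module.Projective R A]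

theorem dual_ext₂ (L L' : Module.Dual S ((S ⊗[R] A) ⊗[S] (S ⊗[R] A)))
    (h : ∀ (s₁ : S) (a₁ : A) (s₂ : S) (a₂ : A),
      L ((s₁ ⊗ₜ[R] a₁) ⊗ₜ[S] (s₂ ⊗ₜ[R] a₂)) = L' ((s₁ ⊗ₜ[R] a₁) ⊗ₜ[S] (s₂ ⊗ₜ[R] a₂))) :
    L = L' := by
  apply TensorProduct.ext'
  intro u v
  induction u using TensorProduct.induction_on with
  | zero => simp
  | add y z hy hz => simp only [TensorProduct.add_tmul, map_add, hy, hz]
  | tmul s₁ a₁ =>
    induction v using TensorProduct.induction_on with
    | zero => simp
    | add y z hy hz => simp only [TensorProduct.tmul_add, map_add, hy, hz]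
    | tmul s₂ a₂ => exact h s₁ a₁ s₂ a₂

theorem ev₂_map_psi (t : D R A ⊗[R] D R A) (s s₁ s₂ : S) (a₁ a₂ : A) :
    ev₂ S (S ⊗[R] A) (TensorProduct.map (psi R S A) (psi R S A)
      (AlgebraTensorModule.tensorTensorTensorComm R S R S S S (D R A) (D R A)
        (((1 : S) ⊗ₜ[S] s) ⊗ₜ[R] t))) ((s₁ ⊗ₜ[R] a₁) ⊗ₜ[S] (s₂ ⊗ₜ[R] a₂)) =
      s * s₁ * s₂ * algebraMap R S (ev₂ R A t (a₁ ⊗ₜ[R] a₂)) := by
  induction t using TensorProduct.induction_on with
  | zero => simp
  | add y z hy hz =>
    simp only [TensorProduct.tmul_add, map_add, LinearMap.add_apply, hy, hz, mul_add]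
  | tmul x x' =>
    rw [AlgebraTensorModule.tensorTensorTensorComm_tmul, TensorProduct.map_tmul, ev₂_tmul,
      psi_tmul_apply, psi_tmul_apply, ev₂_tmul, map_mul]
    ring

theorem counit_psi (z : S ⊗[R] D R A) :
    counit (R := S) (psi R S A z) = counit (R := S) z := by
  induction z using TensorProduct.induction_on with
  | zero => simp
  | add y z hy hz => simp only [map_add, hy, hz]
  | tmul s x =>
    rw [CartDual.coalgebra_counit_apply, Algebra.TensorProduct.one_def, psi_tmul_apply,
      TensorProduct.counit_tmul, CartDual.coalgebra_counit_apply, CommSemiring.counit_apply,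
      Algebra.smul_def]
    ring

theorem comul_psi (z : S ⊗[R] D R A) :
    TensorProduct.map (psi R S A) (psi R S A) (comul (R := S) z) =
      comul (R := S) (psi R S A z) := by
  induction z using TensorProduct.induction_on with
  | zero => simp
  | add y z hy hz => simp only [map_add, hy, hz]
  | tmul s x =>
    apply (ev₂ S (S ⊗[R] A)).injective
    apply dual_ext₂
    intro s₁ a₁ s₂ a₂
    rw [TensorProduct.comul_tmul, CommSemiring.comul_apply, ev₂_map_psi,
      ev₂_coalgebra_comul_tmul, ev₂_coalgebra_comul_tmul, Algebra.TensorProduct.tmul_mul_tmul,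
      psi_tmul_apply]
    ring

/-- the comparison map as a bialgebra map -/
noncomputable def psiBialgHom : S ⊗[R] D R A →ₐc[S] D S (S ⊗[R] A) :=
  BialgHom.ofAlgHom (R := S) (A := S ⊗[R] D R A) (B := D S (S ⊗[R] A)) (psiAlg R S A)
    (by
      apply AlgHom.ext
      intro z
      exact counit_psi R S A z)
    (by
      apply AlgHom.ext
      intro z
      exact comul_psi R S A z)

theorem psiBialgHom_apply (z : S ⊗[R] D R A) : psiBialgHom R S A z = psi R S A z := rfl

/-- base change of the Cartier dual, as an isomorphism of bialgebras -/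
noncomputable def psiBialgEquiv : S ⊗[R] D R A ≃ₐc[S] D S (S ⊗[R] A) :=
  BialgEquiv.ofBijective (R := S) (A := S ⊗[R] D R A) (B := D S (S ⊗[R] A))
    (psiBialgHom R S A) (psi_bijective R S A)

theorem psiBialgEquiv_apply (z : S ⊗[R] D R A) : psiBialgEquiv R S A z = psi R S A z := rfl

theorem psiBialgEquiv_tmul_apply (s : S) (x : D R A) (t : S) (a : A) :
    psiBialgEquiv R S A (s ⊗ₜ[R] x) (t ⊗ₜ[R] a) = s * (t * algebraMap R S (x a)) :=
  psi_tmul_apply R S A s x t a

end PsiBialg

end Groth.Agent.Lib.T2H8.HensRed
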