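import Mathlib
import Groth.Prelude.Def_CartDual2
import Groth.Agent.Lib.T2H8HensRedA
import Groth.Agent.Lib.T2H8HensRedB
import Groth.Agent.S15893

set_option autoImplicit false

/-!
# T2H8HensRedC: reduction to the closed fibre is bijective on homomorphisms from a finite group
with étale Cartier dual over a henselian local ring
-/

namespace Groth.Agent.Lib.T2H8.HensRed

open TensorProduct WithConv CartDual Coalgebra IsLocalRing Groth.Agent.Lib.T2H8.Iso

universe u

section Sep

variable (R : Type u) [CommRing R] (S : Type u) [CommRing S] [Algebra R S]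
  (A : Type u) [CommRing A] [HopfAlgebra R A] [Module.Finite R A] [Module.Projective R A]

theorem psi_smul_one (s : S) (x : D R A) (u : S ⊗[R] A) :
    psi R S A (s ⊗ₜ[R] x) u = s * psi R S A ((1 : S) ⊗ₜ[R] x) u := by
  induction u using TensorProduct.induction_on with
  | zero => simp
  | add y z hy hz => simp only [map_add, hy, hz, mul_add]
  | tmul t a => rw [psi_tmul_apply, psi_tmul_apply, one_mul]

/-- elements of `S ⊗ D(A)` are determined by the values of the associated functional at `1 ⊗ a` -/
theorem tmul_ext_of_psi (y y' : S ⊗[R] D R A)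
    (h : ∀ a : A, psi R S A y ((1 : S) ⊗ₜ[R] a) = psi R S A y' ((1 : S) ⊗ₜ[R] a)) : y = y' := by
  apply (psi_bijective R S A).1
  apply WithConv.ext
  apply LinearMap.ext
  intro u
  induction u using TensorProduct.induction_on with
  | zero => simp
  | add v w hv hw => simp only [map_add, hv, hw]
  | tmul t a =>
    have e : t ⊗ₜ[R] a = t • ((1 : S) ⊗ₜ[R] a) := by
      rw [TensorProduct.smul_tmul', smul_eq_mul, mul_one]
    rw [e, map_smul, map_smul]
    exact congrArg (t • ·) (h a)

/-- elements of `S ⊗ A` are separated by the functionals `psi (1 ⊗ x)` -/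
theorem eq_of_forall_psi (u u' : S ⊗[R] A)
    (h : ∀ x : D R A, psi R S A ((1 : S) ⊗ₜ[R] x) u = psi R S A ((1 : S) ⊗ₜ[R] x) u') : u = u' := by
  rw [← sub_eq_zero, ← Module.forall_dual_apply_eq_zero_iff S]
  intro ξ
  obtain ⟨y, hy⟩ := (psi_bijective R S A).2 (toConv ξ)
  have key : ∀ y : S ⊗[R] D R A, psi R S A y u = psi R S A y u' := by
    intro y
    induction y using TensorProduct.induction_on with
    | zero => simp
    | add v w hv hw =>
      rw [map_add]
      change (psi R S A v) u + (psi R S A w) u = (psi R S A v) u' + (psi R S A w) u'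
      rw [hv, hw]
    | tmul s x => rw [psi_smul_one, psi_smul_one R S A s x u', h x]
  have h2 : ξ u = ξ u' := by
    have := key y
    rw [hy] at this
    exact this
  rw [map_sub, h2, sub_self]

end Sep

section Main

variable (A : Type u) [CommRing A] [HenselianLocalRing A]
  (B : Type u) [CommRing B] [HopfAlgebra A B] [Coalgebra.IsCocomm A B] [Module.Finite A B]
  [Module.Projective A B] [Algebra.Etale A (D A B)]
  (C : Type u) [CommRing C] [HopfAlgebra A C] [Coalgebra.IsCocomm A C] [Module.Finite A C]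
  [Module.Projective A C]

theorem reduction_injective (φ ψ : C →ₐc[A] B)
    (h : ∀ c : C, (1 : ResidueField A) ⊗ₜ[A] (φ c) = (1 : ResidueField A) ⊗ₜ[A] (ψ c)) :
    φ = ψ := by
  apply (Groth.Agent.S15893.result A C B).1
  change transpose A φ = transpose A ψ
  have key : ((transpose A φ : D A B →ₐc[A] D A C) : D A B →ₐ[A] D A C) =
      ((transpose A ψ : D A B →ₐc[A] D A C) : D A B →ₐ[A] D A C) := by
    apply algHom_ext_of_tmul A (D A C) (D A B)
    intro x
    apply tmul_ext_of_psi A (ResidueField A) C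
    intro c
    have h1 := congrArg (fun u => psi A (ResidueField A) B ((1 : ResidueField A) ⊗ₜ[A] x) u) (h c)
    simp only [psi_tmul_apply] at h1
    rw [psi_tmul_apply, psi_tmul_apply]
    exact h1
  apply DFunLike.ext
  intro x
  exact DFunLike.congr_fun key x

theorem reduction_surjective
    (φ₀ : (ResidueField A ⊗[A] C) →ₐc[ResidueField A] (ResidueField A ⊗[A] B)) :
    ∃ φ : C →ₐc[A] B, ∀ c : C, φ₀ ((1 : ResidueField A) ⊗ₜ[A] c) =
      (1 : ResidueField A) ⊗ₜ[A] (φ c) := by
  let T₀ : D (ResidueField A) (ResidueField A ⊗[A] B) →ₐc[ResidueField A]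
      D (ResidueField A) (ResidueField A ⊗[A] C) := transpose (ResidueField A) φ₀
  let g₀ : ResidueField A ⊗[A] D A B →ₐc[ResidueField A] ResidueField A ⊗[A] D A C :=
    ((psiBialgEquiv A (ResidueField A) C).symm : _ →ₐc[ResidueField A] _).comp
      (T₀.comp (psiBialgEquiv A (ResidueField A) B : _ →ₐc[ResidueField A] _))
  have hg₀ : ∀ y, psi A (ResidueField A) C (g₀ y) = T₀ (psi A (ResidueField A) B y) := by
    intro y
    exact (psiBialgEquiv A (ResidueField A) C).apply_symm_apply _
  obtain ⟨g, hg⟩ := exists_bialgHom_lift A (D A B) (D A C) g₀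
  obtain ⟨φ, hφ⟩ := (Groth.Agent.S15893.result A C B).2 g
  have hφ' : ∀ x, transpose A φ x = g x := fun x => DFunLike.congr_fun hφ x
  refine ⟨φ, fun c => ?_⟩
  apply eq_of_forall_psi A (ResidueField A) B
  intro x
  have h1 : psi A (ResidueField A) B ((1 : ResidueField A) ⊗ₜ[A] x) (φ₀ ((1 : ResidueField A) ⊗ₜ[A] c)) =
      T₀ (psi A (ResidueField A) B ((1 : ResidueField A) ⊗ₜ[A] x)) ((1 : ResidueField A) ⊗ₜ[A] c) := rfl
  rw [h1, ← hg₀, ← hg, psi_tmul_apply, psi_tmul_apply, ← hφ']
  rfl

end Main

end Groth.Agent.Lib.T2H8.HensRed
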