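import Mathlib
import Groth.Agent.Lib.T2H8HensRedA

set_option autoImplicit false

namespace Groth.Agent.Lib.T2H8.HensRed

open TensorProduct IsLocalRing

universe u

section Red

variable {R : Type u} [CommRing R] [IsLocalRing R]
variable {F F' F'' G G' : Type u} [AddCommGroup F] [Module R F] [AddCommGroup F'] [Module R F']
  [AddCommGroup F''] [Module R F''] [AddCommGroup G] [Module R G] [AddCommGroup G'] [Module R G']
  {F₀ F₀' F₀'' G₀ G₀' : Type u} [AddCommGroup F₀] [Module (ResidueField R) F₀]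
  [AddCommGroup F₀'] [Module (ResidueField R) F₀'] [AddCommGroup F₀''] [Module (ResidueField R) F₀'']
  [AddCommGroup G₀] [Module (ResidueField R) G₀] [AddCommGroup G₀'] [Module (ResidueField R) G₀']

/-- the reduction map attached to an identification `k ⊗ F ≃ F₀` -/
noncomputable def rd (Θ : ResidueField R ⊗[R] F ≃ₗ[ResidueField R] F₀) (t : F) : F₀ :=
  Θ ((1 : ResidueField R) ⊗ₜ[R] t)

theorem rd_add (Θ : ResidueField R ⊗[R] F ≃ₗ[ResidueField R] F₀) (t t' : F) :
    rd Θ (t + t') = rd Θ t + rd Θ t' := by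
  simp [rd, TensorProduct.tmul_add]

theorem rd_zero (Θ : ResidueField R ⊗[R] F ≃ₗ[ResidueField R] F₀) : rd Θ (0 : F) = 0 := by
  simp [rd]

theorem rd_inj (Θ : ResidueField R ⊗[R] F ≃ₗ[ResidueField R] F₀) {t t' : F}
    (h : rd Θ t = rd Θ t') :
    (1 : ResidueField R) ⊗ₜ[R] t = (1 : ResidueField R) ⊗ₜ[R] t' :=
  Θ.injective h

/-- tensor product of two reductions -/
noncomputable def tens (Θ : ResidueField R ⊗[R] F ≃ₗ[ResidueField R] F₀)
    (Θ' : ResidueField R ⊗[R] F' ≃ₗ[ResidueField R] F₀') :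
    ResidueField R ⊗[R] (F ⊗[R] F') ≃ₗ[ResidueField R] F₀ ⊗[ResidueField R] F₀' :=
  (AlgebraTensorModule.distribBaseChange R (ResidueField R) F F') ≪≫ₗ TensorProduct.congr Θ Θ'

theorem rd_tens_tmul (Θ : ResidueField R ⊗[R] F ≃ₗ[ResidueField R] F₀)
    (Θ' : ResidueField R ⊗[R] F' ≃ₗ[ResidueField R] F₀') (x : F) (y : F') :
    rd (tens Θ Θ') (x ⊗ₜ[R] y) = rd Θ x ⊗ₜ[ResidueField R] rd Θ' y := by
  simp [rd, tens]

variable (R) in
/-- the reduction of the base ring -/
noncomputable def base : ResidueField R ⊗[R] R ≃ₗ[ResidueField R] ResidueField R :=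
  AlgebraTensorModule.rid R (ResidueField R) (ResidueField R)

theorem rd_base (a : R) : rd (base R) a = residue R a := by
  simp [rd, base, Algebra.smul_def]

/-- compatibility of a map with a map on reductions -/
def Compat (Θ : ResidueField R ⊗[R] F ≃ₗ[ResidueField R] F₀)
    (Θ' : ResidueField R ⊗[R] G ≃ₗ[ResidueField R] G₀) (f : F → G) (f₀ : F₀ → G₀) : Prop :=
  ∀ t, rd Θ' (f t) = f₀ (rd Θ t)

theorem Compat.comp {H H₀ : Type u} [AddCommGroup H] [Module R H] [AddCommGroup H₀]
    [Module (ResidueField R) H₀]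
    {Θ : ResidueField R ⊗[R] F ≃ₗ[ResidueField R] F₀}
    {Θ' : ResidueField R ⊗[R] G ≃ₗ[ResidueField R] G₀}
    {Θ'' : ResidueField R ⊗[R] H ≃ₗ[ResidueField R] H₀}
    {f : F → G} {f₀ : F₀ → G₀} {g : G → H} {g₀ : G₀ → H₀}
    (hg : Compat Θ' Θ'' g g₀) (hf : Compat Θ Θ' f f₀) : Compat Θ Θ'' (g ∘ f) (g₀ ∘ f₀) := by
  intro t
  simp only [Function.comp_apply]
  rw [hg, hf]

theorem compat_id (Θ : ResidueField R ⊗[R] F ≃ₗ[ResidueField R] F₀) :
    Compat Θ Θ (fun t => t) (fun t => t) := fun _ => rfl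

theorem Compat.map {Θ : ResidueField R ⊗[R] F ≃ₗ[ResidueField R] F₀}
    {Θ' : ResidueField R ⊗[R] F' ≃ₗ[ResidueField R] F₀'}
    {Ξ : ResidueField R ⊗[R] G ≃ₗ[ResidueField R] G₀}
    {Ξ' : ResidueField R ⊗[R] G' ≃ₗ[ResidueField R] G₀'}
    {f : F →ₗ[R] G} {f' : F' →ₗ[R] G'} {f₀ : F₀ →ₗ[ResidueField R] G₀}
    {f₀' : F₀' →ₗ[ResidueField R] G₀'}
    (hf : Compat Θ Ξ f f₀) (hf' : Compat Θ' Ξ' f' f₀') :
    Compat (tens Θ Θ') (tens Ξ Ξ') (TensorProduct.map f f') (TensorProduct.map f₀ f₀') := by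
  intro t
  induction t using TensorProduct.induction_on with
  | zero => simp [rd_zero]
  | add y z hy hz => simp only [map_add, rd_add, hy, hz]
  | tmul a b =>
    rw [TensorProduct.map_tmul, rd_tens_tmul, rd_tens_tmul, TensorProduct.map_tmul, hf a, hf' b]

theorem compat_assoc (Θ : ResidueField R ⊗[R] F ≃ₗ[ResidueField R] F₀)
    (Θ' : ResidueField R ⊗[R] F' ≃ₗ[ResidueField R] F₀')
    (Θ'' : ResidueField R ⊗[R] F'' ≃ₗ[ResidueField R] F₀'') :
    Compat (tens (tens Θ Θ') Θ'') (tens Θ (tens Θ' Θ'')) (TensorProduct.assoc R F F' F'')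
      (TensorProduct.assoc (ResidueField R) F₀ F₀' F₀'') := by
  intro t
  induction t using TensorProduct.induction_on with
  | zero => simp [rd_zero]
  | add y z hy hz => simp only [map_add, rd_add, hy, hz]
  | tmul u c =>
    induction u using TensorProduct.induction_on with
    | zero => simp [rd_zero]
    | add y z hy hz => simp only [TensorProduct.add_tmul, map_add, rd_add, hy, hz]
    | tmul a b =>
      rw [TensorProduct.assoc_tmul, rd_tens_tmul, rd_tens_tmul, rd_tens_tmul, rd_tens_tmul,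
        TensorProduct.assoc_tmul]

theorem compat_comm (Θ : ResidueField R ⊗[R] F ≃ₗ[ResidueField R] F₀)
    (Θ' : ResidueField R ⊗[R] F' ≃ₗ[ResidueField R] F₀') :
    Compat (tens Θ Θ') (tens Θ' Θ) (TensorProduct.comm R F F')
      (TensorProduct.comm (ResidueField R) F₀ F₀') := by
  intro t
  induction t using TensorProduct.induction_on with
  | zero => simp [rd_zero]
  | add y z hy hz => simp only [map_add, rd_add, hy, hz]
  | tmul a b => rw [TensorProduct.comm_tmul, rd_tens_tmul, rd_tens_tmul, TensorProduct.comm_tmul]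

theorem rd_smul (Θ : ResidueField R ⊗[R] F ≃ₗ[ResidueField R] F₀) (a : R) (t : F) :
    rd Θ (a • t) = residue R a • rd Θ t := by
  unfold rd
  rw [← map_smul]
  congr 1
  rw [TensorProduct.tmul_smul, TensorProduct.smul_tmul', TensorProduct.smul_tmul']
  rfl

theorem compat_lid (Θ : ResidueField R ⊗[R] F ≃ₗ[ResidueField R] F₀) :
    Compat (tens (base R) Θ) Θ (TensorProduct.lid R F) (TensorProduct.lid (ResidueField R) F₀) := by
  intro t
  induction t using TensorProduct.induction_on with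
  | zero => simp [rd_zero]
  | add y z hy hz => simp only [map_add, rd_add, hy, hz]
  | tmul a b => rw [TensorProduct.lid_tmul, rd_tens_tmul, TensorProduct.lid_tmul, rd_base, rd_smul]

theorem compat_rid (Θ : ResidueField R ⊗[R] F ≃ₗ[ResidueField R] F₀) :
    Compat (tens Θ (base R)) Θ (TensorProduct.rid R F) (TensorProduct.rid (ResidueField R) F₀) := by
  intro t
  induction t using TensorProduct.induction_on with
  | zero => simp [rd_zero]
  | add y z hy hz => simp only [map_add, rd_add, hy, hz]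
  | tmul a b => rw [TensorProduct.rid_tmul, rd_tens_tmul, TensorProduct.rid_tmul, rd_base, rd_smul]

end Red

section RedAlg

variable {R : Type u} [CommRing R] [IsLocalRing R]
variable {E E' : Type u} [CommRing E] [Algebra R E] [CommRing E'] [Algebra R E']
  {E₀ E₀' : Type u} [CommRing E₀] [Algebra (ResidueField R) E₀]
  [CommRing E₀'] [Algebra (ResidueField R) E₀']

variable (R E E') in
/-- `distribBaseChange` as an algebra isomorphism -/
noncomputable def distribAlg :
    ResidueField R ⊗[R] (E ⊗[R] E') ≃ₐ[ResidueField R]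
      (ResidueField R ⊗[R] E) ⊗[ResidueField R] (ResidueField R ⊗[R] E') :=
  ((Algebra.TensorProduct.cancelBaseChange R (ResidueField R) (ResidueField R)
    (ResidueField R ⊗[R] E) E').trans
      (Algebra.TensorProduct.assoc R R (ResidueField R) (ResidueField R) E E')).symm

theorem distribAlg_apply (z : ResidueField R ⊗[R] (E ⊗[R] E')) :
    distribAlg R E E' z = AlgebraTensorModule.distribBaseChange R (ResidueField R) E E' z := rfl

/-- tensor product of two algebra reductions -/
noncomputable def tensAlg (θ : ResidueField R ⊗[R] E ≃ₐ[ResidueField R] E₀)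
    (θ' : ResidueField R ⊗[R] E' ≃ₐ[ResidueField R] E₀') :
    ResidueField R ⊗[R] (E ⊗[R] E') ≃ₐ[ResidueField R] E₀ ⊗[ResidueField R] E₀' :=
  (distribAlg R E E').trans (Algebra.TensorProduct.congr θ θ')

theorem tensAlg_apply (θ : ResidueField R ⊗[R] E ≃ₐ[ResidueField R] E₀)
    (θ' : ResidueField R ⊗[R] E' ≃ₐ[ResidueField R] E₀') (z : ResidueField R ⊗[R] (E ⊗[R] E')) :
    tensAlg θ θ' z = tens θ.toLinearEquiv θ'.toLinearEquiv z := rfl

theorem compat_mul' (θ : ResidueField R ⊗[R] E ≃ₐ[ResidueField R] E₀) :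
    Compat (tens θ.toLinearEquiv θ.toLinearEquiv) θ.toLinearEquiv (LinearMap.mul' R E)
      (LinearMap.mul' (ResidueField R) E₀) := by
  intro t
  induction t using TensorProduct.induction_on with
  | zero => simp [rd_zero]
  | add y z hy hz => simp only [map_add, rd_add, hy, hz]
  | tmul a b =>
    rw [LinearMap.mul'_apply, rd_tens_tmul, LinearMap.mul'_apply]
    unfold rd
    change θ _ = θ _ * θ _
    rw [← map_mul, Algebra.TensorProduct.tmul_mul_tmul, one_mul]

theorem compat_algebraMap (θ : ResidueField R ⊗[R] E ≃ₐ[ResidueField R] E₀) :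
    Compat (base R) θ.toLinearEquiv (algebraMap R E) (algebraMap (ResidueField R) E₀) := by
  intro a
  rw [rd_base, Algebra.algebraMap_eq_smul_one, rd_smul, Algebra.algebraMap_eq_smul_one]
  congr 1
  unfold rd
  change θ _ = 1
  rw [← Algebra.TensorProduct.one_def, map_one]

end RedAlg

section RedHens

variable {R : Type u} [CommRing R] [HenselianLocalRing R]
variable {E T : Type u} [CommRing E] [Algebra R E] [Algebra.Etale R E]
  [CommRing T] [Algebra R T] [Module.Finite R T]
  {E₀ T₀ : Type u} [CommRing E₀] [Algebra (ResidueField R) E₀]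
  [CommRing T₀] [Algebra (ResidueField R) T₀]

theorem algHom_ext_of_rd {M₀ : Type u} [AddCommGroup M₀] [Module (ResidueField R) M₀]
    (Θ : ResidueField R ⊗[R] T ≃ₗ[ResidueField R] M₀) (f g : E →ₐ[R] T)
    (h : ∀ x, rd Θ (f x) = rd Θ (g x)) : f = g :=
  algHom_ext_of_tmul R T E f g (fun x => rd_inj Θ (h x))

theorem exists_algHom_compat (θ : ResidueField R ⊗[R] E ≃ₐ[ResidueField R] E₀)
    (Θ : ResidueField R ⊗[R] T ≃ₐ[ResidueField R] T₀) (f₀ : E₀ →ₐ[ResidueField R] T₀) :
    ∃ f : E →ₐ[R] T, Compat θ.toLinearEquiv Θ.toLinearEquiv f f₀ := by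
  let g₀ : E →ₐ[R] ResidueField R ⊗[R] T :=
    (((Θ.symm.toAlgHom).comp (f₀.comp θ.toAlgHom)).restrictScalars R).comp Algebra.TensorProduct.includeRight
  obtain ⟨f, hf⟩ := exists_algHom_lift R T E g₀
  refine ⟨f, fun x => ?_⟩
  unfold rd
  rw [hf x]
  exact Θ.apply_symm_apply _

end RedHens

end Groth.Agent.Lib.T2H8.HensRed
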