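import Mathlib
import Groth.Agent.Lib.T2H8HensRedD

set_option autoImplicit false

/-!
# T2H8HensRedE: lifting a Hopf algebra structure from the reduction of a finite étale algebra
over a henselian local ring
-/

namespace Groth.Agent.Lib.T2H8.HensRed

open TensorProduct IsLocalRing Coalgebra

universe u

section HopfLift

variable {R : Type u} [CommRing R] [HenselianLocalRing R]
  {E : Type u} [CommRing E] [Algebra R E] [Module.Finite R E] [Algebra.Etale R E]
  {E₀ : Type u} [CommRing E₀] [HopfAlgebra (ResidueField R) E₀]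
  (θ : ResidueField R ⊗[R] E ≃ₐ[ResidueField R] E₀)

/-- lifts of the structure maps of the Hopf algebra `E₀` to `E` -/
structure HopfLift where
  Δ : E →ₐ[R] E ⊗[R] E
  ε : E →ₐ[R] R
  S : E →ₐ[R] E
  hΔ : Compat θ.toLinearEquiv (tens θ.toLinearEquiv θ.toLinearEquiv) Δ
    (comul (R := ResidueField R) (A := E₀))
  hε : Compat θ.toLinearEquiv (base R) ε (counit (R := ResidueField R) (A := E₀))
  hS : Compat θ.toLinearEquiv θ.toLinearEquiv S (HopfAlgebra.antipode (ResidueField R) (A := E₀))

theorem nonempty_hopfLift : Nonempty (HopfLift θ) := by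
  obtain ⟨Δ, hΔ⟩ := exists_algHom_compat θ (tensAlg θ θ) (Bialgebra.comulAlgHom (ResidueField R) E₀)
  obtain ⟨ε, hε⟩ := exists_algHom_compat θ (Algebra.TensorProduct.rid R (ResidueField R) (ResidueField R))
    (Bialgebra.counitAlgHom (ResidueField R) E₀)
  obtain ⟨S, hS⟩ := exists_algHom_compat θ θ (HopfAlgebra.antipodeAlgHom (ResidueField R) E₀)
  exact ⟨⟨Δ, ε, S, fun x => hΔ x, fun x => hε x, fun x => hS x⟩⟩

variable {θ}

theorem compat_id' {F F₀ : Type u} [AddCommGroup F] [Module R F] [AddCommGroup F₀]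
    [Module (ResidueField R) F₀] (Θ : ResidueField R ⊗[R] F ≃ₗ[ResidueField R] F₀) :
    Compat Θ Θ (LinearMap.id : F →ₗ[R] F) (LinearMap.id : F₀ →ₗ[ResidueField R] F₀) :=
  fun _ => rfl

theorem HopfLift.hΔ' (L : HopfLift θ) :
    Compat θ.toLinearEquiv (tens θ.toLinearEquiv θ.toLinearEquiv) L.Δ.toLinearMap
      (comul : E₀ →ₗ[ResidueField R] E₀ ⊗[ResidueField R] E₀) := L.hΔ

theorem HopfLift.hε' (L : HopfLift θ) :
    Compat θ.toLinearEquiv (base R) L.ε.toLinearMap
      (counit : E₀ →ₗ[ResidueField R] ResidueField R) := L.hε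

theorem HopfLift.hS' (L : HopfLift θ) :
    Compat θ.toLinearEquiv θ.toLinearEquiv L.S.toLinearMap
      (HopfAlgebra.antipode (ResidueField R) : E₀ →ₗ[ResidueField R] E₀) := L.hS

theorem HopfLift.coassoc (L : HopfLift θ) :
    (Algebra.TensorProduct.assoc R R R E E E).toAlgHom.comp
      ((Algebra.TensorProduct.map L.Δ (AlgHom.id R E)).comp L.Δ) =
    (Algebra.TensorProduct.map (AlgHom.id R E) L.Δ).comp L.Δ := by
  apply algHom_ext_of_rd (tens θ.toLinearEquiv (tens θ.toLinearEquiv θ.toLinearEquiv))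
  intro x
  have h1 := compat_assoc θ.toLinearEquiv θ.toLinearEquiv θ.toLinearEquiv
    (TensorProduct.map L.Δ.toLinearMap LinearMap.id (L.Δ x))
  have h2 := (L.hΔ'.map (compat_id' θ.toLinearEquiv)) (L.Δ x)
  have h3 := ((compat_id' θ.toLinearEquiv).map L.hΔ') (L.Δ x)
  have h4 := L.hΔ x
  change rd _ (TensorProduct.assoc R E E E
    (TensorProduct.map L.Δ.toLinearMap LinearMap.id (L.Δ x))) =
    rd _ (TensorProduct.map LinearMap.id L.Δ.toLinearMap (L.Δ x))
  rw [h1, h2, h3, h4]
  exact Coalgebra.coassoc_apply _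

theorem HopfLift.rTensor (L : HopfLift θ) :
    (Algebra.TensorProduct.map L.ε (AlgHom.id R E)).comp L.Δ =
      (Algebra.TensorProduct.lid R E).symm := by
  apply algHom_ext_of_rd (tens (base R) θ.toLinearEquiv)
  intro x
  have h2 := (L.hε'.map (compat_id' θ.toLinearEquiv)) (L.Δ x)
  have h4 := L.hΔ x
  change rd _ (TensorProduct.map L.ε.toLinearMap LinearMap.id (L.Δ x)) =
    rd _ ((1 : R) ⊗ₜ[R] x)
  rw [h2, h4, rd_tens_tmul, rd_base, map_one]
  exact Coalgebra.rTensor_counit_comul _

theorem HopfLift.lTensor (L : HopfLift θ) :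
    (Algebra.TensorProduct.map (AlgHom.id R E) L.ε).comp L.Δ =
      (Algebra.TensorProduct.rid R R E).symm := by
  apply algHom_ext_of_rd (tens θ.toLinearEquiv (base R))
  intro x
  have h2 := ((compat_id' θ.toLinearEquiv).map L.hε') (L.Δ x)
  have h4 := L.hΔ x
  change rd _ (TensorProduct.map LinearMap.id L.ε.toLinearMap (L.Δ x)) =
    rd _ (x ⊗ₜ[R] (1 : R))
  rw [h2, h4, rd_tens_tmul, rd_base, map_one]
  exact Coalgebra.lTensor_counit_comul _

theorem HopfLift.antipode_r (L : HopfLift θ) :
    (Algebra.TensorProduct.lmul' R).comp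
      ((Algebra.TensorProduct.map L.S (AlgHom.id R E)).comp L.Δ) =
      (Algebra.ofId R E).comp L.ε := by
  apply algHom_ext_of_rd θ.toLinearEquiv
  intro x
  have h1 := compat_mul' θ (TensorProduct.map L.S.toLinearMap LinearMap.id (L.Δ x))
  have h2 := (L.hS'.map (compat_id' θ.toLinearEquiv)) (L.Δ x)
  have h4 := L.hΔ x
  have h5 := compat_algebraMap θ (L.ε x)
  have h6 := L.hε x
  change rd _ (LinearMap.mul' R E (TensorProduct.map L.S.toLinearMap LinearMap.id (L.Δ x))) =
    rd _ (algebraMap R E (L.ε x))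
  rw [h1, h2, h4, h5, h6]
  exact HopfAlgebra.mul_antipode_rTensor_comul_apply _

theorem HopfLift.antipode_l (L : HopfLift θ) :
    (Algebra.TensorProduct.lmul' R).comp
      ((Algebra.TensorProduct.map (AlgHom.id R E) L.S).comp L.Δ) =
      (Algebra.ofId R E).comp L.ε := by
  apply algHom_ext_of_rd θ.toLinearEquiv
  intro x
  have h1 := compat_mul' θ (TensorProduct.map LinearMap.id L.S.toLinearMap (L.Δ x))
  have h2 := ((compat_id' θ.toLinearEquiv).map L.hS') (L.Δ x)
  have h4 := L.hΔ x
  have h5 := compat_algebraMap θ (L.ε x)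
  have h6 := L.hε x
  change rd _ (LinearMap.mul' R E (TensorProduct.map LinearMap.id L.S.toLinearMap (L.Δ x))) =
    rd _ (algebraMap R E (L.ε x))
  rw [h1, h2, h4, h5, h6]
  exact HopfAlgebra.mul_antipode_lTensor_comul_apply _

theorem HopfLift.comm [Coalgebra.IsCocomm (ResidueField R) E₀] (L : HopfLift θ) :
    (Algebra.TensorProduct.comm R E E).toAlgHom.comp L.Δ = L.Δ := by
  apply algHom_ext_of_rd (tens θ.toLinearEquiv θ.toLinearEquiv)
  intro x
  have h1 := compat_comm θ.toLinearEquiv θ.toLinearEquiv (L.Δ x)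
  have h4 := L.hΔ x
  change rd _ (TensorProduct.comm R E E (L.Δ x)) = rd _ (L.Δ x)
  rw [h1, h4]
  exact Coalgebra.comm_comul (ResidueField R) _

/-- the lifted bialgebra structure -/
noncomputable abbrev HopfLift.bialgebra (L : HopfLift θ) : Bialgebra R E :=
  Bialgebra.ofAlgHom L.Δ L.ε L.coassoc L.rTensor L.lTensor

/-- the lifted Hopf algebra structure -/
noncomputable abbrev HopfLift.hopfAlgebra (L : HopfLift θ) : HopfAlgebra R E :=
  { L.bialgebra with
    antipode := L.S.toLinearMap
    mul_antipode_rTensor_comul := congr(($(L.antipode_r)).toLinearMap)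
    mul_antipode_lTensor_comul := congr(($(L.antipode_l)).toLinearMap) }

theorem HopfLift.isCocomm [Coalgebra.IsCocomm (ResidueField R) E₀] (L : HopfLift θ) :
    letI := L.hopfAlgebra
    Coalgebra.IsCocomm R E := by
  letI := L.hopfAlgebra
  exact ⟨congr(($(L.comm)).toLinearMap)⟩

theorem HopfLift.counit_theta (L : HopfLift θ) (z : ResidueField R ⊗[R] E) :
    letI := L.hopfAlgebra
    counit (R := ResidueField R) (θ z) = counit (R := ResidueField R) z := by
  letI := L.hopfAlgebra
  induction z using TensorProduct.induction_on with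
  | zero => simp
  | add y z hy hz => simp only [map_add, hy, hz]
  | tmul s x =>
    have e : s ⊗ₜ[R] x = s • ((1 : ResidueField R) ⊗ₜ[R] x) := by
      rw [TensorProduct.smul_tmul', smul_eq_mul, mul_one]
    rw [e, map_smul, map_smul, map_smul]
    congr 1
    have h6 := L.hε x
    rw [rd_base] at h6
    change counit (R := ResidueField R) (rd θ.toLinearEquiv x) = _
    rw [← h6, TensorProduct.counit_tmul]
    change _ = (L.ε x) • (1 : ResidueField R)
    rw [Algebra.smul_def, mul_one]
    rfl

theorem HopfLift.comul_theta (L : HopfLift θ) (z : ResidueField R ⊗[R] E) :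
    letI := L.hopfAlgebra
    TensorProduct.map θ.toLinearMap θ.toLinearMap (comul (R := ResidueField R) z) =
      comul (R := ResidueField R) (θ z) := by
  letI := L.hopfAlgebra
  induction z using TensorProduct.induction_on with
  | zero => simp
  | add y z hy hz => simp only [map_add, hy, hz]
  | tmul s x =>
    have e : s ⊗ₜ[R] x = s • ((1 : ResidueField R) ⊗ₜ[R] x) := by
      rw [TensorProduct.smul_tmul', smul_eq_mul, mul_one]
    rw [e, map_smul, map_smul, map_smul, map_smul]
    congr 1
    have h4 := L.hΔ x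
    change _ = comul (R := ResidueField R) (rd θ.toLinearEquiv x)
    rw [← h4, ← rho₂_comul]
    rfl

end HopfLift

end Groth.Agent.Lib.T2H8.HensRed
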