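import Mathlib
import Groth.Prelude.Def_CartDual2
import Groth.Prelude.Def_SGA3b
import Groth.Agent.Lib.T2H8CDExD
import Groth.Agent.Lib.Helper18Inv

set_option autoImplicit false

/-!
# T2H8IsoC: a finite projective Hopf algebra whose Cartier dual is a split algebra over a
connected ring is diagonalisable
-/

namespace Groth.Agent.Lib.T2H8.Iso

open TensorProduct WithConv CartDual Coalgebra Groth.Agent.Lib.Helper18Inv

universe u

section Core

variable {S : Type u} [CommRing S] {H : Type u} [CommRing H] [HopfAlgebra S H]
  [Coalgebra.IsCocomm S H] [Module.Finite S H] [Module.Projective S H]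

theorem exists_rep (φ : D S H →ₗ[S] S) : ∃ h : H, ∀ x : D S H, φ x = x h := by
  let G : Module.Dual S (Module.Dual S H) := φ ∘ₗ (CartDual.toDual S H).symm.toLinearMap
  refine ⟨(Module.evalEquiv S H).symm G, fun x => ?_⟩
  have h1 := Module.apply_evalEquiv_symm_apply (R := S) (M := H) x.ofConv G
  exact h1.symm

theorem rep_unique (h h' : H) (hh : ∀ x : D S H, x h = x h') : h = h' := by
  rw [← sub_eq_zero, ← Module.forall_dual_apply_eq_zero_iff S]
  intro f
  have := hh (toConv f)
  change f h = f h' at this
  rw [map_sub, this, sub_self]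

theorem isGroupLikeElem_of_algHom (p : D S H →ₐ[S] S) (g : H) (hg : ∀ x, p x = x g) :
    IsGroupLikeElem S g := by
  constructor
  · have h1 := hg 1
    rw [map_one] at h1
    rw [h1]
    rfl
  · apply Groth.Agent.Lib.T2H8.CDEx.tensor_eq_of_forall_dual
    intro x y
    have h1 := hg (toConv x * toConv y)
    rw [map_mul, hg, hg] at h1
    change x g * y g = LinearMap.mul' S S (TensorProduct.map x y (comul g)) at h1
    rw [← h1, TensorProduct.map_tmul, LinearMap.mul'_apply]

/-- evaluation at a group-like element is an algebra map on the dual -/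
noncomputable def evalAlgHom (g : H) (hg : IsGroupLikeElem S g) : D S H →ₐ[S] S :=
  AlgHom.ofLinearMap ((LinearMap.applyₗ g) ∘ₗ (CartDual.toDual S H).toLinearMap)
    (by
      change (1 : D S H) g = 1
      rw [LinearMap.convOne_apply, hg.counit_eq_one]
      rfl)
    (fun x y => by
      change (x * y) g = x g * y g
      rw [LinearMap.convMul_apply, hg.comul_eq_tmul_self, TensorProduct.map_tmul,
        LinearMap.mul'_apply])

theorem evalAlgHom_apply (g : H) (hg : IsGroupLikeElem S g) (x : D S H) :
    evalAlgHom g hg x = x g := rfl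

set_option maxHeartbeats 800000 in
theorem isDiag_of_split (hconn : ConnRing S) (n : ℕ) (e : D S H ≃ₐ[S] (Fin n → S)) :
    SGA3b.IsDiag S H := by
  classical
  haveI : Nontrivial S := hconn.1
  -- the projections and their representing group-like elements
  let p : Fin n → (D S H →ₐ[S] S) := fun j =>
    (Pi.evalAlgHom S (fun _ : Fin n => S) j).comp e.toAlgHom
  have hp : ∀ j x, p j x = e x j := fun j x => rfl
  choose g hg using fun j => exists_rep (S := S) (H := H) (p j).toLinearMap
  have hg' : ∀ j x, x (g j) = e x j := fun j x => by rw [← hp]; exact (hg j x).symm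
  have hgl : ∀ j, IsGroupLikeElem S (g j) := fun j =>
    isGroupLikeElem_of_algHom (p j) (g j) (fun x => hg j x)
  let γ : Fin n → GroupLike S H := fun j => ⟨g j, hgl j⟩
  -- the idempotent basis of the dual
  let b : Fin n → D S H := fun j => e.symm (Pi.single j 1)
  have hb : ∀ i j, b i (g j) = if j = i then 1 else 0 := by
    intro i j
    rw [hg', AlgEquiv.apply_symm_apply, Pi.single_apply]
  -- every group-like element is one of the `g j`
  have hsurj : ∀ m : GroupLike S H, ∃ j, γ j = m := by
    intro m
    let φ : (Fin n → S) →ₐ[S] S := (evalAlgHom m.1 m.2).comp e.symm.toAlgHom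
    obtain ⟨i, hi, -⟩ := eval_of_connected hconn φ
    refine ⟨i, ?_⟩
    apply GroupLike.val_injective
    change g i = m.1
    apply rep_unique (S := S)
    intro x
    rw [hg']
    have := hi (e x)
    change evalAlgHom m.1 m.2 (e.symm (e x)) = _ at this
    rw [AlgEquiv.symm_apply_apply, evalAlgHom_apply] at this
    rw [this]
    rfl
  -- expansion of an element of `H`
  have hexp : ∀ h : H, h = ∑ j, (b j h) • g j := by
    intro h
    apply rep_unique (S := S)
    intro x
    have hx : x = ∑ j, (e x j) • b j := by
      apply e.injective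
      rw [map_sum]
      simp only [map_smul, b, AlgEquiv.apply_symm_apply]
      funext i
      rw [Finset.sum_apply]
      simp [Pi.single_apply]
    have h1 : ∀ y : H, x y = ∑ j, e x j * b j y := by
      intro y
      conv_lhs => rw [hx]
      change (∑ j, (e x j) • b j).ofConv y = _
      rw [WithConv.ofConv_sum, LinearMap.sum_apply]
      rfl
    rw [h1 h]
    change _ = x.ofConv (∑ j, (b j h) • g j)
    rw [map_sum]
    refine Finset.sum_congr rfl fun j _ => ?_
    rw [map_smul, smul_eq_mul, mul_comm]
    congr 1
    exact (hg' j x).symm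
  refine ⟨GroupLike S H, inferInstance, ⟨(BialgEquiv.ofBijective
    (MonoidAlgebra.liftGroupLikeBialgHom (R := S) (A := H)) ⟨?_, ?_⟩).symm⟩⟩
  · -- injective
    rw [injective_iff_map_eq_zero]
    intro z hz
    ext m
    obtain ⟨i, rfl⟩ := hsurj m
    have h1 : (b i) (MonoidAlgebra.liftGroupLikeBialgHom (R := S) (A := H) z) = 0 := by
      rw [hz]; exact map_zero (b i).ofConv
    rw [MonoidAlgebra.liftGroupLikeBialgHom_apply, MonoidAlgebra.lift_apply] at h1
    change (b i).ofConv (Finsupp.sum z.coeff fun a c => c • (a : H)) = 0 at h1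
    rw [Finsupp.sum, map_sum] at h1
    have h2 : ∀ m' ∈ z.coeff.support, (b i).ofConv (z.coeff m' • (m' : H)) =
        if m' = γ i then z.coeff m' else 0 := by
      intro m' _
      obtain ⟨j, rfl⟩ := hsurj m'
      rw [map_smul]
      change z.coeff (γ j) • (b i (g j)) = _
      rw [hb]
      by_cases hji : j = i
      · subst hji; simp
      · have : γ j ≠ γ i := by
          intro hc
          apply hji
          have h3 := hb j j
          have h4 : g j = g i := congrArg GroupLike.val hc
          rw [h4, hb] at h3
          by_contra hne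
          rw [if_neg (fun h => hne h.symm), if_pos rfl] at h3
          exact zero_ne_one h3
        rw [if_neg hji, if_neg this, smul_zero]
    rw [Finset.sum_congr rfl h2, Finset.sum_ite_eq'] at h1
    by_cases hmem : γ i ∈ z.coeff.support
    · rw [if_pos hmem] at h1
      exact h1
    · exact Finsupp.notMem_support_iff.mp hmem
  · -- surjective
    intro h
    refine ⟨∑ j, MonoidAlgebra.single (γ j) (b j h), ?_⟩
    rw [map_sum]
    conv_rhs => rw [hexp h]
    refine Finset.sum_congr rfl fun j _ => ?_
    rw [MonoidAlgebra.liftGroupLikeBialgHom_apply, MonoidAlgebra.lift_single]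
    rfl

end Core

end Groth.Agent.Lib.T2H8.Iso
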