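import Mathlib
import Groth.Prelude.Def_CartDual2
import Groth.Prelude.Def_SGA3b
import Groth.Agent.Lib.T2H8IsoB
import Groth.Agent.Lib.T2H8IsoC

set_option autoImplicit false

/-!
# T2H8IsoD: étale Cartier dual ⇔ isotrivial (finite projective, connected Noetherian base)
-/

namespace Groth.Agent.Lib.T2H8.Iso

open TensorProduct WithConv CartDual Coalgebra Groth.Agent.Lib.Helper18Inv

universe u

section Main

variable (R : Type u) [CommRing R] (A : Type u) [CommRing A] [HopfAlgebra R A]
  [Coalgebra.IsCocomm R A] [Module.Finite R A] [Module.Projective R A]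

theorem isIsotrivial_of_etale_dual [IsNoetherianRing R] [ConnectedSpace (PrimeSpectrum R)]
    (h : Algebra.Etale R (CartDual.D R A)) : SGA3b.IsIsotrivial R A := by
  haveI := h
  obtain ⟨L, _, _, hff, hfin, het, hconn, hsplit⟩ :=
    exists_connected_split (R := R) (A := CartDual.D R A)
  obtain ⟨n, ⟨e0⟩⟩ := hsplit.nonempty_algEquiv_fun
  let e : CartDual.D L (L ⊗[R] A) ≃ₐ[L] (Fin n → L) := (psiEquiv R L A).symm.trans e0
  exact ⟨L, inferInstance, inferInstance, het, hfin, hff, isDiag_of_split hconn n e⟩

theorem etale_dual_of_isIsotrivial [Nontrivial R] (h : SGA3b.IsIsotrivial R A) :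
    Algebra.Etale R (CartDual.D R A) := by
  classical
  obtain ⟨R', _, _, het, hfin, hff, M, _, ⟨φ⟩⟩ := h
  haveI := hff
  haveI : Nontrivial R' := (FaithfulSMul.algebraMap_injective R R').nontrivial
  -- the group-like basis of `R' ⊗ A`
  let g : M → R' ⊗[R] A := fun m => φ.symm (MonoidAlgebra.single m 1)
  have hg : ∀ m, IsGroupLikeElem R' (g m) := fun m =>
    (MonoidAlgebra.isGroupLikeElem_single_one (R := R') (A := R') m).map φ.symm
  let B : Module.Basis M R' (R' ⊗[R] A) :=
    (MonoidAlgebra.basis M R').map φ.symm.toLinearEquiv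
  have hB : ∀ m, B m = g m := fun m => rfl
  haveI : Finite M := Module.Finite.finite_basis B
  let Θ : CartDual.D R' (R' ⊗[R] A) →ₐ[R'] (M → R') :=
    Pi.algHom R' (fun _ => R') (fun m => evalAlgHom (g m) (hg m))
  have hΘ : ∀ x m, Θ x m = x (g m) := fun x m => rfl
  have hbij : Function.Bijective Θ := by
    constructor
    · rw [injective_iff_map_eq_zero]
      intro x hx
      apply WithConv.ext
      apply B.ext
      intro m
      rw [hB]
      have := congrFun hx m
      rw [hΘ] at this
      exact this
    · intro c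
      refine ⟨toConv (B.constr R' c), ?_⟩
      funext m
      rw [hΘ, ← hB]
      exact B.constr_basis R' c m
  let E : (R' ⊗[R] CartDual.D R A) ≃ₐ[R'] (M → R') :=
    (psiEquiv R R' A).trans (AlgEquiv.ofBijective Θ hbij)
  haveI : Algebra.Etale R' (M → R') := inferInstance
  haveI : Algebra.Etale R' (R' ⊗[R] CartDual.D R A) := Algebra.Etale.of_equiv E.symm
  exact Algebra.Etale.of_etale_tensorProduct_of_faithfullyFlat R'

end Main

end Groth.Agent.Lib.T2H8.Iso
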