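import Mathlib
import Groth.Prelude.Def_CartDual2
import Groth.Prelude.Def_SGA3b
import Groth.Agent.Lib.Helper25SubDiag
import Groth.Agent.Lib.T2H8IsoD

set_option autoImplicit false

/-!
# T2H8IsoE: a finite Hopf algebra of multiplicative type is cocommutative, projective, and has
étale Cartier dual
-/

namespace Groth.Agent.Lib.T2H8.Iso

open TensorProduct WithConv CartDual Coalgebra Groth.Agent.Lib.Helper25.SubDiag

universe u

section Cover

variable {R : Type u} [CommRing R]

/-- an element of a module which dies on every member of an fpqc cover `(R_f → S_f)` is zero -/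
theorem eq_zero_of_cover (s : Set R) (hs : Ideal.span s = ⊤) {M : Type u} [AddCommGroup M]
    [Module R M] (m : M)
    (h : ∀ f ∈ s, ∃ (S : Type u) (_ : CommRing S) (_ : Algebra R S)
      (_ : Algebra (Localization.Away f) S), IsScalarTower R (Localization.Away f) S ∧
        Module.FaithfullyFlat (Localization.Away f) S ∧ (1 : S) ⊗ₜ[R] m = 0) : m = 0 := by
  have hmem : m ∈ (⊥ : Submodule R M) := by
    refine Submodule.mem_of_span_eq_top_of_smul_pow_mem ⊥ s hs m (fun r => ?_)
    obtain ⟨S, _, _, _, _, hff, hz⟩ := h r.1 r.2
    haveI := hff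
    -- `1 ⊗ m = 0` in `R_f ⊗ M`
    have h1 : (1 : Localization.Away r.1) ⊗ₜ[R] m = 0 := by
      have hinj := Module.FaithfullyFlat.tensorProduct_mk_injective
        (A := Localization.Away r.1) (B := S) (Localization.Away r.1 ⊗[R] M)
      apply hinj
      rw [map_zero]
      have e := (AlgebraTensorModule.cancelBaseChange R (Localization.Away r.1) S S M).injective
      apply e
      rw [map_zero]
      change (AlgebraTensorModule.cancelBaseChange R (Localization.Away r.1) S S M)
        ((1 : S) ⊗ₜ[Localization.Away r.1] ((1 : Localization.Away r.1) ⊗ₜ[R] m)) = 0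
      rw [AlgebraTensorModule.cancelBaseChange_tmul, one_smul]
      exact hz
    have h2 := (IsLocalizedModule.eq_zero_iff (Submonoid.powers r.1)
      (TensorProduct.mk R (Localization.Away r.1) M 1)).mp h1
    obtain ⟨⟨c, n, hn⟩, hc⟩ := h2
    refine ⟨n, ?_⟩
    rw [Submodule.mem_bot]
    have : c • m = 0 := hc
    rw [← hn] at this
    exact this
  exact (Submodule.mem_bot R).mp hmem

end Cover

section Cocomm

theorem isCocomm_of_equiv {S : Type*} [CommRing S] {H H' : Type*} [CommRing H] [CommRing H']
    [Bialgebra S H] [Bialgebra S H'] (e : H ≃ₐc[S] H') [Coalgebra.IsCocomm S H'] :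
    Coalgebra.IsCocomm S H := by
  constructor
  apply LinearMap.ext
  intro h
  rw [LinearMap.comp_apply]
  have hinj : Function.Injective (TensorProduct.map (e : H →ₗ[S] H') (e : H →ₗ[S] H')) := by
    have : (TensorProduct.map (e : H →ₗ[S] H') (e : H →ₗ[S] H')) =
        (TensorProduct.congr e.toLinearEquiv e.toLinearEquiv).toLinearMap := rfl
    rw [this]
    exact (TensorProduct.congr e.toLinearEquiv e.toLinearEquiv).injective
  apply hinj
  have h1 : ∀ z : H ⊗[S] H, TensorProduct.map (e : H →ₗ[S] H') (e : H →ₗ[S] H')
      (TensorProduct.comm S H H z) =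
      TensorProduct.comm S H' H' (TensorProduct.map (e : H →ₗ[S] H') (e : H →ₗ[S] H') z) := by
    intro z
    induction z using TensorProduct.induction_on with
    | zero => simp
    | add x y hx hy => simp only [map_add, hx, hy]
    | tmul x y => simp
  have h2 : TensorProduct.map (e : H →ₗ[S] H') (e : H →ₗ[S] H') (comul h) = comul (e h) :=
    CoalgHomClass.map_comp_comul_apply e h
  change TensorProduct.map (e : H →ₗ[S] H') (e : H →ₗ[S] H') (TensorProduct.comm S H H (comul h)) = _
  rw [h1, h2]
  exact LinearMap.congr_fun (Coalgebra.comm_comp_comul S H') (e h)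

variable {R : Type u} [CommRing R] {A : Type u} [CommRing A] [HopfAlgebra R A]

open Groth.Agent.Lib.T2H8.Idx in
theorem isCocomm_of_cover (hcov : HasDiagCover R A) : Coalgebra.IsCocomm R A := by
  obtain ⟨s, hs, h⟩ := hcov
  constructor
  apply LinearMap.ext
  intro a
  rw [LinearMap.comp_apply, ← sub_eq_zero]
  apply eq_zero_of_cover s hs
  intro f hf
  obtain ⟨S, _, _, _, htower, hff, M, _, ⟨ε⟩⟩ := h f hf
  refine ⟨S, inferInstance, inferInstance, inferInstance, htower, hff, ?_⟩
  haveI : Coalgebra.IsCocomm S (S ⊗[R] A) := isCocomm_of_equiv ε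
  apply (Theta (A := A) (C := A) S).injective
  rw [map_zero, TensorProduct.tmul_sub, map_sub, sub_eq_zero]
  have h1 : ∀ z : A ⊗[R] A, Theta (A := A) (C := A) S ((1 : S) ⊗ₜ[R] (TensorProduct.comm R A A z)) =
      TensorProduct.comm S _ _ (Theta (A := A) (C := A) S ((1 : S) ⊗ₜ[R] z)) := by
    intro z
    induction z using TensorProduct.induction_on with
    | zero => simp
    | add x y hx hy => simp only [map_add, TensorProduct.tmul_add, hx, hy]
    | tmul x y =>
      change Theta (A := A) (C := A) S ((1 : S) ⊗ₜ[R] (y ⊗ₜ[R] x)) = _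
      rw [Theta_tmul, Theta_tmul]
      rfl
  have h2 : Theta (A := A) (C := A) S ((1 : S) ⊗ₜ[R] (comul a)) =
      comul (R := S) ((1 : S) ⊗ₜ[R] a) := by
    rw [comul_one_tmul (R := R) (A := A) S a]
    conv_lhs => rw [← (ℛ R a).eq]
    rw [TensorProduct.tmul_sum, map_sum]
    refine Finset.sum_congr rfl fun i _ => ?_
    rw [Theta_tmul]
  change Theta (A := A) (C := A) S ((1 : S) ⊗ₜ[R] (TensorProduct.comm R A A (comul a))) = _
  rw [h1, h2]
  exact LinearMap.congr_fun (Coalgebra.comm_comp_comul S (S ⊗[R] A)) _

end Cocomm

section Proj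

/-- finite presentation of a finite module descends along faithfully flat maps -/
theorem finitePresentation_of_faithfullyFlat (R S M : Type*) [CommRing R] [CommRing S]
    [Algebra R S] [Module.FaithfullyFlat R S] [AddCommGroup M] [Module R M] [Module.Finite R M]
    [Module.FinitePresentation S (S ⊗[R] M)] : Module.FinitePresentation R M := by
  obtain ⟨n, f, fsurj⟩ := Module.Finite.exists_fin' R M
  rw [← Module.FinitePresentation.fg_ker_iff f fsurj]
  have hsurj : Function.Surjective (f.baseChange S) := by
    have : (f.baseChange S : S ⊗[R] (Fin n → R) → S ⊗[R] M) = LinearMap.lTensor S f := rfl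
    rw [this]
    exact LinearMap.lTensor_surjective S fsurj
  have hfg : (LinearMap.ker (f.baseChange S)).FG := Module.FinitePresentation.fg_ker _ hsurj
  have hinj : Function.Injective (LinearMap.lTensor S (LinearMap.ker f).subtype) :=
    Module.Flat.lTensor_preserves_injective_linearMap _ Subtype.val_injective
  have hex : Function.Exact (LinearMap.lTensor S (LinearMap.ker f).subtype) (LinearMap.lTensor S f) :=
    Module.Flat.lTensor_exact S (LinearMap.exact_subtype_ker_map f)
  haveI : Module.Finite S (S ⊗[R] (LinearMap.ker f)) := by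
    -- the base change of the kernel maps isomorphically onto the kernel of the base change
    let g : S ⊗[R] (LinearMap.ker f) →ₗ[S] LinearMap.ker (f.baseChange S) :=
      LinearMap.codRestrict _ ((LinearMap.ker f).subtype.baseChange S) (fun z => by
        rw [LinearMap.mem_ker]
        exact (hex _).mpr ⟨z, rfl⟩)
    have hg : Function.Bijective g := by
      constructor
      · intro x y hxy
        apply hinj
        exact congrArg Subtype.val hxy
      · rintro ⟨z, hz⟩
        obtain ⟨w, hw⟩ := (hex z).mp hz
        exact ⟨w, Subtype.ext hw⟩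
    haveI : Module.Finite S (LinearMap.ker (f.baseChange S)) := Module.Finite.iff_fg.mpr hfg
    exact Module.Finite.equiv (LinearEquiv.ofBijective g hg).symm
  haveI : Module.Finite R (LinearMap.ker f) :=
    Module.Finite.of_finite_tensorProduct_of_faithfullyFlat S
  exact Module.Finite.iff_fg.mp inferInstance

end Proj

section ProjCover

variable {R : Type u} [CommRing R] {A : Type u} [CommRing A] [HopfAlgebra R A]

/-- the base change of `A` to a member of the cover is free -/
theorem free_of_isDiag {S : Type u} [CommRing S] {H : Type u} [CommRing H] [HopfAlgebra S H]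
    (h : SGA3b.IsDiag S H) : Module.Free S H := by
  obtain ⟨M, _, ⟨ε⟩⟩ := h
  exact Module.Free.of_equiv ε.toLinearEquiv.symm

theorem flat_of_cover (hcov : HasDiagCover R A) : Module.Flat R A := by
  obtain ⟨s, hs, h⟩ := hcov
  refine Module.flat_of_isLocalized_span (R := R) (S := R) (M := A) s hs
    (fun r => Localization.Away r.1 ⊗[R] A)
    (fun r => TensorProduct.mk R (Localization.Away r.1) A 1) (fun r => ?_)
  obtain ⟨S, _, _, _, htower, hff, hD⟩ := h r.1 r.2
  haveI := hff
  haveI := htower
  haveI : Module.Free S (S ⊗[R] A) := free_of_isDiag hD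
  haveI : Module.Flat S (S ⊗[Localization.Away r.1] (Localization.Away r.1 ⊗[R] A)) :=
    Module.Flat.of_linearEquiv
      (AlgebraTensorModule.cancelBaseChange R (Localization.Away r.1) S S A)
  haveI : Module.Flat (Localization.Away r.1) (Localization.Away r.1 ⊗[R] A) :=
    Module.Flat.of_flat_tensorProduct _ _ S
  exact Module.Flat.trans R (Localization.Away r.1) _

theorem finitePresentation_of_cover [Module.Finite R A] (hcov : HasDiagCover R A) :
    Module.FinitePresentation R A := by
  obtain ⟨s, hs, h⟩ := hcov
  refine Module.FinitePresentation.of_localizationSpan' s hs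
    (Rₚ := fun r => Localization.Away r.1) (Mₚ := fun r => Localization.Away r.1 ⊗[R] A)
    (fun r => TensorProduct.mk R (Localization.Away r.1) A 1) (fun r => ?_)
  obtain ⟨S, _, _, _, htower, hff, hD⟩ := h r.1 r.2
  haveI := hff
  haveI := htower
  haveI : Module.Free S (S ⊗[R] A) := free_of_isDiag hD
  haveI : Module.FinitePresentation S (S ⊗[R] A) := Module.finitePresentation_of_projective _ _
  haveI : Module.FinitePresentation S
      (S ⊗[Localization.Away r.1] (Localization.Away r.1 ⊗[R] A)) :=
    Module.FinitePresentation.of_equiv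
      (AlgebraTensorModule.cancelBaseChange R (Localization.Away r.1) S S A).symm
  exact finitePresentation_of_faithfullyFlat (Localization.Away r.1) S _

theorem projective_of_cover [Module.Finite R A] (hcov : HasDiagCover R A) :
    Module.Projective R A := by
  haveI := flat_of_cover hcov
  haveI := finitePresentation_of_cover hcov
  exact Module.Flat.projective_of_finitePresentation

end ProjCover

section EtaleDual

theorem etale_dual_of_isDiag {S : Type u} [CommRing S] {H : Type u} [CommRing H] [HopfAlgebra S H]
    [Coalgebra.IsCocomm S H] [Module.Finite S H] [Module.Projective S H]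
    (h : SGA3b.IsDiag S H) : Algebra.Etale S (CartDual.D S H) := by
  classical
  rcases subsingleton_or_nontrivial S with hS | hS
  · haveI : Algebra.IsFiniteSplit S (CartDual.D S H) := Algebra.IsFiniteSplit.of_subsingleton
    infer_instance
  obtain ⟨M, _, ⟨φ⟩⟩ := h
  let g : M → H := fun m => φ.symm (MonoidAlgebra.single m 1)
  have hg : ∀ m, IsGroupLikeElem S (g m) := fun m =>
    (MonoidAlgebra.isGroupLikeElem_single_one (R := S) (A := S) m).map φ.symm
  let B : Module.Basis M S H := (MonoidAlgebra.basis M S).map φ.symm.toLinearEquiv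
  have hB : ∀ m, B m = g m := fun m => rfl
  haveI : Finite M := Module.Finite.finite_basis B
  let Θ : CartDual.D S H →ₐ[S] (M → S) :=
    Pi.algHom S (fun _ => S) (fun m => evalAlgHom (g m) (hg m))
  have hΘ : ∀ x m, Θ x m = x (g m) := fun x m => rfl
  have hbij : Function.Bijective Θ := by
    constructor
    · rw [injective_iff_map_eq_zero]
      intro x hx
      apply WithConv.ext
      apply B.ext
      intro m
      rw [hB]
      have := congrFun hx m
      rw [hΘ] at this
      exact this
    · intro c
      refine ⟨toConv (B.constr S c), ?_⟩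
      funext m
      rw [hΘ, ← hB]
      exact B.constr_basis S c m
  haveI : Algebra.Etale S (M → S) := inferInstance
  exact Algebra.Etale.of_equiv (AlgEquiv.ofBijective Θ hbij).symm

variable {R : Type u} [CommRing R] {A : Type u} [CommRing A] [HopfAlgebra R A]
  [Coalgebra.IsCocomm R A] [Module.Finite R A] [Module.Projective R A]

attribute [local instance] Algebra.TensorProduct.rightAlgebra in
theorem etale_dual_of_cover (hcov : HasDiagCover R A) : Algebra.Etale R (CartDual.D R A) := by
  obtain ⟨s, hs, h⟩ := hcov
  haveI : Module.FinitePresentation R (CartDual.D R A) := Module.finitePresentation_of_projective _ _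
  haveI : Algebra.FinitePresentation R (CartDual.D R A) := inferInstance
  haveI : Module.Flat R (CartDual.D R A) := inferInstance
  haveI : Algebra.FormallyUnramified R (CartDual.D R A) := by
    constructor
    refine ⟨fun ω ω' => ?_⟩
    rw [← sub_eq_zero]
    apply eq_zero_of_cover s hs
    intro f hf
    obtain ⟨S, _, _, _, htower, hff, hD⟩ := h f hf
    refine ⟨S, inferInstance, inferInstance, inferInstance, htower, hff, ?_⟩
    haveI : Algebra.Etale S (CartDual.D S (S ⊗[R] A)) := etale_dual_of_isDiag hD
    haveI : Algebra.Etale S (S ⊗[R] CartDual.D R A) :=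
      Algebra.Etale.of_equiv (psiEquiv R S A).symm
    haveI : Subsingleton (Ω[(S ⊗[R] CartDual.D R A)⁄S]) := inferInstance
    haveI : Subsingleton (S ⊗[R] Ω[(CartDual.D R A)⁄R]) :=
      (KaehlerDifferential.tensorKaehlerEquivBase R S (CartDual.D R A)
        (S ⊗[R] CartDual.D R A)).subsingleton
    exact Subsingleton.elim _ _
  exact Algebra.Etale.of_formallyUnramified_of_flat

end EtaleDual

end Groth.Agent.Lib.T2H8.Iso
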