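import Mathlib
import Groth.Agent.Lib.Helper18Inv

set_option autoImplicit false

/-!
# T2H8IsoF: over a connected base (no Noetherian hypothesis), a finite étale algebra is split by
a connected finite étale faithfully flat cover
-/

namespace Groth.Agent.Lib.T2H8.Iso

open TensorProduct Groth.Agent.Lib.Helper18Inv Groth.Agent.Lib.Helper18FEtAlg

universe u

section Split

variable {R : Type u} [CommRing R]

theorem rank_pos_of_connected [ConnectedSpace (PrimeSpectrum R)] (T : Type u) [CommRing T]
    [Algebra R T] [Module.Finite R T] [Algebra.Etale R T] [Nontrivial T] (p : PrimeSpectrum R) :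
    0 < Module.rankAtStalk T p := by
  haveI : Module.FinitePresentation R T :=
    Module.FinitePresentation.of_finite_of_finitePresentation _ _
  haveI : Module.Flat R T := inferInstance
  rw [Nat.pos_iff_ne_zero]
  intro h0
  have : Module.rankAtStalk (R := R) T = 0 := by
    funext P'
    rw [(Module.isLocallyConstant_rankAtStalk (R := R) (M := T)).apply_eq_of_preconnectedSpace
      P' p, h0]
    rfl
  rw [Module.rankAtStalk_eq_zero_iff_subsingleton] at this
  exact not_subsingleton T this

/-- `T ≃ T/(e) × T/(1-e)` for an idempotent `e`, as `R`-modules -/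
theorem exists_linearEquiv_prod_of_idem (T : Type u) [CommRing T] [Algebra R T] {e : T}
    (he : IsIdempotentElem e) :
    Nonempty (T ≃ₗ[R] (T ⧸ Ideal.span {e}) × (T ⧸ Ideal.span {1 - e})) := by
  let φ : T →ₗ[R] (T ⧸ Ideal.span {e}) × (T ⧸ Ideal.span {1 - e}) :=
    LinearMap.prod (Ideal.Quotient.mkₐ R (Ideal.span {e})).toLinearMap
      (Ideal.Quotient.mkₐ R (Ideal.span {1 - e})).toLinearMap
  have hφ : ∀ x, φ x = (Ideal.Quotient.mk _ x, Ideal.Quotient.mk _ x) := fun x => rfl
  have hee : e * (1 - e) = 0 := by rw [mul_sub, mul_one, he.eq, sub_self]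
  refine ⟨LinearEquiv.ofBijective φ ⟨?_, ?_⟩⟩
  · rw [injective_iff_map_eq_zero]
    intro x hx
    rw [hφ, Prod.mk_eq_zero, Ideal.Quotient.eq_zero_iff_mem, Ideal.Quotient.eq_zero_iff_mem,
      Ideal.mem_span_singleton', Ideal.mem_span_singleton'] at hx
    obtain ⟨⟨a, ha⟩, ⟨b, hb⟩⟩ := hx
    have h1 : x * (1 - e) = 0 := by rw [← ha, mul_assoc, hee, mul_zero]
    have h2 : x * e = 0 := by
      rw [← hb, mul_assoc, mul_comm (1 - e) e, hee, mul_zero]
    calc x = x * (1 - e) + x * e := by ring
      _ = 0 := by rw [h1, h2, add_zero]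
  · rintro ⟨a, b⟩
    obtain ⟨a', rfl⟩ := Ideal.Quotient.mk_surjective a
    obtain ⟨b', rfl⟩ := Ideal.Quotient.mk_surjective b
    refine ⟨a' * (1 - e) + b' * e, ?_⟩
    rw [hφ, Prod.mk.injEq]
    constructor
    · rw [Ideal.Quotient.eq, Ideal.mem_span_singleton']
      exact ⟨b' - a', by ring⟩
    · rw [Ideal.Quotient.eq, Ideal.mem_span_singleton']
      exact ⟨a' - b', by ring⟩

theorem span_idem_ne_top {T : Type u} [CommRing T] {e : T} (he : IsIdempotentElem e) (h1 : e ≠ 1) :
    Ideal.span {e} ≠ ⊤ := by
  intro htop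
  have h : (1 : T) ∈ Ideal.span {e} := by rw [htop]; trivial
  obtain ⟨t, ht⟩ := Ideal.mem_span_singleton'.1 h
  apply h1
  calc e = (t * e) * e := by rw [ht, one_mul]
    _ = t * (e * e) := by ring
    _ = t * e := by rw [he.eq]
    _ = 1 := ht

theorem exists_connected_quotient [ConnectedSpace (PrimeSpectrum R)] (p₀ : PrimeSpectrum R) :
    ∀ (n : ℕ) (T : Type u) [CommRing T] [Algebra R T] [Module.Finite R T] [Algebra.Etale R T]
      [Nontrivial T], Module.rankAtStalk T p₀ ≤ n →
      ∃ (L : Type u) (_ : CommRing L) (_ : Algebra T L), Function.Surjective (algebraMap T L) ∧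
        Algebra.Etale T L ∧ ConnRing L := by
  intro n
  induction n with
  | zero =>
    intro T _ _ _ _ _ hr
    have := rank_pos_of_connected T p₀
    omega
  | succ n ih =>
    intro T _ _ _ _ _ hr
    by_cases hconn : ∀ e : T, IsIdempotentElem e → e = 0 ∨ e = 1
    · exact ⟨T, inferInstance, Algebra.id T, Function.surjective_id, inferInstance,
        ⟨inferInstance, hconn⟩⟩
    · push_neg at hconn
      obtain ⟨e, he, he0, he1⟩ := hconn
      -- the two factors
      haveI : Algebra.Etale T (T ⧸ Ideal.span {e}) := etale_quot_idem he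
      haveI : Algebra.Etale T (T ⧸ Ideal.span {1 - e}) := etale_quot_idem he.one_sub
      haveI : Algebra.Etale R (T ⧸ Ideal.span {e}) := Algebra.Etale.comp R T _
      haveI : Algebra.Etale R (T ⧸ Ideal.span {1 - e}) := Algebra.Etale.comp R T _
      haveI : Module.Finite R (T ⧸ Ideal.span {e}) :=
        Module.Finite.of_surjective (Ideal.Quotient.mkₐ R (Ideal.span {e})).toLinearMap
          Ideal.Quotient.mk_surjective
      haveI : Module.Finite R (T ⧸ Ideal.span {1 - e}) :=
        Module.Finite.of_surjective (Ideal.Quotient.mkₐ R (Ideal.span {1 - e})).toLinearMap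
          Ideal.Quotient.mk_surjective
      haveI : Nontrivial (T ⧸ Ideal.span {e}) :=
        Ideal.Quotient.nontrivial_iff.mpr (span_idem_ne_top he he1)
      haveI : Nontrivial (T ⧸ Ideal.span {1 - e}) :=
        Ideal.Quotient.nontrivial_iff.mpr (span_idem_ne_top he.one_sub (fun h => he0 (by
          have : e = 1 - (1 - e) := by ring
          rw [this, h, sub_self])))
      haveI : Module.Flat R (T ⧸ Ideal.span {e}) := inferInstance
      haveI : Module.Flat R (T ⧸ Ideal.span {1 - e}) := inferInstance
      obtain ⟨ε⟩ := exists_linearEquiv_prod_of_idem (R := R) T he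
      have h1 : Module.rankAtStalk T p₀ = Module.rankAtStalk (T ⧸ Ideal.span {e}) p₀ +
          Module.rankAtStalk (T ⧸ Ideal.span {1 - e}) p₀ := by
        rw [Module.rankAtStalk_eq_of_equiv ε, Module.rankAtStalk_prod]
        rfl
      have h2 := rank_pos_of_connected (T ⧸ Ideal.span {1 - e}) p₀
      have h3 : Module.rankAtStalk (T ⧸ Ideal.span {e}) p₀ ≤ n := by omega
      obtain ⟨L, _, _, hsurj, het, hL⟩ := ih (T ⧸ Ideal.span {e}) h3
      letI : Algebra T L :=
        ((algebraMap (T ⧸ Ideal.span {e}) L).comp (algebraMap T (T ⧸ Ideal.span {e}))).toAlgebra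
      haveI : IsScalarTower T (T ⧸ Ideal.span {e}) L :=
        IsScalarTower.of_algebraMap_eq (fun _ => rfl)
      refine ⟨L, inferInstance, inferInstance, ?_, Algebra.Etale.comp T (T ⧸ Ideal.span {e}) L, hL⟩
      exact hsurj.comp Ideal.Quotient.mk_surjective

theorem exists_connected_split' {A : Type u} [ConnectedSpace (PrimeSpectrum R)]
    [CommRing A] [Algebra R A] [Module.Finite R A] [Algebra.Etale R A] :
    ∃ (L : Type u) (_ : CommRing L) (_ : Algebra R L) (_ : Module.FaithfullyFlat R L)
      (_ : Module.Finite R L) (_ : Algebra.Etale R L),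
      ConnRing L ∧ Algebra.IsFiniteSplit L (L ⊗[R] A) := by
  haveI : Module.FinitePresentation R A :=
    Module.FinitePresentation.of_finite_of_finitePresentation _ _
  haveI : Module.Flat R A := inferInstance
  obtain ⟨P₀⟩ : Nonempty (PrimeSpectrum R) := ConnectedSpace.toNonempty
  have hn : Module.rankAtStalk (R := R) A = (Module.rankAtStalk A P₀ : ℕ) := by
    funext P
    exact (Module.isLocallyConstant_rankAtStalk (R := R) (M := A)).apply_eq_of_preconnectedSpace
      P P₀
  obtain ⟨T, _, _, _, _, _, hsplit⟩ := Algebra.IsFiniteSplit.exists_tensorProduct_of_etale hn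
  haveI : Nontrivial R := (PrimeSpectrum.nonempty_iff_nontrivial).1 ⟨P₀⟩
  haveI : Nontrivial T := (FaithfulSMul.algebraMap_injective R T).nontrivial
  obtain ⟨L, _, _, hsurj, het, hconn⟩ := exists_connected_quotient P₀ _ T le_rfl
  letI : Algebra R L := ((algebraMap T L).comp (algebraMap R T)).toAlgebra
  haveI : IsScalarTower R T L := IsScalarTower.of_algebraMap_eq (fun _ => rfl)
  haveI : Nontrivial L := hconn.1
  haveI : Algebra.Etale R L := Algebra.Etale.comp R T L
  haveI : Module.Finite T L := Module.Finite.of_surjective (Algebra.linearMap T L) hsurj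
  haveI : Module.Finite R L := Module.Finite.trans T L
  haveI : Module.FaithfullyFlat R L := faithfullyFlat_of_connected
  refine ⟨L, inferInstance, inferInstance, inferInstance, inferInstance, inferInstance, hconn, ?_⟩
  haveI : Algebra.IsFiniteSplit L (L ⊗[T] (T ⊗[R] A)) := inferInstance
  exact Algebra.IsFiniteSplit.of_algEquiv (Algebra.TensorProduct.cancelBaseChange R T L L A)

end Split

end Groth.Agent.Lib.T2H8.Iso
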