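import Mathlib
import Groth.Agent.Lib.T2H8IsoE
import Groth.Agent.Lib.T2H8IsoF

set_option autoImplicit false

/-!
# T2H8IsoG: a finite group of multiplicative type over a connected base is isotrivial
-/

namespace Groth.Agent.Lib.T2H8.Iso

open TensorProduct CartDual Groth.Agent.Lib.Helper25.SubDiag

universe u

theorem isIsotrivial_of_isMultType_of_finite (R : Type u) [CommRing R]
    [ConnectedSpace (PrimeSpectrum R)] (A : Type u) [CommRing A] [HopfAlgebra R A]
    [Module.Finite R A] (hA : SGA3b.IsMultType R A) : SGA3b.IsIsotrivial R A := by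
  have hcov := hasDiagCover_of_isMultType hA
  haveI := isCocomm_of_cover hcov
  haveI := projective_of_cover hcov
  haveI := etale_dual_of_cover hcov
  obtain ⟨L, _, _, hff, hfin, hetL, hconn, hsplit⟩ :=
    exists_connected_split' (R := R) (A := CartDual.D R A)
  obtain ⟨n, ⟨e0⟩⟩ := hsplit.nonempty_algEquiv_fun
  let e : CartDual.D L (L ⊗[R] A) ≃ₐ[L] (Fin n → L) := (psiEquiv R L A).symm.trans e0
  exact ⟨L, inferInstance, inferInstance, hetL, hfin, hff, isDiag_of_split hconn n e⟩

end Groth.Agent.Lib.T2H8.Iso
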