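import Mathlib
import Groth.Prelude.Def_CartDual2
import Groth.Prelude.Def_SGA3b
import Groth.Agent.Lib.T2H8HensRedE
import Groth.Agent.Lib.T2H8HensRedB
import Groth.Agent.Lib.T2H8IsoG
import Groth.Agent.Lib.Helper3HenselM

set_option autoImplicit false

/-!
# T2H8HensRedF: lifting finite groups of multiplicative type from the residue field of a
henselian local ring
-/

namespace Groth.Agent.Lib.T2H8.HensRed

open TensorProduct IsLocalRing Coalgebra CartDual Groth.Agent.Lib.T2H8.Iso

universe u

section General

variable (R : Type u) [CommRing R]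

/-- the canonical isomorphism with the double dual -/
noncomputable def evalEquiv (A : Type u) [CommRing A] [Bialgebra R A] [Module.Finite R A]
    [Module.Projective R A] : A ≃ₐc[R] D R (D R A) :=
  BialgEquiv.ofBijective (R := R) (A := A) (B := D R (D R A)) (CartDual.eval R A) (by
    change Function.Bijective (CartDual.evalLin R A)
    unfold CartDual.evalLin
    rw [LinearMap.coe_comp, LinearMap.coe_comp]
    exact (CartDual.toDual R (CartDual.D R A)).symm.bijective.comp
      ((CartDual.toDual R A).dualMap.bijective.comp (Module.bijective_dual_eval R A)))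

theorem evalEquiv_apply (A : Type u) [CommRing A] [Bialgebra R A] [Module.Finite R A]
    [Module.Projective R A] (a : A) (x : D R A) : evalEquiv R A a x = x a := rfl

/-- the transpose of an isomorphism of bialgebras -/
noncomputable def transposeEquiv {A B : Type u} [CommRing A] [Bialgebra R A] [Module.Finite R A]
    [Module.Projective R A] [CommRing B] [Bialgebra R B] [Module.Finite R B]
    [Module.Projective R B] (e : A ≃ₐc[R] B) : D R B ≃ₐc[R] D R A :=
  BialgEquiv.ofBialgHom (transpose R (e : A →ₐc[R] B)) (transpose R (e.symm : B →ₐc[R] A))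
    (by
      apply DFunLike.ext
      intro x
      apply WithConv.ext
      apply LinearMap.ext
      intro a
      change x (e.symm (e a)) = x a
      rw [e.symm_apply_apply])
    (by
      apply DFunLike.ext
      intro x
      apply WithConv.ext
      apply LinearMap.ext
      intro a
      change x (e (e.symm a)) = x a
      rw [e.apply_symm_apply])

theorem isIsotrivial_of_etale_dual' [ConnectedSpace (PrimeSpectrum R)] (A : Type u) [CommRing A]
    [HopfAlgebra R A] [Coalgebra.IsCocomm R A] [Module.Finite R A] [Module.Projective R A]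
    [Algebra.Etale R (D R A)] : SGA3b.IsIsotrivial R A := by
  obtain ⟨L, _, _, hff, hfin, hetL, hconn, hsplit⟩ :=
    exists_connected_split' (R := R) (A := CartDual.D R A)
  obtain ⟨n, ⟨e0⟩⟩ := hsplit.nonempty_algEquiv_fun
  let e : CartDual.D L (L ⊗[R] A) ≃ₐ[L] (Fin n → L) := (psiEquiv R L A).symm.trans e0
  exact ⟨L, inferInstance, inferInstance, hetL, hfin, hff, isDiag_of_split hconn n e⟩

end General

section EtLift

open Groth.Agent.Lib.Helper3.Hensel

variable (R : Type u) [CommRing R] [IsLocalRing R]

/-- a finite étale algebra over the residue field of a local ring lifts to a finite étale algebra -/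
theorem exists_finite_etale_lift (E₀ : Type u) [CommRing E₀] [Algebra (ResidueField R) E₀]
    [Algebra.Etale (ResidueField R) E₀] :
    ∃ (E : Type u) (_ : CommRing E) (_ : Algebra R E), Module.Finite R E ∧ Algebra.Etale R E ∧
      Nonempty (ResidueField R ⊗[R] E ≃ₐ[ResidueField R] E₀) := by
  classical
  obtain ⟨I, hI, Ai, _, _, e, H⟩ :=
    (Algebra.Etale.iff_exists_algEquiv_prod (ResidueField R) E₀).mp inferInstance
  haveI : Fintype I := Fintype.ofFinite I
  have key : ∀ i, ∃ p : Polynomial R, p.Monic ∧ Algebra.Etale R (AdjoinRoot p) ∧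
      Nonempty (ResidueField R ⊗[R] AdjoinRoot p ≃ₐ[ResidueField R] Ai i) := by
    intro i
    haveI := (H i).1
    haveI := (H i).2
    exact exists_lift_of_separable (R := R) (Ai i)
  choose p hp1 hp2 hp3 using key
  haveI : ∀ i, Module.Finite R (AdjoinRoot (p i)) := fun i => (hp1 i).finite_adjoinRoot
  haveI : ∀ i, Algebra.Etale R (AdjoinRoot (p i)) := hp2
  refine ⟨∀ i, AdjoinRoot (p i), inferInstance, inferInstance, inferInstance, inferInstance, ?_⟩
  exact ⟨((Algebra.TensorProduct.piRight R (ResidueField R) (ResidueField R)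
    (fun i => AdjoinRoot (p i))).trans
      (AlgEquiv.piCongrRight (fun i => (hp3 i).some))).trans e.symm⟩

end EtLift

section Main

theorem connectedSpace_of_isLocalRing (R : Type u) [CommRing R] [IsLocalRing R] :
    ConnectedSpace (PrimeSpectrum R) := by
  rw [connectedSpace_iff_clopen]
  refine ⟨inferInstance, fun s hs => ?_⟩
  obtain ⟨e, he, rfl⟩ := PrimeSpectrum.isClopen_iff.1 hs
  rcases IsLocalRing.isUnit_or_isUnit_one_sub_self e with h | h
  · right
    have : e = 1 := by
      obtain ⟨u, hu⟩ := h.exists_left_inv
      calc e = u * e * e := by rw [hu, one_mul]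
        _ = u * (e * e) := by ring
        _ = 1 := by rw [he.eq, hu]
    rw [this]; simp
  · left
    have : e = 0 := by
      obtain ⟨u, hu⟩ := h.exists_left_inv
      calc e = u * (1 - e) * e := by rw [hu, one_mul]
        _ = u * (e - e * e) := by ring
        _ = 0 := by rw [he.eq, sub_self, mul_zero]
    rw [this]; simp

variable (R : Type u) [CommRing R] [HenselianLocalRing R]

theorem exists_lift_of_etale_hopf (E₀ : Type u) [CommRing E₀] [HopfAlgebra (ResidueField R) E₀]
    [Coalgebra.IsCocomm (ResidueField R) E₀] [Algebra.Etale (ResidueField R) E₀]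
    [Module.Finite (ResidueField R) E₀] [Module.Projective (ResidueField R) E₀] :
    ∃ (C : Type u) (_ : CommRing C) (_ : HopfAlgebra R C), Module.Finite R C ∧
      SGA3b.IsIsotrivial R C ∧
      Nonempty ((ResidueField R ⊗[R] C) ≃ₐc[ResidueField R] D (ResidueField R) E₀) := by
  obtain ⟨E, _, _, hfinE, hetE, ⟨θ⟩⟩ := exists_finite_etale_lift R E₀
  obtain ⟨L⟩ := nonempty_hopfLift θ
  letI := L.hopfAlgebra
  haveI := L.isCocomm
  haveI : Module.FinitePresentation R E :=
    Module.FinitePresentation.of_finite_of_finitePresentation _ _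
  haveI : Module.Flat R E := inferInstance
  haveI : Module.Projective R E := Module.Flat.projective_of_finitePresentation
  let θc : ResidueField R ⊗[R] E ≃ₐc[ResidueField R] E₀ :=
    BialgEquiv.ofAlgEquiv (R := ResidueField R) (A := ResidueField R ⊗[R] E) (B := E₀) θ
      (by
        apply AlgHom.ext
        intro z
        exact L.counit_theta z)
      (by
        apply AlgHom.ext
        intro z
        exact L.comul_theta z)
  haveI : ConnectedSpace (PrimeSpectrum R) := connectedSpace_of_isLocalRing R
  haveI : Algebra.Etale R (D R (D R E)) :=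
    Algebra.Etale.of_equiv ((evalEquiv R E : E ≃ₐc[R] D R (D R E)) : E ≃ₐ[R] D R (D R E))
  refine ⟨D R E, inferInstance, inferInstance, inferInstance, isIsotrivial_of_etale_dual' R (D R E),
    ⟨?_⟩⟩
  exact (psiBialgEquiv R (ResidueField R) E).trans (transposeEquiv (ResidueField R) θc.symm)

end Main

section Final

open Groth.Agent.Lib.Helper25.SubDiag

theorem finite_isMultType_lifts (R : Type u) [CommRing R] [HenselianLocalRing R]
    (C₀ : Type u) [CommRing C₀] [HopfAlgebra (ResidueField R) C₀]
    [Module.Finite (ResidueField R) C₀] (h₀ : SGA3b.IsMultType (ResidueField R) C₀) :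
    ∃ (C : Type u) (_ : CommRing C) (_ : HopfAlgebra R C), Module.Finite R C ∧
      SGA3b.IsIsotrivial R C ∧
      Nonempty ((ResidueField R ⊗[R] C) ≃ₐc[ResidueField R] C₀) := by
  have hcov := hasDiagCover_of_isMultType h₀
  haveI := isCocomm_of_cover hcov
  haveI := projective_of_cover hcov
  haveI := etale_dual_of_cover hcov
  obtain ⟨C, i1, i2, hfin, hiso, ⟨e⟩⟩ :=
    exists_lift_of_etale_hopf R (D (ResidueField R) C₀)
  exact ⟨C, i1, i2, hfin, hiso, ⟨e.trans (evalEquiv (ResidueField R) C₀).symm⟩⟩

end Final

end Groth.Agent.Lib.T2H8.HensRed
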