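import Mathlib
import Groth.Agent.Lib.Helper4HilbMultA
import Groth.Agent.Lib.Helper4HilbFunD

/-!
# The Hilbert function of a quotient by a nonzero homogeneous ideal (helper8)
-/

set_option autoImplicit false
set_option linter.style.haveILetI false

noncomputable section

open MvPolynomial Polynomial

namespace Groth.Agent.Lib.T2H8.HilbQuot

open Groth.Agent.Lib.Helper4.HilbFun Groth.Agent.Lib.Helper5.PolyLike

universe u

attribute [local instance] MvPolynomial.gradedAlgebra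

theorem exists_poly_of_isPolyLike (j : ℕ) (f : ℕ → ℤ) (h : IsPolyLike j f) :
    ∃ P : ℚ[X], P.degree < (j : WithBot ℕ) ∧ ∃ N : ℕ, ∀ n, N ≤ n → (f n : ℚ) = P.eval (n : ℚ) := by
  obtain ⟨c, N, hc⟩ := (isPolyLike_iff j f).mp h
  refine ⟨∑ i ∈ Finset.range j, Polynomial.C (c i : ℚ) * P0 i, ?_, N, fun n hn => ?_⟩
  · rw [← Polynomial.mem_degreeLT]
    refine Submodule.sum_mem _ fun i hi => ?_
    rw [Polynomial.mem_degreeLT]
    refine lt_of_le_of_lt (Polynomial.degree_mul_le _ _) ?_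
    refine lt_of_le_of_lt (add_le_add Polynomial.degree_C_le Polynomial.degree_le_natDegree) ?_
    rw [P0_natDegree, zero_add]
    exact_mod_cast Finset.mem_range.mp hi
  · rw [hc n hn, Polynomial.eval_finsetSum]
    push_cast
    refine Finset.sum_congr rfl fun i _ => ?_
    rw [Polynomial.eval_mul, Polynomial.eval_C, P0_eval, B_apply, Nat.add_comm n i,
      Nat.choose_symm_add]
    norm_cast

theorem withBot_le_of_add_one_le (a : WithBot ℕ∞) (c : ℕ)
    (h : a + 1 ≤ ((c + 1 : ℕ) : WithBot ℕ∞)) : a ≤ (c : WithBot ℕ∞) := by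
  induction a using WithBot.recBotCoe with
  | bot => exact bot_le
  | coe x =>
    induction x using ENat.recTopCoe with
    | top =>
      exfalso
      have h1 : ((⊤ : ℕ∞) : WithBot ℕ∞) + 1 = ((⊤ : ℕ∞) : WithBot ℕ∞) := by
        rw [← WithBot.coe_one, ← WithBot.coe_add, top_add]
      rw [h1] at h
      have h2 : ((c + 1 : ℕ) : WithBot ℕ∞) = (((c + 1 : ℕ) : ℕ∞) : WithBot ℕ∞) := rfl
      rw [h2, WithBot.coe_le_coe] at h
      exact absurd h (by simp)
    | coe x =>
      have h1 : (((x : ℕ∞) : WithBot ℕ∞) + 1) = (((x + 1 : ℕ) : ℕ∞) : WithBot ℕ∞) := by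
        push_cast
        rfl
      have h2 : ((c + 1 : ℕ) : WithBot ℕ∞) = (((c + 1 : ℕ) : ℕ∞) : WithBot ℕ∞) := rfl
      rw [h1, h2, WithBot.coe_le_coe, Nat.cast_le] at h
      have h3 : ((c : ℕ) : WithBot ℕ∞) = (((c : ℕ) : ℕ∞) : WithBot ℕ∞) := rfl
      rw [h3, WithBot.coe_le_coe, Nat.cast_le]
      omega

theorem main_S9661 {k : Type u} [Field k] (d : ℕ) (hd : 0 < d)
    (I : HomogeneousIdeal (MvPolynomial.homogeneousSubmodule (Fin d) k)) (hI : I ≠ ⊥) :
    ∃ P : Polynomial ℚ, P.degree < ((d - 1 : ℕ) : WithBot ℕ) ∧ ∃ N : ℕ, ∀ n : ℕ, N ≤ n →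
      ((Module.finrank k ↥(MvPolynomial.homogeneousSubmodule (Fin d) k n) : ℚ) -
        (Module.finrank k ↥(I.toIdeal.restrictScalars k ⊓ MvPolynomial.homogeneousSubmodule (Fin d) k n) : ℚ)) = P.eval (n : ℚ) := by
  obtain ⟨e, rfl⟩ : ∃ e, d = e + 1 := ⟨d - 1, by omega⟩
  have hne : I.toIdeal ≠ ⊥ := by
    intro h
    apply hI
    exact HomogeneousIdeal.toIdeal_injective (by rw [h]; rfl)
  obtain ⟨r, hrI, hr0⟩ := Submodule.exists_mem_ne_zero_of_ne_bot hne
  have hdim : ringKrullDim (MvPolynomial (Fin (e + 1)) k ⧸ I.toIdeal) ≤ (e : WithBot ℕ∞) := by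
    have h1 : ringKrullDim (MvPolynomial (Fin (e + 1)) k ⧸ I.toIdeal) ≤
        ringKrullDim (MvPolynomial (Fin (e + 1)) k ⧸ Ideal.span {r}) :=
      ringKrullDim_quotient_anti (by rw [Ideal.span_le, Set.singleton_subset_iff]; exact hrI)
    have h2 := ringKrullDim_quotient_succ_le_of_nonZeroDivisor
      (mem_nonZeroDivisors_of_ne_zero hr0)
    rw [MvPolynomial.ringKrullDim_of_isNoetherianRing, ringKrullDim_eq_zero_of_field, zero_add] at h2
    simp only [Nat.card_eq_fintype_card, Fintype.card_fin] at h2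
    refine le_trans h1 ?_
    exact withBot_le_of_add_one_le _ e h2
  have hpl := isPolyLike_hfun k e I.toIdeal I.isHomogeneous e hdim
  obtain ⟨P, hP, N, hN⟩ := exists_poly_of_isPolyLike e _ hpl
  refine ⟨P, by simpa using hP, N, fun n hn => ?_⟩
  rw [← hN n hn, hfun_apply, finrank_eq_hilb_add I.toIdeal n]
  push_cast
  ring

end Groth.Agent.Lib.T2H8.HilbQuot
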