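import Mathlib
import Groth.Agent.Lib.T2H8CplEquiv
import Groth.Agent.Lib.Helper26PairHzMore
import Groth.Agent.Lib.Helper26HzNoeth

/-!
# Completions of quotients of a pair henselization (helper8, S8801)
-/

set_option autoImplicit false
universe u

namespace Groth.Agent.Lib.T2H8.HzQuotCpl

open Groth.Agent.Lib.Helper26.PairHz Groth.Agent.Lib.Helper18ColimSys

/-- contraction of extended ideals containing `L` along a map which is bijective modulo `L` -/
theorem mem_sup_of_map_mem {R H : Type*} [CommRing R] [CommRing H] (ρ : R →+* H) (L Ji : Ideal R)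
    (hsurj : ∀ z : H, ∃ r : R, z - ρ r ∈ L.map ρ)
    (hinj : ∀ r : R, ρ r ∈ L.map ρ → r ∈ L)
    (r : R) (hr : ρ r ∈ L.map ρ ⊔ Ji.map ρ) : r ∈ L ⊔ Ji := by
  have key : ∀ w ∈ Ji.map ρ, ∃ j ∈ Ji, w - ρ j ∈ L.map ρ := by
    intro w hw
    rw [Ideal.map] at hw
    induction hw using Submodule.span_induction with
    | mem w hw =>
      obtain ⟨j, hj, rfl⟩ := hw
      exact ⟨j, hj, by rw [sub_self]; exact Ideal.zero_mem _⟩
    | zero => exact ⟨0, Ideal.zero_mem _, by rw [map_zero, sub_self]; exact Ideal.zero_mem _⟩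
    | add w₁ w₂ _ _ h₁ h₂ =>
      obtain ⟨j₁, hj₁, h₁⟩ := h₁
      obtain ⟨j₂, hj₂, h₂⟩ := h₂
      refine ⟨j₁ + j₂, Ideal.add_mem _ hj₁ hj₂, ?_⟩
      have : w₁ + w₂ - ρ (j₁ + j₂) = (w₁ - ρ j₁) + (w₂ - ρ j₂) := by rw [map_add]; ring
      rw [this]
      exact Ideal.add_mem _ h₁ h₂
    | smul h w _ hw =>
      obtain ⟨j, hj, hw⟩ := hw
      obtain ⟨rh, hrh⟩ := hsurj h
      refine ⟨rh * j, Ideal.mul_mem_left _ _ hj, ?_⟩
      have : h • w - ρ (rh * j) = h * (w - ρ j) + (h - ρ rh) * ρ j := by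
        rw [map_mul, smul_eq_mul]; ring
      rw [this]
      exact Ideal.add_mem _ (Ideal.mul_mem_left _ _ hw) (Ideal.mul_mem_right _ _ hrh)
  obtain ⟨l', hl', w, hw, hsum⟩ := Submodule.mem_sup.mp hr
  obtain ⟨j, hj, hwj⟩ := key w hw
  have h1 : ρ (r - j) ∈ L.map ρ := by
    have : ρ (r - j) = l' + (w - ρ j) := by rw [map_sub, ← hsum]; ring
    rw [this]
    exact Ideal.add_mem _ hl' hwj
  have h2 := hinj _ h1
  have : r = (r - j) + j := by ring
  rw [this]
  exact Ideal.add_mem _ (Ideal.mem_sup_left h2) (Ideal.mem_sup_right hj)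

/-- membership in an extended ideal of a quotient -/
theorem mk_mem_map_mk_iff {R : Type*} [CommRing R] (J L : Ideal R) (w : R) :
    Ideal.Quotient.mk J w ∈ L.map (Ideal.Quotient.mk J) ↔ w ∈ L ⊔ J := by
  rw [Ideal.mem_map_iff_of_surjective _ Ideal.Quotient.mk_surjective]
  constructor
  · rintro ⟨l, hl, hlw⟩
    have h1 : w - l ∈ J := by
      rw [← Ideal.Quotient.eq]
      exact hlw.symm
    have : w = l + (w - l) := by ring
    rw [this]
    exact Ideal.add_mem _ (Ideal.mem_sup_left hl) (Ideal.mem_sup_right h1)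
  · intro hw
    obtain ⟨l, hl, j, hj, rfl⟩ := Submodule.mem_sup.mp hw
    refine ⟨l, hl, ?_⟩
    rw [map_add, Ideal.Quotient.eq_zero_iff_mem.mpr hj, add_zero]

/-- quotients of `R` and of an algebra `H` over it which agrees with `R` modulo all powers of `I`
have isomorphic `I`-adic completions. -/
theorem nonempty_algEquiv_quotient {A R H : Type u} [CommRing A] [CommRing R] [CommRing H]
    [Algebra A R] [Algebra R H] [Algebra A H] [IsScalarTower A R H] (I : Ideal A) (Ji : Ideal R)
    (hsurj : ∀ (n : ℕ) (z : H), ∃ r : R, z - algebraMap R H r ∈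
      ((I ^ n).map (algebraMap A R)).map (algebraMap R H))
    (hinj : ∀ (n : ℕ) (r : R), algebraMap R H r ∈
      ((I ^ n).map (algebraMap A R)).map (algebraMap R H) → r ∈ (I ^ n).map (algebraMap A R)) :
    Nonempty (AdicCompletion (I.map (algebraMap A (R ⧸ Ji))) (R ⧸ Ji) ≃ₐ[A]
      AdicCompletion (I.map (algebraMap A (H ⧸ Ji.map (algebraMap R H))))
        (H ⧸ Ji.map (algebraMap R H))) := by
  let J : Ideal H := Ji.map (algebraMap R H)
  have hle : Ji ≤ J.comap (IsScalarTower.toAlgHom A R H) := Ideal.le_comap_map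
  let g : (R ⧸ Ji) →ₐ[A] (H ⧸ J) := Ideal.quotientMapₐ J (IsScalarTower.toAlgHom A R H) hle
  have hg : ∀ r : R, g (Ideal.Quotient.mk Ji r) = Ideal.Quotient.mk J (algebraMap R H r) :=
    fun r => rfl
  -- the ideals
  have hKn : ∀ n, (I.map (algebraMap A (R ⧸ Ji))) ^ n =
      ((I ^ n).map (algebraMap A R)).map (Ideal.Quotient.mk Ji) := by
    intro n
    rw [← Ideal.map_pow, Ideal.map_map]
    rfl
  have hK'n : ∀ n, (I.map (algebraMap A (H ⧸ J))) ^ n =
      (((I ^ n).map (algebraMap A R)).map (algebraMap R H)).map (Ideal.Quotient.mk J) := by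
    intro n
    rw [← Ideal.map_pow, Ideal.map_map, Ideal.map_map]
    congr 1
    rw [RingHom.comp_assoc, ← IsScalarTower.algebraMap_eq A R H]
    rfl
  have hK : ∀ n, (I.map (algebraMap A (R ⧸ Ji))) ^ n ≤
      ((I.map (algebraMap A (H ⧸ J))) ^ n).comap g := by
    intro n
    rw [hKn, Ideal.map_le_iff_le_comap]
    intro l hl
    show g (Ideal.Quotient.mk Ji l) ∈ (I.map (algebraMap A (H ⧸ J))) ^ n
    rw [hg, hK'n]
    exact Ideal.mem_map_of_mem _ (Ideal.mem_map_of_mem _ hl)
  refine CplEquiv.nonempty_adicCompletion_algEquiv g _ _ hK (fun n => ⟨?_, ?_⟩)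
  · rw [injective_iff_map_eq_zero]
    intro z hz
    obtain ⟨b, rfl⟩ := Ideal.Quotient.mk_surjective z
    obtain ⟨r, rfl⟩ := Ideal.Quotient.mk_surjective b
    have h1 : Ideal.Quotient.mk _ (g (Ideal.Quotient.mk Ji r)) = 0 := hz
    rw [Ideal.Quotient.eq_zero_iff_mem, hg, hK'n, mk_mem_map_mk_iff] at h1
    rw [Ideal.Quotient.eq_zero_iff_mem, hKn, mk_mem_map_mk_iff]
    exact mem_sup_of_map_mem (algebraMap R H) _ Ji (hsurj n) (hinj n) r h1
  · intro z
    obtain ⟨b, rfl⟩ := Ideal.Quotient.mk_surjective z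
    obtain ⟨h, rfl⟩ := Ideal.Quotient.mk_surjective b
    obtain ⟨r, hr⟩ := hsurj n h
    refine ⟨Ideal.Quotient.mk _ (Ideal.Quotient.mk Ji r), ?_⟩
    show Ideal.Quotient.mk _ (g (Ideal.Quotient.mk Ji r)) = _
    rw [hg, Ideal.Quotient.eq, hK'n, ← map_sub, mk_mem_map_mk_iff]
    have := Ideal.neg_mem_iff _ |>.mpr hr
    rw [neg_sub] at this
    exact Ideal.mem_sup_left this


/-- **S8801** -/
theorem main (A : Type u) [CommRing A] [IsNoetherianRing A] (I : Ideal A) (C : Type u) [CommRing C]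
    [Algebra A C] [Algebra.FiniteType A C] (Ch : Type u) [CommRing Ch] [Algebra C Ch] [Algebra A Ch]
    [IsScalarTower A C Ch] (hCh : Hens2.IsPairHenselization C (I.map (algebraMap A C)) Ch)
    (J : Ideal Ch) :
    ∃ (B : Type u) (_ : CommRing B) (_ : Algebra A B), Algebra.FiniteType A B ∧
      Nonempty (AdicCompletion (I.map (algebraMap A B)) B ≃ₐ[A]
        AdicCompletion (I.map (algebraMap A (Ch ⧸ J))) (Ch ⧸ J)) := by
  classical
  haveI : IsNoetherianRing C := Algebra.FiniteType.isNoetherianRing A C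
  haveI : IsNoetherianRing Ch :=
    Groth.Agent.Lib.Helper26.HzNoeth.isNoetherianRing_of_isPairHenselization hCh
  obtain ⟨r, jj, hjj⟩ := Submodule.fg_iff_exists_fin_generating_family.mp
    (IsNoetherian.noetherian J)
  obtain ⟨ρ, hS⟩ := exists_sys_of_isPairHenselization hCh
  obtain ⟨i₀⟩ := hS.nonempty
  obtain ⟨i, -, -, x, hx⟩ := hS.lift_fun i₀ jj
  -- algebra structures
  letI algAR : Algebra A i.C := ((algebraMap C i.C).comp (algebraMap A C)).toAlgebra
  haveI towACR : IsScalarTower A C i.C := IsScalarTower.of_algebraMap_eq (fun _ => rfl)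
  letI algRH : Algebra i.C Ch := (ρ i).toRingHom.toAlgebra
  haveI towCRH : IsScalarTower C i.C Ch :=
    IsScalarTower.of_algebraMap_eq (fun c => ((ρ i).commutes c).symm)
  haveI towARH : IsScalarTower A i.C Ch := by
    refine IsScalarTower.of_algebraMap_eq (fun a => ?_)
    show algebraMap A Ch a = ρ i (algebraMap C i.C (algebraMap A C a))
    rw [AlgHom.commutes, ← IsScalarTower.algebraMap_apply A C Ch]
  let Ji : Ideal i.C := Ideal.span (Set.range x)
  have hJ : J = Ji.map (algebraMap i.C Ch) := by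
    rw [Ideal.map_span, ← Set.range_comp]
    have h1 : (algebraMap i.C Ch) ∘ x = jj := funext hx
    rw [h1]
    exact hjj.symm
  subst hJ
  -- finite type
  haveI : Algebra.FiniteType C i.C := inferInstance
  haveI : Algebra.FiniteType A i.C := Algebra.FiniteType.trans (S := C) inferInstance inferInstance
  have hft : Algebra.FiniteType A (i.C ⧸ Ji) :=
    Algebra.FiniteType.of_surjective (Ideal.Quotient.mkₐ A Ji) (Ideal.Quotient.mkₐ_surjective A Ji)
  -- the bijections modulo powers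
  have hP : Hens2.IsPairHenselization i.C ((I.map (algebraMap A C)).map (algebraMap C i.C)) Ch :=
    isPairHenselization_of_nbhd hCh i.isNbhd
  have hideal : ∀ n, ((I.map (algebraMap A C)).map (algebraMap C i.C)) ^ n =
      (I ^ n).map (algebraMap A i.C) := by
    intro n
    rw [map_map_tower, Ideal.map_pow]
  have hbij : ∀ n, Function.Bijective (Ideal.quotientMap
      (((I ^ n).map (algebraMap A i.C)).map (algebraMap i.C Ch)) (algebraMap i.C Ch)
      Ideal.le_comap_map) := by
    intro n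
    have := quotientMap_pow_bijective hP n
    rw [hideal n] at this
    exact this
  refine ⟨i.C ⧸ Ji, inferInstance, inferInstance, hft, ?_⟩
  refine nonempty_algEquiv_quotient I Ji (fun n z => ?_) (fun n r hr => ?_)
  · obtain ⟨w, hw⟩ := (hbij n).2 (Ideal.Quotient.mk _ z)
    obtain ⟨r', rfl⟩ := Ideal.Quotient.mk_surjective w
    refine ⟨r', ?_⟩
    rw [Ideal.quotientMap_mk, Ideal.Quotient.eq] at hw
    have := Ideal.neg_mem_iff _ |>.mpr hw
    rw [neg_sub] at this
    exact this
  · have h1 : Ideal.quotientMap (((I ^ n).map (algebraMap A i.C)).map (algebraMap i.C Ch))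
        (algebraMap i.C Ch) Ideal.le_comap_map (Ideal.Quotient.mk _ r) = 0 := by
      rw [Ideal.quotientMap_mk, Ideal.Quotient.eq_zero_iff_mem]
      exact hr
    have h2 := (hbij n).1 (h1.trans (map_zero _).symm)
    exact Ideal.Quotient.eq_zero_iff_mem.mp h2

end Groth.Agent.Lib.T2H8.HzQuotCpl
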