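import Mathlib

/-!
# Idempotents of `A[1/t]` versus `Â[1/t]` for a Henselian pair `(A, tA)` (helper8)

For a commutative ring `A` with `(A, tA)` Henselian, idempotents of `Â[1/t]` (`Â` the `t`-adic
completion) correspond bijectively to idempotents of `A[1/t]` (S15774).  The argument is abstract
in `ι : A → Ah` with `ι t ∈ jac Ah`, `A/t^L → Ah/t^L` bijective: uniqueness by
`d = e₀ - e₁`, `d³ = d`, and `d ∈ t·(image)`; existence by Newton/Hensel for `X² - tⁿX`.
The bounded-torsion hypothesis of the statement is not needed.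
-/

namespace Groth.Agent.Lib.T2H8.IdemCompl

open Polynomial

section general

variable {B : Type*} [CommRing B] (s : B) {S : Type*} [CommRing S] [Algebra B S]
  [IsLocalization.Away s S]

theorem idem_eq_zero (hs : s ∈ Ideal.jacobson (⊥ : Ideal B)) (b : B)
    (h : IsIdempotentElem (algebraMap B S (s * b))) : algebraMap B S (s * b) = 0 := by
  have h1 : algebraMap B S ((s * b) * (s * b)) = algebraMap B S (s * b) := by
    rw [map_mul]; exact h
  obtain ⟨n, hn⟩ := IsLocalization.Away.exists_of_eq s h1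
  have hu : IsUnit (s * (-b) + 1) := (Ideal.mem_jacobson_bot.mp hs) (-b)
  have h2 : s ^ (n + 1) * b * (s * (-b) + 1) = 0 := by
    linear_combination -hn
  have h3 : s ^ (n + 1) * b = 0 := (hu.mul_left_eq_zero).mp h2
  have h4 : algebraMap B S s ^ (n + 1) * algebraMap B S b = 0 := by
    rw [← map_pow, ← map_mul, h3, map_zero]
  have h5 : algebraMap B S b = 0 :=
    ((IsLocalization.Away.algebraMap_pow_isUnit s (n + 1)).mul_right_eq_zero).mp h4
  rw [map_mul, h5, mul_zero]

theorem idem_eq_of_sub (hs : s ∈ Ideal.jacobson (⊥ : Ideal B)) {e₁ e₂ : S}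
    (h1 : IsIdempotentElem e₁) (h2 : IsIdempotentElem e₂) (b : B)
    (h : e₁ - e₂ = algebraMap B S (s * b)) : e₁ = e₂ := by
  have h1' : e₁ * e₁ = e₁ := h1
  have h2' : e₂ * e₂ = e₂ := h2
  have hd3 : (e₁ - e₂) ^ 3 = e₁ - e₂ := by
    linear_combination (e₁ + 1 - 3 * e₂) * h1' + (3 * e₁ - e₂ - 1) * h2'
  have hsq : algebraMap B S (s * (s * b * b)) = (e₁ - e₂) ^ 2 := by
    rw [h, ← map_pow]; congr 1; ring
  have hf : IsIdempotentElem (algebraMap B S (s * (s * b * b))) := by
    rw [hsq]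
    show (e₁ - e₂) ^ 2 * (e₁ - e₂) ^ 2 = (e₁ - e₂) ^ 2
    calc (e₁ - e₂) ^ 2 * (e₁ - e₂) ^ 2 = (e₁ - e₂) ^ 3 * (e₁ - e₂) := by ring
      _ = (e₁ - e₂) * (e₁ - e₂) := by rw [hd3]
      _ = (e₁ - e₂) ^ 2 := by ring
  have hz := idem_eq_zero s hs _ hf
  have hz' : (e₁ - e₂) ^ 2 = 0 := by rw [← hsq, hz]
  have : e₁ - e₂ = 0 := by
    calc e₁ - e₂ = (e₁ - e₂) ^ 3 := hd3.symm
      _ = (e₁ - e₂) ^ 2 * (e₁ - e₂) := by ring
      _ = 0 := by rw [hz', zero_mul]
  exact sub_eq_zero.mp this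

end general

section abs

variable {A : Type*} [CommRing A] (t : A) [HenselianRing A (Ideal.span {t})]
  {Ah : Type*} [CommRing Ah] (ι : A →+* Ah)
  (S : Type*) [CommRing S] [Algebra A S] [IsLocalization.Away t S]
  (T : Type*) [CommRing T] [Algebra Ah T] [IsLocalization.Away (ι t) T]
  (Φ : S →+* T) (hΦ : ∀ a, Φ (algebraMap A S a) = algebraMap Ah T (ι a))
  (h1 : ι t ∈ Ideal.jacobson (⊥ : Ideal Ah))
  (h2 : ∀ (L : ℕ) (x : Ah), ∃ (a : A) (y : Ah), x = ι a + ι t ^ L * y)
  (h3 : ∀ (L : ℕ) (a : A) (y : Ah), ι a = ι t ^ L * y → ∃ b : A, a = t ^ L * b)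

omit [HenselianRing A (Ideal.span {t})] in
theorem t_mem_jac [HenselianRing A (Ideal.span {t})] : t ∈ Ideal.jacobson (⊥ : Ideal A) :=
  HenselianRing.jac (Ideal.subset_span (Set.mem_singleton t))

include hΦ h3 in
theorem unique_abs (e₀ e₁ : S) (he₀ : IsIdempotentElem e₀) (he₁ : IsIdempotentElem e₁)
    (h : Φ e₀ = Φ e₁) : e₀ = e₁ := by
  obtain ⟨n, a, ha⟩ := IsLocalization.Away.surj t (e₀ - e₁)
  have hz : algebraMap Ah T (ι a) = algebraMap Ah T 0 := by
    rw [← hΦ, ← ha, map_mul, map_sub, h, sub_self, zero_mul, map_zero]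
  obtain ⟨m, hm⟩ := IsLocalization.Away.exists_of_eq (ι t) hz
  obtain ⟨b, hb⟩ := h3 (n + m + 1) (t ^ m * a) 0 (by rw [map_mul, map_pow, hm]; ring)
  refine idem_eq_of_sub t (t_mem_jac t) he₀ he₁ b ?_
  have hu := IsLocalization.Away.algebraMap_pow_isUnit (S := S) t (n + m)
  refine hu.mul_left_injective ?_
  show (e₀ - e₁) * algebraMap A S t ^ (n + m)
    = algebraMap A S (t * b) * algebraMap A S t ^ (n + m)
  calc (e₀ - e₁) * algebraMap A S t ^ (n + m)
      = ((e₀ - e₁) * algebraMap A S t ^ n) * algebraMap A S t ^ m := by ring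
    _ = algebraMap A S (t ^ m * a) := by rw [ha, map_mul, map_pow]; ring
    _ = algebraMap A S (t ^ (n + m + 1) * b) := by rw [hb]
    _ = _ := by rw [map_mul, map_mul, map_pow]; ring

include hΦ h1 h2 h3 in
theorem exists_abs (e : T) (he : IsIdempotentElem e) :
    ∃ e₀ : S, IsIdempotentElem e₀ ∧ Φ e₀ = e := by
  have he' : e * e = e := he
  obtain ⟨n, α, hα, hαα⟩ : ∃ (n : ℕ) (α : Ah),
      e * algebraMap Ah T (ι t) ^ n = algebraMap Ah T α ∧ α * α = ι t ^ n * α := by
    obtain ⟨n₀, α₀, hα₀⟩ := IsLocalization.Away.surj (ι t) e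
    have h1' : algebraMap Ah T (α₀ * α₀) = algebraMap Ah T (ι t ^ n₀ * α₀) := by
      rw [map_mul, map_mul, map_pow, ← hα₀]
      linear_combination (algebraMap Ah T (ι t) ^ n₀) ^ 2 * he'
    obtain ⟨m, hm⟩ := IsLocalization.Away.exists_of_eq (ι t) h1'
    refine ⟨n₀ + m, ι t ^ m * α₀, ?_, ?_⟩
    · rw [pow_add, ← mul_assoc, hα₀, map_mul, map_pow]; ring
    · linear_combination (ι t ^ m) * hm
  obtain ⟨a₀, y, hy⟩ := h2 (3 * n + 1) α
  have hg : ι (a₀ * a₀ - t ^ n * a₀) = ι t ^ (3 * n + 1) *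
      (ι t ^ n * y - (ι a₀ + ι a₀) * y - ι t ^ (3 * n + 1) * y * y) := by
    simp only [map_sub, map_mul, map_pow]
    rw [hy] at hαα
    linear_combination hαα
  obtain ⟨c', hc'⟩ := h3 (3 * n + 1) _ _ hg
  have ht := t_mem_jac t
  obtain ⟨wi, hwi⟩ := (Ideal.mem_jacobson_bot.mp ht (4 * t ^ n * c')).exists_right_inv
  -- Hensel
  let P : A[X] := X ^ 2 + X + C (wi * t ^ (n + 1) * c')
  have hP : P.Monic := by
    simp only [P]; monicity!
  have hP0 : P.eval 0 ∈ Ideal.span ({t} : Set A) := by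
    have : P.eval 0 = wi * t ^ (n + 1) * c' := by simp [P]
    rw [this]
    exact Ideal.mem_span_singleton'.mpr ⟨wi * t ^ n * c', by ring⟩
  have hP0' : IsUnit (Ideal.Quotient.mk (Ideal.span ({t} : Set A)) (P.derivative.eval 0)) := by
    have : P.derivative.eval 0 = 1 := by
      simp only [P, derivative_add, derivative_C, derivative_X, derivative_X_pow]
      simp
    rw [this, map_one]; exact isUnit_one
  obtain ⟨Z, hZroot, hZI⟩ := HenselianRing.is_henselian P hP 0 hP0 hP0'
  have hZ : Z ^ 2 + Z + wi * t ^ (n + 1) * c' = 0 := by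
    have := hZroot
    simpa [P, Polynomial.IsRoot] using this
  have hZjac : Z ∈ Ideal.jacobson (⊥ : Ideal A) := by
    have : Z ∈ Ideal.span ({t} : Set A) := by simpa using hZI
    exact HenselianRing.jac this
  obtain ⟨zi, hzi⟩ := (Ideal.mem_jacobson_bot.mp hZjac 1).exists_right_inv
  obtain ⟨z', hZ'⟩ : ∃ z', Z = t ^ (n + 1) * z' :=
    ⟨-wi * c' * zi, by linear_combination zi * hZ - Z * hzi⟩
  obtain ⟨a, ha⟩ : ∃ a, a = a₀ + (a₀ + a₀ - t ^ n) * Z := ⟨_, rfl⟩
  have haa : a * a = t ^ n * a := by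
    rw [ha]
    linear_combination (1 + 4 * (Z + Z ^ 2)) * hc'
      + t ^ (2 * n) * (t * (4 * t ^ n * c') + 1) * hZ - t ^ (3 * n + 1) * c' * hwi
  obtain ⟨v, hv⟩ := (IsLocalization.Away.algebraMap_pow_isUnit (S := S) t n).exists_right_inv
  have hjaa : algebraMap A S a * algebraMap A S a = algebraMap A S t ^ n * algebraMap A S a := by
    rw [← map_mul, haa, map_mul, map_pow]
  have hΦv : algebraMap Ah T (ι t) ^ n * Φ v = 1 := by
    have := congrArg Φ hv
    rwa [map_mul, map_pow, hΦ, map_one] at this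
  have he2 : e = algebraMap Ah T α * Φ v := by
    rw [← hα]; linear_combination (-e) * hΦv
  have hιZ : ι Z = ι t ^ (n + 1) * ι z' := by
    have := congrArg ι hZ'
    rwa [map_mul, map_pow] at this
  have hdiff : ι a = α + ι t ^ n * (ι t * ((ι a₀ + ι a₀ - ι t ^ n) * ι z' - ι t ^ (2 * n) * y)) := by
    rw [ha]
    simp only [map_add, map_sub, map_mul, map_pow]
    linear_combination (ι a₀ + ι a₀ - ι t ^ n) * hιZ - hy
  refine ⟨algebraMap A S a * v, ?_, ?_⟩
  · show algebraMap A S a * v * (algebraMap A S a * v) = algebraMap A S a * v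
    linear_combination v ^ 2 * hjaa + algebraMap A S a * v * hv
  · have hidem : IsIdempotentElem (Φ (algebraMap A S a * v)) := by
      have h0 : algebraMap A S a * v * (algebraMap A S a * v) = algebraMap A S a * v := by
        linear_combination v ^ 2 * hjaa + algebraMap A S a * v * hv
      show Φ (algebraMap A S a * v) * Φ (algebraMap A S a * v) = Φ (algebraMap A S a * v)
      rw [← map_mul, h0]
    refine idem_eq_of_sub (ι t) h1 hidem he
      ((ι a₀ + ι a₀ - ι t ^ n) * ι z' - ι t ^ (2 * n) * y) ?_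
    rw [map_mul, hΦ, hdiff, map_add, map_mul, map_pow]
    linear_combination algebraMap Ah T (ι t * ((ι a₀ + ι a₀ - ι t ^ n) * ι z' - ι t ^ (2 * n) * y)) * hΦv - he2

end abs

section compl

variable {A : Type*} [CommRing A] (t : A)

theorem span_fg : (Ideal.span ({t} : Set A)).FG := ⟨{t}, by simp⟩

theorem that_mem_jac : algebraMap A (AdicCompletion (Ideal.span {t}) A) t
    ∈ Ideal.jacobson (⊥ : Ideal (AdicCompletion (Ideal.span {t}) A)) := by
  haveI := AdicCompletion.isAdicComplete_self (Ideal.span ({t} : Set A)) (span_fg t)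
  exact IsAdicComplete.le_jacobson_bot _
    (Ideal.mem_map_of_mem _ (Ideal.subset_span (Set.mem_singleton t)))

theorem exists_of_evalₐ_eq_zero (L : ℕ) (x : AdicCompletion (Ideal.span {t}) A)
    (hx : AdicCompletion.evalₐ (Ideal.span {t}) L x = 0) :
    ∃ y : AdicCompletion (Ideal.span {t}) A,
      x = algebraMap A (AdicCompletion (Ideal.span {t}) A) t ^ L * y := by
  have hk : x ∈ LinearMap.ker (AdicCompletion.eval (Ideal.span {t}) A L) := by
    have h' : (Ideal.span {t}) ^ L ≤ (Ideal.span {t}) ^ L • (⊤ : Ideal A) := by simp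
    have h'' := AdicCompletion.factor_evalₐ_eq_eval (Ideal.span {t}) x h'
    rw [hx, map_zero] at h''
    exact h''.symm
  rw [← AdicCompletion.pow_smul_top_eq_ker_eval (span_fg t), Ideal.span_singleton_pow,
    Submodule.ideal_span_singleton_smul] at hk
  obtain ⟨y, -, rfl⟩ := (Submodule.mem_smul_pointwise_iff_exists _ _ _).mp hk
  exact ⟨y, by rw [Algebra.smul_def, map_pow]⟩

theorem evalₐ_algebraMap (L : ℕ) (a : A) :
    AdicCompletion.evalₐ (Ideal.span {t}) L (algebraMap A (AdicCompletion (Ideal.span {t}) A) a)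
      = Ideal.Quotient.mk _ a :=
  AdicCompletion.evalₐ_of _ L a

theorem dense (L : ℕ) (x : AdicCompletion (Ideal.span {t}) A) :
    ∃ (a : A) (y : AdicCompletion (Ideal.span {t}) A),
      x = algebraMap A (AdicCompletion (Ideal.span {t}) A) a
        + algebraMap A (AdicCompletion (Ideal.span {t}) A) t ^ L * y := by
  obtain ⟨a, ha⟩ := Ideal.Quotient.mk_surjective (AdicCompletion.evalₐ (Ideal.span {t}) L x)
  have h0 : AdicCompletion.evalₐ (Ideal.span {t}) L
      (x - algebraMap A (AdicCompletion (Ideal.span {t}) A) a) = 0 := by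
    rw [map_sub, evalₐ_algebraMap, ha, sub_self]
  obtain ⟨y, hy⟩ := exists_of_evalₐ_eq_zero t L _ h0
  exact ⟨a, y, by rw [← hy]; ring⟩

theorem inj (L : ℕ) (a : A) (y : AdicCompletion (Ideal.span {t}) A)
    (h : algebraMap A (AdicCompletion (Ideal.span {t}) A) a
      = algebraMap A (AdicCompletion (Ideal.span {t}) A) t ^ L * y) : ∃ b, a = t ^ L * b := by
  have h1 := congrArg (AdicCompletion.evalₐ (Ideal.span {t}) L) h
  rw [map_mul, map_pow, evalₐ_algebraMap, evalₐ_algebraMap, ← map_pow] at h1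
  have h2 : Ideal.Quotient.mk (Ideal.span {t} ^ L) (t ^ L) = 0 :=
    Ideal.Quotient.eq_zero_iff_mem.mpr (Ideal.pow_mem_pow (Ideal.subset_span (Set.mem_singleton t)) L)
  rw [h2, zero_mul, Ideal.Quotient.eq_zero_iff_mem, Ideal.span_singleton_pow,
    Ideal.mem_span_singleton'] at h1
  obtain ⟨b, hb⟩ := h1
  exact ⟨b, by rw [← hb]; ring⟩

theorem main [HenselianRing A (Ideal.span {t})]
    (e : Localization.Away (algebraMap A (AdicCompletion (Ideal.span {t}) A) t))
    (he : IsIdempotentElem e) :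
    ∃! e₀ : Localization.Away t, IsIdempotentElem e₀ ∧
      Localization.awayMap (algebraMap A (AdicCompletion (Ideal.span {t}) A)) t e₀ = e := by
  have hΦ : ∀ a, Localization.awayMap (algebraMap A (AdicCompletion (Ideal.span {t}) A)) t
      (algebraMap A (Localization.Away t) a)
      = algebraMap (AdicCompletion (Ideal.span {t}) A) _
        (algebraMap A (AdicCompletion (Ideal.span {t}) A) a) :=
    fun a => IsLocalization.map_eq _ a
  obtain ⟨e₀, h0, h0'⟩ := exists_abs t (algebraMap A (AdicCompletion (Ideal.span {t}) A))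
    (Localization.Away t)
    (Localization.Away (algebraMap A (AdicCompletion (Ideal.span {t}) A) t))
    (Localization.awayMap (algebraMap A (AdicCompletion (Ideal.span {t}) A)) t) hΦ
    (that_mem_jac t) (dense t) (inj t) e he
  refine ⟨e₀, ⟨h0, h0'⟩, fun e₁ ⟨h1, h1'⟩ => ?_⟩
  exact unique_abs t (algebraMap A (AdicCompletion (Ideal.span {t}) A))
    (Localization.Away t)
    (Localization.Away (algebraMap A (AdicCompletion (Ideal.span {t}) A) t))
    (Localization.awayMap (algebraMap A (AdicCompletion (Ideal.span {t}) A)) t) hΦ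
    (inj t) e₁ e₀ h1 h0 (h1'.trans h0'.symm)

end compl

end Groth.Agent.Lib.T2H8.IdemCompl
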