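import Mathlib
import Groth.Agent.Lib.Helper26PairHzUnique

/-!
# Idempotents of `R{t}[1/t]` (helper8)

For the henselization `B` of `R[t]` along `(t)`, every idempotent of `B[1/t]` comes from a unique
idempotent of `R` (S15768).  Abstractly: `ι : R → B` with retraction `ρ`, `ker ρ = τB`,
`τ ∈ jac B`, and `τ` regular modulo `JB` for every ideal `J` of `R` (from flatness over `R[t]`).
`claim` is an induction on the pole order `N`, carried out modulo an arbitrary ideal `J` of `R`.
-/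

set_option autoImplicit false
universe u

namespace Groth.Agent.Lib.T2H8.IdemHensLaurent

open Polynomial TensorProduct

section flat

theorem mem_of_mul_mem {A B : Type*} [CommRing A] [CommRing B] [Algebra A B] [Module.Flat A B]
    (𝔞 : Ideal A) (x : A) (hx : ∀ a, x * a ∈ 𝔞 → a ∈ 𝔞) (b : B)
    (hb : algebraMap A B x * b ∈ 𝔞.map (algebraMap A B)) : b ∈ 𝔞.map (algebraMap A B) := by
  let m : (A ⧸ 𝔞) →ₗ[A] (A ⧸ 𝔞) := LinearMap.lsmul A (A ⧸ 𝔞) x
  have hm : Function.Injective m := by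
    rw [injective_iff_map_eq_zero]
    intro z hz
    obtain ⟨a, rfl⟩ := Ideal.Quotient.mk_surjective z
    have h1 : Ideal.Quotient.mk 𝔞 (x * a) = 0 := by
      rw [← hz]; simp [m, Algebra.smul_def]
    rw [Ideal.Quotient.eq_zero_iff_mem] at h1 ⊢
    exact hx a h1
  have hinj : Function.Injective (m.lTensor B) :=
    Module.Flat.lTensor_preserves_injective_linearMap m hm
  have h2 : (m.lTensor B) (b ⊗ₜ[A] (1 : A ⧸ 𝔞)) = 0 := by
    rw [LinearMap.lTensor_tmul]
    have : m 1 = x • (1 : A ⧸ 𝔞) := rfl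
    rw [this, TensorProduct.tmul_smul, TensorProduct.smul_tmul', Algebra.smul_def]
    have h3 := Algebra.TensorProduct.quotIdealMapEquivTensorQuot_mk B 𝔞 (algebraMap A B x * b)
    rw [← h3]
    have h4 : (Ideal.Quotient.mk (𝔞.map (algebraMap A B)) (algebraMap A B x * b)) = 0 :=
      Ideal.Quotient.eq_zero_iff_mem.mpr hb
    exact (congrArg _ h4).trans (map_zero _)
  have h4 : b ⊗ₜ[A] (1 : A ⧸ 𝔞) = 0 := hinj (h2.trans (map_zero _).symm)
  have h5 : Algebra.TensorProduct.quotIdealMapEquivTensorQuot B 𝔞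
      (Ideal.Quotient.mk (𝔞.map (algebraMap A B)) b) = 0 := h4
  have h6 := (map_eq_zero_iff _ (AlgEquiv.injective _)).mp h5
  exact Ideal.Quotient.eq_zero_iff_mem.mp h6

end flat

section abs

variable {R B : Type*} [CommRing R] [CommRing B] (ι : R →+* B) (τ : B)
  (ρ : B →+* R) (hρ : ∀ r, ρ (ι r) = r) (hρτ : ρ τ = 0)
  (hker : ∀ b, ∃ c, b - ι (ρ b) = τ * c)
  (hjac : τ ∈ Ideal.jacobson (⊥ : Ideal B))
  (hreg : ∀ (J : Ideal R) (b : B), τ * b ∈ J.map ι → b ∈ J.map ι)

include hρ in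
theorem rho_mem (J : Ideal R) {b : B} (hb : b ∈ J.map ι) : ρ b ∈ J := by
  have : J.map ι ≤ J.comap ρ := Ideal.map_le_iff_le_comap.mpr (fun j hj => by
    show ρ (ι j) ∈ J
    rw [hρ]; exact hj)
  exact this hb

include hreg in
theorem pow_reg (J : Ideal R) (k : ℕ) (b : B) (h : τ ^ k * b ∈ J.map ι) : b ∈ J.map ι := by
  induction k with
  | zero => simpa using h
  | succ k ih =>
    apply ih
    apply hreg
    rw [← mul_assoc, ← pow_succ']; exact h

include hρ hρτ hker hjac hreg in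
theorem claim (N : ℕ) : ∀ (J : Ideal R) (g : B), g * g - τ ^ N * g ∈ J.map ι →
    ∃ r : R, r * r - r ∈ J ∧ g - τ ^ N * ι r ∈ J.map ι := by
  induction N with
  | zero =>
    intro J g hg
    rw [pow_zero, one_mul] at hg
    have h1 : ρ g * ρ g - ρ g ∈ J := by
      have := rho_mem ι ρ hρ J hg
      rwa [map_sub, map_mul] at this
    refine ⟨ρ g, h1, ?_⟩
    rw [pow_zero, one_mul]
    obtain ⟨c, hc⟩ := hker g
    have hr : ι (ρ g) * ι (ρ g) - ι (ρ g) ∈ J.map ι := by
      have := Ideal.mem_map_of_mem ι h1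
      rwa [map_sub, map_mul] at this
    obtain ⟨ui, hui⟩ := (Ideal.mem_jacobson_bot.mp hjac (-(τ * c * c))).exists_right_inv
    have e1 : (g - ι (ρ g)) * (τ * (-(τ * c * c)) + 1)
        = -((g + 1 - 3 * ι (ρ g)) * (g * g - g)
          + (3 * g - ι (ρ g) - 1) * (ι (ρ g) * ι (ρ g) - ι (ρ g))) := by
      linear_combination (g - ι (ρ g)) * (g - ι (ρ g) + τ * c) * hc
    have hd3 : (g - ι (ρ g)) * (τ * (-(τ * c * c)) + 1) ∈ J.map ι := by
      rw [e1]
      exact neg_mem (add_mem (Ideal.mul_mem_left _ _ hg) (Ideal.mul_mem_left _ _ hr))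
    have e2 : g - ι (ρ g) = (g - ι (ρ g)) * (τ * (-(τ * c * c)) + 1) * ui := by
      linear_combination (-(g - ι (ρ g))) * hui
    rw [e2]
    exact Ideal.mul_mem_right _ _ hd3
  | succ N ih =>
    intro J g hg
    obtain ⟨h, hh⟩ := hker g
    obtain ⟨g0, hg0def⟩ : ∃ g0, g0 = ρ g := ⟨_, rfl⟩
    rw [← hg0def] at hh
    have hg0 : g0 * g0 ∈ J := by
      have := rho_mem ι ρ hρ J hg
      rw [map_sub, map_mul, map_mul, map_pow, hρτ, pow_succ, mul_zero, zero_mul, sub_zero,
        ← hg0def] at this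
      exact this
    have hJ' : ∀ x ∈ J ⊔ Ideal.span {g0}, x * x ∈ J := by
      intro x hx
      obtain ⟨j, hj, s, hs, rfl⟩ := Submodule.mem_sup.mp hx
      obtain ⟨c, rfl⟩ := Ideal.mem_span_singleton'.mp hs
      have : (j + c * g0) * (j + c * g0) = j * (j + 2 * c * g0) + c * c * (g0 * g0) := by ring
      rw [this]
      exact add_mem (Ideal.mul_mem_right _ _ hj) (Ideal.mul_mem_left _ _ hg0)
    have hJ'B : ∀ x ∈ (J ⊔ Ideal.span {g0}).map ι, x * x ∈ J.map ι := by
      intro x hx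
      rw [Ideal.map_sup, Ideal.map_span, Set.image_singleton] at hx
      obtain ⟨j, hj, s, hs, rfl⟩ := Submodule.mem_sup.mp hx
      obtain ⟨c, rfl⟩ := Ideal.mem_span_singleton'.mp hs
      have : (j + c * ι g0) * (j + c * ι g0)
          = j * (j + 2 * c * ι g0) + c * c * ι (g0 * g0) := by rw [map_mul]; ring
      rw [this]
      exact add_mem (Ideal.mul_mem_right _ _ hj)
        (Ideal.mul_mem_left _ _ (Ideal.mem_map_of_mem ι hg0))
    have hle : J.map ι ≤ (J ⊔ Ideal.span {g0}).map ι := Ideal.map_mono le_sup_left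
    have hg0mem : ι g0 ∈ (J ⊔ Ideal.span {g0}).map ι :=
      Ideal.mem_map_of_mem ι (Ideal.mem_sup_right (Ideal.subset_span (Set.mem_singleton g0)))
    have hh2 : h * h - τ ^ N * h ∈ (J ⊔ Ideal.span {g0}).map ι := by
      apply hreg; apply hreg
      have : τ * (τ * (h * h - τ ^ N * h))
          = (g * g - τ ^ (N + 1) * g) - ι g0 * (ι g0 + 2 * τ * h - τ ^ (N + 1)) := by
        linear_combination (-(g + ι g0 + τ * h - τ ^ (N + 1))) * hh
      rw [this]
      exact sub_mem (hle hg) (Ideal.mul_mem_right _ _ hg0mem)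
    obtain ⟨r', hr', hhr'⟩ := ih (J ⊔ Ideal.span {g0}) h hh2
    obtain ⟨r, hrdef⟩ : ∃ r, r = 3 * r' ^ 2 - 2 * r' ^ 3 := ⟨_, rfl⟩
    have hrr : r * r - r ∈ J := by
      have := hJ' _ hr'
      have e : r * r - r
          = -((3 - 2 * r') * (2 * r' + 1)) * ((r' * r' - r') * (r' * r' - r')) := by
        rw [hrdef]; ring
      rw [e]; exact Ideal.mul_mem_left _ _ this
    have hrr' : r' - r ∈ J ⊔ Ideal.span {g0} := by
      have e : r' - r = (2 * r' - 1) * (r' * r' - r') := by rw [hrdef]; ring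
      rw [e]; exact Ideal.mul_mem_left _ _ hr'
    refine ⟨r, hrr, ?_⟩
    have hd' : g - τ ^ (N + 1) * ι r ∈ (J ⊔ Ideal.span {g0}).map ι := by
      have e : g - τ ^ (N + 1) * ι r
          = ι g0 + τ * (h - τ ^ N * ι r') + τ ^ (N + 1) * ι (r' - r) := by
        rw [map_sub]; linear_combination hh
      rw [e]
      exact add_mem (add_mem hg0mem (Ideal.mul_mem_left _ _ hhr'))
        (Ideal.mul_mem_left _ _ (Ideal.mem_map_of_mem ι hrr'))
    have hd2 := hJ'B _ hd'
    have hy : τ ^ (N + 1) * ι r * (τ ^ (N + 1) * ι r) - τ ^ (N + 1) * (τ ^ (N + 1) * ι r)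
        ∈ J.map ι := by
      have e : τ ^ (N + 1) * ι r * (τ ^ (N + 1) * ι r) - τ ^ (N + 1) * (τ ^ (N + 1) * ι r)
          = τ ^ (N + 1) * τ ^ (N + 1) * ι (r * r - r) := by
        rw [map_sub, map_mul]; ring
      rw [e]; exact Ideal.mul_mem_left _ _ (Ideal.mem_map_of_mem ι hrr)
    have hdT1 : (g - τ ^ (N + 1) * ι r) * (τ ^ (N + 1) * (2 * ι r - 1)) ∈ J.map ι := by
      have e : (g - τ ^ (N + 1) * ι r) * (τ ^ (N + 1) * (2 * ι r - 1))
          = (g * g - τ ^ (N + 1) * g)
            - (τ ^ (N + 1) * ι r * (τ ^ (N + 1) * ι r) - τ ^ (N + 1) * (τ ^ (N + 1) * ι r))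
            - (g - τ ^ (N + 1) * ι r) * (g - τ ^ (N + 1) * ι r) := by ring
      rw [e]; exact sub_mem (sub_mem hg hy) hd2
    have hdT : τ ^ (N + 1) * (g - τ ^ (N + 1) * ι r) ∈ J.map ι := by
      have e : τ ^ (N + 1) * (g - τ ^ (N + 1) * ι r)
          = (2 * ι r - 1) * ((g - τ ^ (N + 1) * ι r) * (τ ^ (N + 1) * (2 * ι r - 1)))
            - 4 * (g - τ ^ (N + 1) * ι r) * τ ^ (N + 1) * ι (r * r - r) := by
        rw [map_sub, map_mul]; ring
      rw [e]
      exact sub_mem (Ideal.mul_mem_left _ _ hdT1)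
        (Ideal.mul_mem_left _ _ (Ideal.mem_map_of_mem ι hrr))
    exact pow_reg ι τ hreg J (N + 1) _ hdT

include hρ hρτ hker hjac hreg in
theorem main_abs (S : Type*) [CommRing S] [Algebra B S] [IsLocalization.Away τ S] (e : S)
    (he : IsIdempotentElem e) :
    ∃! r : R, IsIdempotentElem r ∧ algebraMap B S (ι r) = e := by
  have hbot : (⊥ : Ideal R).map ι = ⊥ := Ideal.map_bot
  have hinjS : ∀ b : B, algebraMap B S b = 0 → b = 0 := by
    intro b hb
    obtain ⟨m, hm⟩ := IsLocalization.Away.exists_of_eq τ (hb.trans (map_zero _).symm)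
    rw [mul_zero] at hm
    have := pow_reg ι τ hreg ⊥ m b (by rw [hm]; exact zero_mem _)
    rwa [hbot, Ideal.mem_bot] at this
  have he' : e * e = e := he
  obtain ⟨N, g, hg⟩ := IsLocalization.Away.surj τ e
  have hgg : g * g - τ ^ N * g = 0 := by
    apply hinjS
    rw [map_sub, map_mul, map_mul, map_pow, ← hg]
    linear_combination (algebraMap B S τ ^ N) ^ 2 * he'
  obtain ⟨r, hr, hgr⟩ := claim ι τ ρ hρ hρτ hker hjac hreg N ⊥ g (by rw [hgg]; exact zero_mem _)
  rw [hbot, Ideal.mem_bot, sub_eq_zero] at hgr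
  rw [Ideal.mem_bot, sub_eq_zero] at hr
  have hre : algebraMap B S (ι r) = e := by
    have hu := IsLocalization.Away.algebraMap_pow_isUnit (S := S) τ N
    apply hu.mul_left_injective
    show algebraMap B S (ι r) * algebraMap B S τ ^ N = e * algebraMap B S τ ^ N
    rw [hg, hgr, map_mul, map_pow]; ring
  refine ⟨r, ⟨hr, hre⟩, ?_⟩
  rintro r' ⟨-, hr'⟩
  have h0 : ι r' - ι r = 0 := by
    apply hinjS
    rw [map_sub, hr', hre, sub_self]
  have := congrArg ρ (sub_eq_zero.mp h0)
  rwa [hρ, hρ] at this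

end abs

section inst

variable (R : Type u) [CommRing R] (B : Type u) [CommRing B] [Algebra R[X] B]

theorem main (hB : Hens2.IsPairHenselization R[X] (Ideal.span {(X : R[X])}) B)
    (e : Localization.Away (algebraMap R[X] B X)) (he : IsIdempotentElem e) :
    ∃! r : R, IsIdempotentElem r ∧
      algebraMap B (Localization.Away (algebraMap R[X] B X))
        (algebraMap R[X] B (Polynomial.C r)) = e := by
  have hle : (Ideal.span {(X : R[X])}).map (Polynomial.constantCoeff : R[X] →+* R) ≤ ⊥ := by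
    rw [Ideal.map_span, Set.image_singleton]
    simp
  obtain ⟨ρ, hρc, -⟩ := hB.2 R ⊥ Polynomial.constantCoeff
    (Groth.Agent.Lib.Helper2.henselianRing_bot R) hle
  have hρ' : ∀ p : R[X], ρ (algebraMap R[X] B p) = p.coeff 0 := fun p => by
    have := congrArg (fun k : R[X] →+* R => k p) hρc
    simpa using this
  have hρ : ∀ r, ρ (((algebraMap R[X] B).comp C) r) = r := fun r => by
    rw [RingHom.comp_apply, hρ', coeff_C_zero]
  have hρτ : ρ (algebraMap R[X] B X) = 0 := by rw [hρ', coeff_X_zero]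
  have hjac : algebraMap R[X] B X ∈ Ideal.jacobson (⊥ : Ideal B) :=
    hB.1.jac (Ideal.mem_map_of_mem _ (Ideal.subset_span (Set.mem_singleton X)))
  have hker : ∀ b : B, ∃ c,
      b - ((algebraMap R[X] B).comp C) (ρ b) = algebraMap R[X] B X * c := by
    intro b
    obtain ⟨z, hz⟩ := (Groth.Agent.Lib.Helper26.PairHz.quotientMap_pow_bijective hB 1).2
      (Ideal.Quotient.mk _ b)
    obtain ⟨p, rfl⟩ := Ideal.Quotient.mk_surjective z
    rw [Ideal.quotientMap_mk, Ideal.Quotient.eq] at hz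
    rw [pow_one, Ideal.map_span, Set.image_singleton, Ideal.mem_span_singleton'] at hz
    obtain ⟨c, hc⟩ := hz
    have hρb : ρ b = p.coeff 0 := by
      have := congrArg ρ hc
      rw [map_mul, hρτ, mul_zero, map_sub, hρ'] at this
      exact (sub_eq_zero.mp this.symm).symm
    refine ⟨algebraMap R[X] B (divX p) - c, ?_⟩
    rw [hρb, RingHom.comp_apply]
    have hp := congrArg (algebraMap R[X] B) (Polynomial.X_mul_divX_add p)
    rw [map_add, map_mul] at hp
    linear_combination hc - hp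
  haveI : Module.Flat R[X] B := Groth.Agent.Lib.Helper26.PairHz.flat_of_isPairHenselization hB
  have hreg : ∀ (J : Ideal R) (b : B),
      algebraMap R[X] B X * b ∈ J.map ((algebraMap R[X] B).comp C) →
      b ∈ J.map ((algebraMap R[X] B).comp C) := by
    intro J b hb
    rw [← Ideal.map_map] at hb ⊢
    refine mem_of_mul_mem (J.map C) X ?_ b hb
    intro a ha
    rw [Ideal.mem_map_C_iff] at ha ⊢
    intro n
    have := ha (n + 1)
    rwa [coeff_X_mul] at this
  exact main_abs ((algebraMap R[X] B).comp C) (algebraMap R[X] B X) ρ hρ hρτ hker hjac hreg _ e he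

end inst

end Groth.Agent.Lib.T2H8.IdemHensLaurent
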