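import Mathlib
import Groth.Agent.Lib.Helper23PshModGroth

/-!
# Injective presheaves of modules: restriction along a monomorphism is surjective
-/

set_option autoImplicit false
universe u
open CategoryTheory Limits Opposite

namespace Groth.Agent.Lib.T2H8.InjSurj

open Groth.Agent.Lib.Helper23PshModGroth

variable {C₀ : Type (u+1)} [Category.{u} C₀] (R : C₀ᵒᵖ ⥤ RingCat.{u})

/-- the element of `F R X` at `X'` given by a morphism `f : X' ⟶ X` -/
noncomputable def elt {X X' : C₀} (f : X' ⟶ X) : (F R X).obj (op X') :=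
  (Finsupp.single ⟨f⟩ 1 : Idx X (op X') →₀ R.obj (op X'))

/-- the morphism `F R X' ⟶ F R X` induced by `f : X' ⟶ X` -/
noncomputable def pre {X X' : C₀} (f : X' ⟶ X) : F R X' ⟶ F R X :=
  toM R (F R X) X' (elt R f)

lemma pre_app_gen {X X' : C₀} (f : X' ⟶ X) :
    (pre R f).app (op X') (gen R X') = elt R f := toM_app R _ _ _

lemma map_gen {X X' : C₀} (f : X' ⟶ X) :
    (F R X).map f.op (gen R X) = elt R f := by
  change tr R X f.op (Finsupp.single ⟨𝟙 X⟩ 1) = _
  rw [tr_single]
  simp [elt]

lemma pre_app_single {X X' : C₀} (f : X' ⟶ X) (Y : C₀ᵒᵖ) (h : Idx X' Y) (r : R.obj Y) :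
    (pre R f).app Y (Finsupp.single h r : Idx X' Y →₀ R.obj Y) =
      (Finsupp.single ⟨h.down ≫ f⟩ r : Idx X Y →₀ R.obj Y) := by
  change ev R (F R X) X' (elt R f) Y (Finsupp.single h r) = _
  rw [ev_single]
  change r • tr R X h.down.op (Finsupp.single ⟨f⟩ 1) = _
  rw [tr_single, Finsupp.smul_single]
  simp

lemma pre_app_eq_mapDomain {X X' : C₀} (f : X' ⟶ X) (Y : C₀ᵒᵖ) (x : Idx X' Y →₀ R.obj Y) :
    (pre R f).app Y x =
      (Finsupp.mapDomain (fun h : Idx X' Y => (⟨h.down ≫ f⟩ : Idx X Y)) x : Idx X Y →₀ R.obj Y) := by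
  induction x using Finsupp.induction_linear with
  | zero =>
    rw [Finsupp.mapDomain_zero]
    exact map_zero ((pre R f).app Y).hom
  | add a b ha hb =>
    rw [Finsupp.mapDomain_add, ← ha, ← hb]
    exact map_add ((pre R f).app Y).hom a b
  | single h r => rw [pre_app_single, Finsupp.mapDomain_single]

instance pre_mono {X X' : C₀} (f : X' ⟶ X) [Mono f] : Mono (pre R f) := by
  apply PresheafOfModules.mono_of_injective
  intro Y x y hxy
  rw [pre_app_eq_mapDomain, pre_app_eq_mapDomain] at hxy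
  refine Finsupp.mapDomain_injective ?_ hxy
  intro h h' hh
  have : h.down ≫ f = h'.down ≫ f := congrArg ULift.down hh
  exact ULift.ext _ _ ((cancel_mono f).1 this)

theorem map_surjective_of_injective (I : PresheafOfModules.{u+1} R) [Injective I]
    {X X' : C₀} (f : X' ⟶ X) [Mono f] : Function.Surjective (I.map f.op) := by
  intro ξ'
  let b : F R X ⟶ I := Injective.factorThru (toM R I X' ξ') (pre R f)
  have hb : pre R f ≫ b = toM R I X' ξ' := Injective.comp_factorThru _ _
  refine ⟨b.app (op X) (gen R X), ?_⟩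
  have h1 : I.map f.op (b.app (op X) (gen R X)) = b.app (op X') ((F R X).map f.op (gen R X)) :=
    (PresheafOfModules.naturality_apply b f.op (gen R X)).symm
  rw [h1, map_gen, ← pre_app_gen]
  have h2 : b.app (op X') ((pre R f).app (op X') (gen R X')) = (pre R f ≫ b).app (op X') (gen R X') := rfl
  rw [h2, hb, toM_app]

end Groth.Agent.Lib.T2H8.InjSurj
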