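import Mathlib

/-!
# Height-one primes of rings of invariants (helper8): rank semicontinuity
-/

set_option autoImplicit false
universe u v

open TensorProduct

namespace Groth.Agent.Lib.T2H8.InvPrinc

/-- upper semicontinuity of the fibre rank: the generic rank of a finite module over a domain is at
most the dimension of its fibre at any prime -/
theorem finrank_le_finrank_fiber (B : Type u) (M : Type v) [CommRing B] [IsDomain B]
    [AddCommGroup M] [Module B M] [Module.Finite B M] (q : Ideal B) [q.IsPrime] :
    Module.finrank B M ≤ Module.finrank q.ResidueField (q.Fiber M) := by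
  classical
  let R' := Localization.AtPrime q
  let M' := R' ⊗[B] M
  let k := q.ResidueField
  let e : k ⊗[R'] M' ≃ₗ[k] k ⊗[B] M := AlgebraTensorModule.cancelBaseChange B R' k k M
  have h1 : Module.finrank R' M' = Module.finrank B M :=
    (TensorProduct.isBaseChange B M R').finrank_eq
  rw [← h1, ← e.finrank_eq]
  set r := Module.finrank k (k ⊗[R'] M') with hr
  let b : Module.Basis (Fin r) k (k ⊗[R'] M') := Module.finBasis k (k ⊗[R'] M')
  have hsurj : Function.Surjective (TensorProduct.mk R' k M' 1) :=
    TensorProduct.mk_surjective R' M' k IsLocalRing.residue_surjective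
  choose f hf using fun i => hsurj (b i)
  have hspan : Submodule.span R' (Set.range f) = ⊤ :=
    IsLocalRing.span_eq_top_of_tmul_eq_basis f b hf
  calc Module.finrank R' M' = Module.finrank R' (⊤ : Submodule R' M') := (finrank_top R' M').symm
    _ = Module.finrank R' (Submodule.span R' (Set.range f)) := by rw [hspan]
    _ ≤ Fintype.card (Fin r) := finrank_range_le_card f
    _ = r := Fintype.card_fin r

end Groth.Agent.Lib.T2H8.InvPrinc
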