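import Mathlib
import Groth.Agent.Lib.T2H8InvPrincA

/-!
# Height-one primes of rings of invariants (helper8): ramification index vs stabilizer
-/

set_option autoImplicit false
universe u v w

open TensorProduct
open scoped Pointwise

namespace Groth.Agent.Lib.T2H8.InvPrinc

/-- if the residue extension at `p` is trivial, the ramification index of `p` is at least the
order of its decomposition group -/
theorem card_stabilizer_le_ramificationIdx {A : Type u} {B : Type v} {G : Type w}
    [CommRing A] [IsDomain A] [CommRing B]
    [Algebra B A] [FaithfulSMul B A] [Module.Finite B A] [Group G] [Finite G]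
    [MulSemiringAction G A] [IsGaloisGroup G B A] (q : Ideal B) [q.IsPrime] (p : Ideal A)
    [p.IsPrime] [p.LiesOver q] (hf : p.inertiaDeg B = 1) :
    Nat.card (MulAction.stabilizer G p) ≤ p.ramificationIdx B := by
  classical
  haveI : IsDomain B := IsDomain.of_faithfulSMul B A
  haveI : SMulCommClass G B A := IsGaloisGroup.commutes
  haveI : Algebra.IsInvariant B A G := IsGaloisGroup.isInvariant
  haveI : Fintype (q.primesOver A) := (Algebra.QuasiFinite.finite_primesOver q).fintype
  haveI : Fintype G := Fintype.ofFinite G
  have hsum := Ideal.sum_ramification_inertia_eq_finrank_fiber q A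
  have hterm : ∀ P : q.primesOver A, P.1.ramificationIdx B * P.1.inertiaDeg B
      = p.ramificationIdx B := by
    intro P
    haveI : P.1.IsPrime := P.2.1
    haveI : P.1.LiesOver q := P.2.2
    rw [Ideal.ramificationIdx_eq_of_isGaloisGroup q P.1 p G,
      Ideal.inertiaDeg_eq_of_isGaloisGroup q P.1 p G, hf, mul_one]
  rw [Finset.sum_congr rfl (fun P _ => hterm P), Finset.sum_const, Finset.card_univ,
    smul_eq_mul] at hsum
  have hge : Nat.card G ≤ Fintype.card (q.primesOver A) * p.ramificationIdx B := by
    rw [hsum, IsGaloisGroup.card_eq_finrank' G B A]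
    exact finrank_le_finrank_fiber B A q
  have horb : MulAction.orbit G p = q.primesOver A :=
    Algebra.IsInvariant.orbit_eq_primesOver B A G q p
  have hcard : Fintype.card (q.primesOver A) * Nat.card (MulAction.stabilizer G p)
      = Nat.card G := by
    have h1 := (MulAction.stabilizer G p).card_mul_index
    rw [MulAction.index_stabilizer, horb, ← Set.fintypeCard_eq_ncard] at h1
    rw [mul_comm]; exact h1
  have hpos : 0 < Fintype.card (q.primesOver A) := by
    apply Fintype.card_pos_iff.mpr
    exact ⟨⟨p, inferInstance, inferInstance⟩⟩
  rw [← hcard] at hge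
  exact Nat.le_of_mul_le_mul_left hge hpos

end Groth.Agent.Lib.T2H8.InvPrinc

namespace Groth.Agent.Lib.T2H8.InvPrinc

/-- trivial residue field extension gives inertia degree one -/
theorem inertiaDeg_eq_one_of_res {A : Type u} {B : Type v} [CommRing A] [CommRing B]
    [Algebra B A] (q : Ideal B) [q.IsPrime] (p : Ideal A) [p.IsPrime] [p.LiesOver q]
    (hres : ∀ a : A, ∃ b c : B, c ∉ q ∧ algebraMap B A c * a - algebraMap B A b ∈ p) :
    p.inertiaDeg B = 1 := by
  letI := Localization.AtPrime.algebraOfLiesOver q p
  rw [Ideal.inertiaDeg_eq q p]
  -- every element of `A` maps into the range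
  have hA : ∀ a : A, algebraMap A p.ResidueField a ∈
      (algebraMap q.ResidueField p.ResidueField).fieldRange := by
    intro a
    obtain ⟨b, c, hc, hbc⟩ := hres a
    have h0 : algebraMap A p.ResidueField (algebraMap B A c * a - algebraMap B A b) = 0 :=
      Ideal.algebraMap_residueField_eq_zero.mpr hbc
    rw [map_sub, map_mul, sub_eq_zero, ← IsScalarTower.algebraMap_apply,
      ← IsScalarTower.algebraMap_apply,
      IsScalarTower.algebraMap_apply B q.ResidueField p.ResidueField c,
      IsScalarTower.algebraMap_apply B q.ResidueField p.ResidueField b] at h0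
    have hc0 : algebraMap B q.ResidueField c ≠ 0 := by
      rw [Ne, Ideal.algebraMap_residueField_eq_zero]; exact hc
    have hc1 : algebraMap q.ResidueField p.ResidueField (algebraMap B q.ResidueField c) ≠ 0 := by
      rw [Ne, map_eq_zero]; exact hc0
    have : algebraMap A p.ResidueField a =
        algebraMap q.ResidueField p.ResidueField
          (algebraMap B q.ResidueField b / algebraMap B q.ResidueField c) := by
      rw [map_div₀, eq_div_iff hc1, mul_comm]; exact h0
    rw [this]
    exact ⟨_, rfl⟩
  have hsurj : Function.Surjective (algebraMap q.ResidueField p.ResidueField) := by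
    intro x
    obtain ⟨y, rfl⟩ := IsLocalRing.residue_surjective x
    obtain ⟨a, s, rfl⟩ := IsLocalization.exists_mk'_eq p.primeCompl y
    have hs : algebraMap A p.ResidueField s ≠ 0 := by
      rw [Ne, Ideal.algebraMap_residueField_eq_zero]; exact s.2
    have heq : IsLocalRing.residue (Localization.AtPrime p) (IsLocalization.mk' _ a s)
        = algebraMap A p.ResidueField a / algebraMap A p.ResidueField s := by
      rw [eq_div_iff hs]
      show IsLocalRing.residue _ _ * IsLocalRing.residue _ (algebraMap A _ (s : A)) = 
        IsLocalRing.residue _ (algebraMap A _ a)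
      rw [← map_mul, IsLocalization.mk'_spec]
    rw [heq]
    exact (algebraMap q.ResidueField p.ResidueField).fieldRange.div_mem (hA a) (hA s)
  have hbij : Function.Bijective (Algebra.linearMap q.ResidueField p.ResidueField) :=
    ⟨(algebraMap q.ResidueField p.ResidueField).injective, hsurj⟩
  rw [← (LinearEquiv.ofBijective _ hbij).finrank_eq, Module.finrank_self]

end Groth.Agent.Lib.T2H8.InvPrinc
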