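import Mathlib

/-!
# Height-one primes of rings of invariants (helper8): ramification index and divisibility
-/

set_option autoImplicit false
universe u v w

namespace Groth.Agent.Lib.T2H8.InvPrinc

/-- the localization of a Noetherian domain at a principal prime is a discrete valuation ring -/
theorem isDVR_atPrime_of_span_singleton {A : Type u} [CommRing A] [IsDomain A] [IsNoetherianRing A]
    (p : Ideal A) [p.IsPrime] (π : A) (hπ0 : π ≠ 0) (hp : p = Ideal.span {π}) :
    IsDiscreteValuationRing (Localization.AtPrime p) := by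
  have hmax : IsLocalRing.maximalIdeal (Localization.AtPrime p) =
      Ideal.span {algebraMap A (Localization.AtPrime p) π} := by
    rw [← Localization.AtPrime.map_eq_maximalIdeal,
      congrArg (Ideal.map (algebraMap A (Localization.AtPrime p))) hp, Ideal.map_span,
      Set.image_singleton]
  have hnf : ¬ IsField (Localization.AtPrime p) := by
    rw [IsLocalRing.isField_iff_maximalIdeal_eq, hmax, Ideal.span_singleton_eq_bot]
    intro h
    exact hπ0 ((IsLocalization.injective (Localization.AtPrime p)
      p.primeCompl_le_nonZeroDivisors) (h.trans (map_zero _).symm))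
  refine ((IsDiscreteValuationRing.TFAE (Localization.AtPrime p) hnf).out 0 4).mpr ?_
  rw [hmax]
  exact ⟨⟨_, rfl⟩⟩

/-- elements of `q` are divisible by `π ^ n` when `n` is at most the ramification index -/
theorem pow_dvd_of_le_ramificationIdx {A : Type u} {B : Type v} [CommRing A] [IsDomain A]
    [IsNoetherianRing A] [CommRing B] [Algebra B A] [FaithfulSMul B A]
    (q : Ideal B) [q.IsPrime] (hq : q ≠ ⊥) (p : Ideal A) [p.IsPrime] [p.LiesOver q]
    (π : A) (hπ : Prime π) (hp : p = Ideal.span {π}) (n : ℕ) (hn : n ≤ p.ramificationIdx B)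
    (t : B) (ht : t ∈ q) : π ^ n ∣ algebraMap B A t := by
  haveI := isDVR_atPrime_of_span_singleton p π hπ.ne_zero hp
  set Ap := Localization.AtPrime p with hAp
  have hinj : Function.Injective (algebraMap A Ap) :=
    IsLocalization.injective Ap p.primeCompl_le_nonZeroDivisors
  have hmax : IsLocalRing.maximalIdeal Ap = Ideal.span {algebraMap A Ap π} := by
    rw [← Localization.AtPrime.map_eq_maximalIdeal,
      congrArg (Ideal.map (algebraMap A Ap)) hp, Ideal.map_span, Set.image_singleton]
  set I := q.map (algebraMap B Ap) with hI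
  have hI0 : I ≠ ⊥ := by
    obtain ⟨x, hx, hx0⟩ := Submodule.exists_mem_ne_zero_of_ne_bot hq
    intro h
    have : algebraMap B Ap x ∈ I := Ideal.mem_map_of_mem _ hx
    rw [h, Ideal.mem_bot, IsScalarTower.algebraMap_apply B A Ap] at this
    have h2 := hinj (this.trans (map_zero _).symm)
    exact hx0 ((FaithfulSMul.algebraMap_injective B A) (h2.trans (map_zero _).symm))
  have hnf : ¬ IsField Ap := IsDiscreteValuationRing.not_isField Ap
  have hall : ∀ (J : Ideal Ap) (_ : J ≠ ⊥), ∃ n : ℕ, J = IsLocalRing.maximalIdeal Ap ^ n :=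
    ((IsDiscreteValuationRing.TFAE Ap hnf).out 0 6).mp (by infer_instance)
  obtain ⟨k, hk⟩ := hall I hI0
  have he : p.ramificationIdx B = k := by
    rw [Ideal.ramificationIdx_eq q p, ← hI, hk,
      IsDiscreteValuationRing.length_quotient_pow_maximalIdeal]
    rfl
  have hle : I ≤ Ideal.span {algebraMap A Ap π ^ n} := by
    rw [hk, hmax, Ideal.span_singleton_pow]
    rw [Ideal.span_singleton_le_span_singleton]
    exact pow_dvd_pow _ (he ▸ hn)
  have hmem : algebraMap B Ap t ∈ Ideal.span {algebraMap A Ap π ^ n} :=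
    hle (Ideal.mem_map_of_mem _ ht)
  rw [Ideal.mem_span_singleton] at hmem
  obtain ⟨y, hy⟩ := hmem
  obtain ⟨a, s, rfl⟩ := IsLocalization.exists_mk'_eq p.primeCompl y
  have h1 : algebraMap A Ap (algebraMap B A t * s) = algebraMap A Ap (π ^ n * a) := by
    rw [map_mul, ← IsScalarTower.algebraMap_apply, hy, mul_assoc, IsLocalization.mk'_spec,
      map_mul, map_pow]
  have h2 := hinj h1
  have hs : ¬ π ∣ (s : A) := by
    intro hdvd
    apply s.2
    have hmem : (s : A) ∈ Ideal.span {π} := Ideal.mem_span_singleton.mpr hdvd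
    exact hp ▸ hmem
  exact hπ.pow_dvd_of_dvd_mul_right n hs ⟨a, h2⟩

end Groth.Agent.Lib.T2H8.InvPrinc
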