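import Mathlib

/-!
# Height-one primes of rings of invariants (helper8): the norm of a prime element divides
-/

set_option autoImplicit false
universe u v w

open scoped Pointwise

namespace Groth.Agent.Lib.T2H8.InvPrinc

variable {A : Type u} {G : Type w} [CommRing A] [IsDomain A] [Group G] [MulSemiringAction G A]

theorem smul_span_singleton (g : G) (π : A) :
    g • (Ideal.span {π} : Ideal A) = Ideal.span {g • π} := by
  rw [Ideal.pointwise_smul_def, Ideal.map_span, Set.image_singleton]
  rfl

theorem prime_smul (g : G) {π : A} (hπ : Prime π) : Prime (g • π) :=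
  (MulEquiv.prime_iff (MulSemiringAction.toRingEquiv G A g).toMulEquiv).mpr hπ

omit [IsDomain A] in
theorem smul_dvd_smul (g : G) {a b : A} (h : a ∣ b) : g • a ∣ g • b :=
  map_dvd (MulSemiringAction.toRingHom G A g) h

/-- elements of the stabilizer of `(π)` send `π` to an associate -/
theorem associated_smul_of_mem_stabilizer {π : A} {h : G}
    (hh : h ∈ MulAction.stabilizer G (Ideal.span {π} : Ideal A)) : Associated (h • π) π := by
  rw [MulAction.mem_stabilizer_iff, smul_span_singleton] at hh
  exact Ideal.span_singleton_eq_span_singleton.mp hh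

theorem associated_smul_of_quot_eq {π : A} {g g' : G}
    (h : (g : G ⧸ MulAction.stabilizer G (Ideal.span {π} : Ideal A)) = g') :
    Associated (g • π) (g' • π) := by
  rw [QuotientGroup.eq] at h
  have h1 := associated_smul_of_mem_stabilizer h
  -- apply `g`
  have h2 : Associated (g • ((g⁻¹ * g') • π)) (g • π) :=
    h1.map (MulSemiringAction.toRingHom G A g)
  rw [← mul_smul, mul_inv_cancel_left] at h2
  exact h2.symm

theorem quot_eq_of_associated_smul {π : A} {g g' : G} (h : Associated (g • π) (g' • π)) :
    (g : G ⧸ MulAction.stabilizer G (Ideal.span {π} : Ideal A)) = g' := by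
  have h1 : Ideal.span {g • π} = (Ideal.span {g' • π} : Ideal A) :=
    Ideal.span_singleton_eq_span_singleton.mpr h
  rw [← smul_span_singleton, ← smul_span_singleton] at h1
  rw [QuotientGroup.eq, MulAction.mem_stabilizer_iff, mul_smul, ← h1, inv_smul_smul]

end Groth.Agent.Lib.T2H8.InvPrinc

namespace Groth.Agent.Lib.T2H8.InvPrinc

variable {A : Type u} {G : Type w} [CommRing A] [IsDomain A] [Group G] [MulSemiringAction G A]

/-- if an invariant element is divisible by `π ^ n`, `n` the order of the stabilizer of `(π)`, then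
it is divisible by the norm of `π` -/
theorem prod_smul_dvd [UniqueFactorizationMonoid A] [Fintype G] (π : A) (hπ : Prime π) (t : A)
    (ht : ∀ g : G, g • t = t)
    (hdiv : π ^ Nat.card (MulAction.stabilizer G (Ideal.span {π} : Ideal A)) ∣ t) :
    ∏ g : G, g • π ∣ t := by
  classical
  set D := MulAction.stabilizer G (Ideal.span {π} : Ideal A) with hD
  set n := Nat.card D with hn
  let rep : G ⧸ D → G := Quotient.out
  have hrep : ∀ x, (rep x : G ⧸ D) = x := fun x => QuotientGroup.out_eq' x
  let ϖ : G ⧸ D → A := fun x => rep x • π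
  have hM : ∏ x : G ⧸ D, ϖ x ^ n ∣ t := by
    apply Fintype.prod_dvd_of_isRelPrime
    · intro x y hxy
      show IsRelPrime (ϖ x ^ n) (ϖ y ^ n)
      apply IsRelPrime.pow
      rw [(prime_smul (rep x) hπ).irreducible.isRelPrime_iff_not_dvd]
      intro hdvd
      have h1 := (prime_smul (rep x) hπ).irreducible.associated_of_dvd
        (prime_smul (rep y) hπ).irreducible hdvd
      have h2 := quot_eq_of_associated_smul h1
      rw [hrep, hrep] at h2
      exact hxy h2
    · intro x
      have h1 := smul_dvd_smul (rep x) hdiv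
      rw [ht, smul_pow'] at h1
      exact h1
  refine dvd_trans ?_ hM
  rw [← Finset.prod_fiberwise (s := Finset.univ) (g := fun g : G => (g : G ⧸ D))]
  apply Finset.prod_dvd_prod_of_dvd
  intro x _
  have h1 : ∏ g ∈ Finset.univ.filter (fun g : G => (g : G ⧸ D) = x), g • π ∣
      ∏ g ∈ Finset.univ.filter (fun g : G => (g : G ⧸ D) = x), ϖ x := by
    apply Finset.prod_dvd_prod_of_dvd
    intro g hg
    rw [Finset.mem_filter] at hg
    have h2 : (g : G ⧸ D) = rep x := by rw [hg.2, hrep]
    exact (associated_smul_of_quot_eq h2).dvd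
  refine h1.trans ?_
  rw [Finset.prod_const]
  apply pow_dvd_pow
  -- the fibre has at most `n` elements
  rw [hn, Nat.card_eq_fintype_card, ← Fintype.card_subtype]
  apply Fintype.card_le_of_injective (fun g : {g : G // (g : G ⧸ D) = x} =>
    (⟨(rep x)⁻¹ * g.1, by
      have h2 : (rep x : G ⧸ D) = (g.1 : G ⧸ D) := by rw [g.2, hrep]
      exact QuotientGroup.eq.mp h2⟩ : D))
  intro g g' hgg'
  have h3 : (rep x)⁻¹ * g.1 = (rep x)⁻¹ * g'.1 := congrArg (Subtype.val : D → G) hgg'
  exact Subtype.ext (mul_left_cancel h3)

end Groth.Agent.Lib.T2H8.InvPrinc
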