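import Mathlib
import Groth.Agent.Lib.T2H8InvPrincB
import Groth.Agent.Lib.T2H8InvPrincC
import Groth.Agent.Lib.T2H8InvPrincD

/-!
# Height-one primes of rings of invariants (helper8): principality
-/

set_option autoImplicit false
universe u

open scoped Pointwise

namespace Groth.Agent.Lib.T2H8.InvPrinc

/-- a prime of a factorial domain lying over a height-one prime of a subring over which it is
integral is generated by a prime element -/
theorem exists_prime_span_eq {A B : Type u} [CommRing A] [IsDomain A]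
    [UniqueFactorizationMonoid A] [CommRing B] [Algebra B A] [FaithfulSMul B A]
    [Algebra.IsIntegral B A] (q : Ideal B) [q.IsPrime] (hq : q.height = 1) (p : Ideal A)
    [p.IsPrime] [p.LiesOver q] : ∃ π : A, Prime π ∧ p = Ideal.span {π} := by
  haveI : IsDomain B := IsDomain.of_faithfulSMul B A
  have hq0 : q ≠ ⊥ := Ideal.ne_bot_of_height_eq_one hq
  have hpq : p.comap (algebraMap B A) = q := (Ideal.over_def p q).symm
  have hp0 : p ≠ ⊥ := by
    intro h
    apply hq0
    rw [← hpq, h]
    exact Ideal.comap_bot_of_injective _ (FaithfulSMul.algebraMap_injective B A)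
  obtain ⟨π, hπp, hπ⟩ := Ideal.IsPrime.exists_mem_prime_of_ne_bot ‹p.IsPrime› hp0
  refine ⟨π, hπ, ?_⟩
  set P' : Ideal A := Ideal.span {π} with hP'
  haveI hP'prime : P'.IsPrime := (Ideal.span_singleton_prime hπ.ne_zero).mpr hπ
  have hP'p : P' ≤ p := (Ideal.span_singleton_le_iff_mem _).mpr hπp
  have hP'0 : P' ≠ ⊥ := by
    rw [hP', Ne, Ideal.span_singleton_eq_bot]; exact hπ.ne_zero
  set q' := P'.comap (algebraMap B A) with hq'
  haveI : q'.IsPrime := Ideal.comap_isPrime _ _
  have hq'q : q' ≤ q := hpq ▸ Ideal.comap_mono hP'p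
  have hq'0 : q' ≠ ⊥ := fun h => hP'0 (Ideal.eq_bot_of_comap_eq_bot h)
  have hq'eq : q' = q := by
    by_contra hne
    have hlt : q' < q := lt_of_le_of_ne hq'q hne
    haveI : q.FiniteHeight := by
      rw [Ideal.finiteHeight_iff]; right; rw [hq]; exact ENat.one_ne_top
    have h1 := Ideal.height_strict_mono_of_isPrime_of_isPrime hlt
    rw [hq, ENat.lt_one_iff_eq_zero, Ideal.height_eq_zero_iff_eq_bot] at h1
    exact hq'0 h1
  by_contra hne
  have hlt : P' < p := lt_of_le_of_ne hP'p (fun h => hne h.symm)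
  obtain ⟨x, hxp, hxP'⟩ := SetLike.exists_of_lt hlt
  have := Ideal.comap_lt_comap_of_integral_mem_sdiff hP'p ⟨hxp, hxP'⟩
    (Algebra.IsIntegral.isIntegral (R := B) x)
  rw [hpq, ← hq', hq'eq] at this
  exact lt_irrefl _ this

end Groth.Agent.Lib.T2H8.InvPrinc

namespace Groth.Agent.Lib.T2H8.InvPrinc

theorem isPrincipal_of_height_one {A B G : Type u} [CommRing A] [IsDomain A] [IsNoetherianRing A]
    [UniqueFactorizationMonoid A]
    [CommRing B] [Algebra B A] [FaithfulSMul B A] [Module.Finite B A]
    [Group G] [Finite G] [MulSemiringAction G A] [FaithfulSMul G A] [SMulCommClass G B A]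
    [Algebra.IsInvariant B A G]
    (q : Ideal B) [q.IsPrime] (hq : q.height = 1) (p : Ideal A) [p.IsPrime] [p.LiesOver q]
    (hres : ∀ a : A, ∃ b c : B, c ∉ q ∧ algebraMap B A c * a - algebraMap B A b ∈ p) :
    Submodule.IsPrincipal q := by
  classical
  haveI : IsGaloisGroup G B A := ⟨inferInstance, inferInstance, inferInstance⟩
  haveI : Algebra.IsIntegral B A := Algebra.IsIntegral.of_finite B A
  haveI : IsDomain B := IsDomain.of_faithfulSMul B A
  haveI : Fintype G := Fintype.ofFinite G
  have hq0 : q ≠ ⊥ := Ideal.ne_bot_of_height_eq_one hq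
  have hpq : p.comap (algebraMap B A) = q := (Ideal.over_def p q).symm
  have hinj : Function.Injective (algebraMap B A) := FaithfulSMul.algebraMap_injective B A
  obtain ⟨π, hπ, hp⟩ := exists_prime_span_eq q hq p
  have hf := inertiaDeg_eq_one_of_res q p hres
  have hle := card_stabilizer_le_ramificationIdx (G := G) q p hf
  have hdiv : ∀ t ∈ q, π ^ Nat.card (MulAction.stabilizer G (Ideal.span {π} : Ideal A)) ∣
      algebraMap B A t := by
    intro t ht
    have := pow_dvd_of_le_ramificationIdx q hq0 p π hπ hp _ hle t ht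
    rw [hp] at this
    exact this
  set N : A := ∏ g : G, g • π with hN
  have hNinv : ∀ g : G, g • N = N := by
    intro g
    rw [hN, Finset.smul_prod']
    simp_rw [← mul_smul]
    exact Fintype.prod_equiv (Equiv.mulLeft g) _ _ (fun _ => rfl)
  obtain ⟨N₀, hN₀⟩ := Algebra.IsInvariant.isInvariant (A := B) (G := G) N hNinv
  have hN0 : N ≠ 0 := by
    rw [hN, Finset.prod_ne_zero_iff]
    intro g _
    exact (prime_smul g hπ).ne_zero
  have hNp : N ∈ p := by
    rw [hp, Ideal.mem_span_singleton]
    have : (1 : G) • π ∣ N := Finset.dvd_prod_of_mem _ (Finset.mem_univ 1)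
    rwa [one_smul] at this
  have hN₀q : N₀ ∈ q := by
    rw [← hpq, Ideal.mem_comap, hN₀]; exact hNp
  refine ⟨N₀, le_antisymm ?_ ?_⟩
  · intro t ht
    have h1 : N ∣ algebraMap B A t :=
      prod_smul_dvd π hπ _ (fun g => smul_algebraMap g t) (hdiv t ht)
    obtain ⟨a, ha⟩ := h1
    have hainv : ∀ g : G, g • a = a := by
      intro g
      have h2 : g • (algebraMap B A t) = algebraMap B A t := smul_algebraMap g t
      rw [ha, smul_mul', hNinv] at h2
      exact mul_left_cancel₀ hN0 h2
    obtain ⟨a₀, ha₀⟩ := Algebra.IsInvariant.isInvariant (A := B) (G := G) a hainv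
    have h3 : t = N₀ * a₀ := by
      apply hinj
      rw [map_mul, hN₀, ha₀, ha]
    rw [h3]
    exact Submodule.mem_span_singleton.mpr ⟨a₀, by rw [smul_eq_mul, mul_comm]⟩
  · rw [Submodule.span_singleton_le_iff_mem]
    exact hN₀q

end Groth.Agent.Lib.T2H8.InvPrinc
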