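import Mathlib

/-!
# Height-one primes of rings of invariants (helper8): regularity from a regular principal quotient
-/

set_option autoImplicit false
universe u

open IsLocalRing

namespace Groth.Agent.Lib.T2H8.InvPrinc

/-- a Noetherian local domain with a regular quotient by a nonzero principal prime is regular -/
theorem isRegularLocalRing_of_quotient_principal {B : Type u} [CommRing B] [IsDomain B]
    [IsLocalRing B] [IsNoetherianRing B] (N : B) (hN0 : N ≠ 0)
    [(Ideal.span {N}).IsPrime] (hreg : IsRegularLocalRing (B ⧸ Ideal.span {N})) :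
    IsRegularLocalRing B := by
  classical
  set q : Ideal B := Ideal.span {N} with hq
  have hNmem : N ∈ nonZeroDivisors B := mem_nonZeroDivisors_of_ne_zero hN0
  have hdim : ringKrullDim (B ⧸ q) + 1 ≤ ringKrullDim B :=
    ringKrullDim_quotient_succ_le_of_nonZeroDivisor hNmem
  have hqm : q ≤ maximalIdeal B := IsLocalRing.le_maximalIdeal (Ideal.IsPrime.ne_top inferInstance)
  haveI : IsLocalRing (B ⧸ q) := hreg.toIsLocalRing
  haveI : IsNoetherianRing (B ⧸ q) := hreg.toIsNoetherian
  set mk := Ideal.Quotient.mk q with hmk
  have hmksurj : Function.Surjective mk := Ideal.Quotient.mk_surjective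
  have hfg : (maximalIdeal (B ⧸ q)).FG := IsNoetherian.noetherian _
  obtain ⟨s, hscard, hsspan⟩ := Submodule.FG.exists_span_finset_card_eq_spanFinrank hfg
  let t : Finset B := s.image (Function.surjInv hmksurj)
  have htcard : t.card ≤ s.card := Finset.card_image_le
  have hmkt : ∀ x ∈ t, mk x ∈ s := by
    intro x hx
    obtain ⟨y, hy, rfl⟩ := Finset.mem_image.mp hx
    rw [Function.surjInv_eq hmksurj y]; exact hy
  -- `mk` reflects membership in the maximal ideal
  have hmem_iff : ∀ x : B, x ∈ maximalIdeal B ↔ mk x ∈ maximalIdeal (B ⧸ q) := by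
    intro x
    rw [mem_maximalIdeal, mem_maximalIdeal, mem_nonunits_iff, mem_nonunits_iff, not_iff_not]
    constructor
    · intro h; exact h.map mk
    · intro h
      obtain ⟨y, hy⟩ := h.exists_right_inv
      obtain ⟨y', rfl⟩ := hmksurj y
      rw [← map_mul, ← map_one mk, ← sub_eq_zero, ← map_sub, Ideal.Quotient.eq_zero_iff_mem] at hy
      have h1 : x * y' - 1 ∈ maximalIdeal B := hqm hy
      have h2 : IsUnit (x * y') := by
        by_contra hnu
        have h3 : x * y' ∈ maximalIdeal B := hnu
        have h4 : (1 : B) ∈ maximalIdeal B := by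
          have := (maximalIdeal B).sub_mem h3 h1
          rwa [sub_sub_cancel] at this
        exact (Ideal.IsPrime.ne_top (inferInstance : (maximalIdeal B).IsPrime))
          ((Ideal.eq_top_iff_one _).mpr h4)
      exact isUnit_of_mul_isUnit_left h2
  set I' : Ideal B := Ideal.span ((t : Set B) ∪ {N}) with hI'
  have hqI' : q ≤ I' := Ideal.span_mono Set.subset_union_right
  have hmaxeq : maximalIdeal B = I' := by
    apply le_antisymm
    · intro x hx
      have h1 : mk x ∈ I'.map mk := by
        have h2 : maximalIdeal (B ⧸ q) ≤ I'.map mk := by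
          rw [← hsspan, hI', Ideal.map_span]
          apply Submodule.span_mono
          intro y hy
          refine ⟨Function.surjInv hmksurj y, Or.inl ?_, Function.surjInv_eq hmksurj y⟩
          exact Finset.mem_coe.mpr (Finset.mem_image_of_mem _ hy)
        exact h2 ((hmem_iff x).mp hx)
      have h3 : x ∈ (I'.map mk).comap mk := h1
      rw [Ideal.comap_map_of_surjective mk hmksurj, ← RingHom.ker_eq_comap_bot,
        Ideal.mk_ker, sup_eq_left.mpr hqI'] at h3
      exact h3
    · rw [hI', Ideal.span_le]
      rintro x (hx | hx)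
      · have h1 : mk x ∈ maximalIdeal (B ⧸ q) := by
          rw [← hsspan]
          exact Submodule.subset_span (hmkt x hx)
        exact (hmem_iff x).mpr h1
      · rw [Set.mem_singleton_iff] at hx
        rw [hx]
        exact hqm (Ideal.mem_span_singleton_self N)
  apply IsRegularLocalRing.of_spanFinrank_maximalIdeal_le
  have hfin : ((t : Set B) ∪ {N}).Finite := (Finset.finite_toSet t).union (Set.finite_singleton N)
  have h1 : (maximalIdeal B).spanFinrank ≤ s.card + 1 := by
    rw [hmaxeq, hI']
    refine (Submodule.spanFinrank_span_le_ncard_of_finite hfin).trans ?_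
    refine (Set.ncard_union_le _ _).trans ?_
    rw [Set.ncard_singleton, Set.ncard_coe_finset]
    exact Nat.add_le_add_right htcard 1
  have h2 : ((s.card : ℕ) : WithBot ℕ∞) = ringKrullDim (B ⧸ q) := by
    rw [hscard]; exact hreg.spanFinrank_maximalIdeal
  calc (((maximalIdeal B).spanFinrank : ℕ) : WithBot ℕ∞) ≤ ((s.card + 1 : ℕ) : WithBot ℕ∞) := by
        exact_mod_cast h1
    _ = ringKrullDim (B ⧸ q) + 1 := by rw [← h2]; push_cast; rfl
    _ ≤ ringKrullDim B := hdim

end Groth.Agent.Lib.T2H8.InvPrinc
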