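import Mathlib
import Groth.Agent.Lib.T2H8InvPrincE
import Groth.Agent.Lib.T2H8InvPrincF
import Groth.Agent.Lib.T2H8EakinNagataA

/-!
# Height-one primes of rings of invariants (helper8): the main statement
-/

set_option autoImplicit false
universe u

namespace Groth.Agent.Lib.T2H8.InvPrinc

/-- the ring of invariants of a local ring is local -/
theorem isLocalRing_of_invariants {A B G : Type u} [CommRing A] [IsLocalRing A] [CommRing B]
    [Nontrivial B] [Algebra B A] [FaithfulSMul B A] [Group G] [MulSemiringAction G A]
    [SMulCommClass G B A] [Algebra.IsInvariant B A G] : IsLocalRing B := by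
  have hinj : Function.Injective (algebraMap B A) := FaithfulSMul.algebraMap_injective B A
  have hunit : ∀ b : B, IsUnit (algebraMap B A b) → IsUnit b := by
    intro b hb
    obtain ⟨y, hy⟩ := hb.exists_right_inv
    have hyinv : ∀ g : G, g • y = y := by
      intro g
      have h1 : algebraMap B A b * (g • y) = 1 := by
        have := congrArg (fun z => g • z) hy
        simp only [smul_mul', smul_algebraMap, smul_one] at this
        exact this
      have h2 : y * algebraMap B A b = 1 := by rw [mul_comm]; exact hy
      exact (left_inv_eq_right_inv h2 h1).symm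
    obtain ⟨y₀, hy₀⟩ := Algebra.IsInvariant.isInvariant (A := B) (G := G) y hyinv
    have h3 : b * y₀ = 1 := by
      apply hinj
      rw [map_mul, hy₀, hy, map_one]
    exact IsUnit.of_mul_eq_one _ h3
  apply IsLocalRing.of_nonunits_add
  intro a b ha hb
  have ha' : algebraMap B A a ∈ nonunits A := fun h => ha (hunit a h)
  have hb' : algebraMap B A b ∈ nonunits A := fun h => hb (hunit b h)
  have hab := IsLocalRing.nonunits_add ha' hb'
  intro h
  apply hab
  rw [← map_add]
  exact h.map (algebraMap B A)

theorem main {A B G : Type u} [CommRing A] [IsDomain A] [IsNoetherianRing A] [IsLocalRing A]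
    [UniqueFactorizationMonoid A]
    [CommRing B] [Algebra B A] [FaithfulSMul B A] [Module.Finite B A]
    [Group G] [Finite G] [MulSemiringAction G A] [FaithfulSMul G A] [SMulCommClass G B A]
    [Algebra.IsInvariant B A G]
    (q : Ideal B) [q.IsPrime] (hq : q.height = 1) (p : Ideal A) [p.IsPrime] [p.LiesOver q]
    (hres : ∀ a : A, ∃ b c : B, c ∉ q ∧ algebraMap B A c * a - algebraMap B A b ∈ p) :
    Submodule.IsPrincipal q ∧ (IsRegularLocalRing (B ⧸ q) → IsRegularLocalRing B) := by
  have h1 := isPrincipal_of_height_one (G := G) q hq p hres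
  refine ⟨h1, fun hreg => ?_⟩
  haveI : IsDomain B := IsDomain.of_faithfulSMul B A
  haveI : IsNoetherianRing B := EakinNagata.isNoetherianRing_of_finite B A
  haveI : IsLocalRing B := isLocalRing_of_invariants (A := A) (B := B) (G := G)
  have hq0 : q ≠ ⊥ := Ideal.ne_bot_of_height_eq_one hq
  obtain ⟨N, hN⟩ := h1
  subst hN
  have hN0 : N ≠ 0 := by
    intro h
    apply hq0
    rw [h]
    exact Submodule.span_zero_singleton B
  haveI : (Ideal.span {N}).IsPrime := ‹Ideal.IsPrime (Submodule.span B {N})›
  exact isRegularLocalRing_of_quotient_principal N hN0 hreg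

end Groth.Agent.Lib.T2H8.InvPrinc
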