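import Mathlib
import Groth.Agent.Lib.T2H8PIDescB

set_option autoImplicit false

/-!
# T2H8IsoTrivA: spreading out a diagonalisation from an extension field to a finitely generated
subalgebra
-/

namespace Groth.Agent.Lib.T2H8.IsoTriv

open TensorProduct Coalgebra Groth.Agent.Lib.Helper25 Groth.Agent.Lib.Helper25.BCB

universe u

section Inj

theorem mk_one_injective_of_flat (R S N : Type*) [CommRing R] [CommRing S] [Algebra R S]
    [AddCommGroup N] [Module R N] [Module.Flat R N]
    (h : Function.Injective (algebraMap R S)) :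
    Function.Injective (TensorProduct.mk R S N 1) := by
  have h1 : Function.Injective ((Algebra.linearMap R S).rTensor N) :=
    Module.Flat.rTensor_preserves_injective_linearMap (Algebra.linearMap R S) h
  have h2 : (TensorProduct.mk R S N 1 : N → S ⊗[R] N) =
      ((Algebra.linearMap R S).rTensor N) ∘ (TensorProduct.lid R N).symm := by
    funext n
    simp
  rw [h2]
  exact h1.comp (TensorProduct.lid R N).symm.injective

end Inj

section Descent

variable {k : Type u} [CommRing k] {S : Type u} [CommRing S] [Algebra k S]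
  {A B : Type u} [CommRing A] [Bialgebra k A] [CommRing B] [Bialgebra k B]

theorem bcMap2_eq' (z : A ⊗[k] A) :
    MRB.bcMap2 S A z = AlgebraTensorModule.distribBaseChange k S A A ((1 : S) ⊗ₜ[k] z) := by
  induction z using TensorProduct.induction_on with
  | zero => simp
  | add x y hx hy => rw [map_add, hx, hy, TensorProduct.tmul_add, map_add]
  | tmul a b => rw [MRB.bcMap2_tmul, AlgebraTensorModule.distribBaseChange_tmul]

theorem bcMap2_map' (h : B →ₗ[k] A) (φ : S ⊗[k] B →ₗ[S] S ⊗[k] A)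
    (hh : ∀ b, (1 : S) ⊗ₜ[k] h b = φ ((1 : S) ⊗ₜ[k] b)) (z : B ⊗[k] B) :
    MRB.bcMap2 S A (TensorProduct.map h h z) = TensorProduct.map φ φ (MRB.bcMap2 S B z) := by
  induction z using TensorProduct.induction_on with
  | zero => simp
  | add x y hx hy => simp only [map_add, hx, hy]
  | tmul a b =>
    rw [TensorProduct.map_tmul, MRB.bcMap2_tmul, MRB.bcMap2_tmul, TensorProduct.map_tmul, hh, hh]

/-- a linear map whose base change along an injective map is a bialgebra map is a
bialgebra map (flat target) -/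
theorem exists_bialgHom_of_linear' (hinjA : Function.Injective (TensorProduct.mk k S A 1))
    (hinjAA : Function.Injective (TensorProduct.mk k S (A ⊗[k] A) 1))
    (hinjk : Function.Injective (algebraMap k S))
    (φ : S ⊗[k] B →ₐc[S] S ⊗[k] A) (h : B →ₗ[k] A)
    (hh : ∀ b, (1 : S) ⊗ₜ[k] h b = φ ((1 : S) ⊗ₜ[k] b)) :
    ∃ f : B →ₐc[k] A, ∀ b, f b = h b := by
  have hinj := hinjA
  have h1 : h 1 = 1 := by
    apply hinj
    change (1 : S) ⊗ₜ[k] h 1 = (1 : S) ⊗ₜ[k] (1 : A)
    rw [hh, ← Algebra.TensorProduct.one_def, map_one, ← Algebra.TensorProduct.one_def]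
  have hmul : ∀ x y, h (x * y) = h x * h y := by
    intro x y
    apply hinj
    change (1 : S) ⊗ₜ[k] h (x * y) = (1 : S) ⊗ₜ[k] (h x * h y)
    have e : (1 : S) ⊗ₜ[k] (x * y) = ((1 : S) ⊗ₜ[k] x) * ((1 : S) ⊗ₜ[k] y) := by
      rw [Algebra.TensorProduct.tmul_mul_tmul, one_mul]
    have e' : (1 : S) ⊗ₜ[k] (h x * h y) = ((1 : S) ⊗ₜ[k] h x) * ((1 : S) ⊗ₜ[k] h y) := by
      rw [Algebra.TensorProduct.tmul_mul_tmul, one_mul]
    rw [hh, e, map_mul, e', hh, hh]
  let f₀ : B →ₐ[k] A := AlgHom.ofLinearMap h h1 hmul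
  have hf₀ : ∀ b, f₀ b = h b := fun _ => rfl
  have hcounit : (Bialgebra.counitAlgHom k A).comp f₀ = Bialgebra.counitAlgHom k B := by
    apply AlgHom.ext
    intro b
    apply hinjk
    have e1 : counit (R := S) ((1 : S) ⊗ₜ[k] h b) = counit (R := S) ((1 : S) ⊗ₜ[k] b) := by
      rw [hh, CoalgHomClass.counit_comp_apply]
    rw [TensorProduct.counit_tmul, TensorProduct.counit_tmul] at e1
    have e2 : algebraMap k S (counit (R := k) (h b)) = algebraMap k S (counit (R := k) b) := by
      simpa [Algebra.smul_def] using e1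
    exact e2
  have hbc : Function.Injective (MRB.bcMap2 (R := k) S A) := by
    intro z z' hz
    rw [bcMap2_eq', bcMap2_eq'] at hz
    have h2 := (AlgebraTensorModule.distribBaseChange k S A A).injective hz
    exact hinjAA h2
  have hcomul : (Algebra.TensorProduct.map f₀ f₀).comp (Bialgebra.comulAlgHom k B) =
      (Bialgebra.comulAlgHom k A).comp f₀ := by
    apply AlgHom.ext
    intro b
    apply hbc
    change MRB.bcMap2 S A (TensorProduct.map h h (comul b)) = MRB.bcMap2 S A (comul (h b))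
    rw [bcMap2_map' h (φ : S ⊗[k] B →ₐ[S] S ⊗[k] A).toLinearMap hh, ← MRB.comul_one_tmul,
      ← MRB.comul_one_tmul, hh]
    exact CoalgHomClass.map_comp_comul_apply φ _
  exact ⟨BialgHom.ofAlgHom f₀ hcounit hcomul, hf₀⟩

end Descent

section Spread

variable (k : Type u) [Field k] (K : Type u) [Field K] [Algebra k K]
  (A : Type u) [CommRing A] [HopfAlgebra k A]

/-- the comparison map `B ⊗ A → K ⊗ A` for a subalgebra `B ⊆ K` -/
noncomputable def iota (B : Subalgebra k K) : ↥B ⊗[k] A →ₐ[k] K ⊗[k] A :=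
  Algebra.TensorProduct.map B.val (AlgHom.id k A)

theorem iota_tmul (B : Subalgebra k K) (b : B) (a : A) :
    iota k K A B (b ⊗ₜ[k] a) = (b : K) ⊗ₜ[k] a := by
  simp [iota]

theorem iota_injective (B : Subalgebra k K) : Function.Injective (iota k K A B) := by
  have h1 : Function.Injective (B.val.toLinearMap.rTensor A) :=
    Module.Flat.rTensor_preserves_injective_linearMap B.val.toLinearMap Subtype.val_injective
  have h2 : (iota k K A B : ↥B ⊗[k] A → K ⊗[k] A) = B.val.toLinearMap.rTensor A := by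
    funext z
    induction z using TensorProduct.induction_on with
    | zero => simp
    | add x y hx hy => rw [map_add, map_add, hx, hy]
    | tmul b a => rw [iota_tmul]; rfl
  rw [h2]
  exact h1

theorem exists_finset_mem_range (x : K ⊗[k] A) :
    ∃ T : Finset K, ∀ B : Subalgebra k K, (T : Set K) ⊆ B → x ∈ (iota k K A B).range := by
  classical
  induction x using TensorProduct.induction_on with
  | zero => exact ⟨∅, fun B _ => Subalgebra.zero_mem _⟩
  | tmul c a =>
    refine ⟨{c}, fun B hB => ?_⟩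
    have hc : c ∈ B := hB (by simp)
    exact ⟨(⟨c, hc⟩ : B) ⊗ₜ[k] a, iota_tmul k K A B _ _⟩
  | add x y hx hy =>
    obtain ⟨T₁, h₁⟩ := hx
    obtain ⟨T₂, h₂⟩ := hy
    refine ⟨T₁ ∪ T₂, fun B hB => ?_⟩
    have hB' : (T₁ : Set K) ∪ (T₂ : Set K) ⊆ B := by
      intro z hz
      apply hB
      simpa using hz
    exact Subalgebra.add_mem _ (h₁ B (Set.subset_union_left.trans hB'))
      (h₂ B (Set.subset_union_right.trans hB'))

theorem exists_finset_mem_range_finset (s : Finset (K ⊗[k] A)) :
    ∃ T : Finset K, ∀ B : Subalgebra k K, (T : Set K) ⊆ B →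
      ∀ x ∈ s, x ∈ (iota k K A B).range := by
  classical
  induction s using Finset.induction_on with
  | empty => exact ⟨∅, fun B _ x hx => absurd hx (Finset.notMem_empty x)⟩
  | insert a s _ ih =>
    obtain ⟨T₁, h₁⟩ := ih
    obtain ⟨T₂, h₂⟩ := exists_finset_mem_range k K A a
    refine ⟨T₁ ∪ T₂, fun B hB x hx => ?_⟩
    have hB' : (T₁ : Set K) ∪ (T₂ : Set K) ⊆ B := by
      intro z hz
      apply hB
      simpa using hz
    rcases Finset.mem_insert.mp hx with rfl | hx
    · exact h₂ B (Set.subset_union_right.trans hB')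
    · exact h₁ B (Set.subset_union_left.trans hB') x hx

theorem cancelBC_one_tmul (B : Subalgebra k K) (z : ↥B ⊗[k] A) :
    cancelBC k ↥B K A ((1 : K) ⊗ₜ[↥B] z) = iota k K A B z := by
  induction z using TensorProduct.induction_on with
  | zero => simp
  | add x y hx hy => rw [TensorProduct.tmul_add, map_add, hx, hy, map_add]
  | tmul s a =>
    rw [cancelBC_tmul, iota_tmul, Subalgebra.smul_def, smul_eq_mul, mul_one]

end Spread

section Main

open SGA3b

variable (k : Type u) [Field k] (K : Type u) [Field K] [Algebra k K]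
  (A : Type u) [CommRing A] [HopfAlgebra k A] (M : Type u) [CommGroup M]
  (ε : K ⊗[k] A ≃ₐc[K] MonoidAlgebra K M) (B : Subalgebra k K)

/-- the bialgebra map over `K` to be descended to `B` -/
noncomputable def phi : K ⊗[↥B] MonoidAlgebra ↥B M →ₐc[K] K ⊗[↥B] (↥B ⊗[k] A) :=
  (((cancelBC k ↥B K A).symm : K ⊗[k] A →ₐc[K] K ⊗[↥B] (↥B ⊗[k] A)).comp
    (ε.symm : MonoidAlgebra K M →ₐc[K] K ⊗[k] A)).comp
      (steBialg ↥B K M : K ⊗[↥B] MonoidAlgebra ↥B M →ₐc[K] MonoidAlgebra K M)

theorem cancelBC_phi (z : K ⊗[↥B] MonoidAlgebra ↥B M) :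
    cancelBC k ↥B K A (phi k K A M ε B z) = ε.symm (steBialg ↥B K M z) := by
  change cancelBC k ↥B K A ((cancelBC k ↥B K A).symm (ε.symm (steBialg ↥B K M z))) = _
  rw [BialgEquiv.apply_symm_apply]

theorem steBialg_one_tmul_of (m : M) :
    steBialg ↥B K M ((1 : K) ⊗ₜ[↥B] MonoidAlgebra.of ↥B M m) = MonoidAlgebra.of K M m := by
  change MonoidAlgebra.scalarTensorEquiv ↥B K ((1 : K) ⊗ₜ[↥B] MonoidAlgebra.of ↥B M m) = _
  rw [MonoidAlgebra.scalarTensorEquiv_tmul]
  simp

end Main

section Main2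

open SGA3b

variable (k : Type u) [Field k] (K : Type u) [Field K] [Algebra k K]
  (A : Type u) [CommRing A] [HopfAlgebra k A] (M : Type u) [CommGroup M]
  (ε : K ⊗[k] A ≃ₐc[K] MonoidAlgebra K M) (B : Subalgebra k K)

theorem exists_algHom_iota
    (hB1 : ∀ m : M, ε.symm (MonoidAlgebra.of K M m) ∈ (iota k K A B).range) :
    ∃ h : MonoidAlgebra ↥B M →ₐ[↥B] ↥B ⊗[k] A,
      ∀ b, (1 : K) ⊗ₜ[↥B] h b = phi k K A M ε B ((1 : K) ⊗ₜ[↥B] b) := by
  classical
  have hι := iota_injective k K A B
  choose g hg' using hB1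
  have hg : ∀ m, iota k K A B (g m) = ε.symm (MonoidAlgebra.of K M m) := hg'
  let g' : M →* ↥B ⊗[k] A :=
    { toFun := g
      map_one' := by
        apply hι
        rw [hg, map_one, map_one, map_one]
      map_mul' := fun m n => by
        apply hι
        rw [map_mul, hg, hg, hg, map_mul, map_mul] }
  let h : MonoidAlgebra ↥B M →ₐ[↥B] ↥B ⊗[k] A := MonoidAlgebra.lift ↥B (↥B ⊗[k] A) M g'
  have hof : ∀ m, h (MonoidAlgebra.of ↥B M m) = g m := by
    intro m
    simp [h, g']
  refine ⟨h, fun b => ?_⟩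
  induction b using MonoidAlgebra.induction_on with
  | of m =>
    apply (cancelBC k ↥B K A).injective
    change cancelBC k ↥B K A _ = cancelBC k ↥B K A _
    rw [hof, cancelBC_one_tmul, cancelBC_phi, steBialg_one_tmul_of, hg]
  | add x y hx hy =>
    rw [map_add, TensorProduct.tmul_add, hx, hy, TensorProduct.tmul_add, map_add]
  | smul r x hx =>
    rw [map_smul, TensorProduct.tmul_smul, hx, TensorProduct.tmul_smul]
    exact (LinearMap.map_smul_of_tower
      (phi k K A M ε B : K ⊗[↥B] MonoidAlgebra ↥B M →ₐ[K] K ⊗[↥B] (↥B ⊗[k] A)).toLinearMap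
        r _).symm

end Main2

section Main3

open SGA3b

theorem adjoin_one_tmul_eq_top' (k : Type u) [CommRing k] (A : Type u) [CommRing A] [Algebra k A]
    (S : Type u) [CommRing S] [Algebra k S] (t : Set A)
    (ht : Algebra.adjoin k t = ⊤) :
    Algebra.adjoin S ((fun b : A => (1 : S) ⊗ₜ[k] b) '' t) = ⊤ := by
  have h1 : ∀ b : A, (1 : S) ⊗ₜ[k] b ∈ Algebra.adjoin S ((fun b : A => (1 : S) ⊗ₜ[k] b) '' t) := by
    intro b
    have hb : b ∈ Algebra.adjoin k t := by rw [ht]; exact Algebra.mem_top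
    induction hb using Algebra.adjoin_induction with
    | mem x hx => exact Algebra.subset_adjoin ⟨x, hx, rfl⟩
    | algebraMap r =>
      have : (1 : S) ⊗ₜ[k] (algebraMap k A r) = algebraMap S (S ⊗[k] A) (algebraMap k S r) := by
        rw [Algebra.algebraMap_eq_smul_one, TensorProduct.tmul_smul,
          Algebra.TensorProduct.algebraMap_apply, Algebra.algebraMap_eq_smul_one r,
          TensorProduct.smul_tmul']
        simp
      rw [this]
      exact Subalgebra.algebraMap_mem _ _
    | add x y _ _ hx hy =>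
      rw [TensorProduct.tmul_add]
      exact Subalgebra.add_mem _ hx hy
    | mul x y _ _ hx hy =>
      have : (1 : S) ⊗ₜ[k] (x * y) = ((1 : S) ⊗ₜ[k] x) * ((1 : S) ⊗ₜ[k] y) := by
        rw [Algebra.TensorProduct.tmul_mul_tmul, one_mul]
      rw [this]
      exact Subalgebra.mul_mem _ hx hy
  rw [eq_top_iff]
  intro z hz
  clear hz
  induction z using TensorProduct.induction_on with
  | zero => exact Subalgebra.zero_mem _
  | add x y hx hy => exact Subalgebra.add_mem _ hx hy
  | tmul s b =>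
    have e : s ⊗ₜ[k] b = s • ((1 : S) ⊗ₜ[k] b) := by
      rw [TensorProduct.smul_tmul', smul_eq_mul, mul_one]
    rw [e]
    exact Subalgebra.smul_mem _ (h1 b) s

variable (k : Type u) [Field k] (K : Type u) [Field K] [Algebra k K]
  (A : Type u) [CommRing A] [HopfAlgebra k A] (M : Type u) [CommGroup M]
  (ε : K ⊗[k] A ≃ₐc[K] MonoidAlgebra K M) (B : Subalgebra k K)

theorem exists_steBialg_eq (y : MonoidAlgebra K M) (hy : ∀ m, y.coeff m ∈ B) :
    ∃ x : MonoidAlgebra ↥B M, steBialg ↥B K M ((1 : K) ⊗ₜ[↥B] x) = y := by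
  classical
  refine ⟨MonoidAlgebra.ofCoeff (Finsupp.onFinset y.coeff.support
    (fun m => (⟨y.coeff m, hy m⟩ : ↥B)) ?_), ?_⟩
  · intro m hm
    rw [Finsupp.mem_support_iff]
    intro h0
    apply hm
    exact Subtype.ext h0
  · change MonoidAlgebra.scalarTensorEquiv ↥B K ((1 : K) ⊗ₜ[↥B] _) = _
    rw [MonoidAlgebra.scalarTensorEquiv_tmul, one_smul]
    apply MonoidAlgebra.coeff_injective
    ext m
    rw [MonoidAlgebra.coeff_mapAlgHom]
    rfl

end Main3

end Groth.Agent.Lib.T2H8.IsoTriv
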