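import Mathlib
import Groth.Agent.Lib.T2H8IsoTrivA

set_option autoImplicit false

/-!
# T2H8IsoTrivB: a group of multiplicative type and of finite type over a field is isotrivial
-/

namespace Groth.Agent.Lib.T2H8.IsoTriv

open TensorProduct Coalgebra Groth.Agent.Lib.Helper25 Groth.Agent.Lib.Helper25.BCB

universe u

section Main4

open SGA3b

variable (k : Type u) [Field k] (K : Type u) [Field K] [Algebra k K]
  (A : Type u) [CommRing A] [HopfAlgebra k A] (M : Type u) [CommGroup M]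
  (ε : K ⊗[k] A ≃ₐc[K] MonoidAlgebra K M) (B : Subalgebra k K)

theorem isDiag_subalgebra (t : Set A) (ht : Algebra.adjoin k t = ⊤)
    (hB1 : ∀ m : M, ε.symm (MonoidAlgebra.of K M m) ∈ (iota k K A B).range)
    (hB2 : ∀ a ∈ t, ∀ m : M, (ε ((1 : K) ⊗ₜ[k] a)).coeff m ∈ B) :
    IsDiag ↥B (↥B ⊗[k] A) := by
  classical
  have hι := iota_injective k K A B
  obtain ⟨h, hh⟩ := exists_algHom_iota k K A M ε B hB1
  have hBK : Function.Injective (algebraMap ↥B K) := Subtype.val_injective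
  obtain ⟨f, hf⟩ := exists_bialgHom_of_linear' (k := ↥B) (S := K) (A := ↥B ⊗[k] A)
    (B := MonoidAlgebra ↥B M)
    (mk_one_injective_of_flat ↥B K _ hBK) (mk_one_injective_of_flat ↥B K _ hBK) hBK
    (phi k K A M ε B) h.toLinearMap hh
  have hrel : ∀ b, iota k K A B (f b) = ε.symm (steBialg ↥B K M ((1 : K) ⊗ₜ[↥B] b)) := by
    intro b
    rw [hf, ← cancelBC_one_tmul]
    change cancelBC k ↥B K A ((1 : K) ⊗ₜ[↥B] h b) = _
    rw [hh, cancelBC_phi]
  have hinj : Function.Injective f := by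
    rw [injective_iff_map_eq_zero]
    intro b hb
    have h1 := hrel b
    rw [hb, map_zero] at h1
    have h2 : steBialg ↥B K M ((1 : K) ⊗ₜ[↥B] b) = 0 := by
      apply ε.symm.injective
      change ε.symm _ = ε.symm 0
      rw [← h1, map_zero]
    have h3 : (1 : K) ⊗ₜ[↥B] b = 0 := by
      apply (steBialg ↥B K M).injective
      change steBialg ↥B K M _ = steBialg ↥B K M 0
      rw [h2, map_zero]
    apply mk_one_injective_of_flat ↥B K (MonoidAlgebra ↥B M) hBK
    rw [map_zero]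
    exact h3
  have hsurj : Function.Surjective f := by
    have hr : (f : MonoidAlgebra ↥B M →ₐ[↥B] ↥B ⊗[k] A).range = ⊤ := by
      rw [eq_top_iff, ← adjoin_one_tmul_eq_top' k A ↥B t ht]
      apply Algebra.adjoin_le
      rintro _ ⟨a, ha, rfl⟩
      obtain ⟨x, hx⟩ := exists_steBialg_eq k K M B (ε ((1 : K) ⊗ₜ[k] a)) (hB2 a ha)
      refine ⟨x, ?_⟩
      apply hι
      change iota k K A B (f x) = iota k K A B ((1 : ↥B) ⊗ₜ[k] a)
      rw [hrel, iota_tmul, hx]
      exact ε.symm_apply_apply _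
    intro z
    have hz : z ∈ (f : MonoidAlgebra ↥B M →ₐ[↥B] ↥B ⊗[k] A).range := by
      rw [hr]; exact Algebra.mem_top
    obtain ⟨x, hx⟩ := hz
    exact ⟨x, hx⟩
  exact ⟨M, inferInstance, ⟨(BialgEquiv.ofBijective f ⟨hinj, hsurj⟩).symm⟩⟩

include ε in
theorem exists_fg_subalgebra_isDiag [Algebra.FiniteType k A] :
    ∃ B : Subalgebra k K, B.FG ∧ IsDiag ↥B (↥B ⊗[k] A) := by
  classical
  have hft : Algebra.FiniteType K (MonoidAlgebra K M) :=
    Algebra.FiniteType.equiv (inferInstance : Algebra.FiniteType K (K ⊗[k] A))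
      (ε : K ⊗[k] A ≃ₐ[K] MonoidAlgebra K M)
  have hM : Monoid.FG M := MonoidAlgebra.finiteType_iff_fg.mp hft
  obtain ⟨S, hS⟩ := Monoid.fg_def.mp hM
  obtain ⟨t, ht⟩ := (Algebra.FiniteType.out : (⊤ : Subalgebra k A).FG)
  obtain ⟨T₁, hT₁⟩ := exists_finset_mem_range_finset k K A
    (S.image fun m => ε.symm (MonoidAlgebra.of K M m))
  let T₂ : Finset K := t.biUnion fun a =>
    (ε ((1 : K) ⊗ₜ[k] a)).coeff.support.image (ε ((1 : K) ⊗ₜ[k] a)).coeff
  let B : Subalgebra k K := Algebra.adjoin k ((T₁ ∪ T₂ : Finset K) : Set K)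
  refine ⟨B, ⟨T₁ ∪ T₂, rfl⟩, isDiag_subalgebra k K A M ε B (t : Set A) ht ?_ ?_⟩
  · have hT : (T₁ : Set K) ⊆ B := by
      intro z hz
      apply Algebra.subset_adjoin
      simp only [Finset.coe_union, Set.mem_union]
      exact Or.inl hz
    have hsub : ∀ m ∈ Submonoid.closure (S : Set M),
        ε.symm (MonoidAlgebra.of K M m) ∈ (iota k K A B).range := by
      intro m hm
      induction hm using Submonoid.closure_induction with
      | mem m hm => exact hT₁ B hT _ (Finset.mem_image_of_mem _ hm)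
      | one => rw [map_one, map_one]; exact Subalgebra.one_mem _
      | mul x y _ _ hx hy => rw [map_mul, map_mul]; exact Subalgebra.mul_mem _ hx hy
    intro m
    apply hsub
    rw [hS]
    exact Submonoid.mem_top m
  · intro a ha m
    by_cases h0 : (ε ((1 : K) ⊗ₜ[k] a)).coeff m = 0
    · rw [h0]; exact Subalgebra.zero_mem _
    · apply Algebra.subset_adjoin
      simp only [Finset.coe_union, Set.mem_union]
      refine Or.inr ?_
      rw [Finset.mem_coe, Finset.mem_biUnion]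
      refine ⟨a, ha, ?_⟩
      rw [Finset.mem_image]
      exact ⟨m, Finsupp.mem_support_iff.mpr h0, rfl⟩

end Main4

section Final

open SGA3b

theorem exists_finite_isDiag (k : Type u) [Field k] (A : Type u) [CommRing A] [HopfAlgebra k A]
    [Algebra.FiniteType k A] (K : Type u) [Field K] [Algebra k K] (h : IsDiag K (K ⊗[k] A)) :
    ∃ (k₁ : Type u) (_ : Field k₁) (_ : Algebra k k₁),
      Module.Finite k k₁ ∧ IsDiag k₁ (k₁ ⊗[k] A) := by
  obtain ⟨M, _, ⟨ε⟩⟩ := h
  obtain ⟨B, hBfg, hBd⟩ := exists_fg_subalgebra_isDiag k K A M ε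
  haveI : Algebra.FiniteType k ↥B := (Subalgebra.fg_iff_finiteType B).mp hBfg
  obtain ⟨𝔫, h𝔫⟩ := Ideal.exists_maximal ↥B
  letI : Field (↥B ⧸ 𝔫) := Ideal.Quotient.field 𝔫
  haveI : Algebra.FiniteType k (↥B ⧸ 𝔫) :=
    Algebra.FiniteType.of_surjective (Ideal.Quotient.mkₐ k 𝔫) (Ideal.Quotient.mkₐ_surjective k 𝔫)
  exact ⟨↥B ⧸ 𝔫, inferInstance, inferInstance,
    finite_of_finite_type_of_isJacobsonRing k (↥B ⧸ 𝔫),
    isDiag_baseChange_of_tower k A ↥B (↥B ⧸ 𝔫) hBd⟩

theorem isDiagFT_of_isDiag (k : Type u) [Field k] (A : Type u) [CommRing A] [HopfAlgebra k A]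
    [Algebra.FiniteType k A] (h : IsDiag k A) : IsDiagFT k A := by
  obtain ⟨M, _, ⟨ε⟩⟩ := h
  have hft : Algebra.FiniteType k (MonoidAlgebra k M) :=
    Algebra.FiniteType.equiv (inferInstance : Algebra.FiniteType k A)
      (ε : A ≃ₐ[k] MonoidAlgebra k M)
  exact ⟨M, inferInstance, MonoidAlgebra.finiteType_iff_group_fg.mp hft, ⟨ε⟩⟩

theorem isDiag_of_purelyInseparable (k k' : Type u) [Field k] [Field k'] [Algebra k k']
    [IsPurelyInseparable k k'] (A : Type u) [CommRing A] [HopfAlgebra k A]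
    [Algebra.FiniteType k A] [Coalgebra.IsCocomm k A] (h : IsDiag k' (k' ⊗[k] A)) :
    IsDiag k A := by
  obtain ⟨M, _, hfg, ⟨ε⟩⟩ := isDiagFT_of_isDiag k' (k' ⊗[k] A) h
  haveI : Algebra.FiniteType k (MonoidAlgebra k M) :=
    MonoidAlgebra.finiteType_iff_group_fg.mpr hfg
  have hX : IsDiag k' (k' ⊗[k] MonoidAlgebra k M) :=
    isDiag_baseChange k' ⟨M, inferInstance, ⟨BialgEquiv.refl k _⟩⟩
  let φ : k' ⊗[k] MonoidAlgebra k M →ₐc[k'] k' ⊗[k] A :=
    (ε.symm : MonoidAlgebra k' M →ₐc[k'] k' ⊗[k] A).comp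
      (steBialg k k' M : k' ⊗[k] MonoidAlgebra k M →ₐc[k'] MonoidAlgebra k' M)
  let ψ : k' ⊗[k] A →ₐc[k'] k' ⊗[k] MonoidAlgebra k M :=
    ((steBialg k k' M).symm : MonoidAlgebra k' M →ₐc[k'] k' ⊗[k] MonoidAlgebra k M).comp
      (ε : k' ⊗[k] A →ₐc[k'] MonoidAlgebra k' M)
  have hψφ : ∀ z, ψ (φ z) = z := by
    intro z
    change (steBialg k k' M).symm (ε (ε.symm (steBialg k k' M z))) = z
    rw [BialgEquiv.apply_symm_apply, BialgEquiv.symm_apply_apply]
  have hφψ : ∀ z, φ (ψ z) = z := by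
    intro z
    change ε.symm (steBialg k k' M ((steBialg k k' M).symm (ε z))) = z
    rw [BialgEquiv.apply_symm_apply, BialgEquiv.symm_apply_apply]
  obtain ⟨f, hf, -⟩ := PIDesc.existsUnique_bialgHom_of_purelyInseparable k k' A
    (MonoidAlgebra k M) k' h φ
  obtain ⟨g, hg, -⟩ := PIDesc.existsUnique_bialgHom_of_purelyInseparable k k'
    (MonoidAlgebra k M) A k' hX ψ
  have hinjX : Function.Injective (TensorProduct.mk k k' (MonoidAlgebra k M) 1) :=
    Module.FaithfullyFlat.tensorProduct_mk_injective (A := k) (B := k') _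
  have hinjA : Function.Injective (TensorProduct.mk k k' A 1) :=
    Module.FaithfullyFlat.tensorProduct_mk_injective (A := k) (B := k') _
  have hgf : ∀ x, g (f x) = x := by
    intro x
    apply hinjX
    change (1 : k') ⊗ₜ[k] g (f x) = (1 : k') ⊗ₜ[k] x
    rw [← hg, ← hf, hψφ]
  have hfg' : ∀ a, f (g a) = a := by
    intro a
    apply hinjA
    change (1 : k') ⊗ₜ[k] f (g a) = (1 : k') ⊗ₜ[k] a
    rw [← hf, ← hg, hφψ]
  have hbij : Function.Bijective g := by
    refine ⟨?_, fun x => ⟨f x, hgf x⟩⟩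
    intro a b hab
    rw [← hfg' a, ← hfg' b, hab]
  exact ⟨M, inferInstance, ⟨BialgEquiv.ofBijective g hbij⟩⟩

theorem isDiag_of_tower_purelyInseparable (k ks k₁ : Type u) [Field k] [Field ks] [Field k₁]
    [Algebra k ks] [Algebra ks k₁] [Algebra k k₁] [IsScalarTower k ks k₁]
    [IsPurelyInseparable ks k₁] (A : Type u) [CommRing A] [HopfAlgebra k A]
    [Algebra.FiniteType k A] [Coalgebra.IsCocomm k A] (hd₁ : IsDiag k₁ (k₁ ⊗[k] A)) :
    IsDiag ks (ks ⊗[k] A) := by
  have h1 : IsDiag k₁ (k₁ ⊗[ks] (ks ⊗[k] A)) :=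
    isDiag_of_equiv (cancelBC k ks k₁ A) hd₁
  exact isDiag_of_purelyInseparable ks k₁ _ h1

/-- A group of multiplicative type and of finite type over a field is isotrivial. -/
theorem isotrivial_of_field (k : Type u) [Field k] (A : Type u) [CommRing A] [HopfAlgebra k A]
    (hft : Algebra.FiniteType k A) (h : IsMultType k A) :
    ∃ (k' : Type u) (_ : Field k') (_ : Algebra k k'),
      Module.Finite k k' ∧ Algebra.IsSeparable k k' ∧ IsDiagFT k' (k' ⊗[k] A) := by
  haveI := hft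
  obtain ⟨K, _, _, hK⟩ := exists_field_isDiag k A (isMultTypeConst_of_isMultType k A h)
  obtain ⟨k₁, _, _, hfin, hd₁⟩ := exists_finite_isDiag k A K hK
  haveI := hfin
  haveI : Coalgebra.IsCocomm k A := Iso.isCocomm_of_cover (SubDiag.hasDiagCover_of_isMultType h)
  haveI : IsPurelyInseparable (↥(separableClosure k k₁)) k₁ :=
    separableClosure.isPurelyInseparable k k₁
  have h2 : IsDiag ↥(separableClosure k k₁) (↥(separableClosure k k₁) ⊗[k] A) :=
    isDiag_of_tower_purelyInseparable k ↥(separableClosure k k₁) k₁ A hd₁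
  exact ⟨↥(separableClosure k k₁), inferInstance, inferInstance, inferInstance,
    separableClosure.isSeparable k k₁, isDiagFT_of_isDiag _ _ h2⟩

end Final

end Groth.Agent.Lib.T2H8.IsoTriv
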