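import Mathlib
import Groth.Prelude.Def_EtGm
import Groth.Agent.Lib.Helper16SmallEtale

/-!
# The Kummer sequence on the small étale site (helper8, team 2)

* `kummerPair`: the standard étale pair `(X ^ n - b, 1)` for `n * b` invertible.
* `powMap_locallySurjective`: the `n`-th power map on `G_m` is locally surjective for the étale
  topology when `n` is invertible.
-/

set_option autoImplicit false
universe u
open Polynomial

namespace Groth.Agent.Lib.T2H8.Kummer

/-- The Kummer standard étale pair `(X ^ n - b, 1)` when `n * b` is invertible. -/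
noncomputable def kummerPair (B : Type u) [CommRing B] (n : ℕ) (hn : n ≠ 0) (b u : B)
    (hu : (n : B) * b * u = 1) : StandardEtalePair B where
  f := X ^ n - C b
  monic_f := monic_X_pow_sub_C b hn
  g := 1
  cond := by
    refine ⟨X * C u, -((n : B[X]) * C u), 0, ?_⟩
    obtain ⟨m, rfl⟩ := Nat.exists_eq_succ_of_ne_zero hn
    have h1 : C ((m + 1 : ℕ) : B) * C b * C u = (1 : B[X]) := by
      rw [← C_mul, ← C_mul, hu, C_1]
    simp only [derivative_sub, derivative_X_pow, derivative_C, sub_zero, pow_zero,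
      Nat.succ_sub_one]
    have h2 : (C ((m + 1 : ℕ) : B) : B[X]) = ((m + 1 : ℕ) : B[X]) := by simp
    rw [h2] at h1 ⊢
    rw [pow_succ]
    linear_combination h1

variable (B : Type u) [CommRing B] (n : ℕ) (hn : n ≠ 0) (b u : B) (hu : (n : B) * b * u = 1)

lemma kummer_X_pow : (kummerPair B n hn b u hu).X ^ n = algebraMap B _ b := by
  have h := (kummerPair B n hn b u hu).hasMap_X.1
  change aeval _ (X ^ n - C b) = 0 at h
  simpa [sub_eq_zero] using h

lemma kummer_isUnit_X (hb : IsUnit b) : IsUnit (kummerPair B n hn b u hu).X := by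
  have h1 : IsUnit ((kummerPair B n hn b u hu).X ^ n) := by
    rw [kummer_X_pow]; exact hb.map _
  exact (isUnit_pow_iff hn).mp h1

/-- every prime of the base lifts to the Kummer algebra -/
lemma kummer_exists_prime (q : Ideal B) [q.IsPrime] :
    ∃ Q : Ideal (kummerPair B n hn b u hu).Ring, Q.IsPrime ∧
      Q.comap (algebraMap B (kummerPair B n hn b u hu).Ring) = q := by
  let L := AlgebraicClosure q.ResidueField
  have hdeg : ((X ^ n - C (algebraMap B L b) : L[X])).degree ≠ 0 := by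
    rw [degree_X_pow_sub_C (Nat.pos_of_ne_zero hn)]
    exact_mod_cast hn
  obtain ⟨x₀, hx₀⟩ := IsAlgClosed.exists_root _ hdeg
  have hmap : (kummerPair B n hn b u hu).HasMap x₀ := by
    refine ⟨?_, ?_⟩
    · change aeval x₀ (X ^ n - C b) = 0
      simpa using hx₀
    · change IsUnit (aeval x₀ (1 : B[X]))
      simp
  let φ := (kummerPair B n hn b u hu).lift x₀ hmap
  refine ⟨RingHom.ker φ, RingHom.ker_isPrime φ, ?_⟩
  ext r
  rw [Ideal.mem_comap, RingHom.mem_ker, AlgHom.commutes,
    IsScalarTower.algebraMap_apply B q.ResidueField L, map_eq_zero,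
    Ideal.algebraMap_residueField_eq_zero]



section Sheaf

open CategoryTheory CategoryTheory.Limits AlgebraicGeometry Opposite

variable (S : Scheme.{u})

/-- make a section of `Gm` from a unit -/
def mkSec (U : S.Etale) (a : (Γ(U.left, ⊤))ˣ) : ToType ((EtCoh.Gm S).obj.obj (op U)) :=
  ULift.up (Additive.ofMul a)

/-- the unit underlying a section of `Gm` -/
def secUnit (U : S.Etale) (x : ToType ((EtCoh.Gm S).obj.obj (op U))) : (Γ(U.left, ⊤))ˣ :=
  Additive.toMul (ULift.down x)

lemma mkSec_secUnit (U : S.Etale) (x : ToType ((EtCoh.Gm S).obj.obj (op U))) :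
    mkSec S U (secUnit S U x) = x := rfl

lemma map_mkSec {U V : S.Etale} (g : V ⟶ U) (a : (Γ(U.left, ⊤))ˣ) :
    (EtCoh.Gm S).obj.map g.op (mkSec S U a) =
      mkSec S V (Units.map (g.left.appTop).hom.toMonoidHom a) := rfl

lemma nsmul_mkSec (U : S.Etale) (n : ℕ) (a : (Γ(U.left, ⊤))ˣ) :
    n • mkSec S U a = mkSec S U (a ^ n) := rfl

lemma nsmul_hom_app {P Q : EtCoh.Ab S} (f : P ⟶ Q) (n : ℕ) (U : S.Etaleᵒᵖ)
    (x : ToType (P.obj.obj U)) :
    (n • f).hom.app U x = n • (f.hom.app U x) := by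
  induction n with
  | zero =>
    simp only [zero_nsmul]
    rfl
  | succ m ih =>
    rw [succ_nsmul, succ_nsmul, Sheaf.Hom.add_app]
    change ((m • f).hom.app U) x + _ = _
    rw [ih]

lemma powMap_app (n : ℕ) (U : S.Etale) (x : ToType ((EtCoh.Gm S).obj.obj (op U))) :
    (EtCoh.powMap S n).hom.app (op U) x = n • x := by
  unfold EtCoh.powMap
  rw [nsmul_hom_app]
  rfl

theorem powMap_locallySurjective (n : ℕ) (hn : IsUnit (n : Γ(S, ⊤))) :
    Sheaf.IsLocallySurjective (EtCoh.powMap S n) := by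
  constructor
  intro U x
  rw [Groth.Agent.Lib.Helper16.SmallEtale.mem_smallEtale_iff]
  intro pt
  obtain ⟨B, j, hj, q, hq⟩ := Scheme.exists_Spec_apply_eq pt
  let a : (Γ(U.left, ⊤))ˣ := secUnit S U x
  let ρ : Γ(U.left, ⊤) →+* B := ((Scheme.ΓSpecIso B).hom.hom).comp j.appTop.hom
  let b : B := ρ a
  have hb : IsUnit b := a.isUnit.map ρ
  let σ : Γ(S, ⊤) →+* B := ρ.comp U.hom.appTop.hom
  have hnB : IsUnit ((n : ℕ) : B) := by simpa using hn.map σ
  have hnt : Nontrivial B := by
    by_contra h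
    rw [not_nontrivial_iff_subsingleton] at h
    exact q.isPrime.ne_top (Subsingleton.elim _ _)
  have hn0 : n ≠ 0 := by
    rintro rfl
    simp at hnB
  obtain ⟨u, hu⟩ : ∃ u, (n : B) * b * u = 1 := (hnB.mul hb).exists_right_inv
  obtain ⟨Q, hQ, hQq⟩ := kummer_exists_prime B n hn0 b u hu q.asIdeal
  let φ : B ⟶ CommRingCat.of (kummerPair B n hn0 b u hu).Ring :=
    CommRingCat.ofHom (algebraMap B (kummerPair B n hn0 b u hu).Ring)
  have hφ : Etale (Spec.map φ) := by
    rw [HasRingHomProperty.Spec_iff (P := @Etale)]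
    exact RingHom.etale_algebraMap.mpr inferInstance
  let gl : Spec (CommRingCat.of (kummerPair B n hn0 b u hu).Ring) ⟶ U.left := Spec.map φ ≫ j
  let W : S.Etale := Scheme.Etale.mk (gl ≫ U.hom)
  let g : W ⟶ U := MorphismProperty.Over.homMk gl rfl trivial
  refine ⟨W, g, ⟨Q, hQ⟩, ?_, ?_⟩
  · let tu : (Γ(W.left, ⊤))ˣ := Units.map ((Scheme.ΓSpecIso _).inv.hom.toMonoidHom)
      (kummer_isUnit_X B n hn0 b u hu hb).unit
    refine ⟨mkSec S W tu, ?_⟩
    rw [powMap_app, nsmul_mkSec]
    change _ = (EtCoh.Gm S).obj.map g.op (mkSec S U a)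
    rw [map_mkSec]
    congr 1
    apply Units.ext
    change ((Scheme.ΓSpecIso _).inv.hom (kummerPair B n hn0 b u hu).X) ^ n = gl.appTop.hom (a : Γ(U.left, ⊤))
    rw [← map_pow, kummer_X_pow]
    have h1 : gl.appTop = j.appTop ≫ (Spec.map φ).appTop := Scheme.Hom.comp_appTop _ _
    have h2 := Scheme.ΓSpecIso_inv_naturality φ
    have h3 : j.appTop.hom (a : Γ(U.left, ⊤)) = (Scheme.ΓSpecIso B).inv.hom b := by
      change _ = (Scheme.ΓSpecIso B).inv.hom ((Scheme.ΓSpecIso B).hom.hom (j.appTop.hom a))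
      rw [← CommRingCat.comp_apply, Iso.hom_inv_id]
      rfl
    rw [h1, CommRingCat.comp_apply, h3, ← CommRingCat.comp_apply, ← h2]
    rfl
  · change (Spec.map φ ≫ j) ⟨Q, hQ⟩ = pt
    rw [Scheme.Hom.comp_apply, ← hq]
    congr 1
    apply PrimeSpectrum.ext
    exact hQq

end Sheaf

end Groth.Agent.Lib.T2H8.Kummer
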