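import Mathlib
import Groth.Agent.Lib.T2H8Kummer
import Groth.Prelude.Def_Dix

/-!
# The Kummer sequence on cohomology (S3244)
-/

set_option autoImplicit false
set_option linter.unusedSectionVars false
set_option linter.style.haveILetI false
universe u
open CategoryTheory CategoryTheory.Limits Opposite AlgebraicGeometry Abelian

namespace Groth.Agent.Lib.T2H8.KummerCoh

section Unit

/-- an integer which is nonzero in all residue fields is a unit of the ring of global functions -/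
theorem isUnit_of_invertibleOn (X : Scheme.{u}) (n : ℕ) (h : Dix.InvertibleOn X n) :
    IsUnit (n : Γ(X, ⊤)) := by
  apply RingedSpace.isUnit_of_isUnit_germ (X := X.toRingedSpace) ⊤ (n : Γ(X, ⊤))
  intro x hx
  have h1 : X.evaluation ⊤ x trivial (n : Γ(X, ⊤)) ≠ 0 := by
    rw [map_natCast]
    exact h x
  rw [X.evaluation_ne_zero_iff_mem_basicOpen] at h1
  exact (RingedSpace.mem_basicOpen _ _ x hx).1 h1

end Unit

section SES

variable (X : Scheme.{u}) (n : ℕ)

/-- the Kummer sequence `0 → μ_n → G_m → G_m → 0` -/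
theorem kummer_shortExact (hn : IsUnit (n : Γ(X, ⊤))) :
    (ShortComplex.mk (EtCoh.muι X n) (EtCoh.powMap X n) (kernel.condition _)).ShortExact := by
  haveI : Epi (EtCoh.powMap X n) := by
    have := Groth.Agent.Lib.T2H8.Kummer.powMap_locallySurjective X n hn
    exact Sheaf.epi_of_isLocallySurjective _
  haveI : Mono (EtCoh.muι X n) := inferInstanceAs (Mono (kernel.ι (EtCoh.powMap X n)))
  refine ShortComplex.ShortExact.mk' ?_ inferInstance inferInstance
  exact ShortComplex.exact_of_f_is_kernel _ (kernelIsKernel (EtCoh.powMap X n))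

lemma Hmap_nsmul_id' (F : EtCoh.Ab X) (q : ℕ) (α : EtCoh.H X F q) (m : ℕ) :
    Sheaf.H.map (m • 𝟙 F) q α = m • α := by
  induction m with
  | zero =>
    rw [zero_smul, zero_smul, Sheaf.H.map_apply, Abelian.Ext.mk₀_zero, Abelian.Ext.comp_zero]
  | succ m ih =>
    rw [succ_nsmul, succ_nsmul, Sheaf.H.map_add_apply, ih, Sheaf.H.map_id_apply]

/-- exactness of `H^i(μ_n) → H^i(G_m) → H^i(G_m)` -/
theorem range_H_mu (hn : IsUnit (n : Γ(X, ⊤))) (i : ℕ) :
    Set.range ⇑((EtCoh.HF X i).map (EtCoh.muι X n)) =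
      {ξ : (EtCoh.HF X i).obj (EtCoh.Gm X) | n • ξ = 0} := by
  have hS := kummer_shortExact X n hn
  have hpow : ∀ ξ : EtCoh.H X (EtCoh.Gm X) i,
      (ξ : Ext (EtCoh.const X ℤ) (EtCoh.Gm X) i).comp (Ext.mk₀ (EtCoh.powMap X n)) (add_zero i) =
        n • ξ := by
    intro ξ
    have h1 := Hmap_nsmul_id' X (EtCoh.Gm X) i ξ n
    rw [Sheaf.H.map_apply] at h1
    exact h1
  ext ξ
  constructor
  · rintro ⟨y, rfl⟩
    change n • (Sheaf.H.map (EtCoh.muι X n) i y) = 0
    rw [← hpow, Sheaf.H.map_apply, Ext.comp_assoc_of_third_deg_zero, Ext.mk₀_comp_mk₀]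
    have h0 : EtCoh.muι X n ≫ EtCoh.powMap X n = 0 := kernel.condition _
    rw [h0, Ext.mk₀_zero, Ext.comp_zero]
  · intro hξ
    have hξ' : (ξ : Ext (EtCoh.const X ℤ) (EtCoh.Gm X) i).comp (Ext.mk₀ (EtCoh.powMap X n))
        (add_zero i) = 0 := (hpow ξ).trans hξ
    obtain ⟨y, hy⟩ := Ext.covariant_sequence_exact₂ (EtCoh.const X ℤ) hS
      (ξ : Ext (EtCoh.const X ℤ) (EtCoh.Gm X) i) hξ'
    refine ⟨y, ?_⟩
    change Sheaf.H.map (EtCoh.muι X n) i y = ξ
    rw [Sheaf.H.map_apply]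
    exact hy

/-- when `H^i(μ_n) = 0`, multiplication by `n` is injective on `H^i(G_m)` -/
theorem eq_zero_of_nsmul_eq_zero_Gm (hn : IsUnit (n : Γ(X, ⊤))) (i : ℕ)
    (h : Subsingleton (EtCoh.H X (EtCoh.mu X n) i)) (ξ : EtCoh.H X (EtCoh.Gm X) i)
    (hξ : n • ξ = 0) : ξ = 0 := by
  have h1 : (ξ : (EtCoh.HF X i).obj (EtCoh.Gm X)) ∈
      {ξ : (EtCoh.HF X i).obj (EtCoh.Gm X) | n • ξ = 0} := hξ
  rw [← range_H_mu X n hn i] at h1
  obtain ⟨y, rfl⟩ := h1
  have hy : y = 0 := @Subsingleton.elim (EtCoh.H X (EtCoh.mu X n) i) h _ _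
  rw [hy]
  exact map_zero (Sheaf.H.map (EtCoh.muι X n) i)

end SES

section S3244

/-- **S3244** -/
theorem main_S3244 (X : Scheme.{u}) (n : ℕ) (hX : Dix.InvertibleOn X n) (i : ℕ) :
    Set.range ⇑((EtCoh.HF X i).map (EtCoh.muι X n)) =
      {ξ : (EtCoh.HF X i).obj (EtCoh.Gm X) | n • ξ = 0} :=
  range_H_mu X n (isUnit_of_invertibleOn X n hX) i

end S3244

end Groth.Agent.Lib.T2H8.KummerCoh
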