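import Mathlib
import Groth.Agent.Lib.T2H8KummerCoh
import Groth.Agent.Lib.T2H8GalCohDim

/-!
# `ℓ`-primary torsion of `H^i(X, G_m)` above the `ℓ`-cohomological dimension (S3246)
-/

set_option autoImplicit false
set_option linter.unusedSectionVars false
set_option linter.style.haveILetI false
universe u
open CategoryTheory CategoryTheory.Limits Opposite AlgebraicGeometry Abelian

namespace Groth.Agent.Lib.T2H8.KummerCd

open Groth.Agent.Lib.T2H8.KummerCoh Groth.Agent.Lib.T2H8.GalCohDim Groth.Agent.Lib.T2H8.EtTrace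

variable (X : Scheme.{u})

/-- a sheaf killed by `ℓ` is `ℓ`-primary torsion -/
lemma isPrimaryTorsion_of_nsmul_id_eq_zero (ℓ : ℕ) (N : EtCoh.Ab X) (h : ℓ • 𝟙 N = 0) :
    Dix.IsPrimaryTorsion ℓ N := by
  intro U s x
  refine ⟨U, 𝟙 U, ⟨x, rfl⟩, 1, ?_⟩
  rw [pow_one]
  have h1 := nsmul_hom_app_apply (𝟙 N) ℓ (op U) (N.obj.map (𝟙 U).op s)
  rw [h] at h1
  exact h1.symm

/-- from injectivity of multiplication by `ℓ` to vanishing of `ℓ`-primary torsion -/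
lemma eq_zero_of_pow_nsmul {A : Type*} [AddCommGroup A] (ℓ : ℕ)
    (h : ∀ x : A, ℓ • x = 0 → x = 0) (ξ : A) (hξ : ∃ k : ℕ, ℓ ^ k • ξ = 0) : ξ = 0 := by
  obtain ⟨k, hk⟩ := hξ
  induction k with
  | zero => simpa using hk
  | succ k ih =>
    apply ih
    apply h
    rw [← mul_smul, ← pow_succ']
    exact hk

/-- **S3246** -/
theorem main_S3246 (ℓ : ℕ) (n : ℕ) (hcd : Dix.CohDimLEAt X ℓ n) :
    (∀ i : ℕ, n + 1 < i → ∀ ξ : EtCoh.H X (EtCoh.Gm X) i, (∃ k : ℕ, ℓ ^ k • ξ = 0) → ξ = 0) ∧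
      (Dix.InvertibleOn X ℓ → ∀ i : ℕ, n < i → ∀ ξ : EtCoh.H X (EtCoh.Gm X) i,
        (∃ k : ℕ, ℓ ^ k • ξ = 0) → ξ = 0) := by
  have hN : ∀ N : EtCoh.Ab X, ℓ • 𝟙 N = 0 → ∀ q : ℕ, n < q → Subsingleton (EtCoh.H X N q) :=
    fun N hN q hq => hcd N (isPrimaryTorsion_of_nsmul_id_eq_zero X ℓ N hN) q hq
  constructor
  · intro i hi ξ hξ
    exact eq_zero_of_pow_nsmul ℓ
      (fun x hx => injective_nsmul_of_vanishing ℓ n hN (EtCoh.Gm X) i hi x hx) ξ hξ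
  · intro hinv i hi ξ hξ
    have hμ : Subsingleton (EtCoh.H X (EtCoh.mu X ℓ) i) :=
      hN _ (nsmul_id_kernel (EtCoh.Gm X) ℓ) i hi
    exact eq_zero_of_pow_nsmul ℓ
      (fun x hx => eq_zero_of_nsmul_eq_zero_Gm X ℓ (isUnit_of_invertibleOn X ℓ hinv) i hμ x hx) ξ hξ

end Groth.Agent.Lib.T2H8.KummerCd
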