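import Mathlib
import Groth.Prelude.Def_HTop
import Groth.Agent.Lib.T2H8ValLift
import Groth.Agent.Lib.T2H8NoethApprox
import Groth.Agent.Lib.T2H8NormalPtFun

/-!
# Standard V coverings and cofiltered limits of affine schemes (helper8)
-/

set_option autoImplicit false
set_option linter.style.haveILetI false

universe w u

namespace Groth.Agent.Lib.T2H8.LimV

open AlgebraicGeometry CategoryTheory Limits HTop IsLocalRing
open Groth.Agent.Lib.T2H8.ValLift Groth.Agent.Lib.T2H8.NoethApprox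
open Groth.Agent.Lib.T2H8.NormalPtFun

/-- Over a valuation ring, an element of the extension of the maximal ideal is a single element
of the maximal ideal times a ring element. -/
theorem exists_eq_algebraMap_mul {V R : Type u} [CommRing V] [IsDomain V] [ValuationRing V]
    [CommRing R] [Algebra V R] (n : R)
    (hn : n ∈ Ideal.map (algebraMap V R) (maximalIdeal V)) :
    ∃ m ∈ maximalIdeal V, ∃ r : R, n = algebraMap V R m * r := by
  unfold Ideal.map at hn
  induction hn using Submodule.span_induction with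
  | mem x hx =>
    obtain ⟨m, hm, rfl⟩ := hx
    exact ⟨m, hm, 1, (mul_one _).symm⟩
  | zero => exact ⟨0, zero_mem _, 0, by rw [mul_zero]⟩
  | add x y _ _ hx hy =>
    obtain ⟨m₁, hm₁, r₁, rfl⟩ := hx
    obtain ⟨m₂, hm₂, r₂, rfl⟩ := hy
    rcases ValuationRing.dvd_total m₁ m₂ with ⟨d, rfl⟩ | ⟨d, rfl⟩
    · exact ⟨m₁, hm₁, r₁ + algebraMap V R d * r₂, by rw [map_mul]; ring⟩
    · exact ⟨m₂, hm₂, algebraMap V R d * r₁ + r₂, by rw [map_mul]; ring⟩
  | smul a x _ hx =>
    obtain ⟨m, hm, r, rfl⟩ := hx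
    exact ⟨m, hm, a * r, by rw [smul_eq_mul]; ring⟩

/-- A certificate is incompatible with a specialization over `(0) ⤳ 𝔪`. -/
theorem false_of_certificate {P : Scheme.{u}} {V : CommRingCat.{u}} [IsDomain V] [ValuationRing V]
    (h : P ⟶ Spec V) (w' w : P) (hw : w' ⤳ w)
    (h₁ : h w' = (⟨⊥, Ideal.isPrime_bot⟩ : PrimeSpectrum V)) (h₀ : h w = closedPoint V)
    (c m : V) (hc : c ≠ 0) (hm : m ∈ maximalIdeal V) (r : Γ(P, ⊤))
    (he : h.appTop ((Scheme.ΓSpecIso V).inv c) *
      (1 + h.appTop ((Scheme.ΓSpecIso V).inv m) * r) = 0) : False := by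
  have e1 : P.Γevaluation w' (h.appTop ((Scheme.ΓSpecIso V).inv c)) ≠ 0 := by
    rw [← Scheme.Γevaluation_naturality_apply]
    intro h0
    have h2 : (Spec V).Γevaluation (h w') ((Scheme.ΓSpecIso V).inv c) = 0 :=
      (h.residueFieldMap w').hom.injective (by rw [h0, map_zero])
    rw [Γevaluation_ΓSpecIso_inv_eq_zero_iff, h₁] at h2
    exact hc h2
  have e2 : P.Γevaluation w' (1 + h.appTop ((Scheme.ΓSpecIso V).inv m) * r) = 0 := by
    have := congrArg (P.Γevaluation w') he
    rw [map_mul, map_zero] at this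
    exact (mul_eq_zero.mp this).resolve_left e1
  have e3 : P.Γevaluation w (1 + h.appTop ((Scheme.ΓSpecIso V).inv m) * r) = 0 := by
    by_contra hne
    have hw_mem : w ∈ P.basicOpen (1 + h.appTop ((Scheme.ΓSpecIso V).inv m) * r) :=
      (Scheme.evaluation_ne_zero_iff_mem_basicOpen P w (U := ⊤) trivial _).mp hne
    have hw'_mem := hw.mem_open (P.basicOpen _).2 hw_mem
    exact (Scheme.evaluation_ne_zero_iff_mem_basicOpen P w' (U := ⊤) trivial _).mpr hw'_mem e2
  have e4 : P.Γevaluation w (h.appTop ((Scheme.ΓSpecIso V).inv m)) = 0 := by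
    rw [← Scheme.Γevaluation_naturality_apply]
    have h2 : (Spec V).Γevaluation (h w) ((Scheme.ΓSpecIso V).inv m) = 0 := by
      rw [Γevaluation_ΓSpecIso_inv_eq_zero_iff, h₀]
      exact hm
    rw [h2, map_zero]
  rw [map_add, map_one, map_mul, e4, zero_mul, add_zero] at e3
  exact one_ne_zero e3

/-- For an affine scheme over a valuation ring: either a specialization lies over `(0) ⤳ 𝔪`, or
there is a certificate. -/
theorem exists_specializes_or_certificate {P : Scheme.{u}} [IsAffine P] {V : CommRingCat.{u}}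
    [IsDomain V] [ValuationRing V] (h : P ⟶ Spec V) :
    (∃ w' w : P, w' ⤳ w ∧ h w' = (⟨⊥, Ideal.isPrime_bot⟩ : PrimeSpectrum V) ∧
      h w = closedPoint V) ∨
    (∃ c m : V, c ≠ 0 ∧ m ∈ maximalIdeal V ∧ ∃ r : Γ(P, ⊤),
      h.appTop ((Scheme.ΓSpecIso V).inv c) *
        (1 + h.appTop ((Scheme.ΓSpecIso V).inv m) * r) = 0) := by
  let F : V ⟶ Γ(P, ⊤) := (Scheme.ΓSpecIso V).inv ≫ h.appTop
  letI : Algebra V Γ(P, ⊤) := F.hom.toAlgebra
  have hF : ∀ v : V, algebraMap V Γ(P, ⊤) v = h.appTop ((Scheme.ΓSpecIso V).inv v) := fun _ => rfl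
  have hcomp : P.isoSpec.inv ≫ h = Spec.map F := by
    rw [← Scheme.isoSpec_inv_naturality, Scheme.isoSpec_Spec_inv, ← Spec.map_comp]
  rcases exists_primes_or_certificate (V := V) (D := Γ(P, ⊤)) with
    ⟨q', q, hle, hq', hq⟩ | ⟨c, hc, n, hn, hcn⟩
  · left
    refine ⟨P.isoSpec.inv q', P.isoSpec.inv q,
      ((PrimeSpectrum.le_iff_specializes q' q).mp hle).map P.isoSpec.inv.continuous, ?_, ?_⟩
    · have : h (P.isoSpec.inv q') = (Spec.map F) q' := by
        rw [← hcomp]
        rfl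
      rw [this]
      exact PrimeSpectrum.ext hq'
    · have : h (P.isoSpec.inv q) = (Spec.map F) q := by
        rw [← hcomp]
        rfl
      rw [this]
      exact PrimeSpectrum.ext hq
  · right
    obtain ⟨m, hm, r, rfl⟩ := exists_eq_algebraMap_mul n hn
    exact ⟨c, m, hc, hm, r, hcn⟩

/-- Valuation-ring lifting from a specialization in a scheme over `Spec V` and `Z`. -/
theorem exists_lift_of_specializes' {T Z P : Scheme.{u}} (f : Z ⟶ T)
    (V : CommRingCat.{u}) [IsDomain V] [ValuationRing V] (g : Spec V ⟶ T)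
    (a : P ⟶ Spec V) (b : P ⟶ Z) (hab : a ≫ g = b ≫ f)
    (p₁ p₀ : P) (h : p₁ ⤳ p₀)
    (h₀ : a p₀ = closedPoint V)
    (h₁ : a p₁ = (⟨⊥, Ideal.isPrime_bot⟩ : PrimeSpectrum V)) :
    ∃ (W : CommRingCat.{u}) (_ : IsDomain W) (_ : ValuationRing W) (φ : V ⟶ W),
      IsExtVal V W φ ∧ ∃ g' : Spec W ⟶ Z, g' ≫ f = Spec.map φ ≫ g := by
  obtain ⟨W, hWd, hWv, k, hk₀, hk₁⟩ := exists_valuationRing_of_specializes h
  let ψ : V ⟶ W := Spec.preimage (k ≫ a)
  have hψ : Spec.map ψ = k ≫ a := Spec.map_preimage _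
  refine ⟨W, hWd, hWv, ψ, isExtVal_of_points ψ ?_ ?_, k ≫ b, ?_⟩
  · rw [hψ]
    show a (k.base _) = _
    rw [hk₀, h₀]
  · rw [hψ]
    show a (k.base _) = _
    rw [hk₁, h₁]
  · rw [Category.assoc, ← hab, ← Category.assoc, hψ]

attribute [local instance] IsCofiltered.isConnected in
/-- **Limits of standard V coverings.** If `X` is the cofiltered limit of affine schemes `X_i`
over an affine scheme `Y` and every `X_i ⟶ Y` has the valuation-ring lifting property, so does
`X ⟶ Y`. -/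
theorem hasValLift_of_isLimit {Y : Scheme.{u}} [IsAffine Y] {I : Type u} [SmallCategory I]
    [IsCofiltered I] (D : I ⥤ Over Y) [∀ i, IsAffine (D.obj i).left] (c : Cone D)
    (hc : IsLimit ((Over.forget Y).mapCone c))
    (h : ∀ i, HasValLift (PreZeroHypercover.singleton.{w} (D.obj i).hom)) :
    HasValLift (PreZeroHypercover.singleton.{w} c.pt.hom) := by
  intro V _ _ g
  haveI : ∀ i, IsAffine ((D ⋙ Over.forget Y).obj i) := fun i =>
    inferInstanceAs (IsAffine (D.obj i).left)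
  haveI : IsAffine c.pt.left := Scheme.isAffine_of_isLimit _ hc
  have hc' : IsLimit c := isLimitOfReflects (Over.forget Y) hc
  let cV' : Cone (D ⋙ Over.pullback g) := (Over.pullback g).mapCone c
  have hcV' : IsLimit cV' := isLimitOfPreserves (Over.pullback g) hc'
  let DV : I ⥤ Scheme.{u} := (D ⋙ Over.pullback g) ⋙ Over.forget (Spec V)
  let cV : Cone DV := (Over.forget (Spec V)).mapCone cV'
  have hcV : IsLimit cV := isLimitOfPreserves (Over.forget (Spec V)) hcV'
  haveI : ∀ i, IsAffine (DV.obj i) := fun i =>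
    inferInstanceAs (IsAffine (pullback (D.obj i).hom g))
  haveI : IsAffine cV.pt := inferInstanceAs (IsAffine (pullback c.pt.hom g))
  let hP : ∀ i, DV.obj i ⟶ Spec V := fun i => ((D ⋙ Over.pullback g).obj i).hom
  let hInf : cV.pt ⟶ Spec V := cV'.pt.hom
  have hπ : ∀ i, cV.π.app i ≫ hP i = hInf := fun i => Over.w (cV'.π.app i)
  have hmap : ∀ {i j : I} (f : j ⟶ i), DV.map f ≫ hP i = hP j :=
    fun f => Over.w ((D ⋙ Over.pullback g).map f)
  rcases exists_specializes_or_certificate hInf with ⟨w', w₀, hw, h₁, h₀⟩ | ⟨c₀, m, hc₀, hm, r, he⟩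
  · obtain ⟨W, hWd, hWv, φ, hφ, g', hg'⟩ := exists_lift_of_specializes' c.pt.hom V g hInf
      (pullback.fst c.pt.hom g) pullback.condition.symm w' w₀ hw h₀ h₁
    exact ⟨W, hWd, hWv, φ, hφ, PUnit.unit, g', hg'⟩
  · exfalso
    obtain ⟨i, ri, hri⟩ := exists_appTop_π_eq_of_isAffine_of_isLimit DV cV hcV r
    have hπapp : ∀ x, (cV.π.app i).appTop ((hP i).appTop x) = hInf.appTop x := fun x => by
      rw [← hπ i, Scheme.Hom.comp_appTop]
      rfl
    have he' : (cV.π.app i).appTop ((hP i).appTop ((Scheme.ΓSpecIso V).inv c₀) *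
        (1 + (hP i).appTop ((Scheme.ΓSpecIso V).inv m) * ri)) = 0 := by
      rw [map_mul, map_add, map_one, map_mul, hπapp, hπapp, hri]
      exact he
    obtain ⟨j, fji, hj⟩ := exists_appTop_map_eq_zero_of_isAffine_of_isLimit DV cV hcV i _ he'
    have hmapapp : ∀ x, (DV.map fji).appTop ((hP i).appTop x) = (hP j).appTop x := fun x => by
      rw [← hmap fji, Scheme.Hom.comp_appTop]
      rfl
    rw [map_mul, map_add, map_one, map_mul, hmapapp, hmapapp] at hj
    obtain ⟨W, hWd, hWv, φ, hφ, _, g', hg'⟩ := h j V g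
    have hg'' : (g' : Spec W ⟶ (D.obj j).left) ≫ (D.obj j).hom = Spec.map φ ≫ g := hg'
    let l : Spec W ⟶ DV.obj j := pullback.lift (g' : Spec W ⟶ (D.obj j).left) (Spec.map φ) hg''
    have hl : l ≫ hP j = Spec.map φ := pullback.lift_snd _ _ _
    obtain ⟨hcl, hgen⟩ := points_of_isExtVal φ hφ
    refine false_of_certificate (hP j) (l (⟨⊥, Ideal.isPrime_bot⟩ : PrimeSpectrum W))
      (l (closedPoint W)) ((specializes_closedPoint _).map l.continuous) ?_ ?_ c₀ m hc₀ hm _ hj
    · show (l ≫ hP j) _ = _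
      rw [hl]
      exact hgen
    · show (l ≫ hP j) _ = _
      rw [hl]
      exact hcl

end Groth.Agent.Lib.T2H8.LimV
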