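import Mathlib
import Groth.Prelude.Def_PerfD
import Groth.Agent.Lib.T2H8FibreStalk
import Groth.Agent.Lib.T2H8FreeLoc
import Groth.Agent.Lib.Helper1Sky9
import Groth.Agent.Lib.Helper23ModLocal
import Groth.Agent.Lib.Helper26ModRank

/-!
# The locus where a perfect complex is a locally free module of rank `r` in degree `i` (helper8)
-/

set_option autoImplicit false
universe u
open CategoryTheory CategoryTheory.Limits AlgebraicGeometry Opposite

namespace Groth.Agent.Lib.T2H8.LocFreeDeg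

section DerivedGeneral

universe w v u'

variable {C : Type u'} [Category.{v} C] [Abelian C] [HasDerivedCategory.{w} C]

open DerivedCategory

/-- an object of the derived category whose cohomology is concentrated in degree `i` is the
cohomology object placed in degree `i` -/
theorem nonempty_iso_singleFunctor (K : DerivedCategory C) (i : ℤ)
    (h : ∀ q : ℤ, q ≠ i → IsZero ((homologyFunctor C q).obj K)) :
    Nonempty (K ≅ (singleFunctor C i).obj ((homologyFunctor C i).obj K)) := by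
  haveI : K.IsGE i := (isGE_iff K i).2 (fun q hq => h q (by omega))
  haveI : K.IsLE i := (isLE_iff K i).2 (fun q hq => h q (by omega))
  obtain ⟨A, ⟨e⟩⟩ := exists_iso_singleFunctor_obj_of_isGE_of_isLE K i
  let eA : (homologyFunctor C i).obj K ≅ A :=
    (homologyFunctor C i).mapIso e ≪≫ (singleFunctorCompHomologyFunctorIso C i).app A
  exact ⟨e ≪≫ (singleFunctor C i).mapIso eA.symm⟩

/-- the cohomology of an object placed in degree `i` -/
lemma isZero_homology_singleFunctor (A : C) (i q : ℤ) (hq : q ≠ i) :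
    IsZero ((homologyFunctor C q).obj ((singleFunctor C i).obj A)) := by
  haveI : ((singleFunctor C i).obj A).IsGE i := inferInstance
  haveI : ((singleFunctor C i).obj A).IsLE i := inferInstance
  rcases lt_or_gt_of_ne hq with h | h
  · exact isZero_of_isGE _ i q h
  · exact isZero_of_isLE _ i q h

/-- an object placed in degree `0` and shifted by `-i` is the object placed in degree `i` -/
noncomputable def singleShiftIso (A : C) (i : ℤ) :
    ((singleFunctor C 0).obj A)⟦-i⟧ ≅ (singleFunctor C i).obj A :=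
  ((singleFunctors C).shiftIso (-i) i 0 (by omega)).app A

end DerivedGeneral

section Single

open DerivedCategory Groth.Agent.Lib.Helper1.Sky Groth.Agent.Lib.T2H8.FreeLoc
  Groth.Agent.Lib.T2H8.SchLocHtpy Groth.Agent.Lib.T2H8.PCohFT

attribute [local instance] HasDerivedCategory.standard

variable {X Y : Scheme.{u}}

/-- a finite locally free module placed in degree `i` is a strictly perfect complex -/
lemma isStrictlyPerfect_single (A : Y.Modules) (hA : FlatMod.IsFinLocFree A) (i : ℤ) :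
    DCoh.IsStrictlyPerfect ((CochainComplex.singleFunctor Y.Modules i).obj A) := by
  refine ⟨⟨i, i, fun q hq => ?_⟩, fun q => ?_⟩
  · exact HomologicalComplex.isZero_single_obj_X (ComplexShape.up ℤ) i A q (by omega)
  · by_cases hq : q = i
    · subst hq
      exact isFinLocFree_of_iso (HomologicalComplex.singleObjXSelf (ComplexShape.up ℤ) q A).symm hA
    · exact isFinLocFree_of_isZero
        (HomologicalComplex.isZero_single_obj_X (ComplexShape.up ℤ) i A q hq)

/-- the derived pullback of a finite locally free module placed in degree `i` -/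
theorem nonempty_lpull_single (f : X ⟶ Y) [DCoh.HasLpull f] (A : Y.Modules)
    (hA : FlatMod.IsFinLocFree A) (i : ℤ) :
    Nonempty ((DCoh.Lpull f).obj ((singleFunctor Y.Modules i).obj A) ≅
      (singleFunctor X.Modules i).obj ((Scheme.Modules.pullback f).obj A)) := by
  have hK := kffs_of_isStrictlyPerfect _ (isStrictlyPerfect_single A hA i)
  exact ⟨(DCoh.Lpull f).mapIso ((singleFunctorIsoCompQ Y.Modules i).app A) ≪≫
    lpullIso f ((CochainComplex.singleFunctor Y.Modules i).obj A) hK ≪≫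
    Q.mapIso ((HomologicalComplex.singleMapHomologicalComplex (Scheme.Modules.pullback f)
      (ComplexShape.up ℤ) i).app A) ≪≫
    ((singleFunctorIsoCompQ X.Modules i).app ((Scheme.Modules.pullback f).obj A)).symm⟩

end Single

section LocFree

open Groth.Agent.Lib.T2H8.FreeLoc Groth.Agent.Lib.T2H8.StalkRestrict
  Groth.Agent.Lib.T2H8.PerfLocal Groth.Agent.Lib.Helper1.Sky Groth.Agent.Lib.Helper20.LocFree

variable {X : Scheme.{u}}

/-- a module which is free of finite rank near `x` and has zero stalk at `x` vanishes near `x` -/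
lemma exists_opens_isZero_restrict {M : X.Modules} {x : X} (h : LFAt M x)
    (hs : Subsingleton (M.presheaf.stalk x)) :
    ∃ W : X.Opens, x ∈ W ∧ ∀ W' : X.Opens, W' ≤ W → IsZero (M.restrict W'.ι) := by
  obtain ⟨W, n, hxW, H⟩ := h.exists_opens
  obtain ⟨e⟩ := H W le_rfl
  have hn : n = 0 := by
    let x' : (W : Scheme.{u}) := ⟨x, hxW⟩
    have hz : IsZero ((stalkFun (W.ι x')).obj M) := by
      haveI : Subsingleton ((stalkFun (W.ι x')).obj M) := hs
      exact ModuleCat.isZero_of_subsingleton _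
    have hz2 : IsZero ((stalkFun x').obj (M.restrict W.ι)) :=
      IsZero.of_iso ((ModuleCat.extendScalars.{u, u, u} (W.ι.stalkMap x').hom).map_isZero hz)
        (stalkRestrictIso W.ι M x')
    have hz3 : IsZero ((stalkFun x').obj (FlatMod.freeMod (W : Scheme.{u}) n)) :=
      IsZero.of_iso hz2 ((stalkFun x').mapIso e.symm)
    have hr : FlatMod.IsFinLocFreeOfRank n (FlatMod.freeMod (W : Scheme.{u}) n) := fun y =>
      ⟨⊤, trivial, ⟨restrictFreeMod (⊤ : (W : Scheme.{u}).Opens).ι n⟩⟩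
    obtain ⟨h1, h2, h3⟩ := Groth.Agent.Lib.T2H6.RankAdd.free_finite_stalk _ n hr x'
    haveI : Subsingleton ((FlatMod.freeMod (W : Scheme.{u}) n).presheaf.stalk x') :=
      ModuleCat.subsingleton_of_isZero hz3
    rw [← h3]
    exact Module.finrank_zero_of_subsingleton
  subst hn
  refine ⟨W, hxW, fun W' hW' => ?_⟩
  obtain ⟨e'⟩ := H W' hW'
  exact IsZero.of_iso isZero_freeMod_zero e'

/-- `M` is free of rank `n` near `x` -/
def LFAtR (n : ℕ) (M : X.Modules) (x : X) : Prop :=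
  ∃ (U : Scheme.{u}) (j : U ⟶ X) (_ : IsOpenImmersion j) (x' : U), j x' = x ∧
    Nonempty (M.restrict j ≅ FlatMod.freeMod U n)

lemma LFAtR.of_iso {n : ℕ} {M N : X.Modules} (e : M ≅ N) {x : X} (h : LFAtR n M x) :
    LFAtR n N x := by
  obtain ⟨U, j, hj, x', hx, ⟨φ⟩⟩ := h
  exact ⟨U, j, hj, x', hx, ⟨(Scheme.Modules.restrictFunctor j).mapIso e.symm ≪≫ φ⟩⟩

lemma lfAtR_of_isFinLocFreeOfRank {n : ℕ} {M : X.Modules} (h : FlatMod.IsFinLocFreeOfRank n M)
    (x : X) : LFAtR n M x := by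
  obtain ⟨W, hxW, ⟨e⟩⟩ := h x
  exact ⟨W, W.ι, inferInstance, ⟨x, hxW⟩, rfl, ⟨e⟩⟩

lemma LFAtR.of_restrict {n : ℕ} {M : X.Modules} {U : Scheme.{u}} (j : U ⟶ X) [IsOpenImmersion j]
    (x' : U) (h : LFAtR n (M.restrict j) x') : LFAtR n M (j x') := by
  obtain ⟨U', j', hj', x'', hx, ⟨e⟩⟩ := h
  refine ⟨U', j' ≫ j, inferInstance, x'', ?_,
    ⟨(Scheme.Modules.restrictFunctorComp j' j).app M ≪≫ e⟩⟩
  rw [Scheme.Hom.comp_apply, hx]

lemma isFinLocFreeOfRank_of_forall_lfAtR {n : ℕ} {M : X.Modules} (h : ∀ x, LFAtR n M x) :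
    FlatMod.IsFinLocFreeOfRank n M := by
  intro x
  obtain ⟨U, j, hj, x', hx, ⟨e⟩⟩ := h x
  obtain ⟨e2⟩ := nonempty_restrict_iso_freeMod_comp M j j.isoOpensRange.inv j.opensRange.ι
    j.isoOpensRange_inv_comp n e
  exact ⟨j.opensRange, ⟨x', hx⟩, ⟨e2⟩⟩

end LocFree

section LST

open Groth.Agent.Lib.T2H8.FreeLoc Groth.Agent.Lib.T2H8.FibreStalk Groth.Agent.Lib.T2H8.PerfLocal
  Groth.Agent.Lib.Helper1.Sky

variable {T Y : Scheme.{u}} [Subsingleton T] [Nonempty T] [IsAffine T]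

/-- **local structure**: if the fibre complex of a strictly perfect complex `P` along a one-point
scheme mapping to `x` is exact outside degree `i`, then on a neighbourhood of `x` the cohomology
sheaves of `P` vanish outside degree `i` and the one in degree `i` is free of finite rank -/
theorem exists_opens_homology_concentrated (hK : IsField Γ(T, ⊤)) (t₀ : T) (j : T ⟶ Y)
    (P : CochainComplex Y.Modules ℤ) (hP : DCoh.IsStrictlyPerfect P) (i : ℤ)
    (hfib : ∀ q, q ≠ i → IsZero (((pullC j).obj P).homology q)) :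
    ∃ (O : Y.Opens) (m : ℕ), j t₀ ∈ O ∧
      (∀ q, q ≠ i → IsZero ((P.homology q).restrict O.ι)) ∧
      Nonempty ((P.homology i).restrict O.ι ≅ FlatMod.freeMod (O : Scheme.{u}) m) := by
  obtain ⟨hfree, hsub⟩ := free_stalk_homology_of_fibre hK t₀ j P hP i hfib
  obtain ⟨a, c, hac⟩ := hP.1
  obtain ⟨O₁, hxO₁, HO₁⟩ := lfAt_homology_aux (c - a + 1).toNat Y P c hP
    (fun q hq => hac q (Or.inr hq)) (fun q hq => hac q (Or.inl (by omega))) (j t₀) hfree
  have hW : ∀ q, ∃ W : Y.Opens, j t₀ ∈ W ∧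
      (q ≠ i → ∀ W' : Y.Opens, W' ≤ W → IsZero ((P.homology q).restrict W'.ι)) := by
    intro q
    by_cases hq : q = i
    · exact ⟨⊤, trivial, fun h => absurd hq h⟩
    · obtain ⟨W, hxW, HW⟩ := exists_opens_isZero_restrict (HO₁ q _ hxO₁) (hsub q hq)
      exact ⟨W, hxW, fun _ => HW⟩
  choose W hxW HW using hW
  obtain ⟨Wi, m, hxWi, HWi⟩ := (HO₁ i _ hxO₁).exists_opens
  refine ⟨(Finset.Icc a c).inf W ⊓ Wi, m, ⟨mem_finset_inf W hxW _, hxWi⟩, fun q hq => ?_,
    HWi _ inf_le_right⟩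
  by_cases hmem : q ∈ Finset.Icc a c
  · exact HW q hq _ (inf_le_left.trans (Finset.inf_le hmem))
  · have hz : IsZero (P.X q) := hac q (by
      rw [Finset.mem_Icc] at hmem
      omega)
    exact (Scheme.Modules.restrictFunctor _).map_isZero (isZero_homology_of_isZero_X P q hz)

end LST

section Good

open DerivedCategory Groth.Agent.Lib.Helper1.Sky Groth.Agent.Lib.T2H8.FreeLoc
  Groth.Agent.Lib.T2H8.PCohQCoh Groth.Agent.Lib.T2H8.HomologyCoprod

attribute [local instance] HasDerivedCategory.standard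

variable {X : Scheme.{u}} (E : DCoh.D X) (i : ℤ) (r : ℕ)

/-- the derived pullback of `E` along `g` is a finite locally free module of rank `r` placed in
degree `i` -/
def Good {Z : Scheme.{u}} (g : Z ⟶ X) : Prop :=
  ∃ V : Z.Modules, FlatMod.IsFinLocFreeOfRank r V ∧
    Nonempty ((@DCoh.Lpull _ _ g (hasLpull g)).obj E ≅ (singleFunctor Z.Modules i).obj V)

lemma isFinLocFree_of_rank {Z : Scheme.{u}} {V : Z.Modules} {n : ℕ}
    (h : FlatMod.IsFinLocFreeOfRank n V) : FlatMod.IsFinLocFree V := fun x => by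
  obtain ⟨U, hx, he⟩ := h x
  exact ⟨U, n, hx, he⟩

variable {E i r}

lemma Good.comp {Z Z' : Scheme.{u}} {g : Z ⟶ X} (hg : Good E i r g) (h : Z' ⟶ Z) :
    Good E i r (h ≫ g) := by
  obtain ⟨V, hV, ⟨e⟩⟩ := hg
  haveI : DCoh.HasLpull g := hasLpull g
  haveI : DCoh.HasLpull h := hasLpull h
  haveI : DCoh.HasLpull (h ≫ g) := hasLpull _
  obtain ⟨c⟩ := nonempty_lpull_comp_iso h g
  obtain ⟨s⟩ := nonempty_lpull_single h V (isFinLocFree_of_rank hV) i
  haveI : V.IsQuasicoherent := isQCoh_of_isFinLocFree V (isFinLocFree_of_rank hV)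
  exact ⟨(Scheme.Modules.pullback h).obj V,
    Groth.Agent.Lib.Helper26.ModRank.isFinLocFreeOfRank_pullback h V hV,
    ⟨(c.app E).symm ≪≫ (DCoh.Lpull h).mapIso e ≪≫ s⟩⟩

lemma Good.congr {Z : Scheme.{u}} {g g' : Z ⟶ X} (hg : Good E i r g) (h : g = g') :
    Good E i r g' := by
  subst h
  exact hg

/-- the property `Good` is local on the source -/
theorem good_of_locally {Y : Scheme.{u}} (f : Y ⟶ X)
    (h : ∀ y : Y, ∃ O : Y.Opens, y ∈ O ∧ Good E i r (O.ι ≫ f)) : Good E i r f := by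
  haveI : DCoh.HasLpull f := hasLpull f
  let F := (Q (C := Y.Modules)).objPreimage ((DCoh.Lpull f).obj E)
  let e₀ : Q.obj F ≅ (DCoh.Lpull f).obj E := Q.objObjPreimageIso _
  have key : ∀ O : Y.Opens, Good E i r (O.ι ≫ f) →
      ∃ A : (O : Scheme.{u}).Modules, FlatMod.IsFinLocFreeOfRank r A ∧ ∀ q : ℤ,
        Nonempty ((DCoh.HD ((DCoh.Lpull f).obj E) q).restrict O.ι ≅
          (homologyFunctor (O : Scheme.{u}).Modules q).obj
            ((singleFunctor (O : Scheme.{u}).Modules i).obj A)) := by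
    rintro O ⟨A, hA, ⟨e⟩⟩
    haveI : DCoh.HasLpull O.ι := hasLpull _
    haveI : DCoh.HasLpull (O.ι ≫ f) := hasLpull _
    obtain ⟨c⟩ := nonempty_lpull_comp_iso O.ι f
    refine ⟨A, hA, fun q => ⟨?_⟩⟩
    exact (Scheme.Modules.restrictFunctor O.ι).mapIso
        ((homologyFunctor Y.Modules q).mapIso e₀.symm) ≪≫ (restrictHDIso O F q).symm ≪≫
      (homologyFunctor (O : Scheme.{u}).Modules q).mapIso
        ((lpullOpenIso O F).symm ≪≫ (DCoh.Lpull O.ι).mapIso e₀ ≪≫ c.app E ≪≫ e)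
  choose O hyO hO using h
  have hz : ∀ q : ℤ, q ≠ i → IsZero (DCoh.HD ((DCoh.Lpull f).obj E) q) := fun q hq =>
    Groth.Agent.Lib.Helper23.ModLocal.isZero_of_isZero_restrict
      (fun y : Y => ((O y : Y.Opens) : Scheme.{u})) (fun y => (O y).ι)
      (fun y => ⟨y, ⟨y, hyO y⟩, rfl⟩) (fun y => by
        obtain ⟨A, hA, H⟩ := key (O y) (hO y)
        obtain ⟨e⟩ := H q
        exact IsZero.of_iso (isZero_homology_singleFunctor A i q hq) e)
  have hr : FlatMod.IsFinLocFreeOfRank r (DCoh.HD ((DCoh.Lpull f).obj E) i) :=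
    isFinLocFreeOfRank_of_forall_lfAtR fun y => by
      obtain ⟨A, hA, H⟩ := key (O y) (hO y)
      obtain ⟨e⟩ := H i
      have h1 : LFAtR r A ⟨y, hyO y⟩ := lfAtR_of_isFinLocFreeOfRank hA _
      have h2 : LFAtR r ((DCoh.HD ((DCoh.Lpull f).obj E) i).restrict (O y).ι) ⟨y, hyO y⟩ :=
        h1.of_iso (e ≪≫ (singleFunctorCompHomologyFunctorIso _ i).app A).symm
      exact h2.of_restrict (O y).ι ⟨y, hyO y⟩
  obtain ⟨e⟩ := nonempty_iso_singleFunctor ((DCoh.Lpull f).obj E) i hz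
  exact ⟨_, hr, ⟨e⟩⟩

open Groth.Agent.Lib.Helper20.LocFree in
/-- if the derived pullback of a perfect object `E` along a one-point scheme mapping to `x` is a
free module of rank `r` placed in degree `i`, then so is the restriction of `E` to an open
neighbourhood of `x` -/
theorem exists_good_nhd (hE : DCoh.IsPerfect E) {T : Scheme.{u}} [Subsingleton T] [Nonempty T]
    [IsAffine T] (hK : IsField Γ(T, ⊤)) (t₀ : T) (g : T ⟶ X) (hg : Good E i r g) :
    ∃ W : X.Opens, g t₀ ∈ W ∧ Good E i r W.ι := by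
  obtain ⟨V₀, hxV₀, H⟩ := hE (g t₀)
  let F := (Q (C := X.Modules)).objPreimage E
  let e₀ : Q.obj F ≅ E := Q.objObjPreimageIso E
  obtain ⟨P, hP, ⟨eP⟩⟩ := H F ⟨e₀⟩
  have hr : Set.range g ⊆ Set.range V₀.ι := by
    rintro _ ⟨t, rfl⟩
    rw [Subsingleton.elim t t₀, Scheme.Opens.range_ι]
    exact hxV₀
  let j := IsOpenImmersion.lift V₀.ι g hr
  have hj : j ≫ V₀.ι = g := IsOpenImmersion.lift_fac _ _ _
  haveI : DCoh.HasLpull j := hasLpull _
  haveI : DCoh.HasLpull V₀.ι := hasLpull _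
  haveI : DCoh.HasLpull (j ≫ V₀.ι) := hasLpull _
  haveI : DCoh.HasLpull g := hasLpull _
  obtain ⟨V_T, hV_T, ⟨eg⟩⟩ := hg
  obtain ⟨c1⟩ := nonempty_lpull_comp_iso j V₀.ι
  obtain ⟨c2⟩ := nonempty_lpull_congr hj
  let eV : (DCoh.Lpull V₀.ι).obj E ≅ Q.obj P :=
    (DCoh.Lpull V₀.ι).mapIso e₀.symm ≪≫ lpullOpenIso V₀ F ≪≫ eP
  let ef : Q.obj ((pullC j).obj P) ≅ (singleFunctor T.Modules i).obj V_T :=
    (lpullIso j P (kffs_of_isStrictlyPerfect P hP)).symm ≪≫ (DCoh.Lpull j).mapIso eV.symm ≪≫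
      c1.app E ≪≫ c2.app E ≪≫ eg
  have hfib : ∀ q, q ≠ i → IsZero (((pullC j).obj P).homology q) := fun q hq =>
    IsZero.of_iso (isZero_homology_singleFunctor V_T i q hq)
      (((homologyFunctorFactors T.Modules q).app _).symm ≪≫
        (homologyFunctor T.Modules q).mapIso ef)
  obtain ⟨O, m, hxO, hz, ⟨efree⟩⟩ := exists_opens_homology_concentrated hK t₀ j P hP i hfib
  -- the open immersion `k : O ⟶ X`
  haveI : DCoh.HasLpull O.ι := hasLpull _
  haveI : DCoh.HasLpull (O.ι ≫ V₀.ι) := hasLpull _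
  obtain ⟨c3⟩ := nonempty_lpull_comp_iso O.ι V₀.ι
  let ek : (DCoh.Lpull (O.ι ≫ V₀.ι)).obj E ≅ Q.obj ((DCoh.restrictCx O).obj P) :=
    (c3.app E).symm ≪≫ (DCoh.Lpull O.ι).mapIso eV ≪≫ lpullOpenIso O P
  let eH : ∀ q, DCoh.HD (Q.obj ((DCoh.restrictCx O).obj P)) q ≅ (P.homology q).restrict O.ι :=
    fun q => (homologyFunctorFactors _ q).app _ ≪≫
      homologyMapIso (Scheme.Modules.restrictFunctor O.ι) P q
  have hz' : ∀ q, q ≠ i → IsZero (DCoh.HD (Q.obj ((DCoh.restrictCx O).obj P)) q) := fun q hq =>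
    IsZero.of_iso (hz q hq) (eH q)
  obtain ⟨es⟩ := nonempty_iso_singleFunctor (Q.obj ((DCoh.restrictCx O).obj P)) i hz'
  let eA : DCoh.HD (Q.obj ((DCoh.restrictCx O).obj P)) i ≅ FlatMod.freeMod (O : Scheme.{u}) m :=
    eH i ≪≫ efree
  have hAm : FlatMod.IsFinLocFreeOfRank m (DCoh.HD (Q.obj ((DCoh.restrictCx O).obj P)) i) :=
    fun y => ⟨⊤, trivial, ⟨(Scheme.Modules.restrictFunctor _).mapIso eA ≪≫
      restrictFreeMod (⊤ : (O : Scheme.{u}).Opens).ι m⟩⟩
  -- the rank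
  have hmr : m = r := by
    have hr' : Set.range j ⊆ Set.range O.ι := by
      rintro _ ⟨t, rfl⟩
      rw [Subsingleton.elim t t₀, Scheme.Opens.range_ι]
      exact hxO
    let j' := IsOpenImmersion.lift O.ι j hr'
    have hj' : j' ≫ O.ι = j := IsOpenImmersion.lift_fac _ _ _
    have hj'' : j' ≫ O.ι ≫ V₀.ι = g := by rw [← Category.assoc, hj', hj]
    haveI : DCoh.HasLpull j' := hasLpull _
    haveI : DCoh.HasLpull (j' ≫ O.ι ≫ V₀.ι) := hasLpull _
    obtain ⟨c4⟩ := nonempty_lpull_comp_iso j' (O.ι ≫ V₀.ι)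
    obtain ⟨c5⟩ := nonempty_lpull_congr hj''
    obtain ⟨s⟩ := nonempty_lpull_single j' _ (isFinLocFree_of_rank hAm) i
    let eT : (singleFunctor T.Modules i).obj V_T ≅ (singleFunctor T.Modules i).obj
        ((Scheme.Modules.pullback j').obj (DCoh.HD (Q.obj ((DCoh.restrictCx O).obj P)) i)) :=
      eg.symm ≪≫ (c5.app E).symm ≪≫ (c4.app E).symm ≪≫ (DCoh.Lpull j').mapIso (ek ≪≫ es) ≪≫ s
    let eV' : V_T ≅
        (Scheme.Modules.pullback j').obj (DCoh.HD (Q.obj ((DCoh.restrictCx O).obj P)) i) :=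
      ((singleFunctorCompHomologyFunctorIso T.Modules i).app V_T).symm ≪≫
        (homologyFunctor T.Modules i).mapIso eT ≪≫
        (singleFunctorCompHomologyFunctorIso T.Modules i).app _
    haveI : (DCoh.HD (Q.obj ((DCoh.restrictCx O).obj P)) i).IsQuasicoherent :=
      isQCoh_of_isFinLocFree _ (isFinLocFree_of_rank hAm)
    have h1 := Groth.Agent.Lib.Helper26.ModRank.isFinLocFreeOfRank_pullback j' _ hAm
    have h2 := Groth.Agent.Lib.Helper26.ModRank.isFinLocFreeOfRank_of_iso eV' hV_T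
    obtain ⟨W₁, hW₁, ⟨e₁⟩⟩ := h1 t₀
    obtain ⟨W₂, hW₂, ⟨e₂⟩⟩ := h2 t₀
    exact Groth.Agent.Lib.Helper26.ModRank.eq_of_restrict_iso_freeMod _ e₁ e₂ t₀ hW₁ hW₂
  subst hmr
  have hk : Good E i m (O.ι ≫ V₀.ι) := ⟨_, hAm, ⟨ek ≪≫ es⟩⟩
  refine ⟨(O.ι ≫ V₀.ι).opensRange, ⟨⟨j t₀, hxO⟩, ?_⟩,
    (hk.comp (O.ι ≫ V₀.ι).isoOpensRange.inv).congr (O.ι ≫ V₀.ι).isoOpensRange_inv_comp⟩
  have h3 : (j ≫ V₀.ι) t₀ = g t₀ := by rw [hj]
  exact h3

/-- `Good` in the form of the statement: the module placed in degree `0` and shifted by `-i` -/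
lemma good_iff_exists_shift {Z : Scheme.{u}} (g : Z ⟶ X) [hg : DCoh.HasLpull g] :
    Good E i r g ↔ ∃ V : Z.Modules, FlatMod.IsFinLocFreeOfRank r V ∧
      Nonempty ((DCoh.Lpull g).obj E ≅ (DCoh.inD Z V)⟦-i⟧) := by
  constructor
  · rintro ⟨V, hV, ⟨e⟩⟩
    exact ⟨V, hV, ⟨e ≪≫ (singleShiftIso V i).symm⟩⟩
  · rintro ⟨V, hV, ⟨e⟩⟩
    exact ⟨V, hV, ⟨e ≪≫ singleShiftIso V i⟩⟩

open Groth.Agent.Lib.T2H8.EulerChar in
/-- S1064: the open locus where a perfect object is a locally free module of rank `r` placed in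
degree `i` -/
theorem main_S1064 (X : Scheme.{u}) (E : DCoh.D X) (hE : DCoh.IsPerfect E) (i : ℤ) (r : ℕ) :
    ∃ U : X.Opens, ∀ (Y : Scheme.{u}) (f : Y ⟶ X) [DCoh.HasLpull f],
      Set.range f.base ⊆ (U : Set X) ↔
        ∃ V : Y.Modules, FlatMod.IsFinLocFreeOfRank r V ∧
          Nonempty ((DCoh.Lpull f).obj E ≅ (DCoh.inD Y V)⟦-i⟧) := by
  refine ⟨sSup {W : X.Opens | Good E i r W.ι}, fun Y f _ => ?_⟩
  rw [← good_iff_exists_shift]
  constructor
  · intro h
    refine good_of_locally f fun y => ?_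
    have hy : f y ∈ (sSup {W : X.Opens | Good E i r W.ι} : X.Opens) := h ⟨y, rfl⟩
    rw [TopologicalSpace.Opens.mem_sSup] at hy
    obtain ⟨W, hW, hyW⟩ := hy
    refine ⟨f ⁻¹ᵁ W, hyW, ?_⟩
    exact (Good.comp hW (f ∣_ W)).congr (morphismRestrict_ι f W)
  · rintro hf _ ⟨y, rfl⟩
    have h1 : Good E i r (Y.fromSpecResidueField y ≫ f) := hf.comp _
    obtain ⟨W, hxW, hW⟩ := exists_good_nhd hE (isField_Γtop y)
      (Classical.arbitrary (Spec (Y.residueField y))) _ h1
    have h2 : (Y.fromSpecResidueField y ≫ f)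
        (Classical.arbitrary (Spec (Y.residueField y))) = f y := by
      rw [Scheme.Hom.comp_apply, Scheme.fromSpecResidueField_apply]
    rw [h2] at hxW
    exact TopologicalSpace.Opens.mem_sSup.mpr ⟨W, hW, hxW⟩

end Good

end Groth.Agent.Lib.T2H8.LocFreeDeg
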