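import Groth.Agent.Lib.Helper24HopfDed
import Groth.Agent.Lib.Helper25Torsion
import Mathlib.RingTheory.Bialgebra.Convolution
import Mathlib.RingTheory.HopfAlgebra.Convolution

/-!
# The torsion ideals are Hopf ideals (helper8)

* `bialgHom_antipode'`: bialgebra maps commute with antipodes (copy of helper25's lemma).
* `isHopfIdeal_map_ker_counit`: the ideal generated by the image of the augmentation ideal under a
  bialgebra map is a Hopf ideal (over any base ring).
* `powConvBialgHom`: the `n`-th power map of a cocommutative Hopf algebra as a bialgebra map.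
* `isHopfIdeal_torsionIdeal`.
-/

set_option autoImplicit false
universe u v w

namespace Groth.Agent.Lib.T2H8.LocRigid

open TensorProduct WithConv SGA3b Coalgebra

section BialgAntipode

variable {k : Type u} [CommSemiring k] {A : Type v} [Semiring A] [HopfAlgebra k A]
  {B : Type w} [Semiring B] [HopfAlgebra k B]

/-- A bialgebra map between Hopf algebras commutes with the antipodes. -/
theorem bialgHom_antipode' (f : A →ₐc[k] B) (a : A) :
    f (HopfAlgebra.antipode k a) = HopfAlgebra.antipode k (f a) := by
  set L : WithConv (A →ₗ[k] B) :=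
    toConv ((HopfAlgebra.antipode k (A := B)) ∘ₗ (f : A →ₗc[k] B).toLinearMap) with hL
  set g : WithConv (A →ₗ[k] B) := toConv ((f : A →ₗc[k] B).toLinearMap) with hg
  set R : WithConv (A →ₗ[k] B) :=
    toConv ((f : A →ₐ[k] B).toLinearMap ∘ₗ (HopfAlgebra.antipode k (A := A))) with hR
  have h1 : L * g = 1 := by
    have := LinearMap.convMul_comp_coalgHom_distrib (toConv (HopfAlgebra.antipode k (A := B)))
      (toConv (LinearMap.id : B →ₗ[k] B)) (f : A →ₗc[k] B)
    rw [LinearMap.antipode_mul_id] at this
    apply ofConv_injective
    rw [hL, hg]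
    simp only [ofConv_toConv, LinearMap.id_comp] at this
    rw [← this]
    ext x
    simp
  have h2 : g * R = 1 := by
    have := LinearMap.algHom_comp_convMul_distrib (f : A →ₐ[k] B)
      (toConv (LinearMap.id : A →ₗ[k] A)) (toConv (HopfAlgebra.antipode k (A := A)))
    rw [LinearMap.id_mul_antipode] at this
    apply ofConv_injective
    simp only [ofConv_toConv, LinearMap.comp_id] at this
    rw [hg, hR]
    have e : ((f : A →ₗc[k] B).toLinearMap) = (f : A →ₐ[k] B).toLinearMap := rfl
    rw [e, ← this]
    ext x
    simp only [LinearMap.convOne_def, ofConv_toConv, LinearMap.comp_apply, Algebra.linearMap_apply,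
      AlgHom.toLinearMap_apply]
    exact (f : A →ₐ[k] B).commutes _
  have h3 : L = R := by
    calc L = L * (g * R) := by rw [h2, mul_one]
      _ = (L * g) * R := (mul_assoc _ _ _).symm
      _ = R := by rw [h1, one_mul]
  have h4 := congrArg (fun φ : WithConv (A →ₗ[k] B) => φ.ofConv a) h3
  simp only [hL, hR, ofConv_toConv, LinearMap.comp_apply] at h4
  exact h4.symm

end BialgAntipode

section HopfIdeal

variable {R : Type u} [CommRing R] {A : Type u} [CommRing A] [HopfAlgebra R A]
  {C : Type u} [CommRing C] [HopfAlgebra R C]

open Groth.Agent.Lib.Helper24HopfDed in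
theorem isHopfIdeal_map_ker_counit (θ : C →ₐc[R] A) :
    (Ideal.map (θ : C →+* A) (RingHom.ker (Bialgebra.counitAlgHom R C))).IsHopfIdeal R := by
  set J := Ideal.map (θ : C →+* A) (RingHom.ker (Bialgebra.counitAlgHom R C)) with hJ
  rw [Ideal.isHopfIdeal_iff, isCoideal_iff']
  refine ⟨⟨?_, ?_⟩, ?_⟩
  · have : J ≤ RingHom.ker (Bialgebra.counitAlgHom R A) := by
      refine Ideal.map_le_iff_le_comap.2 ?_
      intro c hc
      rw [Ideal.mem_comap, RingHom.mem_ker]
      rw [RingHom.mem_ker] at hc
      change counit (R := R) (θ c) = 0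
      rw [CoalgHomClass.counit_comp_apply]
      exact hc
    intro x hx
    exact this hx
  · let Ψ : A →ₐ[R] (A ⧸ J) ⊗[R] (A ⧸ J) :=
      (Algebra.TensorProduct.map (Ideal.Quotient.mkₐ R J) (Ideal.Quotient.mkₐ R J)).comp
        (Bialgebra.comulAlgHom R A)
    -- `mk ∘ θ` is the trivial map
    have hκ : ∀ c : C, Ideal.Quotient.mkₐ R J (θ c) = algebraMap R (A ⧸ J) (counit (R := R) c) := by
      intro c
      have h1 : c - algebraMap R C (counit (R := R) c) ∈
          RingHom.ker (Bialgebra.counitAlgHom R C) := by
        rw [RingHom.mem_ker, map_sub]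
        change counit (R := R) c - counit (R := R) (algebraMap R C (counit (R := R) c)) = 0
        rw [Bialgebra.counit_algebraMap]
        simp
      have h2 : θ (c - algebraMap R C (counit (R := R) c)) ∈ J := Ideal.mem_map_of_mem _ h1
      have h3 : Ideal.Quotient.mkₐ R J (θ (c - algebraMap R C (counit (R := R) c))) = 0 :=
        Ideal.Quotient.eq_zero_iff_mem.mpr h2
      rw [map_sub, map_sub, sub_eq_zero] at h3
      rw [h3]
      have : θ (algebraMap R C (counit (R := R) c)) = algebraMap R A (counit (R := R) c) :=
        (θ : C →ₐ[R] A).commutes _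
      rw [this]
      exact (Ideal.Quotient.mkₐ R J).commutes _
    have : J ≤ RingHom.ker Ψ := by
      refine Ideal.map_le_iff_le_comap.2 ?_
      intro c hc
      rw [Ideal.mem_comap, RingHom.mem_ker]
      rw [RingHom.mem_ker] at hc
      have hc' : counit (R := R) c = 0 := hc
      change Algebra.TensorProduct.map (Ideal.Quotient.mkₐ R J) (Ideal.Quotient.mkₐ R J)
        (comul (R := R) (θ c)) = 0
      rw [← CoalgHomClass.map_comp_comul_apply]
      -- now compute on `comul c`
      have key : ∀ t : C ⊗[R] C,
          Algebra.TensorProduct.map (Ideal.Quotient.mkₐ R J) (Ideal.Quotient.mkₐ R J)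
            (TensorProduct.map (θ : C →ₗ[R] A) (θ : C →ₗ[R] A) t) =
          algebraMap R ((A ⧸ J) ⊗[R] (A ⧸ J))
            (LinearMap.mul' R R (TensorProduct.map (counit (R := R)) (counit (R := R)) t)) := by
        intro t
        induction t using TensorProduct.induction_on with
        | zero => simp
        | tmul x y =>
          rw [TensorProduct.map_tmul, Algebra.TensorProduct.map_tmul, TensorProduct.map_tmul,
            LinearMap.mul'_apply]
          change (Ideal.Quotient.mkₐ R J (θ x)) ⊗ₜ[R] (Ideal.Quotient.mkₐ R J (θ y)) = _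
          rw [hκ, hκ, Algebra.algebraMap_eq_smul_one (counit (R := R) x),
            Algebra.algebraMap_eq_smul_one (counit (R := R) y), TensorProduct.smul_tmul_smul,
            Algebra.algebraMap_eq_smul_one (_ * _), Algebra.TensorProduct.one_def]
        | add x y hx hy => simp only [map_add, hx, hy]
      have e : TensorProduct.map ((θ : C →ₗc[R] A) : C →ₗ[R] A) ((θ : C →ₗc[R] A) : C →ₗ[R] A)
          (comul (R := R) c) = TensorProduct.map (θ : C →ₗ[R] A) (θ : C →ₗ[R] A)
            (comul (R := R) c) := rfl
      rw [key]
      have h5 : LinearMap.mul' R R (TensorProduct.map (counit (R := R)) (counit (R := R))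
          (comul (R := R) c)) = counit (R := R) c := by
        have h6 := Coalgebra.rTensor_counit_comul (R := R) c
        have h7 := congrArg (LinearMap.mul' R R ∘ₗ (LinearMap.lTensor R (counit (R := R)))) h6
        simp only [LinearMap.comp_apply, LinearMap.lTensor_tmul, LinearMap.mul'_apply, one_mul] at h7
        rw [← h7, ← LinearMap.comp_apply (LinearMap.lTensor R (counit (R := R))),
          LinearMap.lTensor_comp_rTensor]
      rw [h5, hc', map_zero]
    intro x hx
    exact this hx
  · have : J ≤ J.comap (HopfAlgebra.antipodeAlgHom R A) := by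
      refine Ideal.map_le_iff_le_comap.2 ?_
      intro c hc
      rw [Ideal.mem_comap, Ideal.mem_comap]
      change HopfAlgebra.antipode R (θ c) ∈ J
      rw [← bialgHom_antipode']
      apply Ideal.mem_map_of_mem
      rw [RingHom.mem_ker] at hc ⊢
      change counit (R := R) (HopfAlgebra.antipode R c) = 0
      rw [HopfAlgebra.counit_antipode]
      exact hc
    intro x hx
    exact this hx

end HopfIdeal

section PowConv

variable (R : Type u) [CommRing R] (A : Type u) [CommRing A] [HopfAlgebra R A]
  [Coalgebra.IsCocomm R A]

/-- The `n`-th power map of a commutative group `Spec A` as a bialgebra map. -/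
noncomputable def powConvBialgHom (n : ℕ) : A →ₐc[R] A :=
  ((toConv (BialgHom.id R A)) ^ n).ofConv

theorem powConvBialgHom_toAlgHom (n : ℕ) :
    ((powConvBialgHom R A n : A →ₐc[R] A) : A →ₐ[R] A) = powConv R A n := by
  have h := BialgHom.toAlgHom_convPow (toConv (BialgHom.id R A)) n
  unfold powConvBialgHom powConv
  exact congrArg ofConv h

theorem powConvBialgHom_apply (n : ℕ) (a : A) : powConvBialgHom R A n a = powConv R A n a := by
  rw [← powConvBialgHom_toAlgHom]
  rfl

instance isHopfIdeal_torsionIdeal (n : ℕ) : (torsionIdeal R A n).IsHopfIdeal R := by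
  have h := isHopfIdeal_map_ker_counit (powConvBialgHom R A n)
  have e : Ideal.map ((powConvBialgHom R A n : A →ₐc[R] A) : A →+* A)
      (RingHom.ker (Bialgebra.counitAlgHom R A)) = torsionIdeal R A n := by
    unfold torsionIdeal
    congr 1
    ext a
    exact powConvBialgHom_apply R A n a
  rwa [e] at h

end PowConv

end Groth.Agent.Lib.T2H8.LocRigid
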