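import Mathlib
import Groth.Agent.Lib.T2H8IsoTrivB

set_option autoImplicit false

/-!
# T2H8NilDiagA: group-like elements modulo a nil ideal: rigidity and faithfully flat descent
-/

namespace Groth.Agent.Lib.T2H8.NilDiag

open TensorProduct Coalgebra Groth.Agent.Lib.Helper25 Groth.Agent.Lib.Helper25.BCB
  Groth.Agent.Lib.Helper25.MRB

universe u

section GLMod

variable (R : Type u) [CommRing R] (A : Type u) [CommRing A] [Bialgebra R A]

/-- `y` is group-like modulo the ideal `I` of the base ring -/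
def IsGLMod (I : Ideal R) (y : A) : Prop :=
  comul (R := R) y - y ⊗ₜ[R] y ∈ I • (⊤ : Submodule R (A ⊗[R] A)) ∧ counit (R := R) y - 1 ∈ I

variable {R A}

theorem isGLMod_of_isGroupLikeElem (I : Ideal R) {y : A} (hy : IsGroupLikeElem R y) :
    IsGLMod R A I y := by
  refine ⟨?_, ?_⟩
  · rw [hy.comul_eq_tmul_self, sub_self]
    exact Submodule.zero_mem _
  · rw [hy.counit_eq_one, sub_self]
    exact I.zero_mem

theorem IsGLMod.baseChange (R' : Type u) [CommRing R'] [Algebra R R'] {I : Ideal R} {y : A}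
    (hy : IsGLMod R A I y) :
    IsGLMod R' (R' ⊗[R] A) (I.map (algebraMap R R')) ((1 : R') ⊗ₜ[R] y) := by
  refine ⟨?_, ?_⟩
  · have h1 := bcMap2_mem_smul_top R' A I hy.1
    rw [map_sub, bcMap2_tmul, ← comul_one_tmul] at h1
    exact h1
  · rw [TensorProduct.counit_tmul]
    have h2 : counit (R := R) y • counit (R := R') (1 : R') - 1 =
        algebraMap R R' (counit (R := R) y - 1) := by
      rw [CommSemiring.counit_apply, Algebra.smul_def, mul_one, map_sub, map_one]
    rw [h2]
    exact Ideal.mem_map_of_mem _ hy.2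

theorem IsGLMod.map {B : Type u} [CommRing B] [Bialgebra R B] (e : A →ₐc[R] B) {I : Ideal R}
    {y : A} (hy : IsGLMod R A I y) : IsGLMod R B I (e y) := by
  refine ⟨?_, ?_⟩
  · have h1 := map_mem_smul_top (TensorProduct.map (e : A →ₗ[R] B) (e : A →ₗ[R] B)) I hy.1
    rw [map_sub, TensorProduct.map_tmul] at h1
    have h2 : TensorProduct.map (e : A →ₗ[R] B) (e : A →ₗ[R] B) (comul (R := R) y) =
        comul (R := R) (e y) := CoalgHomClass.map_comp_comul_apply e y
    rw [h2] at h1
    exact h1
  · have h3 : counit (R := R) (e y) = counit (R := R) y := CoalgHomClass.counit_comp_apply e y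
    rw [h3]
    exact hy.2

end GLMod

section Rigid

variable {R : Type u} [CommRing R] {A : Type u} [CommRing A] [HopfAlgebra R A]

theorem groupLike_eq_one_of_nilpotent (hP : NoPrimMod R A) (J : Ideal R) (hJ : IsNilpotent J)
    {u : A} (hu : IsGroupLikeElem R u) (h : u - 1 ∈ J • (⊤ : Submodule R A)) : u = 1 := by
  have hstep : ∀ m : ℕ, u - 1 ∈ (J ^ (m + 1)) • (⊤ : Submodule R A) := by
    intro m
    induction m with
    | zero => rw [zero_add, pow_one]; exact h
    | succ m ih =>
      apply hP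
      have h1 : MRB.primDefect R A (u - 1) = (u - 1) ⊗ₜ[R] (u - 1) := by
        rw [MRB.primDefect_apply, map_sub, hu.comul_eq_tmul_self, Bialgebra.comul_one,
          Algebra.TensorProduct.one_def]
        simp only [TensorProduct.sub_tmul, TensorProduct.tmul_sub]
        abel
      rw [h1]
      have h2 := RigidB.tmul_mem_smul_top (J ^ (m + 1)) (J ^ (m + 1)) ih ih
      have hle : J ^ (m + 1) * J ^ (m + 1) ≤ J ^ (m + 1 + 1) := by
        rw [← pow_add]
        exact Ideal.pow_le_pow_right (by omega)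
      exact Submodule.smul_mono hle le_rfl h2
  obtain ⟨N, hN⟩ := hJ
  have h1 := hstep N
  have h2 : J ^ (N + 1) = ⊥ := by
    rw [pow_succ, hN]
    simp
  rw [h2, Submodule.bot_smul, Submodule.mem_bot, sub_eq_zero] at h1
  exact h1

theorem groupLike_eq_of_nil (hP : NoPrimMod R A) (I : Ideal R) (hI : ∀ x ∈ I, IsNilpotent x)
    {g g' : A} (hg : IsGroupLikeElem R g) (hg' : IsGroupLikeElem R g')
    (h : g - g' ∈ I • (⊤ : Submodule R A)) : g = g' := by
  have hu : IsGroupLikeElem R (g * HopfAlgebra.antipode R g') := hg.mul hg'.antipode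
  have h1 : g * HopfAlgebra.antipode R g' - 1 = HopfAlgebra.antipode R g' * (g - g') := by
    rw [mul_sub, mul_comm (HopfAlgebra.antipode R g') g', hg'.mul_antipode_cancel, mul_comm]
  have h2 : g * HopfAlgebra.antipode R g' - 1 ∈ I • (⊤ : Submodule R A) := by
    rw [h1]
    exact RigidB.mul_mem_smul_top I _ h
  obtain ⟨J, hJfg, hJI, hJ⟩ := RigidB.exists_fg_le_of_mem_smul_top I h2
  have hJnil : IsNilpotent J := by
    rw [Ideal.FG.isNilpotent_iff_le_nilradical hJfg]
    intro x hx
    exact mem_nilradical.mpr (hI x (hJI hx))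
  have h3 := groupLike_eq_one_of_nilpotent hP J hJnil hu hJ
  calc g = g * (HopfAlgebra.antipode R g' * g') := by
          rw [hg'.antipode_mul_cancel, mul_one]
    _ = (g * HopfAlgebra.antipode R g') * g' := by ring
    _ = g' := by rw [h3, one_mul]

end Rigid

section SmulTop

variable {R : Type u} [CommRing R] (R' : Type u) [CommRing R'] [Algebra R R']
  {N : Type u} [AddCommGroup N] [Module R N] [Module R' N] [IsScalarTower R R' N]

theorem isNilpotent_of_mem_map {I : Ideal R} (hI : ∀ x ∈ I, IsNilpotent x) :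
    ∀ x ∈ I.map (algebraMap R R'), IsNilpotent x := by
  intro x hx
  rw [← mem_nilradical]
  have h1 : I.map (algebraMap R R') ≤ nilradical R' := by
    rw [Ideal.map_le_iff_le_comap]
    intro z hz
    rw [Ideal.mem_comap, mem_nilradical]
    exact (hI z hz).map _
  exact h1 hx

theorem mem_smul_top_of_mem_map_smul_top (I : Ideal R) {z : N}
    (hz : z ∈ (I.map (algebraMap R R')) • (⊤ : Submodule R' N)) :
    z ∈ I • (⊤ : Submodule R N) := by
  refine Submodule.smul_induction_on hz ?_ ?_
  · intro r' hr' n hn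
    clear hn
    unfold Ideal.map at hr'
    induction hr' using Submodule.span_induction generalizing n with
    | mem r hr =>
      obtain ⟨i, hi, rfl⟩ := hr
      rw [algebraMap_smul]
      exact Submodule.smul_mem_smul hi Submodule.mem_top
    | zero => rw [zero_smul]; exact Submodule.zero_mem _
    | add a b _ _ ha hb => rw [add_smul]; exact Submodule.add_mem _ (ha n) (hb n)
    | smul c a _ ha => rw [smul_eq_mul, mul_comm, mul_smul]; exact ha _
  · intro x y hx hy
    exact Submodule.add_mem _ hx hy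

theorem mem_map_smul_top_of_mem_smul_top (I : Ideal R) {z : N}
    (hz : z ∈ I • (⊤ : Submodule R N)) :
    z ∈ (I.map (algebraMap R R')) • (⊤ : Submodule R' N) := by
  refine Submodule.smul_induction_on hz ?_ ?_
  · intro r hr n _
    rw [← algebraMap_smul R' r n]
    exact Submodule.smul_mem_smul (Ideal.mem_map_of_mem _ hr) Submodule.mem_top
  · intro x y hx hy
    exact Submodule.add_mem _ hx hy

end SmulTop

section FFMem

variable {R : Type u} [CommRing R] (R' : Type u) [CommRing R'] [Algebra R R']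
  [Module.FaithfullyFlat R R'] {N : Type u} [AddCommGroup N] [Module R N]

theorem mem_smul_top_of_faithfullyFlat (I : Ideal R) (x : N)
    (hx : (1 : R') ⊗ₜ[R] x ∈ I • (⊤ : Submodule R (R' ⊗[R] N))) :
    x ∈ I • (⊤ : Submodule R N) := by
  have h1 := map_mem_smul_top (LinearMap.lTensor R' (I • (⊤ : Submodule R N)).mkQ) I hx
  rw [LinearMap.lTensor_tmul] at h1
  have h2 : ∀ w ∈ I • (⊤ : Submodule R (R' ⊗[R] (N ⧸ I • (⊤ : Submodule R N)))), w = 0 := by
    intro w hw
    refine Submodule.smul_induction_on hw ?_ ?_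
    · intro r hr n hn
      clear hn
      induction n using TensorProduct.induction_on with
      | zero => simp
      | add a b ha hb => rw [smul_add, ha, hb, add_zero]
      | tmul t q =>
        obtain ⟨a, rfl⟩ := Submodule.Quotient.mk_surjective _ q
        rw [← TensorProduct.tmul_smul, ← Submodule.Quotient.mk_smul,
          (Submodule.Quotient.mk_eq_zero _).mpr (Submodule.smul_mem_smul hr Submodule.mem_top),
          TensorProduct.tmul_zero]
    · intro a b ha hb
      rw [ha, hb, add_zero]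
  have h3 := h2 _ h1
  have h4 : TensorProduct.mk R R' (N ⧸ (I • (⊤ : Submodule R N))) 1
      ((I • (⊤ : Submodule R N)).mkQ x) = TensorProduct.mk R R' _ 1 0 := by
    rw [TensorProduct.mk_apply, h3, map_zero]
  have h5 := Module.FaithfullyFlat.tensorProduct_mk_injective (A := R) (B := R')
    (N ⧸ (I • (⊤ : Submodule R N))) h4
  exact (Submodule.Quotient.mk_eq_zero _).mp h5

end FFMem

section MapGL

variable {R : Type u} [CommRing R] {S S' : Type u} [CommRing S] [CommRing S'] [Algebra R S]
  [Algebra R S'] (f : S →ₐ[R] S') {A : Type u} [CommRing A] [HopfAlgebra R A]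

/-- base change of a group-like element along an algebra map -/
theorem isGroupLikeElem_map {x : S ⊗[R] A} (hx : IsGroupLikeElem S x) :
    IsGroupLikeElem S' (Algebra.TensorProduct.map f (AlgHom.id R A) x) := by
  letI : Algebra S S' := f.toRingHom.toAlgebra
  haveI : IsScalarTower R S S' := IsScalarTower.of_algebraMap_eq (fun x => (f.commutes x).symm)
  have key : ∀ z : S ⊗[R] A, cancelBC R S S' A ((1 : S') ⊗ₜ[S] z) =
      Algebra.TensorProduct.map f (AlgHom.id R A) z := by
    intro z
    induction z using TensorProduct.induction_on with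
    | zero => simp
    | add x y hx hy => rw [TensorProduct.tmul_add, map_add, hx, hy, map_add]
    | tmul s a =>
      rw [cancelBC_tmul, Algebra.TensorProduct.map_tmul, Algebra.smul_def, mul_one]
      rfl
  have h1 : IsGroupLikeElem S' ((1 : S') ⊗ₜ[S] x) := SubDiag.isGroupLikeElem_one_tmul hx
  have h2 := h1.map (cancelBC R S S' A)
  rw [key] at h2
  exact h2

end MapGL

section Descent

variable {R : Type u} [CommRing R] {A : Type u} [CommRing A] [HopfAlgebra R A]
  (R' : Type u) [CommRing R'] [Algebra R R'] [Module.FaithfullyFlat R R']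

/-- faithfully flat descent of a group-like element which is determined modulo a nil ideal -/
theorem exists_groupLike_of_faithfullyFlat (I : Ideal R) (hI : ∀ x ∈ I, IsNilpotent x)
    (hP : NoPrimMod (R' ⊗[R] R') ((R' ⊗[R] R') ⊗[R] A))
    (y : A) (g' : R' ⊗[R] A) (hg' : IsGroupLikeElem R' g')
    (h : g' - (1 : R') ⊗ₜ[R] y ∈ I • (⊤ : Submodule R (R' ⊗[R] A))) :
    ∃ g : A, IsGroupLikeElem R g ∧ (1 : R') ⊗ₜ[R] g = g' := by
  set d₀ : R' ⊗[R] A →ₐ[R] (R' ⊗[R] R') ⊗[R] A :=
    Algebra.TensorProduct.map (Algebra.TensorProduct.includeLeft : R' →ₐ[R] R' ⊗[R] R')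
      (AlgHom.id R A) with hd₀
  set d₁ : R' ⊗[R] A →ₐ[R] (R' ⊗[R] R') ⊗[R] A :=
    Algebra.TensorProduct.map (Algebra.TensorProduct.includeRight : R' →ₐ[R] R' ⊗[R] R')
      (AlgHom.id R A) with hd₁
  have hg₀ : IsGroupLikeElem (R' ⊗[R] R') (d₀ g') := isGroupLikeElem_map _ hg'
  have hg₁ : IsGroupLikeElem (R' ⊗[R] R') (d₁ g') := isGroupLikeElem_map _ hg'
  have e₀ : d₀ ((1 : R') ⊗ₜ[R] y) = (1 : R' ⊗[R] R') ⊗ₜ[R] y := by
    rw [hd₀, Algebra.TensorProduct.map_tmul, map_one]; rfl
  have e₁ : d₁ ((1 : R') ⊗ₜ[R] y) = (1 : R' ⊗[R] R') ⊗ₜ[R] y := by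
    rw [hd₁, Algebra.TensorProduct.map_tmul, map_one]; rfl
  have hdiff : d₀ g' - d₁ g' ∈ I • (⊤ : Submodule R ((R' ⊗[R] R') ⊗[R] A)) := by
    have h0 := map_mem_smul_top d₀.toLinearMap I h
    have h1 := map_mem_smul_top d₁.toLinearMap I h
    have e : d₀ g' - d₁ g' = d₀.toLinearMap (g' - (1 : R') ⊗ₜ[R] y) -
        d₁.toLinearMap (g' - (1 : R') ⊗ₜ[R] y) := by
      rw [map_sub, map_sub, AlgHom.toLinearMap_apply, AlgHom.toLinearMap_apply,
        AlgHom.toLinearMap_apply, AlgHom.toLinearMap_apply, e₀, e₁]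
      abel
    rw [e]
    exact Submodule.sub_mem _ h0 h1
  have heq : d₀ g' = d₁ g' :=
    groupLike_eq_of_nil hP (I.map (algebraMap R (R' ⊗[R] R')))
      (isNilpotent_of_mem_map (R' ⊗[R] R') hI) hg₀ hg₁
      (mem_map_smul_top_of_mem_smul_top (R' ⊗[R] R') I hdiff)
  -- Amitsur
  let f : R' ⊗[R] R →ₗ[R'] R' ⊗[R] A :=
    (LinearMap.toSpanSingleton R' (R' ⊗[R] A) g') ∘ₗ
      (AlgebraTensorModule.rid R R' R').toLinearMap
  have hf1 : ∀ r : R, f ((1 : R') ⊗ₜ[R] r) = r • g' := by
    intro r
    simp [f]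
  obtain ⟨hlin, hh, -⟩ := Helper22.existsUnique_baseChange_eq (R := R) (A := R') R A f
    (by
      intro r
      rw [hf1, map_smul, map_smul]
      exact congrArg (fun z => r • z) heq)
  refine ⟨hlin 1, ?_, ?_⟩
  · have h1 : (1 : R') ⊗ₜ[R] hlin 1 = g' := by
      have := LinearMap.congr_fun hh ((1 : R') ⊗ₜ[R] (1 : R))
      rw [LinearMap.baseChange_tmul, hf1, one_smul] at this
      exact this
    refine ⟨?_, ?_⟩
    · apply FaithfulSMul.algebraMap_injective R R'
      have h2 := hg'.counit_eq_one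
      rw [← h1, TensorProduct.counit_tmul] at h2
      rw [RingHom.map_one, ← h2, CommSemiring.counit_apply, Algebra.smul_def, mul_one]
    · apply PIDesc.bcMap2_injective (k := R) (S := R')
      rw [← comul_one_tmul, bcMap2_tmul, h1]
      exact hg'.comul_eq_tmul_self
  · have := LinearMap.congr_fun hh ((1 : R') ⊗ₜ[R] (1 : R))
    rw [LinearMap.baseChange_tmul, hf1, one_smul] at this
    exact this

end Descent

end Groth.Agent.Lib.T2H8.NilDiag
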