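import Mathlib
import Groth.Agent.Lib.T2H8NilDiagA

set_option autoImplicit false

/-!
# T2H8NilDiagB: lifting group-like elements of a group algebra along a nil ideal
-/

namespace Groth.Agent.Lib.T2H8.NilDiag

open TensorProduct Coalgebra Groth.Agent.Lib.Helper25 Groth.Agent.Lib.Helper25.BCB
  Groth.Agent.Lib.Helper25.MRB

universe u

section GALift

variable {T : Type u} [CommRing T] {N : Type u} [CommGroup N]

/-- coefficient functional on `T[N] ⊗ T[N]` -/
noncomputable def cc2 (n m : N) : MonoidAlgebra T N ⊗[T] MonoidAlgebra T N →ₗ[T] T :=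
  LinearMap.mul' T T ∘ₗ TensorProduct.map
    (Finsupp.lapply n ∘ₗ (MonoidAlgebra.coeffLinearEquiv T).toLinearMap)
    (Finsupp.lapply m ∘ₗ (MonoidAlgebra.coeffLinearEquiv T).toLinearMap)

theorem cc2_tmul (n m : N) (y z : MonoidAlgebra T N) :
    cc2 n m (y ⊗ₜ[T] z) = y.coeff n * z.coeff m := by
  simp [cc2]

theorem cc2_comul [DecidableEq N] (n m : N) (y : MonoidAlgebra T N) :
    cc2 n m (comul (R := T) y) = if n = m then y.coeff n else 0 := by
  induction y using MonoidAlgebra.induction_linear with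
  | zero => simp
  | add y z hy hz =>
    simp only [map_add, hy, hz, MonoidAlgebra.coeff_add, Finsupp.add_apply]
    split_ifs <;> simp
  | single g a =>
    rw [MonoidAlgebra.comul_single]
    simp only [CommSemiring.comul_apply, TensorProduct.map_tmul]
    change cc2 n m (MonoidAlgebra.single g 1 ⊗ₜ[T] MonoidAlgebra.single g a) = _
    rw [cc2_tmul]
    by_cases hnm : n = m
    · subst hnm
      by_cases hgn : g = n
      · subst hgn
        simp
      · simp [hgn]
    · rw [if_neg hnm]
      by_cases hgn : g = n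
      · subst hgn
        have : g ≠ m := hnm
        simp [this]
      · simp [hgn]

theorem single_eq_smul (n : N) (a : T) :
    MonoidAlgebra.single n a = a • MonoidAlgebra.single n (1 : T) := by
  rw [MonoidAlgebra.smul_single, smul_eq_mul, mul_one]

theorem comul_single' (n : N) (a : T) :
    comul (R := T) (MonoidAlgebra.single n a) =
      a • (MonoidAlgebra.single n (1 : T) ⊗ₜ[T] MonoidAlgebra.single n (1 : T)) := by
  rw [MonoidAlgebra.comul_single]
  simp only [CommSemiring.comul_apply, TensorProduct.map_tmul]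
  change MonoidAlgebra.single n (1 : T) ⊗ₜ[T] MonoidAlgebra.single n a = _
  rw [single_eq_smul n a, TensorProduct.tmul_smul]

theorem counit_eq_sum (y : MonoidAlgebra T N) :
    counit (R := T) y = ∑ n ∈ y.coeff.support, y.coeff n := by
  conv_lhs => rw [← MonoidAlgebra.sum_coeff_single y]
  rw [Finsupp.sum, map_sum]
  refine Finset.sum_congr rfl (fun n _ => ?_)
  rw [MonoidAlgebra.counit_single, CommSemiring.counit_apply]

theorem exists_groupLike_lift_monoidAlgebra (J : Ideal T) (hJ : ∀ x ∈ J, IsNilpotent x)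
    {y : MonoidAlgebra T N} (hy : IsGLMod T (MonoidAlgebra T N) J y) :
    ∃ g : MonoidAlgebra T N, IsGroupLikeElem T g ∧
      g - y ∈ J • (⊤ : Submodule T (MonoidAlgebra T N)) := by
  classical
  set F := y.coeff.support with hF
  have hrel : ∀ n m, (if n = m then y.coeff n else 0) - y.coeff n * y.coeff m ∈ J := by
    intro n m
    have h1 := functional_mem_of_mem_smul_top (cc2 n m) J hy.1
    rw [map_sub, cc2_comul, cc2_tmul] at h1
    exact h1
  have hsum : ∑ n ∈ F, y.coeff n - 1 ∈ J := by
    rw [← counit_eq_sum]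
    exact hy.2
  let q := Ideal.Quotient.mk J
  let ebar : F → T ⧸ J := fun n => q (y.coeff n.1)
  have hebar : CompleteOrthogonalIdempotents ebar := by
    rw [CompleteOrthogonalIdempotents.iff_ortho_complete]
    refine ⟨?_, ?_⟩
    · intro n m hnm
      have h1 := hrel n.1 m.1
      have hne : n.1 ≠ m.1 := fun h => hnm (Subtype.ext h)
      rw [if_neg hne, zero_sub] at h1
      change q (y.coeff n.1) * q (y.coeff m.1) = 0
      rw [← map_mul, Ideal.Quotient.eq_zero_iff_mem]
      simpa using J.neg_mem h1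
    · change ∑ n : F, q (y.coeff n.1) = 1
      rw [← map_sum, Finset.sum_coe_sort F (fun n => y.coeff n), ← map_one q,
        Ideal.Quotient.eq]
      exact hsum
  obtain ⟨e', he', hfe'⟩ := CompleteOrthogonalIdempotents.lift_of_isNilpotent_ker q
    (by
      intro x hx
      rw [RingHom.mem_ker, Ideal.Quotient.eq_zero_iff_mem] at hx
      exact hJ x hx) hebar (fun i => ⟨_, rfl⟩)
  have hfe : ∀ n : F, e' n - y.coeff n.1 ∈ J := by
    intro n
    have := congrFun hfe' n
    change q (e' n) = q (y.coeff n.1) at this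
    exact Ideal.Quotient.eq.mp this
  refine ⟨∑ n : F, MonoidAlgebra.single n.1 (e' n), ⟨?_, ?_⟩, ?_⟩
  · rw [map_sum]
    simp only [MonoidAlgebra.counit_single, CommSemiring.counit_apply]
    exact he'.complete
  · rw [map_sum, TensorProduct.sum_tmul]
    refine Finset.sum_congr rfl (fun n _ => ?_)
    rw [TensorProduct.tmul_sum, comul_single']
    have h1 : ∀ m : F, MonoidAlgebra.single n.1 (e' n) ⊗ₜ[T] MonoidAlgebra.single m.1 (e' m) =
        (if n = m then e' n else 0) •
          (MonoidAlgebra.single n.1 (1 : T) ⊗ₜ[T] MonoidAlgebra.single m.1 (1 : T)) := by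
      intro m
      rw [single_eq_smul n.1 (e' n), single_eq_smul m.1 (e' m), TensorProduct.smul_tmul_smul,
        he'.mul_eq]
    rw [Finset.sum_congr rfl (fun m _ => h1 m)]
    simp
  · have hy' : y = ∑ n : F, MonoidAlgebra.single n.1 (y.coeff n.1) := by
      conv_lhs => rw [← MonoidAlgebra.sum_coeff_single y]
      rw [Finsupp.sum, Finset.sum_coe_sort F (fun n => MonoidAlgebra.single n (y.coeff n))]
    have e : (∑ n : F, MonoidAlgebra.single n.1 (e' n)) - y =
        ∑ n : F, MonoidAlgebra.single n.1 (e' n - y.coeff n.1) := by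
      simp_rw [MonoidAlgebra.single_sub]
      rw [Finset.sum_sub_distrib, ← hy']
    rw [e]
    refine Submodule.sum_mem _ (fun n _ => ?_)
    rw [single_eq_smul]
    exact Submodule.smul_mem_smul (hfe n) Submodule.mem_top

end GALift

section Const

open SGA3b

attribute [local instance] Algebra.TensorProduct.rightAlgebra in
/-- constant multiplicative type is stable under base change -/
theorem isMultTypeConst_baseChange (R : Type u) [CommRing R] (A : Type u) [CommRing A]
    [HopfAlgebra R A] (h : IsMultTypeConst R A) (S : Type u) [CommRing S] [Algebra R S] :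
    IsMultTypeConst S (S ⊗[R] A) := by
  obtain ⟨K, _, _, hff, hK⟩ := h
  haveI := hff
  refine ⟨S ⊗[R] K, inferInstance, inferInstance, inferInstance, ?_⟩
  have h1 : IsDiag (S ⊗[R] K) ((S ⊗[R] K) ⊗[R] A) :=
    isDiag_baseChange_of_tower R A K (S ⊗[R] K) hK
  exact isDiag_of_equiv (cancelBC R S (S ⊗[R] K) A) h1

/-- lifting group-like elements modulo a nil ideal: constant multiplicative type -/
theorem exists_groupLike_lift_of_isMultTypeConst (R : Type u) [CommRing R] (A : Type u)
    [CommRing A] [HopfAlgebra R A] (h : IsMultTypeConst R A) (I : Ideal R)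
    (hI : ∀ x ∈ I, IsNilpotent x) {y : A} (hy : IsGLMod R A I y) :
    ∃ g : A, IsGroupLikeElem R g ∧ g - y ∈ I • (⊤ : Submodule R A) := by
  obtain ⟨R', _, _, hff, N, _, ⟨δ⟩⟩ := h
  haveI := hff
  have hy' := hy.baseChange R'
  have hδy := hy'.map (δ : R' ⊗[R] A →ₐc[R'] MonoidAlgebra R' N)
  obtain ⟨g'', hg'', hdiff''⟩ := exists_groupLike_lift_monoidAlgebra
    (I.map (algebraMap R R')) (isNilpotent_of_mem_map R' hI) hδy
  have hg' : IsGroupLikeElem R' (δ.symm g'') := hg''.map δ.symm
  have hdiff' : δ.symm g'' - (1 : R') ⊗ₜ[R] y ∈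
      (I.map (algebraMap R R')) • (⊤ : Submodule R' (R' ⊗[R] A)) := by
    have h1 := map_mem_smul_top (δ.symm : MonoidAlgebra R' N →ₐc[R'] R' ⊗[R] A).toLinearMap
      (I.map (algebraMap R R')) hdiff''
    have h2 : (δ.symm : MonoidAlgebra R' N →ₐc[R'] R' ⊗[R] A).toLinearMap
        (g'' - (δ : R' ⊗[R] A →ₐc[R'] MonoidAlgebra R' N) ((1 : R') ⊗ₜ[R] y)) =
        δ.symm g'' - (1 : R') ⊗ₜ[R] y := by
      rw [map_sub]
      congr 1
      exact δ.symm_apply_apply _
    rw [h2] at h1
    exact h1
  have hdiff : δ.symm g'' - (1 : R') ⊗ₜ[R] y ∈ I • (⊤ : Submodule R (R' ⊗[R] A)) :=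
    mem_smul_top_of_mem_map_smul_top R' I hdiff'
  have hP : NoPrimMod (R' ⊗[R] R') ((R' ⊗[R] R') ⊗[R] A) :=
    noPrimMod_of_isDiag _ _
      (isDiag_baseChange_of_tower R A R' (R' ⊗[R] R') ⟨N, inferInstance, ⟨δ⟩⟩)
  obtain ⟨g, hg, hgg'⟩ := exists_groupLike_of_faithfullyFlat R' I hI hP y (δ.symm g'') hg' hdiff
  refine ⟨g, hg, mem_smul_top_of_faithfullyFlat R' I (g - y) ?_⟩
  rw [TensorProduct.tmul_sub, hgg']
  exact hdiff

end Const

end Groth.Agent.Lib.T2H8.NilDiag
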