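import Mathlib

set_option autoImplicit false

/-!
# T2H8NilDiagC: Zariski gluing of elements of a module (tensor product form)
-/

namespace Groth.Agent.Lib.T2H8.NilDiag

open TensorProduct

universe u

section Glue

variable {R : Type u} [CommRing R] {N : Type u} [AddCommGroup N] [Module R N]

theorem exists_glue_module (s : Finset R) (hs : Ideal.span (s : Set R) = ⊤) (n : ℕ) (c : R → N)
    (hc : ∀ f ∈ s, ∀ g ∈ s, g ^ n • c f = f ^ n • c g) :
    ∃ a : N, ∀ f ∈ s, f ^ n • a = c f := by
  have h1 : (1 : R) ∈ Ideal.span ((fun f => f ^ n) '' (s : Set R)) := by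
    rw [Ideal.span_pow_eq_top _ hs n]; trivial
  obtain ⟨r, hr⟩ := (Submodule.mem_span_image_finset_iff_exists_fun' R).mp h1
  refine ⟨∑ g ∈ s, r g • c g, fun f hf => ?_⟩
  rw [Finset.smul_sum]
  have : ∀ g ∈ s, f ^ n • (r g • c g) = (r g • g ^ n) • c f := by
    intro g hg
    rw [smul_comm (f ^ n) (r g) (c g), ← hc f hf g hg, smul_eq_mul, mul_smul]
  rw [Finset.sum_congr rfl this, ← Finset.sum_smul, hr, one_smul]

instance isLocalization_away_mul_tensor (f g : R) :
    IsLocalization.Away (f * g) (Localization.Away f ⊗[R] Localization.Away g) :=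
  IsLocalization.Away.mul' (Localization.Away f) (Localization.Away f ⊗[R] Localization.Away g) f g

theorem exists_pow_smul_eq (f : R) (x : Localization.Away f ⊗[R] N) :
    ∃ (k : ℕ) (a : N), f ^ k • x = (1 : Localization.Away f) ⊗ₜ[R] a := by
  obtain ⟨⟨a, ⟨_, k, rfl⟩⟩, h⟩ := IsLocalizedModule.surj (Submonoid.powers f)
    (TensorProduct.mk R (Localization.Away f) N 1) x
  exact ⟨k, a, h⟩

theorem smul_left_cancel_away (f : R) (n : ℕ) {x y : Localization.Away f ⊗[R] N}
    (h : f ^ n • x = f ^ n • y) : x = y := by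
  have hu : IsUnit (algebraMap R (Localization.Away f) f ^ n) :=
    IsLocalization.Away.algebraMap_pow_isUnit f n
  rw [← algebraMap_smul (Localization.Away f) (f ^ n) x,
    ← algebraMap_smul (Localization.Away f) (f ^ n) y, map_pow] at h
  exact hu.smul_left_cancel.mp h

/-- Zariski gluing of elements of `R_f ⊗ N` -/
theorem exists_glue_tmul (s : Finset R) (hs : Ideal.span (s : Set R) = ⊤)
    (x : ∀ f : R, Localization.Away f ⊗[R] N)
    (hx : ∀ f ∈ s, ∀ g ∈ s,
      LinearMap.rTensor N (Algebra.TensorProduct.includeLeft :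
        Localization.Away f →ₐ[R] Localization.Away f ⊗[R] Localization.Away g).toLinearMap (x f) =
      LinearMap.rTensor N (Algebra.TensorProduct.includeRight :
        Localization.Away g →ₐ[R] Localization.Away f ⊗[R] Localization.Away g).toLinearMap (x g)) :
    ∃ a : N, ∀ f ∈ s, (1 : Localization.Away f) ⊗ₜ[R] a = x f := by
  classical
  choose k₀ a₀ h₀ using fun f => exists_pow_smul_eq f (x f)
  set k := s.sup k₀ with hk
  obtain ⟨a₁, ha₁⟩ : ∃ a₁ : R → N, ∀ f, a₁ f = f ^ (k - k₀ f) • a₀ f := ⟨_, fun _ => rfl⟩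
  have h₁ : ∀ f ∈ s, f ^ k • x f = (1 : Localization.Away f) ⊗ₜ[R] a₁ f := by
    intro f hf
    have hle : k₀ f ≤ k := Finset.le_sup hf
    calc f ^ k • x f = f ^ (k - k₀ f) • (f ^ k₀ f • x f) := by
          rw [smul_smul, ← pow_add, Nat.sub_add_cancel hle]
      _ = (1 : Localization.Away f) ⊗ₜ[R] a₁ f := by
          rw [h₀, ha₁, TensorProduct.tmul_smul]
  have h₂ : ∀ f g : R, ∃ K : ℕ, f ∈ s → g ∈ s →
      (f * g) ^ K • (g ^ k • a₁ f) = (f * g) ^ K • (f ^ k • a₁ g) := by
    intro f g
    by_cases hfg : f ∈ s ∧ g ∈ s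
    · obtain ⟨hf, hg⟩ := hfg
      have e : (1 : Localization.Away f ⊗[R] Localization.Away g) ⊗ₜ[R] (g ^ k • a₁ f) =
          (1 : Localization.Away f ⊗[R] Localization.Away g) ⊗ₜ[R] (f ^ k • a₁ g) := by
        have e1 : (1 : Localization.Away f ⊗[R] Localization.Away g) ⊗ₜ[R] (g ^ k • a₁ f) =
            g ^ k • f ^ k • LinearMap.rTensor N (Algebra.TensorProduct.includeLeft :
              Localization.Away f →ₐ[R] Localization.Away f ⊗[R] Localization.Away g).toLinearMap
              (x f) := by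
          rw [← map_smul, h₁ f hf, LinearMap.rTensor_tmul, AlgHom.toLinearMap_apply, map_one,
            TensorProduct.tmul_smul]
        have e2 : (1 : Localization.Away f ⊗[R] Localization.Away g) ⊗ₜ[R] (f ^ k • a₁ g) =
            f ^ k • g ^ k • LinearMap.rTensor N (Algebra.TensorProduct.includeRight :
              Localization.Away g →ₐ[R] Localization.Away f ⊗[R] Localization.Away g).toLinearMap
              (x g) := by
          rw [← map_smul, h₁ g hg, LinearMap.rTensor_tmul, AlgHom.toLinearMap_apply, map_one,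
            TensorProduct.tmul_smul]
        rw [e1, e2, hx f hf g hg, smul_comm]
      obtain ⟨⟨_, K, rfl⟩, hK⟩ := (IsLocalizedModule.eq_iff_exists (Submonoid.powers (f * g))
        (TensorProduct.mk R (Localization.Away f ⊗[R] Localization.Away g) N 1)).mp e
      exact ⟨K, fun _ _ => hK⟩
    · exact ⟨0, fun hf hg => absurd ⟨hf, hg⟩ hfg⟩
  choose K₀ hK₀ using h₂
  set K := (s ×ˢ s).sup (fun p => K₀ p.1 p.2) with hKdef
  have h₃ : ∀ f ∈ s, ∀ g ∈ s, (f * g) ^ K • (g ^ k • a₁ f) = (f * g) ^ K • (f ^ k • a₁ g) := by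
    intro f hf g hg
    have hle : K₀ f g ≤ K :=
      Finset.le_sup (f := fun p : R × R => K₀ p.1 p.2) (Finset.mk_mem_product hf hg)
    rw [← Nat.sub_add_cancel hle, pow_add, mul_smul, mul_smul, hK₀ f g hf hg]
  obtain ⟨a, ha⟩ := exists_glue_module s hs (k + K) (fun f => f ^ K • a₁ f) (by
    intro f hf g hg
    have := h₃ f hf g hg
    have e1 : g ^ (k + K) * f ^ K = (f * g) ^ K * g ^ k := by ring
    have e2 : (f * g) ^ K * f ^ k = f ^ (k + K) * g ^ K := by ring
    calc g ^ (k + K) • f ^ K • a₁ f = (f * g) ^ K • (g ^ k • a₁ f) := by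
          rw [smul_smul, smul_smul, e1]
      _ = (f * g) ^ K • (f ^ k • a₁ g) := this
      _ = f ^ (k + K) • g ^ K • a₁ g := by
          rw [smul_smul, smul_smul, e2])
  refine ⟨a, fun f hf => ?_⟩
  apply smul_left_cancel_away f (k + K)
  rw [← TensorProduct.tmul_smul, ha f hf, TensorProduct.tmul_smul, ← h₁ f hf, smul_smul,
    ← pow_add, add_comm]

end Glue

end Groth.Agent.Lib.T2H8.NilDiag
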