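import Mathlib
import Groth.Agent.Lib.T2H8NilDiagB
import Groth.Agent.Lib.T2H8NilDiagC

set_option autoImplicit false

/-!
# T2H8NilDiagD: lifting group-like elements of a group of multiplicative type along a nil ideal
-/

namespace Groth.Agent.Lib.T2H8.NilDiag

open TensorProduct Coalgebra Groth.Agent.Lib.Helper25 Groth.Agent.Lib.Helper25.BCB
  Groth.Agent.Lib.Helper25.MRB

universe u

section Aux

variable {R : Type u} [CommRing R] (R' : Type u) [CommRing R'] [Algebra R R']
  {N : Type u} [AddCommGroup N] [Module R N]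

theorem lTensor_mkQ_eq_zero (I : Ideal R) {w : R' ⊗[R] N}
    (hw : w ∈ I • (⊤ : Submodule R (R' ⊗[R] N))) :
    LinearMap.lTensor R' (I • (⊤ : Submodule R N)).mkQ w = 0 := by
  have h1 := map_mem_smul_top (LinearMap.lTensor R' (I • (⊤ : Submodule R N)).mkQ) I hw
  have h2 : ∀ w ∈ I • (⊤ : Submodule R (R' ⊗[R] (N ⧸ I • (⊤ : Submodule R N)))), w = 0 := by
    intro w hw
    refine Submodule.smul_induction_on hw ?_ ?_
    · intro r hr n hn
      clear hn
      induction n using TensorProduct.induction_on with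
      | zero => simp
      | add a b ha hb => rw [smul_add, ha, hb, add_zero]
      | tmul t q =>
        obtain ⟨a, rfl⟩ := Submodule.Quotient.mk_surjective _ q
        rw [← TensorProduct.tmul_smul, ← Submodule.Quotient.mk_smul,
          (Submodule.Quotient.mk_eq_zero _).mpr (Submodule.smul_mem_smul hr Submodule.mem_top),
          TensorProduct.tmul_zero]
    · intro a b ha hb
      rw [ha, hb, add_zero]
  exact h2 _ h1

end Aux

section Zariski

variable {R : Type u} [CommRing R] {N : Type u} [AddCommGroup N] [Module R N]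

theorem eq_zero_of_span (s : Finset R) (hs : Ideal.span (s : Set R) = ⊤) (z : N)
    (h : ∀ f ∈ s, (1 : Localization.Away f) ⊗ₜ[R] z = 0) : z = 0 := by
  haveI : ∀ r : (s : Set R), IsLocalizedModule.Away r.1
      (TensorProduct.mk R (Localization.Away r.1) N 1) := fun r =>
    (isLocalizedModule_iff_isBaseChange (S := Submonoid.powers r.1)
      (A := Localization.Away r.1) _).mpr (TensorProduct.isBaseChange R N _)
  refine Module.eq_zero_of_isLocalized_span (s : Set R) hs
    (fun r : (s : Set R) => Localization.Away r.1 ⊗[R] N)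
    (fun r : (s : Set R) => TensorProduct.mk R (Localization.Away r.1) N 1) _ ?_
  intro r
  exact h r.1 r.2

end Zariski

section Compat

variable {R : Type u} [CommRing R] {A : Type u} [CommRing A] [HopfAlgebra R A]
  {S₁ S₂ T : Type u} [CommRing S₁] [CommRing S₂] [CommRing T] [Algebra R S₁] [Algebra R S₂]
  [Algebra R T]

/-- two group-like lifts of the same element over two base rings agree over a common overring -/
theorem groupLike_compat (j₁ : S₁ →ₐ[R] T) (j₂ : S₂ →ₐ[R] T) (I : Ideal R)
    (hI : ∀ x ∈ I, IsNilpotent x) (hP : NoPrimMod T (T ⊗[R] A)) (y : A)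
    {x₁ : S₁ ⊗[R] A} {x₂ : S₂ ⊗[R] A} (h₁ : IsGroupLikeElem S₁ x₁) (h₂ : IsGroupLikeElem S₂ x₂)
    (hd₁ : x₁ - (1 : S₁) ⊗ₜ[R] y ∈ I • (⊤ : Submodule R (S₁ ⊗[R] A)))
    (hd₂ : x₂ - (1 : S₂) ⊗ₜ[R] y ∈ I • (⊤ : Submodule R (S₂ ⊗[R] A))) :
    Algebra.TensorProduct.map j₁ (AlgHom.id R A) x₁ =
      Algebra.TensorProduct.map j₂ (AlgHom.id R A) x₂ := by
  set d₀ : S₁ ⊗[R] A →ₐ[R] T ⊗[R] A := Algebra.TensorProduct.map j₁ (AlgHom.id R A) with hd₀
  set d₁ : S₂ ⊗[R] A →ₐ[R] T ⊗[R] A := Algebra.TensorProduct.map j₂ (AlgHom.id R A) with hd₁'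
  have hg₀ : IsGroupLikeElem T (d₀ x₁) := isGroupLikeElem_map _ h₁
  have hg₁ : IsGroupLikeElem T (d₁ x₂) := isGroupLikeElem_map _ h₂
  have e₀ : d₀ ((1 : S₁) ⊗ₜ[R] y) = (1 : T) ⊗ₜ[R] y := by
    rw [hd₀, Algebra.TensorProduct.map_tmul, map_one]; rfl
  have e₁ : d₁ ((1 : S₂) ⊗ₜ[R] y) = (1 : T) ⊗ₜ[R] y := by
    rw [hd₁', Algebra.TensorProduct.map_tmul, map_one]; rfl
  have hdiff : d₀ x₁ - d₁ x₂ ∈ I • (⊤ : Submodule R (T ⊗[R] A)) := by
    have h0 := map_mem_smul_top d₀.toLinearMap I hd₁
    have h1 := map_mem_smul_top d₁.toLinearMap I hd₂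
    have e : d₀ x₁ - d₁ x₂ = d₀.toLinearMap (x₁ - (1 : S₁) ⊗ₜ[R] y) -
        d₁.toLinearMap (x₂ - (1 : S₂) ⊗ₜ[R] y) := by
      rw [map_sub, map_sub, AlgHom.toLinearMap_apply, AlgHom.toLinearMap_apply,
        AlgHom.toLinearMap_apply, AlgHom.toLinearMap_apply, e₀, e₁]
      abel
    rw [e]
    exact Submodule.sub_mem _ h0 h1
  exact groupLike_eq_of_nil hP (I.map (algebraMap R T)) (isNilpotent_of_mem_map _ hI) hg₀ hg₁
    (mem_map_smul_top_of_mem_smul_top _ I hdiff)

end Compat

section ClaimB

open SGA3b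

variable (R : Type u) [CommRing R] (A : Type u) [CommRing A] [HopfAlgebra R A]

theorem noPrimMod_tensor_of_isMultTypeConst (f : R)
    (h : IsMultTypeConst (Localization.Away f) (Localization.Away f ⊗[R] A))
    (T : Type u) [CommRing T] [Algebra R T] [Algebra (Localization.Away f) T]
    [IsScalarTower R (Localization.Away f) T] : NoPrimMod T (T ⊗[R] A) :=
  NoPrimMod.of_equiv (cancelBC R (Localization.Away f) T A).symm
    (noPrimMod_of_isMultTypeConst T _ (isMultTypeConst_baseChange _ _ h T))

/-- lifting group-like elements modulo a nil ideal: multiplicative type -/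
theorem exists_groupLike_lift_of_isMultType (h : IsMultType R A) (I : Ideal R)
    (hI : ∀ x ∈ I, IsNilpotent x) {y : A} (hy : IsGLMod R A I y) :
    ∃ g : A, IsGroupLikeElem R g ∧ g - y ∈ I • (⊤ : Submodule R A) := by
  classical
  obtain ⟨s, hs, hmt⟩ := h
  obtain ⟨s', hs's, hs'⟩ := (Ideal.span_eq_top_iff_finite s).mp hs
  have hex : ∀ f : R, ∃ x : Localization.Away f ⊗[R] A, f ∈ s →
      (IsGroupLikeElem (Localization.Away f) x ∧
        x - (1 : Localization.Away f) ⊗ₜ[R] y ∈
          I • (⊤ : Submodule R (Localization.Away f ⊗[R] A))) := by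
    intro f
    by_cases hf : f ∈ s
    · obtain ⟨x, hx1, hx2⟩ := exists_groupLike_lift_of_isMultTypeConst (Localization.Away f)
        (Localization.Away f ⊗[R] A) (hmt f hf) (I.map (algebraMap R (Localization.Away f)))
        (isNilpotent_of_mem_map _ hI) (hy.baseChange (Localization.Away f))
      exact ⟨x, fun _ => ⟨hx1, mem_smul_top_of_mem_map_smul_top _ I hx2⟩⟩
    · exact ⟨0, fun h => absurd h hf⟩
  choose x hx using hex
  -- compatibility
  have hcompat : ∀ f ∈ s', ∀ g ∈ s',
      LinearMap.rTensor A (Algebra.TensorProduct.includeLeft :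
        Localization.Away f →ₐ[R] Localization.Away f ⊗[R] Localization.Away g).toLinearMap (x f) =
      LinearMap.rTensor A (Algebra.TensorProduct.includeRight :
        Localization.Away g →ₐ[R] Localization.Away f ⊗[R] Localization.Away g).toLinearMap
          (x g) := by
    intro f hf g hg
    obtain ⟨hxf1, hxf2⟩ := hx f (hs's hf)
    obtain ⟨hxg1, hxg2⟩ := hx g (hs's hg)
    have hP : NoPrimMod (Localization.Away f ⊗[R] Localization.Away g)
        ((Localization.Away f ⊗[R] Localization.Away g) ⊗[R] A) :=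
      noPrimMod_tensor_of_isMultTypeConst R A f (hmt f (hs's hf)) _
    exact groupLike_compat (Algebra.TensorProduct.includeLeft :
        Localization.Away f →ₐ[R] Localization.Away f ⊗[R] Localization.Away g)
      (Algebra.TensorProduct.includeRight :
        Localization.Away g →ₐ[R] Localization.Away f ⊗[R] Localization.Away g)
      I hI hP y hxf1 hxg1 hxf2 hxg2
  obtain ⟨g, hg⟩ := exists_glue_tmul s' hs' x hcompat
  have hgl : ∀ f ∈ s', IsGroupLikeElem (Localization.Away f)
      ((1 : Localization.Away f) ⊗ₜ[R] g) := by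
    intro f hf
    rw [hg f hf]
    exact (hx f (hs's hf)).1
  refine ⟨g, ⟨?_, ?_⟩, ?_⟩
  · -- counit
    have h0 : counit (R := R) g - 1 = 0 := by
      apply eq_zero_of_span s' hs'
      intro f hf
      have h1 := (hgl f hf).counit_eq_one
      rw [TensorProduct.counit_tmul, CommSemiring.counit_apply, Algebra.smul_def, mul_one] at h1
      have h2 : (1 : Localization.Away f) ⊗ₜ[R] (counit (R := R) g - 1) =
          (algebraMap R (Localization.Away f) (counit (R := R) g - 1)) ⊗ₜ[R] (1 : R) := by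
        rw [Algebra.algebraMap_eq_smul_one, TensorProduct.smul_tmul, smul_eq_mul, mul_one]
      rw [h2, map_sub, h1, map_one, sub_self, TensorProduct.zero_tmul]
    exact sub_eq_zero.mp h0
  · -- comul
    have h0 : comul (R := R) g - g ⊗ₜ[R] g = 0 := by
      apply eq_zero_of_span s' hs'
      intro f hf
      have h1 : bcMap2 (Localization.Away f) A (comul (R := R) g) =
          bcMap2 (Localization.Away f) A (g ⊗ₜ[R] g) := by
        rw [← comul_one_tmul, bcMap2_tmul]
        exact (hgl f hf).comul_eq_tmul_self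
      have h2 : (1 : Localization.Away f) ⊗ₜ[R] (comul (R := R) g) =
          (1 : Localization.Away f) ⊗ₜ[R] (g ⊗ₜ[R] g) := by
        apply (AlgebraTensorModule.distribBaseChange R (Localization.Away f) A A).injective
        rw [← IsoTriv.bcMap2_eq', ← IsoTriv.bcMap2_eq']
        exact h1
      rw [TensorProduct.tmul_sub, h2, sub_self]
    exact sub_eq_zero.mp h0
  · have h0 : (I • (⊤ : Submodule R A)).mkQ (g - y) = 0 := by
      apply eq_zero_of_span s' hs'
      intro f hf
      have h1 := lTensor_mkQ_eq_zero (Localization.Away f) I (hx f (hs's hf)).2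
      rw [← hg f hf, ← TensorProduct.tmul_sub, LinearMap.lTensor_tmul] at h1
      exact h1
    exact (Submodule.Quotient.mk_eq_zero _).mp h0

end ClaimB

end Groth.Agent.Lib.T2H8.NilDiag
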