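import Mathlib
import Groth.Agent.Lib.T2H8NilDiagD

set_option autoImplicit false

/-!
# T2H8NilDiagE: a group of multiplicative type which is diagonalisable modulo a nil ideal is
diagonalisable
-/

namespace Groth.Agent.Lib.T2H8.NilDiag

open TensorProduct Coalgebra Groth.Agent.Lib.Helper25 Groth.Agent.Lib.Helper25.BCB
  Groth.Agent.Lib.Helper25.MRB

universe u

section Quot

variable {R : Type u} [CommRing R] (I : Ideal R) {N : Type u} [AddCommGroup N] [Module R N]

theorem one_tmul_eq_zero_iff (z : N) :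
    (1 : R ⧸ I) ⊗ₜ[R] z = 0 ↔ z ∈ I • (⊤ : Submodule R N) := by
  rw [← (TensorProduct.quotTensorEquivQuotSMul N I).map_eq_zero_iff,
    TensorProduct.quotTensorEquivQuotSMul_mk_one_tmul, Submodule.Quotient.mk_eq_zero]

theorem exists_one_tmul_eq (w : (R ⧸ I) ⊗[R] N) : ∃ z : N, (1 : R ⧸ I) ⊗ₜ[R] z = w := by
  induction w using TensorProduct.induction_on with
  | zero => exact ⟨0, TensorProduct.tmul_zero _ _⟩
  | add a b ha hb =>
    obtain ⟨x, rfl⟩ := ha
    obtain ⟨y, rfl⟩ := hb
    exact ⟨x + y, TensorProduct.tmul_add _ _ _⟩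
  | tmul r n =>
    obtain ⟨r, rfl⟩ := Ideal.Quotient.mk_surjective r
    refine ⟨r • n, ?_⟩
    rw [TensorProduct.tmul_smul, TensorProduct.smul_tmul', ← Ideal.Quotient.algebraMap_eq,
      Algebra.algebraMap_eq_smul_one]

end Quot

section GLQuot

variable {R : Type u} [CommRing R] (I : Ideal R) {A : Type u} [CommRing A] [HopfAlgebra R A]

theorem isGLMod_of_isGroupLikeElem_quot {y : A}
    (hy : IsGroupLikeElem (R ⧸ I) ((1 : R ⧸ I) ⊗ₜ[R] y)) : IsGLMod R A I y := by
  refine ⟨?_, ?_⟩
  · rw [← one_tmul_eq_zero_iff]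
    have h1 := hy.comul_eq_tmul_self
    rw [comul_one_tmul, ← bcMap2_tmul] at h1
    have h2 : (1 : R ⧸ I) ⊗ₜ[R] (comul (R := R) y) = (1 : R ⧸ I) ⊗ₜ[R] (y ⊗ₜ[R] y) := by
      apply (AlgebraTensorModule.distribBaseChange R (R ⧸ I) A A).injective
      rw [← IsoTriv.bcMap2_eq', ← IsoTriv.bcMap2_eq']
      exact h1
    rw [TensorProduct.tmul_sub, h2, sub_self]
  · have h1 := hy.counit_eq_one
    rw [TensorProduct.counit_tmul, CommSemiring.counit_apply, Algebra.smul_def, mul_one,
      Ideal.Quotient.algebraMap_eq, ← map_one (Ideal.Quotient.mk I), Ideal.Quotient.eq] at h1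
    exact h1

end GLQuot

section DiagBij

variable {S : Type u} [CommRing S] {M N : Type u} [CommGroup M] [CommGroup N]
  (θ : MonoidAlgebra S M →ₐc[S] MonoidAlgebra S N)

theorem isGroupLikeElem_theta (m : M) : IsGroupLikeElem S (θ (MonoidAlgebra.of S M m)) :=
  (MonoidAlgebra.isGroupLikeElem_of (R := S) (A := S) m).map θ

theorem coeff_smul_theta (m : M) (n : N) :
    (θ (MonoidAlgebra.of S M m)).coeff n • θ (MonoidAlgebra.of S M m) =
      MonoidAlgebra.single n ((θ (MonoidAlgebra.of S M m)).coeff n) := by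
  classical
  apply MonoidAlgebra.coeff_injective
  ext n'
  rw [MonoidAlgebra.coeff_smul, Finsupp.smul_apply, smul_eq_mul,
    SubDiag.coeff_mul_coeff (isGroupLikeElem_theta θ m), MonoidAlgebra.coeff_single,
    Finsupp.single_apply]

theorem theta_single (m : M) (r : S) :
    θ (MonoidAlgebra.single m r) = r • θ (MonoidAlgebra.of S M m) := by
  rw [single_eq_smul, map_smul]
  rfl

/-- surjectivity of a bialgebra map between group algebras which is surjective modulo a nil
ideal -/
theorem theta_surjective (J : Ideal S) (hJ : ∀ x ∈ J, IsNilpotent x)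
    (hS : ∀ n : N, ∃ x : MonoidAlgebra S M,
      MonoidAlgebra.of S N n - θ x ∈ J • (⊤ : Submodule S (MonoidAlgebra S N))) :
    Function.Surjective θ := by
  classical
  have hstep : ∀ (n : N) (x : MonoidAlgebra S M), ∃ z : MonoidAlgebra S M,
      θ z = (θ x).coeff n • MonoidAlgebra.of S N n := by
    intro n x
    induction x using MonoidAlgebra.induction_on with
    | of m =>
      refine ⟨MonoidAlgebra.single m ((θ (MonoidAlgebra.of S M m)).coeff n), ?_⟩
      rw [theta_single, coeff_smul_theta, single_eq_smul]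
      rfl
    | add x y hx hy =>
      obtain ⟨z₁, h₁⟩ := hx
      obtain ⟨z₂, h₂⟩ := hy
      refine ⟨z₁ + z₂, ?_⟩
      rw [map_add, h₁, h₂, map_add, MonoidAlgebra.coeff_add, Finsupp.add_apply, add_smul]
    | smul r x hx =>
      obtain ⟨z, h⟩ := hx
      refine ⟨r • z, ?_⟩
      rw [map_smul, h, map_smul, MonoidAlgebra.coeff_smul, Finsupp.smul_apply, smul_eq_mul,
        mul_smul]
  have hof : ∀ n : N, ∃ z : MonoidAlgebra S M, θ z = MonoidAlgebra.of S N n := by
    intro n
    obtain ⟨x, hx⟩ := hS n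
    have h1 := functional_mem_of_mem_smul_top
      (Finsupp.lapply n ∘ₗ (MonoidAlgebra.coeffLinearEquiv S).toLinearMap) J hx
    have h2 : (Finsupp.lapply n ∘ₗ (MonoidAlgebra.coeffLinearEquiv S).toLinearMap)
        (MonoidAlgebra.of S N n - θ x) = 1 - (θ x).coeff n := by
      rw [map_sub]
      change (MonoidAlgebra.of S N n).coeff n - (θ x).coeff n = _
      rw [MonoidAlgebra.of_apply, MonoidAlgebra.coeff_single, Finsupp.single_eq_same]
    rw [h2] at h1
    have hu : IsUnit ((θ x).coeff n) := by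
      have := (hJ _ h1).isUnit_one_sub
      rwa [sub_sub_cancel] at this
    obtain ⟨z, hz⟩ := hstep n x
    obtain ⟨u, hu'⟩ := hu
    refine ⟨(↑u⁻¹ : S) • z, ?_⟩
    rw [map_smul, hz, ← hu', smul_smul, Units.inv_mul, one_smul]
  intro y
  induction y using MonoidAlgebra.induction_on with
  | of n => exact hof n
  | add x y hx hy =>
    obtain ⟨z₁, h₁⟩ := hx
    obtain ⟨z₂, h₂⟩ := hy
    exact ⟨z₁ + z₂, by rw [map_add, h₁, h₂]⟩
  | smul r x hx =>
    obtain ⟨z, h⟩ := hx
    exact ⟨r • z, by rw [map_smul, h]⟩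

/-- injectivity of a bialgebra map between group algebras whose kernel is contained in `J[M]`
for a nil ideal `J` -/
theorem theta_injective (J : Ideal S) (hJ : ∀ x ∈ J, IsNilpotent x)
    (hI : ∀ x : MonoidAlgebra S M, θ x = 0 → ∀ m, x.coeff m ∈ J) : Function.Injective θ := by
  classical
  have horth : ∀ (m m' : M) (n : N), m ≠ m' →
      (θ (MonoidAlgebra.of S M m)).coeff n * (θ (MonoidAlgebra.of S M m')).coeff n = 0 := by
    intro m m' n hmm'
    obtain ⟨c, hc⟩ : ∃ c, c = (θ (MonoidAlgebra.of S M m)).coeff n := ⟨_, rfl⟩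
    obtain ⟨c', hc'⟩ : ∃ c', c' = (θ (MonoidAlgebra.of S M m')).coeff n := ⟨_, rfl⟩
    rw [← hc, ← hc']
    have e1 : (c * c') • θ (MonoidAlgebra.of S M m) = MonoidAlgebra.single n (c' * c) := by
      rw [mul_comm c c', mul_smul, hc, coeff_smul_theta, MonoidAlgebra.smul_single, smul_eq_mul]
    have e2 : (c * c') • θ (MonoidAlgebra.of S M m') = MonoidAlgebra.single n (c * c') := by
      rw [mul_smul, hc', coeff_smul_theta, MonoidAlgebra.smul_single, smul_eq_mul]
    have h0 : θ (MonoidAlgebra.single m (c * c') - MonoidAlgebra.single m' (c * c')) = 0 := by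
      rw [map_sub, theta_single, theta_single, e1, e2, mul_comm c' c, sub_self]
    have h1 := hI _ h0 m
    rw [MonoidAlgebra.coeff_sub, Finsupp.sub_apply, MonoidAlgebra.coeff_single,
      MonoidAlgebra.coeff_single, Finsupp.single_eq_same,
      Finsupp.single_eq_of_ne hmm', sub_zero] at h1
    have hid : IsIdempotentElem (c * c') := by
      rw [hc, hc']
      exact (SubDiag.isIdempotentElem_coeff (isGroupLikeElem_theta θ m) n).mul
        (SubDiag.isIdempotentElem_coeff (isGroupLikeElem_theta θ m') n)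
    exact hid.eq_zero_of_isNilpotent (hJ _ h1)
  have hkey : ∀ (m₀ : M) (n : N) (x : MonoidAlgebra S M),
      (θ x).coeff n * (θ (MonoidAlgebra.of S M m₀)).coeff n =
        x.coeff m₀ * (θ (MonoidAlgebra.of S M m₀)).coeff n := by
    intro m₀ n x
    induction x using MonoidAlgebra.induction_on with
    | of m =>
      by_cases hm : m = m₀
      · subst hm
        rw [MonoidAlgebra.of_apply, MonoidAlgebra.coeff_single, Finsupp.single_eq_same, one_mul]
        exact (SubDiag.isIdempotentElem_coeff (isGroupLikeElem_theta θ m) n).eq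
      · rw [horth m m₀ n hm, MonoidAlgebra.of_apply, MonoidAlgebra.coeff_single,
          Finsupp.single_eq_of_ne (Ne.symm hm), zero_mul]
    | add x y hx hy =>
      rw [map_add, MonoidAlgebra.coeff_add, Finsupp.add_apply, add_mul, hx, hy,
        MonoidAlgebra.coeff_add, Finsupp.add_apply, add_mul]
    | smul r x hx =>
      rw [map_smul, MonoidAlgebra.coeff_smul, Finsupp.smul_apply, smul_eq_mul, mul_assoc, hx,
        MonoidAlgebra.coeff_smul, Finsupp.smul_apply, smul_eq_mul, mul_assoc]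
  rw [injective_iff_map_eq_zero]
  intro x hx
  apply MonoidAlgebra.coeff_injective
  ext m₀
  have h1 : ∀ n, x.coeff m₀ * (θ (MonoidAlgebra.of S M m₀)).coeff n = 0 := by
    intro n
    rw [← hkey, hx]
    simp
  have h2 := (isGroupLikeElem_theta θ m₀).counit_eq_one
  rw [counit_eq_sum] at h2
  calc x.coeff m₀ = x.coeff m₀ * 1 := (mul_one _).symm
    _ = 0 := by
      rw [← h2, Finset.mul_sum]
      exact Finset.sum_eq_zero (fun n _ => h1 n)

end DiagBij

section Aux2

variable {R : Type u} [CommRing R] (S : Type u) [CommRing S] [Algebra R S]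

theorem steBialg_one_tmul_of' (M : Type u) [CommGroup M] (m : M) :
    steBialg R S M ((1 : S) ⊗ₜ[R] MonoidAlgebra.of R M m) = MonoidAlgebra.of S M m := by
  change MonoidAlgebra.scalarTensorEquiv R S ((1 : S) ⊗ₜ[R] MonoidAlgebra.of R M m) = _
  rw [MonoidAlgebra.scalarTensorEquiv_tmul]
  simp

theorem tmul_mem_smul_top_right {X : Type u} [AddCommGroup X] [Module R X] (I : Ideal R) (t : S)
    {x : X} (hx : x ∈ I • (⊤ : Submodule R X)) :
    t ⊗ₜ[R] x ∈ I • (⊤ : Submodule R (S ⊗[R] X)) :=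
  map_mem_smul_top (TensorProduct.mk R S X t) I hx

theorem mem_smul_top_of_lTensor_eq_zero [Module.Flat R S] {X Y : Type u} [AddCommGroup X]
    [Module R X] [AddCommGroup Y] [Module R Y] (σ : X →ₗ[R] Y) (I : Ideal R)
    (hker : ∀ x, σ x = 0 → x ∈ I • (⊤ : Submodule R X)) (z : S ⊗[R] X)
    (hz : LinearMap.lTensor S σ z = 0) : z ∈ I • (⊤ : Submodule R (S ⊗[R] X)) := by
  have hex := Module.Flat.lTensor_exact S (LinearMap.exact_subtype_ker_map σ)
  obtain ⟨w, rfl⟩ := (hex z).mp hz
  clear hz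
  induction w using TensorProduct.induction_on with
  | zero => rw [map_zero]; exact Submodule.zero_mem _
  | add a b ha hb =>
    rw [map_add]
    exact Submodule.add_mem _ ha hb
  | tmul t k =>
    rw [LinearMap.lTensor_tmul]
    exact tmul_mem_smul_top_right S I t (hker k.1 k.2)

theorem exists_lTensor_sub_mem {X Y : Type u} [AddCommGroup X]
    [Module R X] [AddCommGroup Y] [Module R Y] (σ : X →ₗ[R] Y) (I : Ideal R)
    (hS : ∀ a : Y, ∃ x : X, a - σ x ∈ I • (⊤ : Submodule R Y)) (a' : S ⊗[R] Y) :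
    ∃ z : S ⊗[R] X, a' - LinearMap.lTensor S σ z ∈ I • (⊤ : Submodule R (S ⊗[R] Y)) := by
  induction a' using TensorProduct.induction_on with
  | zero => exact ⟨0, by rw [map_zero, sub_self]; exact Submodule.zero_mem _⟩
  | add a b ha hb =>
    obtain ⟨z₁, h₁⟩ := ha
    obtain ⟨z₂, h₂⟩ := hb
    refine ⟨z₁ + z₂, ?_⟩
    rw [map_add, add_sub_add_comm]
    exact Submodule.add_mem _ h₁ h₂
  | tmul t a =>
    obtain ⟨x, hx⟩ := hS a
    refine ⟨t ⊗ₜ[R] x, ?_⟩
    rw [LinearMap.lTensor_tmul, ← TensorProduct.tmul_sub]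
    exact tmul_mem_smul_top_right S I t hx

end Aux2

section Main

open SGA3b

variable (R : Type u) [CommRing R] (A : Type u) [CommRing A] [HopfAlgebra R A] (I : Ideal R)

theorem groupLike_eq_of_one_tmul_eq (hP : NoPrimMod R A) (hI : ∀ x ∈ I, IsNilpotent x)
    {g g' : A} (hg : IsGroupLikeElem R g) (hg' : IsGroupLikeElem R g')
    (h : (1 : R ⧸ I) ⊗ₜ[R] g = (1 : R ⧸ I) ⊗ₜ[R] g') : g = g' := by
  apply groupLike_eq_of_nil hP I hI hg hg'
  rw [← one_tmul_eq_zero_iff, TensorProduct.tmul_sub, h, sub_self]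

/-- the lifted bialgebra map `R[M] → A` -/
theorem exists_bialgHom_lift (hI : ∀ x ∈ I, IsNilpotent x) (h : IsMultType R A)
    (M : Type u) [CommGroup M] (ε₀ : (R ⧸ I) ⊗[R] A ≃ₐc[R ⧸ I] MonoidAlgebra (R ⧸ I) M) :
    ∃ σ : MonoidAlgebra R M →ₐc[R] A, ∀ x : MonoidAlgebra R M,
      ε₀.symm (steBialg R (R ⧸ I) M ((1 : R ⧸ I) ⊗ₜ[R] x)) = (1 : R ⧸ I) ⊗ₜ[R] σ x := by
  classical
  have hP : NoPrimMod R A := noPrimMod_of_isMultType R A h
  have hlift : ∀ m : M, ∃ g : A, IsGroupLikeElem R g ∧
      (1 : R ⧸ I) ⊗ₜ[R] g = ε₀.symm (MonoidAlgebra.of (R ⧸ I) M m) := by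
    intro m
    obtain ⟨y, hy⟩ := exists_one_tmul_eq I (ε₀.symm (MonoidAlgebra.of (R ⧸ I) M m))
    have hgl : IsGroupLikeElem (R ⧸ I) ((1 : R ⧸ I) ⊗ₜ[R] y) := by
      rw [hy]
      exact (MonoidAlgebra.isGroupLikeElem_of (R := R ⧸ I) (A := R ⧸ I) m).map ε₀.symm
    obtain ⟨g, hg1, hg2⟩ := exists_groupLike_lift_of_isMultType R A h I hI
      (isGLMod_of_isGroupLikeElem_quot I hgl)
    refine ⟨g, hg1, ?_⟩
    rw [← hy, ← sub_eq_zero, ← TensorProduct.tmul_sub, one_tmul_eq_zero_iff]
    exact hg2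
  choose γ₀ hγ₁ hγ₂ using hlift
  let γ : M →* GroupLike R A :=
    { toFun := fun m => ⟨γ₀ m, hγ₁ m⟩
      map_one' := by
        apply GroupLike.val_injective
        apply groupLike_eq_of_one_tmul_eq R A I hP hI (hγ₁ 1) IsGroupLikeElem.one
        rw [hγ₂, map_one, map_one]
        rfl
      map_mul' := fun m n => by
        apply GroupLike.val_injective
        apply groupLike_eq_of_one_tmul_eq R A I hP hI (hγ₁ (m * n)) ((hγ₁ m).mul (hγ₁ n))
        rw [hγ₂, map_mul, map_mul, ← hγ₂, ← hγ₂, Algebra.TensorProduct.tmul_mul_tmul, one_mul] }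
  let σ : MonoidAlgebra R M →ₐc[R] A :=
    (MonoidAlgebra.liftGroupLikeBialgHom (R := R) (A := A)).comp
      (MonoidAlgebra.mapDomainBialgHom R γ)
  have hσ : ∀ m, σ (MonoidAlgebra.of R M m) = γ₀ m := by
    intro m
    simp [σ, γ]
  refine ⟨σ, fun x => ?_⟩
  induction x using MonoidAlgebra.induction_on with
  | of m => rw [steBialg_one_tmul_of', hσ, hγ₂]
  | add x y hx hy => rw [TensorProduct.tmul_add, map_add, map_add, hx, hy, map_add,
      TensorProduct.tmul_add]
  | smul r x hx =>
    rw [TensorProduct.tmul_smul, ← algebraMap_smul (R ⧸ I) r, map_smul, map_smul, hx,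
      algebraMap_smul, ← TensorProduct.tmul_smul, ← map_smul]

/-- A group of multiplicative type which is diagonalisable modulo a nil ideal is
diagonalisable. -/
theorem isDiag_of_isDiag_mod_nil (hI : ∀ x ∈ I, IsNilpotent x) (h : IsMultType R A)
    (h0 : IsDiag (R ⧸ I) ((R ⧸ I) ⊗[R] A)) : IsDiag R A := by
  classical
  obtain ⟨M, _, ⟨ε₀⟩⟩ := h0
  obtain ⟨σ, hσ⟩ := exists_bialgHom_lift R A I hI h M ε₀
  have hS : ∀ a : A, ∃ x : MonoidAlgebra R M, a - σ x ∈ I • (⊤ : Submodule R A) := by
    intro a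
    obtain ⟨x, hx⟩ := exists_one_tmul_eq I
      ((steBialg R (R ⧸ I) M).symm (ε₀ ((1 : R ⧸ I) ⊗ₜ[R] a)))
    refine ⟨x, ?_⟩
    rw [← one_tmul_eq_zero_iff, TensorProduct.tmul_sub, ← hσ, hx, BialgEquiv.apply_symm_apply,
      BialgEquiv.symm_apply_apply, sub_self]
  have hK : ∀ x : MonoidAlgebra R M, σ x = 0 →
      x ∈ I • (⊤ : Submodule R (MonoidAlgebra R M)) := by
    intro x hx
    rw [← one_tmul_eq_zero_iff]
    have h1 := hσ x
    rw [hx, TensorProduct.tmul_zero] at h1
    have h2 : steBialg R (R ⧸ I) M ((1 : R ⧸ I) ⊗ₜ[R] x) = 0 := by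
      apply ε₀.symm.injective
      change ε₀.symm _ = ε₀.symm 0
      rw [h1, map_zero]
    apply (steBialg R (R ⧸ I) M).injective
    change steBialg R (R ⧸ I) M _ = steBialg R (R ⧸ I) M 0
    rw [h2, map_zero]
  obtain ⟨s, hs, hcov⟩ := SubDiag.hasDiagCover_of_isMultType h
  have hloc : ∀ f ∈ s, ∃ (S : Type u) (_ : CommRing S) (_ : Algebra R S)
      (_ : Algebra (Localization.Away f) S), IsScalarTower R (Localization.Away f) S ∧
        Module.FaithfullyFlat (Localization.Away f) S ∧
          Function.Bijective (LinearMap.lTensor S σ.toLinearMap) := by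
    intro f hf
    obtain ⟨S, _, _, _, ht, hff, N, _, ⟨δ⟩⟩ := hcov f hf
    haveI := ht
    haveI := hff
    haveI : Module.Flat R S := Module.Flat.trans R (Localization.Away f) S
    refine ⟨S, inferInstance, inferInstance, inferInstance, ht, hff, ?_⟩
    set sigS : S ⊗[R] MonoidAlgebra R M →ₐc[S] S ⊗[R] A :=
      Bialgebra.TensorProduct.map (BialgHom.id S S) σ with hsigS
    have hsig : ∀ z, sigS z = LinearMap.lTensor S σ.toLinearMap z := by
      intro z
      induction z using TensorProduct.induction_on with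
      | zero => simp
      | add a b ha hb => rw [map_add, map_add, ha, hb]
      | tmul t x => rfl
    let θ : MonoidAlgebra S M →ₐc[S] MonoidAlgebra S N :=
      (δ : S ⊗[R] A →ₐc[S] MonoidAlgebra S N).comp
        (sigS.comp ((steBialg R S M).symm : MonoidAlgebra S M →ₐc[S] S ⊗[R] MonoidAlgebra R M))
    have hθ : ∀ x', θ x' = δ (sigS ((steBialg R S M).symm x')) := fun _ => rfl
    have hJ := isNilpotent_of_mem_map S hI
    have hθs : Function.Surjective θ := by
      apply theta_surjective θ (I.map (algebraMap R S)) hJ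
      intro n
      obtain ⟨z, hz⟩ := exists_lTensor_sub_mem S σ.toLinearMap I hS
        (δ.symm (MonoidAlgebra.of S N n))
      refine ⟨steBialg R S M z, ?_⟩
      have e : MonoidAlgebra.of S N n - θ (steBialg R S M z) =
          (δ : S ⊗[R] A →ₐc[S] MonoidAlgebra S N).toLinearMap
            (δ.symm (MonoidAlgebra.of S N n) - LinearMap.lTensor S σ.toLinearMap z) := by
        rw [hθ, BialgEquiv.symm_apply_apply, hsig, map_sub]
        congr 1
        exact (δ.apply_symm_apply _).symm
      rw [e]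
      exact map_mem_smul_top _ _ (mem_map_smul_top_of_mem_smul_top S I hz)
    have hθi : Function.Injective θ := by
      apply theta_injective θ (I.map (algebraMap R S)) hJ
      intro x' hx' m
      have h1 : LinearMap.lTensor S σ.toLinearMap ((steBialg R S M).symm x') = 0 := by
        rw [← hsig]
        apply δ.injective
        change δ _ = δ 0
        rw [map_zero, ← hθ, hx']
      have h2 := mem_smul_top_of_lTensor_eq_zero S σ.toLinearMap I hK _ h1
      have h3 := map_mem_smul_top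
        ((steBialg R S M : S ⊗[R] MonoidAlgebra R M →ₐc[S] MonoidAlgebra S M)).toLinearMap
        (I.map (algebraMap R S)) (mem_map_smul_top_of_mem_smul_top S I h2)
      have h4 : ((steBialg R S M : S ⊗[R] MonoidAlgebra R M →ₐc[S] MonoidAlgebra S M)).toLinearMap
          ((steBialg R S M).symm x') = x' := (steBialg R S M).apply_symm_apply x'
      rw [h4] at h3
      exact functional_mem_of_mem_smul_top
        (Finsupp.lapply m ∘ₗ (MonoidAlgebra.coeffLinearEquiv S).toLinearMap) _ h3
    have hcomp : (LinearMap.lTensor S σ.toLinearMap : S ⊗[R] MonoidAlgebra R M → S ⊗[R] A) =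
        δ.symm ∘ θ ∘ (steBialg R S M) := by
      funext z
      rw [Function.comp_apply, Function.comp_apply, hθ, BialgEquiv.symm_apply_apply,
        BialgEquiv.symm_apply_apply, hsig]
    rw [hcomp]
    exact δ.symm.bijective.comp (Function.Bijective.comp ⟨hθi, hθs⟩ (steBialg R S M).bijective)
  have hinj : Function.Injective σ := by
    rw [injective_iff_map_eq_zero]
    intro x hx
    apply Iso.eq_zero_of_cover s hs x
    intro f hf
    obtain ⟨S, _, _, _, ht, hff, hb⟩ := hloc f hf
    refine ⟨S, inferInstance, inferInstance, inferInstance, ht, hff, ?_⟩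
    apply hb.1
    rw [LinearMap.lTensor_tmul, map_zero]
    change (1 : S) ⊗ₜ[R] σ x = 0
    rw [hx, TensorProduct.tmul_zero]
  have hsurj : Function.Surjective σ := by
    intro a
    have h0 : (LinearMap.range σ.toLinearMap).mkQ a = 0 := by
      apply Iso.eq_zero_of_cover s hs
      intro f hf
      obtain ⟨S, _, _, _, ht, hff, hb⟩ := hloc f hf
      refine ⟨S, inferInstance, inferInstance, inferInstance, ht, hff, ?_⟩
      obtain ⟨z, hz⟩ := hb.2 ((1 : S) ⊗ₜ[R] a)
      have e : (1 : S) ⊗ₜ[R] (LinearMap.range σ.toLinearMap).mkQ a =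
          LinearMap.lTensor S (LinearMap.range σ.toLinearMap).mkQ
            (LinearMap.lTensor S σ.toLinearMap z) := by
        rw [hz, LinearMap.lTensor_tmul]
      rw [e, ← LinearMap.comp_apply, ← LinearMap.lTensor_comp]
      have e2 : (LinearMap.range σ.toLinearMap).mkQ ∘ₗ σ.toLinearMap = 0 :=
        LinearMap.range_mkQ_comp _
      rw [e2, LinearMap.lTensor_zero, LinearMap.zero_apply]
    obtain ⟨x, hx⟩ := (Submodule.Quotient.mk_eq_zero _).mp h0
    exact ⟨x, hx⟩
  exact ⟨M, inferInstance, ⟨(BialgEquiv.ofBijective σ ⟨hinj, hsurj⟩).symm⟩⟩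

end Main

end Groth.Agent.Lib.T2H8.NilDiag
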