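import Mathlib
import Groth.Agent.Lib.T2H8NilDiagE
import Groth.Agent.Lib.T2H7EtLift

set_option autoImplicit false

/-!
# T2H8NilIsoA: base change of groups of multiplicative type; lifting a splitting étale cover along
a nil ideal
-/

namespace Groth.Agent.Lib.T2H8.NilIso

open TensorProduct Coalgebra Groth.Agent.Lib.Helper25 Groth.Agent.Lib.Helper25.BCB
  Groth.Agent.Lib.Helper25.MRB Groth.Agent.Lib.T2H8.NilDiag

universe u

section BC

open SGA3b

theorem isMultTypeConst_of_equiv {S : Type u} [CommRing S] {H H' : Type u} [CommRing H]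
    [HopfAlgebra S H] [CommRing H'] [HopfAlgebra S H'] (e : H ≃ₐc[S] H')
    (h : IsMultTypeConst S H') : IsMultTypeConst S H := by
  obtain ⟨R', _, _, hff, hd⟩ := h
  exact ⟨R', inferInstance, inferInstance, hff, isDiag_of_equiv (bcEquiv R' e) hd⟩

/-- multiplicative type is stable under base change -/
theorem isMultType_baseChange (R : Type u) [CommRing R] (A : Type u) [CommRing A]
    [HopfAlgebra R A] (h : IsMultType R A) (T : Type u) [CommRing T] [Algebra R T] :
    IsMultType T (T ⊗[R] A) := by
  obtain ⟨s, hs, hmt⟩ := h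
  refine ⟨algebraMap R T '' s, ?_, ?_⟩
  · rw [← Ideal.map_span, hs, Ideal.map_top]
  · rintro _ ⟨f, hf, rfl⟩
    have hu : IsUnit (algebraMap R (Localization.Away (algebraMap R T f)) f) := by
      rw [IsScalarTower.algebraMap_apply R T (Localization.Away (algebraMap R T f))]
      exact IsLocalization.Away.algebraMap_isUnit _
    letI : Algebra (Localization.Away f) (Localization.Away (algebraMap R T f)) :=
      (IsLocalization.Away.lift f hu).toAlgebra
    haveI : IsScalarTower R (Localization.Away f) (Localization.Away (algebraMap R T f)) :=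
      IsScalarTower.of_algebraMap_eq (fun x => (IsLocalization.Away.lift_eq f hu x).symm)
    have h1 := isMultTypeConst_baseChange (Localization.Away f) (Localization.Away f ⊗[R] A)
      (hmt f hf) (Localization.Away (algebraMap R T f))
    have h2 : IsMultTypeConst (Localization.Away (algebraMap R T f))
        (Localization.Away (algebraMap R T f) ⊗[R] A) :=
      isMultTypeConst_of_equiv
        (cancelBC R (Localization.Away f) (Localization.Away (algebraMap R T f)) A).symm h1
    exact isMultTypeConst_of_equiv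
      (cancelBC R T (Localization.Away (algebraMap R T f)) A) h2

end BC

section Core

open SGA3b

theorem mul_mem_smul_top' {R : Type u} [CommRing R] {B : Type u} [CommRing B] [Algebra R B]
    (J : Ideal R) (a : B) {x : B} (hx : x ∈ J • (⊤ : Submodule R B)) :
    a * x ∈ J • (⊤ : Submodule R B) := by
  refine Submodule.smul_induction_on hx ?_ ?_
  · intro r hr n _
    rw [mul_smul_comm]
    exact Submodule.smul_mem_smul hr Submodule.mem_top
  · intro y z hy hz
    rw [mul_add]
    exact Submodule.add_mem _ hy hz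

variable (R : Type u) [CommRing R] (Rb : Type u) [CommRing Rb] [Algebra R Rb]

include Rb in
theorem isUnit_of_map_eq_one (hnil : ∀ x ∈ RingHom.ker (algebraMap R Rb), IsNilpotent x)
    {m : R} (hm : algebraMap R Rb m = 1) : IsUnit m := by
  have h1 : 1 - m ∈ RingHom.ker (algebraMap R Rb) := by
    rw [RingHom.mem_ker, map_sub, map_one, hm, sub_self]
  have h2 := (hnil _ h1).isUnit_one_sub
  rwa [sub_sub_cancel] at h2

/-- a faithfully flat algebra over `R/K`, `K` nil, lifted to a flat `R`-algebra is faithfully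
flat -/
theorem faithfullyFlat_of_lift (hπ : Function.Surjective (algebraMap R Rb))
    (hnil : ∀ x ∈ RingHom.ker (algebraMap R Rb), IsNilpotent x)
    (Bb : Type u) [CommRing Bb] [Algebra Rb Bb] [Algebra R Bb] [IsScalarTower R Rb Bb]
    [Module.FaithfullyFlat Rb Bb] (B : Type u) [CommRing B] [Algebra R B] [Module.Flat R B]
    (ψ : B →ₐ[R] Bb) : Module.FaithfullyFlat R B := by
  refine ⟨?_⟩
  intro m hm htop
  have h1 : (1 : B) ∈ m • (⊤ : Submodule R B) := by rw [htop]; exact Submodule.mem_top
  have h2 : (1 : Bb) ∈ m • (⊤ : Submodule R Bb) := by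
    have := map_mem_smul_top ψ.toLinearMap m h1
    rwa [AlgHom.toLinearMap_apply, map_one] at this
  have h3 : (1 : Bb) ∈ (m.map (algebraMap R Rb)) • (⊤ : Submodule Rb Bb) :=
    mem_map_smul_top_of_mem_smul_top Rb m h2
  have hne : m.map (algebraMap R Rb) ≠ ⊤ := by
    intro h
    have h4 : (1 : Rb) ∈ m.map (algebraMap R Rb) := by rw [h]; exact Submodule.mem_top
    obtain ⟨x, hx, hx1⟩ := (Ideal.mem_map_iff_of_surjective _ hπ).mp h4
    exact hm.ne_top (Ideal.eq_top_of_isUnit_mem _ hx (isUnit_of_map_eq_one R Rb hnil hx1))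
  have h5 := ((Module.FaithfullyFlat.iff_flat_and_proper_ideal Rb Bb).mp inferInstance).2 _ hne
  apply h5
  rw [eq_top_iff]
  intro b _
  have := mul_mem_smul_top' (m.map (algebraMap R Rb)) b h3
  rwa [mul_one] at this

/-- an algebra lifting a finite algebra modulo a nil ideal is integral -/
theorem isIntegral_of_lift (hπ : Function.Surjective (algebraMap R Rb))
    (Bb : Type u) [CommRing Bb] [Algebra Rb Bb] [Algebra R Bb] [IsScalarTower R Rb Bb]
    [Algebra.IsIntegral Rb Bb] (B : Type u) [CommRing B] [Algebra R B]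
    (ψ : B →ₐ[R] Bb) (hker : ∀ x ∈ RingHom.ker ψ, IsNilpotent x) : Algebra.IsIntegral R B := by
  refine ⟨fun b => ?_⟩
  obtain ⟨p, hp, hpb⟩ := Algebra.IsIntegral.isIntegral (R := Rb) (ψ b)
  obtain ⟨q, hq, -, hqm⟩ := Polynomial.lifts_and_natDegree_eq_and_monic
    (Polynomial.mem_lifts_of_surjective (f := algebraMap R Rb) hπ p) hp
  have h1 : ψ (Polynomial.aeval b q) = 0 := by
    rw [← Polynomial.aeval_algHom_apply, ← hpb, ← hq, Polynomial.eval₂_map]
    rw [Polynomial.aeval_def]
    congr 1
    exact (IsScalarTower.algebraMap_eq R Rb Bb)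
  obtain ⟨N, hN⟩ := hker _ ((RingHom.mem_ker).mpr h1)
  refine ⟨q ^ N, hqm.pow N, ?_⟩
  rw [← Polynomial.aeval_def, map_pow, hN]

/-- Lifting a splitting étale cover along a nil ideal. -/
theorem exists_etale_cover_isDiag (A : Type u) [CommRing A] [HopfAlgebra R A]
    (h : IsMultType R A) (hπ : Function.Surjective (algebraMap R Rb))
    (hnil : ∀ x ∈ RingHom.ker (algebraMap R Rb), IsNilpotent x)
    (Bb : Type u) [CommRing Bb] [Algebra Rb Bb] [Algebra R Bb] [IsScalarTower R Rb Bb]
    [Algebra.Etale Rb Bb] [Module.FaithfullyFlat Rb Bb] (hd : IsDiag Bb (Bb ⊗[R] A)) :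
    ∃ (B : Type u) (_ : CommRing B) (_ : Algebra R B), Algebra.Etale R B ∧
      Module.FaithfullyFlat R B ∧ (Module.Finite Rb Bb → Module.Finite R B) ∧
        IsDiag B (B ⊗[R] A) := by
  obtain ⟨B, _, _, hEt, ψ, hψs, hψk⟩ := T2H7.EtLift.exists_etale_lift (R := R) (Rb := Rb)
    (Bb := Bb) hπ
  haveI := hEt
  have hJnil : ∀ x ∈ RingHom.ker ψ, IsNilpotent x := by
    intro x hx
    exact isNilpotent_of_mem_map B hnil x (hψk hx)
  haveI : Module.Flat R B := inferInstance
  have hff : Module.FaithfullyFlat R B := faithfullyFlat_of_lift R Rb hπ hnil Bb B ψ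
  refine ⟨B, inferInstance, inferInstance, hEt, hff, ?_, ?_⟩
  · intro hfin
    haveI := hfin
    haveI : Algebra.IsIntegral Rb Bb := inferInstance
    haveI : Algebra.IsIntegral R B := isIntegral_of_lift R Rb hπ Bb B ψ hJnil
    haveI : Algebra.FiniteType R B := inferInstance
    exact Algebra.IsIntegral.finite
  · have hmtB : IsMultType B (B ⊗[R] A) := isMultType_baseChange R A h B
    let e : (B ⧸ RingHom.ker ψ) ≃ₐ[R] Bb := Ideal.quotientKerAlgEquivOfSurjective hψs
    letI : Algebra Bb (B ⧸ RingHom.ker ψ) := (e.symm : Bb →ₐ[R] B ⧸ RingHom.ker ψ).toRingHom.toAlgebra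
    haveI : IsScalarTower R Bb (B ⧸ RingHom.ker ψ) :=
      IsScalarTower.of_algebraMap_eq (fun x => (e.symm.commutes x).symm)
    have hd' : IsDiag (B ⧸ RingHom.ker ψ) ((B ⧸ RingHom.ker ψ) ⊗[R] A) :=
      isDiag_baseChange_of_tower R A Bb (B ⧸ RingHom.ker ψ) hd
    have hd'' : IsDiag (B ⧸ RingHom.ker ψ) ((B ⧸ RingHom.ker ψ) ⊗[B] (B ⊗[R] A)) :=
      isDiag_of_equiv (cancelBC R B (B ⧸ RingHom.ker ψ) A) hd'
    exact isDiag_of_isDiag_mod_nil B (B ⊗[R] A) (RingHom.ker ψ) hJnil hmtB hd''

end Core

section Away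

variable (R : Type u) [CommRing R] (I : Ideal R)

/-- `R_f → (R/I)_f̄` is surjective with nil kernel when `I` is nil -/
theorem exists_away_quotient_map (hI : ∀ x ∈ I, IsNilpotent x) (f : R) :
    ∃ φ : Localization.Away f →+* Localization.Away (Ideal.Quotient.mk I f),
      (∀ r, φ (algebraMap R (Localization.Away f) r) =
        algebraMap (R ⧸ I) (Localization.Away (Ideal.Quotient.mk I f)) (Ideal.Quotient.mk I r)) ∧
      Function.Surjective φ ∧ ∀ x ∈ RingHom.ker φ, IsNilpotent x := by
  set fb := Ideal.Quotient.mk I f with hfb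
  set g : R →+* Localization.Away fb :=
    (algebraMap (R ⧸ I) (Localization.Away fb)).comp (Ideal.Quotient.mk I) with hg
  have hu : IsUnit (g f) := by
    rw [hg, RingHom.comp_apply]
    exact IsLocalization.Away.algebraMap_isUnit fb
  refine ⟨IsLocalization.Away.lift f hu, fun r => IsLocalization.Away.lift_eq f hu r, ?_, ?_⟩
  · intro z
    obtain ⟨n, a, ha⟩ := IsLocalization.Away.surj fb z
    obtain ⟨a, rfl⟩ := Ideal.Quotient.mk_surjective a
    refine ⟨IsLocalization.mk' (Localization.Away f) a (⟨f ^ n, n, rfl⟩ : Submonoid.powers f), ?_⟩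
    have hun : IsUnit (g f ^ n) := hu.pow n
    apply hun.mul_left_injective
    change IsLocalization.Away.lift f hu _ * g f ^ n = z * g f ^ n
    have e1 : g f ^ n = IsLocalization.Away.lift f hu
        (algebraMap R (Localization.Away f) (f ^ n)) := by
      rw [IsLocalization.Away.lift_eq, map_pow]
    rw [e1, ← map_mul, IsLocalization.mk'_spec, IsLocalization.Away.lift_eq, ← e1]
    change g a = z * (algebraMap (R ⧸ I) (Localization.Away fb) fb) ^ n
    rw [ha]
    rfl
  · intro w hw
    rw [RingHom.mem_ker] at hw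
    obtain ⟨n, a, ha⟩ := IsLocalization.Away.surj f w
    have h1 : g a = 0 := by
      rw [← IsLocalization.Away.lift_eq (S := Localization.Away f) f hu a, ← ha, map_mul, hw,
        zero_mul]
    have h2 : algebraMap (R ⧸ I) (Localization.Away fb) (Ideal.Quotient.mk I a) = 0 := h1
    rw [IsLocalization.map_eq_zero_iff (Submonoid.powers fb)] at h2
    obtain ⟨⟨_, m, rfl⟩, hm⟩ := h2
    have h3 : f ^ m * a ∈ I := by
      rw [← Ideal.Quotient.eq_zero_iff_mem, map_mul, map_pow]
      exact hm
    obtain ⟨N, hN⟩ := hI _ h3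
    have h4 : (algebraMap R (Localization.Away f) (f ^ m) *
        (w * algebraMap R (Localization.Away f) f ^ n)) ^ N = 0 := by
      rw [ha, ← map_mul, ← map_pow, hN, map_zero]
    have hunit : IsUnit (algebraMap R (Localization.Away f) (f ^ m) *
        algebraMap R (Localization.Away f) f ^ n) := by
      rw [map_pow]
      exact ((IsLocalization.Away.algebraMap_isUnit f).pow m).mul
        ((IsLocalization.Away.algebraMap_isUnit f).pow n)
    refine ⟨N, ?_⟩
    have h5 : (algebraMap R (Localization.Away f) (f ^ m) *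
        (w * algebraMap R (Localization.Away f) f ^ n)) ^ N =
        w ^ N * (algebraMap R (Localization.Away f) (f ^ m) *
          algebraMap R (Localization.Away f) f ^ n) ^ N := by
      ring
    rw [h5] at h4
    exact (hunit.pow N).mul_left_eq_zero.mp h4

end Away

end Groth.Agent.Lib.T2H8.NilIso
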