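import Groth.Agent.Lib.T2H8TorsDenseB
import Groth.Agent.Lib.Helper25SubDiag
import Groth.Agent.Lib.T2H8IsoE

/-!
# Density of the torsion subgroups of a group of multiplicative type (helper8)

* `TorsDense R A`: elementwise form of the schematic density of the family `ₙG`.
* `torsDense_monoidAlgebra`, `TorsDense.of_equiv`, `torsDense_of_isDiag`,
  `torsDense_of_hasDiagCover`, `torsDense_of_isMultType`.
* `iInf_map_torsionIdeal_eq_bot_of_torsDense`: the localised form.
-/

set_option autoImplicit false
universe u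

namespace Groth.Agent.Lib.T2H8.TorsDense

open Groth.Agent.Lib.Helper25.Tors Groth.Agent.Lib.Helper25.SubDiag SGA3b TensorProduct

/-- Elementwise form of the schematic density of the torsion subgroups. -/
def TorsDense (R : Type u) [CommRing R] (A : Type u) [CommRing A] [HopfAlgebra R A] : Prop :=
  ∀ a f : A, (∀ n : ℕ, 0 < n → ∃ k : ℕ, a ^ k * f ∈ torsionIdeal R A n) → ∃ k : ℕ, a ^ k * f = 0

section Diag

variable (R : Type u) [CommRing R]

theorem torsDense_monoidAlgebra (M : Type u) [CommGroup M] [Group.FG M] :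
    TorsDense R (MonoidAlgebra R M) := by
  intro a f h
  refine exists_pow_mul_eq_zero_of_quotMap R M a f (fun n hn => ?_)
  obtain ⟨k, hk⟩ := h n hn
  exact ⟨k, torsionIdeal_le_ker_quotMap R M n hk⟩

variable {R} {A B : Type u} [CommRing A] [HopfAlgebra R A] [CommRing B] [HopfAlgebra R B]

theorem TorsDense.of_equiv (e : A ≃ₐc[R] B) (h : TorsDense R B) : TorsDense R A := by
  intro a f hyp
  obtain ⟨k, hk⟩ := h (e a) (e f) (fun n hn => by
    obtain ⟨k, hk⟩ := hyp n hn
    refine ⟨k, ?_⟩
    have := map_mem_torsionIdeal (e : A →ₐc[R] B) n hk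
    simpa using this)
  refine ⟨k, e.injective ?_⟩
  change e (a ^ k * f) = e 0
  rw [map_mul, map_pow, hk, map_zero]

theorem torsDense_of_isDiag (hft : Algebra.FiniteType R A) (h : IsDiag R A) : TorsDense R A := by
  obtain ⟨M, _, ⟨e⟩⟩ := h
  rcases subsingleton_or_nontrivial R with hR | hR
  · haveI : Subsingleton A := Module.subsingleton R A
    exact fun a f _ => ⟨0, Subsingleton.elim _ _⟩
  · haveI : Algebra.FiniteType R (MonoidAlgebra R M) := Algebra.FiniteType.equiv hft e.toAlgEquiv
    haveI : Group.FG M := (MonoidAlgebra.finiteType_iff_group_fg (R := R)).mp inferInstance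
    exact TorsDense.of_equiv e (torsDense_monoidAlgebra R M)

end Diag

section Descent

variable {R : Type u} [CommRing R] {A : Type u} [CommRing A] [HopfAlgebra R A]

theorem torsDense_of_hasDiagCover (hft : Algebra.FiniteType R A) (h : HasDiagCover R A) :
    TorsDense R A := by
  classical
  intro a f hyp
  obtain ⟨s, hs, hcov⟩ := h
  obtain ⟨t, hts, ht⟩ := (Ideal.span_eq_top_iff_finite s).mp hs
  -- the cover datum together with the vanishing of `a ^ k * f`
  let P : R → ℕ → Prop := fun r k =>
    ∃ (S : Type u) (_ : CommRing S) (_ : Algebra R S) (_ : Algebra (Localization.Away r) S),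
      IsScalarTower R (Localization.Away r) S ∧ Module.FaithfullyFlat (Localization.Away r) S ∧
        (1 : S) ⊗ₜ[R] (a ^ k * f) = 0
  have hmono : ∀ r k k', k ≤ k' → P r k → P r k' := by
    rintro r k k' hkk ⟨S, _, _, _, h1, h2, h3⟩
    refine ⟨S, inferInstance, inferInstance, inferInstance, h1, h2, ?_⟩
    obtain ⟨j, rfl⟩ := Nat.exists_eq_add_of_le hkk
    have : a ^ (k + j) * f = a ^ j * (a ^ k * f) := by ring
    rw [this, ← one_mul (1 : S), ← Algebra.TensorProduct.tmul_mul_tmul, h3, mul_zero]
  have hex : ∀ r ∈ t, ∃ k, P r k := by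
    intro r hr
    obtain ⟨S, _, _, _, h1, h2, hD⟩ := hcov r (hts hr)
    haveI : Algebra.FiniteType R A := hft
    have hTD : TorsDense S (S ⊗[R] A) := torsDense_of_isDiag inferInstance hD
    obtain ⟨k, hk⟩ := hTD ((1 : S) ⊗ₜ[R] a) ((1 : S) ⊗ₜ[R] f) (fun n hn => by
      obtain ⟨k, hk⟩ := hyp n hn
      refine ⟨k, ?_⟩
      have := one_tmul_mem_torsionIdeal S n hk
      rwa [Algebra.TensorProduct.tmul_pow, one_pow, Algebra.TensorProduct.tmul_mul_tmul, one_mul])
    refine ⟨k, S, inferInstance, inferInstance, inferInstance, h1, h2, ?_⟩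
    rwa [Algebra.TensorProduct.tmul_pow, one_pow, Algebra.TensorProduct.tmul_mul_tmul,
      one_mul] at hk
  choose! kk hkk using hex
  refine ⟨t.sup kk, ?_⟩
  refine Groth.Agent.Lib.T2H8.Iso.eq_zero_of_cover (↑t : Set R) ht (a ^ t.sup kk * f) ?_
  intro r hr
  exact hmono r _ _ (Finset.le_sup (f := kk) hr) (hkk r hr)

theorem torsDense_of_isMultType (hft : Algebra.FiniteType R A) (h : IsMultType R A) :
    TorsDense R A :=
  torsDense_of_hasDiagCover hft (hasDiagCover_of_isMultType h)

end Descent

section Localized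

variable {R : Type u} [CommRing R] {A : Type u} [CommRing A] [HopfAlgebra R A]

theorem iInf_map_torsionIdeal_eq_bot_of_torsDense (h : TorsDense R A) (a : A) :
    ⨅ n : {n : ℕ // 0 < n},
      Ideal.map (algebraMap A (Localization.Away a)) (torsionIdeal R A n.1) = ⊥ := by
  rw [eq_bot_iff]
  intro x hx
  rw [Ideal.mem_bot]
  rw [Ideal.mem_iInf] at hx
  obtain ⟨⟨f, s⟩, hfs⟩ := IsLocalization.surj (Submonoid.powers a) x
  dsimp only at hfs
  have hyp : ∀ n : ℕ, 0 < n → ∃ k : ℕ, a ^ k * f ∈ torsionIdeal R A n := by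
    intro n hn
    have hxn := hx ⟨n, hn⟩
    rw [IsLocalization.mem_map_algebraMap_iff (Submonoid.powers a)] at hxn
    obtain ⟨⟨y, u⟩, hyu⟩ := hxn
    dsimp only at hyu
    have h1 : algebraMap A (Localization.Away a) (f * (u : A)) =
        algebraMap A (Localization.Away a) ((y : A) * (s : A)) := by
      rw [map_mul, map_mul, ← hfs, ← hyu]
      ring
    obtain ⟨c, hc⟩ := (IsLocalization.eq_iff_exists (Submonoid.powers a) _).mp h1
    obtain ⟨k, hk⟩ : ∃ k : ℕ, a ^ k = (c : A) * (u : A) := by
      obtain ⟨k1, hk1⟩ := c.2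
      obtain ⟨k2, hk2⟩ := u.2
      have hk1' : a ^ k1 = (c : A) := hk1
      have hk2' : a ^ k2 = (u : A) := hk2
      exact ⟨k1 + k2, by rw [pow_add, hk1', hk2']⟩
    refine ⟨k, ?_⟩
    have h2 : a ^ k * f = (c : A) * (s : A) * (y : A) := by
      rw [hk]
      calc (c : A) * (u : A) * f = (c : A) * (f * (u : A)) := by ring
        _ = (c : A) * ((y : A) * (s : A)) := hc
        _ = (c : A) * (s : A) * (y : A) := by ring
    rw [h2]
    exact Ideal.mul_mem_left _ _ y.2
  obtain ⟨k, hk⟩ := h a f hyp
  have hu : IsUnit (algebraMap A (Localization.Away a) a) :=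
    IsLocalization.Away.algebraMap_isUnit a
  have h3 : algebraMap A (Localization.Away a) f = 0 := by
    have := congrArg (algebraMap A (Localization.Away a)) hk
    rw [map_mul, map_pow, map_zero] at this
    exact (hu.pow k).mul_right_eq_zero.mp this
  rw [h3] at hfs
  exact (IsLocalization.map_units (Localization.Away a) s).mul_left_eq_zero.mp hfs

end Localized

end Groth.Agent.Lib.T2H8.TorsDense
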