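import Groth.Agent.Lib.T2H8LocRigidA
import Groth.Agent.Lib.T2H8TorsDenseC
import Groth.Agent.Lib.T2H8NilIsoA
import Groth.Agent.Lib.Helper25TorsQuot

/-!
# Rigidity over a local base: the finite case (helper8)

`bialgHom_trivial_of_finite_local`: over a local ring `R`, a bialgebra map `φ : C → B` into a
finite Hopf algebra of multiplicative type which is trivial on the closed fibre is trivial, if `R`
is noetherian or `C` is of finite type.  The ideal `I` of the coefficients of `φ - ε` is finitely
generated, contained in the maximal ideal and, by infinitesimal rigidity over `R/I²`, satisfies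
`I = I²`; hence `I = 0` by Nakayama.
-/

set_option autoImplicit false
universe u

namespace Groth.Agent.Lib.T2H8.LocRigid

open TensorProduct SGA3b Coalgebra Groth.Agent.Lib.Helper25 Groth.Agent.Lib.Helper25.SubDiag

section Delta

variable {R : Type u} [CommRing R] {B : Type u} [CommRing B] [HopfAlgebra R B]
  {C : Type u} [CommRing C] [HopfAlgebra R C]

/-- If `φ ≡ ε` modulo `J` on a generating set, then `φ ≡ ε` modulo `J`. -/
theorem sub_counit_mem_smul_top_of_adjoin (φ : C →ₐc[R] B) (J : Ideal R) (s : Set C)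
    (hs : Algebra.adjoin R s = ⊤)
    (h : ∀ c ∈ s, φ c - algebraMap R B (counit (R := R) c) ∈ J • (⊤ : Submodule R B)) (c : C) :
    φ c - algebraMap R B (counit (R := R) c) ∈ J • (⊤ : Submodule R B) := by
  have hc : c ∈ Algebra.adjoin R s := hs ▸ Algebra.mem_top
  induction hc using Algebra.adjoin_induction with
  | mem x hx => exact h x hx
  | algebraMap r =>
    have h1 : φ (algebraMap R C r) = algebraMap R B r := (φ : C →ₐ[R] B).commutes r
    rw [h1, Bialgebra.counit_algebraMap, sub_self]
    exact Submodule.zero_mem _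
  | add x y _ _ hx hy =>
    have : φ (x + y) - algebraMap R B (counit (R := R) (x + y)) =
        (φ x - algebraMap R B (counit (R := R) x)) +
          (φ y - algebraMap R B (counit (R := R) y)) := by
      rw [map_add, map_add, map_add]; ring
    rw [this]
    exact Submodule.add_mem _ hx hy
  | mul x y _ _ hx hy =>
    have : φ (x * y) - algebraMap R B (counit (R := R) (x * y)) =
        φ y * (φ x - algebraMap R B (counit (R := R) x)) +
          algebraMap R B (counit (R := R) x) * (φ y - algebraMap R B (counit (R := R) y)) := by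
      rw [map_mul, Bialgebra.counit_mul, map_mul]; ring
    rw [this]
    exact Submodule.add_mem _ (T2H8.RigidB.mul_mem_smul_top J _ hx)
      (T2H8.RigidB.mul_mem_smul_top J _ hy)

end Delta

section ModSq

variable {R : Type u} [CommRing R] {B : Type u} [CommRing B] [HopfAlgebra R B]
  {C : Type u} [CommRing C] [HopfAlgebra R C]

/-- Infinitesimal rigidity: if `φ ≡ ε` modulo `I` and `B` is of multiplicative type, then `φ ≡ ε`
modulo `I²`. -/
theorem sub_counit_mem_sq_smul_top (hB : IsMultType R B) (φ : C →ₐc[R] B) (I : Ideal R)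
    (h : ∀ c : C, φ c - algebraMap R B (counit (R := R) c) ∈ I • (⊤ : Submodule R B)) (c : C) :
    φ c - algebraMap R B (counit (R := R) c) ∈ (I ^ 2) • (⊤ : Submodule R B) := by
  set Rq := R ⧸ I ^ 2 with hRq
  set I' : Ideal Rq := I.map (Ideal.Quotient.mk (I ^ 2)) with hI'
  have hnil : IsNilpotent I' := by
    refine ⟨2, ?_⟩
    rw [hI', ← Ideal.map_pow, Ideal.map_quotient_self]
    rfl
  let φ' : Rq ⊗[R] C →ₐc[Rq] Rq ⊗[R] B := Bialgebra.TensorProduct.map (BialgHom.id Rq Rq) φ
  have hP : MRB.NoPrimMod Rq (Rq ⊗[R] B) :=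
    MRB.noPrimMod_of_isMultType _ _ (T2H8.NilIso.isMultType_baseChange R B hB Rq)
  have h0 : ∀ z : Rq ⊗[R] C, φ' z - algebraMap Rq (Rq ⊗[R] B) (counit (R := Rq) z) ∈
      I' • (⊤ : Submodule Rq (Rq ⊗[R] B)) := by
    intro z
    induction z using TensorProduct.induction_on with
    | zero => simp
    | add x y hx hy =>
      have : φ' (x + y) - algebraMap Rq (Rq ⊗[R] B) (counit (R := Rq) (x + y)) =
          (φ' x - algebraMap Rq (Rq ⊗[R] B) (counit (R := Rq) x)) +
            (φ' y - algebraMap Rq (Rq ⊗[R] B) (counit (R := Rq) y)) := by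
        rw [map_add, map_add, map_add]; ring
      rw [this]
      exact Submodule.add_mem _ hx hy
    | tmul r x =>
      have e1 : φ' (r ⊗ₜ[R] x) = r ⊗ₜ[R] φ x := Bialgebra.TensorProduct.map_tmul _ _ _ _
      have e2 : algebraMap Rq (Rq ⊗[R] B) (counit (R := Rq) (r ⊗ₜ[R] x)) =
          r ⊗ₜ[R] algebraMap R B (counit (R := R) x) := by
        rw [TensorProduct.counit_tmul, Algebra.TensorProduct.algebraMap_apply,
          Algebra.algebraMap_eq_smul_one (counit (R := R) x), TensorProduct.tmul_smul,
          TensorProduct.smul_tmul']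
        simp [CommSemiring.counit_apply]
      rw [e1, e2, ← TensorProduct.tmul_sub]
      -- `r ⊗ δ` with `δ ∈ I • ⊤`
      have hδ := h x
      refine Submodule.smul_induction_on hδ ?_ ?_
      · intro a ha b _
        rw [TensorProduct.tmul_smul, ← algebraMap_smul Rq a (r ⊗ₜ[R] b)]
        exact Submodule.smul_mem_smul (Ideal.mem_map_of_mem _ ha) Submodule.mem_top
      · intro a b ha hb
        rw [TensorProduct.tmul_add]
        exact Submodule.add_mem _ ha hb
  have hz := T2H8.RigidB.bialgHom_trivial_of_noPrimMod hP I' hnil φ' h0 ((1 : Rq) ⊗ₜ[R] c)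
  have e1 : φ' ((1 : Rq) ⊗ₜ[R] c) = (1 : Rq) ⊗ₜ[R] φ c := Bialgebra.TensorProduct.map_tmul _ _ _ _
  have e2 : algebraMap Rq (Rq ⊗[R] B) (counit (R := Rq) ((1 : Rq) ⊗ₜ[R] c)) =
      (1 : Rq) ⊗ₜ[R] algebraMap R B (counit (R := R) c) := by
    rw [TensorProduct.counit_tmul, Algebra.TensorProduct.algebraMap_apply,
      Algebra.algebraMap_eq_smul_one (counit (R := R) c), TensorProduct.tmul_smul,
      TensorProduct.smul_tmul']
    simp [CommSemiring.counit_apply]
  rw [e1, e2] at hz
  have hz' : (1 : Rq) ⊗ₜ[R] (φ c - algebraMap R B (counit (R := R) c)) = 0 := by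
    rw [TensorProduct.tmul_sub, hz, sub_self]
  exact (T2H8.NilDiag.one_tmul_eq_zero_iff (I ^ 2) _).mp hz'

end ModSq

section FiniteLocal

variable {R : Type u} [CommRing R] [IsLocalRing R] {B : Type u} [CommRing B] [HopfAlgebra R B]
  {C : Type u} [CommRing C] [HopfAlgebra R C]

theorem bialgHom_trivial_of_finite_local [Module.Finite R B] (hB : IsMultType R B)
    (hC : IsNoetherianRing R ∨ Algebra.FiniteType R C) (φ : C →ₐc[R] B)
    (hs : ∀ c : C, φ c - algebraMap R B (counit (R := R) c) ∈
      (IsLocalRing.maximalIdeal R) • (⊤ : Submodule R B)) (c : C) :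
    φ c = algebraMap R B (counit (R := R) c) := by
  classical
  haveI : Module.Flat R B := T2H8.Iso.flat_of_cover (hasDiagCover_of_isMultType hB)
  haveI : Module.Free R B := Module.free_of_flat_of_isLocalRing
  let b := Module.Free.chooseBasis R B
  let δ : C → B := fun c => φ c - algebraMap R B (counit (R := R) c)
  -- the ideal of coefficients
  let coefSet : Set C → Set R := fun s => {r | ∃ c ∈ s, ∃ i, r = b.repr (δ c) i}
  have hmemI : ∀ (s : Set C) (c : C), c ∈ s → δ c ∈ Ideal.span (coefSet s) • (⊤ : Submodule R B) := by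
    intro s c hc
    rw [← b.sum_repr (δ c)]
    refine Submodule.sum_mem _ (fun i _ => ?_)
    exact Submodule.smul_mem_smul (Ideal.subset_span ⟨c, hc, i, rfl⟩) Submodule.mem_top
  have hmin : ∀ (s : Set C) (J : Ideal R), (∀ c ∈ s, δ c ∈ J • (⊤ : Submodule R B)) →
      Ideal.span (coefSet s) ≤ J := by
    intro s J hJ
    rw [Ideal.span_le]
    rintro _ ⟨c, hc, i, rfl⟩
    exact MRB.functional_mem_of_mem_smul_top (b.coord i) J (hJ c hc)
  set I := Ideal.span (coefSet Set.univ) with hI
  have hδI : ∀ c, δ c ∈ I • (⊤ : Submodule R B) := fun c => hmemI Set.univ c (Set.mem_univ c)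
  have hIm : I ≤ IsLocalRing.maximalIdeal R := hmin Set.univ _ (fun c _ => hs c)
  have hIfg : I.FG := by
    rcases hC with hN | hft
    · exact IsNoetherian.noetherian I
    · obtain ⟨s, hs'⟩ := hft.out
      have hle : I ≤ Ideal.span (coefSet (s : Set C)) := by
        refine hmin Set.univ _ (fun c _ => ?_)
        exact sub_counit_mem_smul_top_of_adjoin φ _ (s : Set C) hs'
          (fun x hx => hmemI (s : Set C) x hx) c
      have hge : Ideal.span (coefSet (s : Set C)) ≤ I := by
        refine Ideal.span_mono ?_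
        rintro _ ⟨c, _, i, rfl⟩
        exact ⟨c, Set.mem_univ c, i, rfl⟩
      have heq : I = Ideal.span (coefSet (s : Set C)) := le_antisymm hle hge
      rw [heq]
      have hfin : (coefSet (s : Set C)).Finite := by
        have : coefSet (s : Set C) ⊆
            ((s ×ˢ (Finset.univ : Finset (Module.Free.ChooseBasisIndex R B))).image
              (fun p => b.repr (δ p.1) p.2) : Finset R) := by
          rintro _ ⟨c, hc, i, rfl⟩
          simp only [Finset.coe_image, Set.mem_image, Finset.mem_coe, Finset.mem_product,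
            Finset.mem_univ, and_true]
          exact ⟨(c, i), hc, rfl⟩
        exact (Finset.finite_toSet _).subset this
      exact ⟨hfin.toFinset, by simp⟩
  have hsq : I ≤ I • I := by
    rw [smul_eq_mul, ← sq]
    refine hmin Set.univ _ (fun c _ => ?_)
    exact sub_counit_mem_sq_smul_top hB φ I hδI c
  have hbot : I = ⊥ := by
    refine Submodule.eq_bot_of_le_smul_of_le_jacobson_bot I I hIfg hsq ?_
    rw [IsLocalRing.jacobson_eq_maximalIdeal ⊥ bot_ne_top]
    exact hIm
  have := hδI c
  rw [hbot, Submodule.bot_smul, Submodule.mem_bot] at this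
  exact sub_eq_zero.mp this

end FiniteLocal

end Groth.Agent.Lib.T2H8.LocRigid
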