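import Groth.Agent.Lib.T2H8LocRigidB

/-!
# Rigidity over a local base (helper8)

`bialgHom_trivial_of_local` (S5245): over a local ring, a homomorphism from a group of
multiplicative type and of finite type to an affine group which is trivial on the closed fibre is
trivial (`R` noetherian or the target of finite type).
`bialgHom_eq_of_local` (S2985): two homomorphisms to a commutative affine group which agree on the
closed fibre agree.
-/

set_option autoImplicit false
universe u

namespace Groth.Agent.Lib.T2H8.LocRigid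

open TensorProduct SGA3b Coalgebra Groth.Agent.Lib.Helper25 Groth.Agent.Lib.Helper25.SubDiag
  Groth.Agent.Lib.T2H8.TorsDense

section Local

variable {R : Type u} [CommRing R] [IsLocalRing R] {A : Type u} [CommRing A] [HopfAlgebra R A]
  {C : Type u} [CommRing C] [HopfAlgebra R C]

theorem bialgHom_trivial_of_local (hft : Algebra.FiniteType R A) (hH : IsMultType R A)
    (hC : IsNoetherianRing R ∨ Algebra.FiniteType R C) (φ : C →ₐc[R] A)
    (hs : ∀ c : C, φ c - algebraMap R A (counit (R := R) c) ∈
      (IsLocalRing.maximalIdeal R) • (⊤ : Submodule R A)) (c : C) :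
    φ c = algebraMap R A (counit (R := R) c) := by
  haveI : Coalgebra.IsCocomm R A := T2H8.Iso.isCocomm_of_cover (hasDiagCover_of_isMultType hH)
  have hTD := torsDense_of_isMultType hft hH
  have key : ∀ n : ℕ, 0 < n → φ c - algebraMap R A (counit (R := R) c) ∈ torsionIdeal R A n := by
    intro n hn
    set J := torsionIdeal R A n with hJ
    obtain ⟨hmt, hfin⟩ := Groth.Agent.Lib.Helper25.TorsQuot.torsion_quotient hft hH n hn J rfl
    haveI := hfin
    let π : A →ₐc[R] A ⧸ J := Bialgebra.Quotient.mkBialgHom (R := R) J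
    have hπ : ∀ a : A, π a = Ideal.Quotient.mk J a := fun _ => rfl
    have hs' : ∀ x : C, (π.comp φ) x - algebraMap R (A ⧸ J) (counit (R := R) x) ∈
        (IsLocalRing.maximalIdeal R) • (⊤ : Submodule R (A ⧸ J)) := by
      intro x
      have h1 := MRB.map_mem_smul_top (π : A →ₐ[R] A ⧸ J).toLinearMap _ (hs x)
      have h2 : (π : A →ₐ[R] A ⧸ J).toLinearMap (φ x - algebraMap R A (counit (R := R) x)) =
          (π.comp φ) x - algebraMap R (A ⧸ J) (counit (R := R) x) := by
        change π (φ x - algebraMap R A (counit (R := R) x)) = _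
        rw [map_sub]
        congr 1
      rwa [h2] at h1
    have h3 := bialgHom_trivial_of_finite_local hmt hC (π.comp φ) hs' c
    have h4 : π (φ c - algebraMap R A (counit (R := R) c)) = 0 := by
      rw [map_sub, sub_eq_zero]
      have : π (algebraMap R A (counit (R := R) c)) = algebraMap R (A ⧸ J) (counit (R := R) c) :=
        (π : A →ₐ[R] A ⧸ J).commutes _
      rw [this]
      exact h3
    rw [hπ] at h4
    exact Ideal.Quotient.eq_zero_iff_mem.mp h4
  obtain ⟨k, hk⟩ := hTD 1 (φ c - algebraMap R A (counit (R := R) c))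
    (fun n hn => ⟨0, by simpa using key n hn⟩)
  rw [one_pow, one_mul] at hk
  exact sub_eq_zero.mp hk

end Local

section TwoMaps

open WithConv Groth.Agent.Lib.T2H8.RigidB Groth.Agent.Lib.Helper25.MRB

variable {R : Type u} [CommRing R] {C : Type u} [CommRing C] [HopfAlgebra R C]
  [Coalgebra.IsCocomm R C] {A : Type u} [CommRing A] [Bialgebra R A]

/-- From "trivial modulo `I` implies trivial" to "equal modulo `I` implies equal", for maps from a
cocommutative Hopf algebra. -/
theorem bialgHom_eq_of_trivial_principle (I : Ideal R)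
    (htriv : ∀ θ : C →ₐc[R] A,
      (∀ c : C, θ c - algebraMap R A (CoalgebraStruct.counit (R := R) c) ∈
        I • (⊤ : Submodule R A)) →
      ∀ c : C, θ c = algebraMap R A (CoalgebraStruct.counit (R := R) c))
    (φ ψ : C →ₐc[R] A) (h0 : ∀ c : C, φ c - ψ c ∈ I • (⊤ : Submodule R A)) : φ = ψ := by
  set ψ' : C →ₐc[R] A := ψ.comp antipodeBialgHom with hψ'
  set θ : C →ₐc[R] A := (toConv φ * toConv ψ').ofConv with hθ
  have hθa : toConv (θ : C →ₐ[R] A) =
      toConv (φ : C →ₐ[R] A) * (toConv (ψ : C →ₐ[R] A))⁻¹ := rfl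
  have hinv : toConv (ψ : C →ₐ[R] A) * (toConv (ψ : C →ₐ[R] A))⁻¹ = 1 := mul_inv_cancel _
  have e1 : ∀ c, θ c = LinearMap.mul' R A (TensorProduct.map (φ : C →ₗ[R] A) (ψ' : C →ₗ[R] A)
      (CoalgebraStruct.comul (R := R) c)) := fun c => rfl
  have e2 : ∀ c, algebraMap R A (CoalgebraStruct.counit (R := R) c) =
      LinearMap.mul' R A (TensorProduct.map (ψ : C →ₗ[R] A) (ψ' : C →ₗ[R] A)
      (CoalgebraStruct.comul (R := R) c)) := by
    intro c
    have := congrArg (fun f : WithConv (C →ₐ[R] A) => f.ofConv c) hinv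
    exact this.symm
  have hθ1 : ∀ c, θ c = algebraMap R A (CoalgebraStruct.counit (R := R) c) := by
    apply htriv θ
    intro c
    have hsplit : TensorProduct.map (φ : C →ₗ[R] A) (ψ' : C →ₗ[R] A) =
        TensorProduct.map ((φ : C →ₗ[R] A) - (ψ : C →ₗ[R] A)) (ψ' : C →ₗ[R] A) +
          TensorProduct.map (ψ : C →ₗ[R] A) (ψ' : C →ₗ[R] A) := by
      rw [← TensorProduct.map_add_left, sub_add_cancel]
    rw [e1, e2, hsplit, LinearMap.add_apply, map_add, add_sub_cancel_right]
    have h1 := map_mem_smul_top_of_forall I ⊤ ((φ : C →ₗ[R] A) - (ψ : C →ₗ[R] A))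
      (ψ' : C →ₗ[R] A) (fun p => h0 p) (fun p => by
        rw [Submodule.top_smul]; exact Submodule.mem_top)
      (CoalgebraStruct.comul (R := R) c)
    rw [Ideal.mul_top] at h1
    exact map_mem_smul_top (LinearMap.mul' R A) I h1
  have h3 : toConv (φ : C →ₐ[R] A) * (toConv (ψ : C →ₐ[R] A))⁻¹ = 1 := by
    rw [← hθa]
    apply WithConv.ofConv_injective
    apply AlgHom.ext
    intro c
    exact hθ1 c
  have h4 : toConv (φ : C →ₐ[R] A) = toConv (ψ : C →ₐ[R] A) := mul_inv_eq_one.mp h3
  have h5 : (φ : C →ₐ[R] A) = (ψ : C →ₐ[R] A) := WithConv.toConv_injective h4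
  ext c
  exact congrArg (fun f : C →ₐ[R] A => f c) h5

end TwoMaps

section Local2

variable {R : Type u} [CommRing R] [IsLocalRing R] {A : Type u} [CommRing A] [HopfAlgebra R A]
  {C : Type u} [CommRing C] [HopfAlgebra R C] [Coalgebra.IsCocomm R C]

theorem bialgHom_eq_of_local (hft : Algebra.FiniteType R A) (hH : IsMultType R A)
    (hC : IsNoetherianRing R ∨ Algebra.FiniteType R C) (φ ψ : C →ₐc[R] A)
    (hs : ∀ c : C, φ c - ψ c ∈ (IsLocalRing.maximalIdeal R) • (⊤ : Submodule R A)) : φ = ψ :=
  bialgHom_eq_of_trivial_principle (IsLocalRing.maximalIdeal R)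
    (fun θ hθ => bialgHom_trivial_of_local hft hH hC θ hθ) φ ψ hs

end Local2

end Groth.Agent.Lib.T2H8.LocRigid
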