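import Groth.Agent.Lib.T2H8LocRigidC
import Groth.Agent.Lib.Helper25MultQuot

/-!
# Closed subgroups of a group of multiplicative type over a local base (helper8)

* `isMultType_of_surjective_field`: over a field, a quotient Hopf algebra of a Hopf algebra of
  multiplicative type is of multiplicative type.
* `sub_counit_mem_sup_torsionIdeal`: if the closed fibre of `K = Spec (A/J) ⊆ H` is trivial, then
  `K ∩ ₙH` is trivial for all `n > 0`.
* `one_tmul_mk_eq_zero_of_field`: then all fibres of `K` are trivial.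
* `hopfIdeal_eq_augIdeal_of_fibre_trivial` (S5254).
-/

set_option autoImplicit false
universe u

namespace Groth.Agent.Lib.T2H8.LocSub

open TensorProduct SGA3b Coalgebra Groth.Agent.Lib.Helper25 Groth.Agent.Lib.Helper25.SubDiag
  Groth.Agent.Lib.T2H8.TorsDense Groth.Agent.Lib.Helper25.BCB

section Field

variable {k : Type u} [Field k] {A B : Type u} [CommRing A] [HopfAlgebra k A] [CommRing B]
  [HopfAlgebra k B]

theorem isMultType_of_surjective_field (f : A →ₐc[k] B) (hf : Function.Surjective f)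
    (h : IsMultType k A) : IsMultType k B := by
  obtain ⟨K, _, _, hD⟩ := exists_field_isDiag k A (isMultTypeConst_of_isMultType k A h)
  apply isMultType_of_isMultTypeConst
  apply isMultTypeConst_of_field_isDiag k B K
  apply HopfSub.isDiag_of_isDiagonalizable
  refine isDiagonalizable_of_surjective (Bialgebra.TensorProduct.map (BialgHom.id K K) f) ?_
    (isDiagonalizable_of_isDiag hD)
  intro y
  induction y using TensorProduct.induction_on with
  | zero => exact ⟨0, map_zero _⟩
  | tmul c b =>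
    obtain ⟨a, rfl⟩ := hf b
    exact ⟨c ⊗ₜ[k] a, rfl⟩
  | add x y hx hy =>
    obtain ⟨x', rfl⟩ := hx
    obtain ⟨y', rfl⟩ := hy
    exact ⟨x' + y', map_add _ _ _⟩

end Field

section AugProj

variable (R : Type u) [CommRing R] (A : Type u) [CommRing A] [Bialgebra R A]

/-- The projection of `A = R ⊕ ker ε` onto the augmentation ideal. -/
noncomputable def augProj : A →ₗ[R] A :=
  LinearMap.id - (Algebra.linearMap R A) ∘ₗ (counit (R := R) (A := A))

variable {R A}

theorem augProj_apply (a : A) : augProj R A a = a - algebraMap R A (counit (R := R) a) := rfl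

theorem counit_augProj (a : A) : counit (R := R) (augProj R A a) = 0 := by
  rw [augProj_apply, map_sub, Bialgebra.counit_algebraMap, sub_self]

theorem augProj_of_counit_eq_zero {a : A} (h : counit (R := R) a = 0) : augProj R A a = a := by
  rw [augProj_apply, h, map_zero, sub_zero]

/-- An element of `I • A` with trivial counit lies in `I • ker ε`. -/
theorem mem_smul_range_augProj (I : Ideal R) {y : A} (hy : y ∈ I • (⊤ : Submodule R A))
    (hε : counit (R := R) y = 0) : y ∈ I • LinearMap.range (augProj R A) := by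
  have h1 : augProj R A y ∈ (I • (⊤ : Submodule R A)).map (augProj R A) := ⟨y, hy, rfl⟩
  rw [Submodule.map_smul'', Submodule.map_top, augProj_of_counit_eq_zero hε] at h1
  exact h1

end AugProj

section Local

variable {R : Type u} [CommRing R] [IsLocalRing R] {A : Type u} [CommRing A] [HopfAlgebra R A]

theorem counit_eq_zero_of_mem_hopfIdeal (J : Ideal A) [J.IsHopfIdeal R] {x : A} (hx : x ∈ J) :
    counit (R := R) x = 0 := by
  have h : (J.restrictScalars R).IsCoideal := inferInstance
  exact h.counit_eq_zero hx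

/-- Decomposition of an element of the augmentation ideal when the closed fibre of `K` is
trivial. -/
theorem exists_decomp (J : Ideal A) [J.IsHopfIdeal R]
    (hs : RingHom.ker (Bialgebra.counitAlgHom R A) ≤
      J ⊔ Ideal.map (algebraMap R A) (IsLocalRing.maximalIdeal R))
    {x : A} (hx : counit (R := R) x = 0) :
    ∃ j ∈ J, ∃ y ∈ (IsLocalRing.maximalIdeal R) • (⊤ : Submodule R A),
      counit (R := R) y = 0 ∧ x = j + y := by
  have hx' : x ∈ RingHom.ker (Bialgebra.counitAlgHom R A) := hx
  obtain ⟨j, hj, y, hy, hjy⟩ := Submodule.mem_sup.mp (hs hx')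
  have hy' : y ∈ (IsLocalRing.maximalIdeal R) • (⊤ : Submodule R A) := by
    rw [Ideal.smul_top_eq_map]
    exact hy
  refine ⟨j, hj, y, hy', ?_, hjy.symm⟩
  have h1 : counit (R := R) (j + y) = 0 := by rw [hjy]; exact hx
  rw [map_add, counit_eq_zero_of_mem_hopfIdeal J hj, zero_add] at h1
  exact h1

theorem sub_counit_mem_sup_torsionIdeal (hft : Algebra.FiniteType R A) (hH : IsMultType R A)
    (J : Ideal A) [J.IsHopfIdeal R]
    (hs : RingHom.ker (Bialgebra.counitAlgHom R A) ≤
      J ⊔ Ideal.map (algebraMap R A) (IsLocalRing.maximalIdeal R))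
    (n : ℕ) (hn : 0 < n) (a : A) :
    a - algebraMap R A (counit (R := R) a) ∈ J ⊔ torsionIdeal R A n := by
  haveI : Coalgebra.IsCocomm R A := T2H8.Iso.isCocomm_of_cover (hasDiagCover_of_isMultType hH)
  set Jn := torsionIdeal R A n with hJn
  obtain ⟨-, hfin⟩ := Groth.Agent.Lib.Helper25.TorsQuot.torsion_quotient hft hH n hn Jn rfl
  set P : Ideal A := J ⊔ Jn with hP
  haveI : Module.Finite R (A ⧸ P) :=
    Module.Finite.of_surjective (Ideal.Quotient.factorₐ R (le_sup_right : Jn ≤ P)).toLinearMap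
      (Ideal.Quotient.factor_surjective (le_sup_right : Jn ≤ P))
  -- `A/P` is generated by `1`
  have hNak : (⊤ : Submodule R (A ⧸ P)) ≤ Submodule.span R {(1 : A ⧸ P)} := by
    refine Submodule.le_of_le_smul_of_le_jacobson_bot (I := IsLocalRing.maximalIdeal R)
      (Module.Finite.fg_top) ?_ ?_
    · rw [IsLocalRing.jacobson_eq_maximalIdeal ⊥ bot_ne_top]
    · rintro z -
      obtain ⟨b, rfl⟩ := Ideal.Quotient.mk_surjective z
      obtain ⟨j, hj, y, hy, -, hjy⟩ := exists_decomp J hs (counit_augProj (R := R) b)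
      have h1 : (Ideal.Quotient.mk P) b =
          counit (R := R) b • (1 : A ⧸ P) + (Ideal.Quotient.mk P) y := by
        have h2 : b = algebraMap R A (counit (R := R) b) + (j + y) := by
          rw [← hjy, augProj_apply]; ring
        conv_lhs => rw [h2]
        rw [map_add, map_add, Ideal.Quotient.eq_zero_iff_mem.mpr (le_sup_left (a := J) hj),
          zero_add, Algebra.smul_def, mul_one]
        rfl
      rw [h1]
      refine Submodule.add_mem_sup (Submodule.smul_mem _ _ (Submodule.subset_span rfl)) ?_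
      exact MRB.map_mem_smul_top (Ideal.Quotient.mkₐ R P).toLinearMap _ hy
  have hεP : ∀ x ∈ P, counit (R := R) x = 0 := by
    intro x hx
    obtain ⟨j, hj, y, hy, rfl⟩ := Submodule.mem_sup.mp hx
    rw [map_add, counit_eq_zero_of_mem_hopfIdeal J hj, counit_eq_zero_of_mem_hopfIdeal Jn hy,
      add_zero]
  obtain ⟨r, hr⟩ := Submodule.mem_span_singleton.mp (hNak (Submodule.mem_top :
    (Ideal.Quotient.mk P) a ∈ ⊤))
  have h3 : a - algebraMap R A r ∈ P := by
    rw [← Ideal.Quotient.eq_zero_iff_mem, map_sub, ← hr, Algebra.smul_def, mul_one]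
    exact sub_self _
  have h4 : counit (R := R) a = r := by
    have := hεP _ h3
    rw [map_sub, Bialgebra.counit_algebraMap, sub_eq_zero] at this
    exact this
  rw [h4]
  exact h3

theorem one_tmul_mk_eq_zero_of_field (hft : Algebra.FiniteType R A) (hH : IsMultType R A)
    (J : Ideal A) [J.IsHopfIdeal R]
    (hs : RingHom.ker (Bialgebra.counitAlgHom R A) ≤
      J ⊔ Ideal.map (algebraMap R A) (IsLocalRing.maximalIdeal R))
    (L : Type u) [Field L] [Algebra R L] {x : A} (hx : counit (R := R) x = 0) :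
    (1 : L) ⊗ₜ[R] (Ideal.Quotient.mk J x) = (0 : L ⊗[R] (A ⧸ J)) := by
  let π : A →ₐc[R] A ⧸ J := Bialgebra.Quotient.mkBialgHom (R := R) J
  have hπ : ∀ a : A, π a = Ideal.Quotient.mk J a := fun _ => rfl
  let πL : L ⊗[R] A →ₐc[L] L ⊗[R] (A ⧸ J) := Bialgebra.TensorProduct.map (BialgHom.id L L) π
  have hπL : Function.Surjective πL := by
    intro y
    induction y using TensorProduct.induction_on with
    | zero => exact ⟨0, map_zero _⟩
    | tmul c b =>
      obtain ⟨a, rfl⟩ := Ideal.Quotient.mk_surjective b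
      exact ⟨c ⊗ₜ[R] a, rfl⟩
    | add x y hx hy =>
      obtain ⟨x', rfl⟩ := hx
      obtain ⟨y', rfl⟩ := hy
      exact ⟨x' + y', map_add _ _ _⟩
  have hD : IsMultType L (L ⊗[R] (A ⧸ J)) :=
    isMultType_of_surjective_field πL hπL (T2H8.NilIso.isMultType_baseChange R A hH L)
  haveI : Algebra.FiniteType R (A ⧸ J) :=
    hft.of_surjective (Ideal.Quotient.mkₐ R J) (Ideal.Quotient.mkₐ_surjective R J)
  have hTD : TorsDense L (L ⊗[R] (A ⧸ J)) := torsDense_of_isMultType inferInstance hD
  have hcounit : ∀ (l : L) (a : A), algebraMap L (L ⊗[R] (A ⧸ J))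
      (counit (R := L) (l ⊗ₜ[R] (Ideal.Quotient.mk J a))) =
        l ⊗ₜ[R] (Ideal.Quotient.mk J (algebraMap R A (counit (R := R) a))) := by
    intro l a
    have h1 : counit (R := R) (Ideal.Quotient.mk J a) = counit (R := R) a :=
      CoalgHomClass.counit_comp_apply π a
    have h2 : Ideal.Quotient.mk J (algebraMap R A (counit (R := R) a)) =
        counit (R := R) a • (1 : A ⧸ J) := by
      rw [← Algebra.algebraMap_eq_smul_one]
      rfl
    rw [TensorProduct.counit_tmul, h1, Algebra.TensorProduct.algebraMap_apply, h2,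
      TensorProduct.tmul_smul, TensorProduct.smul_tmul']
    simp [CommSemiring.counit_apply]
  have key : ∀ n : ℕ, 0 < n → ∀ z : L ⊗[R] (A ⧸ J),
      z - algebraMap L (L ⊗[R] (A ⧸ J)) (counit (R := L) z) ∈
        torsionIdeal L (L ⊗[R] (A ⧸ J)) n := by
    intro n hn z
    induction z using TensorProduct.induction_on with
    | zero => simp
    | add x y hx hy =>
      have : x + y - algebraMap L (L ⊗[R] (A ⧸ J)) (counit (R := L) (x + y)) =
          (x - algebraMap L (L ⊗[R] (A ⧸ J)) (counit (R := L) x)) +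
            (y - algebraMap L (L ⊗[R] (A ⧸ J)) (counit (R := L) y)) := by
        rw [map_add, map_add]; ring
      rw [this]
      exact Ideal.add_mem _ hx hy
    | tmul l b =>
      obtain ⟨a, rfl⟩ := Ideal.Quotient.mk_surjective b
      rw [hcounit, ← TensorProduct.tmul_sub, ← map_sub]
      obtain ⟨j, hj, y, hy, hjy⟩ := Submodule.mem_sup.mp
        (sub_counit_mem_sup_torsionIdeal hft hH J hs n hn a)
      rw [← hjy, map_add, Ideal.Quotient.eq_zero_iff_mem.mpr hj, zero_add]
      have h1 : Ideal.Quotient.mk J y ∈ torsionIdeal R (A ⧸ J) n := by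
        rw [← hπ]
        exact Groth.Agent.Lib.Helper25.Tors.map_mem_torsionIdeal π n hy
      have h2 := Groth.Agent.Lib.Helper25.Tors.one_tmul_mem_torsionIdeal L n h1
      have h3 : l ⊗ₜ[R] (Ideal.Quotient.mk J y) =
          (l ⊗ₜ[R] (1 : A ⧸ J)) * ((1 : L) ⊗ₜ[R] (Ideal.Quotient.mk J y)) := by
        rw [Algebra.TensorProduct.tmul_mul_tmul, mul_one, one_mul]
      rw [h3]
      exact Ideal.mul_mem_left _ _ h2
  set z : L ⊗[R] (A ⧸ J) := (1 : L) ⊗ₜ[R] (Ideal.Quotient.mk J x) with hz
  obtain ⟨k, hk⟩ := hTD 1 (z - algebraMap L (L ⊗[R] (A ⧸ J)) (counit (R := L) z))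
    (fun n hn => ⟨0, by simpa using key n hn z⟩)
  rw [one_pow, one_mul, hz, hcounit, hx, map_zero, map_zero, TensorProduct.tmul_zero,
    sub_zero] at hk
  exact hk

/-- S5254: a closed subgroup, of finite presentation, of a group of multiplicative type and of
finite type over a local ring whose closed fibre is trivial is trivial. -/
theorem hopfIdeal_eq_augIdeal_of_fibre_trivial (hft : Algebra.FiniteType R A)
    (hH : IsMultType R A) (J : Ideal A) [J.IsHopfIdeal R]
    (hK : Algebra.FinitePresentation R (A ⧸ J))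
    (hs : J ⊔ Ideal.map (algebraMap R A) (IsLocalRing.maximalIdeal R) =
      RingHom.ker (Bialgebra.counitAlgHom R A) ⊔
        Ideal.map (algebraMap R A) (IsLocalRing.maximalIdeal R)) :
    J = RingHom.ker (Bialgebra.counitAlgHom R A) := by
  have hs' : RingHom.ker (Bialgebra.counitAlgHom R A) ≤
      J ⊔ Ideal.map (algebraMap R A) (IsLocalRing.maximalIdeal R) := by
    rw [hs]; exact le_sup_left
  refine le_antisymm (fun x hx => counit_eq_zero_of_mem_hopfIdeal J hx) ?_
  intro x hx
  have hx' : counit (R := R) x = 0 := hx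
  let π : A →ₐc[R] A ⧸ J := Bialgebra.Quotient.mkBialgHom (R := R) J
  have hεπ : ∀ a : A, counit (R := R) (Ideal.Quotient.mk J a) = counit (R := R) a :=
    fun a => CoalgHomClass.counit_comp_apply π a
  set εbar : (A ⧸ J) →ₐ[R] R := Bialgebra.counitAlgHom R (A ⧸ J) with hεbar
  have hεbar_apply : ∀ b : A ⧸ J, εbar b = counit (R := R) b := fun _ => rfl
  set 𝔫 : Ideal (A ⧸ J) := RingHom.ker εbar with h𝔫
  have hsurj : Function.Surjective εbar := fun r => ⟨algebraMap R (A ⧸ J) r, εbar.commutes r⟩
  haveI := hK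
  have h𝔫fg : 𝔫.FG := Algebra.FinitePresentation.ker_fG_of_surjective εbar hsurj
  set I' : Ideal (A ⧸ J) := Ideal.map (algebraMap R (A ⧸ J)) (IsLocalRing.maximalIdeal R) with hI'
  have hmk𝔫 : ∀ a : A, counit (R := R) a = 0 → Ideal.Quotient.mk J a ∈ 𝔫 := by
    intro a ha
    rw [h𝔫, RingHom.mem_ker, hεbar_apply, hεπ, ha]
  have h𝔫le : 𝔫 ≤ I' • 𝔫 := by
    intro b hb
    obtain ⟨a, rfl⟩ := Ideal.Quotient.mk_surjective b
    have ha : counit (R := R) a = 0 := by
      rw [← hεπ]; exact hb
    obtain ⟨j, hj, y, hy, hyε, rfl⟩ := exists_decomp J hs' ha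
    rw [map_add, Ideal.Quotient.eq_zero_iff_mem.mpr hj, zero_add]
    have hy2 := mem_smul_range_augProj _ hy hyε
    refine Submodule.smul_induction_on hy2 ?_ ?_
    · rintro r hr _ ⟨w, rfl⟩
      have e : Ideal.Quotient.mk J (r • augProj R A w) =
          algebraMap R (A ⧸ J) r • Ideal.Quotient.mk J (augProj R A w) := by
        rw [Algebra.smul_def, map_mul, smul_eq_mul]
        rfl
      rw [e]
      exact Submodule.smul_mem_smul (Ideal.mem_map_of_mem _ hr)
        (hmk𝔫 _ (counit_augProj (R := R) w))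
    · intro a b ha hb
      rw [map_add]
      exact Submodule.add_mem _ ha hb
  obtain ⟨c, hc1, hc0⟩ :=
    Submodule.exists_sub_one_mem_and_smul_eq_zero_of_fg_of_le_smul I' 𝔫 h𝔫fg h𝔫le
  -- `ε c` is a unit
  have hI'ε : I' ≤ Ideal.comap εbar (IsLocalRing.maximalIdeal R) := by
    rw [hI', Ideal.map_le_iff_le_comap]
    intro r hr
    rw [Ideal.mem_comap, Ideal.mem_comap]
    have : εbar (algebraMap R (A ⧸ J) r) = r := εbar.commutes r
    rw [this]
    exact hr
  have hu1 : εbar c - 1 ∈ IsLocalRing.maximalIdeal R := by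
    have := hI'ε hc1
    rwa [Ideal.mem_comap, map_sub, map_one] at this
  have hu : IsUnit (εbar c) := by
    by_contra hnu
    have h1 : εbar c ∈ IsLocalRing.maximalIdeal R := (IsLocalRing.mem_maximalIdeal _).mpr hnu
    have h2 : (1 : R) ∈ IsLocalRing.maximalIdeal R := by
      have := (IsLocalRing.maximalIdeal R).sub_mem h1 hu1
      simpa using this
    exact (IsLocalRing.maximalIdeal.isMaximal R).ne_top
      ((Ideal.eq_top_iff_one _).mpr h2)
  obtain ⟨v, hv⟩ := hu.exists_left_inv
  set f : A ⧸ J := 1 - algebraMap R (A ⧸ J) v * c with hf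
  have hf𝔫 : f ∈ 𝔫 := by
    rw [h𝔫, RingHom.mem_ker, hf, map_sub, map_one, map_mul, εbar.commutes]
    change (1 : R) - v * εbar c = 0
    rw [hv, sub_self]
  have hfn : ∀ n ∈ 𝔫, f * n = n := by
    intro n hn
    have := hc0 n hn
    rw [smul_eq_mul] at this
    rw [hf, sub_mul, one_mul, mul_assoc, this, mul_zero, sub_zero]
  have hfjac : f ∈ Ideal.jacobson (⊥ : Ideal (A ⧸ J)) := by
    rw [Ideal.jacobson, Ideal.mem_sInf]
    rintro 𝔮 ⟨-, hmax⟩
    haveI := hmax
    letI : Field ((A ⧸ J) ⧸ 𝔮) := Ideal.Quotient.field 𝔮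
    obtain ⟨af, haf⟩ := Ideal.Quotient.mk_surjective f
    have hafε : counit (R := R) af = 0 := by
      rw [← hεπ, haf]; exact hf𝔫
    have h0 := one_tmul_mk_eq_zero_of_field hft hH J hs' ((A ⧸ J) ⧸ 𝔮) hafε
    have h1 := congrArg (Algebra.TensorProduct.productMap (AlgHom.id R ((A ⧸ J) ⧸ 𝔮))
      (Ideal.Quotient.mkₐ R 𝔮)) h0
    rw [Algebra.TensorProduct.productMap_apply_tmul, map_one, one_mul, map_zero, haf] at h1
    exact Ideal.Quotient.eq_zero_iff_mem.mp h1
  have hf0 : f = 0 := by
    have h1 := Ideal.mem_jacobson_bot.mp hfjac (-1)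
    have h2 : (f * -1 + 1) * f = 0 := by
      have := hfn f hf𝔫
      calc (f * -1 + 1) * f = f - f * f := by ring
        _ = 0 := by rw [this, sub_self]
    exact h1.mul_right_eq_zero.mp h2
  have hxn := hfn _ (hmk𝔫 x hx')
  rw [hf0, zero_mul] at hxn
  exact Ideal.Quotient.eq_zero_iff_mem.mp hxn.symm

end Local

end Groth.Agent.Lib.T2H8.LocSub
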