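import Mathlib
import Groth.Prelude.Def_EtRestW
import Groth.Agent.Lib.T2H8LocTriv

/-!
# Maps of locally constant abelian sheaves are locally maps of constant sheaves
-/

set_option autoImplicit false
set_option linter.unusedSectionVars false
set_option linter.style.haveILetI false
universe u
open CategoryTheory CategoryTheory.Limits Opposite AlgebraicGeometry

namespace Groth.Agent.Lib.T2H8.LocTrivHom
open Groth.Agent.Lib.T2H8.FLC Groth.Agent.Lib.T2H8.LocTriv

variable {X : Scheme.{u}}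

/-- the pointwise statement -/
theorem local_at (F G : EtCoh.Ab X) (φ : F ⟶ G)
    (hF : EtCoh.IsFiniteLocallyConstant F) (hG : EtRest.IsLocallyConstant G) (x : X) :
    ∃ (Z : X.Etale) (z : Z.left), Z.hom.base z = x ∧
      ∃ (M N : AddCommGrpCat.{u + 1}) (_ : Finite M) (h : M ⟶ N)
        (t : M ⟶ F.obj.obj (op Z)) (s : N ⟶ G.obj.obj (op Z)),
        IsTriv F Z M t ∧ IsTriv G Z N s ∧ t ≫ φ.hom.app (op Z) = h ≫ s := by
  obtain ⟨ι, U, hU, hFU⟩ := hF
  obtain ⟨κ, V, hV, hGV⟩ := hG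
  obtain ⟨i, u, hu⟩ := hU x
  obtain ⟨j, v, hv⟩ := hV x
  obtain ⟨M₀, _, _, ⟨α⟩⟩ := hFU i
  obtain ⟨N₀, _, ⟨β⟩⟩ := hGV j
  obtain ⟨W, a, b, w, hwa, hwb⟩ := exists_common (U i) (V j) u v (hu.trans hv.symm)
  have ht0 := isTriv_of_iso F (U i) _ ((sheafToPresheaf _ _).mapIso α)
  have hs0 := isTriv_of_iso G (V j) _ ((sheafToPresheaf _ _).mapIso β)
  have ht := ht0.restrict F a
  have hs := hs0.restrict G b
  haveI : Finite (AddCommGrpCat.of (ULift.{u + 1} M₀)) := inferInstanceAs (Finite (ULift.{u + 1} M₀))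
  obtain ⟨Z, g, z, h, hz, heq⟩ := exists_hom_local φ ht hs w
  refine ⟨Z, z, ?_, _, _, inferInstance, h, _, _, ht.restrict F g, hs.restrict G g, heq⟩
  have e1 : Z.hom = g.left ≫ W.hom := (MorphismProperty.Over.w g).symm
  have e2 : W.hom = a.left ≫ (U i).hom := (MorphismProperty.Over.w a).symm
  rw [e1, e2]
  change (U i).hom.base (a.left.base (g.left.base z)) = x
  rw [hz, hwa, hu]

theorem main (F G : EtCoh.Ab X) (φ : F ⟶ G)
    (hF : EtCoh.IsFiniteLocallyConstant F) (hG : EtRest.IsLocallyConstant G) :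
    ∃ (ι : Type u) (U : ι → X.Etale), EtCoh.Covers U ∧ ∀ i, ∃ (M N : Type (u + 1)) (_ : AddCommGroup M) (_ : AddCommGroup N)
      (h : M →+ N)
      (α : EtCoh.restr F (U i) ≅ (constantSheaf (X.smallEtaleTopology.over (U i)) AddCommGrpCat.{u + 1}).obj (AddCommGrpCat.of M))
      (β : EtCoh.restr G (U i) ≅ (constantSheaf (X.smallEtaleTopology.over (U i)) AddCommGrpCat.{u + 1}).obj (AddCommGrpCat.of N)),
      (X.smallEtaleTopology.overPullback AddCommGrpCat.{u + 1} (U i)).map φ ≫ β.hom = α.hom ≫ (constantSheaf (X.smallEtaleTopology.over (U i)) AddCommGrpCat.{u + 1}).map (AddCommGrpCat.ofHom h) := by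
  choose Z z hz M N hM h t s ht hs heq using local_at F G φ hF hG
  refine ⟨X, Z, fun x => ⟨x, z x, hz x⟩, fun x => ?_⟩
  exact ⟨M x, N x, inferInstance, inferInstance, (h x).hom, isoOfTriv (ht x), isoOfTriv (hs x),
    isoOfTriv_comp φ (t x) (s x) (h x) (ht x) (hs x) (heq x)⟩

end Groth.Agent.Lib.T2H8.LocTrivHom
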