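import Mathlib
import Groth.Agent.Lib.Helper9EtFpH
import Groth.Agent.Lib.T2H8GalCohDim

/-!
# Cohomology of a torsion sheaf on a qcqs scheme is torsion
-/

set_option autoImplicit false
set_option linter.unusedSectionVars false
set_option linter.style.haveILetI false
universe u
open CategoryTheory CategoryTheory.Limits Opposite AlgebraicGeometry Abelian ZeroObject

namespace Groth.Agent.Lib.T2H8.TorsionCoh

open Groth.Agent.Lib.T2H8.EtTrace Groth.Agent.Lib.T2H8.GalCohDim

variable {X : Scheme.{u}}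

section Seq

variable (T : EtCoh.Ab X)

/-- the sequence `T → T → T → ⋯` with transition maps `(n+1)!` -/
noncomputable def seq : ℕ ⥤ EtCoh.Ab X :=
  Functor.ofSequence (X := fun _ => T) (fun n => (n + 1).factorial • 𝟙 T)

lemma seq_obj (n : ℕ) : (seq T).obj n = T := rfl

lemma seq_map_succ (n : ℕ) :
    (seq T).map (homOfLE (Nat.le_add_right n 1)) = (n + 1).factorial • 𝟙 T :=
  Functor.ofSequence_map_homOfLE_succ _ n

/-- all transition maps are multiplication by a positive integer -/
lemma seq_map_zero (m : ℕ) : ∃ c : ℕ, 0 < c ∧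
    (seq T).map (homOfLE (Nat.zero_le m)) = c • 𝟙 T := by
  induction m with
  | zero =>
    refine ⟨1, one_pos, ?_⟩
    rw [one_smul]
    exact (seq T).map_id 0
  | succ m ih =>
    obtain ⟨c, hc, h⟩ := ih
    refine ⟨c * (m + 1).factorial, Nat.mul_pos hc (Nat.factorial_pos _), ?_⟩
    have h1 : homOfLE (Nat.zero_le (m + 1)) =
        homOfLE (Nat.zero_le m) ≫ homOfLE (Nat.le_add_right m 1) := Subsingleton.elim _ _
    rw [h1, Functor.map_comp, h, seq_map_succ]
    change (c • 𝟙 T) ≫ ((m + 1).factorial • 𝟙 T) = _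
    rw [Preadditive.nsmul_comp, Preadditive.comp_nsmul, Category.id_comp, ← mul_smul]

variable {T}

/-- a cocone under the sequence kills all sections when `T` is torsion -/
lemma cocone_ι_eq_zero (hT : EtCoh.IsTorsion T) (s : Cocone (seq T)) (n : ℕ) :
    s.ι.app n = 0 := by
  let c : ℕ → (T ⟶ s.pt) := fun n => s.ι.app n
  have hc : ∀ n, ((n + 1).factorial • 𝟙 T) ≫ c (n + 1) = c n := fun n => by
    have hw := s.w (homOfLE (Nat.le_add_right n 1))
    rw [seq_map_succ] at hw
    exact hw
  have hstep : ∀ (n : ℕ) (V : X.Etaleᵒᵖ) (t : T.obj.obj V),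
      (c n).hom.app V t = (c (n + 1)).hom.app V ((n + 1).factorial • t) := by
    intro n V t
    rw [← hc n]
    change (c (n + 1)).hom.app V (((n + 1).factorial • 𝟙 T).hom.app V t) = _
    rw [nsmul_hom_app_apply]
    rfl
  -- sections killed by `N` die at every stage
  have key : ∀ (N : ℕ), 0 < N → ∀ (d n : ℕ), N ≤ n + 1 + d → ∀ (V : X.Etaleᵒᵖ)
      (t : T.obj.obj V), N • t = 0 → (c n).hom.app V t = 0 := by
    intro N hN d
    induction d with
    | zero =>
      intro n hn V t ht
      rw [hstep]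
      have hdvd : N ∣ (n + 1).factorial := Nat.dvd_factorial hN (by omega)
      obtain ⟨k, hk⟩ := hdvd
      have : (n + 1).factorial • t = 0 := by
        rw [hk, mul_comm, mul_smul, ht, smul_zero]
      rw [this, map_zero]
    | succ d ih =>
      intro n hn V t ht
      rw [hstep]
      apply ih (n + 1) (by omega)
      rw [smul_comm, ht, smul_zero]
  change c n = 0
  apply Sheaf.hom_ext
  ext V t
  obtain ⟨V⟩ := V
  change (c n).hom.app (op V) t = 0
  apply Groth.Agent.Lib.T2H8.Excision.eq_of_locally_eq s.pt _ 0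
  intro x
  obtain ⟨W, g, hw, hfin⟩ := hT V t x
  refine ⟨W, g, hw, ?_⟩
  rw [isOfFinAddOrder_iff_nsmul_eq_zero] at hfin
  obtain ⟨N, hN, hNt⟩ := hfin
  rw [map_zero]
  have h1 := NatTrans.naturality_apply (c n).hom g.op t
  refine h1.symm.trans ?_
  exact key N hN N n (by omega) _ _ hNt

/-- the zero cocone is a colimit of the sequence when `T` is torsion -/
noncomputable def isColimitZero (hT : EtCoh.IsTorsion T) :
    IsColimit ({ pt := (0 : EtCoh.Ab X), ι := 0 } : Cocone (seq T)) where
  desc s := 0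
  fac s n := by
    rw [cocone_ι_eq_zero hT s n]
    exact zero_comp
  uniq s m _ := (isZero_zero _).eq_of_src _ _

end Seq

section Coh

variable [CompactSpace X] [QuasiSeparatedSpace X]

lemma preservesColimitsOfShape_nat_HF (p : ℕ) :
    PreservesColimitsOfShape ℕ (EtCoh.HF X p) := by
  haveI : PreservesFilteredColimitsOfSize.{u, u} (EtCoh.HF X p) :=
    ⟨fun J _ _ => Groth.Agent.Lib.Helper9.EtFp.preservesColimitsOfShape_HF' X p J⟩
  haveI : PreservesFilteredColimitsOfSize.{0, 0} (EtCoh.HF X p) :=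
    preservesSmallestFilteredColimits_of_preservesFilteredColimits _
  exact PreservesFilteredColimitsOfSize.preserves_filtered_colimits ℕ

lemma H_zero_eq_zero (p : ℕ) (x : EtCoh.H X (0 : EtCoh.Ab X) p) : x = 0 := by
  have h1 := Sheaf.H.map_id_apply (F := (0 : EtCoh.Ab X)) (n := p) x
  have h2 : 𝟙 (0 : EtCoh.Ab X) = 0 := (isZero_zero _).eq_of_src _ _
  rw [h2, Sheaf.H.map_apply, Abelian.Ext.mk₀_zero, Abelian.Ext.comp_zero] at h1
  exact h1.symm

/-- on a qcqs scheme, the cohomology of a torsion sheaf is torsion -/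
theorem exists_nsmul_eq_zero_of_isTorsion (T : EtCoh.Ab X) (hT : EtCoh.IsTorsion T) (p : ℕ)
    (γ : EtCoh.H X T p) : ∃ d : ℕ, 0 < d ∧ d • γ = 0 := by
  haveI := preservesColimitsOfShape_nat_HF (X := X) p
  have hc := isColimitOfPreserves (EtCoh.HF X p) (isColimitZero hT)
  haveI : PreservesFilteredColimitsOfSize.{0, 0} (forget AddCommGrpCat.{u + 1}) :=
    preservesSmallestFilteredColimits_of_preservesFilteredColimits _
  have h0 : ((EtCoh.HF X p).mapCocone ({ pt := (0 : EtCoh.Ab X), ι := 0 } : Cocone (seq T))).ι.app 0 γ =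
      ((EtCoh.HF X p).mapCocone ({ pt := (0 : EtCoh.Ab X), ι := 0 } : Cocone (seq T))).ι.app 0
        (0 : EtCoh.H X T p) :=
    (H_zero_eq_zero p _).trans (H_zero_eq_zero p _).symm
  obtain ⟨k, f, g, hfg⟩ := Concrete.isColimit_exists_of_rep_eq (seq T ⋙ EtCoh.HF X p) hc
    (i := 0) (j := 0) γ (0 : EtCoh.H X T p) h0
  obtain ⟨c, hcpos, hmap⟩ := seq_map_zero T k
  refine ⟨c, hcpos, ?_⟩
  have h1 : (seq T ⋙ EtCoh.HF X p).map f γ = c • γ := by
    rw [Subsingleton.elim f (homOfLE (Nat.zero_le k))]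
    change Sheaf.H.map ((seq T).map (homOfLE (Nat.zero_le k))) p γ = _
    rw [hmap]
    exact Hmap_nsmul_id T p γ c
  rw [← h1, hfg]
  exact map_zero _

end Coh

end Groth.Agent.Lib.T2H8.TorsionCoh
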