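import Mathlib
import Groth.Agent.Lib.T2H8TorsionCoh
import Groth.Agent.Lib.T2H8Excision

set_option autoImplicit false
set_option linter.unusedSectionVars false
set_option linter.style.haveILetI false
universe u
open CategoryTheory CategoryTheory.Limits Opposite AlgebraicGeometry Abelian ZeroObject

namespace Groth.Agent.Lib.T2H8.LocalizedCoh

open Groth.Agent.Lib.T2H8.EtTrace Groth.Agent.Lib.T2H8.GalCohDim
open Groth.Agent.Lib.Helper16.SmallEtale

section Alg

lemma zsmul_eq_zero_of_natAbs {M : Type*} [AddCommGroup M] (s : ℤ) (x : M)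
    (h : s.natAbs • x = 0) : s • x = 0 := by
  rcases Int.natAbs_eq s with h1 | h1
  · rw [h1, natCast_zsmul]; exact h
  · rw [h1, neg_smul, natCast_zsmul, h, neg_zero]

lemma natAbs_nsmul_eq_zero {M : Type*} [AddCommGroup M] (s : ℤ) (x : M)
    (h : s • x = 0) : s.natAbs • x = 0 := by
  rw [← natCast_zsmul]
  rcases Int.natAbs_eq s with h1 | h1
  · rw [← h1]; exact h
  · have : ((s.natAbs : ℕ) : ℤ) = -s := by omega
    rw [this, neg_smul, h, neg_zero]

lemma bijective_natAbs_nsmul {M : Type*} [AddCommGroup M] (s : ℤ)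
    (h : Function.Bijective (fun t : M => s • t)) : Function.Bijective (fun t : M => s.natAbs • t) := by
  rcases Int.natAbs_eq s with h1 | h1
  · have : (fun t : M => s.natAbs • t) = fun t : M => s • t := by
      funext t
      rw [← natCast_zsmul, ← h1]
    rw [this]; exact h
  · have : (fun t : M => s.natAbs • t) = (fun t : M => -t) ∘ fun t : M => s • t := by
      funext t
      have h2 : ((s.natAbs : ℕ) : ℤ) = -s := by omega
      change s.natAbs • t = -(s • t)
      rw [← natCast_zsmul, h2, neg_smul]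
    rw [this]
    exact (neg_involutive.bijective).comp h

lemma bijective_zsmul_of_natAbs {M : Type*} [AddCommGroup M] (s : ℤ)
    (h : Function.Bijective (fun t : M => s.natAbs • t)) : Function.Bijective (fun t : M => s • t) := by
  rcases Int.natAbs_eq s with h1 | h1
  · have : (fun t : M => s • t) = fun t : M => s.natAbs • t := by
      funext t
      change s • t = s.natAbs • t
      rw [← natCast_zsmul, ← h1]
    rw [this]; exact h
  · have : (fun t : M => s • t) = (fun t : M => -t) ∘ fun t : M => s.natAbs • t := by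
      funext t
      change s • t = -(s.natAbs • t)
      rw [← natCast_zsmul, ← neg_smul, ← h1]
    rw [this]
    exact (neg_involutive.bijective).comp h

end Alg

section Abstract

universe w v u₁
variable {C : Type u₁} [Category.{v} C] [Abelian C] [HasExt.{w} C]

/-- all `Ext^n(A, M)` are `S`-torsion -/
def ExtTors (S : Submonoid ℤ) (A M : C) : Prop :=
  ∀ (n : ℕ) (x : Ext.{w} A M n), ∃ s ∈ S, s • x = 0

variable {S : Submonoid ℤ} {A : C}

lemma comp_mk₀_zsmul {M N : C} (f : M ⟶ N) {n : ℕ} (x : Ext.{w} A M n) (s : ℤ) :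
    (s • x).comp (Ext.mk₀ f) (add_zero n) = s • x.comp (Ext.mk₀ f) (add_zero n) :=
  map_zsmul ((Ext.mk₀ f).postcomp A (add_zero n)) s x

lemma comp_ext_zsmul {M N : C} {n m p : ℕ} (β : Ext.{w} M N m) (h : n + m = p) (x : Ext.{w} A M n)
    (s : ℤ) : (s • x).comp β h = s • x.comp β h :=
  map_zsmul (β.postcomp A h) s x

/-- abstract chase: if the kernel of `F ↠ im φ` and the cokernel of `φ` have `S`-torsion Ext groups,
then `Ext^n(A, F) → Ext^n(A, G)` has `S`-torsion kernel and cokernel. -/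
theorem chase {F G : C} (φ : F ⟶ G)
    (hK : ExtTors.{w} S A (kernel (Abelian.factorThruImage φ)))
    (hC : ExtTors.{w} S A (cokernel φ)) (n : ℕ) :
    (∀ y : Ext.{w} A G n, ∃ s ∈ S, ∃ x : Ext.{w} A F n, s • y = x.comp (Ext.mk₀ φ) (add_zero n)) ∧
    (∀ x : Ext.{w} A F n, x.comp (Ext.mk₀ φ) (add_zero n) = 0 → ∃ s ∈ S, s • x = 0) := by
  let e := Abelian.factorThruImage φ
  let m := Abelian.image.ι φ
  have hfac : e ≫ m = φ := Abelian.image.fac φ
  let S1 : ShortComplex C := ShortComplex.mk (kernel.ι e) e (kernel.condition e)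
  have hS1 : S1.ShortExact :=
    { exact := ShortComplex.exact_kernel e
      mono_f := inferInstanceAs (Mono (kernel.ι e))
      epi_g := inferInstanceAs (Epi e) }
  let S2 : ShortComplex C := ShortComplex.mk (kernel.ι (cokernel.π φ)) (cokernel.π φ)
    (kernel.condition _)
  have hS2 : S2.ShortExact :=
    { exact := ShortComplex.exact_kernel _
      mono_f := inferInstanceAs (Mono (kernel.ι (cokernel.π φ)))
      epi_g := inferInstanceAs (Epi (cokernel.π φ)) }
  have hφ : ∀ x : Ext.{w} A F n, x.comp (Ext.mk₀ φ) (add_zero n) =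
      (x.comp (Ext.mk₀ e) (add_zero n)).comp (Ext.mk₀ m) (add_zero n) := by
    intro x
    rw [Ext.comp_assoc_of_third_deg_zero, Ext.mk₀_comp_mk₀, hfac]
  constructor
  · intro y
    obtain ⟨s, hs, hsy⟩ := hC n (y.comp (Ext.mk₀ (cokernel.π φ)) (add_zero n))
    rw [← comp_mk₀_zsmul] at hsy
    obtain ⟨z, hz⟩ := Ext.covariant_sequence_exact₂ A hS2 (s • y) hsy
    obtain ⟨s', hs', hs'z⟩ := hK (n + 1) (z.comp hS1.extClass rfl)
    rw [← comp_ext_zsmul] at hs'z
    obtain ⟨x, hx⟩ := Ext.covariant_sequence_exact₃ A hS1 (s' • z) rfl hs'z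
    refine ⟨s' * s, S.mul_mem hs' hs, x, ?_⟩
    rw [hφ, show x.comp (Ext.mk₀ e) (add_zero n) = s' • z from hx, comp_mk₀_zsmul,
      show z.comp (Ext.mk₀ m) (add_zero n) = s • y from hz, mul_smul]
  · intro x hx
    rw [hφ] at hx
    have h1 : ∃ s ∈ S, s • x.comp (Ext.mk₀ e) (add_zero n) = 0 := by
      rcases n with _ | k
      · refine ⟨1, S.one_mem, ?_⟩
        rw [one_smul]
        haveI : Mono m := inferInstanceAs (Mono (Abelian.image.ι φ))
        apply Ext.postcomp_mk₀_injective_of_mono A m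
        rw [map_zero]
        exact hx
      · obtain ⟨w, hw⟩ := Ext.covariant_sequence_exact₁ A hS2
          (x.comp (Ext.mk₀ e) (add_zero (k + 1))) hx rfl
        obtain ⟨s, hs, hsw⟩ := hC k w
        refine ⟨s, hs, ?_⟩
        rw [← hw, ← comp_ext_zsmul, hsw, Ext.zero_comp]
    obtain ⟨s, hs, hsx⟩ := h1
    rw [← comp_mk₀_zsmul] at hsx
    obtain ⟨v, hv⟩ := Ext.covariant_sequence_exact₂ A hS1 (s • x) hsx
    obtain ⟨s', hs', hs'v⟩ := hK n v
    refine ⟨s' * s, S.mul_mem hs' hs, ?_⟩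
    rw [mul_smul, ← hv, ← comp_mk₀_zsmul, hs'v, Ext.zero_comp]

end Abstract

variable {X : Scheme.{u}} (S : Submonoid ℤ)

/-- the sheaf `T` is `S`-torsion: every section is étale locally killed by some `s ∈ S` -/
def IsSTorsion (T : EtCoh.Ab X) : Prop :=
  ∀ (V : X.Etale) (t : T.obj.obj (op V)) (x : V.left), ∃ (W : X.Etale) (g : W ⟶ V),
    (∃ w : W.left, g.left.base w = x) ∧ ∃ s ∈ S, s.natAbs • T.obj.map g.op t = 0

section Seq

open Classical in
/-- the product of the elements of `S` of absolute value at most `n` -/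
noncomputable def cS (n : ℕ) : ℤ :=
  ∏ k ∈ (Finset.Icc (-(n : ℤ)) n).filter (· ∈ S), k

lemma cS_mem (n : ℕ) : cS S n ∈ S := by
  classical
  unfold cS
  apply Submonoid.prod_mem
  intro k hk
  exact (Finset.mem_filter.mp hk).2

lemma dvd_cS {s : ℤ} (hs : s ∈ S) {n : ℕ} (h : s.natAbs ≤ n) : s ∣ cS S n := by
  classical
  unfold cS
  apply Finset.dvd_prod_of_mem
  rw [Finset.mem_filter, Finset.mem_Icc]
  refine ⟨⟨?_, ?_⟩, hs⟩ <;> omega

variable (T : EtCoh.Ab X)

/-- the sequence `T → T → T → ⋯` with transition maps `|cS n|` -/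
noncomputable def seq : ℕ ⥤ EtCoh.Ab X :=
  Functor.ofSequence (X := fun _ => T) (fun n => (cS S n).natAbs • 𝟙 T)

lemma seq_map_succ (n : ℕ) :
    (seq S T).map (homOfLE (Nat.le_add_right n 1)) = (cS S n).natAbs • 𝟙 T :=
  Functor.ofSequence_map_homOfLE_succ _ n

lemma seq_map_zero (m : ℕ) : ∃ c ∈ S,
    (seq S T).map (homOfLE (Nat.zero_le m)) = c.natAbs • 𝟙 T := by
  induction m with
  | zero =>
    refine ⟨1, S.one_mem, ?_⟩
    rw [Int.natAbs_one, one_smul]
    exact (seq S T).map_id 0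
  | succ m ih =>
    obtain ⟨c, hc, h⟩ := ih
    refine ⟨c * cS S m, S.mul_mem hc (cS_mem S m), ?_⟩
    have h1 : homOfLE (Nat.zero_le (m + 1)) =
        homOfLE (Nat.zero_le m) ≫ homOfLE (Nat.le_add_right m 1) := Subsingleton.elim _ _
    rw [h1, Functor.map_comp, h, seq_map_succ]
    change (c.natAbs • 𝟙 T) ≫ ((cS S m).natAbs • 𝟙 T) = _
    rw [Preadditive.nsmul_comp, Preadditive.comp_nsmul, Category.id_comp, ← mul_smul,
      Int.natAbs_mul]

variable {T}

lemma cocone_ι_eq_zero (hT : IsSTorsion S T) (s : Cocone (seq S T)) (n : ℕ) :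
    s.ι.app n = 0 := by
  let c : ℕ → (T ⟶ s.pt) := fun n => s.ι.app n
  have hc : ∀ n, ((cS S n).natAbs • 𝟙 T) ≫ c (n + 1) = c n := fun n => by
    have hw := s.w (homOfLE (Nat.le_add_right n 1))
    rw [seq_map_succ] at hw
    exact hw
  have hstep : ∀ (n : ℕ) (V : X.Etaleᵒᵖ) (t : T.obj.obj V),
      (c n).hom.app V t = (c (n + 1)).hom.app V ((cS S n).natAbs • t) := by
    intro n V t
    rw [← hc n]
    change (c (n + 1)).hom.app V (((cS S n).natAbs • 𝟙 T).hom.app V t) = _
    rw [nsmul_hom_app_apply]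
    rfl
  have key : ∀ (σ : ℤ), σ ∈ S → ∀ (d n : ℕ), σ.natAbs ≤ n + d → ∀ (V : X.Etaleᵒᵖ)
      (t : T.obj.obj V), σ.natAbs • t = 0 → (c n).hom.app V t = 0 := by
    intro σ hσ d
    induction d with
    | zero =>
      intro n hn V t ht
      rw [hstep]
      have hdvd : σ.natAbs ∣ (cS S n).natAbs :=
        Int.natAbs_dvd_natAbs.mpr (dvd_cS S hσ (by omega))
      obtain ⟨k, hk⟩ := hdvd
      have : (cS S n).natAbs • t = 0 := by
        rw [hk, mul_comm, mul_smul, ht, smul_zero]
      rw [this, map_zero]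
    | succ d ih =>
      intro n hn V t ht
      rw [hstep]
      apply ih (n + 1) (by omega)
      rw [smul_comm, ht, smul_zero]
  change c n = 0
  apply Sheaf.hom_ext
  ext V t
  obtain ⟨V⟩ := V
  change (c n).hom.app (op V) t = 0
  apply Groth.Agent.Lib.T2H8.Excision.eq_of_locally_eq s.pt _ 0
  intro x
  obtain ⟨W, g, hw, σ, hσ, hσt⟩ := hT V t x
  refine ⟨W, g, hw, ?_⟩
  rw [map_zero]
  have h1 := NatTrans.naturality_apply (c n).hom g.op t
  refine h1.symm.trans ?_
  exact key σ hσ σ.natAbs n (by omega) _ _ hσt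

/-- the zero cocone is a colimit of the sequence when `T` is `S`-torsion -/
noncomputable def isColimitZero (hT : IsSTorsion S T) :
    IsColimit ({ pt := (0 : EtCoh.Ab X), ι := 0 } : Cocone (seq S T)) where
  desc s := 0
  fac s n := by
    rw [cocone_ι_eq_zero S hT s n]
    exact zero_comp
  uniq s m _ := (isZero_zero _).eq_of_src _ _

end Seq


section Sheaf

variable {S}

lemma injective_app_of_mono {F G : EtCoh.Ab X} (a : F ⟶ G) [Mono a] (U : X.Etaleᵒᵖ) :
    Function.Injective (a.hom.app U) := by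
  haveI : Mono a.hom := (Sheaf.Hom.mono_iff_presheaf_mono _ _ a).mp inferInstance
  haveI : Mono (a.hom.app U) := inferInstance
  exact (AddCommGrpCat.mono_iff_injective _).mp inferInstance

set_option backward.isDefEq.respectTransparency.types false in
lemma exists_affine_refinement (U : X.Etale) (x : U.left) :
    ∃ (V : X.Etale) (i : V ⟶ U), IsAffine V.left ∧ ∃ v : V.left, i.left.base v = x := by
  obtain ⟨_, ⟨W₀, hW₀, rfl⟩, hxW, -⟩ := (U.left.isBasis_affineOpens).exists_subset_of_mem_open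
    (Set.mem_univ x) isOpen_univ
  let W' : U.left.Opens := W₀
  have hW' : IsAffineOpen W' := hW₀
  let V : X.Etale := Scheme.Etale.mk (W'.ι ≫ U.hom)
  let i : V ⟶ U := MorphismProperty.Over.homMk W'.ι rfl
  exact ⟨V, i, hW', ⟨x, hxW⟩, rfl⟩

variable {F G : EtCoh.Ab X} (φ : F ⟶ G)
  (hφ : ∀ U : X.Etale, IsAffine U.left →
    IsLocalizedModule S (φ.hom.app (op U)).hom.toIntLinearMap)

include hφ

set_option backward.isDefEq.respectTransparency.types false in
/-- a subsheaf of `F` killed by `φ` is `S`-torsion -/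
lemma isSTorsion_of_mono_comp_eq_zero {K : EtCoh.Ab X} (k : K ⟶ F) [Mono k] (hk : k ≫ φ = 0) :
    IsSTorsion S K := by
  intro V t x
  obtain ⟨W, i, hW, hw⟩ := exists_affine_refinement V x
  refine ⟨W, i, hw, ?_⟩
  haveI := hφ W hW
  have h0 : φ.hom.app (op W) (k.hom.app (op W) (K.obj.map i.op t)) = 0 :=
    congrArg (fun m : K ⟶ G => m.hom.app (op W) (K.obj.map i.op t)) hk
  have h1 : (φ.hom.app (op W)).hom.toIntLinearMap (k.hom.app (op W) (K.obj.map i.op t)) =
      (φ.hom.app (op W)).hom.toIntLinearMap 0 := by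
    rw [map_zero]
    exact h0
  obtain ⟨c, hc⟩ := IsLocalizedModule.exists_of_eq (S := S) h1
  refine ⟨c.1, c.2, ?_⟩
  apply injective_app_of_mono k (op W)
  rw [map_nsmul, map_zero]
  apply natAbs_nsmul_eq_zero
  rw [smul_zero] at hc
  exact hc

set_option backward.isDefEq.respectTransparency.types false in
/-- the cokernel of `φ` is `S`-torsion -/
lemma isSTorsion_cokernel : IsSTorsion S (cokernel φ) := by
  intro V t x
  let π : G ⟶ cokernel φ := cokernel.π φ
  have hls : Sheaf.IsLocallySurjective π :=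
    (Sheaf.isLocallySurjective_iff_epi' _ π).2 inferInstance
  have hmem := Presheaf.imageSieve_mem X.smallEtaleTopology π.hom (U := op V) t
  rw [mem_smallEtale_iff] at hmem
  obtain ⟨V₁, g₁, y, ⟨t₁, ht₁⟩, hy⟩ := hmem x
  obtain ⟨W, i, hW, ⟨v, hv⟩⟩ := exists_affine_refinement V₁ y
  haveI := hφ W hW
  refine ⟨W, i ≫ g₁, ⟨v, ?_⟩, ?_⟩
  · change g₁.left.base (i.left.base v) = x
    rw [hv]
    exact hy
  obtain ⟨⟨a, c⟩, hac⟩ := IsLocalizedModule.surj S (φ.hom.app (op W)).hom.toIntLinearMap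
    (G.obj.map i.op t₁)
  refine ⟨c.1, c.2, ?_⟩
  have h1 : (cokernel φ).obj.map (i ≫ g₁).op t = π.hom.app (op W) (G.obj.map i.op t₁) := by
    rw [Groth.Agent.Lib.T2H8.Excision.map_comp_apply]
    have h2 : π.hom.app (op V₁) t₁ = (cokernel φ).obj.map g₁.op t := ht₁
    rw [← h2]
    exact (NatTrans.naturality_apply π.hom i.op t₁).symm
  rw [h1, ← map_nsmul]
  have h3 : (c.1 : ℤ) • G.obj.map i.op t₁ = φ.hom.app (op W) a := hac
  have h4 : π.hom.app (op W) ((c.1 : ℤ) • G.obj.map i.op t₁) = 0 := by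
    rw [h3]
    exact congrArg (fun m : F ⟶ cokernel φ => m.hom.app (op W) a) (cokernel.condition φ)
  rw [map_zsmul] at h4
  rw [map_nsmul]
  exact natAbs_nsmul_eq_zero _ _ h4

set_option backward.isDefEq.respectTransparency.types false in
/-- every `s ∈ S` acts invertibly on `G` -/
lemma isIso_natAbs_nsmul {s : ℤ} (hs : s ∈ S) : IsIso (s.natAbs • 𝟙 G) := by
  have happ : ∀ (V : X.Etaleᵒᵖ) (t : G.obj.obj V),
      (s.natAbs • 𝟙 G).hom.app V t = s.natAbs • t := by
    intro V t
    rw [nsmul_hom_app_apply]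
    rfl
  have hbij : ∀ W : X.Etale, IsAffine W.left →
      Function.Bijective (fun t : G.obj.obj (op W) => s.natAbs • t) := by
    intro W hW
    haveI := hφ W hW
    apply bijective_natAbs_nsmul
    have hu := IsLocalizedModule.map_units (φ.hom.app (op W)).hom.toIntLinearMap ⟨s, hs⟩
    have hb := (Module.End.isUnit_iff _).mp hu
    exact hb
  haveI : Mono (s.natAbs • 𝟙 G) := by
    haveI : ∀ V : X.Etaleᵒᵖ, Mono ((s.natAbs • 𝟙 G).hom.app V) := by
      intro V
      obtain ⟨V⟩ := V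
      rw [AddCommGrpCat.mono_iff_injective]
      rw [injective_iff_map_eq_zero]
      intro t ht
      rw [happ] at ht
      apply Groth.Agent.Lib.T2H8.Excision.eq_of_locally_eq G _ 0
      intro x
      obtain ⟨W, i, hW, hw⟩ := exists_affine_refinement V x
      refine ⟨W, i, hw, ?_⟩
      rw [map_zero]
      apply (hbij W hW).1
      change s.natAbs • G.obj.map i.op t = s.natAbs • 0
      rw [← map_nsmul, ht, map_zero, smul_zero]
    haveI : Mono (s.natAbs • 𝟙 G).hom := NatTrans.mono_of_mono_app _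
    exact Sheaf.Hom.mono_of_presheaf_mono _ _ _
  haveI : Epi (s.natAbs • 𝟙 G) := by
    rw [← Sheaf.isLocallySurjective_iff_epi']
    constructor
    intro V t
    rw [mem_smallEtale_iff]
    intro x
    obtain ⟨W, i, hW, ⟨w, hw⟩⟩ := exists_affine_refinement V x
    refine ⟨W, i, w, ?_, hw⟩
    obtain ⟨t', ht'⟩ := (hbij W hW).2 (G.obj.map i.op t)
    exact ⟨t', (happ _ _).trans ht'⟩
  exact isIso_of_mono_of_epi _

end Sheaf

section Coh

variable [CompactSpace X] [QuasiSeparatedSpace X]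

open Groth.Agent.Lib.T2H8.TorsionCoh in
/-- on a qcqs scheme, the cohomology of an `S`-torsion sheaf is `S`-torsion -/
theorem exists_zsmul_eq_zero_of_isSTorsion (T : EtCoh.Ab X) (hT : IsSTorsion S T) (p : ℕ)
    (γ : EtCoh.H X T p) : ∃ s ∈ S, s • γ = 0 := by
  haveI := preservesColimitsOfShape_nat_HF (X := X) p
  have hc := isColimitOfPreserves (EtCoh.HF X p) (isColimitZero S hT)
  haveI : PreservesFilteredColimitsOfSize.{0, 0} (forget AddCommGrpCat.{u + 1}) :=
    preservesSmallestFilteredColimits_of_preservesFilteredColimits _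
  have h0 : ((EtCoh.HF X p).mapCocone ({ pt := (0 : EtCoh.Ab X), ι := 0 } : Cocone (seq S T))).ι.app 0 γ =
      ((EtCoh.HF X p).mapCocone ({ pt := (0 : EtCoh.Ab X), ι := 0 } : Cocone (seq S T))).ι.app 0
        (0 : EtCoh.H X T p) :=
    (H_zero_eq_zero p _).trans (H_zero_eq_zero p _).symm
  obtain ⟨k, f, g, hfg⟩ := Concrete.isColimit_exists_of_rep_eq (seq S T ⋙ EtCoh.HF X p) hc
    (i := 0) (j := 0) γ (0 : EtCoh.H X T p) h0
  obtain ⟨c, hcS, hmap⟩ := seq_map_zero S T k
  refine ⟨c, hcS, zsmul_eq_zero_of_natAbs c γ ?_⟩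
  have h1 : (seq S T ⋙ EtCoh.HF X p).map f γ = c.natAbs • γ := by
    rw [Subsingleton.elim f (homOfLE (Nat.zero_le k))]
    change Sheaf.H.map ((seq S T).map (homOfLE (Nat.zero_le k))) p γ = _
    rw [hmap]
    exact Hmap_nsmul_id T p γ c.natAbs
  rw [← h1, hfg]
  exact map_zero _

set_option backward.isDefEq.respectTransparency.types false in
theorem main_S19975 (X : Scheme.{u})
    [CompactSpace X] [QuasiSeparatedSpace X] (S : Submonoid ℤ)
    (F G : EtCoh.Ab X) (φ : F ⟶ G)
    (hφ : ∀ U : X.Etale, IsAffine U.left →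
      IsLocalizedModule S (φ.hom.app (op U)).hom.toIntLinearMap)
    (i : ℕ) : IsLocalizedModule S ((EtCoh.HF X i).map φ).hom.toIntLinearMap := by
  let A : EtCoh.Ab X := (constantSheaf X.smallEtaleTopology AddCommGrpCat.{u + 1}).obj
    (AddCommGrpCat.of (ULift ℤ))
  have hkc : kernel.ι (Abelian.factorThruImage φ) ≫ φ = 0 := by
    have h := Abelian.image.fac φ
    calc kernel.ι (Abelian.factorThruImage φ) ≫ φ
        = kernel.ι (Abelian.factorThruImage φ) ≫
            (Abelian.factorThruImage φ ≫ Abelian.image.ι φ) := by rw [h]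
      _ = 0 := by rw [← Category.assoc, kernel.condition, zero_comp]
  have hK : ExtTors.{u + 1} S A (kernel (Abelian.factorThruImage φ)) := fun n x =>
    exists_zsmul_eq_zero_of_isSTorsion S _ (isSTorsion_of_mono_comp_eq_zero φ hφ _ hkc) n x
  have hC : ExtTors.{u + 1} S A (cokernel φ) := fun n x =>
    exists_zsmul_eq_zero_of_isSTorsion S _ (isSTorsion_cokernel φ hφ) n x
  obtain ⟨h1, h2⟩ := chase φ hK hC i
  have hmap : ∀ x : EtCoh.H X F i, ((EtCoh.HF X i).map φ).hom.toIntLinearMap x =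
      x.comp (Ext.mk₀ φ) (add_zero i) := fun x => rfl
  refine ⟨?_, ?_, ?_⟩
  · intro s
    rw [Module.End.isUnit_iff]
    haveI := isIso_natAbs_nsmul φ hφ s.2
    haveI : IsIso ((EtCoh.HF X i).map ((s.1).natAbs • 𝟙 G)) := Functor.map_isIso _ _
    have hb : Function.Bijective ((EtCoh.HF X i).map ((s.1).natAbs • 𝟙 G)) :=
      ConcreteCategory.bijective_of_isIso _
    have hb' : Function.Bijective (fun α : EtCoh.H X G i => (s.1).natAbs • α) := by
      have he : (fun α : EtCoh.H X G i => (s.1).natAbs • α) =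
          fun α => Sheaf.H.map ((s.1).natAbs • 𝟙 G) i α := by
        funext α
        exact (Hmap_nsmul_id G i α _).symm
      rw [he]
      exact hb
    exact bijective_zsmul_of_natAbs s.1 hb'
  · intro y
    obtain ⟨s, hs, x, hx⟩ := h1 y
    exact ⟨(x, ⟨s, hs⟩), hx⟩
  · intro x₁ x₂ h
    let y₁ : Ext.{u + 1} A F i := x₁
    let y₂ : Ext.{u + 1} A F i := x₂
    have h0 : (y₁ - y₂).comp (Ext.mk₀ φ) (add_zero i) = 0 := by
      have h' : y₁.comp (Ext.mk₀ φ) (add_zero i) = y₂.comp (Ext.mk₀ φ) (add_zero i) := h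
      have := map_sub ((Ext.mk₀ φ).postcomp A (add_zero i)) y₁ y₂
      change (y₁ - y₂).comp (Ext.mk₀ φ) (add_zero i) = _ at this
      rw [this]
      exact sub_eq_zero.mpr h'
    obtain ⟨s, hs, hx⟩ := h2 (y₁ - y₂) h0
    refine ⟨⟨s, hs⟩, ?_⟩
    change s • y₁ = s • y₂
    rw [smul_sub] at hx
    exact sub_eq_zero.mp hx

end Coh

end Groth.Agent.Lib.T2H8.LocalizedCoh
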