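import Mathlib
import Groth.Agent.Lib.T2H8FiniteSplit
import Groth.Agent.Lib.T2H8GeomPt

set_option autoImplicit false
universe u

open CategoryTheory CategoryTheory.Limits AlgebraicGeometry

namespace Groth.Agent.Lib.T2H8LqfSplitPt

open Groth.Agent.Lib.Helper20.EtSections Groth.Agent.Lib.Helper20.ResFld
open Groth.Agent.Lib.T2H8FiniteSplit Groth.Agent.Lib.T2H8GeomPt

variable {Ω : Type u} [Field Ω]

/-- a geometric point whose image point lies in an open factors through the open. -/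
theorem exists_lift_open {Z : Scheme.{u}} (ζ : Spec (CommRingCat.of Ω) ⟶ Z) (N : Z.Opens)
    (h : ζ default ∈ N) : ∃ ζN : Spec (CommRingCat.of Ω) ⟶ N, ζN ≫ N.ι = ζ := by
  refine ⟨IsOpenImmersion.lift N.ι ζ ?_, IsOpenImmersion.lift_fac _ _ _⟩
  rintro _ ⟨z, rfl⟩
  rw [Scheme.Opens.range_ι, eq_default z]
  exact h

variable [IsSepClosed Ω]

set_option backward.isDefEq.respectTransparency.types false in
/-- Pointed version of `good_of_point`. -/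
theorem exists_pointed_lift {X S U : Scheme.{u}} (f : X ⟶ S) [LocallyOfFiniteType f]
    [IsSeparated f] [LocallyQuasiFinite f] (g : U ⟶ X) [Etale g]
    (ū : Spec (CommRingCat.of Ω) ⟶ U) :
    ∃ (S₁ : Scheme.{u}) (g₁ : S₁ ⟶ S) (η₁ : Spec (CommRingCat.of Ω) ⟶ S₁),
      Etale g₁ ∧ η₁ ≫ g₁ = ū ≫ g ≫ f ∧
      ∃ (N : (pullback f g₁).Opens) (h₁ : (N : Scheme.{u}) ⟶ U)
        (ξN : Spec (CommRingCat.of Ω) ⟶ N),
        h₁ ≫ g = N.ι ≫ pullback.fst f g₁ ∧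
        ξN ≫ N.ι ≫ pullback.fst f g₁ = ū ≫ g ∧ ξN ≫ N.ι ≫ pullback.snd f g₁ = η₁ ∧
        ξN ≫ h₁ = ū := by
  have hlqf : LocallyQuasiFinite g := locallyQuasiFinite_of_etale g
  have hlqf' : LocallyQuasiFinite (g ≫ f) := inferInstance
  obtain ⟨S₁, g₁, s₁, hg₁, hs₁, -, H⟩ := exists_etale_split (g ≫ f) ((g ≫ f) (ū default))
    {ū default} (Set.finite_singleton _) (by
      intro t ht
      rw [Set.mem_singleton_iff] at ht
      subst ht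
      exact ⟨rfl, Scheme.Hom.quasiFiniteAt _ _⟩)
  obtain ⟨η₁, hη₁, hη₁pt⟩ := Scheme.exists_fac_of_etale_of_isSepClosed g₁ (ū ≫ g ≫ f) s₁
    (by rw [hs₁]; rfl)
  refine ⟨S₁, g₁, η₁, hg₁, hη₁, ?_⟩
  let snd' := pullback.snd (g ≫ f) g₁
  let ū₁ : Spec (CommRingCat.of Ω) ⟶ pullback (g ≫ f) g₁ :=
    pullback.lift ū η₁ (by rw [hη₁])
  have hū₁1 : ū₁ ≫ pullback.fst (g ≫ f) g₁ = ū := pullback.lift_fst _ _ _
  have hū₁2 : ū₁ ≫ snd' = η₁ := pullback.lift_snd _ _ _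
  let v := ū₁ default
  have hv1 : pullback.fst (g ≫ f) g₁ v = ū default := by
    change (ū₁ ≫ pullback.fst (g ≫ f) g₁) default = _
    rw [hū₁1]
  have hv2 : snd' v = s₁ := by
    change (ū₁ ≫ snd') default = _
    rw [hū₁2, hη₁pt]
  obtain ⟨⟨V, hvV, hVfin, hVuniq⟩, hPI, -⟩ := H v hv2 (by rw [hv1]; rfl)
  let m : pullback (g ≫ f) g₁ ⟶ pullback f g₁ :=
    pullback.map (g ≫ f) g₁ f g₁ g (𝟙 S₁) (𝟙 S) (by simp) (by simp)
  have hm1 : m ≫ pullback.fst f g₁ = pullback.fst (g ≫ f) g₁ ≫ g := pullback.lift_fst _ _ _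
  have hm2 : m ≫ pullback.snd f g₁ = snd' :=
    (pullback.lift_snd _ _ _).trans (Category.comp_id _)
  have sq : IsPullback (pullback.fst (g ≫ f) g₁) m g (pullback.fst f g₁) := by
    refine IsPullback.of_bot ?_ hm1.symm (IsPullback.of_hasPullback f g₁)
    rw [hm2]
    exact IsPullback.of_hasPullback (g ≫ f) g₁
  have hmet : Etale m := MorphismProperty.of_isPullback (P := @Etale) sq ‹_›
  let p : (V : Scheme.{u}) ⟶ pullback f g₁ := V.ι ≫ m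
  have hp2 : p ≫ pullback.snd f g₁ = V.ι ≫ snd' := by
    rw [Category.assoc, hm2]
  have hpfin : IsFinite p := by
    have : IsFinite (p ≫ pullback.snd f g₁) := by rw [hp2]; exact hVfin
    exact IsFinite.of_comp p (pullback.snd f g₁)
  let v' : V := ⟨v, hvV⟩
  have hpv' : p v' = m v := rfl
  have hw1 : pullback.snd f g₁ (m v) = s₁ := by
    rw [← Scheme.Hom.comp_apply, hm2]
    exact hv2
  have hx : p ⁻¹' {p v'} = {v'} := by
    ext z
    simp only [Set.mem_preimage, Set.mem_singleton_iff]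
    constructor
    · intro hz
      have h1 : snd' (V.ι z) = s₁ := by
        have : (V.ι ≫ snd') z = (p ≫ pullback.snd f g₁) z := by rw [hp2]
        rw [Scheme.Hom.comp_apply, Scheme.Hom.comp_apply] at this
        exact this.trans ((congrArg (fun a => pullback.snd f g₁ a) hz).trans hw1)
      have h2 := hVuniq (V.ι z) z.2 h1
      exact Subtype.ext h2
    · rintro rfl
      rfl
  have hκ : Function.Surjective (p.residueFieldMap v') := by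
    apply surjective_of_pInsep (p.residueFieldMap v').hom
    · have hs : pullback.snd f g₁ (p v') = snd' (V.ι v') := by
        have : (p ≫ pullback.snd f g₁) v' = (V.ι ≫ snd') v' := by rw [hp2]
        simpa only [Scheme.Hom.comp_apply] using this
      refine PInsep.of_comm (resMap (pullback.snd f g₁) hs).hom (V.ι.residueFieldMap v').hom
        (bijective_residueFieldMap_of_isOpenImmersion V.ι v').2 ?_ hPI
      have e1 := resMap_comp p (pullback.snd f g₁) (rfl : p v' = p v') hs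
        (by rw [Scheme.Hom.comp_apply]; exact hs)
      have e2 := resMap_comp V.ι snd' (rfl : V.ι v' = V.ι v') (rfl : snd' (V.ι v') = snd' (V.ι v'))
        rfl
      have e3 := resMap_congr hp2 (x := v') (s := snd' (V.ι v'))
        (by rw [Scheme.Hom.comp_apply]; exact hs) rfl
      rw [e1, e2, resMap_rfl, resMap_rfl, resMap_rfl] at e3
      have := congrArg (fun φ => φ.hom) e3
      exact this.symm
    · infer_instance
  obtain ⟨N, hN1, hN2⟩ := Groth.Agent.Lib.Helper20.OnePt.exists_isIso_morphismRestrict p v' hx hκ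
  -- geometric points
  have hξ₁N : (ū₁ ≫ m) default ∈ N := hN1
  obtain ⟨ξN, hξN⟩ := exists_lift_open (ū₁ ≫ m) N hξ₁N
  obtain ⟨ūV, hūV⟩ := exists_lift_open ū₁ V hvV
  have hūVp : ūV ≫ p = ū₁ ≫ m := by rw [← Category.assoc, hūV]
  have hūVmem : ūV default ∈ p ⁻¹ᵁ N := by
    change (ūV ≫ p) default ∈ N
    rw [hūVp]
    exact hN1
  obtain ⟨ūN', hūN'⟩ := exists_lift_open ūV (p ⁻¹ᵁ N) hūVmem
  have hkey : ūN' ≫ (p ∣_ N) = ξN := by
    rw [← cancel_mono N.ι, Category.assoc, morphismRestrict_ι, reassoc_of% hūN', hūVp, hξN]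
  have hkey' : ξN ≫ inv (p ∣_ N) = ūN' := by
    rw [← hkey, Category.assoc, IsIso.hom_inv_id, Category.comp_id]
  refine ⟨N, inv (p ∣_ N) ≫ (p ⁻¹ᵁ N).ι ≫ V.ι ≫ pullback.fst (g ≫ f) g₁, ξN, ?_, ?_, ?_, ?_⟩
  · rw [Category.assoc, Category.assoc, Category.assoc, ← hm1, IsIso.inv_comp_eq]
    rw [← Category.assoc V.ι, ← Category.assoc (p ⁻¹ᵁ N).ι, ← morphismRestrict_ι, Category.assoc]
  · rw [reassoc_of% hξN, hm1, reassoc_of% hū₁1]
  · rw [reassoc_of% hξN, hm2, hū₁2]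
  · rw [reassoc_of% hkey', reassoc_of% hūN', reassoc_of% hūV, hū₁1]

set_option backward.isDefEq.respectTransparency.types false in
/-- A clopen neighbourhood, after etale base change, of a geometric point of the source of a finite
morphism, inside a given open neighbourhood, and containing no other geometric point of the fibre. -/
theorem exists_clopen_nbhd {X S : Scheme.{u}} (f : X ⟶ S) [LocallyOfFiniteType f]
    [IsSeparated f] [LocallyQuasiFinite f]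
    (ξ : Spec (CommRingCat.of Ω) ⟶ X) (N : X.Opens) (hN : ξ default ∈ N) :
    ∃ (S' : Scheme.{u}) (g' : S' ⟶ S) (η' : Spec (CommRingCat.of Ω) ⟶ S') (X' : Scheme.{u})
      (p : X' ⟶ X) (q : X' ⟶ S'),
      Etale g' ∧ η' ≫ g' = ξ ≫ f ∧ IsPullback p q f g' ∧
      ∃ (D : X'.Opens) (ξD : Spec (CommRingCat.of Ω) ⟶ D),
        IsClosed (D : Set X') ∧ IsFinite (D.ι ≫ q) ∧ D ≤ p ⁻¹ᵁ N ∧
        ξD ≫ D.ι ≫ p = ξ ∧ ξD ≫ D.ι ≫ q = η' ∧
        ∀ ζ : Spec (CommRingCat.of Ω) ⟶ D, ζ ≫ D.ι ≫ q = η' → ζ = ξD := by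
  obtain ⟨S₂, g₂, s₂, hg₂, hs₂, -, V₂, -, hV₂⟩ := exists_etale_split_clopen f (f (ξ default))
    {ξ default} (Set.finite_singleton _) (by
      intro t ht
      rw [Set.mem_singleton_iff] at ht
      subst ht
      exact ⟨rfl, Scheme.Hom.quasiFiniteAt _ _⟩)
  obtain ⟨η₂, hη₂, hη₂pt⟩ := Scheme.exists_fac_of_etale_of_isSepClosed g₂ (ξ ≫ f) s₂
    (by rw [hs₂]; rfl)
  let f₂ := pullback.snd f g₂
  let ξ₂ : Spec (CommRingCat.of Ω) ⟶ pullback f g₂ := pullback.lift ξ η₂ (by rw [hη₂])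
  have hξ₂1 : ξ₂ ≫ pullback.fst f g₂ = ξ := pullback.lift_fst _ _ _
  have hξ₂2 : ξ₂ ≫ f₂ = η₂ := pullback.lift_snd _ _ _
  let w₂ := ξ₂ default
  have hw₂1 : pullback.fst f g₂ w₂ = ξ default := by
    change (ξ₂ ≫ pullback.fst f g₂) default = _
    rw [hξ₂1]
  have hw₂2 : f₂ w₂ = s₂ := by
    change (ξ₂ ≫ f₂) default = _
    rw [hξ₂2, hη₂pt]
  obtain ⟨hwD, hDclopen, hDfin, hDuniq, hPI, -⟩ := hV₂ w₂ hw₂2 (by rw [hw₂1]; rfl)
  let D₂ : (pullback f g₂).Opens := V₂ w₂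
  -- shrink
  have hBclosed : IsClosed ((D₂ : Set ↥(pullback f g₂)) ∩
      ((pullback.fst f g₂ ⁻¹ᵁ N : (pullback f g₂).Opens) : Set ↥(pullback f g₂))ᶜ) :=
    hDclopen.1.inter (pullback.fst f g₂ ⁻¹ᵁ N).isOpen.isClosed_compl
  have hC : IsClosed (f₂ '' ((D₂ : Set ↥(pullback f g₂)) ∩
      ((pullback.fst f g₂ ⁻¹ᵁ N : (pullback f g₂).Opens) : Set ↥(pullback f g₂))ᶜ)) :=
    haveI := hDfin
    isClosed_image_inter f₂ D₂ _ (pullback.fst f g₂ ⁻¹ᵁ N).isOpen.isClosed_compl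
  let S₃ : S₂.Opens := ⟨_, hC.isOpen_compl⟩
  have hs₃ : s₂ ∈ S₃ := by
    rintro ⟨b, ⟨hbD, hbN⟩, hbs⟩
    apply hbN
    have : b = w₂ := hDuniq b hbD hbs
    rw [this]
    change pullback.fst f g₂ w₂ ∈ N
    rw [hw₂1]
    exact hN
  obtain ⟨η₃, hη₃⟩ := exists_lift_open η₂ S₃ (by rw [hη₂pt]; exact hs₃)
  let X₃ : (pullback f g₂).Opens := f₂ ⁻¹ᵁ S₃
  obtain ⟨ξ₃, hξ₃⟩ := exists_lift_open ξ₂ X₃ (by
    change f₂ w₂ ∈ S₃
    rw [hw₂2]
    exact hs₃)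
  obtain ⟨g', hg'⟩ : ∃ g' : (S₃ : Scheme.{u}) ⟶ S, g' = S₃.ι ≫ g₂ := ⟨_, rfl⟩
  obtain ⟨p, hp⟩ : ∃ p : (X₃ : Scheme.{u}) ⟶ X, p = X₃.ι ≫ pullback.fst f g₂ := ⟨_, rfl⟩
  have hg'et : Etale g' := hg' ▸ inferInstance
  have sq : IsPullback p (f₂ ∣_ S₃) f g' := by
    rw [hp, hg']
    exact (isPullback_morphismRestrict f₂ S₃).flip.paste_horiz (IsPullback.of_hasPullback f g₂)
  have hq : ∀ w : X₃, S₃.ι ((f₂ ∣_ S₃) w) = f₂ (X₃.ι w) := by
    intro w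
    rw [← Scheme.Hom.comp_apply, ← Scheme.Hom.comp_apply, morphismRestrict_ι]
  let D : (X₃ : Scheme.{u}).Opens := X₃.ι ⁻¹ᵁ D₂
  obtain ⟨ξD, hξD⟩ := exists_lift_open ξ₃ D (by
    change (ξ₃ ≫ X₃.ι) default ∈ D₂
    rw [hξ₃]
    exact hwD)
  have hξ₃q : ξ₃ ≫ (f₂ ∣_ S₃) = η₃ := by
    rw [← cancel_mono S₃.ι, Category.assoc, morphismRestrict_ι, reassoc_of% hξ₃, hξ₂2, hη₃]
  refine ⟨S₃, g', η₃, X₃, p, f₂ ∣_ S₃, hg'et, ?_, sq, D, ξD, ?_, ?_, ?_, ?_, ?_, ?_⟩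
  · rw [hg', reassoc_of% hη₃, hη₂]
  · exact hDclopen.1.preimage X₃.ι.continuous
  · have sq1 : IsPullback (X₃.ι ∣_ D₂) D.ι D₂.ι X₃.ι := isPullback_morphismRestrict _ _
    have sq2 : IsPullback X₃.ι (f₂ ∣_ S₃) f₂ S₃.ι := (isPullback_morphismRestrict f₂ S₃).flip
    have sq3 : IsPullback (X₃.ι ∣_ D₂) (D.ι ≫ (f₂ ∣_ S₃)) (D₂.ι ≫ f₂) S₃.ι := sq1.paste_vert sq2
    exact MorphismProperty.of_isPullback (P := @IsFinite) sq3 hDfin
  · intro x hx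
    change p x ∈ N
    rw [hp]
    by_contra hxN
    have h1 : f₂ (X₃.ι x) ∈ S₃ := x.2
    exact h1 ⟨X₃.ι x, ⟨hx, hxN⟩, rfl⟩
  · rw [reassoc_of% hξD, hp, reassoc_of% hξ₃, hξ₂1]
  · rw [reassoc_of% hξD, hξ₃q]
  · intro ζ hζ
    rw [← cancel_mono D.ι, ← cancel_mono X₃.ι]
    have hζ2 : (ζ ≫ D.ι ≫ X₃.ι) ≫ f₂ = η₂ := by
      have e1 : (ζ ≫ D.ι ≫ X₃.ι) ≫ f₂ = (ζ ≫ D.ι ≫ (f₂ ∣_ S₃)) ≫ S₃.ι := by
        simp only [Category.assoc, morphismRestrict_ι]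
        rfl
      rw [e1, hζ, hη₃]
    have hξ2 : (ξD ≫ D.ι ≫ X₃.ι) ≫ f₂ = η₂ := by
      rw [reassoc_of% hξD, hξ₃, hξ₂2]
    have hζpt : (ζ ≫ D.ι ≫ X₃.ι) default = w₂ := by
      apply hDuniq
      · exact (ζ default).2
      · change ((ζ ≫ D.ι ≫ X₃.ι) ≫ f₂) default = s₂
        rw [hζ2, hη₂pt]
    have hξpt : (ξD ≫ D.ι ≫ X₃.ι) default = w₂ := by
      rw [reassoc_of% hξD, hξ₃]
    simp only [Category.assoc]
    exact ext_of_pInsep f₂ w₂ hPI _ _ hζpt hξpt (hζ2.trans hξ2.symm)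

set_option backward.isDefEq.respectTransparency.types false in
/-- Pointed clopen lifting: for `f` finite, `g : U ⟶ X` etale and a geometric point `ū` of `U`, after
an etale base change `S' ⟶ S` (pointed by `η'` over `ū ≫ g ≫ f`) there is a clopen `D` of the base
change `X'` of `X`, a lift `h : D ⟶ U` of `D ⟶ X' ⟶ X` and a geometric point `ξD` of `D` mapping to
`ū`, which is the only geometric point of `D` over `η'`. -/
theorem exists_pointed_clopen_lift {X S U : Scheme.{u}} (f : X ⟶ S) [LocallyOfFiniteType f]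
    [IsSeparated f] [LocallyQuasiFinite f] (g : U ⟶ X)
    [Etale g] (ū : Spec (CommRingCat.of Ω) ⟶ U) :
    ∃ (S' : Scheme.{u}) (g' : S' ⟶ S) (η' : Spec (CommRingCat.of Ω) ⟶ S') (X' : Scheme.{u})
      (p : X' ⟶ X) (q : X' ⟶ S'),
      Etale g' ∧ η' ≫ g' = ū ≫ g ≫ f ∧ IsPullback p q f g' ∧
      ∃ (D : X'.Opens) (ξD : Spec (CommRingCat.of Ω) ⟶ D) (h : (D : Scheme.{u}) ⟶ U),
        IsClosed (D : Set X') ∧ IsFinite (D.ι ≫ q) ∧ h ≫ g = D.ι ≫ p ∧ ξD ≫ h = ū ∧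
        ξD ≫ D.ι ≫ q = η' ∧
        ∀ ζ : Spec (CommRingCat.of Ω) ⟶ D, ζ ≫ D.ι ≫ q = η' → ζ = ξD := by
  obtain ⟨S₁, g₁, η₁, hg₁, hη₁, N, h₁, ξN, hh₁, hξN1, hξN2, hξNh⟩ := exists_pointed_lift f g ū
  obtain ⟨f₁, hf₁⟩ : ∃ f₁ : pullback f g₁ ⟶ S₁, f₁ = pullback.snd f g₁ := ⟨_, rfl⟩
  have hf₁a : LocallyOfFiniteType f₁ := hf₁ ▸ inferInstance
  have hf₁b : IsSeparated f₁ := hf₁ ▸ inferInstance
  have hf₁c : LocallyQuasiFinite f₁ := hf₁ ▸ inferInstance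
  obtain ⟨ξ₁, hξ₁⟩ : ∃ ξ₁ : Spec (CommRingCat.of Ω) ⟶ pullback f g₁, ξ₁ = ξN ≫ N.ι := ⟨_, rfl⟩
  have hN : ξ₁ default ∈ N := by
    rw [hξ₁, Scheme.Hom.comp_apply]
    exact (ξN default).2
  obtain ⟨S', g', η', X', p, q, hg', hη', sq, D, ξD, hDcl, hDfin, hDle, hξD1, hξD2, huniq⟩ :=
    exists_clopen_nbhd f₁ ξ₁ N hN
  have sq' : IsPullback (p ≫ pullback.fst f g₁) q f (g' ≫ g₁) := by
    have := IsPullback.of_hasPullback f g₁
    rw [← hf₁] at this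
    exact sq.paste_horiz this
  have hres : ξD ≫ p.resLE N D hDle = ξN := by
    rw [← cancel_mono N.ι, Category.assoc, Scheme.Hom.resLE_comp_ι, hξD1, hξ₁]
  refine ⟨S', g' ≫ g₁, η', X', p ≫ pullback.fst f g₁, q, inferInstance, ?_, sq', D, ξD,
    p.resLE N D hDle ≫ h₁, hDcl, hDfin, ?_, ?_, hξD2, huniq⟩
  · rw [reassoc_of% hη', hξ₁, hf₁]
    simp only [Category.assoc]
    rw [reassoc_of% hξN2, hη₁]
  · rw [Category.assoc, hh₁, Scheme.Hom.resLE_comp_ι_assoc]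
  · rw [reassoc_of% hres, hξNh]

end Groth.Agent.Lib.T2H8LqfSplitPt
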