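import Mathlib
import Groth.Prelude.Def_EtBase
import Groth.Agent.Lib.T2H8LqfSplitPt
import Groth.Agent.Lib.T2H8StalkFiniteCore

/-!
# Geometric core of the stalk formula for separated locally quasi-finite morphisms (helper8)
-/

set_option autoImplicit false
universe u w

open CategoryTheory CategoryTheory.Limits AlgebraicGeometry Opposite

namespace Groth.Agent.Lib.T2H8LqfStalkCore

open Groth.Agent.Lib.Helper16.SmallEtale Groth.Agent.Lib.Helper16.EtGlue
open Groth.Agent.Lib.T2H8FiniteSplit Groth.Agent.Lib.T2H8GeomPt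
open Groth.Agent.Lib.Helper20.EtSections Groth.Agent.Lib.Helper20.ResFld
open Groth.Agent.Lib.T2H8StalkFiniteCore (liftPt liftPt_left_fst liftPt_left_snd liftPt_map)
open Groth.Agent.Lib.T2H8FiniteSplitPt (exists_lift_open)
open Groth.Agent.Lib.T2H8LqfSplitPt (exists_pointed_clopen_lift)

variable {X Y : Scheme.{u}} (f : X ⟶ Y) {Ω : Type u} [Field Ω]

section AlgClosed

variable [IsAlgClosed Ω]

set_option backward.isDefEq.respectTransparency.types false in
/-- every point of `V ×_Y X` over the image of a geometric point `v` of `V` carries a geometric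
point of the form `liftPt`. -/
theorem exists_liftPt_eq [LocallyOfFiniteType f] [LocallyQuasiFinite f] (η : Spec (CommRingCat.of Ω) ⟶ Y) (V : Y.Etale)
    (v : (Scheme.pointSmallEtale η).fiber.obj V) (x : ((EtCoh.bc f).obj V).left)
    (hx : (pullback.fst V.hom f) x =
      (v.left : Spec (CommRingCat.of Ω) ⟶ V.left) (default : Spec (CommRingCat.of Ω))) :
    ∃ (ξ : Spec (CommRingCat.of Ω) ⟶ X) (h : ξ ≫ f = η),
      ((liftPt f ξ η h V v).left : Spec (CommRingCat.of Ω) ⟶ pullback V.hom f)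
        (default : Spec (CommRingCat.of Ω)) = x := by
  let fV : pullback V.hom f ⟶ V.left := pullback.fst V.hom f
  have hlqf : LocallyQuasiFinite fV :=
    MorphismProperty.pullback_fst (P := @LocallyQuasiFinite) _ _ ‹_›
  have hlft : LocallyOfFiniteType fV :=
    MorphismProperty.pullback_fst (P := @LocallyOfFiniteType) _ _ ‹_›
  have halg : (fV.residueFieldMap x).hom.IsIntegral :=
    (finite_residueFieldMap_of_quasiFiniteAt fV x (Scheme.Hom.quasiFiniteAt _ _)).to_isIntegral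
  obtain ⟨l, hl, hlx⟩ := exists_fac_of_isAlgClosed fV v.left x hx halg
  have hξ : (l ≫ pullback.snd V.hom f) ≫ f = η := by
    rw [Category.assoc, ← pullback.condition, reassoc_of% hl]
    exact Over.w v
  refine ⟨l ≫ pullback.snd V.hom f, hξ, ?_⟩
  have e : (liftPt f (l ≫ pullback.snd V.hom f) η hξ V v).left = l := by
    apply pullback.hom_ext
    · exact (liftPt_left_fst f _ η hξ V v).trans hl.symm
    · exact liftPt_left_snd f _ η hξ V v
  rw [e]
  exact hlx


end AlgClosed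

section PCL

variable [IsSepClosed Ω]

set_option backward.isDefEq.respectTransparency.types false in
/-- Pointed clopen lifting in the language of the small etale sites. -/
theorem exists_pointed_clopen_bc [LocallyOfFiniteType f] [IsSeparated f]
    [LocallyQuasiFinite f] (ξ : Spec (CommRingCat.of Ω) ⟶ X)
    (η : Spec (CommRingCat.of Ω) ⟶ Y) (h : ξ ≫ f = η) (U : X.Etale)
    (ū : (Scheme.pointSmallEtale ξ).fiber.obj U) :
    ∃ (V : Y.Etale) (v : (Scheme.pointSmallEtale η).fiber.obj V)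
      (D : (pullback V.hom f).Opens) (hD : (D : Scheme.{u}) ⟶ U.left)
      (ξD : Spec (CommRingCat.of Ω) ⟶ D),
      IsClosed (D : Set ↥(pullback V.hom f)) ∧ IsFinite (D.ι ≫ pullback.fst V.hom f) ∧
      hD ≫ U.hom = D.ι ≫ pullback.snd V.hom f ∧
      ξD ≫ D.ι = (liftPt f ξ η h V v).left ∧ ξD ≫ hD = ū.left ∧
      ∀ (ξ' : Spec (CommRingCat.of Ω) ⟶ X) (h' : ξ' ≫ f = η),
        ((liftPt f ξ' η h' V v).left : Spec (CommRingCat.of Ω) ⟶ pullback V.hom f)
          (default : Spec (CommRingCat.of Ω)) ∈ D → ξ' = ξ := by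
  obtain ⟨ū₀, hū₀⟩ : ∃ ū₀ : Spec (CommRingCat.of Ω) ⟶ U.left, ū₀ = ū.left := ⟨_, rfl⟩
  have hū : ū₀ ≫ U.hom = ξ := by rw [hū₀]; exact Over.w ū
  obtain ⟨S', g', η', X', p, q, hg', hη', sq, D, ξD, hh, hDcl, hDfin, hhg, hξDh, hξDq, huniq⟩ :=
    exists_pointed_clopen_lift f U.hom ū₀
  have hη'' : η' ≫ g' = η := by rw [hη', reassoc_of% hū, h]
  let V : Y.Etale := Scheme.Etale.mk g'
  let v : (Scheme.pointSmallEtale η).fiber.obj V := Over.homMk η' hη''
  have hvl : v.left = η' := rfl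
  let φ : pullback g' f ≅ X' := (IsPullback.of_hasPullback g' f).isoIsPullback _ _ sq.flip
  have hφq : φ.hom ≫ q = pullback.fst g' f := IsPullback.isoIsPullback_hom_fst _ _ _ _
  have hφp : φ.hom ≫ p = pullback.snd g' f := IsPullback.isoIsPullback_hom_snd _ _ _ _
  obtain ⟨lp, hlp⟩ : ∃ lp : ∀ (ξ' : Spec (CommRingCat.of Ω) ⟶ X) (_ : ξ' ≫ f = η),
      Spec (CommRingCat.of Ω) ⟶ pullback g' f,
      ∀ ξ' h', lp ξ' h' = (liftPt f ξ' η h' V v).left := ⟨_, fun _ _ => rfl⟩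
  have hlp1 : ∀ ξ' h', lp ξ' h' ≫ pullback.fst g' f = η' := fun ξ' h' => by
    rw [hlp]; exact liftPt_left_fst f ξ' η h' V v
  have hlp2 : ∀ ξ' h', lp ξ' h' ≫ pullback.snd g' f = ξ' := fun ξ' h' => by
    rw [hlp]; exact liftPt_left_snd f ξ' η h' V v
  have hξDp : ξD ≫ D.ι ≫ p = ξ := by
    rw [← hhg, reassoc_of% hξDh, hū]
  have hpt : lp ξ h ≫ φ.hom = ξD ≫ D.ι := by
    apply sq.hom_ext
    · rw [Category.assoc, hφp, hlp2, Category.assoc, hξDp]
    · rw [Category.assoc, hφq, hlp1, Category.assoc, hξDq]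
  obtain ⟨D', hD'⟩ : ∃ D' : (pullback g' f).Opens, D' = φ.hom ⁻¹ᵁ D := ⟨_, rfl⟩
  have hle : D' ≤ φ.hom ⁻¹ᵁ D := hD'.le
  have hmem : (lp ξ h) default ∈ D' := by
    rw [hD']
    change (lp ξ h ≫ φ.hom) default ∈ D
    rw [hpt, Scheme.Hom.comp_apply]
    exact (ξD default).2
  obtain ⟨ξD', hξD'⟩ := exists_lift_open (lp ξ h) D' hmem
  have hres : ξD' ≫ φ.hom.resLE D D' hle = ξD := by
    rw [← cancel_mono D.ι, Category.assoc, Scheme.Hom.resLE_comp_ι, reassoc_of% hξD', hpt]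
  have c1 : IsClosed (D' : Set ↥(pullback g' f)) := by
    rw [hD']
    exact hDcl.preimage φ.hom.continuous
  have c2 : (φ.hom.resLE D D' hle ≫ hh) ≫ U.hom = D'.ι ≫ pullback.snd g' f := by
    rw [Category.assoc, hhg, Scheme.Hom.resLE_comp_ι_assoc, hφp]
  have c4 : ξD' ≫ φ.hom.resLE D D' hle ≫ hh = ū₀ := by
    rw [reassoc_of% hres, hξDh]
  have c5 : ∀ ξ' h', (lp ξ' h') default ∈ D' → ξ' = ξ := by
    intro ξ' h' hmem'
    obtain ⟨ζ', hζ'⟩ := exists_lift_open (lp ξ' h') D' hmem'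
    obtain ⟨ζ, hζdef⟩ : ∃ ζ : Spec (CommRingCat.of Ω) ⟶ D, ζ = ζ' ≫ φ.hom.resLE D D' hle :=
      ⟨_, rfl⟩
    have hζ : ζ ≫ D.ι = lp ξ' h' ≫ φ.hom := by
      rw [hζdef, Category.assoc, Scheme.Hom.resLE_comp_ι, reassoc_of% hζ']
    have hζq : ζ ≫ D.ι ≫ q = η' := by
      rw [reassoc_of% hζ, hφq, hlp1]
    have e := huniq _ hζq
    rw [e] at hζ
    rw [← hlp2 ξ' h', ← hφp, ← reassoc_of% hζ, hξDp]
  have c1' : IsFinite (D'.ι ≫ pullback.fst g' f) := by
    have e : D'.ι ≫ pullback.fst g' f = φ.hom.resLE D D' hle ≫ D.ι ≫ q := by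
      rw [Scheme.Hom.resLE_comp_ι_assoc, hφq]
    rw [e]
    haveI : IsIso (φ.hom.resLE D D' hle) := by
      subst hD'
      rw [Scheme.Hom.resLE_eq_morphismRestrict]
      infer_instance
    exact (MorphismProperty.cancel_left_of_respectsIso @IsFinite _ _).2 hDfin
  refine ⟨V, v, D', φ.hom.resLE D D' hle ≫ hh, ξD', c1, c1', c2, ?_, ?_, ?_⟩
  · exact hξD'.trans (hlp ξ h)
  · exact c4.trans hū₀
  · intro ξ' h' hm
    have hm' : (lp ξ' h') default ∈ D' := by
      rw [hlp]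
      exact hm
    exact c5 ξ' h' hm'

end PCL

end Groth.Agent.Lib.T2H8LqfStalkCore
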