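import Mathlib
import Groth.Prelude.Def_EtShriek2
import Groth.Agent.Lib.T2H8ExtZeroShriek

set_option autoImplicit false
set_option linter.unusedSectionVars false
set_option linter.style.haveILetI false
universe u
open CategoryTheory CategoryTheory.Limits Opposite AlgebraicGeometry

namespace Groth.Agent.Lib.T2H8.ShriekCompact
open Groth.Agent.Lib.Helper1
open Groth.Agent.Lib.T2H8.ShriekSheaf Groth.Agent.Lib.T2H8.Excision

section Core

variable {A B S : Scheme.{u}}

/-- properness over the base can be tested over a proper intermediate scheme -/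
theorem isProperOver_comp_iff (i : A ⟶ B) (q : B ⟶ S) [IsProper q] (Z : Set A) :
    ClSub.IsProperOver (i ≫ q) Z ↔ ClSub.IsProperOver i Z := by
  constructor
  · rintro ⟨hcl, hp⟩
    refine ⟨hcl, ?_⟩
    rw [← Category.assoc] at hp
    exact (IsProper.comp_iff (g := q)).1 hp
  · rintro ⟨hcl, hp⟩
    refine ⟨hcl, ?_⟩
    rw [← Category.assoc]
    haveI := hp
    infer_instance

/-- base change of properness over the base -/
theorem isProperOver_baseChange {A' S' : Scheme.{u}} (p : A ⟶ S) [LocallyOfFiniteType p]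
    (a : A' ⟶ A) (p' : A' ⟶ S') (h : S' ⟶ S) (sq : IsPullback a p' p h) (Z : Set A)
    (hZ : ClSub.IsProperOver p Z) : ClSub.IsProperOver p' (a ⁻¹' Z) := by
  obtain ⟨hcl, hp⟩ := hZ
  haveI : IsProper (redι Z hcl ≫ p) := hp
  haveI : LocallyOfFiniteType p' := MorphismProperty.of_isPullback (P := @LocallyOfFiniteType) sq
    inferInstance
  have hrange : Set.range (pullback.snd (redι Z hcl) a) = a ⁻¹' Z := by
    rw [Scheme.Pullback.range_snd, range_redι]
  rw [isProperOver_iff_isProper_comp p' (pullback.snd (redι Z hcl) a) _ hrange]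
  have big : IsPullback (pullback.fst (redι Z hcl) a) (pullback.snd (redι Z hcl) a ≫ p')
      (redι Z hcl ≫ p) h :=
    (IsPullback.of_hasPullback (redι Z hcl) a).paste_vert sq
  exact MorphismProperty.of_isPullback (P := @IsProper) big inferInstance

/-- transport of properness over the base along an isomorphism -/
theorem isProperOver_iso_iff {A' : Scheme.{u}} (ε : A ≅ A') (p : A' ⟶ S) [LocallyOfFiniteType p]
    (Z : Set A) : ClSub.IsProperOver (ε.hom ≫ p) Z ↔ ClSub.IsProperOver p (ε.inv ⁻¹' Z) := by
  constructor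
  · intro h
    have sq : IsPullback ε.inv p (ε.hom ≫ p) (𝟙 S) :=
      IsPullback.of_horiz_isIso ⟨by simp⟩
    exact isProperOver_baseChange (ε.hom ≫ p) ε.inv p (𝟙 S) sq Z h
  · intro h
    have sq : IsPullback ε.hom (ε.hom ≫ p) p (𝟙 S) :=
      IsPullback.of_horiz_isIso ⟨by simp⟩
    have := isProperOver_baseChange p ε.hom (ε.hom ≫ p) (𝟙 S) sq _ h
    have e : ε.hom ⁻¹' (ε.inv ⁻¹' Z) = Z := by
      ext z
      simp only [Set.mem_preimage]
      have : ε.inv (ε.hom z) = z := by
        rw [← Scheme.Hom.comp_apply, Iso.hom_inv_id]; rfl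
      rw [this]
    rwa [e] at this

end Core

section Pred

variable {X Y : Scheme.{u}} (f : X ⟶ Y) [LocallyOfFiniteType f] (F : EtCoh.Ab X)

set_option backward.isDefEq.respectTransparency.types false in
/-- proper support is inherited by restrictions -/
theorem shriekPred_iff {V : Y.Etale} (s : EtCoh.sect F ((EtCoh.bc f).obj V)) :
    EtShriek.ShriekPred f F V s ↔
      EtShriek.HasProperSupport F ((EtCoh.bc f).obj V) s (EtShriek.prV f V) := by
  constructor
  · intro h
    have := h V (𝟙 V)
    have e1 : F.obj.map ((EtCoh.bc f).map (𝟙 V)).op s = s := by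
      rw [CategoryTheory.Functor.map_id, op_id, CategoryTheory.Functor.map_id]; rfl
    rw [e1] at this
    exact this
  · intro h V' φ
    rw [hasProperSupport_iff] at h ⊢
    rw [sectSupp_map]
    exact isProperOver_baseChange (EtShriek.prV f V) ((EtCoh.bc f).map φ).left
      (EtShriek.prV f V') φ.left (EtCoh.isPullback_bc_map f φ) _ h

end Pred

/-- the underlying isomorphism of schemes -/
noncomputable def leftIso {Z : Scheme.{u}} {A B : Z.Etale} (e : A ≅ B) : A.left ≅ B.left where
  hom := e.hom.left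
  inv := e.inv.left
  hom_inv_id := by
    have := congrArg (fun k => k.left) e.hom_inv_id
    exact this
  inv_hom_id := by
    have := congrArg (fun k => k.left) e.inv_hom_id
    exact this

section SheafVersion

variable {X Y : Scheme.{u}} (f : X ⟶ Y) [LocallyOfFiniteType f]

/-- the direct image with proper support, without sheafification -/
noncomputable def Sf : EtCoh.Ab X ⥤ EtCoh.Ab Y where
  obj F := ⟨EtShriek.lowerShriekPre f F, main_S0680 f F⟩
  map α := ⟨(EtShriek.lowerShriekPreFunctor f).map α⟩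
  map_id F := Sheaf.hom_ext ((EtShriek.lowerShriekPreFunctor f).map_id F)
  map_comp α β := Sheaf.hom_ext ((EtShriek.lowerShriekPreFunctor f).map_comp α β)

/-- sheafification does nothing -/
noncomputable def shIso : EtShriek.lowerShriek f ≅ Sf f :=
  NatIso.ofComponents
    (fun F => @asIso _ _ _ _ ((sheafificationAdjunction Y.smallEtaleTopology
      AddCommGrpCat.{u + 1}).counit.app ((Sf f).obj F))
        (isIso_sheafificationAdjunction_counit _))
    (fun {F F'} α =>
      (sheafificationAdjunction Y.smallEtaleTopology AddCommGrpCat.{u + 1}).counit.naturality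
        ((Sf f).map α))

end SheafVersion

section Compact

variable {X Xb Y : Scheme.{u}} (j : X ⟶ Xb) (fb : Xb ⟶ Y)

/-- the base change comparison isomorphism -/
noncomputable def eIso (V : Y.Etale) :
    (EtCoh.bc (j ≫ fb)).obj V ≅ (EtCoh.bc j).obj ((EtCoh.bc fb).obj V) :=
  (MorphismProperty.Over.pullbackComp (P := EtCoh.etaleMP) (Q := ⊤) j fb).app V

set_option backward.isDefEq.respectTransparency.types false in
lemma eIso_hom_left_fst_fst (V : Y.Etale) :
    (eIso j fb V).hom.left ≫ EtShriek.prV j ((EtCoh.bc fb).obj V) ≫ EtShriek.prV fb V =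
      EtShriek.prV (j ≫ fb) V :=
  MorphismProperty.Over.pullbackComp_left_fst_fst (P := EtCoh.etaleMP) (Q := ⊤) j fb V

lemma eIso_naturality {V V' : Y.Etale} (φ : V' ⟶ V) :
    (EtCoh.bc (j ≫ fb)).map φ ≫ (eIso j fb V).hom =
      (eIso j fb V').hom ≫ (EtCoh.bc j).map ((EtCoh.bc fb).map φ) :=
  (MorphismProperty.Over.pullbackComp (P := EtCoh.etaleMP) (Q := ⊤) j fb).hom.naturality φ

variable [IsProper fb] [LocallyOfFiniteType j] (F : EtCoh.Ab X)

set_option backward.isDefEq.respectTransparency.types false in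
theorem shriekPred_transport {V : Y.Etale} (s : EtCoh.sect F ((EtCoh.bc (j ≫ fb)).obj V)) :
    EtShriek.ShriekPred (j ≫ fb) F V s ↔
      EtShriek.ShriekPred j F ((EtCoh.bc fb).obj V) (F.obj.map (eIso j fb V).inv.op s) := by
  rw [shriekPred_iff, shriekPred_iff, hasProperSupport_iff, hasProperSupport_iff, sectSupp_map]
  haveI : IsProper (EtShriek.prV fb V) :=
    MorphismProperty.pullback_fst (P := @IsProper) _ _ inferInstance
  haveI : LocallyOfFiniteType (EtShriek.prV j ((EtCoh.bc fb).obj V)) :=
    MorphismProperty.pullback_fst (P := @LocallyOfFiniteType) _ _ inferInstance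
  have h1 := isProperOver_comp_iff
    ((eIso j fb V).hom.left ≫ EtShriek.prV j ((EtCoh.bc fb).obj V)) (EtShriek.prV fb V)
    (EtShriek.sectSupp F _ s)
  rw [Category.assoc, eIso_hom_left_fst_fst] at h1
  rw [h1]
  exact isProperOver_iso_iff (leftIso (eIso j fb V)) (EtShriek.prV j ((EtCoh.bc fb).obj V)) _

lemma eIso_inv_naturality {V V' : Y.Etale} (φ : V' ⟶ V) :
    (eIso j fb V').inv ≫ (EtCoh.bc (j ≫ fb)).map φ =
      (EtCoh.bc j).map ((EtCoh.bc fb).map φ) ≫ (eIso j fb V).inv := by
  rw [Iso.inv_comp_eq, ← Category.assoc, ← eIso_naturality, Category.assoc, Iso.hom_inv_id,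
    Category.comp_id]

/-- the comparison on sections -/
noncomputable def PhiApp (V : Y.Etale) :
    EtShriek.shriekSubgroup (j ≫ fb) F V →+
      EtShriek.shriekSubgroup j F ((EtCoh.bc fb).obj V) :=
  ((F.obj.map (eIso j fb V).inv.op).hom.comp (EtShriek.shriekSubgroup (j ≫ fb) F V).subtype).codRestrict
    _ (fun s => by
      rw [mem_shriekSubgroup_iff]
      exact (shriekPred_transport j fb F s.1).1 ((mem_shriekSubgroup_iff _ F V s.1).1 s.2))

lemma PhiApp_bijective (V : Y.Etale) : Function.Bijective (PhiApp j fb F V) := by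
  constructor
  · intro s s' h
    apply Subtype.ext
    have h1 : F.obj.map (eIso j fb V).inv.op s.1 = F.obj.map (eIso j fb V).inv.op s'.1 :=
      congrArg Subtype.val h
    have h2 := congrArg (fun z => F.obj.map (eIso j fb V).hom.op z) h1
    simp only [Groth.Agent.Lib.T2H8.LocTriv.map_map_apply, Iso.hom_inv_id] at h2
    simpa using h2
  · intro t
    have e1 : F.obj.map (eIso j fb V).inv.op (F.obj.map (eIso j fb V).hom.op t.1) = t.1 := by
      rw [Groth.Agent.Lib.T2H8.LocTriv.map_map_apply, Iso.inv_hom_id]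
      simp
    have hs : F.obj.map (eIso j fb V).hom.op t.1 ∈ EtShriek.shriekSubgroup (j ≫ fb) F V := by
      rw [mem_shriekSubgroup_iff, shriekPred_transport j fb F, e1]
      exact (mem_shriekSubgroup_iff _ F _ t.1).1 t.2
    exact ⟨⟨_, hs⟩, Subtype.ext e1⟩

/-- the comparison morphism of sheaves -/
noncomputable def PhiSheaf : (Sf (j ≫ fb)).obj F ⟶ (EtCoh.push fb).obj ((Sf j).obj F) :=
  ⟨{ app := fun V => AddCommGrpCat.ofHom (PhiApp j fb F V.unop)
     naturality := fun V V' m => by
      ext s
      apply Subtype.ext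
      change F.obj.map (eIso j fb V'.unop).inv.op
          (F.obj.map ((EtCoh.bc (j ≫ fb)).map m.unop).op s.1) =
        F.obj.map ((EtCoh.bc j).map ((EtCoh.bc fb).map m.unop)).op
          (F.obj.map (eIso j fb V.unop).inv.op s.1)
      rw [Groth.Agent.Lib.T2H8.LocTriv.map_map_apply, Groth.Agent.Lib.T2H8.LocTriv.map_map_apply,
        eIso_inv_naturality] }⟩

instance isIso_PhiSheaf : IsIso (PhiSheaf j fb F) := by
  haveI : IsIso (PhiSheaf j fb F).hom := by
    apply (config := { allowSynthFailures := true }) NatIso.isIso_of_isIso_app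
    intro V
    exact (ConcreteCategory.isIso_iff_bijective _).2 (PhiApp_bijective j fb F V.unop)
  haveI : IsIso ((sheafToPresheaf Y.smallEtaleTopology AddCommGrpCat.{u + 1}).map
      (PhiSheaf j fb F)) := this
  exact isIso_of_reflects_iso _ (sheafToPresheaf Y.smallEtaleTopology AddCommGrpCat.{u + 1})

/-- the comparison is natural in the sheaf -/
noncomputable def PhiNat : Sf (j ≫ fb) ⟶ Sf j ⋙ EtCoh.push fb where
  app F := PhiSheaf j fb F
  naturality F F' α := by
    apply Sheaf.hom_ext
    ext V s
    apply Subtype.ext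
    exact (NatTrans.naturality_apply α.hom (eIso j fb V.unop).inv.op s.1).symm

/-- the direct image with proper support through a compactification -/
noncomputable def SfIso : Sf (j ≫ fb) ≅ Sf j ⋙ EtCoh.push fb :=
  NatIso.ofComponents (fun F => asIso (PhiSheaf j fb F)) (fun α => (PhiNat j fb).naturality α)

end Compact

theorem main_S0686 {X Xb Y : Scheme.{u}} (j : X ⟶ Xb) [IsOpenImmersion j]
    (fb : Xb ⟶ Y) [IsProper fb] (f : X ⟶ Y) (hf : f = j ≫ fb) [EtShriek.JCont j] :
    Nonempty (EtShriek.lowerShriek f ≅ EtShriek.extZero j ⋙ EtCoh.push fb) := by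
  subst hf
  obtain ⟨e⟩ := Groth.Agent.Lib.T2H8.ExtZeroShriek.main_S0727 j
  exact ⟨shIso (j ≫ fb) ≪≫ SfIso j fb ≪≫ Functor.isoWhiskerRight (shIso j).symm (EtCoh.push fb) ≪≫
    Functor.isoWhiskerRight e.symm (EtCoh.push fb)⟩

end Groth.Agent.Lib.T2H8.ShriekCompact
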