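import Mathlib
import Groth.Prelude.Def_EtShriek2
import Groth.Agent.Lib.T2H8ShriekCompact

/-!
# Sections with compact support through a compactification (S0687)
-/

set_option autoImplicit false
set_option linter.unusedSectionVars false
set_option linter.style.haveILetI false
universe u
open CategoryTheory CategoryTheory.Limits Opposite AlgebraicGeometry

namespace Groth.Agent.Lib.T2H8.ShriekH0c
open Groth.Agent.Lib.Helper1
open Groth.Agent.Lib.T2H8.ShriekSheaf Groth.Agent.Lib.T2H8.Excision
open Groth.Agent.Lib.T2H8.ShriekCompact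

section General

variable {X : Scheme.{u}} (F : EtCoh.Ab X)

/-- proper support means that the support is proper -/
lemma hasProperSupport_iff' {U : X.Etale} (s : EtCoh.sect F U) {S : Scheme.{u}} (g : U.left ⟶ S) :
    EtShriek.HasProperSupport F U s g ↔ ClSub.IsProperOver g (EtShriek.sectSupp F U s) :=
  ⟨fun ⟨_, hZ, hp⟩ => isProperOver_of_subset _ hp (isClosed_sectSupp F s) hZ,
    fun h => ⟨_, subset_rfl, h⟩⟩

end General

section Top

variable {X Xb : Scheme.{u}} (j : X ⟶ Xb)

/-- the projection from the base change of the identity, as an isomorphism -/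
noncomputable def cl : pullback (𝟙 Xb) j ≅ X := asIso (pullback.snd (𝟙 Xb) j)

lemma cl_inv_fst : (cl j).inv ≫ pullback.fst (𝟙 Xb) j = j := by
  have h1 : pullback.fst (𝟙 Xb) j = (cl j).hom ≫ j := by
    have := pullback.condition (f := 𝟙 Xb) (g := j)
    rw [Category.comp_id] at this
    exact this
  rw [h1, Iso.inv_hom_id_assoc]

set_option backward.isDefEq.respectTransparency.types false in
/-- the base change of the final object is the final object -/
noncomputable def cIso : (EtCoh.bc j).obj (EtCoh.top Xb) ≅ EtCoh.top X :=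
  MorphismProperty.Over.isoMk
    (show ((EtCoh.bc j).obj (EtCoh.top Xb)).left ≅ (EtCoh.top X).left from cl j)
    (Category.comp_id _)

set_option backward.isDefEq.respectTransparency.types false in
lemma cIso_hom_left : (cIso j).hom.left = (cl j).hom := rfl

set_option backward.isDefEq.respectTransparency.types false in
lemma cIso_inv_left : (cIso j).inv.left = (cl j).inv := rfl

set_option backward.isDefEq.respectTransparency.types false in
lemma cIso_inv_left_prV : (cIso j).inv.left ≫ EtShriek.prV j (EtCoh.top Xb) = j :=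
  cl_inv_fst j

end Top

section Key

variable {X Xb S : Scheme.{u}} (j : X ⟶ Xb) [LocallyOfFiniteType j] (pb : Xb ⟶ S) [IsProper pb]
  (F : EtCoh.Ab X)

set_option backward.isDefEq.respectTransparency.types false in
theorem hasProperSupport_top_iff (s : EtCoh.sect F (EtCoh.top X)) :
    EtShriek.HasProperSupport F (EtCoh.top X) s (j ≫ pb) ↔
      EtShriek.ShriekPred j F (EtCoh.top Xb) (F.obj.map (cIso j).hom.op s) := by
  rw [shriekPred_iff, hasProperSupport_iff, hasProperSupport_iff', sectSupp_map]
  have h0 := isProperOver_comp_iff j pb (EtShriek.sectSupp F (EtCoh.top X) s)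
  have h := isProperOver_iso_iff (leftIso (cIso j)).symm (EtShriek.prV j (EtCoh.top Xb))
    (EtShriek.sectSupp F (EtCoh.top X) s)
  have e : (leftIso (cIso j)).symm.hom ≫ EtShriek.prV j (EtCoh.top Xb) = j := cIso_inv_left_prV j
  rw [e] at h
  exact h0.trans h

end Key

section Groups

variable {X Xb S : Scheme.{u}} (j : X ⟶ Xb) [LocallyOfFiniteType j] (pb : Xb ⟶ S) [IsProper pb]
  (F : EtCoh.Ab X)

/-- restriction along the isomorphism `cIso` -/
noncomputable def psi : EtCoh.sect F (EtCoh.top X) ≃+
    EtCoh.sect F ((EtCoh.bc j).obj (EtCoh.top Xb)) :=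
  (F.obj.mapIso (cIso j).op).addCommGroupIsoToAddEquiv

lemma psi_apply (s : EtCoh.sect F (EtCoh.top X)) :
    psi j F s = F.obj.map (cIso j).hom.op s := rfl

lemma map_closure_psi :
    (AddSubgroup.closure {s | EtShriek.HasProperSupport F (EtCoh.top X) s (j ≫ pb)}).map
      (psi j F).toAddMonoidHom = EtShriek.shriekSubgroup j F (EtCoh.top Xb) := by
  rw [AddMonoidHom.map_closure]
  unfold EtShriek.shriekSubgroup
  congr 1
  ext t
  constructor
  · rintro ⟨s, hs, rfl⟩
    exact (hasProperSupport_top_iff j pb F s).1 hs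
  · intro ht
    refine ⟨(psi j F).symm t, ?_, (psi j F).apply_symm_apply t⟩
    apply (hasProperSupport_top_iff j pb F _).2
    have : F.obj.map (cIso j).hom.op ((psi j F).symm t) = t := (psi j F).apply_symm_apply t
    rw [this]
    exact ht

/-- sections with compact support as sections with proper support over the compactification -/
noncomputable def h0cEquiv :
    (AddSubgroup.closure {s | EtShriek.HasProperSupport F (EtCoh.top X) s (j ≫ pb)}) ≃+
      EtShriek.shriekSubgroup j F (EtCoh.top Xb) :=
  ((psi j F).addSubgroupMap _).trans (AddEquiv.addSubgroupCongr (map_closure_psi j pb F))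

end Groups

theorem main_S0687 {k : Type u} [Field k] {X Xb : Scheme.{u}} (j : X ⟶ Xb)
    [IsOpenImmersion j] (pb : Xb ⟶ Spec (CommRingCat.of k)) [IsProper pb]
    (p : X ⟶ Spec (CommRingCat.of k)) (hp : p = j ≫ pb) [IsSeparated p] [LocallyOfFiniteType p]
    [EtShriek.JCont j] (F : EtCoh.Ab X) :
    Nonempty ((EtShriek.H0c p F) ≃+ EtCoh.sect ((EtShriek.extZero j).obj F) (EtCoh.top Xb)) := by
  subst hp
  obtain ⟨e⟩ := Groth.Agent.Lib.T2H8.ExtZeroShriek.main_S0727 j
  let i : (EtShriek.extZero j).obj F ≅ (Sf j).obj F := (e ≪≫ shIso j).app F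
  let i2 : EtCoh.sect ((EtShriek.extZero j).obj F) (EtCoh.top Xb) ≃+
      EtShriek.shriekSubgroup j F (EtCoh.top Xb) :=
    (((sheafToPresheaf Xb.smallEtaleTopology AddCommGrpCat.{u + 1}).mapIso i).app
      (op (EtCoh.top Xb))).addCommGroupIsoToAddEquiv
  exact ⟨(h0cEquiv j pb F).trans i2.symm⟩

end Groth.Agent.Lib.T2H8.ShriekH0c
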