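import Mathlib
import Groth.Prelude.Def_EtShriek2
import Groth.Agent.Lib.Helper12PullbackPts
import Groth.Agent.Lib.T2H8ShriekH0c

/-!
# Direct images with proper support compose (S0685)
-/

set_option autoImplicit false
set_option linter.unusedSectionVars false
set_option linter.style.haveILetI false
universe u
open CategoryTheory CategoryTheory.Limits Opposite AlgebraicGeometry

namespace Groth.Agent.Lib.T2H8.ShriekComp
open Groth.Agent.Lib.Helper1
open Groth.Agent.Lib.T2H8.ShriekSheaf Groth.Agent.Lib.T2H8.Excision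
open Groth.Agent.Lib.T2H8.ShriekCompact Groth.Agent.Lib.T2H8.ShriekH0c
open Groth.Agent.Lib.T2H8.ExtZeroMono (opObj opι range_opι)

section Core

variable {A B S : Scheme.{u}} (a : A ⟶ B) (b : B ⟶ S)

/-- a closed subset proper over the base is proper over a separated intermediate scheme -/
theorem isProperOver_of_comp [IsSeparated b] (T : Set A) (h : ClSub.IsProperOver (a ≫ b) T) :
    ClSub.IsProperOver a T := by
  obtain ⟨hcl, hp⟩ := h
  refine ⟨hcl, ?_⟩
  rw [← Category.assoc] at hp
  haveI := hp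
  exact IsProper.of_comp (redι T hcl ≫ a) b

/-- the image of a closed subset proper over the base -/
theorem isProperOver_image_of_comp [IsSeparated b] [LocallyOfFiniteType b] (T : Set A)
    (h : ClSub.IsProperOver (a ≫ b) T) : ClSub.IsProperOver b (a '' T) := by
  have h' := isProperOver_of_comp a b T h
  obtain ⟨hcl, hp⟩ := h
  obtain ⟨_, hp'⟩ := h'
  haveI := hp'
  exact isProperOver_image (a ≫ b) b a rfl T hcl hp inferInstance

/-- transitivity of properness over the base -/
theorem isProperOver_comp_of_image (T : Set A) (T' : Set B)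
    (h : ClSub.IsProperOver a T) (h' : ClSub.IsProperOver b T') (hsub : a '' T ⊆ T') :
    ClSub.IsProperOver (a ≫ b) T := by
  obtain ⟨hcl, hp⟩ := h
  obtain ⟨hcl', hp'⟩ := h'
  refine ⟨hcl, ?_⟩
  have hker : (redι T' hcl').ker ≤ (redι T hcl ≫ a).ker := by
    have e1 : (redι T' hcl').ker = Scheme.IdealSheafData.vanishingIdeal ⟨T', hcl'⟩ :=
      Scheme.IdealSheafData.ker_subschemeι _
    rw [e1]
    change _ ≤ (Scheme.IdealSheafData.vanishingIdeal ⟨T, hcl⟩).map a
    rw [Scheme.IdealSheafData.map_vanishingIdeal]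
    apply Scheme.IdealSheafData.vanishingIdeal_antimono
    change closure (a '' T) ⊆ T'
    exact closure_minimal hsub hcl'
  let l := IsClosedImmersion.lift (redι T' hcl') (redι T hcl ≫ a) hker
  have hl : l ≫ redι T' hcl' = redι T hcl ≫ a := IsClosedImmersion.lift_fac _ _ _
  haveI : IsProper (l ≫ redι T' hcl') := by rw [hl]; exact hp
  haveI : IsProper l := IsProper.of_comp l (redι T' hcl')
  haveI : IsProper (redι T' hcl' ≫ b) := hp'
  have e : redι T hcl ≫ a ≫ b = l ≫ redι T' hcl' ≫ b := by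
    rw [← Category.assoc, ← hl, Category.assoc]
  rw [e]
  infer_instance

end Core

section Supp

variable {X : Scheme.{u}} (F : EtCoh.Ab X)

lemma eq_zero_of_sectSupp_eq_empty {U : X.Etale} (s : F.obj.obj (op U))
    (h : EtShriek.sectSupp F U s = ∅) : s = 0 := by
  apply eq_of_locally_eq F
  intro x
  have hx : x ∉ EtShriek.sectSupp F U s := by rw [h]; exact Set.notMem_empty x
  rw [not_mem_sectSupp_iff] at hx
  obtain ⟨W, g, hw, hg⟩ := hx
  exact ⟨W, g, hw, by rw [hg, map_zero]⟩

end Supp

section Image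

variable {X Y : Scheme.{u}} (f : X ⟶ Y) [LocallyOfFiniteType f] (F : EtCoh.Ab X)

lemma Sf_map_val {V V' : Y.Etale} (φ : V' ⟶ V) (τ : EtShriek.shriekSubgroup f F V) :
    (show ↥(EtShriek.shriekSubgroup f F V') from ((Sf f).obj F).obj.map φ.op τ).1 =
      F.obj.map ((EtCoh.bc f).map φ).op τ.1 := rfl

set_option backward.isDefEq.respectTransparency.types false in
/-- the support of a section of the direct image with proper support -/
theorem sectSupp_Sf {V : Y.Etale} (τ : EtShriek.shriekSubgroup f F V) :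
    EtShriek.sectSupp ((Sf f).obj F) V τ =
      (EtShriek.prV f V) '' (EtShriek.sectSupp F ((EtCoh.bc f).obj V) τ.1) := by
  have hτ : EtShriek.ShriekPred f F V τ.1 := (mem_shriekSubgroup_iff f F V τ.1).1 τ.2
  have hT : ClSub.IsProperOver (EtShriek.prV f V) (EtShriek.sectSupp F _ τ.1) :=
    (hasProperSupport_iff f F τ.1).1 ((shriekPred_iff f F τ.1).1 hτ)
  apply Set.Subset.antisymm
  · intro y hy
    by_contra hcon
    obtain ⟨hcl, hp⟩ := hT
    have hrange : Set.range (redι _ hcl ≫ EtShriek.prV f V) =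
        (EtShriek.prV f V) '' (EtShriek.sectSupp F _ τ.1) := by
      rw [Scheme.Hom.comp_base, TopCat.coe_comp, Set.range_comp, range_redι]
    have hcl' : IsClosed ((EtShriek.prV f V) '' (EtShriek.sectSupp F _ τ.1)) := by
      rw [← hrange]
      haveI := hp
      exact (redι _ hcl ≫ EtShriek.prV f V).isClosedMap.isClosed_range
    let O : V.left.Opens := ⟨_, hcl'.isOpen_compl⟩
    have hyO : y ∈ Set.range (opι O).left := by rw [range_opι]; exact hcon
    obtain ⟨v', hv'⟩ := hyO
    apply hy (opObj O) (opι O) ⟨v', hv'⟩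
    apply Subtype.ext
    show F.obj.map ((EtCoh.bc f).map (opι O)).op τ.1 = 0
    apply eq_zero_of_sectSupp_eq_empty
    rw [sectSupp_map, Set.eq_empty_iff_forall_notMem]
    intro u' hu'
    have h1 : (EtShriek.prV f V) (((EtCoh.bc f).map (opι O)).left u') =
        (opι O).left (EtShriek.prV f (opObj O) u') :=
      congrArg (fun k : ((EtCoh.bc f).obj (opObj O)).left ⟶ V.left => k u')
        (EtCoh.isPullback_bc_map f (opι O)).w
    have h2 : (opι O).left (EtShriek.prV f (opObj O) u') ∈ (O : Set V.left) := by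
      rw [← range_opι]; exact ⟨_, rfl⟩
    apply h2
    rw [← h1]
    exact ⟨_, hu', rfl⟩
  · rintro y ⟨u, hu, rfl⟩
    intro V' φ ⟨v', hv'⟩ h0
    obtain ⟨u', hu'1, hu'2⟩ := Groth.Agent.Lib.Helper12.exists_preimage_of_isPullback
      (EtCoh.isPullback_bc_map f φ) u v' hv'.symm
    have h1 : F.obj.map ((EtCoh.bc f).map φ).op τ.1 = 0 := congrArg Subtype.val h0
    exact hu ((EtCoh.bc f).obj V') ((EtCoh.bc f).map φ) ⟨u', hu'1⟩ h1

end Image

section Comp

variable {X Y Z : Scheme.{u}} (f : X ⟶ Y) (g : Y ⟶ Z) [LocallyOfFiniteType f]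
  [IsSeparated g] [LocallyOfFiniteType g] (F : EtCoh.Ab X)

instance isSeparated_prV (W : Z.Etale) : IsSeparated (EtShriek.prV g W) :=
  MorphismProperty.pullback_fst (P := @IsSeparated) _ _ inferInstance

set_option backward.isDefEq.respectTransparency.types false in
theorem shriekPred_comp_iff {W : Z.Etale} (s : EtCoh.sect F ((EtCoh.bc (f ≫ g)).obj W)) :
    EtShriek.ShriekPred (f ≫ g) F W s ↔
      ClSub.IsProperOver (EtShriek.prV f ((EtCoh.bc g).obj W) ≫ EtShriek.prV g W)
        (EtShriek.sectSupp F _ (F.obj.map (eIso f g W).inv.op s)) := by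
  rw [shriekPred_iff, hasProperSupport_iff, sectSupp_map]
  have h := isProperOver_iso_iff (leftIso (eIso f g W))
    (EtShriek.prV f ((EtCoh.bc g).obj W) ≫ EtShriek.prV g W) (EtShriek.sectSupp F _ s)
  have e : (leftIso (eIso f g W)).hom ≫ EtShriek.prV f ((EtCoh.bc g).obj W) ≫
      EtShriek.prV g W = EtShriek.prV (f ≫ g) W := eIso_hom_left_fst_fst f g W
  rw [e] at h
  exact h

set_option backward.isDefEq.respectTransparency.types false in
theorem comp_key {W : Z.Etale}
    (t : EtCoh.sect F ((EtCoh.bc f).obj ((EtCoh.bc g).obj W))) :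
    ClSub.IsProperOver (EtShriek.prV f ((EtCoh.bc g).obj W) ≫ EtShriek.prV g W)
        (EtShriek.sectSupp F _ t) ↔
      ∃ h : t ∈ EtShriek.shriekSubgroup f F ((EtCoh.bc g).obj W),
        EtShriek.ShriekPred g ((Sf f).obj F) W
          (show ↥(EtShriek.shriekSubgroup f F ((EtCoh.bc g).obj W)) from ⟨t, h⟩) := by
  constructor
  · intro hT
    have hA := isProperOver_of_comp _ _ _ hT
    have hB := isProperOver_image_of_comp _ _ _ hT
    have hmem : t ∈ EtShriek.shriekSubgroup f F ((EtCoh.bc g).obj W) := by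
      rw [mem_shriekSubgroup_iff, shriekPred_iff, hasProperSupport_iff]
      exact hA
    refine ⟨hmem, ?_⟩
    rw [shriekPred_iff, hasProperSupport_iff]
    have := sectSupp_Sf f F (V := (EtCoh.bc g).obj W) ⟨t, hmem⟩
    rw [this]
    exact hB
  · rintro ⟨hmem, hB⟩
    rw [shriekPred_iff, hasProperSupport_iff] at hB
    have := sectSupp_Sf f F (V := (EtCoh.bc g).obj W) ⟨t, hmem⟩
    rw [this] at hB
    have hA : ClSub.IsProperOver (EtShriek.prV f ((EtCoh.bc g).obj W))
        (EtShriek.sectSupp F _ t) := by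
      rw [mem_shriekSubgroup_iff, shriekPred_iff, hasProperSupport_iff] at hmem
      exact hmem
    exact isProperOver_comp_of_image _ _ _ _ hA hB subset_rfl

lemma eIso_inv_naturality' {W W' : Z.Etale} (φ : W' ⟶ W) :
    (eIso f g W').inv ≫ (EtCoh.bc (f ≫ g)).map φ =
      (EtCoh.bc f).map ((EtCoh.bc g).map φ) ≫ (eIso f g W).inv := by
  rw [Iso.inv_comp_eq, ← Category.assoc, ← eIso_naturality, Category.assoc, Iso.hom_inv_id,
    Category.comp_id]

/-- first step of the comparison on sections -/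
noncomputable def PsiApp₁ (W : Z.Etale) :
    EtShriek.shriekSubgroup (f ≫ g) F W →+
      EtShriek.shriekSubgroup f F ((EtCoh.bc g).obj W) :=
  ((F.obj.map (eIso f g W).inv.op).hom.comp
    (EtShriek.shriekSubgroup (f ≫ g) F W).subtype).codRestrict _ (fun s =>
      ((comp_key f g F _).1 ((shriekPred_comp_iff f g F s.1).1
        ((mem_shriekSubgroup_iff _ F W s.1).1 s.2))).choose)

lemma PsiApp₁_val (W : Z.Etale) (s : EtShriek.shriekSubgroup (f ≫ g) F W) :
    (PsiApp₁ f g F W s).1 = F.obj.map (eIso f g W).inv.op s.1 := rfl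

lemma PsiApp₁_mem (W : Z.Etale) (s : EtShriek.shriekSubgroup (f ≫ g) F W) :
    (show EtCoh.sect ((Sf f).obj F) ((EtCoh.bc g).obj W) from PsiApp₁ f g F W s) ∈
      EtShriek.shriekSubgroup g ((Sf f).obj F) W := by
  rw [mem_shriekSubgroup_iff]
  exact ((comp_key f g F _).1 ((shriekPred_comp_iff f g F s.1).1
    ((mem_shriekSubgroup_iff _ F W s.1).1 s.2))).choose_spec

/-- the comparison on sections -/
noncomputable def PsiApp (W : Z.Etale) :
    EtShriek.shriekSubgroup (f ≫ g) F W →+
      EtShriek.shriekSubgroup g ((Sf f).obj F) W :=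
  AddMonoidHom.codRestrict
    (show EtShriek.shriekSubgroup (f ≫ g) F W →+
      EtCoh.sect ((Sf f).obj F) ((EtCoh.bc g).obj W) from PsiApp₁ f g F W) _
    (fun s => PsiApp₁_mem f g F W s)

lemma PsiApp_val (W : Z.Etale) (s : EtShriek.shriekSubgroup (f ≫ g) F W) :
    (show ↥(EtShriek.shriekSubgroup f F ((EtCoh.bc g).obj W)) from (PsiApp f g F W s).1).1 =
      F.obj.map (eIso f g W).inv.op s.1 := rfl

lemma PsiApp_bijective (W : Z.Etale) : Function.Bijective (PsiApp f g F W) := by
  constructor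
  · intro s s' h
    apply Subtype.ext
    have h1 : F.obj.map (eIso f g W).inv.op s.1 = F.obj.map (eIso f g W).inv.op s'.1 := by
      rw [← PsiApp_val, ← PsiApp_val, h]
    have h2 := congrArg (fun z => F.obj.map (eIso f g W).hom.op z) h1
    simp only [Groth.Agent.Lib.T2H8.LocTriv.map_map_apply, Iso.hom_inv_id] at h2
    simpa using h2
  · intro τ
    let τ₁ : ↥(EtShriek.shriekSubgroup f F ((EtCoh.bc g).obj W)) := τ.1
    have hτ : EtShriek.ShriekPred g ((Sf f).obj F) W τ.1 :=
      (mem_shriekSubgroup_iff g ((Sf f).obj F) W τ.1).1 τ.2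
    have hT := (comp_key f g F τ₁.1).2 ⟨τ₁.2, hτ⟩
    have e1 : F.obj.map (eIso f g W).inv.op (F.obj.map (eIso f g W).hom.op τ₁.1) = τ₁.1 := by
      rw [Groth.Agent.Lib.T2H8.LocTriv.map_map_apply, Iso.inv_hom_id]
      simp
    have hs : F.obj.map (eIso f g W).hom.op τ₁.1 ∈ EtShriek.shriekSubgroup (f ≫ g) F W := by
      rw [mem_shriekSubgroup_iff, shriekPred_comp_iff f g F, e1]
      exact hT
    refine ⟨⟨_, hs⟩, ?_⟩
    apply Subtype.ext
    apply Subtype.ext
    exact e1

/-- the comparison morphism of sheaves -/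
noncomputable def PsiSheaf : (Sf (f ≫ g)).obj F ⟶ (Sf g).obj ((Sf f).obj F) :=
  ⟨{ app := fun W => AddCommGrpCat.ofHom (PsiApp f g F W.unop)
     naturality := fun W W' m => by
      ext s
      apply Subtype.ext
      apply Subtype.ext
      change F.obj.map (eIso f g W'.unop).inv.op
          (F.obj.map ((EtCoh.bc (f ≫ g)).map m.unop).op s.1) =
        F.obj.map ((EtCoh.bc f).map ((EtCoh.bc g).map m.unop)).op
          (F.obj.map (eIso f g W.unop).inv.op s.1)
      rw [Groth.Agent.Lib.T2H8.LocTriv.map_map_apply, Groth.Agent.Lib.T2H8.LocTriv.map_map_apply,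
        eIso_inv_naturality'] }⟩

instance isIso_PsiSheaf : IsIso (PsiSheaf f g F) := by
  haveI : IsIso (PsiSheaf f g F).hom := by
    apply (config := { allowSynthFailures := true }) NatIso.isIso_of_isIso_app
    intro W
    exact (ConcreteCategory.isIso_iff_bijective _).2 (PsiApp_bijective f g F W.unop)
  haveI : IsIso ((sheafToPresheaf Z.smallEtaleTopology AddCommGrpCat.{u + 1}).map
      (PsiSheaf f g F)) := this
  exact isIso_of_reflects_iso _ (sheafToPresheaf Z.smallEtaleTopology AddCommGrpCat.{u + 1})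

/-- the comparison is natural in the sheaf -/
noncomputable def PsiNat : Sf (f ≫ g) ⟶ Sf f ⋙ Sf g where
  app F := PsiSheaf f g F
  naturality F F' α := by
    apply Sheaf.hom_ext
    ext W s
    apply Subtype.ext
    apply Subtype.ext
    exact (NatTrans.naturality_apply α.hom (eIso f g W.unop).inv.op s.1).symm

/-- direct images with proper support compose -/
noncomputable def SfComp : Sf (f ≫ g) ≅ Sf f ⋙ Sf g :=
  NatIso.ofComponents (fun F => asIso (PsiSheaf f g F)) (fun α => (PsiNat f g).naturality α)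

end Comp

theorem main_S0685 {X Y Z : Scheme.{u}} (f : X ⟶ Y) (g : Y ⟶ Z) [IsSeparated f]
    [LocallyOfFiniteType f] [IsSeparated g] [LocallyOfFiniteType g] :
    Nonempty (EtShriek.lowerShriek (f ≫ g) ≅ EtShriek.lowerShriek f ⋙ EtShriek.lowerShriek g) :=
  ⟨shIso (f ≫ g) ≪≫ SfComp f g ≪≫ Functor.isoWhiskerRight (shIso f).symm (Sf g) ≪≫
    Functor.isoWhiskerLeft (EtShriek.lowerShriek f) (shIso g).symm⟩

end Groth.Agent.Lib.T2H8.ShriekComp
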