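import Mathlib
import Groth.Agent.Lib.Helper20EtSplitClopen
import Groth.Agent.Lib.T2H8ShriekCompact

/-!
# Etale-local structure of a closed subset proper over the base of a locally quasi-finite morphism
-/

set_option autoImplicit false
set_option linter.unusedSectionVars false
set_option linter.style.haveILetI false
universe u
open CategoryTheory CategoryTheory.Limits Opposite AlgebraicGeometry

namespace Groth.Agent.Lib.T2H8.ShriekLqfGeom

open Groth.Agent.Lib.Helper1 Groth.Agent.Lib.Helper20.EtSections Groth.Agent.Lib.Helper20.FinUnion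
open Groth.Agent.Lib.T2H8.ShriekSheaf Groth.Agent.Lib.T2H8.ShriekCompact

/-- the fibre of a closed subset proper over the base of a locally quasi-finite morphism is finite -/
theorem finite_fibre_of_isProperOver {X S : Scheme.{u}} (f : X ⟶ S) [LocallyQuasiFinite f]
    (Z : Set X) (hZ : ClSub.IsProperOver f Z) (s : S) : (Z ∩ f ⁻¹' {s}).Finite := by
  obtain ⟨hcl, hp⟩ := hZ
  haveI : IsProper (redι Z hcl ≫ f) := hp
  have h1 : ((redι Z hcl ≫ f) ⁻¹' {s}).Finite :=
    Scheme.Hom.finite_preimage_singleton (redι Z hcl ≫ f) s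
  refine (h1.image (redι Z hcl)).subset ?_
  rintro z ⟨hz, hzs⟩
  have : z ∈ Set.range (redι Z hcl) := by rw [range_redι]; exact hz
  obtain ⟨z', rfl⟩ := this
  refine ⟨z', ?_, rfl⟩
  change (redι Z hcl ≫ f) z' = s
  rw [Scheme.Hom.comp_apply]
  exact hzs

/-- the image of a closed subset proper over the base is closed -/
theorem isClosed_image_of_isProperOver {X S : Scheme.{u}} (f : X ⟶ S)
    (Z : Set X) (hZ : ClSub.IsProperOver f Z) : IsClosed (f '' Z) := by
  obtain ⟨hcl, hp⟩ := hZ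
  haveI : IsProper (redι Z hcl ≫ f) := hp
  have h1 : IsClosed (Set.range (redι Z hcl ≫ f)) := (redι Z hcl ≫ f).isClosedMap.isClosed_range
  have h2 : Set.range (redι Z hcl ≫ f) = f '' Z := by
    rw [Scheme.Hom.comp_base, TopCat.coe_comp, Set.range_comp, range_redι]
  rwa [h2] at h1

set_option backward.isDefEq.respectTransparency.types false in
/-- **Etale-local structure.** `f` separated, locally of finite type and locally quasi-finite,
`Z` a closed subset proper over the base, `s` a point of the base.  After an etale base change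
around `s`, the preimage of `Z` lies in an open and closed subscheme finite over the base. -/
theorem exists_etale_clopen_finite {X S : Scheme.{u}} (f : X ⟶ S) [LocallyOfFiniteType f]
    [IsSeparated f] [LocallyQuasiFinite f] (Z : Set X) (hZ : ClSub.IsProperOver f Z) (s : S) :
    ∃ (U : Scheme.{u}) (g : U ⟶ S) (u : U), Etale g ∧ g u = s ∧
      ∃ 𝒰 : (pullback f g).Opens, IsClosed (𝒰 : Set ↥(pullback f g)) ∧
        IsFinite (𝒰.ι ≫ pullback.snd f g) ∧ (pullback.fst f g) ⁻¹' Z ⊆ 𝒰 := by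
  have hT : (Z ∩ f ⁻¹' {s}).Finite := finite_fibre_of_isProperOver f Z hZ s
  obtain ⟨U, g, u, hg, hu, hFfin, V, -, hV⟩ := exists_etale_split_clopen f s (Z ∩ f ⁻¹' {s}) hT
    (fun t ht => ⟨ht.2, Scheme.Hom.quasiFiniteAt _ _⟩)
  let K := {w : ↥(pullback f g) // pullback.snd f g w = u ∧ pullback.fst f g w ∈ Z ∩ f ⁻¹' {s}}
  haveI : Finite K := hFfin.to_subtype
  let 𝒰₀ : (pullback f g).Opens := ⨆ k : K, V k.1
  have h𝒰₀ := isFinite_iSup_of_isClosed (pullback.snd f g) (fun k : K => V k.1)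
    (fun k => (hV k.1 k.2.1 k.2.2).2.1.1) (fun k => (hV k.1 k.2.1 k.2.2).2.2.1)
  have hfin₀ : IsFinite (𝒰₀.ι ≫ pullback.snd f g) := h𝒰₀.1
  have hcl₀ : IsClosed (𝒰₀ : Set ↥(pullback f g)) := h𝒰₀.2
  -- the bad locus
  have hZ' : ClSub.IsProperOver (pullback.snd f g) ((pullback.fst f g) ⁻¹' Z) :=
    isProperOver_baseChange f (pullback.fst f g) (pullback.snd f g) g
      (IsPullback.of_hasPullback f g) Z hZ
  let B : Set ↥(pullback f g) := (pullback.fst f g) ⁻¹' Z ∩ (𝒰₀ : Set ↥(pullback f g))ᶜ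
  have hBcl : IsClosed B := hZ'.1.inter 𝒰₀.2.isClosed_compl
  have hB : ClSub.IsProperOver (pullback.snd f g) B :=
    isProperOver_of_subset _ hZ' hBcl Set.inter_subset_left
  have hBim : IsClosed ((pullback.snd f g) '' B) := isClosed_image_of_isProperOver _ B hB
  have huB : u ∉ (pullback.snd f g) '' B := by
    rintro ⟨b, ⟨hbZ, hb𝒰⟩, hbu⟩
    have hbs : f (pullback.fst f g b) = s := by
      rw [← Scheme.Hom.comp_apply, pullback.condition, Scheme.Hom.comp_apply, hbu, hu]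
    have hbT : pullback.fst f g b ∈ Z ∩ f ⁻¹' {s} := ⟨hbZ, hbs⟩
    apply hb𝒰
    have : b ∈ V b := (hV b hbu hbT).1
    exact TopologicalSpace.Opens.mem_iSup.mpr ⟨⟨b, hbu, hbT⟩, this⟩
  let U₁ : U.Opens := ⟨((pullback.snd f g) '' B)ᶜ, hBim.isOpen_compl⟩
  let 𝒰₁ : (pullback f (U₁.ι ≫ g)).Opens := (bcMap f g U₁.ι) ⁻¹ᵁ 𝒰₀
  refine ⟨U₁, U₁.ι ≫ g, ⟨u, huB⟩, inferInstance, ?_, 𝒰₁, ?_, ?_, ?_⟩
  · rw [Scheme.Hom.comp_apply]
    exact hu
  · exact hcl₀.preimage (bcMap f g U₁.ι).continuous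
  · have sq1 : IsPullback ((bcMap f g U₁.ι) ∣_ 𝒰₀) 𝒰₁.ι 𝒰₀.ι (bcMap f g U₁.ι) :=
      isPullback_morphismRestrict _ _
    have sq2 : IsPullback (bcMap f g U₁.ι) (pullback.snd f (U₁.ι ≫ g)) (pullback.snd f g) U₁.ι :=
      isPullback_bcMap f g U₁.ι
    have sq : IsPullback ((bcMap f g U₁.ι) ∣_ 𝒰₀) (𝒰₁.ι ≫ pullback.snd f (U₁.ι ≫ g))
        (𝒰₀.ι ≫ pullback.snd f g) U₁.ι := sq1.paste_vert sq2
    exact MorphismProperty.of_isPullback (P := @IsFinite) sq hfin₀
  · intro x hx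
    change bcMap f g U₁.ι x ∈ 𝒰₀
    by_contra hcon
    have hxZ : pullback.fst f g (bcMap f g U₁.ι x) ∈ Z := by
      rw [bcMap_fst_apply]; exact hx
    have hxB : bcMap f g U₁.ι x ∈ B := ⟨hxZ, hcon⟩
    have h1 : pullback.snd f g (bcMap f g U₁.ι x) ∈ (pullback.snd f g) '' B := ⟨_, hxB, rfl⟩
    rw [bcMap_snd_apply] at h1
    exact (pullback.snd f (U₁.ι ≫ g) x).2 h1

end Groth.Agent.Lib.T2H8.ShriekLqfGeom
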