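import Mathlib
import Groth.Agent.Lib.T2H8ShriekLqfGeom
import Groth.Agent.Lib.T2H8ShriekComp
import Groth.Agent.Lib.T2H8FiniteSplit
import Groth.Agent.Lib.Helper16EtGlue

/-!
# `f_!` preserves epimorphisms for `f` separated and locally quasi-finite
-/

set_option autoImplicit false
set_option linter.unusedSectionVars false
set_option linter.style.haveILetI false
universe u
open CategoryTheory CategoryTheory.Limits Opposite AlgebraicGeometry

namespace Groth.Agent.Lib.T2H8.ShriekLqfExact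

open Groth.Agent.Lib.Helper1 Groth.Agent.Lib.Helper16.SmallEtale Groth.Agent.Lib.Helper16.EtGlue
open Groth.Agent.Lib.T2H8.ShriekSheaf Groth.Agent.Lib.T2H8.ShriekCompact
open Groth.Agent.Lib.T2H8.ShriekLqfGeom Groth.Agent.Lib.T2H8.Excision Groth.Agent.Lib.T2H8.ShriekComp

section Geom

variable {X Y : Scheme.{u}} (f : X ⟶ Y)

set_option backward.isDefEq.respectTransparency.types false in
instance isSeparated_prV [IsSeparated f] (V : Y.Etale) : IsSeparated (EtShriek.prV f V) :=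
  MorphismProperty.pullback_fst (P := @IsSeparated) _ _ inferInstance

set_option backward.isDefEq.respectTransparency.types false in
instance locallyQuasiFinite_prV [LocallyQuasiFinite f] (V : Y.Etale) :
    LocallyQuasiFinite (EtShriek.prV f V) :=
  MorphismProperty.pullback_fst (P := @LocallyQuasiFinite) _ _ inferInstance

set_option backward.isDefEq.respectTransparency.types false in
/-- etale-local structure, in terms of the base change functor of small etale sites -/
theorem exists_clopen_finite_bc [LocallyOfFiniteType f] [IsSeparated f] [LocallyQuasiFinite f]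
    (V : Y.Etale) (Z : Set ((EtCoh.bc f).obj V).left)
    (hZ : ClSub.IsProperOver (EtShriek.prV f V) Z) (v : V.left) :
    ∃ (W : Y.Etale) (k : W ⟶ V) (w : W.left), k.left w = v ∧
      ∃ 𝒰 : ((EtCoh.bc f).obj W).left.Opens, IsClosed (𝒰 : Set ((EtCoh.bc f).obj W).left) ∧
        IsFinite (𝒰.ι ≫ EtShriek.prV f W) ∧ ((EtCoh.bc f).map k).left ⁻¹' Z ⊆ 𝒰 := by
  obtain ⟨U, g, u, hg, hu, 𝒰₀, hcl₀, hfin₀, hsub₀⟩ :=
    exists_etale_clopen_finite (EtShriek.prV f V) Z hZ v
  let W : Y.Etale := Scheme.Etale.mk (g ≫ V.hom)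
  let k : W ⟶ V := MorphismProperty.Over.homMk g rfl
  let bm : ((EtCoh.bc f).obj W).left ⟶ ((EtCoh.bc f).obj V).left := ((EtCoh.bc f).map k).left
  have sq' : IsPullback bm (EtShriek.prV f W) (EtShriek.prV f V) g := EtCoh.isPullback_bc_map f k
  have sq : IsPullback (pullback.fst (EtShriek.prV f V) g) (pullback.snd (EtShriek.prV f V) g)
      (EtShriek.prV f V) g := IsPullback.of_hasPullback _ _
  let τ : pullback (EtShriek.prV f V) g ≅ ((EtCoh.bc f).obj W).left := sq.isoIsPullback _ _ sq'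
  have hτ1 : τ.hom ≫ bm = pullback.fst _ _ := IsPullback.isoIsPullback_hom_fst _ _ sq sq'
  have hτ2 : τ.hom ≫ EtShriek.prV f W = pullback.snd _ _ :=
    IsPullback.isoIsPullback_hom_snd _ _ sq sq'
  have hτ1' : τ.inv ≫ pullback.fst (EtShriek.prV f V) g = bm := (Iso.inv_comp_eq _).2 hτ1.symm
  have hτ2' : τ.inv ≫ pullback.snd (EtShriek.prV f V) g = EtShriek.prV f W :=
    (Iso.inv_comp_eq _).2 hτ2.symm
  let 𝒰 : ((EtCoh.bc f).obj W).left.Opens := τ.inv ⁻¹ᵁ 𝒰₀
  refine ⟨W, k, u, hu, 𝒰, hcl₀.preimage τ.inv.continuous, ?_, ?_⟩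
  · have e : 𝒰.ι ≫ EtShriek.prV f W = (τ.inv ∣_ 𝒰₀) ≫ 𝒰₀.ι ≫ pullback.snd _ _ := by
      rw [← Category.assoc, morphismRestrict_ι, Category.assoc, hτ2']
      rfl
    rw [e]
    exact (MorphismProperty.cancel_left_of_respectsIso @IsFinite (τ.inv ∣_ 𝒰₀) _).2 hfin₀
  · intro x hx
    change τ.inv x ∈ 𝒰₀
    apply hsub₀
    change (pullback.fst (EtShriek.prV f V) g) (τ.inv x) ∈ Z
    rw [← Scheme.Hom.comp_apply, hτ1']
    exact hx

end Geom

section Lift

variable {X Y : Scheme.{u}} (f : X ⟶ Y) {F G : EtCoh.Ab X} (φ : F ⟶ G)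

set_option backward.isDefEq.respectTransparency.types false in
set_option maxHeartbeats 1600000 in
/-- lifting a section supported in a clopen finite over the base, etale locally on the base -/
theorem exists_lift_of_clopen_finite (hφ : Sheaf.IsLocallySurjective φ) (V : Y.Etale)
    (𝒰 : ((EtCoh.bc f).obj V).left.Opens) (hcl : IsClosed (𝒰 : Set ((EtCoh.bc f).obj V).left))
    (hfin : IsFinite (𝒰.ι ≫ EtShriek.prV f V))
    (t : G.obj.obj (op ((EtCoh.bc f).obj V)))
    (ht : EtShriek.sectSupp G _ t ⊆ 𝒰) (v : V.left) :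
    ∃ (W : Y.Etale) (k : W ⟶ V) (w : W.left), k.left w = v ∧
      ∃ s : F.obj.obj (op ((EtCoh.bc f).obj W)),
        φ.hom.app _ s = G.obj.map ((EtCoh.bc f).map k).op t ∧
        EtShriek.sectSupp F _ s ⊆ ((EtCoh.bc f).map k).left ⁻¹' 𝒰 := by
  classical
  let P : X.Etale := (EtCoh.bc f).obj V
  have hcov : Presheaf.imageSieve φ.hom (U := P) t ∈ X.smallEtaleTopology P :=
    Presheaf.imageSieve_mem X.smallEtaleTopology φ.hom (U := op P) t
  rw [mem_smallEtale_iff] at hcov
  choose E e y he hy using hcov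
  choose σ hσ using he
  have hEhom : ∀ x, (e x).left ≫ P.hom = (E x).hom := fun x => Over.w (e x).hom
  -- the family over the clopen
  let E' : P.left → Scheme.{u} := fun x => (((e x).left ⁻¹ᵁ 𝒰 : (E x).left.Opens) : Scheme.{u})
  let e' : ∀ x, E' x ⟶ (𝒰 : Scheme.{u}) := fun x => (e x).left ∣_ 𝒰
  haveI : ∀ x, Etale (e x).left := fun x => inferInstanceAs (Etale (e x).left)
  haveI : ∀ x, Etale (e' x) := fun x => by
    have sqx : IsPullback ((e x).left ∣_ 𝒰) ((e x).left ⁻¹ᵁ 𝒰).ι 𝒰.ι (e x).left :=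
      isPullback_morphismRestrict _ _
    exact MorphismProperty.of_isPullback (P := @Etale) sqx.flip inferInstance
  let h : (𝒰 : Scheme.{u}) ⟶ V.left := 𝒰.ι ≫ EtShriek.prV f V
  haveI : IsFinite h := hfin
  have hcovfib : ∀ z : (𝒰 : Scheme.{u}), h z = v → ∃ x, z ∈ Set.range (e' x) := by
    intro z _
    refine ⟨𝒰.ι z, ?_⟩
    have hmem : y (𝒰.ι z) ∈ (e (𝒰.ι z)).left ⁻¹ᵁ 𝒰 := by
      change (e (𝒰.ι z)).left (y (𝒰.ι z)) ∈ 𝒰
      rw [hy]
      exact z.2
    refine ⟨⟨y (𝒰.ι z), hmem⟩, ?_⟩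
    apply 𝒰.ι.isOpenEmbedding.injective
    rw [← Scheme.Hom.comp_apply, morphismRestrict_ι, Scheme.Hom.comp_apply]
    exact hy (𝒰.ι z)
  obtain ⟨S', g', s', X', p, q, hg', hs', sq, K, hK, D, pt, hdisj, htop, -, hlift⟩ :=
    Groth.Agent.Lib.T2H8FiniteSplit.exists_split (E := E') (e := e') h v hcovfib
  choose i hh hhh using hlift
  let W : Y.Etale := Scheme.Etale.mk (g' ≫ V.hom)
  let k : W ⟶ V := MorphismProperty.Over.homMk g' rfl
  refine ⟨W, k, s', hs', ?_⟩
  let PW : X.Etale := (EtCoh.bc f).obj W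
  let bm : PW.left ⟶ P.left := ((EtCoh.bc f).map k).left
  have sq' : IsPullback bm (EtShriek.prV f W) (EtShriek.prV f V) g' := EtCoh.isPullback_bc_map f k
  have hbm2 : bm ≫ P.hom = PW.hom := bc_map_left_snd f k
  let 𝒰W : PW.left.Opens := bm ⁻¹ᵁ 𝒰
  have hclW : IsClosed (𝒰W : Set PW.left) := hcl.preimage bm.continuous
  have sqU : IsPullback (bm ∣_ 𝒰) (𝒰W.ι ≫ EtShriek.prV f W) h g' :=
    (isPullback_morphismRestrict bm 𝒰).paste_vert sq'
  let τ : X' ≅ (𝒰W : Scheme.{u}) := sq.isoIsPullback _ _ sqU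
  have hτ1 : τ.hom ≫ (bm ∣_ 𝒰) = p := IsPullback.isoIsPullback_hom_fst _ _ sq sqU
  -- the key identity of morphisms to `P.left`
  have hkeyL : ∀ a, ((D a).ι ≫ τ.hom ≫ 𝒰W.ι) ≫ bm =
      (hh a ≫ ((e (i a)).left ⁻¹ᵁ 𝒰).ι) ≫ (e (i a)).left := by
    intro a
    have h1 : ((e (i a)).left ⁻¹ᵁ 𝒰).ι ≫ (e (i a)).left = e' (i a) ≫ 𝒰.ι :=
      (morphismRestrict_ι _ _).symm
    have h2 : 𝒰W.ι ≫ bm = (bm ∣_ 𝒰) ≫ 𝒰.ι := (morphismRestrict_ι _ _).symm
    rw [Category.assoc, Category.assoc, h2, ← Category.assoc τ.hom, hτ1, Category.assoc, h1,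
      ← Category.assoc (hh a), hhh a, Category.assoc]
  -- the etale `X`-schemes
  let Wobj : K → X.Etale := fun a => Scheme.Etale.mk ((D a).ι ≫ τ.hom ≫ 𝒰W.ι ≫ PW.hom)
  let ja : ∀ a, Wobj a ⟶ PW := fun a =>
    MorphismProperty.Over.homMk ((D a).ι ≫ τ.hom ≫ 𝒰W.ι) (by rw [Category.assoc, Category.assoc]; rfl)
  let C : PW.left.Opens := ⟨(𝒰W : Set PW.left)ᶜ, hclW.isOpen_compl⟩
  let Cobj : X.Etale := Scheme.Etale.mk (C.ι ≫ PW.hom)
  let jC : Cobj ⟶ PW := MorphismProperty.Over.homMk C.ι rfl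
  have hha : ∀ a, (hh a ≫ ((e (i a)).left ⁻¹ᵁ 𝒰).ι) ≫ (E (i a)).hom = (Wobj a).hom := by
    intro a
    rw [← hEhom, ← Category.assoc, ← hkeyL a, Category.assoc, hbm2]
    simp only [Category.assoc]
    rfl
  let ha : ∀ a, Wobj a ⟶ E (i a) := fun a =>
    MorphismProperty.Over.homMk (hh a ≫ ((e (i a)).left ⁻¹ᵁ 𝒰).ι) (hha a)
  have hkey : ∀ a, ja a ≫ (EtCoh.bc f).map k = ha a ≫ e (i a) := by
    intro a
    apply MorphismProperty.Over.Hom.ext
    exact hkeyL a
  let ta : ∀ a, F.obj.obj (op (Wobj a)) := fun a => F.obj.map (ha a).op (σ (i a))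
  -- option-indexed disjoint cover of `PW`
  let WW : Option K → X.Etale := fun o => Option.rec Cobj Wobj o
  let jj : ∀ o, WW o ⟶ PW := fun o => Option.rec jC ja o
  let tt : ∀ o, F.obj.obj (op (WW o)) := fun o => Option.rec (0 : F.obj.obj (op Cobj)) ta o
  have hmono : ∀ o, Mono (jj o).left := by
    intro o
    cases o with
    | none => exact inferInstanceAs (Mono C.ι)
    | some a => exact inferInstanceAs (Mono ((D a).ι ≫ τ.hom ≫ 𝒰W.ι))
  have hjaU : ∀ a (x : (Wobj a).left), (ja a).left x ∈ 𝒰W := by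
    intro a x
    change ((D a).ι ≫ τ.hom ≫ 𝒰W.ι) x ∈ 𝒰W
    rw [Scheme.Hom.comp_apply, Scheme.Hom.comp_apply]
    exact (τ.hom ((D a).ι x)).2
  have hjCU : ∀ x : Cobj.left, jC.left x ∉ 𝒰W := fun x => x.2
  have hdisj' : ∀ o o', o ≠ o' → ∀ (x : (WW o).left) (x' : (WW o').left),
      (jj o).left x ≠ (jj o').left x' := by
    intro o o' hoo x x' hxx
    cases o with
    | none =>
      cases o' with
      | none => exact hoo rfl
      | some b =>
        apply hjCU x
        change jC.left x ∈ 𝒰W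
        have : jC.left x = (ja b).left x' := hxx
        rw [this]
        exact hjaU b x'
    | some a =>
      cases o' with
      | none =>
        apply hjCU x'
        change jC.left x' ∈ 𝒰W
        have : (ja a).left x = jC.left x' := hxx
        rw [← this]
        exact hjaU a x
      | some b =>
        have hab : a ≠ b := fun hab => hoo (by rw [hab])
        have h1 : ((D a).ι ≫ τ.hom ≫ 𝒰W.ι) x = ((D b).ι ≫ τ.hom ≫ 𝒰W.ι) x' := hxx
        simp only [Scheme.Hom.comp_apply] at h1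
        have h2 : τ.hom ((D a).ι x) = τ.hom ((D b).ι x') := 𝒰W.ι.isOpenEmbedding.injective h1
        have h3 : (D a).ι x = (D b).ι x' := τ.hom.isOpenEmbedding.injective h2
        have hx : (D a).ι x ∈ D a := x.2
        have hx' : (D b).ι x' ∈ D b := x'.2
        rw [← h3] at hx'
        exact (hdisj a b hab).le_bot ⟨hx, hx'⟩
  have hcov' : ∀ z : PW.left, ∃ (o : Option K) (x : (WW o).left), (jj o).left x = z := by
    intro z
    by_cases hz : z ∈ 𝒰W
    · let z' : (𝒰W : Scheme.{u}) := ⟨z, hz⟩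
      have hz' : τ.hom (τ.inv z') = z' :=
        congrArg (fun m : (𝒰W : Scheme.{u}) ⟶ (𝒰W : Scheme.{u}) => m z') τ.inv_hom_id
      have hmem : τ.inv z' ∈ (⨆ a, D a) := by rw [htop]; trivial
      obtain ⟨a, ha'⟩ := TopologicalSpace.Opens.mem_iSup.mp hmem
      refine ⟨some a, ⟨τ.inv z', ha'⟩, ?_⟩
      change ((D a).ι ≫ τ.hom ≫ 𝒰W.ι) ⟨τ.inv z', ha'⟩ = z
      rw [Scheme.Hom.comp_apply, Scheme.Hom.comp_apply]
      change 𝒰W.ι (τ.hom (τ.inv z')) = z
      rw [hz']
      rfl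
    · exact ⟨none, ⟨z, hz⟩, rfl⟩
  obtain ⟨s, hs, -⟩ := exists_unique_glue (F.obj ⋙ forget AddCommGrpCat) (isSheaf_forget F) WW jj
    hmono hdisj' hcov' tt
  have hsa : ∀ a, F.obj.map (ja a).op s = ta a := fun a => hs (some a)
  have hsC : F.obj.map jC.op s = 0 := hs none
  refine ⟨s, ?_, ?_⟩
  · -- the lift maps to the restriction of `t`
    apply eq_of_locally_eq G
    intro z
    obtain ⟨o, x, hx⟩ := hcov' z
    cases o with
    | some a =>
      refine ⟨Wobj a, ja a, ⟨x, hx⟩, ?_⟩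
      have n1 := NatTrans.naturality_apply φ.hom (ja a).op s
      have n2 := NatTrans.naturality_apply φ.hom (ha a).op (σ (i a))
      change G.obj.map (ja a).op (φ.hom.app (op PW) s) = _
      rw [← n1, hsa a]
      change φ.hom.app _ (F.obj.map (ha a).op (σ (i a))) = _
      rw [n2, hσ (i a), ← map_comp_apply, ← map_comp_apply, hkey a]
    | none =>
      refine ⟨Cobj, jC, ⟨x, hx⟩, ?_⟩
      have n1 := NatTrans.naturality_apply φ.hom jC.op s
      change G.obj.map jC.op (φ.hom.app (op PW) s) = _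
      rw [← n1, hsC, map_zero]
      symm
      apply eq_zero_of_sectSupp_eq_empty
      rw [sectSupp_map, sectSupp_map]
      ext c
      simp only [Set.mem_preimage, Set.mem_empty_iff_false, iff_false]
      intro hc
      exact hjCU c (ht hc)
  · intro z hz
    by_contra hcon
    have hzC : z ∈ C := hcon
    have : z ∉ EtShriek.sectSupp F PW s := by
      rw [not_mem_sectSupp_iff]
      exact ⟨Cobj, jC, ⟨⟨z, hzC⟩, rfl⟩, hsC⟩
    exact this hz

end Lift

section Main

variable {X Y : Scheme.{u}} (f : X ⟶ Y) [LocallyOfFiniteType f] [IsSeparated f]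
  [LocallyQuasiFinite f]

set_option backward.isDefEq.respectTransparency.types false in
/-- an open and closed subset finite over the base is proper over the base -/
theorem isProperOver_of_clopen_finite {A S : Scheme.{u}} (p : A ⟶ S) [LocallyOfFiniteType p]
    (𝒰 : A.Opens) (hcl : IsClosed (𝒰 : Set A)) (hfin : IsFinite (𝒰.ι ≫ p)) :
    ClSub.IsProperOver p (𝒰 : Set A) := by
  have hr : Set.range 𝒰.ι = (𝒰 : Set A) := Scheme.Opens.range_ι 𝒰
  haveI : IsClosedImmersion 𝒰.ι := IsClosedImmersion.of_isPreimmersion _ (by rw [hr]; exact hcl)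
  rw [isProperOver_iff_isProper_comp p 𝒰.ι _ hr]
  infer_instance

set_option backward.isDefEq.respectTransparency.types false in
set_option maxHeartbeats 1600000 in
/-- `f_!` preserves epimorphisms for `f` separated, locally of finite type and locally
quasi-finite -/
theorem Sf_preservesEpimorphisms : (Sf f).PreservesEpimorphisms := by
  constructor
  intro F G φ hφ
  have hls : Sheaf.IsLocallySurjective φ := (Sheaf.isLocallySurjective_iff_epi' (φ := φ)).2 hφ
  rw [← Sheaf.isLocallySurjective_iff_epi' (φ := (Sf f).map φ)]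
  constructor
  intro V t
  rw [mem_smallEtale_iff]
  intro v
  let t' : ↥(EtShriek.shriekSubgroup f G V) := t
  have ht : EtShriek.ShriekPred f G V t'.1 := (mem_shriekSubgroup_iff f G V t'.1).1 t'.2
  have hprop : ClSub.IsProperOver (EtShriek.prV f V) (EtShriek.sectSupp G _ t'.1) :=
    (hasProperSupport_iff f G t'.1).1 ((shriekPred_iff f G t'.1).1 ht)
  obtain ⟨W, k, w, hw, 𝒰, hcl, hfin, hsub⟩ := exists_clopen_finite_bc f V _ hprop v
  obtain ⟨W', k', w', hw', s, hs1, hs2⟩ := exists_lift_of_clopen_finite f φ hls W 𝒰 hcl hfin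
    (G.obj.map ((EtCoh.bc f).map k).op t'.1) (by rw [sectSupp_map]; exact hsub) w
  have hsmem : s ∈ EtShriek.shriekSubgroup f F W' := by
    rw [mem_shriekSubgroup_iff, shriekPred_iff, hasProperSupport_iff]
    have h1 : ClSub.IsProperOver (EtShriek.prV f W) (𝒰 : Set ((EtCoh.bc f).obj W).left) :=
      isProperOver_of_clopen_finite _ 𝒰 hcl hfin
    have h2 : ClSub.IsProperOver (EtShriek.prV f W') (((EtCoh.bc f).map k').left ⁻¹' 𝒰) :=
      isProperOver_baseChange (EtShriek.prV f W) ((EtCoh.bc f).map k').left (EtShriek.prV f W')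
        k'.left (EtCoh.isPullback_bc_map f k') _ h1
    exact isProperOver_of_subset _ h2 (isClosed_sectSupp F s) hs2
  refine ⟨W', k' ≫ k, w', ⟨⟨s, hsmem⟩, ?_⟩, ?_⟩
  · apply Subtype.ext
    change φ.hom.app _ s = G.obj.map ((EtCoh.bc f).map (k' ≫ k)).op t'.1
    rw [hs1, Functor.map_comp, map_comp_apply]
  · change (k' ≫ k).left w' = v
    have : (k' ≫ k).left w' = k.left (k'.left w') := Scheme.Hom.comp_apply _ _ _
    rw [this, hw', hw]

end Main

end Groth.Agent.Lib.T2H8.ShriekLqfExact
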