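import Mathlib
import Groth.Agent.Lib.T2H8LqfStalkCore
import Groth.Agent.Lib.T2H8StalkFinite
import Groth.Agent.Lib.T2H8ShriekLqfExact
import Groth.Agent.Lib.Helper16EtSupp
import Groth.Agent.Lib.T2H8ExtZeroMono
import Groth.Agent.Lib.T2H8DirectSumIso

/-!
# The stalk formula for `f_!`, `f` separated and locally quasi-finite (S0683)
-/

set_option autoImplicit false
set_option linter.unusedSectionVars false
set_option linter.style.haveILetI false
universe u
open CategoryTheory CategoryTheory.Limits Opposite AlgebraicGeometry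

namespace Groth.Agent.Lib.T2H8.LqfStalk

open Groth.Agent.Lib.Helper1 Groth.Agent.Lib.Helper16.SmallEtale Groth.Agent.Lib.Helper16.EtGlue
open Groth.Agent.Lib.T2H8.ShriekSheaf Groth.Agent.Lib.T2H8.ShriekCompact
open Groth.Agent.Lib.T2H8.ShriekLqfGeom Groth.Agent.Lib.T2H8.Excision
open Groth.Agent.Lib.T2H8.ShriekComp Groth.Agent.Lib.T2H8.ShriekLqfExact
open Groth.Agent.Lib.T2H8StalkFiniteCore (liftPt liftPt_left_fst liftPt_left_snd liftPt_map
  finite_geomPts)
open Groth.Agent.Lib.T2H8StalkFinite (θ toPresheafFiber_θ)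
open Groth.Agent.Lib.T2H8FiniteSplitPt (exists_lift_open)
open Groth.Agent.Lib.Helper16.EtSupp (germ_eq_zero_iff)
open Groth.Agent.Lib.Helper16.StalkPull (germ)
open Groth.Agent.Lib.T2H8.ExtZeroMono (compl complι range_complι exists_isExtZ)

variable {X Y : Scheme.{u}} (f : X ⟶ Y) [LocallyOfFiniteType f]
  (F : EtCoh.Ab X) {Ω : Type u} [Field Ω] [IsAlgClosed Ω] (η : Spec (CommRingCat.of Ω) ⟶ Y)

/-- the inclusion of the presheaf of sections with proper support -/
noncomputable def incl : EtShriek.lowerShriekPre f F ⟶ (EtCoh.bc f).op ⋙ F.obj :=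
  EtShriek.lowerShriekPreι f F

/-- the germ maps -/
noncomputable def Θ (ξ : Spec (CommRingCat.of Ω) ⟶ X) (h : ξ ≫ f = η) :
    (Scheme.pointSmallEtale η).presheafFiber.obj (EtShriek.lowerShriekPre f F) ⟶
      (Scheme.pointSmallEtale ξ).presheafFiber.obj F.obj :=
  (Scheme.pointSmallEtale η).presheafFiber.map (incl f F) ≫ θ f ξ η h F.obj

set_option backward.isDefEq.respectTransparency.types false in
lemma toPresheafFiber_Θ (ξ : Spec (CommRingCat.of Ω) ⟶ X) (h : ξ ≫ f = η) (V : Y.Etale)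
    (v : (Scheme.pointSmallEtale η).fiber.obj V) :
    (Scheme.pointSmallEtale η).toPresheafFiber V v (EtShriek.lowerShriekPre f F) ≫ Θ f F η ξ h =
      (incl f F).app (op V) ≫ (Scheme.pointSmallEtale ξ).toPresheafFiber ((EtCoh.bc f).obj V)
        (liftPt f ξ η h V v) F.obj := by
  unfold Θ
  rw [← Category.assoc, GrothendieckTopology.Point.toPresheafFiber_naturality, Category.assoc,
    toPresheafFiber_θ]

set_option backward.isDefEq.respectTransparency.types false in
lemma Θ_germ (ξ : Spec (CommRingCat.of Ω) ⟶ X) (h : ξ ≫ f = η) (V : Y.Etale)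
    (v : (Scheme.pointSmallEtale η).fiber.obj V) (s : ↥(EtShriek.shriekSubgroup f F V)) :
    Θ f F η ξ h ((Scheme.pointSmallEtale η).toPresheafFiber V v
      (EtShriek.lowerShriekPre f F) s) =
      (Scheme.pointSmallEtale ξ).toPresheafFiber ((EtCoh.bc f).obj V) (liftPt f ξ η h V v)
        F.obj s.1 :=
  ConcreteCategory.congr_hom (toPresheafFiber_Θ f F η ξ h V v) s

variable [IsSeparated f] [LocallyQuasiFinite f]

set_option backward.isDefEq.respectTransparency.types false in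
/-- joint injectivity of the germ maps -/
theorem Θ_jointly_injective
    (a : ToType ((Scheme.pointSmallEtale η).presheafFiber.obj (EtShriek.lowerShriekPre f F)))
    (H : ∀ (ξ : Spec (CommRingCat.of Ω) ⟶ X) (h : ξ ≫ f = η), Θ f F η ξ h a = 0) : a = 0 := by
  obtain ⟨V, v, s, rfl⟩ := (Scheme.pointSmallEtale η).toPresheafFiber_jointly_surjective a
  let s' : ↥(EtShriek.shriekSubgroup f F V) := s
  obtain ⟨Z, hZdef⟩ : ∃ Z, Z = EtShriek.sectSupp F ((EtCoh.bc f).obj V) s'.1 := ⟨_, rfl⟩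
  have hs : EtShriek.ShriekPred f F V s'.1 := (mem_shriekSubgroup_iff f F V s'.1).1 s'.2
  have hZ : ClSub.IsProperOver (EtShriek.prV f V) Z := by
    rw [hZdef]
    exact (hasProperSupport_iff f F s'.1).1 ((shriekPred_iff f F s'.1).1 hs)
  obtain ⟨v₀, hv₀def⟩ : ∃ v₀ : V.left, v₀ =
      (v.left : Spec (CommRingCat.of Ω) ⟶ V.left) (default : Spec (CommRingCat.of Ω)) := ⟨_, rfl⟩
  have hfib : ∀ z ∈ Z, EtShriek.prV f V z ≠ v₀ := by
    intro z hz hzv
    obtain ⟨ξ, h, hξ⟩ := Groth.Agent.Lib.T2H8LqfStalkCore.exists_liftPt_eq f η V v z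
      (hzv.trans hv₀def)
    have h0 : (Scheme.pointSmallEtale ξ).toPresheafFiber ((EtCoh.bc f).obj V)
        (liftPt f ξ η h V v) F.obj s'.1 = 0 := (Θ_germ f F η ξ h V v s').symm.trans (H ξ h)
    have := (germ_eq_zero_iff F ξ ((EtCoh.bc f).obj V) (liftPt f ξ η h V v) s'.1 z hξ).1 h0
    rw [hZdef] at hz
    exact this hz
  have hcl : IsClosed (EtShriek.prV f V '' Z) := isClosed_image_of_isProperOver _ Z hZ
  let V'o : V.left.Opens := ⟨(EtShriek.prV f V '' Z)ᶜ, hcl.isOpen_compl⟩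
  have hv₀ : v₀ ∈ V'o := by
    rintro ⟨z, hz, hzv⟩
    exact hfib z hz hzv
  let V' : Y.Etale := Scheme.Etale.mk (V'o.ι ≫ V.hom)
  let k : V' ⟶ V := MorphismProperty.Over.homMk V'o.ι rfl
  obtain ⟨ζ, hζ⟩ := exists_lift_open (v.left : Spec (CommRingCat.of Ω) ⟶ V.left) V'o
    (hv₀def ▸ hv₀)
  have hζη : ζ ≫ V'o.ι ≫ V.hom = η := by
    have e1 : (ζ ≫ V'o.ι) ≫ V.hom = η := (congrArg (· ≫ V.hom) hζ).trans (Over.w v)
    exact (Category.assoc _ _ _).symm.trans e1
  let v' : (Scheme.pointSmallEtale η).fiber.obj V' := Over.homMk ζ hζη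
  have hv' : (Scheme.pointSmallEtale η).fiber.map k v' = v := by
    apply Over.OverMorphism.ext
    exact hζ
  have h0 : F.obj.map ((EtCoh.bc f).map k).op s'.1 = 0 := by
    apply eq_zero_of_sectSupp_eq_empty
    rw [sectSupp_map]
    ext z'
    simp only [Set.mem_preimage, Set.mem_empty_iff_false, iff_false]
    intro hz'
    have e : ((EtCoh.bc f).map k).left ≫ EtShriek.prV f V = EtShriek.prV f V' ≫ V'o.ι :=
      (EtCoh.isPullback_bc_map f k).w
    have e' : EtShriek.prV f V (((EtCoh.bc f).map k).left z') =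
        V'o.ι (EtShriek.prV f V' z') := by
      rw [← Scheme.Hom.comp_apply, e, Scheme.Hom.comp_apply]
      rfl
    have hmem : EtShriek.prV f V (((EtCoh.bc f).map k).left z') ∈ V'o := by
      rw [e']
      exact (EtShriek.prV f V' z').2
    rw [← hZdef] at hz'
    exact hmem ⟨_, hz', rfl⟩
  have hQ0 : (EtShriek.lowerShriekPre f F).map k.op s = 0 := Subtype.ext h0
  rw [← hv', ← (Scheme.pointSmallEtale η).toPresheafFiber_w_apply k v'
    (EtShriek.lowerShriekPre f F) s, hQ0, map_zero]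


section Red

open Scheme.IdealSheafData in
theorem ker_eq_of_isReduced {Z X : Scheme.{u}} (i : Z ⟶ X) [IsReduced Z] :
    i.ker = Scheme.IdealSheafData.vanishingIdeal (.closure (Set.range i)) := by
  rw [← Scheme.IdealSheafData.map_bot, ← Scheme.nilradical_eq_bot,
    ← Scheme.IdealSheafData.vanishingIdeal_top, Scheme.IdealSheafData.map_vanishingIdeal]
  congr 2
  simp

theorem exists_lift_of_range_subset {T X : Scheme.{u}} [IsReduced T] (x : T ⟶ X)
    (Z : TopologicalSpace.Closeds X) (h : Set.range x ⊆ (Z : Set X)) :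
    ∃ l : T ⟶ (Scheme.IdealSheafData.vanishingIdeal Z).subscheme,
      l ≫ (Scheme.IdealSheafData.vanishingIdeal Z).subschemeι = x := by
  have hker : (Scheme.IdealSheafData.vanishingIdeal Z).subschemeι.ker ≤ x.ker := by
    rw [Scheme.IdealSheafData.ker_subschemeι, ker_eq_of_isReduced x]
    apply Scheme.IdealSheafData.vanishingIdeal_antimono
    rw [TopologicalSpace.Closeds.closure_le]
    exact h
  exact ⟨IsClosedImmersion.lift _ x hker, IsClosedImmersion.lift_fac _ x hker⟩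

end Red

set_option backward.isDefEq.respectTransparency.types false in
/-- finiteness of the support of the family of germs -/
theorem finite_support
    (a : ToType ((Scheme.pointSmallEtale η).presheafFiber.obj (EtShriek.lowerShriekPre f F))) :
    {ξ : {ξ : Spec (CommRingCat.of Ω) ⟶ X // ξ ≫ f = η} | Θ f F η ξ.1 ξ.2 a ≠ 0}.Finite := by
  obtain ⟨V, v, s, rfl⟩ := (Scheme.pointSmallEtale η).toPresheafFiber_jointly_surjective a
  let s' : ↥(EtShriek.shriekSubgroup f F V) := s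
  obtain ⟨Z, hZdef⟩ : ∃ Z, Z = EtShriek.sectSupp F ((EtCoh.bc f).obj V) s'.1 := ⟨_, rfl⟩
  have hs : EtShriek.ShriekPred f F V s'.1 := (mem_shriekSubgroup_iff f F V s'.1).1 s'.2
  have hZ : ClSub.IsProperOver (EtShriek.prV f V) Z := by
    rw [hZdef]
    exact (hasProperSupport_iff f F s'.1).1 ((shriekPred_iff f F s'.1).1 hs)
  obtain ⟨hcl, hp⟩ := hZ
  obtain ⟨p, hpdef⟩ : ∃ p, p = redι Z hcl ≫ EtShriek.prV f V := ⟨_, rfl⟩
  have hpfin : IsFinite p := by
    rw [IsFinite.iff_isProper_and_locallyQuasiFinite]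
    subst hpdef
    exact ⟨hp, inferInstance⟩
  have hfin := finite_geomPts p (v.left : Spec (CommRingCat.of Ω) ⟶ V.left)
  have key : ∀ ξ : {ξ : {ξ : Spec (CommRingCat.of Ω) ⟶ X // ξ ≫ f = η} //
      Θ f F η ξ.1 ξ.2 ((Scheme.pointSmallEtale η).toPresheafFiber V v
        (EtShriek.lowerShriekPre f F) s) ≠ 0},
      ∃ l : Spec (CommRingCat.of Ω) ⟶ (Scheme.IdealSheafData.vanishingIdeal ⟨Z, hcl⟩).subscheme,
        l ≫ redι Z hcl = (liftPt f ξ.1.1 η ξ.1.2 V v).left := by
    intro ξ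
    apply exists_lift_of_range_subset _ ⟨Z, hcl⟩
    rintro _ ⟨x, rfl⟩
    rw [Unique.eq_default x]
    by_contra hx
    apply ξ.2
    have h1 := Θ_germ f F η ξ.1.1 ξ.1.2 V v s'
    refine h1.trans ?_
    refine (germ_eq_zero_iff F ξ.1.1 ((EtCoh.bc f).obj V) (liftPt f ξ.1.1 η ξ.1.2 V v) s'.1 _
      rfl).2 ?_
    rw [← hZdef]
    exact hx
  choose l hl using key
  rw [← Set.finite_coe_iff]
  have hlp : ∀ ξ, l ξ ≫ p = (v.left : Spec (CommRingCat.of Ω) ⟶ V.left) := by
    intro ξ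
    rw [hpdef, ← Category.assoc, hl]
    exact liftPt_left_fst f ξ.1.1 η ξ.1.2 V v
  apply Finite.of_injective (fun ξ => (⟨l ξ, hlp ξ⟩ :
    {ζ : Spec (CommRingCat.of Ω) ⟶ _ // ζ ≫ p = (v.left : Spec (CommRingCat.of Ω) ⟶ V.left)}))
  intro ξ ξ' hφ
  have h1 : l ξ = l ξ' := congrArg Subtype.val hφ
  have h2 : (liftPt f ξ.1.1 η ξ.1.2 V v).left = (liftPt f ξ'.1.1 η ξ'.1.2 V v).left := by
    rw [← hl, ← hl, h1]
  apply Subtype.ext
  apply Subtype.ext
  rw [← liftPt_left_snd f ξ.1.1 η ξ.1.2 V v, ← liftPt_left_snd f ξ'.1.1 η ξ'.1.2 V v, h2]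


set_option backward.isDefEq.respectTransparency.types false in
/-- existence of a class with prescribed germ at one geometric point and zero germs elsewhere -/
theorem exists_single (ξ₀ : Spec (CommRingCat.of Ω) ⟶ X) (h₀ : ξ₀ ≫ f = η)
    (τ : ToType ((Scheme.pointSmallEtale ξ₀).presheafFiber.obj F.obj)) :
    ∃ a : ToType ((Scheme.pointSmallEtale η).presheafFiber.obj (EtShriek.lowerShriekPre f F)),
      Θ f F η ξ₀ h₀ a = τ ∧
        ∀ (ξ : Spec (CommRingCat.of Ω) ⟶ X) (h : ξ ≫ f = η), ξ ≠ ξ₀ → Θ f F η ξ h a = 0 := by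
  obtain ⟨U, ū, σ, rfl⟩ := (Scheme.pointSmallEtale ξ₀).toPresheafFiber_jointly_surjective τ
  obtain ⟨V, v, D, hD, ξD, hDcl, hDfin, hDw, hξD, hξDh, huniq⟩ :=
    Groth.Agent.Lib.T2H8LqfStalkCore.exists_pointed_clopen_bc f ξ₀ η h₀ U ū
  let P : X.Etale := (EtCoh.bc f).obj V
  haveI : Etale V.hom := V.prop
  haveI : Etale (D.ι ≫ pullback.snd V.hom f) := inferInstance
  let Do : X.Etale := Scheme.Etale.mk (D.ι ≫ pullback.snd V.hom f)
  let kD : Do ⟶ P := MorphismProperty.Over.homMk D.ι rfl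
  let hDo : Do ⟶ U := MorphismProperty.Over.homMk hD hDw
  have hm : Mono kD.left := inferInstanceAs (Mono D.ι)
  have hrange : Set.range kD.left = (D : Set ↥(pullback V.hom f)) := Scheme.Opens.range_ι D
  have hcl' : IsClosed (Set.range kD.left) := by rw [hrange]; exact hDcl
  obtain ⟨t, ht1, ht2⟩ := exists_isExtZ (F := F) kD hm hcl' (F.obj.map hDo.op σ)
  have hsupp : EtShriek.sectSupp F P t ⊆ (D : Set ↥(pullback V.hom f)) := by
    intro z hz
    by_contra hzD
    have hzr : z ∈ Set.range (complι kD hcl').left := by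
      rw [range_complι, hrange]
      exact hzD
    obtain ⟨z', hz'⟩ := hzr
    have : z ∉ EtShriek.sectSupp F P t := by
      rw [not_mem_sectSupp_iff]
      refine ⟨compl kD hcl', complι kD hcl', ⟨z', hz'⟩, ht2 _ _ ?_⟩
      intro q d hq
      have h1 : (complι kD hcl').left q ∈ Set.range (complι kD hcl').left := ⟨q, rfl⟩
      rw [range_complι] at h1
      exact h1 ⟨d, hq.symm⟩
    exact this hz
  have hproper : ClSub.IsProperOver (EtShriek.prV f V) (EtShriek.sectSupp F P t) :=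
    isProperOver_of_subset _ (isProperOver_of_clopen_finite (EtShriek.prV f V) D hDcl hDfin)
      (isClosed_sectSupp F t) hsupp
  have hmem : t ∈ EtShriek.shriekSubgroup f F V :=
    (mem_shriekSubgroup_iff f F V t).2 ((shriekPred_iff f F t).2
      ((hasProperSupport_iff f F t).2 hproper))
  refine ⟨(Scheme.pointSmallEtale η).toPresheafFiber V v (EtShriek.lowerShriekPre f F)
    (⟨t, hmem⟩ : ↥(EtShriek.shriekSubgroup f F V)), ?_, ?_⟩
  · have hξDo : ξD ≫ Do.hom = ξ₀ := by
      have e1 : (ξD ≫ D.ι) ≫ pullback.snd V.hom f = ξ₀ :=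
        (congrArg (· ≫ pullback.snd V.hom f) hξD).trans (liftPt_left_snd f ξ₀ η h₀ V v)
      exact (Category.assoc _ _ _).symm.trans e1
    let ξD' : (Scheme.pointSmallEtale ξ₀).fiber.obj Do := Over.homMk ξD hξDo
    have e1 : (Scheme.pointSmallEtale ξ₀).fiber.map kD ξD' = liftPt f ξ₀ η h₀ V v := by
      apply Over.OverMorphism.ext
      exact hξD
    have e2 : (Scheme.pointSmallEtale ξ₀).fiber.map hDo ξD' = ū := by
      apply Over.OverMorphism.ext
      exact hξDh
    refine (Θ_germ f F η ξ₀ h₀ V v ⟨t, hmem⟩).trans ?_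
    change (Scheme.pointSmallEtale ξ₀).toPresheafFiber P (liftPt f ξ₀ η h₀ V v) F.obj t = _
    rw [← e1, ← (Scheme.pointSmallEtale ξ₀).toPresheafFiber_w_apply kD ξD' F.obj t, ht1,
      (Scheme.pointSmallEtale ξ₀).toPresheafFiber_w_apply hDo ξD' F.obj σ, e2]
  · intro ξ h hne
    refine (Θ_germ f F η ξ h V v ⟨t, hmem⟩).trans ?_
    refine (germ_eq_zero_iff F ξ P (liftPt f ξ η h V v) t _ rfl).2 ?_
    intro hmem'
    exact hne (huniq ξ h (hsupp hmem'))


open scoped DirectSum in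
set_option backward.isDefEq.respectTransparency.types false in
/-- the stalk of the presheaf of sections with proper support is the direct sum of the stalks -/
theorem nonempty_presheafFiber_iso :
    Nonempty ((Scheme.pointSmallEtale η).presheafFiber.obj (EtShriek.lowerShriekPre f F) ≅
      ∐ fun ξ : {ξ : Spec (CommRingCat.of Ω) ⟶ X // ξ ≫ f = η} =>
        (Scheme.pointSmallEtale ξ.1).presheafFiber.obj F.obj) := by
  let G : {ξ : Spec (CommRingCat.of Ω) ⟶ X // ξ ≫ f = η} → AddCommGrpCat.{u + 1} :=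
    fun ξ => (Scheme.pointSmallEtale ξ.1).presheafFiber.obj F.obj
  obtain ⟨e⟩ := Groth.Agent.Lib.T2H8.DirectSumIso.nonempty_addEquiv
    (A := ((Scheme.pointSmallEtale η).presheafFiber.obj (EtShriek.lowerShriekPre f F) :
      AddCommGrpCat.{u + 1}))
    (fun ξ => (G ξ : Type (u + 1))) (fun ξ => (Θ f F η ξ.1 ξ.2).hom)
    (fun a ha => Θ_jointly_injective f F η a (fun ξ h => ha ⟨ξ, h⟩))
    (fun a => finite_support f F η a)
    (fun ξ τ => by
      obtain ⟨a, ha1, ha2⟩ := exists_single f F η ξ.1 ξ.2 τ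
      refine ⟨a, ha1, ?_⟩
      intro ξ' hne
      exact ha2 ξ'.1 ξ'.2 (fun h => hne (Subtype.ext h)))
  exact ⟨(AddEquiv.toAddCommGrpIso e) ≪≫
    (Groth.Agent.Lib.T2H8.DirectSumIso.coprodIso G).symm⟩

/-- **S0683**: the stalk formula for `f_!`, `f` separated, locally of finite type and locally
quasi-finite. -/
theorem main_S0683 :
    Nonempty ((EtCoh.stalk η).obj ((EtShriek.lowerShriek f).obj F) ≅
      ∐ fun ξ : {ξ : Spec (CommRingCat.of Ω) ⟶ X // ξ ≫ f = η} => (EtCoh.stalk ξ.1).obj F) := by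
  obtain ⟨e⟩ := nonempty_presheafFiber_iso f F η
  exact ⟨(EtCoh.stalk η).mapIso ((shIso f).app F) ≪≫ e⟩

end Groth.Agent.Lib.T2H8.LqfStalk
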