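import Mathlib
import Groth.Prelude.Def_SGA4b
import Groth.Agent.Lib.T2H8DescFF
import Groth.Agent.Lib.T2H8IntBC

set_option autoImplicit false
universe u
open CategoryTheory CategoryTheory.Limits AlgebraicGeometry Opposite

namespace Groth.Agent.Lib.T2H8MemLocus

open Groth.Agent.Lib.T2H8ShStalkA Groth.Agent.Lib.Helper16.SmallEtale
open Groth.Agent.Lib.T2H8StalkFiniteCore Groth.Agent.Lib.T2H8FiniteBC Groth.Agent.S0100
open Groth.Agent.Lib.T2H8Agree

section Basic

variable {Z : Scheme.{u}}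

/-- the locus where a section of `H` lifts locally along `a'`. -/
def memL {G' H : EtDesc.Sh Z} (a' : G' ⟶ H) {V : Z.Etale} (h : H.obj.obj (op V)) : Set V.left :=
  {v | ∃ (W : Z.Etale) (g : W ⟶ V) (w : W.left), g.left w = v ∧
    ∃ s : G'.obj.obj (op W), a'.hom.app (op W) s = H.obj.map g.op h}

lemma isOpen_memL {G' H : EtDesc.Sh Z} (a' : G' ⟶ H) {V : Z.Etale} (h : H.obj.obj (op V)) :
    IsOpen (memL a' h) := by
  rw [isOpen_iff_forall_mem_open]
  rintro v ⟨W, g, w, rfl, hs⟩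
  haveI : Etale g.left := inferInstanceAs (Etale g.left)
  refine ⟨Set.range g.left, ?_, g.left.isOpenMap.isOpen_range, ⟨w, rfl⟩⟩
  rintro _ ⟨w', rfl⟩
  exact ⟨W, g, w', rfl, hs⟩

variable {Ω : Type u} [Field Ω] [IsSepClosed Ω]

set_option backward.isDefEq.respectTransparency.types false in
/-- germ criterion for the lifting locus. -/
lemma mem_memL_iff_germ {G' H : EtDesc.Sh Z} (a' : G' ⟶ H) {V : Z.Etale} (h : H.obj.obj (op V))
    (ξ : Spec (CommRingCat.of Ω) ⟶ Z) (x₀ : (Scheme.pointSmallEtale ξ).fiber.obj V) :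
    (x₀.left : Spec (CommRingCat.of Ω) ⟶ V.left) (default : Spec (CommRingCat.of Ω)) ∈ memL a' h ↔
      ∃ γ : ToType ((stalkSh ξ).obj G'),
        (stalkSh ξ).map a' γ = (Scheme.pointSmallEtale ξ).toPresheafFiber V x₀ H.obj h := by
  let Φ := Scheme.pointSmallEtale ξ
  constructor
  · rintro ⟨W, g, w₀, hw₀, s, hs⟩
    haveI : Etale g.left := inferInstanceAs (Etale g.left)
    obtain ⟨l, hl₁, hl₂⟩ := Scheme.exists_fac_of_etale_of_isSepClosed g.left x₀.left w₀ hw₀
    have hlW : l ≫ W.hom = ξ := by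
      have e1 : g.left ≫ V.hom = W.hom := MorphismProperty.Over.w g
      rw [← e1, ← Category.assoc, hl₁]
      exact Over.w x₀
    let w : Φ.fiber.obj W := Over.homMk l hlW
    have hw : Φ.fiber.map g w = x₀ := by
      apply Over.OverMorphism.ext
      exact hl₁
    refine ⟨Φ.toPresheafFiber W w G'.obj s, ?_⟩
    have n1 : (stalkSh ξ).map a' (Φ.toPresheafFiber W w G'.obj s) =
        Φ.toPresheafFiber W w H.obj (a'.hom.app (op W) s) :=
      Φ.toPresheafFiber_naturality_apply a'.hom W w s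
    have e1 := Φ.toPresheafFiber_w_apply g w H.obj h
    rw [hw] at e1
    rw [n1, hs, e1]
  · rintro ⟨γ, hγ⟩
    obtain ⟨W₁, w₁, s₁, rfl⟩ := Φ.toPresheafFiber_jointly_surjective (P := G'.obj) γ
    have n1 : (stalkSh ξ).map a' (Φ.toPresheafFiber W₁ w₁ G'.obj s₁) =
        Φ.toPresheafFiber W₁ w₁ H.obj (a'.hom.app (op W₁) s₁) :=
      Φ.toPresheafFiber_naturality_apply a'.hom W₁ w₁ s₁
    obtain ⟨N, n, b, c, hb, hc, hbc⟩ := Groth.Agent.Lib.T2H8IntBC.exists_common_of_germ_eq ξ H.obj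
      x₀ w₁ h (a'.hom.app (op W₁) s₁) (hγ.symm.trans n1)
    refine ⟨N, b, (n.left : Spec (CommRingCat.of Ω) ⟶ N.left) (default : Spec (CommRingCat.of Ω)),
      ?_, G'.obj.map c.op s₁, ?_⟩
    · have e3 : n.left ≫ b.left = x₀.left := congrArg (fun m => m.left) hb
      rw [← e3]
      rfl
    · rw [hbc]
      exact NatTrans.naturality_apply a'.hom c.op s₁

end Basic


section Funct

variable {Z : Scheme.{u}}

set_option backward.isDefEq.respectTransparency.types false in
/-- the lifting locus is compatible with restriction. -/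
lemma mem_memL_map_iff {G' H : EtDesc.Sh Z} (a' : G' ⟶ H) {V₁ V : Z.Etale} (k : V₁ ⟶ V)
    (h : H.obj.obj (op V)) (v₁ : V₁.left) :
    v₁ ∈ memL a' (H.obj.map k.op h) ↔ k.left v₁ ∈ memL a' h := by
  obtain ⟨Ω, _, _, ξ, x₁, hx₁⟩ := Groth.Agent.Lib.T2H8StalkAlgClosed.exists_geometric_point V₁ v₁
  subst hx₁
  let Φ := Scheme.pointSmallEtale ξ
  have e1 := Φ.toPresheafFiber_w_apply k x₁ H.obj h
  have k1 := mem_memL_iff_germ a' (H.obj.map k.op h) ξ x₁
  have k2 := mem_memL_iff_germ a' h ξ (Φ.fiber.map k x₁)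
  refine k1.trans (Iff.trans ?_ k2.symm)
  rw [e1]

set_option backward.isDefEq.respectTransparency.types false in
lemma memL_comp_iso_left {G'' G' H : EtDesc.Sh Z} (φ : G'' ≅ G') (a' : G' ⟶ H) {V : Z.Etale}
    (h : H.obj.obj (op V)) : memL (φ.hom ≫ a') h = memL a' h := by
  apply Set.Subset.antisymm
  · rintro v ⟨W, g, w, hw, s, hs⟩
    exact ⟨W, g, w, hw, φ.hom.hom.app (op W) s, hs⟩
  · rintro v ⟨W, g, w, hw, s, hs⟩
    refine ⟨W, g, w, hw, φ.inv.hom.app (op W) s, ?_⟩
    have e : φ.hom.hom.app (op W) (φ.inv.hom.app (op W) s) = s :=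
      congrArg (fun m => m.hom.app (op W) s) φ.inv_hom_id
    change a'.hom.app (op W) (φ.hom.hom.app (op W) (φ.inv.hom.app (op W) s)) = _
    rw [e, hs]

set_option backward.isDefEq.respectTransparency.types false in
lemma memL_comp_iso_right {G' H H' : EtDesc.Sh Z} (a' : G' ⟶ H) (ψ : H ≅ H') {V : Z.Etale}
    (h : H.obj.obj (op V)) :
    memL (a' ≫ ψ.hom) (ψ.hom.hom.app (op V) h) = memL a' h := by
  apply Set.Subset.antisymm
  · rintro v ⟨W, g, w, hw, s, hs⟩
    refine ⟨W, g, w, hw, s, ?_⟩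
    have n1 := NatTrans.naturality_apply ψ.hom.hom g.op h
    have hs' : ψ.hom.hom.app (op W) (a'.hom.app (op W) s) =
        H'.obj.map g.op (ψ.hom.hom.app (op V) h) := hs
    rw [← n1] at hs'
    have e : ∀ x : H.obj.obj (op W), ψ.inv.hom.app (op W) (ψ.hom.hom.app (op W) x) = x :=
      fun x => congrArg (fun m => m.hom.app (op W) x) ψ.hom_inv_id
    have := congrArg (ψ.inv.hom.app (op W)) hs'
    rwa [e, e] at this
  · rintro v ⟨W, g, w, hw, s, hs⟩
    refine ⟨W, g, w, hw, s, ?_⟩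
    have n1 := NatTrans.naturality_apply ψ.hom.hom g.op h
    change ψ.hom.hom.app (op W) (a'.hom.app (op W) s) = _
    rw [hs]
    exact n1

set_option backward.isDefEq.respectTransparency.types false in
/-- a section lying locally in the image of a sectionwise injective morphism lies in the image. -/
lemma exists_of_memL_eq_univ {G' H : EtDesc.Sh Z} (a' : G' ⟶ H)
    (hinj : ∀ W : Z.Etale, Function.Injective (a'.hom.app (op W))) {V : Z.Etale}
    (h : H.obj.obj (op V)) (hall : ∀ v : V.left, v ∈ memL a' h) :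
    ∃ s : G'.obj.obj (op V), a'.hom.app (op V) s = h := by
  choose W g w hw s hs using hall
  let R : Sieve V := Sieve.generate (Presieve.ofArrows W g)
  have hR : R ∈ Z.smallEtaleTopology V := by
    rw [mem_smallEtale_iff]
    intro x
    exact ⟨W x, g x, w x, Sieve.le_generate _ _ _ (Presieve.ofArrows.mk x), hw x⟩
  have hsh : Presieve.IsSheafFor (G'.obj ⋙ forget (Type (u + 1))) (Presieve.ofArrows W g) :=
    (Presieve.isSheafFor_iff_generate _).mpr
      (Groth.Agent.Lib.T2H8ShBC.isSheaf_forget G' R hR)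
  rw [Presieve.isSheafFor_arrows_iff] at hsh
  have hcompat : Presieve.Arrows.Compatible (G'.obj ⋙ forget (Type (u + 1))) g s := by
    intro i j T ga gb hgab
    apply hinj T
    have n1 := NatTrans.naturality_apply a'.hom ga.op (s i)
    have n2 := NatTrans.naturality_apply a'.hom gb.op (s j)
    refine n1.trans (Eq.trans ?_ n2.symm)
    rw [hs i, hs j]
    have m1 := Groth.Agent.Lib.T2H8DescCore.map_map_apply H.obj ga (g i) h
    have m2 := Groth.Agent.Lib.T2H8DescCore.map_map_apply H.obj gb (g j) h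
    rw [m1, m2, hgab]
  obtain ⟨s₀, hs₀, -⟩ := hsh s hcompat
  refine ⟨s₀, ?_⟩
  apply Groth.Agent.Lib.T2H8.PullFaithful.eq_of_locally_eq H
  intro x
  refine ⟨W x, g x, ⟨w x, hw x⟩, ?_⟩
  have n1 := NatTrans.naturality_apply a'.hom (g x).op s₀
  have e2 : G'.obj.map (g x).op s₀ = s x := hs₀ x
  rw [← n1, e2, hs x]

end Funct


section Pull

variable {Z' Z : Scheme.{u}} (p : Z' ⟶ Z)

set_option backward.isDefEq.respectTransparency.types false in
/-- lifting loci and inverse images. -/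
lemma mem_memL_pull_iff {G' H : EtDesc.Sh Z} (a' : G' ⟶ H) {V : Z.Etale} (h : H.obj.obj (op V))
    (v' : ((EtCoh.bc p).obj V).left) :
    v' ∈ memL ((EtDesc.pullSh p).map a') (((EtDesc.adjSh p).unit.app H).hom.app (op V) h) ↔
      (pullback.fst V.hom p) v' ∈ memL a' h := by
  obtain ⟨Ω, _, _, ξ', x₀', hx₀'⟩ :=
    Groth.Agent.Lib.T2H8StalkAlgClosed.exists_geometric_point ((EtCoh.bc p).obj V) v'
  let u : (Scheme.pointSmallEtale (ξ' ≫ p)).fiber.obj V := (fiberIso p ξ').hom.app V x₀'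
  have hu : u.left = x₀'.left ≫ pullback.fst V.hom p := fiberIso_hom_left p ξ' V x₀'
  have hlift : liftPt p ξ' (ξ' ≫ p) rfl V u = x₀' := by
    apply Over.OverMorphism.ext
    apply pullback.hom_ext
    · exact (liftPt_left_fst p ξ' (ξ' ≫ p) rfl V u).trans hu
    · exact (liftPt_left_snd p ξ' (ξ' ≫ p) rfl V u).trans (Over.w x₀').symm
  subst hx₀'
  have g1 := Groth.Agent.Lib.T2H8ShBC.stalkPull_germ p ξ' H V u h
  rw [hlift] at g1
  have k1 := mem_memL_iff_germ ((EtDesc.pullSh p).map a')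
    (((EtDesc.adjSh p).unit.app H).hom.app (op V) h) ξ' x₀'
  have k2 := mem_memL_iff_germ a' h (ξ' ≫ p) u
  have hinj : Function.Injective ((stalkPullIso p ξ').hom.app H) := by
    have : IsIso ((stalkPullIso p ξ').hom.app H) := inferInstance
    exact ((isIso_iff_bijective _).mp this).1
  have nat : ∀ γ : ToType ((stalkSh (ξ' ≫ p)).obj G'),
      (stalkPullIso p ξ').hom.app H ((stalkSh (ξ' ≫ p)).map a' γ) =
        (stalkSh ξ').map ((EtDesc.pullSh p).map a') ((stalkPullIso p ξ').hom.app G' γ) := fun γ =>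
    congrArg (fun m => m γ) ((stalkPullIso p ξ').hom.naturality a')
  have hpt : (u.left : Spec (CommRingCat.of Ω) ⟶ V.left) (default : Spec (CommRingCat.of Ω)) =
      (pullback.fst V.hom p) ((x₀'.left : Spec (CommRingCat.of Ω) ⟶ ((EtCoh.bc p).obj V).left)
        (default : Spec (CommRingCat.of Ω))) := by
    rw [hu]
    rfl
  rw [← hpt]
  refine k1.trans (Iff.trans ?_ k2.symm)
  constructor
  · rintro ⟨γ', hγ'⟩
    refine ⟨(stalkPullIso p ξ').inv.app G' γ', ?_⟩
    apply hinj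
    rw [nat, g1, ← hγ']
    congr 1
    exact congrArg (fun m => m γ') ((stalkPullIso p ξ').inv_hom_id_app G')
  · rintro ⟨γ, hγ⟩
    refine ⟨(stalkPullIso p ξ').hom.app G' γ, ?_⟩
    rw [← nat, hγ, g1]

end Pull


section Comp

open Groth.Agent.Lib.T2H8SecPull

variable {Y X' X : Scheme.{u}} (g : Y ⟶ X') (f : X' ⟶ X)

set_option backward.isDefEq.respectTransparency.types false in
/-- lifting loci along a composite. -/
theorem mem_memL_comp_iff (b : Y ⟶ X) (w : g ≫ f = b) {F : EtDesc.Sh X} {G' : EtDesc.Sh X'}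
    (a' : G' ⟶ (EtDesc.pullSh f).obj F) (U : X.Etale) (t : F.obj.obj (op U))
    (y : ((EtCoh.bc b).obj U).left) :
    y ∈ memL ((EtDesc.pullSh g).map a' ≫ (EtDesc.pullVia g f b w F).hom)
        (((EtDesc.adjSh b).unit.app F).hom.app (op U) t) ↔
      (qmap g f b w U) y ∈ memL a' (((EtDesc.adjSh f).unit.app F).hom.app (op U) t) := by
  subst w
  let F' := (EtDesc.pullSh f).obj F
  let M := (EtDesc.pullSh g).obj F'
  let Φ : (EtDesc.pullSh (g ≫ f)).obj F ≅ M := (EtDesc.pullCompSh g f).app F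
  let ι := (MorphismProperty.Over.pullbackComp (P := EtCoh.etaleMP) (Q := ⊤) g f).hom.app U
  let A := ((EtDesc.adjSh (g ≫ f)).unit.app F).hom.app (op U) t
  have h1 : (EtDesc.pullVia g f (g ≫ f) rfl F).hom = Φ.symm.hom := by
    simp [EtDesc.pullVia, EtDesc.pullCongrSh, Φ]
  have hA : Φ.hom.hom.app (op ((EtCoh.bc (g ≫ f)).obj U)) A =
      M.obj.map ι.op (((EtDesc.adjSh g).unit.app F').hom.app (op ((EtCoh.bc f).obj U))
        (((EtDesc.adjSh f).unit.app F).hom.app (op U) t)) :=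
    congrArg (fun m => m.hom.app (op U) t) (unit_pullCompSh g f F)
  have hA' : A = Φ.symm.hom.hom.app (op ((EtCoh.bc (g ≫ f)).obj U))
      (Φ.hom.hom.app (op ((EtCoh.bc (g ≫ f)).obj U)) A) :=
    (congrArg (fun m => m.hom.app (op ((EtCoh.bc (g ≫ f)).obj U)) A) Φ.hom_inv_id).symm
  have k0 : memL ((EtDesc.pullSh g).map a' ≫ (EtDesc.pullVia g f (g ≫ f) rfl F).hom) A =
      memL ((EtDesc.pullSh g).map a') (Φ.hom.hom.app (op ((EtCoh.bc (g ≫ f)).obj U)) A) := by
    rw [h1]
    conv_lhs => rw [hA']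
    exact memL_comp_iso_right ((EtDesc.pullSh g).map a') Φ.symm _
  have k1 : y ∈ memL ((EtDesc.pullSh g).map a' ≫ (EtDesc.pullVia g f (g ≫ f) rfl F).hom) A ↔
      y ∈ memL ((EtDesc.pullSh g).map a') (Φ.hom.hom.app (op ((EtCoh.bc (g ≫ f)).obj U)) A) := by
    rw [k0]
  refine k1.trans ?_
  rw [hA]
  refine (mem_memL_map_iff ((EtDesc.pullSh g).map a') ι _ y).trans ?_
  refine (mem_memL_pull_iff g a' (((EtDesc.adjSh f).unit.app F).hom.app (op U) t) (ι.left y)).trans ?_
  have hq : (pullback.fst ((EtCoh.bc f).obj U).hom g) (ι.left y) = (qmap g f (g ≫ f) rfl U) y := by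
    rw [← pullbackComp_left_fst g f U]
    rfl
  rw [hq]

end Comp


section Sat

open Groth.Agent.Lib.T2H8DescSat

variable {X' X : Scheme.{u}} (f : X' ⟶ X)

set_option backward.isDefEq.respectTransparency.types false in
/-- lifting loci of pulled back sections along a subsheaf with compatible descent datum are
saturated. -/
theorem sat_of_sub {F : EtDesc.Sh X} {G' : EtDesc.Sh X'} (a' : G' ⟶ (EtDesc.pullSh f).obj F)
    (φ : (EtDesc.pullSh (pullback.fst f f)).obj G' ≅ (EtDesc.pullSh (pullback.snd f f)).obj G')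
    (hφ : φ.hom ≫ (EtDesc.pullSh (pullback.snd f f)).map a' =
      (EtDesc.pullSh (pullback.fst f f)).map a' ≫ (EtDesc.canIso f F).hom)
    (U : X.Etale) (t : F.obj.obj (op U)) (y z : ((EtCoh.bc f).obj U).left)
    (hyz : (pullback.fst U.hom f) y = (pullback.fst U.hom f) z)
    (hy : y ∈ memL a' (((EtDesc.adjSh f).unit.app F).hom.app (op U) t)) :
    z ∈ memL a' (((EtDesc.adjSh f).unit.app F).hom.app (op U) t) := by
  obtain ⟨w, hw₁, hw₂⟩ := exists_point f U y z hyz
  have k₁ := mem_memL_comp_iff (pullback.fst f f) f (pullback.fst f f ≫ f) rfl a' U t w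
  have k₂ := mem_memL_comp_iff (pullback.snd f f) f (pullback.fst f f ≫ f)
    pullback.condition.symm a' U t w
  have hc : (EtDesc.pullSh (pullback.fst f f)).map a' ≫
      (EtDesc.pullVia (pullback.fst f f) f (pullback.fst f f ≫ f) rfl F).hom =
      φ.hom ≫ ((EtDesc.pullSh (pullback.snd f f)).map a' ≫
        (EtDesc.pullVia (pullback.snd f f) f (pullback.fst f f ≫ f)
          pullback.condition.symm F).hom) := by
    rw [canIso_eq] at hφ
    have h2 := hφ =≫ (EtDesc.pullVia (pullback.snd f f) f (pullback.fst f f ≫ f)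
      pullback.condition.symm F).hom
    simp only [Iso.trans_hom, Iso.symm_hom, Category.assoc, Iso.inv_hom_id, Category.comp_id] at h2
    exact h2.symm
  rw [hc, memL_comp_iso_left φ] at k₁
  exact Set.mem_of_eq_of_mem hw₂.symm (k₂.mp (k₁.mpr (Set.mem_of_eq_of_mem hw₁ hy)))

end Sat

end Groth.Agent.Lib.T2H8MemLocus
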