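import Mathlib
import Groth.Prelude.Def_EtAcyc
import Groth.Agent.Lib.T2H8PullFaithful
import Groth.Agent.Lib.Helper12ClosureImage
import Groth.Agent.Lib.T2H8ShSetsEss
import Groth.Agent.Lib.Helper9JContAll

/-!
# (-1)-acyclic morphisms are the surjective ones (helper8)
-/

set_option autoImplicit false
set_option linter.style.haveILetI false
set_option linter.unusedSectionVars false
universe u
open CategoryTheory CategoryTheory.Limits AlgebraicGeometry Opposite TopologicalSpace

namespace Groth.Agent.Lib.T2H8.MinusOne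

variable {X Y : Scheme.{u}} (g : X ⟶ Y)

/-- a surjective morphism is (-1)-acyclic -/
theorem isMinusOneAcyclic_of_surjective (hg : Function.Surjective g.base) :
    EtAcyc.IsMinusOneAcyclic g := by
  intro V F
  haveI : Surjective g := ⟨hg⟩
  haveI : Surjective (EtAcyc.prj g V) := by
    dsimp only [EtAcyc.prj]
    infer_instance
  haveI := Groth.Agent.Lib.T2H8.PullFaithful.faithful (EtAcyc.prj g V)
  infer_instance

/-- topological input: around a point outside the image of a quasi-compact morphism there is an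
open neighbourhood in which the image avoids the closure of the point -/
theorem exists_open_nhd [QuasiCompact g] (y : Y) (hy : y ∉ Set.range g.base) :
    ∃ V : Y.Opens, y ∈ V ∧ ∀ x : X, g.base x ∈ V → g.base x ∉ closure ({y} : Set Y) := by
  let Z : Closeds Y := ⟨closure {y}, isClosed_closure⟩
  let T : Closeds X := ⟨g.base ⁻¹' Z, Z.isClosed.preimage g.continuous⟩
  let I := Scheme.IdealSheafData.vanishingIdeal T
  let h : I.subscheme ⟶ Y := I.subschemeι ≫ g
  have hrange : Set.range I.subschemeι.base = (T : Set X) := by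
    rw [Scheme.IdealSheafData.range_subschemeι]
    exact Scheme.IdealSheafData.coe_support_vanishingIdeal T
  have hC : y ∉ closure (Set.range h.base) := by
    intro hmem
    obtain ⟨t, ht⟩ := Groth.Agent.Lib.Helper12.exists_specializes_of_mem_closure_range h y hmem
    have h1 : h.base t = g.base (I.subschemeι.base t) := Scheme.Hom.comp_apply _ _ _
    have h2 : I.subschemeι.base t ∈ (T : Set X) := hrange ▸ Set.mem_range_self t
    have h3 : y ⤳ h.base t := by
      rw [specializes_iff_mem_closure, h1]
      exact h2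
    have h4 : h.base t = y := (ht.antisymm h3).eq
    exact hy ⟨_, h1.symm.trans h4⟩
  refine ⟨⟨(closure (Set.range h.base))ᶜ, isClosed_closure.isOpen_compl⟩, hC, ?_⟩
  intro x hxV hxZ
  apply hxV
  apply subset_closure
  have hxT : x ∈ Set.range I.subschemeι.base := by
    rw [hrange]
    exact hxZ
  obtain ⟨t, rfl⟩ := hxT
  exact ⟨t, Scheme.Hom.comp_apply _ _ _⟩

section Sky

variable {V : Scheme.{u}} {Ω : Type u} [Field Ω] [IsSepClosed Ω]
  (ξ : Spec (CommRingCat.of Ω) ⟶ V)

/-- the tautological element of the fibre of the terminal object -/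
noncomputable def x₀ : (Scheme.pointSmallEtale ξ).fiber.obj (EtCoh.top V) :=
  Over.homMk ξ (Category.comp_id _)

set_option backward.isDefEq.respectTransparency.types false in
lemma skyFunctor_map_π {M N : Type (u + 1)} (b : M ⟶ N) (U : V.Etale)
    (x : (Scheme.pointSmallEtale ξ).fiber.obj U) :
    (((Scheme.pointSmallEtale ξ).skyscraperSheafFunctor).map b).hom.app (op U) ≫
      Pi.π (fun _ : (Scheme.pointSmallEtale ξ).fiber.obj U => N) x =
    Pi.π (fun _ : (Scheme.pointSmallEtale ξ).fiber.obj U => M) x ≫ b := by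
  simp only [GrothendieckTopology.Point.skyscraperSheafFunctor_map_hom,
    GrothendieckTopology.Point.skyscraperPresheafFunctor_map_app]
  exact Pi.map_π _ _

set_option backward.isDefEq.respectTransparency.types false in
/-- the skyscraper sheaf functor at a geometric point is faithful -/
lemma sky_map_injective {M N : Type (u + 1)} (f₁ f₂ : M ⟶ N)
    (h : ((Scheme.pointSmallEtale ξ).skyscraperSheafFunctor).map f₁ =
      ((Scheme.pointSmallEtale ξ).skyscraperSheafFunctor).map f₂) : f₁ = f₂ := by
  have e1 := skyFunctor_map_π ξ f₁ (EtCoh.top V) (x₀ ξ)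
  have e2 := skyFunctor_map_π ξ f₂ (EtCoh.top V) (x₀ ξ)
  rw [h] at e1
  have e3 : Pi.π (fun _ : (Scheme.pointSmallEtale ξ).fiber.obj (EtCoh.top V) => M) (x₀ ξ) ≫ f₁ =
      Pi.π (fun _ : (Scheme.pointSmallEtale ξ).fiber.obj (EtCoh.top V) => M) (x₀ ξ) ≫ f₂ :=
    e1.symm.trans e2
  have e4 := congrArg (fun m => Pi.lift (fun _ : (Scheme.pointSmallEtale ξ).fiber.obj (EtCoh.top V) =>
    𝟙 M) ≫ m) e3
  simpa using e4

/-- sections of a skyscraper sheaf over an object with empty fibre -/
lemma unique_sky_of_isEmpty (M : Type (u + 1)) (T : V.Etale)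
    [IsEmpty ((Scheme.pointSmallEtale ξ).fiber.obj T)] :
    Nonempty (Unique (((Scheme.pointSmallEtale ξ).skyscraperSheafFunctor.obj M).obj.obj (op T))) := by
  let e := Types.productIso.{u, u + 1} (fun (_ : (Scheme.pointSmallEtale ξ).fiber.obj T) => M)
  exact ⟨Equiv.unique e.toEquiv⟩

set_option backward.isDefEq.respectTransparency.types false in
/-- the fibre over an étale scheme missing the geometric point is empty -/
lemma isEmpty_fiber (T : V.Etale) (hT : ξ default ∉ Set.range T.hom.base) :
    IsEmpty ((Scheme.pointSmallEtale ξ).fiber.obj T) := by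
  constructor
  intro t
  apply hT
  have hw : t.left ≫ T.hom = ξ := Over.w t
  refine ⟨t.left (default : Spec (CommRingCat.of Ω)), ?_⟩
  have e1 : T.hom.base (t.left (default : Spec (CommRingCat.of Ω))) =
      (t.left ≫ T.hom) (default : Spec (CommRingCat.of Ω)) := (Scheme.Hom.comp_apply _ _ _).symm
  exact e1.trans (congrArg (fun m : Spec (CommRingCat.of Ω) ⟶ V => m default) hw)

open Groth.Agent.Lib.T2H8.ShSets Groth.Agent.Lib.T2H8.ShSetsEss in
set_option backward.isDefEq.respectTransparency.types false in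
/-- the inverse image of a skyscraper sheaf on an étale scheme missing the point is terminal -/
noncomputable def isTerminalPullSky {U' : Scheme.{u}} (j : U' ⟶ V) [AlgebraicGeometry.Etale j]
    (hj : ξ default ∉ Set.range j.base) (M : Type (u + 1)) :
    IsTerminal ((EtDesc.pullSh j).obj ((Scheme.pointSmallEtale ξ).skyscraperSheafFunctor.obj M)) := by
  haveI := Groth.Agent.Lib.Helper9.JContAll.jCont j
  refine IsTerminal.ofIso (isTerminalOfUnique _ ((restrSh j).obj _) ?_) ((rhoSh j).app _).symm
  intro W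
  haveI := isEmpty_fiber ξ ((EtShriek.compEtale j).obj W) (by
    rintro ⟨w, hw⟩
    apply hj
    refine ⟨W.hom.base w, ?_⟩
    rw [← hw]
    exact (Scheme.Hom.comp_apply _ _ _).symm)
  exact unique_sky_of_isEmpty ξ M ((EtShriek.compEtale j).obj W)

end Sky

set_option backward.isDefEq.respectTransparency.types false in
/-- a quasi-compact (-1)-acyclic morphism is surjective -/
theorem surjective_of_isMinusOneAcyclic [QuasiCompact g] (hg : EtAcyc.IsMinusOneAcyclic g) :
    Function.Surjective g.base := by
  intro y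
  by_contra hy
  have hy' : y ∉ Set.range g.base := hy
  obtain ⟨V₀, hyV, hV⟩ := exists_open_nhd g y hy'
  let V : Y.Etale := EtDesc.ofOpen V₀
  let p : pullback V₀.ι g ⟶ (V₀ : Scheme.{u}) := EtAcyc.prj g V
  let y₀ : (V₀ : Scheme.{u}) := ⟨y, hyV⟩
  let Ω := SeparableClosure ((V₀ : Scheme.{u}).residueField y₀)
  let ξ : Spec (CommRingCat.of Ω) ⟶ (V₀ : Scheme.{u}) :=
    Spec.map (CommRingCat.ofHom (algebraMap ((V₀ : Scheme.{u}).residueField y₀) Ω)) ≫
      (V₀ : Scheme.{u}).fromSpecResidueField y₀
  have hξ : ξ default = y₀ := by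
    dsimp only [ξ]
    rw [Scheme.Hom.comp_apply]
    exact Scheme.fromSpecResidueField_apply _ _
  let Zc : Y.Opens := ⟨(closure ({y} : Set Y))ᶜ, isClosed_closure.isOpen_compl⟩
  let U' : (V₀ : Scheme.{u}).Opens := V₀.ι ⁻¹ᵁ Zc
  let j : (U' : Scheme.{u}) ⟶ (V₀ : Scheme.{u}) := U'.ι
  have hjξ : ξ default ∉ Set.range j.base := by
    rw [hξ, Scheme.Opens.range_ι]
    intro hmem
    exact hmem (subset_closure (Set.mem_singleton y))
  have hrange : Set.range p.base ⊆ Set.range j.base := by
    rintro _ ⟨q, rfl⟩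
    rw [Scheme.Opens.range_ι]
    have e1 : V₀.ι.base (p.base q) = g.base ((pullback.snd V₀.ι g).base q) := by
      have h1 : V₀.ι.base (p.base q) = (pullback.fst V₀.ι g ≫ V₀.ι).base q :=
        (Scheme.Hom.comp_apply _ _ _).symm
      have h2 : g.base ((pullback.snd V₀.ι g).base q) = (pullback.snd V₀.ι g ≫ g).base q :=
        (Scheme.Hom.comp_apply _ _ _).symm
      rw [h1, h2, pullback.condition]
    have e2 : g.base ((pullback.snd V₀.ι g).base q) ∈ V₀ := by
      rw [← e1]
      exact (p.base q).2
    have e3 := hV _ e2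
    rw [← e1] at e3
    exact e3
  let k : pullback V₀.ι g ⟶ (U' : Scheme.{u}) := IsOpenImmersion.lift j p hrange
  have hk : k ≫ j = p := IsOpenImmersion.lift_fac j p hrange
  haveI : ∀ F, Mono ((EtDesc.adjSh p).unit.app F) := hg V
  have hfaith : (EtDesc.pullSh p).Faithful := (EtDesc.adjSh p).faithful_L_of_mono_unit_app
  let f₁ : (PUnit.{u + 2} : Type (u + 1)) ⟶ (ULift.{u + 1} Bool : Type (u + 1)) := ↾(fun _ => ⟨true⟩)
  let f₂ : (PUnit.{u + 2} : Type (u + 1)) ⟶ (ULift.{u + 1} Bool : Type (u + 1)) := ↾(fun _ => ⟨false⟩)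
  have hne : f₁ ≠ f₂ := by
    intro h
    have := congrArg (fun m => (m PUnit.unit).down) h
    exact Bool.noConfusion this
  let sky := (Scheme.pointSmallEtale ξ).skyscraperSheafFunctor (A := Type (u + 1))
  have hj : (EtDesc.pullSh j).map (sky.map f₁) = (EtDesc.pullSh j).map (sky.map f₂) :=
    (isTerminalPullSky ξ j hjξ _).hom_ext _ _
  have key' : ∀ (p' : pullback V₀.ι g ⟶ (V₀ : Scheme.{u})), k ≫ j = p' →
      (EtDesc.pullSh p').map (sky.map f₁) = (EtDesc.pullSh p').map (sky.map f₂) := by
    rintro _ rfl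
    have e := EtDesc.pullCompSh k j
    rw [← cancel_mono (e.hom.app _), e.hom.naturality, e.hom.naturality]
    simp only [Functor.comp_map, hj]
  exact hne (sky_map_injective ξ f₁ f₂ (hfaith.map_injective (key' p hk)))

end Groth.Agent.Lib.T2H8.MinusOne
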