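import Mathlib
import Groth.Prelude.Def_ModSite2
import Groth.Agent.Lib.T2H8ModCoprodSec
import Groth.Agent.Lib.Helper4ModEpi

/-!
# Modules with a finite presentation by `j_{U!} O_U`, `U` quasi-compact: cokernels
-/

set_option autoImplicit false
universe u
open CategoryTheory CategoryTheory.Limits Opposite

namespace Groth.Agent.Lib.T2H8.ModFinPres

open Groth.Agent.Lib.T2H8.ModStalkFlat Groth.Agent.Lib.T2H8.ModCoprodSec
  Groth.Agent.Lib.Helper23FreeOn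

section Abstract

variable {𝒜 : Type*} [Category 𝒜] [Abelian 𝒜]

/-- recognising the cokernel of `α` as the cokernel of a map into a cover of the target -/
theorem nonempty_cokernel_iso {R P G F Q : 𝒜} (ψ : R ⟶ P) (π : P ⟶ G) (w : ψ ≫ π = 0)
    (hπ : IsColimit (CokernelCofork.ofπ π w)) (α : F ⟶ G) (Ψ : Q ⟶ P)
    (ha : Ψ ≫ π ≫ cokernel.π α = 0)
    (hb : ∀ {T : 𝒜} (t : P ⟶ T), Ψ ≫ t = 0 → ψ ≫ t = 0)
    (hc : ∀ {T : 𝒜} (t₁ : G ⟶ T), Ψ ≫ π ≫ t₁ = 0 → α ≫ t₁ = 0) :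
    Nonempty (cokernel α ≅ cokernel Ψ) := by
  haveI : Epi π := epi_of_isColimit_cofork hπ
  -- the two comparison maps
  let f : cokernel Ψ ⟶ cokernel α := cokernel.desc Ψ (π ≫ cokernel.π α) ha
  have h1 : ψ ≫ cokernel.π Ψ = 0 := hb _ (cokernel.condition Ψ)
  let g₀ : G ⟶ cokernel Ψ := hπ.desc (CokernelCofork.ofπ (cokernel.π Ψ) h1)
  have hg₀ : π ≫ g₀ = cokernel.π Ψ := hπ.fac (CokernelCofork.ofπ (cokernel.π Ψ) h1)
    WalkingParallelPair.one
  have h2 : α ≫ g₀ = 0 := hc g₀ (by rw [hg₀, cokernel.condition])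
  let g : cokernel α ⟶ cokernel Ψ := cokernel.desc α g₀ h2
  refine ⟨⟨g, f, ?_, ?_⟩⟩
  · rw [← cancel_epi (cokernel.π α), ← cancel_epi π]
    simp only [g, f, cokernel.π_desc_assoc, Category.comp_id]
    rw [← Category.assoc, hg₀, cokernel.π_desc]
  · rw [← cancel_epi (cokernel.π Ψ)]
    simp only [g, f, cokernel.π_desc_assoc, Category.comp_id, Category.assoc, cokernel.π_desc]
    exact hg₀

end Abstract

variable {C : Type u} [SmallCategory C] {J : GrothendieckTopology C} {O : Sheaf J CommRingCat.{u}}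

section Lift

variable (B : Set C)
  (hB₁ : ∀ X : C, ∃ (κ : Type u) (Y : κ → C) (g : ∀ k, Y k ⟶ X),
    Sieve.ofArrows Y g ∈ J X ∧ ∀ k, Y k ∈ B)

include hB₁ in
/-- sections of the target of an epimorphism lift on a finite covering by members of `B` -/
theorem exists_finite_lifts {P G : ModSite.Mod O} (π : P ⟶ G) [Epi π] (U : C)
    (hU : ToposFin.IsQCSite J U) (s : ModSite.sect G U) :
    ∃ (K : ℕ) (W : Fin K → C) (w : ∀ k, W k ⟶ U) (p : ∀ k, ModSite.sect P (W k)),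
      (∀ k, W k ∈ B) ∧ Sieve.ofArrows W w ∈ J U ∧
        ∀ k, π.val.app (op (W k)) (p k) = rS G (w k) s := by
  classical
  haveI := Groth.Agent.Lib.Helper4.ModEpi.isLocallySurjective_of_epi π
  let S₀ : Sieve U := Presheaf.imageSieve ((PresheafOfModules.toPresheaf _).map π.val) s
  have hS₀ : S₀ ∈ J U :=
    Presheaf.imageSieve_mem J ((PresheafOfModules.toPresheaf _).map π.val) (U := op U) s
  choose κ YB gB hgB hYB using hB₁
  let S₁ : Sieve U := Sieve.bind S₀ (fun V _ _ => Sieve.ofArrows (YB V) (gB V))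
  have hS₁ : S₁ ∈ J U := J.bind_covering hS₀ (fun V _ _ => hgB V)
  obtain ⟨n, V, a, ha, hcov⟩ := hU S₁ hS₁
  -- each `a k` factors through a member of `B` lying in `S₀`
  have hfac : ∀ k, ∃ (Z : C) (b : Z ⟶ U) (c : V k ⟶ Z), Z ∈ B ∧ S₀ b ∧ c ≫ b = a k := by
    intro k
    obtain ⟨V', h, f, hf, hh, hcomp⟩ := ha k
    obtain ⟨Z', c, _, ⟨j⟩, hcj⟩ := hh
    exact ⟨YB V' j, gB V' j ≫ f, c, hYB V' j, S₀.downward_closed hf _, by
      rw [← Category.assoc, hcj, hcomp]⟩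
  choose Z b c hZ hb hc using hfac
  have hp : ∀ k, ∃ p : ModSite.sect P (Z k), π.val.app (op (Z k)) p = rS G (b k) s := by
    intro k
    obtain ⟨p, hp⟩ := hb k
    exact ⟨p, hp⟩
  choose p hp using hp
  refine ⟨n, Z, b, p, hZ, ?_, hp⟩
  refine J.superset_covering ?_ hcov
  rintro T f ⟨T', e, _, ⟨k⟩, rfl⟩
  rw [← hc k, ← Category.assoc]
  exact Sieve.downward_closed _ (Sieve.ofArrows_mk Z b k) _

end Lift

section HomAdd

variable (O)

/-- `Hom(j_{U!} O_U, M) ≃+ M(U)` -/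
noncomputable def homAddEquiv (M : ModSite.Mod O) (U : C) :
    (ModSite.freeOn O U ⟶ M) ≃+ M.val.obj (op U) :=
  { toEquiv := homEquiv O M U, map_add' := homEquiv_add O M U }

/-- the map `j_{U!} O_U ⟶ M` given by a section -/
noncomputable def ofSec (M : ModSite.Mod O) (U : C) (s : ModSite.sect M U) :
    ModSite.freeOn O U ⟶ M := (homAddEquiv O M U).symm s

/-- the section given by a map -/
noncomputable def toSec (M : ModSite.Mod O) (U : C) (h : ModSite.freeOn O U ⟶ M) :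
    ModSite.sect M U := homAddEquiv O M U h

lemma ofSec_toSec (M : ModSite.Mod O) (U : C) (h : ModSite.freeOn O U ⟶ M) :
    ofSec O M U (toSec O M U h) = h := (homAddEquiv O M U).symm_apply_apply h

lemma toSec_ofSec (M : ModSite.Mod O) (U : C) (s : ModSite.sect M U) :
    toSec O M U (ofSec O M U s) = s := (homAddEquiv O M U).apply_symm_apply s

lemma ofSec_zero (M : ModSite.Mod O) (U : C) : ofSec O M U 0 = 0 :=
  map_zero (homAddEquiv O M U).symm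

lemma ofSec_injective (M : ModSite.Mod O) (U : C) : Function.Injective (ofSec O M U) :=
  (homAddEquiv O M U).symm.injective

lemma ofSec_comp {M N : ModSite.Mod O} (f : M ⟶ N) (U : C) (s : ModSite.sect M U) :
    ofSec O M U s ≫ f = ofSec O N U (f.val.app (op U) s) :=
  homEquiv_symm_comp O f U s

lemma toSec_comp {M N : ModSite.Mod O} (U : C) (h : ModSite.freeOn O U ⟶ M) (f : M ⟶ N) :
    toSec O N U (h ≫ f) = f.val.app (op U) (toSec O M U h) :=
  homEquiv_comp O h f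

end HomAdd

section Main

variable (O) (B : Set C)
  (hB₁ : ∀ X : C, ∃ (κ : Type u) (Y : κ → C) (g : ∀ k, Y k ⟶ X),
    Sieve.ofArrows Y g ∈ J X ∧ ∀ k, Y k ∈ B)
  (hB₂ : ∀ U ∈ B, CohCx.IsQcObject ((presheafToSheaf J (Type u)).obj (yoneda.obj U)))

/-- the restriction of a map out of `j_{U!} O_U` along `w : W ⟶ U` -/
lemma ofSec_rS_comp {M N : ModSite.Mod O} {U W : C} (w : W ⟶ U)
    (h : ModSite.freeOn O U ⟶ M) (f : M ⟶ N) :
    ofSec O M W (rS M w (toSec O M U h)) ≫ f = ofSec O N W (rS N w (toSec O N U (h ≫ f))) := by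
  rw [ofSec_comp, app_rS_gen, toSec_comp]

/-- the cokernel is of type A as soon as suitable components are given -/
theorem typeA_of_components {κ : Type} [Fintype κ] (Z : κ → C) (hZ : ∀ x, Z x ∈ B)
    {n' : ℕ} (U' : Fin n' → C) (hU' : ∀ i, U' i ∈ B) {R G F : ModSite.Mod O}
    (ψ : R ⟶ ∐ fun i => ModSite.freeOn O (U' i)) (eG : G ≅ cokernel ψ) (α : F ⟶ G)
    (comp : ∀ x, ModSite.freeOn O (Z x) ⟶ ∐ fun i => ModSite.freeOn O (U' i))
    (H1 : ∀ x, comp x ≫ (cokernel.π ψ ≫ eG.inv) ≫ cokernel.π α = 0)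
    (H2 : ∀ {T : ModSite.Mod O} (t : (∐ fun i => ModSite.freeOn O (U' i)) ⟶ T),
      (∀ x, comp x ≫ t = 0) → ψ ≫ t = 0)
    (H3 : ∀ {T : ModSite.Mod O} (t₁ : G ⟶ T),
      (∀ x, comp x ≫ (cokernel.π ψ ≫ eG.inv) ≫ t₁ = 0) → α ≫ t₁ = 0) :
    ∃ (m'' n'' : ℕ) (V'' : Fin m'' → C) (U'' : Fin n'' → C)
      (ψ'' : (∐ fun j => ModSite.freeOn O (V'' j)) ⟶ ∐ fun i => ModSite.freeOn O (U'' i)),
      (∀ j, V'' j ∈ B) ∧ (∀ i, U'' i ∈ B) ∧ Nonempty (cokernel α ≅ cokernel ψ'') := by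
  classical
  let π : (∐ fun i => ModSite.freeOn O (U' i)) ⟶ G := cokernel.π ψ ≫ eG.inv
  have w : ψ ≫ π = 0 := by
    simp only [π]
    rw [← Category.assoc, cokernel.condition, zero_comp]
  have hπ : IsColimit (CokernelCofork.ofπ π w) := cokernel.cokernelIso ψ π eG.symm rfl
  let Ψ : (∐ fun x => ModSite.freeOn O (Z x)) ⟶ ∐ fun i => ModSite.freeOn O (U' i) :=
    Sigma.desc comp
  have hΨ : ∀ x, Sigma.ι (fun x => ModSite.freeOn O (Z x)) x ≫ Ψ = comp x :=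
    fun x => Sigma.ι_desc comp x
  have ha : Ψ ≫ π ≫ cokernel.π α = 0 := by
    apply Sigma.hom_ext
    intro x
    rw [← Category.assoc, hΨ, comp_zero]
    exact H1 x
  have hb : ∀ {T : ModSite.Mod O} (t : (∐ fun i => ModSite.freeOn O (U' i)) ⟶ T),
      Ψ ≫ t = 0 → ψ ≫ t = 0 := by
    intro T t ht
    apply H2
    intro x
    rw [← hΨ, Category.assoc, ht, comp_zero]
  have hc : ∀ {T : ModSite.Mod O} (t₁ : G ⟶ T), Ψ ≫ π ≫ t₁ = 0 → α ≫ t₁ = 0 := by
    intro T t₁ ht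
    apply H3
    intro x
    rw [← hΨ, Category.assoc]
    change Sigma.ι (fun x => ModSite.freeOn O (Z x)) x ≫ Ψ ≫ π ≫ t₁ = 0
    rw [ht, comp_zero]
  obtain ⟨e⟩ := nonempty_cokernel_iso ψ π w hπ α Ψ ha hb hc
  let ε : Fin (Fintype.card κ) ≃ κ := (Fintype.equivFin κ).symm
  let ri := Sigma.reindex ε (fun x => ModSite.freeOn O (Z x))
  refine ⟨Fintype.card κ, n', fun j => Z (ε j), U', ri.hom ≫ Ψ, fun j => hZ _, hU', ?_⟩
  exact ⟨e ≪≫ (cokernelEpiComp ri.hom Ψ).symm⟩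

include hB₁ hB₂ in
theorem cokernel_typeA {n : ℕ} (U : Fin n → C) (hU : ∀ i, U i ∈ B) {F G : ModSite.Mod O}
    (πF : (∐ fun i => ModSite.freeOn O (U i)) ⟶ F) [Epi πF] (α : F ⟶ G)
    {m' n' : ℕ} (V' : Fin m' → C) (U' : Fin n' → C) (hV' : ∀ j, V' j ∈ B)
    (hU' : ∀ i, U' i ∈ B)
    (ψ : (∐ fun j => ModSite.freeOn O (V' j)) ⟶ ∐ fun i => ModSite.freeOn O (U' i))
    (eG : G ≅ cokernel ψ) :
    ∃ (m'' n'' : ℕ) (V'' : Fin m'' → C) (U'' : Fin n'' → C)
      (ψ'' : (∐ fun j => ModSite.freeOn O (V'' j)) ⟶ ∐ fun i => ModSite.freeOn O (U'' i)),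
      (∀ j, V'' j ∈ B) ∧ (∀ i, U'' i ∈ B) ∧ Nonempty (cokernel α ≅ cokernel ψ'') := by
  classical
  let PF : ModSite.Mod O := ∐ fun i => ModSite.freeOn O (U i)
  let PG : ModSite.Mod O := ∐ fun i => ModSite.freeOn O (U' i)
  let π : PG ⟶ G := cokernel.π ψ ≫ eG.inv
  have w : ψ ≫ π = 0 := by
    simp only [π]
    rw [← Category.assoc, cokernel.condition, zero_comp]
  haveI : Epi π := by
    simp only [π]
    infer_instance
  let β : PF ⟶ G := πF ≫ α
  let ιF : ∀ i, ModSite.freeOn O (U i) ⟶ PF :=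
    fun i => Sigma.ι (fun i => ModSite.freeOn O (U i)) i
  have hlift := fun i => exists_finite_lifts B hB₁ π (U i)
    (isQCSite_of_isQcObject _ (hB₂ _ (hU i))) (toSec O G (U i) (ιF i ≫ β))
  choose K W w' p hW hcov hp using hlift
  -- the components of `ρ`
  let r : ∀ (i : Fin n) (k : Fin (K i)), ModSite.freeOn O (W i k) ⟶ PF :=
    fun i k => ofSec O PF (W i k) (rS PF (w' i k) (toSec O PF (U i) (ιF i)))
  have hr : ∀ (i : Fin n) (k : Fin (K i)) {T : ModSite.Mod O} (f : PF ⟶ T),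
      r i k ≫ f = ofSec O T (W i k) (rS T (w' i k) (toSec O T (U i) (ιF i ≫ f))) :=
    fun i k T f => ofSec_rS_comp O (w' i k) (ιF i) f
  -- key relation
  have KL : ∀ (i : Fin n) (k : Fin (K i)), ofSec O PG (W i k) (p i k) ≫ π = r i k ≫ β := by
    intro i k
    rw [ofSec_comp, hp i k, hr i k β]
  -- the index type
  let κ : Type := (Σ i : Fin n, Fin (K i)) ⊕ Fin m'
  let Z : κ → C := Sum.elim (fun ik => W ik.1 ik.2) V'
  have hZ : ∀ x, Z x ∈ B := by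
    rintro (⟨i, k⟩ | j)
    · exact hW i k
    · exact hV' j
  let comp : ∀ x : κ, ModSite.freeOn O (Z x) ⟶ PG := fun x =>
    Sum.rec (motive := fun x => ModSite.freeOn O (Z x) ⟶ PG)
      (fun ik => ofSec O PG (W ik.1 ik.2) (p ik.1 ik.2))
      (fun j => Sigma.ι (fun j => ModSite.freeOn O (V' j)) j ≫ ψ) x
  refine typeA_of_components O B Z hZ U' hU' ψ eG α comp ?_ ?_ ?_
  · rintro (⟨i, k⟩ | j)
    · change (ofSec O PG (W i k) (p i k) ≫ π) ≫ cokernel.π α = 0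
      rw [KL]
      simp only [β, Category.assoc, cokernel.condition, comp_zero]
    · change (Sigma.ι (fun j => ModSite.freeOn O (V' j)) j ≫ ψ) ≫ π ≫ cokernel.π α = 0
      rw [Category.assoc, ← Category.assoc ψ, w, zero_comp, comp_zero]
  · intro T t ht
    apply Sigma.hom_ext
    intro j
    rw [comp_zero, ← Category.assoc]
    exact ht (Sum.inr j)
  · intro T t₁ ht
    rw [← cancel_epi πF, comp_zero, ← Category.assoc]
    change β ≫ t₁ = 0
    apply Sigma.hom_ext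
    intro i
    rw [comp_zero]
    change ιF i ≫ β ≫ t₁ = 0
    have hy : toSec O T (U i) (ιF i ≫ β ≫ t₁) = 0 := by
      have hsep : Presheaf.IsSeparated J T.val.presheaf :=
        Presheaf.IsSheaf.isSeparated T.isSheaf
      refine hsep (U i) _ (hcov i) _ 0 ?_
      rintro Y f ⟨Y', a, _, ⟨k⟩, rfl⟩
      have e1 : ∀ x : ModSite.sect T (U i), T.val.presheaf.map (a ≫ w' i k).op x =
          rS T a (rS T (w' i k) x) := fun x => rS_comp T (w' i k) a x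
      rw [map_zero, e1]
      have h2 : rS T (w' i k) (toSec O T (U i) (ιF i ≫ β ≫ t₁)) = 0 := by
        apply ofSec_injective O T (W i k)
        have h1 : (ofSec O PG (W i k) (p i k) ≫ π) ≫ t₁ = 0 := by
          rw [Category.assoc]
          exact ht (Sum.inl ⟨i, k⟩)
        rw [ofSec_zero, ← hr i k (β ≫ t₁), ← Category.assoc, ← KL]
        exact h1
      rw [h2]
      exact rS_zero T a
    rw [← ofSec_toSec O T (U i) (ιF i ≫ β ≫ t₁), hy, ofSec_zero]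

theorem main_S9115 (O : Sheaf J CommRingCat.{u}) (B : Set C)
    (hB₁ : ∀ X : C, ∃ (κ : Type u) (Y : κ → C) (g : ∀ k, Y k ⟶ X),
      Sieve.ofArrows Y g ∈ J X ∧ ∀ k, Y k ∈ B)
    (hB₂ : ∀ U ∈ B, CohCx.IsQcObject ((presheafToSheaf J (Type u)).obj (yoneda.obj U)))
    (F G : ModSite.Mod O) (α : F ⟶ G)
    (hF : (∃ (m' n' : ℕ) (V' : Fin m' → C) (U' : Fin n' → C)
        (ψ : (∐ fun j => ModSite.freeOn O (V' j)) ⟶ ∐ fun i => ModSite.freeOn O (U' i)),
        (∀ j, V' j ∈ B) ∧ (∀ i, U' i ∈ B) ∧ Nonempty (F ≅ cokernel ψ)))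
    (hG : (∃ (m' n' : ℕ) (V' : Fin m' → C) (U' : Fin n' → C)
        (ψ : (∐ fun j => ModSite.freeOn O (V' j)) ⟶ ∐ fun i => ModSite.freeOn O (U' i)),
        (∀ j, V' j ∈ B) ∧ (∀ i, U' i ∈ B) ∧ Nonempty (G ≅ cokernel ψ))) :
    (∃ (m' n' : ℕ) (V' : Fin m' → C) (U' : Fin n' → C)
        (ψ : (∐ fun j => ModSite.freeOn O (V' j)) ⟶ ∐ fun i => ModSite.freeOn O (U' i)),
        (∀ j, V' j ∈ B) ∧ (∀ i, U' i ∈ B) ∧ Nonempty (cokernel α ≅ cokernel ψ)) := by
  obtain ⟨m₁, n₁, V₁, U₁, ψ₁, _, hU₁, ⟨eF⟩⟩ := hF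
  obtain ⟨m₂, n₂, V₂, U₂, ψ₂, hV₂, hU₂, ⟨eG⟩⟩ := hG
  haveI : Epi (cokernel.π ψ₁ ≫ eF.inv) := inferInstance
  exact cokernel_typeA O B hB₁ hB₂ U₁ hU₁ (cokernel.π ψ₁ ≫ eF.inv) α V₂ U₂ hV₂ hU₂ ψ₂ eG

end Main

end Groth.Agent.Lib.T2H8.ModFinPres
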