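import Mathlib
import Groth.Prelude.Def_ModSite2
import Groth.Prelude.Def_CohCx
import Groth.Prelude.Def_CohDer
import Groth.Agent.Lib.T2H8ModFinPres
import Groth.Agent.Lib.Helper17DBrown3
import Groth.Agent.Lib.Helper21ModTensor3

/-!
# `j_{U!} O_U` is compact in `D(O)` for `U` quasi-compact and weakly contractible
-/

set_option autoImplicit false
universe u
open CategoryTheory CategoryTheory.Limits Opposite

namespace Groth.Agent.Lib.T2H8.ModCompact

open Groth.Agent.Lib.T2H8.ModStalkFlat Groth.Agent.Lib.T2H8.ModCoprodSec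
  Groth.Agent.Lib.Helper23FreeOn Groth.Agent.Lib.T2H8.ModFinPres
  Groth.Agent.Lib.Helper1.Compact

variable {C : Type u} [SmallCategory C] {J : GrothendieckTopology C}
  (O : Sheaf J CommRingCat.{u})

/-- for quasi-compact `U`, the module `j_{U!} O_U` is a compact object of `Mod O` -/
theorem isCompactObject_freeOn (U : C)
    (hU : CohCx.IsQcObject ((presheafToSheaf J (Type u)).obj (yoneda.obj U))) :
    CohDer.IsCompactObject (ModSite.freeOn O U) := by
  classical
  rw [isCompactObject_iff]
  intro ι X φ
  let c : Cofan X := Cofan.mk (∐ X) (Sigma.ι X)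
  have hc : IsColimit c := coproductIsCoproduct X
  obtain ⟨T, hT⟩ := exists_finset_eq_sum_of_qc c hc U (isQCSite_of_isQcObject U hU)
    (toSec O (∐ X) U φ)
  refine ⟨T, ?_⟩
  rw [← ofSec_toSec O (∐ X) U φ, ofSec_comp, hT, map_sum, ← ofSec_zero O (∐ X) U]
  congr 1
  apply Finset.sum_eq_zero
  intro i hi
  have h1 : ∀ y : ModSite.sect (X i) U,
      (kill X T).val.app (op U) ((Sigma.ι X i).val.app (op U) y) = 0 := by
    intro y
    have h2 : (Sigma.ι X i ≫ kill X T).val.app (op U) y = 0 := by
      rw [ι_kill_of_mem X hi]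
      rfl
    exact h2
  exact h1 _

/-- for weakly contractible `U`, the module `j_{U!} O_U` is projective -/
theorem projective_freeOn (U : C) (hwc : CohSite.IsWeaklyContractible J U) :
    Projective (ModSite.freeOn O U) := by
  constructor
  intro E X f e he
  haveI := he
  -- surjectivity on sections
  have hsurj : Function.Surjective (e.val.app (op U)) := by
    haveI hls := Groth.Agent.Lib.Helper4.ModEpi.isLocallySurjective_of_epi e
    let e' : ModSite.toAb E ⟶ ModSite.toAb X := (SheafOfModules.toSheaf _).map e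
    haveI : Sheaf.IsLocallySurjective e' := hls
    let φ := (sheafCompose J (forget AddCommGrpCat.{u})).map e'
    haveI : Epi φ := inferInstance
    exact hwc _ _ φ inferInstance
  obtain ⟨s', hs'⟩ := hsurj (toSec O X U f)
  refine ⟨ofSec O E U s', ?_⟩
  rw [ofSec_comp, hs', ofSec_toSec]

theorem main_S9037 [HasDerivedCategory.{u} (ModSite.Mod O)]
    [HasCoproducts.{u} (DerivedCategory (ModSite.Mod O))]
    (U : C) (hqc : CohCx.IsQcObject ((presheafToSheaf J (Type u)).obj (yoneda.obj U)))
    (hwc : CohSite.IsWeaklyContractible J U) :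
    CohDer.IsCompactObject
      ((DerivedCategory.singleFunctor (ModSite.Mod O) 0).obj (ModSite.freeOn O U)) := by
  haveI := Groth.Agent.Lib.Helper21.ModTensor3.isGrothendieckAbelian O
  haveI : Projective (ModSite.freeOn O U) := projective_freeOn O U hwc
  exact Groth.Agent.Lib.Helper17.DBrown.isCompactObject_Q_single
    (isCompactObject_freeOn O U hqc) 0

end Groth.Agent.Lib.T2H8.ModCompact
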