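import Mathlib
import Groth.Prelude.Def_ModSite2
import Groth.Agent.Lib.T2H8ModStalkFlat
import Groth.Agent.Lib.Helper21EqCrit3

/-!
# The equational criterion of flatness on a ringed site (both directions)
-/

set_option autoImplicit false
universe u
open CategoryTheory CategoryTheory.Limits Opposite MonoidalCategory

namespace Groth.Agent.Lib.T2H8.ModEqCrit

open Groth.Agent.Lib.Helper21.StalkFlat Groth.Agent.Lib.Helper21.ModTensor2
  Groth.Agent.Lib.Helper21.ModTensor3 Groth.Agent.Lib.Helper21.ModTensor5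
  Groth.Agent.Lib.T2H8.ModStalkFlat
open scoped TensorProduct

section Alg

variable {R M N : Type*} [CommRing R] [AddCommGroup M] [Module R M] [AddCommGroup N] [Module R N]

/-- a vanishing sum of pure tensors vanishes trivially after adding finitely many elements on
the left (paired with zero) -/
theorem exists_relations_of_sum_tmul_eq_zero {ι : Type*} [Fintype ι] (m : ι → M) (n : ι → N)
    (h : ∑ i, m i ⊗ₜ[R] n i = 0) :
    ∃ (k k' : ℕ) (m' : Fin k → M) (a : ι → Fin k' → R) (a' : Fin k → Fin k' → R)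
      (y : Fin k' → N),
      (∀ i, n i = ∑ j, a i j • y j) ∧ (∀ l, ∑ j, a' l j • y j = 0) ∧
      (∀ j, ∑ i, a i j • m i + ∑ l, a' l j • m' l = 0) := by
  classical
  let N₀ : Submodule R M := Submodule.span R (Set.range m)
  have hN₀ : N₀.FG := Submodule.fg_span (Set.finite_range m)
  have hmem : ∀ i, m i ∈ N₀ := fun i => Submodule.subset_span ⟨i, rfl⟩
  let x : N₀ ⊗[R] N := ∑ i, (⟨m i, hmem i⟩ : N₀) ⊗ₜ[R] n i
  have hx : N₀.subtype.rTensor N x = N₀.subtype.rTensor N 0 := by
    rw [map_zero, map_sum]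
    simpa using h
  obtain ⟨N', hN', hle, e⟩ := hN₀.exists_rTensor_fg_inclusion_eq hx
  obtain ⟨k, m', hm'⟩ := Submodule.fg_iff_exists_fin_generating_family.1 hN'
  have hm'mem : ∀ l, m' l ∈ N' := fun l => hm' ▸ Submodule.subset_span ⟨l, rfl⟩
  let mm : ι ⊕ Fin k → N' :=
    Sum.elim (fun i => ⟨m i, hle (hmem i)⟩) (fun l => ⟨m' l, hm'mem l⟩)
  let nn : ι ⊕ Fin k → N := Sum.elim n (fun _ => 0)
  have hspan : Submodule.span R (Set.range mm) = ⊤ := by
    apply Submodule.map_injective_of_injective N'.injective_subtype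
    rw [Submodule.map_span, Submodule.map_subtype_top, ← Set.range_comp]
    apply le_antisymm
    · rw [Submodule.span_le]
      rintro _ ⟨z, rfl⟩
      exact (mm z).2
    · conv_lhs => rw [← hm']
      apply Submodule.span_mono
      rintro _ ⟨l, rfl⟩
      exact ⟨Sum.inr l, rfl⟩
  have hsum : ∑ z, mm z ⊗ₜ[R] nn z = (0 : N' ⊗[R] N) := by
    rw [Fintype.sum_sum_type]
    have h2 : ∑ l : Fin k, mm (Sum.inr l) ⊗ₜ[R] nn (Sum.inr l) = 0 := by
      apply Finset.sum_eq_zero
      intro l _
      exact TensorProduct.tmul_zero _ _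
    rw [h2, add_zero]
    have h1 : (N₀.inclusion hle).rTensor N x = ∑ i, mm (Sum.inl i) ⊗ₜ[R] nn (Sum.inl i) := by
      rw [map_sum]
      rfl
    rw [← h1, e, map_zero]
  obtain ⟨k', a, y, h1, h2⟩ := TensorProduct.vanishesTrivially_of_sum_tmul_eq_zero R hspan hsum
  refine ⟨k, k', m', fun i => a (Sum.inl i), fun l => a (Sum.inr l), y,
    fun i => h1 (Sum.inl i), fun l => (h1 (Sum.inr l)).symm, fun j => ?_⟩
  have h3 := congrArg N'.subtype (h2 j)
  rw [Fintype.sum_sum_type, map_add, map_sum, map_sum, map_zero] at h3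
  simpa [mm] using h3

end Alg

variable {C : Type u} [SmallCategory C] {J : GrothendieckTopology C} {O : Sheaf J CommRingCat.{u}}

section Ring

lemma rO_mul {X W : C} (h : W ⟶ X) (a b : O.obj.obj (op X)) :
    rO h (a * b) = rO h a * rO h b :=
  map_mul ((ModSite.ringSh O).obj.map h.op).hom a b

lemma rO_zero {X W : C} (h : W ⟶ X) : rO h (0 : O.obj.obj (op X)) = 0 :=
  map_zero ((ModSite.ringSh O).obj.map h.op).hom

lemma rO_one {X W : C} (h : W ⟶ X) : rO h (1 : O.obj.obj (op X)) = 1 :=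
  map_one ((ModSite.ringSh O).obj.map h.op).hom

lemma rO_sum {X W : C} (h : W ⟶ X) {κ : Type*} (T : Finset κ) (c : κ → O.obj.obj (op X)) :
    rO h (∑ j ∈ T, c j) = ∑ j ∈ T, rO h (c j) :=
  map_sum ((ModSite.ringSh O).obj.map h.op).hom c T

lemma rO_comp {X W V : C} (h : W ⟶ X) (h' : V ⟶ W) (c : O.obj.obj (op X)) :
    rO (h' ≫ h) c = rO h' (rO h c) := by
  unfold rO
  rw [op_comp, (ModSite.ringSh O).obj.map_comp]
  rfl

end Ring

/-- the local equational condition (single relations) -/
def Hyp (F : ModSite.Mod O) : Prop :=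
  ∀ (U : C) (n : ℕ) (f : Fin n → O.obj.obj (op U)) (s : Fin n → ModSite.sect F U),
    ∑ j, f j • s j = 0 →
    ∃ S ∈ J U, ∀ ⦃V : C⦄ (g : V ⟶ U), S g →
      ∃ (l : ℕ) (t : Fin l → ModSite.sect F V) (a : Fin n → Fin l → O.obj.obj (op V)),
        (∀ j, rS F g (s j) = ∑ k, a j k • t k) ∧
        (∀ k, ∑ j, a j k * rO g (f j) = 0)

/-- the matrix form of the local equational condition -/
theorem matrix_crit (F : ModSite.Mod O) (H : Hyp F) :
    ∀ (m : ℕ) (U : C) (n : ℕ) (f : Fin m → Fin n → O.obj.obj (op U))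
      (s : Fin n → ModSite.sect F U), (∀ i, ∑ j, f i j • s j = 0) →
      ∃ S ∈ J U, ∀ ⦃V : C⦄ (g : V ⟶ U), S g →
        ∃ (l : ℕ) (t : Fin l → ModSite.sect F V) (a : Fin n → Fin l → O.obj.obj (op V)),
          (∀ j, rS F g (s j) = ∑ k, a j k • t k) ∧
          (∀ i k, ∑ j, a j k * rO g (f i j) = 0) := by
  classical
  intro m
  induction m with
  | zero =>
    intro U n f s _
    refine ⟨⊤, J.top_mem U, fun V g _ => ?_⟩
    refine ⟨n, fun j => rS F g (s j), fun j k => if j = k then 1 else 0, fun j => ?_,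
      fun i => i.elim0⟩
    simp
  | succ m ih =>
    intro U n f s hrel
    obtain ⟨S₁, hS₁, H₁⟩ := H U n (f 0) s (hrel 0)
    have H₁' : ∀ (V : C) (g : V ⟶ U) (_ : S₁ g),
        ∃ (l : ℕ) (t : Fin l → ModSite.sect F V) (a : Fin n → Fin l → O.obj.obj (op V)),
          (∀ j, rS F g (s j) = ∑ k, a j k • t k) ∧ (∀ k, ∑ j, a j k * rO g (f 0 j) = 0) :=
      fun V g hg => H₁ g hg
    choose l₁ t₁ a₁ hP1 hP2 using H₁'
    have hrel' : ∀ (V : C) (g : V ⟶ U) (hg : S₁ g) (i : Fin m),
        ∑ k, (∑ j, rO g (f i.succ j) * a₁ V g hg j k) • t₁ V g hg k = 0 := by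
      intro V g hg i
      have e1 : ∀ k, (∑ j, rO g (f i.succ j) * a₁ V g hg j k) • t₁ V g hg k =
          ∑ j, rO g (f i.succ j) • (a₁ V g hg j k • t₁ V g hg k) := by
        intro k
        rw [Finset.sum_smul]
        exact Finset.sum_congr rfl (fun j _ => mul_smul _ _ _)
      rw [Finset.sum_congr rfl (fun k _ => e1 k), Finset.sum_comm]
      have e2 : ∀ j, ∑ k, rO g (f i.succ j) • (a₁ V g hg j k • t₁ V g hg k) =
          rO g (f i.succ j) • rS F g (s j) := by
        intro j
        rw [← Finset.smul_sum, ← hP1 V g hg j]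
      rw [Finset.sum_congr rfl (fun j _ => e2 j), ← rS_sum_smul, hrel i.succ, rS_zero]
    have IH := fun (V : C) (g : V ⟶ U) (hg : S₁ g) =>
      ih V (l₁ V g hg) (fun i k => ∑ j, rO g (f i.succ j) * a₁ V g hg j k) (t₁ V g hg)
        (hrel' V g hg)
    choose S₂ hS₂ H₂ using IH
    refine ⟨Sieve.bind S₁ (fun V g hg => S₂ V g hg), J.bind_covering hS₁ (fun V g hg => hS₂ V g hg),
      ?_⟩
    rintro W w ⟨V, h, g, hg, hh, rfl⟩
    obtain ⟨l₂, t₂, a₂, hQ1, hQ2⟩ := H₂ V g hg h hh
    refine ⟨l₂, t₂, fun j k' => ∑ k, rO h (a₁ V g hg j k) * a₂ k k', fun j => ?_, fun i k' => ?_⟩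
    · rw [rS_comp, hP1 V g hg j, rS_sum_smul]
      have e1 : ∀ k, rO h (a₁ V g hg j k) • rS F h (t₁ V g hg k) =
          ∑ k', (rO h (a₁ V g hg j k) * a₂ k k') • t₂ k' := by
        intro k
        rw [hQ1 k, Finset.smul_sum]
        exact Finset.sum_congr rfl (fun k' _ => (mul_smul _ _ _).symm)
      rw [Finset.sum_congr rfl (fun k _ => e1 k), Finset.sum_comm]
      exact Finset.sum_congr rfl (fun k' _ => (Finset.sum_smul).symm)
    · have key : ∀ (c : Fin n → O.obj.obj (op V)),
          ∑ j, (∑ k, rO h (a₁ V g hg j k) * a₂ k k') * rO h (c j) =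
            ∑ k, a₂ k k' * rO h (∑ j, c j * a₁ V g hg j k) := by
        intro c
        have e1 : ∀ j, (∑ k, rO h (a₁ V g hg j k) * a₂ k k') * rO h (c j) =
            ∑ k, a₂ k k' * (rO h (c j) * rO h (a₁ V g hg j k)) := by
          intro j
          rw [Finset.sum_mul]
          exact Finset.sum_congr rfl (fun k _ => by ring)
        rw [Finset.sum_congr rfl (fun j _ => e1 j), Finset.sum_comm]
        refine Finset.sum_congr rfl (fun k _ => ?_)
        rw [← Finset.mul_sum, rO_sum]
        congr 1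
        exact Finset.sum_congr rfl (fun j _ => (rO_mul h _ _).symm)
      have e0 : ∀ j, rO (h ≫ g) (f i j) = rO h (rO g (f i j)) := fun j => rO_comp g h _
      rw [Finset.sum_congr rfl (fun j _ => by rw [e0 j]), key (fun j => rO g (f i j))]
      refine Fin.cases ?_ (fun i' => ?_) i
      · apply Finset.sum_eq_zero
        intro k _
        have : ∑ j, rO g (f 0 j) * a₁ V g hg j k = 0 := by
          rw [← hP2 V g hg k]
          exact Finset.sum_congr rfl (fun j _ => mul_comm _ _)
        rw [this, rO_zero, mul_zero]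
      · exact hQ2 i' k'

section Inj

variable (F : ModSite.Mod O) {G G' : ModSite.Mod O} (α : G ⟶ G')

lemma injective_app_of_mono [Mono α] (X : C) : Function.Injective (α.val.app (op X)) := by
  haveI : Mono ((SheafOfModules.toSheaf (ModSite.ringSh O)).map α) := inferInstance
  haveI h2 : Mono ((sheafToPresheaf J AddCommGrpCat.{u}).map
    ((SheafOfModules.toSheaf (ModSite.ringSh O)).map α)) := inferInstance
  have h3 := (NatTrans.mono_iff_mono_app _).1 h2 (op X)
  exact (AddCommGrpCat.mono_iff_injective _).1 h3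

lemma app_rS {X W : C} (h : W ⟶ X) (g : ModSite.sect G X) :
    α.val.app (op W) (rS G h g) = rS G' h (α.val.app (op X) g) :=
  PresheafOfModules.naturality_apply α.val h.op g

lemma app_sum_smul (X : C) {κ : Type*} [Fintype κ] (c : κ → O.obj.obj (op X))
    (g : κ → ModSite.sect G X) :
    α.val.app (op X) (∑ i, c i • g i) = ∑ i, c i • α.val.app (op X) (g i) := by
  have h1 : α.val.app (op X) (∑ i, c i • g i) = ∑ i, α.val.app (op X) (c i • g i) :=
    map_sum (α.val.app (op X)).hom _ _
  rw [h1]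
  exact Finset.sum_congr rfl (fun i _ => map_smul (α.val.app (op X)).hom (c i) (g i))

/-- the presheaf-level map `α ⊗ F` is locally injective when relations in `F` are locally
trivial and `α` is a monomorphism -/
theorem exists_sieve_resT_eq_zero (H : Hyp F) [Mono α] (U : C) (t : SecT G F U)
    (ht : mapT F α U t = 0) :
    ∃ S ∈ J U, ∀ ⦃V : C⦄ (g : V ⟶ U), S g → resT G F g t = 0 := by
  classical
  obtain ⟨S, rfl⟩ := TensorProduct.exists_finset t
  let gg : S → ModSite.sect G U := fun i => (i.1).1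
  let ff : S → ModSite.sect F U := fun i => (i.1).2
  have ht' : ∑ i : S, (α.val.app (op U) (gg i)) ⊗ₜ[O.obj.obj (op U)] (ff i) = 0 := by
    rw [map_sum, ← Finset.sum_coe_sort] at ht
    exact ht
  obtain ⟨k, k', m', a, a', y, h1, h2, h3⟩ := exists_relations_of_sum_tmul_eq_zero
    (R := O.obj.obj (op U)) (fun i : S => α.val.app (op U) (gg i)) ff ht'
  obtain ⟨T, hT, HT⟩ := matrix_crit F H k U k' a' y h2
  refine ⟨T, hT, fun V g hg => ?_⟩
  obtain ⟨l, z, b, hz, hb⟩ := HT g hg
  -- the coefficients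
  let c : S → Fin l → O.obj.obj (op V) := fun i q => ∑ j, rO g (a i j) * b j q
  have hc1 : ∀ i : S, rS F g (ff i) = ∑ q, c i q • z q := by
    intro i
    rw [h1 i, rS_sum_smul]
    have e1 : ∀ j, rO g (a i j) • rS F g (y j) = ∑ q, (rO g (a i j) * b j q) • z q := by
      intro j
      rw [hz j, Finset.smul_sum]
      exact Finset.sum_congr rfl (fun q _ => (mul_smul _ _ _).symm)
    rw [Finset.sum_congr rfl (fun j _ => e1 j), Finset.sum_comm]
    exact Finset.sum_congr rfl (fun q _ => (Finset.sum_smul).symm)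
  have hc2 : ∀ q, ∑ i : S, c i q • rS G g (gg i) = 0 := by
    intro q
    apply injective_app_of_mono α V
    rw [app_sum_smul, map_zero]
    have e1 : ∀ i : S, c i q • α.val.app (op V) (rS G g (gg i)) =
        ∑ j, b j q • (rO g (a i j) • rS G' g (α.val.app (op U) (gg i))) := by
      intro i
      rw [app_rS, Finset.sum_smul]
      refine Finset.sum_congr rfl (fun j _ => ?_)
      rw [mul_comm, mul_smul]
    rw [Finset.sum_congr rfl (fun i _ => e1 i), Finset.sum_comm]
    have e2 : ∀ j, ∑ i : S, b j q • (rO g (a i j) • rS G' g (α.val.app (op U) (gg i))) =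
        b j q • rS G' g (∑ i : S, a i j • α.val.app (op U) (gg i)) := by
      intro j
      rw [rS_sum_smul, Finset.smul_sum]
    rw [Finset.sum_congr rfl (fun j _ => e2 j)]
    have e3 : ∀ j, ∑ i : S, a i j • α.val.app (op U) (gg i) = - ∑ l', a' l' j • m' l' :=
      fun j => eq_neg_of_add_eq_zero_left (h3 j)
    have e4 : ∀ j, b j q • rS G' g (∑ i : S, a i j • α.val.app (op U) (gg i)) =
        - ∑ l', (b j q * rO g (a' l' j)) • rS G' g (m' l') := by
      intro j
      rw [e3 j]
      have : rS G' g (- ∑ l', a' l' j • m' l') = - rS G' g (∑ l', a' l' j • m' l') :=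
        map_neg (G'.val.map g.op).hom _
      rw [this, rS_sum_smul, smul_neg, Finset.smul_sum]
      congr 1
      exact Finset.sum_congr rfl (fun l' _ => (mul_smul _ _ _).symm)
    rw [Finset.sum_congr rfl (fun j _ => e4 j), Finset.sum_neg_distrib, Finset.sum_comm,
      neg_eq_zero]
    apply Finset.sum_eq_zero
    intro l' _
    rw [← Finset.sum_smul, hb l' q, zero_smul]
  rw [map_sum, ← Finset.sum_coe_sort]
  have hterm : ∀ i : S, resT G F g ((i.1).1 ⊗ₜ[O.obj.obj (op U)] (i.1).2) =
      (rS G g (gg i)) ⊗ₜ[O.obj.obj (op V)] (rS F g (ff i)) := fun i => resT_tmul G F g _ _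
  rw [Finset.sum_congr rfl (fun i _ => hterm i)]
  exact TensorProduct.sum_tmul_eq_zero_of_vanishesTrivially (O.obj.obj (op V))
    ⟨l, c, z, hc1, hc2⟩

end Inj

section Main

variable (O)

theorem isLocallyInjective_mapPre (F : ModSite.Mod O) (H : Hyp F) {G G' : ModSite.Mod O}
    (α : G ⟶ G') [Mono α] :
    Presheaf.IsLocallyInjective J ((PresheafOfModules.toPresheaf _).map (mapPre F α)) := by
  constructor
  intro X x y hxy
  let x' : SecT G F X.unop := x
  let y' : SecT G F X.unop := y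
  have hxy' : mapT F α X.unop x' = mapT F α X.unop y' := hxy
  have h0 : mapT F α X.unop (x' - y') = 0 := by
    rw [map_sub]
    exact sub_eq_zero.2 hxy'
  obtain ⟨S, hS, HS⟩ := exists_sieve_resT_eq_zero F α H X.unop (x' - y') h0
  refine J.superset_covering ?_ hS
  intro V g hg
  have h1 := HS g hg
  rw [map_sub] at h1
  exact sub_eq_zero.1 h1

theorem mono_tR_map_of_hyp (F : ModSite.Mod O) (H : Hyp F) {G G' : ModSite.Mod O}
    (α : G ⟶ G') [Mono α] : Mono ((tR O F).map α) := by
  rw [tR_map]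
  apply Functor.mono_of_mono_map (SheafOfModules.toSheaf (ModSite.ringSh O))
  show Mono ((presheafToSheaf J AddCommGrpCat.{u}).map
        ((PresheafOfModules.toPresheaf _).map (mapPre F α)))
  haveI := isLocallyInjective_mapPre O F H α
  haveI : Sheaf.IsLocallyInjective ((presheafToSheaf J AddCommGrpCat.{u}).map
      ((PresheafOfModules.toPresheaf _).map (mapPre F α))) :=
    (Presheaf.isLocallyInjective_presheafToSheaf_map_iff J _).2 inferInstance
  exact Sheaf.mono_of_isLocallyInjective _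

theorem isFlat_of_hyp (F : ModSite.Mod O) (H : Hyp F) : ModSite.IsFlat F := by
  rw [isFlat_iff]
  exact Groth.Agent.Lib.Helper21.FlatCalc.preservesFiniteLimits_of_mono (tR O F)
    (fun α hα => by haveI := hα; exact mono_tR_map_of_hyp O F H α)

theorem main_S9095 (F : ModSite.Mod O) :
    ModSite.IsFlat F ↔
      ∀ (U : C) (n : ℕ) (f : Fin n → O.obj.obj (op U)) (s : Fin n → ModSite.sect F U),
        ∑ j, f j • s j = 0 →
        ∃ S ∈ J U, ∀ ⦃V : C⦄ (g : V ⟶ U), S g →
          ∃ (l : ℕ) (t : Fin l → ModSite.sect F V) (a : Fin n → Fin l → O.obj.obj (op V)),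
            (∀ j, (F.val.map g.op).hom (s j) = ∑ k, a j k • t k) ∧
            (∀ k, ∑ j, a j k * (O.obj.map g.op).hom (f j) = 0) := by
  constructor
  · intro hF U n f s hrel
    obtain ⟨S, hS, HS⟩ := Groth.Agent.Lib.Helper21.EqCrit.eq_crit O F hF U
      (m := 1) (fun _ j => f j) s (fun _ => hrel)
    refine ⟨S, hS, fun V g hg => ?_⟩
    obtain ⟨l, t, a, h1, h2⟩ := HS g hg
    exact ⟨l, t, a, h1, fun k => h2 0 k⟩
  · intro H
    exact isFlat_of_hyp O F H

end Main

end Groth.Agent.Lib.T2H8.ModEqCrit
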