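import Mathlib
import Groth.Prelude.Def_ModSite2
import Groth.Agent.Lib.Helper23FreeOn
import Groth.Agent.Lib.Helper21RestrExact
import Groth.Agent.Lib.Helper4ModEpi

/-!
# Extensions of finite type modules on a ringed space are of finite type (helper8, team 2)
-/

set_option autoImplicit false
set_option linter.unusedSectionVars false
set_option linter.style.haveILetI false
universe u
open CategoryTheory CategoryTheory.Limits Opposite

namespace Groth.Agent.Lib.T2H8.ModFTExt

section General

variable {C : Type u} [SmallCategory C] {J : GrothendieckTopology C} {R : Sheaf J RingCat.{u}}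

/-- the zero section -/
def zs (Q : SheafOfModules.{u} R) : Q.sections :=
  PresheafOfModules.sectionsMk (fun _ => 0) (fun _ _ f => map_zero _)

lemma sectionsMap_zero {M Q : SheafOfModules.{u} R} (t : M.sections) :
    SheafOfModules.sectionsMap (0 : M ⟶ Q) t = zs Q := by
  apply PresheafOfModules.sections_ext
  intro Z
  rfl

lemma sectionsMap_zs {M Q : SheafOfModules.{u} R} (q : M ⟶ Q) :
    SheafOfModules.sectionsMap q (zs M) = zs Q := by
  apply PresheafOfModules.sections_ext
  intro Z
  exact map_zero _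

lemma π_apply {M : SheafOfModules.{u} R} (G : M.GeneratingSections) (k : G.I) :
    M.freeHomEquiv G.π k = G.s k := by
  change M.freeHomEquiv (M.freeHomEquiv.symm G.s) k = G.s k
  rw [Equiv.apply_symm_apply]

/-- a morphism out of a module with generating sections vanishes if it kills the generators -/
lemma eq_zero_of_generators {M Q : SheafOfModules.{u} R} (G : M.GeneratingSections) (q : M ⟶ Q)
    (h : ∀ k, SheafOfModules.sectionsMap q (G.s k) = zs Q) : q = 0 := by
  rw [← cancel_epi G.π, comp_zero]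
  apply Q.freeHomEquiv.injective
  funext k
  rw [SheafOfModules.freeHomEquiv_comp_apply, π_apply, h k]
  rw [SheafOfModules.freeHomEquiv_apply, sectionsMap_zero]

/-- horseshoe lemma for generating sections -/
theorem epi_of_shortExact (S : ShortComplex (SheafOfModules.{u} R)) (hS : S.ShortExact)
    (G₁ : S.X₁.GeneratingSections) (G₃ : S.X₃.GeneratingSections) (u : G₃.I → S.X₂.sections)
    (hu : ∀ b, SheafOfModules.sectionsMap S.g (u b) = G₃.s b) :
    Epi (S.X₂.freeHomEquiv.symm
      (Sum.elim (fun a => SheafOfModules.sectionsMap S.f (G₁.s a)) u)) := by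
  set s : G₁.I ⊕ G₃.I → S.X₂.sections :=
    Sum.elim (fun a => SheafOfModules.sectionsMap S.f (G₁.s a)) u with hs
  refine Preadditive.epi_of_cancel_zero _ (fun {Q} q hq => ?_)
  have hk : ∀ k, SheafOfModules.sectionsMap q (s k) = zs Q := by
    intro k
    have h1 : Q.freeHomEquiv (S.X₂.freeHomEquiv.symm s ≫ q) k =
        SheafOfModules.sectionsMap q (s k) := by
      rw [SheafOfModules.freeHomEquiv_comp_apply, Equiv.apply_symm_apply]
    rw [← h1, hq, SheafOfModules.freeHomEquiv_apply, sectionsMap_zero]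
  have h1 : S.f ≫ q = 0 := by
    apply eq_zero_of_generators G₁
    intro a
    rw [SheafOfModules.sectionsMap_comp]
    exact hk (Sum.inl a)
  haveI := hS.epi_g
  obtain ⟨q', hq'⟩ : ∃ q' : S.X₃ ⟶ Q, S.g ≫ q' = q :=
    ⟨hS.exact.desc q h1, hS.exact.g_desc q h1⟩
  have h2 : q' = 0 := by
    apply eq_zero_of_generators G₃
    intro b
    rw [← hu b, ← SheafOfModules.sectionsMap_comp, hq']
    exact hk (Sum.inr b)
  rw [← hq', h2, comp_zero]

/-- restriction of generating sections along `f : X ⟶ Y` -/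
noncomputable def restrictGen [HasPullbacks C] (M : SheafOfModules.{u} R) {X Y : C} (f : X ⟶ Y)
    (G : (M.over Y).GeneratingSections) : (M.over X).GeneratingSections :=
  (G.map (SheafOfModules.overMap R f) (SheafOfModules.overMapUnitIso f).symm).ofEpi
    ((SheafOfModules.overFunctorMap R f).app M).hom

@[simp] lemma restrictGen_I [HasPullbacks C] (M : SheafOfModules.{u} R) {X Y : C} (f : X ⟶ Y)
    (G : (M.over Y).GeneratingSections) : (restrictGen M f G).I = G.I := rfl

lemma restrictGen_s_val [HasPullbacks C] (M : SheafOfModules.{u} R) {X Y : C} (f : X ⟶ Y)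
    (G : (M.over Y).GeneratingSections) (b : G.I) (Z : (Over X)ᵒᵖ) :
    ((restrictGen M f G).s b).val Z = (G.s b).val (op ((Over.map f).obj Z.unop)) := by
  simp only [restrictGen, SheafOfModules.GeneratingSections.ofEpi_s,
    SheafOfModules.GeneratingSections.map_s]
  rw [SheafOfModules.GeneratingSections.mapFreeHom, SheafOfModules.freeHomEquiv]
  simp
  change (SheafOfModules.ιFree b ≫ G.π).val.app (op ((Over.map f).obj (unop Z)))
    (1 : (R.over Y).obj.obj (op ((Over.map f).obj (unop Z)))) = _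
  rw [← π_apply G b]
  rfl

end General

section Top

open TopologicalSpace Groth.Agent.Lib.Helper23FreeOn

variable {X : TopCat.{u}} (O : TopCat.Sheaf CommRingCat.{u} X)

/-- sections lift through an epimorphism near any point -/
theorem exists_lift_at {G F : ModSite.Mod O} (p : G ⟶ F) [Epi p] (V : Opens X)
    (s : F.val.obj (op V)) (x : X) (hx : x ∈ V) :
    ∃ (W : Opens X) (_ : x ∈ W) (i : W ⟶ V) (t : G.val.obj (op W)),
      p.val.app (op W) t = F.val.restrictₛₗ i.op s := by
  haveI := Groth.Agent.Lib.Helper4.ModEpi.isLocallySurjective_of_epi p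
  have hmem := Presheaf.imageSieve_mem (Opens.grothendieckTopology X)
    ((PresheafOfModules.toPresheaf _).map p.val) (U := op V) s
  obtain ⟨W, i, hi, hxW⟩ := hmem x hx
  obtain ⟨t, ht⟩ := hi
  exact ⟨W, hxW, i, t, ht⟩

/-- the value at the top of a restricted generating section -/
lemma evalTop_restrictGen (M : ModSite.Mod O) {W Y : Opens X} (f : W ⟶ Y)
    (G : (M.over Y).GeneratingSections) (b : G.I) :
    evalTop O M W ((restrictGen M f G).s b) = M.val.restrictₛₗ f.op (evalTop O M Y (G.s b)) := by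
  have hprop := PresheafOfModules.sections_property (G.s b)
    (Over.homMk (U := (Over.map f).obj (Over.mk (𝟙 W))) (V := Over.mk (𝟙 Y)) f (by simp)).op
  unfold evalTop
  rw [restrictGen_s_val, ← hprop]
  rfl

/-- near a point, an extension of two locally finitely generated modules is finitely generated -/
theorem exists_local_gen (S : ShortComplex (ModSite.Mod O)) (hS : S.ShortExact)
    (Y₁ Y₃ : Opens X) (G₁ : (S.X₁.over Y₁).GeneratingSections)
    (G₃ : (S.X₃.over Y₃).GeneratingSections) [Finite G₁.I] [Finite G₃.I]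
    (x : X) (hx₁ : x ∈ Y₁) (hx₃ : x ∈ Y₃) :
    ∃ (W : Opens X) (_ : x ∈ W) (G : (S.X₂.over W).GeneratingSections), G.IsFiniteType := by
  haveI := hS.epi_g
  have h1 := fun b : G₃.I => exists_lift_at O S.g Y₃ (evalTop O S.X₃ Y₃ (G₃.s b)) x hx₃
  choose Wb hxWb ib ub hub using h1
  let W₀ : Opens X := ⟨⋂ b, (Wb b : Set X), isOpen_iInter_of_finite fun b => (Wb b).isOpen⟩
  have hW₀ : ∀ b, W₀ ≤ Wb b := fun b y hy => Set.mem_iInter.1 hy b
  let W : Opens X := W₀ ⊓ (Y₁ ⊓ Y₃)
  have hxW : x ∈ W := ⟨Set.mem_iInter.2 hxWb, hx₁, hx₃⟩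
  let f₁ : W ⟶ Y₁ := homOfLE (inf_le_right.trans inf_le_left)
  let f₃ : W ⟶ Y₃ := homOfLE (inf_le_right.trans inf_le_right)
  let jb : ∀ b, W ⟶ Wb b := fun b => homOfLE (inf_le_left.trans (hW₀ b))
  have hSW : (S.map (ModSite.restr O W)).ShortExact := hS.map_of_exact (ModSite.restr O W)
  let G₁' := restrictGen S.X₁ f₁ G₁
  let G₃' := restrictGen S.X₃ f₃ G₃
  let u' : G₃'.I → (S.X₂.over W).sections := fun b =>
    sec O S.X₂ W (S.X₂.val.restrictₛₗ (jb b).op (ub b))
  have hu : ∀ b, SheafOfModules.sectionsMap (S.map (ModSite.restr O W)).g (u' b) = G₃'.s b := by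
    intro b
    change SheafOfModules.sectionsMap ((ModSite.restr O W).map S.g) (sec O S.X₂ W _) = _
    rw [sectionsMap_sec, ← sec_evalTop O S.X₃ W (G₃'.s b)]
    congr 1
    rw [evalTop_restrictGen]
    have hnat := PresheafOfModules.naturality_apply S.g.val (jb b).op (ub b)
    refine hnat.trans ?_
    change S.X₃.val.restrictₛₗ (jb b).op (S.g.val.app (op (Wb b)) (ub b)) = _
    rw [hub b]
    have hcomp : f₃.op = (ib b).op ≫ (jb b).op := by
      rw [← op_comp]
      congr 1
    rw [hcomp]
    exact (restr_comp S.X₃.val (ib b).op (jb b).op _).symm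
  haveI := epi_of_shortExact (S.map (ModSite.restr O W)) hSW G₁' G₃' u' hu
  refine ⟨W, hxW, ⟨G₁'.I ⊕ G₃'.I, _, this⟩, ⟨?_⟩⟩
  change Finite (G₁.I ⊕ G₃.I)
  infer_instance

theorem main_S6839 {X : TopCat.{u}} (O : TopCat.Sheaf CommRingCat.{u} X)
    (S : ShortComplex (ModSite.Mod O)) (hS : S.ShortExact)
    [SheafOfModules.IsFiniteType (R := ModSite.ringSh O) S.X₁]
    [SheafOfModules.IsFiniteType (R := ModSite.ringSh O) S.X₃] :
    SheafOfModules.IsFiniteType (R := ModSite.ringSh O) S.X₂ := by
  obtain ⟨σ₁, hσ₁⟩ := SheafOfModules.IsFiniteType.exists_localGeneratorsData (R := ModSite.ringSh O) S.X₁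
  obtain ⟨σ₃, hσ₃⟩ := SheafOfModules.IsFiniteType.exists_localGeneratorsData (R := ModSite.ringSh O) S.X₃
  have cov₁ := σ₁.coversTop
  have cov₃ := σ₃.coversTop
  rw [Opens.coversTop_iff] at cov₁ cov₃
  have key : ∀ x : X, ∃ (W : Opens X) (_ : x ∈ W) (G : (S.X₂.over W).GeneratingSections),
      G.IsFiniteType := by
    intro x
    have hx₁ : x ∈ (⨆ i, σ₁.X i : Opens X) := by rw [cov₁]; trivial
    have hx₃ : x ∈ (⨆ i, σ₃.X i : Opens X) := by rw [cov₃]; trivial
    obtain ⟨i, hi⟩ := Opens.mem_iSup.1 hx₁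
    obtain ⟨j, hj⟩ := Opens.mem_iSup.1 hx₃
    haveI := (hσ₁.isFiniteType i).finite
    haveI := (hσ₃.isFiniteType j).finite
    exact exists_local_gen O S hS (σ₁.X i) (σ₃.X j) (σ₁.generators i) (σ₃.generators j) x hi hj
  choose W hW G hG using key
  have hcov : (Opens.grothendieckTopology X).CoversTop W := by
    rw [Opens.coversTop_iff, IsOpenCover, eq_top_iff]
    intro x _
    exact Opens.mem_iSup.2 ⟨x, hW x⟩
  let σ : SheafOfModules.LocalGeneratorsData.{u} (R := ModSite.ringSh O) S.X₂ :=
    { I := (X : Type u), X := W, coversTop := hcov, generators := G }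
  have hσ : σ.IsFiniteType := { isFiniteType := hG }
  exact { exists_localGeneratorsData := ⟨σ, hσ⟩ }

end Top

end Groth.Agent.Lib.T2H8.ModFTExt
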