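import Mathlib
import Groth.Prelude.Def_ModSite2
import Groth.Agent.Lib.T2H8ModFinPres

/-!
# Modules with a finite presentation by `j_{U!} O_U`, `U` quasi-compact: kernels
-/

set_option autoImplicit false
universe u
open CategoryTheory CategoryTheory.Limits Opposite

namespace Groth.Agent.Lib.T2H8.ModFinPres2

open Groth.Agent.Lib.T2H8.ModStalkFlat Groth.Agent.Lib.T2H8.ModCoprodSec
  Groth.Agent.Lib.Helper23FreeOn Groth.Agent.Lib.T2H8.ModFinPres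

section Abstract

variable {𝒜 : Type*} [Category 𝒜] [Abelian 𝒜]

/-- for an epimorphism `e`, the induced map `ker (e ≫ α) ⟶ ker α` is an epimorphism -/
theorem epi_kernel_lift_of_epi {Q F G : 𝒜} (e : Q ⟶ F) [Epi e] (α : F ⟶ G) :
    Epi (kernel.lift α (kernel.ι (e ≫ α) ≫ e) (by rw [Category.assoc, kernel.condition])) := by
  rw [epi_iff_surjective_up_to_refinements]
  intro A x
  obtain ⟨A', π, hπ, y, hy⟩ := surjective_up_to_refinements_of_epi e (x ≫ kernel.ι α)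
  have hy0 : y ≫ e ≫ α = 0 := by
    rw [← Category.assoc, ← hy, Category.assoc, Category.assoc, kernel.condition, comp_zero,
      comp_zero]
  refine ⟨A', π, hπ, kernel.lift (e ≫ α) y hy0, ?_⟩
  rw [← cancel_mono (kernel.ι α)]
  simp only [Category.assoc, kernel.lift_ι, kernel.lift_ι_assoc]
  exact hy

/-- the kernel of `X ⊞ Y ⟶ Z` maps onto the preimage under `a` of the image of `b` -/
theorem epi_kernel_lift_biprod {X Y Z M : 𝒜} (a : X ⟶ Z) (b : Y ⟶ Z) (g : Z ⟶ M)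
    (hbg : b ≫ g = 0)
    (hex : ∀ ⦃A : 𝒜⦄ (z : A ⟶ Z), z ≫ g = 0 →
      ∃ (A' : 𝒜) (π : A' ⟶ A) (_ : Epi π) (y : A' ⟶ Y), π ≫ z = y ≫ b)
    (h0 : (kernel.ι (biprod.desc a b) ≫ biprod.fst) ≫ a ≫ g = 0) :
    Epi (kernel.lift (a ≫ g) (kernel.ι (biprod.desc a b) ≫ biprod.fst) h0) := by
  rw [epi_iff_surjective_up_to_refinements]
  intro A x
  have hx : ((x ≫ kernel.ι (a ≫ g)) ≫ a) ≫ g = 0 := by
    rw [Category.assoc, Category.assoc, kernel.condition, comp_zero]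
  obtain ⟨A', π, hπ, y, hy⟩ := hex _ hx
  have hu : biprod.lift (π ≫ x ≫ kernel.ι (a ≫ g)) (-y) ≫ biprod.desc a b = 0 := by
    rw [biprod.lift_desc, Preadditive.neg_comp, ← hy]
    simp only [Category.assoc]
    exact add_neg_cancel _
  refine ⟨A', π, hπ, kernel.lift _ _ hu, ?_⟩
  rw [← cancel_mono (kernel.ι (a ≫ g))]
  simp only [Category.assoc, kernel.lift_ι, kernel.lift_ι_assoc, biprod.lift_fst]

/-- the zero condition needed in `epi_kernel_lift_biprod` -/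
theorem kernel_biprod_fst_comp {X Y Z M : 𝒜} (a : X ⟶ Z) (b : Y ⟶ Z) (g : Z ⟶ M)
    (hbg : b ≫ g = 0) : (kernel.ι (biprod.desc a b) ≫ biprod.fst) ≫ a ≫ g = 0 := by
  have h1 : kernel.ι (biprod.desc a b) ≫ (biprod.fst ≫ a + biprod.snd ≫ b) = 0 := by
    have : biprod.desc a b = biprod.fst ≫ a + biprod.snd ≫ b := by
      apply biprod.hom_ext' <;> simp
    rw [← this, kernel.condition]
  rw [Preadditive.comp_add] at h1
  have h2 : kernel.ι (biprod.desc a b) ≫ biprod.fst ≫ a =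
      - (kernel.ι (biprod.desc a b) ≫ biprod.snd ≫ b) := eq_neg_of_add_eq_zero_left h1
  calc (kernel.ι (biprod.desc a b) ≫ biprod.fst) ≫ a ≫ g
      = (kernel.ι (biprod.desc a b) ≫ biprod.fst ≫ a) ≫ g := by simp only [Category.assoc]
    _ = (-(kernel.ι (biprod.desc a b) ≫ biprod.snd ≫ b)) ≫ g := by rw [h2]
    _ = 0 := by
      rw [Preadditive.neg_comp]
      simp only [Category.assoc, hbg, comp_zero, neg_zero]

/-- an epimorphism with finitely generated kernel gives a presentation -/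
theorem nonempty_iso_cokernel_of_epi {T P M : 𝒜} (e : P ⟶ M) [Epi e] (q : T ⟶ kernel e) [Epi q] :
    Nonempty (M ≅ cokernel (q ≫ kernel.ι e)) := by
  have h1 : IsColimit (CokernelCofork.ofπ e (kernel.condition e)) :=
    Abelian.epiIsCokernelOfKernel _ (limit.isLimit (parallelPair e 0))
  let i1 : cokernel (kernel.ι e) ≅ M :=
    (colimit.isColimit _).coconePointUniqueUpToIso h1
  exact ⟨i1.symm ≪≫ (cokernelEpiComp q (kernel.ι e)).symm⟩

end Abstract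

variable {C : Type u} [SmallCategory C] {J : GrothendieckTopology C}

section Classes

variable (O : Sheaf J CommRingCat.{u}) (B : Set C)

/-- finite direct sums of modules `j_{U!} O_U` with `U ∈ B` (up to isomorphism) -/
def IsFF (P : ModSite.Mod O) : Prop :=
  ∃ (n : ℕ) (U : Fin n → C), (∀ i, U i ∈ B) ∧
    Nonempty (P ≅ ∐ fun i => ModSite.freeOn O (U i))

/-- quotients of such finite direct sums -/
def FG (M : ModSite.Mod O) : Prop :=
  ∃ P : ModSite.Mod O, IsFF O B P ∧ ∃ e : P ⟶ M, Epi e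

/-- the modules of type A of the statement -/
def TypeA (M : ModSite.Mod O) : Prop :=
  ∃ (m' n' : ℕ) (V' : Fin m' → C) (U' : Fin n' → C)
    (ψ : (∐ fun j => ModSite.freeOn O (V' j)) ⟶ ∐ fun i => ModSite.freeOn O (U' i)),
    (∀ j, V' j ∈ B) ∧ (∀ i, U' i ∈ B) ∧ Nonempty (M ≅ cokernel ψ)

variable {O B}

lemma IsFF.of_iso {P P' : ModSite.Mod O} (h : IsFF O B P) (e : P' ≅ P) : IsFF O B P' := by
  obtain ⟨n, U, hU, ⟨i⟩⟩ := h
  exact ⟨n, U, hU, ⟨e ≪≫ i⟩⟩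

lemma isFF_of_fintype {κ : Type} [Fintype κ] (Z : κ → C) (hZ : ∀ x, Z x ∈ B) :
    IsFF O B (∐ fun x => ModSite.freeOn O (Z x)) := by
  let ε : Fin (Fintype.card κ) ≃ κ := (Fintype.equivFin κ).symm
  exact ⟨Fintype.card κ, fun j => Z (ε j), fun j => hZ _,
    ⟨(Sigma.reindex ε (fun x => ModSite.freeOn O (Z x))).symm⟩⟩

/-- the sum of two finite direct sums, as a single direct sum -/
noncomputable def sumIso {a b : ℕ} (U : Fin a → C) (V : Fin b → C) :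
    (∐ fun x : Fin a ⊕ Fin b => ModSite.freeOn O (Sum.elim U V x)) ≅
      (∐ fun i => ModSite.freeOn O (U i)) ⊞ (∐ fun j => ModSite.freeOn O (V j)) where
  hom := Sigma.desc (fun x => Sum.rec
    (motive := fun x => ModSite.freeOn O (Sum.elim U V x) ⟶
      (∐ fun i => ModSite.freeOn O (U i)) ⊞ (∐ fun j => ModSite.freeOn O (V j)))
    (fun i => Sigma.ι (fun i => ModSite.freeOn O (U i)) i ≫ biprod.inl)
    (fun j => Sigma.ι (fun j => ModSite.freeOn O (V j)) j ≫ biprod.inr) x)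
  inv := biprod.desc
    (Sigma.desc (fun i => Sigma.ι (fun x : Fin a ⊕ Fin b => ModSite.freeOn O (Sum.elim U V x))
      (Sum.inl i)))
    (Sigma.desc (fun j => Sigma.ι (fun x : Fin a ⊕ Fin b => ModSite.freeOn O (Sum.elim U V x))
      (Sum.inr j)))
  hom_inv_id := by
    apply Sigma.hom_ext
    rintro (i | j)
    · rw [← Category.assoc, Sigma.ι_desc, Category.comp_id]
      change (Sigma.ι (fun i => ModSite.freeOn O (U i)) i ≫ biprod.inl) ≫ _ = _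
      rw [Category.assoc, biprod.inl_desc, Sigma.ι_desc]
    · rw [← Category.assoc, Sigma.ι_desc, Category.comp_id]
      change (Sigma.ι (fun j => ModSite.freeOn O (V j)) j ≫ biprod.inr) ≫ _ = _
      rw [Category.assoc, biprod.inr_desc, Sigma.ι_desc]
  inv_hom_id := by
    apply biprod.hom_ext'
    · rw [← Category.assoc, biprod.inl_desc, Category.comp_id]
      apply Sigma.hom_ext
      intro i
      rw [← Category.assoc, Sigma.ι_desc]
      exact Sigma.ι_desc _ (Sum.inl i)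
    · rw [← Category.assoc, biprod.inr_desc, Category.comp_id]
      apply Sigma.hom_ext
      intro j
      rw [← Category.assoc, Sigma.ι_desc]
      exact Sigma.ι_desc _ (Sum.inr j)

lemma IsFF.biprod {P P' : ModSite.Mod O} (h : IsFF O B P) (h' : IsFF O B P') :
    IsFF O B (P ⊞ P') := by
  obtain ⟨a, U, hU, ⟨i⟩⟩ := h
  obtain ⟨b, V, hV, ⟨i'⟩⟩ := h'
  have h1 : IsFF O B (∐ fun x : Fin a ⊕ Fin b => ModSite.freeOn O (Sum.elim U V x)) :=
    isFF_of_fintype _ (by rintro (i | j); exact hU i; exact hV j)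
  exact h1.of_iso (biprod.mapIso i i' ≪≫ (sumIso U V).symm)

lemma typeA_of_cokernel {P₁ P₀ M : ModSite.Mod O} (h₁ : IsFF O B P₁) (h₀ : IsFF O B P₀)
    (d : P₁ ⟶ P₀) (e : M ≅ cokernel d) : TypeA O B M := by
  obtain ⟨a, V, hV, ⟨i₁⟩⟩ := h₁
  obtain ⟨b, U, hU, ⟨i₀⟩⟩ := h₀
  refine ⟨a, b, V, U, i₁.inv ≫ d ≫ i₀.hom, hV, hU, ⟨e ≪≫ cokernel.mapIso d _ i₁ i₀ ?_⟩⟩
  rw [Iso.hom_inv_id_assoc]

lemma TypeA.fg {M : ModSite.Mod O} (h : TypeA O B M) : FG O B M := by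
  obtain ⟨m', n', V', U', ψ, _, hU', ⟨e⟩⟩ := h
  exact ⟨_, ⟨n', U', hU', ⟨Iso.refl _⟩⟩, cokernel.π ψ ≫ e.inv, inferInstance⟩

lemma FG.of_epi {M N : ModSite.Mod O} (h : FG O B M) (f : M ⟶ N) [Epi f] : FG O B N := by
  obtain ⟨P, hP, e, he⟩ := h
  exact ⟨P, hP, e ≫ f, epi_comp e f⟩

lemma typeA_of_fg_kernel {P M : ModSite.Mod O} (hP : IsFF O B P) (e : P ⟶ M) [Epi e]
    (h : FG O B (kernel e)) : TypeA O B M := by
  obtain ⟨T, hT, q, hq⟩ := h
  obtain ⟨i⟩ := nonempty_iso_cokernel_of_epi e q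
  exact typeA_of_cokernel hT hP _ i

end Classes

section Lift

variable (O : Sheaf J CommRingCat.{u}) (B : Set C)
  (hB₁ : ∀ X : C, ∃ (κ : Type u) (Y : κ → C) (g : ∀ k, Y k ⟶ X),
    Sieve.ofArrows Y g ∈ J X ∧ ∀ k, Y k ∈ B)
  (hB₂ : ∀ U ∈ B, CohCx.IsQcObject ((presheafToSheaf J (Type u)).obj (yoneda.obj U)))

include hB₁ hB₂ in
/-- a map from a finite direct sum of `j_{U!} O_U` to the target of an epimorphism lifts after
passing to a finer finite direct sum -/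
theorem exists_lift_aux {n : ℕ} (U : Fin n → C) (hU : ∀ i, U i ∈ B) {PG G : ModSite.Mod O}
    (eG : PG ⟶ G) [Epi eG] (β : (∐ fun i => ModSite.freeOn O (U i)) ⟶ G) :
    ∃ (Q : ModSite.Mod O) (_ : IsFF O B Q) (ρ : Q ⟶ ∐ fun i => ModSite.freeOn O (U i))
      (_ : Epi ρ) (lam : Q ⟶ PG), lam ≫ eG = ρ ≫ β := by
  classical
  let PF : ModSite.Mod O := ∐ fun i => ModSite.freeOn O (U i)
  let ιF : ∀ i, ModSite.freeOn O (U i) ⟶ PF :=
    fun i => Sigma.ι (fun i => ModSite.freeOn O (U i)) i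
  have hlift := fun i => exists_finite_lifts B hB₁ eG (U i)
    (isQCSite_of_isQcObject _ (hB₂ _ (hU i))) (toSec O G (U i) (ιF i ≫ β))
  choose K W w' p hW hcov hp using hlift
  let r : ∀ (i : Fin n) (k : Fin (K i)), ModSite.freeOn O (W i k) ⟶ PF :=
    fun i k => ofSec O PF (W i k) (rS PF (w' i k) (toSec O PF (U i) (ιF i)))
  have hr : ∀ (i : Fin n) (k : Fin (K i)) {T : ModSite.Mod O} (f : PF ⟶ T),
      r i k ≫ f = ofSec O T (W i k) (rS T (w' i k) (toSec O T (U i) (ιF i ≫ f))) :=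
    fun i k T f => ofSec_rS_comp O (w' i k) (ιF i) f
  have KL : ∀ (i : Fin n) (k : Fin (K i)), ofSec O PG (W i k) (p i k) ≫ eG = r i k ≫ β := by
    intro i k
    rw [ofSec_comp, hp i k, hr i k β]
  let κ : Type := Σ i : Fin n, Fin (K i)
  let Z : κ → C := fun ik => W ik.1 ik.2
  let Q : ModSite.Mod O := ∐ fun x : κ => ModSite.freeOn O (Z x)
  let ρ : Q ⟶ PF := Sigma.desc (fun ik : κ => r ik.1 ik.2)
  let lam : Q ⟶ PG := Sigma.desc (fun ik : κ => ofSec O PG (W ik.1 ik.2) (p ik.1 ik.2))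
  have hρ : ∀ (i : Fin n) (k : Fin (K i)),
      Sigma.ι (fun x : κ => ModSite.freeOn O (Z x)) ⟨i, k⟩ ≫ ρ = r i k :=
    fun i k => Sigma.ι_desc (fun ik : κ => r ik.1 ik.2) ⟨i, k⟩
  have hlam : ∀ (i : Fin n) (k : Fin (K i)),
      Sigma.ι (fun x : κ => ModSite.freeOn O (Z x)) ⟨i, k⟩ ≫ lam = ofSec O PG (W i k) (p i k) :=
    fun i k => Sigma.ι_desc (fun ik : κ => ofSec O PG (W ik.1 ik.2) (p ik.1 ik.2)) ⟨i, k⟩
  have hepi : Epi ρ := by
    apply Preadditive.epi_of_cancel_zero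
    intro T f hf
    apply Sigma.hom_ext
    intro i
    rw [comp_zero]
    change ιF i ≫ f = 0
    have hy : toSec O T (U i) (ιF i ≫ f) = 0 := by
      have hsep : Presheaf.IsSeparated J T.val.presheaf :=
        Presheaf.IsSheaf.isSeparated T.isSheaf
      refine hsep (U i) _ (hcov i) _ 0 ?_
      rintro Y g ⟨Y', a, _, ⟨k⟩, rfl⟩
      have e1 : ∀ x : ModSite.sect T (U i), T.val.presheaf.map (a ≫ w' i k).op x =
          rS T a (rS T (w' i k) x) := fun x => rS_comp T (w' i k) a x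
      rw [map_zero, e1]
      have h2 : rS T (w' i k) (toSec O T (U i) (ιF i ≫ f)) = 0 := by
        apply ofSec_injective O T (W i k)
        rw [ofSec_zero, ← hr i k f, ← hρ i k, Category.assoc, hf, comp_zero]
      rw [h2]
      exact rS_zero T a
    rw [← ofSec_toSec O T (U i) (ιF i ≫ f), hy, ofSec_zero]
  refine ⟨Q, isFF_of_fintype Z (fun ik => hW ik.1 ik.2), ρ, hepi, lam, ?_⟩
  apply Sigma.hom_ext
  rintro ⟨i, k⟩
  rw [← Category.assoc, hlam, ← Category.assoc, hρ, KL]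

include hB₁ hB₂ in
theorem exists_lift {PF PG G : ModSite.Mod O} (hPF : IsFF O B PF) (eG : PG ⟶ G) [Epi eG]
    (β : PF ⟶ G) :
    ∃ (Q : ModSite.Mod O) (_ : IsFF O B Q) (ρ : Q ⟶ PF) (_ : Epi ρ) (lam : Q ⟶ PG),
      lam ≫ eG = ρ ≫ β := by
  obtain ⟨n, U, hU, ⟨i⟩⟩ := hPF
  obtain ⟨Q, hQ, ρ, hρ, lam, h⟩ := exists_lift_aux O B hB₁ hB₂ U hU eG (i.inv ≫ β)
  haveI := hρ
  exact ⟨Q, hQ, ρ ≫ i.inv, epi_comp ρ i.inv, lam, by rw [h, Category.assoc]⟩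

end Lift

section Kernel

variable (O : Sheaf J CommRingCat.{u}) (B : Set C)
  (hB₁ : ∀ X : C, ∃ (κ : Type u) (Y : κ → C) (g : ∀ k, Y k ⟶ X),
    Sieve.ofArrows Y g ∈ J X ∧ ∀ k, Y k ∈ B)
  (hB₂ : ∀ U ∈ B, CohCx.IsQcObject ((presheafToSheaf J (Type u)).obj (yoneda.obj U)))
  (hker' : ∀ (P₁ P₀ : ModSite.Mod O), IsFF O B P₁ → IsFF O B P₀ → ∀ φ : P₁ ⟶ P₀,
    TypeA O B (kernel φ))

include hker' in
/-- the preimage of a finitely generated image is finitely generated -/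
theorem fg_kernel_comp {X Y Z M : ModSite.Mod O} (hX : IsFF O B X) (hY : IsFF O B Y)
    (hZ : IsFF O B Z) (a : X ⟶ Z) (b : Y ⟶ Z) (g : Z ⟶ M) (hbg : b ≫ g = 0)
    (hex : ∀ ⦃A : ModSite.Mod O⦄ (z : A ⟶ Z), z ≫ g = 0 →
      ∃ (A' : ModSite.Mod O) (π : A' ⟶ A) (_ : Epi π) (y : A' ⟶ Y), π ≫ z = y ≫ b) :
    FG O B (kernel (a ≫ g)) := by
  have h1 : FG O B (kernel (biprod.desc a b)) := (hker' _ _ (hX.biprod hY) hZ _).fg
  haveI := epi_kernel_lift_biprod a b g hbg hex (kernel_biprod_fst_comp a b g hbg)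
  exact h1.of_epi (kernel.lift (a ≫ g) (kernel.ι (biprod.desc a b) ≫ biprod.fst)
    (kernel_biprod_fst_comp a b g hbg))

/-- exactness of a presentation, in terms of refinements -/
theorem exact_of_cokernel_iso {R P M : ModSite.Mod O} (ψ : R ⟶ P) (e : M ≅ cokernel ψ)
    ⦃A : ModSite.Mod O⦄ (z : A ⟶ P) (hz : z ≫ cokernel.π ψ ≫ e.inv = 0) :
    ∃ (A' : ModSite.Mod O) (π : A' ⟶ A) (_ : Epi π) (y : A' ⟶ R), π ≫ z = y ≫ ψ := by
  have hc : IsColimit (CokernelCofork.ofπ (cokernel.π ψ ≫ e.inv)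
      (by rw [← Category.assoc, cokernel.condition, zero_comp])) :=
    cokernel.cokernelIso ψ _ e.symm rfl
  exact (Limits.CokernelCofork.IsColimit.comp_π_eq_zero_iff_up_to_refinements hc z).1 hz

include hB₁ hB₂ hker' in
theorem kernel_typeA {F G : ModSite.Mod O} (α : F ⟶ G) (hF : TypeA O B F) (hG : TypeA O B G) :
    TypeA O B (kernel α) := by
  obtain ⟨m₁, n₁, V₁, U₁, ψ₁, hV₁, hU₁, ⟨iF⟩⟩ := hF
  obtain ⟨m₂, n₂, V₂, U₂, ψ₂, hV₂, hU₂, ⟨iG⟩⟩ := hG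
  have hRF : IsFF O B (∐ fun j => ModSite.freeOn O (V₁ j)) := ⟨m₁, V₁, hV₁, ⟨Iso.refl _⟩⟩
  have hPF : IsFF O B (∐ fun i => ModSite.freeOn O (U₁ i)) := ⟨n₁, U₁, hU₁, ⟨Iso.refl _⟩⟩
  have hRG : IsFF O B (∐ fun j => ModSite.freeOn O (V₂ j)) := ⟨m₂, V₂, hV₂, ⟨Iso.refl _⟩⟩
  have hPG : IsFF O B (∐ fun i => ModSite.freeOn O (U₂ i)) := ⟨n₂, U₂, hU₂, ⟨Iso.refl _⟩⟩
  let eF : (∐ fun i => ModSite.freeOn O (U₁ i)) ⟶ F := cokernel.π ψ₁ ≫ iF.inv
  let eG : (∐ fun i => ModSite.freeOn O (U₂ i)) ⟶ G := cokernel.π ψ₂ ≫ iG.inv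
  haveI : Epi eF := by
    simp only [eF]
    infer_instance
  haveI : Epi eG := by
    simp only [eG]
    infer_instance
  have wF : ψ₁ ≫ eF = 0 := by
    simp only [eF]
    rw [← Category.assoc, cokernel.condition, zero_comp]
  have wG : ψ₂ ≫ eG = 0 := by
    simp only [eG]
    rw [← Category.assoc, cokernel.condition, zero_comp]
  obtain ⟨Q, hQ, ρ, hρ, lam, hlam⟩ := exists_lift O B hB₁ hB₂ hPF eG (eF ≫ α)
  haveI := hρ
  let e : Q ⟶ F := ρ ≫ eF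
  haveI : Epi e := epi_comp ρ eF
  -- Claim 1
  have c1 : FG O B (kernel e) :=
    fg_kernel_comp O B hker' hQ hRF hPF ρ ψ₁ eF wF (exact_of_cokernel_iso O ψ₁ iF)
  obtain ⟨T', hT', q', hq'⟩ := c1
  haveI := hq'
  let b' : T' ⟶ Q := q' ≫ kernel.ι e
  have wb' : b' ≫ e = 0 := by
    simp only [b']
    rw [Category.assoc, kernel.condition, comp_zero]
  have hexb' : ∀ ⦃A : ModSite.Mod O⦄ (z : A ⟶ Q), z ≫ e = 0 →
      ∃ (A' : ModSite.Mod O) (π : A' ⟶ A) (_ : Epi π) (y : A' ⟶ T'), π ≫ z = y ≫ b' := by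
    intro A z hz
    obtain ⟨A', π, hπ, y, hy⟩ := surjective_up_to_refinements_of_epi q' (kernel.lift e z hz)
    refine ⟨A', π, hπ, y, ?_⟩
    simp only [b']
    rw [← Category.assoc, ← hy, Category.assoc, kernel.lift_ι]
  -- Claim 2
  have heq : e ≫ α = lam ≫ eG := by
    simp only [e]
    rw [hlam, Category.assoc]
  have c2' : FG O B (kernel (lam ≫ eG)) :=
    fg_kernel_comp O B hker' hQ hRG hPG lam ψ₂ eG wG (exact_of_cokernel_iso O ψ₂ iG)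
  have c2 : FG O B (kernel (e ≫ α)) := c2'.of_epi (kernelIsoOfEq heq.symm).hom
  obtain ⟨T, hT, q, hq⟩ := c2
  haveI := hq
  have hk0 : (kernel.ι (e ≫ α) ≫ e) ≫ α = 0 :=
    (Category.assoc _ _ _).trans (kernel.condition (e ≫ α))
  haveI := epi_kernel_lift_of_epi e α
  let t : T ⟶ kernel α := q ≫ kernel.lift α (kernel.ι (e ≫ α) ≫ e) hk0
  haveI : Epi t := epi_comp _ _
  let τ : T ⟶ Q := q ≫ kernel.ι (e ≫ α)
  have hτ : t ≫ kernel.ι α = τ ≫ e := by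
    simp only [t, τ, Category.assoc, kernel.lift_ι]
  -- Claim 3
  have c3' : FG O B (kernel (τ ≫ e)) :=
    fg_kernel_comp O B hker' hT hT' hQ τ b' e wb' hexb'
  have c3 : FG O B (kernel t) :=
    c3'.of_epi ((kernelIsoOfEq hτ.symm).hom ≫ (kernelCompMono t (kernel.ι α)).hom)
  exact typeA_of_fg_kernel hT t c3

end Kernel

section MainK

theorem main_S9117 (O : Sheaf J CommRingCat.{u}) (B : Set C)
    (hB₁ : ∀ X : C, ∃ (κ : Type u) (Y : κ → C) (g : ∀ k, Y k ⟶ X),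
      Sieve.ofArrows Y g ∈ J X ∧ ∀ k, Y k ∈ B)
    (hB₂ : ∀ U ∈ B, CohCx.IsQcObject ((presheafToSheaf J (Type u)).obj (yoneda.obj U)))
    (hker : ∀ (m n : ℕ) (V : Fin m → C) (U : Fin n → C)
      (φ : (∐ fun j => ModSite.freeOn O (V j)) ⟶ ∐ fun i => ModSite.freeOn O (U i)),
      (∀ j, V j ∈ B) → (∀ i, U i ∈ B) → (∃ (m' n' : ℕ) (V' : Fin m' → C) (U' : Fin n' → C)
        (ψ : (∐ fun j => ModSite.freeOn O (V' j)) ⟶ ∐ fun i => ModSite.freeOn O (U' i)),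
        (∀ j, V' j ∈ B) ∧ (∀ i, U' i ∈ B) ∧ Nonempty (kernel φ ≅ cokernel ψ)))
    (F G : ModSite.Mod O) (α : F ⟶ G)
    (hF : (∃ (m' n' : ℕ) (V' : Fin m' → C) (U' : Fin n' → C)
        (ψ : (∐ fun j => ModSite.freeOn O (V' j)) ⟶ ∐ fun i => ModSite.freeOn O (U' i)),
        (∀ j, V' j ∈ B) ∧ (∀ i, U' i ∈ B) ∧ Nonempty (F ≅ cokernel ψ)))
    (hG : (∃ (m' n' : ℕ) (V' : Fin m' → C) (U' : Fin n' → C)
        (ψ : (∐ fun j => ModSite.freeOn O (V' j)) ⟶ ∐ fun i => ModSite.freeOn O (U' i)),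
        (∀ j, V' j ∈ B) ∧ (∀ i, U' i ∈ B) ∧ Nonempty (G ≅ cokernel ψ))) :
    (∃ (m' n' : ℕ) (V' : Fin m' → C) (U' : Fin n' → C)
        (ψ : (∐ fun j => ModSite.freeOn O (V' j)) ⟶ ∐ fun i => ModSite.freeOn O (U' i)),
        (∀ j, V' j ∈ B) ∧ (∀ i, U' i ∈ B) ∧ Nonempty (kernel α ≅ cokernel ψ)) := by
  have hker' : ∀ (P₁ P₀ : ModSite.Mod O), IsFF O B P₁ → IsFF O B P₀ → ∀ φ : P₁ ⟶ P₀,
      TypeA O B (kernel φ) := by
    intro P₁ P₀ h₁ h₀ φ
    obtain ⟨m, V, hV, ⟨i₁⟩⟩ := h₁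
    obtain ⟨n, U, hU, ⟨i₀⟩⟩ := h₀
    obtain ⟨m', n', V', U', ψ, hV', hU', ⟨e⟩⟩ := hker m n V U (i₁.inv ≫ φ ≫ i₀.hom) hV hU
    refine ⟨m', n', V', U', ψ, hV', hU', ⟨kernel.mapIso φ _ i₁ i₀ ?_ ≪≫ e⟩⟩
    rw [Iso.hom_inv_id_assoc]
  exact kernel_typeA O B hB₁ hB₂ hker' α hF hG

end MainK

end Groth.Agent.Lib.T2H8.ModFinPres2
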