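import Mathlib
import Groth.Prelude.Def_ModSite2
import Groth.Agent.Lib.T2H8ModFinPres2

/-!
# Modules with a finite presentation by `j_{U!} O_U`, `U` quasi-compact: extensions
-/

set_option autoImplicit false
universe u
open CategoryTheory CategoryTheory.Limits Opposite

namespace Groth.Agent.Lib.T2H8.ModFinPres3

open Groth.Agent.Lib.T2H8.ModStalkFlat Groth.Agent.Lib.T2H8.ModCoprodSec
  Groth.Agent.Lib.Helper23FreeOn Groth.Agent.Lib.T2H8.ModFinPres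
  Groth.Agent.Lib.T2H8.ModFinPres2

variable {C : Type u} [SmallCategory C] {J : GrothendieckTopology C}
  {O : Sheaf J CommRingCat.{u}}

section Glue

variable [HasPullbacks C]

/-- gluing sections of a sheaf of modules along a covering family -/
theorem exists_glue (M : ModSite.Mod O) {U : C} {ι : Type*} (W : ι → C) (w : ∀ k, W k ⟶ U)
    (hcov : Sieve.ofArrows W w ∈ J U) (m : ∀ k, ModSite.sect M (W k))
    (hm : ∀ k l, rS M (pullback.fst (w k) (w l)) (m k) = rS M (pullback.snd (w k) (w l)) (m l)) :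
    ∃ s : ModSite.sect M U, ∀ k, rS M (w k) s = m k := by
  have h1 : Presheaf.IsSheaf J (M.val.presheaf ⋙ forget AddCommGrpCat.{u}) :=
    (Presheaf.isSheaf_iff_isSheaf_forget J M.val.presheaf (forget AddCommGrpCat.{u})).1 M.isSheaf
  have h2 : Presieve.IsSheaf J (M.val.presheaf ⋙ forget AddCommGrpCat.{u}) :=
    (isSheaf_iff_isSheaf_of_type J _).1 h1
  have h3 : Presieve.IsSheafFor (M.val.presheaf ⋙ forget AddCommGrpCat.{u})
      (Presieve.ofArrows W w) :=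
    (Presieve.isSheafFor_iff_generate _).2 (h2 _ hcov)
  obtain ⟨s, hs, _⟩ := (Presieve.isSheafFor_arrows_iff_pullbacks _ _).1 h3 m hm
  exact ⟨s, hs⟩

end Glue

section RefMap

variable (O) {n : ℕ} (U : Fin n → C) (K : Fin n → ℕ) (W : ∀ i, Fin (K i) → C)
  (w' : ∀ i k, W i k ⟶ U i)

/-- the direct sum of the `j_{U_i !} O` -/
noncomputable abbrev PFo : ModSite.Mod O := ∐ fun i => ModSite.freeOn O (U i)

/-- the direct sum of the `j_{W_ik !} O` -/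
noncomputable abbrev Qo : ModSite.Mod O :=
  ∐ fun x : (Σ i : Fin n, Fin (K i)) => ModSite.freeOn O (W x.1 x.2)

/-- the components of the refinement map -/
noncomputable def refComp (i : Fin n) (k : Fin (K i)) : ModSite.freeOn O (W i k) ⟶ PFo O U :=
  ofSec O (PFo O U) (W i k) (rS (PFo O U) (w' i k)
    (toSec O (PFo O U) (U i) (Sigma.ι (fun i => ModSite.freeOn O (U i)) i)))

/-- the refinement map -/
noncomputable def refMap : Qo O K W ⟶ PFo O U :=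
  Sigma.desc (fun x : (Σ i : Fin n, Fin (K i)) => refComp O U K W w' x.1 x.2)

lemma ι_refMap (i : Fin n) (k : Fin (K i)) :
    Sigma.ι (fun x : (Σ i : Fin n, Fin (K i)) => ModSite.freeOn O (W x.1 x.2)) ⟨i, k⟩ ≫
      refMap O U K W w' = refComp O U K W w' i k :=
  Sigma.ι_desc (fun x : (Σ i : Fin n, Fin (K i)) => refComp O U K W w' x.1 x.2) ⟨i, k⟩

lemma refComp_comp {T : ModSite.Mod O} (f : PFo O U ⟶ T) (i : Fin n) (k : Fin (K i)) :
    refComp O U K W w' i k ≫ f = ofSec O T (W i k) (rS T (w' i k)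
      (toSec O T (U i) (Sigma.ι (fun i => ModSite.freeOn O (U i)) i ≫ f))) :=
  ofSec_rS_comp O (w' i k) (Sigma.ι (fun i => ModSite.freeOn O (U i)) i) f

variable {O U K W w'}

/-- a section vanishing on a covering family vanishes -/
lemma eq_zero_of_cover (T : ModSite.Mod O) {V : C} {ι : Type*} (Y : ι → C) (g : ∀ k, Y k ⟶ V)
    (hcov : Sieve.ofArrows Y g ∈ J V) (s : ModSite.sect T V)
    (hs : ∀ k, rS T (g k) s = 0) : s = 0 := by
  have hsep : Presheaf.IsSeparated J T.val.presheaf := Presheaf.IsSheaf.isSeparated T.isSheaf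
  refine hsep V _ hcov s 0 ?_
  rintro Y' f ⟨Y'', a, _, ⟨k⟩, rfl⟩
  have e1 : ∀ x : ModSite.sect T V, T.val.presheaf.map (a ≫ g k).op x =
      rS T a (rS T (g k) x) := fun x => rS_comp T (g k) a x
  rw [map_zero, e1, hs k]
  exact rS_zero T a

theorem epi_refMap (hcov : ∀ i, Sieve.ofArrows (W i) (w' i) ∈ J (U i)) :
    Epi (refMap O U K W w') := by
  apply Preadditive.epi_of_cancel_zero
  intro T f hf
  apply Sigma.hom_ext
  intro i
  rw [comp_zero]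
  have hy : toSec O T (U i) (Sigma.ι (fun i => ModSite.freeOn O (U i)) i ≫ f) = 0 := by
    refine eq_zero_of_cover T (W i) (w' i) (hcov i) _ (fun k => ?_)
    apply ofSec_injective O T (W i k)
    rw [ofSec_zero, ← refComp_comp, ← ι_refMap, Category.assoc, hf, comp_zero]
  rw [← ofSec_toSec O T (U i) (Sigma.ι (fun i => ModSite.freeOn O (U i)) i ≫ f), hy, ofSec_zero]

end RefMap

section Cech

variable [HasPullbacks C]

variable (O) {n : ℕ} (U : Fin n → C) (K : Fin n → ℕ) (W : ∀ i, Fin (K i) → C)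
  (w' : ∀ i k, W i k ⟶ U i)

/-- the direct sum of the `j_! O` of the pairwise fibre products -/
noncomputable abbrev Do : ModSite.Mod O :=
  ∐ fun y : (Σ i : Fin n, Fin (K i) × Fin (K i)) =>
    ModSite.freeOn O (pullback (w' y.1 y.2.1) (w' y.1 y.2.2))

/-- the canonical inclusions into `Qo` -/
noncomputable abbrev ιQ (i : Fin n) (k : Fin (K i)) : ModSite.freeOn O (W i k) ⟶ Qo O K W :=
  Sigma.ι (fun x : (Σ i : Fin n, Fin (K i)) => ModSite.freeOn O (W x.1 x.2)) ⟨i, k⟩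

/-- the components of the Čech differential -/
noncomputable def dComp (i : Fin n) (k l : Fin (K i)) :
    ModSite.freeOn O (pullback (w' i k) (w' i l)) ⟶ Qo O K W :=
  ofSec O (Qo O K W) (pullback (w' i k) (w' i l))
    (rS (Qo O K W) (pullback.fst (w' i k) (w' i l)) (toSec O (Qo O K W) (W i k) (ιQ O K W i k)) -
      rS (Qo O K W) (pullback.snd (w' i k) (w' i l)) (toSec O (Qo O K W) (W i l) (ιQ O K W i l)))

/-- the Čech differential -/
noncomputable def dMap : Do O U K W w' ⟶ Qo O K W :=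
  Sigma.desc (fun y : (Σ i : Fin n, Fin (K i) × Fin (K i)) => dComp O U K W w' y.1 y.2.1 y.2.2)

lemma ι_dMap (i : Fin n) (k l : Fin (K i)) :
    Sigma.ι (fun y : (Σ i : Fin n, Fin (K i) × Fin (K i)) =>
      ModSite.freeOn O (pullback (w' y.1 y.2.1) (w' y.1 y.2.2))) ⟨i, (k, l)⟩ ≫
      dMap O U K W w' = dComp O U K W w' i k l :=
  Sigma.ι_desc (fun y : (Σ i : Fin n, Fin (K i) × Fin (K i)) =>
    dComp O U K W w' y.1 y.2.1 y.2.2) ⟨i, (k, l)⟩

lemma dComp_comp {T : ModSite.Mod O} (f : Qo O K W ⟶ T) (i : Fin n) (k l : Fin (K i)) :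
    dComp O U K W w' i k l ≫ f = ofSec O T (pullback (w' i k) (w' i l))
      (rS T (pullback.fst (w' i k) (w' i l)) (toSec O T (W i k) (ιQ O K W i k ≫ f)) -
        rS T (pullback.snd (w' i k) (w' i l)) (toSec O T (W i l) (ιQ O K W i l ≫ f))) := by
  unfold dComp
  rw [ofSec_comp]
  congr 1
  have h1 : f.val.app (op (pullback (w' i k) (w' i l)))
      (rS (Qo O K W) (pullback.fst (w' i k) (w' i l))
        (toSec O (Qo O K W) (W i k) (ιQ O K W i k)) -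
      rS (Qo O K W) (pullback.snd (w' i k) (w' i l))
        (toSec O (Qo O K W) (W i l) (ιQ O K W i l))) =
      f.val.app _ (rS (Qo O K W) (pullback.fst (w' i k) (w' i l))
        (toSec O (Qo O K W) (W i k) (ιQ O K W i k))) -
      f.val.app _ (rS (Qo O K W) (pullback.snd (w' i k) (w' i l))
        (toSec O (Qo O K W) (W i l) (ιQ O K W i l))) :=
    map_sub (f.val.app (op (pullback (w' i k) (w' i l)))).hom _ _
  rw [h1, app_rS_gen, app_rS_gen, toSec_comp, toSec_comp]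

variable {O U K W w'}

lemma dMap_refMap : dMap O U K W w' ≫ refMap O U K W w' = 0 := by
  apply Sigma.hom_ext
  rintro ⟨i, k, l⟩
  rw [comp_zero, ← Category.assoc, ι_dMap, dComp_comp]
  have h1 : ∀ k, toSec O (PFo O U) (W i k) (ιQ O K W i k ≫ refMap O U K W w') =
      rS (PFo O U) (w' i k)
        (toSec O (PFo O U) (U i) (Sigma.ι (fun i => ModSite.freeOn O (U i)) i)) := by
    intro k
    rw [ι_refMap]
    exact toSec_ofSec O _ _ _
  rw [h1 k, h1 l, ← rS_comp, ← rS_comp, pullback.condition, sub_self, ofSec_zero]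

theorem refMap_desc (hcov : ∀ i, Sieve.ofArrows (W i) (w' i) ∈ J (U i)) {T : ModSite.Mod O}
    (f : Qo O K W ⟶ T) (hf : dMap O U K W w' ≫ f = 0) :
    ∃ fbar : PFo O U ⟶ T, refMap O U K W w' ≫ fbar = f := by
  have hm : ∀ (i : Fin n) (k l : Fin (K i)),
      rS T (pullback.fst (w' i k) (w' i l)) (toSec O T (W i k) (ιQ O K W i k ≫ f)) =
        rS T (pullback.snd (w' i k) (w' i l)) (toSec O T (W i l) (ιQ O K W i l ≫ f)) := by
    intro i k l
    have h1 : dComp O U K W w' i k l ≫ f = 0 := by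
      rw [← ι_dMap, Category.assoc, hf, comp_zero]
    rw [dComp_comp, ← ofSec_zero O T (pullback (w' i k) (w' i l))] at h1
    exact sub_eq_zero.1 (ofSec_injective O T _ h1)
  choose s hs using fun i => exists_glue T (W i) (w' i) (hcov i)
    (fun k => toSec O T (W i k) (ιQ O K W i k ≫ f)) (hm i)
  refine ⟨Sigma.desc (fun i => ofSec O T (U i) (s i)), ?_⟩
  apply Sigma.hom_ext
  rintro ⟨i, k⟩
  rw [← Category.assoc, ι_refMap, refComp_comp, Sigma.ι_desc, toSec_ofSec, hs i k, ofSec_toSec]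

theorem refMap_exact (hcov : ∀ i, Sieve.ofArrows (W i) (w' i) ∈ J (U i))
    ⦃A : ModSite.Mod O⦄ (z : A ⟶ Qo O K W) (hz : z ≫ refMap O U K W w' = 0) :
    ∃ (A' : ModSite.Mod O) (π : A' ⟶ A) (_ : Epi π) (y : A' ⟶ Do O U K W w'),
      π ≫ z = y ≫ dMap O U K W w' := by
  haveI : Epi (refMap O U K W w') := epi_refMap hcov
  have hc : IsColimit (CokernelCofork.ofπ (refMap O U K W w') dMap_refMap) :=
    CokernelCofork.IsColimit.ofπ _ _
      (fun f hf => (refMap_desc hcov f hf).choose)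
      (fun f hf => (refMap_desc hcov f hf).choose_spec)
      (fun f hf m hm => by
        rw [← cancel_epi (refMap O U K W w'), hm, (refMap_desc hcov f hf).choose_spec])
  exact (Limits.CokernelCofork.IsColimit.comp_π_eq_zero_iff_up_to_refinements hc z).1 hz

end Cech

section Abstract2

variable {𝒜 : Type*} [Category 𝒜] [Abelian 𝒜]

/-- `γ` generates the kernel of `e`, up to refinements -/
def Gen {T P M : 𝒜} (γ : T ⟶ P) (e : P ⟶ M) : Prop :=
  γ ≫ e = 0 ∧ ∀ ⦃A : 𝒜⦄ (z : A ⟶ P), z ≫ e = 0 →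
    ∃ (A' : 𝒜) (π : A' ⟶ A) (_ : Epi π) (y : A' ⟶ T), π ≫ z = y ≫ γ

lemma Gen.precomp {T' T P M : 𝒜} {γ : T ⟶ P} {e : P ⟶ M} (h : Gen γ e) (q : T' ⟶ T) [Epi q] :
    Gen (q ≫ γ) e := by
  refine ⟨by rw [Category.assoc, h.1, comp_zero], fun A z hz => ?_⟩
  obtain ⟨A', π, hπ, y, hy⟩ := h.2 z hz
  obtain ⟨A'', π', hπ', y', hy'⟩ := surjective_up_to_refinements_of_epi q y
  haveI := hπ
  haveI := hπ'
  refine ⟨A'', π' ≫ π, epi_comp _ _, y', ?_⟩
  rw [Category.assoc, hy, ← Category.assoc, hy', Category.assoc]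

lemma Gen.comp_mono {T P M M' : 𝒜} {γ : T ⟶ P} {e : P ⟶ M} (h : Gen γ e) (m : M ⟶ M') [Mono m] :
    Gen γ (e ≫ m) := by
  refine ⟨by rw [← Category.assoc, h.1, zero_comp], fun A z hz => h.2 z ?_⟩
  rw [← cancel_mono m, Category.assoc, hz, zero_comp]

lemma Gen.epi_lift {T P M : 𝒜} {γ : T ⟶ P} {e : P ⟶ M} (h : Gen γ e) :
    Epi (kernel.lift e γ h.1) := by
  rw [epi_iff_surjective_up_to_refinements]
  intro A x
  obtain ⟨A', π, hπ, y, hy⟩ := h.2 (x ≫ kernel.ι e)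
    (by rw [Category.assoc, kernel.condition, comp_zero])
  refine ⟨A', π, hπ, y, ?_⟩
  rw [← cancel_mono (kernel.ι e)]
  simp only [Category.assoc, kernel.lift_ι]
  exact hy

end Abstract2

section FGqc

variable (O) (B : Set C)
  (hB₁ : ∀ X : C, ∃ (κ : Type u) (Y : κ → C) (g : ∀ k, Y k ⟶ X),
    Sieve.ofArrows Y g ∈ J X ∧ ∀ k, Y k ∈ B)
  (hB₂ : ∀ U ∈ B, CohCx.IsQcObject ((presheafToSheaf J (Type u)).obj (yoneda.obj U)))

lemma fg_kernel_of_gen {T P M : ModSite.Mod O} (hT : IsFF O B T) {γ : T ⟶ P} {e : P ⟶ M}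
    (h : Gen γ e) : FG O B (kernel e) :=
  ⟨T, hT, kernel.lift e γ h.1, h.epi_lift⟩

include hB₁ in
/-- a finite direct sum of `j_{Z!} O_Z` with `Z` quasi-compact is a quotient of a finite direct
sum of `j_{U!} O_U` with `U ∈ B` -/
theorem fg_of_qc {n : ℕ} (Z : Fin n → C) (hZ : ∀ i, ToposFin.IsQCSite J (Z i)) :
    FG O B (PFo O Z) := by
  have h := fun i => exists_finite_lifts B hB₁ (𝟙 (ModSite.freeOn O (Z i))) (Z i) (hZ i) 0
  choose K W w' p hW hcov hp using h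
  exact ⟨Qo O K W, isFF_of_fintype (fun x : (Σ i : Fin n, Fin (K i)) => W x.1 x.2)
    (fun x => hW x.1 x.2), refMap O Z K W w', epi_refMap hcov⟩

include hB₁ in
theorem fg_of_qc_fintype {κ : Type} [Fintype κ] (Z : κ → C)
    (hZ : ∀ x, ToposFin.IsQCSite J (Z x)) :
    FG O B (∐ fun x => ModSite.freeOn O (Z x)) := by
  let ε : Fin (Fintype.card κ) ≃ κ := (Fintype.equivFin κ).symm
  have h1 : FG O B (PFo O (fun j => Z (ε j))) := fg_of_qc O B hB₁ _ (fun j => hZ _)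
  exact h1.of_epi (Sigma.reindex ε (fun x => ModSite.freeOn O (Z x))).hom

include hB₁ hB₂ in
/-- structure-exposing version of `exists_lift_aux` -/
theorem exists_cover_lift {n : ℕ} (U : Fin n → C) (hU : ∀ i, U i ∈ B) {PG G : ModSite.Mod O}
    (eG : PG ⟶ G) [Epi eG] (β : PFo O U ⟶ G) :
    ∃ (K : Fin n → ℕ) (W : ∀ i, Fin (K i) → C) (w' : ∀ i k, W i k ⟶ U i),
      (∀ i k, W i k ∈ B) ∧ (∀ i, Sieve.ofArrows (W i) (w' i) ∈ J (U i)) ∧
      ∃ lam : Qo O K W ⟶ PG, lam ≫ eG = refMap O U K W w' ≫ β := by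
  have hlift := fun i => exists_finite_lifts B hB₁ eG (U i)
    (isQCSite_of_isQcObject _ (hB₂ _ (hU i)))
    (toSec O G (U i) (Sigma.ι (fun i => ModSite.freeOn O (U i)) i ≫ β))
  choose K W w' p hW hcov hp using hlift
  let lam : Qo O K W ⟶ PG := Sigma.desc
    (fun x : (Σ i : Fin n, Fin (K i)) => ofSec O PG (W x.1 x.2) (p x.1 x.2))
  have hlam : ∀ (i : Fin n) (k : Fin (K i)),
      ιQ O K W i k ≫ lam = ofSec O PG (W i k) (p i k) :=
    fun i k => Sigma.ι_desc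
      (fun x : (Σ i : Fin n, Fin (K i)) => ofSec O PG (W x.1 x.2) (p x.1 x.2)) ⟨i, k⟩
  refine ⟨K, W, w', hW, hcov, lam, ?_⟩
  apply Sigma.hom_ext
  rintro ⟨i, k⟩
  have h2 := ι_refMap O U K W w' i k
  rw [← Category.assoc, hlam, ← Category.assoc, h2, refComp_comp, ofSec_comp, hp i k]

end FGqc

section Ext

variable [HasPullbacks C]

variable (O) (B : Set C)
  (hB₁ : ∀ X : C, ∃ (κ : Type u) (Y : κ → C) (g : ∀ k, Y k ⟶ X),
    Sieve.ofArrows Y g ∈ J X ∧ ∀ k, Y k ∈ B)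
  (hB₂ : ∀ U ∈ B, CohCx.IsQcObject ((presheafToSheaf J (Type u)).obj (yoneda.obj U)))
  (hB₃ : ∀ (U U₁ U₂ : C) (f₁ : U₁ ⟶ U) (f₂ : U₂ ⟶ U), U ∈ B → U₁ ∈ B → U₂ ∈ B →
    CohCx.IsQcObject ((presheafToSheaf J (Type u)).obj (yoneda.obj (pullback f₁ f₂))))

include hB₁ hB₃ in
/-- the kernel of a refinement map is finitely generated -/
theorem exists_gen_refMap {n : ℕ} (U : Fin n → C) (hU : ∀ i, U i ∈ B) (K : Fin n → ℕ)
    (W : ∀ i, Fin (K i) → C) (w' : ∀ i k, W i k ⟶ U i) (hW : ∀ i k, W i k ∈ B)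
    (hcov : ∀ i, Sieve.ofArrows (W i) (w' i) ∈ J (U i)) :
    ∃ (T : ModSite.Mod O) (_ : IsFF O B T) (γ : T ⟶ Qo O K W), Gen γ (refMap O U K W w') := by
  have h1 : FG O B (Do O U K W w') :=
    fg_of_qc_fintype O B hB₁
      (fun y : (Σ i : Fin n, Fin (K i) × Fin (K i)) => pullback (w' y.1 y.2.1) (w' y.1 y.2.2))
      (fun y => isQCSite_of_isQcObject _
        (hB₃ (U y.1) (W y.1 y.2.1) (W y.1 y.2.2) (w' y.1 y.2.1) (w' y.1 y.2.2) (hU _)
          (hW _ _) (hW _ _)))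
  obtain ⟨T, hT, q, hq⟩ := h1
  haveI := hq
  have h2 : Gen (dMap O U K W w') (refMap O U K W w') :=
    ⟨dMap_refMap, fun A z hz => refMap_exact hcov z hz⟩
  exact ⟨T, hT, q ≫ dMap O U K W w', h2.precomp q⟩

include hB₁ hB₂ hB₃ in
/-- liftings through epimorphisms after refinement, with finitely generated kernel of the
refinement -/
theorem exists_lift_gen {PF PG G : ModSite.Mod O} (hPF : IsFF O B PF) (eG : PG ⟶ G) [Epi eG]
    (β : PF ⟶ G) :
    ∃ (Q : ModSite.Mod O) (_ : IsFF O B Q) (ρ : Q ⟶ PF) (_ : Epi ρ) (lam : Q ⟶ PG)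
      (T : ModSite.Mod O) (_ : IsFF O B T) (γ : T ⟶ Q), lam ≫ eG = ρ ≫ β ∧ Gen γ ρ := by
  obtain ⟨n, U, hU, ⟨i⟩⟩ := hPF
  obtain ⟨K, W, w', hW, hcov, lam, hlam⟩ :=
    exists_cover_lift O B hB₁ hB₂ U hU eG (i.inv ≫ β)
  obtain ⟨T, hT, γ, hγ⟩ := exists_gen_refMap O B hB₁ hB₃ U hU K W w' hW hcov
  haveI : Epi (refMap O U K W w') := epi_refMap hcov
  refine ⟨Qo O K W, isFF_of_fintype (fun x : (Σ i : Fin n, Fin (K i)) => W x.1 x.2)
    (fun x => hW x.1 x.2), refMap O U K W w' ≫ i.inv, epi_comp _ _, lam, T, hT, γ, ?_,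
    hγ.comp_mono i.inv⟩
  rw [hlam, Category.assoc]

include hB₁ hB₂ hB₃ in
theorem ext_typeA (S : ShortComplex (ModSite.Mod O)) (hS : S.ShortExact)
    (h₁ : TypeA O B S.X₁) (h₃ : TypeA O B S.X₃) : TypeA O B S.X₂ := by
  haveI := hS.mono_f
  haveI := hS.epi_g
  obtain ⟨m₁, n₁, V₁, U₁, ψ₁, hV₁, hU₁, ⟨i₁⟩⟩ := h₁
  obtain ⟨m₃, n₃, V₃, U₃, ψ₃, hV₃, hU₃, ⟨i₃⟩⟩ := h₃
  have hR₁ : IsFF O B (∐ fun j => ModSite.freeOn O (V₁ j)) := ⟨m₁, V₁, hV₁, ⟨Iso.refl _⟩⟩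
  have hP₁ : IsFF O B (∐ fun i => ModSite.freeOn O (U₁ i)) := ⟨n₁, U₁, hU₁, ⟨Iso.refl _⟩⟩
  have hR₃ : IsFF O B (∐ fun j => ModSite.freeOn O (V₃ j)) := ⟨m₃, V₃, hV₃, ⟨Iso.refl _⟩⟩
  have hP₃ : IsFF O B (∐ fun i => ModSite.freeOn O (U₃ i)) := ⟨n₃, U₃, hU₃, ⟨Iso.refl _⟩⟩
  let e₁ : (∐ fun i => ModSite.freeOn O (U₁ i)) ⟶ S.X₁ := cokernel.π ψ₁ ≫ i₁.inv
  let e₃ : (∐ fun i => ModSite.freeOn O (U₃ i)) ⟶ S.X₃ := cokernel.π ψ₃ ≫ i₃.inv
  haveI : Epi e₁ := by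
    simp only [e₁]
    infer_instance
  haveI : Epi e₃ := by
    simp only [e₃]
    infer_instance
  have w₁ : ψ₁ ≫ e₁ = 0 := by
    simp only [e₁]
    rw [← Category.assoc, cokernel.condition, zero_comp]
  have w₃ : ψ₃ ≫ e₃ = 0 := by
    simp only [e₃]
    rw [← Category.assoc, cokernel.condition, zero_comp]
  have ex₁ : ∀ ⦃A : ModSite.Mod O⦄ (z : A ⟶ ∐ fun i => ModSite.freeOn O (U₁ i)), z ≫ e₁ = 0 →
      ∃ (A' : ModSite.Mod O) (π : A' ⟶ A) (_ : Epi π)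
        (y : A' ⟶ ∐ fun j => ModSite.freeOn O (V₁ j)), π ≫ z = y ≫ ψ₁ :=
    exact_of_cokernel_iso O ψ₁ i₁
  have ex₃ : ∀ ⦃A : ModSite.Mod O⦄ (z : A ⟶ ∐ fun i => ModSite.freeOn O (U₃ i)), z ≫ e₃ = 0 →
      ∃ (A' : ModSite.Mod O) (π : A' ⟶ A) (_ : Epi π)
        (y : A' ⟶ ∐ fun j => ModSite.freeOn O (V₃ j)), π ≫ z = y ≫ ψ₃ :=
    exact_of_cokernel_iso O ψ₃ i₃
  -- Step A: lift `e₃` through `S.g`
  obtain ⟨Q, hQ, ρ, hρ, μ, TK, hTK, γK, hμ, hγK⟩ :=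
    exists_lift_gen O B hB₁ hB₂ hB₃ hP₃ S.g e₃
  haveI := hρ
  -- Claim N: the kernel of `ρ ≫ e₃` is finitely generated
  obtain ⟨Q', hQ', ρ', hρ', lam₃, hlam₃⟩ := exists_lift O B hB₁ hB₂ hR₃ ρ ψ₃
  haveI := hρ'
  let ν : TK ⊞ Q' ⟶ Q := biprod.desc γK lam₃
  have hTN : IsFF O B (TK ⊞ Q') := hTK.biprod hQ'
  have hν1 : ν ≫ ρ ≫ e₃ = 0 := by
    apply biprod.hom_ext'
    · simp only [ν, biprod.inl_desc_assoc, comp_zero]
      rw [← Category.assoc, hγK.1, zero_comp]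
    · simp only [ν, biprod.inr_desc_assoc, comp_zero]
      rw [← Category.assoc, hlam₃, Category.assoc, w₃, comp_zero]
  have hν2 : ∀ ⦃A : ModSite.Mod O⦄ (z : A ⟶ Q), z ≫ ρ ≫ e₃ = 0 →
      ∃ (A' : ModSite.Mod O) (π : A' ⟶ A) (_ : Epi π) (y : A' ⟶ TK ⊞ Q'), π ≫ z = y ≫ ν := by
    intro A z hz
    obtain ⟨A₁, π₁, hπ₁, y₁, hy₁⟩ := ex₃ (z ≫ ρ) (by rw [Category.assoc]; exact hz)
    obtain ⟨A₂, π₂, hπ₂, y₂, hy₂⟩ := surjective_up_to_refinements_of_epi ρ' y₁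
    have h0 : (π₂ ≫ π₁ ≫ z - y₂ ≫ lam₃) ≫ ρ = 0 := by
      rw [Preadditive.sub_comp, Category.assoc, Category.assoc, Category.assoc, hy₁, hlam₃,
        ← Category.assoc π₂, hy₂, Category.assoc, sub_self]
    obtain ⟨A₃, π₃, hπ₃, y₃, hy₃⟩ := hγK.2 _ h0
    haveI := hπ₁
    haveI := hπ₂
    haveI := hπ₃
    haveI : Epi (π₂ ≫ π₁) := epi_comp _ _
    refine ⟨A₃, π₃ ≫ π₂ ≫ π₁, epi_comp _ _, biprod.lift y₃ (π₃ ≫ y₂), ?_⟩
    simp only [ν]
    rw [biprod.lift_desc, ← hy₃, Preadditive.comp_sub]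
    simp only [Category.assoc, sub_add_cancel]
  -- `ν ≫ μ` factors through `S.f`
  have hνμ : (ν ≫ μ) ≫ S.g = 0 := by
    rw [Category.assoc, hμ]
    exact hν1
  let κ : TK ⊞ Q' ⟶ S.X₁ := hS.exact.lift (ν ≫ μ) hνμ
  have hκ : κ ≫ S.f = ν ≫ μ := hS.exact.lift_f (ν ≫ μ) hνμ
  obtain ⟨Q'', hQ'', ρ'', hρ'', lam', hlam'⟩ := exists_lift O B hB₁ hB₂ hTN e₁ κ
  haveI := hρ''
  -- the epimorphism onto the middle term
  let e₂ : (∐ fun i => ModSite.freeOn O (U₁ i)) ⊞ Q ⟶ S.X₂ := biprod.desc (e₁ ≫ S.f) μ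
  have he₂ : Epi e₂ := by
    rw [epi_iff_surjective_up_to_refinements]
    intro A x
    haveI : Epi (ρ ≫ e₃) := epi_comp _ _
    obtain ⟨A₁, π₁, hπ₁, y₁, hy₁⟩ := surjective_up_to_refinements_of_epi (ρ ≫ e₃) (x ≫ S.g)
    have h0 : (π₁ ≫ x - y₁ ≫ μ) ≫ S.g = 0 := by
      rw [Preadditive.sub_comp, Category.assoc, Category.assoc, hy₁, hμ, sub_self]
    obtain ⟨A₂, π₂, hπ₂, y₂, hy₂⟩ :=
      surjective_up_to_refinements_of_epi e₁ (hS.exact.lift _ h0)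
    haveI := hπ₁
    haveI := hπ₂
    refine ⟨A₂, π₂ ≫ π₁, epi_comp _ _, biprod.lift y₂ (π₂ ≫ y₁), ?_⟩
    simp only [e₂]
    rw [biprod.lift_desc, ← Category.assoc y₂, ← hy₂]
    simp only [Category.assoc]
    rw [hS.exact.lift_f, Preadditive.comp_sub]
    simp only [Category.assoc, sub_add_cancel]
  haveI := he₂
  -- generators of the kernel of `e₂`
  let G₁ : (∐ fun j => ModSite.freeOn O (V₁ j)) ⟶ (∐ fun i => ModSite.freeOn O (U₁ i)) ⊞ Q :=
    ψ₁ ≫ biprod.inl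
  let G₂ : Q'' ⟶ (∐ fun i => ModSite.freeOn O (U₁ i)) ⊞ Q := biprod.lift (-lam') (ρ'' ≫ ν)
  have hG₁ : G₁ ≫ e₂ = 0 := by
    simp only [G₁, e₂, Category.assoc, biprod.inl_desc]
    rw [← Category.assoc, w₁, zero_comp]
  have hG₂ : G₂ ≫ e₂ = 0 := by
    simp only [G₂, e₂]
    rw [biprod.lift_desc, Preadditive.neg_comp, ← Category.assoc lam', hlam', Category.assoc,
      Category.assoc, hκ]
    exact neg_add_cancel _
  have hgen : Gen (biprod.desc G₁ G₂) e₂ := by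
    constructor
    · apply biprod.hom_ext'
      · rw [biprod.inl_desc_assoc, hG₁, comp_zero]
      · rw [biprod.inr_desc_assoc, hG₂, comp_zero]
    · intro A z hz
      -- components
      have hz' : (z ≫ biprod.fst) ≫ e₁ ≫ S.f + (z ≫ biprod.snd) ≫ μ = 0 := by
        have : z ≫ e₂ = (z ≫ biprod.fst) ≫ e₁ ≫ S.f + (z ≫ biprod.snd) ≫ μ := by
          have h3 : e₂ = biprod.fst ≫ e₁ ≫ S.f + biprod.snd ≫ μ := by
            apply biprod.hom_ext' <;> simp [e₂]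
          rw [h3, Preadditive.comp_add]
          simp only [Category.assoc]
        rw [← this, hz]
      have hb : (z ≫ biprod.snd) ≫ ρ ≫ e₃ = 0 := by
        rw [← hμ]
        have h4 : ((z ≫ biprod.fst) ≫ e₁ ≫ S.f + (z ≫ biprod.snd) ≫ μ) ≫ S.g = 0 := by
          rw [hz', zero_comp]
        rw [Preadditive.add_comp] at h4
        simp only [Category.assoc, S.zero, comp_zero, zero_add] at h4
        simpa only [Category.assoc] using h4
      obtain ⟨A₁, π₁, hπ₁, y₁, hy₁⟩ := hν2 _ hb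
      obtain ⟨A₂, π₂, hπ₂, y₂, hy₂⟩ := surjective_up_to_refinements_of_epi ρ'' y₁
      have h5 : (π₂ ≫ π₁ ≫ z ≫ biprod.fst + y₂ ≫ lam') ≫ e₁ = 0 := by
        rw [← cancel_mono S.f, zero_comp, Category.assoc, Preadditive.add_comp]
        have h6 : (y₂ ≫ lam') ≫ e₁ ≫ S.f = π₂ ≫ π₁ ≫ (z ≫ biprod.snd) ≫ μ := by
          rw [Category.assoc, ← Category.assoc lam', hlam', Category.assoc, hκ,
            ← Category.assoc y₂, ← hy₂, Category.assoc, ← Category.assoc y₁, ← hy₁]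
          simp only [Category.assoc]
        rw [h6]
        have h7 : (π₂ ≫ π₁ ≫ z ≫ biprod.fst) ≫ e₁ ≫ S.f =
            π₂ ≫ π₁ ≫ ((z ≫ biprod.fst) ≫ e₁ ≫ S.f) := by
          simp only [Category.assoc]
        rw [h7, ← Preadditive.comp_add, ← Preadditive.comp_add, hz', comp_zero, comp_zero]
      obtain ⟨A₃, π₃, hπ₃, y₃, hy₃⟩ := ex₁ _ h5
      haveI := hπ₁
      haveI := hπ₂
      haveI := hπ₃
      haveI : Epi (π₂ ≫ π₁) := epi_comp _ _
      refine ⟨A₃, π₃ ≫ π₂ ≫ π₁, epi_comp _ _, biprod.lift y₃ (π₃ ≫ y₂), ?_⟩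
      rw [biprod.lift_desc]
      apply biprod.hom_ext
      · simp only [G₁, G₂, Category.assoc, Preadditive.add_comp, biprod.inl_fst,
          biprod.lift_fst, Category.comp_id, Preadditive.comp_neg]
        rw [← hy₃, Preadditive.comp_add]
        simp only [add_neg_cancel_right]
      · simp only [G₁, G₂, Category.assoc, Preadditive.add_comp, biprod.inl_snd,
          biprod.lift_snd, comp_zero, zero_add]
        rw [← Category.assoc y₂, ← hy₂, Category.assoc, ← hy₁]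
  exact typeA_of_fg_kernel (hP₁.biprod hQ) e₂ (fg_kernel_of_gen O B (hR₁.biprod hQ'') hgen)

end Ext

section MainE

theorem main_S9116 [HasPullbacks C] (O : Sheaf J CommRingCat.{u}) (B : Set C)
    (hB₁ : ∀ X : C, ∃ (κ : Type u) (Y : κ → C) (g : ∀ k, Y k ⟶ X),
      Sieve.ofArrows Y g ∈ J X ∧ ∀ k, Y k ∈ B)
    (hB₂ : ∀ U ∈ B, CohCx.IsQcObject ((presheafToSheaf J (Type u)).obj (yoneda.obj U)))
    (hB₃ : ∀ (U U₁ U₂ : C) (f₁ : U₁ ⟶ U) (f₂ : U₂ ⟶ U), U ∈ B → U₁ ∈ B → U₂ ∈ B →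
      CohCx.IsQcObject ((presheafToSheaf J (Type u)).obj (yoneda.obj (pullback f₁ f₂))))
    (S : ShortComplex (ModSite.Mod O)) (hS : S.ShortExact)
    (h₁ : (∃ (m' n' : ℕ) (V' : Fin m' → C) (U' : Fin n' → C)
        (ψ : (∐ fun j => ModSite.freeOn O (V' j)) ⟶ ∐ fun i => ModSite.freeOn O (U' i)),
        (∀ j, V' j ∈ B) ∧ (∀ i, U' i ∈ B) ∧ Nonempty (S.X₁ ≅ cokernel ψ)))
    (h₃ : (∃ (m' n' : ℕ) (V' : Fin m' → C) (U' : Fin n' → C)
        (ψ : (∐ fun j => ModSite.freeOn O (V' j)) ⟶ ∐ fun i => ModSite.freeOn O (U' i)),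
        (∀ j, V' j ∈ B) ∧ (∀ i, U' i ∈ B) ∧ Nonempty (S.X₃ ≅ cokernel ψ))) :
    (∃ (m' n' : ℕ) (V' : Fin m' → C) (U' : Fin n' → C)
        (ψ : (∐ fun j => ModSite.freeOn O (V' j)) ⟶ ∐ fun i => ModSite.freeOn O (U' i)),
        (∀ j, V' j ∈ B) ∧ (∀ i, U' i ∈ B) ∧ Nonempty (S.X₂ ≅ cokernel ψ)) :=
  ext_typeA O B hB₁ hB₂ hB₃ S hS h₁ h₃

end MainE

end Groth.Agent.Lib.T2H8.ModFinPres3
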