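import Mathlib
import Groth.Prelude.Def_ModSite2
import Groth.Agent.Lib.T2H8ModFinPres3
import Groth.Agent.Lib.Helper21ModTensor5

/-!
# Every module is a filtered colimit of modules with a finite presentation by `j_{U!} O_U`
-/

set_option autoImplicit false
universe u
open CategoryTheory CategoryTheory.Limits Opposite

namespace Groth.Agent.Lib.T2H8.ModFinPres4

open Groth.Agent.Lib.T2H8.ModStalkFlat Groth.Agent.Lib.T2H8.ModCoprodSec
  Groth.Agent.Lib.Helper23FreeOn Groth.Agent.Lib.T2H8.ModFinPres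
  Groth.Agent.Lib.T2H8.ModFinPres2 Groth.Agent.Lib.T2H8.ModFinPres3

section Abstract

universe v w

variable {𝒜 : Type w} [Category.{v} 𝒜] [Abelian 𝒜]

attribute [local instance] IsFiltered.isConnected

/-- a criterion for a cocone over a filtered diagram in an AB5 abelian category to be a colimit -/
theorem nonempty_isColimit_of_filtered {Λ : Type u} [SmallCategory Λ] [IsFiltered Λ]
    [HasColimitsOfShape Λ 𝒜] [HasExactColimitsOfShape Λ 𝒜] (D : Λ ⥤ 𝒜) (F : 𝒜)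
    (ι : D ⟶ (Functor.const Λ).obj F)
    (hepi : ∀ {T : 𝒜} (h : F ⟶ T), (∀ l, ι.app l ≫ h = 0) → h = 0)
    (hmono : ∀ (l : Λ) {K : 𝒜} (k : K ⟶ D.obj l), k ≫ ι.app l = 0 → k ≫ colimit.ι D l = 0) :
    Nonempty (IsColimit (Cocone.mk F ι)) := by
  let c : colimit D ⟶ F := colimit.desc D (Cocone.mk F ι)
  have hc : ∀ l, colimit.ι D l ≫ c = ι.app l := fun l => colimit.ι_desc (Cocone.mk F ι) l
  haveI : Epi c := by
    apply Preadditive.epi_of_cancel_zero
    intro T h hh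
    apply hepi
    intro l
    rw [← hc l, Category.assoc, hh, comp_zero]
  haveI : Mono c := by
    let S : ShortComplex (Λ ⥤ 𝒜) := ShortComplex.mk (kernel.ι ι) ι (kernel.condition ι)
    have hS : S.Exact := S.exact_of_f_is_kernel (kernelIsKernel ι)
    have hf0 : colimMap (kernel.ι ι) = 0 := by
      apply colimit.hom_ext
      intro l
      rw [ι_colimMap, comp_zero]
      apply hmono
      have := congr_app (kernel.condition ι) l
      rwa [NatTrans.comp_app] at this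
    have hex := colim.exact_mapShortComplex hS (colimit.isColimit (kernel ι))
      (colimit.isColimit D) (isColimitConstCocone Λ F) (colimMap (kernel.ι ι)) c
      (fun l => ι_colimMap (kernel.ι ι) l)
      (fun l => by
        change colimit.ι D l ≫ c = ι.app l ≫ 𝟙 F
        rw [hc l]
        exact (Category.comp_id (ι.app l)).symm)
    exact hex.mono_g hf0
  haveI : IsIso c := isIso_of_mono_of_epi c
  haveI : IsIso ((colimit.isColimit D).desc (Cocone.mk F ι)) := (inferInstance : IsIso c)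
  exact ⟨IsColimit.ofPointIso (colimit.isColimit D)⟩

end Abstract

section Abstract2

variable {𝒜 : Type*} [Category 𝒜] [Abelian 𝒜]

/-- the direct sum of two cokernels is the cokernel of the direct sum -/
theorem nonempty_biprod_cokernel_iso {R P R' P' : 𝒜} (ψ : R ⟶ P) (ψ' : R' ⟶ P') :
    Nonempty (cokernel ψ ⊞ cokernel ψ' ≅ cokernel (biprod.map ψ ψ')) := by
  have w : biprod.map ψ ψ' ≫ biprod.map (cokernel.π ψ) (cokernel.π ψ') = 0 := by
    apply biprod.hom_ext' <;> simp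
  have h1 : ∀ {T : 𝒜} (q : P ⊞ P' ⟶ T), biprod.map ψ ψ' ≫ q = 0 → ψ ≫ biprod.inl ≫ q = 0 := by
    intro T q hq
    rw [← biprod.inl_map_assoc, hq, comp_zero]
  have h2 : ∀ {T : 𝒜} (q : P ⊞ P' ⟶ T), biprod.map ψ ψ' ≫ q = 0 → ψ' ≫ biprod.inr ≫ q = 0 := by
    intro T q hq
    rw [← biprod.inr_map_assoc, hq, comp_zero]
  have hc : IsColimit (CokernelCofork.ofπ _ w) :=
    CokernelCofork.IsColimit.ofπ _ _
      (fun q hq => biprod.desc (cokernel.desc ψ (biprod.inl ≫ q) (h1 q hq))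
        (cokernel.desc ψ' (biprod.inr ≫ q) (h2 q hq)))
      (fun q hq => by apply biprod.hom_ext' <;> simp)
      (fun q hq m hm => by
        apply biprod.hom_ext'
        · rw [biprod.inl_desc, ← cancel_epi (cokernel.π ψ), cokernel.π_desc, ← hm]
          simp
        · rw [biprod.inr_desc, ← cancel_epi (cokernel.π ψ'), cokernel.π_desc, ← hm]
          simp)
  exact ⟨hc.coconePointUniqueUpToIso (colimit.isColimit _)⟩

end Abstract2

variable {C : Type u} [SmallCategory C] {J : GrothendieckTopology C}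

section Closure

variable (O : Sheaf J CommRingCat.{u}) (B : Set C)

lemma isFF_empty : IsFF O B (∐ fun j : Fin 0 => ModSite.freeOn O (Fin.elim0 j : C)) :=
  ⟨0, fun j => Fin.elim0 j, fun j => Fin.elim0 j, ⟨Iso.refl _⟩⟩

variable {O B}

lemma typeA_of_isFF {P : ModSite.Mod O} (hP : IsFF O B P) : TypeA O B P :=
  typeA_of_cokernel (isFF_empty O B) hP 0 cokernelZeroIsoTarget.symm

lemma isFF_freeOn {U : C} (hU : U ∈ B) : IsFF O B (ModSite.freeOn O U) :=
  ⟨1, fun _ => U, fun _ => hU,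
    ⟨(coproductUniqueIso (fun _ : Fin 1 => ModSite.freeOn O U)).symm⟩⟩

lemma typeA_freeOn {U : C} (hU : U ∈ B) : TypeA O B (ModSite.freeOn O U) :=
  typeA_of_isFF (isFF_freeOn hU)

lemma TypeA.of_iso {M M' : ModSite.Mod O} (h : TypeA O B M) (e : M' ≅ M) : TypeA O B M' := by
  obtain ⟨m', n', V', U', ψ, hV', hU', ⟨i⟩⟩ := h
  exact ⟨m', n', V', U', ψ, hV', hU', ⟨e ≪≫ i⟩⟩

lemma TypeA.biprod {M M' : ModSite.Mod O} (h : TypeA O B M) (h' : TypeA O B M') :
    TypeA O B (M ⊞ M') := by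
  obtain ⟨m₁, n₁, V₁, U₁, ψ₁, hV₁, hU₁, ⟨i₁⟩⟩ := h
  obtain ⟨m₂, n₂, V₂, U₂, ψ₂, hV₂, hU₂, ⟨i₂⟩⟩ := h'
  have hR₁ : IsFF O B (∐ fun j => ModSite.freeOn O (V₁ j)) := ⟨m₁, V₁, hV₁, ⟨Iso.refl _⟩⟩
  have hP₁ : IsFF O B (∐ fun i => ModSite.freeOn O (U₁ i)) := ⟨n₁, U₁, hU₁, ⟨Iso.refl _⟩⟩
  have hR₂ : IsFF O B (∐ fun j => ModSite.freeOn O (V₂ j)) := ⟨m₂, V₂, hV₂, ⟨Iso.refl _⟩⟩
  have hP₂ : IsFF O B (∐ fun i => ModSite.freeOn O (U₂ i)) := ⟨n₂, U₂, hU₂, ⟨Iso.refl _⟩⟩
  obtain ⟨e⟩ := nonempty_biprod_cokernel_iso ψ₁ ψ₂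
  exact typeA_of_cokernel (hR₁.biprod hR₂) (hP₁.biprod hP₂) (biprod.map ψ₁ ψ₂)
    (biprod.mapIso i₁ i₂ ≪≫ e)

end Closure

section Generators

variable (O : Sheaf J CommRingCat.{u}) (B : Set C)
  (hB₁ : ∀ X : C, ∃ (κ : Type u) (Y : κ → C) (g : ∀ k, Y k ⟶ X),
    Sieve.ofArrows Y g ∈ J X ∧ ∀ k, Y k ∈ B)

include hB₁ in
/-- the modules `j_{U!} O_U`, `U ∈ B`, detect zero morphisms -/
theorem eq_zero_of_freeOn {K L : ModSite.Mod O} (f : K ⟶ L)
    (h : ∀ U ∈ B, ∀ g : ModSite.freeOn O U ⟶ K, g ≫ f = 0) : f = 0 := by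
  have key : ∀ (X : C) (s : ModSite.sect K X), f.val.app (op X) s = 0 := by
    intro X s
    obtain ⟨κ, Y, g, hcov, hY⟩ := hB₁ X
    refine eq_zero_of_cover L Y g hcov _ (fun k => ?_)
    have h1 := h (Y k) (hY k) (ofSec O K (Y k) (rS K (g k) s))
    rw [ofSec_comp, ← ofSec_zero O L (Y k)] at h1
    have h2 := ofSec_injective O L (Y k) h1
    rw [← app_rS_gen]
    exact h2
  apply SheafOfModules.hom_ext
  apply PresheafOfModules.hom_ext
  intro X
  ext s
  exact key X.unop s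

end Generators

section Small

variable (O : Sheaf J CommRingCat.{u}) (B : Set C)

/-- presentation data -/
structure Dat : Type u where
  m : ℕ
  n : ℕ
  V : Fin m → C
  U : Fin n → C
  ψ : (∐ fun j => ModSite.freeOn O (V j)) ⟶ ∐ fun i => ModSite.freeOn O (U i)
  hV : ∀ j, V j ∈ B
  hU : ∀ i, U i ∈ B

variable {O B}

/-- the module presented by the data -/
noncomputable def Dat.obj (d : Dat O B) : ModSite.Mod O := cokernel d.ψ

lemma Dat.typeA (d : Dat O B) : TypeA O B d.obj :=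
  ⟨d.m, d.n, d.V, d.U, d.ψ, d.hV, d.hU, ⟨Iso.refl _⟩⟩

lemma exists_dat {M : ModSite.Mod O} (h : TypeA O B M) :
    ∃ d : Dat O B, Nonempty (M ≅ d.obj) := by
  obtain ⟨m', n', V', U', ψ, hV', hU', ⟨i⟩⟩ := h
  exact ⟨⟨m', n', V', U', ψ, hV', hU'⟩, ⟨i⟩⟩

variable (O B)

/-- the index category: modules with a finite presentation, over `F` -/
structure Lam (F : ModSite.Mod O) : Type u where
  d : Dat O B
  a : d.obj ⟶ F

variable {O B}

noncomputable instance lamCategory (F : ModSite.Mod O) : Category.{u} (Lam O B F) where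
  Hom x y := {f : x.d.obj ⟶ y.d.obj // f ≫ y.a = x.a}
  id x := ⟨𝟙 _, Category.id_comp _⟩
  comp f g := ⟨f.1 ≫ g.1, by rw [Category.assoc, g.2, f.2]⟩
  id_comp f := Subtype.ext (Category.id_comp _)
  comp_id f := Subtype.ext (Category.comp_id _)
  assoc f g h := Subtype.ext (Category.assoc _ _ _)

/-- the diagram -/
noncomputable def lamD (F : ModSite.Mod O) : Lam O B F ⥤ ModSite.Mod O where
  obj x := x.d.obj
  map f := f.1
  map_id _ := rfl
  map_comp _ _ := rfl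

/-- the cocone -/
noncomputable def lamι (F : ModSite.Mod O) :
    lamD (B := B) F ⟶ (Functor.const (Lam O B F)).obj F where
  app x := x.a
  naturality x y f := by
    change f.1 ≫ y.a = x.a ≫ 𝟙 F
    rw [f.2, Category.comp_id]

end Small

section Filtered

variable (O : Sheaf J CommRingCat.{u}) (B : Set C)
  (hB₁ : ∀ X : C, ∃ (κ : Type u) (Y : κ → C) (g : ∀ k, Y k ⟶ X),
    Sieve.ofArrows Y g ∈ J X ∧ ∀ k, Y k ∈ B)
  (hB₂ : ∀ U ∈ B, CohCx.IsQcObject ((presheafToSheaf J (Type u)).obj (yoneda.obj U)))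

include hB₁ hB₂ in
theorem typeA_cokernel {M N : ModSite.Mod O} (α : M ⟶ N) (hM : TypeA O B M)
    (hN : TypeA O B N) : TypeA O B (cokernel α) :=
  main_S9115 O B hB₁ hB₂ M N α hM hN

include hB₁ hB₂ in
theorem isFiltered_lam (F : ModSite.Mod O) : IsFiltered (Lam O B F) := by
  haveI : Nonempty (Lam O B F) :=
    ⟨⟨⟨0, 0, fun j => Fin.elim0 j, fun j => Fin.elim0 j, 0, fun j => Fin.elim0 j,
      fun j => Fin.elim0 j⟩, 0⟩⟩
  haveI : IsFilteredOrEmpty (Lam O B F) := by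
    constructor
    · intro x y
      obtain ⟨d, ⟨e⟩⟩ := exists_dat (TypeA.biprod x.d.typeA y.d.typeA)
      refine ⟨⟨d, e.inv ≫ biprod.desc x.a y.a⟩, ⟨biprod.inl ≫ e.hom, ?_⟩,
        ⟨biprod.inr ≫ e.hom, ?_⟩, trivial⟩
      · simp
      · simp
    · intro x y f g
      have h0 : (f.1 - g.1) ≫ y.a = 0 := by
        rw [Preadditive.sub_comp, f.2, g.2, sub_self]
      obtain ⟨d, ⟨e⟩⟩ := exists_dat
        (typeA_cokernel O B hB₁ hB₂ (f.1 - g.1) x.d.typeA y.d.typeA)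
      refine ⟨⟨d, e.inv ≫ cokernel.desc (f.1 - g.1) y.a h0⟩,
        ⟨cokernel.π (f.1 - g.1) ≫ e.hom, ?_⟩, ?_⟩
      · simp
      · apply Subtype.ext
        change f.1 ≫ cokernel.π (f.1 - g.1) ≫ e.hom = g.1 ≫ cokernel.π (f.1 - g.1) ≫ e.hom
        rw [← sub_eq_zero, ← Preadditive.sub_comp, ← Category.assoc, cokernel.condition,
          zero_comp]
  exact {}

end Filtered

section MainC

theorem main_S9114 (O : Sheaf J CommRingCat.{u}) (B : Set C)
    (hB₁ : ∀ X : C, ∃ (κ : Type u) (Y : κ → C) (g : ∀ k, Y k ⟶ X),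
      Sieve.ofArrows Y g ∈ J X ∧ ∀ k, Y k ∈ B)
    (hB₂ : ∀ U ∈ B, CohCx.IsQcObject ((presheafToSheaf J (Type u)).obj (yoneda.obj U)))
    (F : ModSite.Mod O) :
    ∃ (Λ : Type u) (_ : SmallCategory Λ) (_ : IsFiltered Λ) (D : Λ ⥤ ModSite.Mod O)
      (ι : D ⟶ (Functor.const Λ).obj F),
      (∀ l, (∃ (m' n' : ℕ) (V' : Fin m' → C) (U' : Fin n' → C)
        (ψ : (∐ fun j => ModSite.freeOn O (V' j)) ⟶ ∐ fun i => ModSite.freeOn O (U' i)),
        (∀ j, V' j ∈ B) ∧ (∀ i, U' i ∈ B) ∧ Nonempty (D.obj l ≅ cokernel ψ))) ∧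
      Nonempty (IsColimit (Cocone.mk F ι)) := by
  haveI hfil : IsFiltered (Lam O B F) := isFiltered_lam O B hB₁ hB₂ F
  haveI : HasExactColimitsOfShape (Lam O B F) (ModSite.Mod O) :=
    Groth.Agent.Lib.Helper21.ModTensor5.hasExactColimitsOfShape_filtered O (Lam O B F)
  refine ⟨Lam O B F, inferInstance, hfil, lamD F, lamι F, fun l => l.d.typeA, ?_⟩
  apply nonempty_isColimit_of_filtered
  · intro T h hh
    apply eq_zero_of_freeOn O B hB₁
    intro U hU g
    obtain ⟨d, ⟨e⟩⟩ := exists_dat (typeA_freeOn (O := O) hU)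
    have h1 := hh ⟨d, e.inv ≫ g⟩
    change (e.inv ≫ g) ≫ h = 0 at h1
    rw [← cancel_epi e.inv, comp_zero, ← Category.assoc]
    exact h1
  · intro l K k hk
    change k ≫ l.a = 0 at hk
    apply eq_zero_of_freeOn O B hB₁
    intro U hU g
    have ht : (g ≫ k) ≫ l.a = 0 := by rw [Category.assoc, hk, comp_zero]
    obtain ⟨d, ⟨e⟩⟩ := exists_dat
      (typeA_cokernel O B hB₁ hB₂ (g ≫ k) (typeA_freeOn hU) l.d.typeA)
    let l' : Lam O B F := ⟨d, e.inv ≫ cokernel.desc (g ≫ k) l.a ht⟩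
    let φ : l ⟶ l' := ⟨cokernel.π (g ≫ k) ≫ e.hom, by
      change (cokernel.π (g ≫ k) ≫ e.hom) ≫ e.inv ≫ cokernel.desc (g ≫ k) l.a ht = l.a
      rw [Category.assoc, Iso.hom_inv_id_assoc]
      exact cokernel.π_desc _ _ _⟩
    have hw : (lamD F).map φ ≫ colimit.ι (lamD F) l' = colimit.ι (lamD F) l :=
      colimit.w (lamD F) φ
    rw [← hw]
    change g ≫ k ≫ (cokernel.π (g ≫ k) ≫ e.hom) ≫ colimit.ι (lamD F) l' = 0
    rw [← Category.assoc, ← Category.assoc, ← Category.assoc, cokernel.condition, zero_comp,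
      zero_comp]

end MainC

end Groth.Agent.Lib.T2H8.ModFinPres4
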