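import Mathlib
import Groth.Prelude.Def_ModSite2
import Groth.Agent.Lib.T2H8ModFTExt
import Groth.Agent.Lib.T2H8ModCoprodSec

/-!
# Endomorphisms of finite free modules on a ringed site; epimorphisms between locally free modules
of the same finite rank are isomorphisms (helper8, team 2)
-/

set_option autoImplicit false
set_option linter.unusedSectionVars false
set_option linter.style.haveILetI false
universe u
open CategoryTheory CategoryTheory.Limits Opposite

namespace Groth.Agent.Lib.T2H8.ModFreeEndo

open Groth.Agent.Lib.T2H8.ModCoprodSec Groth.Agent.Lib.T2H8.ModFTExt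

section General

variable {C : Type u} [SmallCategory C] {J : GrothendieckTopology C} {O : Sheaf J CommRingCat.{u}}

variable {ι : Type u} [Fintype ι] {F : ι → ModSite.Mod O} (c : Cofan F) (hc : IsColimit c)

/-- the identity of a finite coproduct is the sum of the projections followed by injections -/
lemma sum_proj_inj : ∑ i, proj c hc i ≫ c.inj i = 𝟙 c.pt := by
  classical
  apply Cofan.IsColimit.hom_ext hc
  intro j
  rw [Preadditive.comp_sum, Category.comp_id]
  rw [Finset.sum_eq_single j]
  · rw [← Category.assoc, inj_proj_self, Category.id_comp]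
  · intro i _ hij
    rw [← Category.assoc, inj_proj_ne c hc (Ne.symm hij), zero_comp]
  · intro h
    exact absurd (Finset.mem_univ j) h

/-- evaluation of morphisms at a section, as an additive map -/
def evalHom (A B : ModSite.Mod O) (W : C) (s : A.val.obj (op W)) : (A ⟶ B) →+ B.val.obj (op W) where
  toFun ψ := ψ.val.app (op W) s
  map_zero' := rfl
  map_add' _ _ := rfl

section Free

variable (O) (I : Type u) [Finite I]

/-- sections of a finite free module form a finitely generated module -/
theorem finite_sections_free (W : C) :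
    Module.Finite ((ModSite.ringSh O).obj.obj (op W))
      ((SheafOfModules.free (R := ModSite.ringSh O) I).val.obj (op W)) := by
  classical
  haveI := Fintype.ofFinite I
  let c := SheafOfModules.freeCofan (R := ModSite.ringSh O) I
  have hc := SheafOfModules.isColimitFreeCofan (R := ModSite.ringSh O) I
  let e : I → (SheafOfModules.free (R := ModSite.ringSh O) I).val.obj (op W) := fun k =>
    (c.inj k).val.app (op W) (1 : (ModSite.ringSh O).obj.obj (op W))
  refine ⟨⟨Finset.univ.image e, ?_⟩⟩
  rw [eq_top_iff]
  intro s _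
  have h1 := congrArg (evalHom c.pt c.pt W s) (sum_proj_inj c hc)
  rw [map_sum] at h1
  have h2 : s = ∑ k, (c.inj k).val.app (op W) ((proj c hc k).val.app (op W) s) := h1.symm
  rw [h2]
  refine Submodule.sum_mem _ (fun k _ => ?_)
  set a : (ModSite.ringSh O).obj.obj (op W) := (proj c hc k).val.app (op W) s with ha
  have h3 : (c.inj k).val.app (op W) a = a • e k := by
    have h4 : a = a • (1 : (ModSite.ringSh O).obj.obj (op W)) := (mul_one a).symm
    conv_lhs => rw [h4]
    exact ((c.inj k).val.app (op W)).hom.map_smul a _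
  rw [h3]
  exact Submodule.smul_mem _ _ (Submodule.subset_span (Finset.mem_coe.2
    (Finset.mem_image_of_mem e (Finset.mem_univ k))))

/-- an endomorphism of a finite free module with a section is injective on all sections -/
theorem injective_app_of_section (ψ σ : SheafOfModules.free (R := ModSite.ringSh O) I ⟶
    SheafOfModules.free (R := ModSite.ringSh O) I) (h : σ ≫ ψ = 𝟙 _) (W : C) :
    Function.Injective (ψ.val.app (op W)) := by
  have hsurj : Function.Surjective (ψ.val.app (op W)).hom := by
    intro s
    refine ⟨σ.val.app (op W) s, ?_⟩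
    exact congrArg (fun χ : SheafOfModules.free (R := ModSite.ringSh O) I ⟶
      SheafOfModules.free (R := ModSite.ringSh O) I => χ.val.app (op W) s) h
  letI : CommRing ((ModSite.ringSh O).obj.obj (op W)) :=
    inferInstanceAs (CommRing (O.obj.obj (op W)))
  haveI := finite_sections_free O I W
  exact OrzechProperty.injective_of_surjective_endomorphism (ψ.val.app (op W)).hom hsurj

/-- a morphism between finite free modules (up to isomorphism) of the same rank admitting a
factorisation of the second trivialisation through it is injective on all sections -/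
theorem injective_app_of_factor {F' G' : SheafOfModules.{u} (ModSite.ringSh O)}
    (a : SheafOfModules.free (R := ModSite.ringSh O) I ≅ F')
    (b : SheafOfModules.free (R := ModSite.ringSh O) I ≅ G') (φ : F' ⟶ G')
    (σ' : SheafOfModules.free (R := ModSite.ringSh O) I ⟶ F') (h : σ' ≫ φ = b.hom) (W : C) :
    Function.Injective (φ.val.app (op W)) := by
  have hσψ : (σ' ≫ a.inv) ≫ (a.hom ≫ φ ≫ b.inv) = 𝟙 _ := by
    rw [Category.assoc, Iso.inv_hom_id_assoc, ← Category.assoc, h, Iso.hom_inv_id]
  have hinj := injective_app_of_section O I (a.hom ≫ φ ≫ b.inv) (σ' ≫ a.inv) hσψ W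
  intro s t hst
  have hs : a.hom.val.app (op W) (a.inv.val.app (op W) s) = s :=
    congrArg (fun χ : F' ⟶ F' => χ.val.app (op W) s) a.inv_hom_id
  have ht : a.hom.val.app (op W) (a.inv.val.app (op W) t) = t :=
    congrArg (fun χ : F' ⟶ F' => χ.val.app (op W) t) a.inv_hom_id
  have h2 : (a.hom ≫ φ ≫ b.inv).val.app (op W) (a.inv.val.app (op W) s) =
      (a.hom ≫ φ ≫ b.inv).val.app (op W) (a.inv.val.app (op W) t) := by
    change b.inv.val.app (op W) (φ.val.app (op W) (a.hom.val.app (op W) (a.inv.val.app (op W) s))) =
      b.inv.val.app (op W) (φ.val.app (op W) (a.hom.val.app (op W) (a.inv.val.app (op W) t)))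
    rw [hs, ht, hst]
  have h3 := hinj h2
  rw [← hs, ← ht, h3]

end Free

section Restrict

variable {R : Sheaf J RingCat.{u}} [HasPullbacks C]

lemma restrictGen_π (M : SheafOfModules.{u} R) {X Y : C} (f : X ⟶ Y)
    (G : (M.over Y).GeneratingSections) :
    (restrictGen M f G).π =
      ((SheafOfModules.mapFreeIso (SheafOfModules.overMap R f) G.I
        (SheafOfModules.overMapUnitIso f).symm).hom ≫ (SheafOfModules.overMap R f).map G.π) ≫
        ((SheafOfModules.overFunctorMap R f).app M).hom := by
  unfold restrictGen
  rw [SheafOfModules.GeneratingSections.ofEpi_π]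
  congr 1
  change (SheafOfModules.freeHomEquiv _).symm (SheafOfModules.freeHomEquiv _ _) = _
  rw [Equiv.symm_apply_apply]
  rfl

lemma isIso_restrictGen_π (M : SheafOfModules.{u} R) {X Y : C} (f : X ⟶ Y)
    (G : (M.over Y).GeneratingSections) [IsIso G.π] : IsIso (restrictGen M f G).π := by
  rw [restrictGen_π]
  have h1 : IsIso ((SheafOfModules.overMap R f).map G.π) := Functor.map_isIso _ _
  have h0 : IsIso (SheafOfModules.mapFreeIso (SheafOfModules.overMap R f) G.I
        (SheafOfModules.overMapUnitIso f).symm).hom := Iso.isIso_hom _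
  have h2 : IsIso ((SheafOfModules.mapFreeIso (SheafOfModules.overMap R f) G.I
        (SheafOfModules.overMapUnitIso f).symm).hom ≫ (SheafOfModules.overMap R f).map G.π) :=
    @IsIso.comp_isIso _ _ _ _ _ _ _ h0 h1
  have h3 : IsIso ((SheafOfModules.overFunctorMap R f).app M).hom := Iso.isIso_hom _
  exact @IsIso.comp_isIso _ _ _ _ _ _ _ h2 h3

lemma freeHomEquiv_symm_freeSection_comp {M : SheafOfModules.{u} R} {I : Type u}
    (β : SheafOfModules.free I ⟶ M) :
    M.freeHomEquiv.symm (fun k => SheafOfModules.sectionsMap β
      (SheafOfModules.freeSection k)) = β := by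
  rw [← SheafOfModules.freeHomEquiv_symm_comp]
  have h1 : (SheafOfModules.free (R := R) I).freeHomEquiv.symm
      (fun k => SheafOfModules.freeSection k) = 𝟙 _ := by
    change (SheafOfModules.free (R := R) I).freeHomEquiv.symm
      ((SheafOfModules.free (R := R) I).freeHomEquiv (𝟙 _)) = 𝟙 _
    rw [Equiv.symm_apply_apply]
  rw [h1, Category.id_comp]

/-- the generating sections given by an isomorphism with a free module -/
noncomputable def genOfIso {M : SheafOfModules.{u} R} {I : Type u} (β : M ≅ SheafOfModules.free I) :
    M.GeneratingSections where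
  I := I
  s := fun k => SheafOfModules.sectionsMap β.inv (SheafOfModules.freeSection k)
  epi := by
    rw [freeHomEquiv_symm_freeSection_comp]
    infer_instance

lemma genOfIso_π {M : SheafOfModules.{u} R} {I : Type u} (β : M ≅ SheafOfModules.free I) :
    (genOfIso β).π = β.inv :=
  freeHomEquiv_symm_freeSection_comp β.inv

instance {M : SheafOfModules.{u} R} {I : Type u} (β : M ≅ SheafOfModules.free I) :
    IsIso (genOfIso β).π := by
  rw [genOfIso_π]
  infer_instance

end Restrict

end General

section Top

open TopologicalSpace Groth.Agent.Lib.Helper23FreeOn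

variable {X : TopCat.{u}} (O : TopCat.Sheaf CommRingCat.{u} X)

/-- an epimorphism between modules which are free of the same finite rank near `x` is injective
on all sections over small opens around `x` -/
theorem exists_nbhd_injective (I : Type u) [Finite I] {F G : ModSite.Mod O} (φ : F ⟶ G) [Epi φ]
    (UF UG : Opens X)
    (α : (ModSite.restr O UF).obj F ≅ SheafOfModules.free I)
    (β : (ModSite.restr O UG).obj G ≅ SheafOfModules.free I)
    (x : X) (hxF : x ∈ UF) (hxG : x ∈ UG) :
    ∃ W : Opens X, x ∈ W ∧ ∀ V : Opens X, V ≤ W → Function.Injective (φ.val.app (op V)) := by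
  let Gα := genOfIso α
  let Gβ := genOfIso β
  let b : I → G.val.obj (op UG) := fun k => evalTop O G UG (Gβ.s k)
  have h1 := fun k : I => exists_lift_at O φ UG (b k) x hxG
  choose Wk hxWk ik ak hak using h1
  let W₀ : Opens X := ⟨⋂ k, (Wk k : Set X), isOpen_iInter_of_finite fun k => (Wk k).isOpen⟩
  have hW₀ : ∀ k, W₀ ≤ Wk k := fun k y hy => Set.mem_iInter.1 hy k
  let W : Opens X := W₀ ⊓ (UF ⊓ UG)
  have hxW : x ∈ W := ⟨Set.mem_iInter.2 hxWk, hxF, hxG⟩
  let fF : W ⟶ UF := homOfLE (inf_le_right.trans inf_le_left)
  let fG : W ⟶ UG := homOfLE (inf_le_right.trans inf_le_right)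
  let jk : ∀ k, W ⟶ Wk k := fun k => homOfLE (inf_le_left.trans (hW₀ k))
  let Gα' := restrictGen F fF Gα
  let Gβ' := restrictGen G fG Gβ
  have hα : IsIso (genOfIso α).π := inferInstance
  have hβ : IsIso (genOfIso β).π := inferInstance
  have hα' : IsIso Gα'.π := @isIso_restrictGen_π _ _ _ _ _ F _ _ fF (genOfIso α) hα
  have hβ' : IsIso Gβ'.π := @isIso_restrictGen_π _ _ _ _ _ G _ _ fG (genOfIso β) hβ
  let φW := (ModSite.restr O W).map φ
  let σ' : SheafOfModules.free I ⟶ F.over W :=
    (F.over W).freeHomEquiv.symm (fun k => sec O F W (F.val.restrictₛₗ (jk k).op (ak k)))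
  have hfac : σ' ≫ φW = Gβ'.π := by
    rw [SheafOfModules.freeHomEquiv_symm_comp]
    change _ = (G.over W).freeHomEquiv.symm Gβ'.s
    congr 1
    funext k
    change SheafOfModules.sectionsMap ((ModSite.restr O W).map φ) (sec O F W _) = Gβ'.s k
    rw [sectionsMap_sec, ← sec_evalTop O G W (Gβ'.s k)]
    congr 1
    rw [evalTop_restrictGen]
    have hnat := PresheafOfModules.naturality_apply φ.val (jk k).op (ak k)
    refine hnat.trans ?_
    change G.val.restrictₛₗ (jk k).op (φ.val.app (op (Wk k)) (ak k)) = _
    rw [hak k]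
    have hcomp : fG.op = (ik k).op ≫ (jk k).op := by
      rw [← op_comp]
      congr 1
    rw [hcomp]
    exact (restr_comp G.val (ik k).op (jk k).op _).symm
  refine ⟨W, hxW, fun V hVW => ?_⟩
  let Z : Over W := Over.mk (homOfLE hVW)
  let a : SheafOfModules.free (R := ModSite.ringSh (O.over W)) I ≅ F.over W :=
    @asIso _ _ _ _ Gα'.π hα'
  let b : SheafOfModules.free (R := ModSite.ringSh (O.over W)) I ≅ G.over W :=
    @asIso _ _ _ _ Gβ'.π hβ'
  exact injective_app_of_factor (O := O.over W) I a b φW σ' hfac Z

end Top

section Main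

open TopologicalSpace Groth.Agent.Lib.T2H8.ModStalkFlat

variable {X : TopCat.{u}} (O : TopCat.Sheaf CommRingCat.{u} X)

/-- a morphism of modules on a ringed space which is injective on sections over small opens around
every point is injective on all sections -/
theorem injective_app_of_local {F G : ModSite.Mod O} (φ : F ⟶ G) (W : X → Opens X)
    (hxW : ∀ x, x ∈ W x)
    (hinj : ∀ x (V : Opens X), V ≤ W x → Function.Injective (φ.val.app (op V))) (V : Opens X) :
    Function.Injective (φ.val.app (op V)) := by
  intro s t hst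
  have hsep : Presheaf.IsSeparated (Opens.grothendieckTopology X) F.val.presheaf :=
    Presheaf.IsSheaf.isSeparated F.isSheaf
  have hcov : Sieve.ofArrows (fun x : V => V ⊓ W x.1)
      (fun x => (homOfLE inf_le_left : V ⊓ W x.1 ⟶ V)) ∈ Opens.grothendieckTopology X V := by
    intro x hx
    exact ⟨V ⊓ W x, homOfLE inf_le_left, Sieve.ofArrows_mk _ _ (⟨x, hx⟩ : V), hx, hxW x⟩
  refine hsep V _ hcov s t ?_
  rintro Y' f ⟨Y'', a, _, ⟨k⟩, rfl⟩
  have hle : Y' ≤ W k.1 := (leOfHom a).trans inf_le_right
  apply hinj k.1 Y' hle
  have h1 := PresheafOfModules.naturality_apply φ.val (a ≫ homOfLE inf_le_left).op s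
  have h2 := PresheafOfModules.naturality_apply φ.val (a ≫ homOfLE inf_le_left).op t
  exact h1.trans ((congrArg _ hst).trans h2.symm)

theorem main_S6836 (r : ℕ) {F G : ModSite.Mod O}
    (hF : ∀ x : X, ∃ U : Opens X, x ∈ U ∧
      Nonempty ((ModSite.restr O U).obj F ≅ SheafOfModules.free (ULift.{u} (Fin r))))
    (hG : ∀ x : X, ∃ U : Opens X, x ∈ U ∧
      Nonempty ((ModSite.restr O U).obj G ≅ SheafOfModules.free (ULift.{u} (Fin r))))
    (φ : F ⟶ G) : IsIso φ ↔ Epi φ := by
  constructor
  · intro h
    infer_instance
  · intro hE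
    choose UF hxF hαF using hF
    choose UG hxG hβG using hG
    have h1 := fun x => exists_nbhd_injective O (ULift.{u} (Fin r)) φ (UF x) (UG x)
      (hαF x).some (hβG x).some x (hxF x) (hxG x)
    choose W hxW hinj using h1
    have hinjAll := injective_app_of_local O φ W hxW hinj
    have hmono : Mono φ := by
      apply Preadditive.mono_of_cancel_zero
      intro T g hg
      apply SheafOfModules.hom_ext
      apply PresheafOfModules.hom_ext
      intro V
      ext t
      apply hinjAll V.unop
      have h2 := congrArg (fun χ : T ⟶ G => χ.val.app V t) hg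
      refine h2.trans ?_
      exact (map_zero (φ.val.app (op V.unop)).hom).symm
    exact isIso_of_mono_of_epi φ

end Main

end Groth.Agent.Lib.T2H8.ModFreeEndo
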