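import Mathlib
import Groth.Prelude.Def_ModSite2
import Groth.Agent.Lib.T2H8ModFreeEndo

/-!
# The rank of a locally free module on a ringed space is locally constant (helper8, team 2)
-/

set_option autoImplicit false
set_option linter.unusedSectionVars false
set_option linter.style.haveILetI false
universe u
open CategoryTheory CategoryTheory.Limits Opposite

namespace Groth.Agent.Lib.T2H8.ModFreeRank

open Groth.Agent.Lib.T2H8.ModCoprodSec Groth.Agent.Lib.T2H8.ModFTExt
  Groth.Agent.Lib.T2H8.ModFreeEndo

section Algebra

/-- an injective linear map from a module with `S` "independent" elements to a module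
"generated with coordinates" by `T` elements forces `|S| ≤ |T|` -/
theorem card_le_of_coords (R : Type*) [CommRing R] [Nontrivial R] {M N : Type*}
    [AddCommGroup M] [Module R M] [AddCommGroup N] [Module R N]
    {S T : Type*} [Fintype S] [Fintype T] [DecidableEq S]
    (e : S → M) (p : S → M →ₗ[R] R) (hp : ∀ j k, p j (e k) = if k = j then 1 else 0)
    (f : T → N) (q : T → N →ₗ[R] R) (hq : ∀ n : N, n = ∑ t, q t n • f t)
    (ψ : M →ₗ[R] N) (hψ : Function.Injective ψ) : Fintype.card S ≤ Fintype.card T := by
  let a : (S → R) →ₗ[R] M := ∑ k, (LinearMap.toSpanSingleton R M (e k)) ∘ₗ LinearMap.proj k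
  have ha : ∀ x : S → R, a x = ∑ k, x k • e k := by
    intro x
    simp [a, LinearMap.sum_apply]
  let b : N →ₗ[R] (T → R) := LinearMap.pi q
  have hainj : Function.Injective a := by
    intro x y hxy
    funext j
    have h1 := congrArg (p j) hxy
    rw [ha, ha, map_sum, map_sum] at h1
    simp only [map_smul, hp, smul_eq_mul, mul_ite, mul_one, mul_zero, Finset.sum_ite_eq',
      Finset.mem_univ, if_true] at h1
    exact h1
  have hbinj : Function.Injective b := by
    intro m n hmn
    rw [hq m, hq n]
    refine Finset.sum_congr rfl (fun t _ => ?_)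
    have : b m t = b n t := congrFun hmn t
    change q t m = q t n at this
    rw [this]
  exact card_le_of_injective R (b ∘ₗ ψ ∘ₗ a) (hbinj.comp (hψ.comp hainj))

end Algebra

section General

variable {C : Type u} [SmallCategory C] {J : GrothendieckTopology C} (O : Sheaf J CommRingCat.{u})

/-- a split monomorphism between finite free modules forces an inequality of ranks, if the ring
of sections over some object is nontrivial -/
theorem card_le_of_splitMono (S T : Type u) [Fintype S] [Fintype T]
    (ψ : SheafOfModules.free (R := ModSite.ringSh O) S ⟶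
      SheafOfModules.free (R := ModSite.ringSh O) T)
    (ρ : SheafOfModules.free (R := ModSite.ringSh O) T ⟶
      SheafOfModules.free (R := ModSite.ringSh O) S) (h : ψ ≫ ρ = 𝟙 _) (V : C)
    (hV : Nontrivial (O.obj.obj (op V))) :
    Fintype.card S ≤ Fintype.card T := by
  classical
  letI : CommRing ((ModSite.ringSh O).obj.obj (op V)) :=
    inferInstanceAs (CommRing (O.obj.obj (op V)))
  haveI : Nontrivial ((ModSite.ringSh O).obj.obj (op V)) := hV
  let cS := SheafOfModules.freeCofan (R := ModSite.ringSh O) S
  have hcS := SheafOfModules.isColimitFreeCofan (R := ModSite.ringSh O) S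
  let cT := SheafOfModules.freeCofan (R := ModSite.ringSh O) T
  have hcT := SheafOfModules.isColimitFreeCofan (R := ModSite.ringSh O) T
  have hψ : Function.Injective (ψ.val.app (op V)).hom := by
    intro s t hst
    have hs : ρ.val.app (op V) (ψ.val.app (op V) s) = s :=
      congrArg (fun χ : SheafOfModules.free (R := ModSite.ringSh O) S ⟶
        SheafOfModules.free (R := ModSite.ringSh O) S => χ.val.app (op V) s) h
    have ht : ρ.val.app (op V) (ψ.val.app (op V) t) = t :=
      congrArg (fun χ : SheafOfModules.free (R := ModSite.ringSh O) S ⟶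
        SheafOfModules.free (R := ModSite.ringSh O) S => χ.val.app (op V) t) h
    rw [← hs, ← ht]
    exact congrArg _ hst
  refine card_le_of_coords ((ModSite.ringSh O).obj.obj (op V))
    (M := (SheafOfModules.free (R := ModSite.ringSh O) S).val.obj (op V))
    (N := (SheafOfModules.free (R := ModSite.ringSh O) T).val.obj (op V))
    (fun k => (cS.inj k).val.app (op V) (1 : (ModSite.ringSh O).obj.obj (op V)))
    (fun j => ((proj cS hcS j).val.app (op V)).hom) ?_
    (fun k => (cT.inj k).val.app (op V) (1 : (ModSite.ringSh O).obj.obj (op V)))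
    (fun j => ((proj cT hcT j).val.app (op V)).hom) ?_ (ψ.val.app (op V)).hom hψ
  · intro j k
    by_cases hkj : k = j
    · subst hkj
      rw [if_pos rfl]
      exact congrArg (fun χ : SheafOfModules.unit (ModSite.ringSh O) ⟶
        SheafOfModules.unit (ModSite.ringSh O) => χ.val.app (op V)
          (1 : (ModSite.ringSh O).obj.obj (op V))) (inj_proj_self cS hcS k)
    · rw [if_neg hkj]
      exact congrArg (fun χ : SheafOfModules.unit (ModSite.ringSh O) ⟶
        SheafOfModules.unit (ModSite.ringSh O) => χ.val.app (op V)
          (1 : (ModSite.ringSh O).obj.obj (op V))) (inj_proj_ne cS hcS hkj)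
  · intro s
    have h1 := congrArg (evalHom cT.pt cT.pt V s) (sum_proj_inj cT hcT)
    rw [map_sum] at h1
    have h2 : s = ∑ k, (cT.inj k).val.app (op V) ((proj cT hcT k).val.app (op V) s) := h1.symm
    refine h2.trans (Finset.sum_congr rfl (fun k _ => ?_))
    set a : (ModSite.ringSh O).obj.obj (op V) := (proj cT hcT k).val.app (op V) s with ha
    have h4 : a = a • (1 : (ModSite.ringSh O).obj.obj (op V)) := (mul_one a).symm
    conv_lhs => rw [h4]
    exact ((cT.inj k).val.app (op V)).hom.map_smul a _

section Retract

variable {R : Sheaf J RingCat.{u}} {I' : Type u}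

/-- the retraction of a free module onto the free module on a finite subset of the indices -/
noncomputable def retr (s : Finset I') :
    SheafOfModules.free (R := R) I' ⟶ SheafOfModules.free (R := R) (↥s : Type u) := by
  classical
  exact (SheafOfModules.freeHomEquiv _).symm
    (fun k => if h : k ∈ s then SheafOfModules.freeSection ⟨k, h⟩ else zs _)

lemma freeMap_retr (s : Finset I') :
    SheafOfModules.freeMap (R := R) (Subtype.val : (↥s : Type u) → I') ≫ retr s = 𝟙 _ := by
  classical
  apply (SheafOfModules.freeHomEquiv _).injective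
  funext j
  rw [SheafOfModules.freeHomEquiv_comp_apply, SheafOfModules.freeHomEquiv_apply,
    SheafOfModules.sectionMap_freeMap_freeSection]
  unfold retr
  rw [SheafOfModules.sectionsMap_freeHomEquiv_symm_freeSection, dif_pos j.2]

end Retract

/-- an isomorphism `free I ≅ free I'` with `I` finite forces `I'` finite of at most the same
cardinality, if some ring of sections is nontrivial -/
theorem finite_and_card_le_of_iso (I I' : Type u) [Finite I]
    (β : SheafOfModules.free (R := ModSite.ringSh O) I ≅
      SheafOfModules.free (R := ModSite.ringSh O) I') (V : C)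
    (hV : Nontrivial (O.obj.obj (op V))) : Finite I' ∧ Nat.card I' ≤ Nat.card I := by
  classical
  haveI := Fintype.ofFinite I
  have key : ∀ s : Finset I', s.card ≤ Fintype.card I := by
    intro s
    have h := card_le_of_splitMono O (↥s : Type u) I
      (SheafOfModules.freeMap (R := ModSite.ringSh O) (Subtype.val : (↥s : Type u) → I') ≫ β.inv)
      (β.hom ≫ retr s) (by
        rw [Category.assoc, Iso.inv_hom_id_assoc, freeMap_retr]) V hV
    simpa using h
  have hfin : Finite I' := by
    by_contra hinf
    rw [not_finite_iff_infinite] at hinf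
    obtain ⟨s, hs⟩ := Infinite.exists_subset_card_eq I' (Fintype.card I + 1)
    have := key s
    omega
  refine ⟨hfin, ?_⟩
  haveI := Fintype.ofFinite I'
  rw [Nat.card_eq_fintype_card, Nat.card_eq_fintype_card]
  have := key Finset.univ
  rwa [Finset.card_univ] at this

/-- invariance of the rank of free modules on a ringed site with a nontrivial ring of sections -/
theorem enatCard_eq_of_iso (I I' : Type u)
    (β : SheafOfModules.free (R := ModSite.ringSh O) I ≅
      SheafOfModules.free (R := ModSite.ringSh O) I') (V : C)
    (hV : Nontrivial (O.obj.obj (op V))) : ENat.card I = ENat.card I' := by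
  by_cases hI : Finite I
  · obtain ⟨hI', h1⟩ := finite_and_card_le_of_iso O I I' β V hV
    obtain ⟨-, h2⟩ := finite_and_card_le_of_iso O I' I β.symm V hV
    rw [ENat.card_eq_coe_natCard, ENat.card_eq_coe_natCard, le_antisymm h2 h1]
  · have hI' : ¬ Finite I' := by
      intro hfin
      exact hI (finite_and_card_le_of_iso O I' I β.symm V hV).1
    rw [not_finite_iff_infinite] at hI hI'
    rw [ENat.card_eq_top_of_infinite, ENat.card_eq_top_of_infinite]

end General

section Top

open TopologicalSpace

variable {X : TopCat.{u}} (O : TopCat.Sheaf CommRingCat.{u} X)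

/-- two trivialisations of a module near a point with nonzero stalk have the same rank -/
theorem enatCard_eq_of_trivialisations (hO : ∀ x : X, Nontrivial (O.presheaf.stalk x))
    (F : ModSite.Mod O) (x : X) (U U' : Opens X) (I I' : Type u) (hx : x ∈ U) (hx' : x ∈ U')
    (α : (ModSite.restr O U).obj F ≅ SheafOfModules.free I)
    (α' : (ModSite.restr O U').obj F ≅ SheafOfModules.free I') :
    ENat.card I = ENat.card I' := by
  let W : Opens X := U ⊓ U'
  have hxW : x ∈ W := ⟨hx, hx'⟩
  let f : W ⟶ U := homOfLE inf_le_left
  let f' : W ⟶ U' := homOfLE inf_le_right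
  let G := restrictGen F f (genOfIso α)
  let G' := restrictGen F f' (genOfIso α')
  have hα : IsIso (genOfIso α).π := inferInstance
  have hα' : IsIso (genOfIso α').π := inferInstance
  have hG : IsIso G.π := @isIso_restrictGen_π _ _ _ _ _ F _ _ f (genOfIso α) hα
  have hG' : IsIso G'.π := @isIso_restrictGen_π _ _ _ _ _ F _ _ f' (genOfIso α') hα'
  let a : SheafOfModules.free (R := ModSite.ringSh (O.over W)) I ≅ F.over W :=
    @asIso _ _ _ _ G.π hG
  let a' : SheafOfModules.free (R := ModSite.ringSh (O.over W)) I' ≅ F.over W :=
    @asIso _ _ _ _ G'.π hG'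
  have hnt : Nontrivial (O.obj.obj (op W)) := by
    haveI := hO x
    exact (O.presheaf.germ W x hxW).hom.domain_nontrivial
  exact enatCard_eq_of_iso (O.over W) I I' (a ≪≫ a'.symm) (Over.mk (𝟙 W)) hnt

theorem main_S6858 (hO : ∀ x : X, Nontrivial (O.presheaf.stalk x)) (F : ModSite.Mod O)
    [SheafOfModules.IsLocallyFree (R := ModSite.ringSh O) F] :
    ∃ rk : X → ℕ∞, IsLocallyConstant rk ∧
      ∀ (x : X) (U : Opens X) (I : Type u), x ∈ U →
        Nonempty ((ModSite.restr O U).obj F ≅ SheafOfModules.free I) → ENat.card I = rk x := by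
  classical
  let P : X → Prop := fun x => ∃ (U : Opens X) (I : Type u), x ∈ U ∧
    Nonempty ((ModSite.restr O U).obj F ≅ SheafOfModules.free I)
  let rk : X → ℕ∞ := fun x => if h : P x then ENat.card h.choose_spec.choose else 0
  have hrk : ∀ (x : X) (U : Opens X) (I : Type u), x ∈ U →
      Nonempty ((ModSite.restr O U).obj F ≅ SheafOfModules.free I) → ENat.card I = rk x := by
    intro x U I hx hI
    have hP : P x := ⟨U, I, hx, hI⟩
    have h1 : rk x = ENat.card hP.choose_spec.choose := dif_pos hP
    rw [h1]
    obtain ⟨hx', hI'⟩ := hP.choose_spec.choose_spec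
    exact enatCard_eq_of_trivialisations O hO F x U hP.choose I hP.choose_spec.choose hx hx'
      hI.some hI'.some
  refine ⟨rk, ?_, hrk⟩
  rw [IsLocallyConstant.iff_exists_open]
  intro x
  obtain ⟨q, hq⟩ := SheafOfModules.IsLocallyFree.exists_isLocallyFreeData (R := ModSite.ringSh O)
    (M := F)
  have cov := q.coversTop
  rw [Opens.coversTop_iff, IsOpenCover] at cov
  have hx₁ : x ∈ (⨆ i, q.X i : Opens X) := by rw [cov]; trivial
  obtain ⟨i, hi⟩ := Opens.mem_iSup.1 hx₁
  have hiso : IsIso (q.generators i).π := hq.isIso i
  have hI : Nonempty ((ModSite.restr O (q.X i)).obj F ≅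
      SheafOfModules.free (q.generators i).I) := ⟨(@asIso _ _ _ _ (q.generators i).π hiso).symm⟩
  refine ⟨q.X i, (q.X i).isOpen, hi, fun y hy => ?_⟩
  rw [← hrk y (q.X i) _ hy hI, ← hrk x (q.X i) _ hi hI]

end Top

end Groth.Agent.Lib.T2H8.ModFreeRank
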