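import Mathlib
import Groth.Prelude.Def_ModSite2
import Groth.Agent.Lib.T2H8ModFreeRank

/-!
# Calculus of finite free modules on a ringed site with a terminal object (helper8, team 2)

Morphisms `free I ⟶ N` correspond to `I`-families of elements of `N(t)`, `t` the terminal object;
endomorphisms of `free I` given by matrices; the matrix of an endomorphism of a module isomorphic
to `free I`; splitting of a retract of `free I` whose idempotent is "diagonalised".
-/

set_option autoImplicit false
set_option linter.unusedSectionVars false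
set_option linter.style.haveILetI false
universe u
open CategoryTheory CategoryTheory.Limits Opposite

namespace Groth.Agent.Lib.T2H8.ModFreeTop

open Groth.Agent.Lib.T2H8.ModCoprodSec Groth.Agent.Lib.T2H8.ModFTExt
  Groth.Agent.Lib.T2H8.ModFreeEndo Groth.Agent.Lib.T2H8.ModFreeRank

variable {C : Type u} [SmallCategory C] {J : GrothendieckTopology C} {O : Sheaf J CommRingCat.{u}}
  {t : C} (ht : IsTerminal t)

section Sections

/-- the section determined by its value at the terminal object -/
noncomputable def secOfTop (N : ModSite.Mod O) (n : N.val.obj (op t)) : N.sections :=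
  PresheafOfModules.sectionsMk (M := N.val)
    (fun Z => N.val.restrictₛₗ (ht.from Z.unop).op n) (by
      intro Y Y' g
      change N.val.restrictₛₗ g (N.val.restrictₛₗ (ht.from Y.unop).op n) = _
      have h1 : (ht.from Y'.unop).op = (ht.from Y.unop).op ≫ g := by
        have h2 : ht.from Y'.unop = g.unop ≫ ht.from Y.unop := ht.hom_ext _ _
        rw [h2]
        rfl
      rw [h1, Groth.Agent.Lib.Helper23FreeOn.restr_comp])

/-- sections of a sheaf of modules on a site with a terminal object are the elements over it -/
noncomputable def topEquiv (N : ModSite.Mod O) : N.sections ≃ N.val.obj (op t) where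
  toFun s := s.val (op t)
  invFun := secOfTop ht N
  left_inv s := by
    ext Z
    exact PresheafOfModules.sections_property s (ht.from Z.unop).op
  right_inv n := by
    change N.val.restrictₛₗ (ht.from t).op n = n
    have h1 : ht.from t = 𝟙 t := ht.hom_ext _ _
    rw [h1]
    change N.val.map (𝟙 (op t)) n = n
    rw [N.val.map_id]
    rfl

variable (I : Type u)

/-- the basic elements of `free I` over the terminal object -/
noncomputable def eps (k : I) :
    (SheafOfModules.free (R := ModSite.ringSh O) I).val.obj (op t) :=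
  (SheafOfModules.freeSection (R := ModSite.ringSh O) k).val (op t)

lemma eps_eq (k : I) : eps (O := O) (t := t) I k =
    ((SheafOfModules.freeCofan (R := ModSite.ringSh O) I).inj k).val.app (op t)
      (1 : (ModSite.ringSh O).obj.obj (op t)) := by
  unfold eps SheafOfModules.freeSection
  have h1 : (SheafOfModules.free (R := ModSite.ringSh O) I).freeHomEquiv (𝟙 _) k =
      (SheafOfModules.free (R := ModSite.ringSh O) I).unitHomEquiv
        (SheafOfModules.ιFree k ≫ 𝟙 _) := rfl
  rw [h1, Category.comp_id]
  rfl

/-- morphisms out of a free module are families of elements over the terminal object -/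
noncomputable def freeTopEquiv (N : ModSite.Mod O) :
    (SheafOfModules.free (R := ModSite.ringSh O) I ⟶ N) ≃ (I → N.val.obj (op t)) :=
  (N.freeHomEquiv).trans (Equiv.piCongrRight fun _ => topEquiv ht N)

lemma freeTopEquiv_apply (N : ModSite.Mod O)
    (f : SheafOfModules.free (R := ModSite.ringSh O) I ⟶ N) (k : I) :
    freeTopEquiv ht I N f k = f.val.app (op t) (eps I k) := rfl

lemma freeTopEquiv_symm_app_eps (N : ModSite.Mod O) (s : I → N.val.obj (op t)) (k : I) :
    ((freeTopEquiv ht I N).symm s).val.app (op t) (eps I k) = s k := by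
  rw [← freeTopEquiv_apply, Equiv.apply_symm_apply]

include ht in
lemma hom_ext_eps {N : ModSite.Mod O}
    (f g : SheafOfModules.free (R := ModSite.ringSh O) I ⟶ N)
    (h : ∀ k, f.val.app (op t) (eps I k) = g.val.app (op t) (eps I k)) : f = g := by
  apply (freeTopEquiv ht I N).injective
  funext k
  exact h k

end Sections

section Coordinates

variable (I : Type u) [Fintype I]

/-- the `k`-th coordinate of an element of `free I` over the terminal object -/
noncomputable def coord (k : I) :
    (SheafOfModules.free (R := ModSite.ringSh O) I).val.obj (op t) →ₗ[(ModSite.ringSh O).obj.obj (op t)]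
      (ModSite.ringSh O).obj.obj (op t) :=
  ((proj (SheafOfModules.freeCofan (R := ModSite.ringSh O) I)
    (SheafOfModules.isColimitFreeCofan (R := ModSite.ringSh O) I) k).val.app (op t)).hom

lemma coord_eps [DecidableEq I] (j k : I) :
    coord (O := O) (t := t) I j (eps I k) = if k = j then 1 else 0 := by
  rw [eps_eq]
  let c := SheafOfModules.freeCofan (R := ModSite.ringSh O) I
  let hc := SheafOfModules.isColimitFreeCofan (R := ModSite.ringSh O) I
  by_cases hkj : k = j
  · subst hkj
    rw [if_pos rfl]
    exact congrArg (fun χ : SheafOfModules.unit (ModSite.ringSh O) ⟶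
      SheafOfModules.unit (ModSite.ringSh O) => χ.val.app (op t)
        (1 : (ModSite.ringSh O).obj.obj (op t))) (inj_proj_self c hc k)
  · rw [if_neg hkj]
    exact congrArg (fun χ : SheafOfModules.unit (ModSite.ringSh O) ⟶
      SheafOfModules.unit (ModSite.ringSh O) => χ.val.app (op t)
        (1 : (ModSite.ringSh O).obj.obj (op t))) (inj_proj_ne c hc hkj)

/-- every element of `free I` over the terminal object is the combination of the basic elements
with its coordinates -/
lemma eq_sum_coord_eps (s : (SheafOfModules.free (R := ModSite.ringSh O) I).val.obj (op t)) :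
    s = ∑ k, coord (O := O) (t := t) I k s • eps I k := by
  let c := SheafOfModules.freeCofan (R := ModSite.ringSh O) I
  let hc := SheafOfModules.isColimitFreeCofan (R := ModSite.ringSh O) I
  have h1 := congrArg (evalHom c.pt c.pt t s) (sum_proj_inj c hc)
  rw [map_sum] at h1
  have h2 : s = ∑ k, (c.inj k).val.app (op t) ((proj c hc k).val.app (op t) s) := h1.symm
  refine h2.trans (Finset.sum_congr rfl (fun k _ => ?_))
  rw [eps_eq]
  set a : (ModSite.ringSh O).obj.obj (op t) := (proj c hc k).val.app (op t) s with ha
  have hak : coord (O := O) (t := t) I k s = a := rfl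
  rw [hak]
  have h4 : a = a • (1 : (ModSite.ringSh O).obj.obj (op t)) := (mul_one a).symm
  conv_lhs => rw [h4]
  exact ((c.inj k).val.app (op t)).hom.map_smul a _

/-- two linear maps out of `free I` over the terminal object agreeing on the basic elements
agree -/
lemma linearMap_ext_eps {M : Type*} [AddCommGroup M] [Module ((ModSite.ringSh O).obj.obj (op t)) M]
    (f g : (SheafOfModules.free (R := ModSite.ringSh O) I).val.obj (op t)
      →ₗ[(ModSite.ringSh O).obj.obj (op t)] M)
    (h : ∀ k, f (eps I k) = g (eps I k)) : f = g := by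
  ext s
  rw [eq_sum_coord_eps I s, map_sum, map_sum]
  refine Finset.sum_congr rfl (fun k _ => ?_)
  rw [map_smul, map_smul, h k]

end Coordinates

section MatEnd

/-- a morphism of sheaves of modules which is injective on all sections is a monomorphism -/
lemma mono_of_injective_app {F G : ModSite.Mod O} (φ : F ⟶ G)
    (h : ∀ V : C, Function.Injective (φ.val.app (op V))) : Mono φ := by
  apply Preadditive.mono_of_cancel_zero
  intro T g hg
  apply SheafOfModules.hom_ext
  apply PresheafOfModules.hom_ext
  intro V
  ext x
  apply h V.unop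
  have h2 := congrArg (fun χ : T ⟶ G => χ.val.app V x) hg
  refine h2.trans ?_
  exact (map_zero (φ.val.app (op V.unop)).hom).symm

variable (I : Type u) [Fintype I] [DecidableEq I]

/-- the endomorphism of `free I` given by a matrix of elements of `O(t)` -/
noncomputable def matEnd (y : I → I → (ModSite.ringSh O).obj.obj (op t)) :
    SheafOfModules.free (R := ModSite.ringSh O) I ⟶ SheafOfModules.free (R := ModSite.ringSh O) I :=
  (freeTopEquiv ht I (SheafOfModules.free (R := ModSite.ringSh O) I)).symm
    (fun k => ∑ m, y k m • eps I m)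

lemma matEnd_app_eps (y : I → I → (ModSite.ringSh O).obj.obj (op t)) (k : I) :
    ((matEnd ht I y).val.app (op t)).hom (eps I k) = ∑ m, y k m • eps I m :=
  freeTopEquiv_symm_app_eps ht I _ _ k

lemma matEnd_comp_eq_id (c y : I → I → (ModSite.ringSh O).obj.obj (op t))
    (h : ∀ j m, ∑ k, c j k * y k m = if j = m then 1 else 0) :
    matEnd ht I c ≫ matEnd ht I y = 𝟙 _ := by
  apply hom_ext_eps ht I
  intro j
  change ((matEnd ht I y).val.app (op t)).hom (((matEnd ht I c).val.app (op t)).hom (eps I j)) =
    eps I j
  rw [matEnd_app_eps, map_sum]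
  have h1 : ∀ k, ((matEnd ht I y).val.app (op t)).hom (c j k • eps I k) =
      ∑ m, (c j k * y k m) • eps I m := by
    intro k
    rw [map_smul, matEnd_app_eps, Finset.smul_sum]
    exact Finset.sum_congr rfl (fun m _ => smul_smul _ _ _)
  rw [Finset.sum_congr rfl (fun k _ => h1 k), Finset.sum_comm]
  have h2 : ∀ m, ∑ k, (c j k * y k m) • eps (O := O) (t := t) I m =
      (if j = m then (1 : (ModSite.ringSh O).obj.obj (op t)) else 0) • eps I m := by
    intro m
    rw [← Finset.sum_smul, h j m]
  rw [Finset.sum_congr rfl (fun m _ => h2 m)]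
  simp

/-- a matrix endomorphism of a finite free module with a left inverse matrix is an isomorphism -/
lemma isIso_matEnd (c y : I → I → (ModSite.ringSh O).obj.obj (op t))
    (h : ∀ j m, ∑ k, c j k * y k m = if j = m then 1 else 0) : IsIso (matEnd ht I y) := by
  have h1 := matEnd_comp_eq_id ht I c y h
  haveI : Mono (matEnd ht I y) :=
    mono_of_injective_app _ (fun W => injective_app_of_section O I _ _ h1 W)
  haveI : IsSplitEpi (matEnd ht I y) := IsSplitEpi.mk' ⟨matEnd ht I c, h1⟩
  exact isIso_of_mono_of_epi _

end MatEnd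

section Matrix

variable (t) (I : Type u) [Fintype I] [DecidableEq I] {N : ModSite.Mod O}
  (π : SheafOfModules.free (R := ModSite.ringSh O) I ≅ N)

/-- the basis of `N(t)` given by an isomorphism with a free module -/
noncomputable def bas (k : I) : N.val.obj (op t) := (π.hom.val.app (op t)).hom (eps I k)

/-- the coordinate functionals of `N(t)` given by an isomorphism with a free module -/
noncomputable def coordN (m : I) :
    N.val.obj (op t) →ₗ[(ModSite.ringSh O).obj.obj (op t)] (ModSite.ringSh O).obj.obj (op t) :=
  (coord I m) ∘ₗ (π.inv.val.app (op t)).hom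

lemma inv_app_bas (k : I) : (π.inv.val.app (op t)).hom (bas t I π k) = eps I k :=
  congrArg (fun χ : SheafOfModules.free (R := ModSite.ringSh O) I ⟶
    SheafOfModules.free (R := ModSite.ringSh O) I => χ.val.app (op t) (eps I k)) π.hom_inv_id

lemma coordN_bas (m k : I) :
    coordN t I π m (bas t I π k) = if k = m then 1 else 0 := by
  change coord I m ((π.inv.val.app (op t)).hom (bas t I π k)) = _
  rw [inv_app_bas, coord_eps]

lemma eq_sum_coordN_bas (s : N.val.obj (op t)) : s = ∑ m, coordN t I π m s • bas t I π m := by
  have h1 : (π.hom.val.app (op t)).hom ((π.inv.val.app (op t)).hom s) = s :=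
    congrArg (fun χ : N ⟶ N => χ.val.app (op t) s) π.inv_hom_id
  have h2 := eq_sum_coord_eps (O := O) (t := t) I ((π.inv.val.app (op t)).hom s)
  rw [h2, map_sum] at h1
  refine h1.symm.trans (Finset.sum_congr rfl (fun m _ => ?_))
  rw [map_smul]
  rfl

lemma coordN_of_eq_sum (s : N.val.obj (op t)) (a : I → (ModSite.ringSh O).obj.obj (op t))
    (h : s = ∑ m, a m • bas t I π m) (m : I) : coordN t I π m s = a m := by
  rw [h, map_sum]
  simp only [map_smul, coordN_bas, smul_eq_mul, mul_ite, mul_one, mul_zero]
  simp

/-- the matrix of an endomorphism of a module isomorphic to a finite free module -/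
noncomputable def mat (e : N ⟶ N) (m l : I) : (ModSite.ringSh O).obj.obj (op t) :=
  coordN t I π m ((e.val.app (op t)).hom (bas t I π l))

lemma app_bas (e : N ⟶ N) (l : I) :
    (e.val.app (op t)).hom (bas t I π l) = ∑ m, mat t I π e m l • bas t I π m :=
  eq_sum_coordN_bas t I π _

lemma mat_idem (e : N ⟶ N) (he : e ≫ e = e) (m l : I) :
    ∑ j, mat t I π e j l * mat t I π e m j = mat t I π e m l := by
  have h1 : (e.val.app (op t)).hom ((e.val.app (op t)).hom (bas t I π l)) =
      (e.val.app (op t)).hom (bas t I π l) :=
    congrArg (fun χ : N ⟶ N => χ.val.app (op t) (bas t I π l)) he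
  have h2 : mat t I π e m l =
      coordN t I π m ((e.val.app (op t)).hom ((e.val.app (op t)).hom (bas t I π l))) := by
    rw [h1]
    rfl
  rw [h2, app_bas, map_sum, map_sum]
  refine Finset.sum_congr rfl (fun j _ => ?_)
  rw [map_smul, map_smul]
  rfl

end Matrix

section Split

variable (I : Type u) [Fintype I] [DecidableEq I]

lemma retr_app_eps (T : Finset I) (k : I) :
    ((retr (R := ModSite.ringSh O) T).val.app (op t)).hom (eps I k) =
      if h : k ∈ T then eps (↥T : Type u) ⟨k, h⟩ else 0 := by
  have h1 : SheafOfModules.sectionsMap (retr (R := ModSite.ringSh O) T)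
      (SheafOfModules.freeSection k) =
      if h : k ∈ T then SheafOfModules.freeSection ⟨k, h⟩ else zs _ := by
    unfold retr
    rw [SheafOfModules.sectionsMap_freeHomEquiv_symm_freeSection]
    by_cases h : k ∈ T
    · rw [dif_pos h, dif_pos h]
    · rw [dif_neg h, dif_neg h]
  have h2 := congrArg (fun σ : (SheafOfModules.free (R := ModSite.ringSh O) (↥T : Type u)).sections =>
    σ.val (op t)) h1
  refine Eq.trans ?_ (h2.trans ?_)
  · rfl
  · by_cases h : k ∈ T
    · simp only [dif_pos h]
      rfl
    · simp only [dif_neg h]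
      rfl

lemma freeMap_app_eps {I' : Type u} (f : I' → I) (k : I') :
    ((SheafOfModules.freeMap (R := ModSite.ringSh O) f).val.app (op t)).hom (eps I' k) =
      eps I (f k) := by
  have h1 := SheafOfModules.sectionMap_freeMap_freeSection (R := ModSite.ringSh O) f k
  exact congrArg (fun σ : (SheafOfModules.free (R := ModSite.ringSh O) I).sections =>
    σ.val (op t)) h1

include ht in
/-- a retract of a module isomorphic to a finite free module, whose idempotent is diagonalised by
an invertible matrix over the ring of sections over the terminal object, is free -/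
theorem nonempty_iso_free_of_split {F' N : ModSite.Mod O}
    (π : SheafOfModules.free (R := ModSite.ringSh O) I ≅ N) (i' : F' ⟶ N) (p' : N ⟶ F')
    (hip : i' ≫ p' = 𝟙 F') (T : Finset I) (c y : I → I → (ModSite.ringSh O).obj.obj (op t))
    (hcy : ∀ j m, ∑ k, c j k * y k m = if j = m then 1 else 0)
    (hT : ∀ k ∈ T, ∀ m, ∑ j, y k j * mat t I π (p' ≫ i') m j = y k m)
    (hT' : ∀ k, k ∉ T → ∀ m, ∑ j, y k j * mat t I π (p' ≫ i') m j = 0) :
    Nonempty (F' ≅ SheafOfModules.free (R := ModSite.ringSh O) (↥T : Type u)) := by
  set e : N ⟶ N := p' ≫ i' with he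
  haveI := isIso_matEnd ht I c y hcy
  let υ : SheafOfModules.free (R := ModSite.ringSh O) I ≅ N := asIso (matEnd ht I y) ≪≫ π
  -- the images of the basic elements
  have hυ : ∀ k, (υ.hom.val.app (op t)).hom (eps I k) = ∑ m, y k m • bas t I π m := by
    intro k
    change (π.hom.val.app (op t)).hom (((matEnd ht I y).val.app (op t)).hom (eps I k)) = _
    rw [matEnd_app_eps, map_sum]
    refine Finset.sum_congr rfl (fun m _ => ?_)
    rw [map_smul]
    rfl
  have heυ : ∀ k, (e.val.app (op t)).hom ((υ.hom.val.app (op t)).hom (eps I k)) =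
      ∑ m, (∑ j, y k j * mat t I π e m j) • bas t I π m := by
    intro k
    rw [hυ, map_sum]
    have h1 : ∀ j, (e.val.app (op t)).hom (y k j • bas t I π j) =
        ∑ m, (y k j * mat t I π e m j) • bas t I π m := by
      intro j
      rw [map_smul, app_bas, Finset.smul_sum]
      exact Finset.sum_congr rfl (fun m _ => smul_smul _ _ _)
    rw [Finset.sum_congr rfl (fun j _ => h1 j), Finset.sum_comm]
    exact Finset.sum_congr rfl (fun m _ => (Finset.sum_smul).symm)
  let ι := SheafOfModules.freeMap (R := ModSite.ringSh O) (Subtype.val : (↥T : Type u) → I)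
  let ρ := retr (R := ModSite.ringSh O) T
  have hιρ : ι ≫ ρ = 𝟙 _ := freeMap_retr T
  -- the key commutation
  have hstar : υ.hom ≫ e = ρ ≫ ι ≫ υ.hom := by
    apply hom_ext_eps ht I
    intro k
    change (e.val.app (op t)).hom ((υ.hom.val.app (op t)).hom (eps I k)) =
      (υ.hom.val.app (op t)).hom ((ι.val.app (op t)).hom ((ρ.val.app (op t)).hom (eps I k)))
    rw [heυ, retr_app_eps]
    by_cases hk : k ∈ T
    · rw [dif_pos hk, freeMap_app_eps, hυ]
      exact Finset.sum_congr rfl (fun m _ => by rw [hT k hk m])
    · rw [dif_neg hk, map_zero, map_zero]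
      refine Finset.sum_eq_zero (fun m _ => ?_)
      rw [hT' k hk m, zero_smul]
  refine ⟨⟨i' ≫ υ.inv ≫ ρ, ι ≫ υ.hom ≫ p', ?_, ?_⟩⟩
  · -- i' υ⁻¹ ρ ι υ p' = i' υ⁻¹ υ e p' = i' e p' = 𝟙
    calc (i' ≫ υ.inv ≫ ρ) ≫ ι ≫ υ.hom ≫ p'
        = i' ≫ υ.inv ≫ (ρ ≫ ι ≫ υ.hom) ≫ p' := by simp only [Category.assoc]
      _ = i' ≫ υ.inv ≫ (υ.hom ≫ e) ≫ p' := by rw [hstar]
      _ = (i' ≫ p') ≫ (i' ≫ p') := by
          rw [he]
          simp only [Category.assoc, Iso.inv_hom_id_assoc]
      _ = 𝟙 F' := by rw [hip, Category.id_comp]
  · calc (ι ≫ υ.hom ≫ p') ≫ i' ≫ υ.inv ≫ ρ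
        = ι ≫ (υ.hom ≫ e) ≫ υ.inv ≫ ρ := by
          rw [he]
          simp only [Category.assoc]
      _ = ι ≫ (ρ ≫ ι ≫ υ.hom) ≫ υ.inv ≫ ρ := by rw [hstar]
      _ = (ι ≫ ρ) ≫ (ι ≫ ρ) := by
          simp only [Category.assoc, Iso.hom_inv_id_assoc]
      _ = 𝟙 _ := by rw [hιρ, Category.id_comp]

end Split

end Groth.Agent.Lib.T2H8.ModFreeTop
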