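import Mathlib
import Groth.Prelude.Def_ModSite2
import Groth.Prelude.Def_AlgSpPerf
import Groth.Agent.Lib.Helper23FreeOn
import Groth.Agent.Lib.Helper21RestrExact
import Groth.Agent.Lib.Helper4ModEpi

/-!
# Local lifting of maps out of (summands of) finite free modules through epimorphisms
-/

set_option autoImplicit false
universe u
open CategoryTheory CategoryTheory.Limits Opposite

namespace Groth.Agent.Lib.T2H8.ModLocLift

open Groth.Agent.Lib.Helper23FreeOn

variable {C : Type u} [SmallCategory C] {J : GrothendieckTopology C} (O : Sheaf J CommRingCat.{u})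

/-- the map `O_W ⟶ M|_W` given by a section of `M` over `W` -/
noncomputable def ofSecW (W : C) (M : ModSite.Mod O) (t : M.val.obj (op W)) :
    SheafOfModules.unit (ModSite.ringSh (O.over W)) ⟶ (ModSite.restr O W).obj M :=
  ((ModSite.restr O W).obj M).unitHomEquiv.symm (sec O M W t)

lemma ofSecW_comp (W : C) {M N : ModSite.Mod O} (f : M ⟶ N) (t : M.val.obj (op W)) :
    ofSecW O W M t ≫ (ModSite.restr O W).map f = ofSecW O W N (f.val.app (op W) t) := by
  unfold ofSecW
  rw [SheafOfModules.unitHomEquiv_symm_comp, sectionsMap_sec]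

/-- the value at `1` of a map out of the structure sheaf -/
noncomputable def gen {M : ModSite.Mod O} (v : SheafOfModules.unit (ModSite.ringSh O) ⟶ M)
    (W : C) : M.val.obj (op W) :=
  v.val.app (op W) (1 : (ModSite.ringSh O).obj.obj (op W))

lemma gen_restrict {M : ModSite.Mod O} (v : SheafOfModules.unit (ModSite.ringSh O) ⟶ M)
    {V W : C} (g : W ⟶ V) : M.val.restrictₛₗ g.op (gen O v V) = gen O v W := by
  unfold gen
  have h := PresheafOfModules.naturality_apply v.val g.op
    (1 : (ModSite.ringSh O).obj.obj (op V))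
  refine h.symm.trans ?_
  congr 1
  exact map_one ((ModSite.ringSh O).obj.map g.op).hom

lemma restr_map_unit (W : C) {M : ModSite.Mod O}
    (v : SheafOfModules.unit (ModSite.ringSh O) ⟶ M) :
    (ModSite.restr O W).map v = ofSecW O W M (gen O v W) := by
  apply ((ModSite.restr O W).obj M).unitHomEquiv.injective
  unfold ofSecW
  rw [Equiv.apply_symm_apply]
  ext Y
  rw [SheafOfModules.unitHomEquiv_apply_coe]
  have h1 := restr_map_app_toRestr O v W Y (1 : (ModSite.ringSh O).obj.obj (op Y.unop.left))
  refine h1.trans ?_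
  change _ = toRestr O M W Y (M.val.restrictₛₗ Y.unop.hom.op (gen O v W))
  rw [gen_restrict]
  rfl

/-- a finite intersection of covering sieves is covering -/
theorem exists_common_sieve {ι : Type*} [Finite ι] (V : C) (R : ι → Sieve V)
    (hR : ∀ k, R k ∈ J V) : ∃ S ∈ J V, ∀ k, S ≤ R k := by
  classical
  induction ι using Finite.induction_empty_option with
  | of_equiv e ih =>
    obtain ⟨S, hS, h⟩ := ih (fun k => R (e k)) (fun k => hR _)
    exact ⟨S, hS, fun k => by simpa using h (e.symm k)⟩
  | h_empty => exact ⟨⊤, J.top_mem V, fun k => k.elim⟩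
  | h_option ih =>
    obtain ⟨S, hS, h⟩ := ih (fun k => R (some k)) (fun k => hR _)
    refine ⟨S ⊓ R none, J.intersection_covering hS (hR none), fun k => ?_⟩
    cases k with
    | none => exact inf_le_right
    | some k => exact inf_le_left.trans (h k)

/-- sections of the target of an epimorphism lift locally -/
theorem exists_sieve_lift {G F : ModSite.Mod O} (p : G ⟶ F) [Epi p] (V : C)
    (s : F.val.obj (op V)) :
    ∃ S ∈ J V, ∀ ⦃W : C⦄ (g : W ⟶ V), S g →
      ∃ t : G.val.obj (op W), p.val.app (op W) t = F.val.restrictₛₗ g.op s := by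
  haveI := Groth.Agent.Lib.Helper4.ModEpi.isLocallySurjective_of_epi p
  refine ⟨Presheaf.imageSieve ((PresheafOfModules.toPresheaf _).map p.val) s,
    Presheaf.imageSieve_mem J ((PresheafOfModules.toPresheaf _).map p.val) (U := op V) s, ?_⟩
  intro W g hg
  obtain ⟨t, ht⟩ := hg
  exact ⟨t, ht⟩

/-- maps out of a finite free module lift locally through an epimorphism -/
theorem exists_lift_free {G F : ModSite.Mod O} (p : G ⟶ F) [Epi p] (n : ℕ)
    (φ : SheafOfModules.free (R := ModSite.ringSh O) (ULift.{u} (Fin n)) ⟶ F) (V : C) :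
    ∃ R ∈ J V, ∀ ⦃W : C⦄ (g : W ⟶ V), R g →
      ∃ l : (ModSite.restr O W).obj (SheafOfModules.free (R := ModSite.ringSh O)
          (ULift.{u} (Fin n))) ⟶ (ModSite.restr O W).obj G,
        l ≫ (ModSite.restr O W).map p = (ModSite.restr O W).map φ := by
  classical
  have h1 := fun k : ULift.{u} (Fin n) =>
    exists_sieve_lift O p V (gen O (SheafOfModules.ιFree k ≫ φ) V)
  choose S hS hlift using h1
  obtain ⟨R, hR, hle⟩ := exists_common_sieve V S hS
  refine ⟨R, hR, fun W g hg => ?_⟩
  have h2 := fun k : ULift.{u} (Fin n) => hlift k g (hle k _ hg)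
  choose t ht using h2
  have hc := isColimitCofanMkObjOfIsColimit (ModSite.restr O W) _
    (fun k : ULift.{u} (Fin n) => SheafOfModules.ιFree (R := ModSite.ringSh O) k)
    (SheafOfModules.isColimitFreeCofan (R := ModSite.ringSh O) (ULift.{u} (Fin n)))
  refine ⟨Cofan.IsColimit.desc hc (fun k => ofSecW O W G (t k)), ?_⟩
  apply Cofan.IsColimit.hom_ext hc
  intro k
  rw [Cofan.IsColimit.fac_assoc]
  change _ = (ModSite.restr O W).map (SheafOfModules.ιFree k) ≫ (ModSite.restr O W).map φ
  rw [← Functor.map_comp, restr_map_unit]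
  refine (ofSecW_comp O W p (t k)).trans ?_
  rw [ht k, gen_restrict]

/-- maps out of a direct summand of a finite free module lift locally through an epimorphism -/
theorem exists_lift_summand (E F G : ModSite.Mod O)
    (hE : DCoh.IsFinFreeSummandMod (ModSite.ringSh O) E)
    (p : G ⟶ F) [Epi p] (φ : E ⟶ F) (V : C) :
    ∃ R ∈ J V, ∀ ⦃W : C⦄ (g : W ⟶ V), R g →
      ∃ l : (ModSite.restr O W).obj E ⟶ (ModSite.restr O W).obj G,
        l ≫ (ModSite.restr O W).map p = (ModSite.restr O W).map φ := by
  obtain ⟨n, i, q, hiq⟩ := hE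
  obtain ⟨R, hR, h⟩ := exists_lift_free O p n (q ≫ φ) V
  refine ⟨R, hR, fun W g hg => ?_⟩
  obtain ⟨l, hl⟩ := h g hg
  refine ⟨(ModSite.restr O W).map i ≫ l, ?_⟩
  rw [Category.assoc, hl, ← Functor.map_comp, ← Category.assoc, hiq, Category.id_comp]

theorem main_S9041
    {C : Type u} [SmallCategory C] {J : GrothendieckTopology C} (O : Sheaf J CommRingCat.{u})
    (E F G : ModSite.Mod O) (hE : DCoh.IsFinFreeSummandMod (ModSite.ringSh O) E)
    (p : G ⟶ F) [Epi p] (φ : E ⟶ F) (V : C) :
    ∃ R ∈ J V, ∀ ⦃W : C⦄ (g : W ⟶ V), R g →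
      ∃ l : (ModSite.restr O W).obj E ⟶ (ModSite.restr O W).obj G,
        l ≫ (ModSite.restr O W).map p = (ModSite.restr O W).map φ :=
  exists_lift_summand O E F G hE p φ V

end Groth.Agent.Lib.T2H8.ModLocLift
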