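import Mathlib
import Groth.Prelude.Def_ModSite2
import Groth.Prelude.Def_AlgSpPerf
import Groth.Agent.Lib.Helper21RestrExact
import Groth.Agent.Lib.T2H8ModLocLift
import Groth.Agent.Lib.T2H8LocHtpy
import Groth.Agent.Lib.Helper17PCoh10

/-!
# Ringed sites: maps out of strictly perfect complexes are locally null-homotopic / lift locally
-/

set_option autoImplicit false
universe u
open CategoryTheory CategoryTheory.Limits Opposite

namespace Groth.Agent.Lib.T2H8.ModLocHtpy

open Groth.Agent.Lib.T2H8.LocHtpy Groth.Agent.Lib.T2H8.ModLocLift Groth.Agent.Lib.Helper23FreeOn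

variable {C : Type u} [SmallCategory C] {J : GrothendieckTopology C} (O : Sheaf J CommRingCat.{u})

/-- restriction of modules along `g : W' ⟶ W` -/
noncomputable abbrev rho {W W' : C} (g : W' ⟶ W) :
    ModSite.Mod (O.over W) ⥤ ModSite.Mod (O.over W') :=
  SheafOfModules.overMap (ModSite.ringSh O) g

/-- restricting to `W` and then along `g : W' ⟶ W` is restricting to `W'` -/
noncomputable abbrev eg {W W' : C} (g : W' ⟶ W) :
    ModSite.restr O W ⋙ rho O g ≅ ModSite.restr O W' :=
  SheafOfModules.overFunctorMap (ModSite.ringSh O) g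

instance rho_additive {W W' : C} (g : W' ⟶ W) : (rho O g).Additive where
  map_add := by
    intro M N f f'
    rfl

lemma resHom_ofSecW {W W' : C} (g : W' ⟶ W) (M : ModSite.Mod O) (s : M.val.obj (op W)) :
    resHom (eg O g) (M := SheafOfModules.unit (ModSite.ringSh O)) (N := M) (ofSecW O W M s) =
      ofSecW O W' M (M.val.restrictₛₗ g.op s) := by
  apply ((ModSite.restr O W').obj M).unitHomEquiv.injective
  refine Eq.trans ?_ (Equiv.apply_symm_apply _ _).symm
  ext Y
  rw [SheafOfModules.unitHomEquiv_apply_coe]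
  have h1 : ((ModSite.restr O W).obj M).unitHomEquiv (ofSecW O W M s) = sec O M W s :=
    Equiv.apply_symm_apply _ _
  have h2 := congrArg (fun σ : ((ModSite.restr O W).obj M).sections =>
    σ.val (op ((Over.map g).obj Y.unop))) h1
  simp only [SheafOfModules.unitHomEquiv_apply_coe] at h2
  refine Eq.trans ?_ (h2.trans ?_)
  · rfl
  · change toRestr O M W (op ((Over.map g).obj Y.unop))
      (M.val.restrictₛₗ ((Over.map g).obj Y.unop).hom.op s) =
      toRestr O M W' Y (M.val.restrictₛₗ Y.unop.hom.op (M.val.restrictₛₗ g.op s))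
    rw [← restr_comp]
    rfl

/-- every map `O_W ⟶ M|_W` comes from a section -/
lemma eq_ofSecW (W : C) (M : ModSite.Mod O)
    (v : SheafOfModules.unit (ModSite.ringSh (O.over W)) ⟶ (ModSite.restr O W).obj M) :
    v = ofSecW O W M (evalTop O M W (((ModSite.restr O W).obj M).unitHomEquiv v)) := by
  unfold ofSecW
  rw [sec_evalTop, Equiv.symm_apply_apply]

/-- relative version of `exists_lift_free`: the map to be lifted is only defined over `W` -/
theorem exists_lift_free_rel {G F : ModSite.Mod O} (p : G ⟶ F) [Epi p] (n : ℕ) (W : C)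
    (φ : (ModSite.restr O W).obj (SheafOfModules.free (R := ModSite.ringSh O)
      (ULift.{u} (Fin n))) ⟶ (ModSite.restr O W).obj F) :
    ∃ R ∈ J W, ∀ ⦃W' : C⦄ (g : W' ⟶ W), R g →
      ∃ l : (ModSite.restr O W').obj (SheafOfModules.free (R := ModSite.ringSh O)
          (ULift.{u} (Fin n))) ⟶ (ModSite.restr O W').obj G,
        l ≫ (ModSite.restr O W').map p = resHom (eg O g) φ := by
  classical
  -- the generators
  let v : ULift.{u} (Fin n) →
      (SheafOfModules.unit (ModSite.ringSh (O.over W)) ⟶ (ModSite.restr O W).obj F) :=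
    fun k => (ModSite.restr O W).map (SheafOfModules.ιFree (R := ModSite.ringSh O) k) ≫ φ
  let s : ULift.{u} (Fin n) → F.val.obj (op W) :=
    fun k => evalTop O F W (((ModSite.restr O W).obj F).unitHomEquiv (v k))
  have hv : ∀ k, v k = ofSecW O W F (s k) := fun k => eq_ofSecW O W F (v k)
  have h1 := fun k : ULift.{u} (Fin n) => exists_sieve_lift O p W (s k)
  choose S hS hlift using h1
  obtain ⟨R, hR, hle⟩ := exists_common_sieve W S hS
  refine ⟨R, hR, fun W' g hg => ?_⟩
  have h2 := fun k : ULift.{u} (Fin n) => hlift k g (hle k _ hg)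
  choose t ht using h2
  have hc := isColimitCofanMkObjOfIsColimit (ModSite.restr O W') _
    (fun k : ULift.{u} (Fin n) => SheafOfModules.ιFree (R := ModSite.ringSh O) k)
    (SheafOfModules.isColimitFreeCofan (R := ModSite.ringSh O) (ULift.{u} (Fin n)))
  refine ⟨Cofan.IsColimit.desc hc (fun k => ofSecW O W' G (t k)), ?_⟩
  apply Cofan.IsColimit.hom_ext hc
  intro k
  rw [Cofan.IsColimit.fac_assoc]
  change _ = (ModSite.restr O W').map (SheafOfModules.ιFree k) ≫ resHom (eg O g) φ
  rw [← resHom_map (eg O g) (SheafOfModules.ιFree (R := ModSite.ringSh O) k), ← resHom_comp]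
  refine (ofSecW_comp O W' p (t k)).trans ?_
  rw [ht k]
  refine (resHom_ofSecW O g F (s k)).symm.trans ?_
  rw [← hv k]
  rfl

/-- relative version of `exists_lift_summand` -/
theorem exists_lift_summand_rel (E F G : ModSite.Mod O)
    (hE : DCoh.IsFinFreeSummandMod (ModSite.ringSh O) E)
    (p : G ⟶ F) [Epi p] (W : C) (φ : (ModSite.restr O W).obj E ⟶ (ModSite.restr O W).obj F) :
    ∃ R ∈ J W, ∀ ⦃W' : C⦄ (g : W' ⟶ W), R g →
      ∃ l : (ModSite.restr O W').obj E ⟶ (ModSite.restr O W').obj G,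
        l ≫ (ModSite.restr O W').map p = resHom (eg O g) φ := by
  obtain ⟨n, i, q, hiq⟩ := hE
  obtain ⟨R, hR, h⟩ := exists_lift_free_rel O p n W ((ModSite.restr O W).map q ≫ φ)
  refine ⟨R, hR, fun W' g hg => ?_⟩
  obtain ⟨l, hl⟩ := h g hg
  refine ⟨(ModSite.restr O W').map i ≫ l, ?_⟩
  rw [Category.assoc, hl, resHom_comp, resHom_map, ← Category.assoc, ← Functor.map_comp, hiq,
    CategoryTheory.Functor.map_id, Category.id_comp]

section Induction

variable {O} {E K : CochainComplex (ModSite.Mod O) ℤ} (α : E ⟶ K)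

/-- extending a partial null-homotopy over `W` by one degree, locally on `W` -/
theorem exists_sieve_extend (i m k : ℤ) (him : i + 1 = m) (hmk : m + 1 = k)
    (hEm : DCoh.IsFinFreeSummandMod (ModSite.ringSh O) (E.X m)) (hK : K.ExactAt m) (W : C)
    (h : ∀ p q : ℤ, (ModSite.restr O W).obj (E.X p) ⟶ (ModSite.restr O W).obj (K.X q))
    (hp : IsPartial (ModSite.restr O W) α h k) :
    ∃ R ∈ J W, ∀ ⦃W' : C⦄ (g : W' ⟶ W), R g →
      ∃ h' : ∀ p q : ℤ, (ModSite.restr O W').obj (E.X p) ⟶ (ModSite.restr O W').obj (K.X q),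
        IsPartial (ModSite.restr O W') α h' m := by
  obtain ⟨Z, p, ι, hpe, hpι, hfac⟩ :=
    exists_cycles_factor (ModSite.restr O W) K i m k him hmk hK
  obtain ⟨ψ', hψ'⟩ := hfac (obs (ModSite.restr O W) α h m k)
    (obs_comp_d (ModSite.restr O W) α h m k hmk hp)
  obtain ⟨R, hR, H⟩ := exists_lift_summand_rel O (E.X m) Z (K.X i) hEm p W ψ'
  refine ⟨R, hR, fun W' g hg => ?_⟩
  obtain ⟨l, hl⟩ := H g hg
  refine ⟨extend (eg O g) h i m l, step (eg O g) α h i m k him hmk hp l ?_⟩
  rw [← hpι, Functor.map_comp, ← Category.assoc, hl, ← resHom_map (eg O g) ι, ← resHom_comp,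
    hψ']

variable (O) in
/-- locally there is a null-homotopy in degrees `≥ m` -/
def LocPartial (m : ℤ) : Prop :=
  ∀ V : C, ∃ R ∈ J V, ∀ ⦃W : C⦄ (g : W ⟶ V), R g →
    ∃ h : ∀ p q : ℤ, (ModSite.restr O W).obj (E.X p) ⟶ (ModSite.restr O W).obj (K.X q),
      IsPartial (ModSite.restr O W) α h m

theorem locPartial_step (m k : ℤ) (hmk : m + 1 = k)
    (hEm : DCoh.IsFinFreeSummandMod (ModSite.ringSh O) (E.X m)) (hK : K.ExactAt m)
    (H : LocPartial O α k) : LocPartial O α m := by
  intro V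
  obtain ⟨R, hR, H1⟩ := H V
  have H2 : ∀ (W : C) (g : W ⟶ V), R g → ∃ R' ∈ J W, ∀ ⦃W' : C⦄ (g' : W' ⟶ W), R' g' →
      ∃ h' : ∀ p q : ℤ, (ModSite.restr O W').obj (E.X p) ⟶ (ModSite.restr O W').obj (K.X q),
        IsPartial (ModSite.restr O W') α h' m := by
    intro W g hg
    obtain ⟨h, hp⟩ := H1 g hg
    exact exists_sieve_extend α (m - 1) m k (by omega) hmk hEm hK W h hp
  choose R' hR' H3 using H2
  refine ⟨Sieve.bind R (fun W g hg => R' W g hg), J.bind_covering hR (fun W g hg => hR' W g hg), ?_⟩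
  rintro W' _ ⟨W, g', g, hg, hg', rfl⟩
  exact H3 W g hg g' hg'

theorem locPartial_zero (b : ℤ) (hb : ∀ j : ℤ, b < j → IsZero (E.X j)) :
    LocPartial O α (b + 1) := by
  intro V
  exact ⟨⊤, J.top_mem V, fun W g _ => ⟨fun _ _ => 0, isPartial_zero _ α b hb⟩⟩

theorem locPartial_of_bounded (hE : ∀ j, DCoh.IsFinFreeSummandMod (ModSite.ringSh O) (E.X j))
    (a b : ℤ) (hb : ∀ j : ℤ, b < j → IsZero (E.X j)) (hK : ∀ j : ℤ, a ≤ j → K.ExactAt j) :
    ∀ n : ℕ, a ≤ b + 1 - n → LocPartial O α (b + 1 - n) := by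
  intro n
  induction n with
  | zero =>
    intro _
    simpa using locPartial_zero α b hb
  | succ n ih =>
    intro hn
    refine locPartial_step α (b + 1 - (n + 1 : ℕ)) (b + 1 - n) (by push_cast; omega) (hE _)
      (hK _ hn) (ih (by push_cast at hn; omega))

/-- a map from a strictly perfect complex vanishing below `a` to a complex exact in degrees
`≥ a` is locally null-homotopic -/
theorem locally_nullHomotopic (hE : DCoh.IsStrictlyPerfectMod (ModSite.ringSh O) E) (a : ℤ)
    (hEa : ∀ j : ℤ, j < a → IsZero (E.X j)) (hK : ∀ j : ℤ, a ≤ j → K.ExactAt j) (V : C) :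
    ∃ R ∈ J V, ∀ ⦃W : C⦄ (g : W ⟶ V), R g →
      Nonempty (Homotopy (((ModSite.restr O W).mapHomologicalComplex (ComplexShape.up ℤ)).map α)
        0) := by
  obtain ⟨⟨a', b, hab⟩, hE'⟩ := hE
  have hb : ∀ j : ℤ, b < j → IsZero (E.X j) := fun j hj => hab j (Or.inr hj)
  have key : ∃ m : ℤ, m ≤ a ∧ LocPartial O α m := by
    by_cases hc : a ≤ b + 1
    · refine ⟨a, le_rfl, ?_⟩
      have := locPartial_of_bounded α hE' a b hb hK (b + 1 - a).toNat (by omega)
      have e : b + 1 - ((b + 1 - a).toNat : ℤ) = a := by omega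
      rwa [e] at this
    · exact ⟨b + 1, by omega, locPartial_zero α b hb⟩
  obtain ⟨m, hm, H⟩ := key
  obtain ⟨R, hR, H1⟩ := H V
  refine ⟨R, hR, fun W g hg => ?_⟩
  obtain ⟨h, hp⟩ := H1 g hg
  have hp' : IsPartial (ModSite.restr O W) α h a := fun i j k hij hjk hj =>
    hp i j k hij hjk (by omega)
  exact nonempty_homotopy_of_isPartial _ α h
    (fun m' => isPartial_of_le _ α h a hEa hp' m')

end Induction

theorem main_S9046
    {C : Type u} [SmallCategory C] {J : GrothendieckTopology C} (O : Sheaf J CommRingCat.{u})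
    (E F G : CochainComplex (ModSite.Mod O) ℤ) (α : E ⟶ F) (f : G ⟶ F)
    (hE : DCoh.IsStrictlyPerfectMod (ModSite.ringSh O) E) (a : ℤ)
    (hEa : ∀ j : ℤ, j < a → IsZero (E.X j))
    (hiso : ∀ j : ℤ, a < j → IsIso (HomologicalComplex.homologyMap f j))
    (hepi : Epi (HomologicalComplex.homologyMap f a)) (V : C) :
    ∃ R ∈ J V, ∀ ⦃W : C⦄ (g : W ⟶ V), R g →
      ∃ β : ((ModSite.restr O W).mapHomologicalComplex (ComplexShape.up ℤ)).obj E ⟶
          ((ModSite.restr O W).mapHomologicalComplex (ComplexShape.up ℤ)).obj G,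
        Nonempty (Homotopy (β ≫ ((ModSite.restr O W).mapHomologicalComplex (ComplexShape.up ℤ)).map f)
          (((ModSite.restr O W).mapHomologicalComplex (ComplexShape.up ℤ)).map α)) := by
  have hK : ∀ j : ℤ, a ≤ j → (CochainComplex.mappingCone f).ExactAt j := fun j hj =>
    (HomologicalComplex.exactAt_iff_isZero_homology _ _).2
      (Groth.Agent.Lib.Helper17.PCoh10.isZero_homology_mappingCone f a ⟨hiso, hepi⟩ j hj)
  obtain ⟨R, hR, H⟩ := locally_nullHomotopic (α ≫ CochainComplex.mappingCone.inr f) hE a hEa hK V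
  refine ⟨R, hR, fun W g hg => ?_⟩
  obtain ⟨H1⟩ := H g hg
  exact exists_lift_of_homotopy_map (ModSite.restr O W) α f H1

theorem main_S9053
    {C : Type u} [SmallCategory C] {J : GrothendieckTopology C} (O : Sheaf J CommRingCat.{u})
    [HasDerivedCategory.{u} (ModSite.Mod O)] [∀ W : C, HasDerivedCategory.{u} (ModSite.Mod (O.over W))]
    [∀ W : C, (ModSite.restr O W).Additive] [∀ W : C, PreservesFiniteColimits (ModSite.restr O W)]
    (E F : CochainComplex (ModSite.Mod O) ℤ) (hE : DCoh.IsStrictlyPerfectMod (ModSite.ringSh O) E)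
    (α : DerivedCategory.Q.obj E ⟶ DerivedCategory.Q.obj F) (V : C) :
    ∃ R ∈ J V, ∀ ⦃W : C⦄ (g : W ⟶ V), R g →
      ∃ α' : ((ModSite.restr O W).mapHomologicalComplex (ComplexShape.up ℤ)).obj E ⟶
          ((ModSite.restr O W).mapHomologicalComplex (ComplexShape.up ℤ)).obj F,
        (ModSite.restr O W).mapDerivedCategory.map α =
          (ModSite.restr O W).mapDerivedCategoryFactors.hom.app E ≫ DerivedCategory.Q.map α' ≫
            (ModSite.restr O W).mapDerivedCategoryFactors.inv.app F := by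
  obtain ⟨G, s, hs, t, rfl⟩ := DerivedCategory.right_fac α
  have hq : QuasiIso s := (DerivedCategory.isIso_Q_map_iff_quasiIso _ s).1 hs
  obtain ⟨a', b, hab⟩ := hE.1
  have h0 : ∀ j : ℤ, IsIso (HomologicalComplex.homologyMap s j) := fun j =>
    (quasiIsoAt_iff_isIso_homologyMap s j).1 (hq.quasiIsoAt j)
  have h1 : ∀ j : ℤ, a' < j → IsIso (HomologicalComplex.homologyMap s j) := fun j _ => h0 j
  have h2 : Epi (HomologicalComplex.homologyMap s a') := by
    haveI := h0 a'
    infer_instance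
  obtain ⟨R, hR, H⟩ := main_S9046 O E E G (𝟙 E) s hE a' (fun j hj => hab j (Or.inl hj))
    h1 h2 V
  refine ⟨R, hR, fun W g hg => ?_⟩
  obtain ⟨β, ⟨Hβ⟩⟩ := H g hg
  exact ⟨β ≫ ((ModSite.restr O W).mapHomologicalComplex (ComplexShape.up ℤ)).map t,
    mapDerivedCategory_map_rightFrac (ModSite.restr O W) s t β Hβ⟩

end Groth.Agent.Lib.T2H8.ModLocHtpy
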