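import Mathlib
import Groth.Prelude.Def_ModSite2
import Groth.Agent.Lib.T2H8ModFreeTop

/-!
# A direct summand of a finite locally free module on a locally ringed space is finite locally free
(helper8, team 2)
-/

set_option autoImplicit false
set_option linter.unusedSectionVars false
set_option linter.style.haveILetI false
universe u
open CategoryTheory CategoryTheory.Limits Opposite

namespace Groth.Agent.Lib.T2H8.ModRetract

section Algebra

open Module

/-- an idempotent matrix over a local ring is diagonalisable: there is a basis `y k` of `R^I`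
consisting of vectors fixed or killed by the matrix -/
theorem exists_diagonalising (R : Type*) [CommRing R] [IsLocalRing R] (I : Type*) [Fintype I]
    [DecidableEq I] (E : I → I → R) (hE : ∀ m l, ∑ j, E j l * E m j = E m l) :
    ∃ (T : Finset I) (c y : I → I → R),
      (∀ j m, ∑ k, c j k * y k m = if j = m then 1 else 0) ∧
      (∀ k ∈ T, ∀ m, ∑ j, y k j * E m j = y k m) ∧
      (∀ k, k ∉ T → ∀ m, ∑ j, y k j * E m j = 0) := by
  classical
  let M : Matrix I I R := Matrix.of E
  have hMM : M * M = M := by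
    ext m l
    rw [Matrix.mul_apply]
    refine Eq.trans (Finset.sum_congr rfl (fun j _ => ?_)) (hE m l)
    exact mul_comm _ _
  let e : (I → R) →ₗ[R] (I → R) := Matrix.toLin' M
  have he : IsIdempotentElem e := by
    change e * e = e
    rw [Module.End.mul_eq_comp, ← Matrix.toLin'_mul, hMM]
  have heval : ∀ (v : I → R) (m : I), e v m = ∑ j, v j * E m j := by
    intro v m
    change (M.mulVec v) m = _
    rw [Matrix.mulVec, dotProduct]
    exact Finset.sum_congr rfl (fun j _ => mul_comm _ _)
  have hcompl : IsCompl (LinearMap.range e) (LinearMap.ker e) :=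
    LinearMap.IsIdempotentElem.isCompl he
  -- both summands are finite projective hence free
  haveI : Module.Finite R (LinearMap.range e) := Module.Finite.range e
  have hker : LinearMap.ker e = LinearMap.range (1 - e) := by
    ext v
    constructor
    · intro hv
      refine ⟨v, ?_⟩
      rw [LinearMap.sub_apply, Module.End.one_apply, LinearMap.mem_ker.1 hv, sub_zero]
    · rintro ⟨w, rfl⟩
      rw [LinearMap.mem_ker, LinearMap.sub_apply, Module.End.one_apply, map_sub]
      have : e (e w) = e w := congrArg (fun f : (I → R) →ₗ[R] (I → R) => f w) he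
      rw [this, sub_self]
  haveI : Module.Finite R (LinearMap.ker e) := by
    rw [hker]
    exact Module.Finite.range _
  let eqv := Submodule.prodEquivOfIsCompl _ _ hcompl
  haveI : Module.Projective R (LinearMap.range e × LinearMap.ker e) :=
    Module.Projective.of_equiv eqv.symm
  haveI : Module.Projective R (LinearMap.range e) :=
    Module.Projective.of_split (LinearMap.inl R (LinearMap.range e) (LinearMap.ker e))
      (LinearMap.fst R (LinearMap.range e) (LinearMap.ker e)) (by ext; rfl)
  haveI : Module.Projective R (LinearMap.ker e) :=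
    Module.Projective.of_split (LinearMap.inr R (LinearMap.range e) (LinearMap.ker e))
      (LinearMap.snd R (LinearMap.range e) (LinearMap.ker e)) (by ext; rfl)
  haveI : Module.Free R (LinearMap.range e) := Module.free_of_flat_of_isLocalRing
  haveI : Module.Free R (LinearMap.ker e) := Module.free_of_flat_of_isLocalRing
  let b₁ := Module.Free.chooseBasis R (LinearMap.range e)
  let b₂ := Module.Free.chooseBasis R (LinearMap.ker e)
  let B : Basis (Module.Free.ChooseBasisIndex R (LinearMap.range e) ⊕
      Module.Free.ChooseBasisIndex R (LinearMap.ker e)) R (I → R) := (b₁.prod b₂).map eqv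
  let σ : I ≃ (Module.Free.ChooseBasisIndex R (LinearMap.range e) ⊕
      Module.Free.ChooseBasisIndex R (LinearMap.ker e)) := (Pi.basisFun R I).indexEquiv B
  let B' : Basis I R (I → R) := B.reindex σ.symm
  have hB' : ∀ k, B' k = B (σ k) := by
    intro k
    rw [Basis.reindex_apply, Equiv.symm_symm]
  have hBl : ∀ a, B (Sum.inl a) = (b₁ a : I → R) := by
    intro a
    change eqv ((b₁.prod b₂) (Sum.inl a)) = _
    rw [Submodule.coe_prodEquivOfIsCompl', Basis.prod_apply_inl_fst, Basis.prod_apply_inl_snd]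
    simp
  have hBr : ∀ a, B (Sum.inr a) = (b₂ a : I → R) := by
    intro a
    change eqv ((b₁.prod b₂) (Sum.inr a)) = _
    rw [Submodule.coe_prodEquivOfIsCompl', Basis.prod_apply_inr_fst, Basis.prod_apply_inr_snd]
    simp
  refine ⟨Finset.univ.filter (fun k => (σ k).isLeft), fun j k => B'.repr (Pi.single j 1) k,
    fun k => B' k, ?_, ?_, ?_⟩
  · intro j m
    have h1 := B'.sum_repr (Pi.single j (1 : R))
    have h2 := congrFun h1 m
    rw [Finset.sum_apply] at h2
    simp only [Pi.smul_apply, smul_eq_mul] at h2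
    rw [h2, Pi.single_apply]
    by_cases hjm : j = m
    · rw [if_pos hjm, if_pos hjm.symm]
    · rw [if_neg hjm, if_neg (Ne.symm hjm)]
  · intro k hk m
    rw [Finset.mem_filter] at hk
    obtain ⟨a, ha⟩ := Sum.isLeft_iff.1 hk.2
    rw [← heval]
    have h1 : B' k ∈ LinearMap.range e := by
      rw [hB', ha, hBl]
      exact (b₁ a).2
    rw [(LinearMap.IsIdempotentElem.mem_range_iff he).1 h1]
  · intro k hk m
    rw [Finset.mem_filter, not_and] at hk
    have hk' := hk (Finset.mem_univ k)
    rw [Bool.not_eq_true, Sum.isLeft_eq_false] at hk'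
    obtain ⟨a, ha⟩ := Sum.isRight_iff.1 hk'
    rw [← heval]
    have h1 : B' k ∈ LinearMap.ker e := by
      rw [hB', ha, hBr]
      exact (b₂ a).2
    rw [LinearMap.mem_ker.1 h1]
    rfl

end Algebra

section Germs

open TopologicalSpace

variable {X : TopCat.{u}} (O : TopCat.Sheaf CommRingCat.{u} X)

/-- finitely many germs lift to sections over a common neighbourhood -/
lemma exists_lift_germs {A : Type*} [Finite A] (x : X) (U : Opens X) (hx : x ∈ U)
    (g : A → O.presheaf.stalk x) :
    ∃ (W : Opens X) (hW : x ∈ W) (_ : W ⟶ U) (s : A → O.presheaf.obj (op W)),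
      ∀ a, O.presheaf.germ W x hW (s a) = g a := by
  have h1 := fun a => TopCat.Presheaf.exists_germ_eq O.presheaf (g a)
  choose Va ma sa hsa using h1
  let W₀ : Opens X := ⟨⋂ a, (Va a : Set X), isOpen_iInter_of_finite fun a => (Va a).isOpen⟩
  have hW₀ : ∀ a, W₀ ≤ Va a := fun a y hy => Set.mem_iInter.1 hy a
  let W : Opens X := W₀ ⊓ U
  have hxW : x ∈ W := ⟨Set.mem_iInter.2 ma, hx⟩
  refine ⟨W, hxW, homOfLE inf_le_right,
    fun a => O.presheaf.map (homOfLE (inf_le_left.trans (hW₀ a))).op (sa a), fun a => ?_⟩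
  rw [TopCat.Presheaf.germ_res_apply]
  exact hsa a

/-- finitely many equalities of germs hold on a common neighbourhood -/
lemma exists_nbhd_eq {A : Type*} [Finite A] (x : X) (W : Opens X) (hW : x ∈ W)
    (s t : A → O.presheaf.obj (op W))
    (h : ∀ a, O.presheaf.germ W x hW (s a) = O.presheaf.germ W x hW (t a)) :
    ∃ (V : Opens X) (_ : x ∈ V) (i : V ⟶ W),
      ∀ a, O.presheaf.map i.op (s a) = O.presheaf.map i.op (t a) := by
  have h1 := fun a => TopCat.Presheaf.germ_eq O.presheaf x hW hW (s a) (t a) (h a)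
  choose Va ma iU iV hst using h1
  let V₀ : Opens X := ⟨⋂ a, (Va a : Set X), isOpen_iInter_of_finite fun a => (Va a).isOpen⟩
  have hV₀ : ∀ a, V₀ ≤ Va a := fun a y hy => Set.mem_iInter.1 hy a
  let V : Opens X := V₀ ⊓ W
  have hxV : x ∈ V := ⟨Set.mem_iInter.2 ma, hW⟩
  refine ⟨V, hxV, homOfLE inf_le_right, fun a => ?_⟩
  let ja : V ⟶ Va a := homOfLE (inf_le_left.trans (hV₀ a))
  have e1 : (homOfLE inf_le_right : V ⟶ W) = ja ≫ iU a := Subsingleton.elim _ _
  have e2 : (homOfLE inf_le_right : V ⟶ W) = ja ≫ iV a := Subsingleton.elim _ _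
  have h2 : O.presheaf.map (ja ≫ iU a).op (s a) = O.presheaf.map (ja ≫ iV a).op (t a) := by
    rw [op_comp, op_comp, Functor.map_comp, Functor.map_comp]
    change O.presheaf.map ja.op (O.presheaf.map (iU a).op (s a)) =
      O.presheaf.map ja.op (O.presheaf.map (iV a).op (t a))
    rw [hst a]
  rw [← e1] at h2
  rw [← e2] at h2
  exact h2

/-- a diagonalisation of the germ of a matrix of sections lifts to a neighbourhood -/
theorem exists_lift_diagonalisation (x : X) (U : Opens X) (hx : x ∈ U) (I : Type*) [Fintype I]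
    [DecidableEq I] (E : I → I → O.presheaf.obj (op U)) (T : Finset I)
    (cx yx : I → I → O.presheaf.stalk x)
    (h1 : ∀ j m, ∑ k, cx j k * yx k m = if j = m then 1 else 0)
    (h2 : ∀ k ∈ T, ∀ m, ∑ j, yx k j * O.presheaf.germ U x hx (E m j) = yx k m)
    (h3 : ∀ k, k ∉ T → ∀ m, ∑ j, yx k j * O.presheaf.germ U x hx (E m j) = 0) :
    ∃ (V : Opens X) (_ : x ∈ V) (f : V ⟶ U) (c y : I → I → O.presheaf.obj (op V)),
      (∀ j m, ∑ k, c j k * y k m = if j = m then 1 else 0) ∧
      (∀ k ∈ T, ∀ m, ∑ j, y k j * O.presheaf.map f.op (E m j) = y k m) ∧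
      (∀ k, k ∉ T → ∀ m, ∑ j, y k j * O.presheaf.map f.op (E m j) = 0) := by
  classical
  obtain ⟨W, hW, fW, s, hs⟩ := exists_lift_germs O x U hx
    (fun a : (I × I) ⊕ (I × I) => Sum.elim (fun q => cx q.1 q.2) (fun q => yx q.1 q.2) a)
  let γ : O.presheaf.obj (op W) →+* O.presheaf.stalk x := (O.presheaf.germ W x hW).hom
  let cW : I → I → O.presheaf.obj (op W) := fun j k => s (Sum.inl (j, k))
  let yW : I → I → O.presheaf.obj (op W) := fun k m => s (Sum.inr (k, m))
  let EW : I → I → O.presheaf.obj (op W) := fun m j => O.presheaf.map fW.op (E m j)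
  have hc : ∀ j k, γ (cW j k) = cx j k := fun j k => hs (Sum.inl (j, k))
  have hy : ∀ k m, γ (yW k m) = yx k m := fun k m => hs (Sum.inr (k, m))
  have hE : ∀ m j, γ (EW m j) = O.presheaf.germ U x hx (E m j) := fun m j =>
    TopCat.Presheaf.germ_res_apply O.presheaf fW x hW (E m j)
  let src : (I × I) ⊕ (I × I) → O.presheaf.obj (op W) := fun a =>
    Sum.elim (fun q => ∑ k, cW q.1 k * yW k q.2) (fun q => ∑ j, yW q.1 j * EW q.2 j) a
  let tgt : (I × I) ⊕ (I × I) → O.presheaf.obj (op W) := fun a =>
    Sum.elim (fun q => if q.1 = q.2 then 1 else 0) (fun q => if q.1 ∈ T then yW q.1 q.2 else 0) a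
  have hst : ∀ a, O.presheaf.germ W x hW (src a) = O.presheaf.germ W x hW (tgt a) := by
    intro a
    change γ (src a) = γ (tgt a)
    rcases a with ⟨j, m⟩ | ⟨k, m⟩
    · change γ (∑ k, cW j k * yW k m) = γ (if j = m then 1 else 0)
      rw [map_sum, apply_ite γ, map_one, map_zero, ← h1 j m]
      exact Finset.sum_congr rfl (fun k _ => by rw [map_mul, hc, hy])
    · change γ (∑ j, yW k j * EW m j) = γ (if k ∈ T then yW k m else 0)
      rw [map_sum, apply_ite γ, map_zero, hy]
      have e1 : ∑ j, γ (yW k j * EW m j) = ∑ j, yx k j * O.presheaf.germ U x hx (E m j) :=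
        Finset.sum_congr rfl (fun j _ => by rw [map_mul, hy, hE])
      rw [e1]
      by_cases hk : k ∈ T
      · rw [if_pos hk, h2 k hk m]
      · rw [if_neg hk, h3 k hk m]
  obtain ⟨V, hV, i, hVeq⟩ := exists_nbhd_eq O x W hW src tgt hst
  let ρ : O.presheaf.obj (op W) →+* O.presheaf.obj (op V) := (O.presheaf.map i.op).hom
  have hρE : ∀ m j, O.presheaf.map (i ≫ fW).op (E m j) = ρ (EW m j) := by
    intro m j
    rw [op_comp, Functor.map_comp]
    rfl
  refine ⟨V, hV, i ≫ fW, fun j k => ρ (cW j k), fun k m => ρ (yW k m), ?_, ?_, ?_⟩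
  · intro j m
    have h4 : ρ (src (Sum.inl (j, m))) = ρ (tgt (Sum.inl (j, m))) := hVeq (Sum.inl (j, m))
    change ρ (∑ k, cW j k * yW k m) = ρ (if j = m then 1 else 0) at h4
    rw [map_sum, apply_ite ρ, map_one, map_zero] at h4
    change ∑ k, ρ (cW j k) * ρ (yW k m) = if j = m then 1 else 0
    rw [← h4]
    exact Finset.sum_congr rfl (fun k _ => (map_mul ρ _ _).symm)
  · intro k hk m
    have h4 : ρ (src (Sum.inr (k, m))) = ρ (tgt (Sum.inr (k, m))) := hVeq (Sum.inr (k, m))
    change ρ (∑ j, yW k j * EW m j) = ρ (if k ∈ T then yW k m else 0) at h4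
    rw [map_sum, if_pos hk] at h4
    change ∑ j, ρ (yW k j) * O.presheaf.map (i ≫ fW).op (E m j) = ρ (yW k m)
    rw [← h4]
    exact Finset.sum_congr rfl (fun j _ => by rw [hρE, map_mul])
  · intro k hk m
    have h4 : ρ (src (Sum.inr (k, m))) = ρ (tgt (Sum.inr (k, m))) := hVeq (Sum.inr (k, m))
    change ρ (∑ j, yW k j * EW m j) = ρ (if k ∈ T then yW k m else 0) at h4
    rw [map_sum, if_neg hk, map_zero] at h4
    change ∑ j, ρ (yW k j) * O.presheaf.map (i ≫ fW).op (E m j) = 0
    rw [← h4]
    exact Finset.sum_congr rfl (fun j _ => by rw [hρE, map_mul])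

end Germs

section Top

open TopologicalSpace Groth.Agent.Lib.Helper23FreeOn Groth.Agent.Lib.T2H8.ModFTExt
  Groth.Agent.Lib.T2H8.ModFreeEndo Groth.Agent.Lib.T2H8.ModFreeTop

variable {X : TopCat.{u}} (O : TopCat.Sheaf CommRingCat.{u} X)

/-- the terminal object of `Over V` -/
abbrev topV (V : Opens X) : Over V := Over.mk (𝟙 V)

/-- `topV V` is terminal -/
noncomputable def htopV (V : Opens X) : IsTerminal (topV V) := Over.mkIdTerminal

variable (I : Type u) [Fintype I] [DecidableEq I] {H : ModSite.Mod O} {U : Opens X}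
  (α : (ModSite.restr O U).obj H ≅ SheafOfModules.free I)

/-- the restriction to a smaller open of a trivialisation -/
noncomputable def piV {V : Opens X} (f : V ⟶ U) :
    SheafOfModules.free (R := ModSite.ringSh (O.over V)) I ≅ H.over V :=
  @asIso _ _ _ _ (restrictGen H f (genOfIso α)).π
    (@isIso_restrictGen_π _ _ _ _ _ H _ _ f (genOfIso α) inferInstance)

/-- the basic sections over `U` of a trivialised module -/
noncomputable def hU (k : I) : H.val.obj (op U) := evalTop O H U ((genOfIso α).s k)

lemma bas_piV {V : Opens X} (f : V ⟶ U) (k : I) :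
    bas (topV V) I (piV O I α f) k = H.val.restrictₛₗ f.op (hU O I α k) := by
  have h1 : bas (topV V) I (piV O I α f) k =
      ((H.over V).freeHomEquiv (restrictGen H f (genOfIso α)).π k).val (op (topV V)) := rfl
  rw [h1, π_apply]
  exact evalTop_restrictGen O H f (genOfIso α) k

lemma bas_piV_id (k : I) : bas (topV U) I (piV O I α (𝟙 U)) k = hU O I α k := by
  rw [bas_piV]
  change H.val.map (𝟙 (op U)) (hU O I α k) = _
  rw [H.val.map_id]
  rfl

/-- the matrix over `O(U)` of an endomorphism of a trivialised module -/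
noncomputable def matU (e : H ⟶ H) (m l : I) : (ModSite.ringSh O).obj.obj (op U) :=
  mat (topV U) I (piV O I α (𝟙 U)) ((ModSite.restr O U).map e) m l

lemma app_hU (e : H ⟶ H) (l : I) :
    (e.val.app (op U)).hom (hU O I α l) = ∑ m, matU O I α e m l • hU O I α m := by
  have h1 := app_bas (topV U) I (piV O I α (𝟙 U)) ((ModSite.restr O U).map e) l
  simp only [bas_piV_id] at h1
  exact h1

/-- the matrix of an endomorphism with respect to a restricted trivialisation is the restriction
of its matrix -/
lemma mat_piV (e : H ⟶ H) {V : Opens X} (f : V ⟶ U) (m l : I) :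
    mat (topV V) I (piV O I α f) ((ModSite.restr O V).map e) m l =
      ((ModSite.ringSh O).obj.map f.op).hom (matU O I α e m l) := by
  refine coordN_of_eq_sum (topV V) I (piV O I α f) _
    (fun m' => ((ModSite.ringSh O).obj.map f.op).hom (matU O I α e m' l)) ?_ m
  simp only [bas_piV]
  change (e.val.app (op V)).hom (H.val.restrictₛₗ f.op (hU O I α l)) = _
  have hnat := PresheafOfModules.naturality_apply e.val f.op (hU O I α l)
  have h2 : (e.val.app (op V)).hom (H.val.restrictₛₗ f.op (hU O I α l)) =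
      H.val.restrictₛₗ f.op ((e.val.app (op U)).hom (hU O I α l)) := hnat
  rw [h2, app_hU, map_sum]
  refine Finset.sum_congr rfl (fun m' _ => ?_)
  rw [map_smulₛₗ]
  rfl

end Top

section Main

open TopologicalSpace Groth.Agent.Lib.T2H8.ModFreeTop

variable {X : TopCat.{u}} (O : TopCat.Sheaf CommRingCat.{u} X)

theorem main_S6849 (hO : ∀ x : X, IsLocalRing (O.presheaf.stalk x)) {F H : ModSite.Mod O}
    (hH : ∀ x : X, ∃ (U : Opens X) (n : ℕ), x ∈ U ∧
      Nonempty ((ModSite.restr O U).obj H ≅ SheafOfModules.free (ULift.{u} (Fin n))))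
    (i : F ⟶ H) (p : H ⟶ F) (hip : i ≫ p = 𝟙 F) (x : X) :
    ∃ (U : Opens X) (n : ℕ), x ∈ U ∧
      Nonempty ((ModSite.restr O U).obj F ≅ SheafOfModules.free (ULift.{u} (Fin n))) := by
  classical
  obtain ⟨U, n, hxU, ⟨α⟩⟩ := hH x
  let I : Type u := ULift.{u} (Fin n)
  let e : H ⟶ H := p ≫ i
  have he : e ≫ e = e := by
    change (p ≫ i) ≫ p ≫ i = p ≫ i
    rw [Category.assoc, ← Category.assoc i, hip, Category.id_comp]
  have heU : (ModSite.restr O U).map e ≫ (ModSite.restr O U).map e =
      (ModSite.restr O U).map e := by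
    rw [← Functor.map_comp, he]
  let EU : I → I → O.presheaf.obj (op U) := fun m l => matU O I α e m l
  have hEU : ∀ m l, ∑ j, EU j l * EU m j = EU m l := fun m l =>
    mat_idem (topV U) I (piV O I α (𝟙 U)) _ heU m l
  haveI := hO x
  let γ : O.presheaf.obj (op U) →+* O.presheaf.stalk x := (O.presheaf.germ U x hxU).hom
  have hEx : ∀ m l, ∑ j, γ (EU j l) * γ (EU m j) = γ (EU m l) := by
    intro m l
    rw [← hEU m l, map_sum]
    exact Finset.sum_congr rfl (fun j _ => (map_mul γ _ _).symm)
  obtain ⟨T, cx, yx, h1, h2, h3⟩ :=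
    exists_diagonalising (O.presheaf.stalk x) I (fun m l => γ (EU m l)) hEx
  obtain ⟨V, hxV, f, c, y, hc, hy, hy'⟩ :=
    exists_lift_diagonalisation O x U hxU I EU T cx yx h1 h2 h3
  have hip' : (ModSite.restr O V).map i ≫ (ModSite.restr O V).map p = 𝟙 _ := by
    rw [← Functor.map_comp, hip, CategoryTheory.Functor.map_id]
  have hmat : ∀ m j, mat (topV V) I (piV O I α f)
      ((ModSite.restr O V).map p ≫ (ModSite.restr O V).map i) m j =
        O.presheaf.map f.op (EU m j) := by
    intro m j
    rw [← Functor.map_comp]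
    exact mat_piV O I α e f m j
  obtain ⟨β⟩ := nonempty_iso_free_of_split (htopV V) I (piV O I α f)
    ((ModSite.restr O V).map i) ((ModSite.restr O V).map p) hip' T c y hc
    (fun k hk m => by
      simp only [hmat]
      exact hy k hk m)
    (fun k hk m => by
      simp only [hmat]
      exact hy' k hk m)
  let eqv : (↥T : Type u) ≃ ULift.{u} (Fin T.card) := T.equivFin.trans Equiv.ulift.symm
  let β' : SheafOfModules.free (R := ModSite.ringSh (O.over V)) (↥T : Type u) ≅
      SheafOfModules.free (R := ModSite.ringSh (O.over V)) (ULift.{u} (Fin T.card)) :=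
    (SheafOfModules.freeFunctor (R := ModSite.ringSh (O.over V))).mapIso eqv.toIso
  exact ⟨V, T.card, hxV, ⟨β ≪≫ β'⟩⟩

end Main

end Groth.Agent.Lib.T2H8.ModRetract
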