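import Mathlib
import Groth.Prelude.Def_ModSite2
import Groth.Agent.Lib.T2H8ModFTExt
import Groth.Agent.Lib.T2H8ModStalkFlat

/-!
# A map onto a finite type module which is surjective on a stalk is an epimorphism nearby
(helper8, team 2)
-/

set_option autoImplicit false
set_option linter.unusedSectionVars false
set_option linter.style.haveILetI false
universe u
open CategoryTheory CategoryTheory.Limits Opposite TopologicalSpace

namespace Groth.Agent.Lib.T2H8.ModStalkEpi

open Groth.Agent.Lib.Helper23FreeOn Groth.Agent.Lib.T2H8.ModFTExt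
  Groth.Agent.Lib.T2H8.ModStalkFlat Groth.Agent.Lib.Helper21.StalkFlat

theorem main_S6831 {X : TopCat.{u}} (O : TopCat.Sheaf CommRingCat.{u} X)
    {G F : ModSite.Mod O} (φ : G ⟶ F) [SheafOfModules.IsFiniteType (R := ModSite.ringSh O) F] (x : X)
    (hx : Function.Surjective (ModSite.stalkMap (Opens.pointGrothendieckTopology x) φ).hom) :
    ∃ U : Opens X, x ∈ U ∧ Epi ((ModSite.restr O U).map φ) := by
  set p := Opens.pointGrothendieckTopology x with hp
  obtain ⟨σ, hσ⟩ := SheafOfModules.IsFiniteType.exists_localGeneratorsData (R := ModSite.ringSh O) F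
  have cov := σ.coversTop
  rw [Opens.coversTop_iff, IsOpenCover] at cov
  have hx₁ : x ∈ (⨆ i, σ.X i : Opens X) := by rw [cov]; trivial
  obtain ⟨i, hi⟩ := Opens.mem_iSup.1 hx₁
  haveI := (hσ.isFiniteType i).finite
  set Y := σ.X i with hY
  set Gn := σ.generators i with hGn
  let t : Gn.I → F.val.obj (op Y) := fun b => evalTop O F Y (Gn.s b)
  let y : p.fiber.obj Y := ⟨⟨hi⟩⟩
  choose γ hγ using fun b => hx (ModSite.germ p F Y y (t b))
  obtain ⟨W, g, w, hw, -, x', -, hx'⟩ := exists_nbhd_reps p G (κ₁ := Fin 0) (κ₂ := Gn.I) Y y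
    Fin.elim0 γ
  have hgerm : ∀ b, ModSite.germ p F W w (φ.val.app (op W) (x' b)) =
      ModSite.germ p F W w (F.val.map g.op (t b)) := by
    intro b
    rw [← stalkMap_germ p φ W w (x' b), hx' b, hγ b, germ_w, hw]
  obtain ⟨W', g', w', hw', hg'⟩ := exists_refine_eq p F Gn.I W w
    (fun b => φ.val.app (op W) (x' b)) (fun b => F.val.map g.op (t b)) hgerm
  have hxW' : x ∈ W' := w'.down.down
  let f : W' ⟶ Y := g' ≫ g
  let G' := restrictGen F f Gn
  let v : Gn.I → (G.over W').sections := fun b => sec O G W' (G.val.map g'.op (x' b))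
  have hfac : G'.π = (G.over W').freeHomEquiv.symm v ≫ (ModSite.restr O W').map φ := by
    rw [SheafOfModules.freeHomEquiv_symm_comp]
    change (F.over W').freeHomEquiv.symm G'.s = _
    congr 1
    funext b
    change G'.s b = SheafOfModules.sectionsMap ((ModSite.restr O W').map φ)
      (sec O G W' (G.val.map g'.op (x' b)))
    rw [sectionsMap_sec, ← sec_evalTop O F W' (G'.s b)]
    congr 1
    rw [evalTop_restrictGen]
    have hnat := PresheafOfModules.naturality_apply φ.val g'.op (x' b)
    refine Eq.trans ?_ hnat.symm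
    have h1 := hg' b
    change F.val.map g'.op (φ.val.app (op W) (x' b)) = F.val.map g'.op (F.val.map g.op (t b)) at h1
    refine Eq.trans ?_ h1.symm
    have hcomp : f.op = g.op ≫ g'.op := by
      rw [← op_comp]
    rw [hcomp]
    exact restr_comp F.val g.op g'.op _
  refine ⟨W', hxW', ?_⟩
  haveI : Epi ((G.over W').freeHomEquiv.symm v ≫ (ModSite.restr O W').map φ) := hfac ▸ G'.epi
  exact epi_of_epi ((G.over W').freeHomEquiv.symm v) _

end Groth.Agent.Lib.T2H8.ModStalkEpi
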