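import Mathlib
import Groth.Agent.Lib.Helper21ExtZero1
import Groth.Agent.Lib.T2H8DirectSumIsoU

/-!
# The fibre of the explicit extension by zero `E G` at a point of the site

`(E G)_p ≅ ⨁_{x ∈ p.fiber U} G_{p.over x}`.
-/

set_option autoImplicit false
universe u
open CategoryTheory CategoryTheory.Limits Opposite

namespace Groth.Agent.Lib.T2H8.ModStalkExt

open Groth.Agent.Lib.Helper21.ExtZero

variable {C : Type u} [SmallCategory C] {J : GrothendieckTopology C}
  {R : Cᵒᵖ ⥤ RingCat.{u}} {U : C}
  (p : GrothendieckTopology.Point.{u} J) (G : PresheafOfModules.{u} (RU R U))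

/-- the stalk of `G` at the point over `x` -/
noncomputable abbrev stk (x : p.fiber.obj U) : AddCommGrpCat.{u} :=
  (p.over x).presheafFiber.obj G.presheaf

/-- the germ at `(φ, y)` -/
noncomputable def germAt (x : p.fiber.obj U) {X : C} (φ : X ⟶ U) (y : p.fiber.obj X)
    (h : p.fiber.map φ y = x) : cmp G (op X) φ →+ stk p G x :=
  ((p.over x).toPresheafFiber (Over.mk φ) ⟨y, h⟩ G.presheaf).hom

open Classical in
/-- the component maps -/
noncomputable def compHom (x : p.fiber.obj U) (X : C) (y : p.fiber.obj X) (φ : X ⟶ U) :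
    cmp G (op X) φ →+ stk p G x :=
  if h : p.fiber.map φ y = x then germAt p G x φ y h else 0

lemma compHom_pos (x : p.fiber.obj U) (X : C) (y : p.fiber.obj X) (φ : X ⟶ U)
    (h : p.fiber.map φ y = x) : compHom p G x X y φ = germAt p G x φ y h := by
  unfold compHom
  rw [dif_pos h]

lemma compHom_neg (x : p.fiber.obj U) (X : C) (y : p.fiber.obj X) (φ : X ⟶ U)
    (h : p.fiber.map φ y ≠ x) : compHom p G x X y φ = 0 := by
  unfold compHom
  rw [dif_neg h]

open Classical in
/-- the map on sections of `E G` -/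
noncomputable def stalkHom (x : p.fiber.obj U) (X : C) (y : p.fiber.obj X) :
    EObj G (op X) →+ stk p G x :=
  DirectSum.toAddMonoid (compHom p G x X y)

open Classical in
lemma stalkHom_of (x : p.fiber.obj U) (X : C) (y : p.fiber.obj X) (φ : X ⟶ U)
    (g : cmp G (op X) φ) :
    stalkHom p G x X y (DirectSum.of (fun φ : X ⟶ U => cmp G (op X) φ) φ g) =
      compHom p G x X y φ g := by
  unfold stalkHom
  rw [DirectSum.toAddMonoid_of]

/-- germs are compatible with restriction -/
lemma germAt_resMap (x : p.fiber.obj U) {X Y : C} (f : X ⟶ Y) (φ : Y ⟶ U) (ψ : X ⟶ U)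
    (hf : f ≫ φ = ψ) (y : p.fiber.obj X) (h : p.fiber.map ψ y = x)
    (h' : p.fiber.map φ (p.fiber.map f y) = x) (g : cmp G (op Y) φ) :
    germAt p G x ψ y h (resMap G f.op φ ψ hf g) = germAt p G x φ (p.fiber.map f y) h' g := by
  unfold germAt resMap
  exact (p.over x).toPresheafFiber_w_apply (Over.homMk f hf : Over.mk ψ ⟶ Over.mk φ) ⟨y, h⟩
    G.presheaf g


open Classical in
/-- naturality of `stalkHom` -/
lemma stalkHom_natural (x : p.fiber.obj U) {X Y : C} (f : X ⟶ Y) (y : p.fiber.obj X)
    (s : EObj G (op Y)) :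
    stalkHom p G x X y (EMap G f.op s) = stalkHom p G x Y (p.fiber.map f y) s := by
  induction s using DirectSum.induction_on with
  | zero => rw [map_zero, map_zero, map_zero]
  | of φ g =>
    rw [EMap_of G f.op φ (f ≫ φ) rfl g, stalkHom_of, stalkHom_of]
    have hfun : p.fiber.map (f ≫ φ) y = p.fiber.map φ (p.fiber.map f y) :=
      ConcreteCategory.congr_hom (p.fiber.map_comp f φ) y
    by_cases h : p.fiber.map (f ≫ φ) y = x
    · rw [compHom_pos p G x X y (f ≫ φ) h, compHom_pos p G x Y _ φ (hfun ▸ h)]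
      exact germAt_resMap p G x f φ (f ≫ φ) rfl y h (hfun ▸ h) g
    · rw [compHom_neg p G x X y (f ≫ φ) h, compHom_neg p G x Y _ φ (hfun ▸ h)]
      rfl
  | add a b ha hb => rw [map_add, map_add, map_add, ha, hb]

/-- the map from the fibre of `E G` at `p` to the stalk of `G` at `p.over x` -/
noncomputable def Φ (x : p.fiber.obj U) :
    p.presheafFiber.obj (EAb G) ⟶ stk p G x :=
  p.presheafFiberDesc (fun X y => AddCommGrpCat.ofHom (stalkHom p G x X y))
    (fun X Y f y => by
      ext s
      exact stalkHom_natural p G x f y s)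

lemma Φ_germ (x : p.fiber.obj U) (X : C) (y : p.fiber.obj X) (s : EObj G (op X)) :
    Φ p G x (p.toPresheafFiber X y (EAb G) s) = stalkHom p G x X y s := by
  have h : p.toPresheafFiber X y (EAb G) ≫ Φ p G x =
      AddCommGrpCat.ofHom (stalkHom p G x X y) := by
    unfold Φ
    exact p.toPresheafFiber_presheafFiberDesc _ _ X y
  exact ConcreteCategory.congr_hom h s

open Classical in
/-- the map from sections of `G` to the fibre of `E G` -/
noncomputable def backHom {X : C} (φ : X ⟶ U) (y : p.fiber.obj X) :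
    cmp G (op X) φ →+ (p.presheafFiber.obj (EAb G) : AddCommGrpCat.{u}) :=
  (p.toPresheafFiber X y (EAb G)).hom.comp
    (DirectSum.of (fun φ : X ⟶ U => cmp G (op X) φ) φ)

open Classical in
lemma backHom_apply {X : C} (φ : X ⟶ U) (y : p.fiber.obj X) (g : cmp G (op X) φ) :
    backHom p G φ y g = p.toPresheafFiber X y (EAb G)
      (DirectSum.of (fun φ : X ⟶ U => cmp G (op X) φ) φ g) := rfl


open Classical in
/-- compatibility of `backHom` with restriction -/
lemma backHom_resMap {X Y : C} (f : X ⟶ Y) (φ : Y ⟶ U) (ψ : X ⟶ U) (hf : f ≫ φ = ψ)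
    (y : p.fiber.obj X) (g : cmp G (op Y) φ) :
    backHom p G ψ y (resMap G f.op φ ψ hf g) = backHom p G φ (p.fiber.map f y) g := by
  rw [backHom_apply, backHom_apply, ← EMap_of G f.op φ ψ hf g]
  exact p.toPresheafFiber_w_apply f y (EAb G) _

/-- the map from the stalk of `G` at `p.over x` to the fibre of `E G` at `p` -/
noncomputable def Ψ (x : p.fiber.obj U) :
    stk p G x ⟶ p.presheafFiber.obj (EAb G) :=
  (p.over x).presheafFiberDesc
    (fun A a => AddCommGrpCat.ofHom (backHom p G A.hom a.1))
    (fun A B k a => by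
      ext g
      exact backHom_resMap p G k.left B.hom A.hom (Over.w k) a.1 g)

lemma Ψ_germ (x : p.fiber.obj U) {X : C} (φ : X ⟶ U) (y : p.fiber.obj X)
    (h : p.fiber.map φ y = x) (g : cmp G (op X) φ) :
    Ψ p G x (germAt p G x φ y h g) = backHom p G φ y g := by
  have e : (p.over x).toPresheafFiber (Over.mk φ) ⟨y, h⟩ G.presheaf ≫ Ψ p G x =
      AddCommGrpCat.ofHom (backHom p G φ y) := by
    unfold Ψ
    exact (p.over x).toPresheafFiber_presheafFiberDesc _ _ (Over.mk φ) ⟨y, h⟩
  exact ConcreteCategory.congr_hom e g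


/-- the germ map of `E G`, as an additive map on the direct sum -/
noncomputable def germE (X : C) (y : p.fiber.obj X) :
    EObj G (op X) →+ (p.presheafFiber.obj (EAb G) : AddCommGrpCat.{u}) :=
  (p.toPresheafFiber X y (EAb G)).hom

lemma germE_apply (X : C) (y : p.fiber.obj X) (s : EObj G (op X)) :
    germE p G X y s = p.toPresheafFiber X y (EAb G) s := rfl

open Classical in
/-- reconstruction of a germ of `E G` from its images in the stalks of `G` -/
lemma exists_reconstruct (X : C) (y : p.fiber.obj X) (s : EObj G (op X)) :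
    ∃ T₀ : Finset (p.fiber.obj U), ∀ T : Finset (p.fiber.obj U), T₀ ⊆ T →
      germE p G X y s = ∑ x ∈ T, Ψ p G x (stalkHom p G x X y s) := by
  induction s using DirectSum.induction_on with
  | zero =>
    refine ⟨∅, fun T _ => ?_⟩
    simp only [map_zero, Finset.sum_const_zero]
  | of φ g =>
    refine ⟨{p.fiber.map φ y}, fun T hT => ?_⟩
    have hmem : p.fiber.map φ y ∈ T := hT (Finset.mem_singleton_self _)
    rw [Finset.sum_eq_single_of_mem (p.fiber.map φ y) hmem]
    · rw [stalkHom_of, compHom_pos p G _ X y φ rfl, Ψ_germ, backHom_apply, germE_apply]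
    · intro x _ hx
      rw [stalkHom_of, compHom_neg p G x X y φ (Ne.symm hx)]
      simp only [AddMonoidHom.zero_apply, map_zero]
  | add a b ha hb =>
    obtain ⟨Ta, hTa⟩ := ha
    obtain ⟨Tb, hTb⟩ := hb
    refine ⟨Ta ∪ Tb, fun T hT => ?_⟩
    rw [map_add, hTa T (Finset.union_subset_left hT), hTb T (Finset.union_subset_right hT),
      ← Finset.sum_add_distrib]
    refine Finset.sum_congr rfl (fun x _ => ?_)
    rw [map_add, map_add]

/-- joint injectivity of the maps `Φ` -/
theorem Φ_jointly_injective (a : ToType (p.presheafFiber.obj (EAb G)))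
    (H : ∀ x, Φ p G x a = 0) : a = 0 := by
  obtain ⟨X, y, s, rfl⟩ := p.toPresheafFiber_jointly_surjective a
  obtain ⟨T₀, hT₀⟩ := exists_reconstruct p G X y s
  rw [← germE_apply, hT₀ T₀ (Finset.Subset.refl _)]
  refine Finset.sum_eq_zero (fun x _ => ?_)
  rw [← Φ_germ, H x, map_zero]

open Classical in
/-- finiteness of the support -/
theorem finite_support (a : ToType (p.presheafFiber.obj (EAb G))) :
    {x | Φ p G x a ≠ 0}.Finite := by
  obtain ⟨X, y, s, rfl⟩ := p.toPresheafFiber_jointly_surjective a
  have key : ∀ s : EObj G (op X), {x | stalkHom p G x X y s ≠ 0}.Finite := by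
    intro s
    induction s using DirectSum.induction_on with
    | zero =>
      refine Set.finite_empty.subset ?_
      intro x hx
      exact hx (map_zero _)
    | of φ g =>
      refine (Set.finite_singleton (p.fiber.map φ y)).subset ?_
      intro x hx
      by_contra hne
      apply hx
      rw [stalkHom_of, compHom_neg p G x X y φ (fun h => hne h.symm)]
      rfl
    | add a b ha hb =>
      refine (ha.union hb).subset ?_
      intro x hx
      by_contra h
      rw [Set.mem_union, not_or] at h
      apply hx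
      have h1 : stalkHom p G x X y a = 0 := not_not.1 h.1
      have h2 : stalkHom p G x X y b = 0 := not_not.1 h.2
      rw [map_add, h1, h2, add_zero]
  refine (key s).subset ?_
  intro x hx
  rw [Set.mem_ofPred_eq] at hx ⊢
  rwa [Φ_germ] at hx

open Classical in
/-- existence of singles -/
theorem exists_single (x : p.fiber.obj U) (τ : ToType (stk p G x)) :
    ∃ a : ToType (p.presheafFiber.obj (EAb G)), Φ p G x a = τ ∧
      ∀ x', x' ≠ x → Φ p G x' a = 0 := by
  obtain ⟨A, a, g, rfl⟩ := (p.over x).toPresheafFiber_jointly_surjective τ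
  obtain ⟨X, φ, rfl⟩ := Over.mk_surjective A
  obtain ⟨y, h⟩ := a
  refine ⟨backHom p G φ y g, ?_, ?_⟩
  · rw [backHom_apply, Φ_germ, stalkHom_of, compHom_pos p G x X y φ h]
    rfl
  · intro x' hx'
    rw [backHom_apply, Φ_germ, stalkHom_of, compHom_neg p G x' X y φ (fun h' => hx' (h'.symm.trans h))]
    rfl

/-- the fibre of `E G` at `p` is the direct sum of the stalks of `G` at the points over `p` -/
theorem nonempty_presheafFiber_iso :
    Nonempty (p.presheafFiber.obj (EAb G) ≅
      ∐ fun x : p.fiber.obj U => (p.over x).presheafFiber.obj G.presheaf) := by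
  obtain ⟨e⟩ := Groth.Agent.Lib.T2H8.DirectSumIsoU.nonempty_addEquiv
    (A := (p.presheafFiber.obj (EAb G) : AddCommGrpCat.{u}))
    (fun x => (stk p G x : Type u)) (fun x => (Φ p G x).hom)
    (fun a ha => Φ_jointly_injective p G a ha)
    (fun a => finite_support p G a)
    (fun x τ => exists_single p G x τ)
  exact ⟨(AddEquiv.toAddCommGrpIso e) ≪≫
    (Groth.Agent.Lib.T2H8.DirectSumIsoU.coprodIso (fun x => stk p G x)).symm⟩

end Groth.Agent.Lib.T2H8.ModStalkExt
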