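import Mathlib
import Groth.Prelude.Def_ModSite2
import Groth.Agent.Lib.Helper21ExtZero4
import Groth.Agent.Lib.T2H8ModStalkExt

/-!
# The stalk of `j_{U!} G` at a point of the site (S9113)
-/

set_option autoImplicit false
universe u
open CategoryTheory CategoryTheory.Limits Opposite

namespace Groth.Agent.Lib.T2H8.ModStalkExtMain

open Groth.Agent.Lib.Helper21.ExtZero Groth.Agent.Lib.Helper21.ExtZeroS
open Groth.Agent.Lib.Helper21.ModTensor2
open Groth.Agent.Lib.T2H8.ModStalkExt

variable {C : Type u} [SmallCategory C] {J : GrothendieckTopology C}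

theorem main_S9113 (O : Sheaf J CommRingCat.{u}) (U : C) (G : ModSite.Mod (O.over U))
    (p : GrothendieckTopology.Point.{u} J) :
    Nonempty (ModSite.stalkAb p ((ModSite.extZero O U).obj G) ≅
      ∐ fun x : p.fiber.obj U => ModSite.stalkAb (p.over x) G) := by
  let G' : PresheafOfModules.{u} (RU (O.obj ⋙ forget₂ CommRingCat.{u} RingCat.{u}) U) :=
    (fgt (O.over U)).obj G
  obtain ⟨e⟩ := nonempty_presheafFiber_iso p G'
  let e1 : ModSite.stalkAb p ((ModSite.extZero O U).obj G) ≅
      ModSite.stalkAb p ((jShriek O U).obj G) :=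
    (SheafOfModules.toSheaf (ModSite.ringSh O) ⋙ p.sheafFiber (A := AddCommGrpCat.{u})).mapIso
      ((extZeroIso O U).app G)
  let e2 : ModSite.stalkAb p ((jShriek O U).obj G) ≅
      p.presheafFiber.obj (EAb G') :=
    (p.presheafToSheafCompSheafFiberIso AddCommGrpCat.{u}).app (EAb G')
  exact ⟨e1 ≪≫ e2 ≪≫ e⟩

end Groth.Agent.Lib.T2H8.ModStalkExtMain
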