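import Mathlib

set_option autoImplicit false
set_option linter.unusedSectionVars false
universe u
open CategoryTheory CategoryTheory.Limits AlgebraicGeometry

namespace Groth.Agent.Lib.T2H8.MonoUnram

theorem factors_diagonal {R X T : Scheme.{u}} (j : R ⟶ X) (ξ : T ⟶ pullback j j)
    (hinj : Function.Injective (fun r : T ⟶ R => r ≫ j)) :
    ξ = (ξ ≫ pullback.fst j j) ≫ pullback.diagonal j := by
  have h12 : ξ ≫ pullback.fst j j = ξ ≫ pullback.snd j j := by
    apply hinj
    change (ξ ≫ pullback.fst j j) ≫ j = (ξ ≫ pullback.snd j j) ≫ j
    rw [Category.assoc, Category.assoc, pullback.condition]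
  apply pullback.hom_ext
  · rw [Category.assoc, pullback.diagonal_fst, Category.comp_id]
  · rw [Category.assoc, pullback.diagonal_snd, Category.comp_id, h12]

/-- a formally unramified morphism locally of finite type which is injective on points with values
in algebraically closed fields is a monomorphism -/
theorem mono_of_unramified_of_injective {R X : Scheme.{u}} (j : R ⟶ X) [FormallyUnramified j]
    [LocallyOfFiniteType j]
    (hinj : ∀ (k : Type u) [Field k] [IsAlgClosed k],
      Function.Injective (fun r : Spec (CommRingCat.of k) ⟶ R => r ≫ j)) : Mono j := by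
  rw [← pullback.isIso_diagonal_iff]
  have : IsOpenImmersion (pullback.diagonal j) := inferInstance
  have hs : Surjective (pullback.diagonal j) := by
    refine ⟨fun w => ?_⟩
    let K : Type u := (pullback j j).residueField w
    let k : Type u := AlgebraicClosure K
    obtain ⟨ξ, hξdef⟩ : ∃ ξ : Spec (CommRingCat.of k) ⟶ pullback j j, ξ =
      Spec.map (CommRingCat.ofHom (algebraMap K k)) ≫ (pullback j j).fromSpecResidueField w :=
      ⟨_, rfl⟩
    have hξ := factors_diagonal j ξ (hinj k)
    let x₀ : ↑(Spec (CommRingCat.of k)) := IsLocalRing.closedPoint k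
    have hpt : ξ x₀ = w := by
      rw [hξdef, Scheme.Hom.comp_apply]
      exact Scheme.fromSpecResidueField_apply _ _
    refine ⟨(ξ ≫ pullback.fst j j) x₀, ?_⟩
    rw [← Scheme.Hom.comp_apply, ← hξ]
    exact hpt
  have : Epi (pullback.diagonal j).base := by
    rw [TopCat.epi_iff_surjective]
    exact hs.surj
  exact IsOpenImmersion.isIso _

end Groth.Agent.Lib.T2H8.MonoUnram
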