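import Mathlib
import Groth.Agent.Lib.T2H8Kummer
import Groth.Prelude.Def_EtCore

/-!
# `μ_n ≅ ℤ/n` on the small étale site in the presence of a primitive root of unity (helper8, team 2)

Given a unit `ζ` of `Γ(S, 𝒪_S)` which is a root of the `n`-th cyclotomic polynomial and `n`
invertible, the map `ℤ/n → μ_n`, `k ↦ ζ ^ k` is an isomorphism of sheaves
(`nonempty_mu_iso_const`): it is locally injective because `ζ` is a primitive root at every point,
and locally surjective because an `n`-th root of unity agreeing with `ζ ^ i` at a point agrees with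
it on a Zariski neighbourhood.
-/

set_option autoImplicit false
universe u
open CategoryTheory CategoryTheory.Limits AlgebraicGeometry Opposite

namespace Groth.Agent.Lib.T2H8.MuConst

open Groth.Agent.Lib.T2H8.Kummer

open Polynomial in
lemma isPrimitiveRoot_of_ringHom {R K : Type*} [CommRing R] [Field K] (f : R →+* K) (n : ℕ)
    (hn : IsUnit (n : R)) (ζ : R) (hζ : aeval ζ (cyclotomic n ℤ) = 0) :
    IsPrimitiveRoot (f ζ) n := by
  have : NeZero (n : K) := ⟨by
    have := hn.map f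
    rw [map_natCast] at this
    exact this.ne_zero⟩
  rw [← Polynomial.isRoot_cyclotomic_iff, IsRoot.def, ← map_cyclotomic_int, Polynomial.eval_map]
  change aeval (f ζ) (cyclotomic n ℤ) = 0
  have h := Polynomial.aeval_algHom_apply f.toIntAlgHom ζ (cyclotomic n ℤ)
  change aeval (f ζ) (cyclotomic n ℤ) = f (aeval ζ (cyclotomic n ℤ)) at h
  rw [h, hζ, map_zero]

open Polynomial in
lemma pow_eq_one_of_cyclotomic {R : Type*} [CommRing R] (n : ℕ) (ζ : R)
    (hζ : aeval ζ (cyclotomic n ℤ) = 0) : ζ ^ n = 1 := by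
  have h1 : (cyclotomic n ℤ) ∣ X ^ n - 1 := cyclotomic.dvd_X_pow_sub_one n ℤ
  obtain ⟨q, hq⟩ := h1
  have := congrArg (aeval ζ) hq
  simp only [map_sub, map_pow, aeval_X, map_one, map_mul, hζ, zero_mul] at this
  exact sub_eq_zero.mp this


variable (S : Scheme.{u}) (n : ℕ) (ζ : (Γ(S, ⊤))ˣ) (hζn : ζ ^ n = 1)

/-- the restriction of the unit `ζ` to an étale `S`-scheme -/
noncomputable def zU (U : S.Etale) : (Γ(U.left, ⊤))ˣ := Units.map (U.hom.appTop).hom.toMonoidHom ζ

lemma zU_map {U V : S.Etale} (g : V ⟶ U) :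
    Units.map (g.left.appTop).hom.toMonoidHom (zU S ζ U) = zU S ζ V := by
  unfold zU
  apply Units.ext
  change g.left.appTop.hom (U.hom.appTop.hom (ζ : Γ(S, ⊤))) = V.hom.appTop.hom (ζ : Γ(S, ⊤))
  have h : g.left ≫ U.hom = V.hom := Over.w g.hom
  rw [← h, Scheme.Hom.comp_appTop]
  rfl

include hζn in
lemma zU_pow (U : S.Etale) : zU S ζ U ^ n = 1 := by
  unfold zU
  rw [← map_pow, hζn, map_one]

/-- the group homomorphism `ℤ/n → G_m(U)`, `k ↦ ζ ^ k` -/
noncomputable def psiU (U : S.Etale) : ZMod n →+ Additive (Γ(U.left, ⊤))ˣ :=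
  ZMod.lift n ⟨zmultiplesHom _ (Additive.ofMul (zU S ζ U)), by
    change (n : ℤ) • Additive.ofMul (zU S ζ U) = 0
    rw [natCast_zsmul, ← ofMul_pow, zU_pow S n ζ hζn U]
    rfl⟩

lemma psiU_natCast (U : S.Etale) (i : ℕ) :
    psiU S n ζ hζn U (i : ZMod n) = Additive.ofMul (zU S ζ U ^ i) := by
  unfold psiU
  have : ((i : ZMod n)) = ((i : ℤ) : ZMod n) := by simp
  rw [this, ZMod.lift_coe]
  simp

/-- the value group -/
abbrev MM : AddCommGrpCat.{u + 1} := AddCommGrpCat.of (ULift.{u + 1} (ZMod n))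

/-- the constant presheaf -/
abbrev PP : S.Etaleᵒᵖ ⥤ AddCommGrpCat.{u + 1} := (Functor.const S.Etaleᵒᵖ).obj (MM n)

/-- components of the presheaf map -/
noncomputable def psiApp (U : S.Etale) : MM.{u} n ⟶ (EtCoh.Gm S).obj.obj (op U) :=
  AddCommGrpCat.ofHom
    ((AddEquiv.ulift.symm.toAddMonoidHom.comp (psiU S n ζ hζn U)).comp
      (AddEquiv.ulift.toAddMonoidHom : ULift.{u + 1} (ZMod n) →+ ZMod n))

lemma psiApp_apply (U : S.Etale) (k : ULift.{u + 1} (ZMod n)) :
    psiApp S n ζ hζn U k = ULift.up (psiU S n ζ hζn U k.down) := rfl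

lemma psiApp_natCast [NeZero n] (U : S.Etale) (k : ULift.{u + 1} (ZMod n)) :
    psiApp S n ζ hζn U k = mkSec S U (zU S ζ U ^ k.down.val) := by
  rw [psiApp_apply]
  conv_lhs => rw [← ZMod.natCast_zmod_val k.down]
  rw [psiU_natCast]
  rfl

/-- the map of presheaves `ℤ/n → G_m`, `k ↦ ζ ^ k` -/
noncomputable def psiPre [NeZero n] : PP S n ⟶ (EtCoh.Gm S).obj where
  app U := psiApp S n ζ hζn U.unop
  naturality U V g := by
    ext k
    change psiApp S n ζ hζn V.unop k = (EtCoh.Gm S).obj.map g (psiApp S n ζ hζn U.unop k)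
    rw [psiApp_natCast, psiApp_natCast]
    have := map_mkSec S g.unop (zU S ζ U.unop ^ k.down.val)
    rw [show g = g.unop.op from rfl, this, map_pow, zU_map]

/-- the unit of sheafification on the constant presheaf -/
noncomputable def eta : PP S n ⟶ (EtCoh.const S (ZMod n)).obj :=
  toSheafify S.smallEtaleTopology (PP S n)

/-- the map of sheaves `ℤ/n → G_m` -/
noncomputable def psi [NeZero n] : EtCoh.const S (ZMod n) ⟶ EtCoh.Gm S :=
  ⟨sheafifyLift S.smallEtaleTopology (psiPre S n ζ hζn) (EtCoh.Gm S).property⟩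

lemma eta_psi [NeZero n] : eta S n ≫ (psi S n ζ hζn).hom = psiPre S n ζ hζn :=
  toSheafify_sheafifyLift _ _ _

lemma eta_psi_apply [NeZero n] (U : S.Etale) (k : ULift.{u + 1} (ZMod n)) :
    (psi S n ζ hζn).hom.app (op U) ((eta S n).app (op U) k) =
      mkSec S U (zU S ζ U ^ k.down.val) := by
  rw [← psiApp_natCast S n ζ hζn U k]
  have := congrArg (fun f => f.app (op U) k) (eta_psi S n ζ hζn)
  exact this

instance : Presheaf.IsLocallySurjective S.smallEtaleTopology (eta S n) := by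
  exact (S.smallEtaleTopology.W_toSheafify (PP S n)).isLocallySurjective

lemma mkSec_injective (U : S.Etale) : Function.Injective (mkSec S U) := by
  intro a b h
  have := congrArg ULift.down h
  exact this

open Polynomial in
/-- the value of `ζ` at a point of an étale `S`-scheme is a primitive root of unity -/
lemma isPrimitiveRoot_ev (hn : IsUnit (n : Γ(S, ⊤)))
    (hcyc : aeval (ζ : Γ(S, ⊤)) (cyclotomic n ℤ) = 0) (W : S.Etale) (w : W.left) :
    IsPrimitiveRoot ((W.left.Γevaluation w).hom ((zU S ζ W : (Γ(W.left, ⊤))ˣ) : Γ(W.left, ⊤))) n :=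
  isPrimitiveRoot_of_ringHom ((W.left.Γevaluation w).hom.comp W.hom.appTop.hom) n hn _ hcyc

open Polynomial in
theorem psi_locallyInjective [NeZero n] (hn : IsUnit (n : Γ(S, ⊤)))
    (hcyc : aeval (ζ : Γ(S, ⊤)) (cyclotomic n ℤ) = 0) :
    Sheaf.IsLocallyInjective (psi S n ζ hζn) := by
  constructor
  rintro ⟨U⟩ x y h
  rw [Groth.Agent.Lib.Helper16.SmallEtale.mem_smallEtale_iff]
  intro pt
  have h1 := Presheaf.imageSieve_mem S.smallEtaleTopology (eta S n) (U := op U) x
  have h2 := Presheaf.imageSieve_mem S.smallEtaleTopology (eta S n) (U := op U) y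
  have h3 := S.smallEtaleTopology.intersection_covering h1 h2
  obtain ⟨W, g, w, hg, hw⟩ :=
    (Groth.Agent.Lib.Helper16.SmallEtale.mem_smallEtale_iff _ _).1 h3 pt
  obtain ⟨k₁, hk₁⟩ := hg.1
  obtain ⟨k₂, hk₂⟩ := hg.2
  refine ⟨W, g, w, ?_, hw⟩
  change (EtCoh.const S (ZMod n)).obj.map g.op x = (EtCoh.const S (ZMod n)).obj.map g.op y
  rw [← hk₁, ← hk₂]
  congr 1
  have e1 : (psi S n ζ hζn).hom.app (op W) ((EtCoh.const S (ZMod n)).obj.map g.op x) =
      (psi S n ζ hζn).hom.app (op W) ((EtCoh.const S (ZMod n)).obj.map g.op y) := by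
    have n1 := NatTrans.naturality_apply (psi S n ζ hζn).hom g.op x
    have n2 := NatTrans.naturality_apply (psi S n ζ hζn).hom g.op y
    rw [n1, n2, h]
  rw [← hk₁, ← hk₂, eta_psi_apply, eta_psi_apply] at e1
  have e2 := mkSec_injective S W e1
  have e3 := congrArg (fun a : (Γ(W.left, ⊤))ˣ => (W.left.Γevaluation w).hom (a : Γ(W.left, ⊤))) e2
  simp only [Units.val_pow_eq_pow_val, map_pow] at e3
  have hprim := isPrimitiveRoot_ev S n ζ hn hcyc W w
  have e4 := hprim.pow_inj (ZMod.val_lt _) (ZMod.val_lt _) e3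
  exact ULift.ext _ _ (ZMod.val_injective n e4)

lemma psi_powMap [NeZero n] : psi S n ζ hζn ≫ EtCoh.powMap S n = 0 := by
  apply Sheaf.hom_ext
  apply sheafify_hom_ext _ _ _ (EtCoh.Gm S).property
  ext U k
  change (EtCoh.powMap S n).hom.app U ((psi S n ζ hζn).hom.app U ((eta S n).app U k)) = 0
  obtain ⟨U⟩ := U
  rw [eta_psi_apply, powMap_app, nsmul_mkSec, ← pow_mul, mul_comm, pow_mul, zU_pow S n ζ hζn,
    one_pow]
  rfl

/-- the comparison map `ℤ/n → μ_n` -/
noncomputable def phi [NeZero n] : EtCoh.const S (ZMod n) ⟶ EtCoh.mu S n :=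
  kernel.lift (EtCoh.powMap S n) (psi S n ζ hζn) (psi_powMap S n ζ hζn)

lemma phi_muι [NeZero n] : phi S n ζ hζn ≫ EtCoh.muι S n = psi S n ζ hζn :=
  kernel.lift_ι _ _ _

lemma muι_injective (U : S.Etale) : Function.Injective ((EtCoh.muι S n).hom.app (op U)) := by
  have h1 : Mono (EtCoh.muι S n) := by
    unfold EtCoh.muι
    exact equalizer.ι_mono
  have h2 : Mono ((sheafToPresheaf _ _).map (EtCoh.muι S n)) := inferInstance
  have h3 : Mono (((sheafToPresheaf _ _).map (EtCoh.muι S n)).app (op U)) := inferInstance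
  exact (AddCommGrpCat.mono_iff_injective _).mp h3

lemma muι_pow (U : S.Etale) (s : ToType ((EtCoh.mu S n).obj.obj (op U))) :
    secUnit S U ((EtCoh.muι S n).hom.app (op U) s) ^ n = 1 := by
  have h1 : EtCoh.muι S n ≫ EtCoh.powMap S n = 0 := kernel.condition _
  have h2 : (EtCoh.powMap S n).hom.app (op U) ((EtCoh.muι S n).hom.app (op U) s) = 0 := by
    have := congrArg (fun f => f.hom.app (op U) s) h1
    exact this
  rw [powMap_app] at h2
  have h3 : mkSec S U (secUnit S U ((EtCoh.muι S n).hom.app (op U) s) ^ n) = mkSec S U 1 := h2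
  exact mkSec_injective S U h3

/-- the restriction of a global function to its basic open is a unit -/
lemma isUnit_ι_appTop_basicOpen (Y : Scheme.{u}) (h : Γ(Y, ⊤)) :
    IsUnit ((Y.basicOpen h).ι.appTop h) := by
  have hu : IsUnit (Y.presheaf.map (homOfLE (Y.basicOpen_le h)).op h) :=
    RingedSpace.isUnit_res_basicOpen Y.toRingedSpace h
  have e : (Y.basicOpen h).ι.appTop h =
      Y.presheaf.map (homOfLE (Y.basicOpen h).ι_image_top.le).op
        (Y.presheaf.map (homOfLE (Y.basicOpen_le h)).op h) := by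
    rw [← CommRingCat.comp_apply, ← Functor.map_comp]
    rfl
  rw [e]
  exact hu.map _

open Polynomial in
theorem phi_locallySurjective [NeZero n] (hn : IsUnit (n : Γ(S, ⊤)))
    (hcyc : aeval (ζ : Γ(S, ⊤)) (cyclotomic n ℤ) = 0) :
    Sheaf.IsLocallySurjective (phi S n ζ hζn) := by
  constructor
  intro U s
  rw [Groth.Agent.Lib.Helper16.SmallEtale.mem_smallEtale_iff]
  intro y
  -- the unit underlying `s`
  set su : (Γ(U.left, ⊤))ˣ := secUnit S U ((EtCoh.muι S n).hom.app (op U) s) with hsu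
  have hsun : su ^ n = 1 := muι_pow S n U s
  -- evaluation at `y`
  let ev : Γ(U.left, ⊤) →+* U.left.residueField y := (U.left.Γevaluation y).hom
  have hprim := isPrimitiveRoot_ev S n ζ hn hcyc U y
  have hξ : (ev (su : Γ(U.left, ⊤))) ^ n = 1 := by
    rw [← map_pow, ← Units.val_pow_eq_pow_val, hsun]
    simp
  have hnK : NeZero (n : U.left.residueField y) := ⟨by
    have := hn.map ((U.left.Γevaluation y).hom.comp U.hom.appTop.hom)
    rw [map_natCast] at this
    exact this.ne_zero⟩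
  obtain ⟨i, hi, hiξ⟩ := hprim.eq_pow_of_pow_eq_one hξ
  -- the quotient `t = su / ζ ^ i`
  set t : (Γ(U.left, ⊤))ˣ := su * ((zU S ζ U) ^ i)⁻¹ with ht
  have htn : t ^ n = 1 := by
    rw [ht, mul_pow, hsun, one_mul, inv_pow, ← pow_mul, mul_comm, pow_mul, zU_pow S n ζ hζn, one_pow,
      inv_one]
  have hty : ev (t : Γ(U.left, ⊤)) = 1 := by
    have h1 : (t : Γ(U.left, ⊤)) * ((zU S ζ U : (Γ(U.left, ⊤))ˣ) : Γ(U.left, ⊤)) ^ i = su := by
      rw [ht, Units.val_mul, mul_assoc, ← Units.val_pow_eq_pow_val, ← Units.val_mul, inv_mul_cancel,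
        Units.val_one, mul_one]
    have h2 := congrArg ev h1
    rw [map_mul, map_pow, hiξ] at h2
    have h3 : ev (su : Γ(U.left, ⊤)) ≠ 0 := by
      intro h0
      rw [h0, zero_pow (NeZero.ne n)] at hξ
      exact zero_ne_one hξ
    exact mul_right_cancel₀ h3 (by rw [h2, one_mul])
  -- the geometric sum
  let h : Γ(U.left, ⊤) := ∑ j ∈ Finset.range n, (t : Γ(U.left, ⊤)) ^ j
  have hhy : ev h ≠ 0 := by
    have : ev h = (n : U.left.residueField y) := by
      simp only [h, map_sum, map_pow, hty, one_pow, Finset.sum_const, Finset.card_range,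
        nsmul_eq_mul, mul_one]
    rw [this]
    exact NeZero.ne _
  have hyD : y ∈ U.left.basicOpen h := by
    rw [← Scheme.evaluation_ne_zero_iff_mem_basicOpen U.left y (Set.mem_univ y : y ∈ (⊤ : U.left.Opens))]
    exact hhy
  -- the open neighbourhood
  let D := U.left.basicOpen h
  let W : S.Etale := Scheme.Etale.mk (D.ι ≫ U.hom)
  let g : W ⟶ U := MorphismProperty.Over.homMk D.ι rfl trivial
  refine ⟨W, g, ⟨y, hyD⟩, ?_, rfl⟩
  -- on `W`, `t = 1`
  let r : Γ(U.left, ⊤) →+* Γ(W.left, ⊤) := D.ι.appTop.hom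
  have hr1 : r (t : Γ(U.left, ⊤)) = 1 := by
    have hu : IsUnit (r h) := isUnit_ι_appTop_basicOpen U.left h
    have h0 : (r (t : Γ(U.left, ⊤)) - 1) * r h = 0 := by
      simp only [h, map_sum, map_pow]
      rw [mul_geom_sum, ← map_pow, ← Units.val_pow_eq_pow_val, htn]
      simp
    have := hu.mul_left_eq_zero.mp h0
    exact sub_eq_zero.mp this
  have hr2 : Units.map (g.left.appTop).hom.toMonoidHom su = zU S ζ W ^ i := by
    apply Units.ext
    change r (su : Γ(U.left, ⊤)) = _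
    have h1 : (su : Γ(U.left, ⊤)) = (t : Γ(U.left, ⊤)) * ((zU S ζ U : (Γ(U.left, ⊤))ˣ) : Γ(U.left, ⊤)) ^ i := by
      rw [ht, Units.val_mul, mul_assoc, ← Units.val_pow_eq_pow_val, ← Units.val_mul, inv_mul_cancel,
        Units.val_one, mul_one]
    rw [h1, map_mul, hr1, one_mul, map_pow, ← zU_map S ζ g]
    rfl
  -- the preimage
  refine ⟨(eta S n).app (op W) (ULift.up ((i : ℕ) : ZMod n)), ?_⟩
  apply muι_injective S n W
  have e1 : (EtCoh.muι S n).hom.app (op W) ((phi S n ζ hζn).hom.app (op W)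
      ((eta S n).app (op W) (ULift.up ((i : ℕ) : ZMod n)))) =
      (psi S n ζ hζn).hom.app (op W) ((eta S n).app (op W) (ULift.up ((i : ℕ) : ZMod n))) := by
    rw [← phi_muι S n ζ hζn]
    rfl
  rw [e1, eta_psi_apply]
  have e2 := NatTrans.naturality_apply (EtCoh.muι S n).hom g.op s
  rw [e2]
  change _ = (EtCoh.Gm S).obj.map g.op (mkSec S U su)
  rw [map_mkSec, hr2, ZMod.val_natCast_of_lt hi]

open Polynomial in
/-- `μ_n ≅ ℤ/n` on the small étale site when `n` is invertible and a root of the cyclotomic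
polynomial is given. -/
theorem nonempty_mu_iso_const (n : ℕ) (hn1 : 1 ≤ n) (hunit : IsUnit (n : Γ(S, ⊤)))
    (z : Γ(S, ⊤)) (hz : aeval z (cyclotomic n ℤ) = 0) :
    Nonempty (EtCoh.mu S n ≅ EtCoh.const S (ZMod n)) := by
  have : NeZero n := ⟨by omega⟩
  have hzn : z ^ n = 1 := pow_eq_one_of_cyclotomic n z hz
  let ζ : (Γ(S, ⊤))ˣ := Units.ofPowEqOne z n hzn (by omega)
  have hζn : ζ ^ n = 1 := by
    apply Units.ext
    rw [Units.val_pow_eq_pow_val]
    exact hzn
  have hcyc : aeval (ζ : Γ(S, ⊤)) (cyclotomic n ℤ) = 0 := hz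
  have h1 := psi_locallyInjective S n ζ hζn hunit hcyc
  have h2 : Mono (psi S n ζ hζn) := Sheaf.mono_of_isLocallyInjective _
  have h3 : Mono (phi S n ζ hζn) := by
    have : Mono (phi S n ζ hζn ≫ EtCoh.muι S n) := by rw [phi_muι]; exact h2
    exact mono_of_mono (phi S n ζ hζn) (EtCoh.muι S n)
  have h4 := phi_locallySurjective S n ζ hζn hunit hcyc
  have h5 : Epi (phi S n ζ hζn) := Sheaf.epi_of_isLocallySurjective _
  have h6 : IsIso (phi S n ζ hζn) := isIso_of_mono_of_epi _
  exact ⟨(asIso (phi S n ζ hζn)).symm⟩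

end Groth.Agent.Lib.T2H8.MuConst
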