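import Mathlib
import Groth.Prelude.Def_CartDual
import Groth.Prelude.Def_CartDual2
import Groth.Agent.Lib.Helper25EtConn

/-!
# T2H8MuSubA: the largest connected multiplicative subgroup (S15896)

A connected closed subgroup `H = Spec A/J` with étale Cartier dual lies in the subgroup `G_μ` of
`G⁰` cut out by the invariants of `((G⁰)^D)⁰` acting on `(G⁰)^D`.
-/

set_option autoImplicit false
universe u v w

open TensorProduct

namespace Groth.Agent.Lib.T2H8.MuSub

section Inv

variable {R : Type u} [CommRing R] {D : Type v} [CommRing D] [Bialgebra R D]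

/-- From the quotient form of invariance to the `e'`-multiplication form. -/
theorem lTensor_mulLeft_of_mem_equalizer (e' : D) (he' : IsIdempotentElem e') (x : D)
    (hx : Algebra.TensorProduct.map (AlgHom.id R D) (Ideal.Quotient.mkₐ R (Ideal.span ({1 - e'} : Set D)))
      (Bialgebra.comulAlgHom R D x) = x ⊗ₜ[R] (1 : D ⧸ Ideal.span ({1 - e'} : Set D))) :
    LinearMap.lTensor D (LinearMap.mulLeft R e') (Coalgebra.comul (R := R) x) = x ⊗ₜ[R] e' := by
  set K : Ideal D := Ideal.span ({1 - e'} : Set D) with hK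
  let q : D →ₗ[R] D ⧸ K := (Ideal.Quotient.mkₐ R K).toLinearMap
  have hq : Function.Surjective q := Ideal.Quotient.mk_surjective
  have hex : Function.Exact (LinearMap.ker q).subtype q := LinearMap.exact_subtype_ker_map _
  have hex2 := lTensor_exact D hex hq
  have hmapq : ∀ t : D ⊗[R] D,
      Algebra.TensorProduct.map (AlgHom.id R D) (Ideal.Quotient.mkₐ R K) t = q.lTensor D t := by
    intro t
    induction t using TensorProduct.induction_on with
    | zero => simp
    | add y z hy hz => simp only [map_add, hy, hz]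
    | tmul a b => simp [q]
  have h0 : q.lTensor D (Coalgebra.comul (R := R) x - x ⊗ₜ[R] (1 : D)) = 0 := by
    rw [map_sub, ← hmapq, ← Bialgebra.comulAlgHom_apply, hx, LinearMap.lTensor_tmul]
    change x ⊗ₜ[R] (1 : D ⧸ K) - x ⊗ₜ[R] (Ideal.Quotient.mk K 1) = 0
    rw [map_one, sub_self]
  obtain ⟨y, hy⟩ := (hex2 _).mp h0
  have hkill : ∀ y : D ⊗[R] (LinearMap.ker q),
      (LinearMap.mulLeft R e').lTensor D ((LinearMap.ker q).subtype.lTensor D y) = 0 := by
    intro y
    induction y using TensorProduct.induction_on with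
    | zero => simp
    | add y z hy hz => simp only [map_add, hy, hz, add_zero]
    | tmul a b =>
      simp only [LinearMap.lTensor_tmul, Submodule.subtype_apply, LinearMap.mulLeft_apply]
      have hb : (b : D) ∈ K := by
        have := b.2
        rw [LinearMap.mem_ker] at this
        exact Ideal.Quotient.eq_zero_iff_mem.mp this
      obtain ⟨c, hc⟩ := Ideal.mem_span_singleton'.mp hb
      have : e' * (b : D) = 0 := by
        rw [← hc, mul_comm c, ← mul_assoc, mul_sub, mul_one, he'.eq, sub_self, zero_mul]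
      rw [this, TensorProduct.tmul_zero]
  have h1 := hkill y
  rw [hy, map_sub, LinearMap.lTensor_tmul, LinearMap.mulLeft_apply, mul_one, sub_eq_zero] at h1
  exact h1

end Inv

section QuotLift

variable {R : Type u} [CommRing R] {A : Type v} [CommRing A] [HopfAlgebra R A]
  {C : Type w} [CommRing C] [Bialgebra R C]

/-- Descend a bialgebra map to the quotient by a Hopf ideal it kills (ring-level copy of
`Helper25HopfSub.quotLift`). -/
noncomputable def quotLift' (I : Ideal A) [I.IsHopfIdeal R] (f : A →ₐc[R] C)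
    (hf : ∀ a ∈ I, f a = 0) : A ⧸ I →ₐc[R] C :=
  BialgHom.ofAlgHom (Ideal.Quotient.liftₐ I (f : A →ₐ[R] C) hf)
    (Ideal.Quotient.algHom_ext R (AlgHom.ext fun a => by
      change CoalgebraStruct.counit (R := R) (f a) = CoalgebraStruct.counit (R := R) a
      exact CoalgHomClass.counit_comp_apply f a))
    (Ideal.Quotient.algHom_ext R (AlgHom.ext fun a => by
      change TensorProduct.map (Ideal.Quotient.liftₐ I (f : A →ₐ[R] C) hf).toLinearMap
          (Ideal.Quotient.liftₐ I (f : A →ₐ[R] C) hf).toLinearMap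
          (CoalgebraStruct.comul (R := R) (Ideal.Quotient.mk I a)) =
        CoalgebraStruct.comul (R := R) (f a)
      rw [Bialgebra.Quotient.comul_mk, ← LinearMap.comp_apply, ← TensorProduct.map_comp,
        ← CoalgHomClass.map_comp_comul_apply f a]
      rfl))

@[simp] theorem quotLift'_mk (I : Ideal A) [I.IsHopfIdeal R] (f : A →ₐc[R] C)
    (hf : ∀ a ∈ I, f a = 0) (a : A) : quotLift' I f hf (Ideal.Quotient.mk I a) = f a := rfl

end QuotLift

section Main

open Groth.Agent.Lib.Helper25.EtConn

/-- **S15896**. -/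
theorem mem_of_forall_invariant (R : Type u) [CommRing R]
    [HenselianLocalRing R] [IsNoetherianRing R] (A : Type u) [CommRing A] [HopfAlgebra R A] [Coalgebra.IsCocomm R A]
    [Module.Finite R A] [Module.Projective R A] (e : A) (he : IsIdempotentElem e)
    (hε : Bialgebra.counitAlgHom R A e = 1) [(Ideal.span ({1 - e} : Set A)).IsHopfIdeal R] [IsLocalRing (A ⧸ Ideal.span ({1 - e} : Set A))]
    [Module.Projective R (A ⧸ Ideal.span ({1 - e} : Set A))] [Coalgebra.IsCocomm R (A ⧸ Ideal.span ({1 - e} : Set A))]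
    (e' : CartDual.D R (A ⧸ Ideal.span ({1 - e} : Set A))) (he' : IsIdempotentElem e')
    (hε' : Bialgebra.counitAlgHom R (CartDual.D R (A ⧸ Ideal.span ({1 - e} : Set A))) e' = 1)
    [IsLocalRing (CartDual.D R (A ⧸ Ideal.span ({1 - e} : Set A)) ⧸ Ideal.span ({1 - e'} : Set (CartDual.D R (A ⧸ Ideal.span ({1 - e} : Set A)))))]
    (J : Ideal A) [J.IsHopfIdeal R] [IsLocalRing (A ⧸ J)] [Module.Projective R (A ⧸ J)]
    [Coalgebra.IsCocomm R (A ⧸ J)] [Algebra.Etale R (CartDual.D R (A ⧸ J))]
    (a : A) (ha : ∀ x : CartDual.D R (A ⧸ Ideal.span ({1 - e} : Set A)), LinearMap.lTensor (CartDual.D R (A ⧸ Ideal.span ({1 - e} : Set A))) (LinearMap.mulLeft R e') (Coalgebra.comul (R := R) x) = x ⊗ₜ[R] e' → x (Ideal.Quotient.mk (Ideal.span ({1 - e} : Set A)) a) = 0) :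
    a ∈ J := by
  -- step 1: `(1 - e) ⊆ J`
  have h1 : Bialgebra.Quotient.mkBialgHom (R := R) J e = 1 :=
    (connectedEtale_universal R A e hε).2 (A ⧸ J) (Bialgebra.Quotient.mkBialgHom (R := R) J) he
  have hle : ∀ y ∈ Ideal.span ({1 - e} : Set A), Bialgebra.Quotient.mkBialgHom (R := R) J y = 0 := by
    intro y hy
    obtain ⟨c, rfl⟩ := Ideal.mem_span_singleton'.mp hy
    rw [map_mul, map_sub, map_one, h1, sub_self, mul_zero]
  -- step 2: the induced map and its transpose
  let φ : (A ⧸ Ideal.span ({1 - e} : Set A)) →ₐc[R] A ⧸ J :=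
    quotLift' (Ideal.span ({1 - e} : Set A)) (Bialgebra.Quotient.mkBialgHom (R := R) J) hle
  let t : CartDual.D R (A ⧸ J) →ₐc[R] CartDual.D R (A ⧸ Ideal.span ({1 - e} : Set A)) :=
    CartDual.transpose R φ
  -- step 3: the image of the (étale) dual consists of invariants
  have hinv : ∀ y : CartDual.D R (A ⧸ J), (t y) (Ideal.Quotient.mk (Ideal.span ({1 - e} : Set A)) a) = 0 := by
    intro y
    apply ha
    apply lTensor_mulLeft_of_mem_equalizer e' he'
    have := (connectedEtale_universal R (CartDual.D R (A ⧸ Ideal.span ({1 - e} : Set A))) e' hε').1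
      (CartDual.D R (A ⧸ J)) t y
    rw [AlgHom.mem_equalizer] at this
    exact this
  -- step 4: the dual separates points
  have h4 : ∀ y : Module.Dual R (A ⧸ J), y (Ideal.Quotient.mk J a) = 0 := by
    intro y
    have := hinv ((CartDual.toDual R (A ⧸ J)).symm y)
    exact this
  have h5 : Ideal.Quotient.mk J a = 0 := by
    apply (Module.bijective_dual_eval R (A ⧸ J)).1
    apply LinearMap.ext
    intro y
    rw [Module.Dual.eval_apply, map_zero, LinearMap.zero_apply]
    exact h4 y
  exact Ideal.Quotient.eq_zero_iff_mem.mp h5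

end Main

end Groth.Agent.Lib.T2H8.MuSub
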