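import Mathlib
import Groth.Agent.Lib.T2H8ApproxPrime
import Groth.Agent.Lib.T2H8NbhdLocal

set_option autoImplicit false
universe u
open AlgebraicGeometry CategoryTheory IsLocalRing

namespace Groth.Agent.Lib.T2H8.NbhdSch

theorem stalkMap_germ_fromSpec {X : Scheme.{u}} {X₀ : X.Opens} (hX₀ : IsAffineOpen X₀)
    (D' : CommRingCat.{u}) (a : Γ(X, X₀) ⟶ D') (u : Spec D')
    (hx : (Spec.map a ≫ hX₀.fromSpec) u ∈ X₀) (d : Γ(X, X₀)) :
    ((Spec.map a ≫ hX₀.fromSpec).stalkMap u).hom (X.presheaf.germ X₀ _ hx d) =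
      ((Scheme.ΓSpecIso D').inv ≫ (Spec D').presheaf.germ ⊤ u trivial).hom (a.hom d) := by
  rw [Scheme.Hom.germ_stalkMap_apply]
  have h1 : (Scheme.ΓSpecIso D').inv.hom (a.hom d) =
      (Spec.map a).appTop.hom ((Scheme.ΓSpecIso Γ(X, X₀)).inv.hom d) :=
    congrArg (fun φ => φ.hom d) (Scheme.ΓSpecIso_inv_naturality a)
  simp only [Scheme.Hom.comp_app, IsAffineOpen.fromSpec_app_self]
  simp only [CommRingCat.hom_comp, RingHom.comp_apply]
  rw [h1]
  have h2 := congrArg (fun φ => φ.hom ((Scheme.ΓSpecIso Γ(X, X₀)).inv.hom d))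
      ((Spec.map a).naturality (eqToHom hX₀.fromSpec_preimage_self).op)
  simp only [CommRingCat.hom_comp, RingHom.comp_apply] at h2
  erw [h2]
  erw [TopCat.Presheaf.germ_res_apply]
  rfl

theorem stalkCongr_inv_germ {X : Scheme.{u}} {x x' : X} (h : x' = x) (X₀ : X.Opens)
    (hx : x ∈ X₀) (d : Γ(X, X₀)) :
    (X.presheaf.stalkCongr (Inseparable.of_eq h)).inv.hom (X.presheaf.germ X₀ x hx d) =
      X.presheaf.germ X₀ x' (h ▸ hx) d := by
  subst h
  simp [TopCat.Presheaf.stalkCongr]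

theorem stalkCongr_hom_germ {X : Scheme.{u}} {x x' : X} (h : x = x') (X₀ : X.Opens)
    (hx : x ∈ X₀) (d : Γ(X, X₀)) :
    (X.presheaf.stalkCongr (Inseparable.of_eq h)).hom.hom (X.presheaf.germ X₀ x hx d) =
      X.presheaf.germ X₀ x' (h ▸ hx) d := by
  subst h
  simp [TopCat.Presheaf.stalkCongr]

theorem stalkMap_germ_appLE {X S : Scheme.{u}} (f : X ⟶ S) (W : S.Opens) (X₀ : X.Opens)
    (h : X₀ ≤ f ⁻¹ᵁ W) (x : X) (hx : x ∈ X₀) (r : Γ(S, W)) :
    (f.stalkMap x).hom (S.presheaf.germ W (f x) (h hx) r) =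
      X.presheaf.germ X₀ x hx ((f.appLE W X₀ h).hom r) := by
  rw [Scheme.Hom.germ_stalkMap_apply]
  simp only [Scheme.Hom.appLE, CommRingCat.hom_comp, RingHom.comp_apply]
  erw [TopCat.Presheaf.germ_res_apply]

/-- the prime of a point in an affine open pulls back along `appLE` to the prime of its image -/
theorem comap_primeIdealOf {X S : Scheme.{u}} (f : X ⟶ S) {W : S.Opens} (hW : IsAffineOpen W)
    {X₀ : X.Opens} (hX₀ : IsAffineOpen X₀) (h : X₀ ≤ f ⁻¹ᵁ W) (x : X) (hx : x ∈ X₀) :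
    (hX₀.primeIdealOf ⟨x, hx⟩).asIdeal.comap (f.appLE W X₀ h).hom =
      (hW.primeIdealOf ⟨f x, h hx⟩).asIdeal := by
  letI algX : Algebra Γ(X, X₀) (X.presheaf.stalk x) :=
    TopCat.Presheaf.algebra_section_stalk X.presheaf (⟨x, hx⟩ : X₀)
  haveI locX : IsLocalization.AtPrime (X.presheaf.stalk x) (hX₀.primeIdealOf ⟨x, hx⟩).asIdeal :=
    hX₀.isLocalization_stalk ⟨x, hx⟩
  letI algS : Algebra Γ(S, W) (S.presheaf.stalk (f x)) :=
    TopCat.Presheaf.algebra_section_stalk S.presheaf (⟨f x, h hx⟩ : W)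
  haveI locS : IsLocalization.AtPrime (S.presheaf.stalk (f x)) (hW.primeIdealOf ⟨f x, h hx⟩).asIdeal :=
    hW.isLocalization_stalk ⟨f x, h hx⟩
  ext r
  rw [Ideal.mem_comap,
    ← IsLocalization.AtPrime.to_map_mem_maximal_iff (X.presheaf.stalk x)
      (hX₀.primeIdealOf ⟨x, hx⟩).asIdeal,
    ← IsLocalization.AtPrime.to_map_mem_maximal_iff (S.presheaf.stalk (f x))
      (hW.primeIdealOf ⟨f x, h hx⟩).asIdeal]
  have h1 : algebraMap Γ(X, X₀) (X.presheaf.stalk x) ((f.appLE W X₀ h).hom r) =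
      (f.stalkMap x).hom (algebraMap Γ(S, W) (S.presheaf.stalk (f x)) r) :=
    (stalkMap_germ_appLE f W X₀ h x hx r).symm
  rw [h1]
  rw [← Ideal.mem_comap, IsLocalRing.maximalIdeal_comap]


theorem main {X Y S : Scheme.{u}} [IsLocallyNoetherian S]
    (p : X ⟶ S) (q : Y ⟶ S) [LocallyOfFiniteType p] [LocallyOfFiniteType q] (x : X) (y : Y) (hxy : p x = q y)
    (hG : CAlg.IsGRing ↑(S.presheaf.stalk (p x)))
    (φ : ↑(Y.presheaf.stalk y) →+* (AdicCompletion (IsLocalRing.maximalIdeal ↑(X.presheaf.stalk x)) ↑(X.presheaf.stalk x)))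
    (hφ : φ.comp ((q.stalkMap y).hom.comp (S.presheaf.stalkCongr (Inseparable.of_eq hxy)).hom.hom) =
      (algebraMap ↑(X.presheaf.stalk x) (AdicCompletion (IsLocalRing.maximalIdeal ↑(X.presheaf.stalk x)) ↑(X.presheaf.stalk x))).comp (p.stalkMap x).hom)
    (hloc : ∀ b ∈ IsLocalRing.maximalIdeal ↑(Y.presheaf.stalk y),
      φ b ∈ (IsLocalRing.maximalIdeal ↑(X.presheaf.stalk x)).map (algebraMap ↑(X.presheaf.stalk x) (AdicCompletion (IsLocalRing.maximalIdeal ↑(X.presheaf.stalk x)) ↑(X.presheaf.stalk x))))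
    (N : ℕ) (hN : 1 ≤ N) :
    ∃ (U : Scheme.{u}) (e : U ⟶ X) (u : U) (heu : e u = x) (f : U ⟶ Y) (hfu : f u = y),
      Etale e ∧ Function.Bijective (e.residueFieldMap u) ∧ f ≫ q = e ≫ p ∧
      ∀ (b : ↑(Y.presheaf.stalk y)) (c : ↑(X.presheaf.stalk x)),
        AdicCompletion.evalₐ (IsLocalRing.maximalIdeal ↑(X.presheaf.stalk x)) N (φ b) =
          Ideal.Quotient.mk (IsLocalRing.maximalIdeal ↑(X.presheaf.stalk x) ^ N) c →
        Ideal.Quotient.mk (IsLocalRing.maximalIdeal ↑(U.presheaf.stalk u) ^ N)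
            ((f.stalkMap u).hom ((Y.presheaf.stalkCongr (Inseparable.of_eq hfu)).inv.hom b)) =
          Ideal.Quotient.mk (IsLocalRing.maximalIdeal ↑(U.presheaf.stalk u) ^ N)
            ((e.stalkMap u).hom ((X.presheaf.stalkCongr (Inseparable.of_eq heu)).inv.hom c)) := by
  classical
  obtain ⟨N', rfl⟩ : ∃ N', N = N' + 1 := ⟨N - 1, by omega⟩
  -- affine opens
  obtain ⟨W, hW, hsW, -⟩ := exists_isAffineOpen_mem_and_subset (x := p x) (U := ⊤) trivial
  obtain ⟨X₀, hX₀, hxX₀, hX₀W'⟩ :=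
    exists_isAffineOpen_mem_and_subset (x := x) (U := p ⁻¹ᵁ W) hsW
  have hyW : q y ∈ W := hxy ▸ hsW
  obtain ⟨V, hV, hyV, hVW'⟩ :=
    exists_isAffineOpen_mem_and_subset (x := y) (U := q ⁻¹ᵁ W) hyW
  have hX₀W : X₀ ≤ p ⁻¹ᵁ W := fun z hz => hX₀W' hz
  have hVW : V ≤ q ⁻¹ᵁ W := fun z hz => hVW' hz
  -- the rings
  let a₁ : Γ(S, W) ⟶ Γ(X, X₀) := p.appLE W X₀ hX₀W
  let a₂ : Γ(S, W) ⟶ Γ(Y, V) := q.appLE W V hVW
  have ha₁ : a₁.hom.FiniteType :=
    HasRingHomProperty.appLE (P := @LocallyOfFiniteType) p inferInstance ⟨W, hW⟩ ⟨X₀, hX₀⟩ hX₀W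
  have ha₂ : a₂.hom.FiniteType :=
    HasRingHomProperty.appLE (P := @LocallyOfFiniteType) q inferInstance ⟨W, hW⟩ ⟨V, hV⟩ hVW
  haveI : IsNoetherianRing Γ(S, W) :=
    IsLocallyNoetherian.component_noetherian (⟨W, hW⟩ : S.affineOpens)
  have ha₂' : a₂.hom.FinitePresentation := RingHom.FinitePresentation.of_finiteType.mp ha₂
  -- the stalks as localizations
  letI algX : Algebra Γ(X, X₀) (X.presheaf.stalk x) :=
    TopCat.Presheaf.algebra_section_stalk X.presheaf (⟨x, hxX₀⟩ : X₀)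
  haveI locX : IsLocalization.AtPrime (X.presheaf.stalk x) (hX₀.primeIdealOf ⟨x, hxX₀⟩).asIdeal :=
    hX₀.isLocalization_stalk ⟨x, hxX₀⟩
  letI algS : Algebra Γ(S, W) (S.presheaf.stalk (p x)) :=
    TopCat.Presheaf.algebra_section_stalk S.presheaf (⟨p x, hsW⟩ : W)
  haveI locS : IsLocalization.AtPrime (S.presheaf.stalk (p x)) (hW.primeIdealOf ⟨p x, hsW⟩).asIdeal :=
    hW.isLocalization_stalk ⟨p x, hsW⟩
  letI algY : Algebra Γ(Y, V) (Y.presheaf.stalk y) :=
    TopCat.Presheaf.algebra_section_stalk Y.presheaf (⟨y, hyV⟩ : V)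
  haveI locY : IsLocalization.AtPrime (Y.presheaf.stalk y) (hV.primeIdealOf ⟨y, hyV⟩).asIdeal :=
    hV.isLocalization_stalk ⟨y, hyV⟩
  have hGA : CAlg.IsGRing (X.presheaf.stalk x) :=
    NbhdLocal.isGRing_of_isLocalization_finiteType a₁.hom ha₁
      (hX₀.primeIdealOf ⟨x, hxX₀⟩).asIdeal (hW.primeIdealOf ⟨p x, hsW⟩).asIdeal
      (comap_primeIdealOf p hW hX₀ hX₀W x hxX₀) (S.presheaf.stalk (p x)) hG (X.presheaf.stalk x)
  -- the map from `Γ(Y, V)` to the completion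
  let φ₀ : Γ(Y, V) →+* AdicCompletion (maximalIdeal (X.presheaf.stalk x)) (X.presheaf.stalk x) :=
    φ.comp (Y.presheaf.germ V y hyV).hom
  have hφ₀ : φ₀.comp a₂.hom =
      (algebraMap Γ(X, X₀) (AdicCompletion (maximalIdeal (X.presheaf.stalk x))
        (X.presheaf.stalk x))).comp a₁.hom := by
    refine RingHom.ext fun r => ?_
    show φ ((Y.presheaf.germ V y hyV).hom ((q.appLE W V hVW).hom r)) =
      algebraMap (X.presheaf.stalk x) _ ((X.presheaf.germ X₀ x hxX₀).hom ((p.appLE W X₀ hX₀W).hom r))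
    rw [← stalkMap_germ_appLE q W V hVW y hyV r, ← stalkMap_germ_appLE p W X₀ hX₀W x hxX₀ r,
      ← stalkCongr_hom_germ hxy W hsW r]
    exact RingHom.congr_fun hφ _
  obtain ⟨D', _, _, hD', σ₀, ψ, hσ₀, hψ⟩ := ApproxPrime.approx_etale_rel a₁.hom a₂.hom ha₂'
    (hX₀.primeIdealOf ⟨x, hxX₀⟩).asIdeal (X.presheaf.stalk x) hGA φ₀ hφ₀ N'
  haveI := hD'
  -- the scheme and the morphisms
  let aD : Γ(X, X₀) ⟶ CommRingCat.of D' := CommRingCat.ofHom (algebraMap Γ(X, X₀) D')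
  let sD : Γ(Y, V) ⟶ CommRingCat.of D' := CommRingCat.ofHom σ₀
  let e : Spec (CommRingCat.of D') ⟶ X := Spec.map aD ≫ hX₀.fromSpec
  let f : Spec (CommRingCat.of D') ⟶ Y := Spec.map sD ≫ hV.fromSpec
  have hcomm : f ≫ q = e ≫ p := by
    have h1 : a₂ ≫ sD = a₁ ≫ aD := CommRingCat.hom_ext hσ₀
    calc f ≫ q = Spec.map sD ≫ (hV.fromSpec ≫ q) := Category.assoc _ _ _
      _ = Spec.map sD ≫ (Spec.map a₂ ≫ hW.fromSpec) := by
          rw [IsAffineOpen.SpecMap_appLE_fromSpec q hW hV hVW]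
      _ = Spec.map (a₂ ≫ sD) ≫ hW.fromSpec := by rw [Spec.map_comp, Category.assoc]
      _ = Spec.map (a₁ ≫ aD) ≫ hW.fromSpec := by rw [h1]
      _ = Spec.map aD ≫ (Spec.map a₁ ≫ hW.fromSpec) := by rw [Spec.map_comp, Category.assoc]
      _ = Spec.map aD ≫ (hX₀.fromSpec ≫ p) := by
          rw [IsAffineOpen.SpecMap_appLE_fromSpec p hW hX₀ hX₀W]
      _ = e ≫ p := (Category.assoc _ _ _).symm
  haveI hEt : Etale e := by
    haveI : Etale (Spec.map aD) := by
      rw [HasRingHomProperty.Spec_iff (P := @Etale)]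
      exact RingHom.etale_algebraMap.mpr hD'
    infer_instance
  -- the point
  have hpow : maximalIdeal (X.presheaf.stalk x) ^ (N' + 1) ≤ maximalIdeal (X.presheaf.stalk x) :=
    Ideal.pow_le_self (Nat.succ_ne_zero N')
  let fac : (X.presheaf.stalk x ⧸ maximalIdeal (X.presheaf.stalk x) ^ (N' + 1)) →+*
      (X.presheaf.stalk x ⧸ maximalIdeal (X.presheaf.stalk x)) := Ideal.Quotient.factor hpow
  let ψ₁ : D' →+* (X.presheaf.stalk x ⧸ maximalIdeal (X.presheaf.stalk x)) :=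
    fac.comp ψ.toRingHom
  let Q' : Ideal D' := RingHom.ker ψ₁
  haveI hQ' : Q'.IsPrime := RingHom.ker_isPrime ψ₁
  let u : Spec (CommRingCat.of D') := ⟨Q', hQ'⟩
  have hψ₁alg : ∀ d : Γ(X, X₀), ψ₁ (algebraMap Γ(X, X₀) D' d) =
      Ideal.Quotient.mk _ (algebraMap Γ(X, X₀) (X.presheaf.stalk x) d) := by
    intro d
    show fac (ψ (algebraMap Γ(X, X₀) D' d)) = _
    rw [AlgHom.commutes]
    rfl
  have hcomapX : Q'.comap (algebraMap Γ(X, X₀) D') = (hX₀.primeIdealOf ⟨x, hxX₀⟩).asIdeal := by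
    ext d
    rw [Ideal.mem_comap, RingHom.mem_ker, hψ₁alg, Ideal.Quotient.eq_zero_iff_mem,
      IsLocalization.AtPrime.to_map_mem_maximal_iff (X.presheaf.stalk x)
        (hX₀.primeIdealOf ⟨x, hxX₀⟩).asIdeal]
  have heu : e u = x := by
    have h1 : (Spec.map aD) u = hX₀.primeIdealOf ⟨x, hxX₀⟩ := PrimeSpectrum.ext hcomapX
    show hX₀.fromSpec ((Spec.map aD) u) = x
    rw [h1]
    exact hX₀.fromSpec_primeIdealOf ⟨x, hxX₀⟩
  let ρ : AdicCompletion (maximalIdeal (X.presheaf.stalk x)) (X.presheaf.stalk x) →+*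
      (X.presheaf.stalk x ⧸ maximalIdeal (X.presheaf.stalk x)) :=
    fac.comp (AdicCompletion.evalₐ (maximalIdeal (X.presheaf.stalk x)) (N' + 1)).toRingHom
  have hρalg : ρ.comp (algebraMap (X.presheaf.stalk x) _) =
      Ideal.Quotient.mk (maximalIdeal (X.presheaf.stalk x)) := by
    refine RingHom.ext fun c => ?_
    show fac (AdicCompletion.evalₐ (maximalIdeal (X.presheaf.stalk x)) (N' + 1)
      (algebraMap (X.presheaf.stalk x) _ c)) = _
    rw [AlgHom.commutes]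
    rfl
  have hρm : ∀ z ∈ (maximalIdeal (X.presheaf.stalk x)).map (algebraMap (X.presheaf.stalk x)
      (AdicCompletion (maximalIdeal (X.presheaf.stalk x)) (X.presheaf.stalk x))), ρ z = 0 := by
    intro z hz
    have h1 := Ideal.mem_map_of_mem ρ hz
    rw [Ideal.map_map, hρalg, Ideal.map_quotient_self] at h1
    exact h1
  have hψ₁σ : ∀ t : Γ(Y, V), ψ₁ (σ₀ t) = ρ (φ₀ t) := by
    intro t
    show fac (ψ (σ₀ t)) = fac (AdicCompletion.evalₐ _ (N' + 1) (φ₀ t))
    rw [hψ]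
  have hcomapY : Q'.comap σ₀ = (hV.primeIdealOf ⟨y, hyV⟩).asIdeal := by
    ext t
    rw [Ideal.mem_comap, RingHom.mem_ker, hψ₁σ,
      ← IsLocalization.AtPrime.to_map_mem_maximal_iff (Y.presheaf.stalk y)
        (hV.primeIdealOf ⟨y, hyV⟩).asIdeal]
    constructor
    · intro h0
      by_contra hnm
      have hunit : IsUnit (algebraMap Γ(Y, V) (Y.presheaf.stalk y) t) := by
        by_contra hnu
        exact hnm ((IsLocalRing.mem_maximalIdeal _).mpr hnu)
      have h2 : IsUnit (ρ (φ₀ t)) := (hunit.map φ).map ρ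
      rw [h0] at h2
      exact not_isUnit_zero h2
    · intro hm
      exact hρm _ (hloc _ hm)
  have hfu : f u = y := by
    have h1 : (Spec.map sD) u = hV.primeIdealOf ⟨y, hyV⟩ := PrimeSpectrum.ext hcomapY
    show hV.fromSpec ((Spec.map sD) u) = y
    rw [h1]
    exact hV.fromSpec_primeIdealOf ⟨y, hyV⟩
  -- the local ring at `u`
  letI algD'S : Algebra D' ((Spec (CommRingCat.of D')).presheaf.stalk u) :=
    StructureSheaf.stalkAlgebra D' u
  haveI locU : IsLocalization.AtPrime ((Spec (CommRingCat.of D')).presheaf.stalk u) Q' :=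
    StructureSheaf.IsLocalization.to_stalk D' u
  have htoStk : ∀ d' : D', algebraMap D' ((Spec (CommRingCat.of D')).presheaf.stalk u) d' =
      ((Scheme.ΓSpecIso (CommRingCat.of D')).inv ≫
        (Spec (CommRingCat.of D')).presheaf.germ ⊤ u trivial).hom d' := fun d' => rfl
  let β : X.presheaf.stalk x →+* (Spec (CommRingCat.of D')).presheaf.stalk u :=
    (e.stalkMap u).hom.comp (X.presheaf.stalkCongr (Inseparable.of_eq heu)).inv.hom
  let α : Y.presheaf.stalk y →+* (Spec (CommRingCat.of D')).presheaf.stalk u :=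
    (f.stalkMap u).hom.comp (Y.presheaf.stalkCongr (Inseparable.of_eq hfu)).inv.hom
  have hβ : ∀ d : Γ(X, X₀), β (algebraMap Γ(X, X₀) (X.presheaf.stalk x) d) =
      algebraMap D' _ (algebraMap Γ(X, X₀) D' d) := by
    intro d
    show (e.stalkMap u).hom ((X.presheaf.stalkCongr (Inseparable.of_eq heu)).inv.hom
      (X.presheaf.germ X₀ x hxX₀ d)) = _
    rw [stalkCongr_inv_germ heu X₀ hxX₀ d, htoStk]
    exact stalkMap_germ_fromSpec hX₀ (CommRingCat.of D') aD u _ d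
  have hα : ∀ t : Γ(Y, V), α (algebraMap Γ(Y, V) (Y.presheaf.stalk y) t) =
      algebraMap D' _ (σ₀ t) := by
    intro t
    show (f.stalkMap u).hom ((Y.presheaf.stalkCongr (Inseparable.of_eq hfu)).inv.hom
      (Y.presheaf.germ V y hyV t)) = _
    rw [stalkCongr_inv_germ hfu V hyV t, htoStk]
    exact stalkMap_germ_fromSpec hV (CommRingCat.of D') sD u _ t
  -- the retraction
  have hunits : ∀ s : Q'.primeCompl, IsUnit (ψ.toRingHom s) := by
    intro s
    obtain ⟨c, hc⟩ := Ideal.Quotient.mk_surjective (ψ (s : D'))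
    have hs : ψ₁ (s : D') ≠ 0 := fun h0 => s.2 h0
    have hc' : c ∉ maximalIdeal (X.presheaf.stalk x) := by
      intro hcm
      apply hs
      show fac (ψ (s : D')) = 0
      rw [← hc]
      show Ideal.Quotient.mk (maximalIdeal (X.presheaf.stalk x)) c = 0
      exact Ideal.Quotient.eq_zero_iff_mem.mpr hcm
    have hcu : IsUnit c := by
      by_contra hnu
      exact hc' ((IsLocalRing.mem_maximalIdeal _).mpr hnu)
    show IsUnit (ψ (s : D'))
    rw [← hc]
    exact hcu.map _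
  let ψ'' : (Spec (CommRingCat.of D')).presheaf.stalk u →+*
      (X.presheaf.stalk x ⧸ maximalIdeal (X.presheaf.stalk x) ^ (N' + 1)) :=
    IsLocalization.lift (M := Q'.primeCompl) (g := ψ.toRingHom) hunits
  have hψ''alg : ∀ d' : D', ψ'' (algebraMap D' _ d') = ψ d' := fun d' =>
    IsLocalization.lift_eq hunits d'
  have hψ''β : ∀ c : X.presheaf.stalk x, ψ'' (β c) = Ideal.Quotient.mk _ c := by
    have h1 : (ψ''.comp β) = Ideal.Quotient.mk (maximalIdeal (X.presheaf.stalk x) ^ (N' + 1)) := by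
      apply IsLocalization.ringHom_ext (hX₀.primeIdealOf ⟨x, hxX₀⟩).asIdeal.primeCompl
      refine RingHom.ext fun d => ?_
      show ψ'' (β (algebraMap Γ(X, X₀) (X.presheaf.stalk x) d)) = _
      rw [hβ, hψ''alg, AlgHom.commutes]
      rfl
    exact fun c => RingHom.congr_fun h1 c
  have hψ''α : ∀ b : Y.presheaf.stalk y, ψ'' (α b) =
      AdicCompletion.evalₐ (maximalIdeal (X.presheaf.stalk x)) (N' + 1) (φ b) := by
    have h1 : (ψ''.comp α) =
        (AdicCompletion.evalₐ (maximalIdeal (X.presheaf.stalk x)) (N' + 1)).toRingHom.comp φ := by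
      apply IsLocalization.ringHom_ext (hV.primeIdealOf ⟨y, hyV⟩).asIdeal.primeCompl
      refine RingHom.ext fun t => ?_
      show ψ'' (α (algebraMap Γ(Y, V) (Y.presheaf.stalk y) t)) = _
      rw [hα, hψ''alg, hψ]
      rfl
    exact fun b => RingHom.congr_fun h1 b
  -- algebra structures
  letI algAS : Algebra (X.presheaf.stalk x) ((Spec (CommRingCat.of D')).presheaf.stalk u) :=
    β.toAlgebra
  haveI : IsLocalHom (algebraMap (X.presheaf.stalk x)
      ((Spec (CommRingCat.of D')).presheaf.stalk u)) := by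
    show IsLocalHom β
    infer_instance
  letI algD₀S : Algebra Γ(X, X₀) ((Spec (CommRingCat.of D')).presheaf.stalk u) :=
    ((algebraMap D' _).comp (algebraMap Γ(X, X₀) D')).toAlgebra
  haveI tow1 : IsScalarTower Γ(X, X₀) D' ((Spec (CommRingCat.of D')).presheaf.stalk u) :=
    IsScalarTower.of_algebraMap_eq (fun _ => rfl)
  haveI tow2 : IsScalarTower Γ(X, X₀) (X.presheaf.stalk x)
      ((Spec (CommRingCat.of D')).presheaf.stalk u) :=
    IsScalarTower.of_algebraMap_eq (fun d => (hβ d).symm)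
  haveI : Algebra.FormallyUnramified D' ((Spec (CommRingCat.of D')).presheaf.stalk u) :=
    Algebra.FormallyUnramified.of_isLocalization Q'.primeCompl
  haveI : Algebra.FormallyUnramified Γ(X, X₀) ((Spec (CommRingCat.of D')).presheaf.stalk u) :=
    Algebra.FormallyUnramified.comp Γ(X, X₀) D' _
  haveI : Algebra.FormallyUnramified (X.presheaf.stalk x)
      ((Spec (CommRingCat.of D')).presheaf.stalk u) :=
    Algebra.FormallyUnramified.of_restrictScalars Γ(X, X₀) _ _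
  haveI : Algebra.EssFiniteType D' ((Spec (CommRingCat.of D')).presheaf.stalk u) :=
    Algebra.EssFiniteType.of_isLocalization _ Q'.primeCompl
  haveI : Algebra.EssFiniteType Γ(X, X₀) ((Spec (CommRingCat.of D')).presheaf.stalk u) :=
    Algebra.EssFiniteType.comp Γ(X, X₀) D' _
  haveI : Algebra.EssFiniteType (X.presheaf.stalk x)
      ((Spec (CommRingCat.of D')).presheaf.stalk u) :=
    Algebra.EssFiniteType.of_comp Γ(X, X₀) _ _
  obtain ⟨hsurj, hcongr⟩ := NbhdLocal.local_congr (N' + 1) (Nat.succ_ne_zero N') ψ'' hψ''β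
  refine ⟨Spec (CommRingCat.of D'), e, u, heu, f, hfu, hEt, ?_, hcomm, ?_⟩
  · refine ⟨(e.residueFieldMap u).hom.injective, fun k => ?_⟩
    obtain ⟨z, rfl⟩ := IsLocalRing.residue_surjective k
    obtain ⟨c, hc⟩ := hsurj z
    refine ⟨IsLocalRing.residue _ ((X.presheaf.stalkCongr (Inseparable.of_eq heu)).inv.hom c), ?_⟩
    show IsLocalRing.ResidueField.map (e.stalkMap u).hom (IsLocalRing.residue _ _) = _
    rw [IsLocalRing.ResidueField.map_residue]
    exact Ideal.Quotient.eq.mpr hc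
  · intro b c hbc
    exact hcongr (α b) c ((hψ''α b).trans hbc)

end Groth.Agent.Lib.T2H8.NbhdSch
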