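import Mathlib
import Groth.Agent.Lib.T2H8NbhdSch
import Groth.Agent.Lib.T2H8EtaleBoth

set_option autoImplicit false
universe u
open AlgebraicGeometry CategoryTheory IsLocalRing

namespace Groth.Agent.Lib.T2H8.NbhdSchB

open Groth.Agent.Lib.T2H8.NbhdSch

theorem main {X Y S : Scheme.{u}} [IsLocallyNoetherian S]
    (p : X ⟶ S) (q : Y ⟶ S) [LocallyOfFiniteType p] [LocallyOfFiniteType q] (x : X) (y : Y) (hxy : p x = q y)
    (hG : CAlg.IsGRing ↑(S.presheaf.stalk (p x)))
    (φ : (AdicCompletion (IsLocalRing.maximalIdeal ↑(Y.presheaf.stalk y)) ↑(Y.presheaf.stalk y)) ≃+* (AdicCompletion (IsLocalRing.maximalIdeal ↑(X.presheaf.stalk x)) ↑(X.presheaf.stalk x)))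
    (hφ : φ.toRingHom.comp ((algebraMap ↑(Y.presheaf.stalk y) (AdicCompletion (IsLocalRing.maximalIdeal ↑(Y.presheaf.stalk y)) ↑(Y.presheaf.stalk y))).comp
        ((q.stalkMap y).hom.comp (S.presheaf.stalkCongr (Inseparable.of_eq hxy)).hom.hom)) =
      (algebraMap ↑(X.presheaf.stalk x) (AdicCompletion (IsLocalRing.maximalIdeal ↑(X.presheaf.stalk x)) ↑(X.presheaf.stalk x))).comp (p.stalkMap x).hom)
    (N : ℕ) (hN : 1 ≤ N) :
    ∃ (U : Scheme.{u}) (u : U) (e : U ⟶ X) (heu : e u = x) (f : U ⟶ Y) (hfu : f u = y),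
      Etale e ∧ Function.Bijective (e.residueFieldMap u) ∧ Etale f ∧ Function.Bijective (f.residueFieldMap u) ∧
      f ≫ q = e ≫ p ∧
      ∀ (b : (AdicCompletion (IsLocalRing.maximalIdeal ↑(Y.presheaf.stalk y)) ↑(Y.presheaf.stalk y))) (cY : ↑(Y.presheaf.stalk y)) (cX : ↑(X.presheaf.stalk x)),
        AdicCompletion.evalₐ (IsLocalRing.maximalIdeal ↑(Y.presheaf.stalk y)) N b =
          Ideal.Quotient.mk (IsLocalRing.maximalIdeal ↑(Y.presheaf.stalk y) ^ N) cY →
        AdicCompletion.evalₐ (IsLocalRing.maximalIdeal ↑(X.presheaf.stalk x)) N (φ b) =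
          Ideal.Quotient.mk (IsLocalRing.maximalIdeal ↑(X.presheaf.stalk x) ^ N) cX →
        Ideal.Quotient.mk (IsLocalRing.maximalIdeal ↑(U.presheaf.stalk u) ^ N)
            ((f.stalkMap u).hom ((Y.presheaf.stalkCongr (Inseparable.of_eq hfu)).inv.hom cY)) =
          Ideal.Quotient.mk (IsLocalRing.maximalIdeal ↑(U.presheaf.stalk u) ^ N)
            ((e.stalkMap u).hom ((X.presheaf.stalkCongr (Inseparable.of_eq heu)).inv.hom cX)) := by
  classical
  obtain ⟨N', rfl⟩ : ∃ N', N = N' + 1 := ⟨N - 1, by omega⟩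
  -- affine opens
  obtain ⟨W, hW, hsW, -⟩ := exists_isAffineOpen_mem_and_subset (x := p x) (U := ⊤) trivial
  obtain ⟨X₀, hX₀, hxX₀, hX₀W'⟩ :=
    exists_isAffineOpen_mem_and_subset (x := x) (U := p ⁻¹ᵁ W) hsW
  have hyW : q y ∈ W := hxy ▸ hsW
  obtain ⟨V, hV, hyV, hVW'⟩ :=
    exists_isAffineOpen_mem_and_subset (x := y) (U := q ⁻¹ᵁ W) hyW
  have hX₀W : X₀ ≤ p ⁻¹ᵁ W := fun z hz => hX₀W' hz
  have hVW : V ≤ q ⁻¹ᵁ W := fun z hz => hVW' hz
  -- the rings
  let a₁ : Γ(S, W) ⟶ Γ(X, X₀) := p.appLE W X₀ hX₀W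
  let a₂ : Γ(S, W) ⟶ Γ(Y, V) := q.appLE W V hVW
  have ha₁ : a₁.hom.FiniteType :=
    HasRingHomProperty.appLE (P := @LocallyOfFiniteType) p inferInstance ⟨W, hW⟩ ⟨X₀, hX₀⟩ hX₀W
  have ha₂ : a₂.hom.FiniteType :=
    HasRingHomProperty.appLE (P := @LocallyOfFiniteType) q inferInstance ⟨W, hW⟩ ⟨V, hV⟩ hVW
  haveI : IsNoetherianRing Γ(S, W) :=
    IsLocallyNoetherian.component_noetherian (⟨W, hW⟩ : S.affineOpens)
  have ha₂' : a₂.hom.FinitePresentation := RingHom.FinitePresentation.of_finiteType.mp ha₂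
  -- the stalks as localizations
  letI algX : Algebra Γ(X, X₀) (X.presheaf.stalk x) :=
    TopCat.Presheaf.algebra_section_stalk X.presheaf (⟨x, hxX₀⟩ : X₀)
  haveI locX : IsLocalization.AtPrime (X.presheaf.stalk x) (hX₀.primeIdealOf ⟨x, hxX₀⟩).asIdeal :=
    hX₀.isLocalization_stalk ⟨x, hxX₀⟩
  letI algS : Algebra Γ(S, W) (S.presheaf.stalk (p x)) :=
    TopCat.Presheaf.algebra_section_stalk S.presheaf (⟨p x, hsW⟩ : W)
  haveI locS : IsLocalization.AtPrime (S.presheaf.stalk (p x)) (hW.primeIdealOf ⟨p x, hsW⟩).asIdeal :=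
    hW.isLocalization_stalk ⟨p x, hsW⟩
  letI algY : Algebra Γ(Y, V) (Y.presheaf.stalk y) :=
    TopCat.Presheaf.algebra_section_stalk Y.presheaf (⟨y, hyV⟩ : V)
  haveI locY : IsLocalization.AtPrime (Y.presheaf.stalk y) (hV.primeIdealOf ⟨y, hyV⟩).asIdeal :=
    hV.isLocalization_stalk ⟨y, hyV⟩
  have hGA : CAlg.IsGRing (X.presheaf.stalk x) :=
    NbhdLocal.isGRing_of_isLocalization_finiteType a₁.hom ha₁
      (hX₀.primeIdealOf ⟨x, hxX₀⟩).asIdeal (hW.primeIdealOf ⟨p x, hsW⟩).asIdeal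
      (comap_primeIdealOf p hW hX₀ hX₀W x hxX₀) (S.presheaf.stalk (p x)) hG (X.presheaf.stalk x)
  haveI : IsNoetherianRing (X.presheaf.stalk x) := hGA.1
  haveI : IsNoetherianRing Γ(Y, V) := by
    letI := a₂.hom.toAlgebra
    haveI : Algebra.FiniteType Γ(S, W) Γ(Y, V) := ha₂
    exact Algebra.FiniteType.isNoetherianRing Γ(S, W) Γ(Y, V)
  haveI : IsNoetherianRing (Y.presheaf.stalk y) :=
    IsLocalization.isNoetherianRing (hV.primeIdealOf ⟨y, hyV⟩).asIdeal.primeCompl _ inferInstance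
  let φ' : Y.presheaf.stalk y →+*
      AdicCompletion (maximalIdeal (X.presheaf.stalk x)) (X.presheaf.stalk x) :=
    φ.toRingHom.comp (algebraMap (Y.presheaf.stalk y)
      (AdicCompletion (maximalIdeal (Y.presheaf.stalk y)) (Y.presheaf.stalk y)))
  have hφmax : ∀ w ∈ maximalIdeal
      (AdicCompletion (maximalIdeal (Y.presheaf.stalk y)) (Y.presheaf.stalk y)),
      φ w ∈ maximalIdeal
        (AdicCompletion (maximalIdeal (X.presheaf.stalk x)) (X.presheaf.stalk x)) := by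
    intro w hw
    rw [← IsLocalRing.map_ringEquiv_maximalIdeal φ]
    exact Ideal.mem_map_of_mem φ hw
  have hloc : ∀ b ∈ IsLocalRing.maximalIdeal ↑(Y.presheaf.stalk y),
      φ' b ∈ (IsLocalRing.maximalIdeal ↑(X.presheaf.stalk x)).map
        (algebraMap ↑(X.presheaf.stalk x)
          (AdicCompletion (IsLocalRing.maximalIdeal ↑(X.presheaf.stalk x))
            ↑(X.presheaf.stalk x))) := by
    intro b hb
    rw [← AdicCompletion.maximalIdeal_eq_map]
    apply hφmax
    rw [AdicCompletion.maximalIdeal_eq_map]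
    exact Ideal.mem_map_of_mem _ hb
  -- the map from `Γ(Y, V)` to the completion
  let φ₀ : Γ(Y, V) →+* AdicCompletion (maximalIdeal (X.presheaf.stalk x)) (X.presheaf.stalk x) :=
    φ'.comp (Y.presheaf.germ V y hyV).hom
  have hφ₀alg : ∀ t : Γ(Y, V), φ (algebraMap Γ(Y, V)
      (AdicCompletion (maximalIdeal (Y.presheaf.stalk y)) (Y.presheaf.stalk y)) t) = φ₀ t := by
    intro t
    rw [IsScalarTower.algebraMap_apply Γ(Y, V) (Y.presheaf.stalk y)
      (AdicCompletion (maximalIdeal (Y.presheaf.stalk y)) (Y.presheaf.stalk y))]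
    rfl
  have hφ₀ : (φ.toRingHom.comp (algebraMap Γ(Y, V)
        (AdicCompletion (maximalIdeal (Y.presheaf.stalk y)) (Y.presheaf.stalk y)))).comp a₂.hom =
      (algebraMap Γ(X, X₀) (AdicCompletion (maximalIdeal (X.presheaf.stalk x))
        (X.presheaf.stalk x))).comp a₁.hom := by
    refine RingHom.ext fun r => ?_
    show φ (algebraMap Γ(Y, V)
      (AdicCompletion (maximalIdeal (Y.presheaf.stalk y)) (Y.presheaf.stalk y)) (a₂.hom r)) = _
    rw [hφ₀alg]
    show φ (algebraMap (Y.presheaf.stalk y) _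
        ((Y.presheaf.germ V y hyV).hom ((q.appLE W V hVW).hom r))) =
      algebraMap (X.presheaf.stalk x) _ ((X.presheaf.germ X₀ x hxX₀).hom ((p.appLE W X₀ hX₀W).hom r))
    rw [← stalkMap_germ_appLE q W V hVW y hyV r, ← stalkMap_germ_appLE p W X₀ hX₀W x hxX₀ r,
      ← stalkCongr_hom_germ hxy W hsW r]
    exact RingHom.congr_fun hφ _
  obtain ⟨D', _, _, hD', σ₀, ψh, hσ₀, hσ₀Et, hψh⟩ := EtaleBoth.main a₁.hom a₂.hom ha₁ ha₂
    (hX₀.primeIdealOf ⟨x, hxX₀⟩).asIdeal (X.presheaf.stalk x) hGA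
    (hV.primeIdealOf ⟨y, hyV⟩).asIdeal (Y.presheaf.stalk y) φ hφ₀ N'
  let ψ : D' →ₐ[Γ(X, X₀)]
      (X.presheaf.stalk x ⧸ maximalIdeal (X.presheaf.stalk x) ^ (N' + 1)) :=
    ((AdicCompletion.evalₐ (maximalIdeal (X.presheaf.stalk x)) (N' + 1)).restrictScalars
      Γ(X, X₀)).comp ψh
  have hψ : ∀ t, ψ (σ₀ t) =
      AdicCompletion.evalₐ (maximalIdeal (X.presheaf.stalk x)) (N' + 1) (φ₀ t) := by
    intro t
    show AdicCompletion.evalₐ (maximalIdeal (X.presheaf.stalk x)) (N' + 1) (ψh (σ₀ t)) = _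
    rw [← CplEquiv.factor_evalₐ _ (Nat.le_succ (N' + 1)) (ψh (σ₀ t)),
      ← CplEquiv.factor_evalₐ _ (Nat.le_succ (N' + 1)) (φ₀ t), ← hφ₀alg]
    exact congrArg _ (hψh t)
  haveI := hD'
  -- the scheme and the morphisms
  let aD : Γ(X, X₀) ⟶ CommRingCat.of D' := CommRingCat.ofHom (algebraMap Γ(X, X₀) D')
  let sD : Γ(Y, V) ⟶ CommRingCat.of D' := CommRingCat.ofHom σ₀
  let e : Spec (CommRingCat.of D') ⟶ X := Spec.map aD ≫ hX₀.fromSpec
  let f : Spec (CommRingCat.of D') ⟶ Y := Spec.map sD ≫ hV.fromSpec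
  have hcomm : f ≫ q = e ≫ p := by
    have h1 : a₂ ≫ sD = a₁ ≫ aD := CommRingCat.hom_ext hσ₀
    calc f ≫ q = Spec.map sD ≫ (hV.fromSpec ≫ q) := Category.assoc _ _ _
      _ = Spec.map sD ≫ (Spec.map a₂ ≫ hW.fromSpec) := by
          rw [IsAffineOpen.SpecMap_appLE_fromSpec q hW hV hVW]
      _ = Spec.map (a₂ ≫ sD) ≫ hW.fromSpec := by rw [Spec.map_comp, Category.assoc]
      _ = Spec.map (a₁ ≫ aD) ≫ hW.fromSpec := by rw [h1]
      _ = Spec.map aD ≫ (Spec.map a₁ ≫ hW.fromSpec) := by rw [Spec.map_comp, Category.assoc]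
      _ = Spec.map aD ≫ (hX₀.fromSpec ≫ p) := by
          rw [IsAffineOpen.SpecMap_appLE_fromSpec p hW hX₀ hX₀W]
      _ = e ≫ p := (Category.assoc _ _ _).symm
  haveI hEt : Etale e := by
    haveI : Etale (Spec.map aD) := by
      rw [HasRingHomProperty.Spec_iff (P := @Etale)]
      exact RingHom.etale_algebraMap.mpr hD'
    infer_instance
  -- the point
  have hpow : maximalIdeal (X.presheaf.stalk x) ^ (N' + 1) ≤ maximalIdeal (X.presheaf.stalk x) :=
    Ideal.pow_le_self (Nat.succ_ne_zero N')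
  let fac : (X.presheaf.stalk x ⧸ maximalIdeal (X.presheaf.stalk x) ^ (N' + 1)) →+*
      (X.presheaf.stalk x ⧸ maximalIdeal (X.presheaf.stalk x)) := Ideal.Quotient.factor hpow
  let ψ₁ : D' →+* (X.presheaf.stalk x ⧸ maximalIdeal (X.presheaf.stalk x)) :=
    fac.comp ψ.toRingHom
  let Q' : Ideal D' := RingHom.ker ψ₁
  haveI hQ' : Q'.IsPrime := RingHom.ker_isPrime ψ₁
  let u : Spec (CommRingCat.of D') := ⟨Q', hQ'⟩
  have hψ₁alg : ∀ d : Γ(X, X₀), ψ₁ (algebraMap Γ(X, X₀) D' d) =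
      Ideal.Quotient.mk _ (algebraMap Γ(X, X₀) (X.presheaf.stalk x) d) := by
    intro d
    show fac (ψ (algebraMap Γ(X, X₀) D' d)) = _
    rw [AlgHom.commutes]
    rfl
  have hcomapX : Q'.comap (algebraMap Γ(X, X₀) D') = (hX₀.primeIdealOf ⟨x, hxX₀⟩).asIdeal := by
    ext d
    rw [Ideal.mem_comap, RingHom.mem_ker, hψ₁alg, Ideal.Quotient.eq_zero_iff_mem,
      IsLocalization.AtPrime.to_map_mem_maximal_iff (X.presheaf.stalk x)
        (hX₀.primeIdealOf ⟨x, hxX₀⟩).asIdeal]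
  have heu : e u = x := by
    have h1 : (Spec.map aD) u = hX₀.primeIdealOf ⟨x, hxX₀⟩ := PrimeSpectrum.ext hcomapX
    show hX₀.fromSpec ((Spec.map aD) u) = x
    rw [h1]
    exact hX₀.fromSpec_primeIdealOf ⟨x, hxX₀⟩
  let ρ : AdicCompletion (maximalIdeal (X.presheaf.stalk x)) (X.presheaf.stalk x) →+*
      (X.presheaf.stalk x ⧸ maximalIdeal (X.presheaf.stalk x)) :=
    fac.comp (AdicCompletion.evalₐ (maximalIdeal (X.presheaf.stalk x)) (N' + 1)).toRingHom
  have hρalg : ρ.comp (algebraMap (X.presheaf.stalk x) _) =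
      Ideal.Quotient.mk (maximalIdeal (X.presheaf.stalk x)) := by
    refine RingHom.ext fun c => ?_
    show fac (AdicCompletion.evalₐ (maximalIdeal (X.presheaf.stalk x)) (N' + 1)
      (algebraMap (X.presheaf.stalk x) _ c)) = _
    rw [AlgHom.commutes]
    rfl
  have hρm : ∀ z ∈ (maximalIdeal (X.presheaf.stalk x)).map (algebraMap (X.presheaf.stalk x)
      (AdicCompletion (maximalIdeal (X.presheaf.stalk x)) (X.presheaf.stalk x))), ρ z = 0 := by
    intro z hz
    have h1 := Ideal.mem_map_of_mem ρ hz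
    rw [Ideal.map_map, hρalg, Ideal.map_quotient_self] at h1
    exact h1
  have hψ₁σ : ∀ t : Γ(Y, V), ψ₁ (σ₀ t) = ρ (φ₀ t) := by
    intro t
    show fac (ψ (σ₀ t)) = fac (AdicCompletion.evalₐ _ (N' + 1) (φ₀ t))
    rw [hψ]
  have hcomapY : Q'.comap σ₀ = (hV.primeIdealOf ⟨y, hyV⟩).asIdeal := by
    ext t
    rw [Ideal.mem_comap, RingHom.mem_ker, hψ₁σ,
      ← IsLocalization.AtPrime.to_map_mem_maximal_iff (Y.presheaf.stalk y)
        (hV.primeIdealOf ⟨y, hyV⟩).asIdeal]
    constructor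
    · intro h0
      by_contra hnm
      have hunit : IsUnit (algebraMap Γ(Y, V) (Y.presheaf.stalk y) t) := by
        by_contra hnu
        exact hnm ((IsLocalRing.mem_maximalIdeal _).mpr hnu)
      have h2 : IsUnit (ρ (φ₀ t)) := (hunit.map φ').map ρ
      rw [h0] at h2
      exact not_isUnit_zero h2
    · intro hm
      exact hρm _ (hloc _ hm)
  have hfu : f u = y := by
    have h1 : (Spec.map sD) u = hV.primeIdealOf ⟨y, hyV⟩ := PrimeSpectrum.ext hcomapY
    show hV.fromSpec ((Spec.map sD) u) = y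
    rw [h1]
    exact hV.fromSpec_primeIdealOf ⟨y, hyV⟩
  -- the local ring at `u`
  letI algD'S : Algebra D' ((Spec (CommRingCat.of D')).presheaf.stalk u) :=
    StructureSheaf.stalkAlgebra D' u
  haveI locU : IsLocalization.AtPrime ((Spec (CommRingCat.of D')).presheaf.stalk u) Q' :=
    StructureSheaf.IsLocalization.to_stalk D' u
  have htoStk : ∀ d' : D', algebraMap D' ((Spec (CommRingCat.of D')).presheaf.stalk u) d' =
      ((Scheme.ΓSpecIso (CommRingCat.of D')).inv ≫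
        (Spec (CommRingCat.of D')).presheaf.germ ⊤ u trivial).hom d' := fun d' => rfl
  let β : X.presheaf.stalk x →+* (Spec (CommRingCat.of D')).presheaf.stalk u :=
    (e.stalkMap u).hom.comp (X.presheaf.stalkCongr (Inseparable.of_eq heu)).inv.hom
  let α : Y.presheaf.stalk y →+* (Spec (CommRingCat.of D')).presheaf.stalk u :=
    (f.stalkMap u).hom.comp (Y.presheaf.stalkCongr (Inseparable.of_eq hfu)).inv.hom
  have hβ : ∀ d : Γ(X, X₀), β (algebraMap Γ(X, X₀) (X.presheaf.stalk x) d) =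
      algebraMap D' _ (algebraMap Γ(X, X₀) D' d) := by
    intro d
    show (e.stalkMap u).hom ((X.presheaf.stalkCongr (Inseparable.of_eq heu)).inv.hom
      (X.presheaf.germ X₀ x hxX₀ d)) = _
    rw [stalkCongr_inv_germ heu X₀ hxX₀ d, htoStk]
    exact stalkMap_germ_fromSpec hX₀ (CommRingCat.of D') aD u _ d
  have hα : ∀ t : Γ(Y, V), α (algebraMap Γ(Y, V) (Y.presheaf.stalk y) t) =
      algebraMap D' _ (σ₀ t) := by
    intro t
    show (f.stalkMap u).hom ((Y.presheaf.stalkCongr (Inseparable.of_eq hfu)).inv.hom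
      (Y.presheaf.germ V y hyV t)) = _
    rw [stalkCongr_inv_germ hfu V hyV t, htoStk]
    exact stalkMap_germ_fromSpec hV (CommRingCat.of D') sD u _ t
  -- the retraction
  have hunits : ∀ s : Q'.primeCompl, IsUnit (ψ.toRingHom s) := by
    intro s
    obtain ⟨c, hc⟩ := Ideal.Quotient.mk_surjective (ψ (s : D'))
    have hs : ψ₁ (s : D') ≠ 0 := fun h0 => s.2 h0
    have hc' : c ∉ maximalIdeal (X.presheaf.stalk x) := by
      intro hcm
      apply hs
      show fac (ψ (s : D')) = 0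
      rw [← hc]
      show Ideal.Quotient.mk (maximalIdeal (X.presheaf.stalk x)) c = 0
      exact Ideal.Quotient.eq_zero_iff_mem.mpr hcm
    have hcu : IsUnit c := by
      by_contra hnu
      exact hc' ((IsLocalRing.mem_maximalIdeal _).mpr hnu)
    show IsUnit (ψ (s : D'))
    rw [← hc]
    exact hcu.map _
  let ψ'' : (Spec (CommRingCat.of D')).presheaf.stalk u →+*
      (X.presheaf.stalk x ⧸ maximalIdeal (X.presheaf.stalk x) ^ (N' + 1)) :=
    IsLocalization.lift (M := Q'.primeCompl) (g := ψ.toRingHom) hunits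
  have hψ''alg : ∀ d' : D', ψ'' (algebraMap D' _ d') = ψ d' := fun d' =>
    IsLocalization.lift_eq hunits d'
  have hψ''β : ∀ c : X.presheaf.stalk x, ψ'' (β c) = Ideal.Quotient.mk _ c := by
    have h1 : (ψ''.comp β) = Ideal.Quotient.mk (maximalIdeal (X.presheaf.stalk x) ^ (N' + 1)) := by
      apply IsLocalization.ringHom_ext (hX₀.primeIdealOf ⟨x, hxX₀⟩).asIdeal.primeCompl
      refine RingHom.ext fun d => ?_
      show ψ'' (β (algebraMap Γ(X, X₀) (X.presheaf.stalk x) d)) = _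
      rw [hβ, hψ''alg, AlgHom.commutes]
      rfl
    exact fun c => RingHom.congr_fun h1 c
  have hψ''α : ∀ b : Y.presheaf.stalk y, ψ'' (α b) =
      AdicCompletion.evalₐ (maximalIdeal (X.presheaf.stalk x)) (N' + 1) (φ' b) := by
    have h1 : (ψ''.comp α) =
        (AdicCompletion.evalₐ (maximalIdeal (X.presheaf.stalk x)) (N' + 1)).toRingHom.comp φ' := by
      apply IsLocalization.ringHom_ext (hV.primeIdealOf ⟨y, hyV⟩).asIdeal.primeCompl
      refine RingHom.ext fun t => ?_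
      show ψ'' (α (algebraMap Γ(Y, V) (Y.presheaf.stalk y) t)) = _
      rw [hα, hψ''alg, hψ]
      rfl
    exact fun b => RingHom.congr_fun h1 b
  -- algebra structures
  letI algAS : Algebra (X.presheaf.stalk x) ((Spec (CommRingCat.of D')).presheaf.stalk u) :=
    β.toAlgebra
  haveI : IsLocalHom (algebraMap (X.presheaf.stalk x)
      ((Spec (CommRingCat.of D')).presheaf.stalk u)) := by
    show IsLocalHom β
    infer_instance
  letI algD₀S : Algebra Γ(X, X₀) ((Spec (CommRingCat.of D')).presheaf.stalk u) :=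
    ((algebraMap D' _).comp (algebraMap Γ(X, X₀) D')).toAlgebra
  haveI tow1 : IsScalarTower Γ(X, X₀) D' ((Spec (CommRingCat.of D')).presheaf.stalk u) :=
    IsScalarTower.of_algebraMap_eq (fun _ => rfl)
  haveI tow2 : IsScalarTower Γ(X, X₀) (X.presheaf.stalk x)
      ((Spec (CommRingCat.of D')).presheaf.stalk u) :=
    IsScalarTower.of_algebraMap_eq (fun d => (hβ d).symm)
  haveI : Algebra.FormallyUnramified D' ((Spec (CommRingCat.of D')).presheaf.stalk u) :=
    Algebra.FormallyUnramified.of_isLocalization Q'.primeCompl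
  haveI : Algebra.FormallyUnramified Γ(X, X₀) ((Spec (CommRingCat.of D')).presheaf.stalk u) :=
    Algebra.FormallyUnramified.comp Γ(X, X₀) D' _
  haveI : Algebra.FormallyUnramified (X.presheaf.stalk x)
      ((Spec (CommRingCat.of D')).presheaf.stalk u) :=
    Algebra.FormallyUnramified.of_restrictScalars Γ(X, X₀) _ _
  haveI : Algebra.EssFiniteType D' ((Spec (CommRingCat.of D')).presheaf.stalk u) :=
    Algebra.EssFiniteType.of_isLocalization _ Q'.primeCompl
  haveI : Algebra.EssFiniteType Γ(X, X₀) ((Spec (CommRingCat.of D')).presheaf.stalk u) :=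
    Algebra.EssFiniteType.comp Γ(X, X₀) D' _
  haveI : Algebra.EssFiniteType (X.presheaf.stalk x)
      ((Spec (CommRingCat.of D')).presheaf.stalk u) :=
    Algebra.EssFiniteType.of_comp Γ(X, X₀) _ _
  obtain ⟨hsurj, hcongr⟩ := NbhdLocal.local_congr (N' + 1) (Nat.succ_ne_zero N') ψ'' hψ''β
  have hEtf : Etale f := by
    haveI : Etale (Spec.map sD) := by
      rw [HasRingHomProperty.Spec_iff (P := @Etale)]
      exact hσ₀Et
    infer_instance
  have hev1 : ∀ c : X.presheaf.stalk x,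
      AdicCompletion.evalₐ (maximalIdeal (X.presheaf.stalk x)) (N' + 1)
        (algebraMap (X.presheaf.stalk x) _ c) = Ideal.Quotient.mk _ c := by
    intro c
    rw [AlgHom.commutes]
    rfl
  refine ⟨Spec (CommRingCat.of D'), u, e, heu, f, hfu, hEt, ?_, hEtf, ?_, hcomm, ?_⟩
  · refine ⟨(e.residueFieldMap u).hom.injective, fun k => ?_⟩
    obtain ⟨z, rfl⟩ := IsLocalRing.residue_surjective k
    obtain ⟨c, hc⟩ := hsurj z
    refine ⟨IsLocalRing.residue _ ((X.presheaf.stalkCongr (Inseparable.of_eq heu)).inv.hom c), ?_⟩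
    show IsLocalRing.ResidueField.map (e.stalkMap u).hom (IsLocalRing.residue _ _) = _
    rw [IsLocalRing.ResidueField.map_residue]
    exact Ideal.Quotient.eq.mpr hc
  · refine ⟨(f.residueFieldMap u).hom.injective, fun k => ?_⟩
    obtain ⟨z, rfl⟩ := IsLocalRing.residue_surjective k
    obtain ⟨c, hc⟩ := Ideal.Quotient.mk_surjective (ψ'' z)
    obtain ⟨b, hb⟩ := Ideal.Quotient.mk_surjective
      (AdicCompletion.evalₐ (maximalIdeal (Y.presheaf.stalk y)) 1
        (φ.symm (algebraMap (X.presheaf.stalk x) _ c)))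
    have h1 : φ.symm (algebraMap (X.presheaf.stalk x) _ c) -
        algebraMap (Y.presheaf.stalk y) _ b ∈ maximalIdeal
          (AdicCompletion (maximalIdeal (Y.presheaf.stalk y)) (Y.presheaf.stalk y)) := by
      have h2 : AdicCompletion.evalₐ (maximalIdeal (Y.presheaf.stalk y)) 1
          (φ.symm (algebraMap (X.presheaf.stalk x) _ c) -
            algebraMap (Y.presheaf.stalk y) _ b) = 0 := by
        rw [map_sub, AlgHom.commutes, ← hb, sub_eq_zero]
        rfl
      rw [EtaleAtCpl.evalₐ_eq_zero_iff_mem_pow, pow_one] at h2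
      exact h2
    have h3 := hφmax _ h1
    rw [map_sub, RingEquiv.apply_symm_apply] at h3
    have hzb : z - α b ∈ maximalIdeal ((Spec (CommRingCat.of D')).presheaf.stalk u) := by
      by_contra hnm
      have hunit : IsUnit (z - α b) := by
        by_contra hnu
        exact hnm ((IsLocalRing.mem_maximalIdeal _).mpr hnu)
      have h4 : IsUnit (ψ'' (z - α b)) := hunit.map ψ''
      rw [map_sub, hψ''α, ← hc, ← hev1 c, ← map_sub] at h4
      have h5 := EtaleAtCpl.isUnit_of_isUnit_evalₐ (N' + 1) (by omega) _ h4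
      exact (IsLocalRing.mem_maximalIdeal _).mp h3 h5
    refine ⟨IsLocalRing.residue _ ((Y.presheaf.stalkCongr (Inseparable.of_eq hfu)).inv.hom b), ?_⟩
    show IsLocalRing.ResidueField.map (f.stalkMap u).hom (IsLocalRing.residue _ _) = _
    rw [IsLocalRing.ResidueField.map_residue]
    exact (Ideal.Quotient.eq.mpr hzb).symm
  · intro bh cY cX hY hX
    refine hcongr (α cY) cX ?_
    rw [hψ''α, ← hX]
    symm
    rw [← sub_eq_zero, ← map_sub, EtaleAtCpl.evalₐ_eq_zero_iff_mem_pow]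
    have h1 : bh - algebraMap (Y.presheaf.stalk y) _ cY ∈ maximalIdeal
        (AdicCompletion (maximalIdeal (Y.presheaf.stalk y)) (Y.presheaf.stalk y)) ^ (N' + 1) := by
      rw [← EtaleAtCpl.evalₐ_eq_zero_iff_mem_pow, map_sub, AlgHom.commutes, hY, sub_eq_zero]
      rfl
    have h2 := Ideal.mem_map_of_mem φ h1
    rw [Ideal.map_pow, IsLocalRing.map_ringEquiv_maximalIdeal φ, map_sub] at h2
    exact h2

end Groth.Agent.Lib.T2H8.NbhdSchB
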