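import Mathlib
import Groth.Agent.S2034
import Groth.Agent.Lib.T2H3IndSmooth3

/-!
Helper library for S6830: resolution of a local problem over an Artinian local base ring whose
residue field extension is ind-smooth (`resolvable_of_artinian`), abstracting
`T2H8SepD.resolvable_reduced`.
-/

set_option autoImplicit false
universe u

namespace Groth.Agent.Lib.T2H8.NerA

open IsLocalRing

/-- a surjection onto a field with nilpotent kernel reflects units -/
theorem isUnit_of_notMem_ker {S k₀ : Type*} [CommRing S] [Field k₀] (p : S →+* k₀)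
    (hp : Function.Surjective p) (N : ℕ) (hN : RingHom.ker p ^ N = ⊥) (x : S)
    (hx : x ∉ RingHom.ker p) : IsUnit x := by
  have hx0 : p x ≠ 0 := hx
  obtain ⟨y, hy⟩ := hp (p x)⁻¹
  have h1 : x * y - 1 ∈ RingHom.ker p := by
    rw [RingHom.mem_ker, map_sub, map_mul, hy, mul_inv_cancel₀ hx0, map_one, sub_self]
  have h2 : IsNilpotent (x * y - 1) := by
    refine ⟨N, ?_⟩
    have h3 := Ideal.pow_mem_pow h1 N
    rw [hN] at h3
    exact h3
  have h4 : IsUnit (x * y) := by
    have : x * y = 1 + (x * y - 1) := by ring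
    rw [this]
    exact h2.isUnit_one_add
  exact isUnit_of_mul_isUnit_left h4

open TensorProduct in
/-- Resolution of a local problem over an Artinian local base, when the localized target is flat
with ind-smooth residue field extension. -/
theorem resolvable_of_artinian {Rb Λb Lq k₀ κ Ab : Type u} [CommRing Rb] [IsNoetherianRing Rb]
    [CommRing Λb] [Algebra Rb Λb] (𝔮b : Ideal Λb) [𝔮b.IsPrime]
    [CommRing Lq] [Algebra Λb Lq] [IsLocalization.AtPrime Lq 𝔮b] [Algebra Rb Lq]
    [IsScalarTower Rb Λb Lq] [Module.Flat Rb Lq]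
    [Field k₀] [Field κ] [Algebra k₀ κ] (hind : Smoothing.IndSmooth k₀ κ)
    (p : Rb →+* k₀) (q : Lq →+* κ) (hp : Function.Surjective p) (hq : Function.Surjective q)
    (hcomm : ∀ r, q (algebraMap Rb Lq r) = algebraMap k₀ κ (p r))
    (hker : RingHom.ker q = (RingHom.ker p).map (algebraMap Rb Lq))
    (N : ℕ) (hN : RingHom.ker p ^ N = ⊥)
    (hpq : RingHom.ker p ≤ 𝔮b.comap (algebraMap Rb Λb))
    (hqq : 𝔮b.map (algebraMap Λb Lq) ≤ RingHom.ker q)
    [CommRing Ab] [Algebra Rb Ab] [Algebra.FinitePresentation Rb Ab] (φb : Ab →ₐ[Rb] Λb) :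
    Smoothing.Resolvable Rb φb 𝔮b := by
  classical
  by_cases hle : Smoothing.singRad Rb φb ≤ 𝔮b
  swap
  · exact ⟨Ab, inferInstance, inferInstance, inferInstance, AlgHom.id _ _, φb, AlgHom.comp_id _,
      le_rfl, hle⟩
  have hNq : RingHom.ker q ^ N = ⊥ := by
    rw [hker, ← Ideal.map_pow, hN, Ideal.map_bot]
  -- minimality
  have hmin : 𝔮b ∈ (Smoothing.singRad Rb φb).minimalPrimes := by
    refine ⟨⟨inferInstance, hle⟩, ?_⟩
    rintro P ⟨hP, -⟩ hPq x hx
    have h1 : algebraMap Λb Lq x ∈ RingHom.ker q := hqq (Ideal.mem_map_of_mem _ hx)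
    have h2 := Ideal.pow_mem_pow h1 N
    rw [hNq, Submodule.mem_bot, ← map_pow] at h2
    obtain ⟨m, hm⟩ := (IsLocalization.map_eq_zero_iff 𝔮b.primeCompl Lq (x ^ N)).mp h2
    have h3 : (m : Λb) * x ^ N ∈ P := by
      rw [hm]
      exact P.zero_mem
    have h4 : (m : Λb) ∉ P := fun h5 => m.2 (hPq h5)
    exact hP.mem_of_pow_mem N ((hP.mem_or_mem h3).resolve_left h4)
  -- localization of the base
  haveI locR : IsLocalization.AtPrime Rb (𝔮b.comap (algebraMap Rb Λb)) := by
    apply IsLocalization.of_le_isUnit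
    intro x hx
    exact isUnit_of_notMem_ker p hp N hN x (fun hxk => hx (hpq hxk))
  -- dimension zero
  have hdim : ringKrullDim Lq = 0 := by
    haveI hmax : (RingHom.ker q).IsMaximal := RingHom.ker_isMaximal_of_surjective _ hq
    haveI : Nontrivial Lq := q.domain_nontrivial
    rw [← ringKrullDimZero_iff_ringKrullDim_eq_zero, Ring.krullDimLE_zero_iff]
    intro P hP
    have h1 : RingHom.ker q ≤ P := by
      intro x hx
      have h2 : x ^ N ∈ P := by
        have h3 := Ideal.pow_mem_pow hx N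
        rw [hNq] at h3
        rw [(Submodule.mem_bot _).mp h3]
        exact P.zero_mem
      exact hP.mem_of_pow_mem N h2
    rw [← hmax.eq_of_le hP.ne_top h1]
    exact hmax
  haveI : IsScalarTower Rb Rb Lq := ⟨fun x y z => mul_smul x y z⟩
  refine Groth.Agent.S2034.result (Rₚ := Rb) (Λq := Lq) φb _ hmin hdim ?_
  have hindq : Smoothing.IndSmooth Rb Lq :=
    Groth.Agent.Lib.T2H3.IndSmooth.indSmooth_of_surj_pow N p q hp hq hcomm hker hN hind
  obtain ⟨D, _, _, hD, g, h, hcomp⟩ := hindq (Rb ⊗[Rb] Ab) inferInstance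
    (Algebra.TensorProduct.lift (Algebra.ofId _ _)
      ((IsScalarTower.toAlgHom Rb Λb Lq).comp φb) (fun _ _ => Commute.all _ _))
  haveI := hD
  have htop : Smoothing.singRad Rb h = ⊤ := by
    unfold Smoothing.singRad Smoothing.singularIdeal
    rw [Algebra.smoothLocus_eq_univ, Set.compl_univ, PrimeSpectrum.vanishingIdeal_empty,
      Ideal.map_top, Ideal.radical_top]
  refine ⟨D, inferInstance, inferInstance, hD.finitePresentation, g, h, hcomp, ?_, ?_⟩
  · rw [htop]
    exact le_top
  · rw [htop]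
    intro hcon
    have h2 : (1 : Lq) ∈ RingHom.ker q := hqq (hcon Submodule.mem_top)
    rw [RingHom.mem_ker, map_one] at h2
    exact one_ne_zero h2

end Groth.Agent.Lib.T2H8.NerA
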