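import Mathlib
import Groth.Agent.S2029
import Groth.Agent.S6822
import Groth.Agent.Lib.T2H8NerA
import Groth.Agent.Lib.T2H8SepA
import Groth.Agent.Lib.T2H8SepC
import Groth.Agent.Lib.T2H8ResB
import Groth.Agent.Lib.T2H7StdElt

/-!
Helper library for S6830 (`Smoothing.indSmooth_of_dvr_extension_unramified`): the fraction field of
a DVR is the localization at a uniformizer, `K ⊗_R Λ ≅ L` for an unramified extension of DVRs,
strict standardness is stable under multiples, the reduced problem over `R/(π^m)`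
(`resolvable_reduced_dvr`), and the main theorem via delocalization (S2029), the lifting lemma
(S6822) and ind-smoothness of separable field extensions.
-/

set_option autoImplicit false
universe u

namespace Groth.Agent.Lib.T2H8.NerB

open IsLocalRing TensorProduct

/-- the fraction field of a DVR is the localization at a uniformizer -/
theorem isLocalization_away_of_dvr {R K : Type*} [CommRing R] [IsDomain R]
    [IsDiscreteValuationRing R] [Field K] [Algebra R K] [IsFractionRing R K] (π : R)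
    (hπ : Irreducible π) : IsLocalization.Away π K := by
  have hinj : Function.Injective (algebraMap R K) := IsFractionRing.injective R K
  refine ⟨?_, ?_, ?_⟩
  · rintro ⟨_, n, rfl⟩
    rw [map_pow]
    refine IsUnit.pow _ (IsUnit.mk0 _ ?_)
    rw [Ne, map_eq_zero_iff _ hinj]
    exact hπ.ne_zero
  · intro z
    obtain ⟨⟨a, b⟩, hab⟩ := IsLocalization.surj (nonZeroDivisors R) z
    have hb0 : (b : R) ≠ 0 := nonZeroDivisors.ne_zero b.2
    obtain ⟨n, hn⟩ := IsDiscreteValuationRing.associated_pow_irreducible hb0 hπ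
    obtain ⟨u, hu⟩ := hn
    refine ⟨⟨a * u, ⟨π ^ n, n, rfl⟩⟩, ?_⟩
    show z * algebraMap R K (π ^ n) = algebraMap R K (a * u)
    rw [← hu, map_mul, ← mul_assoc, hab, map_mul]
  · intro x y hxy
    exact ⟨1, by rw [hinj hxy]⟩

section Tensor

variable {R Λ K L : Type u} [CommRing R] [IsDomain R] [IsDiscreteValuationRing R]
  [CommRing Λ] [IsDomain Λ] [IsDiscreteValuationRing Λ] [Algebra R Λ]
  (he : (maximalIdeal R).map (algebraMap R Λ) = maximalIdeal Λ)
  [Field K] [Algebra R K] [IsFractionRing R K] [Field L] [Algebra Λ L] [IsFractionRing Λ L]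
  [Algebra K L] [Algebra R L] [IsScalarTower R K L] [IsScalarTower R Λ L]

include he in
theorem irreducible_map (π : R) (hπ : Irreducible π) : Irreducible (algebraMap R Λ π) := by
  rw [IsDiscreteValuationRing.irreducible_iff_uniformizer, ← he,
    (IsDiscreteValuationRing.irreducible_iff_uniformizer π).mp hπ, Ideal.map_span,
    Set.image_singleton]

include he in
theorem indSmooth_tensor (h : Smoothing.IndSmooth K L) : Smoothing.IndSmooth K (K ⊗[R] Λ) := by
  obtain ⟨π, hπ⟩ := IsDiscreteValuationRing.exists_irreducible R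
  haveI : IsLocalization.Away π K := isLocalization_away_of_dvr π hπ
  haveI : IsLocalization.Away (algebraMap R Λ π) L :=
    isLocalization_away_of_dvr _ (irreducible_map he π hπ)
  letI : Algebra Λ (K ⊗[R] Λ) := Algebra.TensorProduct.rightAlgebra
  haveI h1 : IsLocalization (Algebra.algebraMapSubmonoid Λ (Submonoid.powers π)) (K ⊗[R] Λ) :=
    IsLocalization.tensorRight K (Submonoid.powers π)
  haveI h2 : IsLocalization (Algebra.algebraMapSubmonoid Λ (Submonoid.powers π)) L := by
    rw [Algebra.algebraMapSubmonoid_powers]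
    infer_instance
  let e : L ≃ₐ[Λ] K ⊗[R] Λ :=
    IsLocalization.algEquiv (Algebra.algebraMapSubmonoid Λ (Submonoid.powers π)) _ _
  refine Groth.Agent.Lib.T2H3.IndSmooth.indSmooth_of_ringEquiv (RingEquiv.refl K)
    e.toRingEquiv ?_ h
  have h3 : (e.toRingEquiv.toRingHom.comp (algebraMap K L)) =
      algebraMap K (K ⊗[R] Λ) := by
    apply IsLocalization.ringHom_ext (nonZeroDivisors R)
    refine RingHom.ext fun r => ?_
    show e (algebraMap K L (algebraMap R K r)) = algebraMap K (K ⊗[R] Λ) (algebraMap R K r)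
    rw [← IsScalarTower.algebraMap_apply R K L, IsScalarTower.algebraMap_apply R Λ L,
      e.commutes, ← IsScalarTower.algebraMap_apply R K (K ⊗[R] Λ)]
    show (1 : K) ⊗ₜ[R] (algebraMap R Λ r) = algebraMap R (K ⊗[R] Λ) r
    rw [Algebra.algebraMap_eq_smul_one r, TensorProduct.tmul_smul,
      Algebra.algebraMap_eq_smul_one r]
    rfl
  intro k
  exact RingHom.congr_fun h3 k

end Tensor


theorem isStrictlyStandard_mul {R A : Type u} [CommRing R] [CommRing A] [Algebra R A] (a b : A)
    (ha : Smoothing.IsStrictlyStandard R A a) : Smoothing.IsStrictlyStandard R A (a * b) := by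
  obtain ⟨P, hmem, hkill⟩ := ha
  refine ⟨P, Ideal.mul_mem_right _ _ hmem, ?_⟩
  intro c' hc' j hj
  obtain ⟨a', ha'⟩ := P.surj a
  obtain ⟨b', hb'⟩ := P.surj b
  have h1 : c' - a' * b' ∈ Ideal.span (Set.range P.rel) := by
    rw [← P.ker_eq, RingHom.mem_ker]
    show P.hom (c' - a' * b') = 0
    rw [map_sub, map_mul, hc', ha', hb', sub_self]
  have h2 := hkill a' ha' j hj
  have h3 : c' * P.rel j = (c' - a' * b') * P.rel j + b' * (a' * P.rel j) := by ring
  rw [h3]
  refine Ideal.add_mem _ (Ideal.mem_sup_right ?_) (Ideal.mul_mem_left _ _ h2)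
  rw [pow_two]
  exact Ideal.mul_mem_mul h1 (Ideal.subset_span ⟨j, rfl⟩)

section Reduced

variable {R Λ : Type u} [CommRing R] [IsDomain R] [IsDiscreteValuationRing R]
  [CommRing Λ] [IsDomain Λ] [IsDiscreteValuationRing Λ] [Algebra R Λ]
  [NoZeroSMulDivisors R Λ] [IsLocalHom (algebraMap R Λ)]
  (he : (maximalIdeal R).map (algebraMap R Λ) = maximalIdeal Λ)
  [Algebra.IsGeometricallyReduced (ResidueField R) (ResidueField Λ)]
  (K : Ideal R) (hK2 : K ≤ maximalIdeal R) (N : ℕ) (hK1 : maximalIdeal R ^ N ≤ K)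

include he hK2 hK1 in
theorem resolvable_reduced_dvr {Ab : Type u} [CommRing Ab] [Algebra (R ⧸ K) Ab]
    [Algebra.FinitePresentation (R ⧸ K) Ab]
    (φb : Ab →ₐ[R ⧸ K] (Λ ⧸ K.map (algebraMap R Λ))) :
    Smoothing.Resolvable (R ⧸ K) φb
      ((maximalIdeal Λ).map (Ideal.Quotient.mk (K.map (algebraMap R Λ)))) := by
  classical
  have hJ𝔮 : K.map (algebraMap R Λ) ≤ maximalIdeal Λ := by
    rw [← he]
    exact Ideal.map_mono hK2
  haveI hqbP : ((maximalIdeal Λ).map (Ideal.Quotient.mk (K.map (algebraMap R Λ)))).IsPrime :=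
    Ideal.map_isPrime_of_surjective Ideal.Quotient.mk_surjective (by rw [Ideal.mk_ker]; exact hJ𝔮)
  haveI locΛ : IsLocalization.AtPrime (Λ ⧸ K.map (algebraMap R Λ))
      ((maximalIdeal Λ).map (Ideal.Quotient.mk (K.map (algebraMap R Λ)))) := by
    apply IsLocalization.of_le_isUnit
    intro x hx
    obtain ⟨y, rfl⟩ := Ideal.Quotient.mk_surjective x
    have hy : Ideal.Quotient.mk _ y ∉
        (maximalIdeal Λ).map (Ideal.Quotient.mk (K.map (algebraMap R Λ))) := hx
    rw [Ideal.mem_quotient_iff_mem hJ𝔮] at hy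
    exact (IsLocalRing.notMem_maximalIdeal.mp hy).map _
  haveI : Module.Flat R Λ := inferInstance
  haveI : Module.Flat (R ⧸ K) (Λ ⧸ K.map (algebraMap R Λ)) :=
    Module.Flat.of_linearEquiv
      (Algebra.TensorProduct.quotIdealMapEquivQuotTensor Λ K).toLinearEquiv
  let p : R ⧸ K →+* ResidueField R := Ideal.Quotient.lift K (residue R) (fun x hx => by
    rw [← RingHom.mem_ker, IsLocalRing.ker_residue]
    exact hK2 hx)
  let q : Λ ⧸ K.map (algebraMap R Λ) →+* ResidueField Λ :=
    Ideal.Quotient.lift _ (residue Λ) (fun x hx => by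
      rw [← RingHom.mem_ker, IsLocalRing.ker_residue]
      exact hJ𝔮 hx)
  have hp : Function.Surjective p := by
    intro x
    obtain ⟨y, rfl⟩ := IsLocalRing.residue_surjective x
    exact ⟨Ideal.Quotient.mk _ y, rfl⟩
  have hq : Function.Surjective q := by
    intro x
    obtain ⟨y, rfl⟩ := IsLocalRing.residue_surjective x
    exact ⟨Ideal.Quotient.mk _ y, rfl⟩
  have hkp : RingHom.ker p = (maximalIdeal R).map (Ideal.Quotient.mk K) := by
    show RingHom.ker (Ideal.Quotient.lift K (residue R) _) = _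
    rw [Ideal.ker_quotient_lift, IsLocalRing.ker_residue]
  have hkq : RingHom.ker q = (maximalIdeal Λ).map (Ideal.Quotient.mk (K.map (algebraMap R Λ))) := by
    show RingHom.ker (Ideal.Quotient.lift _ (residue Λ) _) = _
    rw [Ideal.ker_quotient_lift, IsLocalRing.ker_residue]
  refine Groth.Agent.Lib.T2H8.NerA.resolvable_of_artinian (Lq := Λ ⧸ K.map (algebraMap R Λ))
    (k₀ := ResidueField R) (κ := ResidueField Λ) _
    Groth.Agent.Lib.T2H8.SepA.indSmooth_of_geomReduced p q hp hq ?_ ?_ N ?_ ?_ ?_ φb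
  · intro r
    obtain ⟨r, rfl⟩ := Ideal.Quotient.mk_surjective r
    rfl
  · rw [hkp, hkq, Ideal.map_map, ← he, Ideal.map_map]
    rfl
  · rw [hkp, ← Ideal.map_pow, eq_bot_iff]
    refine (Ideal.map_mono hK1).trans ?_
    rw [Ideal.map_quotient_self]
  · rw [hkp, Ideal.map_le_iff_le_comap]
    intro r hr
    rw [Ideal.mem_comap, Ideal.mem_comap]
    show Ideal.Quotient.mk (K.map (algebraMap R Λ)) (algebraMap R Λ r) ∈ _
    rw [Ideal.mem_quotient_iff_mem hJ𝔮, ← he]
    exact Ideal.mem_map_of_mem _ hr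
  · rw [hkq, Algebra.algebraMap_self, Ideal.map_id]

end Reduced


theorem ann_of_domain {S : Type*} [CommRing S] [IsDomain S] (t : S) (ht : t ≠ 0) (i : Fin 1)
    (f : {j : Fin 1 // (j : ℕ) < (i : ℕ)} → S) (x : S ⧸ Ideal.span (Set.range f))
    (hx : Ideal.Quotient.mk _ t ^ 2 * x = 0) : Ideal.Quotient.mk _ t * x = 0 := by
  haveI : IsEmpty {j : Fin 1 // (j : ℕ) < (i : ℕ)} := ⟨fun ⟨j, hj⟩ => by omega⟩
  have hbot : Ideal.span (Set.range f) = ⊥ := by
    rw [Set.range_eq_empty, Ideal.span_empty]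
  obtain ⟨y, rfl⟩ := Ideal.Quotient.mk_surjective x
  rw [← map_pow, ← map_mul, Ideal.Quotient.eq_zero_iff_mem, hbot, Ideal.mem_bot] at hx
  have hy : y = 0 := by
    rcases mul_eq_zero.mp hx with h | h
    · exact absurd ((pow_eq_zero_iff (two_ne_zero)).mp h) ht
    · exact h
  rw [hy, map_zero, mul_zero]


section Main

open Groth.Agent.Lib.T2H8.ResB MvPolynomial

theorem main {R Λ K L : Type u} [CommRing R] [IsDomain R]
    [IsDiscreteValuationRing R] [CommRing Λ] [IsDomain Λ] [IsDiscreteValuationRing Λ] [Algebra R Λ]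
    [NoZeroSMulDivisors R Λ] [IsLocalHom (algebraMap R Λ)]
    (he : (IsLocalRing.maximalIdeal R).map (algebraMap R Λ) = IsLocalRing.maximalIdeal Λ)
    [Algebra.IsGeometricallyReduced (IsLocalRing.ResidueField R) (IsLocalRing.ResidueField Λ)]
    [Field K] [Algebra R K] [IsFractionRing R K] [Field L] [Algebra Λ L] [IsFractionRing Λ L]
    [Algebra K L] [Algebra R L] [IsScalarTower R K L] [IsScalarTower R Λ L]
    [Algebra.IsGeometricallyReduced K L] :
    Smoothing.IndSmooth R Λ := by
  classical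
  intro A _ _ hfp f
  haveI := hfp
  obtain ⟨π, hπ⟩ := IsDiscreteValuationRing.exists_irreducible R
  haveI : IsLocalization (Submonoid.powers π) K := isLocalization_away_of_dvr π hπ
  have hindK : Smoothing.IndSmooth K (K ⊗[R] Λ) :=
    indSmooth_tensor (L := L) he Groth.Agent.Lib.T2H8.SepA.indSmooth_of_geomReduced
  have hinjΛ : Function.Injective (algebraMap R Λ) := FaithfulSMul.algebraMap_injective R Λ
  -- step 1: make a power of `π` standard
  obtain ⟨B', _, _, hB', g, h, hgh⟩ := hindK (K ⊗[R] A) inferInstance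
    (Algebra.TensorProduct.map (AlgHom.id K K) f)
  haveI := hB'
  obtain ⟨B, _, _, α, β, hαβ, s, hsS, hstd⟩ :=
    Groth.Agent.S2029.result f (Submonoid.powers π) g h hgh
  obtain ⟨n, rfl⟩ := hsS
  have hstd' : Smoothing.IsStrictlyStandard R B (algebraMap R B (π ^ n)) :=
    Groth.Agent.Lib.T2H7.StdElt.isStrictlyStandard_of_isElementaryStandard _ hstd
  obtain ⟨P, -, -⟩ := hstd
  haveI hBfp : Algebra.FinitePresentation R B :=
    Algebra.FinitePresentation.of_surjective P.surj
      (by rw [P.ker_eq]; exact Submodule.fg_span (Set.finite_range _))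
  have hs'std : Smoothing.IsStrictlyStandard R B (algebraMap R B (π ^ (n + 1))) := by
    rw [pow_succ, map_mul]
    exact isStrictlyStandard_mul _ _ hstd'
  have hs'0 : π ^ (n + 1) ≠ 0 := pow_ne_zero _ hπ.ne_zero
  have hπm : π ∈ maximalIdeal R := (IsLocalRing.mem_maximalIdeal π).mpr hπ.not_isUnit
  have hs'm : π ^ (n + 1) ∈ maximalIdeal R := Ideal.pow_mem_of_mem _ hπm _ (Nat.succ_pos n)
  have hmax : maximalIdeal R = Ideal.span {π} :=
    (IsDiscreteValuationRing.irreducible_iff_uniformizer π).mp hπ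
  -- step 2: the lifting lemma
  have hres : Smoothing.Resolvable R β (maximalIdeal Λ) := by
    refine Groth.Agent.S6822.result β (maximalIdeal Λ) (r := 1) Nat.one_pos
      (fun _ => π ^ (n + 1)) ?_ ?_ ?_ (fun _ => hs'std)
      (Ideal.span (Set.range fun _ : Fin 1 => (π ^ (n + 1)) ^ 8)) rfl
      (phiI β _) (fun a => phiI_mk β _ a) ?_
    · intro i
      rw [← he]
      exact Ideal.mem_map_of_mem _ hs'm
    · exact fun i x hx => ann_of_domain (π ^ (n + 1)) hs'0 i _ x hx
    · exact fun i x hx => ann_of_domain (algebraMap R Λ (π ^ (n + 1)))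
        (by rw [Ne, map_eq_zero_iff _ hinjΛ]; exact hs'0) i _ x hx
    · haveI := finitePresentation_quotient (A := B)
        (Ideal.span (Set.range fun _ : Fin 1 => (π ^ (n + 1)) ^ 8))
      refine resolvable_reduced_dvr he _ ?_ ((n + 1) * 8) ?_ (phiI β _)
      · rw [Ideal.span_le]
        rintro _ ⟨_, rfl⟩
        exact Ideal.pow_mem_of_mem _ hs'm 8 (by norm_num)
      · rw [hmax, Ideal.span_singleton_pow, Ideal.span_le]
        rintro _ rfl
        rw [pow_mul]
        exact Ideal.subset_span ⟨0, rfl⟩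
  -- step 3: the singular ideal generates the unit ideal
  obtain ⟨D, _, _, hDfp, gD, hD, hcomp, hle, hnot⟩ := hres
  haveI := hDfp
  have htop : ((Smoothing.singularIdeal R D).map hD).radical = ⊤ := by
    by_contra hne
    exact hnot (IsLocalRing.le_maximalIdeal hne)
  rw [Ideal.radical_eq_top] at htop
  haveI : IsNoetherianRing D := Algebra.FiniteType.isNoetherianRing R D
  obtain ⟨r, d, hd⟩ := Submodule.fg_iff_exists_fin_generating_family.mp
    ((isNoetherianRing_iff_ideal_fg D).mp inferInstance (Smoothing.singularIdeal R D))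
  have hd_span : Ideal.span (Set.range d) = Smoothing.singularIdeal R D := hd
  have hd_mem : ∀ j, d j ∈ Smoothing.singularIdeal R D := fun j => by
    rw [← hd_span]
    exact Ideal.subset_span ⟨j, rfl⟩
  have h1 : (1 : Λ) ∈ (Smoothing.singularIdeal R D).map hD := by
    rw [htop]
    trivial
  rw [← hd_span, Ideal.map_span, ← Set.range_comp] at h1
  obtain ⟨lam, hlam⟩ := (Ideal.mem_span_range_iff_exists_fun).mp h1
  -- step 4: the smooth algebra
  let ξ : Fin 1 → D := fun _ => 1
  haveI hED : Algebra.FinitePresentation D (Groth.Agent.Lib.T2H8.SepC.BB ξ d) :=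
    Groth.Agent.Lib.T2H8.SepC.finitePresentation_BB ξ d
  haveI hER : Algebra.FinitePresentation R (Groth.Agent.Lib.T2H8.SepC.BB ξ d) :=
    Algebra.FinitePresentation.trans R D _
  have hα : ∀ j, Algebra.FormallySmooth R (Localization.Away (d j)) := fun j =>
    Groth.Agent.Lib.T2H8.DelocA.formallySmooth_away_of_mem (d j) (hd_mem j)
  have hsm := Groth.Agent.Lib.T2H8.SepC.smooth_root (R := R) ξ d hα 0 (1 : D) 0 (pow_zero _)
  have hsmE : Algebra.FormallySmooth R (Groth.Agent.Lib.T2H8.SepC.BB ξ d) := by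
    rw [← Algebra.smoothLocus_eq_univ_iff]
    have h2 := (Algebra.basicOpen_subset_smoothLocus_iff (R := R)
      (f := algebraMap D (Groth.Agent.Lib.T2H8.SepC.BB ξ d) 1)).mpr hsm
    refine Set.eq_univ_of_forall fun Q => h2 ?_
    rw [map_one]
    simp
  letI algDΛ : Algebra D Λ := hD.toRingHom.toAlgebra
  haveI : IsScalarTower R D Λ := IsScalarTower.of_algebraMap_eq (fun x => (hD.commutes x).symm)
  have hrel : ∀ i : Fin 1, algebraMap D Λ (ξ i) = ∑ j, (fun w : Fin 1 × Fin r => lam w.2) (i, j) *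
      algebraMap D Λ (d j) := by
    intro i
    show algebraMap D Λ 1 = ∑ j, lam j * hD (d j)
    rw [map_one]
    exact hlam.symm
  let ψ : Groth.Agent.Lib.T2H8.SepC.BB ξ d →ₐ[D] Λ :=
    Groth.Agent.Lib.T2H8.SepC.liftB ξ d (fun w => lam w.2) hrel
  refine ⟨Groth.Agent.Lib.T2H8.SepC.BB ξ d, inferInstance, inferInstance, ⟨hsmE, hER⟩,
    ((IsScalarTower.toAlgHom R D _).comp gD).comp α, ψ.restrictScalars R, ?_⟩
  ext a
  show ψ (algebraMap D _ (gD (α a))) = f a
  rw [ψ.commutes]
  show hD (gD (α a)) = f a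
  rw [← hαβ]
  exact DFunLike.congr_fun hcomp (α a)

end Main

end Groth.Agent.Lib.T2H8.NerB
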