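import Mathlib
import Groth.Agent.Lib.T2H8NilConeE
set_option autoImplicit false
open Module MvPolynomial

namespace Groth.Agent.Lib.T2H8.NilCone

universe u

variable (k : Type u) [Field k] (n : ℕ)

/-- projection killing the `y` variables -/
noncomputable def piZ : MvPolynomial (Fin n ⊕ OffDiag n) k →ₐ[k] MvPolynomial (OffDiag n) k :=
  aeval (Sum.elim (fun _ => 0) X)

/-- `k[z_p] → k[x]/I` -/
noncomputable def zeta : MvPolynomial (OffDiag n) k →ₐ[k]
    (MvPolynomial (Fin n × Fin n) k ⧸ nilIdeal k n) :=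
  (Ideal.Quotient.mkₐ k (nilIdeal k n)).comp (aeval fun p : OffDiag n => X p.1)

theorem mk_comp_psi :
    (Ideal.Quotient.mkₐ k (nilIdeal k n)).comp (psi k n) = (zeta k n).comp (piZ k n) := by
  apply MvPolynomial.algHom_ext
  intro t
  rcases t with i | p
  · simp only [AlgHom.comp_apply, psi, piZ, zeta, aeval_X, gens, Sum.elim_inl, map_zero]
    rw [Ideal.Quotient.mkₐ_eq_mk, Ideal.Quotient.eq_zero_iff_mem]
    exact Ideal.subset_span ⟨i, rfl⟩
  · simp [psi, piZ, zeta, gens]

theorem zeta_finite [IsAlgClosed k] : (zeta k n).toRingHom.Finite := by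
  have h1 : ((Ideal.Quotient.mkₐ k (nilIdeal k n)).comp (psi k n)).toRingHom.Finite := by
    have hmk : (Ideal.Quotient.mkₐ k (nilIdeal k n)).toRingHom.Finite :=
      RingHom.Finite.of_surjective _ (Ideal.Quotient.mkₐ_surjective k _)
    exact RingHom.Finite.comp hmk (psi_finite k n)
  rw [mk_comp_psi] at h1
  exact RingHom.Finite.of_comp_finite (f := (piZ k n).toRingHom) (g := (zeta k n).toRingHom) h1

theorem piZ_rename (p : MvPolynomial (OffDiag n) k) :
    piZ k n (rename Sum.inr p) = p := by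
  rw [piZ, aeval_rename]
  simp

theorem psi_rename (p : MvPolynomial (OffDiag n) k) :
    Ideal.Quotient.mk (nilIdeal k n) (psi k n (rename Sum.inr p)) = zeta k n p := by
  rw [psi, aeval_rename, zeta]
  rfl

theorem zeta_injective [IsAlgClosed k] : Function.Injective (zeta k n) := by
  rw [injective_iff_map_eq_zero]
  intro p hp
  letI alg : Algebra (MvPolynomial (Fin n ⊕ OffDiag n) k) (MvPolynomial (Fin n × Fin n) k) :=
    (psi k n).toRingHom.toAlgebra
  haveI : Module.Finite (MvPolynomial (Fin n ⊕ OffDiag n) k) (MvPolynomial (Fin n × Fin n) k) :=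
    psi_finite k n
  haveI : Algebra.IsIntegral (MvPolynomial (Fin n ⊕ OffDiag n) k) (MvPolynomial (Fin n × Fin n) k) :=
    Algebra.IsIntegral.of_finite _ _
  haveI hprime : (RingHom.ker (piZ k n)).IsPrime := RingHom.ker_isPrime _
  have hker : (⊥ : Ideal (MvPolynomial (Fin n × Fin n) k)).comap
      (algebraMap (MvPolynomial (Fin n ⊕ OffDiag n) k) (MvPolynomial (Fin n × Fin n) k)) ≤
      RingHom.ker (piZ k n) := by
    intro r hr
    rw [Ideal.mem_comap, Ideal.mem_bot] at hr
    have : r = 0 := psi_injective k n (by rw [map_zero]; exact hr)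
    rw [this]; exact Ideal.zero_mem _
  obtain ⟨Q, -, hQ, hQc⟩ := Ideal.exists_ideal_over_prime_of_isIntegral (RingHom.ker (piZ k n)) ⊥ hker
  -- I ≤ Q
  have hIQ : nilIdeal k n ≤ Q := by
    rw [nilIdeal, Ideal.span_le]
    rintro _ ⟨i, rfl⟩
    have h1 : (X (Sum.inl i) : MvPolynomial (Fin n ⊕ OffDiag n) k) ∈ RingHom.ker (piZ k n) := by
      rw [RingHom.mem_ker, piZ, aeval_X]; rfl
    rw [← hQc, Ideal.mem_comap] at h1
    have h2 : algebraMap (MvPolynomial (Fin n ⊕ OffDiag n) k) (MvPolynomial (Fin n × Fin n) k)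
        (X (Sum.inl i)) = (Matrix.charpoly.univ k (Fin n)).coeff (i : ℕ) := by
      show psi k n (X (Sum.inl i)) = _
      rw [psi, aeval_X]; rfl
    rwa [h2] at h1
  have h3 : psi k n (rename Sum.inr p) ∈ nilIdeal k n := by
    rw [← Ideal.Quotient.eq_zero_iff_mem, psi_rename, hp]
  have h4 : rename Sum.inr p ∈ RingHom.ker (piZ k n) := by
    rw [← hQc, Ideal.mem_comap]
    exact hIQ h3
  rw [RingHom.mem_ker, piZ_rename] at h4
  exact h4

theorem ringKrullDim_nilCone [IsAlgClosed k] :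
    ringKrullDim (MvPolynomial (Fin n × Fin n) k ⧸ nilIdeal k n) = ((n ^ 2 - n : ℕ) : WithBot ℕ∞) := by
  letI alg : Algebra (MvPolynomial (OffDiag n) k) (MvPolynomial (Fin n × Fin n) k ⧸ nilIdeal k n) :=
    (zeta k n).toRingHom.toAlgebra
  haveI : Module.Finite (MvPolynomial (OffDiag n) k) (MvPolynomial (Fin n × Fin n) k ⧸ nilIdeal k n) :=
    zeta_finite k n
  haveI : Algebra.IsIntegral (MvPolynomial (OffDiag n) k)
      (MvPolynomial (Fin n × Fin n) k ⧸ nilIdeal k n) := Algebra.IsIntegral.of_finite _ _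
  rw [Groth.Agent.Lib.Helper5.ringKrullDim_eq_of_isIntegral_of_injective
    (MvPolynomial (OffDiag n) k) (MvPolynomial (Fin n × Fin n) k ⧸ nilIdeal k n) (zeta_injective k n),
    ringKrullDim_mvPolynomial_field, card_offDiag]

theorem main_S14377 (k : Type u) [Field k] [IsAlgClosed k]
    (n : ℕ) (hn : 1 ≤ n) (I : Ideal (MvPolynomial (Fin n × Fin n) k))
    (hI : I = Ideal.span (Set.range (fun i : Fin n =>
      (Matrix.charpoly (Matrix.mvPolynomialX (Fin n) (Fin n) k)).coeff (i : ℕ)))) :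
    IrreducibleSpace (PrimeSpectrum (MvPolynomial (Fin n × Fin n) k ⧸ I)) ∧
      ringKrullDim (MvPolynomial (Fin n × Fin n) k ⧸ I) = ((n ^ 2 - n : ℕ) : WithBot ℕ∞) := by
  have : I = nilIdeal k n := hI
  subst this
  exact ⟨irreducibleSpace_nilCone k n, ringKrullDim_nilCone k n⟩

end Groth.Agent.Lib.T2H8.NilCone
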