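import Mathlib
import Groth.Agent.Lib.T2H8NilIsoA

set_option autoImplicit false

/-!
# T2H8NilIsoB: isotriviality and quasi-isotriviality lift along nil ideals
-/

namespace Groth.Agent.Lib.T2H8.NilIso

open TensorProduct Coalgebra Groth.Agent.Lib.Helper25 Groth.Agent.Lib.Helper25.BCB
  Groth.Agent.Lib.Helper25.MRB Groth.Agent.Lib.T2H8.NilDiag

universe u

section Main

open SGA3b

variable (R : Type u) [CommRing R] (A : Type u) [CommRing A] [HopfAlgebra R A] (I : Ideal R)

theorem ker_algebraMap_quotient_nil (hI : ∀ x ∈ I, IsNilpotent x) :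
    ∀ x ∈ RingHom.ker (algebraMap R (R ⧸ I)), IsNilpotent x := by
  intro x hx
  rw [Ideal.Quotient.algebraMap_eq, Ideal.mk_ker] at hx
  exact hI x hx

theorem isIsotrivial_of_mod_nil (hI : ∀ x ∈ I, IsNilpotent x) (h : IsMultType R A)
    (h0 : IsIsotrivial (R ⧸ I) ((R ⧸ I) ⊗[R] A)) : IsIsotrivial R A := by
  obtain ⟨Bb, _, _, hEt, hfin, hff, hd⟩ := h0
  letI : Algebra R Bb := ((algebraMap (R ⧸ I) Bb).comp (algebraMap R (R ⧸ I))).toAlgebra
  haveI : IsScalarTower R (R ⧸ I) Bb := IsScalarTower.of_algebraMap_eq (fun _ => rfl)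
  haveI := hEt
  haveI := hff
  have hd' : IsDiag Bb (Bb ⊗[R] A) := isDiag_of_equiv (cancelBC R (R ⧸ I) Bb A).symm hd
  obtain ⟨B, _, _, hEtB, hffB, hfinB, hdB⟩ := exists_etale_cover_isDiag R (R ⧸ I) A h
    Ideal.Quotient.mk_surjective (ker_algebraMap_quotient_nil R I hI) Bb hd'
  exact ⟨B, inferInstance, inferInstance, hEtB, hfinB hfin, hffB, hdB⟩

theorem span_preimage_eq_top (hI : ∀ x ∈ I, IsNilpotent x) (s₀ : Set (R ⧸ I))
    (hs₀ : Ideal.span s₀ = ⊤) : Ideal.span ((Ideal.Quotient.mk I) ⁻¹' s₀) = ⊤ := by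
  have h1 : (Ideal.span ((Ideal.Quotient.mk I) ⁻¹' s₀)).map (Ideal.Quotient.mk I) = ⊤ := by
    rw [Ideal.map_span, Set.image_preimage_eq s₀ Ideal.Quotient.mk_surjective, hs₀]
  have h2 : (1 : R ⧸ I) ∈ (Ideal.span ((Ideal.Quotient.mk I) ⁻¹' s₀)).map
      (Ideal.Quotient.mk I) := by
    rw [h1]; exact Submodule.mem_top
  obtain ⟨a, ha, ha1⟩ := (Ideal.mem_map_iff_of_surjective _ Ideal.Quotient.mk_surjective).mp h2
  exact Ideal.eq_top_of_isUnit_mem _ ha
    (isUnit_of_map_eq_one R (R ⧸ I) (ker_algebraMap_quotient_nil R I hI) ha1)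

theorem isQuasiIsotrivial_of_mod_nil (hI : ∀ x ∈ I, IsNilpotent x) (h : IsMultType R A)
    (h0 : IsQuasiIsotrivial (R ⧸ I) ((R ⧸ I) ⊗[R] A)) : IsQuasiIsotrivial R A := by
  obtain ⟨s₀, hs₀, hq⟩ := h0
  refine ⟨(Ideal.Quotient.mk I) ⁻¹' s₀, span_preimage_eq_top R I hI s₀ hs₀, ?_⟩
  intro f hf
  obtain ⟨Bb, _, _, hEt, hff, hd⟩ := hq (Ideal.Quotient.mk I f) hf
  haveI := hEt
  haveI := hff
  obtain ⟨φ, hφ, hφs, hφk⟩ := exists_away_quotient_map R I hI f
  letI : Algebra (Localization.Away f) (Localization.Away (Ideal.Quotient.mk I f)) :=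
    φ.toAlgebra
  haveI : IsScalarTower R (Localization.Away f) (Localization.Away (Ideal.Quotient.mk I f)) :=
    IsScalarTower.of_algebraMap_eq (fun r => by
      rw [IsScalarTower.algebraMap_apply R (R ⧸ I) (Localization.Away (Ideal.Quotient.mk I f))]
      exact (hφ r).symm)
  letI : Algebra (R ⧸ I) Bb :=
    ((algebraMap (Localization.Away (Ideal.Quotient.mk I f)) Bb).comp
      (algebraMap (R ⧸ I) (Localization.Away (Ideal.Quotient.mk I f)))).toAlgebra
  haveI : IsScalarTower (R ⧸ I) (Localization.Away (Ideal.Quotient.mk I f)) Bb :=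
    IsScalarTower.of_algebraMap_eq (fun _ => rfl)
  letI : Algebra R Bb :=
    ((algebraMap (Localization.Away (Ideal.Quotient.mk I f)) Bb).comp
      (algebraMap R (Localization.Away (Ideal.Quotient.mk I f)))).toAlgebra
  haveI : IsScalarTower R (Localization.Away (Ideal.Quotient.mk I f)) Bb :=
    IsScalarTower.of_algebraMap_eq (fun _ => rfl)
  haveI : IsScalarTower R (R ⧸ I) Bb :=
    IsScalarTower.of_algebraMap_eq (fun r => by
      change algebraMap (Localization.Away (Ideal.Quotient.mk I f)) Bb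
          (algebraMap R (Localization.Away (Ideal.Quotient.mk I f)) r) =
        algebraMap (Localization.Away (Ideal.Quotient.mk I f)) Bb
          (algebraMap (R ⧸ I) (Localization.Away (Ideal.Quotient.mk I f))
            (algebraMap R (R ⧸ I) r))
      rw [← IsScalarTower.algebraMap_apply R (R ⧸ I)
        (Localization.Away (Ideal.Quotient.mk I f))])
  letI : Algebra (Localization.Away f) Bb :=
    ((algebraMap (Localization.Away (Ideal.Quotient.mk I f)) Bb).comp
      (algebraMap (Localization.Away f) (Localization.Away (Ideal.Quotient.mk I f)))).toAlgebra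
  haveI : IsScalarTower (Localization.Away f) (Localization.Away (Ideal.Quotient.mk I f)) Bb :=
    IsScalarTower.of_algebraMap_eq (fun _ => rfl)
  haveI : IsScalarTower R (Localization.Away f) Bb :=
    IsScalarTower.of_algebraMap_eq (fun r => by
      change algebraMap (Localization.Away (Ideal.Quotient.mk I f)) Bb
          (algebraMap R (Localization.Away (Ideal.Quotient.mk I f)) r) =
        algebraMap (Localization.Away (Ideal.Quotient.mk I f)) Bb
          (algebraMap (Localization.Away f) (Localization.Away (Ideal.Quotient.mk I f))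
            (algebraMap R (Localization.Away f) r))
      rw [← IsScalarTower.algebraMap_apply R (Localization.Away f)
        (Localization.Away (Ideal.Quotient.mk I f))])
  have hd1 : IsDiag Bb (Bb ⊗[R ⧸ I] ((R ⧸ I) ⊗[R] A)) :=
    isDiag_of_equiv
      (cancelBC (R ⧸ I) (Localization.Away (Ideal.Quotient.mk I f)) Bb ((R ⧸ I) ⊗[R] A)).symm hd
  have hd2 : IsDiag Bb (Bb ⊗[R] A) := isDiag_of_equiv (cancelBC R (R ⧸ I) Bb A).symm hd1
  have hd3 : IsDiag Bb (Bb ⊗[Localization.Away f] (Localization.Away f ⊗[R] A)) :=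
    isDiag_of_equiv (cancelBC R (Localization.Away f) Bb A) hd2
  have hmtS : IsMultType (Localization.Away f) (Localization.Away f ⊗[R] A) :=
    isMultType_baseChange R A h (Localization.Away f)
  obtain ⟨B, _, _, hEtB, hffB, -, hdB⟩ := exists_etale_cover_isDiag (Localization.Away f)
    (Localization.Away (Ideal.Quotient.mk I f)) (Localization.Away f ⊗[R] A) hmtS hφs hφk Bb hd3
  exact ⟨B, inferInstance, inferInstance, hEtB, hffB, hdB⟩

end Main

end Groth.Agent.Lib.T2H8.NilIso
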