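import Mathlib
set_option autoImplicit false

namespace Groth.Agent.Lib.T2H8.NoName

universe u v w

section Speiser

variable {K : Type u} [Field K] {G : Type v} [Group G] [Fintype G]
  (φ : G →* (K →+* K)) (hφ : Function.Injective φ)

include hφ in
theorem linearIndependent_coe :
    LinearIndependent K (fun g : G => (⇑(φ g) : K → K)) := by
  have h := linearIndependent_monoidHom K K
  have hinj : Function.Injective (fun g : G => ((φ g : K →+* K) : K →* K)) := by
    intro σ τ hστ
    apply hφ
    ext x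
    exact DFunLike.congr_fun hστ x
  exact h.comp _ hinj

include hφ in
theorem span_range_eval_eq_top :
    Submodule.span K (Set.range (fun c : K => (fun g : G => φ g c))) = ⊤ := by
  classical
  by_contra hne
  obtain ⟨u, hu0, hu⟩ := Submodule.exists_le_ker_of_lt_top _ (lt_top_iff_ne_top.mpr hne)
  apply hu0
  have hsum : ∀ c : K, ∑ τ : G,
      u (fun j => if τ = j then (1 : K) else 0) * φ τ c = 0 := by
    intro c
    have h1 : u (fun τ : G => φ τ c) = 0 :=
      LinearMap.mem_ker.mp (hu (Submodule.subset_span ⟨c, rfl⟩))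
    rw [LinearMap.pi_apply_eq_sum_univ u] at h1
    refine Eq.trans ?_ h1
    refine Finset.sum_congr rfl fun τ _ => ?_
    rw [smul_eq_mul, mul_comm]
  have hli := Fintype.linearIndependent_iff.mp (linearIndependent_coe φ hφ)
    (fun τ => u (fun j => if τ = j then (1 : K) else 0))
    (by
      funext c
      rw [Finset.sum_apply, Pi.zero_apply]
      simp only [Pi.smul_apply, smul_eq_mul]
      exact hsum c)
  apply LinearMap.ext
  intro v
  rw [LinearMap.pi_apply_eq_sum_univ u, LinearMap.zero_apply]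
  refine Finset.sum_eq_zero fun τ _ => ?_
  rw [hli τ, smul_zero]

include hφ in
theorem exists_dedekind_delta :
    ∃ (s : Finset K) (d : K → K), (∑ c ∈ s, d c * c = 1) ∧
      ∀ τ : G, τ ≠ 1 → ∑ c ∈ s, d c * φ τ c = 0 := by
  classical
  have hmem : (Pi.single (1 : G) (1 : K) : G → K) ∈
      Submodule.span K (Set.range (fun c : K => (fun τ : G => φ τ c))) := by
    rw [span_range_eval_eq_top φ hφ]; exact Submodule.mem_top
  rw [Finsupp.mem_span_range_iff_exists_finsupp] at hmem
  obtain ⟨f, hf⟩ := hmem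
  have h1 : ∀ τ : G, ∑ c ∈ f.support, f c * φ τ c =
      (Pi.single (1 : G) (1 : K) : G → K) τ := by
    intro τ
    have h2 := congrFun hf τ
    rw [Finsupp.sum, Finset.sum_apply] at h2
    simpa only [Pi.smul_apply, smul_eq_mul] using h2
  refine ⟨f.support, f, ?_, fun τ hτ => ?_⟩
  · have := h1 1
    simpa using this
  · rw [h1 τ, Pi.single_eq_of_ne hτ]

variable {M : Type w} [AddCommGroup M] [Module K M] (ρ : G → M → M)
  (hadd : ∀ g x y, ρ g (x + y) = ρ g x + ρ g y)
  (hsmul : ∀ g (c : K) x, ρ g (c • x) = φ g c • ρ g x)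
  (hmul : ∀ g h x, ρ (g * h) x = ρ g (ρ h x))
  (hone : ∀ x, ρ 1 x = x)

include hadd hsmul in
theorem rho_sum {α : Type*} (g : G) (s : Finset α) (f : α → M) :
    ρ g (∑ a ∈ s, f a) = ∑ a ∈ s, ρ g (f a) := by
  classical
  have h0 : ρ g 0 = 0 := by
    have h := hsmul g 0 0
    rwa [zero_smul, map_zero, zero_smul] at h
  induction s using Finset.induction_on with
  | empty => simpa using h0
  | insert a s ha ih => rw [Finset.sum_insert ha, Finset.sum_insert ha, hadd, ih]

include hadd hsmul hmul in
theorem sum_fixed (y : M) (g : G) :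
    ρ g (∑ τ : G, ρ τ y) = ∑ τ : G, ρ τ y := by
  rw [rho_sum φ ρ hadd hsmul]
  simp only [← hmul]
  exact Fintype.sum_equiv (Equiv.mulLeft g) _ _ (fun τ => rfl)

include hφ hadd hsmul hmul hone in
/-- **Speiser's lemma**: for a finite group acting faithfully on a field `K` and semilinearly on a
`K`-vector space, every vector is a `K`-linear combination of fixed vectors. -/
theorem mem_span_fixed (x : M) : x ∈ Submodule.span K {y : M | ∀ g, ρ g y = y} := by
  classical
  obtain ⟨s, d, h1, h0⟩ := exists_dedekind_delta φ hφ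
  have hx : x = ∑ c ∈ s, d c • ∑ τ : G, ρ τ (c • x) := by
    have e1 : ∀ c ∈ s, d c • ∑ τ : G, ρ τ (c • x) =
        ∑ τ : G, (d c * φ τ c) • ρ τ x := by
      intro c _
      rw [Finset.smul_sum]
      refine Finset.sum_congr rfl fun τ _ => ?_
      rw [hsmul, smul_smul]
    rw [Finset.sum_congr rfl e1, Finset.sum_comm]
    simp only [← Finset.sum_smul]
    rw [Finset.sum_eq_single (1 : G)]
    · simp only [map_one, RingHom.one_def, RingHom.id_apply]
      rw [h1, one_smul, hone]
    · intro τ _ hτ
      rw [h0 τ hτ, zero_smul]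
    · intro h; exact absurd (Finset.mem_univ _) h
  rw [hx]
  exact Submodule.sum_mem _ fun c _ =>
    Submodule.smul_mem _ _ (Submodule.subset_span (sum_fixed φ ρ hadd hsmul hmul (c • x)))

include hφ hadd hsmul hmul hone in
/-- Speiser's lemma inside a stable subspace. -/
theorem mem_span_fixed_of_mem (W : Submodule K M) (hW : ∀ g, ∀ x ∈ W, ρ g x ∈ W)
    (x : M) (hxW : x ∈ W) : x ∈ Submodule.span K {y : M | y ∈ W ∧ ∀ g, ρ g y = y} := by
  classical
  obtain ⟨s, d, h1, h0⟩ := exists_dedekind_delta φ hφ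
  have hx : x = ∑ c ∈ s, d c • ∑ τ : G, ρ τ (c • x) := by
    have e1 : ∀ c ∈ s, d c • ∑ τ : G, ρ τ (c • x) =
        ∑ τ : G, (d c * φ τ c) • ρ τ x := by
      intro c _
      rw [Finset.smul_sum]
      refine Finset.sum_congr rfl fun τ _ => ?_
      rw [hsmul, smul_smul]
    rw [Finset.sum_congr rfl e1, Finset.sum_comm]
    simp only [← Finset.sum_smul]
    rw [Finset.sum_eq_single (1 : G)]
    · simp only [map_one, RingHom.one_def, RingHom.id_apply]
      rw [h1, one_smul, hone]
    · intro τ _ hτ
      rw [h0 τ hτ, zero_smul]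
    · intro h; exact absurd (Finset.mem_univ _) h
  rw [hx]
  refine Submodule.sum_mem _ fun c _ => Submodule.smul_mem _ _ (Submodule.subset_span ⟨?_, ?_⟩)
  · exact Submodule.sum_mem _ fun τ _ => hW τ _ (Submodule.smul_mem _ _ hxW)
  · exact sum_fixed φ ρ hadd hsmul hmul (c • x)

end Speiser

end Groth.Agent.Lib.T2H8.NoName
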