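import Mathlib
import Groth.Agent.Lib.T2H8NoNameA
set_option autoImplicit false

namespace Groth.Agent.Lib.T2H8.NoName

universe u v

section Abstract

variable {k : Type u} [Field k] {L : Type v} [Field L] [Algebra k L]
  (G : Subgroup (L ≃ₐ[k] L)) (L₀ : IntermediateField k L)
  (hstab : ∀ σ ∈ G, ∀ a ∈ L₀, σ a ∈ L₀)

/-- restriction of an element of `G` to the stable subfield `L₀` -/
def resHom (g : G) : L₀ →+* L₀ where
  toFun a := ⟨(g : L ≃ₐ[k] L) a, hstab g g.2 a a.2⟩
  map_one' := Subtype.ext (map_one _)
  map_mul' a b := Subtype.ext (map_mul _ _ _)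
  map_zero' := Subtype.ext (map_zero _)
  map_add' a b := Subtype.ext (map_add _ _ _)

@[simp] theorem resHom_apply (g : G) (a : L₀) :
    ((resHom G L₀ hstab g a : L₀) : L) = (g : L ≃ₐ[k] L) a := rfl

/-- the restriction as a monoid hom -/
def resMonoidHom : G →* (L₀ →+* L₀) where
  toFun := resHom G L₀ hstab
  map_one' := by ext a; rfl
  map_mul' g h := by ext a; rfl

@[simp] theorem resMonoidHom_apply (g : G) (a : L₀) :
    ((resMonoidHom G L₀ hstab g a : L₀) : L) = (g : L ≃ₐ[k] L) a := rfl

theorem resMonoidHom_injective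
    (hfaith : ∀ σ ∈ G, (∀ a ∈ L₀, σ a = a) → σ = 1) :
    Function.Injective (resMonoidHom G L₀ hstab) := by
  rw [injective_iff_map_eq_one]
  intro g hg
  apply Subtype.ext
  refine hfaith g g.2 fun a ha => ?_
  have := DFunLike.congr_fun hg ⟨a, ha⟩
  exact congrArg Subtype.val this

theorem smul_eq_mul' (c : L₀) (x : L) : c • x = (c : L) * x := by
  rw [Algebra.smul_def]; rfl

include hstab in
/-- Speiser: a stable finite-dimensional `L₀`-subspace with a linearly independent generating
family has an invariant basis -/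
theorem exists_invariant_basis [Finite G]
    (hfaith : ∀ σ ∈ G, (∀ a ∈ L₀, σ a = a) → σ = 1) {m : ℕ} (y : Fin m → L)
    (hy : ∀ σ ∈ G, ∀ j, σ (y j) ∈ Submodule.span L₀ (Set.range y))
    (hli : LinearIndependent L₀ y) :
    ∃ t : Fin m → L, (∀ σ ∈ G, ∀ j, σ (t j) = t j) ∧ LinearIndependent L₀ t ∧
      Submodule.span L₀ (Set.range t) = Submodule.span L₀ (Set.range y) := by
  classical
  haveI : Fintype G := Fintype.ofFinite G
  set W : Submodule L₀ L := Submodule.span L₀ (Set.range y) with hWdef
  let φ := resMonoidHom G L₀ hstab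
  have hφ : Function.Injective φ := resMonoidHom_injective G L₀ hstab hfaith
  let ρ : G → L → L := fun g x => (g : L ≃ₐ[k] L) x
  have hadd : ∀ g x y, ρ g (x + y) = ρ g x + ρ g y := fun g x y => map_add _ _ _
  have hsmul : ∀ g (c : L₀) x, ρ g (c • x) = φ g c • ρ g x := by
    intro g c x
    show (g : L ≃ₐ[k] L) (c • x) = φ g c • (g : L ≃ₐ[k] L) x
    rw [smul_eq_mul', smul_eq_mul', map_mul]
    rfl
  have hmul : ∀ g h x, ρ (g * h) x = ρ g (ρ h x) := fun g h x => rfl
  have hone : ∀ x, ρ 1 x = x := fun x => rfl
  have hW : ∀ g, ∀ x ∈ W, ρ g x ∈ W := by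
    intro g x hx
    induction hx using Submodule.span_induction with
    | mem x hx =>
      obtain ⟨j, rfl⟩ := hx
      exact hy g g.2 j
    | zero => rw [show ρ g 0 = 0 from map_zero _]; exact W.zero_mem
    | add x y _ _ hx hy => rw [hadd]; exact W.add_mem hx hy
    | smul c x _ hx => rw [hsmul]; exact W.smul_mem _ hx
  set T : Set L := {z : L | z ∈ W ∧ ∀ g, ρ g z = z} with hT
  have hspanT : Submodule.span L₀ T = W := by
    apply le_antisymm
    · exact Submodule.span_le.mpr fun z hz => hz.1
    · rw [hWdef]
      refine Submodule.span_le.mpr ?_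
      rintro _ ⟨j, rfl⟩
      exact mem_span_fixed_of_mem φ hφ ρ hadd hsmul hmul hone W hW (y j)
        (Submodule.subset_span ⟨j, rfl⟩)
  obtain ⟨b, hbT, hbspan, hbli⟩ := exists_linearIndependent L₀ T
  rw [hspanT] at hbspan
  haveI : Finite b := by
    refine LinearIndependent.finite_of_le_span_finite _ hbli (Set.range y) ?_
    rw [Subtype.range_coe]
    intro z hz
    have : z ∈ Submodule.span L₀ b := Submodule.subset_span hz
    rw [hbspan] at this
    exact this
  haveI : Fintype b := Fintype.ofFinite b
  have hcard : Fintype.card b = m := by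
    have h1 := finrank_span_eq_card hbli
    rw [Subtype.range_coe, hbspan, hWdef, finrank_span_eq_card hli, Fintype.card_fin] at h1
    exact h1.symm
  let e : Fin m ≃ b := (Fintype.equivFinOfCardEq hcard).symm
  refine ⟨fun j => (e j : L), ?_, ?_, ?_⟩
  · intro σ hσ j
    exact (hbT (e j).2).2 ⟨σ, hσ⟩
  · exact hbli.comp e e.injective
  · rw [← hbspan]
    congr 1
    ext z
    constructor
    · rintro ⟨j, rfl⟩; exact (e j).2
    · intro hz; exact ⟨e.symm ⟨z, hz⟩, by simp⟩

omit [Algebra k L] in
/-- if `z` generates `L` as a field over `K`, then `L` is algebraic over the subalgebra `K[z]` -/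
theorem isAlgebraic_adjoin_of_adjoin_eq_top {K : Type*} [Field K] [Algebra K L] {ι : Type*}
    (z : ι → L) (hz : IntermediateField.adjoin K (Set.range z) = ⊤) :
    Algebra.IsAlgebraic (Algebra.adjoin K (Set.range z)) L := by
  refine ⟨fun x => ?_⟩
  have hx : x ∈ IntermediateField.adjoin K (Set.range z) := by rw [hz]; trivial
  obtain ⟨r, hr, s, hs, rfl⟩ := IntermediateField.mem_adjoin_iff_div.mp hx
  by_cases hs0 : s = 0
  · rw [hs0, div_zero]; exact isAlgebraic_zero
  · refine ⟨Polynomial.C (⟨s, hs⟩ : Algebra.adjoin K (Set.range z)) * Polynomial.X -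
      Polynomial.C (⟨r, hr⟩ : Algebra.adjoin K (Set.range z)), ?_, ?_⟩
    · intro h
      apply hs0
      have := congrArg (fun p => Polynomial.coeff p 1) h
      have h' : (⟨s, hs⟩ : Algebra.adjoin K (Set.range z)) = 0 := by simpa using this
      exact congrArg Subtype.val h'
    · simp only [map_sub, map_mul, Polynomial.aeval_C, Polynomial.aeval_X]
      show s * (r / s) - r = 0
      field_simp
      ring

theorem algebraicIndependent_of_span_eq {m : ℕ} (y t : Fin m → L)
    (hind : AlgebraicIndependent L₀ y) (hgen : IntermediateField.adjoin L₀ (Set.range y) = ⊤)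
    (hspan : Submodule.span L₀ (Set.range t) = Submodule.span L₀ (Set.range y)) :
    AlgebraicIndependent L₀ t ∧ IntermediateField.adjoin L₀ (Set.range t) = ⊤ := by
  have hgen' : IntermediateField.adjoin L₀ (Set.range t) = ⊤ := by
    rw [eq_top_iff, ← hgen, IntermediateField.adjoin_le_iff]
    rintro _ ⟨j, rfl⟩
    have h1 : y j ∈ Submodule.span L₀ (Set.range t) := by
      rw [hspan]; exact Submodule.subset_span ⟨j, rfl⟩
    have h2 : Submodule.span L₀ (Set.range t) ≤
        (IntermediateField.adjoin L₀ (Set.range t)).toSubalgebra.toSubmodule :=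
      Submodule.span_le.mpr fun z hz => IntermediateField.subset_adjoin _ _ hz
    exact h2 h1
  refine ⟨?_, hgen'⟩
  haveI := isAlgebraic_adjoin_of_adjoin_eq_top (K := L₀) y hgen
  haveI := isAlgebraic_adjoin_of_adjoin_eq_top (K := L₀) t hgen'
  have hy : IsTranscendenceBasis L₀ y := hind.isTranscendenceBasis_iff_isAlgebraic.mpr inferInstance
  have htr := hy.lift_cardinalMk_eq_trdeg
  exact (Algebra.IsAlgebraic.isTranscendenceBasis_of_lift_le_trdeg_of_finite L₀ t htr.le).1

/-- applying `g` to a polynomial expression in invariant elements acts on the coefficients -/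
theorem apply_aeval_eq {m : ℕ} (t : Fin m → L) (g : G)
    (ht : ∀ j, (g : L ≃ₐ[k] L) (t j) = t j) (p : MvPolynomial (Fin m) L₀) :
    (g : L ≃ₐ[k] L) (MvPolynomial.aeval t p) =
      MvPolynomial.aeval t (MvPolynomial.map (resHom G L₀ hstab g) p) := by
  let f₁ : MvPolynomial (Fin m) L₀ →+* L :=
    ((g : L ≃ₐ[k] L) : L →+* L).comp (MvPolynomial.aeval t : MvPolynomial (Fin m) L₀ →ₐ[L₀] L)
  let f₂ : MvPolynomial (Fin m) L₀ →+* L :=
    ((MvPolynomial.aeval t : MvPolynomial (Fin m) L₀ →ₐ[L₀] L) : MvPolynomial (Fin m) L₀ →+* L).comp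
      (MvPolynomial.map (resHom G L₀ hstab g))
  have h : f₁ = f₂ := by
    apply MvPolynomial.ringHom_ext
    · intro c
      simp only [f₁, f₂, RingHom.comp_apply, RingHom.coe_coe, MvPolynomial.aeval_C,
        MvPolynomial.map_C]
      rfl
    · intro j
      simp only [f₁, f₂, RingHom.comp_apply, RingHom.coe_coe, MvPolynomial.aeval_X,
        MvPolynomial.map_X]
      exact ht j
  exact DFunLike.congr_fun h p

/-- a polynomial in `t` with coefficients in `L₀ ∩ L^G` lies in `(L₀ ∩ L^G)(t)` -/
theorem aeval_mem_adjoin_of_coeff_mem {m : ℕ} (t : Fin m → L) (p : MvPolynomial (Fin m) L₀)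
    (hp : ∀ d, ((MvPolynomial.coeff d p : L₀) : L) ∈ IntermediateField.fixedField G) :
    MvPolynomial.aeval t p ∈
      IntermediateField.adjoin ↥(L₀ ⊓ IntermediateField.fixedField G) (Set.range t) := by
  rw [MvPolynomial.aeval_def, MvPolynomial.eval₂_eq]
  refine sum_mem fun d _ => mul_mem ?_ (prod_mem fun i _ => pow_mem ?_ _)
  · have hmem : ((MvPolynomial.coeff d p : L₀) : L) ∈ L₀ ⊓ IntermediateField.fixedField G :=
      ⟨(MvPolynomial.coeff d p).2, hp d⟩
    exact (IntermediateField.adjoin ↥(L₀ ⊓ IntermediateField.fixedField G)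
      (Set.range t)).algebraMap_mem ⟨_, hmem⟩
  · exact IntermediateField.subset_adjoin _ _ ⟨i, rfl⟩

theorem coeff_mem_fixedField_of_map_eq {m : ℕ} (p : MvPolynomial (Fin m) L₀)
    (h : ∀ g : G, MvPolynomial.map (resHom G L₀ hstab g) p = p) (d : Fin m →₀ ℕ) :
    ((MvPolynomial.coeff d p : L₀) : L) ∈ IntermediateField.fixedField G := by
  rw [IntermediateField.mem_fixedField_iff]
  intro σ hσ
  have h1 := congrArg (MvPolynomial.coeff d) (h ⟨σ, hσ⟩)
  rw [MvPolynomial.coeff_map] at h1
  exact congrArg Subtype.val h1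

include hstab in
/-- **No-name lemma**, abstract form. -/
theorem noname_abstract [Finite G]
    (hfaith : ∀ σ ∈ G, (∀ a ∈ L₀, σ a = a) → σ = 1) {m : ℕ} (y : Fin m → L)
    (hy : ∀ σ ∈ G, ∀ j, σ (y j) ∈ Submodule.span L₀ (Set.range y))
    (hind : AlgebraicIndependent L₀ y)
    (hgen : IntermediateField.adjoin L₀ (Set.range y) = ⊤) :
    ∃ t : Fin m → L,
      AlgebraicIndependent ↥(L₀ ⊓ IntermediateField.fixedField G) t ∧
      IntermediateField.restrictScalars k
        (IntermediateField.adjoin ↥(L₀ ⊓ IntermediateField.fixedField G) (Set.range t)) =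
        IntermediateField.fixedField G := by
  classical
  haveI : Fintype G := Fintype.ofFinite G
  obtain ⟨t, htfix, -, htspan⟩ :=
    exists_invariant_basis G L₀ hstab hfaith y hy hind.linearIndependent
  obtain ⟨htind, htgen⟩ := algebraicIndependent_of_span_eq L₀ y t hind hgen htspan
  refine ⟨t, ?_, ?_⟩
  · rw [algebraicIndependent_iff]
    intro p hp
    let ι : ↥(L₀ ⊓ IntermediateField.fixedField G) →+* ↥L₀ :=
      (IntermediateField.inclusion inf_le_left).toRingHom
    have h1 : MvPolynomial.aeval t (MvPolynomial.map ι p) = MvPolynomial.aeval t p := by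
      rw [MvPolynomial.aeval_def, MvPolynomial.eval₂_map, MvPolynomial.aeval_def]; rfl
    have h2 : MvPolynomial.map ι p = 0 := (algebraicIndependent_iff.mp htind) _ (h1.trans hp)
    exact MvPolynomial.map_injective ι ι.injective (h2.trans (map_zero _).symm)
  · apply le_antisymm
    · intro x hx
      rw [IntermediateField.mem_restrictScalars] at hx
      have hle : IntermediateField.adjoin ↥(L₀ ⊓ IntermediateField.fixedField G) (Set.range t) ≤
          IntermediateField.extendScalars
            (inf_le_right : L₀ ⊓ IntermediateField.fixedField G ≤ IntermediateField.fixedField G) := by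
        rw [IntermediateField.adjoin_le_iff]
        rintro _ ⟨j, rfl⟩
        rw [SetLike.mem_coe, IntermediateField.mem_extendScalars,
          IntermediateField.mem_fixedField_iff]
        exact fun σ hσ => htfix σ hσ j
      exact hle hx
    · intro x hx
      rw [IntermediateField.mem_restrictScalars]
      have hxfix : ∀ g : G, (g : L ≃ₐ[k] L) x = x := fun g =>
        (IntermediateField.mem_fixedField_iff _ _).mp hx g g.2
      have hxtop : x ∈ IntermediateField.adjoin L₀ (Set.range t) := by rw [htgen]; trivial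
      obtain ⟨r, s, hxrs⟩ := (IntermediateField.mem_adjoin_range_iff L₀ t x).mp hxtop
      by_cases hs0 : MvPolynomial.aeval t s = 0
      · rw [hxrs, hs0, div_zero]; exact zero_mem _
      · set R : MvPolynomial (Fin m) L₀ :=
          ∏ g ∈ Finset.univ.erase (1 : G), MvPolynomial.map (resHom G L₀ hstab g) s with hR
        set Q : MvPolynomial (Fin m) L₀ :=
          ∏ g : G, MvPolynomial.map (resHom G L₀ hstab g) s with hQ
        have hone : MvPolynomial.map (resHom G L₀ hstab 1) s = s := by
          have : resHom G L₀ hstab 1 = RingHom.id _ := (resMonoidHom G L₀ hstab).map_one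
          rw [this, MvPolynomial.map_id]
        have hQR : Q = s * R := by
          rw [hQ, hR, ← Finset.mul_prod_erase Finset.univ _ (Finset.mem_univ (1 : G)), hone]
        have htfix' : ∀ (g : G) j, (g : L ≃ₐ[k] L) (t j) = t j := fun g j => htfix g g.2 j
        have hQne : MvPolynomial.aeval t Q ≠ 0 := by
          rw [hQ, map_prod]
          refine Finset.prod_ne_zero_iff.mpr fun g _ => ?_
          rw [← apply_aeval_eq G L₀ hstab t g (htfix' g)]
          exact (map_ne_zero_iff _ (g : L ≃ₐ[k] L).injective).mpr hs0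
        have hRne : MvPolynomial.aeval t R ≠ 0 := by
          intro h0
          apply hQne
          rw [hQR, map_mul, h0, mul_zero]
        have hxPQ : x = MvPolynomial.aeval t (r * R) / MvPolynomial.aeval t Q := by
          rw [hQR, map_mul, map_mul, mul_div_mul_right _ _ hRne]
          exact hxrs
        have hQinv : ∀ h : G, MvPolynomial.map (resHom G L₀ hstab h) Q = Q := by
          intro h
          rw [hQ, map_prod]
          simp only [MvPolynomial.map_map]
          have hcomp : ∀ g : G, (resHom G L₀ hstab h).comp (resHom G L₀ hstab g) =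
              resHom G L₀ hstab (h * g) := fun g =>
            ((resMonoidHom G L₀ hstab).map_mul h g).symm
          simp only [hcomp]
          exact Fintype.prod_equiv (Equiv.mulLeft h) _ _ (fun g => rfl)
        have hQfix : ∀ h : G, (h : L ≃ₐ[k] L) (MvPolynomial.aeval t Q) = MvPolynomial.aeval t Q := by
          intro h
          rw [apply_aeval_eq G L₀ hstab t h (htfix' h), hQinv h]
        have hPval : MvPolynomial.aeval t (r * R) = x * MvPolynomial.aeval t Q := by
          rw [hxPQ, div_mul_cancel₀ _ hQne]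
        have hPinv : ∀ h : G, MvPolynomial.map (resHom G L₀ hstab h) (r * R) = r * R := by
          intro h
          apply htind
          change MvPolynomial.aeval t _ = MvPolynomial.aeval t _
          rw [← apply_aeval_eq G L₀ hstab t h (htfix' h), hPval, map_mul, hxfix h, hQfix h]
        rw [hxPQ]
        exact div_mem
          (aeval_mem_adjoin_of_coeff_mem G L₀ t _
            (coeff_mem_fixedField_of_map_eq G L₀ hstab _ hPinv))
          (aeval_mem_adjoin_of_coeff_mem G L₀ t _
            (coeff_mem_fixedField_of_map_eq G L₀ hstab _ hQinv))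

end Abstract

end Groth.Agent.Lib.T2H8.NoName
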