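import Mathlib
import Groth.Agent.Lib.T2H8NoNameB
import Groth.Prelude.Def_W4c2brnrinvarInvFld
set_option autoImplicit false

namespace Groth.Agent.Lib.T2H8.NoName

universe u

open scoped IntermediateField.algebraAdjoinAdjoin

section Concrete

variable (k : Type u) [Field k] (n m : ℕ)

/-- the variables are algebraically independent in the rational function field -/
theorem algebraicIndependent_X (σ : Type*) :
    AlgebraicIndependent k (fun i : σ => (InvFld.X i : InvFld.Fld σ k)) := by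
  have h := MvPolynomial.algebraicIndependent_X σ k
  exact h.map' (f := IsScalarTower.toAlgHom k (MvPolynomial σ k) (InvFld.Fld σ k))
    (IsFractionRing.injective (MvPolynomial σ k) (InvFld.Fld σ k))

/-- the `y`-variables are algebraically independent over `k(x)` -/
theorem algebraicIndependent_inr :
    AlgebraicIndependent
      ↥(IntermediateField.adjoin k (Set.range fun j : Fin n =>
        (InvFld.X (Sum.inl j) : InvFld.Fld (Fin n ⊕ Fin m) k)))
      (fun j : Fin m => (InvFld.X (Sum.inr j) : InvFld.Fld (Fin n ⊕ Fin m) k)) := by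
  have h := algebraicIndependent_X k (Fin n ⊕ Fin m)
  have h' : AlgebraicIndependent k
      (Sum.elim (fun j : Fin m => (InvFld.X (Sum.inr j) : InvFld.Fld (Fin n ⊕ Fin m) k))
        (fun j : Fin n => (InvFld.X (Sum.inl j) : InvFld.Fld (Fin n ⊕ Fin m) k))) := by
    have := h.comp (Equiv.sumComm (Fin m) (Fin n)) (Equiv.injective _)
    convert this using 1
    ext (j | j) <;> rfl
  have h2 := (AlgebraicIndependent.sumElim_iff.mp h').2
  exact h2.extendScalars _

/-- `k(x)(y) = k(x, y)` -/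
theorem adjoin_inr_eq_top :
    IntermediateField.adjoin
      ↥(IntermediateField.adjoin k (Set.range fun j : Fin n =>
        (InvFld.X (Sum.inl j) : InvFld.Fld (Fin n ⊕ Fin m) k)))
      (Set.range fun j : Fin m => (InvFld.X (Sum.inr j) : InvFld.Fld (Fin n ⊕ Fin m) k)) = ⊤ := by
  set L₀ := IntermediateField.adjoin k (Set.range fun j : Fin n =>
        (InvFld.X (Sum.inl j) : InvFld.Fld (Fin n ⊕ Fin m) k)) with hL₀
  set E := IntermediateField.adjoin ↥L₀
      (Set.range fun j : Fin m => (InvFld.X (Sum.inr j) : InvFld.Fld (Fin n ⊕ Fin m) k)) with hE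
  rw [eq_top_iff]
  intro z _
  have hpoly : ∀ p : MvPolynomial (Fin n ⊕ Fin m) k,
      algebraMap (MvPolynomial (Fin n ⊕ Fin m) k) (InvFld.Fld (Fin n ⊕ Fin m) k) p ∈ E := by
    intro p
    induction p using MvPolynomial.induction_on with
    | C a =>
      have : algebraMap (MvPolynomial (Fin n ⊕ Fin m) k) (InvFld.Fld (Fin n ⊕ Fin m) k)
          (MvPolynomial.C a) = algebraMap ↥L₀ (InvFld.Fld (Fin n ⊕ Fin m) k) (algebraMap k ↥L₀ a) := by
        rw [← IsScalarTower.algebraMap_apply, ← MvPolynomial.algebraMap_eq,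
          ← IsScalarTower.algebraMap_apply]
      rw [this]
      exact E.algebraMap_mem _
    | add p q hp hq => rw [map_add]; exact add_mem hp hq
    | mul_X p i hp =>
      rw [map_mul]
      refine mul_mem hp ?_
      rcases i with i | i
      · have hmem : (InvFld.X (Sum.inl i) : InvFld.Fld (Fin n ⊕ Fin m) k) ∈ L₀ :=
          IntermediateField.subset_adjoin _ _ ⟨i, rfl⟩
        exact E.algebraMap_mem ⟨_, hmem⟩
      · exact IntermediateField.subset_adjoin _ _ ⟨i, rfl⟩
  obtain ⟨a, b, -, rfl⟩ := IsFractionRing.div_surjective (A := MvPolynomial (Fin n ⊕ Fin m) k) z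
  exact div_mem (hpoly a) (hpoly b)

/-- S15697: the no-name lemma. -/
theorem main_S15697 [CharZero k]
    (G : Subgroup (InvFld.Fld (Fin n ⊕ Fin m) k ≃ₐ[k] InvFld.Fld (Fin n ⊕ Fin m) k)) [Finite G]
    (hx : ∀ σ ∈ G, ∀ i : Fin n, σ (InvFld.X (Sum.inl i)) ∈ Submodule.span k (Set.range fun j : Fin n => (InvFld.X (Sum.inl j) : InvFld.Fld (Fin n ⊕ Fin m) k)))
    (hy : ∀ σ ∈ G, ∀ i : Fin m, σ (InvFld.X (Sum.inr i)) ∈ Submodule.span k (Set.range fun j : Fin m => (InvFld.X (Sum.inr j) : InvFld.Fld (Fin n ⊕ Fin m) k)))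
    (hfaith : ∀ σ ∈ G, (∀ i : Fin n, σ (InvFld.X (Sum.inl i)) = InvFld.X (Sum.inl i)) → σ = 1) :
    ∃ t : Fin m → InvFld.Fld (Fin n ⊕ Fin m) k,
      AlgebraicIndependent (↥(IntermediateField.adjoin k (Set.range fun j : Fin n => (InvFld.X (Sum.inl j) : InvFld.Fld (Fin n ⊕ Fin m) k)) ⊓ IntermediateField.fixedField G)) t ∧
      IntermediateField.restrictScalars k (IntermediateField.adjoin (↥(IntermediateField.adjoin k (Set.range fun j : Fin n => (InvFld.X (Sum.inl j) : InvFld.Fld (Fin n ⊕ Fin m) k)) ⊓ IntermediateField.fixedField G)) (Set.range t)) =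
        IntermediateField.fixedField G := by
  set L₀ := IntermediateField.adjoin k (Set.range fun j : Fin n =>
        (InvFld.X (Sum.inl j) : InvFld.Fld (Fin n ⊕ Fin m) k)) with hL₀
  have hxmem : ∀ i : Fin n, (InvFld.X (Sum.inl i) : InvFld.Fld (Fin n ⊕ Fin m) k) ∈ L₀ :=
    fun i => IntermediateField.subset_adjoin _ _ ⟨i, rfl⟩
  have hstab : ∀ σ ∈ G, ∀ a ∈ L₀, σ a ∈ L₀ := by
    intro σ hσ
    have hle : L₀ ≤ L₀.comap (σ : InvFld.Fld (Fin n ⊕ Fin m) k →ₐ[k] InvFld.Fld (Fin n ⊕ Fin m) k) := by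
      rw [hL₀, IntermediateField.adjoin_le_iff]
      rintro _ ⟨i, rfl⟩
      show σ (InvFld.X (Sum.inl i)) ∈ L₀
      have h1 := hx σ hσ i
      have h2 : Submodule.span k (Set.range fun j : Fin n =>
          (InvFld.X (Sum.inl j) : InvFld.Fld (Fin n ⊕ Fin m) k)) ≤ L₀.toSubalgebra.toSubmodule :=
        Submodule.span_le.mpr (by rintro _ ⟨j, rfl⟩; exact hxmem j)
      exact h2 h1
    intro a ha
    exact hle ha
  have hfaith' : ∀ σ ∈ G, (∀ a ∈ L₀, σ a = a) → σ = 1 :=
    fun σ hσ h => hfaith σ hσ fun i => h _ (hxmem i)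
  have hy' : ∀ σ ∈ G, ∀ j : Fin m, σ (InvFld.X (Sum.inr j)) ∈ Submodule.span L₀
      (Set.range fun j : Fin m => (InvFld.X (Sum.inr j) : InvFld.Fld (Fin n ⊕ Fin m) k)) := by
    intro σ hσ j
    exact Submodule.span_le_restrictScalars k L₀ _ (hy σ hσ j)
  exact noname_abstract G L₀ hstab hfaith' _ hy' (algebraicIndependent_inr k n m)
    (adjoin_inr_eq_top k n m)

end Concrete

end Groth.Agent.Lib.T2H8.NoName
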