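import Mathlib
import Groth.Agent.Lib.T2H8NoNameC
set_option autoImplicit false

namespace Groth.Agent.Lib.T2H8.NoName

universe u

section Lin

variable {k : Type u} [Field k] {σ : Type} [Fintype σ]

/-- an automorphism of `k(x)` is linear if it maps each variable into the span of the variables -/
def IsLin (f : InvFld.Fld σ k ≃ₐ[k] InvFld.Fld σ k) : Prop :=
  ∀ i, f (InvFld.X i) ∈ Submodule.span k (Set.range fun j : σ => (InvFld.X j : InvFld.Fld σ k))

/-- coefficients of a linear automorphism -/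
noncomputable def coef {f : InvFld.Fld σ k ≃ₐ[k] InvFld.Fld σ k} (hf : IsLin f) (i : σ) : σ → k :=
  Classical.choose ((Submodule.mem_span_range_iff_exists_fun k).mp (hf i))

theorem coef_spec {f : InvFld.Fld σ k ≃ₐ[k] InvFld.Fld σ k} (hf : IsLin f) (i : σ) :
    ∑ j, coef hf i j • (InvFld.X j : InvFld.Fld σ k) = f (InvFld.X i) :=
  Classical.choose_spec ((Submodule.mem_span_range_iff_exists_fun k).mp (hf i))

/-- the linear form `f(x_i)` as a polynomial -/
noncomputable def linForm {f : InvFld.Fld σ k ≃ₐ[k] InvFld.Fld σ k} (hf : IsLin f) (i : σ) :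
    MvPolynomial σ k := ∑ j, coef hf i j • MvPolynomial.X j

theorem algebraMap_linForm {f : InvFld.Fld σ k ≃ₐ[k] InvFld.Fld σ k} (hf : IsLin f) (i : σ) :
    algebraMap (MvPolynomial σ k) (InvFld.Fld σ k) (linForm hf i) = f (InvFld.X i) := by
  rw [← coef_spec hf i, linForm, map_sum]
  refine Finset.sum_congr rfl fun j _ => ?_
  rw [Algebra.smul_def, map_mul, Algebra.smul_def, ← IsScalarTower.algebraMap_apply]

/-- the polynomial endomorphism induced by a linear automorphism -/
noncomputable def polyOf {f : InvFld.Fld σ k ≃ₐ[k] InvFld.Fld σ k} (hf : IsLin f) :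
    MvPolynomial σ k →ₐ[k] MvPolynomial σ k := MvPolynomial.aeval (linForm hf)

theorem algebraMap_polyOf {f : InvFld.Fld σ k ≃ₐ[k] InvFld.Fld σ k} (hf : IsLin f)
    (p : MvPolynomial σ k) :
    algebraMap (MvPolynomial σ k) (InvFld.Fld σ k) (polyOf hf p) =
      f (algebraMap (MvPolynomial σ k) (InvFld.Fld σ k) p) := by
  let a₁ : MvPolynomial σ k →ₐ[k] InvFld.Fld σ k :=
    (IsScalarTower.toAlgHom k (MvPolynomial σ k) (InvFld.Fld σ k)).comp (polyOf hf)
  let a₂ : MvPolynomial σ k →ₐ[k] InvFld.Fld σ k :=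
    (f : InvFld.Fld σ k →ₐ[k] InvFld.Fld σ k).comp
      (IsScalarTower.toAlgHom k (MvPolynomial σ k) (InvFld.Fld σ k))
  have h : a₁ = a₂ := by
    apply MvPolynomial.algHom_ext
    intro i
    simp only [a₁, a₂, AlgHom.comp_apply, polyOf, MvPolynomial.aeval_X, IsScalarTower.coe_toAlgHom']
    exact algebraMap_linForm hf i
  exact DFunLike.congr_fun h p

theorem polyOf_X {f : InvFld.Fld σ k ≃ₐ[k] InvFld.Fld σ k} (hf : IsLin f) (i : σ) :
    polyOf hf (MvPolynomial.X i) = ∑ j, coef hf i j • MvPolynomial.X j := by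
  rw [polyOf, MvPolynomial.aeval_X, linForm]

variable (G : Subgroup (InvFld.Fld σ k ≃ₐ[k] InvFld.Fld σ k)) (hG : ∀ f ∈ G, IsLin f)

/-- the action on the polynomial ring of a group of linear automorphisms -/
noncomputable def polyHom : G →* (MvPolynomial σ k →ₐ[k] MvPolynomial σ k) where
  toFun g := polyOf (hG g g.2)
  map_one' := by
    apply AlgHom.ext
    intro p
    apply IsFractionRing.injective (MvPolynomial σ k) (InvFld.Fld σ k)
    rw [algebraMap_polyOf]
    rfl
  map_mul' g h := by
    apply AlgHom.ext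
    intro p
    apply IsFractionRing.injective (MvPolynomial σ k) (InvFld.Fld σ k)
    rw [algebraMap_polyOf, AlgHom.mul_apply, algebraMap_polyOf, algebraMap_polyOf]
    rfl

theorem algebraMap_polyHom (g : G) (p : MvPolynomial σ k) :
    algebraMap (MvPolynomial σ k) (InvFld.Fld σ k) (polyHom G hG g p) =
      (g : InvFld.Fld σ k ≃ₐ[k] InvFld.Fld σ k)
        (algebraMap (MvPolynomial σ k) (InvFld.Fld σ k) p) :=
  algebraMap_polyOf _ p

theorem polyHom_X (g : G) (i : σ) :
    polyHom G hG g (MvPolynomial.X i) = ∑ j, coef (hG g g.2) i j • MvPolynomial.X j :=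
  polyOf_X _ i

end Lin

section Combined

variable {k : Type u} [Field k] {σ τ : Type} {Γ : Type*} [Group Γ]
  (θ : Γ →* (MvPolynomial σ k →ₐ[k] MvPolynomial σ k))
  (θ' : Γ →* (MvPolynomial τ k →ₐ[k] MvPolynomial τ k))

/-- the combined endomorphism of `k[x, y]` -/
noncomputable def combEnd (g : Γ) : MvPolynomial (σ ⊕ τ) k →ₐ[k] MvPolynomial (σ ⊕ τ) k :=
  MvPolynomial.aeval (Sum.elim
    (fun i => MvPolynomial.rename Sum.inl (θ g (MvPolynomial.X i)))
    (fun j => MvPolynomial.rename Sum.inr (θ' g (MvPolynomial.X j))))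

theorem combEnd_rename_inl (g : Γ) (p : MvPolynomial σ k) :
    combEnd θ θ' g (MvPolynomial.rename Sum.inl p) = MvPolynomial.rename Sum.inl (θ g p) := by
  let a₁ : MvPolynomial σ k →ₐ[k] MvPolynomial (σ ⊕ τ) k :=
    (combEnd θ θ' g).comp (MvPolynomial.rename Sum.inl)
  let a₂ : MvPolynomial σ k →ₐ[k] MvPolynomial (σ ⊕ τ) k :=
    (MvPolynomial.rename Sum.inl).comp (θ g)
  have h : a₁ = a₂ := by
    apply MvPolynomial.algHom_ext
    intro i
    simp only [a₁, a₂, AlgHom.comp_apply, MvPolynomial.rename_X, combEnd, MvPolynomial.aeval_X,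
      Sum.elim_inl]
  exact DFunLike.congr_fun h p

theorem combEnd_rename_inr (g : Γ) (p : MvPolynomial τ k) :
    combEnd θ θ' g (MvPolynomial.rename Sum.inr p) = MvPolynomial.rename Sum.inr (θ' g p) := by
  let a₁ : MvPolynomial τ k →ₐ[k] MvPolynomial (σ ⊕ τ) k :=
    (combEnd θ θ' g).comp (MvPolynomial.rename Sum.inr)
  let a₂ : MvPolynomial τ k →ₐ[k] MvPolynomial (σ ⊕ τ) k :=
    (MvPolynomial.rename Sum.inr).comp (θ' g)
  have h : a₁ = a₂ := by
    apply MvPolynomial.algHom_ext
    intro i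
    simp only [a₁, a₂, AlgHom.comp_apply, MvPolynomial.rename_X, combEnd, MvPolynomial.aeval_X,
      Sum.elim_inr]
  exact DFunLike.congr_fun h p

theorem combEnd_X_inl (g : Γ) (i : σ) :
    combEnd θ θ' g (MvPolynomial.X (Sum.inl i)) =
      MvPolynomial.rename Sum.inl (θ g (MvPolynomial.X i)) := by
  rw [combEnd, MvPolynomial.aeval_X, Sum.elim_inl]

theorem combEnd_X_inr (g : Γ) (j : τ) :
    combEnd θ θ' g (MvPolynomial.X (Sum.inr j)) =
      MvPolynomial.rename Sum.inr (θ' g (MvPolynomial.X j)) := by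
  rw [combEnd, MvPolynomial.aeval_X, Sum.elim_inr]

/-- the combined action as a monoid hom -/
noncomputable def combHom : Γ →* (MvPolynomial (σ ⊕ τ) k →ₐ[k] MvPolynomial (σ ⊕ τ) k) where
  toFun := combEnd θ θ'
  map_one' := by
    apply MvPolynomial.algHom_ext
    rintro (i | j)
    · rw [combEnd_X_inl, map_one, AlgHom.one_apply, MvPolynomial.rename_X, AlgHom.one_apply]
    · rw [combEnd_X_inr, map_one, AlgHom.one_apply, MvPolynomial.rename_X, AlgHom.one_apply]
  map_mul' g h := by
    apply MvPolynomial.algHom_ext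
    rintro (i | j)
    · rw [AlgHom.mul_apply, combEnd_X_inl, combEnd_X_inl, combEnd_rename_inl, map_mul,
        AlgHom.mul_apply]
    · rw [AlgHom.mul_apply, combEnd_X_inr, combEnd_X_inr, combEnd_rename_inr, map_mul,
        AlgHom.mul_apply]

/-- the combined action on the rational function field -/
noncomputable def fieldHom :
    Γ →* (InvFld.Fld (σ ⊕ τ) k ≃ₐ[k] InvFld.Fld (σ ⊕ τ) k) :=
  (IsFractionRing.fieldEquivOfAlgEquivHom k (InvFld.Fld (σ ⊕ τ) k)).comp
    ((AlgEquiv.algHomUnitsEquiv k (MvPolynomial (σ ⊕ τ) k)).toMonoidHom.comp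
      (combHom θ θ').toHomUnits)

theorem fieldHom_algebraMap (g : Γ) (p : MvPolynomial (σ ⊕ τ) k) :
    fieldHom θ θ' g (algebraMap (MvPolynomial (σ ⊕ τ) k) (InvFld.Fld (σ ⊕ τ) k) p) =
      algebraMap (MvPolynomial (σ ⊕ τ) k) (InvFld.Fld (σ ⊕ τ) k) (combEnd θ θ' g p) := by
  rw [fieldHom, MonoidHom.comp_apply, IsFractionRing.fieldEquivOfAlgEquivHom_apply,
    IsFractionRing.fieldEquivOfAlgEquiv_algebraMap]
  rfl

end Combined

section Emb

variable {k : Type u} [Field k] {σ ρ : Type}

/-- the embedding of rational function fields induced by an injection of variables -/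
noncomputable def embField (f : σ → ρ) (hf : Function.Injective f) :
    InvFld.Fld σ k →ₐ[k] InvFld.Fld ρ k :=
  IsFractionRing.liftAlgHom
    (g := (IsScalarTower.toAlgHom k (MvPolynomial ρ k) (InvFld.Fld ρ k)).comp
      (MvPolynomial.rename f))
    ((IsFractionRing.injective (MvPolynomial ρ k) (InvFld.Fld ρ k)).comp
      (MvPolynomial.rename_injective f hf))

theorem embField_algebraMap (f : σ → ρ) (hf : Function.Injective f) (p : MvPolynomial σ k) :
    embField f hf (algebraMap (MvPolynomial σ k) (InvFld.Fld σ k) p) =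
      algebraMap (MvPolynomial ρ k) (InvFld.Fld ρ k) (MvPolynomial.rename f p) := by
  rw [embField, IsFractionRing.liftAlgHom_apply, IsFractionRing.lift_algebraMap]
  rfl

theorem embField_X (f : σ → ρ) (hf : Function.Injective f) (i : σ) :
    embField (k := k) f hf (InvFld.X i) = InvFld.X (f i) := by
  rw [InvFld.X, embField_algebraMap, MvPolynomial.rename_X]

/-- the variables generate the rational function field -/
theorem adjoin_X_eq_top : IntermediateField.adjoin k
    (Set.range fun i : σ => (InvFld.X i : InvFld.Fld σ k)) = ⊤ := by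
  rw [eq_top_iff]
  intro z _
  have hpoly : ∀ p : MvPolynomial σ k,
      algebraMap (MvPolynomial σ k) (InvFld.Fld σ k) p ∈ IntermediateField.adjoin k
        (Set.range fun i : σ => (InvFld.X i : InvFld.Fld σ k)) := by
    intro p
    induction p using MvPolynomial.induction_on with
    | C a =>
      rw [← MvPolynomial.algebraMap_eq, ← IsScalarTower.algebraMap_apply]
      exact IntermediateField.algebraMap_mem _ a
    | add p q hp hq => rw [map_add]; exact add_mem hp hq
    | mul_X p i hp =>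
      rw [map_mul]
      exact mul_mem hp (IntermediateField.subset_adjoin _ _ ⟨i, rfl⟩)
  obtain ⟨a, b, -, rfl⟩ := IsFractionRing.div_surjective (A := MvPolynomial σ k) z
  exact div_mem (hpoly a) (hpoly b)

theorem fieldRange_embField (f : σ → ρ) (hf : Function.Injective f) :
    (embField (k := k) f hf).fieldRange = IntermediateField.adjoin k
      (Set.range fun i : σ => (InvFld.X (f i) : InvFld.Fld ρ k)) := by
  rw [AlgHom.fieldRange_eq_map, ← adjoin_X_eq_top, IntermediateField.adjoin_map]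
  congr 1
  ext z
  constructor
  · rintro ⟨_, ⟨i, rfl⟩, rfl⟩; exact ⟨i, (embField_X f hf i).symm⟩
  · rintro ⟨i, rfl⟩; exact ⟨_, ⟨i, rfl⟩, embField_X f hf i⟩

/-- an automorphism of `k(x)` is determined by the images of the variables -/
theorem algEquiv_ext_X {g h : InvFld.Fld σ k ≃ₐ[k] InvFld.Fld σ k}
    (hgh : ∀ i, g (InvFld.X i) = h (InvFld.X i)) : g = h := by
  have h1 : (g : InvFld.Fld σ k →ₐ[k] InvFld.Fld σ k).comp
      (IsScalarTower.toAlgHom k (MvPolynomial σ k) (InvFld.Fld σ k)) =
      (h : InvFld.Fld σ k →ₐ[k] InvFld.Fld σ k).comp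
      (IsScalarTower.toAlgHom k (MvPolynomial σ k) (InvFld.Fld σ k)) := by
    apply MvPolynomial.algHom_ext
    intro i
    exact hgh i
  ext z
  obtain ⟨a, b, -, rfl⟩ := IsFractionRing.div_surjective (A := MvPolynomial σ k) z
  rw [map_div₀, map_div₀]
  have ha : g (algebraMap (MvPolynomial σ k) (InvFld.Fld σ k) a) =
      h (algebraMap (MvPolynomial σ k) (InvFld.Fld σ k) a) := DFunLike.congr_fun h1 a
  have hb : g (algebraMap (MvPolynomial σ k) (InvFld.Fld σ k) b) =
      h (algebraMap (MvPolynomial σ k) (InvFld.Fld σ k) b) := DFunLike.congr_fun h1 b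
  rw [ha, hb]

end Emb

section Compat

variable {k : Type u} [Field k] {σ τ : Type} {Γ : Type*} [Group Γ]
  (θ : Γ →* (MvPolynomial σ k →ₐ[k] MvPolynomial σ k))
  (θ' : Γ →* (MvPolynomial τ k →ₐ[k] MvPolynomial τ k))

theorem fieldHom_embField_inl (g : Γ) (g' : InvFld.Fld σ k ≃ₐ[k] InvFld.Fld σ k)
    (hg' : ∀ p, algebraMap (MvPolynomial σ k) (InvFld.Fld σ k) (θ g p) =
      g' (algebraMap (MvPolynomial σ k) (InvFld.Fld σ k) p)) (z : InvFld.Fld σ k) :
    fieldHom θ θ' g (embField Sum.inl Sum.inl_injective z) =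
      embField Sum.inl Sum.inl_injective (g' z) := by
  obtain ⟨a, b, -, rfl⟩ := IsFractionRing.div_surjective (A := MvPolynomial σ k) z
  rw [map_div₀, map_div₀, map_div₀, map_div₀, embField_algebraMap, embField_algebraMap,
    fieldHom_algebraMap, fieldHom_algebraMap, combEnd_rename_inl, combEnd_rename_inl,
    ← hg', ← hg', embField_algebraMap, embField_algebraMap]

theorem fieldHom_embField_inr (g : Γ) (g' : InvFld.Fld τ k ≃ₐ[k] InvFld.Fld τ k)
    (hg' : ∀ p, algebraMap (MvPolynomial τ k) (InvFld.Fld τ k) (θ' g p) =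
      g' (algebraMap (MvPolynomial τ k) (InvFld.Fld τ k) p)) (z : InvFld.Fld τ k) :
    fieldHom θ θ' g (embField Sum.inr Sum.inr_injective z) =
      embField Sum.inr Sum.inr_injective (g' z) := by
  obtain ⟨a, b, -, rfl⟩ := IsFractionRing.div_surjective (A := MvPolynomial τ k) z
  rw [map_div₀, map_div₀, map_div₀, map_div₀, embField_algebraMap, embField_algebraMap,
    fieldHom_algebraMap, fieldHom_algebraMap, combEnd_rename_inr, combEnd_rename_inr,
    ← hg', ← hg', embField_algebraMap, embField_algebraMap]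

end Compat

end Groth.Agent.Lib.T2H8.NoName
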