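import Mathlib
import Groth.Agent.Lib.T2H8NoNameD
set_option autoImplicit false

namespace Groth.Agent.Lib.T2H8.NoName

universe u v

section PT

variable {k : Type u} [Field k] {L : Type v} [Field L] [Algebra k L]

/-- a purely transcendental extension generated over (a copy of) `F` inside `L` is isomorphic to
the rational function field over `F` -/
theorem nonempty_algEquiv_of_algebraicIndependent {F : Type v} [Field F] [Algebra k F]
    (j : F →ₐ[k] L) (F₁ : IntermediateField k L) (hF₁ : F₁ = j.fieldRange) {r : ℕ}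
    (t : Fin r → L) (htind : AlgebraicIndependent ↥F₁ t) (E : IntermediateField k L)
    (hE : IntermediateField.restrictScalars k (IntermediateField.adjoin ↥F₁ (Set.range t)) = E) :
    Nonempty (InvFld.Fld (Fin r) F ≃ₐ[k] ↥E) := by
  subst hF₁
  -- `j` corestricted to its range
  let j' : F →+* ↥j.fieldRange :=
    { toFun := fun z => ⟨j z, ⟨z, rfl⟩⟩
      map_one' := Subtype.ext (map_one j)
      map_mul' := fun a b => Subtype.ext (map_mul j a b)
      map_zero' := Subtype.ext (map_zero j)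
      map_add' := fun a b => Subtype.ext (map_add j a b) }
  have hj'inj : Function.Injective j' := j'.injective
  have hj'surj : Function.Surjective j' := by
    rintro ⟨_, ⟨z, rfl⟩⟩
    exact ⟨z, rfl⟩
  have hcomp : (algebraMap ↥j.fieldRange L).comp j' = (j : F →+* L) := by
    ext z; rfl
  -- the evaluation map
  let ψ₀ : MvPolynomial (Fin r) F →ₐ[k] L :=
    { MvPolynomial.eval₂Hom (j : F →+* L) t with
      commutes' := fun c => by
        show MvPolynomial.eval₂ (j : F →+* L) t (algebraMap k (MvPolynomial (Fin r) F) c) = _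
        rw [MvPolynomial.algebraMap_apply, MvPolynomial.eval₂_C]
        exact j.commutes c }
  have hψ₀ : ∀ p : MvPolynomial (Fin r) F,
      ψ₀ p = MvPolynomial.aeval t (MvPolynomial.map j' p) := by
    intro p
    rw [MvPolynomial.aeval_def, MvPolynomial.eval₂_map, hcomp]
    rfl
  have hψ₀inj : Function.Injective ψ₀ := by
    rw [injective_iff_map_eq_zero]
    intro p hp
    rw [hψ₀] at hp
    have h2 : MvPolynomial.map j' p = 0 := (algebraicIndependent_iff.mp htind) _ hp
    exact MvPolynomial.map_injective j' hj'inj (h2.trans (map_zero _).symm)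
  let ψ : InvFld.Fld (Fin r) F →ₐ[k] L := IsFractionRing.liftAlgHom (g := ψ₀) hψ₀inj
  have hψ : ∀ p : MvPolynomial (Fin r) F,
      ψ (algebraMap (MvPolynomial (Fin r) F) (InvFld.Fld (Fin r) F) p) = ψ₀ p := by
    intro p
    rw [IsFractionRing.liftAlgHom_apply, IsFractionRing.lift_algebraMap]
    rfl
  have hrange : ψ.fieldRange = E := by
    rw [← hE]
    ext z
    rw [IntermediateField.mem_restrictScalars, IntermediateField.mem_adjoin_range_iff,
      AlgHom.mem_fieldRange]
    constructor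
    · rintro ⟨w, rfl⟩
      obtain ⟨a, b, -, rfl⟩ := IsFractionRing.div_surjective (A := MvPolynomial (Fin r) F) w
      refine ⟨MvPolynomial.map j' a, MvPolynomial.map j' b, ?_⟩
      rw [map_div₀, hψ, hψ, hψ₀, hψ₀]
    · rintro ⟨p, q, rfl⟩
      obtain ⟨a, rfl⟩ := MvPolynomial.map_surjective j' hj'surj p
      obtain ⟨b, rfl⟩ := MvPolynomial.map_surjective j' hj'surj q
      refine ⟨algebraMap _ _ a / algebraMap _ _ b, ?_⟩
      rw [map_div₀, hψ, hψ, hψ₀, hψ₀]
  exact ⟨(AlgEquiv.ofInjectiveField ψ).trans (IntermediateField.equivOfEq hrange)⟩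

end PT

section Sym

open scoped IntermediateField.algebraAdjoinAdjoin

variable (k : Type u) [Field k] (n m : ℕ)

/-- the `x`-variables are algebraically independent over `k(y)` -/
theorem algebraicIndependent_inl :
    AlgebraicIndependent
      ↥(IntermediateField.adjoin k (Set.range fun j : Fin m =>
        (InvFld.X (Sum.inr j) : InvFld.Fld (Fin n ⊕ Fin m) k)))
      (fun j : Fin n => (InvFld.X (Sum.inl j) : InvFld.Fld (Fin n ⊕ Fin m) k)) := by
  have h := algebraicIndependent_X k (Fin n ⊕ Fin m)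
  have h' : AlgebraicIndependent k
      (Sum.elim (fun j : Fin n => (InvFld.X (Sum.inl j) : InvFld.Fld (Fin n ⊕ Fin m) k))
        (fun j : Fin m => (InvFld.X (Sum.inr j) : InvFld.Fld (Fin n ⊕ Fin m) k))) := by
    convert h using 1
    ext (j | j) <;> rfl
  have h2 := (AlgebraicIndependent.sumElim_iff.mp h').2
  exact h2.extendScalars _

/-- `k(y)(x) = k(x, y)` -/
theorem adjoin_inl_eq_top :
    IntermediateField.adjoin
      ↥(IntermediateField.adjoin k (Set.range fun j : Fin m =>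
        (InvFld.X (Sum.inr j) : InvFld.Fld (Fin n ⊕ Fin m) k)))
      (Set.range fun j : Fin n => (InvFld.X (Sum.inl j) : InvFld.Fld (Fin n ⊕ Fin m) k)) = ⊤ := by
  set L₀ := IntermediateField.adjoin k (Set.range fun j : Fin m =>
        (InvFld.X (Sum.inr j) : InvFld.Fld (Fin n ⊕ Fin m) k)) with hL₀
  set E := IntermediateField.adjoin ↥L₀
      (Set.range fun j : Fin n => (InvFld.X (Sum.inl j) : InvFld.Fld (Fin n ⊕ Fin m) k)) with hE
  rw [eq_top_iff]
  intro z _
  have hpoly : ∀ p : MvPolynomial (Fin n ⊕ Fin m) k,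
      algebraMap (MvPolynomial (Fin n ⊕ Fin m) k) (InvFld.Fld (Fin n ⊕ Fin m) k) p ∈ E := by
    intro p
    induction p using MvPolynomial.induction_on with
    | C a =>
      have : algebraMap (MvPolynomial (Fin n ⊕ Fin m) k) (InvFld.Fld (Fin n ⊕ Fin m) k)
          (MvPolynomial.C a) = algebraMap ↥L₀ (InvFld.Fld (Fin n ⊕ Fin m) k) (algebraMap k ↥L₀ a) := by
        rw [← IsScalarTower.algebraMap_apply, ← MvPolynomial.algebraMap_eq,
          ← IsScalarTower.algebraMap_apply]
      rw [this]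
      exact E.algebraMap_mem _
    | add p q hp hq => rw [map_add]; exact add_mem hp hq
    | mul_X p i hp =>
      rw [map_mul]
      refine mul_mem hp ?_
      rcases i with i | i
      · exact IntermediateField.subset_adjoin _ _ ⟨i, rfl⟩
      · have hmem : (InvFld.X (Sum.inr i) : InvFld.Fld (Fin n ⊕ Fin m) k) ∈ L₀ :=
          IntermediateField.subset_adjoin _ _ ⟨i, rfl⟩
        exact E.algebraMap_mem ⟨_, hmem⟩
  obtain ⟨a, b, -, rfl⟩ := IsFractionRing.div_surjective (A := MvPolynomial (Fin n ⊕ Fin m) k) z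
  exact div_mem (hpoly a) (hpoly b)

end Sym

section SymMain

variable (k : Type u) [Field k] (n m : ℕ)

/-- the no-name lemma with the roles of the two groups of variables exchanged -/
theorem main_sym
    (G : Subgroup (InvFld.Fld (Fin n ⊕ Fin m) k ≃ₐ[k] InvFld.Fld (Fin n ⊕ Fin m) k)) [Finite G]
    (hx : ∀ σ ∈ G, ∀ i : Fin n, σ (InvFld.X (Sum.inl i)) ∈ Submodule.span k (Set.range fun j : Fin n => (InvFld.X (Sum.inl j) : InvFld.Fld (Fin n ⊕ Fin m) k)))
    (hy : ∀ σ ∈ G, ∀ i : Fin m, σ (InvFld.X (Sum.inr i)) ∈ Submodule.span k (Set.range fun j : Fin m => (InvFld.X (Sum.inr j) : InvFld.Fld (Fin n ⊕ Fin m) k)))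
    (hfaith : ∀ σ ∈ G, (∀ i : Fin m, σ (InvFld.X (Sum.inr i)) = InvFld.X (Sum.inr i)) → σ = 1) :
    ∃ t : Fin n → InvFld.Fld (Fin n ⊕ Fin m) k,
      AlgebraicIndependent (↥(IntermediateField.adjoin k (Set.range fun j : Fin m => (InvFld.X (Sum.inr j) : InvFld.Fld (Fin n ⊕ Fin m) k)) ⊓ IntermediateField.fixedField G)) t ∧
      IntermediateField.restrictScalars k (IntermediateField.adjoin (↥(IntermediateField.adjoin k (Set.range fun j : Fin m => (InvFld.X (Sum.inr j) : InvFld.Fld (Fin n ⊕ Fin m) k)) ⊓ IntermediateField.fixedField G)) (Set.range t)) =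
        IntermediateField.fixedField G := by
  set L₀ := IntermediateField.adjoin k (Set.range fun j : Fin m =>
        (InvFld.X (Sum.inr j) : InvFld.Fld (Fin n ⊕ Fin m) k)) with hL₀
  have hymem : ∀ i : Fin m, (InvFld.X (Sum.inr i) : InvFld.Fld (Fin n ⊕ Fin m) k) ∈ L₀ :=
    fun i => IntermediateField.subset_adjoin _ _ ⟨i, rfl⟩
  have hstab : ∀ σ ∈ G, ∀ a ∈ L₀, σ a ∈ L₀ := by
    intro σ hσ
    have hle : L₀ ≤ L₀.comap (σ : InvFld.Fld (Fin n ⊕ Fin m) k →ₐ[k] InvFld.Fld (Fin n ⊕ Fin m) k) := by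
      rw [hL₀, IntermediateField.adjoin_le_iff]
      rintro _ ⟨i, rfl⟩
      show σ (InvFld.X (Sum.inr i)) ∈ L₀
      have h1 := hy σ hσ i
      have h2 : Submodule.span k (Set.range fun j : Fin m =>
          (InvFld.X (Sum.inr j) : InvFld.Fld (Fin n ⊕ Fin m) k)) ≤ L₀.toSubalgebra.toSubmodule :=
        Submodule.span_le.mpr (by rintro _ ⟨j, rfl⟩; exact hymem j)
      exact h2 h1
    intro a ha
    exact hle ha
  have hfaith' : ∀ σ ∈ G, (∀ a ∈ L₀, σ a = a) → σ = 1 :=
    fun σ hσ h => hfaith σ hσ fun i => h _ (hymem i)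
  have hx' : ∀ σ ∈ G, ∀ j : Fin n, σ (InvFld.X (Sum.inl j)) ∈ Submodule.span L₀
      (Set.range fun j : Fin n => (InvFld.X (Sum.inl j) : InvFld.Fld (Fin n ⊕ Fin m) k)) := by
    intro σ hσ j
    exact Submodule.span_le_restrictScalars k L₀ _ (hx σ hσ j)
  exact noname_abstract G L₀ hstab hfaith' _ hx' (algebraicIndependent_inl k n m)
    (adjoin_inl_eq_top k n m)

end SymMain

section Main

variable (k : Type u) [Field k] (n m : ℕ)

theorem embField_mem_span {σ ρ : Type} (f : σ → ρ) (hf : Function.Injective f)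
    (z : InvFld.Fld σ k)
    (hz : z ∈ Submodule.span k (Set.range fun j : σ => (InvFld.X j : InvFld.Fld σ k))) :
    embField (k := k) f hf z ∈
      Submodule.span k (Set.range fun j : σ => (InvFld.X (f j) : InvFld.Fld ρ k)) := by
  have h1 : embField (k := k) f hf z ∈ Submodule.map (embField (k := k) f hf).toLinearMap
      (Submodule.span k (Set.range fun j : σ => (InvFld.X j : InvFld.Fld σ k))) :=
    Submodule.mem_map_of_mem hz
  rw [Submodule.map_span] at h1
  refine Submodule.span_mono ?_ h1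
  rintro _ ⟨_, ⟨j, rfl⟩, rfl⟩
  exact ⟨j, (embField_X f hf j).symm⟩

/-- S15696: fields of invariants of two faithful linear representations are stably equivalent -/
theorem main_S15696 [CharZero k]
    (G : Subgroup (InvFld.Fld (Fin n) k ≃ₐ[k] InvFld.Fld (Fin n) k)) [Finite G]
    (H : Subgroup (InvFld.Fld (Fin m) k ≃ₐ[k] InvFld.Fld (Fin m) k)) [Finite H] (e : G ≃* H)
    (hG : ∀ σ ∈ G, ∀ i : Fin n, σ (InvFld.X i) ∈ Submodule.span k (Set.range fun j : Fin n => (InvFld.X j : InvFld.Fld (Fin n) k)))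
    (hH : ∀ τ ∈ H, ∀ i : Fin m, τ (InvFld.X i) ∈ Submodule.span k (Set.range fun j : Fin m => (InvFld.X j : InvFld.Fld (Fin m) k))) :
    ∃ r s : ℕ, Nonempty (InvFld.Fld (Fin r) (IntermediateField.fixedField G) ≃ₐ[k]
      InvFld.Fld (Fin s) (IntermediateField.fixedField H)) := by
  let θ := polyHom G hG
  let θ' := (polyHom H hH).comp e.toMonoidHom
  let Φ := fieldHom θ θ'
  let Γ' : Subgroup (InvFld.Fld (Fin n ⊕ Fin m) k ≃ₐ[k] InvFld.Fld (Fin n ⊕ Fin m) k) := Φ.range
  haveI : Finite Γ' := Finite.of_surjective Φ.rangeRestrict Φ.rangeRestrict_surjective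
  let ι₁ : InvFld.Fld (Fin n) k →ₐ[k] InvFld.Fld (Fin n ⊕ Fin m) k :=
    embField (Sum.inl : Fin n → Fin n ⊕ Fin m) Sum.inl_injective
  let ι₂ : InvFld.Fld (Fin m) k →ₐ[k] InvFld.Fld (Fin n ⊕ Fin m) k :=
    embField (Sum.inr : Fin m → Fin n ⊕ Fin m) Sum.inr_injective
  have hΦ1 : ∀ (g : G) z, Φ g (ι₁ z) = ι₁ ((g : InvFld.Fld (Fin n) k ≃ₐ[k] InvFld.Fld (Fin n) k) z) :=
    fun g z => fieldHom_embField_inl θ θ' g g (algebraMap_polyHom G hG g) z
  have hΦ2 : ∀ (g : G) z, Φ g (ι₂ z) =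
      ι₂ (((e g : H) : InvFld.Fld (Fin m) k ≃ₐ[k] InvFld.Fld (Fin m) k) z) :=
    fun g z => fieldHom_embField_inr θ θ' g (e g)
      (fun p => algebraMap_polyHom H hH (e g) p) z
  have hX1 : ∀ i : Fin n, (InvFld.X (Sum.inl i) : InvFld.Fld (Fin n ⊕ Fin m) k) = ι₁ (InvFld.X i) :=
    fun i => (embField_X _ _ i).symm
  have hX2 : ∀ i : Fin m, (InvFld.X (Sum.inr i) : InvFld.Fld (Fin n ⊕ Fin m) k) = ι₂ (InvFld.X i) :=
    fun i => (embField_X _ _ i).symm
  have hx : ∀ σ ∈ Γ', ∀ i : Fin n, σ (InvFld.X (Sum.inl i)) ∈ Submodule.span k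
      (Set.range fun j : Fin n => (InvFld.X (Sum.inl j) : InvFld.Fld (Fin n ⊕ Fin m) k)) := by
    rintro _ ⟨g, rfl⟩ i
    rw [hX1, hΦ1]
    exact embField_mem_span k _ _ _ (hG g g.2 i)
  have hy : ∀ σ ∈ Γ', ∀ i : Fin m, σ (InvFld.X (Sum.inr i)) ∈ Submodule.span k
      (Set.range fun j : Fin m => (InvFld.X (Sum.inr j) : InvFld.Fld (Fin n ⊕ Fin m) k)) := by
    rintro _ ⟨g, rfl⟩ i
    rw [hX2, hΦ2]
    exact embField_mem_span k _ _ _ (hH (e g) (e g).2 i)
  have hfx : ∀ σ ∈ Γ', (∀ i : Fin n, σ (InvFld.X (Sum.inl i)) = InvFld.X (Sum.inl i)) → σ = 1 := by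
    rintro _ ⟨g, rfl⟩ h
    have hg1 : (g : InvFld.Fld (Fin n) k ≃ₐ[k] InvFld.Fld (Fin n) k) = 1 := by
      apply algEquiv_ext_X
      intro i
      have := h i
      rw [hX1, hΦ1] at this
      exact ι₁.injective this
    have : g = 1 := Subtype.ext hg1
    rw [this, map_one]
  have hfy : ∀ σ ∈ Γ', (∀ i : Fin m, σ (InvFld.X (Sum.inr i)) = InvFld.X (Sum.inr i)) → σ = 1 := by
    rintro _ ⟨g, rfl⟩ h
    have hg1 : ((e g : H) : InvFld.Fld (Fin m) k ≃ₐ[k] InvFld.Fld (Fin m) k) = 1 := by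
      apply algEquiv_ext_X
      intro i
      have := h i
      rw [hX2, hΦ2] at this
      exact ι₂.injective this
    have h2 : e g = 1 := Subtype.ext hg1
    have : g = 1 := (EmbeddingLike.map_eq_one_iff (f := e)).mp h2
    rw [this, map_one]
  obtain ⟨t, htind, htgen⟩ := main_S15697 k n m Γ' hx hy hfx
  obtain ⟨t', ht'ind, ht'gen⟩ := main_sym k n m Γ' hx hy hfy
  let j₁ : ↥(IntermediateField.fixedField G) →ₐ[k] InvFld.Fld (Fin n ⊕ Fin m) k :=
    ι₁.comp (IntermediateField.fixedField G).val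
  let j₂ : ↥(IntermediateField.fixedField H) →ₐ[k] InvFld.Fld (Fin n ⊕ Fin m) k :=
    ι₂.comp (IntermediateField.fixedField H).val
  have hF₁ : IntermediateField.adjoin k (Set.range fun j : Fin n =>
      (InvFld.X (Sum.inl j) : InvFld.Fld (Fin n ⊕ Fin m) k)) ⊓ IntermediateField.fixedField Γ' =
      j₁.fieldRange := by
    ext z
    constructor
    · rintro ⟨hz1, hz2⟩
      have hz1' : z ∈ ι₁.fieldRange := by
        rw [fieldRange_embField]; exact hz1
      obtain ⟨a, rfl⟩ := AlgHom.mem_fieldRange.mp hz1'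
      have ha : a ∈ IntermediateField.fixedField G := by
        rw [IntermediateField.mem_fixedField_iff]
        intro g hg
        have := (IntermediateField.mem_fixedField_iff _ _).mp hz2 (Φ ⟨g, hg⟩) ⟨⟨g, hg⟩, rfl⟩
        rw [hΦ1] at this
        exact ι₁.injective this
      exact ⟨⟨a, ha⟩, rfl⟩
    · rintro ⟨⟨a, ha⟩, rfl⟩
      refine ⟨?_, ?_⟩
      · have : ι₁ a ∈ ι₁.fieldRange := ⟨a, rfl⟩
        rw [fieldRange_embField] at this
        exact this
      · show j₁ ⟨a, ha⟩ ∈ IntermediateField.fixedField Γ'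
        rw [IntermediateField.mem_fixedField_iff]
        rintro _ ⟨g, rfl⟩
        show Φ g (ι₁ a) = ι₁ a
        rw [hΦ1, (IntermediateField.mem_fixedField_iff _ _).mp ha g g.2]
  have hF₂ : IntermediateField.adjoin k (Set.range fun j : Fin m =>
      (InvFld.X (Sum.inr j) : InvFld.Fld (Fin n ⊕ Fin m) k)) ⊓ IntermediateField.fixedField Γ' =
      j₂.fieldRange := by
    ext z
    constructor
    · rintro ⟨hz1, hz2⟩
      have hz1' : z ∈ ι₂.fieldRange := by
        rw [fieldRange_embField]; exact hz1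
      obtain ⟨a, rfl⟩ := AlgHom.mem_fieldRange.mp hz1'
      have ha : a ∈ IntermediateField.fixedField H := by
        rw [IntermediateField.mem_fixedField_iff]
        intro h hh
        obtain ⟨g, hg⟩ := e.surjective ⟨h, hh⟩
        have := (IntermediateField.mem_fixedField_iff _ _).mp hz2 (Φ g) ⟨g, rfl⟩
        rw [hΦ2, hg] at this
        exact ι₂.injective this
      exact ⟨⟨a, ha⟩, rfl⟩
    · rintro ⟨⟨a, ha⟩, rfl⟩
      refine ⟨?_, ?_⟩
      · have : ι₂ a ∈ ι₂.fieldRange := ⟨a, rfl⟩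
        rw [fieldRange_embField] at this
        exact this
      · show j₂ ⟨a, ha⟩ ∈ IntermediateField.fixedField Γ'
        rw [IntermediateField.mem_fixedField_iff]
        rintro _ ⟨g, rfl⟩
        show Φ g (ι₂ a) = ι₂ a
        rw [hΦ2, (IntermediateField.mem_fixedField_iff _ _).mp ha (e g) (e g).2]
  obtain ⟨E₁⟩ := nonempty_algEquiv_of_algebraicIndependent j₁ _ hF₁ t htind
    (IntermediateField.fixedField Γ') htgen
  obtain ⟨E₂⟩ := nonempty_algEquiv_of_algebraicIndependent j₂ _ hF₂ t' ht'ind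
    (IntermediateField.fixedField Γ') ht'gen
  exact ⟨m, n, ⟨E₁.trans E₂.symm⟩⟩

end Main

end Groth.Agent.Lib.T2H8.NoName
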