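import Mathlib
import Groth.Agent.Lib.T2H8NoNameE
set_option autoImplicit false

namespace Groth.Agent.Lib.T2H8.NoName

universe u

section Perm

variable (k : Type u) [Field k] (σ : Type)

/-- permutations of the variables acting on the polynomial ring -/
noncomputable def permPoly : Equiv.Perm σ →* (MvPolynomial σ k ≃ₐ[k] MvPolynomial σ k) where
  toFun π := MvPolynomial.renameEquiv k π
  map_one' := by
    ext p
    simp [MvPolynomial.renameEquiv]
  map_mul' π₁ π₂ := by
    ext p
    simp [MvPolynomial.renameEquiv, MvPolynomial.rename_rename]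

/-- permutations of the variables acting on the rational function field -/
noncomputable def permField : Equiv.Perm σ →* (InvFld.Fld σ k ≃ₐ[k] InvFld.Fld σ k) :=
  (IsFractionRing.fieldEquivOfAlgEquivHom k (InvFld.Fld σ k)).comp (permPoly k σ)

variable {k σ}

theorem permField_algebraMap (π : Equiv.Perm σ) (p : MvPolynomial σ k) :
    permField k σ π (algebraMap (MvPolynomial σ k) (InvFld.Fld σ k) p) =
      algebraMap (MvPolynomial σ k) (InvFld.Fld σ k) (MvPolynomial.rename π p) := by
  rw [permField, MonoidHom.comp_apply, IsFractionRing.fieldEquivOfAlgEquivHom_apply,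
    IsFractionRing.fieldEquivOfAlgEquiv_algebraMap]
  rfl

theorem permField_X (π : Equiv.Perm σ) (i : σ) :
    permField k σ π (InvFld.X i) = InvFld.X (π i) := by
  rw [InvFld.X, permField_algebraMap, MvPolynomial.rename_X]

theorem X_injective : Function.Injective (fun i : σ => (InvFld.X i : InvFld.Fld σ k)) := by
  intro i j hij
  have := IsFractionRing.injective (MvPolynomial σ k) (InvFld.Fld σ k) hij
  exact MvPolynomial.X_injective this

theorem permField_injective : Function.Injective (permField k σ) := by
  rw [injective_iff_map_eq_one]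
  intro π hπ
  ext i
  have h1 := permField_X (k := k) π i
  rw [hπ] at h1
  exact (X_injective h1).symm

end Perm

section Symm

variable (k : Type u) [Field k] (n : ℕ)

/-- the elementary symmetric polynomials in the rational function field -/
noncomputable def eps (i : Fin n) : InvFld.Fld (Fin n) k :=
  algebraMap (MvPolynomial (Fin n) k) (InvFld.Fld (Fin n) k) (MvPolynomial.esymm (Fin n) k (i + 1))

theorem aeval_eps (p : MvPolynomial (Fin n) k) :
    MvPolynomial.aeval (eps k n) p =
      algebraMap (MvPolynomial (Fin n) k) (InvFld.Fld (Fin n) k)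
        ((MvPolynomial.esymmAlgHom (Fin n) k n p : MvPolynomial (Fin n) k)) := by
  rw [MvPolynomial.esymmAlgHom_apply]
  have h : (IsScalarTower.toAlgHom k (MvPolynomial (Fin n) k) (InvFld.Fld (Fin n) k)).comp
      (MvPolynomial.aeval fun i : Fin n => MvPolynomial.esymm (Fin n) k (i + 1)) =
      MvPolynomial.aeval (eps k n) := by
    apply MvPolynomial.algHom_ext
    intro i
    simp only [AlgHom.comp_apply, MvPolynomial.aeval_X, IsScalarTower.coe_toAlgHom']
    rfl
  rw [← h]
  rfl

theorem algebraicIndependent_eps : AlgebraicIndependent k (eps k n) := by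
  rw [algebraicIndependent_iff_injective_aeval]
  intro p q hpq
  rw [aeval_eps, aeval_eps] at hpq
  have h1 := IsFractionRing.injective (MvPolynomial (Fin n) k) (InvFld.Fld (Fin n) k) hpq
  exact MvPolynomial.esymmAlgHom_fin_injective k le_rfl (Subtype.ext h1)

/-- the fixed field of the symmetric group is generated by the elementary symmetric polynomials -/
theorem fixedField_perm_eq :
    IntermediateField.fixedField (permField k (Fin n)).range =
      IntermediateField.adjoin k (Set.range (eps k n)) := by
  classical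
  apply le_antisymm
  · intro z hz
    rw [IntermediateField.mem_fixedField_iff] at hz
    have hz' : ∀ π : Equiv.Perm (Fin n), permField k (Fin n) π z = z := fun π => hz _ ⟨π, rfl⟩
    obtain ⟨a, b, hb, rfl⟩ := IsFractionRing.div_surjective (A := MvPolynomial (Fin n) k) z
    have hb0 : b ≠ 0 := nonZeroDivisors.ne_zero hb
    set R : MvPolynomial (Fin n) k :=
      ∏ π ∈ Finset.univ.erase (1 : Equiv.Perm (Fin n)), MvPolynomial.rename π b with hR
    set B : MvPolynomial (Fin n) k :=
      ∏ π : Equiv.Perm (Fin n), MvPolynomial.rename π b with hB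
    have hBR : B = b * R := by
      rw [hB, hR, ← Finset.mul_prod_erase Finset.univ _ (Finset.mem_univ (1 : Equiv.Perm (Fin n)))]
      congr 1
      simp
    have hB0 : B ≠ 0 := by
      rw [hB]
      refine Finset.prod_ne_zero_iff.mpr fun π _ => ?_
      exact (map_ne_zero_iff _ (MvPolynomial.rename_injective _ π.injective)).mpr hb0
    have hR0 : R ≠ 0 := fun h => hB0 (by rw [hBR, h, mul_zero])
    have hinj := IsFractionRing.injective (MvPolynomial (Fin n) k) (InvFld.Fld (Fin n) k)
    have halg0 : ∀ p : MvPolynomial (Fin n) k, p ≠ 0 →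
        algebraMap (MvPolynomial (Fin n) k) (InvFld.Fld (Fin n) k) p ≠ 0 :=
      fun p hp => (map_ne_zero_iff _ hinj).mpr hp
    have hzAB : algebraMap (MvPolynomial (Fin n) k) (InvFld.Fld (Fin n) k) a /
        algebraMap (MvPolynomial (Fin n) k) (InvFld.Fld (Fin n) k) b =
        algebraMap (MvPolynomial (Fin n) k) (InvFld.Fld (Fin n) k) (a * R) /
        algebraMap (MvPolynomial (Fin n) k) (InvFld.Fld (Fin n) k) B := by
      rw [hBR, map_mul, map_mul, mul_div_mul_right _ _ (halg0 R hR0)]
    have hBsymm : B.IsSymmetric := by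
      intro π
      rw [hB, map_prod]
      simp only [MvPolynomial.rename_rename]
      exact Fintype.prod_equiv (Equiv.mulLeft π) _ _ (fun ρ => rfl)
    have hAval : algebraMap (MvPolynomial (Fin n) k) (InvFld.Fld (Fin n) k) (a * R) =
        (algebraMap (MvPolynomial (Fin n) k) (InvFld.Fld (Fin n) k) a /
        algebraMap (MvPolynomial (Fin n) k) (InvFld.Fld (Fin n) k) b) *
        algebraMap (MvPolynomial (Fin n) k) (InvFld.Fld (Fin n) k) B := by
      rw [hzAB, div_mul_cancel₀ _ (halg0 B hB0)]
    have hAsymm : (a * R).IsSymmetric := by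
      intro π
      apply hinj
      rw [← permField_algebraMap, hAval, map_mul, hz' π, permField_algebraMap, hBsymm π]
    obtain ⟨p, hp⟩ := MvPolynomial.esymmAlgHom_fin_surjective k (le_refl n)
      (⟨a * R, hAsymm⟩ : MvPolynomial.symmetricSubalgebra (Fin n) k)
    obtain ⟨q, hq⟩ := MvPolynomial.esymmAlgHom_fin_surjective k (le_refl n)
      (⟨B, hBsymm⟩ : MvPolynomial.symmetricSubalgebra (Fin n) k)
    rw [hzAB, IntermediateField.mem_adjoin_range_iff]
    refine ⟨p, q, ?_⟩
    rw [aeval_eps, aeval_eps, hp, hq]
  · rw [IntermediateField.adjoin_le_iff]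
    rintro _ ⟨i, rfl⟩
    rw [SetLike.mem_coe, IntermediateField.mem_fixedField_iff]
    rintro _ ⟨π, rfl⟩
    rw [eps, permField_algebraMap, MvPolynomial.rename_esymm]

end Symm

section PT2

variable (k : Type u) [Field k]

/-- a rational function field over a purely transcendental extension is purely transcendental -/
theorem exists_algebraicIndependent_adjoin_eq_top_Fld {F : Type u} [Field F] [Algebra k F]
    {a : ℕ} (v : Fin a → F) (hv : AlgebraicIndependent k v)
    (hgen : IntermediateField.adjoin k (Set.range v) = ⊤) (s : ℕ) :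
    ∃ (N : ℕ) (t : Fin N → InvFld.Fld (Fin s) F),
      AlgebraicIndependent k t ∧ IntermediateField.adjoin k (Set.range t) = ⊤ := by
  set K := InvFld.Fld (Fin s) F
  let w : Fin s ⊕ Fin a → K :=
    Sum.elim (fun j : Fin s => (InvFld.X j : K)) (algebraMap F K ∘ v)
  have hw : AlgebraicIndependent k w :=
    AlgebraicIndependent.sumElim_comp hv (algebraicIndependent_X F (Fin s))
  have hwgen : IntermediateField.adjoin k (Set.range w) = ⊤ := by
    set E := IntermediateField.adjoin k (Set.range w) with hE
    have hF : ∀ z : F, algebraMap F K z ∈ E := by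
      intro z
      have hz : z ∈ IntermediateField.adjoin k (Set.range v) := by rw [hgen]; trivial
      obtain ⟨p, q, rfl⟩ := (IntermediateField.mem_adjoin_range_iff k v z).mp hz
      have hp : ∀ p : MvPolynomial (Fin a) k, algebraMap F K (MvPolynomial.aeval v p) ∈ E := by
        intro p
        have h1 : algebraMap F K (MvPolynomial.aeval v p) =
            MvPolynomial.aeval (algebraMap F K ∘ v) p := by
          exact MvPolynomial.comp_aeval_apply (R := k) v (IsScalarTower.toAlgHom k F K) p
        rw [h1, MvPolynomial.aeval_def, MvPolynomial.eval₂_eq]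
        refine sum_mem fun d _ => mul_mem (IntermediateField.algebraMap_mem _ _)
          (prod_mem fun i _ => pow_mem ?_ _)
        exact IntermediateField.subset_adjoin _ _ ⟨Sum.inr i, rfl⟩
      rw [map_div₀]
      exact div_mem (hp p) (hp q)
    rw [eq_top_iff]
    intro z _
    have hpoly : ∀ p : MvPolynomial (Fin s) F,
        algebraMap (MvPolynomial (Fin s) F) K p ∈ E := by
      intro p
      induction p using MvPolynomial.induction_on with
      | C c =>
        rw [← MvPolynomial.algebraMap_eq, ← IsScalarTower.algebraMap_apply]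
        exact hF c
      | add p q hp hq => rw [map_add]; exact add_mem hp hq
      | mul_X p i hp =>
        rw [map_mul]
        exact mul_mem hp (IntermediateField.subset_adjoin _ _ ⟨Sum.inl i, rfl⟩)
    obtain ⟨x, y, -, rfl⟩ := IsFractionRing.div_surjective (A := MvPolynomial (Fin s) F) z
    exact div_mem (hpoly x) (hpoly y)
  refine ⟨s + a, w ∘ finSumFinEquiv.symm, hw.comp _ finSumFinEquiv.symm.injective, ?_⟩
  rw [← hwgen]
  congr 1
  exact (finSumFinEquiv.symm.surjective.range_comp w)

end PT2

section Final

variable (k : Type u) [Field k]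

theorem adjoin_eq_top_of_algEquiv {A B : Type*} [Field A] [Field B] [Algebra k A] [Algebra k B]
    (φ : A ≃ₐ[k] B) {ι : Type*} (t : ι → A)
    (h : IntermediateField.adjoin k (Set.range t) = ⊤) :
    IntermediateField.adjoin k (Set.range fun i => φ (t i)) = ⊤ := by
  rw [eq_top_iff]
  intro z _
  have hz : φ.symm z ∈ IntermediateField.adjoin k (Set.range t) := by rw [h]; trivial
  have h2 : (φ : A →ₐ[k] B) (φ.symm z) ∈
      (IntermediateField.adjoin k (Set.range t)).map (φ : A →ₐ[k] B) := ⟨φ.symm z, hz, rfl⟩
  rw [IntermediateField.adjoin_map, AlgEquiv.coe_algHom, φ.apply_symm_apply] at h2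
  have h3 : (⇑φ) '' Set.range t = Set.range fun i => φ (t i) := by
    ext y
    constructor
    · rintro ⟨_, ⟨i, rfl⟩, rfl⟩; exact ⟨i, rfl⟩
    · rintro ⟨i, rfl⟩; exact ⟨_, ⟨i, rfl⟩, rfl⟩
  rw [h3] at h2
  exact h2

/-- S15698: invariants of a faithful linear representation of the symmetric group are stably
pure -/
theorem main_S15698 [CharZero k] (n m : ℕ)
    (G : Subgroup (InvFld.Fld (Fin m) k ≃ₐ[k] InvFld.Fld (Fin m) k)) [Finite G] (e : G ≃* Equiv.Perm (Fin n))
    (hG : ∀ σ ∈ G, ∀ i : Fin m, σ (InvFld.X i) ∈ Submodule.span k (Set.range fun j : Fin m => (InvFld.X j : InvFld.Fld (Fin m) k))) :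
    ∃ (r N : ℕ) (t : Fin N → InvFld.Fld (Fin r) (IntermediateField.fixedField G)),
      AlgebraicIndependent k t ∧ IntermediateField.adjoin k (Set.range t) = ⊤ := by
  let H : Subgroup (InvFld.Fld (Fin n) k ≃ₐ[k] InvFld.Fld (Fin n) k) := (permField k (Fin n)).range
  haveI : Finite H := Finite.of_surjective (permField k (Fin n)).rangeRestrict
    (permField k (Fin n)).rangeRestrict_surjective
  let eH : Equiv.Perm (Fin n) ≃* H := MonoidHom.ofInjective permField_injective
  have hH : ∀ τ ∈ H, ∀ i : Fin n, τ (InvFld.X i) ∈ Submodule.span k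
      (Set.range fun j : Fin n => (InvFld.X j : InvFld.Fld (Fin n) k)) := by
    rintro _ ⟨π, rfl⟩ i
    rw [permField_X]
    exact Submodule.subset_span ⟨π i, rfl⟩
  obtain ⟨r, s, ⟨Ξ⟩⟩ := main_S15696 k m n G H (e.trans eH) hG hH
  have hfix : IntermediateField.fixedField H = IntermediateField.adjoin k (Set.range (eps k n)) :=
    fixedField_perm_eq k n
  obtain ⟨iso⟩ : Nonempty (↥(IntermediateField.fixedField H) ≃ₐ[k] InvFld.Fld (Fin n) k) :=
    ⟨(IntermediateField.equivOfEq hfix).trans (algebraicIndependent_eps k n).aevalEquivField.symm⟩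
  let v : Fin n → ↥(IntermediateField.fixedField H) := fun i => iso.symm (InvFld.X i)
  have hv : AlgebraicIndependent k v := by
    have h0 := (algebraicIndependent_X k (Fin n)).map'
      (f := (iso.symm : InvFld.Fld (Fin n) k →ₐ[k] ↥(IntermediateField.fixedField H)))
      iso.symm.injective
    exact h0
  have hvgen : IntermediateField.adjoin k (Set.range v) = ⊤ :=
    adjoin_eq_top_of_algEquiv k iso.symm _ (adjoin_X_eq_top (k := k) (σ := Fin n))
  obtain ⟨N, t₀, ht₀, ht₀gen⟩ := exists_algebraicIndependent_adjoin_eq_top_Fld k v hv hvgen s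
  refine ⟨r, N, fun i => Ξ.symm (t₀ i), ?_, ?_⟩
  · have h0 := ht₀.map' (f := (Ξ.symm : InvFld.Fld (Fin s) ↥(IntermediateField.fixedField H) →ₐ[k]
      InvFld.Fld (Fin r) ↥(IntermediateField.fixedField G))) Ξ.symm.injective
    exact h0
  · exact adjoin_eq_top_of_algEquiv k Ξ.symm t₀ ht₀gen

end Final

end Groth.Agent.Lib.T2H8.NoName
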