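import Mathlib
import Groth.Agent.Lib.T2H8NodePres
import Groth.Agent.Lib.T2H8CplAuto

/-!
# The node presentation is an isomorphism in the flat case (S7925)
-/

set_option autoImplicit false
universe u

namespace Groth.Agent.Lib.T2H8.NodeIso

open IsLocalRing MvPowerSeries

/-- a power series whose coefficients lie in a finitely generated ideal `I` lies in the extension
of `I` -/
theorem mem_map_C_of_coeff_mem {Λ : Type*} [CommRing Λ] {σ : Type*} (I : Ideal Λ) (hI : I.FG)
    (g : MvPowerSeries σ Λ) (hg : ∀ ν, coeff ν g ∈ I) :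
    g ∈ I.map (C : Λ →+* MvPowerSeries σ Λ) := by
  classical
  obtain ⟨r, a, ha⟩ := Submodule.fg_iff_exists_fin_generating_family.mp hI
  have hex : ∀ ν, ∃ c : Fin r → Λ, ∑ i, c i * a i = coeff ν g := by
    intro ν
    have h1 := hg ν
    rw [← ha] at h1
    exact (Ideal.mem_span_range_iff_exists_fun (R := Λ)).mp h1
  choose c hc using hex
  let gi : Fin r → MvPowerSeries σ Λ := fun i ν => c ν i
  have hgi : ∀ i ν, coeff ν (gi i) = c ν i := fun i ν => rfl
  have hsum : g = ∑ i, C (a i) * gi i := by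
    ext ν
    rw [map_sum, ← hc ν]
    refine Finset.sum_congr rfl fun i _ => ?_
    rw [MvPowerSeries.coeff_C_mul, hgi, mul_comm]
  rw [hsum]
  refine Ideal.sum_mem _ fun i _ => Ideal.mul_mem_right _ _ (Ideal.mem_map_of_mem _ ?_)
  rw [← ha]
  exact Ideal.subset_span ⟨i, rfl⟩

section Abstract

variable {Λ S : Type u} [CommRing Λ] [CommRing S] [Algebra Λ S] [IsLocalRing Λ]
  [IsNoetherianRing Λ]
  [IsAdicComplete (maximalIdeal Λ) Λ] [IsLocalRing S] [IsNoetherianRing S]
  [IsAdicComplete (maximalIdeal S) S]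

/-- abstract form: the surjection of `exists_surjection` has kernel `(xy - α)` when `S` is flat
over a base and the fibre is the standard node -/
theorem exists_presentation
    (A₀ : Type u) [CommRing A₀] [Algebra A₀ Λ] [Algebra A₀ S] [IsScalarTower A₀ Λ S]
    [Module.Flat A₀ S] (I₀ : Ideal A₀) (hI₀ : I₀.map (algebraMap A₀ Λ) = maximalIdeal Λ)
    (k : Type u) [CommRing k] [IsNoetherianRing k] (ρ : Λ →+* k) (hρ : Function.Surjective ρ)
    (hρker : RingHom.ker ρ = maximalIdeal Λ)
    (θ : S →+* (MvPowerSeries (Fin 2) k ⧸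
      Ideal.span {(X 0 * X 1 : MvPowerSeries (Fin 2) k)}))
    (hθ : Function.Surjective θ)
    (hθ0 : ∀ c ∈ maximalIdeal Λ, θ (algebraMap Λ S c) = 0)
    (h𝔞 : (maximalIdeal Λ).map (algebraMap Λ S) ≤ maximalIdeal S)
    (hres : ∀ s : S, ∃ c : Λ, s - algebraMap Λ S c ∈ maximalIdeal S)
    (u0 v0 : S) (hu0 : u0 ∈ maximalIdeal S) (hv0 : v0 ∈ maximalIdeal S)
    (hgen : maximalIdeal S ≤ Ideal.span {u0, v0} ⊔ (maximalIdeal Λ).map (algebraMap Λ S))
    (huv : u0 * v0 ∈ (maximalIdeal Λ).map (algebraMap Λ S)) :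
    ∃ (α : Λ) (_ : α ∈ maximalIdeal Λ) (Ψ : MvPowerSeries (Fin 2) Λ →ₐ[Λ] S),
      Function.Surjective Ψ ∧
      RingHom.ker Ψ.toRingHom = Ideal.span {(X 0 * X 1 - C α : MvPowerSeries (Fin 2) Λ)} ∧
      Ψ (X 0) - u0 ∈ (maximalIdeal Λ).map (algebraMap Λ S) ∧
      Ψ (X 1) - v0 ∈ (maximalIdeal Λ).map (algebraMap Λ S) := by
  classical
  obtain ⟨α, hα, Ψ, hsurj, hrel, hX0, hX1⟩ :=
    NodePres.exists_surjection h𝔞 hres u0 v0 hu0 hv0 hgen huv
  refine ⟨α, hα, Ψ, hsurj, ?_, hX0, hX1⟩
  have hΨC : ∀ c : Λ, Ψ (C c) = algebraMap Λ S c := by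
    intro c
    rw [MvPowerSeries.c_eq_algebraMap]
    exact Ψ.commutes c
  -- notation
  obtain ⟨𝔮, h𝔮⟩ : ∃ 𝔮 : Ideal (MvPowerSeries (Fin 2) Λ),
      𝔮 = Ideal.span {(X 0 * X 1 - C α : MvPowerSeries (Fin 2) Λ)} := ⟨_, rfl⟩
  obtain ⟨𝔪', h𝔪'⟩ : ∃ 𝔪' : Ideal (MvPowerSeries (Fin 2) Λ),
      𝔪' = (maximalIdeal Λ).map (C : Λ →+* MvPowerSeries (Fin 2) Λ) := ⟨_, rfl⟩
  rw [← h𝔮]
  have h𝔮le : 𝔮 ≤ RingHom.ker Ψ.toRingHom := by
    rw [h𝔮, Ideal.span_le]
    intro g hg
    rw [Set.mem_singleton_iff] at hg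
    rw [hg]
    exact hrel
  refine le_antisymm ?_ h𝔮le
  -- the reduction map
  let π : MvPowerSeries (Fin 2) Λ →+* (MvPowerSeries (Fin 2) k ⧸
      Ideal.span {(X 0 * X 1 : MvPowerSeries (Fin 2) k)}) :=
    (Ideal.Quotient.mk _).comp (MvPowerSeries.map ρ)
  have hπsurj : Function.Surjective π := by
    intro y
    obtain ⟨h, rfl⟩ := Ideal.Quotient.mk_surjective y
    choose hc hhc using fun ν => hρ (coeff ν h)
    refine ⟨(fun ν => hc ν : MvPowerSeries (Fin 2) Λ), ?_⟩
    show Ideal.Quotient.mk _ (MvPowerSeries.map ρ _) = _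
    congr 1
    ext ν
    rw [MvPowerSeries.coeff_map]
    exact hhc ν
  have hραL : ρ α = 0 := by
    have : α ∈ RingHom.ker ρ := by rw [hρker]; exact hα
    exact this
  have hkerπ : RingHom.ker π ≤ 𝔪' ⊔ 𝔮 := by
    intro g hg
    rw [RingHom.mem_ker] at hg
    have hg' : MvPowerSeries.map ρ g ∈ Ideal.span {(X 0 * X 1 : MvPowerSeries (Fin 2) k)} :=
      Ideal.Quotient.eq_zero_iff_mem.mp hg
    obtain ⟨hbar, hhbar⟩ := Ideal.mem_span_singleton'.mp hg'
    choose hc hhc using fun ν => hρ (coeff ν hbar)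
    let h : MvPowerSeries (Fin 2) Λ := fun ν => hc ν
    have hh : MvPowerSeries.map ρ h = hbar := by
      ext ν
      rw [MvPowerSeries.coeff_map]
      exact hhc ν
    have hsplit : g = (g - h * (X 0 * X 1 - C α)) + h * (X 0 * X 1 - C α) := by ring
    rw [hsplit]
    refine add_mem (Ideal.mem_sup_left ?_) (Ideal.mem_sup_right ?_)
    · rw [h𝔪']
      apply mem_map_C_of_coeff_mem _ (IsNoetherian.noetherian _)
      intro ν
      have hzero : MvPowerSeries.map ρ (g - h * (X 0 * X 1 - C α)) = 0 := by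
        rw [map_sub, map_mul, map_sub, map_mul, MvPowerSeries.map_X, MvPowerSeries.map_X,
          MvPowerSeries.map_C, hραL, map_zero, sub_zero, hh, hhbar, sub_self]
      rw [← hρker, RingHom.mem_ker, ← MvPowerSeries.coeff_map, hzero, map_zero]
    · rw [h𝔮]
      exact Ideal.mul_mem_left _ _ (Ideal.subset_span rfl)
  -- the composite `θ ∘ Ψ`
  let Φ : MvPowerSeries (Fin 2) Λ →+* (MvPowerSeries (Fin 2) k ⧸
      Ideal.span {(X 0 * X 1 : MvPowerSeries (Fin 2) k)}) := θ.comp Ψ.toRingHom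
  have hΦsurj : Function.Surjective Φ := hθ.comp hsurj
  have h𝔪'Φ : 𝔪' ≤ RingHom.ker Φ := by
    rw [h𝔪', Ideal.map_le_iff_le_comap]
    intro c hc
    rw [Ideal.mem_comap, RingHom.mem_ker]
    show θ (Ψ (C c)) = 0
    rw [hΨC]
    exact hθ0 c hc
  have h𝔮Φ : 𝔮 ≤ RingHom.ker Φ := by
    intro g hg
    have := h𝔮le hg
    rw [RingHom.mem_ker] at this ⊢
    show θ (Ψ.toRingHom g) = 0
    rw [this, map_zero]
  have hkerle : RingHom.ker π ≤ RingHom.ker Φ := hkerπ.trans (sup_le h𝔪'Φ h𝔮Φ)
  let Φb := (π.liftOfSurjective hπsurj) ⟨Φ, hkerle⟩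
  have hΦb : ∀ g, Φb (π g) = Φ g := fun g => RingHom.liftOfSurjective_comp_apply π hπsurj ⟨Φ, hkerle⟩ g
  have hΦbsurj : Function.Surjective Φb := by
    intro y
    obtain ⟨g, rfl⟩ := hΦsurj y
    exact ⟨π g, hΦb g⟩
  have hΦbinj : Function.Injective Φb := CplAuto.injective_of_surjective_ringEnd Φb hΦbsurj
  have hkerΦ : RingHom.ker Φ ≤ 𝔪' ⊔ 𝔮 := by
    intro g hg
    apply hkerπ
    rw [RingHom.mem_ker] at hg ⊢
    apply hΦbinj
    rw [hΦb, hg, map_zero]
  -- `K ≤ 𝔮 ⊔ 𝔪' K`
  have hKΦ : RingHom.ker Ψ.toRingHom ≤ RingHom.ker Φ := by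
    intro g hg
    rw [RingHom.mem_ker] at hg ⊢
    show θ (Ψ.toRingHom g) = 0
    rw [hg, map_zero]
  -- flat kernel lemma over `A₀`
  letI : Algebra A₀ (MvPowerSeries (Fin 2) Λ) := inferInstance
  let ΨA₀ : MvPowerSeries (Fin 2) Λ →ₗ[A₀] S :=
    { toFun := Ψ
      map_add' := map_add Ψ
      map_smul' := fun a g => by
        rw [RingHom.id_apply, Algebra.smul_def, Algebra.smul_def, map_mul,
          MvPowerSeries.algebraMap_apply, hΨC, ← IsScalarTower.algebraMap_apply] }
  have hflat := LinearMap.ker_inf_smul_top_eq_smul_of_flat I₀ ΨA₀ hsurj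
  have hI₀𝔪' : ∀ g ∈ 𝔪', g ∈ (I₀ • ⊤ : Submodule A₀ (MvPowerSeries (Fin 2) Λ)) := by
    intro g hg
    rw [h𝔪', ← hI₀, Ideal.map_map] at hg
    have h1 : (C : Λ →+* MvPowerSeries (Fin 2) Λ).comp (algebraMap A₀ Λ) =
        algebraMap A₀ (MvPowerSeries (Fin 2) Λ) := by
      refine RingHom.ext fun a => ?_
      rw [MvPowerSeries.algebraMap_apply]
      rfl
    rw [h1] at hg
    rw [Ideal.smul_top_eq_map]
    exact hg
  have hsmulle : ∀ g ∈ (I₀ • LinearMap.ker ΨA₀ : Submodule A₀ (MvPowerSeries (Fin 2) Λ)),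
      g ∈ 𝔪' • RingHom.ker Ψ.toRingHom := by
    intro g hg
    refine Submodule.smul_induction_on hg ?_ ?_
    · intro a ha x hx
      rw [Algebra.smul_def]
      refine Submodule.smul_mem_smul ?_ hx
      rw [h𝔪', MvPowerSeries.algebraMap_apply]
      refine Ideal.mem_map_of_mem _ ?_
      rw [← hI₀]
      exact Ideal.mem_map_of_mem _ ha
    · intro x y hx hy
      exact add_mem hx hy
  have hKle : RingHom.ker Ψ.toRingHom ≤ 𝔮 ⊔ 𝔪' • RingHom.ker Ψ.toRingHom := by
    intro g hg
    obtain ⟨m, hm, t, ht, hmt⟩ := Submodule.mem_sup.mp (hkerΦ (hKΦ hg))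
    have hmK : m ∈ LinearMap.ker ΨA₀ ⊓ (I₀ • ⊤ : Submodule A₀ (MvPowerSeries (Fin 2) Λ)) := by
      refine ⟨?_, hI₀𝔪' m hm⟩
      show Ψ m = 0
      have h1 : m = g - t := by rw [← hmt]; ring
      rw [h1, map_sub]
      have h2 : Ψ g = 0 := hg
      have h3 : Ψ t = 0 := h𝔮le ht
      rw [h2, h3, sub_zero]
    rw [hflat] at hmK
    rw [← hmt, add_comm]
    exact add_mem (Ideal.mem_sup_left ht) (Ideal.mem_sup_right (hsmulle m hmK))
  refine Submodule.le_of_le_smul_of_le_jacobson_bot (IsNoetherian.noetherian _) ?_ hKle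
  refine le_trans ?_ (IsLocalRing.maximalIdeal_le_jacobson ⊥)
  rw [h𝔪', Ideal.map_le_iff_le_comap]
  intro c hc
  rw [Ideal.mem_comap, IsLocalRing.mem_maximalIdeal, mem_nonunits_iff,
    MvPowerSeries.isUnit_iff_constantCoeff, MvPowerSeries.constantCoeff_C]
  exact hc

end Abstract

section Final

/-- a quotient map of Noetherian rings induces a surjection on completions -/
theorem exists_cpl_surjective (B : Type u) [CommRing B] [IsNoetherianRing B] (m 𝔟 : Ideal B) :
    ∃ γ : AdicCompletion m B →ₐ[B] AdicCompletion (m.map (Ideal.Quotient.mk 𝔟)) (B ⧸ 𝔟),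
      Function.Surjective γ := by
  have hmfg : m.FG := IsNoetherian.noetherian m
  have hmbfg : (m.map (Ideal.Quotient.mk 𝔟)).FG := hmfg.map _
  obtain ⟨γ, -⟩ := SmoothFinLift.exists_extension (V := B) m (m.map (Ideal.Quotient.mk 𝔟))
    (Algebra.ofId B (AdicCompletion (m.map (Ideal.Quotient.mk 𝔟)) (B ⧸ 𝔟))) (by
      intro n b hb
      show AdicCompletion.evalₐ _ n
        (algebraMap B (AdicCompletion (m.map (Ideal.Quotient.mk 𝔟)) (B ⧸ 𝔟)) b) = 0
      rw [AdicCompletion.algebraMap_apply, AdicCompletion.evalₐ_of, Ideal.Quotient.eq_zero_iff_mem,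
        ← Ideal.map_pow]
      exact Ideal.mem_map_of_mem _ hb)
  refine ⟨γ, ?_⟩
  haveI : IsAdicComplete (m.map (algebraMap B (AdicCompletion m B))) (AdicCompletion m B) :=
    AdicCompletion.isAdicComplete_self m hmfg
  have hmap : (m.map (algebraMap B (AdicCompletion m B))).map γ.toRingHom =
      (m.map (Ideal.Quotient.mk 𝔟)).map
        (algebraMap (B ⧸ 𝔟) (AdicCompletion (m.map (Ideal.Quotient.mk 𝔟)) (B ⧸ 𝔟))) := by
    rw [Ideal.map_map, Ideal.map_map]
    congr 1
    refine RingHom.ext fun b => ?_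
    exact γ.commutes b
  haveI : IsHausdorff ((m.map (algebraMap B (AdicCompletion m B))).map γ.toRingHom)
      (AdicCompletion (m.map (Ideal.Quotient.mk 𝔟)) (B ⧸ 𝔟)) := by
    rw [hmap]
    haveI := AdicCompletion.isAdicComplete_self (m.map (Ideal.Quotient.mk 𝔟)) hmbfg
    infer_instance
  refine surjective_of_mk_map_comp_surjective γ.toRingHom
    (I := m.map (algebraMap B (AdicCompletion m B))) ?_
  intro y
  obtain ⟨y', rfl⟩ := Ideal.Quotient.mk_surjective y
  obtain ⟨c, hc⟩ := Ideal.Quotient.mk_surjective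
    (AdicCompletion.evalOneₐ (m.map (Ideal.Quotient.mk 𝔟)) y')
  obtain ⟨b, rfl⟩ := Ideal.Quotient.mk_surjective c
  refine ⟨algebraMap B (AdicCompletion m B) b, ?_⟩
  rw [RingHom.comp_apply, Ideal.Quotient.eq, hmap,
    ← AdicCompletion.ker_evalOneₐ_eq_map _ hmbfg, RingHom.mem_ker]
  show AdicCompletion.evalOneₐ _ (γ (algebraMap B (AdicCompletion m B) b) - y') = 0
  rw [map_sub, γ.commutes, ← hc, sub_eq_zero]
  rfl

variable (A B : Type u) [CommRing A] [IsLocalRing A] [IsNoetherianRing A]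
    [CommRing B] [IsLocalRing B] [IsNoetherianRing B] [Algebra A B] [IsLocalHom (algebraMap A B)]

/-- main theorem (S7925) -/
theorem main (hres : Function.Bijective (IsLocalRing.ResidueField.map (algebraMap A B)))
    (u v : B) (hu : u ∈ IsLocalRing.maximalIdeal B) (hv : v ∈ IsLocalRing.maximalIdeal B)
    (huv : u * v ∈ (IsLocalRing.maximalIdeal A).map (algebraMap A B))
    (hgen : IsLocalRing.maximalIdeal B = Ideal.span {u, v} ⊔ (IsLocalRing.maximalIdeal A).map (algebraMap A B)) [Module.Flat A B]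
    (hfib : ∃ e : AdicCompletion ((IsLocalRing.maximalIdeal B).map (Ideal.Quotient.mk
          ((IsLocalRing.maximalIdeal A).map (algebraMap A B))))
          (B ⧸ (IsLocalRing.maximalIdeal A).map (algebraMap A B)) ≃+*
        (MvPowerSeries (Fin 2) (IsLocalRing.ResidueField A) ⧸
          Ideal.span {(MvPowerSeries.X 0 * MvPowerSeries.X 1 : MvPowerSeries (Fin 2) (IsLocalRing.ResidueField A))}),
      ∀ a : A, e (algebraMap (B ⧸ (IsLocalRing.maximalIdeal A).map (algebraMap A B)) _
          (Ideal.Quotient.mk _ (algebraMap A B a))) =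
        Ideal.Quotient.mk _ (MvPowerSeries.C (IsLocalRing.residue A a))) :
    ∃ (α : AdicCompletion (IsLocalRing.maximalIdeal A) A)
      (_ : α ∈ (IsLocalRing.maximalIdeal A).map (algebraMap A (AdicCompletion (IsLocalRing.maximalIdeal A) A)))
      (ψ : (MvPowerSeries (Fin 2) (AdicCompletion (IsLocalRing.maximalIdeal A) A) ⧸ Ideal.span
          {(MvPowerSeries.X 0 * MvPowerSeries.X 1 -
            MvPowerSeries.C α :
              MvPowerSeries (Fin 2) (AdicCompletion (IsLocalRing.maximalIdeal A) A))}) ≃ₐ[A]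
        AdicCompletion (IsLocalRing.maximalIdeal B) B),
      ψ (Ideal.Quotient.mk _ (MvPowerSeries.X 0)) -
            algebraMap B (AdicCompletion (IsLocalRing.maximalIdeal B) B) u ∈
          (IsLocalRing.maximalIdeal A).map (algebraMap A (AdicCompletion (IsLocalRing.maximalIdeal B) B)) ∧
        ψ (Ideal.Quotient.mk _ (MvPowerSeries.X 1)) -
            algebraMap B (AdicCompletion (IsLocalRing.maximalIdeal B) B) v ∈
          (IsLocalRing.maximalIdeal A).map (algebraMap A (AdicCompletion (IsLocalRing.maximalIdeal B) B)) := by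
  classical
  haveI : IsNoetherianRing (AdicCompletion (maximalIdeal A) A) :=
    Groth.Agent.Lib.Helper19.isNoetherianRing_adicCompletion _
  haveI : IsNoetherianRing (AdicCompletion (maximalIdeal B) B) :=
    Groth.Agent.Lib.Helper19.isNoetherianRing_adicCompletion _
  obtain ⟨κ⟩ := NodePres.nonempty_cplMap A B
  letI : Algebra (AdicCompletion (maximalIdeal A) A) (AdicCompletion (maximalIdeal B) B) :=
    κ.toRingHom.toAlgebra
  have hκalg : ∀ c : AdicCompletion (maximalIdeal A) A,
      algebraMap (AdicCompletion (maximalIdeal A) A) (AdicCompletion (maximalIdeal B) B) c = κ c :=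
    fun c => rfl
  haveI : IsScalarTower A (AdicCompletion (maximalIdeal A) A) (AdicCompletion (maximalIdeal B) B) :=
    IsScalarTower.of_algebraMap_eq (fun a => (κ.commutes a).symm)
  haveI : IsScalarTower A B (AdicCompletion (maximalIdeal B) B) :=
    IsScalarTower.of_algebraMap_eq (fun a => rfl)
  haveI : Module.Flat A (AdicCompletion (maximalIdeal B) B) :=
    Module.Flat.trans A B (AdicCompletion (maximalIdeal B) B)
  have hcompAB : (algebraMap B (AdicCompletion (maximalIdeal B) B)).comp (algebraMap A B) =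
      algebraMap A (AdicCompletion (maximalIdeal B) B) := RingHom.ext fun a => rfl
  have hmap𝔞 : (maximalIdeal (AdicCompletion (maximalIdeal A) A)).map
      (algebraMap (AdicCompletion (maximalIdeal A) A) (AdicCompletion (maximalIdeal B) B)) =
      (maximalIdeal A).map (algebraMap A (AdicCompletion (maximalIdeal B) B)) := by
    rw [AdicCompletion.maximalIdeal_eq_map, Ideal.map_map]
    congr 1
    exact RingHom.ext fun a => κ.commutes a
  have hmB : maximalIdeal (AdicCompletion (maximalIdeal B) B) =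
      Ideal.span {algebraMap B (AdicCompletion (maximalIdeal B) B) u,
        algebraMap B (AdicCompletion (maximalIdeal B) B) v} ⊔
      (maximalIdeal A).map (algebraMap A (AdicCompletion (maximalIdeal B) B)) := by
    have h1 : (maximalIdeal B).map (algebraMap B (AdicCompletion (maximalIdeal B) B)) =
        (Ideal.span {u, v} ⊔ (maximalIdeal A).map (algebraMap A B)).map
          (algebraMap B (AdicCompletion (maximalIdeal B) B)) :=
      congrArg (Ideal.map (algebraMap B (AdicCompletion (maximalIdeal B) B))) hgen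
    rw [AdicCompletion.maximalIdeal_eq_map, h1, Ideal.map_sup, Ideal.map_span, Set.image_pair,
      Ideal.map_map, hcompAB]
  have h𝔞 : (maximalIdeal (AdicCompletion (maximalIdeal A) A)).map
      (algebraMap (AdicCompletion (maximalIdeal A) A) (AdicCompletion (maximalIdeal B) B)) ≤
      maximalIdeal (AdicCompletion (maximalIdeal B) B) := by
    rw [hmap𝔞]
    conv_rhs => rw [hmB]
    exact le_sup_right
  have hres' : ∀ s : AdicCompletion (maximalIdeal B) B, ∃ c : AdicCompletion (maximalIdeal A) A,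
      s - algebraMap (AdicCompletion (maximalIdeal A) A) (AdicCompletion (maximalIdeal B) B) c ∈
        maximalIdeal (AdicCompletion (maximalIdeal B) B) := by
    intro s
    obtain ⟨b, hb⟩ := Ideal.Quotient.mk_surjective (AdicCompletion.evalOneₐ (maximalIdeal B) s)
    obtain ⟨a', ha'⟩ := hres.2 (IsLocalRing.residue B b)
    obtain ⟨a, rfl⟩ := IsLocalRing.residue_surjective a'
    have h1 : algebraMap A B a - b ∈ maximalIdeal B := by
      rw [IsLocalRing.ResidueField.map_residue] at ha'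
      exact (Ideal.Quotient.eq).mp ha'
    refine ⟨AdicCompletion.of _ _ a, ?_⟩
    rw [hκalg]
    have h2 : κ (AdicCompletion.of _ _ a) = algebraMap A (AdicCompletion (maximalIdeal B) B) a :=
      κ.commutes a
    rw [h2, AdicCompletion.maximalIdeal_eq_map,
      ← AdicCompletion.ker_evalOneₐ_eq_map (maximalIdeal B) (maximalIdeal B).fg_of_isNoetherianRing,
      RingHom.mem_ker]
    show AdicCompletion.evalOneₐ (maximalIdeal B)
      (s - algebraMap A (AdicCompletion (maximalIdeal B) B) a) = 0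
    rw [map_sub, ← hb]
    have h3 : AdicCompletion.evalOneₐ (maximalIdeal B)
        (algebraMap A (AdicCompletion (maximalIdeal B) B) a) =
        Ideal.Quotient.mk _ (algebraMap A B a) := rfl
    rw [h3, ← map_sub, Ideal.Quotient.eq_zero_iff_mem, ← neg_sub]
    exact neg_mem h1
  have hu0 : algebraMap B (AdicCompletion (maximalIdeal B) B) u ∈
      maximalIdeal (AdicCompletion (maximalIdeal B) B) := by
    rw [AdicCompletion.maximalIdeal_eq_map]
    exact Ideal.mem_map_of_mem _ hu
  have hv0 : algebraMap B (AdicCompletion (maximalIdeal B) B) v ∈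
      maximalIdeal (AdicCompletion (maximalIdeal B) B) := by
    rw [AdicCompletion.maximalIdeal_eq_map]
    exact Ideal.mem_map_of_mem _ hv
  have hgen' : maximalIdeal (AdicCompletion (maximalIdeal B) B) ≤
      Ideal.span {algebraMap B (AdicCompletion (maximalIdeal B) B) u,
        algebraMap B (AdicCompletion (maximalIdeal B) B) v} ⊔
      (maximalIdeal (AdicCompletion (maximalIdeal A) A)).map
        (algebraMap (AdicCompletion (maximalIdeal A) A) (AdicCompletion (maximalIdeal B) B)) := by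
    rw [hmap𝔞]
    exact le_of_eq hmB
  have huv' : algebraMap B (AdicCompletion (maximalIdeal B) B) u *
      algebraMap B (AdicCompletion (maximalIdeal B) B) v ∈
      (maximalIdeal (AdicCompletion (maximalIdeal A) A)).map
        (algebraMap (AdicCompletion (maximalIdeal A) A) (AdicCompletion (maximalIdeal B) B)) := by
    rw [hmap𝔞, ← map_mul, ← hcompAB, ← Ideal.map_map]
    exact Ideal.mem_map_of_mem _ huv
  -- the fibre data
  obtain ⟨e, he⟩ := hfib
  obtain ⟨γ, hγ⟩ := exists_cpl_surjective B (maximalIdeal B) ((maximalIdeal A).map (algebraMap A B))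
  let θ : AdicCompletion (maximalIdeal B) B →+* (MvPowerSeries (Fin 2) (ResidueField A) ⧸
      Ideal.span {(X 0 * X 1 : MvPowerSeries (Fin 2) (ResidueField A))}) :=
    e.toRingHom.comp γ.toRingHom
  have hθ : Function.Surjective θ := e.surjective.comp hγ
  have hθA : ∀ a : A, θ (algebraMap A (AdicCompletion (maximalIdeal B) B) a) =
      Ideal.Quotient.mk _ (C (IsLocalRing.residue A a)) := by
    intro a
    rw [← he a]
    show e (γ (algebraMap B (AdicCompletion (maximalIdeal B) B) (algebraMap A B a))) = _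
    rw [γ.commutes]
    rfl
  have hθ0 : ∀ c ∈ maximalIdeal (AdicCompletion (maximalIdeal A) A),
      θ (algebraMap (AdicCompletion (maximalIdeal A) A) (AdicCompletion (maximalIdeal B) B) c) = 0 := by
    intro c hc
    have hle : maximalIdeal (AdicCompletion (maximalIdeal A) A) ≤
        RingHom.ker (θ.comp (algebraMap (AdicCompletion (maximalIdeal A) A)
          (AdicCompletion (maximalIdeal B) B))) := by
      rw [AdicCompletion.maximalIdeal_eq_map, Ideal.map_le_iff_le_comap]
      intro a ha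
      rw [Ideal.mem_comap, RingHom.mem_ker, RingHom.comp_apply, hκalg]
      have h2 : κ (algebraMap A (AdicCompletion (maximalIdeal A) A) a) =
          algebraMap A (AdicCompletion (maximalIdeal B) B) a := κ.commutes a
      rw [h2, hθA, (IsLocalRing.residue_eq_zero_iff a).mpr ha, map_zero, map_zero]
    exact hle hc
  obtain ⟨α, hα, Ψ, hsurj, hker, hX0, hX1⟩ := exists_presentation A (maximalIdeal A)
    (AdicCompletion.maximalIdeal_eq_map (R := A)).symm (ResidueField A)
    ((AdicCompletion.evalOneₐ (maximalIdeal A)).toRingHom :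
      AdicCompletion (maximalIdeal A) A →+* ResidueField A)
    (AdicCompletion.evalOneₐ_surjective (maximalIdeal A))
    (by
      rw [AdicCompletion.maximalIdeal_eq_map]
      exact AdicCompletion.ker_evalOneₐ_eq_map (maximalIdeal A)
        (maximalIdeal A).fg_of_isNoetherianRing)
    θ hθ hθ0 h𝔞 hres' _ _ hu0 hv0 hgen' huv'
  rw [hmap𝔞] at hX0 hX1
  have hΨC : ∀ c, Ψ (C c) = κ c := by
    intro c
    rw [MvPowerSeries.c_eq_algebraMap]
    exact Ψ.commutes c
  let ΨA : MvPowerSeries (Fin 2) (AdicCompletion (maximalIdeal A) A) →ₐ[A]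
      AdicCompletion (maximalIdeal B) B :=
    { toRingHom := Ψ.toRingHom
      commutes' := fun a => by
        show Ψ (algebraMap A (MvPowerSeries (Fin 2) (AdicCompletion (maximalIdeal A) A)) a) =
          algebraMap A (AdicCompletion (maximalIdeal B) B) a
        rw [MvPowerSeries.algebraMap_apply, hΨC]
        exact κ.commutes a }
  have hΨA : ∀ g, ΨA g = Ψ g := fun g => rfl
  have hkill : ∀ g ∈ Ideal.span {(X 0 * X 1 - C α :
      MvPowerSeries (Fin 2) (AdicCompletion (maximalIdeal A) A))}, ΨA g = 0 := by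
    intro g hg
    rw [← hker] at hg
    exact hg
  have hbij : Function.Bijective (Ideal.Quotient.liftₐ _ ΨA hkill) := by
    constructor
    · rw [injective_iff_map_eq_zero]
      intro q hq
      obtain ⟨g, rfl⟩ := Ideal.Quotient.mk_surjective q
      have h1 : Ψ.toRingHom g = 0 := hq
      rw [Ideal.Quotient.eq_zero_iff_mem, ← hker]
      exact h1
    · intro s
      obtain ⟨g, rfl⟩ := hsurj s
      exact ⟨Ideal.Quotient.mk _ g, rfl⟩
  refine ⟨α, by rw [← AdicCompletion.maximalIdeal_eq_map]; exact hα,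
    AlgEquiv.ofBijective (Ideal.Quotient.liftₐ _ ΨA hkill) hbij, ?_, ?_⟩
  · exact hX0
  · exact hX1

end Final

end Groth.Agent.Lib.T2H8.NodeIso
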