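import Mathlib
import Groth.Agent.Lib.T2H8ApproxLocal
import Groth.Agent.Lib.T2H8CplAuto
import Groth.Agent.Lib.T2H8EtaleAtCpl
import Groth.Agent.Lib.Helper19PowerSeries

/-!
# Retractions realizing a node factorization (helper8)
-/

set_option autoImplicit false
universe u

namespace Groth.Agent.Lib.T2H8.NodeRetract

open IsLocalRing

/-- evaluation of power series at elements of an ideal for which the ring is adically complete -/
theorem exists_eval {S : Type u} [CommRing S] (I : Ideal S) [IsAdicComplete I S]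
    {σ : Type} [Fintype σ] (x : σ → S) (hx : ∀ s, x s ∈ I) :
    ∃ ev : MvPowerSeries σ S →ₐ[S] S, ∀ s, ev (MvPowerSeries.X s) = x s := by
  classical
  have hnil : ∀ n, (I.map (Ideal.Quotient.mk (I ^ n))) ^ n = ⊥ := fun n => by
    rw [← Ideal.map_pow, Ideal.map_quotient_self]
  have hmem : ∀ n s, Ideal.Quotient.mk (I ^ n) (x s) ∈ I.map (Ideal.Quotient.mk (I ^ n)) :=
    fun n s => Ideal.mem_map_of_mem _ (hx s)
  choose evm hevm using fun n => Groth.Agent.Lib.Helper19.exists_algHom_X_eq (Λ := S)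
    (I.map (Ideal.Quotient.mk (I ^ n))) n (hnil n)
    (fun s => Ideal.Quotient.mk (I ^ n) (x s)) (hmem n)
  have hcompat : ∀ {m n : ℕ} (hle : m ≤ n),
      (Ideal.Quotient.factorₐ S (Ideal.pow_le_pow_right hle)).comp (evm n) = evm m := by
    intro m n hle
    apply Groth.Agent.Lib.Helper19.algHom_ext_of_X (I.map (Ideal.Quotient.mk (I ^ m))) m (hnil m)
    · intro s
      rw [AlgHom.comp_apply, hevm]
      exact hmem m s
    · intro s
      rw [AlgHom.comp_apply, hevm, hevm]
      rfl
  refine ⟨IsAdicComplete.liftAlgHom I evm hcompat, fun s => ?_⟩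
  apply AdicCompletion.of_injective I S
  apply AdicCompletion.ext_evalₐ
  intro n
  rw [AdicCompletion.evalₐ_of, AdicCompletion.evalₐ_of, IsAdicComplete.mk_liftAlgHom, hevm]

/-- in a Noetherian local factorial domain, a factorization of `Δ` close enough to a given one
is the same up to units -/
theorem exists_N_assoc {S : Type u} [CommRing S] [IsDomain S] [UniqueFactorizationMonoid S]
    [IsNoetherianRing S] [IsLocalRing S]
    (Δ t₁ t₂ : S) (hΔ : Δ ≠ 0) (ht : t₁ * t₂ = Δ) :
    ∃ N : ℕ, ∀ a b : S, a * b = Δ → a - t₁ ∈ maximalIdeal S ^ N → b - t₂ ∈ maximalIdeal S ^ N →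
      Ideal.span {a} = Ideal.span {t₁} ∧ Ideal.span {b} = Ideal.span {t₂} := by
  classical
  have hK : ∀ (J : Ideal S) (t : S), t ∉ J → ∃ n, t ∉ J ⊔ maximalIdeal S ^ n := by
    intro J t htJ
    by_contra hcon
    push_neg at hcon
    have h1 : (⨅ i : ℕ, maximalIdeal S ^ i • (⊤ : Submodule S (S ⧸ J))) = ⊥ :=
      Ideal.iInf_pow_smul_eq_bot_of_isLocalRing _ (maximalIdeal.isMaximal S).ne_top
    have h2 : (Submodule.Quotient.mk t : S ⧸ J) ∈
        (⨅ i : ℕ, maximalIdeal S ^ i • (⊤ : Submodule S (S ⧸ J))) := by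
      rw [Submodule.mem_iInf]
      intro i
      obtain ⟨j, hj, y, hy, rfl⟩ := Submodule.mem_sup.mp (hcon i)
      have h3 : (Submodule.Quotient.mk (j + y) : S ⧸ J) =
          y • (Submodule.Quotient.mk (1 : S) : S ⧸ J) := by
        rw [← Submodule.Quotient.mk_smul, smul_eq_mul, mul_one, Submodule.Quotient.mk_add,
          (Submodule.Quotient.mk_eq_zero J).mpr hj, zero_add]
      rw [h3]
      exact Submodule.smul_mem_smul hy Submodule.mem_top
    rw [h1, Submodule.mem_bot] at h2
    exact htJ ((Submodule.Quotient.mk_eq_zero J).mp h2)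
  -- the bound attached to an associate class
  let nn : S → Associates S → ℕ := fun t x =>
    if h : ∃ n, ∀ d, Associates.mk d = x → t ∉ Ideal.span {d} ⊔ maximalIdeal S ^ n then
      Classical.choose h else 0
  have hnn : ∀ (t d : S), ¬ d ∣ t → t ∉ Ideal.span {d} ⊔ maximalIdeal S ^ (nn t (Associates.mk d)) := by
    intro t d hdt
    have htd : t ∉ Ideal.span {d} := by
      rw [Ideal.mem_span_singleton]
      exact hdt
    obtain ⟨n, hn⟩ := hK _ t htd
    have h : ∃ n, ∀ d', Associates.mk d' = Associates.mk d →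
        t ∉ Ideal.span {d'} ⊔ maximalIdeal S ^ n := by
      refine ⟨n, fun d' hd' => ?_⟩
      have h1 : Ideal.span {d'} = Ideal.span {d} :=
        Ideal.span_singleton_eq_span_singleton.mpr (Associates.mk_eq_mk_iff_associated.mp hd')
      rw [h1]
      exact hn
    have h2 : nn t (Associates.mk d) = Classical.choose h := dif_pos h
    rw [h2]
    exact Classical.choose_spec h d rfl
  have hΔ' : Associates.mk Δ ≠ 0 := by
    rw [Ne, Associates.mk_eq_zero]
    exact hΔ
  haveI : Fintype {x : Associates S // x ∣ Associates.mk Δ} :=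
    UniqueFactorizationMonoid.fintypeSubtypeDvd _ hΔ'
  let N₁ : ℕ := Finset.univ.sup fun x : {x : Associates S // x ∣ Associates.mk Δ} => nn t₁ x.1
  let N₂ : ℕ := Finset.univ.sup fun x : {x : Associates S // x ∣ Associates.mk Δ} => nn t₂ x.1
  have hdvd : ∀ (N' : ℕ) (t a : S) (ha : a ∣ Δ), nn t (Associates.mk a) ≤ N' →
      a - t ∈ maximalIdeal S ^ N' → a ∣ t := by
    intro N' t a ha hle hat
    by_contra hnd
    apply hnn t a hnd
    have h2 : a - (a - t) ∈ Ideal.span {a} ⊔ maximalIdeal S ^ nn t (Associates.mk a) :=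
      Submodule.sub_mem _ (Submodule.mem_sup_left (Ideal.subset_span rfl))
        (Submodule.mem_sup_right (Ideal.pow_le_pow_right hle hat))
    rwa [sub_sub_cancel] at h2
  refine ⟨max N₁ N₂, fun a b hab ha hb => ?_⟩
  have haΔ : a ∣ Δ := ⟨b, hab.symm⟩
  have hbΔ : b ∣ Δ := ⟨a, by rw [mul_comm]; exact hab.symm⟩
  have hle₁ : nn t₁ (Associates.mk a) ≤ max N₁ N₂ :=
    le_trans (Finset.le_sup (f := fun x : {x : Associates S // x ∣ Associates.mk Δ} => nn t₁ x.1)
      (Finset.mem_univ ⟨Associates.mk a, Associates.mk_dvd_mk.mpr haΔ⟩)) (le_max_left _ _)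
  have hle₂ : nn t₂ (Associates.mk b) ≤ max N₁ N₂ :=
    le_trans (Finset.le_sup (f := fun x : {x : Associates S // x ∣ Associates.mk Δ} => nn t₂ x.1)
      (Finset.mem_univ ⟨Associates.mk b, Associates.mk_dvd_mk.mpr hbΔ⟩)) (le_max_right _ _)
  obtain ⟨e, he⟩ := hdvd _ t₁ a haΔ hle₁ ha
  obtain ⟨e', he'⟩ := hdvd _ t₂ b hbΔ hle₂ hb
  have hee' : e * e' = 1 := by
    have h1 : Δ * (e * e') = Δ * 1 := by
      rw [mul_one]
      calc Δ * (e * e') = (a * b) * (e * e') := by rw [hab]
        _ = (a * e) * (b * e') := by ring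
        _ = t₁ * t₂ := by rw [← he, ← he']
        _ = Δ := ht
    exact mul_left_cancel₀ hΔ h1
  have hue : IsUnit e := IsUnit.of_mul_eq_one e' hee'
  have hue' : IsUnit e' := IsUnit.of_mul_eq_one e (by rw [mul_comm]; exact hee')
  constructor
  · rw [Ideal.span_singleton_eq_span_singleton]
    exact ⟨hue.unit, he.symm⟩
  · rw [Ideal.span_singleton_eq_span_singleton]
    exact ⟨hue'.unit, he'.symm⟩

/-- Artin approximation for retractions of an essentially finite type algebra over a henselian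
local G-ring -/
theorem exists_approx_retraction (R : Type u) [CommRing R] [HenselianLocalRing R]
    (hG : CAlg.IsGRing R)
    (C : Type u) [CommRing C] [Algebra R C] [Algebra.EssFiniteType R C]
    (f : C →+* AdicCompletion (maximalIdeal R) R)
    (hf : ∀ r, f (algebraMap R C r) = algebraMap R (AdicCompletion (maximalIdeal R) R) r)
    (N : ℕ) (hN : 1 ≤ N) :
    ∃ g : C →ₐ[R] R, ∀ c, f c - algebraMap R (AdicCompletion (maximalIdeal R) R) (g c) ∈
      (maximalIdeal R ^ N).map (algebraMap R (AdicCompletion (maximalIdeal R) R)) := by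
  classical
  haveI := hG.1
  haveI : Algebra.FinitePresentation R (Algebra.EssFiniteType.subalgebra R C) :=
    Algebra.FinitePresentation.of_finiteType.mp inferInstance
  obtain ⟨n, pres, hpres, hker⟩ :=
    (inferInstance : Algebra.FinitePresentation R (Algebra.EssFiniteType.subalgebra R C)).out
  obtain ⟨m, F, hF⟩ := Submodule.fg_iff_exists_fin_generating_family.mp hker
  let f₀ : Algebra.EssFiniteType.subalgebra R C →ₐ[R] AdicCompletion (maximalIdeal R) R :=
    { toRingHom := f.comp (algebraMap (Algebra.EssFiniteType.subalgebra R C) C)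
      commutes' := fun r => hf r }
  have hf₀ : ∀ c₀, f₀ c₀ = f (algebraMap (Algebra.EssFiniteType.subalgebra R C) C c₀) :=
    fun _ => rfl
  let a : Fin n → AdicCompletion (maximalIdeal R) R := fun i => f₀ (pres (MvPolynomial.X i))
  have haev : ∀ P, MvPolynomial.aeval a P = f₀ (pres P) := by
    intro P
    have h1 : (MvPolynomial.aeval a : MvPolynomial (Fin n) R →ₐ[R] _) = f₀.comp pres := by
      apply MvPolynomial.algHom_ext
      intro i
      rw [MvPolynomial.aeval_X]
      rfl
    rw [h1]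
    rfl
  have ha : ∀ j, MvPolynomial.eval a (MvPolynomial.map
      (algebraMap R (AdicCompletion (maximalIdeal R) R)) (F j)) = 0 := by
    intro j
    have h1 : MvPolynomial.eval a (MvPolynomial.map
        (algebraMap R (AdicCompletion (maximalIdeal R) R)) (F j)) = MvPolynomial.aeval a (F j) := by
      rw [MvPolynomial.aeval_def, MvPolynomial.eval₂_eq_eval_map]
    rw [h1, haev]
    have h2 : F j ∈ RingHom.ker pres.toRingHom := by
      rw [← hF]
      exact Submodule.subset_span ⟨j, rfl⟩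
    have h3 : pres (F j) = 0 := h2
    rw [h3, map_zero]
  obtain ⟨b, hb, hab⟩ := ApproxLocal.approx R hG n m F a ha N
  have hkerle : RingHom.ker pres.toRingHom ≤
      RingHom.ker (MvPolynomial.aeval b : MvPolynomial (Fin n) R →ₐ[R] R).toRingHom := by
    rw [← hF]
    show Ideal.span (Set.range F) ≤ _
    rw [Ideal.span_le]
    rintro _ ⟨j, rfl⟩
    show MvPolynomial.aeval b (F j) = 0
    exact (RingHom.congr_fun (MvPolynomial.coe_aeval_eq_eval b) (F j)).trans (hb j)
  let g₀ : Algebra.EssFiniteType.subalgebra R C →ₐ[R] R :=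
    AlgHom.liftOfSurjective pres hpres (MvPolynomial.aeval b) hkerle
  have hg₀ : ∀ P, g₀ (pres P) = MvPolynomial.aeval b P := fun P =>
    AlgHom.liftOfSurjective_apply pres hpres (MvPolynomial.aeval b) hkerle P
  obtain ⟨K, hKdef⟩ : ∃ K : Ideal (AdicCompletion (maximalIdeal R) R),
      K = (maximalIdeal R ^ N).map (algebraMap R (AdicCompletion (maximalIdeal R) R)) := ⟨_, rfl⟩
  have hKle : K ≤ maximalIdeal (AdicCompletion (maximalIdeal R) R) := by
    rw [hKdef, AdicCompletion.maximalIdeal_eq_map]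
    exact Ideal.map_mono (Ideal.pow_le_self (by omega))
  have hclose₀ : ∀ c₀, f₀ c₀ - algebraMap R (AdicCompletion (maximalIdeal R) R) (g₀ c₀) ∈ K := by
    intro c₀
    obtain ⟨P, rfl⟩ := hpres c₀
    rw [← Ideal.Quotient.eq, hg₀, ← haev]
    have h1 : ((Ideal.Quotient.mkₐ R K).comp (MvPolynomial.aeval a) :
        MvPolynomial (Fin n) R →ₐ[R] AdicCompletion (maximalIdeal R) R ⧸ K) =
        (Ideal.Quotient.mkₐ R K).comp ((Algebra.ofId R (AdicCompletion (maximalIdeal R) R)).comp
          (MvPolynomial.aeval b)) := by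
      apply MvPolynomial.algHom_ext
      intro i
      simp only [AlgHom.comp_apply, MvPolynomial.aeval_X]
      refine Ideal.Quotient.eq.mpr ?_
      rw [hKdef]
      exact hab i
    exact congrArg (fun φ => φ P) h1
  have hunits : ∀ y : Algebra.EssFiniteType.submonoid R C, IsUnit (g₀ y) := by
    intro y
    have hy : IsUnit (algebraMap (Algebra.EssFiniteType.subalgebra R C) C y) := y.2
    have h1 : IsUnit (f₀ y) := hy.map f
    by_contra hnu
    have h2 : g₀ y ∈ maximalIdeal R := (IsLocalRing.mem_maximalIdeal _).mpr hnu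
    have h3 : algebraMap R (AdicCompletion (maximalIdeal R) R) (g₀ y) ∈
        maximalIdeal (AdicCompletion (maximalIdeal R) R) := by
      rw [AdicCompletion.maximalIdeal_eq_map]
      exact Ideal.mem_map_of_mem _ h2
    have h4 := Ideal.add_mem _ (hKle (hclose₀ y)) h3
    rw [sub_add_cancel] at h4
    exact (IsLocalRing.mem_maximalIdeal _).mp h4 h1
  let g : C →ₐ[R] R := IsLocalization.liftAlgHom (M := Algebra.EssFiniteType.submonoid R C) (f := g₀) hunits
  have hgC₀ : ∀ c₀, g (algebraMap (Algebra.EssFiniteType.subalgebra R C) C c₀) = g₀ c₀ :=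
    fun c₀ => IsLocalization.lift_eq _ _
  refine ⟨g, fun c => ?_⟩
  rw [← hKdef, ← Ideal.Quotient.eq]
  have h1 : (Ideal.Quotient.mk K).comp f = (Ideal.Quotient.mk K).comp
      ((algebraMap R (AdicCompletion (maximalIdeal R) R)).comp g.toRingHom) := by
    apply IsLocalization.ringHom_ext (Algebra.EssFiniteType.submonoid R C)
    apply RingHom.ext
    intro c₀
    show Ideal.Quotient.mk K (f (algebraMap _ C c₀)) = Ideal.Quotient.mk K
      (algebraMap R (AdicCompletion (maximalIdeal R) R) (g (algebraMap _ C c₀)))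
    rw [hgC₀, Ideal.Quotient.eq, ← hf₀]
    exact hclose₀ c₀
  exact congrArg (fun φ => φ c) h1

open MvPowerSeries in
theorem main
    (R : Type u) [CommRing R] [IsNoetherianRing R] [IsDomain R]
    [HenselianLocalRing R] (hG : CAlg.IsGRing R)
    [IsDomain (AdicCompletion (maximalIdeal R) R)]
    [UniqueFactorizationMonoid (AdicCompletion (maximalIdeal R) R)]
    (Δ t₁ t₂ : R) (hΔ : Δ ≠ 0) (ht₁ : t₁ ∈ maximalIdeal R) (ht₂ : t₂ ∈ maximalIdeal R)
    (ht : t₁ * t₂ = Δ)
    (C : Type u) [CommRing C] [IsLocalRing C] [Algebra R C] [IsLocalHom (algebraMap R C)]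
    [Algebra.EssFiniteType R C]
    (ψ : AdicCompletion (maximalIdeal C) C ≃+*
      (MvPowerSeries (Fin 2) (AdicCompletion (maximalIdeal R) R) ⧸
        Ideal.span {(X 0 * X 1 - MvPowerSeries.C (algebraMap R (AdicCompletion (maximalIdeal R) R) Δ) :
          MvPowerSeries (Fin 2) (AdicCompletion (maximalIdeal R) R))}))
    (hψ : ψ.toRingHom.comp ((algebraMap C (AdicCompletion (maximalIdeal C) C)).comp (algebraMap R C)) =
      (Ideal.Quotient.mk _).comp ((MvPowerSeries.C : AdicCompletion (maximalIdeal R) R →+*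
        MvPowerSeries (Fin 2) (AdicCompletion (maximalIdeal R) R)).comp
          (algebraMap R (AdicCompletion (maximalIdeal R) R)))) :
    ∃ (g : C →ₐ[R] R) (ĝ : AdicCompletion (maximalIdeal C) C →+* AdicCompletion (maximalIdeal R) R),
      ĝ.comp (algebraMap C (AdicCompletion (maximalIdeal C) C)) =
        (algebraMap R (AdicCompletion (maximalIdeal R) R)).comp g.toRingHom ∧
      Ideal.span {ĝ (ψ.symm (Ideal.Quotient.mk _ (X 0)))} =
        Ideal.span {algebraMap R (AdicCompletion (maximalIdeal R) R) t₁} ∧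
      Ideal.span {ĝ (ψ.symm (Ideal.Quotient.mk _ (X 1)))} =
        Ideal.span {algebraMap R (AdicCompletion (maximalIdeal R) R) t₂} := by
  classical
  haveI : IsNoetherianRing C := Algebra.EssFiniteType.isNoetherianRing R C
  haveI : IsNoetherianRing (AdicCompletion (maximalIdeal R) R) :=
    Groth.Agent.Lib.Helper19.isNoetherianRing_adicCompletion _
  have hmR : ∀ r ∈ maximalIdeal R, algebraMap R (AdicCompletion (maximalIdeal R) R) r ∈
      maximalIdeal (AdicCompletion (maximalIdeal R) R) := by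
    intro r hr
    rw [AdicCompletion.maximalIdeal_eq_map]
    exact Ideal.mem_map_of_mem _ hr
  -- the evaluation at `(t₁, t₂)`
  let x : Fin 2 → AdicCompletion (maximalIdeal R) R := fun i =>
    if i = 0 then algebraMap R _ t₁ else algebraMap R _ t₂
  have hx0 : x 0 = algebraMap R _ t₁ := if_pos rfl
  have hx1 : x 1 = algebraMap R _ t₂ := if_neg (by decide)
  have hx : ∀ s, x s ∈ maximalIdeal (AdicCompletion (maximalIdeal R) R) := by
    intro s
    show (if s = 0 then algebraMap R _ t₁ else algebraMap R _ t₂) ∈ _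
    split_ifs
    · exact hmR _ ht₁
    · exact hmR _ ht₂
  obtain ⟨ev₀, hev₀⟩ := exists_eval (maximalIdeal (AdicCompletion (maximalIdeal R) R)) x hx
  have hev₀C : ∀ r, ev₀ (MvPowerSeries.C r) = r := by
    intro r
    have h2 : (MvPowerSeries.C r : MvPowerSeries (Fin 2) (AdicCompletion (maximalIdeal R) R)) =
        algebraMap (AdicCompletion (maximalIdeal R) R) (MvPowerSeries (Fin 2) _) r := by
      rw [MvPowerSeries.algebraMap_apply, Algebra.algebraMap_self, RingHom.id_apply]
    rw [h2, AlgHom.commutes]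
    rfl
  have hrel : ev₀ (X 0 * X 1 - MvPowerSeries.C (algebraMap R (AdicCompletion (maximalIdeal R) R) Δ)) =
      0 := by
    rw [map_sub, map_mul, hev₀, hev₀, hx0, hx1, hev₀C, ← map_mul, ht, sub_self]
  let ev : (MvPowerSeries (Fin 2) (AdicCompletion (maximalIdeal R) R) ⧸
      Ideal.span {(X 0 * X 1 - MvPowerSeries.C (algebraMap R (AdicCompletion (maximalIdeal R) R) Δ) :
        MvPowerSeries (Fin 2) (AdicCompletion (maximalIdeal R) R))}) →+*
      AdicCompletion (maximalIdeal R) R :=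
    Ideal.Quotient.lift _ ev₀.toRingHom (by
      intro a ha
      obtain ⟨c, rfl⟩ := Ideal.mem_span_singleton'.mp ha
      show ev₀ (c * _) = 0
      rw [map_mul, hrel, mul_zero])
  have hevmk : ∀ p, ev (Ideal.Quotient.mk _ p) = ev₀ p := fun _ => rfl
  -- the formal retraction
  let ĝ₀ : AdicCompletion (maximalIdeal C) C →+* AdicCompletion (maximalIdeal R) R :=
    ev.comp ψ.toRingHom
  have hĝ₀ : ∀ w, ĝ₀ w = ev (ψ w) := fun _ => rfl
  have hψR : ∀ r : R, ψ (algebraMap C _ (algebraMap R C r)) =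
      Ideal.Quotient.mk _ (MvPowerSeries.C (algebraMap R (AdicCompletion (maximalIdeal R) R) r)) :=
    fun r => congrArg (fun φ => φ r) hψ
  have hĝ₀R : ∀ r : R, ĝ₀ (algebraMap C _ (algebraMap R C r)) = algebraMap R _ r := by
    intro r
    rw [hĝ₀, hψR, hevmk, hev₀C]
  have hĝ₀surj : Function.Surjective ĝ₀ := by
    intro r
    refine ⟨ψ.symm (Ideal.Quotient.mk _ (MvPowerSeries.C r)), ?_⟩
    rw [hĝ₀, RingEquiv.apply_symm_apply, hevmk, hev₀C]
  haveI : IsLocalHom ĝ₀ := IsLocalHom.of_surjective ĝ₀ hĝ₀surj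
  have hĝ₀m : ∀ w ∈ maximalIdeal (AdicCompletion (maximalIdeal C) C),
      ĝ₀ w ∈ maximalIdeal (AdicCompletion (maximalIdeal R) R) := by
    intro w hw
    rw [IsLocalRing.mem_maximalIdeal, mem_nonunits_iff] at hw ⊢
    exact fun h => hw (isUnit_of_map_unit ĝ₀ w h)
  -- the bound
  have hΔ' : algebraMap R (AdicCompletion (maximalIdeal R) R) Δ ≠ 0 := by
    intro h
    apply hΔ
    apply AdicCompletion.of_injective (maximalIdeal R) R
    rw [map_zero]
    exact h
  obtain ⟨N₀, hN₀⟩ := exists_N_assoc (algebraMap R (AdicCompletion (maximalIdeal R) R) Δ)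
    (algebraMap R _ t₁) (algebraMap R _ t₂) hΔ' (by rw [← map_mul, ht])
  obtain ⟨N, hN, hNN₀⟩ : ∃ N, 1 ≤ N ∧ N₀ ≤ N := ⟨N₀ + 1, by omega, by omega⟩
  -- the approximation
  let f : C →+* AdicCompletion (maximalIdeal R) R :=
    ĝ₀.comp (algebraMap C (AdicCompletion (maximalIdeal C) C))
  obtain ⟨g, hg⟩ := exists_approx_retraction R hG C f hĝ₀R N hN
  -- `g` is local
  have hgsurj : Function.Surjective g := fun r => ⟨algebraMap R C r, g.commutes r⟩
  haveI : IsLocalHom g.toRingHom := IsLocalHom.of_surjective g.toRingHom hgsurj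
  have hgm : ∀ c ∈ maximalIdeal C, g c ∈ maximalIdeal R := by
    intro c hc
    rw [IsLocalRing.mem_maximalIdeal, mem_nonunits_iff] at hc ⊢
    exact fun h => hc (isUnit_of_map_unit g.toRingHom c h)
  let κ : C →+* AdicCompletion (maximalIdeal R) R :=
    (algebraMap R (AdicCompletion (maximalIdeal R) R)).comp g.toRingHom
  have hκ : ∀ c ∈ maximalIdeal C, κ c ∈ (maximalIdeal R).map
      (algebraMap R (AdicCompletion (maximalIdeal R) R)) :=
    fun c hc => Ideal.mem_map_of_mem _ (hgm c hc)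
  obtain ⟨θ, hθalg, hθev⟩ := CplAuto.exists_lift_completion (maximalIdeal C) (maximalIdeal R)
    (maximalIdeal R).fg_of_isNoetherianRing κ hκ
  -- closeness of `θ` and `ĝ₀`
  have hpowmap : ∀ n, (maximalIdeal R ^ n).map (algebraMap R (AdicCompletion (maximalIdeal R) R)) =
      maximalIdeal (AdicCompletion (maximalIdeal R) R) ^ n := by
    intro n
    rw [Ideal.map_pow, ← AdicCompletion.maximalIdeal_eq_map]
  have hĝ₀pow : ∀ n w, w ∈ maximalIdeal (AdicCompletion (maximalIdeal C) C) ^ n →
      ĝ₀ w ∈ maximalIdeal (AdicCompletion (maximalIdeal R) R) ^ n := by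
    intro n w hw
    have h1 : (maximalIdeal (AdicCompletion (maximalIdeal C) C) ^ n).map ĝ₀ ≤
        maximalIdeal (AdicCompletion (maximalIdeal R) R) ^ n := by
      rw [Ideal.map_pow]
      exact Ideal.pow_right_mono (Ideal.map_le_iff_le_comap.mpr hĝ₀m) n
    exact h1 (Ideal.mem_map_of_mem _ hw)
  have hclose : ∀ w, θ w - ĝ₀ w ∈ maximalIdeal (AdicCompletion (maximalIdeal R) R) ^ N := by
    intro w
    obtain ⟨c, hc⟩ := Ideal.Quotient.mk_surjective (AdicCompletion.evalₐ (maximalIdeal C) N w)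
    have h1 := hθev N w c hc.symm
    have h2 : w - algebraMap C _ c ∈ maximalIdeal (AdicCompletion (maximalIdeal C) C) ^ N := by
      rw [← EtaleAtCpl.evalₐ_eq_zero_iff_mem_pow, map_sub, AlgHom.commutes, ← hc]
      exact sub_self _
    have h3 := hĝ₀pow N _ h2
    rw [map_sub] at h3
    have h4 : θ w - κ c ∈ maximalIdeal (AdicCompletion (maximalIdeal R) R) ^ N := by
      rw [← EtaleAtCpl.evalₐ_eq_zero_iff_mem_pow, map_sub, h1, sub_self]
    have h5 : f c - κ c ∈ maximalIdeal (AdicCompletion (maximalIdeal R) R) ^ N := by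
      rw [← hpowmap]
      exact hg c
    have h6 : θ w - ĝ₀ w = (θ w - κ c) - (ĝ₀ w - ĝ₀ (algebraMap C _ c)) - (f c - κ c) := by
      show _ = (θ w - κ c) - (ĝ₀ w - ĝ₀ (algebraMap C _ c)) - (ĝ₀ (algebraMap C _ c) - κ c)
      ring
    rw [h6]
    exact Ideal.sub_mem _ (Ideal.sub_mem _ h4 h3) h5
  -- the values at `u` and `v`
  have hθR : ∀ r : R, θ (algebraMap C _ (algebraMap R C r)) = algebraMap R _ r := by
    intro r
    rw [hθalg]
    show algebraMap R _ (g (algebraMap R C r)) = _
    rw [g.commutes]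
    rfl
  have huv : ψ.symm (Ideal.Quotient.mk _ (X 0)) * ψ.symm (Ideal.Quotient.mk _ (X 1)) =
      algebraMap C (AdicCompletion (maximalIdeal C) C) (algebraMap R C Δ) := by
    apply ψ.injective
    rw [map_mul, RingEquiv.apply_symm_apply, RingEquiv.apply_symm_apply, hψR, ← map_mul,
      Ideal.Quotient.eq]
    exact Ideal.subset_span rfl
  have hprod : θ (ψ.symm (Ideal.Quotient.mk _ (X 0))) * θ (ψ.symm (Ideal.Quotient.mk _ (X 1))) =
      algebraMap R (AdicCompletion (maximalIdeal R) R) Δ := by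
    rw [← map_mul, huv, hθR]
  have hu₀ : ĝ₀ (ψ.symm (Ideal.Quotient.mk _ (X 0))) = algebraMap R _ t₁ := by
    rw [hĝ₀, RingEquiv.apply_symm_apply, hevmk, hev₀, hx0]
  have hv₀ : ĝ₀ (ψ.symm (Ideal.Quotient.mk _ (X 1))) = algebraMap R _ t₂ := by
    rw [hĝ₀, RingEquiv.apply_symm_apply, hevmk, hev₀, hx1]
  have hcu := Ideal.pow_le_pow_right hNN₀ (hclose (ψ.symm (Ideal.Quotient.mk _ (X 0))))
  have hcv := Ideal.pow_le_pow_right hNN₀ (hclose (ψ.symm (Ideal.Quotient.mk _ (X 1))))
  rw [hu₀] at hcu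
  rw [hv₀] at hcv
  obtain ⟨h1, h2⟩ := hN₀ _ _ hprod hcu hcv
  refine ⟨g, θ, ?_, h1, h2⟩
  apply RingHom.ext
  intro c
  exact hθalg c

end Groth.Agent.Lib.T2H8.NodeRetract
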