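import Mathlib
import Groth.Prelude.Def_EtBase
import Groth.Prelude.Def_EtCore
import Groth.Agent.Lib.T2H8LocTriv
import Groth.Agent.Lib.T2H8LocTrivPull
import Groth.Agent.Lib.T2H8AgreeAb
import Groth.Agent.Lib.T2H8FibreConstAb
import Groth.Agent.Lib.T2H8EtZarSheaf
import Groth.Agent.Lib.T2H8ClosedEss

/-!
# The constant sheaf on a normal integral scheme is the direct image of its restriction to a
dense open / the generic point (S0626, S0627, S3105)
-/

set_option autoImplicit false
set_option linter.unusedSectionVars false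
set_option linter.style.haveILetI false
universe u
open CategoryTheory CategoryTheory.Limits Opposite AlgebraicGeometry

namespace Groth.Agent.Lib.T2H8.NormalConst

open Groth.Agent.Lib.T2H8.FLC Groth.Agent.Lib.T2H8.LocTriv Groth.Agent.Lib.T2H8AgreeAb
open Groth.Agent.Lib.Helper16.SmallEtale Groth.Agent.Lib.T2H8.LocTrivPull
open Groth.Agent.Lib.T2H8FibreConstAb Groth.Agent.Lib.T2H8EtZarSheaf

section Chart

variable (X : Scheme.{u}) (M : Type) [AddCommGroup M]

/-- the value group -/
abbrev Mv : AddCommGrpCat.{u + 1} := AddCommGrpCat.of (ULift.{u + 1} M)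

/-- the constant presheaf -/
noncomputable abbrev cPre : X.Etaleᵒᵖ ⥤ AddCommGrpCat.{u + 1} := (Functor.const _).obj (Mv M)

/-- the canonical chart of the constant sheaf -/
noncomputable def tConst (V : X.Etale) : Mv M ⟶ (EtCoh.const X M).obj.obj (op V) :=
  (toSheafify X.smallEtaleTopology (cPre X M)).app (op V)

theorem tConst_map {V W : X.Etale} (g : W ⟶ V) (m : Mv M) :
    (EtCoh.const X M).obj.map g.op (tConst X M V m) = tConst X M W m :=
  (NatTrans.naturality_apply (toSheafify X.smallEtaleTopology (cPre X M)) g.op m).symm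

theorem isTriv_const (V : X.Etale) : IsTriv (EtCoh.const X M) V (Mv M) (tConst X M V) := by
  have hW := X.smallEtaleTopology.W_toSheafify (cPre X M)
  constructor
  · intro Y f m m' h
    rw [tConst_map, tConst_map] at h
    haveI := hW.isLocallyInjective
    have h1 := Presheaf.equalizerSieve_mem X.smallEtaleTopology
      (toSheafify X.smallEtaleTopology (cPre X M)) (X := op Y) m m' h
    by_cases hmm : m = m'
    · exact Or.inl hmm
    · right
      refine X.smallEtaleTopology.superset_covering ?_ h1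
      intro Z g hg
      exact absurd hg hmm
  · intro Y f z
    haveI := hW.isLocallySurjective
    have h1 := Presheaf.imageSieve_mem X.smallEtaleTopology
      (toSheafify X.smallEtaleTopology (cPre X M)) z
    refine X.smallEtaleTopology.superset_covering ?_ h1
    rintro Z g ⟨m, hm⟩
    refine ⟨m, ?_⟩
    rw [tConst_map]
    exact hm

end Chart

section Closed

variable {X : Scheme.{u}}

set_option backward.isDefEq.respectTransparency.types false in
/-- the agreement locus of two sections of a sheaf trivialized over `V` is closed -/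
theorem isClosed_agree_of_isTriv (H : EtCoh.Ab X) {V : X.Etale} {M : AddCommGrpCat.{u + 1}}
    {t : M ⟶ H.obj.obj (op V)} (ht : IsTriv H V M t) (a b : H.obj.obj (op V)) :
    IsClosed (agree H a b) := by
  rw [← isOpen_compl_iff, isOpen_iff_forall_mem_open]
  intro v hv
  obtain ⟨Z₁, k₁, ⟨m, hm⟩, ⟨z₁, hz₁⟩⟩ :=
    exists_mem_range_of_mem (ht.surj V (𝟙 V) a) v
  obtain ⟨Z₂, k₂, ⟨m', hm'⟩, ⟨z₂, hz₂⟩⟩ :=
    exists_mem_range_of_mem (ht.surj Z₁ (k₁ ≫ 𝟙 V) (H.obj.map k₁.op b)) z₁
  let h : Z₂ ⟶ V := k₂ ≫ k₁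
  have ha : H.obj.map h.op a = H.obj.map h.op (t m) := by
    have e1 : H.obj.map h.op a = H.obj.map k₂.op (H.obj.map k₁.op a) := by
      rw [map_map_apply]
    have e2 : H.obj.map h.op (t m) = H.obj.map k₂.op (H.obj.map (k₁ ≫ 𝟙 V).op (t m)) := by
      rw [map_map_apply, Category.comp_id]
    rw [e1, e2, hm]
  have hb : H.obj.map h.op b = H.obj.map h.op (t m') := by
    have e1 : H.obj.map h.op b = H.obj.map k₂.op (H.obj.map k₁.op b) := by
      rw [map_map_apply]
    have e2 : H.obj.map h.op (t m') = H.obj.map (k₂ ≫ k₁ ≫ 𝟙 V).op (t m') := by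
      rw [Category.comp_id]
    rw [e1, e2, hm']
  have hz₂v : h.left z₂ = v := by
    have e1 : h.left z₂ = k₁.left (k₂.left z₂) := rfl
    rw [e1, hz₂, hz₁]
  haveI : Etale h.left := inferInstanceAs (Etale h.left)
  refine ⟨Set.range h.left, ?_, h.left.isOpenMap.isOpen_range, ⟨z₂, hz₂v⟩⟩
  rintro _ ⟨p, rfl⟩ hp
  have hp' := (mem_agree_map_iff H h a b p).2 hp
  rw [ha, hb] at hp'
  obtain ⟨Y, q, y, hy, hq⟩ := hp'
  rw [map_map_apply, map_map_apply] at hq
  rcases ht.inj Y (q ≫ h) m m' hq with hmm | hbot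
  · apply hv
    rw [← hz₂v]
    refine (mem_agree_map_iff H h a b z₂).1 ?_
    rw [ha, hb, hmm]
    exact ⟨Z₂, 𝟙 Z₂, z₂, rfl, rfl⟩
  · exact bot_not_mem y hbot

end Closed

section Unit

variable {U X : Scheme.{u}} (j : U ⟶ X) (G : EtCoh.Ab X)

set_option backward.isDefEq.respectTransparency.types false in
/-- the unit `G → j_* j^* G` is injective on sections over `V` when `G` is trivialized over `V` and
`V ×_X U` has dense image in `V` -/
theorem unit_injective {V : X.Etale} {M : AddCommGrpCat.{u + 1}} {t : M ⟶ G.obj.obj (op V)}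
    (ht : IsTriv G V M t) (hD : Dense (Set.range (pullback.fst V.hom j))) :
    Function.Injective (((EtCoh.pullPushAdj j).unit.app G).hom.app (op V)) := by
  intro a b hab
  apply eq_of_agree_eq_univ
  have hcl := isClosed_agree_of_isTriv G ht a b
  have hsub : Set.range (pullback.fst V.hom j) ⊆ agree G a b := by
    rintro _ ⟨v', rfl⟩
    refine (mem_agree_pull_iff j G a b v').mp ?_
    exact ⟨(EtCoh.bc j).obj V, 𝟙 _, v', rfl, congrArg _ hab⟩
  intro v
  exact hcl.closure_subset_iff.mpr hsub (hD v)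

set_option backward.isDefEq.respectTransparency.types false in
/-- sections of `j^* G` over a preconnected `V ×_X U` come from `G(V)` when `G` is trivialized
over `V` -/
theorem exists_eq_unit_of_preconnected {V : X.Etale} {M : AddCommGrpCat.{u + 1}}
    {t : M ⟶ G.obj.obj (op V)} (ht : IsTriv G V M t)
    (hc : PreconnectedSpace ((EtCoh.bc j).obj V).left)
    (σ : ((EtCoh.pull j).obj G).obj.obj (op ((EtCoh.bc j).obj V))) :
    ∃ a : G.obj.obj (op V), ((EtCoh.pullPushAdj j).unit.app G).hom.app (op V) a = σ := by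
  by_cases hne : Nonempty ((EtCoh.bc j).obj V).left
  · obtain ⟨y₀⟩ := hne
    have ht' := isTriv_pull j ht
    obtain ⟨Z, g, ⟨m₀, hm₀⟩, ⟨z, hz⟩⟩ :=
      exists_mem_range_of_mem (ht'.surj ((EtCoh.bc j).obj V) (𝟙 _) σ) y₀
    refine ⟨t m₀, ?_⟩
    symm
    apply eq_of_agree_eq_univ
    have hcl := isClosed_agree_of_isTriv ((EtCoh.pull j).obj G) ht' σ
      (((EtCoh.pullPushAdj j).unit.app G).hom.app (op V) (t m₀))
    have hop := isOpen_agree ((EtCoh.pull j).obj G) σ
      (((EtCoh.pullPushAdj j).unit.app G).hom.app (op V) (t m₀))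
    have hy₀ : y₀ ∈ agree ((EtCoh.pull j).obj G) σ
        (((EtCoh.pullPushAdj j).unit.app G).hom.app (op V) (t m₀)) := by
      refine ⟨Z, g, z, hz, ?_⟩
      rw [Category.comp_id] at hm₀
      exact hm₀.symm
    have huniv := IsClopen.eq_univ ⟨hcl, hop⟩ ⟨y₀, hy₀⟩
    intro v
    rw [huniv]
    exact Set.mem_univ v
  · rw [not_nonempty_iff] at hne
    have hz := Groth.Agent.Lib.T2H8.ClosedEss.isZero_of_isEmpty ((EtCoh.pull j).obj G)
      ((EtCoh.bc j).obj V)
    have hss := AddCommGrpCat.subsingleton_of_isZero hz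
    exact ⟨0, hss.elim _ _⟩

set_option backward.isDefEq.respectTransparency.types false in
/-- criterion for the unit `G → j_* j^* G` to be an isomorphism, for a sheaf with compatible
trivializations over all étale `X`-schemes -/
theorem isIso_unit (M : AddCommGrpCat.{u + 1}) (t : ∀ V : X.Etale, M ⟶ G.obj.obj (op V))
    (ht : ∀ V, IsTriv G V M (t V))
    (hD : ∀ V : X.Etale, Dense (Set.range (pullback.fst V.hom j)))
    (hI : ∀ (V : X.Etale) (v : V.left), ∃ W : V.left.Opens, v ∈ W ∧
      PreconnectedSpace ((EtCoh.bc j).obj (opn V W)).left) :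
    IsIso ((EtCoh.pullPushAdj j).unit.app G) := by
  let φ := (EtCoh.pullPushAdj j).unit.app G
  haveI : Mono φ := by
    haveI : Mono ((sheafToPresheaf _ _).map φ) := by
      haveI : ∀ V, Mono (((sheafToPresheaf _ _).map φ).app V) := by
        intro V
        rw [AddCommGrpCat.mono_iff_injective]
        exact unit_injective j G (ht V.unop) (hD V.unop)
      exact NatTrans.mono_of_mono_app _
    exact (sheafToPresheaf _ _).mono_of_mono_map inferInstance
  haveI : Epi φ := by
    rw [← Sheaf.isLocallySurjective_iff_epi' AddCommGrpCat.{u + 1}]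
    refine ⟨fun {V} s => ?_⟩
    rw [mem_smallEtale_iff]
    intro v
    obtain ⟨W, hvW, hW⟩ := hI V v
    refine ⟨opn V W, opnι V W, ⟨v, hvW⟩, ?_, rfl⟩
    obtain ⟨a, ha⟩ := exists_eq_unit_of_preconnected j G (ht (opn V W)) hW
      (((EtCoh.push j).obj ((EtCoh.pull j).obj G)).obj.map (opnι V W).op s)
    exact ⟨a, ha⟩
  exact isIso_of_mono_of_epi φ

end Unit

end Groth.Agent.Lib.T2H8.NormalConst
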