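import Mathlib
import Groth.Agent.Lib.T2H8NormalConst
import Groth.Agent.Lib.T2H3TwConstIrr
import Groth.Agent.S9812

/-!
# The constant sheaf on a normal integral scheme: S0626, S0627, S3105
-/

set_option autoImplicit false
set_option linter.unusedSectionVars false
set_option linter.style.haveILetI false
universe u
open CategoryTheory CategoryTheory.Limits Opposite AlgebraicGeometry

namespace Groth.Agent.Lib.T2H8.NormalConstMain

open Groth.Agent.Lib.T2H8.NormalConst Groth.Agent.Lib.T2H8EtZarSheaf
open Groth.Agent.Lib.T2H3.TwConstIrr

section Top

variable {U X : Scheme.{u}} (j : U ⟶ X) [IsPreimmersion j]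

/-- `W ×_X U` is preconnected when the preimage of the image of `U` in `W` is -/
theorem preconnected_bc (W : X.Etale) (h : _root_.IsPreconnected (W.hom ⁻¹' Set.range j)) :
    PreconnectedSpace ((EtCoh.bc j).obj W).left := by
  have hemb : Topology.IsEmbedding (pullback.fst W.hom j) := (pullback.fst W.hom j).isEmbedding
  have hr : Set.range (pullback.fst W.hom j) = W.hom ⁻¹' Set.range j := Scheme.Pullback.range_fst _ _
  have h1 : _root_.IsPreconnected ((pullback.fst W.hom j) '' Set.univ) := by
    rw [Set.image_univ, hr]
    exact h
  exact ⟨(hemb.isInducing.isPreconnected_image).mp h1⟩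

variable [IsIntegral X] (hN : ∀ x : X, IsIntegrallyClosed (X.presheaf.stalk x))

include hN in
theorem geomUnibranch (x : X) : CAlg2.IsGeomUnibranch (X.presheaf.stalk x) := by
  haveI := hN x
  exact Groth.Agent.S9812.result (X.presheaf.stalk x)

/-- the fibre over the generic point is dense in an étale `X`-scheme -/
theorem dense_generic_fibre (V : X.Etale) : Dense (V.hom ⁻¹' {genericPoint X}) := by
  let p : V.left ⟶ X := V.hom
  haveI : Etale p := V.prop
  intro v
  rw [mem_closure_iff]
  intro O hO hvO
  obtain ⟨l, hl, hlv⟩ := exists_generic_specializes p v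
  exact ⟨l, hlv.mem_open hO hvO, hl⟩

include hN in
/-- local preconnectedness of the preimages of a subset `T` containing the generic point, which is
either open or reduced to the generic point -/
theorem exists_preconnected (T : Set X) (hT : IsOpen T ∨ T = {genericPoint X})
    (V : X.Etale) (v : V.left) :
    ∃ W : V.left.Opens, v ∈ W ∧ _root_.IsPreconnected ((opn V W).hom ⁻¹' T) := by
  let p : V.left ⟶ X := V.hom
  haveI : Etale p := V.prop
  obtain ⟨l, hl, hlv⟩ := exists_generic_specializes p v
  have hop : IsOpen (closure ({l} : Set V.left)) :=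
    isOpen_closure_generic p (geomUnibranch hN) l hl
  let W : V.left.Opens := ⟨closure {l}, hop⟩
  refine ⟨W, specializes_iff_mem_closure.mp hlv, ?_⟩
  rcases hT with hT | hT
  · -- open subset of an irreducible space
    haveI : PreirreducibleSpace (closure ({l} : Set V.left)) :=
      Subtype.preirreducibleSpace isIrreducible_singleton.closure.isPreirreducible
    haveI : PreirreducibleSpace (W : Scheme.{u}) :=
      inferInstanceAs (PreirreducibleSpace (closure ({l} : Set V.left)))
    have hopen : IsOpen ((opn V W).hom ⁻¹' T) := hT.preimage (opn V W).hom.continuous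
    exact ((PreirreducibleSpace.isPreirreducible_univ (X := (W : Scheme.{u}))).open_subset hopen
      (Set.subset_univ _)).isPreconnected
  · -- a single point
    apply Set.Subsingleton.isPreconnected
    intro a ha b hb
    rw [hT] at ha hb
    have ha' : V.hom a.1 = genericPoint X := ha
    have hb' : V.hom b.1 = genericPoint X := hb
    have e1 : a.1 = l := generic_fibre_closure p l a.1 hl ha' a.2
    have e2 : b.1 = l := generic_fibre_closure p l b.1 hl hb' b.2
    exact Subtype.ext (e1.trans e2.symm)

include hN in
/-- the main criterion -/
theorem isIso_unit_const (hT : IsOpen (Set.range j) ∨ Set.range j = {genericPoint X})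
    (hη : genericPoint X ∈ Set.range j) (M : Type) [AddCommGroup M] :
    IsIso ((EtCoh.pullPushAdj j).unit.app (EtCoh.const X M)) := by
  refine isIso_unit j (EtCoh.const X M) (Mv M) (tConst X M) (isTriv_const X M) ?_ ?_
  · intro V
    rw [Scheme.Pullback.range_fst]
    refine (dense_generic_fibre V).mono ?_
    intro v hv
    have : V.hom v = genericPoint X := hv
    change V.hom v ∈ Set.range j
    rw [this]
    exact hη
  · intro V v
    obtain ⟨W, hvW, hW⟩ := exists_preconnected hN (Set.range j) hT V v
    exact ⟨W, hvW, preconnected_bc j (opn V W) hW⟩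

end Top

section Main

variable (X : Scheme.{u}) [IsIntegral X] (hN : ∀ x : X, IsIntegrallyClosed (X.presheaf.stalk x))

include hN in
/-- **S0627** -/
theorem main_S0627 (U : X.Opens) (hU : (U : Set X).Nonempty) (M : Type) [AddCommGroup M] :
    IsIso ((EtCoh.pullPushAdj U.ι).unit.app (EtCoh.const X M)) := by
  have hr : Set.range U.ι = (U : Set X) := Scheme.Opens.range_ι U
  refine isIso_unit_const U.ι hN (Or.inl ?_) ?_ M
  · rw [hr]
    exact U.2
  · rw [hr]
    exact ((genericPoint_spec X).mem_open_set_iff U.2).mpr (by
      rw [Set.univ_inter]
      exact hU)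

include hN in
/-- **S3105** (with the hypothesis in the form of integrally closed stalks) -/
theorem main_residueField (M : Type) [AddCommGroup M] :
    IsIso ((EtCoh.pullPushAdj (X.fromSpecResidueField (genericPoint X))).unit.app
      (EtCoh.const X M)) := by
  have hr : Set.range (X.fromSpecResidueField (genericPoint X)) = {genericPoint X} :=
    Scheme.range_fromSpecResidueField _
  refine isIso_unit_const _ hN (Or.inr hr) ?_ M
  rw [hr]
  rfl

include hN in
/-- **S0626** -/
theorem main_S0626 (M : Type) [AddCommGroup M] :
    IsIso ((EtCoh.pullPushAdj (X.fromSpecStalk (genericPoint X))).unit.app (EtCoh.const X M)) := by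
  have hr : Set.range (X.fromSpecStalk (genericPoint X)) = {genericPoint X} := by
    rw [Scheme.range_fromSpecStalk]
    ext y
    simp only [Set.mem_ofPred_eq, Set.mem_singleton_iff]
    constructor
    · intro h
      exact (h.antisymm (genericPoint_specializes y)).eq
    · rintro rfl
      exact specializes_rfl
  refine isIso_unit_const _ hN (Or.inr hr) ?_ M
  rw [hr]
  rfl

end Main

end Groth.Agent.Lib.T2H8.NormalConstMain
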