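import Mathlib
import Groth.Agent.Lib.T2H8GeomPush
import Groth.Agent.Lib.T2H8NormalConstMain

set_option autoImplicit false
set_option linter.unusedSectionVars false
set_option linter.style.haveILetI false
universe u
open CategoryTheory CategoryTheory.Limits Opposite AlgebraicGeometry

namespace Groth.Agent.Lib.T2H8.NormalAlgClosed

open Groth.Agent.Lib.T2H8.NormalConst Groth.Agent.Lib.T2H8.NormalConstMain
open Groth.Agent.Lib.T2H8.FLC Groth.Agent.Lib.T2H8.LocTriv Groth.Agent.Lib.T2H8AgreeAb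
open Groth.Agent.Lib.Helper16.SmallEtale Groth.Agent.Lib.T2H8.ClosedPts

set_option backward.isDefEq.respectTransparency.types false in
/-- sections of a trivialized sheaf over a preconnected étale scheme come from the chart -/
theorem exists_eq_chart_of_preconnected {X : Scheme.{u}} (H : EtCoh.Ab X) {V : X.Etale}
    {M : AddCommGrpCat.{u + 1}} {t : M ⟶ H.obj.obj (op V)} (ht : IsTriv H V M t)
    [PreconnectedSpace V.left] (v₀ : V.left) (σ : H.obj.obj (op V)) : ∃ m, t m = σ := by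
  obtain ⟨Z, g, ⟨m₀, hm₀⟩, ⟨z, hz⟩⟩ := exists_mem_range_of_mem (ht.surj V (𝟙 _) σ) v₀
  refine ⟨m₀, ?_⟩
  symm
  apply eq_of_agree_eq_univ
  have hcl := isClosed_agree_of_isTriv H ht σ (t m₀)
  have hop := isOpen_agree H σ (t m₀)
  have hv₀ : v₀ ∈ agree H σ (t m₀) := by
    refine ⟨Z, g, z, hz, ?_⟩
    rw [Category.comp_id] at hm₀
    exact hm₀.symm
  have huniv := IsClopen.eq_univ ⟨hcl, hop⟩ ⟨v₀, hv₀⟩
  intro v
  rw [huniv]
  exact Set.mem_univ v

set_option backward.isDefEq.respectTransparency.types false in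
/-- **S19130** -/
theorem main_S19130 (p : ℕ) [Fact p.Prime] (Y : Scheme.{u}) [IsIntegral Y]
    (hnorm : ∀ y : Y, IsIntegrallyClosed (Y.presheaf.stalk y)) [IsAlgClosed Y.functionField] :
    Nat.card (EtCoh.H Y (EtCoh.const Y (ZMod p)) 0) = p ∧
      (∀ i : ℕ, 0 < i → Subsingleton (EtCoh.H Y (EtCoh.const Y (ZMod p)) i)) ∧
      ∀ U : Y.Opens, (U : Set Y).Nonempty →
        IsIso ((EtCoh.pullPushAdj U.ι).unit.app (EtCoh.const Y (ZMod p))) := by
  refine ⟨?_, ?_, fun U hU => main_S0627 Y hnorm U hU (ZMod p)⟩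
  · -- degree zero
    let e0 := Sheaf.H.equiv₀ (EtCoh.const Y (ZMod p)) (EtCore.topIsTerminal Y)
    rw [Nat.card_congr e0.toEquiv]
    have ht := isTriv_const Y (ZMod p) (EtCoh.top Y)
    haveI : PreconnectedSpace (EtCoh.top Y).left :=
      inferInstanceAs (PreconnectedSpace Y)
    obtain ⟨y₀⟩ : Nonempty Y := inferInstance
    have hbij : Function.Bijective (tConst Y (ZMod p) (EtCoh.top Y)) :=
      ⟨ht.injective _ y₀, fun σ => exists_eq_chart_of_preconnected _ ht y₀ σ⟩
    rw [← Nat.card_congr (Equiv.ofBijective _ hbij), Nat.card_congr Equiv.ulift, Nat.card_zmod]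
  · intro i hi
    obtain ⟨q, rfl⟩ : ∃ q, i = q + 1 := ⟨i - 1, by lia⟩
    let K : Type u := Y.functionField
    let g : Groth.Agent.Lib.T2H8.SepClosedSections.Xk K ⟶ Y := Y.fromSpecStalk (genericPoint Y)
    haveI : IsIso ((EtCoh.pullPushAdj g).unit.app (EtCoh.const Y (ZMod p))) :=
      main_S0626 Y hnorm (ZMod p)
    let e := asIso ((EtCoh.pullPushAdj g).unit.app (EtCoh.const Y (ZMod p)))
    refine subsingleton_H_of_iso e (q + 1) ⟨fun a b => ?_⟩
    exact (Groth.Agent.Lib.T2H8.GeomPush.H_push_eq_zero K g _ q a).trans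
      (Groth.Agent.Lib.T2H8.GeomPush.H_push_eq_zero K g _ q b).symm

end Groth.Agent.Lib.T2H8.NormalAlgClosed
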