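import Mathlib
import Groth.Agent.Lib.T2H8NormalConst
import Groth.Agent.S9812
import Groth.Agent.Lib.Helper3EtGUSchD
import Groth.Prelude.Def_Pi1

set_option autoImplicit false
set_option linter.unusedSectionVars false
set_option linter.style.haveILetI false
universe u
open CategoryTheory CategoryTheory.Limits Opposite AlgebraicGeometry TopologicalSpace

namespace Groth.Agent.Lib.T2H8.NormalConstOpen

open Groth.Agent.Lib.T2H8.NormalConst Groth.Agent.Lib.T2H8EtZarSheaf
open Groth.Agent.Lib.T2H8.FLC Groth.Agent.Lib.T2H8.LocTriv Groth.Agent.Lib.T2H8AgreeAb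
open Groth.Agent.Lib.Helper16.SmallEtale Groth.Agent.Lib.T2H8.LocTrivPull
open Groth.Agent.Lib.T2H8FibreConstAb

section Top

/-- a point whose local ring is a domain cannot lie in the closures of two disjoint basic opens -/
theorem not_mem_closure_basicOpen (W : Scheme.{u}) {U : W.Opens} (hU : IsCompact (U : Set W))
    (f g : Γ(W, U)) (x : W) (hx : x ∈ U) [IsDomain (W.presheaf.stalk x)]
    (hdisj : W.basicOpen f ⊓ W.basicOpen g = ⊥)
    (hf : x ∈ closure (W.basicOpen f : Set W)) (hg : x ∈ closure (W.basicOpen g : Set W)) :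
    False := by
  have key : ∀ k : Γ(W, U), x ∈ closure (W.basicOpen k : Set W) →
      W.presheaf.germ U x hx k ≠ 0 := by
    intro k hk h0
    have h0' : W.presheaf.germ U x hx k = W.presheaf.germ U x hx 0 := by rw [h0, map_zero]
    obtain ⟨N, hxN, i, i', hN⟩ := W.presheaf.germ_eq x hx hx k 0 h0'
    rw [mem_closure_iff] at hk
    obtain ⟨y, hyN, hyk⟩ := hk N N.2 hxN
    have h1 : W.basicOpen (W.presheaf.map i.op k) = N ⊓ W.basicOpen k := Scheme.basicOpen_res _ _ _
    have h2 : W.basicOpen (W.presheaf.map i.op k) = ⊥ := by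
      rw [hN, map_zero]
      exact Scheme.basicOpen_zero _ _
    have h3 : y ∈ N ⊓ W.basicOpen k := ⟨hyN, hyk⟩
    rw [← h1, h2] at h3
    exact h3
  have hfg : IsNilpotent (f * g) := by
    rw [Scheme.isNilpotent_iff_basicOpen_eq_bot_of_isCompact hU, Scheme.basicOpen_mul]
    exact hdisj
  have h1 : IsNilpotent (W.presheaf.germ U x hx (f * g)) := hfg.map _
  have h2 : W.presheaf.germ U x hx (f * g) = 0 := h1.eq_zero
  rw [map_mul] at h2
  rcases mul_eq_zero.mp h2 with h | h
  · exact key f hf h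
  · exact key g hg h

/-- in an affine scheme whose local rings are domains, disjoint quasi-compact opens have disjoint
closures -/
theorem disjoint_closure (W : Scheme.{u}) [IsAffine W]
    (hdom : ∀ w : W, IsDomain (W.presheaf.stalk w)) (O₁ O₂ : W.Opens)
    (h₁ : IsCompact (O₁ : Set W)) (h₂ : IsCompact (O₂ : Set W))
    (hd : Disjoint (O₁ : Set W) (O₂ : Set W)) (x : W)
    (hx₁ : x ∈ closure (O₁ : Set W)) (hx₂ : x ∈ closure (O₂ : Set W)) : False := by
  have hb := isBasis_basicOpen W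
  have hb' : ∀ f : Γ(W, ⊤), IsCompact ((W.basicOpen f : W.Opens) : Set W) :=
    fun f => ((isAffineOpen_top W).basicOpen f).isCompact
  obtain ⟨s₁, hs₁, e₁⟩ :=
    (Opens.IsBasis.isCompact_open_iff_eq_finite_iUnion _ hb hb' (O₁ : Set W)).mp ⟨h₁, O₁.2⟩
  obtain ⟨s₂, hs₂, e₂⟩ :=
    (Opens.IsBasis.isCompact_open_iff_eq_finite_iUnion _ hb hb' (O₂ : Set W)).mp ⟨h₂, O₂.2⟩
  have c₁ : x ∈ ⋃ f ∈ s₁, closure ((W.basicOpen f : W.Opens) : Set W) := by
    rw [← hs₁.closure_biUnion, ← e₁]
    exact hx₁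
  have c₂ : x ∈ ⋃ f ∈ s₂, closure ((W.basicOpen f : W.Opens) : Set W) := by
    rw [← hs₂.closure_biUnion, ← e₂]
    exact hx₂
  obtain ⟨f, hf, hxf⟩ := Set.mem_iUnion₂.mp c₁
  obtain ⟨g, hg, hxg⟩ := Set.mem_iUnion₂.mp c₂
  haveI := hdom x
  have hfO : ((W.basicOpen f : W.Opens) : Set W) ⊆ (O₁ : Set W) := by
    rw [e₁]
    exact Set.subset_biUnion_of_mem (u := fun f => ((W.basicOpen f : W.Opens) : Set W)) hf
  have hgO : ((W.basicOpen g : W.Opens) : Set W) ⊆ (O₂ : Set W) := by
    rw [e₂]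
    exact Set.subset_biUnion_of_mem (u := fun f => ((W.basicOpen f : W.Opens) : Set W)) hg
  refine not_mem_closure_basicOpen W (U := ⊤) CompactSpace.isCompact_univ f g x trivial ?_ hxf hxg
  rw [eq_bot_iff]
  intro y hy
  exact Set.disjoint_left.mp hd (hfO hy.1) (hgO hy.2)

end Top

section Unit

variable {U X : Scheme.{u}} (j : U ⟶ X) (G : EtCoh.Ab X)

set_option backward.isDefEq.respectTransparency.types false in
/-- criterion for the unit `G → j_* j^* G` to be an isomorphism, with an abstract local lifting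
hypothesis -/
theorem isIso_unit' (M : AddCommGrpCat.{u + 1}) (t : ∀ V : X.Etale, M ⟶ G.obj.obj (op V))
    (ht : ∀ V, IsTriv G V M (t V))
    (hD : ∀ V : X.Etale, Dense (Set.range (pullback.fst V.hom j)))
    (hS : ∀ (V : X.Etale) (σ : ((EtCoh.pull j).obj G).obj.obj (op ((EtCoh.bc j).obj V)))
      (v : V.left), ∃ (W : X.Etale) (g : W ⟶ V) (w : W.left), g.left w = v ∧
        ∃ a : G.obj.obj (op W), ((EtCoh.pullPushAdj j).unit.app G).hom.app (op W) a =
          ((EtCoh.pull j).obj G).obj.map ((EtCoh.bc j).map g).op σ) :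
    IsIso ((EtCoh.pullPushAdj j).unit.app G) := by
  let φ := (EtCoh.pullPushAdj j).unit.app G
  haveI : Mono φ := by
    haveI : Mono ((sheafToPresheaf _ _).map φ) := by
      haveI : ∀ V, Mono (((sheafToPresheaf _ _).map φ).app V) := by
        intro V
        rw [AddCommGrpCat.mono_iff_injective]
        exact unit_injective j G (ht V.unop) (hD V.unop)
      exact NatTrans.mono_of_mono_app _
    exact (sheafToPresheaf _ _).mono_of_mono_map inferInstance
  haveI : Epi φ := by
    rw [← Sheaf.isLocallySurjective_iff_epi' AddCommGrpCat.{u + 1}]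
    refine ⟨fun {V} s => ?_⟩
    rw [mem_smallEtale_iff]
    intro v
    obtain ⟨W, g, w, hw, a, ha⟩ := hS V s v
    exact ⟨W, g, w, ⟨a, ha⟩, hw⟩
  exact isIso_of_mono_of_epi φ

variable [IsOpenImmersion j] [QuasiCompact j]

set_option backward.isDefEq.respectTransparency.types false in
/-- local lifting of sections of `j^* G` over an affine étale `X`-scheme whose local rings are
domains, for a quasi-compact open immersion `j` -/
theorem exists_local_lift {M : AddCommGrpCat.{u + 1}} (V : X.Etale) [IsAffine V.left]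
    {t : M ⟶ G.obj.obj (op V)} (ht : IsTriv G V M t)
    (hdom : ∀ v : V.left, IsDomain (V.left.presheaf.stalk v))
    (hD : Dense (Set.range (pullback.fst V.hom j)))
    (σ : ((EtCoh.pull j).obj G).obj.obj (op ((EtCoh.bc j).obj V))) (v : V.left) :
    ∃ W : V.left.Opens, v ∈ W ∧ ∃ a : G.obj.obj (op (opn V W)),
      ((EtCoh.pullPushAdj j).unit.app G).hom.app (op (opn V W)) a =
        ((EtCoh.pull j).obj G).obj.map ((EtCoh.bc j).map (opnι V W)).op σ := by
  classical
  let Y := (EtCoh.bc j).obj V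
  let G' := (EtCoh.pull j).obj G
  let η := ((EtCoh.pullPushAdj j).unit.app G).hom.app (op V)
  have ht' : IsTriv G' Y M (t ≫ η) := isTriv_pull j ht
  let fst : Y.left ⟶ V.left := pullback.fst V.hom j
  haveI : IsOpenImmersion fst := inferInstanceAs (IsOpenImmersion (pullback.fst V.hom j))
  haveI : QuasiCompact fst := inferInstanceAs (QuasiCompact (pullback.fst V.hom j))
  haveI : CompactSpace Y.left := QuasiCompact.compactSpace_of_compactSpace fst
  let A : M → Set Y.left := fun m => agree G' σ ((t ≫ η) m)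
  have hAo : ∀ m, IsOpen (A m) := fun m => isOpen_agree G' σ ((t ≫ η) m)
  have hAc : ∀ m, IsClosed (A m) := fun m => isClosed_agree_of_isTriv G' ht' σ ((t ≫ η) m)
  have hcov : ∀ y : Y.left, ∃ m, y ∈ A m := by
    intro y
    obtain ⟨Z, g, ⟨m, hm⟩, ⟨z, hz⟩⟩ := exists_mem_range_of_mem (ht'.surj Y (𝟙 _) σ) y
    refine ⟨m, Z, g, z, hz, ?_⟩
    rw [Category.comp_id] at hm
    exact hm.symm
  have hdisjA : ∀ m m', m ≠ m' → Disjoint (A m) (A m') := by
    intro m m' hne
    rw [Set.disjoint_left]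
    intro y h1 h2
    have h3 := agree_trans G' _ _ _ y (agree_symm G' _ _ y h1) h2
    obtain ⟨Z, g, z, hz, hg⟩ := h3
    rcases ht'.inj Z g m m' hg with h | h
    · exact hne h
    · exact bot_not_mem z h
  obtain ⟨F, hF⟩ : ∃ F : Finset M, ∀ y : Y.left, ∃ m ∈ F, y ∈ A m := by
    obtain ⟨F, hF⟩ := isCompact_univ.elim_finite_subcover A hAo
      (fun y _ => Set.mem_iUnion.mpr (hcov y))
    refine ⟨F, fun y => ?_⟩
    obtain ⟨m, hm, hy⟩ := Set.mem_iUnion₂.mp (hF (Set.mem_univ y))
    exact ⟨m, hm, hy⟩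
  let O : M → V.left.Opens := fun m => ⟨fst '' (A m), fst.isOpenEmbedding.isOpenMap _ (hAo m)⟩
  have hOc : ∀ m, IsCompact (O m : Set V.left) :=
    fun m => ((hAc m).isCompact).image fst.continuous
  have hOd : ∀ m m', m ≠ m' → Disjoint (O m : Set V.left) (O m' : Set V.left) := by
    intro m m' hne
    exact (Set.disjoint_image_iff fst.isOpenEmbedding.injective).mpr (hdisjA m m' hne)
  have hcl : v ∈ ⋃ m ∈ (F : Set M), closure (O m : Set V.left) := by
    have h1 : Set.range fst ⊆ ⋃ m ∈ (F : Set M), (O m : Set V.left) := by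
      rintro _ ⟨y, rfl⟩
      obtain ⟨m, hm, hy⟩ := hF y
      exact Set.mem_biUnion (Finset.mem_coe.mpr hm) ⟨y, hy, rfl⟩
    have h2 := closure_mono h1 (hD v)
    rwa [F.finite_toSet.closure_biUnion] at h2
  obtain ⟨m₀, hm₀F, hvm₀⟩ := Set.mem_iUnion₂.mp hcl
  let C : Set V.left := ⋃ m ∈ ((F.erase m₀ : Finset M) : Set M), closure (O m : Set V.left)
  have hCc : IsClosed C :=
    (F.erase m₀).finite_toSet.isClosed_biUnion (fun _ _ => isClosed_closure)
  have hvC : v ∉ C := by
    intro h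
    obtain ⟨m, hm, hvm⟩ := Set.mem_iUnion₂.mp h
    have hne : m ≠ m₀ := (Finset.mem_erase.mp (Finset.mem_coe.mp hm)).1
    exact disjoint_closure V.left hdom (O m) (O m₀) (hOc m) (hOc m₀) (hOd m m₀ hne) v hvm hvm₀
  let W : V.left.Opens := ⟨Cᶜ, hCc.isOpen_compl⟩
  refine ⟨W, hvC, G.obj.map (opnι V W).op (t m₀), ?_⟩
  have nat := NatTrans.naturality_apply ((EtCoh.pullPushAdj j).unit.app G).hom (opnι V W).op (t m₀)
  refine nat.trans ?_
  symm
  let h := (EtCoh.bc j).map (opnι V W)
  change G'.obj.map h.op σ = G'.obj.map h.op ((t ≫ η) m₀)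
  apply eq_of_agree_eq_univ
  intro y'
  refine (mem_agree_map_iff G' h σ ((t ≫ η) m₀) y').mpr ?_
  obtain ⟨m, hmF, hy⟩ := hF (h.left y')
  by_cases hmm : m = m₀
  · rw [← hmm]
    exact hy
  · exfalso
    have sq := (EtCoh.isPullback_bc_map j (opnι V W)).w
    have e1 : fst (h.left y') = (opnι V W).left
        ((pullback.fst (opn V W).hom j : ((EtCoh.bc j).obj (opn V W)).left ⟶ (opn V W).left) y') :=
      congrArg (fun k : ((EtCoh.bc j).obj (opn V W)).left ⟶ V.left => k y') sq
    have e2 : fst (h.left y') ∈ (W : Set V.left) := by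
      rw [e1]
      exact ((pullback.fst (opn V W).hom j :
        ((EtCoh.bc j).obj (opn V W)).left ⟶ (opn V W).left) y').2
    apply e2
    refine Set.mem_biUnion (Finset.mem_coe.mpr (Finset.mem_erase.mpr ⟨hmm, hmF⟩)) ?_
    exact subset_closure ⟨h.left y', hy, rfl⟩

end Unit

section Main

set_option backward.isDefEq.respectTransparency.types false in
/-- **S3104** -/
theorem main_S3104 (X U : Scheme.{u}) (hX : Pi1.IsNormalScheme X)
    (j : U ⟶ X) [IsOpenImmersion j] [QuasiCompact j] (hj : Dense (Set.range j))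
    (M : Type) [AddCommGroup M] :
    IsIso ((EtCoh.pullPushAdj j).unit.app (EtCoh.const X M)) := by
  have hD : ∀ V : X.Etale, Dense (Set.range (pullback.fst V.hom j)) := by
    intro V
    haveI : Etale V.hom := V.prop
    rw [Scheme.Pullback.range_fst]
    exact hj.preimage V.hom.isOpenMap
  refine isIso_unit' j (EtCoh.const X M) (Mv M) (tConst X M) (isTriv_const X M) hD ?_
  intro V σ v
  obtain ⟨A, hA, hvA, -⟩ := exists_isAffineOpen_mem_and_subset (x := v)
    (U := (⊤ : V.left.Opens)) trivial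
  let V' : X.Etale := opn V A
  haveI : IsAffine V'.left := hA
  have hdom : ∀ w : V'.left, IsDomain (V'.left.presheaf.stalk w) := by
    intro w
    let p : V'.left ⟶ X := V'.hom
    haveI : Etale p := V'.prop
    haveI := (hX (p w)).1
    haveI := (hX (p w)).2
    have h1 := Groth.Agent.Lib.Helper3.EtGUSch.isDomain_and_isGeomUnibranch_stalk_of_etale_nhd p w
      (hX (p w)).1 (Groth.Agent.S9812.result (X.presheaf.stalk (p w)))
      ⟨⊤, trivial, inferInstance⟩
    exact h1.1
  obtain ⟨W, hvW, a, ha⟩ := exists_local_lift j (EtCoh.const X M) V' (isTriv_const X M V') hdom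
    (hD V') (((EtCoh.pull j).obj (EtCoh.const X M)).obj.map ((EtCoh.bc j).map (opnι V A)).op σ)
    ⟨v, hvA⟩
  refine ⟨opn V' W, opnι V' W ≫ opnι V A, ⟨⟨v, hvA⟩, hvW⟩, rfl, a, ?_⟩
  rw [ha, Functor.map_comp, op_comp, Functor.map_comp]
  rfl

end Main

end Groth.Agent.Lib.T2H8.NormalConstOpen
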