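import Mathlib
import Groth.Agent.Lib.T2H8FieldTorsion
import Groth.Agent.Lib.Helper9EtMVCompare
import Groth.Agent.Lib.Helper16DimShiftNat
import Groth.Agent.Lib.T2H8EtTraceTorsion

/-!
# Higher direct images from the spectrum of a field are torsion sheaves
-/

set_option autoImplicit false
set_option linter.unusedSectionVars false
set_option linter.style.haveILetI false
universe u
open CategoryTheory CategoryTheory.Limits Opposite AlgebraicGeometry Abelian

namespace Groth.Agent.Lib.T2H8.RpushTorsion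

open Groth.Agent.Lib.Helper9.EtPull Groth.Agent.Lib.Helper9.EtMV
  Groth.Agent.Lib.T2H8.EtTrace Groth.Agent.Lib.T2H8.LocVanish Groth.Agent.Lib.T2H8.FieldTorsion
  Groth.Agent.Lib.Helper9.HofPush

section FiniteOverField

variable (κ : Type u) [Field κ]

/-- classes of positive degree on a scheme finite étale over a field are torsion -/
theorem exists_nsmul_eq_zero_of_finite {T : Scheme.{u}} (j : T ⟶ Spec (CommRingCat.of κ))
    [IsFinite j] (H : EtCoh.Ab T) (i : ℕ) (hi : 0 < i) (x : EtCoh.H T H i) :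
    ∃ d : ℕ, 0 < d ∧ d • x = 0 := by
  have hbij := HofPush_bijective j H
    (fun q hq => Groth.Agent.Lib.T2H8PropBPush.isZero_Rpush_of_preservesEpimorphisms j
      (Groth.Agent.Lib.T2H8FinitePushExact.push_preservesEpimorphisms j) _ q hq) i
  obtain ⟨y, rfl⟩ := hbij.2 x
  obtain ⟨d, hd, h⟩ := exists_nsmul_eq_zero κ _ i hi y
  exact ⟨d, hd, by rw [← map_nsmul, h, map_zero]⟩

variable {κ}

lemma zhEquiv_nsmul {X : Scheme.{u}} (P : X.Etale) (F : EtCoh.Ab X) (φ : Zh P ⟶ F) (d : ℕ) :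
    zhEquiv P F (d • φ) = d • zhEquiv P F φ := by
  have h1 : d • φ = φ ≫ (d • 𝟙 F) := by
    rw [Preadditive.comp_nsmul, Category.comp_id]
  rw [h1, zhEquiv_comp]
  exact nsmul_hom_app_apply (𝟙 F) d (op P) _

set_option backward.isDefEq.respectTransparency.types false in
/-- a positive multiple of a section of the quotient lifts, over an affine object -/
theorem exists_nsmul_lift {Sx : ShortComplex (EtCoh.Ab (Spec (CommRingCat.of κ)))}
    (hS : Sx.ShortExact) (P : (Spec (CommRingCat.of κ)).Etale) [IsAffine P.left]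
    (t : Sx.X₃.obj.obj (op P)) :
    ∃ (d : ℕ) (s : Sx.X₂.obj.obj (op P)), 0 < d ∧ Sx.g.hom.app (op P) s = d • t := by
  let j : P.left ⟶ Spec (CommRingCat.of κ) := P.hom
  haveI : Etale j := inferInstanceAs (Etale P.hom)
  haveI : IsFinite j := isFinite_of_etale_of_isAffine κ j
  haveI : EtShriek.JCont j := Groth.Agent.Lib.Helper9.JContAll.jCont j
  let e : obj j ⟶ P := MorphismProperty.Over.homMk (𝟙 _) (by
    change 𝟙 _ ≫ P.hom = 𝟙 _ ≫ P.hom
    rfl)
  let e' : P ⟶ obj j := MorphismProperty.Over.homMk (𝟙 _) (by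
    change 𝟙 _ ≫ (𝟙 _ ≫ P.hom) = P.hom
    rw [Category.id_comp, Category.id_comp])
  have hee : e' ≫ e = 𝟙 P := by
    apply MorphismProperty.Over.Hom.ext
    change 𝟙 _ ≫ 𝟙 _ = 𝟙 _
    rw [Category.id_comp]
  let t' := Sx.X₃.obj.map e.op t
  let φ : Zh (obj j) ⟶ Sx.X₃ := (zhEquiv (obj j) Sx.X₃).symm t'
  let δ : (Zh (obj j) ⟶ Sx.X₃) →+ Ext.{u + 1} (Zh (obj j)) Sx.X₁ 1 :=
    (hS.extClass.postcomp (Zh (obj j)) (zero_add 1)).comp
      (Ext.addEquiv₀ (X := Zh (obj j)) (Y := Sx.X₃)).symm.toAddMonoidHom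
  have hδ : ∀ ψ : Zh (obj j) ⟶ Sx.X₃, δ ψ = (Ext.mk₀ ψ).comp hS.extClass (zero_add 1) :=
    fun ψ => rfl
  obtain ⟨d, hd, h⟩ := exists_nsmul_eq_zero_of_finite κ j ((EtCoh.pull j).obj Sx.X₁) 1 one_pos
    (Phi j Sx.X₁ 1 (δ φ))
  have h1 : δ (d • φ) = 0 := by
    apply (Phi j Sx.X₁ 1).injective
    rw [map_nsmul, map_nsmul, h, map_zero]
  rw [hδ] at h1
  obtain ⟨x₂, hx₂⟩ := Ext.covariant_sequence_exact₃ (Zh (obj j)) hS (Ext.mk₀ (d • φ)) (n₁ := 1)
    rfl h1
  obtain ⟨ψ, rfl⟩ := (Ext.mk₀_bijective _ _).2 x₂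
  rw [Ext.mk₀_comp_mk₀] at hx₂
  have hψ : ψ ≫ Sx.g = d • φ := (Ext.mk₀_bijective _ _).1 hx₂
  let s' := zhEquiv (obj j) Sx.X₂ ψ
  refine ⟨d, Sx.X₂.obj.map e'.op s', hd, ?_⟩
  have h2 : Sx.g.hom.app (op (obj j)) s' = d • t' := by
    have := zhEquiv_comp (obj j) ψ Sx.g
    rw [hψ, zhEquiv_nsmul, Equiv.apply_symm_apply] at this
    exact this.symm
  have h3 := NatTrans.naturality_apply Sx.g.hom e'.op s'
  refine h3.trans ?_
  rw [h2, map_nsmul]
  congr 1
  have h4 := (Groth.Agent.Lib.T2H8.Excision.map_comp_apply Sx.X₃ e' e t).symm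
  refine h4.trans ?_
  rw [hee]
  simp

end FiniteOverField

section Push

open Groth.Agent.Lib.Helper16.DimShift Groth.Agent.Lib.Helper16.SmallEtale

variable {κ : Type u} [Field κ] {X : Scheme.{u}} (f : Spec (CommRingCat.of κ) ⟶ X)

/-- a morphism from the spectrum of a field is affine -/
instance isAffineHom_of_field : IsAffineHom f := by
  constructor
  intro U hU
  by_cases h : (default : Spec (CommRingCat.of κ)) ∈ f ⁻¹ᵁ U
  · have : f ⁻¹ᵁ U = ⊤ := by
      ext z
      rw [Subsingleton.elim z default]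
      exact ⟨fun _ => trivial, fun _ => h⟩
    rw [this]
    exact isAffineOpen_top _
  · have : f ⁻¹ᵁ U = ⊥ := by
      ext z
      rw [Subsingleton.elim z default]
      exact ⟨fun h' => (h h').elim, fun h' => h'.elim⟩
    rw [this]
    exact isAffineOpen_bot _

set_option backward.isDefEq.respectTransparency.types false in
/-- the cokernel of `f_*` of an epimorphism is a torsion sheaf -/
theorem isTorsion_cokernel_push {A B : EtCoh.Ab (Spec (CommRingCat.of κ))} (p : A ⟶ B) [Epi p] :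
    EtCoh.IsTorsion (cokernel ((EtCoh.push f).map p)) := by
  intro U s x
  let πT : (EtCoh.push f).obj B ⟶ cokernel ((EtCoh.push f).map p) := cokernel.π _
  have hls : Sheaf.IsLocallySurjective πT :=
    (Sheaf.isLocallySurjective_iff_epi' _ πT).2 inferInstance
  have hmem := Presheaf.imageSieve_mem X.smallEtaleTopology πT.hom (U := op U) s
  rw [mem_smallEtale_iff] at hmem
  obtain ⟨V₁, g₁, y, ⟨t₁, ht₁⟩, hy⟩ := hmem x
  obtain ⟨_, ⟨W₀, hW₀, rfl⟩, hyW, -⟩ := (V₁.left.isBasis_affineOpens).exists_subset_of_mem_open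
    (Set.mem_univ y) isOpen_univ
  let W' : V₁.left.Opens := W₀
  have hW' : IsAffineOpen W' := hW₀
  let V : X.Etale := Scheme.Etale.mk (W'.ι ≫ V₁.hom)
  let i : V ⟶ V₁ := MorphismProperty.Over.homMk W'.ι rfl
  haveI : IsAffine V.left := hW'
  let P := (EtCoh.bc f).obj V
  let vh : V.left ⟶ X := V.hom
  haveI : IsAffine P.left := inferInstanceAs (IsAffine (pullback vh f))
  let t : ((EtCoh.push f).obj B).obj.obj (op V) := ((EtCoh.push f).obj B).obj.map i.op t₁
  let tP : B.obj.obj (op P) := t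
  have hS : (ShortComplex.mk (kernel.ι p) p (kernel.condition p)).ShortExact := by
    refine ShortComplex.ShortExact.mk' ?_ inferInstance inferInstance
    exact ShortComplex.exact_of_f_is_kernel _ (kernelIsKernel p)
  obtain ⟨d, s', hd, hs'⟩ := exists_nsmul_lift hS P tP
  refine ⟨V, i ≫ g₁, ⟨⟨y, hyW⟩, hy⟩, ?_⟩
  rw [isOfFinAddOrder_iff_nsmul_eq_zero]
  refine ⟨d, hd, ?_⟩
  have h1 : (cokernel ((EtCoh.push f).map p)).obj.map (i ≫ g₁).op s =
      πT.hom.app (op V) t := by
    rw [Groth.Agent.Lib.T2H8.Excision.map_comp_apply]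
    have h2 : πT.hom.app (op V₁) t₁ = (cokernel ((EtCoh.push f).map p)).obj.map g₁.op s := ht₁
    rw [← h2]
    exact (NatTrans.naturality_apply πT.hom i.op t₁).symm
  rw [h1, ← map_nsmul]
  have h3 : d • t = ((EtCoh.push f).map p).hom.app (op V) s' := hs'.symm
  rw [h3]
  have h4 := congrArg (fun m : (EtCoh.push f).obj A ⟶ cokernel ((EtCoh.push f).map p) =>
    m.hom.app (op V) s') (cokernel.condition ((EtCoh.push f).map p))
  exact h4

/-- higher direct images along a morphism from the spectrum of a field are torsion sheaves -/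
theorem isTorsion_Rpush (F : EtCoh.Ab (Spec (CommRingCat.of κ))) (q : ℕ) (hq : 1 ≤ q) :
    EtCoh.IsTorsion ((EtCoh.Rpush f q).obj F) := by
  obtain ⟨n, rfl⟩ : ∃ n, q = n + 1 := ⟨q - 1, by omega⟩
  haveI : PreservesLimits (EtCoh.push f) := (EtCoh.pullPushAdj f).rightAdjoint_preservesLimits
  let I : InjectiveResolution F := injectiveResolution F
  haveI : Epi (gg I n) := (shortExact_ofResolution I n).epi_g
  exact isTorsion_of_iso (rightDerivedSuccIso (EtCoh.push f) I n).symm
    (isTorsion_cokernel_push f (gg I n))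

end Push

end Groth.Agent.Lib.T2H8.RpushTorsion
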