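import Mathlib
import Groth.Agent.Lib.T2H8NormalConstMain
import Groth.Agent.Lib.T2H8RpushTorsion
import Groth.Agent.Lib.T2H8FieldTorsion
import Groth.Agent.Lib.T2H8ConstSES
import Groth.Agent.Lib.Helper9JContAll
import Groth.Agent.Lib.Helper9HofPush
import Groth.Agent.Lib.Helper9EtMVCompare
import Groth.Agent.Lib.Helper16EtGlue
import Groth.Agent.Lib.Helper4EtNormalSch
import Groth.Agent.Lib.Helper14LocNoeth

/-!
# `H^i(X, ℚ) = 0` for a normal Noetherian scheme `X` and `i > 0` (S13956)
-/

set_option autoImplicit false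
set_option linter.unusedSectionVars false
set_option linter.style.haveILetI false
universe w v u
open CategoryTheory CategoryTheory.Limits Opposite AlgebraicGeometry Abelian

namespace Groth.Agent.Lib.T2H8.NormalQ

section ExtFamily

variable {C : Type u} [Category.{v} C] [Abelian C] [HasExt.{w} C] [EnoughInjectives C]

/-- the standard short exact sequence `0 → F → I → Q → 0` with `I` injective -/
noncomputable def SI (F : C) : ShortComplex C :=
  ShortComplex.mk (Injective.ι F) (cokernel.π (Injective.ι F)) (cokernel.condition _)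

lemma shortExact_SI (F : C) : (SI F).ShortExact :=
  { exact := ShortComplex.exact_cokernel (Injective.ι F)
    mono_f := inferInstanceAs (Mono (Injective.ι F))
    epi_g := inferInstanceAs (Epi (cokernel.π (Injective.ι F))) }

instance (F : C) : Injective (SI F).X₂ := inferInstanceAs (Injective (Injective.under F))

attribute [local instance] Ext.subsingleton_of_injective in
/-- if `Z` is the coproduct of the `A a` (in the sense of the universal property for maps out of
it), then a class in `Ext^n(Z, F)` vanishes as soon as all its restrictions to the `A a` do -/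
theorem ext_eq_zero_of_family {μ : Type*} {Z : C} (A : μ → C) (u : ∀ a, A a ⟶ Z)
    (hinj : ∀ (G : C) (l l' : Z ⟶ G), (∀ a, u a ≫ l = u a ≫ l') → l = l')
    (hsurj : ∀ (G : C) (s : ∀ a, A a ⟶ G), ∃ l : Z ⟶ G, ∀ a, u a ≫ l = s a) :
    ∀ (n : ℕ) (F : C) (x : Ext.{w} Z F n),
      (∀ a, (Ext.mk₀ (u a)).comp x (zero_add n) = 0) → x = 0 := by
  intro n
  induction n with
  | zero =>
    intro F x hx
    obtain ⟨l, rfl⟩ := (Ext.mk₀_bijective _ _).2 x
    have h0 : l = 0 := hinj F l 0 (fun a => by
      have h1 := hx a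
      rw [Ext.mk₀_comp_mk₀, Ext.mk₀_eq_zero_iff] at h1
      rw [h1, comp_zero])
    rw [h0, Ext.mk₀_zero]
  | succ n ih =>
    intro F x hx
    have hS := shortExact_SI F
    obtain ⟨y, hy⟩ := Ext.covariant_sequence_exact₁ Z hS (x : Ext.{w} Z (SI F).X₁ (n + 1))
      (Subsingleton.elim _ _) rfl
    cases n with
    | zero =>
      obtain ⟨q, rfl⟩ := (Ext.mk₀_bijective _ _).2 y
      have hlift : ∀ a, ∃ s : A a ⟶ (SI F).X₂, s ≫ (SI F).g = u a ≫ q := by
        intro a
        have h0 : (Ext.mk₀ (u a ≫ q)).comp hS.extClass (zero_add 1) = 0 := by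
          rw [← Ext.mk₀_comp_mk₀_assoc, hy]
          exact hx a
        obtain ⟨γ, hγ⟩ := Ext.covariant_sequence_exact₃ (A a) hS (Ext.mk₀ (u a ≫ q))
          (zero_add 1) h0
        obtain ⟨s, rfl⟩ := (Ext.mk₀_bijective _ _).2 γ
        rw [Ext.mk₀_comp_mk₀] at hγ
        exact ⟨s, (Ext.mk₀_bijective _ _).1 hγ⟩
      choose s hs using hlift
      obtain ⟨l, hl⟩ := hsurj (SI F).X₂ s
      have h1 : l ≫ (SI F).g = q := hinj _ _ _ (fun a => by
        rw [← Category.assoc, hl, hs])
      rw [← hy, ← h1, ← Ext.mk₀_comp_mk₀, Ext.comp_assoc_of_second_deg_zero]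
      erw [hS.comp_extClass]
      exact Ext.comp_zero _ _ _ _ _
    | succ m =>
      have hy0 : ∀ a, (Ext.mk₀ (u a)).comp y (zero_add (m + 1)) = 0 := by
        intro a
        have h0 : ((Ext.mk₀ (u a)).comp y (zero_add (m + 1))).comp hS.extClass
            (rfl : m + 1 + 1 = m + 1 + 1) = 0 := by
          rw [Ext.comp_assoc (Ext.mk₀ (u a)) y hS.extClass (zero_add (m + 1))
            (rfl : m + 1 + 1 = m + 1 + 1) (by omega : 0 + (m + 1) + 1 = m + 1 + 1), hy]
          exact hx a
        obtain ⟨γ, hγ⟩ := Ext.covariant_sequence_exact₃ (A a) hS _ rfl h0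
        rw [Subsingleton.elim γ 0, Ext.zero_comp] at hγ
        exact hγ.symm
      rw [← hy, ih (SI F).X₃ y hy0, Ext.zero_comp]
      rfl

end ExtFamily

section Cover

open Groth.Agent.Lib.Helper9.EtMV Groth.Agent.Lib.Helper9.EtPull Groth.Agent.Lib.Helper16.EtGlue

variable {X : Scheme.{u}} {μ : Type*} (W : μ → X.Etale)

/-- a cover of `X` by pairwise disjoint "open" objects of the small étale site -/
structure DisjCover : Prop where
  mono : ∀ a, Mono ((EtCore.topIsTerminal X).from (W a)).left
  disj : ∀ a b, a ≠ b → ∀ (x : (W a).left) (y : (W b).left),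
    ((EtCore.topIsTerminal X).from (W a)).left x ≠ ((EtCore.topIsTerminal X).from (W b)).left y
  cov : ∀ p : (EtCoh.top X).left, ∃ (a : μ) (x : (W a).left),
    ((EtCore.topIsTerminal X).from (W a)).left x = p

variable {W}

set_option backward.isDefEq.respectTransparency.types false in
lemma DisjCover.glue (h : DisjCover W) (G : EtCoh.Ab X)
    (t : ∀ a, (G.obj.obj (op (W a)) : AddCommGrpCat.{u + 1})) :
    ∃! s : (G.obj.obj (op (EtCoh.top X)) : AddCommGrpCat.{u + 1}),
      ∀ a, (G.obj.map ((EtCore.topIsTerminal X).from (W a)).op).hom s = t a := by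
  let G' : X.Etaleᵒᵖ ⥤ Type (u + 1) := G.obj ⋙ forget AddCommGrpCat.{u + 1}
  have hG : Presieve.IsSheaf X.smallEtaleTopology G' :=
    (isSheaf_iff_isSheaf_of_type _ _).1
      ((Presheaf.isSheaf_iff_isSheaf_forget X.smallEtaleTopology G.obj
        (forget AddCommGrpCat.{u + 1})).1 G.property)
  exact exists_unique_glue G' hG W (fun a => (EtCore.topIsTerminal X).from (W a))
    h.mono h.disj h.cov t

lemma DisjCover.aug_inj (h : DisjCover W) (G : EtCoh.Ab X) (l l' : EtCoh.const X ℤ ⟶ G)
    (hl : ∀ a, aug (W a) ≫ l = aug (W a) ≫ l') : l = l' := by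
  apply sec_injective
  obtain ⟨s, -, hsu⟩ := h.glue G
    (fun a => (G.obj.map ((EtCore.topIsTerminal X).from (W a)).op).hom (sec G l))
  have h1 : sec G l = s := hsu _ (fun a => rfl)
  have h2 : sec G l' = s := hsu _ (fun a => by
    rw [← zhEquiv_aug_comp, ← zhEquiv_aug_comp, hl a])
  exact h1.trans h2.symm

lemma DisjCover.aug_surj (h : DisjCover W) (G : EtCoh.Ab X) (s : ∀ a, Zh (W a) ⟶ G) :
    ∃ l : EtCoh.const X ℤ ⟶ G, ∀ a, aug (W a) ≫ l = s a := by
  obtain ⟨σ, hσ, -⟩ := h.glue G (fun a => zhEquiv (W a) G (s a))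
  obtain ⟨l, hl⟩ := sec_surjective G σ
  refine ⟨l, fun a => ?_⟩
  apply (zhEquiv (W a) G).injective
  rw [zhEquiv_aug_comp, hl]
  exact hσ a

/-- a cohomology class vanishing on all members of a disjoint cover vanishes -/
theorem DisjCover.ext_eq_zero (h : DisjCover W) (n : ℕ) (F : EtCoh.Ab X) (x : EtCoh.H X F n)
    (hx : ∀ a, (Ext.mk₀ (aug (W a))).comp (x : Ext (EtCoh.const X ℤ) F n) (zero_add n) = 0) :
    x = 0 :=
  ext_eq_zero_of_family (fun a => Zh (W a)) (fun a => aug (W a)) h.aug_inj h.aug_surj n F x hx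

end Cover

section Opens

open Groth.Agent.Lib.Helper9.EtMV Groth.Agent.Lib.Helper9.EtPull

variable {X : Scheme.{u}} {μ : Type*} (U : μ → X.Opens)

lemma from_left (P : X.Etale) : ((EtCore.topIsTerminal X).from P).left = P.hom := by
  have := MorphismProperty.Over.w ((EtCore.topIsTerminal X).from P)
  exact (Category.comp_id _).symm.trans this

set_option backward.isDefEq.respectTransparency.types false in
lemma disjCover_opens (hdisj : ∀ a b, a ≠ b → Disjoint (U a) (U b))
    (hcov : ∀ p : X, ∃ a, p ∈ U a) : DisjCover (fun a => obj (U a).ι) := by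
  have hhom : ∀ a, (obj (U a).ι).hom = (U a).ι := fun a => Category.id_comp _
  refine ⟨fun a => ?_, fun a b hab x y => ?_, fun p => ?_⟩
  · rw [from_left, hhom]
    exact inferInstanceAs (Mono (U a).ι)
  · rw [from_left, from_left, hhom, hhom]
    intro he
    have hx : ((U a).ι (show (U a) from x) : X) ∈ (U a : Set X) := (show (U a) from x).2
    have hy : ((U b).ι (show (U b) from y) : X) ∈ (U b : Set X) := (show (U b) from y).2
    have hx' : ((U b).ι (show (U b) from y) : X) ∈ (U a : Set X) :=
      Set.mem_of_eq_of_mem he.symm hx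
    exact (Set.disjoint_left.1 ((TopologicalSpace.Opens.coe_disjoint).2 (hdisj a b hab)) hx') hy
  · obtain ⟨a, ha⟩ := hcov p
    refine ⟨a, (⟨p, ha⟩ : (U a)), ?_⟩
    rw [from_left, hhom]
    rfl

/-- a cohomology class vanishing on all members of a disjoint open cover vanishes -/
theorem eq_zero_of_Hpull_opens (hdisj : ∀ a b, a ≠ b → Disjoint (U a) (U b))
    (hcov : ∀ p : X, ∃ a, p ∈ U a) (n : ℕ) (F : EtCoh.Ab X) (x : EtCoh.H X F n)
    (hx : ∀ a, EtCore.Hpull (U a).ι F n x = 0) : x = 0 := by
  apply (disjCover_opens U hdisj hcov).ext_eq_zero n F x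
  intro a
  haveI : EtShriek.JCont (U a).ι := Groth.Agent.Lib.Helper9.JContAll.jCont _
  haveI := pull_preservesFiniteLimits_of_etale (U a).ι
  have h1 := Hpull_eq (U a).ι F n x
  rw [hx a] at h1
  exact (Phi (U a).ι F n).injective (h1.symm.trans (map_zero _).symm)

end Opens

section TorsionDivisible

open Groth.Agent.Lib.T2H8AgreeAb Groth.Agent.Lib.T2H8.EtTrace

variable {X : Scheme.{u}}

lemma injective_app_of_mono' {F G : EtCoh.Ab X} (a : F ⟶ G) [Mono a] (U : X.Etaleᵒᵖ) :
    Function.Injective (a.hom.app U) := by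
  haveI : Mono a.hom := (Sheaf.Hom.mono_iff_presheaf_mono _ _ a).mp inferInstance
  haveI : Mono (a.hom.app U) := inferInstance
  exact (AddCommGrpCat.mono_iff_injective _).mp inferInstance

set_option backward.isDefEq.respectTransparency.types false in
/-- a torsion sheaf on which multiplication by every positive integer is injective vanishes -/
theorem isZero_of_isTorsion_of_mono (T : EtCoh.Ab X) (hT : EtCoh.IsTorsion T)
    (hm : ∀ n : ℕ, 0 < n → Mono (n • 𝟙 T)) : IsZero T := by
  have hz : ∀ (U : X.Etale) (s : T.obj.obj (op U)), s = 0 := by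
    intro U s
    apply eq_of_agree_eq_univ
    intro x
    obtain ⟨V, g, ⟨v, hv⟩, hfin⟩ := hT U s x
    obtain ⟨n, hn, hns⟩ := isOfFinAddOrder_iff_nsmul_eq_zero.1 hfin
    refine ⟨V, g, v, hv, ?_⟩
    haveI := hm n hn
    apply injective_app_of_mono' (n • 𝟙 T) (op V)
    rw [nsmul_hom_app_apply, nsmul_hom_app_apply, map_zero]
    change n • (T.obj.map g.op s) = n • 0
    rw [hns, smul_zero]
  rw [IsZero.iff_id_eq_zero]
  apply Sheaf.hom_ext
  ext U s
  exact (hz U.unop _).trans (hz U.unop _).symm

end TorsionDivisible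

section Integral

open Groth.Agent.Lib.T2H8.NormalConstMain Groth.Agent.Lib.T2H8.RpushTorsion
  Groth.Agent.Lib.Helper9.HofPush Groth.Agent.Lib.T2H8.ConstSES

/-- transfer of vanishing along an isomorphism -/
theorem subsingleton_H_of_iso' {X : Scheme.{u}} {A B : EtCoh.Ab X} (e : A ≅ B) (q : ℕ)
    (h : Subsingleton (EtCoh.H X B q)) : Subsingleton (EtCoh.H X A q) := by
  haveI : Subsingleton ((EtCoh.HF X q).obj B) := h
  exact (((EtCoh.HF X q).mapIso e).addCommGroupIsoToAddEquiv.toEquiv).subsingleton

variable (X : Scheme.{u}) [IsIntegral X] (hN : ∀ x : X, IsIntegrallyClosed (X.presheaf.stalk x))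

include hN in
/-- the integral case -/
theorem subsingleton_H_const_Q_of_integral (i : ℕ) (hi : 0 < i) :
    Subsingleton (EtCoh.H X (EtCoh.const X ℚ) i) := by
  let κ : Type u := X.residueField (genericPoint X)
  let g : Spec (CommRingCat.of κ) ⟶ X := X.fromSpecResidueField (genericPoint X)
  haveI : IsIso ((EtCoh.pullPushAdj g).unit.app (EtCoh.const X ℚ)) := main_residueField X hN ℚ
  let e1 := asIso ((EtCoh.pullPushAdj g).unit.app (EtCoh.const X ℚ))
  let e := e1 ≪≫ (EtCoh.push g).mapIso (EtCore.pullConst g ℚ)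
  refine subsingleton_H_of_iso' e i ?_
  have hdiv : ∀ n : ℕ, 0 < n → IsIso (n • 𝟙 (EtCoh.const (Spec (CommRingCat.of κ)) ℚ)) :=
    isIso_nsmul_const_Q _
  have hR : ∀ q : ℕ, 0 < q →
      IsZero ((EtCoh.Rpush g q).obj (EtCoh.const (Spec (CommRingCat.of κ)) ℚ)) := by
    intro q hq
    apply isZero_of_isTorsion_of_mono _ (isTorsion_Rpush g _ q hq)
    intro n hn
    haveI := hdiv n hn
    have h1 : n • 𝟙 ((EtCoh.Rpush g q).obj (EtCoh.const (Spec (CommRingCat.of κ)) ℚ)) =
        (EtCoh.Rpush g q).map (n • 𝟙 (EtCoh.const (Spec (CommRingCat.of κ)) ℚ)) := by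
      rw [Functor.map_nsmul, CategoryTheory.Functor.map_id]
    rw [h1]
    infer_instance
  have hbij := HofPush_bijective g (EtCoh.const (Spec (CommRingCat.of κ)) ℚ) hR i
  haveI := Groth.Agent.Lib.T2H8.FieldTorsion.main_S7744 κ _ hdiv i hi
  exact hbij.injective.subsingleton

end Integral

section General

/-- a connected Noetherian scheme with domain local rings is integral -/
theorem isIntegral_of_connected_of_isDomain_stalk' {Y : Scheme.{u}} [IsNoetherian Y]
    [ConnectedSpace Y] (hY : ∀ y : Y, IsDomain (Y.presheaf.stalk y)) : IsIntegral Y := by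
  have : IrreducibleSpace Y :=
    Groth.Agent.Lib.Helper4.EtNormalSch.irreducibleSpace_of_connected hY
      finite_irreducibleComponents_of_isNoetherian
  have : ∀ y : Y, _root_.IsReduced (Y.presheaf.stalk y) := fun y => by
    have := hY y
    infer_instance
  have : IsReduced Y := isReduced_of_isReduced_stalk Y
  exact isIntegral_of_irreducibleSpace_of_isReduced Y

/-- **S13956** -/
theorem main_S13956 (X : Scheme.{u}) [IsLocallyNoetherian X] [CompactSpace X]
    (hN : ∀ x : X, IsDomain (X.presheaf.stalk x) ∧ IsIntegrallyClosed (X.presheaf.stalk x))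
    (i : ℕ) (hi : 0 < i) :
    Subsingleton (EtCoh.H X (EtCoh.const X ℚ) i) := by
  haveI : IsNoetherian X := {}
  haveI : TopologicalSpace.NoetherianSpace X := inferInstance
  have hopen : ∀ a : _root_.ConnectedComponents X, IsOpen (_root_.ConnectedComponents.mk ⁻¹' {a} : Set X) := by
    intro a
    obtain ⟨x, rfl⟩ := _root_.ConnectedComponents.surjective_coe a
    rw [connectedComponents_preimage_singleton]
    exact Groth.Agent.Lib.Helper14.isOpen_connectedComponent_of_noetherianSpace x
  let U : _root_.ConnectedComponents X → X.Opens := fun a => ⟨_, hopen a⟩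
  have hdisj : ∀ a b, a ≠ b → Disjoint (U a) (U b) := by
    intro a b hab
    rw [← TopologicalSpace.Opens.coe_disjoint, Set.disjoint_left]
    intro p hpa hpb
    exact hab ((show _root_.ConnectedComponents.mk p = a from hpa).symm.trans hpb)
  have hcov : ∀ p : X, ∃ a, p ∈ U a := fun p => ⟨_root_.ConnectedComponents.mk p, rfl⟩
  suffices hz : ∀ x : EtCoh.H X (EtCoh.const X ℚ) i, x = 0 from
    ⟨fun a b => (hz a).trans (hz b).symm⟩
  intro x
  apply eq_zero_of_Hpull_opens U hdisj hcov i _ x
  intro a
  have hU : Subsingleton (EtCoh.H (U a) ((EtCoh.pull (U a).ι).obj (EtCoh.const X ℚ)) i) := by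
    refine subsingleton_H_of_iso' (EtCore.pullConst (U a).ι ℚ) i ?_
    obtain ⟨x₀, rfl⟩ := _root_.ConnectedComponents.surjective_coe a
    have hset : ((U (_root_.ConnectedComponents.mk x₀) : X.Opens) : Set X) = connectedComponent x₀ :=
      connectedComponents_preimage_singleton
    haveI : ConnectedSpace (U (_root_.ConnectedComponents.mk x₀)) := by
      have h1 : _root_.IsConnected ((U (_root_.ConnectedComponents.mk x₀) : X.Opens) : Set X) := by
        rw [hset]
        exact isConnected_connectedComponent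
      exact isConnected_iff_connectedSpace.1 h1
    haveI : CompactSpace (U (_root_.ConnectedComponents.mk x₀)) := by
      have h1 : IsCompact ((U (_root_.ConnectedComponents.mk x₀) : X.Opens) : Set X) := by
        rw [hset]
        exact isClosed_connectedComponent.isCompact
      exact isCompact_iff_compactSpace.1 h1
    haveI : IsNoetherian (U (_root_.ConnectedComponents.mk x₀)) := {}
    have hst : ∀ y : (U (_root_.ConnectedComponents.mk x₀)),
        IsDomain ((U (_root_.ConnectedComponents.mk x₀)).toScheme.presheaf.stalk y) ∧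
          IsIntegrallyClosed ((U (_root_.ConnectedComponents.mk x₀)).toScheme.presheaf.stalk y) := by
      intro y
      let ε := ((U (_root_.ConnectedComponents.mk x₀)).stalkIso y).commRingCatIsoToRingEquiv
      haveI := (hN y.1).1
      haveI := (hN y.1).2
      exact ⟨ε.injective.isDomain, IsIntegrallyClosed.of_equiv ε.symm⟩
    haveI : IsIntegral (U (_root_.ConnectedComponents.mk x₀)) :=
      isIntegral_of_connected_of_isDomain_stalk' (fun y => (hst y).1)
    exact subsingleton_H_const_Q_of_integral (U (_root_.ConnectedComponents.mk x₀))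
      (fun y => (hst y).2) i hi
  exact Subsingleton.elim _ _

end General

end Groth.Agent.Lib.T2H8.NormalQ
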