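import Mathlib
import Groth.Agent.Lib.T2H8GeomPush
import Groth.Agent.Lib.T2H8NormalConstMain
import Groth.Agent.Lib.Helper17LDer5

set_option autoImplicit false
set_option linter.unusedSectionVars false
set_option linter.style.haveILetI false
universe u
open CategoryTheory CategoryTheory.Limits Opposite AlgebraicGeometry

namespace Groth.Agent.Lib.T2H8.NormalRpush

open Groth.Agent.Lib.T2H8.SepClosedSections Groth.Agent.Lib.T2H8.ClosedPts
open Groth.Agent.Lib.Helper17.LDer Groth.Agent.Lib.T2H8.NormalConstMain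

theorem zero_of_exact {C : Type*} [Category C] [HasZeroMorphisms C] {S : ShortComplex C}
    (_h : S.Exact) : S.f ≫ S.g = 0 := S.zero

section Rpush

variable (K : Type u) [Field K] [IsSepClosed K] {X Y : Scheme.{u}} (g : Xk K ⟶ X) (f : X ⟶ Y)

set_option backward.isDefEq.respectTransparency.types false in
/-- higher direct images of a sheaf pushed forward from the spectrum of a separably closed field
vanish -/
theorem isZero_Rpush_push :
    ∀ (q : ℕ) (G : EtCoh.Ab (Xk K)),
      IsZero ((EtCoh.Rpush f (q + 1)).obj ((EtCoh.push g).obj G)) := by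
  haveI : PreservesFiniteLimits (EtCoh.pull g) := Groth.Agent.S0101.result g
  haveI : PreservesLimits (EtCoh.push g) := (EtCoh.pullPushAdj g).rightAdjoint_preservesLimits
  haveI : PreservesLimits (EtCoh.push f) := (EtCoh.pullPushAdj f).rightAdjoint_preservesLimits
  haveI := Groth.Agent.Lib.T2H8.GeomPush.preservesFiniteColimits_push K g
  have key : ∀ (G : EtCoh.Ab (Xk K)) (n : ℕ),
      IsZero (((EtCoh.push f).rightDerived (n + 1)).obj (((embSC G).map (EtCoh.push g)).X₂)) := by
    intro G n
    haveI hJ : Injective ((embSC G).map (EtCoh.push g)).X₂ :=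
      (EtCoh.pullPushAdj g).map_injective (Injective.under G) inferInstance
    exact Functor.isZero_rightDerived_obj_injective_succ (EtCoh.push f) n _
  intro q
  induction q with
  | zero =>
    intro G
    let S := (embSC G).map (EtCoh.push g)
    have hS : S.ShortExact := (embSC_shortExact G).map_of_exact (EtCoh.push g)
    obtain ⟨δ, hδepi, hz⟩ : ∃ δ : ((EtCoh.push f).rightDerived 0).obj S.X₃ ⟶
        ((EtCoh.push f).rightDerived 1).obj S.X₁,
        Epi δ ∧ ((EtCoh.push f).rightDerived 0).map S.g ≫ δ = 0 :=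
      ⟨sesδ (EtCoh.push f) S hS 0 1 rfl, epi_sesδ (EtCoh.push f) S hS 0 1 rfl (key G 0),
        zero_of_exact (sesδ_exact₃ (EtCoh.push f) S hS 0 1 rfl)⟩
    -- `R⁰F(S.g)` is an epimorphism
    have hepi : Epi (((EtCoh.push f).rightDerived 0).map S.g) := by
      have hpe := Groth.Agent.Lib.T2H8.GeomPush.push_preservesEpimorphisms K (g ≫ f)
      haveI : Epi (embSC G).g := inferInstanceAs (Epi (cokernel.π _))
      have h1 : Epi ((EtCoh.push (g ≫ f)).map (embSC G).g) := hpe.preserves _
      have nat := (EtCoh.pushComp f g).hom.naturality (embSC G).g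
      have h2 : Epi ((EtCoh.push f).map S.g) := by
        have e : (EtCoh.push f).map S.g = (EtCoh.pushComp f g).hom.app _ ≫
            (EtCoh.push (g ≫ f)).map (embSC G).g ≫ (EtCoh.pushComp f g).inv.app _ := by
          rw [← Category.assoc, ← nat, Category.assoc, Iso.hom_inv_id_app, Category.comp_id]
          rfl
        rw [e]
        have i1 : Epi ((EtCoh.pushComp f g).hom.app (embSC G).X₂) :=
          IsIso.epi_of_iso _
        have i2 : Epi ((EtCoh.pushComp f g).inv.app (embSC G).X₃) :=
          IsIso.epi_of_iso _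
        have i3 := @epi_comp _ _ _ _ _ _ h1 _ i2
        exact @epi_comp _ _ _ _ _ _ i1 _ i3
      let e0 := Functor.rightDerivedZeroIsoSelf (EtCoh.push f)
      have nat0 := e0.hom.naturality S.g
      have e : ((EtCoh.push f).rightDerived 0).map S.g =
          e0.hom.app _ ≫ (EtCoh.push f).map S.g ≫ e0.inv.app _ := by
        rw [← Category.assoc, ← nat0, Category.assoc, Iso.hom_inv_id_app, Category.comp_id]
      rw [e]
      have i1 : Epi (e0.hom.app S.X₂) := IsIso.epi_of_iso _
      have i2 : Epi (e0.inv.app S.X₃) := IsIso.epi_of_iso _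
      have i3 := @epi_comp _ _ _ _ _ _ h2 _ i2
      exact @epi_comp _ _ _ _ _ _ i1 _ i3
    have hδ : δ = 0 := by
      apply (@cancel_epi _ _ _ _ _ (((EtCoh.push f).rightDerived 0).map S.g) hepi δ 0).mp
      rw [comp_zero]
      exact hz
    exact @IsZero.of_epi_eq_zero _ _ _ _ _ δ hδepi hδ
  | succ q ih =>
    intro G
    let S := (embSC G).map (EtCoh.push g)
    have hS : S.ShortExact := (embSC_shortExact G).map_of_exact (EtCoh.push g)
    have hδepi : Epi (sesδ (EtCoh.push f) S hS (q + 1) (q + 2) rfl) :=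
      epi_sesδ (EtCoh.push f) S hS (q + 1) (q + 2) rfl (key G (q + 1))
    exact @IsZero.of_epi _ _ _ _ _ (sesδ (EtCoh.push f) S hS (q + 1) (q + 2) rfl) hδepi
      (ih (embSC G).X₃)

end Rpush

section Main

set_option backward.isDefEq.respectTransparency.types false in
/-- **S0628** -/
theorem main_S0628 {X Y : Scheme.{u}} (f : X ⟶ Y) [IsIntegral X]
    (hN : ∀ x : X, IsIntegrallyClosed (X.presheaf.stalk x)) [IsSepClosed X.functionField]
    (M : Type) [AddCommGroup M] (q : ℕ) (hq : 1 ≤ q) :
    IsZero ((EtCoh.Rpush f q).obj (EtCoh.const X M)) := by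
  obtain ⟨q, rfl⟩ : ∃ n, q = n + 1 := ⟨q - 1, by lia⟩
  let K : Type u := X.functionField
  let g : Xk K ⟶ X := X.fromSpecStalk (genericPoint X)
  haveI : IsIso ((EtCoh.pullPushAdj g).unit.app (EtCoh.const X M)) := main_S0626 X hN M
  let e := asIso ((EtCoh.pullPushAdj g).unit.app (EtCoh.const X M))
  exact IsZero.of_iso (isZero_Rpush_push K g f q _) ((EtCoh.Rpush f (q + 1)).mapIso e)

end Main

end Groth.Agent.Lib.T2H8.NormalRpush
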