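import Mathlib

/-!
# Embedding finitely generated field extensions into a big algebraically closed field (helper8)
-/

set_option autoImplicit false
universe u v w

namespace Groth.Agent.Lib.T2H8.OmegaPts

/-- a field extension essentially of finite type embeds into any algebraically closed extension
of infinite transcendence degree -/
theorem nonempty_algHom_of_essFiniteType (K : Type u) (L : Type v) (Ω : Type w) [Field K] [Field L]
    [Algebra K L] [Algebra.EssFiniteType K L] [Field Ω] [Algebra K Ω] [IsAlgClosed Ω]
    (t : ℕ → Ω) (ht : AlgebraicIndependent K t) : Nonempty (L →ₐ[K] Ω) := by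
  classical
  let D := Algebra.EssFiniteType.subalgebra K L
  obtain ⟨s, g, hginj, hgint⟩ := exists_integral_inj_algHom_of_fg K D
  let gL : MvPolynomial (Fin s) K →ₐ[K] L := D.val.comp g
  have hgL : Function.Injective gL := Subtype.val_injective.comp hginj
  let gΩ : MvPolynomial (Fin s) K →ₐ[K] Ω := MvPolynomial.aeval (fun i : Fin s => t i)
  have hgΩ : Function.Injective gΩ := ht.comp (fun i : Fin s => (i : ℕ)) Fin.val_injective
  letI algL : Algebra (MvPolynomial (Fin s) K) L := gL.toRingHom.toAlgebra
  letI algΩ : Algebra (MvPolynomial (Fin s) K) Ω := gΩ.toRingHom.toAlgebra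
  letI algD : Algebra (MvPolynomial (Fin s) K) D := g.toRingHom.toAlgebra
  haveI : IsScalarTower K (MvPolynomial (Fin s) K) L :=
    IsScalarTower.of_algebraMap_eq fun a => (gL.commutes a).symm
  haveI : IsScalarTower K (MvPolynomial (Fin s) K) Ω :=
    IsScalarTower.of_algebraMap_eq fun a => (gΩ.commutes a).symm
  haveI : IsScalarTower (MvPolynomial (Fin s) K) D L :=
    IsScalarTower.of_algebraMap_eq fun a => rfl
  haveI : FaithfulSMul (MvPolynomial (Fin s) K) L :=
    (faithfulSMul_iff_algebraMap_injective _ _).mpr hgL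
  haveI : FaithfulSMul (MvPolynomial (Fin s) K) Ω :=
    (faithfulSMul_iff_algebraMap_injective _ _).mpr hgΩ
  haveI : Algebra.IsIntegral (MvPolynomial (Fin s) K) D := ⟨hgint⟩
  haveI : Algebra.IsAlgebraic D L :=
    IsLocalization.isAlgebraic _ (Algebra.EssFiniteType.submonoid K L)
  haveI : Algebra.IsAlgebraic (MvPolynomial (Fin s) K) L :=
    Algebra.IsAlgebraic.trans (MvPolynomial (Fin s) K) D L
  let f : L →ₐ[MvPolynomial (Fin s) K] Ω := IsAlgClosed.lift
  exact ⟨f.restrictScalars K⟩

end Groth.Agent.Lib.T2H8.OmegaPts
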