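import Mathlib
import Groth.Agent.Lib.T2H8OmegaPtsA

/-!
# Surjectivity tested on points in a fixed big algebraically closed field (helper8)
-/

set_option autoImplicit false
universe u

open AlgebraicGeometry CategoryTheory CategoryTheory.Limits

namespace Groth.Agent.Lib.T2H8.OmegaPts

/-- a surjective morphism locally of finite type lifts points in algebraically closed fields -/
theorem exists_lift_of_surjective {Ω : Type u} [Field Ω] [IsAlgClosed Ω] {X Y : Scheme.{u}}
    (f : X ⟶ Y) [LocallyOfFiniteType f] [Surjective f] (y : Spec (CommRingCat.of Ω) ⟶ Y) :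
    ∃ x : Spec (CommRingCat.of Ω) ⟶ X, x ≫ f = y := by
  haveI : Surjective (pullback.snd f y) := inferInstance
  haveI : LocallyOfFiniteType (pullback.snd f y) := inferInstance
  haveI : JacobsonSpace (Spec (CommRingCat.of Ω)) := inferInstance
  haveI : JacobsonSpace ↥(pullback f y) := LocallyOfFiniteType.jacobsonSpace (pullback.snd f y)
  obtain ⟨p0, -⟩ := (pullback.snd f y).surjective (IsLocalRing.closedPoint Ω)
  obtain ⟨p, -, hp⟩ := nonempty_inter_closedPoints (X := ↥(pullback f y)) (Z := Set.univ)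
    ⟨p0, trivial⟩ isOpen_univ.isLocallyClosed
  refine ⟨pointOfClosedPoint (pullback.snd f y) p hp ≫ pullback.fst f y, ?_⟩
  rw [Category.assoc, pullback.condition, ← Category.assoc, pointOfClosedPoint_comp,
    Category.id_comp]

end Groth.Agent.Lib.T2H8.OmegaPts

namespace Groth.Agent.Lib.T2H8.OmegaPts

/-- every point of a scheme locally of finite type over `K` is the image of an `Ω`-point over `K` -/
theorem exists_point_over (K Ω : Type u) [Field K] [Field Ω] [IsAlgClosed Ω] [Algebra K Ω]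
    (t : ℕ → Ω) (ht : AlgebraicIndependent K t) {Y : Scheme.{u}}
    (pY : Y ⟶ Spec (CommRingCat.of K)) [LocallyOfFiniteType pY] (y₀ : Y) :
    ∃ y : Spec (CommRingCat.of Ω) ⟶ Y,
      y ≫ pY = Spec.map (CommRingCat.ofHom (algebraMap K Ω)) ∧ ∀ a, y a = y₀ := by
  obtain ⟨V, hV, hyV, -⟩ :=
    exists_isAffineOpen_mem_and_subset (x := y₀) (U := ⊤) (TopologicalSpace.Opens.mem_top y₀)
  let ρ : CommRingCat.of K ⟶ Γ(Y, V) := Spec.preimage (hV.fromSpec ≫ pY)
  have hρ : Spec.map ρ = hV.fromSpec ≫ pY := Spec.map_preimage _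
  have hρft : RingHom.FiniteType ρ.hom := by
    have : LocallyOfFiniteType (Spec.map ρ) := by rw [hρ]; infer_instance
    exact HasRingHomProperty.Spec_iff.mp this
  algebraize [ρ.hom]
  let 𝔭 : PrimeSpectrum Γ(Y, V) := hV.primeIdealOf ⟨y₀, hyV⟩
  have h𝔭 : hV.fromSpec 𝔭 = y₀ := hV.fromSpec_primeIdealOf ⟨y₀, hyV⟩
  haveI : Algebra.EssFiniteType K 𝔭.asIdeal.ResidueField :=
    Algebra.EssFiniteType.comp K Γ(Y, V) 𝔭.asIdeal.ResidueField
  obtain ⟨ψ⟩ := nonempty_algHom_of_essFiniteType K 𝔭.asIdeal.ResidueField Ω t ht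
  let g : Γ(Y, V) →+* Ω := ψ.toRingHom.comp (algebraMap Γ(Y, V) 𝔭.asIdeal.ResidueField)
  refine ⟨Spec.map (CommRingCat.ofHom g) ≫ hV.fromSpec, ?_, fun a => ?_⟩
  · rw [Category.assoc, ← hρ, ← Spec.map_comp]
    congr 1
    ext k
    show ψ (algebraMap Γ(Y, V) 𝔭.asIdeal.ResidueField (algebraMap K Γ(Y, V) k)) = algebraMap K Ω k
    rw [← IsScalarTower.algebraMap_apply, ψ.commutes]
  · rw [Scheme.Hom.comp_apply]
    rw [← h𝔭]
    congr 1
    apply PrimeSpectrum.ext
    ext r
    show g r ∈ a.asIdeal ↔ r ∈ 𝔭.asIdeal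
    have ha : a.asIdeal = ⊥ := by
      rcases Ideal.eq_bot_or_top a.asIdeal with h | h
      · exact h
      · exact absurd h a.2.ne_top
    rw [ha, Ideal.mem_bot]
    show ψ (algebraMap Γ(Y, V) 𝔭.asIdeal.ResidueField r) = 0 ↔ _
    rw [map_eq_zero_iff ψ ψ.toRingHom.injective, Ideal.algebraMap_residueField_eq_zero]

end Groth.Agent.Lib.T2H8.OmegaPts

namespace Groth.Agent.Lib.T2H8.OmegaPts

theorem main (K Ω : Type u) [Field K] [Field Ω] [IsAlgClosed Ω] [Algebra K Ω]
    (t : ℕ → Ω) (ht : AlgebraicIndependent K t)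
    {X Y : Scheme.{u}} (pX : X ⟶ Spec (CommRingCat.of K)) (pY : Y ⟶ Spec (CommRingCat.of K))
    [LocallyOfFiniteType pX] [LocallyOfFiniteType pY] (f : X ⟶ Y) (hf : f ≫ pY = pX) :
    Surjective f ↔ ∀ y : Spec (CommRingCat.of Ω) ⟶ Y,
      y ≫ pY = Spec.map (CommRingCat.ofHom (algebraMap K Ω)) →
        ∃ x : Spec (CommRingCat.of Ω) ⟶ X, x ≫ f = y := by
  haveI : LocallyOfFiniteType f := by
    haveI : LocallyOfFiniteType (f ≫ pY) := by rw [hf]; infer_instance
    exact locallyOfFiniteType_of_comp f pY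
  constructor
  · intro hs y _
    exact exists_lift_of_surjective f y
  · intro H
    refine ⟨fun y₀ => ?_⟩
    obtain ⟨y, hy, hy0⟩ := exists_point_over K Ω t ht pY y₀
    obtain ⟨x, hx⟩ := H y hy
    refine ⟨x (IsLocalRing.closedPoint Ω), ?_⟩
    rw [← Scheme.Hom.comp_apply, hx, hy0]

end Groth.Agent.Lib.T2H8.OmegaPts
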