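import Mathlib
import Groth.Prelude.Def_EtOpen
import Groth.Agent.Lib.Helper16SmallEtale
import Groth.Agent.Lib.T2H8PullFaithful

/-!
# Opens of `X` are the subterminal objects of the étale topos (helper8)
-/

set_option autoImplicit false
set_option linter.style.haveILetI false
set_option linter.unusedSectionVars false
universe u
open CategoryTheory CategoryTheory.Limits AlgebraicGeometry Opposite

namespace Groth.Agent.Lib.T2H8.OpenSubterminal

variable {X : Scheme.{u}}

/-- the terminal sheaf with singleton sections -/
noncomputable abbrev T (X : Scheme.{u}) : EtDesc.Sh X :=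
  Sheaf.terminal X.smallEtaleTopology Types.isTerminalPUnit

noncomputable def isTerminalT (X : Scheme.{u}) : IsTerminal (T X) :=
  Sheaf.isTerminalTerminal X.smallEtaleTopology Types.isTerminalPUnit

/-- a sheaf of sets is subterminal iff all its sets of sections are subsingletons -/
lemma mono_terminal_from_iff (F : EtDesc.Sh X) :
    Mono (terminal.from F) ↔ ∀ W : X.Etale, Subsingleton (F.obj.obj (op W)) := by
  let a : F ⟶ T X := (isTerminalT X).from F
  have ha : Mono (terminal.from F) ↔ Mono a := by
    let e : ⊤_ (EtDesc.Sh X) ≅ T X := terminalIsTerminal.uniqueUpToIso (isTerminalT X)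
    have : a = terminal.from F ≫ e.hom := (isTerminalT X).hom_ext _ _
    rw [this]
    constructor
    · intro h
      infer_instance
    · intro h
      exact mono_of_mono (terminal.from F) e.hom
  rw [ha]
  constructor
  · intro h W
    have h1 : Mono ((sheafToPresheaf _ _).map a) := inferInstance
    have h2 : Mono (((sheafToPresheaf _ _).map a).app (op W)) :=
      (NatTrans.mono_iff_mono_app _).1 h1 (op W)
    have hinj : Function.Injective (a.hom.app (op W)) := (mono_iff_injective _).1 h2
    constructor
    intro s t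
    apply hinj
    exact Subsingleton.elim (α := PUnit.{u + 2}) _ _
  · intro h
    haveI : Mono ((sheafToPresheaf _ _).map a) := by
      apply (config := { allowSynthFailures := true }) NatTrans.mono_of_mono_app
      intro W
      rw [mono_iff_injective]
      intro s t _
      haveI := h W.unop
      exact Subsingleton.elim (α := F.obj.obj (op W.unop)) s t
    exact (sheafToPresheaf _ _).mono_of_mono_map inferInstance

/-- the representable presheaf of an étale `X`-scheme, lifted one universe -/
noncomputable abbrev hPre (V : X.Etale) : X.Etaleᵒᵖ ⥤ Type (u + 1) :=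
  yoneda.obj V ⋙ uliftFunctor.{u + 1, u}

lemma subsingleton_hom_ofOpen (U : X.Opens) (W : X.Etale) :
    Subsingleton (W ⟶ EtDesc.ofOpen U) := by
  constructor
  intro a b
  apply MorphismProperty.Over.Hom.ext
  have ha : a.left ≫ U.ι = W.hom := MorphismProperty.Over.w a
  have hb : b.left ≫ U.ι = W.hom := MorphismProperty.Over.w b
  exact (cancel_mono U.ι).1 (ha.trans hb.symm)

instance (U : X.Opens) (W : X.Etaleᵒᵖ) : Subsingleton ((hPre (EtDesc.ofOpen U)).obj W) := by
  haveI := subsingleton_hom_ofOpen U W.unop
  exact inferInstanceAs (Subsingleton (ULift.{u + 1} (W.unop ⟶ EtDesc.ofOpen U)))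

/-- the sheaf attached to an open is subterminal -/
theorem mono_terminal_from_repSh (U : X.Opens) :
    Mono (terminal.from (EtDesc.repSh (EtDesc.ofOpen U))) := by
  let P := hPre (EtDesc.ofOpen U)
  let Tp : X.Etaleᵒᵖ ⥤ Type (u + 1) := (T X).obj
  let m : P ⟶ Tp := { app := fun W => ↾(fun _ => PUnit.unit) }
  haveI : Mono m := by
    apply (config := { allowSynthFailures := true }) NatTrans.mono_of_mono_app
    intro W
    rw [mono_iff_injective]
    intro s t _
    exact Subsingleton.elim s t
  haveI : Mono ((presheafToSheaf X.smallEtaleTopology (Type (u + 1))).map m) := inferInstance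
  have hT' : IsTerminal ((presheafToSheaf X.smallEtaleTopology (Type (u + 1))).obj Tp) :=
    (isTerminalT X).ofIso
      (asIso ((sheafificationAdjunction X.smallEtaleTopology (Type (u + 1))).counit.app (T X))).symm
  haveI : Mono (terminal.from ((presheafToSheaf X.smallEtaleTopology (Type (u + 1))).obj Tp)) :=
    hT'.mono_from _
  have e : terminal.from (EtDesc.repSh (EtDesc.ofOpen U)) =
      (presheafToSheaf X.smallEtaleTopology (Type (u + 1))).map m ≫ terminal.from _ :=
    terminal.hom_ext _ _
  rw [e]
  exact mono_comp _ _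

lemma subsingleton_repSh (U : X.Opens) (W : X.Etale) :
    Subsingleton ((EtDesc.repSh (EtDesc.ofOpen U)).obj.obj (op W)) :=
  (mono_terminal_from_iff _).1 (mono_terminal_from_repSh U) W

set_option backward.isDefEq.respectTransparency.types false in
/-- an étale `X`-scheme over which the sheaf of an open `V` has a section maps into `V` -/
lemma range_subset_of_nonempty_repSh (V : X.Opens) (W : X.Etale)
    (t : (EtDesc.repSh (EtDesc.ofOpen V)).obj.obj (op W)) :
    Set.range W.hom.base ⊆ (V : Set X) := by
  rintro _ ⟨w, rfl⟩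
  have hmem := Presheaf.imageSieve_mem X.smallEtaleTopology
    (toSheafify X.smallEtaleTopology (hPre (EtDesc.ofOpen V))) t
  rw [Groth.Agent.Lib.Helper16.SmallEtale.mem_smallEtale_iff] at hmem
  obtain ⟨W', g, w', ⟨a, -⟩, hw'⟩ := hmem w
  have ha : a.down.left ≫ V.ι = W'.hom := MorphismProperty.Over.w a.down
  have hg : g.left ≫ W.hom = W'.hom := MorphismProperty.Over.w g
  have e1 : W.hom.base w = W'.hom.base w' := by
    rw [← hw', ← hg]
    exact (Scheme.Hom.comp_apply _ _ _).symm
  rw [e1, ← ha]
  have e2 : (a.down.left ≫ V.ι).base w' = V.ι.base (a.down.left.base w') :=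
    Scheme.Hom.comp_apply _ _ _
  rw [e2]
  exact (a.down.left.base w').2

/-- the morphism of the small étale site attached to an inclusion of opens -/
noncomputable def homOfLE {U V : X.Opens} (h : U ≤ V) : EtDesc.ofOpen U ⟶ EtDesc.ofOpen V :=
  MorphismProperty.Over.homMk (X.homOfLE h) (X.homOfLE_ι h)

/-- a morphism to the étale object of an open from an étale scheme landing in it -/
lemma range_subset_ι (U : X.Opens) (W : X.Etale) (h : Set.range W.hom.base ⊆ (U : Set X)) :
    Set.range W.hom.base ⊆ Set.range U.ι.base := by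
  have e : Set.range U.ι.base = (U : Set X) := Scheme.Opens.range_ι U
  rw [e]
  exact h

noncomputable def liftOfOpen₀ (U : X.Opens) (W : X.Etale) (h : Set.range W.hom.base ⊆ (U : Set X)) :
    W.left ⟶ (U : Scheme.{u}) :=
  IsOpenImmersion.lift U.ι W.hom (range_subset_ι U W h)

lemma liftOfOpen₀_fac (U : X.Opens) (W : X.Etale) (h : Set.range W.hom.base ⊆ (U : Set X)) :
    liftOfOpen₀ U W h ≫ U.ι = W.hom :=
  IsOpenImmersion.lift_fac U.ι W.hom (range_subset_ι U W h)

noncomputable def liftOfOpen (U : X.Opens) (W : X.Etale) (h : Set.range W.hom.base ⊆ (U : Set X)) :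
    W ⟶ EtDesc.ofOpen U :=
  MorphismProperty.Over.homMk (liftOfOpen₀ U W h) (liftOfOpen₀_fac U W h)

theorem le_iff_nonempty_hom (U V : X.Opens) :
    U ≤ V ↔ Nonempty (EtDesc.repSh (EtDesc.ofOpen U) ⟶ EtDesc.repSh (EtDesc.ofOpen V)) := by
  constructor
  · intro h
    exact ⟨(presheafToSheaf X.smallEtaleTopology (Type (u + 1))).map
      (Functor.whiskerRight (yoneda.map (homOfLE h)) uliftFunctor.{u + 1, u})⟩
  · rintro ⟨m⟩
    let u₀ : (EtDesc.repSh (EtDesc.ofOpen U)).obj.obj (op (EtDesc.ofOpen U)) :=
      (toSheafify X.smallEtaleTopology (hPre (EtDesc.ofOpen U))).app (op (EtDesc.ofOpen U))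
        (ULift.up (𝟙 (EtDesc.ofOpen U)))
    have h := range_subset_of_nonempty_repSh V (EtDesc.ofOpen U) (m.hom.app _ u₀)
    intro x hx
    apply h
    exact ⟨⟨x, hx⟩, rfl⟩

section C

variable (F : EtDesc.Sh X) (hF : ∀ W : X.Etale, Subsingleton (F.obj.obj (op W)))

/-- the open of `X` over which a subterminal sheaf has sections -/
def supportOpen : X.Opens :=
  ⟨⋃ W : {W : X.Etale // Nonempty (F.obj.obj (op W))}, Set.range W.1.hom.base,
    isOpen_iUnion (fun W => W.1.hom.isOpenMap.isOpen_range)⟩

lemma range_subset_supportOpen (W : X.Etale) (s : F.obj.obj (op W)) :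
    Set.range W.hom.base ⊆ (supportOpen F : Set X) := by
  intro x hx
  exact Set.mem_iUnion.2 ⟨⟨W, ⟨s⟩⟩, hx⟩

/-- the covering sieve of the support by the étale schemes carrying a section -/
def suppSieve : Sieve (EtDesc.ofOpen (supportOpen F)) where
  arrows W _ := Nonempty (F.obj.obj (op W))
  downward_closed := by
    rintro W W' g ⟨s⟩ k
    exact ⟨F.obj.map k.op s⟩

set_option backward.isDefEq.respectTransparency.types false in
lemma suppSieve_mem : suppSieve F ∈ X.smallEtaleTopology (EtDesc.ofOpen (supportOpen F)) := by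
  rw [Groth.Agent.Lib.Helper16.SmallEtale.mem_smallEtale_iff]
  intro x
  obtain ⟨⟨W, ⟨s⟩⟩, w, hw⟩ := Set.mem_iUnion.1 x.2
  refine ⟨W, liftOfOpen (supportOpen F) W (range_subset_supportOpen F W s), w, ⟨s⟩, ?_⟩
  apply (supportOpen F).ι.isOpenEmbedding.injective
  have e1 : (supportOpen F).ι.base ((liftOfOpen₀ (supportOpen F) W
      (range_subset_supportOpen F W s)).base w) =
      (liftOfOpen₀ (supportOpen F) W (range_subset_supportOpen F W s) ≫
        (supportOpen F).ι).base w := (Scheme.Hom.comp_apply _ _ _).symm
  refine e1.trans ?_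
  rw [liftOfOpen₀_fac]
  exact hw

include hF in
/-- the canonical section of a subterminal sheaf over its support -/
lemma exists_section_supportOpen : Nonempty (F.obj.obj (op (EtDesc.ofOpen (supportOpen F)))) := by
  have hsh : Presieve.IsSheaf X.smallEtaleTopology F.obj :=
    (isSheaf_iff_isSheaf_of_type _ _).1 F.property
  let x : Presieve.FamilyOfElements F.obj (suppSieve F).arrows :=
    fun W g hg => Classical.choice hg
  have hx : x.Compatible := by
    intro W₁ W₂ Z g₁ g₂ f₁ f₂ h₁ h₂ _
    haveI := hF Z
    exact Subsingleton.elim _ _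
  exact ⟨(hsh _ (suppSieve_mem F)).amalgamate x hx⟩

include hF in
theorem exists_iso_repSh (hF' : Mono (terminal.from F)) :
    Nonempty (F ≅ EtDesc.repSh (EtDesc.ofOpen (supportOpen F))) := by
  obtain ⟨e⟩ := exists_section_supportOpen F hF
  let U := supportOpen F
  let p : hPre (EtDesc.ofOpen U) ⟶ F.obj :=
    { app := fun W => ↾(fun g => F.obj.map g.down.op e)
      naturality := by
        intro W W' k
        ext g
        haveI := hF W'.unop
        exact Subsingleton.elim (α := F.obj.obj (op W'.unop)) _ _ }
  let α : EtDesc.repSh (EtDesc.ofOpen U) ⟶ F :=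
    ((sheafificationAdjunction X.smallEtaleTopology (Type (u + 1))).homEquiv _ _).symm p
  let q : F.obj ⟶ (EtDesc.repSh (EtDesc.ofOpen U)).obj :=
    { app := fun W => ↾(fun s => (toSheafify X.smallEtaleTopology (hPre (EtDesc.ofOpen U))).app W
        (ULift.up (liftOfOpen U W.unop (range_subset_supportOpen F W.unop s))))
      naturality := by
        intro W W' k
        ext s
        haveI := subsingleton_repSh U W'.unop
        exact Subsingleton.elim (α := (EtDesc.repSh (EtDesc.ofOpen U)).obj.obj (op W'.unop)) _ _ }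
  let β : F ⟶ EtDesc.repSh (EtDesc.ofOpen U) := ObjectProperty.homMk q
  haveI := mono_terminal_from_repSh U
  exact ⟨⟨β, α, (cancel_mono (terminal.from F)).1 (terminal.hom_ext _ _),
    (cancel_mono (terminal.from (EtDesc.repSh (EtDesc.ofOpen U)))).1 (terminal.hom_ext _ _)⟩⟩

end C

end Groth.Agent.Lib.T2H8.OpenSubterminal
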