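import Mathlib

/-!
# Lengths of the local rings of `K ⊗[k] L` at minimal primes are powers of the exponential
characteristic (helper8)
-/

set_option autoImplicit false
universe u v

open TensorProduct Polynomial IntermediateField

namespace Groth.Agent.Lib.T2H8.PLen

/-- the length of a ring over itself is invariant under ring isomorphisms -/
theorem length_self_of_ringEquiv {S S' : Type*} [CommRing S] [CommRing S'] (e : S ≃+* S') :
    Module.length S S = Module.length S' S' := by
  letI : Algebra S S' := e.toRingHom.toAlgebra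
  have h1 : Module.length S S' = Module.length S' S' :=
    Module.length_eq_of_surjective (R := S') (M := S') (S := S) e.surjective
  let l : S ≃ₗ[S] S' :=
    { e with
      map_smul' := fun a b => by
        simp [Algebra.smul_def, RingHom.algebraMap_toAlgebra] }
  rw [← h1, l.length_eq]

/-- `PGood p R`: the local rings of `R` at its minimal primes have length a power of `p`. -/
def PGood (p : ℕ) (R : Type u) [CommRing R] : Prop :=
  ∀ (q : Ideal R) [q.IsPrime], q ∈ minimalPrimes R →
    ∃ n : ℕ, Module.length (Localization.AtPrime q) (Localization.AtPrime q) = ((p ^ n : ℕ) : ℕ∞)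

theorem mem_minimalPrimes_iff' {R : Type*} [CommRing R] (q : Ideal R) :
    q ∈ minimalPrimes R ↔ q.IsPrime ∧ ∀ J : Ideal R, J.IsPrime → J ≤ q → q ≤ J := by
  rw [minimalPrimes_eq_minimals]
  exact ⟨fun h => ⟨h.1, fun J hJ hJq => h.2 hJ hJq⟩, fun h => ⟨h.1, fun J hJ hJq => h.2 J hJ hJq⟩⟩

theorem PGood.of_ringEquiv {p : ℕ} {R R' : Type u} [CommRing R] [CommRing R'] (e : R ≃+* R')
    (h : PGood p R) : PGood p R' := by
  intro q' hq' hmin
  let q : Ideal R := q'.comap (e : R →+* R')
  haveI : q.IsPrime := Ideal.comap_isPrime _ _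
  have hqmin : q ∈ minimalPrimes R := by
    rw [mem_minimalPrimes_iff'] at hmin ⊢
    refine ⟨inferInstance, ?_⟩
    intro J hJ hJq
    have h1 : J.comap (e.symm : R' →+* R) ≤ q' := by
      intro x hx
      have h3 : (e : R →+* R') (e.symm x) ∈ q' := hJq hx
      rwa [RingEquiv.coe_toRingHom, RingEquiv.apply_symm_apply] at h3
    have h2 := hmin.2 _ (Ideal.comap_isPrime _ _) h1
    intro x hx
    have : e x ∈ J.comap (e.symm : R' →+* R) := h2 hx
    simpa using this
  obtain ⟨n, hn⟩ := h q hqmin
  refine ⟨n, ?_⟩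
  rw [← hn]
  exact (length_self_of_ringEquiv (Localization.localRingEquiv q q' e rfl)).symm

/-- the local ring of a reduced ring at a minimal prime is a field, of length one -/
theorem length_eq_one_of_isReduced {R : Type u} [CommRing R] [IsReduced R] (q : Ideal R)
    [q.IsPrime] (hq : q ∈ minimalPrimes R) :
    Module.length (Localization.AtPrime q) (Localization.AtPrime q) = 1 := by
  have h := IsLocalization.AtPrime.radical_map_of_mem_minimalPrimes (A := Localization.AtPrime q)
    q ⊥ hq
  rw [Ideal.map_bot, Localization.AtPrime.map_eq_maximalIdeal] at h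
  have h0 : IsLocalRing.maximalIdeal (Localization.AtPrime q) = ⊥ := by
    rw [← h]
    exact Ideal.radical_bot_of_isReduced
  have hf : IsField (Localization.AtPrime q) :=
    IsLocalRing.isField_iff_maximalIdeal_eq.mpr h0
  letI := hf.toField
  exact Module.length_eq_one_iff.mpr inferInstance

theorem PGood.of_isReduced (p : ℕ) (R : Type u) [CommRing R] [IsReduced R] : PGood p R := by
  intro q hq hmin
  exact ⟨0, by simpa using length_eq_one_of_isReduced q hmin⟩

/-- multiplicativity of the length of local rings along a flat map, in terms of the fibre -/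
theorem length_fiber_formula {S T : Type u} [CommRing S] [CommRing T] [Algebra S T]
    [Module.Flat S T] (q : Ideal S) [q.IsPrime] (r' : Ideal (q.Fiber T)) [r'.IsPrime]
    (r : Ideal T) [r.IsPrime] (hr : r = r'.comap (Algebra.TensorProduct.includeRight :
        T →ₐ[S] q.Fiber T)) :
    Module.length (Localization.AtPrime r) (Localization.AtPrime r) =
      Module.length (Localization.AtPrime q) (Localization.AtPrime q) *
      Module.length (Localization.AtPrime r') (Localization.AtPrime r') := by
  subst hr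
  set r := r'.comap (Algebra.TensorProduct.includeRight : T →ₐ[S] q.Fiber T) with hr
  let A := Localization.AtPrime q
  let B := Localization.AtPrime r
  letI := Localization.AtPrime.algebraOfLiesOver q r
  have h1 := IsLocalRing.length_baseChange A B A
  have h2 : Module.length B (B ⊗[A] A) = Module.length B B :=
    (AlgebraTensorModule.rid A B B).length_eq
  have h3 : (IsLocalRing.maximalIdeal A).map (algebraMap A B) = q.map (algebraMap S B) := by
    rw [← Localization.AtPrime.map_eq_maximalIdeal, Ideal.map_map, ← IsScalarTower.algebraMap_eq]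
  have h5 : Module.length B (B ⧸ q.map (algebraMap S B)) =
      Module.length (B ⧸ q.map (algebraMap S B)) (B ⧸ q.map (algebraMap S B)) :=
    Module.length_eq_of_surjective Ideal.Quotient.mk_surjective
  have h6 : Module.length B (B ⧸ (IsLocalRing.maximalIdeal A).map (algebraMap A B)) =
      Module.length B (B ⧸ q.map (algebraMap S B)) :=
    (Submodule.quotEquivOfEq _ _ h3).length_eq
  have h4 : Module.length (Localization.AtPrime r') (Localization.AtPrime r') =
      Module.length (B ⧸ q.map (algebraMap S B)) (B ⧸ q.map (algebraMap S B)) := by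
    let e := Ideal.Fiber.localizationAlgEquivQuotient q r'
    exact length_self_of_ringEquiv (S := Localization.AtPrime r')
      (S' := B ⧸ q.map (algebraMap S B)) e.toRingEquiv
  rw [← h2, h1, h6, h5, ← h4]

/-- going down: the contraction of a minimal prime along a flat map is minimal -/
theorem under_mem_minimalPrimes {S T : Type u} [CommRing S] [CommRing T] [Algebra S T]
    [Module.Flat S T] (r : Ideal T) [r.IsPrime] (hr : r ∈ minimalPrimes T) :
    r.under S ∈ minimalPrimes S := by
  rw [mem_minimalPrimes_iff'] at hr ⊢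
  refine ⟨inferInstance, ?_⟩
  intro J hJ hJq
  haveI : r.LiesOver (r.under S) := ⟨rfl⟩
  obtain ⟨P, hPr, hP, hPJ⟩ := Ideal.exists_ideal_le_liesOver_of_le (p := J) (q := r.under S) r hJq
  have h1 : r ≤ P := hr.2 P hP hPr
  have h2 : P = r := le_antisymm hPr h1
  rw [hPJ.over, h2]

/-- the prime of the fibre corresponding to a minimal prime is minimal -/
theorem exists_fiber_prime {S T : Type u} [CommRing S] [CommRing T] [Algebra S T]
    (r : Ideal T) [r.IsPrime] (hr : r ∈ minimalPrimes T) :
    ∃ (r' : Ideal ((r.under S).Fiber T)) (_ : r'.IsPrime), r' ∈ minimalPrimes ((r.under S).Fiber T) ∧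
      r = r'.comap (Algebra.TensorProduct.includeRight : T →ₐ[S] (r.under S).Fiber T) := by
  let q := r.under S
  let e := PrimeSpectrum.primesOverOrderIsoFiber S T q
  let r0 : q.primesOver T := ⟨r, ⟨inferInstance, ⟨rfl⟩⟩⟩
  let r' := e r0
  have h1 : (e.symm r').1 = r := by rw [OrderIso.symm_apply_apply]
  rw [PrimeSpectrum.coe_primesOverOrderIsoFiber_symm_apply] at h1
  refine ⟨r'.asIdeal, r'.2, ?_, h1.symm⟩
  rw [mem_minimalPrimes_iff'] at hr ⊢
  refine ⟨r'.2, ?_⟩
  intro J hJ hJr
  let J' : PrimeSpectrum (q.Fiber T) := ⟨J, hJ⟩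
  have h2 : J' ≤ r' := hJr
  have h3 : e.symm J' ≤ e.symm r' := e.symm.monotone h2
  have h4 : (e.symm J').1 ≤ r := by
    have : (e.symm J').1 ≤ (e.symm r').1 := h3
    rwa [OrderIso.symm_apply_apply] at this
  have h5 : r ≤ (e.symm J').1 := hr.2 _ (e.symm J').2.1 h4
  have h6 : e.symm r' ≤ e.symm J' := by
    rw [OrderIso.symm_apply_apply]
    exact h5
  have h7 : r' ≤ J' := e.symm.le_iff_le.mp h6
  exact h7

theorem PGood.of_flat {p : ℕ} {S T : Type u} [CommRing S] [CommRing T] [Algebra S T]
    [Module.Flat S T] (hS : PGood p S)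
    (hfib : ∀ (q : Ideal S) [q.IsPrime], q ∈ minimalPrimes S → PGood p (q.Fiber T)) :
    PGood p T := by
  intro r hr hmin
  obtain ⟨r', hr', hr'min, hrr'⟩ := exists_fiber_prime (S := S) r hmin
  have hq := under_mem_minimalPrimes (S := S) r hmin
  obtain ⟨a, ha⟩ := hS (r.under S) hq
  obtain ⟨b, hb⟩ := hfib (r.under S) hq r' hr'min
  refine ⟨a + b, ?_⟩
  rw [length_fiber_formula (r.under S) r' r hrr', ha, hb, pow_add]
  push_cast
  rfl

theorem isReduced_tensor_of_isSeparable (F M K : Type u) [Field F] [Field M] [Algebra F M]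
    [Algebra.IsSeparable F M] [FiniteDimensional F M] [Field K] [Algebra F K] :
    IsReduced (K ⊗[F] M) := by
  haveI : Algebra.FormallyUnramified F M := Algebra.FormallyUnramified.of_isSeparable F M
  haveI : Algebra.FormallyUnramified K (K ⊗[F] M) := inferInstance
  haveI : Algebra.EssFiniteType K (K ⊗[F] M) := inferInstance
  exact Algebra.FormallyUnramified.isReduced_of_field K (K ⊗[F] M)

theorem exists_pow_of_mul_eq_pow {p : ℕ} (hp : p = 1 ∨ p.Prime) {a c : ℕ∞} {m : ℕ}
    (h : a * c = ((p ^ m : ℕ) : ℕ∞)) : ∃ n : ℕ, a = ((p ^ n : ℕ) : ℕ∞) := by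
  have ha0 : a ≠ 0 := by
    rintro rfl
    rw [zero_mul] at h
    have : (p ^ m : ℕ) = 0 := by exact_mod_cast h.symm
    rcases hp with rfl | hp
    · simp at this
    · exact (pow_ne_zero m hp.ne_zero) this
  have hc0 : c ≠ 0 := by
    rintro rfl
    rw [mul_zero] at h
    have : (p ^ m : ℕ) = 0 := by exact_mod_cast h.symm
    rcases hp with rfl | hp
    · simp at this
    · exact (pow_ne_zero m hp.ne_zero) this
  have hat : a ≠ ⊤ := by
    rintro rfl
    rw [ENat.top_mul hc0] at h
    exact ENat.top_ne_coe _ h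
  have hct : c ≠ ⊤ := by
    rintro rfl
    rw [ENat.mul_top ha0] at h
    exact ENat.top_ne_coe _ h
  lift a to ℕ using hat
  lift c to ℕ using hct
  have h' : a * c = p ^ m := by exact_mod_cast h
  rcases hp with rfl | hp
  · refine ⟨0, ?_⟩
    simp only [one_pow] at h'
    have : a = 1 := Nat.eq_one_of_mul_eq_one_right h'
    simp [this]
  · obtain ⟨j, -, hj⟩ := (Nat.dvd_prime_pow hp).mp (Dvd.intro c h')
    exact ⟨j, by rw [hj]⟩

theorem PGood.of_isPurelyInseparable (p : ℕ) (M L K : Type u) [Field M] [Field L] [Algebra M L]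
    [IsPurelyInseparable M L] [FiniteDimensional M L] [ExpChar M p] [Field K] [Algebra M K] :
    PGood p (K ⊗[M] L) := by
  intro q hq hmin
  have hhom := PrimeSpectrum.isHomeomorph_comap_of_isPurelyInseparable M L K
  have hinj : Function.Injective (PrimeSpectrum.comap (algebraMap K (K ⊗[M] L))) := hhom.injective
  have huniq : ∀ J : Ideal (K ⊗[M] L), J.IsPrime → J = q := by
    intro J hJ
    have : (⟨J, hJ⟩ : PrimeSpectrum (K ⊗[M] L)) = ⟨q, hq⟩ := hinj (Subsingleton.elim _ _)
    exact congrArg PrimeSpectrum.asIdeal this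
  have hunit : q.primeCompl ≤ IsUnit.submonoid (K ⊗[M] L) := by
    intro x hx
    by_contra hnu
    obtain ⟨m, hm, hxm⟩ := exists_max_ideal_of_mem_nonunits hnu
    have := huniq m hm.isPrime
    exact hx (this ▸ hxm)
  let B := Localization.AtPrime q
  let e : (K ⊗[M] L) ≃ₐ[K ⊗[M] L] B := IsLocalization.atUnits (K ⊗[M] L) q.primeCompl hunit
  have h1 : Module.length K B = Module.length K (K ⊗[M] L) :=
    (e.toLinearEquiv.restrictScalars K).length_eq.symm
  have h2 : Module.length K (K ⊗[M] L) = Module.finrank K (K ⊗[M] L) :=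
    Module.length_eq_finrank K _
  have h3 : Module.finrank K (K ⊗[M] L) = Module.finrank M L := Module.finrank_baseChange
  obtain ⟨m, hm⟩ := IsPurelyInseparable.finrank_eq_pow (F := M) L p
  haveI : IsLocalHom (algebraMap K B) := by
    constructor
    intro a ha
    rcases eq_or_ne a 0 with rfl | h
    · rw [map_zero] at ha
      exact absurd ha not_isUnit_zero
    · exact h.isUnit
  have h4 := IsLocalRing.length_restrictScalars K B B
  rw [h1, h2, h3, hm] at h4
  have hp : p = 1 ∨ p.Prime := by
    rcases ‹ExpChar M p› with _ | ⟨hp⟩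
    · exact Or.inl rfl
    · exact Or.inr hp
  exact exists_pow_of_mul_eq_pow hp h4.symm

theorem isDomain_tensor_ratFunc (F K : Type u) [Field F] [Field K] [Algebra F K] :
    IsDomain (K ⊗[F] RatFunc F) := by
  let D := F[X] ⊗[F] K
  haveI hD : IsDomain D := by
    let e1 : K[X] ≃ₐ[F] K ⊗[F] F[X] := polyEquivTensor F K
    let e2 : K ⊗[F] F[X] ≃ₐ[F] F[X] ⊗[F] K := Algebra.TensorProduct.comm F K F[X]
    exact (e1.trans e2).symm.toMulEquiv.isDomain K[X]
  let T' := D ⊗[F[X]] RatFunc F
  haveI : IsLocalization (Algebra.algebraMapSubmonoid D (nonZeroDivisors F[X])) T' := inferInstance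
  have hinj : Function.Injective (algebraMap F[X] D) :=
    Algebra.TensorProduct.includeLeft_injective (S := F[X]) (algebraMap F K).injective
  have hle : Algebra.algebraMapSubmonoid D (nonZeroDivisors F[X]) ≤ nonZeroDivisors D := by
    rintro _ ⟨f, hf, rfl⟩
    apply mem_nonZeroDivisors_of_ne_zero
    intro h0
    have : f = 0 := hinj (by rw [h0, map_zero])
    exact (nonZeroDivisors.ne_zero hf) this
  haveI : IsDomain T' := IsLocalization.isDomain_of_le_nonZeroDivisors (R := D) T' hle
  let e1 : T' ≃ₐ[F[X]] RatFunc F ⊗[F[X]] D := Algebra.TensorProduct.comm F[X] D (RatFunc F)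
  let e2 : RatFunc F ⊗[F[X]] (F[X] ⊗[F] K) ≃ₐ[F[X]] RatFunc F ⊗[F] K :=
    Algebra.TensorProduct.cancelBaseChange F F[X] F[X] (RatFunc F) K
  let e3 : RatFunc F ⊗[F] K ≃ₐ[F] K ⊗[F] RatFunc F := Algebra.TensorProduct.comm F (RatFunc F) K
  let e : T' ≃+* K ⊗[F] RatFunc F :=
    e1.toRingEquiv.trans (e2.toRingEquiv.trans e3.toRingEquiv)
  exact e.symm.toMulEquiv.isDomain T'

theorem tower (p : ℕ) (k E L : Type u) [Field k] [Field E] [Field L] [Algebra k E] [Algebra E L]
    [Algebra k L] [IsScalarTower k E L]
    (hE : ∀ (K : Type u) [Field K] [Algebra k K], PGood p (K ⊗[k] E))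
    (hL : ∀ (K : Type u) [Field K] [Algebra E K], PGood p (K ⊗[E] L))
    (K : Type u) [Field K] [Algebra k K] : PGood p (K ⊗[k] L) := by
  let S := E ⊗[k] K
  have hS : PGood p S := (hE K).of_ringEquiv (Algebra.TensorProduct.comm k K E).toRingEquiv
  let T := S ⊗[E] L
  haveI : Module.Flat S T := inferInstance
  have hT : PGood p T := by
    apply PGood.of_flat hS
    intro q hq hqmin
    let e := Algebra.TensorProduct.cancelBaseChange E S S q.ResidueField L
    exact (hL q.ResidueField).of_ringEquiv e.symm.toRingEquiv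
  let e1 : T ≃ₐ[E] L ⊗[E] S := Algebra.TensorProduct.comm E S L
  let e2 : L ⊗[E] (E ⊗[k] K) ≃ₐ[E] L ⊗[k] K := Algebra.TensorProduct.cancelBaseChange k E E L K
  let e3 : L ⊗[k] K ≃ₐ[k] K ⊗[k] L := Algebra.TensorProduct.comm k L K
  exact hT.of_ringEquiv (e1.toRingEquiv.trans (e2.toRingEquiv.trans e3.toRingEquiv))

/-- finite extensions -/
theorem pgood_of_finite (p : ℕ) (F N : Type u) [Field F] [Field N] [Algebra F N] [ExpChar F p]
    [FiniteDimensional F N] (K : Type u) [Field K] [Algebra F K] : PGood p (K ⊗[F] N) := by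
  let M : IntermediateField F N := separableClosure F N
  haveI : ExpChar M p := expChar_of_injective_algebraMap (algebraMap F M).injective p
  refine tower p F M N ?_ ?_ K
  · intro K' _ _
    haveI := isReduced_tensor_of_isSeparable F M K'
    exact PGood.of_isReduced p _
  · intro K' _ _
    exact PGood.of_isPurelyInseparable p M N K'

/-- purely transcendental simple extensions -/
theorem pgood_of_ratFunc (p : ℕ) (F N : Type u) [Field F] [Field N] [Algebra F N]
    (e : RatFunc F ≃ₐ[F] N) (K : Type u) [Field K] [Algebra F K] : PGood p (K ⊗[F] N) := by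
  haveI := isDomain_tensor_ratFunc F K
  have h : PGood p (K ⊗[F] RatFunc F) := PGood.of_isReduced p _
  exact h.of_ringEquiv (Algebra.TensorProduct.congr (AlgEquiv.refl : K ≃ₐ[F] K) e).toRingEquiv

theorem main (k K L : Type u) [Field k] [Field K] [Field L] [Algebra k K] [Algebra k L]
    (hL : (⊤ : IntermediateField k L).FG) (p : ℕ) [ExpChar k p] : PGood p (K ⊗[k] L) := by
  have key : ∀ (E : IntermediateField k L), E.FG →
      ∀ (K : Type u) [Field K] [Algebra k K], PGood p (K ⊗[k] E) := by
    intro E hE
    refine IntermediateField.induction_on_adjoin_fg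
      (P := fun E : IntermediateField k L => ∀ (K : Type u) [Field K] [Algebra k K],
        PGood p (K ⊗[k] E)) ?_ ?_ E hE
    · intro K _ _
      haveI : IsReduced (K ⊗[k] (⊥ : IntermediateField k L)) := by
        let e1 : K ⊗[k] (⊥ : IntermediateField k L) ≃ₐ[k] K ⊗[k] k :=
          Algebra.TensorProduct.congr AlgEquiv.refl (IntermediateField.botEquiv k L)
        let e2 : K ⊗[k] k ≃ₐ[k] K := Algebra.TensorProduct.rid k k K
        exact isReduced_of_injective (e1.trans e2) (e1.trans e2).injective
      exact PGood.of_isReduced p _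
    · intro F x hF K _ _
      haveI : ExpChar F p := expChar_of_injective_algebraMap (algebraMap k F).injective p
      have h2 : ∀ (K' : Type u) [Field K'] [Algebra F K'], PGood p (K' ⊗[F] F⟮x⟯) := by
        intro K' _ _
        by_cases hx : IsAlgebraic F x
        · haveI := IntermediateField.adjoin.finiteDimensional hx.isIntegral
          exact pgood_of_finite p F F⟮x⟯ K'
        · exact pgood_of_ratFunc p F F⟮x⟯ (RatFunc.algEquivOfTranscendental x hx) K'
      exact tower p k F F⟮x⟯ hF h2 K
  have h := key ⊤ hL K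
  exact h.of_ringEquiv (Algebra.TensorProduct.congr (AlgEquiv.refl : K ≃ₐ[k] K)
    (IntermediateField.topEquiv : (⊤ : IntermediateField k L) ≃ₐ[k] L)).toRingEquiv

end Groth.Agent.Lib.T2H8.PLen
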