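import Mathlib

/-!
# p-rank is an isogeny invariant: the group theory (helper8)
-/

set_option autoImplicit false
universe u v

namespace Groth.Agent.Lib.T2H8.PRank

/-- the subgroup of elements killed by `N` -/
def tors (A : Type u) [CommGroup A] (N : ℕ) : Subgroup A := (powMonoidHom N : A →* A).ker

theorem mem_tors {A : Type u} [CommGroup A] {N : ℕ} (a : A) : a ∈ tors A N ↔ a ^ N = 1 := Iff.rfl

theorem card_tors_of_equiv {A : Type u} [CommGroup A] (p m i : ℕ) [NeZero p]
    (h : Nonempty (tors A (p ^ m) ≃* Multiplicative (Fin i → ZMod (p ^ m)))) :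
    Nat.card (tors A (p ^ m)) = p ^ (m * i) := by
  obtain ⟨e⟩ := h
  haveI : NeZero (p ^ m) := ⟨pow_ne_zero _ (NeZero.ne p)⟩
  rw [Nat.card_congr e.toEquiv]
  show Nat.card (Fin i → ZMod (p ^ m)) = _
  rw [Nat.card_eq_fintype_card, Fintype.card_fun, ZMod.card, Fintype.card_fin, ← pow_mul]

theorem rank_le_of_finite_ker {A : Type u} {B : Type v} [CommGroup A] [CommGroup B] (φ : A →* B)
    [Finite φ.ker] (p : ℕ) (hp : p.Prime) (i j : ℕ)
    (hA : ∀ m, Nat.card (tors A (p ^ m)) = p ^ (m * i))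
    (hB : ∀ m, Nat.card (tors B (p ^ m)) = p ^ (m * j)) : i ≤ j := by
  classical
  by_contra hij
  push Not at hij
  set n := Nat.card φ.ker with hn
  have hnpos : 0 < n := Nat.card_pos
  -- take m = n
  have hfinA : Finite (tors A (p ^ n)) := by
    apply Nat.finite_of_card_ne_zero
    rw [hA]; exact pow_ne_zero _ hp.ne_zero
  have hfinB : Finite (tors B (p ^ n)) := by
    apply Nat.finite_of_card_ne_zero
    rw [hB]; exact pow_ne_zero _ hp.ne_zero
  -- the restricted map
  let ψ : tors A (p ^ n) →* tors B (p ^ n) :=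
    { toFun := fun a => ⟨φ a.1, by
        have := a.2
        rw [mem_tors] at this ⊢
        rw [← map_pow, this, map_one]⟩
      map_one' := by ext; simp
      map_mul' := fun a b => by ext; simp }
  have hcard : Nat.card (tors A (p ^ n)) ≤ Nat.card ψ.ker * Nat.card (tors B (p ^ n)) := by
    rw [← Subgroup.card_mul_index ψ.ker]
    apply Nat.mul_le_mul_left
    rw [Subgroup.index_ker]
    exact Nat.card_le_card_of_injective _ Subtype.val_injective
  have hker : Nat.card ψ.ker ≤ n := by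
    apply Nat.card_le_card_of_injective (fun x : ψ.ker => (⟨x.1.1, by
      have := x.2
      rw [MonoidHom.mem_ker] at this ⊢
      exact congrArg Subtype.val this⟩ : φ.ker))
    intro x y hxy
    have h0 : (x.1.1 : A) = y.1.1 := congrArg (Subtype.val : φ.ker → A) hxy
    exact Subtype.ext (Subtype.ext h0)
  rw [hA, hB] at hcard
  have h1 : p ^ (n * i) ≤ n * p ^ (n * j) := hcard.trans (Nat.mul_le_mul_right _ hker)
  have h2 : n * i = n * j + n * (i - j) := by
    rw [← mul_add]; congr 1; omega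
  rw [h2, pow_add, mul_comm] at h1
  have h3 : p ^ (n * (i - j)) ≤ n := Nat.le_of_mul_le_mul_right h1 (pow_pos hp.pos _)
  have h4 : n < p ^ (n * (i - j)) := by
    calc n < 2 ^ n := Nat.lt_two_pow_self
      _ ≤ p ^ n := Nat.pow_le_pow_left hp.two_le _
      _ ≤ p ^ (n * (i - j)) := Nat.pow_le_pow_right hp.pos (Nat.le_mul_of_pos_right _ (by omega))
  omega

end Groth.Agent.Lib.T2H8.PRank

namespace Groth.Agent.Lib.T2H8.PRank

theorem rank_ge_of_finite_ker {A : Type u} {B : Type v} [CommGroup A] [CommGroup B] (φ : A →* B)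
    (hφ : Function.Surjective φ)
    [Finite φ.ker] (p : ℕ) (hp : p.Prime) (i j : ℕ)
    (hA : ∀ m, Nat.card (tors A (p ^ m)) = p ^ (m * i))
    (hB : ∀ m, Nat.card (tors B (p ^ m)) = p ^ (m * j)) : j ≤ i := by
  classical
  by_contra hij
  push Not at hij
  set n := Nat.card φ.ker with hn
  have hnpos : 0 < n := Nat.card_pos
  obtain ⟨e, n', hn', hnn'⟩ := Nat.exists_eq_pow_mul_and_not_dvd hnpos.ne' p hp.ne_one
  -- key: every `b ∈ B[p^m]` is the image of some `a ∈ A[p^(m+e)]`
  have key : ∀ m (b : B), b ^ (p ^ m) = 1 → ∃ a : A, a ^ (p ^ (m + e)) = 1 ∧ φ a = b := by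
    intro m b hb
    have hord : orderOf b ∣ p ^ m := orderOf_dvd_of_pow_eq_one hb
    have hcop : n'.Coprime (orderOf b) := by
      apply Nat.Coprime.coprime_dvd_right hord
      exact Nat.Coprime.pow_right _ ((Nat.Prime.coprime_iff_not_dvd hp).mpr hn').symm
    obtain ⟨u, hu⟩ := exists_pow_eq_self_of_coprime hcop
    obtain ⟨a, ha⟩ := hφ (b ^ u)
    refine ⟨a ^ n', ?_, ?_⟩
    · have hmem : a ^ (p ^ m) ∈ φ.ker := by
        rw [MonoidHom.mem_ker, map_pow, ha, ← pow_mul, mul_comm, pow_mul, hb, one_pow]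
      have h1 : (⟨a ^ (p ^ m), hmem⟩ : φ.ker) ^ n = 1 := pow_card_eq_one'
      have h2 : (a ^ (p ^ m)) ^ n = 1 := congrArg Subtype.val h1
      rw [← pow_mul, pow_add]
      rw [hnn', ← pow_mul] at h2
      rw [← h2]
      congr 1
      ring
    · rw [map_pow, ha, ← pow_mul, mul_comm, pow_mul, hu]
  -- take m = e * i + 1
  set m := e * i + 1 with hm
  have hfinA : Finite (tors A (p ^ (m + e))) := by
    apply Nat.finite_of_card_ne_zero
    rw [hA]; exact pow_ne_zero _ hp.ne_zero
  have hle : Nat.card (tors B (p ^ m)) ≤ Nat.card (tors A (p ^ (m + e))) := by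
    choose! g hg1 hg2 using key m
    apply Nat.card_le_card_of_injective (fun b : tors B (p ^ m) =>
      (⟨g b.1, hg1 b.1 b.2⟩ : tors A (p ^ (m + e))))
    intro b b' hbb'
    have h0 : g b.1 = g b'.1 := congrArg (Subtype.val : tors A (p ^ (m + e)) → A) hbb'
    apply Subtype.ext
    rw [← hg2 b.1 b.2, ← hg2 b'.1 b'.2, h0]
  rw [hA, hB] at hle
  have h3 : m * j ≤ (m + e) * i := (Nat.pow_le_pow_iff_right hp.one_lt).mp hle
  have h4 : (m + e) * i < m * j := by
    have : m * (i + 1) ≤ m * j := Nat.mul_le_mul_left _ hij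
    calc (m + e) * i = m * i + e * i := by ring
      _ < m * i + m := by omega
      _ = m * (i + 1) := by ring
      _ ≤ m * j := this
  omega

theorem rank_eq_of_finite_ker {A : Type u} {B : Type v} [CommGroup A] [CommGroup B] (φ : A →* B)
    (hφ : Function.Surjective φ)
    [Finite φ.ker] (p : ℕ) (hp : p.Prime) (i j : ℕ)
    (hA : ∀ m, Nonempty (tors A (p ^ m) ≃* Multiplicative (Fin i → ZMod (p ^ m))))
    (hB : ∀ m, Nonempty (tors B (p ^ m) ≃* Multiplicative (Fin j → ZMod (p ^ m)))) : i = j := by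
  haveI : NeZero p := ⟨hp.ne_zero⟩
  exact le_antisymm
    (rank_le_of_finite_ker φ p hp i j (fun m => card_tors_of_equiv p m i (hA m))
      (fun m => card_tors_of_equiv p m j (hB m)))
    (rank_ge_of_finite_ker φ hφ p hp i j (fun m => card_tors_of_equiv p m i (hA m))
      (fun m => card_tors_of_equiv p m j (hB m)))

end Groth.Agent.Lib.T2H8.PRank
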