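import Mathlib
import Groth.Agent.Lib.T2H8PRankA
import Groth.Agent.Lib.T2H8OmegaPtsB
import Groth.Prelude.Def_AbDual

/-!
# p-rank is an isogeny invariant: the geometry (helper8)
-/

set_option autoImplicit false
universe u

open CategoryTheory CategoryTheory.Limits MonoidalCategory CartesianMonoidalCategory MonObj GrpObj
  AlgebraicGeometry

namespace Groth.Agent.Lib.T2H8.PRank

variable {k : Type u} [Field k] {Ω : Type u} [Field Ω] [Algebra k Ω]

/-- the `Ω`-points as an object over `Spec k` -/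
noncomputable abbrev ptΩ (k : Type u) [Field k] (Ω : Type u) [Field Ω] [Algebra k Ω] :
    Over (Spec (CommRingCat.of k)) :=
  Over.mk (Spec.map (CommRingCat.ofHom (algebraMap k Ω)))

/-- postcomposition with a homomorphism on points -/
noncomputable def postMap {X Y : Over (Spec (CommRingCat.of k))} [GrpObj X] [GrpObj Y]
    (h : X ⟶ Y) [IsMonHom h] (T : Over (Spec (CommRingCat.of k))) : (T ⟶ X) →* (T ⟶ Y) where
  toFun x := x ≫ h
  map_one' := MonObj.one_comp h
  map_mul' a b := MonObj.mul_comp a b h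

theorem postMap_surjective [IsAlgClosed Ω] {X Y : Over (Spec (CommRingCat.of k))} [GrpObj X]
    [GrpObj Y] (h : X ⟶ Y) [IsMonHom h] [LocallyOfFiniteType h.left] [Surjective h.left] :
    Function.Surjective (postMap h (ptΩ k Ω)) := by
  intro y
  obtain ⟨x₀, hx₀⟩ := OmegaPts.exists_lift_of_surjective h.left y.left
  refine ⟨Over.homMk x₀ ?_, ?_⟩
  · have h1 := Over.w h
    have h2 := Over.w y
    rw [← h1, ← Category.assoc, hx₀, h2]
  · apply Over.OverMorphism.ext
    exact hx₀

end Groth.Agent.Lib.T2H8.PRank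

namespace Groth.Agent.Lib.T2H8.PRank

variable {k : Type u} [Field k] {Ω : Type u} [Field Ω] [Algebra k Ω]

theorem finite_ker_postMap {X Y : Over (Spec (CommRingCat.of k))} [GrpObj X]
    [GrpObj Y] (h : X ⟶ Y) [IsMonHom h] [IsFinite h.left] :
    Finite (postMap h (ptΩ k Ω)).ker := by
  let e : Spec (CommRingCat.of k) ⟶ Y.left := (η[Y]).left
  let Z := pullback h.left e
  let pZ : Z ⟶ Spec (CommRingCat.of k) := pullback.snd h.left e
  haveI : IsFinite pZ := inferInstance
  haveI : IsAffine Z := isAffine_of_isAffineHom pZ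
  let ρ : CommRingCat.of k ⟶ Γ(Z, ⊤) := Spec.preimage (Z.isoSpec.inv ≫ pZ)
  have hρ : Spec.map ρ = Z.isoSpec.inv ≫ pZ := Spec.map_preimage _
  have hρfin : ρ.hom.Finite := by
    have : IsFinite (Spec.map ρ) := by rw [hρ]; infer_instance
    exact (IsFinite.SpecMap_iff ρ).mp this
  algebraize [ρ.hom]
  have key : ∀ x : (postMap h (ptΩ k Ω)).ker, ∃ ψ : Γ(Z, ⊤) →ₐ[k] Ω,
      Spec.map (CommRingCat.ofHom ψ.toRingHom) ≫ Z.isoSpec.inv ≫ pullback.fst h.left e
        = x.1.left := by
    intro x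
    have hx : x.1 ≫ h = 1 := x.2
    have hcond : x.1.left ≫ h.left = (ptΩ k Ω).hom ≫ e := by
      have := congrArg (fun f => f.left) hx
      rw [Hom.one_def] at this
      exact this
    let z : Spec (CommRingCat.of Ω) ⟶ Z := pullback.lift x.1.left (ptΩ k Ω).hom hcond
    let ψ₀ : Γ(Z, ⊤) ⟶ CommRingCat.of Ω := Spec.preimage (z ≫ Z.isoSpec.hom)
    have hψ₀ : Spec.map ψ₀ = z ≫ Z.isoSpec.hom := Spec.map_preimage _
    have hcomm : ρ ≫ ψ₀ = CommRingCat.ofHom (algebraMap k Ω) := by
      apply Spec.map_injective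
      rw [Spec.map_comp, hψ₀, hρ, Category.assoc, Iso.hom_inv_id_assoc]
      exact pullback.lift_snd _ _ _
    refine ⟨{ ψ₀.hom with commutes' := fun a => ?_ }, ?_⟩
    · have := congrArg (fun f => f.hom a) hcomm
      exact this
    · have : CommRingCat.ofHom
          ({ ψ₀.hom with commutes' := fun a => congrArg (fun f => f.hom a) hcomm } :
            Γ(Z, ⊤) →ₐ[k] Ω).toRingHom = ψ₀ := rfl
      rw [this, hψ₀, Category.assoc, Iso.hom_inv_id_assoc]
      exact pullback.lift_fst _ _ _
  choose F hF using key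
  apply Finite.of_injective F
  intro x x' hxx'
  apply Subtype.ext
  apply Over.OverMorphism.ext
  rw [← hF x, ← hF x', hxx']

end Groth.Agent.Lib.T2H8.PRank

namespace Groth.Agent.Lib.T2H8.PRank

theorem main (k : Type u) [Field k] (p : ℕ) [Fact p.Prime]
    (X Y : Over (Spec (CommRingCat.of k)))
    [GrpObj X] [IsCommMonObj X] [GrpObj Y] [IsCommMonObj Y]
    (h : X ⟶ Y) [IsMonHom h] [IsFinite h.left] [Surjective h.left]
    (i j : ℕ)
    (hi : ∀ m : ℕ, Nonempty (AbDual.torsPts X (p ^ m)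
      (Over.mk (Spec.map (CommRingCat.ofHom (algebraMap k (AlgebraicClosure k))))) ≃*
      Multiplicative (Fin i → ZMod (p ^ m))))
    (hj : ∀ m : ℕ, Nonempty (AbDual.torsPts Y (p ^ m)
      (Over.mk (Spec.map (CommRingCat.ofHom (algebraMap k (AlgebraicClosure k))))) ≃*
      Multiplicative (Fin j → ZMod (p ^ m)))) :
    i = j := by
  haveI := finite_ker_postMap (Ω := AlgebraicClosure k) h
  exact rank_eq_of_finite_ker (postMap h (ptΩ k (AlgebraicClosure k)))
    (postMap_surjective h) p (Fact.out) i j hi hj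

end Groth.Agent.Lib.T2H8.PRank
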