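import Mathlib
import Groth.Prelude
import Groth.Agent.Lib.Helper26HzNoeth
import Groth.Agent.Lib.Helper26PairHzUnique
import Groth.Agent.Lib.Helper3HzFibSep
import Groth.Agent.Lib.Helper28HzRegD
import Groth.Agent.Lib.Helper28AULemmaG
import Groth.Agent.Lib.Helper7GRingMax
import Groth.Agent.Lib.Helper7RegComp
import Groth.Agent.Lib.Helper7QFFF
import Groth.Agent.Lib.Helper28FibreTrans

/-!
# The henselization of a pair `(A, I)` with `A` a G-ring is a G-ring (helper8)
-/

set_option autoImplicit false
set_option linter.style.haveILetI false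
set_option linter.unusedSectionVars false
universe u

namespace Groth.Agent.Lib.T2H8.PairHzGRing

open TensorProduct IsLocalRing
open Groth.Agent.Lib.Helper26.PairHz Groth.Agent.Lib.Helper18ColimSys

variable {A : Type u} [CommRing A] {I : Ideal A} {B : Type u} [CommRing B] [Algebra A B]

/-- The fibres of the henselization of a Noetherian pair are finite products of separable algebraic
field extensions. -/
theorem isPiSeparable_fiber [IsNoetherianRing A] (hB : Hens2.IsPairHenselization A I B)
    (p : Ideal A) [p.IsPrime] :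
    Groth.Agent.Lib.Helper28.HzFF.IsPiSeparable p.ResidueField (p.Fiber B) := by
  haveI : IsNoetherianRing B :=
    Groth.Agent.Lib.Helper26.HzNoeth.isNoetherianRing_of_isPairHenselization hB
  obtain ⟨ρ, hS⟩ := exists_sys_of_isPairHenselization hB
  refine Groth.Agent.Lib.Helper3.FibSep.exists_equiv_pi_separable p ?_ ?_
  · intro r _ hr
    rw [← hr]
    refine Groth.Agent.Lib.Helper3.HzFib.map_under_eq_maximalIdeal_of_forall r ?_
    intro z hz
    obtain ⟨i, c, rfl⟩ := hS.surj z
    haveI : (r.comap (ρ i).toRingHom).IsPrime := Ideal.comap_isPrime _ _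
    have hc : c ∈ r.comap (ρ i).toRingHom := hz
    obtain ⟨s, hs, hsc⟩ :=
      Groth.Agent.Lib.Helper3.HzFib.exists_mul_mem_map_of_formallyUnramified (R := A) (B := i.C)
        (r.comap (ρ i).toRingHom) hc
    refine ⟨ρ i s, hs, ?_⟩
    have h1 : ((r.comap (ρ i).toRingHom).under A) = r.under A := by
      ext a
      simp only [Ideal.under, Ideal.mem_comap]
      have : (ρ i).toRingHom (algebraMap A i.C a) = algebraMap A B a := (ρ i).commutes a
      rw [this]
    rw [h1] at hsc
    have h2 := Ideal.mem_map_of_mem (ρ i).toRingHom hsc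
    rw [Ideal.map_map] at h2
    have h3 : (ρ i).toRingHom.comp (algebraMap A i.C) = algebraMap A B := (ρ i).comp_algebraMap
    rw [h3] at h2
    rw [← map_mul]
    exact h2
  · intro s
    obtain ⟨i₀⟩ := hS.nonempty
    obtain ⟨j, φ, hφ, hx⟩ := hS.lift i₀ s
    refine ⟨j.C, inferInstance, inferInstance, inferInstance, inferInstance, ρ j, ?_⟩
    intro x hx'
    obtain ⟨y, hy⟩ := hx x hx'
    exact ⟨y, hy⟩

/-- **S9276**: the henselization of a pair `(A, I)` with `A` a G-ring is a G-ring. -/
theorem isGRing_of_isPairHenselization (hA : CAlg.IsGRing A)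
    (hB : Hens2.IsPairHenselization A I B) : CAlg.IsGRing B := by
  haveI := hA.1
  haveI : IsNoetherianRing B :=
    Groth.Agent.Lib.Helper26.HzNoeth.isNoetherianRing_of_isPairHenselization hB
  haveI : Module.Flat A B := flat_of_isPairHenselization hB
  rw [Groth.Agent.Lib.Helper7.GRingMax.isGRing_iff_maximalIdeals]
  intro n hn
  have hIn : I.map (algebraMap A B) ≤ n := hB.1.jac.trans (sInf_le ⟨bot_le, hn⟩)
  have hsurj : ∀ b : B, ∃ a : A, b - algebraMap A B a ∈ I.map (algebraMap A B) := by
    intro b
    obtain ⟨z, hz⟩ := (quotientMap_pow_bijective hB 1).2 (Ideal.Quotient.mk _ b)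
    obtain ⟨a, rfl⟩ := Ideal.Quotient.mk_surjective z
    refine ⟨a, ?_⟩
    rw [Ideal.quotientMap_mk] at hz
    have h1 := (Ideal.Quotient.mk_eq_mk_iff_sub_mem _ _).mp hz.symm
    rwa [pow_one] at h1
  obtain ⟨alg, hloc, hflat, htower, e, he⟩ :=
    Groth.Agent.Lib.Helper28.exists_ringEquiv_cpl_localization_of_surjective_mod I hsurj n hIn
  haveI : IsNoetherianRing (Localization.AtPrime (n.comap (algebraMap A B))) :=
    IsLocalization.isNoetherianRing (n.comap (algebraMap A B)).primeCompl _ inferInstance
  haveI : IsNoetherianRing (Localization.AtPrime n) :=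
    IsLocalization.isNoetherianRing n.primeCompl _ inferInstance
  haveI : IsNoetherianRing (EGA4.Cpl (Localization.AtPrime (n.comap (algebraMap A B)))) :=
    Groth.Agent.Lib.Helper19.isNoetherianRing_adicCompletion _
  haveI : IsNoetherianRing (EGA4.Cpl (Localization.AtPrime n)) :=
    Groth.Agent.Lib.Helper19.isNoetherianRing_adicCompletion _
  -- `A → (A_m)^` is regular
  have h1 : CAlg.IsRegularHom A (Localization.AtPrime (n.comap (algebraMap A B))) :=
    Groth.Agent.Lib.Helper7.RegLoc.isRegularHom_localization_self A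
      (n.comap (algebraMap A B)).primeCompl _
  have h2 : CAlg.IsRegularHom A (EGA4.Cpl (Localization.AtPrime (n.comap (algebraMap A B)))) :=
    Groth.Agent.Lib.Helper7.RegComp.isRegularHom_comp A
      (Localization.AtPrime (n.comap (algebraMap A B))) _ h1 (hA.2 (n.comap (algebraMap A B)))
  -- transfer to `A → (B_n)^`
  let eA : EGA4.Cpl (Localization.AtPrime (n.comap (algebraMap A B))) ≃ₐ[A]
      EGA4.Cpl (Localization.AtPrime n) :=
    AlgEquiv.ofRingEquiv (f := e) (by
      intro a
      rw [IsScalarTower.algebraMap_apply A (Localization.AtPrime (n.comap (algebraMap A B)))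
        (EGA4.Cpl (Localization.AtPrime (n.comap (algebraMap A B)))), he,
        ← IsScalarTower.algebraMap_apply A (Localization.AtPrime (n.comap (algebraMap A B)))
          (Localization.AtPrime n),
        ← IsScalarTower.algebraMap_apply A (Localization.AtPrime n)
          (EGA4.Cpl (Localization.AtPrime n))])
  have h3 : CAlg.IsRegularHom A (EGA4.Cpl (Localization.AtPrime n)) :=
    Groth.Agent.Lib.Helper7.QFFF.isRegularHom_of_algEquiv eA h2
  -- fibres of `B → (B_n)^`
  have h4 : CAlg.IsRegularHom B (EGA4.Cpl (Localization.AtPrime n)) := by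
    haveI : Module.Flat B (Localization.AtPrime n) := IsLocalization.flat _ n.primeCompl
    haveI : Module.Flat (Localization.AtPrime n) (EGA4.Cpl (Localization.AtPrime n)) :=
      AdicCompletion.flat_of_isNoetherian _
    refine ⟨Module.Flat.trans B (Localization.AtPrime n) _, fun q _ =>
      ⟨Groth.Agent.Lib.Helper28.isNoetherianRing_fiber q, ?_⟩⟩
    exact Groth.Agent.Lib.Helper28.HzFF.isGeometricallyRegular_fiber_of_isPiSeparable A B
      (EGA4.Cpl (Localization.AtPrime n)) (fun p _ => isPiSeparable_fiber hB p)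
      (fun p _ => (h3.2 p).2) q
  -- localize the base
  haveI : IsLocalization (Algebra.algebraMapSubmonoid (EGA4.Cpl (Localization.AtPrime n))
      n.primeCompl) (EGA4.Cpl (Localization.AtPrime n)) := by
    refine IsLocalization.of_le_isUnit ?_
    rintro _ ⟨s, hs, rfl⟩
    rw [IsScalarTower.algebraMap_apply B (Localization.AtPrime n)
      (EGA4.Cpl (Localization.AtPrime n))]
    exact (IsLocalization.map_units (Localization.AtPrime n) (⟨s, hs⟩ : n.primeCompl)).map _
  exact Groth.Agent.Lib.Helper7.RegLoc.isRegularHom_localization_base B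
    (EGA4.Cpl (Localization.AtPrime n)) h4 n.primeCompl (Localization.AtPrime n)
    (EGA4.Cpl (Localization.AtPrime n))

end Groth.Agent.Lib.T2H8.PairHzGRing
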