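import Mathlib
import Groth.Agent.Lib.T2H8FieldTorsion
import Groth.Agent.Lib.T2H8EtTraceField

/-!
# Splitting fields of degree prime to `p` (S13843)
-/

set_option autoImplicit false
set_option linter.unusedSectionVars false
set_option linter.style.haveILetI false
universe u
open CategoryTheory CategoryTheory.Limits Opposite AlgebraicGeometry Abelian

namespace Groth.Agent.Lib.T2H8.PeriodIndex

open Groth.Agent.Lib.Helper9.EtPull Groth.Agent.Lib.Helper9.EtMV
  Groth.Agent.Lib.T2H8.EtTrace Groth.Agent.Lib.T2H8.LocVanish Groth.Agent.Lib.T2H8.FieldTorsion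

section Comp

variable {T' T X : Scheme.{u}} (i : T' ⟶ T) (j : T ⟶ X) [Etale i] [Etale j]

/-- if a class dies on `T'`, its pullback to `T` dies on `T'` -/
theorem Hpull_Hpull_eq_zero (F : EtCoh.Ab X) (n : ℕ) (α : EtCoh.H X F n)
    (h : EtCore.Hpull (i ≫ j) F n α = 0) :
    EtCore.Hpull i ((EtCoh.pull j).obj F) n (EtCore.Hpull j F n α) = 0 := by
  haveI : EtShriek.JCont i := Groth.Agent.Lib.Helper9.JContAll.jCont i
  haveI : EtShriek.JCont j := Groth.Agent.Lib.Helper9.JContAll.jCont j
  haveI : EtShriek.JCont (i ≫ j) := Groth.Agent.Lib.Helper9.JContAll.jCont (i ≫ j)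
  have key : EtCore.HpullVia i j (i ≫ j) rfl F n (EtCore.Hpull j F n α) =
      EtCore.Hpull (i ≫ j) F n α := by
    rw [Hpull_eq j, HpullVia_eq, Hpull_eq (i ≫ j), Ext.mk₀_comp_mk₀_assoc, ZhMap_aug]
  rw [h] at key
  have hbij : Function.Bijective ((EtCoh.HF T' n).map
      (((EtCore.pullComp i j).symm ≪≫ EtCore.pullCongr rfl).app F).hom).hom :=
    ConcreteCategory.bijective_of_isIso _
  exact hbij.1 (key.trans (map_zero _).symm)

lemma Hpull_eq_zero_of_eq {f g : T ⟶ X} (hfg : f = g) (F : EtCoh.Ab X) (n : ℕ)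
    (α : EtCoh.H X F n) (h : EtCore.Hpull f F n α = 0) : EtCore.Hpull g F n α = 0 := by
  subst hfg
  exact h

end Comp

section Galois

open IntermediateField Module

/-- a finite Galois extension `E` containing `L`, with the fixed field of a Sylow subgroup -/
theorem exists_sylow_tower (K L : Type u) [Field K] [Field L] [Algebra K L] [FiniteDimensional K L]
    [Algebra.IsSeparable K L] (p : ℕ) [Fact p.Prime] :
    ∃ (E : Type u) (_ : Field E) (_ : Algebra K E) (_ : Algebra L E) (_ : IsScalarTower K L E)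
      (_ : FiniteDimensional K E) (_ : Algebra.IsSeparable K E) (L' : IntermediateField K E),
      ¬ p ∣ finrank K L' ∧ ∃ a : ℕ, finrank L' E = p ^ a := by
  let Ω := AlgebraicClosure L
  haveI : IsAlgClosure K Ω := inferInstance
  haveI : Normal K Ω := IsAlgClosure.normal K Ω
  let E : IntermediateField K Ω := normalClosure K L Ω
  haveI hsep : Algebra.IsSeparable K E := by
    haveI : ∀ f : L →ₐ[K] Ω, Algebra.IsSeparable K f.fieldRange := fun f =>
      AlgEquiv.Algebra.isSeparable (AlgEquiv.ofInjectiveField f)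
    exact IntermediateField.isSeparable_iSup K Ω
  haveI : IsGalois K E := ⟨⟩
  let P : Sylow p (E ≃ₐ[K] E) := default
  let L' : IntermediateField K E := fixedField (P : Subgroup (E ≃ₐ[K] E))
  refine ⟨E, inferInstance, inferInstance, inferInstance, inferInstance, inferInstance, hsep, L',
    ?_, ?_⟩
  · have h1 : finrank L' E = Nat.card (P : Subgroup (E ≃ₐ[K] E)) :=
      finrank_fixedField_eq_card _
    have h2 : finrank K L' * finrank L' E = finrank K E := Module.finrank_mul_finrank K L' E
    have h3 : Nat.card (E ≃ₐ[K] E) = finrank K E := IsGalois.card_aut_eq_finrank K E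
    have h4 := Subgroup.index_mul_card (P : Subgroup (E ≃ₐ[K] E))
    have hpos : 0 < Nat.card (P : Subgroup (E ≃ₐ[K] E)) := Nat.card_pos
    have h5 : finrank K L' = (P : Subgroup (E ≃ₐ[K] E)).index := by
      apply Nat.eq_of_mul_eq_mul_right hpos
      rw [← h1, h2, ← h3, h1, h4]
    rw [h5]
    exact P.not_dvd_index
  · have h1 : finrank L' E = Nat.card (P : Subgroup (E ≃ₐ[K] E)) :=
      finrank_fixedField_eq_card _
    rw [h1]
    exact IsPGroup.iff_card.mp P.isPGroup'

end Galois

section Main

open Module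

lemma specMap_tower (A B C : Type u) [Field A] [Field B] [Field C] [Algebra A B] [Algebra B C]
    [Algebra A C] [IsScalarTower A B C] :
    Spec.map (CommRingCat.ofHom (algebraMap B C)) ≫ Spec.map (CommRingCat.ofHom (algebraMap A B)) =
      Spec.map (CommRingCat.ofHom (algebraMap A C)) := by
  rw [← Spec.map_comp, ← CommRingCat.ofHom_comp, ← IsScalarTower.algebraMap_eq]

/-- **S13843** -/
theorem main_S13843 (K : Type u) [Field K] (F : EtCoh.Ab (Spec (CommRingCat.of K))) (i : ℕ)
    (hi : 0 < i) (α : EtCoh.H (Spec (CommRingCat.of K)) F i) (L : Type u) [Field L] [Algebra K L]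
    [FiniteDimensional K L] [Algebra.IsSeparable K L]
    [PreservesFiniteLimits (EtCoh.pull (Spec.map (CommRingCat.ofHom (algebraMap K L))))]
    (hα : EtCore.Hpull (Spec.map (CommRingCat.ofHom (algebraMap K L))) F i α = 0) (p : ℕ)
    (hp : p.Prime) (hpα : ¬ p ∣ addOrderOf α) :
    ∃ (L' : Type u) (_ : Field L') (_ : Algebra K L') (_ : FiniteDimensional K L')
      (_ : Algebra.IsSeparable K L'),
      ¬ p ∣ Module.finrank K L' ∧
        ∀ [PreservesFiniteLimits (EtCoh.pull (Spec.map (CommRingCat.ofHom (algebraMap K L'))))],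
          EtCore.Hpull (Spec.map (CommRingCat.ofHom (algebraMap K L'))) F i α = 0 := by
  haveI : Fact p.Prime := ⟨hp⟩
  obtain ⟨E, _, _, _, _, _, _, L', hdeg, a, ha⟩ := exists_sylow_tower K L p
  haveI : FiniteDimensional L E := FiniteDimensional.right K L E
  haveI : Algebra.IsSeparable L E := Algebra.isSeparable_tower_top_of_isSeparable K L E
  haveI : FiniteDimensional L' E := FiniteDimensional.right K L' E
  haveI : Algebra.IsSeparable L' E := Algebra.isSeparable_tower_top_of_isSeparable K L' E
  haveI : Algebra.IsSeparable K L' := Algebra.isSeparable_tower_bot_of_isSeparable K L' E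
  refine ⟨L', inferInstance, inferInstance, inferInstance, inferInstance, hdeg, ?_⟩
  intro inst
  have h1 : EtCore.Hpull (Spec.map (CommRingCat.ofHom (algebraMap L E)) ≫
      Spec.map (CommRingCat.ofHom (algebraMap K L))) F i α = 0 :=
    Hpull_comp_eq_zero _ _ F i α hα
  have h2 : EtCore.Hpull (Spec.map (CommRingCat.ofHom (algebraMap L' E)) ≫
      Spec.map (CommRingCat.ofHom (algebraMap K L'))) F i α = 0 :=
    Hpull_eq_zero_of_eq ((specMap_tower K L E).trans (specMap_tower K L' E).symm) F i α h1
  have h3 := Hpull_Hpull_eq_zero _ _ F i α h2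
  have h4 : finrank L' E • EtCore.Hpull (Spec.map (CommRingCat.ofHom (algebraMap K L'))) F i α = 0 :=
    main_S13842 L' E _ i _ h3
  have h5 : addOrderOf α • EtCore.Hpull (Spec.map (CommRingCat.ofHom (algebraMap K L'))) F i α = 0 := by
    rw [← map_nsmul, addOrderOf_nsmul_eq_zero, map_zero]
  rw [ha] at h4
  have hcop : Nat.Coprime (addOrderOf α) (p ^ a) :=
    Nat.Coprime.pow_right _ ((Nat.Prime.coprime_iff_not_dvd hp).2 hpα).symm
  exact eq_zero_of_nsmul_eq_zero hcop _ h4 h5

end Main

end Groth.Agent.Lib.T2H8.PeriodIndex
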