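import Mathlib
import Groth.Prelude.Def_HTop
import Groth.Prelude.Def_MoreMor

/-!
# Sheaves for the ph topology and thickenings (helper8)
-/

set_option autoImplicit false
set_option linter.style.haveILetI false

universe w v u

namespace Groth.Agent.Lib.T2H8.PhThick

open CategoryTheory Limits AlgebraicGeometry Opposite HTop

/-- A sheaf of types sends a monomorphism generating a covering sieve to a bijection. -/
theorem bijective_map_of_mono {C : Type u} [Category.{v} C] (J : GrothendieckTopology C)
    (F : Sheaf J (Type w)) {X X' : C} (f : X ⟶ X') [Mono f]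
    (hf : Sieve.generate (Presieve.singleton f) ∈ J X') : Function.Bijective (F.obj.map f.op) := by
  have hs : Presieve.IsSheafFor F.obj (Presieve.singleton f) :=
    (Presieve.isSheafFor_iff_generate _).mpr ((isSheaf_iff_isSheaf_of_type _ _).mp F.property _ hf)
  refine ⟨Presieve.isSeparatedFor_singleton.mp hs.isSeparatedFor, fun s => ?_⟩
  obtain ⟨y, hy, -⟩ := Presieve.isSheafFor_singleton.mp hs s (fun {Z} p₁ p₂ h => by
    rw [(cancel_mono f).mp h])
  exact ⟨y, hy⟩

/-- In an over category, a morphism generates a covering sieve as soon as its underlying morphism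
does. -/
theorem generate_singleton_mem_over {C : Type u} [Category.{v} C] (J : GrothendieckTopology C)
    {S : C} {X X' : Over S} (f : X ⟶ X')
    (hf : Sieve.generate (Presieve.singleton f.left) ∈ J X'.left) :
    Sieve.generate (Presieve.singleton f) ∈ (J.over S) X' := by
  rw [GrothendieckTopology.mem_over_iff]
  refine J.superset_covering ?_ hf
  rw [Sieve.generate_le_iff]
  rintro Z g ⟨⟩
  rw [Sieve.overEquiv_iff]
  refine ⟨X, Over.homMk (𝟙 _) (by simp), f, Presieve.singleton.mk, ?_⟩
  ext
  simp

/-- A surjective closed immersion, as a one-member family, is a ph covering. -/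
theorem isPhCover_singleton_of_isClosedImmersion {X X' : Scheme.{u}} (f : X ⟶ X')
    [IsClosedImmersion f] [Surjective f] :
    IsPhCover (PreZeroHypercover.singleton.{w} f) := by
  refine ⟨fun _ => (inferInstance : LocallyOfFiniteType f), fun U => ?_⟩
  haveI : IsClosedImmersion (f ∣_ (U : X'.Opens)) :=
    MorphismProperty.of_isPullback (P := @IsClosedImmersion) (isPullback_morphismRestrict f U).flip
      inferInstance
  haveI : Surjective (f ∣_ (U : X'.Opens)) :=
    MorphismProperty.of_isPullback (P := @Surjective) (isPullback_morphismRestrict f U).flip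
      inferInstance
  refine ⟨PreZeroHypercover.singleton.{0} (f ∣_ (U : X'.Opens)), ?_, ?_⟩
  · refine ⟨U.2, (inferInstance : Finite PUnit.{1}), fun _ => ?_, ?_⟩
    · exact (U.2.preimage f : IsAffineOpen (f ⁻¹ᵁ (U : X'.Opens)))
    · refine ⟨_, f ∣_ (U : X'.Opens), fun _ => 𝟙 _, inferInstance, inferInstance,
        fun _ => (inferInstance : IsOpenImmersion (𝟙 _)), fun _ => Category.id_comp _, fun x => ?_⟩
      exact ⟨⟨⟩, x, rfl⟩
  · intro j
    exact ⟨⟨⟩, (f ⁻¹ᵁ (U : X'.Opens)).ι, (morphismRestrict_ι f (U : X'.Opens)).symm⟩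

/-- A morphism from a reduced scheme lifts through a surjective closed immersion. -/
theorem exists_lift_of_isReduced {X X' Z : Scheme.{u}} (f : X ⟶ X') [IsClosedImmersion f]
    [Surjective f] [IsReduced Z] (g : Z ⟶ X') : ∃ g' : Z ⟶ X, g' ≫ f = g := by
  haveI : IsIso (pullback.fst g f) := isIso_of_isClosedImmersion_of_surjective _
  refine ⟨inv (pullback.fst g f) ≫ pullback.snd g f, ?_⟩
  rw [Category.assoc, ← pullback.condition, IsIso.inv_hom_id_assoc]

/-- A surjective closed immersion, as a one-member family, is a V covering. -/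
theorem isVCover_singleton_of_isClosedImmersion {X X' : Scheme.{u}} (f : X ⟶ X')
    [IsClosedImmersion f] [Surjective f] :
    IsVCover (PreZeroHypercover.singleton.{w} f) := by
  intro U
  haveI : IsClosedImmersion (f ∣_ (U : X'.Opens)) :=
    MorphismProperty.of_isPullback (P := @IsClosedImmersion) (isPullback_morphismRestrict f U).flip
      inferInstance
  haveI : Surjective (f ∣_ (U : X'.Opens)) :=
    MorphismProperty.of_isPullback (P := @Surjective) (isPullback_morphismRestrict f U).flip
      inferInstance
  refine ⟨PreZeroHypercover.singleton.{0} (f ∣_ (U : X'.Opens)), ?_, ?_⟩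
  · refine ⟨U.2, (inferInstance : Finite PUnit.{1}), fun _ => ?_, ?_⟩
    · exact (U.2.preimage f : IsAffineOpen (f ⁻¹ᵁ (U : X'.Opens)))
    · intro V _ _ g
      obtain ⟨g', hg'⟩ := exists_lift_of_isReduced (f ∣_ (U : X'.Opens)) g
      refine ⟨V, inferInstance, inferInstance, 𝟙 V, ⟨Function.injective_id, ?_⟩, ⟨⟩, g', ?_⟩
      · exact isLocalHom_id _
      · rw [Spec.map_id, Category.id_comp]
        exact hg'
  · intro j
    exact ⟨⟨⟩, (f ⁻¹ᵁ (U : X'.Opens)).ι, (morphismRestrict_ι f (U : X'.Opens)).symm⟩

end Groth.Agent.Lib.T2H8.PhThick
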