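import Mathlib
import Groth.Prelude.Def_BigSite
import Groth.Agent.Lib.T2H8FiniteSplit

set_option autoImplicit false
universe u

open CategoryTheory CategoryTheory.Limits AlgebraicGeometry Opposite

namespace Groth.Agent.Lib.T2H8PropA

open Groth.Agent.Lib.Helper20.EtSections Groth.Agent.Lib.T2H8FiniteSplit

set_option backward.isDefEq.respectTransparency.types false in
theorem propA_of_separated_lqf {X Y : Scheme.{u}} (f : X ⟶ Y) [IsSeparated f]
    [LocallyQuasiFinite f] [LocallyOfFiniteType f] : BigSite.PropA f := by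
  intro U g _ u
  -- step 1: split off a finite clopen part around a point over `g u`
  obtain ⟨Y₁, g₁, y₁, hg₁, hy₁, -, V, -, hV⟩ := exists_etale_split_clopen f (f (g u)) {g u}
    (Set.finite_singleton _) (by
      intro t ht
      rw [Set.mem_singleton_iff] at ht
      subst ht
      exact ⟨rfl, Scheme.Hom.quasiFiniteAt _ _⟩)
  obtain ⟨w, hw1, hw2⟩ := Scheme.Pullback.exists_preimage_pullback (f := f) (g := g₁)
    (g u) y₁ hy₁.symm
  obtain ⟨hwV, hVclopen, hVfin, hVuniq, -, -⟩ := hV w hw2 (by rw [hw1]; rfl)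
  let Z : (pullback f g₁).Opens := V w
  let fZ : (Z : Scheme.{u}) ⟶ Y₁ := Z.ι ≫ pullback.snd f g₁
  have hfZ : IsFinite fZ := hVfin
  -- step 2: shrink `U` so that `u` is the only point over `g u`
  have hlqf : LocallyQuasiFinite g := locallyQuasiFinite_of_etale g
  obtain ⟨O, hO, hOu⟩ := (isDiscrete_iff_forall_mem_exists_isOpen.mp
    (g.isDiscrete_preimage_singleton (g u))) u rfl
  let U' : U.Opens := ⟨O, hO⟩
  have huU' : u ∈ U' := by
    have : u ∈ O ∩ g ⁻¹' {g u} := by rw [hOu]; rfl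
    exact this.1
  -- step 3: the etale cover of `Z`
  let a : (U' : Scheme.{u}) ⟶ X := U'.ι ≫ g
  let b : (Z : Scheme.{u}) ⟶ X := Z.ι ≫ pullback.fst f g₁
  let E : Unit → Scheme.{u} := fun _ => pullback a b
  let e : ∀ i, E i ⟶ (Z : Scheme.{u}) := fun _ => pullback.snd a b
  have hcov : ∀ z : Z, fZ z = y₁ → ∃ i, z ∈ Set.range (e i) := by
    intro z hz
    have hzw : Z.ι z = w := hVuniq (Z.ι z) z.2 hz
    have h1 : a ⟨u, huU'⟩ = b z := by
      change g u = pullback.fst f g₁ (Z.ι z)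
      rw [hzw, hw1]
    obtain ⟨c, -, hc⟩ := Scheme.Pullback.exists_preimage_pullback (f := a) (g := b) _ _ h1
    exact ⟨(), c, hc⟩
  obtain ⟨Y₂, g₂, y₂, Z', p, q, hg₂, hy₂, sq, K, hK, D, pt, hdisj, htop, hpt, hlift⟩ :=
    exists_split (E := E) (e := e) fZ y₁ hcov
  -- step 4: choose a piece
  obtain ⟨z₀, hz₀1, hz₀2⟩ := exists_preimage_of_isPullback sq (⟨w, hwV⟩ : Z) y₂
    (by rw [hy₂]; exact hw2)
  have hz₀mem : z₀ ∈ (⨆ a, D a) := by rw [htop]; trivial
  obtain ⟨k, hk⟩ := TopologicalSpace.Opens.mem_iSup.mp hz₀mem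
  obtain ⟨i₀, h₀, hh₀⟩ := hlift k
  -- the clopen immersion `Z' ⟶ pullback f (g₂ ≫ g₁)`
  let bm : pullback f (g₂ ≫ g₁) ⟶ pullback f g₁ := bcMap f g₁ g₂
  let c : Z' ⟶ pullback f (g₂ ≫ g₁) := pullback.lift (p ≫ b) q (by
    have := sq.w
    simp only [b, fZ, Category.assoc] at this ⊢
    rw [pullback.condition, reassoc_of% this])
  have hc1 : c ≫ pullback.fst f (g₂ ≫ g₁) = p ≫ b := pullback.lift_fst _ _ _
  have hc2 : c ≫ pullback.snd f (g₂ ≫ g₁) = q := pullback.lift_snd _ _ _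
  have hcb : c ≫ bm = p ≫ Z.ι := by
    apply pullback.hom_ext
    · rw [Category.assoc, bcMap_fst, hc1, Category.assoc]
    · rw [Category.assoc, bcMap_snd, reassoc_of% hc2, Category.assoc]
      exact sq.w.symm
  have sqc : IsPullback p c Z.ι bm := by
    refine IsPullback.of_bot ?_ hcb.symm (isPullback_bcMap f g₁ g₂)
    rw [hc2]
    exact sq
  have hcoi : IsOpenImmersion c := MorphismProperty.of_isPullback (P := @IsOpenImmersion) sqc
    inferInstance
  have hZιfin : IsFinite Z.ι := by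
    have hsep : IsSeparated (pullback.snd f g₁) :=
      MorphismProperty.of_isPullback (P := @IsSeparated) (IsPullback.of_hasPullback f g₁) ‹_›
    exact IsFinite.of_comp Z.ι (pullback.snd f g₁)
  have hcfin : IsFinite c := MorphismProperty.of_isPullback (P := @IsFinite) sqc hZιfin
  -- `D k` is closed in `Z'`
  have hDclosed : IsClosed (D k : Set Z') := by
    have : (D k : Set Z')ᶜ = ⋃ (j : K) (_ : j ≠ k), (D j : Set Z') := by
      ext x
      simp only [Set.mem_compl_iff, SetLike.mem_coe, Set.mem_iUnion, exists_prop]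
      constructor
      · intro hx
        have hx' : x ∈ (⨆ a, D a) := by rw [htop]; trivial
        obtain ⟨j, hj⟩ := TopologicalSpace.Opens.mem_iSup.mp hx'
        exact ⟨j, fun hjk => hx (hjk ▸ hj), hj⟩
      · rintro ⟨j, hjk, hj⟩ hx
        exact (hdisj j k hjk).le_bot ⟨hj, hx⟩
    rw [← isOpen_compl_iff, this]
    exact isOpen_iUnion fun j => isOpen_iUnion fun _ => (D j).isOpen
  let W : (pullback f (g₂ ≫ g₁)).Opens := c ''ᵁ D k
  have hWclosed : IsClosed (W : Set ↥(pullback f (g₂ ≫ g₁))) := by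
    change IsClosed (c '' (D k : Set Z'))
    exact c.isClosedMap _ hDclosed
  refine ⟨Y₂, g₂ ≫ g₁, inferInstance, W, hWclosed,
    (c.isoImage (D k)).inv ≫ h₀ ≫ pullback.fst a b ≫ U'.ι, ?_, ?_⟩
  · have e1 : (h₀ ≫ pullback.fst a b ≫ U'.ι) ≫ g = (D k).ι ≫ c ≫ pullback.fst f (g₂ ≫ g₁) := by
      have := pullback.condition (f := a) (g := b)
      simp only [a, Category.assoc] at this ⊢
      rw [this, reassoc_of% hh₀, hc1]
    rw [Category.assoc, e1, ← Category.assoc (D k).ι, ← Scheme.Hom.isoImage_hom_ι,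
      Category.assoc, Iso.inv_hom_id_assoc]
  · -- `u` is in the range
    have hptk := hpt k
    let z₁ : (D k : Scheme.{u}) := ⟨z₀, hk⟩
    refine ⟨(c.isoImage (D k)).hom z₁, ?_⟩
    rw [← Scheme.Hom.comp_apply, Iso.hom_inv_id_assoc]
    set u'' := (h₀ ≫ pullback.fst a b) z₁ with hu''
    have hgu'' : a u'' = g u := by
      have h1 : (h₀ ≫ pullback.fst a b ≫ a) = (D k).ι ≫ p ≫ b := by
        rw [pullback.condition, reassoc_of% hh₀]
      have h2 := congrArg (fun m : (D k : Scheme.{u}) ⟶ X => m z₁) h1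
      simp only [Scheme.Hom.comp_apply] at h2
      refine Eq.trans ?_ (h2.trans ?_)
      · rfl
      · change pullback.fst f g₁ (Z.ι (p z₀)) = g u
        rw [hz₀1]
        exact hw1
    have hmem : U'.ι u'' ∈ O ∩ g ⁻¹' {g u} := ⟨u''.2, hgu''⟩
    rw [hOu] at hmem
    rw [Scheme.Hom.comp_apply, Scheme.Hom.comp_apply]
    exact hmem

end Groth.Agent.Lib.T2H8PropA
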