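import Mathlib
import Groth.Prelude.Def_BigSite
import Groth.Agent.Lib.T2H8IntegralDescent
import Groth.Agent.Lib.T2H8PropA

set_option autoImplicit false
universe u

open CategoryTheory CategoryTheory.Limits AlgebraicGeometry Opposite

namespace Groth.Agent.Lib.T2H8PropAIntegral

open Groth.Agent.Lib.T2H8FiniteSplit Groth.Agent.Lib.T2H8IntegralDescent
open Groth.Agent.Lib.Helper20.EtSections

set_option backward.isDefEq.respectTransparency.types false in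
theorem propA_of_isIntegralHom {X Y : Scheme.{u}} (f : X ⟶ Y) [IsIntegralHom f] :
    BigSite.PropA f := by
  intro U g _ u
  -- step 1: affine neighbourhood in `Y`
  obtain ⟨Y₀, hY₀, hyY₀, -⟩ := exists_isAffineOpen_mem_and_subset (x := f (g u))
    (U := (⊤ : Y.Opens)) trivial
  have : IsAffine (Y₀ : Scheme.{u}) := hY₀
  let X₀ : X.Opens := f ⁻¹ᵁ Y₀
  let f₁ : (X₀ : Scheme.{u}) ⟶ Y₀ := f ∣_ Y₀
  -- step 2: shrink `U`
  have hlqf : LocallyQuasiFinite g := locallyQuasiFinite_of_etale g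
  obtain ⟨O, hO, hOu⟩ := (isDiscrete_iff_forall_mem_exists_isOpen.mp
    (g.isDiscrete_preimage_singleton (g u))) u rfl
  have huO : u ∈ O := by
    have : u ∈ O ∩ g ⁻¹' {g u} := by rw [hOu]; rfl
    exact this.1
  have hu1 : u ∈ (⟨O, hO⟩ : U.Opens) ⊓ g ⁻¹ᵁ X₀ := ⟨huO, hyY₀⟩
  obtain ⟨A, hA, huA, hAle⟩ := exists_isAffineOpen_mem_and_subset hu1
  have : IsAffine (A : Scheme.{u}) := hA
  have hAX₀ : A ≤ g ⁻¹ᵁ X₀ := fun a ha => (hAle ha).2
  let g₁ : (A : Scheme.{u}) ⟶ X₀ := g.resLE X₀ A hAX₀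
  have hg₁ : g₁ ≫ X₀.ι = A.ι ≫ g := Scheme.Hom.resLE_comp_ι _ _
  have hg₁et : Etale g₁ := by
    dsimp only [g₁, Scheme.Hom.resLE]
    infer_instance
  -- step 3: descent
  obtain ⟨Xt, π, ft, Ut, gt, k, h1, h2, h3, h4, h5, h6, sq⟩ := exists_descent_scheme f₁ g₁
  -- step 4: (A) for the finite morphism
  obtain ⟨V, vt, hvt, Wt, hWt, ht, hht, ⟨wt, hwt⟩⟩ :=
    Groth.Agent.Lib.T2H8PropA.propA_of_separated_lqf ft Ut gt (k ⟨u, huA⟩)
  -- step 5: assemble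
  obtain ⟨v, hv⟩ : ∃ v : V ⟶ Y, v = vt ≫ Y₀.ι := ⟨_, rfl⟩
  have hvet : Etale v := hv ▸ inferInstance
  have hvapp : ∀ z : V, v z = Y₀.ι (vt z) := fun z => by rw [hv]; rfl
  have hrange : Set.range (pullback.fst f v) ⊆ Set.range X₀.ι := by
    rintro _ ⟨p, rfl⟩
    rw [Scheme.Opens.range_ι]
    change f (pullback.fst f v p) ∈ Y₀
    rw [← Scheme.Hom.comp_apply, pullback.condition, Scheme.Hom.comp_apply, hvapp]
    exact (vt _).2
  let bm₀ : pullback f v ⟶ X₀ := IsOpenImmersion.lift X₀.ι (pullback.fst f v) hrange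
  have hbm₀ : bm₀ ≫ X₀.ι = pullback.fst f v := IsOpenImmersion.lift_fac _ _ _
  have hbm₀f₁ : bm₀ ≫ f₁ = pullback.snd f v ≫ vt := by
    rw [← cancel_mono Y₀.ι, Category.assoc, morphismRestrict_ι, reassoc_of% hbm₀,
      pullback.condition, Category.assoc, ← hv]
  have sqP : IsPullback bm₀ (pullback.snd f v) f₁ vt := by
    refine IsPullback.of_right ?_ hbm₀f₁ (isPullback_morphismRestrict f Y₀).flip
    rw [hbm₀, ← hv]
    exact IsPullback.of_hasPullback f v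
  let πh : pullback f v ⟶ pullback ft vt :=
    pullback.lift (bm₀ ≫ π) (pullback.snd f v) (by rw [Category.assoc, h1, hbm₀f₁])
  have hπh1 : πh ≫ pullback.fst ft vt = bm₀ ≫ π := pullback.lift_fst _ _ _
  have hπh2 : πh ≫ pullback.snd ft vt = pullback.snd f v := pullback.lift_snd _ _ _
  have sqπ : IsPullback bm₀ πh π (pullback.fst ft vt) := by
    refine IsPullback.of_bot ?_ hπh1.symm (IsPullback.of_hasPullback ft vt)
    rw [hπh2, h1]
    exact sqP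
  let W : (pullback f v).Opens := πh ⁻¹ᵁ Wt
  have hW : IsClosed (W : Set ↥(pullback f v)) := hWt.preimage πh.continuous
  let r : (W : Scheme.{u}) ⟶ Wt := πh.resLE Wt W le_rfl
  have hr : r ≫ Wt.ι = W.ι ≫ πh := Scheme.Hom.resLE_comp_ι _ _
  let ℓ : (W : Scheme.{u}) ⟶ A := sq.lift (r ≫ ht) (W.ι ≫ bm₀) (by
    rw [Category.assoc, hht, reassoc_of% hr, hπh1, Category.assoc])
  have hℓ1 : ℓ ≫ k = r ≫ ht := sq.lift_fst _ _ _
  have hℓ2 : ℓ ≫ g₁ = W.ι ≫ bm₀ := sq.lift_snd _ _ _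
  refine ⟨V, v, hvet, W, hW, ℓ ≫ A.ι, ?_, ?_⟩
  · rw [Category.assoc, ← hg₁, reassoc_of% hℓ2, hbm₀]
  · -- the point
    have hx : π (g₁ ⟨u, huA⟩) = pullback.fst ft vt (Wt.ι wt) := by
      have e1 : (k ≫ gt) ⟨u, huA⟩ = (g₁ ≫ π) ⟨u, huA⟩ := by rw [sq.w]
      have e2 : (ht ≫ gt) wt = (Wt.ι ≫ pullback.fst ft vt) wt := by rw [hht]
      simp only [Scheme.Hom.comp_apply] at e1 e2
      rw [← e1, ← e2, hwt]
    obtain ⟨p, hp1, hp2⟩ := exists_preimage_of_isPullback sqπ (g₁ ⟨u, huA⟩) (Wt.ι wt) hx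
    have hpW : p ∈ W := by
      change πh p ∈ Wt
      rw [hp2]
      exact wt.2
    refine ⟨⟨p, hpW⟩, ?_⟩
    set u' := ℓ ⟨p, hpW⟩ with hu'
    have hgu' : g (A.ι u') = g u := by
      have e1 : (ℓ ≫ g₁ ≫ X₀.ι) ⟨p, hpW⟩ = (W.ι ≫ bm₀ ≫ X₀.ι) ⟨p, hpW⟩ := by
        rw [reassoc_of% hℓ2]
      rw [hg₁] at e1
      simp only [Scheme.Hom.comp_apply] at e1
      refine e1.trans ?_
      change X₀.ι (bm₀ p) = g u
      rw [hp1]
      have e2 : (g₁ ≫ X₀.ι) ⟨u, huA⟩ = (A.ι ≫ g) ⟨u, huA⟩ := by rw [hg₁]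
      simp only [Scheme.Hom.comp_apply] at e2
      exact e2
    have hmem : A.ι u' ∈ O ∩ g ⁻¹' {g u} := ⟨(hAle u'.2).1, hgu'⟩
    rw [hOu] at hmem
    rw [Scheme.Hom.comp_apply]
    exact hmem

end Groth.Agent.Lib.T2H8PropAIntegral
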