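import Mathlib
set_option autoImplicit false

namespace Groth.Agent.Lib.T2H8.Prufer

/-- the trinomial trick: for finitely many elements of fields there are `e, N ≥ 1` with
`z^(e+N) - z^e + 1 ≠ 0` for all of them -/
theorem exists_trinomial_ne_zero {ι : Type*} [Finite ι] (κ : ι → Type*) [∀ i, Field (κ i)]
    (z : ∀ i, κ i) :
    ∃ e N : ℕ, 1 ≤ e ∧ 1 ≤ N ∧ ∀ i, z i ^ (e + N) - z i ^ e + 1 ≠ 0 := by
  classical
  haveI := Fintype.ofFinite ι
  -- orders of the roots of unity
  let nn : ι → ℕ := fun i => if h : ∃ n : ℕ, 1 ≤ n ∧ z i ^ n = 1 then h.choose else 1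
  have hnn1 : ∀ i, 1 ≤ nn i := by
    intro i
    simp only [nn]
    split_ifs with h
    · exact h.choose_spec.1
    · exact le_rfl
  have hnn : ∀ i, (∃ n : ℕ, 1 ≤ n ∧ z i ^ n = 1) → z i ^ nn i = 1 := by
    intro i h
    simp only [nn]
    rw [dif_pos h]
    exact h.choose_spec.2
  set N := ∏ i, nn i with hN
  have hN1 : 1 ≤ N := by
    rw [hN]
    exact Nat.one_le_iff_ne_zero.mpr (Finset.prod_ne_zero_iff.mpr fun i _ => by
      have := hnn1 i; omega)
  have hzN : ∀ i, (∃ n : ℕ, 1 ≤ n ∧ z i ^ n = 1) → z i ^ N = 1 := by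
    intro i h
    obtain ⟨m, hm⟩ : nn i ∣ N := Finset.dvd_prod_of_mem nn (Finset.mem_univ i)
    rw [hm, pow_mul, hnn i h, one_pow]
  -- the bad exponents
  let bad : ι → Set ℕ := fun i => {e | z i ^ (e + N) - z i ^ e + 1 = 0}
  have hbad : ∀ i, (¬ ∃ n : ℕ, 1 ≤ n ∧ z i ^ n = 1) → (bad i).Subsingleton := by
    intro i hi
    have key : ∀ e e' : ℕ, e < e' → e ∈ bad i → e' ∈ bad i → False := by
      intro e e' hlt he he'
      simp only [bad, Set.mem_setOf_eq] at he he'
      have h1 : z i ^ N - 1 ≠ 0 := by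
        intro h0
        exact hi ⟨N, hN1, sub_eq_zero.mp h0⟩
      have h2 : z i ^ e * (z i ^ N - 1) = z i ^ e' * (z i ^ N - 1) := by
        have e1 : z i ^ e * (z i ^ N - 1) = -1 := by
          rw [pow_add] at he; linear_combination he
        have e2 : z i ^ e' * (z i ^ N - 1) = -1 := by
          rw [pow_add] at he'; linear_combination he'
        rw [e1, e2]
      have h3 : z i ^ e = z i ^ e' := mul_right_cancel₀ h1 h2
      obtain ⟨k, rfl⟩ : ∃ k, e' = e + k := ⟨e' - e, by omega⟩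
      have hk : 1 ≤ k := by omega
      rw [pow_add] at h3
      have h4 : z i ^ e * (z i ^ k - 1) = 0 := by linear_combination -h3
      rcases mul_eq_zero.mp h4 with h5 | h5
      · rw [pow_add, h5] at he
        simp at he
      · exact hi ⟨k, hk, sub_eq_zero.mp h5⟩
    intro e he e' he'
    rcases lt_trichotomy e e' with h | h | h
    · exact (key e e' h he he').elim
    · exact h
    · exact (key e' e h he' he).elim
  have hfin : (⋃ i ∈ {i : ι | ¬ ∃ n : ℕ, 1 ≤ n ∧ z i ^ n = 1}, bad i).Finite :=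
    Set.Finite.biUnion (Set.toFinite _) (fun i hi => (hbad i hi).finite)
  obtain ⟨B, hB⟩ := hfin.bddAbove
  refine ⟨B + 1, N, by omega, hN1, fun i => ?_⟩
  by_cases hi : ∃ n : ℕ, 1 ≤ n ∧ z i ^ n = 1
  · rw [pow_add, hzN i hi, mul_one, sub_self, zero_add]
    exact one_ne_zero
  · intro h0
    have hmem : B + 1 ∈ ⋃ i ∈ {i : ι | ¬ ∃ n : ℕ, 1 ≤ n ∧ z i ^ n = 1}, bad i :=
      Set.mem_biUnion (x := i) hi h0
    have := hB hmem
    omega

section valring

variable {A K : Type*} [CommRing A] [IsDomain A] [ValuationRing A] [Field K] [Algebra A K]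
  [IsFractionRing A K]

/-- for a valuation ring `A` of `K` and `x : K`: if the residue of `x` (when `x ∈ A`) is not a root
of the trinomial, then all `x^j / f(x)`, `j ≤ e + N`, lie in `A` and `f(x) ≠ 0` -/
theorem trinomial_div_mem (x : K) (e N : ℕ) (hN : 1 ≤ N)
    (h : ∀ ξ : A, algebraMap A K ξ = x →
      IsLocalRing.residue A ξ ^ (e + N) - IsLocalRing.residue A ξ ^ e + 1 ≠ 0) :
    x ^ (e + N) - x ^ e + 1 ≠ 0 ∧ ∀ j ≤ e + N, ∃ ζ : A,
      algebraMap A K ζ = x ^ j / (x ^ (e + N) - x ^ e + 1) := by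
  by_cases hx : ∃ ξ : A, algebraMap A K ξ = x
  · -- `x ∈ A`
    obtain ⟨ξ, hξ'⟩ := hx
    have hu : IsUnit (ξ ^ (e + N) - ξ ^ e + 1) := by
      rw [← IsLocalRing.residue_ne_zero_iff_isUnit]
      simpa using h ξ hξ'
    obtain ⟨g, hg⟩ := hu
    have hfx : x ^ (e + N) - x ^ e + 1 = algebraMap A K (g : A) := by
      rw [hg, ← hξ']
      simp
    have hne : algebraMap A K (g : A) ≠ 0 := by
      intro h0
      have := (IsFractionRing.injective A K) (h0.trans (map_zero _).symm)
      exact g.ne_zero this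
    refine ⟨hfx ▸ hne, fun j _ => ⟨ξ ^ j * ((g⁻¹ : Aˣ) : A), ?_⟩⟩
    rw [hfx, eq_div_iff hne, ← hξ', ← map_pow, ← map_mul, mul_assoc, Units.inv_mul, mul_one]
  · -- `x ∉ A`, so `x⁻¹` is a non-unit of `A`
    have hx0 : x ≠ 0 := by
      intro h0
      exact hx ⟨0, by rw [h0, map_zero]⟩
    obtain ⟨η, hη'⟩ : ∃ η : A, algebraMap A K η = x⁻¹ := by
      rcases ValuationRing.isInteger_or_isInteger A x with ⟨ξ, hξ⟩ | ⟨η, hη⟩
      · exact (hx ⟨ξ, hξ⟩).elim
      · exact ⟨η, hη⟩
    have hηu : ¬ IsUnit η := by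
      rintro ⟨w, hw⟩
      apply hx
      refine ⟨((w⁻¹ : Aˣ) : A), ?_⟩
      have h1 : algebraMap A K ((w⁻¹ : Aˣ) : A) * algebraMap A K η = 1 := by
        rw [← map_mul, ← hw, Units.inv_mul, map_one]
      rw [hη'] at h1
      field_simp at h1
      exact h1
    have hηm : η ∈ IsLocalRing.maximalIdeal A := (IsLocalRing.mem_maximalIdeal η).mpr hηu
    have hgu : IsUnit (1 - (η ^ N - η ^ (e + N))) := by
      apply IsLocalRing.isUnit_one_sub_self_of_mem_nonunits
      rw [← IsLocalRing.mem_maximalIdeal]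
      refine Ideal.sub_mem _ (Ideal.pow_mem_of_mem _ hηm N (by omega))
        (Ideal.pow_mem_of_mem _ hηm (e + N) (by omega))
    obtain ⟨g, hg⟩ := hgu
    have hfx : x ^ (e + N) - x ^ e + 1 = x ^ (e + N) * algebraMap A K (g : A) := by
      rw [hg, map_sub, map_one, map_sub, map_pow, map_pow, hη']
      have hxy : x * x⁻¹ = 1 := mul_inv_cancel₀ hx0
      calc x ^ (e + N) - x ^ e + 1
          = x ^ (e + N) - x ^ e * (x * x⁻¹) ^ N + (x * x⁻¹) ^ (e + N) := by
            rw [hxy, one_pow, one_pow, mul_one]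
        _ = x ^ (e + N) * (1 - (x⁻¹ ^ N - x⁻¹ ^ (e + N))) := by
            rw [mul_pow, mul_pow, pow_add]; ring
    have hne : algebraMap A K (g : A) ≠ 0 := by
      intro h0
      have := (IsFractionRing.injective A K) (h0.trans (map_zero _).symm)
      exact g.ne_zero this
    refine ⟨by rw [hfx]; exact mul_ne_zero (pow_ne_zero _ hx0) hne, fun j hj => ?_⟩
    refine ⟨η ^ (e + N - j) * ((g⁻¹ : Aˣ) : A), ?_⟩
    rw [hfx, eq_div_iff (mul_ne_zero (pow_ne_zero _ hx0) hne), map_mul, map_pow, hη']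
    have h2 : algebraMap A K ((g⁻¹ : Aˣ) : A) * algebraMap A K (g : A) = 1 := by
      rw [← map_mul, Units.inv_mul, map_one]
    obtain ⟨k, hk⟩ : ∃ k, e + N = j + k := ⟨e + N - j, by omega⟩
    rw [hk, Nat.add_sub_cancel_left]
    calc x⁻¹ ^ k * algebraMap A K ((g⁻¹ : Aˣ) : A) * (x ^ (j + k) * algebraMap A K (g : A))
        = (x⁻¹ ^ k * x ^ k) * x ^ j *
            (algebraMap A K ((g⁻¹ : Aˣ) : A) * algebraMap A K (g : A)) := by
          rw [pow_add]; ring
      _ = x ^ j := by
          rw [h2, mul_one, ← mul_pow, inv_mul_cancel₀ hx0, one_pow, one_mul]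

end valring

section semilocal

variable (R : Type*) [CommRing R] [IsDomain R]

/-- an element of the fraction field lying in all localizations at maximal ideals lies in `R` -/
theorem mem_range_of_forall_maximal (y : FractionRing R)
    (h : ∀ m : MaximalSpectrum R, ∃ ζ : Localization.AtPrime m.asIdeal,
      algebraMap (Localization.AtPrime m.asIdeal) (FractionRing R) ζ = y) :
    ∃ r : R, algebraMap R (FractionRing R) r = y := by
  let I : Ideal R :=
    { carrier := {r | ∃ r' : R, algebraMap R (FractionRing R) r' = algebraMap R (FractionRing R) r * y}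
      add_mem' := by
        rintro a b ⟨a', ha⟩ ⟨b', hb⟩
        exact ⟨a' + b', by rw [map_add, map_add, ha, hb, add_mul]⟩
      zero_mem' := ⟨0, by rw [map_zero, zero_mul]⟩
      smul_mem' := by
        rintro c a ⟨a', ha⟩
        exact ⟨c * a', by rw [smul_eq_mul, map_mul, map_mul, ha, mul_assoc]⟩ }
  have hI : I = ⊤ := by
    by_contra hne
    obtain ⟨m, hm, hIm⟩ := Ideal.exists_le_maximal I hne
    obtain ⟨ζ, hζ⟩ := h ⟨m, hm⟩
    obtain ⟨a, b, rfl⟩ := IsLocalization.exists_mk'_eq m.primeCompl ζ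
    have hb : (b : R) ∈ I := by
      refine ⟨a, ?_⟩
      rw [← hζ, IsScalarTower.algebraMap_apply R (Localization.AtPrime m) (FractionRing R) a,
        IsScalarTower.algebraMap_apply R (Localization.AtPrime m) (FractionRing R) (b : R),
        ← map_mul]
      congr 1
      rw [mul_comm, IsLocalization.mk'_spec]
    exact b.2 (hIm hb)
  have h1 : (1 : R) ∈ I := hI ▸ Submodule.mem_top
  obtain ⟨r', hr'⟩ := h1
  exact ⟨r', by rw [hr', map_one, one_mul]⟩

/-- the key lemma for semilocal Prüfer domains: for every `x` in the fraction field there is a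
trinomial `f = X^(e+N) - X^e + 1` with `f(x) ≠ 0` and `x^j / f(x) ∈ R` for all `j ≤ e + N` -/
theorem exists_trinomial_div_mem
    (hR : ∀ (p : Ideal R) [p.IsPrime], ValuationRing (Localization.AtPrime p))
    [Finite (MaximalSpectrum R)] (x : FractionRing R) :
    ∃ e N : ℕ, 1 ≤ e ∧ 1 ≤ N ∧ x ^ (e + N) - x ^ e + 1 ≠ 0 ∧
      ∀ j ≤ e + N, ∃ r : R, algebraMap R (FractionRing R) r = x ^ j / (x ^ (e + N) - x ^ e + 1) := by
  classical
  let z : ∀ m : MaximalSpectrum R, IsLocalRing.ResidueField (Localization.AtPrime m.asIdeal) :=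
    fun m => if h : ∃ ξ : Localization.AtPrime m.asIdeal,
      algebraMap (Localization.AtPrime m.asIdeal) (FractionRing R) ξ = x
      then IsLocalRing.residue _ h.choose else 0
  obtain ⟨e, N, he, hN, hz⟩ := exists_trinomial_ne_zero
    (fun m : MaximalSpectrum R => IsLocalRing.ResidueField (Localization.AtPrime m.asIdeal)) z
  have key : ∀ m : MaximalSpectrum R, x ^ (e + N) - x ^ e + 1 ≠ 0 ∧ ∀ j ≤ e + N,
      ∃ ζ : Localization.AtPrime m.asIdeal,
        algebraMap (Localization.AtPrime m.asIdeal) (FractionRing R) ζ =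
          x ^ j / (x ^ (e + N) - x ^ e + 1) := by
    intro m
    haveI := hR m.asIdeal
    refine trinomial_div_mem (A := Localization.AtPrime m.asIdeal) x e N hN (fun ξ hξ => ?_)
    have hex : ∃ ξ : Localization.AtPrime m.asIdeal,
      algebraMap (Localization.AtPrime m.asIdeal) (FractionRing R) ξ = x := ⟨ξ, hξ⟩
    have hξ2 : ξ = hex.choose :=
      IsFractionRing.injective (Localization.AtPrime m.asIdeal) (FractionRing R)
        (hξ.trans hex.choose_spec.symm)
    have := hz m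
    simp only [z] at this
    rw [dif_pos hex, ← hξ2] at this
    exact this
  obtain ⟨m₀, hm₀⟩ := Ideal.exists_maximal R
  refine ⟨e, N, he, hN, (key ⟨m₀, hm₀⟩).1, fun j hj => ?_⟩
  exact mem_range_of_forall_maximal R _ (fun m => (key m).2 j hj)

end semilocal

end Groth.Agent.Lib.T2H8.Prufer
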