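import Mathlib
import Groth.Agent.Lib.T2H8PruferA
set_option autoImplicit false

namespace Groth.Agent.Lib.T2H8.Prufer

universe u

/-- a domain in which any two elements `a, b` admit `u, c, d` with `u a = c b`, `(1-u) b = d a`
has valuation rings as localizations at primes -/
theorem valuationRing_localization_of_star {D : Type*} [CommRing D] [IsDomain D]
    (hstar : ∀ a b : D, ∃ u c d : D, u * a = c * b ∧ (1 - u) * b = d * a)
    (P : Ideal D) [P.IsPrime] : ValuationRing (Localization.AtPrime P) := by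
  rw [ValuationRing.iff_dvd_total]
  refine ⟨fun ξ η => ?_⟩
  obtain ⟨a, s, rfl⟩ := IsLocalization.exists_mk'_eq P.primeCompl ξ
  obtain ⟨b, t, rfl⟩ := IsLocalization.exists_mk'_eq P.primeCompl η
  obtain ⟨u, c, d, h1, h2⟩ := hstar a b
  by_cases hu : u ∈ P
  · -- `1 - u ∉ P`
    have hu' : (1 - u) ∉ P := by
      intro h
      have : (1 : D) ∈ P := by
        have := P.add_mem h hu
        rwa [sub_add_cancel] at this
      exact (Ideal.IsPrime.ne_top inferInstance) ((Ideal.eq_top_iff_one _).mpr this)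
    left
    refine ⟨IsLocalization.mk' (Localization.AtPrime P) (d * s) (⟨1 - u, hu'⟩ * t), ?_⟩
    rw [← IsLocalization.mk'_mul, IsLocalization.mk'_eq_iff_eq]
    congr 1
    simp only [Submonoid.coe_mul]
    linear_combination (s : D) * (t : D) * h2
  · right
    refine ⟨IsLocalization.mk' (Localization.AtPrime P) (c * t) (⟨u, hu⟩ * s), ?_⟩
    rw [← IsLocalization.mk'_mul, IsLocalization.mk'_eq_iff_eq]
    congr 1
    simp only [Submonoid.coe_mul]
    linear_combination (s : D) * (t : D) * h1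

section sub

variable (R : Type u) [CommRing R] [IsDomain R]

/-- `R ∩ K'` for a subfield `K'` of the fraction field -/
def sub (K' : Subfield (FractionRing R)) : Subring R :=
  K'.toSubring.comap (algebraMap R (FractionRing R))

variable {R}

theorem mem_sub {K' : Subfield (FractionRing R)} {r : R} :
    r ∈ sub R K' ↔ algebraMap R (FractionRing R) r ∈ K' := Iff.rfl

variable (hR : ∀ (p : Ideal R) [p.IsPrime], ValuationRing (Localization.AtPrime p))
  [Finite (MaximalSpectrum R)] (K' : Subfield (FractionRing R))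

include hR in
theorem star_sub (a b : sub R K') (hb : b ≠ 0) :
    ∃ u c d : sub R K', u * a = c * b ∧ (1 - u) * b = d * a := by
  set α := algebraMap R (FractionRing R) (a : R) with hα
  set β := algebraMap R (FractionRing R) (b : R) with hβ
  have hβ0 : β ≠ 0 := by
    rw [hβ, Ne, map_eq_zero_iff _ (IsFractionRing.injective R (FractionRing R))]
    exact fun h => hb (Subtype.ext h)
  have hαK : α ∈ K' := a.2
  have hβK : β ∈ K' := b.2
  set x : FractionRing R := α / β with hx
  have hxK : x ∈ K' := div_mem hαK hβK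
  obtain ⟨e, N, he, hN, hf0, hr⟩ := exists_trinomial_div_mem R hR x
  have hfK : x ^ (e + N) - x ^ e + 1 ∈ K' :=
    add_mem (sub_mem (pow_mem hxK _) (pow_mem hxK _)) (one_mem _)
  choose r hrr using fun j : Fin (e + N + 1) => hr j (Nat.lt_succ_iff.mp j.2)
  have hrK : ∀ j : Fin (e + N + 1), r j ∈ sub R K' := by
    intro j
    rw [mem_sub, hrr]
    exact div_mem (pow_mem hxK _) hfK
  have h0 : 0 < e + N + 1 := by omega
  have h1 : 1 < e + N + 1 := by omega
  have h2 : e + N - 1 < e + N + 1 := by omega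
  have h3 : e - 1 < e + N + 1 := by omega
  refine ⟨⟨r ⟨0, h0⟩, hrK _⟩, ⟨r ⟨1, h1⟩, hrK _⟩,
    ⟨r ⟨e + N - 1, h2⟩ - r ⟨e - 1, h3⟩, sub_mem (hrK _) (hrK _)⟩, ?_, ?_⟩
  · apply Subtype.ext
    show r ⟨0, h0⟩ * (a : R) = r ⟨1, h1⟩ * (b : R)
    apply IsFractionRing.injective R (FractionRing R)
    simp only [map_mul]
    rw [hrr, hrr]
    simp only [pow_zero, pow_one]
    rw [← hα, ← hβ, hx]
    field_simp
  · apply Subtype.ext
    show ((1 : R) - r ⟨0, h0⟩) * (b : R) = (r ⟨e + N - 1, h2⟩ - r ⟨e - 1, h3⟩) * (a : R)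
    apply IsFractionRing.injective R (FractionRing R)
    simp only [map_mul, map_sub, map_one]
    rw [hrr, hrr, hrr]
    simp only [pow_zero]
    rw [← hα, ← hβ]
    have hα' : α = x * β := by rw [hx]; field_simp
    obtain ⟨e', rfl⟩ : ∃ e', e = e' + 1 := ⟨e - 1, by omega⟩
    have e1 : e' + 1 + N - 1 = e' + N := by omega
    have e2 : e' + 1 - 1 = e' := by omega
    simp only [e1, e2]
    rw [hα']
    field_simp
    ring

include hR in
theorem valuationRing_localization_sub (P : Ideal (sub R K')) [P.IsPrime] :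
    ValuationRing (Localization.AtPrime P) := by
  refine valuationRing_localization_of_star (fun a b => ?_) P
  by_cases hb : b = 0
  · exact ⟨0, 0, 0, by rw [hb]; ring, by rw [hb]; ring⟩
  · exact star_sub hR K' a b hb

omit [Finite (MaximalSpectrum R)] in
/-- an element of `R ∩ K'` which is a unit of `R` is a unit of `R ∩ K'` -/
theorem isUnit_sub_of_isUnit (a : sub R K') (ha : IsUnit (a : R)) : IsUnit a := by
  obtain ⟨w, hw⟩ := ha
  have hmem : ((w⁻¹ : Rˣ) : R) ∈ sub R K' := by
    rw [mem_sub]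
    have h1 : algebraMap R (FractionRing R) ((w⁻¹ : Rˣ) : R) * algebraMap R (FractionRing R) (a : R) = 1 := by
      rw [← map_mul, ← hw, Units.inv_mul, map_one]
    have h2 : algebraMap R (FractionRing R) ((w⁻¹ : Rˣ) : R) =
        (algebraMap R (FractionRing R) (a : R))⁻¹ := eq_inv_of_mul_eq_one_left h1
    rw [h2]
    exact inv_mem a.2
  refine IsUnit.of_mul_eq_one ⟨((w⁻¹ : Rˣ) : R), hmem⟩ ?_
  apply Subtype.ext
  show (a : R) * ((w⁻¹ : Rˣ) : R) = 1
  rw [← hw, Units.mul_inv]

omit hR in
theorem exists_maximal_comap_eq (M' : Ideal (sub R K')) [hM : M'.IsMaximal] :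
    ∃ m : MaximalSpectrum R, M' = m.asIdeal.comap (sub R K').subtype := by
  classical
  haveI := Fintype.ofFinite (MaximalSpectrum R)
  obtain ⟨m₀, hm₀⟩ := Ideal.exists_maximal R
  have hsub : ((M' : Set (sub R K')) ⊆
      ⋃ m ∈ (((Finset.univ : Finset (MaximalSpectrum R)) : Set (MaximalSpectrum R))),
      (((fun m : MaximalSpectrum R => m.asIdeal.comap (sub R K').subtype) m :
        Ideal (sub R K')) : Set (sub R K'))) := by
    intro a ha
    have hnu : ¬ IsUnit (a : R) := by
      intro hu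
      have := isUnit_sub_of_isUnit K' a hu
      exact hM.ne_top (Ideal.eq_top_of_isUnit_mem _ ha this)
    obtain ⟨m, hm, ham⟩ := exists_max_ideal_of_mem_nonunits (mem_nonunits_iff.mpr hnu)
    simp only [Finset.coe_univ, Set.mem_univ, Set.iUnion_true, Set.mem_iUnion]
    exact ⟨⟨m, hm⟩, ham⟩
  rw [Ideal.subset_union_prime ⟨m₀, hm₀⟩ ⟨m₀, hm₀⟩ (fun m _ _ _ => by
    haveI := m.isMaximal.isPrime
    exact Ideal.comap_isPrime _ _)] at hsub
  obtain ⟨m, -, hle⟩ := hsub
  refine ⟨m, hM.eq_of_le ?_ hle⟩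
  haveI := m.isMaximal.isPrime
  exact Ideal.IsPrime.ne_top (Ideal.comap_isPrime _ _)

omit hR in
theorem finite_maximalSpectrum_sub : Finite (MaximalSpectrum (sub R K')) := by
  choose g hg using fun M : MaximalSpectrum (sub R K') =>
    haveI := M.isMaximal
    exists_maximal_comap_eq K' M.asIdeal
  refine Finite.of_injective g (fun M M' h => ?_)
  apply MaximalSpectrum.ext
  rw [hg M, hg M', h]

end sub

end Groth.Agent.Lib.T2H8.Prufer
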