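import Mathlib
import Groth.Agent.Lib.T2H8PruferB
import Groth.Agent.Lib.Helper4DimFormulaC
set_option autoImplicit false

namespace Groth.Agent.Lib.T2H8.Prufer

universe u

/-- a finite type `ℤ`-algebra has finite Krull dimension -/
theorem exists_ringKrullDim_le_of_finiteType_int (B : Type*) [CommRing B] [Algebra.FiniteType ℤ B] :
    ∃ δ : ℕ, ringKrullDim B ≤ (δ : WithBot ℕ∞) := by
  obtain ⟨n, f, hf⟩ := Algebra.FiniteType.iff_quotient_mvPolynomial''.mp
    (inferInstance : Algebra.FiniteType ℤ B)
  refine ⟨1 + n, ?_⟩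
  refine (ringKrullDim_le_of_surjective (f : MvPolynomial (Fin n) ℤ →+* B) hf).trans ?_
  rw [MvPolynomial.ringKrullDim_of_isNoetherianRing, Nat.card_fin]
  have h1 : ringKrullDim ℤ ≤ ((1 : ℕ) : WithBot ℕ∞) := by
    rw [← Ring.krullDimLE_iff]
    infer_instance
  calc ringKrullDim ℤ + (n : WithBot ℕ∞) ≤ ((1 : ℕ) : WithBot ℕ∞) + (n : WithBot ℕ∞) :=
        add_le_add h1 le_rfl
    _ = ((1 + n : ℕ) : WithBot ℕ∞) := by push_cast; rfl

/-- Krull dimension does not go up along a finite type algebraic extension of domains with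
Noetherian base -/
theorem ringKrullDim_le_of_isAlgebraic (A : Type u) [CommRing A] [IsDomain A] [IsNoetherianRing A]
    (B : Type u) [CommRing B] [IsDomain B] [Algebra A B] [FaithfulSMul A B]
    [Algebra.FiniteType A B] [Algebra.IsAlgebraic A B] : ringKrullDim B ≤ ringKrullDim A := by
  show (⨆ l : LTSeries (PrimeSpectrum B), (l.length : WithBot ℕ∞)) ≤ _
  refine iSup_le fun l => ?_
  let q : Ideal B := l.last.asIdeal
  haveI : q.IsPrime := l.last.isPrime
  let p : Ideal A := q.under A
  have key := Groth.Agent.Lib.Helper4.DimFormula.height_add_trdeg_le A B p q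
  have h1 : Algebra.trdeg A B = 0 := _root_.trdeg_eq_zero
  rw [h1, add_zero] at key
  have h2 : (q.height : Cardinal.{u}) ≤ (p.height : Cardinal.{u}) :=
    le_trans (self_le_add_right _ _) key
  have h3 : q.height ≤ p.height := Cardinal.ofENat_le_ofENat.mp h2
  have h4 : (l.length : ℕ∞) ≤ q.height := by
    show (l.length : ℕ∞) ≤ l.last.asIdeal.height
    rw [PrimeSpectrum.height_eq_orderHeight]
    exact Order.length_le_height_last
  have h5 : (p.height : WithBot ℕ∞) ≤ ringKrullDim A :=
    Ideal.height_le_ringKrullDim_of_ne_top (Ideal.IsPrime.ne_top inferInstance)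
  have h6 : ((l.length : ℕ∞) : WithBot ℕ∞) ≤ (p.height : WithBot ℕ∞) :=
    WithBot.coe_le_coe.mpr (h4.trans h3)
  exact h6.trans h5

/-- contracting a chain of primes along a ring hom whose image separates the chain -/
theorem length_le_ringKrullDim_of_separating {B R' : Type*} [CommRing B] [CommRing R']
    (ι : B →+* R') (l : LTSeries (PrimeSpectrum R')) (x : Fin l.length → B)
    (hx1 : ∀ j, ι (x j) ∈ (l j.succ).asIdeal) (hx2 : ∀ j, ι (x j) ∉ (l j.castSucc).asIdeal) :
    (l.length : WithBot ℕ∞) ≤ ringKrullDim B := by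
  have hstep : ∀ j : Fin l.length,
      PrimeSpectrum.comap ι (l j.castSucc) < PrimeSpectrum.comap ι (l j.succ) := by
    intro j
    have hlt : l j.castSucc < l j.succ := l.step j
    refine lt_of_le_not_ge ?_ ?_
    · exact Ideal.comap_mono (f := ι)
        (show (l j.castSucc).asIdeal ≤ (l j.succ).asIdeal from hlt.le)
    · intro hge
      have : x j ∈ (PrimeSpectrum.comap ι (l j.succ)).asIdeal := hx1 j
      exact hx2 j (hge this)
  let l' : LTSeries (PrimeSpectrum B) :=
    LTSeries.mk l.length (fun i => PrimeSpectrum.comap ι (l i))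
      (Fin.strictMono_iff_lt_succ.mpr hstep)
  exact Order.LTSeries.length_le_krullDim l'

section dim

variable {R : Type u} [CommRing R] [IsDomain R]

/-- the subfield of the fraction field generated by a set -/
noncomputable def genField (s : Set R) : Subfield (FractionRing R) :=
  Subfield.closure (algebraMap R (FractionRing R) '' s)

theorem subset_sub_genField (s : Set R) : s ⊆ sub R (genField s) := by
  intro r hr
  rw [SetLike.mem_coe, mem_sub]
  exact Subfield.subset_closure ⟨r, hr, rfl⟩

/-- every element of `R ∩ K'` is a fraction of elements of `ℤ[s]` -/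
theorem exists_mul_eq_of_mem_sub (s : Set R) (y : R) (hy : y ∈ sub R (genField s)) :
    ∃ b c : R, b ∈ Algebra.adjoin ℤ s ∧ c ∈ Algebra.adjoin ℤ s ∧ c ≠ 0 ∧ c * y = b := by
  rw [mem_sub, genField, Subfield.mem_closure_iff] at hy
  obtain ⟨β, hβ, γ, hγ, hy⟩ := hy
  rw [← RingHom.map_closure] at hβ hγ
  obtain ⟨b, hb, rfl⟩ := hβ
  obtain ⟨c, hc, rfl⟩ := hγ
  have hb' : b ∈ Algebra.adjoin ℤ s := by
    rw [Algebra.adjoin_int]; exact hb
  have hc' : c ∈ Algebra.adjoin ℤ s := by
    rw [Algebra.adjoin_int]; exact hc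
  by_cases hc0 : c = 0
  · refine ⟨0, 1, Subalgebra.zero_mem _, Subalgebra.one_mem _, one_ne_zero, ?_⟩
    rw [hc0, map_zero, div_zero] at hy
    rw [one_mul]
    exact (IsFractionRing.injective R (FractionRing R)) (hy.symm.trans (map_zero _).symm)
  · refine ⟨b, c, hb', hc', hc0, ?_⟩
    apply IsFractionRing.injective R (FractionRing R)
    have hγ0 : algebraMap R (FractionRing R) c ≠ 0 := by
      rw [Ne, map_eq_zero_iff _ (IsFractionRing.injective R (FractionRing R))]
      exact hc0
    rw [map_mul, ← hy]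
    field_simp

/-- `R ∩ K'` has finite Krull dimension when `K'` is finitely generated -/
theorem exists_ringKrullDim_sub_genField_le (s : Finset R) :
    ∃ δ : ℕ, ringKrullDim (sub R (genField (s : Set R))) ≤ (δ : WithBot ℕ∞) := by
  classical
  set R' : Subring R := sub R (genField (s : Set R)) with hR'
  let B₀ : Subalgebra ℤ R := Algebra.adjoin ℤ (s : Set R)
  haveI hft0 : Algebra.FiniteType ℤ B₀ :=
    (Subalgebra.fg_iff_finiteType B₀).mp (Subalgebra.fg_def.mpr ⟨_, s.finite_toSet, rfl⟩)
  obtain ⟨δ, hδ⟩ := exists_ringKrullDim_le_of_finiteType_int B₀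
  haveI : IsNoetherianRing B₀ := Algebra.FiniteType.isNoetherianRing ℤ B₀
  refine ⟨δ, ?_⟩
  show (⨆ l : LTSeries (PrimeSpectrum R'), (l.length : WithBot ℕ∞)) ≤ _
  refine iSup_le fun l => ?_
  -- separating elements
  have hex : ∀ j : Fin l.length, ∃ x : R', x ∈ (l j.succ).asIdeal ∧ x ∉ (l j.castSucc).asIdeal := by
    intro j
    have hlt : (l j.castSucc).asIdeal < (l j.succ).asIdeal := l.step j
    exact SetLike.exists_of_lt hlt
  choose x hx1 hx2 using hex
  let T : Set R := (s : Set R) ∪ Set.range (fun j => (x j : R))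
  let B' : Subalgebra ℤ R := Algebra.adjoin ℤ T
  have hTfin : T.Finite := s.finite_toSet.union (Set.finite_range _)
  haveI hft1 : Algebra.FiniteType ℤ B' :=
    (Subalgebra.fg_iff_finiteType B').mp (Subalgebra.fg_def.mpr ⟨_, hTfin, rfl⟩)
  have hle0 : B₀ ≤ B' := Algebra.adjoin_mono Set.subset_union_left
  have hle1 : ∀ b : R, b ∈ B' → b ∈ R' := by
    have : B' ≤ subalgebraOfSubring R' := by
      refine Algebra.adjoin_le ?_
      rintro t (ht | ⟨j, rfl⟩)
      · exact subset_sub_genField _ ht
      · exact (x j).2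
    exact fun b hb => this hb
  let ι : B' →+* R' := (B'.val.toRingHom).codRestrict R' (fun b => hle1 _ b.2)
  let x' : Fin l.length → B' := fun j =>
    ⟨(x j : R), Algebra.subset_adjoin (Or.inr ⟨j, rfl⟩)⟩
  have hιx : ∀ j, ι (x' j) = x j := fun j => Subtype.ext rfl
  have hlen : (l.length : WithBot ℕ∞) ≤ ringKrullDim B' :=
    length_le_ringKrullDim_of_separating ι l x' (fun j => by rw [hιx]; exact hx1 j)
      (fun j => by rw [hιx]; exact hx2 j)
  -- `B'` is algebraic over `B₀`
  letI : Algebra B₀ B' := (Subalgebra.inclusion hle0).toAlgebra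
  have hinj : Function.Injective (algebraMap B₀ B') := Subalgebra.inclusion_injective hle0
  haveI : FaithfulSMul B₀ B' := (faithfulSMul_iff_algebraMap_injective B₀ B').mpr hinj
  haveI : Algebra.FiniteType B₀ B' := Algebra.FiniteType.of_restrictScalars_finiteType ℤ B₀ B'
  haveI : Algebra.IsAlgebraic B₀ B' := ⟨fun y => by
    obtain ⟨b, c, hb, hc, hc0, hcy⟩ := exists_mul_eq_of_mem_sub (s : Set R) (y : R) (hle1 _ y.2)
    refine ⟨Polynomial.C (⟨c, hc⟩ : B₀) * Polynomial.X - Polynomial.C (⟨b, hb⟩ : B₀), ?_, ?_⟩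
    · intro h
      apply hc0
      have := congrArg (fun p => Polynomial.coeff p 1) h
      have h' : (⟨c, hc⟩ : B₀) = 0 := by simpa using this
      exact congrArg Subtype.val h'
    · apply Subtype.ext
      simp only [map_sub, map_mul, Polynomial.aeval_C, Polynomial.aeval_X]
      show c * (y : R) - b = 0
      rw [hcy, sub_self]⟩
  exact hlen.trans ((ringKrullDim_le_of_isAlgebraic B₀ B').trans hδ)

/-- S14730: a semilocal Prüfer domain is a directed union of finite-dimensional semilocal Prüfer
domains -/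
theorem main_S14730 (R : Type u) [CommRing R] [IsDomain R]
    (hR : ∀ (p : Ideal R) [p.IsPrime], ValuationRing (Localization.AtPrime p))
    (hfin : Finite (MaximalSpectrum R)) (s : Finset R) :
    ∃ R' : Subring R, (↑s : Set R) ⊆ R' ∧
      (∀ (p : Ideal R') [p.IsPrime], ValuationRing (Localization.AtPrime p)) ∧
      Finite (MaximalSpectrum R') ∧ ringKrullDim R' < ⊤ := by
  haveI := hfin
  refine ⟨sub R (genField (s : Set R)), subset_sub_genField _, ?_, ?_, ?_⟩
  · intro p _
    exact valuationRing_localization_sub hR _ p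
  · exact finite_maximalSpectrum_sub _
  · obtain ⟨δ, hδ⟩ := exists_ringKrullDim_sub_genField_le s
    refine lt_of_le_of_lt hδ ?_
    exact WithBot.coe_lt_coe.mpr (ENat.natCast_lt_top δ)

end dim

end Groth.Agent.Lib.T2H8.Prufer
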