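import Mathlib
import Groth.Prelude.Def_ModSite
import Groth.Prelude.Def_AlgSpPerf

/-!
# The module pullback along a morphism of ringed sites preserves the unit and free modules
(helper8, team 2)
-/

set_option autoImplicit false
universe u
open CategoryTheory CategoryTheory.Limits Opposite

namespace Groth.Agent.Lib.T2H8.PullUnit

section Types

variable {C D : Type u} [SmallCategory C] [SmallCategory D] (J : GrothendieckTopology C)
  (K : GrothendieckTopology D)

/-- the terminal sheaf of types -/
def topSh : Sheaf J (Type u) :=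
  ⟨(Functor.const _).obj PUnit, Presheaf.isSheaf_of_isTerminal J Types.isTerminalPUnit⟩

/-- `topSh` is terminal -/
def isTerminalTopSh : IsTerminal (topSh J) :=
  IsTerminal.ofUniqueHom (fun X => ⟨{ app := fun _ => ↾fun _ => PUnit.unit }⟩) (by
    intro X m
    ext V x
    rfl)

variable (G : C ⥤ D) [G.IsContinuous J K]

/-- the comparison of terminal sheaves -/
noncomputable def topIso [PreservesFiniteLimits (G.sheafPullback (Type u) J K)] :
    (G.sheafPullback (Type u) J K).obj (topSh J) ≅ topSh K :=
  (IsTerminal.isTerminalObj _ _ (isTerminalTopSh J)).uniqueUpToIso (isTerminalTopSh K)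

variable [PreservesFiniteLimits (G.sheafPullback (Type u) J K)]

lemma homEquiv_topIso_comp (P : Sheaf K (Type u)) (s : topSh K ⟶ P) (V : Cᵒᵖ) (x : PUnit) :
    (((G.sheafAdjunctionContinuous (Type u) J K).homEquiv (topSh J) P)
      ((topIso J K G).hom ≫ s)).hom.app V x = s.hom.app (G.op.obj V) PUnit.unit := by
  rw [Adjunction.homEquiv_apply, Functor.map_comp]
  rfl

include J in
theorem bijective_sectionsPrecomp_of_preservesFiniteLimits (P : Sheaf K (Type u)) :
    Function.Bijective (G.op.sectionsPrecomp (P := P.obj)) := by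
  constructor
  · intro s₁ s₂ h
    let ŝ₁ : topSh K ⟶ P := ⟨(P.obj.sectionsEquivHom PUnit) s₁⟩
    let ŝ₂ : topSh K ⟶ P := ⟨(P.obj.sectionsEquivHom PUnit) s₂⟩
    have h1 : ((G.sheafAdjunctionContinuous (Type u) J K).homEquiv (topSh J) P)
        ((topIso J K G).hom ≫ ŝ₁) = ((G.sheafAdjunctionContinuous (Type u) J K).homEquiv (topSh J) P)
        ((topIso J K G).hom ≫ ŝ₂) := by
      ext V x
      refine (homEquiv_topIso_comp J K G P ŝ₁ V x).trans ?_
      refine Eq.trans ?_ (homEquiv_topIso_comp J K G P ŝ₂ V x).symm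
      exact congrFun (congrArg Subtype.val h) V
    have h2 := ((G.sheafAdjunctionContinuous (Type u) J K).homEquiv (topSh J) P).injective h1
    rw [cancel_epi] at h2
    have h3 : (P.obj.sectionsEquivHom PUnit) s₁ = (P.obj.sectionsEquivHom PUnit) s₂ :=
      congrArg InducedCategory.Hom.hom h2
    exact (P.obj.sectionsEquivHom PUnit).injective h3
  · intro t
    let t' : topSh J ⟶ (G.sheafPushforwardContinuous (Type u) J K).obj P :=
      ⟨((G.op ⋙ P.obj).sectionsEquivHom PUnit) t⟩
    let g := ((G.sheafAdjunctionContinuous (Type u) J K).homEquiv (topSh J) P).symm t'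
    let ŝ : topSh K ⟶ P := (topIso J K G).inv ≫ g
    refine ⟨(P.obj.sectionsEquivHom PUnit).symm ŝ.hom, ?_⟩
    ext V
    have h1 := homEquiv_topIso_comp J K G P ŝ V PUnit.unit
    have h2 : (topIso J K G).hom ≫ ŝ = g := by
      simp [ŝ]
    rw [h2] at h1
    have h3 : ((G.sheafAdjunctionContinuous (Type u) J K).homEquiv (topSh J) P) g = t' :=
      Equiv.apply_symm_apply _ _
    rw [h3] at h1
    exact h1.symm

end Types


section Modules

open SheafOfModules

variable {C D : Type u} [SmallCategory C] [SmallCategory D]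
  {J : GrothendieckTopology C} {K : GrothendieckTopology D} {F : C ⥤ D}
  {S : Sheaf J RingCat.{u}} {R : Sheaf K RingCat.{u}}
  [Functor.IsContinuous F J K] [PreservesFiniteLimits (F.sheafPullback (Type u) J K)]
  (φ : S ⟶ (F.sheafPushforwardContinuous RingCat.{u} J K).obj R)

/-- the underlying sheaf of types of a sheaf of modules -/
noncomputable def typeSh (M : SheafOfModules.{u} R) : Sheaf K (Type u) :=
  ⟨M.val.presheaf ⋙ forget AddCommGrpCat.{u},
    (Presheaf.isSheaf_iff_isSheaf_forget K M.val.presheaf (forget AddCommGrpCat.{u})).1 M.isSheaf⟩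

theorem bijective_pushforwardSections (M : SheafOfModules.{u} R) :
    Function.Bijective (pushforwardSections φ (M := M)) :=
  bijective_sectionsPrecomp_of_preservesFiniteLimits J K F (typeSh M)

variable [(pushforward.{u} φ).IsRightAdjoint]

theorem isIso_pullbackObjUnitToUnit : IsIso (pullbackObjUnitToUnit φ) := by
  rw [isIso_iff_coyoneda_map_bijective]
  intro M
  rw [← ((pullbackPushforwardAdjunction.{u} φ).homEquiv _ _).bijective.of_comp_iff',
    ← (unitHomEquiv _).bijective.of_comp_iff']
  convert! (bijective_pushforwardSections φ M).comp (unitHomEquiv _).bijective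
  ext f : 1
  dsimp
  rw [pushforwardSections_unitHomEquiv, EmbeddingLike.apply_eq_iff_eq,
    Adjunction.homEquiv_naturality_right,
    pullbackPushforwardAdjunction_homEquiv_pullbackObjUnitToUnit]

variable [HasWeakSheafify J AddCommGrpCat.{u}] [HasWeakSheafify K AddCommGrpCat.{u}]
  [J.WEqualsLocallyBijective AddCommGrpCat.{u}]
  [K.WEqualsLocallyBijective AddCommGrpCat.{u}]

/-- The pullback of a free sheaf of modules is a free sheaf of modules. -/
noncomputable def pullbackObjFreeIso' (I : Type u) :
    (SheafOfModules.pullback φ).obj (free I) ≅ free I :=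
  haveI := isIso_pullbackObjUnitToUnit φ
  (asIso (sigmaComparison _ _)).symm ≪≫
    Sigma.mapIso (fun _ ↦ asIso (pullbackObjUnitToUnit φ))

end Modules

section RMor

variable {C : Type u} [SmallCategory C] {J : GrothendieckTopology C} {O_C : Sheaf J CommRingCat.{u}}
  {D : Type u} [SmallCategory D] {K : GrothendieckTopology D} {O_D : Sheaf K CommRingCat.{u}}

/-- the module pullback of a finite free module along a morphism of ringed sites -/
noncomputable def rmorPullFreeIso (f : ModSite.RMor O_C O_D) (I : Type u) :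
    f.pull.obj (SheafOfModules.free I) ≅ SheafOfModules.free I :=
  pullbackObjFreeIso' f.sharpR I

theorem main_S9045 (f : ModSite.RMor O_C O_D) (E : CochainComplex (ModSite.Mod O_D) ℤ)
    (hE : DCoh.IsStrictlyPerfectMod (ModSite.ringSh O_D) E) :
    DCoh.IsStrictlyPerfectMod (ModSite.ringSh O_C)
      ((f.pull.mapHomologicalComplex (ComplexShape.up ℤ)).obj E) := by
  obtain ⟨⟨a, b, hab⟩, hterm⟩ := hE
  refine ⟨⟨a, b, fun i hi => ?_⟩, fun i => ?_⟩
  · exact f.pull.map_isZero (hab i hi)
  · obtain ⟨n, ι, p, hip⟩ := hterm i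
    refine ⟨n, f.pull.map ι ≫ (rmorPullFreeIso f _).hom,
      (rmorPullFreeIso f _).inv ≫ f.pull.map p, ?_⟩
    change (f.pull.map ι ≫ (rmorPullFreeIso f _).hom) ≫
      (rmorPullFreeIso f _).inv ≫ f.pull.map p = 𝟙 (f.pull.obj (E.X i))
    rw [Category.assoc, Iso.hom_inv_id_assoc, ← Functor.map_comp, hip, CategoryTheory.Functor.map_id]

end RMor

end Groth.Agent.Lib.T2H8.PullUnit
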