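import Mathlib
import Groth.Prelude

/-!
# Universal injectivity of `B → B̂` for a smooth algebra with geometrically integral fibres and a
section (helper8, for S17619)
-/

set_option autoImplicit false
set_option linter.style.haveILetI false
set_option linter.unusedSectionVars false
universe u

namespace Groth.Agent.Lib.T2H8.UnivInjCompl

open TensorProduct

section Vanish

variable {R : Type u} [CommRing R] {M Q : Type u} [AddCommGroup M] [Module R M] [AddCommGroup Q]
  [Module R Q]

/-- A tensor over a finitely generated submodule that dies in `M ⊗ Q` already dies over a larger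
finitely generated submodule. -/
theorem exists_fg_lTensor_inclusion_eq_zero (Q' : Submodule R Q) (hQ' : Q'.FG) (z : M ⊗[R] Q')
    (hz : Q'.subtype.lTensor M z = 0) :
    ∃ (Q'' : Submodule R Q) (_ : Q''.FG) (h : Q' ≤ Q''),
      (Submodule.inclusion h).lTensor M z = 0 := by
  classical
  let i₀ : {N : Submodule R Q // N.FG} := ⟨Q', hQ'⟩
  let e : Module.DirectLimit (fun i : {N : Submodule R Q // N.FG} => M ⊗[R] i.1)
      (fun i j h => (Module.fgSystem R Q i j h).lTensor M) ≃ₗ[R] M ⊗[R] Q :=
    (TensorProduct.directLimitRight (Module.fgSystem R Q) M).symm.trans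
      (LinearEquiv.lTensor M (Module.fgSystem.equiv R Q))
  have he : ∀ (i : {N : Submodule R Q // N.FG}) (w : M ⊗[R] i.1),
      e (Module.DirectLimit.of R _ (fun i : {N : Submodule R Q // N.FG} => M ⊗[R] i.1)
        (fun i j h => (Module.fgSystem R Q i j h).lTensor M) i w) = i.1.subtype.lTensor M w := by
    intro i w
    induction w with
    | zero => simp
    | tmul m q =>
      simp only [e, LinearEquiv.trans_apply, TensorProduct.directLimitRight_symm_of_tmul,
        LinearEquiv.lTensor_tmul, LinearMap.lTensor_tmul]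
      congr 1
      exact LinearMap.congr_fun (Module.fgSystem.equiv_comp_of i) q
    | add a b ha hb => rw [map_add, map_add, ha, hb, map_add]
  have key : Module.DirectLimit.of R _ (fun i : {N : Submodule R Q // N.FG} => M ⊗[R] i.1)
      (fun i j h => (Module.fgSystem R Q i j h).lTensor M) i₀ z = 0 := by
    apply e.injective
    rw [map_zero, he]
    exact hz
  obtain ⟨j, hij, hj⟩ := Module.DirectLimit.of.zero_exact key
  exact ⟨j.1, j.2, hij, hj⟩

theorem rTensor_comm_apply {M' : Type u} [AddCommGroup M'] [Module R M'] (f : M →ₗ[R] M')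
    (z : Q ⊗[R] M) :
    (f.rTensor Q) (TensorProduct.comm R Q M z) = TensorProduct.comm R Q M' (f.lTensor Q z) := by
  induction z with
  | zero => simp
  | tmul q m => simp
  | add a b ha hb => rw [map_add, map_add, ha, hb, map_add, map_add]

end Vanish

section Domain

open AlgebraicGeometry CategoryTheory

variable {A B : Type u} [CommRing A] [CommRing B] [Algebra A B]

/-- Geometrically integral fibres: `B ⊗[A] K` is a domain for every field `K` over `A`. -/
theorem isDomain_tensor_of_geomIntegralFibres (h : FlatCA.GeomIntegralFibres A B) (K : Type u)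
    [Field K] [Algebra A K] : IsDomain (B ⊗[A] K) := by
  have hpo := CommRingCat.isPushout_tensorProduct A B K
  have hpb := isPullback_SpecMap_of_isPushout _ _ _ _ hpo
  have hint : IsIntegral (Spec (CommRingCat.of (B ⊗[A] K))) :=
    h.geometrically_isIntegral (Spec.map (CommRingCat.ofHom (algebraMap A K))) _ _ hpb
  exact (affine_isIntegral_iff _).mp hint

end Domain

section NZD

variable {A B : Type u} [CommRing A] [CommRing B] [Algebra A B] [Module.Flat A B]
  (u : B →ₐ[A] A)

theorem eq_zero_of_smul_eq_zero_of_injective_to_field {s : B} (hs : u s = 1) (K : Type u)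
    [Field K] [Algebra A K] [IsDomain (B ⊗[A] K)] {Q : Type u} [AddCommGroup Q] [Module A Q]
    (j : Q →ₗ[A] K) (hj : Function.Injective j) (x : B ⊗[A] Q) (hx : s • x = 0) : x = 0 := by
  have hinj : Function.Injective (j.baseChange B) := by
    rw [LinearMap.baseChange_eq_ltensor]
    exact Module.Flat.lTensor_preserves_injective_linearMap j hj
  apply hinj
  rw [map_zero]
  have h1 : s • (j.baseChange B x) = 0 := by rw [← map_smul, hx, map_zero]
  have h2 : s • (j.baseChange B x) = (s ⊗ₜ[A] (1 : K)) * (j.baseChange B x) := by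
    rw [Algebra.smul_def]
    rfl
  rw [h2] at h1
  rcases mul_eq_zero.mp h1 with h3 | h3
  · exfalso
    let φ : B ⊗[A] K →ₐ[A] K :=
      Algebra.TensorProduct.lift ((Algebra.ofId A K).comp u) (AlgHom.id A K)
        (fun _ _ => Commute.all _ _)
    have h4 : φ (s ⊗ₜ 1) = 1 := by
      simp [φ, hs]
    rw [h3, map_zero] at h4
    exact zero_ne_one h4
  · exact h3

variable [IsNoetherianRing A]
  (hdom : ∀ (p : Ideal A) [p.IsPrime], IsDomain (B ⊗[A] p.ResidueField))

include hdom in
theorem eq_zero_of_smul_eq_zero_finite {s : B} (hs : u s = 1) (Q : Type u) [AddCommGroup Q]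
    [Module A Q] [hQ : Module.Finite A Q] : ∀ x : B ⊗[A] Q, s • x = 0 → x = 0 := by
  induction hQ using IsNoetherianRing.induction_on_isQuotientEquivQuotientPrime A with
  | subsingleton N =>
    intro x _
    exact Subsingleton.elim _ _
  | quotient N p e =>
    intro x hx
    haveI := p.2
    haveI := hdom p.1
    let j : N →ₗ[A] p.1.ResidueField :=
      ((Algebra.linearMap (A ⧸ p.1) p.1.ResidueField).restrictScalars A) ∘ₗ e.toLinearMap
    have hj : Function.Injective j := by
      intro a b hab
      apply e.injective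
      exact (IsFractionRing.injective (A ⧸ p.1) p.1.ResidueField) hab
    exact eq_zero_of_smul_eq_zero_of_injective_to_field u hs p.1.ResidueField j hj x hx
  | exact N₁ N₂ N₃ f g hf hg hfg h₁ h₃ =>
    intro x hx
    have hfB : Function.Injective (f.baseChange B) := by
      rw [LinearMap.baseChange_eq_ltensor]
      exact Module.Flat.lTensor_preserves_injective_linearMap f hf
    have hex : Function.Exact (f.baseChange B) (g.baseChange B) := by
      rw [LinearMap.baseChange_eq_ltensor, LinearMap.baseChange_eq_ltensor]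
      exact lTensor_exact B hfg hg
    have h3 : g.baseChange B x = 0 := h₃ _ (by rw [← map_smul, hx, map_zero])
    obtain ⟨y, rfl⟩ := (hex x).mp h3
    have h1 : y = 0 := h₁ y (hfB (by rw [map_smul, hx, map_zero]))
    rw [h1, map_zero]

end NZD

section Main

variable {A : Type u} [CommRing A] [IsNoetherianRing A] {B : Type u} [CommRing B] [Algebra A B]
  [Algebra.FiniteType A B] [Module.Flat A B]
  (hdom : ∀ (p : Ideal A) [p.IsPrime], IsDomain (B ⊗[A] p.ResidueField)) (u : B →ₐ[A] A)
  {Bh : Type u} [CommRing Bh] [Algebra B Bh] [Algebra A Bh] [IsScalarTower A B Bh]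
  (hq : ∀ n : ℕ, Function.Bijective (Ideal.quotientMap ((RingHom.ker u ^ n).map (algebraMap B Bh))
      (algebraMap B Bh) Ideal.le_comap_map))

include hdom hq in
theorem rTensor_eq_zero_finite (Q : Type u) [AddCommGroup Q] [Module A Q] [Module.Finite A Q]
    (x : B ⊗[A] Q) (hx : ((IsScalarTower.toAlgHom A B Bh).toLinearMap.rTensor Q) x = 0) :
    x = 0 := by
  haveI : IsNoetherianRing B := Algebra.FiniteType.isNoetherianRing A B
  obtain ⟨I, hI⟩ : ∃ I : Ideal B, I = RingHom.ker u := ⟨_, rfl⟩
  have hmem : x ∈ (⨅ n : ℕ, I ^ n • ⊤ : Submodule B (B ⊗[A] Q)) := by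
    rw [Submodule.mem_iInf]
    intro n
    let π : B →ₗ[A] B ⧸ I ^ n := (Ideal.Quotient.mkₐ A (I ^ n)).toLinearMap
    let qm : (B ⧸ I ^ n) →ₐ[A] (Bh ⧸ (I ^ n).map (algebraMap B Bh)) :=
      Ideal.quotientMapₐ ((I ^ n).map (algebraMap B Bh)) (IsScalarTower.toAlgHom A B Bh)
        Ideal.le_comap_map
    let πh : Bh →ₗ[A] Bh ⧸ (I ^ n).map (algebraMap B Bh) :=
      (Ideal.Quotient.mkₐ A ((I ^ n).map (algebraMap B Bh))).toLinearMap
    have hbij : Function.Bijective qm.toLinearMap := by
      have := hq n
      rw [← hI] at this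
      exact this
    let eq : (B ⧸ I ^ n) ≃ₗ[A] (Bh ⧸ (I ^ n).map (algebraMap B Bh)) :=
      LinearEquiv.ofBijective qm.toLinearMap hbij
    have hcomm : eq.toLinearMap ∘ₗ π = πh ∘ₗ (IsScalarTower.toAlgHom A B Bh).toLinearMap := by
      ext b
      rfl
    have h1 : (eq.toLinearMap.rTensor Q) ((π.rTensor Q) x) = 0 := by
      rw [← LinearMap.comp_apply, ← LinearMap.rTensor_comp, hcomm, LinearMap.rTensor_comp,
        LinearMap.comp_apply, hx, map_zero]
    have h2 : (π.rTensor Q) x = 0 := by
      have hinj : Function.Injective (eq.toLinearMap.rTensor Q) := (eq.rTensor Q).injective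
      exact hinj (h1.trans (map_zero _).symm)
    have hexact : Function.Exact ((Submodule.subtype (I ^ n)).restrictScalars A) π := by
      intro b
      constructor
      · intro hb
        exact ⟨⟨b, Ideal.Quotient.eq_zero_iff_mem.mp hb⟩, rfl⟩
      · rintro ⟨c, rfl⟩
        exact Ideal.Quotient.eq_zero_iff_mem.mpr c.2
    have hsurj : Function.Surjective π := Ideal.Quotient.mk_surjective
    have hex := rTensor_exact Q hexact hsurj
    have hrange : ∀ y : (↥(I ^ n)) ⊗[A] Q,
        (LinearMap.rTensor Q ((Submodule.subtype (I ^ n)).restrictScalars A)) y ∈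
          (I ^ n • ⊤ : Submodule B (B ⊗[A] Q)) := by
      intro y
      induction y with
      | zero => simp
      | tmul i q =>
        have h3 : (LinearMap.rTensor Q ((Submodule.subtype (I ^ n)).restrictScalars A))
            (i ⊗ₜ[A] q) = (i : B) • ((1 : B) ⊗ₜ[A] q) := by
          rw [TensorProduct.smul_tmul', smul_eq_mul, mul_one]
          rfl
        rw [h3]
        exact Submodule.smul_mem_smul i.2 trivial
      | add a b ha hb =>
        rw [map_add]
        exact Submodule.add_mem _ ha hb
    obtain ⟨y, hy⟩ := (hex x).mp h2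
    rw [← hy]
    exact hrange y
  obtain ⟨r, hr⟩ := (I.mem_iInf_smul_pow_eq_bot_iff x).mp hmem
  have hs : u (1 - (r : B)) = 1 := by
    have : u (r : B) = 0 := by
      have h7 : (r : B) ∈ RingHom.ker u := by
        rw [← hI]
        exact r.2
      exact h7
    rw [map_sub, map_one, this, sub_zero]
  refine eq_zero_of_smul_eq_zero_finite u hdom hs Q x ?_
  have h6 : (1 - (r : B)) • x = x - (r : B) • x := by
    have := sub_smul (1 : B) (r : B) x
    rw [one_smul] at this
    exact this
  rw [h6, hr, sub_self]

include hdom hq in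
/-- **S17619**. -/
theorem univInj : FlatCA.UnivInj A (IsScalarTower.toAlgHom A B Bh).toLinearMap := by
  intro Q _ _
  rw [injective_iff_map_eq_zero]
  intro z hz
  obtain ⟨f, hf⟩ : ∃ f : B →ₗ[A] Bh, f = (IsScalarTower.toAlgHom A B Bh).toLinearMap := ⟨_, rfl⟩
  rw [← hf] at hz
  have hz' : (f.rTensor Q) (TensorProduct.comm A Q B z) = 0 := by
    rw [rTensor_comm_apply, hz, map_zero]
  suffices h : TensorProduct.comm A Q B z = 0 from
    (TensorProduct.comm A Q B).injective (h.trans (map_zero _).symm)
  generalize TensorProduct.comm A Q B z = x at hz' ⊢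
  obtain ⟨Q', hQ', hx⟩ := TensorProduct.exists_finite_submodule_right_of_setFinite {x}
    (Set.finite_singleton x)
  obtain ⟨x', rfl⟩ := hx (Set.mem_singleton x)
  have hQ'fg : Q'.FG := Module.Finite.iff_fg.mp hQ'
  have h1 : (Q'.subtype.lTensor Bh) ((f.rTensor Q') x') = 0 := by
    rw [← LinearMap.comp_apply, LinearMap.lTensor_comp_rTensor, ← LinearMap.rTensor_comp_lTensor,
      LinearMap.comp_apply]
    exact hz'
  obtain ⟨Q'', hQ'', hle, h2⟩ := exists_fg_lTensor_inclusion_eq_zero Q' hQ'fg _ h1
  haveI : Module.Finite A Q'' := Module.Finite.iff_fg.mpr hQ''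
  have h3 : (f.rTensor Q'') ((Submodule.inclusion hle).lTensor B x') = 0 := by
    rw [← LinearMap.comp_apply, LinearMap.rTensor_comp_lTensor, ← LinearMap.lTensor_comp_rTensor,
      LinearMap.comp_apply]
    exact h2
  rw [hf] at h3
  have h4 := rTensor_eq_zero_finite hdom u hq Q'' _ h3
  have h5 : Q'.subtype = Q''.subtype ∘ₗ Submodule.inclusion hle := by
    ext a
    rfl
  rw [h5, LinearMap.lTensor_comp, LinearMap.comp_apply, h4, map_zero]

end Main

end Groth.Agent.Lib.T2H8.UnivInjCompl
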