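import Mathlib
import Groth.Prelude
import Groth.Agent.Lib.T2H8UnivInjCompl

/-!
# Flat with geometrically integral fibres implies universally pure (helper8, for S1223)
-/

set_option autoImplicit false
set_option linter.style.haveILetI false
set_option linter.unusedSectionVars false
universe u

namespace Groth.Agent.Lib.T2H8.PureGeomInt

open TensorProduct

attribute [local instance] Algebra.TensorProduct.rightAlgebra

theorem eq_bot_of_isAssociatedPrime_self {D : Type u} [CommRing D] [IsDomain D] {I : Ideal D}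
    (h : IsAssociatedPrime I D) : I = ⊥ := by
  have hI : I.IsPrime := h.isPrime
  obtain ⟨x, hx⟩ := h.2
  by_cases hx0 : x = 0
  · exfalso
    apply hI.ne_top
    rw [hx, hx0]
    rw [Ideal.radical_eq_top, Ideal.eq_top_iff_one, Submodule.mem_colon_singleton]
    simp
  · rw [hx, eq_bot_iff]
    intro r hr
    obtain ⟨n, hn⟩ := hr
    rw [Submodule.mem_colon_singleton] at hn
    have h1 : r ^ n * x = 0 := by simpa using hn
    rcases mul_eq_zero.mp h1 with h2 | h2
    · exact (Ideal.mem_bot).mpr (IsNilpotent.eq_zero ⟨n, h2⟩)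
    · exact absurd h2 hx0

open AlgebraicGeometry CategoryTheory in
theorem geomIntegralFibres_of_isPushout {A B A' B' : Type u} [CommRing A] [CommRing B] [CommRing A']
    [CommRing B'] [Algebra A B] [Algebra A A'] [Algebra B B'] [Algebra A' B'] [Algebra A B']
    [IsScalarTower A B B'] [IsScalarTower A A' B'] [Algebra.IsPushout A B A' B']
    (h : FlatCA.GeomIntegralFibres A B) : FlatCA.GeomIntegralFibres A' B' := by
  have hpush := CommRingCat.isPushout_of_isPushout A B A' B'
  have hpb := isPullback_SpecMap_of_isPushout _ _ _ _ hpush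
  exact MorphismProperty.of_isPullback (P := @GeometricallyIntegral) hpb h

/-- **S1223**. -/
theorem isUnivPure {A B : Type u} [CommRing A] [CommRing B] [Algebra A B] [Module.Flat A B]
    (h : FlatCA.GeomIntegralFibres A B) : FlatCA.IsUnivPure A B B := by
  intro p _ A' B' N' _ _ _ _ _ _ _ _ _ _ _ _ _ _ f t' t _ _ P _ himp
  obtain ⟨hpo, hbc, hle, htp, hPt', hass, hno⟩ := himp
  haveI := hpo
  have hgi : FlatCA.GeomIntegralFibres A' B' := geomIntegralFibres_of_isPushout h
  haveI : Module.Flat A' B' := Module.Flat.isBaseChange A A' B B' hpo.symm.out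
  have hdomF : ∀ (q : Ideal A') [q.IsPrime], IsDomain (q.Fiber B') := by
    intro q _
    haveI := Groth.Agent.Lib.T2H8.UnivInjCompl.isDomain_tensor_of_geomIntegralFibres hgi
      q.ResidueField
    exact MulEquiv.isDomain (B' ⊗[A'] q.ResidueField)
      (Algebra.TensorProduct.comm A' q.ResidueField B').toRingEquiv.toMulEquiv
  -- a prime over `t`
  haveI := hdomF t
  obtain ⟨Q⟩ : Nonempty (PrimeSpectrum (t.Fiber B')) := inferInstance
  let X := (PrimeSpectrum.primesOverOrderIsoFiber A' B' t).symm Q
  haveI : X.1.IsPrime := X.2.1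
  haveI : X.1.LiesOver t := X.2.2
  -- going down
  obtain ⟨x', hx'le, hx'prime, hx'over⟩ :=
    Ideal.exists_ideal_le_liesOver_of_le (p := t') (q := t) X.1 hle
  -- the associated prime is zero
  haveI := hdomF t'
  let e₁ : N' ≃ₗ[B'] B' := hbc.equiv.symm.trans (TensorProduct.AlgebraTensorModule.rid B B' B')
  let l : (t'.Fiber B') ⊗[B'] N' ≃ₗ[t'.Fiber B'] (t'.Fiber B') :=
    (TensorProduct.AlgebraTensorModule.congr (LinearEquiv.refl (t'.Fiber B') (t'.Fiber B')) e₁).trans
      (TensorProduct.AlgebraTensorModule.rid B' (t'.Fiber B') (t'.Fiber B'))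
  have hass' : IsAssociatedPrime (FlatCA.fiberIdeal t' P) (t'.Fiber B') :=
    (LinearEquiv.isAssociatedPrime_iff l).mp hass
  have hbot : FlatCA.fiberIdeal t' P = ⊥ := eq_bot_of_isAssociatedPrime_self hass'
  have hPx' : P ≤ x' := by
    intro b hb
    let X' : t'.primesOver B' := ⟨x', hx'prime, hx'over⟩
    let Q' := PrimeSpectrum.primesOverOrderIsoFiber A' B' t' X'
    have hQ' : x' = Q'.1.comap Algebra.TensorProduct.includeRight := by
      have h1 := (PrimeSpectrum.primesOverOrderIsoFiber A' B' t').symm_apply_apply X'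
      have h2 := PrimeSpectrum.coe_primesOverOrderIsoFiber_symm_apply (R := A') (S := B')
        (p := t') Q'
      rw [h1] at h2
      exact h2
    rw [hQ', Ideal.mem_comap]
    have h3 : (Algebra.TensorProduct.includeRight : B' →ₐ[A'] t'.Fiber B') b ∈
        FlatCA.fiberIdeal t' P := Ideal.mem_map_of_mem _ hb
    rw [hbot, Ideal.mem_bot] at h3
    rw [h3]
    exact Q'.1.zero_mem
  exact hno X.1 (hPx'.trans hx'le) inferInstance

end Groth.Agent.Lib.T2H8.PureGeomInt
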