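import Mathlib
import Groth.Agent.Lib.T2H8RpushTorsion
import Groth.Agent.Lib.Helper9JContAll
import Groth.Agent.Lib.T2H8Recoll

set_option autoImplicit false
set_option linter.unusedSectionVars false
set_option linter.style.haveILetI false
universe u
open CategoryTheory CategoryTheory.Limits Opposite AlgebraicGeometry Abelian

namespace Groth.Agent.Lib.T2H8.PushAcyclic

open Groth.Agent.Lib.Helper9.EtPull Groth.Agent.Lib.Helper9.EtMV
  Groth.Agent.Lib.T2H8.RpushTorsion Groth.Agent.Lib.Helper16.SmallEtale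

variable {X : Scheme.{u}}

/-- cohomological flasqueness, phrased with `Ext` out of the free sheaves `ℤ[h_T]` -/
def Acyc (F : EtCoh.Ab X) : Prop :=
  ∀ (T : Scheme.{u}) (j : T ⟶ X) [Etale j] (m : ℕ),
    Subsingleton (Ext.{u + 1} (Zh (obj j)) F (m + 1))

set_option backward.isDefEq.respectTransparency.types false in
/-- sections of the quotient lift over `P` when `Ext^1(ℤ[h_P], ·)` of the subobject vanishes -/
theorem surjective_sect {Sx : ShortComplex (EtCoh.Ab X)} (hS : Sx.ShortExact) (P : X.Etale)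
    (hP : Subsingleton (Ext.{u + 1} (Zh (obj P.hom)) Sx.X₁ 1)) :
    Function.Surjective (Sx.g.hom.app (op P)) := by
  intro t
  let j : P.left ⟶ X := P.hom
  let e : obj j ⟶ P := MorphismProperty.Over.homMk (𝟙 _) (by
    change 𝟙 _ ≫ P.hom = 𝟙 _ ≫ P.hom
    rfl)
  let e' : P ⟶ obj j := MorphismProperty.Over.homMk (𝟙 _) (by
    change 𝟙 _ ≫ (𝟙 _ ≫ P.hom) = P.hom
    rw [Category.id_comp, Category.id_comp])
  have hee : e' ≫ e = 𝟙 P := by
    apply MorphismProperty.Over.Hom.ext
    change 𝟙 _ ≫ 𝟙 _ = 𝟙 _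
    rw [Category.id_comp]
  let t' := Sx.X₃.obj.map e.op t
  let φ : Zh (obj j) ⟶ Sx.X₃ := (zhEquiv (obj j) Sx.X₃).symm t'
  have h1 : (Ext.mk₀ φ).comp hS.extClass (zero_add 1) = 0 := @Subsingleton.elim _ hP _ _
  obtain ⟨x₂, hx₂⟩ := Ext.covariant_sequence_exact₃ (Zh (obj j)) hS (Ext.mk₀ φ) (n₁ := 1)
    rfl h1
  obtain ⟨ψ, rfl⟩ := (Ext.mk₀_bijective _ _).2 x₂
  rw [Ext.mk₀_comp_mk₀] at hx₂
  have hψ : ψ ≫ Sx.g = φ := (Ext.mk₀_bijective _ _).1 hx₂
  let s' := zhEquiv (obj j) Sx.X₂ ψ
  refine ⟨Sx.X₂.obj.map e'.op s', ?_⟩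
  have h2 : Sx.g.hom.app (op (obj j)) s' = t' := by
    have := zhEquiv_comp (obj j) ψ Sx.g
    rw [hψ, Equiv.apply_symm_apply] at this
    exact this.symm
  have h3 := NatTrans.naturality_apply Sx.g.hom e'.op s'
  refine h3.trans ?_
  rw [h2]
  have h4 := (Groth.Agent.Lib.T2H8.Excision.map_comp_apply Sx.X₃ e' e t).symm
  refine h4.trans ?_
  rw [hee]
  simp

section SES

variable (F : EtCoh.Ab X)

/-- the short exact sequence `0 → F → I → Q → 0` with `I` injective -/
noncomputable def Sx : ShortComplex (EtCoh.Ab X) :=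
  ShortComplex.mk (Injective.ι F) (cokernel.π (Injective.ι F)) (cokernel.condition _)

lemma shortExact_Sx : (Sx F).ShortExact :=
  { exact := ShortComplex.exact_cokernel (Injective.ι F)
    mono_f := inferInstanceAs (Mono (Injective.ι F))
    epi_g := inferInstanceAs (Epi (cokernel.π (Injective.ι F))) }

instance : Injective (Sx F).X₂ := inferInstanceAs (Injective (Injective.under F))

variable {F}

attribute [local instance] Ext.subsingleton_of_injective in
lemma acyc_quot (hF : Acyc F) : Acyc (Sx F).X₃ := by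
  intro T j _ m
  constructor
  intro a b
  have key : ∀ x₃ : Ext.{u + 1} (Zh (obj j)) (Sx F).X₃ (m + 1), x₃ = 0 := by
    intro x₃
    haveI : Subsingleton (Ext.{u + 1} (Zh (obj j)) (Sx F).X₁ (m + 1 + 1)) := hF T j (m + 1)
    have h1 : x₃.comp (shortExact_Sx F).extClass (rfl : m + 1 + 1 = m + 1 + 1) = 0 :=
      Subsingleton.elim _ _
    obtain ⟨x₂, hx₂⟩ := Ext.covariant_sequence_exact₃ (Zh (obj j)) (shortExact_Sx F) x₃ rfl h1
    rw [← hx₂, Subsingleton.elim x₂ 0, Ext.zero_comp]
  rw [key a, key b]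

end SES

section Push

open Groth.Agent.Lib.T2H8.Recoll

variable {Y : Scheme.{u}} (f : X ⟶ Y)

instance : PreservesLimits (EtCoh.push f) := (EtCoh.pullPushAdj f).rightAdjoint_preservesLimits

instance (F : EtCoh.Ab X) : Injective ((EtCoh.push f).obj (Sx F).X₂) :=
  (EtCoh.pullPushAdj f).map_injective _ inferInstance

set_option backward.isDefEq.respectTransparency.types false in
lemma shortExact_push {F : EtCoh.Ab X} (hF : Acyc F) :
    ((Sx F).map (EtCoh.push f)).ShortExact := by
  have hsurj : ∀ P : X.Etale, Function.Surjective ((Sx F).g.hom.app (op P)) := fun P =>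
    surjective_sect (shortExact_Sx F) P (hF P.left P.hom 0)
  haveI : Mono ((Sx F).map (EtCoh.push f)).f := by
    haveI : Mono (Sx F).f := (shortExact_Sx F).mono_f
    exact inferInstanceAs (Mono ((EtCoh.push f).map (Sx F).f))
  haveI : Epi ((Sx F).map (EtCoh.push f)).g := by
    change Epi ((EtCoh.push f).map (Sx F).g)
    rw [← Sheaf.isLocallySurjective_iff_epi']
    apply Presheaf.isLocallySurjective_of_surjective
    intro V
    exact hsurj ((EtCoh.bc f).obj V.unop)
  refine ShortComplex.ShortExact.mk' ?_ inferInstance inferInstance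
  exact (shortExact_Sx F).exact.map_of_mono_of_preservesKernel (EtCoh.push f)
    (shortExact_Sx F).mono_f inferInstance

set_option backward.isDefEq.respectTransparency.types false in
/-- the direct image of a cohomologically flasque sheaf is cohomologically flasque -/
theorem push_acyc : ∀ (m : ℕ) (F : EtCoh.Ab X), Acyc F →
    ∀ (T' : Scheme.{u}) (k : T' ⟶ Y) [Etale k],
      Subsingleton (Ext.{u + 1} (Zh (obj k)) ((EtCoh.push f).obj F) (m + 1)) := by
  intro m
  induction m with
  | zero =>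
    intro F hF T' k _
    have hS' := shortExact_push f hF
    have hsurj : ∀ P : X.Etale, Function.Surjective ((Sx F).g.hom.app (op P)) := fun P =>
      surjective_sect (shortExact_Sx F) P (hF P.left P.hom 0)
    have key : ∀ x : Ext.{u + 1} (Zh (obj k)) ((EtCoh.push f).obj F) 1, x = 0 := by
      intro x
      haveI : Subsingleton (Ext.{u + 1} (Zh (obj k)) ((Sx F).map (EtCoh.push f)).X₂ 1) := by
        haveI : Injective ((Sx F).map (EtCoh.push f)).X₂ :=
          inferInstanceAs (Injective ((EtCoh.push f).obj (Sx F).X₂))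
        exact Ext.subsingleton_of_injective _ _ 0
      have h1 : Ext.comp (X := Zh (obj k)) (Y := ((Sx F).map (EtCoh.push f)).X₁) x
          (Ext.mk₀ ((Sx F).map (EtCoh.push f)).f) (add_zero 1) = 0 :=
        Subsingleton.elim _ _
      obtain ⟨x₃, hx₃⟩ := Ext.covariant_sequence_exact₁ (Zh (obj k)) hS' x h1
        (rfl : 0 + 1 = 1)
      obtain ⟨φ, rfl⟩ := (Ext.mk₀_bijective _ _).2 x₃
      obtain ⟨s, hs⟩ := hsurj ((EtCoh.bc f).obj (obj k))
        (zhEquiv (obj k) ((EtCoh.push f).obj (Sx F).X₃) φ)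
      let ψ : Zh (obj k) ⟶ (EtCoh.push f).obj (Sx F).X₂ :=
        (zhEquiv (obj k) ((EtCoh.push f).obj (Sx F).X₂)).symm s
      have hψ : ψ ≫ (EtCoh.push f).map (Sx F).g = φ := by
        apply (zhEquiv (obj k) ((EtCoh.push f).obj (Sx F).X₃)).injective
        rw [zhEquiv_comp, Equiv.apply_symm_apply]
        exact hs
      let ψ' : Zh (obj k) ⟶ ((Sx F).map (EtCoh.push f)).X₂ := ψ
      have hψ' : Ext.mk₀ φ = (Ext.mk₀ ψ').comp (Ext.mk₀ ((Sx F).map (EtCoh.push f)).g)
          (add_zero 0) := by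
        rw [Ext.mk₀_comp_mk₀]
        exact congrArg Ext.mk₀ hψ.symm
      rw [← hx₃, hψ', Ext.comp_assoc_of_second_deg_zero, hS'.comp_extClass, Ext.comp_zero]
      rfl
    exact ⟨fun a b => (key a).trans (key b).symm⟩
  | succ m ih =>
    intro F hF T' k _
    have hS' := shortExact_push f hF
    have hQ := acyc_quot hF
    have key : ∀ x : Ext.{u + 1} (Zh (obj k)) ((EtCoh.push f).obj F) (m + 1 + 1), x = 0 := by
      intro x
      haveI : Subsingleton (Ext.{u + 1} (Zh (obj k)) ((Sx F).map (EtCoh.push f)).X₂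
          (m + 1 + 1)) := by
        haveI : Injective ((Sx F).map (EtCoh.push f)).X₂ :=
          inferInstanceAs (Injective ((EtCoh.push f).obj (Sx F).X₂))
        exact Ext.subsingleton_of_injective _ _ (m + 1)
      have h1 : Ext.comp (X := Zh (obj k)) (Y := ((Sx F).map (EtCoh.push f)).X₁) x
          (Ext.mk₀ ((Sx F).map (EtCoh.push f)).f) (add_zero (m + 1 + 1)) = 0 :=
        Subsingleton.elim _ _
      obtain ⟨x₃, hx₃⟩ := Ext.covariant_sequence_exact₁ (Zh (obj k)) hS' x h1
        (rfl : m + 1 + 1 = m + 1 + 1)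
      haveI : Subsingleton (Ext.{u + 1} (Zh (obj k)) ((Sx F).map (EtCoh.push f)).X₃ (m + 1)) :=
        ih (Sx F).X₃ hQ T' k
      rw [← hx₃, Subsingleton.elim x₃ 0]
      exact Ext.zero_comp _ _ _ _ _
    exact ⟨fun a b => (key a).trans (key b).symm⟩

set_option backward.isDefEq.respectTransparency.types false in
theorem main_S19626 {X Y : Scheme.{u}} (f : X ⟶ Y)
    (F : EtCoh.Ab X)
    (hF : ∀ (W : X.Etale) (q : ℕ), 0 < q →
      Subsingleton (EtCoh.H W.left ((EtCoh.pull W.hom).obj F) q))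
    (W' : Y.Etale) (q : ℕ) (hq : 0 < q) :
    Subsingleton (EtCoh.H W'.left ((EtCoh.pull W'.hom).obj ((EtCoh.push f).obj F)) q) := by
  obtain ⟨m, rfl⟩ : ∃ m, q = m + 1 := ⟨q - 1, by omega⟩
  have hAc : Acyc F := by
    intro T j _ m
    haveI : EtShriek.JCont j := Groth.Agent.Lib.Helper9.JContAll.jCont j
    haveI : Subsingleton (EtCoh.H T ((EtCoh.pull j).obj F) (m + 1)) :=
      hF (Scheme.Etale.mk j) (m + 1) (Nat.succ_pos _)
    exact (Phi j F (m + 1)).toEquiv.subsingleton
  haveI : EtShriek.JCont W'.hom := Groth.Agent.Lib.Helper9.JContAll.jCont W'.hom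
  haveI h : Subsingleton (Ext.{u + 1} (Zh (obj W'.hom)) ((EtCoh.push f).obj F) (m + 1)) :=
    push_acyc f m F hAc W'.left W'.hom
  exact (Phi W'.hom ((EtCoh.push f).obj F) (m + 1)).symm.toEquiv.subsingleton

end Push

end Groth.Agent.Lib.T2H8.PushAcyclic
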