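import Mathlib
import Groth.Agent.Lib.T2H8RpushTorsion
import Groth.Agent.Lib.T2H8TorsionCoh
import Groth.Agent.Lib.T2H8CurveIso
import Groth.Prelude.Def_Dix

/-!
# `H^q(X, f_* F)` is torsion for `f : Spec κ ⟶ X`, `X` qcqs, `q ≥ 1` (S3240)
-/

set_option autoImplicit false
set_option linter.unusedSectionVars false
set_option linter.style.haveILetI false
universe u
open CategoryTheory CategoryTheory.Limits Opposite AlgebraicGeometry Abelian

namespace Groth.Agent.Lib.T2H8.PushTorsionCoh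

open Groth.Agent.Lib.Helper9.EtPull Groth.Agent.Lib.T2H8.EtTrace
  Groth.Agent.Lib.T2H8.RpushTorsion Groth.Agent.Lib.T2H8.TorsionCoh Groth.Agent.Lib.T2H8.CurveIso

variable {κ : Type u} [Field κ] {X : Scheme.{u}} (f : Spec (CommRingCat.of κ) ⟶ X)

section Setup

variable (F : EtCoh.Ab (Spec (CommRingCat.of κ)))

/-- `0 → F → I → Q → 0` with `I` injective -/
noncomputable def Sx : ShortComplex (EtCoh.Ab (Spec (CommRingCat.of κ))) :=
  ShortComplex.mk (Injective.ι F) (cokernel.π (Injective.ι F)) (cokernel.condition _)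

lemma shortExact_Sx : (Sx F).ShortExact :=
  { exact := ShortComplex.exact_cokernel (Injective.ι F)
    mono_f := inferInstanceAs (Mono (Injective.ι F))
    epi_g := inferInstanceAs (Epi (cokernel.π (Injective.ι F))) }

instance : Injective (Sx F).X₂ := inferInstanceAs (Injective (Injective.under F))

instance : Epi (Sx F).g := inferInstanceAs (Epi (cokernel.π (Injective.ι F)))

/-- `f_* I → f_* Q` -/
noncomputable abbrev φ : (EtCoh.push f).obj (Sx F).X₂ ⟶ (EtCoh.push f).obj (Sx F).X₃ :=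
  (EtCoh.push f).map (Sx F).g

instance : PreservesLimits (EtCoh.push f) := (EtCoh.pullPushAdj f).rightAdjoint_preservesLimits

instance : Mono ((EtCoh.push f).map (Sx F).f) := by
  haveI : Mono (Sx F).f := (shortExact_Sx F).mono_f
  infer_instance

lemma w1 : (EtCoh.push f).map (Sx F).f ≫ Abelian.factorThruImage (φ f F) = 0 := by
  rw [← cancel_mono (Abelian.image.ι (φ f F)), Category.assoc, Abelian.image.fac, zero_comp,
    ← Functor.map_comp, (Sx F).zero, Functor.map_zero]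

/-- `0 → f_* F → f_* I → B → 0` -/
lemma shortExact_one : (ShortComplex.mk ((EtCoh.push f).map (Sx F).f)
    (Abelian.factorThruImage (φ f F)) (w1 f F)).ShortExact := by
  refine ShortComplex.ShortExact.mk' ?_ inferInstance inferInstance
  let S₁ : ShortComplex (EtCoh.Ab X) := ShortComplex.mk ((EtCoh.push f).map (Sx F).f)
    (Abelian.factorThruImage (φ f F)) (w1 f F)
  let S₂ : ShortComplex (EtCoh.Ab X) := (Sx F).map (EtCoh.push f)
  let ψ : S₁ ⟶ S₂ :=
    { τ₁ := 𝟙 _
      τ₂ := 𝟙 _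
      τ₃ := Abelian.image.ι (φ f F)
      comm₁₂ := by
        change 𝟙 _ ≫ (EtCoh.push f).map (Sx F).f = (EtCoh.push f).map (Sx F).f ≫ 𝟙 _
        rw [Category.id_comp, Category.comp_id]
      comm₂₃ := by
        change 𝟙 _ ≫ φ f F = Abelian.factorThruImage (φ f F) ≫ Abelian.image.ι (φ f F)
        rw [Abelian.image.fac, Category.id_comp] }
  haveI : Epi ψ.τ₁ := inferInstanceAs (Epi (𝟙 _))
  haveI : IsIso ψ.τ₂ := inferInstanceAs (IsIso (𝟙 _))
  haveI : Mono ψ.τ₃ := inferInstanceAs (Mono (Abelian.image.ι (φ f F)))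
  change S₁.Exact
  rw [ShortComplex.exact_iff_of_epi_of_isIso_of_mono ψ]
  exact (shortExact_Sx F).exact.map_of_mono_of_preservesKernel (EtCoh.push f)
    (shortExact_Sx F).mono_f inferInstance

instance : Injective ((EtCoh.push f).obj (Sx F).X₂) :=
  (EtCoh.pullPushAdj f).map_injective _ inferInstance

end Setup

section Main

lemma sec_nsmul {Y : Scheme.{u}} (G : EtCoh.Ab Y) (ψ : EtCoh.const Y ℤ ⟶ G) (d : ℕ) :
    sec G (d • ψ) = d • sec G ψ := by
  have h1 : d • ψ = ψ ≫ (d • 𝟙 G) := by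
    rw [Preadditive.comp_nsmul, Category.comp_id]
  rw [h1, sec_comp]
  exact nsmul_hom_app_apply (𝟙 G) d (op (EtCoh.top Y)) _

lemma isAffine_pullback_id : IsAffine (pullback (𝟙 X) f) := by
  haveI : IsIso (pullback.snd (𝟙 X) f) := inferInstance
  exact IsAffine.of_isIso (pullback.snd (𝟙 X) f)

variable [CompactSpace X] [QuasiSeparatedSpace X]

attribute [local instance] Ext.subsingleton_of_injective in
set_option backward.isDefEq.respectTransparency.types false in
/-- `H^{q+1}(X, f_* F)` is a torsion group -/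
theorem exists_nsmul_eq_zero_H_push (q : ℕ) :
    ∀ (F : EtCoh.Ab (Spec (CommRingCat.of κ)))
      (α : EtCoh.H X ((EtCoh.push f).obj F) (q + 1)), ∃ d : ℕ, 0 < d ∧ d • α = 0 := by
  induction q with
  | zero =>
    intro F α
    have hS₁ := shortExact_one f F
    obtain ⟨β, hβ⟩ := Ext.covariant_sequence_exact₁ (EtCoh.const X ℤ) hS₁
      (α : Ext (EtCoh.const X ℤ) ((EtCoh.push f).obj (Sx F).X₁) (0 + 1)) (Subsingleton.elim _ _) rfl
    obtain ⟨b, rfl⟩ := (Ext.mk₀_bijective _ _).2 β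
    let P₀ := (EtCoh.bc f).obj (EtCoh.top X)
    haveI : IsAffine P₀.left := isAffine_pullback_id f
    let t : (Sx F).X₃.obj.obj (op P₀) :=
      sec ((EtCoh.push f).obj (Sx F).X₃) (b ≫ Abelian.image.ι (φ f F))
    obtain ⟨d, s, hd, hs⟩ := exists_nsmul_lift (shortExact_Sx F) P₀ t
    obtain ⟨σ, hσ⟩ := sec_surjective ((EtCoh.push f).obj (Sx F).X₂) s
    have h1 : σ ≫ φ f F = d • (b ≫ Abelian.image.ι (φ f F)) := by
      apply sec_injective
      rw [sec_comp, hσ, sec_nsmul]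
      exact hs
    have h2 : σ ≫ Abelian.factorThruImage (φ f F) = d • b := by
      rw [← cancel_mono (Abelian.image.ι (φ f F)), Category.assoc, Abelian.image.fac, h1,
        Preadditive.nsmul_comp]
    refine ⟨d, hd, ?_⟩
    rw [← hβ]
    let δ : (EtCoh.const X ℤ ⟶ Abelian.image (φ f F)) →+
        Ext.{u + 1} (EtCoh.const X ℤ) ((EtCoh.push f).obj (Sx F).X₁) 1 :=
      (hS₁.extClass.postcomp (EtCoh.const X ℤ) (zero_add 1)).comp
        (Ext.addEquiv₀ (X := EtCoh.const X ℤ) (Y := Abelian.image (φ f F))).symm.toAddMonoidHom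
    have h3 : d • (Ext.mk₀ b).comp hS₁.extClass (zero_add 1) =
        (Ext.mk₀ (d • b)).comp hS₁.extClass (zero_add 1) := (map_nsmul δ d b).symm
    refine h3.trans ?_
    rw [← h2, ← Ext.mk₀_comp_mk₀, Ext.comp_assoc_of_second_deg_zero]
    erw [hS₁.comp_extClass]
    exact Ext.comp_zero _ _ _ _ _
  | succ q ih =>
    intro F α
    have hS₁ := shortExact_one f F
    have hS₂ := shortExact_image_cokernel (φ f F)
    obtain ⟨β, hβ⟩ := Ext.covariant_sequence_exact₁ (EtCoh.const X ℤ) hS₁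
      (α : Ext (EtCoh.const X ℤ) ((EtCoh.push f).obj (Sx F).X₁) (q + 1 + 1))
      (Subsingleton.elim _ _) rfl
    let P0 := (Ext.mk₀ (Abelian.image.ι (φ f F))).postcomp (EtCoh.const X ℤ) (add_zero (q + 1))
    let P1 := hS₁.extClass.postcomp (EtCoh.const X ℤ) (rfl : q + 1 + 1 = q + 1 + 1)
    let P2 := hS₂.extClass.postcomp (EtCoh.const X ℤ) (rfl : q + 1 = q + 1)
    obtain ⟨d₁, hd₁, h1⟩ := ih (Sx F).X₃ (P0 β)
    have h2 : (d₁ • β).comp (Ext.mk₀ (Abelian.image.ι (φ f F))) (add_zero (q + 1)) = 0 :=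
      (map_nsmul P0 d₁ β).trans h1
    obtain ⟨γ, hγ⟩ := Ext.covariant_sequence_exact₁ (EtCoh.const X ℤ) hS₂ (d₁ • β) h2
      (rfl : q + 1 = q + 1)
    obtain ⟨d₂, hd₂, h3⟩ := exists_nsmul_eq_zero_of_isTorsion (cokernel (φ f F))
      (isTorsion_cokernel_push f (Sx F).g) q γ
    refine ⟨d₂ * d₁, Nat.mul_pos hd₂ hd₁, ?_⟩
    have hα : α = P1 β := hβ.symm
    have hγ' : P2 γ = d₁ • β := hγ
    have e1 : (d₂ * d₁) • P1 β = P1 ((d₂ * d₁) • β) := (map_nsmul P1 _ β).symm
    have e2 : (d₂ * d₁) • β = d₂ • (d₁ • β) := mul_smul _ _ _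
    have e3 : d₂ • (d₁ • β) = P2 (d₂ • γ) := by
      rw [map_nsmul]
      exact congrArg (d₂ • ·) hγ'.symm
    rw [hα]
    refine e1.trans ?_
    rw [e2, e3, h3, map_zero]
    exact map_zero P1

end Main

section S3240

/-- **S3240** -/
theorem main_S3240 (X : Scheme.{u}) [CompactSpace X] [QuasiSeparatedSpace X] (x : X)
    (F : EtCoh.Ab (Spec (X.residueField x))) (q : ℕ) (hq : 1 ≤ q) :
    EtCoh.IsTorsion ((EtCoh.Rpush (X.fromSpecResidueField x) q).obj F) ∧
      IsAddTorsion (EtCoh.H X ((Dix.skyPush X x).obj F) q) := by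
  constructor
  · exact isTorsion_Rpush (κ := X.residueField x) (X.fromSpecResidueField x) F q hq
  · obtain ⟨n, rfl⟩ : ∃ n, q = n + 1 := ⟨q - 1, by omega⟩
    intro α
    obtain ⟨d, hd, h⟩ := exists_nsmul_eq_zero_H_push (κ := X.residueField x)
      (X.fromSpecResidueField x) n F α
    exact isOfFinAddOrder_iff_nsmul_eq_zero.2 ⟨d, hd, h⟩

end S3240

end Groth.Agent.Lib.T2H8.PushTorsionCoh
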