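import Mathlib
import Groth.Agent.Lib.T2H8PushTorsionCoh
import Groth.Agent.Lib.T2H8ConstSES
import Groth.Agent.Lib.T2H8GalCohDim
import Groth.Agent.Lib.T2H8NormalConst

/-!
# `H^1(X, i_{x*} M) = 0` for a torsion-free abelian group `M` (S3243)
-/

set_option autoImplicit false
set_option linter.unusedSectionVars false
set_option linter.style.haveILetI false
universe u
open CategoryTheory CategoryTheory.Limits Opposite AlgebraicGeometry Abelian

namespace Groth.Agent.Lib.T2H8.PushConstH1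

open Groth.Agent.Lib.Helper9.EtPull Groth.Agent.Lib.T2H8.EtTrace
  Groth.Agent.Lib.T2H8.RpushTorsion Groth.Agent.Lib.T2H8.TorsionCoh
  Groth.Agent.Lib.T2H8.PushTorsionCoh Groth.Agent.Lib.T2H8.ConstSES
  Groth.Agent.Lib.T2H8.NormalConst Groth.Agent.Lib.T2H8.LocTriv Groth.Agent.Lib.T2H8AgreeAb

section Lift

variable {Y : Scheme.{u}}

/-- if `H^1(Y, S.X₁) = 0` then `S.X₂(Y) → S.X₃(Y)` is surjective -/
lemma surjective_top_of_H1 {S : ShortComplex (EtCoh.Ab Y)} (hS : S.ShortExact)
    (h : Subsingleton (EtCoh.H Y S.X₁ 1)) (t : S.X₃.obj.obj (op (EtCoh.top Y))) :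
    ∃ s : S.X₂.obj.obj (op (EtCoh.top Y)), S.g.hom.app (op (EtCoh.top Y)) s = t := by
  obtain ⟨c, hc⟩ := sec_surjective S.X₃ t
  have h0 : (Ext.mk₀ c).comp hS.extClass (zero_add 1) = 0 :=
    @Subsingleton.elim (EtCoh.H Y S.X₁ 1) h _ _
  obtain ⟨γ, hγ⟩ := Ext.covariant_sequence_exact₃ (EtCoh.const Y ℤ) hS (Ext.mk₀ c) (zero_add 1) h0
  obtain ⟨σ, rfl⟩ := (Ext.mk₀_bijective _ _).2 γ
  rw [Ext.mk₀_comp_mk₀] at hγ
  have h1 : σ ≫ S.g = c := (Ext.mk₀_bijective _ _).1 hγ
  refine ⟨sec S.X₂ σ, ?_⟩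
  rw [← hc, ← h1, sec_comp]
  rfl

/-- the same over an object isomorphic to the terminal one -/
lemma surjective_of_H1_of_iso {S : ShortComplex (EtCoh.Ab Y)} (hS : S.ShortExact)
    (h : Subsingleton (EtCoh.H Y S.X₁ 1)) {P : Y.Etale} (e : P ≅ EtCoh.top Y)
    (t : S.X₃.obj.obj (op P)) :
    ∃ s : S.X₂.obj.obj (op P), S.g.hom.app (op P) s = t := by
  obtain ⟨s', hs'⟩ := surjective_top_of_H1 hS h (S.X₃.obj.map e.inv.op t)
  refine ⟨S.X₂.obj.map e.hom.op s', ?_⟩
  have h1 := NatTrans.naturality_apply S.g.hom e.hom.op s'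
  refine h1.trans ?_
  rw [hs', map_map_apply]
  have : e.hom ≫ e.inv = 𝟙 P := e.hom_inv_id
  rw [this]
  simp

end Lift

section Push

variable {κ : Type u} [Field κ] {X : Scheme.{u}} (f : Spec (CommRingCat.of κ) ⟶ X)

attribute [local instance] Ext.subsingleton_of_injective in
set_option backward.isDefEq.respectTransparency.types false in
/-- `H^1(X, f_* F)` vanishes when `H^1(Spec κ, F)` does -/
theorem subsingleton_H1_push (F : EtCoh.Ab (Spec (CommRingCat.of κ)))
    (h : Subsingleton (EtCoh.H (Spec (CommRingCat.of κ)) F 1)) :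
    Subsingleton (EtCoh.H X ((EtCoh.push f).obj F) 1) := by
  suffices hz : ∀ α : EtCoh.H X ((EtCoh.push f).obj F) 1, α = 0 from
    ⟨fun a b => (hz a).trans (hz b).symm⟩
  intro α
  have hS₁ := shortExact_one f F
  obtain ⟨β, hβ⟩ := Ext.covariant_sequence_exact₁ (EtCoh.const X ℤ) hS₁
    (α : Ext (EtCoh.const X ℤ) ((EtCoh.push f).obj (Sx F).X₁) (0 + 1)) (Subsingleton.elim _ _) rfl
  obtain ⟨b, rfl⟩ := (Ext.mk₀_bijective _ _).2 β
  let P₀ := (EtCoh.bc f).obj (EtCoh.top X)
  let t : (Sx F).X₃.obj.obj (op P₀) :=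
    sec ((EtCoh.push f).obj (Sx F).X₃) (b ≫ Abelian.image.ι (φ f F))
  obtain ⟨s, hs⟩ := surjective_of_H1_of_iso (shortExact_Sx F) h (EtCore.bcTopIso f) t
  obtain ⟨σ, hσ⟩ := sec_surjective ((EtCoh.push f).obj (Sx F).X₂) s
  have h1 : σ ≫ φ f F = b ≫ Abelian.image.ι (φ f F) := by
    apply sec_injective
    rw [sec_comp, hσ]
    exact hs
  have h2 : σ ≫ Abelian.factorThruImage (φ f F) = b := by
    rw [← cancel_mono (Abelian.image.ι (φ f F)), Category.assoc, Abelian.image.fac, h1]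
  rw [← hβ, ← h2, ← Ext.mk₀_comp_mk₀, Ext.comp_assoc_of_second_deg_zero]
  erw [hS₁.comp_extClass]
  exact Ext.comp_zero _ _ _ _ _

end Push

section Conn

variable {X : Scheme.{u}}

/-- sections of a trivialized sheaf over a preconnected object with a point are constant -/
theorem exists_eq_of_preconnected (H : EtCoh.Ab X) {V : X.Etale} {M : AddCommGrpCat.{u + 1}}
    {t : M ⟶ H.obj.obj (op V)} (ht : IsTriv H V M t) [PreconnectedSpace V.left] (y₀ : V.left)
    (σ : H.obj.obj (op V)) : ∃ m : M, t m = σ := by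
  obtain ⟨Z, g, ⟨m₀, hm₀⟩, ⟨z, hz⟩⟩ := exists_mem_range_of_mem (ht.surj V (𝟙 V) σ) y₀
  refine ⟨m₀, ?_⟩
  symm
  apply eq_of_agree_eq_univ
  have hcl := isClosed_agree_of_isTriv H ht σ (t m₀)
  have hop := isOpen_agree H σ (t m₀)
  have hy₀ : y₀ ∈ agree H σ (t m₀) := by
    refine ⟨Z, g, z, hz, ?_⟩
    rw [Category.comp_id] at hm₀
    exact hm₀.symm
  have huniv := IsClopen.eq_univ ⟨hcl, hop⟩ ⟨y₀, hy₀⟩
  intro v
  rw [huniv]
  exact Set.mem_univ v

variable (X)

/-- naturality of the canonical chart of the constant sheaf -/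
theorem cs_map_tConst {M N : Type} [AddCommGroup M] [AddCommGroup N] (ψ : Mv.{u} M ⟶ Mv.{u} N)
    (V : X.Etale) (m : Mv.{u} M) :
    ((cs X).map ψ).hom.app (op V) (tConst X M V m) = tConst X N V (ψ m) := by
  have h := toSheafify_naturality X.smallEtaleTopology ((Functor.const X.Etaleᵒᵖ).map ψ)
  have h1 := congrArg (fun η => (η.app (op V)) m) h
  exact h1.symm

/-- a surjection of groups induces a surjection on sections of constant sheaves over a
preconnected object with a point -/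
theorem surjective_cs_map {M N : Type} [AddCommGroup M] [AddCommGroup N] (p : M →+ N)
    (hp : Function.Surjective p) (V : X.Etale) [PreconnectedSpace V.left] (y₀ : V.left)
    (τ : (EtCoh.const X N).obj.obj (op V)) :
    ∃ s : (EtCoh.const X M).obj.obj (op V), ((cs X).map (ulMap.{u} p)).hom.app (op V) s = τ := by
  obtain ⟨n, hn⟩ := exists_eq_of_preconnected (EtCoh.const X N) (isTriv_const X N V) y₀ τ
  obtain ⟨m, hm⟩ := hp n.down
  refine ⟨tConst X M V ⟨m⟩, ?_⟩
  rw [cs_map_tConst, ← hn]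
  congr 1
  exact ULift.ext _ _ hm

end Conn

section Field

variable (k : Type u) [Field k]

lemma ulMap_nsmul (M : Type) [AddCommGroup M] (d : ℕ) :
    ulMap.{u} (d • AddMonoidHom.id M) = d • 𝟙 (AddCommGrpCat.of (ULift.{u + 1} M)) := by
  ext x
  rw [AddCommGrpCat.hom_nsmul, AddMonoidHom.nsmul_apply]
  rfl

set_option backward.isDefEq.respectTransparency.types false in
/-- `H^1(Spec k, M) = 0` for a torsion-free abelian group `M` -/
theorem subsingleton_H1_const (M : Type) [AddCommGroup M] [IsAddTorsionFree M] :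
    Subsingleton (EtCoh.H (Spec (CommRingCat.of k)) (EtCoh.const (Spec (CommRingCat.of k)) M) 1) := by
  suffices hz : ∀ α : EtCoh.H (Spec (CommRingCat.of k)) (EtCoh.const (Spec (CommRingCat.of k)) M) 1,
      α = 0 from ⟨fun a b => (hz a).trans (hz b).symm⟩
  intro α
  obtain ⟨d, hd, hdα⟩ := Groth.Agent.Lib.T2H8.FieldTorsion.exists_nsmul_eq_zero k
    (EtCoh.const (Spec (CommRingCat.of k)) M) 1 Nat.one_pos α
  let i : M →+ M := d • AddMonoidHom.id M
  let p : M →+ M ⧸ i.range := QuotientAddGroup.mk' i.range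
  have hi : Function.Injective i := fun a b hab => nsmul_right_injective hd.ne' hab
  have hp : Function.Surjective p := QuotientAddGroup.mk'_surjective _
  have hT0 := ul_shortExact.{u} i p hi hp (by
      intro y hy
      rw [QuotientAddGroup.mk'_apply, QuotientAddGroup.eq_zero_iff] at hy
      exact AddMonoidHom.mem_range.1 hy) (by
      intro x
      rw [QuotientAddGroup.mk'_apply, QuotientAddGroup.eq_zero_iff]
      exact AddMonoidHom.mem_range.2 ⟨x, rfl⟩)
  have hw : (cs (Spec (CommRingCat.of k))).map (ulMap.{u} i) ≫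
      (cs (Spec (CommRingCat.of k))).map (ulMap.{u} p) = 0 := by
    have hz : ulMap.{u} i ≫ ulMap.{u} p = 0 := by
      ext x
      change p (i x.down) = 0
      rw [QuotientAddGroup.mk'_apply, QuotientAddGroup.eq_zero_iff]
      exact AddMonoidHom.mem_range.2 ⟨x.down, rfl⟩
    rw [← Functor.map_comp, hz, Functor.map_zero]
  have hT : (ShortComplex.mk ((cs (Spec (CommRingCat.of k))).map (ulMap.{u} i))
      ((cs (Spec (CommRingCat.of k))).map (ulMap.{u} p)) hw).ShortExact :=
    hT0.map_of_exact (cs (Spec (CommRingCat.of k)))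
  have hf : (cs (Spec (CommRingCat.of k))).map (ulMap.{u} i) =
      d • 𝟙 (EtCoh.const (Spec (CommRingCat.of k)) M) := by
    rw [ulMap_nsmul, Functor.map_nsmul, CategoryTheory.Functor.map_id]
  have h0 : (α : Ext (EtCoh.const (Spec (CommRingCat.of k)) ℤ)
      (EtCoh.const (Spec (CommRingCat.of k)) M) (0 + 1)).comp
        (Ext.mk₀ ((cs (Spec (CommRingCat.of k))).map (ulMap.{u} i))) (add_zero (0 + 1)) = 0 := by
    rw [hf]
    have := Groth.Agent.Lib.T2H8.GalCohDim.Hmap_nsmul_id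
      (EtCoh.const (Spec (CommRingCat.of k)) M) 1 α d
    rw [Sheaf.H.map_apply] at this
    exact this.trans hdα
  obtain ⟨β, hβ⟩ := Ext.covariant_sequence_exact₁ (EtCoh.const (Spec (CommRingCat.of k)) ℤ) hT
    (α : Ext (EtCoh.const (Spec (CommRingCat.of k)) ℤ)
      (EtCoh.const (Spec (CommRingCat.of k)) M) (0 + 1)) h0 rfl
  obtain ⟨b, rfl⟩ := (Ext.mk₀_bijective _ _).2 β
  haveI : PreconnectedSpace (EtCoh.top (Spec (CommRingCat.of k))).left :=
    inferInstanceAs (PreconnectedSpace (Spec (CommRingCat.of k)))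
  obtain ⟨s, hs⟩ := surjective_cs_map (Spec (CommRingCat.of k)) p hp
    (EtCoh.top (Spec (CommRingCat.of k))) (default : Spec (CommRingCat.of k))
    (sec (EtCoh.const (Spec (CommRingCat.of k)) (M ⧸ i.range)) b)
  obtain ⟨σ, hσ⟩ := sec_surjective (EtCoh.const (Spec (CommRingCat.of k)) M) s
  have h1 : σ ≫ (cs (Spec (CommRingCat.of k))).map (ulMap.{u} p) = b := by
    apply sec_injective
    rw [sec_comp, hσ]
    exact hs
  rw [← hβ, ← h1, ← Ext.mk₀_comp_mk₀, Ext.comp_assoc_of_second_deg_zero]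
  erw [hT.comp_extClass]
  exact Ext.comp_zero _ _ _ _ _

end Field

section S3243

/-- **S3243** -/
theorem main_S3243 (X : Scheme.{u}) [CompactSpace X] [QuasiSeparatedSpace X] (x : X) (M : Type)
    [AddCommGroup M] [IsAddTorsionFree M] :
    Subsingleton (EtCoh.H X ((Dix.skyPush X x).obj (EtCoh.const (Spec (X.residueField x)) M)) 1) :=
  subsingleton_H1_push (κ := X.residueField x) (X.fromSpecResidueField x) _
    (subsingleton_H1_const (X.residueField x) M)

end S3243

end Groth.Agent.Lib.T2H8.PushConstH1
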