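import Mathlib

/-!
# Étale-local splitting of finite algebras at flat points (library for S8944, S8959, S8963)

Generic commutative algebra (Mathlib only):
* `flat_of_isLocalization_atPrime_tensor`: if `S_q` is `R`-flat and `𝔓` is a prime of `T ⊗[R] S`
  over `q`, then `(T ⊗[R] S)_𝔓` is `T`-flat.
* `exists_notMem_of_lTensor_eq_zero`: the annihilator argument for flat base change.
* `dualBasisMap`, `dualTensorHom_dualBasisMap`, `dualBasisMap_dualTensorHom`,
  `exists_dualBasis_of_free_away`: the idempotent part of `dualTensorHom` when `X[1/e]` is finite free.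
-/

namespace Groth.Agent.Lib.T2H8.QFLoc

universe u
open TensorProduct

section LemmaF

variable {R S T : Type u} [CommRing R] [CommRing S] [CommRing T] [Algebra R S] [Algebra R T]

/-- If `S_q` is `R`-flat and `𝔓` is a prime of `T ⊗[R] S` over `q`, then the localization of
`T ⊗[R] S` at `𝔓` is `T`-flat. -/
theorem flat_of_isLocalization_atPrime_tensor
    (𝔓 : Ideal (T ⊗[R] S)) [𝔓.IsPrime] (D : Type u) [CommRing D] [Algebra (T ⊗[R] S) D]
    [Algebra T D] [IsScalarTower T (T ⊗[R] S) D] [IsLocalization.AtPrime D 𝔓]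
    (q : Ideal S) [q.IsPrime]
    (hq : ∀ s : S, s ∉ q → (1 : T) ⊗ₜ[R] s ∉ 𝔓)
    [Module.Flat R (Localization.AtPrime q)] : Module.Flat T D := by
  let Sq := Localization.AtPrime q
  let φ : T ⊗[R] S →ₐ[T] T ⊗[R] Sq :=
    Algebra.TensorProduct.map (AlgHom.id T T) (IsScalarTower.toAlgHom R S Sq)
  letI : Algebra (T ⊗[R] S) (T ⊗[R] Sq) := φ.toRingHom.toAlgebra
  haveI : IsScalarTower T (T ⊗[R] S) (T ⊗[R] Sq) :=
    IsScalarTower.of_algebraMap_eq' (by
      ext t
      exact (φ.commutes t).symm)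
  have H : (algebraMap (T ⊗[R] S) (T ⊗[R] Sq)).comp
      (Algebra.TensorProduct.includeRight : S →ₐ[R] T ⊗[R] S).toRingHom =
      (Algebra.TensorProduct.includeRight : Sq →ₐ[R] T ⊗[R] Sq).toRingHom.comp
        (algebraMap S Sq) := by
    ext s
    show φ ((1 : T) ⊗ₜ[R] s) = (1 : T) ⊗ₜ[R] (algebraMap S Sq s)
    simp [φ]
  haveI hloc : IsLocalization (q.primeCompl.map
      (Algebra.TensorProduct.includeRight (R := R) (A := T))) (T ⊗[R] Sq) :=
    IsLocalization.tensorProduct_tensorProduct_right R T q.primeCompl Sq H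
  have hle : q.primeCompl.map (Algebra.TensorProduct.includeRight (R := R) (A := T)) ≤
      𝔓.primeCompl := by
    rintro _ ⟨s, hs, rfl⟩
    exact hq s hs
  letI : Algebra (T ⊗[R] Sq) D :=
    IsLocalization.localizationAlgebraOfSubmonoidLe (T ⊗[R] Sq) D _ _ hle
  haveI : IsScalarTower (T ⊗[R] S) (T ⊗[R] Sq) D :=
    IsLocalization.localization_isScalarTower_of_submonoid_le (T ⊗[R] Sq) D _ _ hle
  haveI : IsLocalization (𝔓.primeCompl.map (algebraMap (T ⊗[R] S) (T ⊗[R] Sq))) D :=
    IsLocalization.isLocalization_of_submonoid_le (T ⊗[R] Sq) D _ _ hle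
  haveI : Module.Flat (T ⊗[R] Sq) D :=
    IsLocalization.flat D (𝔓.primeCompl.map (algebraMap (T ⊗[R] S) (T ⊗[R] Sq)))
  haveI : Module.Flat T (T ⊗[R] Sq) := inferInstance
  have hcomp : algebraMap T D = (algebraMap (T ⊗[R] Sq) D).comp (algebraMap T (T ⊗[R] Sq)) := by
    rw [IsScalarTower.algebraMap_eq T (T ⊗[R] S) D,
      IsScalarTower.algebraMap_eq (T ⊗[R] S) (T ⊗[R] Sq) D, RingHom.comp_assoc,
      ← IsScalarTower.algebraMap_eq T (T ⊗[R] S) (T ⊗[R] Sq)]
  haveI : IsScalarTower T (T ⊗[R] Sq) D := IsScalarTower.of_algebraMap_eq' hcomp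
  exact Module.Flat.trans T (T ⊗[R] Sq) D

end LemmaF

section P3

variable {A B' T K : Type u} [CommRing A] [CommRing B'] [CommRing T] [Algebra A B'] [Algebra A T]
  [AddCommMonoid K] [Module A K]

theorem exists_notMem_of_lTensor_eq_zero [Module.Flat A T]
    (o : B' →ₗ[A] K) (e : T ⊗[A] B') (he : o.lTensor T e = 0)
    (𝔓 : Ideal (T ⊗[A] B')) (h𝔓 : e ∉ 𝔓) : ∃ s : B', (1 : T) ⊗ₜ[A] s ∉ 𝔓 ∧ o s = 0 := by
  letI : AddCommGroup K := Module.addCommMonoidToAddCommGroup A
  by_contra hcon
  push_neg at hcon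
  apply h𝔓
  have hex : Function.Exact ((LinearMap.ker o).subtype.lTensor T) (o.lTensor T) :=
    Module.Flat.lTensor_exact T (LinearMap.exact_subtype_ker_map o)
  have key : ∀ w : T ⊗[A] (LinearMap.ker o), (LinearMap.ker o).subtype.lTensor T w ∈ 𝔓 := by
    intro w
    induction w using TensorProduct.induction_on with
    | zero => simp
    | tmul t a =>
      have h1 : (1 : T) ⊗ₜ[A] (a : B') ∈ 𝔓 := by
        by_contra h
        exact hcon (a : B') h a.2
      have h2 : (LinearMap.ker o).subtype.lTensor T (t ⊗ₜ a) =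
          (t ⊗ₜ[A] (1 : B')) * ((1 : T) ⊗ₜ[A] (a : B')) := by
        simp
      rw [h2]
      exact 𝔓.mul_mem_left _ h1
    | add x y hx hy =>
      rw [map_add]
      exact 𝔓.add_mem hx hy
  obtain ⟨w, rfl⟩ := (hex e).mp he
  exact key w

end P3

section P2

variable {T X M : Type u} [CommRing T] [CommRing X] [Algebra T X] [AddCommGroup M] [Module T M]

/-- the "dual basis" map -/
noncomputable def dualBasisMap (e : X) {ι : Type*} [Fintype ι] (x : ι → X) (g : ι → Module.Dual T X) :
    (X →ₗ[T] M) →ₗ[T] Module.Dual T X ⊗[T] M where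
  toFun ψ := ∑ i, g i ⊗ₜ[T] ψ (e * x i)
  map_add' ψ₁ ψ₂ := by simp [tmul_add, Finset.sum_add_distrib]
  map_smul' t ψ := by simp [Finset.smul_sum]

variable (e : X) {ι : Type*} [Fintype ι] (x : ι → X) (g : ι → Module.Dual T X)
  (hid : ∀ y, e * y = ∑ i, g i y • (e * x i))

include hid in
theorem dualTensorHom_dualBasisMap (ψ : X →ₗ[T] M) :
    dualTensorHom T X M (dualBasisMap (M := M) e x g ψ) = ψ ∘ₗ LinearMap.mulLeft T e := by
  ext y
  simp only [dualBasisMap, LinearMap.coe_mk, AddHom.coe_mk, map_sum, dualTensorHom_apply,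
    LinearMap.sum_apply, LinearMap.comp_apply, LinearMap.mulLeft_apply]
  rw [hid y, map_sum]
  simp

include hid in
theorem dualBasisMap_dualTensorHom (z : Module.Dual T X ⊗[T] M) :
    dualBasisMap (M := M) e x g (dualTensorHom T X M z) =
      LinearMap.rTensor M (Module.Dual.transpose (LinearMap.mulLeft T e)) z := by
  induction z using TensorProduct.induction_on with
  | zero => simp
  | tmul f m =>
    simp only [dualBasisMap, LinearMap.coe_mk, AddHom.coe_mk, dualTensorHom_apply,
      LinearMap.rTensor_tmul]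
    have : Module.Dual.transpose (LinearMap.mulLeft T e) f = ∑ i, f (e * x i) • g i := by
      ext y
      simp only [Module.Dual.transpose_apply, LinearMap.comp_apply, LinearMap.mulLeft_apply,
        LinearMap.sum_apply, LinearMap.smul_apply]
      rw [hid y, map_sum]
      simp [mul_comm]
    rw [this, sum_tmul]
    refine Finset.sum_congr rfl fun i _ => ?_
    rw [smul_tmul, ]
  | add z₁ z₂ h₁ h₂ => rw [map_add, map_add, map_add, h₁, h₂]

omit hid in
theorem exists_dualBasis_of_free_away (he : IsIdempotentElem e)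
    [Module.Free T (Localization.Away e)] [Module.Finite T (Localization.Away e)] :
    ∃ (κ : Type u) (_ : Fintype κ) (x : κ → X) (g : κ → Module.Dual T X),
      ∀ y, e * y = ∑ i, g i y • (e * x i) := by
  classical
  let C := Localization.Away e
  let π : X →ₗ[T] C := (IsScalarTower.toAlgHom T X C).toLinearMap
  have hπ : Function.Surjective π :=
    IsLocalization.Away.algebraMap_surjective_of_isIdempotentElem e he
  let b := Module.Free.chooseBasis T C
  choose x hx using fun i => hπ (b i)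
  refine ⟨Module.Free.ChooseBasisIndex T C, inferInstance, x, fun i => (b.coord i) ∘ₗ π,
    fun y => ?_⟩
  have h1 : π (y - ∑ i, (b.coord i) (π y) • x i) = 0 := by
    rw [map_sub, map_sum]
    simp only [map_smul, hx]
    rw [sub_eq_zero]
    exact (b.sum_repr (π y)).symm
  have h1' : algebraMap X C (y - ∑ i, (b.coord i) (π y) • x i) = 0 := h1
  obtain ⟨⟨c, n, rfl⟩, hc⟩ := (IsLocalization.map_eq_zero_iff (Submonoid.powers e) C _).mp h1'
  have h3 : e * (y - ∑ i, (b.coord i) (π y) • x i) = 0 := by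
    have h4 : e ^ (n + 1) * (y - ∑ i, (b.coord i) (π y) • x i) = 0 := by
      rw [pow_succ', mul_assoc]
      simp only at hc
      rw [hc, mul_zero]
    rwa [he.pow_succ_eq n] at h4
  rw [mul_sub, sub_eq_zero] at h3
  rw [h3, Finset.mul_sum]
  refine Finset.sum_congr rfl fun i _ => ?_
  simp [mul_smul_comm]

end P2

end Groth.Agent.Lib.T2H8.QFLoc
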