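import Groth.Agent.Lib.T2H8QFLocA

/-!
# Étale-local structure at a flat point of a finite algebra (from Stacks 00UJ)
-/

namespace Groth.Agent.Lib.T2H8.QFLoc

universe u
open TensorProduct

section Struct

variable {A B' : Type u} [CommRing A] [CommRing B'] [Algebra A B'] [Module.Finite A B']

theorem exists_flat_local_idempotent (q' : Ideal B') [q'.IsPrime]
    [Module.Flat A (Localization.AtPrime q')] :
    ∃ (T : Type u) (_ : CommRing T) (_ : Algebra A T) (_ : Module.Flat A T) (_ : IsLocalRing T)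
      (e : T ⊗[A] B') (_ : IsIdempotentElem e) (𝔓 : Ideal (T ⊗[A] B')) (_ : 𝔓.IsPrime),
      (∀ s : B', (1 : T) ⊗ₜ[A] s ∈ 𝔓 ↔ s ∈ q') ∧ e ∉ 𝔓 ∧
      Module.Flat T (Localization.Away e) := by
  classical
  let p : Ideal A := q'.under A
  haveI : q'.LiesOver p := ⟨rfl⟩
  obtain ⟨A₁, _, _, hEt, P, _, _, e, he, P', _, _, hP'q, heP', -, -, huniq⟩ :=
    Algebra.exists_etale_isIdempotentElem_forall_liesOver_eq p q'
  let T := Localization.AtPrime P
  let φ : A₁ ⊗[A] B' →ₐ[A₁] T ⊗[A] B' :=
    Algebra.TensorProduct.map (Algebra.ofId A₁ T) (AlgHom.id A B')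
  letI : Algebra (A₁ ⊗[A] B') (T ⊗[A] B') := φ.toRingHom.toAlgebra
  haveI : IsScalarTower A₁ (A₁ ⊗[A] B') (T ⊗[A] B') :=
    IsScalarTower.of_algebraMap_eq' (by
      ext t
      exact (φ.commutes t).symm)
  have H : (algebraMap (A₁ ⊗[A] B') (T ⊗[A] B')).comp
      (Algebra.TensorProduct.includeRight : B' →ₐ[A] A₁ ⊗[A] B').toRingHom =
      (Algebra.TensorProduct.includeRight : B' →ₐ[A] T ⊗[A] B').toRingHom := by
    ext s
    show φ ((1 : A₁) ⊗ₜ[A] s) = (1 : T) ⊗ₜ[A] s
    simp [φ]
  haveI hloc : IsLocalization (Algebra.algebraMapSubmonoid (A₁ ⊗[A] B') P.primeCompl)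
      (T ⊗[A] B') :=
    IsLocalization.tensorProduct_tensorProduct A B' P.primeCompl T H
  haveI : Module.Flat A A₁ := inferInstance
  haveI hTflat : Module.Flat A T := inferInstance
  have hP'P : P'.under A₁ = P := (Ideal.over_def P' P).symm
  have hdisj : Disjoint (Algebra.algebraMapSubmonoid (A₁ ⊗[A] B') P.primeCompl :
      Set (A₁ ⊗[A] B')) (P' : Set (A₁ ⊗[A] B')) := by
    rw [Set.disjoint_left]
    rintro _ ⟨a, ha, rfl⟩ hmem
    apply ha
    have : a ∈ P'.under A₁ := hmem
    rwa [hP'P] at this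
  let 𝔓 : Ideal (T ⊗[A] B') := P'.map (algebraMap (A₁ ⊗[A] B') (T ⊗[A] B'))
  haveI h𝔓prime : 𝔓.IsPrime :=
    IsLocalization.isPrime_of_isPrime_disjoint _ _ P' inferInstance hdisj
  have h𝔓under : 𝔓.under (A₁ ⊗[A] B') = P' :=
    IsLocalization.under_map_of_isPrime_disjoint _ _ inferInstance hdisj
  let e₂ : T ⊗[A] B' := algebraMap (A₁ ⊗[A] B') (T ⊗[A] B') e
  have he₂ : IsIdempotentElem e₂ := he.map (algebraMap (A₁ ⊗[A] B') (T ⊗[A] B'))
  have hincl : ∀ s : B', algebraMap (A₁ ⊗[A] B') (T ⊗[A] B') ((1 : A₁) ⊗ₜ[A] s) =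
      (1 : T) ⊗ₜ[A] s := fun s => RingHom.congr_fun H s
  have hq'P' : ∀ s : B', (1 : A₁) ⊗ₜ[A] s ∈ P' → s ∈ q' := by
    intro s hs
    rw [← hP'q]
    exact hs
  refine ⟨T, inferInstance, inferInstance, hTflat, inferInstance, e₂, he₂, 𝔓, h𝔓prime,
    ?_, ?_, ?_⟩
  · intro s
    constructor
    · intro hmem
      apply hq'P'
      rw [← h𝔓under]
      show algebraMap (A₁ ⊗[A] B') (T ⊗[A] B') ((1 : A₁) ⊗ₜ[A] s) ∈ 𝔓
      rw [hincl]
      exact hmem
    · intro hs
      rw [← hincl]
      apply Ideal.mem_map_of_mem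
      rw [← hP'q] at hs
      exact hs
  · intro hmem
    apply heP'
    rw [← h𝔓under]
    exact hmem
  · haveI : Module.Finite T (T ⊗[A] B') := inferInstance
    have hsurj : Function.Surjective (algebraMap (T ⊗[A] B') (Localization.Away e₂)) :=
      IsLocalization.Away.algebraMap_surjective_of_isIdempotentElem e₂ he₂
    haveI : Module.Finite T (Localization.Away e₂) :=
      Module.Finite.of_surjective
        (IsScalarTower.toAlgHom T (T ⊗[A] B') (Localization.Away e₂)).toLinearMap hsurj
    haveI : Algebra.IsIntegral T (Localization.Away e₂) := Algebra.IsIntegral.of_finite T _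
    have key : ∀ (m : Ideal (Localization.Away e₂)) [m.IsMaximal],
        Module.Flat T (Localization.AtPrime m) := by
      intro m hm
      let 𝔓m : Ideal (T ⊗[A] B') := m.comap (algebraMap (T ⊗[A] B') (Localization.Away e₂))
      haveI : 𝔓m.IsPrime := Ideal.comap_isPrime _ _
      haveI : IsLocalization.AtPrime (Localization.AtPrime m) 𝔓m :=
        IsLocalization.isLocalization_isLocalization_atPrime_isLocalization (Submonoid.powers e₂)
          (Localization.AtPrime m) m
      -- the prime `P''` of `A₁ ⊗ B'`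
      let P'' : Ideal (A₁ ⊗[A] B') := 𝔓m.under (A₁ ⊗[A] B')
      haveI : P''.IsPrime := Ideal.comap_isPrime _ _
      have hmT : m.under T = IsLocalRing.maximalIdeal T := by
        haveI : (m.under T).IsMaximal :=
          show (m.comap (algebraMap T _)).IsMaximal from
            Ideal.isMaximal_comap_of_isIntegral_of_isMaximal m
        exact IsLocalRing.eq_maximalIdeal inferInstance
      have h𝔓mT : 𝔓m.under T = IsLocalRing.maximalIdeal T := by
        rw [← hmT]
        ext t
        simp only [Ideal.under_def, Ideal.mem_comap, 𝔓m]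
        rw [← IsScalarTower.algebraMap_apply]
      haveI : P''.LiesOver P := by
        constructor
        ext a
        have h1 : algebraMap A₁ (A₁ ⊗[A] B') a ∈ P'' ↔ algebraMap A₁ T a ∈ 𝔓m.under T := by
          simp only [P'', Ideal.under_def, Ideal.mem_comap]
          rw [← IsScalarTower.algebraMap_apply, ← IsScalarTower.algebraMap_apply,
            IsScalarTower.algebraMap_apply A₁ T (T ⊗[A] B')]
        rw [Ideal.under_def, Ideal.mem_comap, h1, h𝔓mT,
          IsLocalization.AtPrime.to_map_mem_maximal_iff T P]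
      have heP'' : e ∉ P'' := by
        intro hmem
        have h1 : algebraMap (T ⊗[A] B') (Localization.Away e₂) e₂ ∈ m := hmem
        have h2 : IsUnit (algebraMap (T ⊗[A] B') (Localization.Away e₂) e₂) :=
          IsLocalization.Away.algebraMap_isUnit e₂
        exact hm.ne_top (Ideal.eq_top_of_isUnit_mem m h1 h2)
      have hPP : P'' = P' := huniq P'' inferInstance inferInstance heP''
      refine flat_of_isLocalization_atPrime_tensor 𝔓m (Localization.AtPrime m) q' ?_
      intro s hs hmem
      apply hs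
      apply hq'P'
      rw [← hPP]
      show algebraMap (A₁ ⊗[A] B') (T ⊗[A] B') ((1 : A₁) ⊗ₜ[A] s) ∈ 𝔓m
      rw [hincl]
      exact hmem
    exact Module.flat_of_isLocalized_maximal (Localization.Away e₂) (Localization.Away e₂)
      (fun m _ => Localization.AtPrime m)
      (fun m _ => Algebra.linearMap (Localization.Away e₂) (Localization.AtPrime m))
      (fun m hm => key m)

end Struct

end Groth.Agent.Lib.T2H8.QFLoc
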