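import Groth.Agent.Lib.T2H8QFLocB

/-!
# The natural map `Dual A B' ⊗ N → Hom_A(B', N)` is locally bijective at flat points of `B'`

For a finitely presented `A`-module-finite algebra `B'`, a prime `q'` of `B'` with `B'_{q'}` flat
over `A`, and any `A`-module `N`:
* `exists_notMem_actT_eq_zero`: kernel elements of `dualTensorHom A B' N` are killed by some
  `s ∉ q'`;
* `exists_notMem_actH_mem_range`: every `ψ : B' →ₗ[A] N` has `ψ(s ·)` in the range of
  `dualTensorHom A B' N` for some `s ∉ q'`.
-/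

namespace Groth.Agent.Lib.T2H8.QFLoc

universe u
open TensorProduct

section BC

variable (A T B' N : Type u) [CommRing A] [CommRing T] [CommRing B'] [Algebra A B'] [Algebra A T]
  [AddCommGroup N] [Module A N]

/-- the action of `B'` on `Dual A B' ⊗ N` through the argument of the functional, as a bilinear
map. -/
noncomputable def actT : B' →ₗ[A] (Module.Dual A B' ⊗[A] N) →ₗ[A] (Module.Dual A B' ⊗[A] N) :=
  (LinearMap.rTensorHom N) ∘ₗ (Module.Dual.transpose (R := A) (M := B') (M' := B')) ∘ₗ
    LinearMap.mul A B'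

theorem actT_apply (b : B') (z : Module.Dual A B' ⊗[A] N) :
    actT A B' N b z = LinearMap.rTensor N (Module.Dual.transpose (LinearMap.mulLeft A b)) z := rfl

/-- the action of `B'` on `B' →ₗ[A] N` through the argument, as a bilinear map. -/
noncomputable def actH : B' →ₗ[A] (B' →ₗ[A] N) →ₗ[A] (B' →ₗ[A] N) :=
  (LinearMap.llcomp A B' B' N).flip ∘ₗ LinearMap.mul A B'

theorem actH_apply (b : B') (ψ : B' →ₗ[A] N) :
    actH A B' N b ψ = ψ ∘ₗ LinearMap.mulLeft A b := rfl

variable {A B' N} in
theorem baseChange_comp_mulLeft (g : B' →ₗ[A] N) (b : B') :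
    (g ∘ₗ LinearMap.mulLeft A b).baseChange T =
      g.baseChange T ∘ₗ LinearMap.mulLeft T ((1 : T) ⊗ₜ[A] b) := by
  ext b'
  simp

variable [Module.FinitePresentation A B'] [Module.Flat A T]

noncomputable def alphaH : T ⊗[A] (B' →ₗ[A] N) ≃ₗ[T] (T ⊗[A] B' →ₗ[T] T ⊗[A] N) :=
  (Module.FinitePresentation.isBaseChange_map A B' N T).equiv

theorem alphaH_tmul (t : T) (ψ : B' →ₗ[A] N) :
    alphaH A T B' N (t ⊗ₜ ψ) = t • ψ.baseChange T :=
  (Module.FinitePresentation.isBaseChange_map A B' N T).equiv_tmul t ψ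

noncomputable def alphaD : T ⊗[A] Module.Dual A B' ≃ₗ[T] Module.Dual T (T ⊗[A] B') :=
  alphaH A T B' A ≪≫ₗ LinearEquiv.congrRight (AlgebraTensorModule.rid A T T)

theorem alphaD_tmul (t : T) (f : Module.Dual A B') :
    alphaD A T B' (t ⊗ₜ f) = t • Module.Dual.baseChange T f := by
  rw [alphaD, LinearEquiv.trans_apply, alphaH_tmul, map_smul]
  rfl

noncomputable def jEquiv : T ⊗[A] (Module.Dual A B' ⊗[A] N) ≃ₗ[T]
    Module.Dual T (T ⊗[A] B') ⊗[T] (T ⊗[A] N) :=
  AlgebraTensorModule.distribBaseChange A T (Module.Dual A B') N ≪≫ₗ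
    TensorProduct.congr (alphaD A T B') (LinearEquiv.refl T (T ⊗[A] N))

theorem jEquiv_tmul (t : T) (f : Module.Dual A B') (n : N) :
    jEquiv A T B' N (t ⊗ₜ (f ⊗ₜ n)) = (t • Module.Dual.baseChange T f) ⊗ₜ ((1 : T) ⊗ₜ[A] n) := by
  rw [jEquiv, LinearEquiv.trans_apply, AlgebraTensorModule.distribBaseChange_tmul,
    TensorProduct.congr_tmul, alphaD_tmul]
  rfl

theorem alphaH_lTensor_dualTensorHom (w : T ⊗[A] (Module.Dual A B' ⊗[A] N)) :
    alphaH A T B' N (LinearMap.lTensor T (dualTensorHom A B' N) w) =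
      dualTensorHom T (T ⊗[A] B') (T ⊗[A] N) (jEquiv A T B' N w) := by
  induction w using TensorProduct.induction_on with
  | zero => simp
  | tmul t y =>
    induction y using TensorProduct.induction_on with
    | zero => simp
    | tmul f n =>
      rw [LinearMap.lTensor_tmul, alphaH_tmul, jEquiv_tmul]
      ext b
      simp
      rw [smul_comm]
    | add y₁ y₂ h₁ h₂ =>
      rw [tmul_add, map_add, map_add, map_add, map_add, h₁, h₂]
  | add w₁ w₂ h₁ h₂ => rw [map_add, map_add, map_add, map_add, h₁, h₂]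

/-- equivariance of `jEquiv`. -/
theorem jEquiv_lTensor_actT (z : Module.Dual A B' ⊗[A] N) (u : T ⊗[A] B') :
    jEquiv A T B' N (LinearMap.lTensor T ((actT A B' N).flip z) u) =
      actT T (T ⊗[A] B') (T ⊗[A] N) u (jEquiv A T B' N (1 ⊗ₜ z)) := by
  have key : (jEquiv A T B' N).toLinearMap ∘ₗ (((actT A B' N).flip z).baseChange T) =
      (actT T (T ⊗[A] B') (T ⊗[A] N)).flip (jEquiv A T B' N (1 ⊗ₜ z)) := by
    induction z using TensorProduct.induction_on with
    | zero =>
      ext b
      simp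
    | tmul f n =>
      ext b
      simp only [AlgebraTensorModule.curry_apply, LinearMap.restrictScalars_comp, curry_apply,
        LinearMap.coe_comp, LinearMap.coe_restrictScalars, LinearEquiv.coe_coe,
        Function.comp_apply, LinearMap.baseChange_tmul, LinearMap.flip_apply]
      rw [actT_apply, LinearMap.rTensor_tmul, jEquiv_tmul, jEquiv_tmul, actT_apply,
        LinearMap.rTensor_tmul, one_smul, one_smul]
      congr 1
      ext b'
      simp [Module.Dual.transpose_apply]
    | add z₁ z₂ h₁ h₂ =>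
      rw [map_add, LinearMap.baseChange_add, LinearMap.comp_add, h₁, h₂, tmul_add, map_add,
        map_add]
  exact LinearMap.congr_fun key u

/-- equivariance of `alphaH`. -/
theorem alphaH_lTensor_actH (ψ : B' →ₗ[A] N) (u : T ⊗[A] B') :
    alphaH A T B' N (LinearMap.lTensor T ((actH A B' N).flip ψ) u) =
      (ψ.baseChange T) ∘ₗ LinearMap.mulLeft T u := by
  have key : (alphaH A T B' N).toLinearMap ∘ₗ (((actH A B' N).flip ψ).baseChange T) =
      (actH T (T ⊗[A] B') (T ⊗[A] N)).flip (ψ.baseChange T) := by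
    ext b b'
    simp [actH_apply, alphaH_tmul]
  exact LinearMap.congr_fun key u

end BC

section Main

variable {A B' : Type u} [CommRing A] [CommRing B'] [Algebra A B'] [Module.FinitePresentation A B']
  (q' : Ideal B') [q'.IsPrime] [Module.Flat A (Localization.AtPrime q')]
  (N : Type u) [AddCommGroup N] [Module A N]

theorem exists_notMem_actT_eq_zero (z : Module.Dual A B' ⊗[A] N)
    (hz : dualTensorHom A B' N z = 0) : ∃ s : B', s ∉ q' ∧ actT A B' N s z = 0 := by
  haveI : Module.Finite A B' := inferInstance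
  obtain ⟨T, _, _, hTflat, hTloc, e, he, 𝔓, h𝔓, hq𝔓, he𝔓, hflat⟩ :=
    exists_flat_local_idempotent (A := A) q'
  haveI : Module.Finite T (T ⊗[A] B') := inferInstance
  have hsurj : Function.Surjective (algebraMap (T ⊗[A] B') (Localization.Away e)) :=
    IsLocalization.Away.algebraMap_surjective_of_isIdempotentElem e he
  haveI : Module.Finite T (Localization.Away e) :=
    Module.Finite.of_surjective
      (IsScalarTower.toAlgHom T (T ⊗[A] B') (Localization.Away e)).toLinearMap hsurj
  haveI : Module.Free T (Localization.Away e) := Module.free_of_flat_of_isLocalRing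
  obtain ⟨κ, _, x, g, hid⟩ := exists_dualBasis_of_free_away (T := T) e he
  -- the base-changed element
  set w := jEquiv A T B' N ((1 : T) ⊗ₜ z) with hw
  have hw0 : dualTensorHom T (T ⊗[A] B') (T ⊗[A] N) w = 0 := by
    rw [hw, ← alphaH_lTensor_dualTensorHom, LinearMap.lTensor_tmul, hz, tmul_zero, map_zero]
  have hw1 : actT T (T ⊗[A] B') (T ⊗[A] N) e w = 0 := by
    rw [actT_apply, ← dualBasisMap_dualTensorHom e x g hid, hw0, map_zero]
  have hw2 : LinearMap.lTensor T ((actT A B' N).flip z) e = 0 := by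
    apply (jEquiv A T B' N).injective
    rw [map_zero]
    have := jEquiv_lTensor_actT A T B' N z e
    rw [this]
    exact hw1
  obtain ⟨s, hs𝔓, hs⟩ := exists_notMem_of_lTensor_eq_zero ((actT A B' N).flip z) e hw2 𝔓 he𝔓
  rw [LinearMap.flip_apply] at hs
  exact ⟨s, fun h => hs𝔓 ((hq𝔓 s).mpr h), hs⟩

theorem exists_notMem_actH_mem_range (ψ : B' →ₗ[A] N) :
    ∃ s : B', s ∉ q' ∧ actH A B' N s ψ ∈ LinearMap.range (dualTensorHom A B' N) := by
  haveI : Module.Finite A B' := inferInstance
  obtain ⟨T, _, _, hTflat, hTloc, e, he, 𝔓, h𝔓, hq𝔓, he𝔓, hflat⟩ :=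
    exists_flat_local_idempotent (A := A) q'
  haveI : Module.Finite T (T ⊗[A] B') := inferInstance
  have hsurj : Function.Surjective (algebraMap (T ⊗[A] B') (Localization.Away e)) :=
    IsLocalization.Away.algebraMap_surjective_of_isIdempotentElem e he
  haveI : Module.Finite T (Localization.Away e) :=
    Module.Finite.of_surjective
      (IsScalarTower.toAlgHom T (T ⊗[A] B') (Localization.Away e)).toLinearMap hsurj
  haveI : Module.Free T (Localization.Away e) := Module.free_of_flat_of_isLocalRing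
  obtain ⟨κ, _, x, g, hid⟩ := exists_dualBasis_of_free_away (T := T) e he
  let R := LinearMap.range (dualTensorHom A B' N)
  let o : B' →ₗ[A] ((B' →ₗ[A] N) ⧸ R) := R.mkQ ∘ₗ (actH A B' N).flip ψ
  have ho : LinearMap.lTensor T o e = 0 := by
    rw [LinearMap.lTensor_comp, LinearMap.comp_apply]
    set y := LinearMap.lTensor T ((actH A B' N).flip ψ) e with hy
    have h1 : alphaH A T B' N y = (ψ.baseChange T) ∘ₗ LinearMap.mulLeft T e :=
      alphaH_lTensor_actH A T B' N ψ e
    rw [← dualTensorHom_dualBasisMap e x g hid] at h1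
    obtain ⟨w', hw'⟩ := (jEquiv A T B' N).surjective
      (dualBasisMap (M := T ⊗[A] N) e x g (ψ.baseChange T))
    rw [← hw', ← alphaH_lTensor_dualTensorHom] at h1
    have h2 := (alphaH A T B' N).injective h1
    rw [h2, ← LinearMap.comp_apply, ← LinearMap.lTensor_comp]
    have h3 : R.mkQ ∘ₗ dualTensorHom A B' N = 0 := by
      refine LinearMap.ext fun v => ?_
      show R.mkQ (dualTensorHom A B' N v) = 0
      rw [Submodule.mkQ_apply, Submodule.Quotient.mk_eq_zero]
      exact LinearMap.mem_range_self _ v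
    rw [h3, LinearMap.lTensor_zero, LinearMap.zero_apply]
  obtain ⟨s, hs𝔓, hs⟩ := exists_notMem_of_lTensor_eq_zero o e ho 𝔓 he𝔓
  refine ⟨s, fun h => hs𝔓 ((hq𝔓 s).mpr h), ?_⟩
  have : R.mkQ (actH A B' N s ψ) = 0 := hs
  rwa [Submodule.mkQ_apply, Submodule.Quotient.mk_eq_zero] at this

end Main

end Groth.Agent.Lib.T2H8.QFLoc
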