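import Groth.Agent.Lib.T2H8QFLocC
import Groth.Agent.Lib.T2H8AssOpenImmA
import Groth.Prelude.Def_QFDual
import Groth.Statements.S8944

/-!
# S8944: `ω_{B/A} = B ⊗_{B'} Hom_A(B', A)` is `A`-flat for a flat quasi-finite `A → B`
-/

namespace Groth.Agent.Lib.T2H8.QFLoc

universe u
open TensorProduct AlgebraicGeometry CategoryTheory

section OpenImm

variable {A B' B : Type u} [CommRing A] [CommRing B'] [CommRing B] [Algebra A B'] [Algebra B' B]
  [Algebra A B] [IsScalarTower A B' B]

theorem bijective_respectsIso' : RingHom.RespectsIso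
    (fun {R S : Type u} [CommRing R] [CommRing S] (φ : R →+* S) => Function.Bijective φ) := by
  constructor
  · intro R S T _ _ _ f e hf
    exact e.bijective.comp hf
  · intro R S T _ _ _ f e hf
    exact hf.comp e.bijective

theorem bijective_localRingHom_of_isOpenImmersion
    (hopen : IsOpenImmersion (Spec.map (CommRingCat.ofHom (algebraMap B' B))))
    (q : Ideal B) [q.IsPrime] :
    Function.Bijective (Localization.localRingHom (q.comap (algebraMap B' B)) q
      (algebraMap B' B) rfl) := by
  have h1 : stalkwise (fun φ => Function.Bijective φ)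
      (Spec.map (CommRingCat.ofHom (algebraMap B' B))) := by
    intro x
    exact (ConcreteCategory.isIso_iff_bijective _).mp inferInstance
  exact (stalkwise_SpecMap_iff bijective_respectsIso' _).mp h1 q inferInstance

/-- At a prime `q` of `B`, the local ring of `B'` at `q ∩ B'` is `A`-flat when `B` is. -/
theorem flat_localization_comap_of_isOpenImmersion [Module.Flat A B]
    (hopen : IsOpenImmersion (Spec.map (CommRingCat.ofHom (algebraMap B' B))))
    (q : Ideal B) [q.IsPrime] :
    Module.Flat A (Localization.AtPrime (q.comap (algebraMap B' B))) := by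
  have hbij := bijective_localRingHom_of_isOpenImmersion hopen q
  let e := RingEquiv.ofBijective _ hbij
  let eL : Localization.AtPrime (q.comap (algebraMap B' B)) ≃ₗ[A] Localization.AtPrime q :=
    { e.toAddEquiv with
      map_smul' := fun a x => by
        show e (a • x) = a • e x
        rw [Algebra.smul_def, Algebra.smul_def, map_mul]
        congr 1
        rw [IsScalarTower.algebraMap_apply A B' (Localization.AtPrime (q.comap (algebraMap B' B))),
          IsScalarTower.algebraMap_apply A B (Localization.AtPrime q),
          IsScalarTower.algebraMap_apply A B' B]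
        exact Localization.localRingHom_to_map _ _ _ rfl _ }
  exact Module.Flat.of_linearEquiv eL

end OpenImm

section LemmaV

variable {B' B K : Type u} [CommRing B'] [CommRing B] [Algebra B' B] [AddCommGroup K] [Module B' K]

/-- If every element of the `B'`-module `K` is killed, for each prime `q` of `B`, by some element
of `B'` outside `q`, then `B ⊗[B'] K = 0`. -/
theorem tensor_eq_zero_of_forall_prime
    (hK : ∀ x : K, ∀ q : Ideal B, q.IsPrime → ∃ s : B', algebraMap B' B s ∉ q ∧ s • x = 0)
    (y : B ⊗[B'] K) : y = 0 := by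
  induction y using TensorProduct.induction_on with
  | zero => rfl
  | tmul b x =>
    let L : Ideal B := LinearMap.ker ((AlgebraTensorModule.mk B' B B K).flip x)
    have hL : ∀ c : B, c ∈ L ↔ c ⊗ₜ[B'] x = 0 := fun c => Iff.rfl
    have htop : L = ⊤ := by
      by_contra hne
      obtain ⟨q, hq, hLq⟩ := Ideal.exists_le_maximal L hne
      obtain ⟨s, hsq, hsx⟩ := hK x q hq.isPrime
      apply hsq
      apply hLq
      rw [hL, Algebra.algebraMap_eq_smul_one, TensorProduct.smul_tmul, hsx, tmul_zero]
    have h1 : (1 : B) ∈ L := htop ▸ Submodule.mem_top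
    have h2 : (1 : B) ⊗ₜ[B'] x = 0 := (hL 1).mp h1
    have h3 : b ⊗ₜ[B'] x = b • ((1 : B) ⊗ₜ[B'] x) := by
      rw [TensorProduct.smul_tmul', smul_eq_mul, mul_one]
    rw [h3, h2, smul_zero]
  | add y₁ y₂ h₁ h₂ => rw [h₁, h₂, add_zero]

end LemmaV

section Omega

variable (A B' : Type u) [CommRing A] [CommRing B'] [Algebra A B']

/-- the `A`-module structure on `Disc.Omega A B'` through `B'`. -/
noncomputable scoped instance (priority := low) omegaModuleA : Module A (Disc.Omega A B') :=
  Module.compHom _ (algebraMap A B')

scoped instance omegaIsScalarTower : IsScalarTower A B' (Disc.Omega A B') :=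
  ⟨fun a b φ => by
    change (a • b) • φ = (algebraMap A B' a) • (b • φ)
    rw [Algebra.smul_def, mul_smul]⟩

theorem omega_smul_def (a : A) (φ : Disc.Omega A B') : a • φ = algebraMap A B' a • φ := rfl

/-- `Disc.Omega A B'` is `Module.Dual A B'`. -/
noncomputable def omegaEquivDual : Disc.Omega A B' ≃ₗ[A] Module.Dual A B' where
  toFun φ := φ.toLinearMap
  invFun f := ⟨f⟩
  left_inv _ := rfl
  right_inv _ := rfl
  map_add' _ _ := rfl
  map_smul' a φ := by
    ext x
    rw [omega_smul_def, Disc.Omega.smul_toLinearMap_apply, RingHom.id_apply, LinearMap.smul_apply,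
      ← Algebra.smul_def, map_smul]

variable (N : Type u) [AddCommGroup N] [Module A N]

/-- `Ω ⊗[A] N ≃ Dual A B' ⊗[A] N`. -/
noncomputable def omegaTensorEquiv : Disc.Omega A B' ⊗[A] N ≃ₗ[A] Module.Dual A B' ⊗[A] N :=
  TensorProduct.congr (omegaEquivDual A B') (LinearEquiv.refl A N)

theorem omegaTensorEquiv_smul (s : B') (x : Disc.Omega A B' ⊗[A] N) :
    omegaTensorEquiv A B' N (s • x) = actT A B' N s (omegaTensorEquiv A B' N x) := by
  induction x using TensorProduct.induction_on with
  | zero => simp
  | tmul φ n =>
    rw [TensorProduct.smul_tmul']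
    rfl
  | add x y hx hy => rw [smul_add, map_add, map_add, map_add, hx, hy]

end Omega

section Main

open AssOpenImm in
theorem main_S8944 (A B B' : Type u) [CommRing A] [CommRing B] [CommRing B'] [IsNoetherianRing A]
    [IsNoetherianRing B] [Algebra A B] [Module.Flat A B] [Algebra A B'] [Algebra B' B]
    [IsScalarTower A B' B] [Module.Finite A B']
    (hopen : IsOpenImmersion (Spec.map (CommRingCat.ofHom (algebraMap B' B)))) :
    Module.Flat A (B ⊗[B'] Disc.Omega A B') := by
  haveI : Module.FinitePresentation A B' := Module.finitePresentation_of_finite A B'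
  haveI : Module.Flat B' B := flat_of_isOpenImmersion hopen
  rw [Module.Flat.iff_lTensor_preserves_injective_linearMap]
  intro N₁ N₂ _ _ _ _ f hf
  let e₁ := AlgebraTensorModule.assoc A B' B B (Disc.Omega A B') N₁
  let e₂ := AlgebraTensorModule.assoc A B' B B (Disc.Omega A B') N₂
  let g : Disc.Omega A B' ⊗[A] N₁ →ₗ[B'] Disc.Omega A B' ⊗[A] N₂ :=
    AlgebraTensorModule.lTensor B' (Disc.Omega A B') f
  have hcomm : ∀ y, e₂ (f.lTensor (B ⊗[B'] Disc.Omega A B') y) = g.lTensor B (e₁ y) := by
    intro y
    induction y using TensorProduct.induction_on with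
    | zero => simp
    | tmul m n =>
      induction m using TensorProduct.induction_on with
      | zero => simp
      | tmul b φ => rfl
      | add m₁ m₂ h₁ h₂ =>
        rw [add_tmul, map_add, map_add, map_add, map_add, h₁, h₂]
    | add y₁ y₂ h₁ h₂ => rw [map_add, map_add, map_add, map_add, h₁, h₂]
  -- the kernel of `g` is locally zero at the points of `Spec B`
  have hK : ∀ x : LinearMap.ker g, ∀ q : Ideal B, q.IsPrime →
      ∃ s : B', algebraMap B' B s ∉ q ∧ s • x = 0 := by
    rintro ⟨x₀, hx₀⟩ q hq
    haveI := hq
    haveI : Module.Flat A (Localization.AtPrime (q.comap (algebraMap B' B))) :=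
      flat_localization_comap_of_isOpenImmersion hopen q
    set z := omegaTensorEquiv A B' N₁ x₀ with hz
    have hgx : f.lTensor (Disc.Omega A B') x₀ = 0 := hx₀
    have h1 : f.lTensor (Module.Dual A B') z = 0 := by
      have : f.lTensor (Module.Dual A B') z =
          omegaTensorEquiv A B' N₂ (f.lTensor (Disc.Omega A B') x₀) := by
        rw [hz]
        generalize x₀ = w
        induction w using TensorProduct.induction_on with
        | zero => simp
        | tmul φ n => rfl
        | add w₁ w₂ h₁ h₂ => rw [map_add, map_add, map_add, map_add, h₁, h₂]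
      rw [this, hgx, map_zero]
    have h2 : dualTensorHom A B' N₁ z = 0 := by
      have h3 := LinearMap.congr_fun (dualTensorHom_comp_lTensor (R := A) (M := B') f) z
      rw [LinearMap.comp_apply, h1, map_zero, LinearMap.comp_apply] at h3
      refine LinearMap.ext fun b => hf ?_
      rw [LinearMap.zero_apply, map_zero]
      exact (LinearMap.congr_fun h3 b).symm
    obtain ⟨s, hs, hsz⟩ := exists_notMem_actT_eq_zero (q.comap (algebraMap B' B)) N₁ z h2
    refine ⟨s, fun h => hs h, ?_⟩
    apply Subtype.ext
    apply (omegaTensorEquiv A B' N₁).injective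
    show omegaTensorEquiv A B' N₁ (s • x₀) = omegaTensorEquiv A B' N₁ 0
    rw [omegaTensorEquiv_smul, ← hz, hsz, map_zero]
  have hex : Function.Exact ((LinearMap.ker g).subtype.lTensor B) (g.lTensor B) :=
    Module.Flat.lTensor_exact B (LinearMap.exact_subtype_ker_map g)
  have hinj : Function.Injective (g.lTensor B) := by
    rw [injective_iff_map_eq_zero]
    intro y hy
    obtain ⟨w, rfl⟩ := (hex y).mp hy
    rw [tensor_eq_zero_of_forall_prime hK w, map_zero]
  intro y₁ y₂ hy
  apply e₁.injective
  apply hinj
  rw [← hcomm, ← hcomm, hy]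

end Main

end Groth.Agent.Lib.T2H8.QFLoc
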