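import Groth.Agent.Lib.T2H8QFLocD
import Groth.Statements.S8959

/-!
# S8959: base change of `ω_{B/A}` along an arbitrary `A → A₁` for flat quasi-finite `A → B`
-/

namespace Groth.Agent.Lib.T2H8.QFLoc

universe u
open TensorProduct AlgebraicGeometry CategoryTheory

section LemmaV'

variable {B' B K₁ K₂ : Type u} [CommRing B'] [CommRing B] [Algebra B' B]
  [AddCommGroup K₁] [Module B' K₁] [AddCommGroup K₂] [Module B' K₂]

theorem lTensor_injective_of_forall_prime [Module.Flat B' B] (g : K₁ →ₗ[B'] K₂)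
    (hg : ∀ x : K₁, g x = 0 → ∀ q : Ideal B, q.IsPrime →
      ∃ s : B', algebraMap B' B s ∉ q ∧ s • x = 0) :
    Function.Injective (g.lTensor B) := by
  have hex : Function.Exact ((LinearMap.ker g).subtype.lTensor B) (g.lTensor B) :=
    Module.Flat.lTensor_exact B (LinearMap.exact_subtype_ker_map g)
  have hK : ∀ x : LinearMap.ker g, ∀ q : Ideal B, q.IsPrime →
      ∃ s : B', algebraMap B' B s ∉ q ∧ s • x = 0 := by
    rintro ⟨x, hx⟩ q hq
    obtain ⟨s, hs, hsx⟩ := hg x hx q hq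
    exact ⟨s, hs, Subtype.ext hsx⟩
  rw [injective_iff_map_eq_zero]
  intro y hy
  obtain ⟨w, rfl⟩ := (hex y).mp hy
  rw [tensor_eq_zero_of_forall_prime hK w, map_zero]

theorem lTensor_surjective_of_forall_prime (g : K₁ →ₗ[B'] K₂)
    (hg : ∀ x : K₂, ∀ q : Ideal B, q.IsPrime →
      ∃ s : B', algebraMap B' B s ∉ q ∧ s • x ∈ LinearMap.range g) :
    Function.Surjective (g.lTensor B) := by
  have hex : Function.Exact (g.lTensor B) ((LinearMap.range g).mkQ.lTensor B) :=
    lTensor_exact B (LinearMap.exact_map_mkQ_range g) (Submodule.mkQ_surjective _)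
  have hK : ∀ x : K₂ ⧸ LinearMap.range g, ∀ q : Ideal B, q.IsPrime →
      ∃ s : B', algebraMap B' B s ∉ q ∧ s • x = 0 := by
    intro x q hq
    obtain ⟨x, rfl⟩ := Submodule.mkQ_surjective _ x
    obtain ⟨s, hs, hsx⟩ := hg x q hq
    refine ⟨s, hs, ?_⟩
    rw [← map_smul, Submodule.mkQ_apply, Submodule.Quotient.mk_eq_zero]
    exact hsx
  intro y
  exact (hex y).mp (tensor_eq_zero_of_forall_prime hK _)

end LemmaV'

section BC

variable {A B' A₁ B'₁ : Type u} [CommRing A] [CommRing B'] [CommRing A₁] [CommRing B'₁]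
  [Algebra A B'] [Algebra A A₁] [Algebra B' B'₁] [Algebra A₁ B'₁] [Algebra A B'₁]
  [IsScalarTower A A₁ B'₁] [IsScalarTower A B' B'₁] (h : Algebra.IsPushout A A₁ B' B'₁)

/-- `θ : B'₁ ⊗[B'] Ω(A,B') → Ω(A₁,B'₁)`, `b ⊗ φ ↦ b • φ₁`. -/
noncomputable def theta : B'₁ ⊗[B'] Disc.Omega A B' →ₗ[B'₁] Disc.Omega A₁ B'₁ :=
  (TensorProduct.lid B'₁ (Disc.Omega A₁ B'₁)).toLinearMap ∘ₗ QFDual.omegaBC (B₁ := B'₁) h

theorem theta_tmul (b : B'₁) (φ : Disc.Omega A B') :
    theta h (b ⊗ₜ φ) = b • QFDual.bcFin h φ := by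
  rw [theta, LinearMap.comp_apply, QFDual.omegaBC_tmul]
  rfl

/-- restriction `Ω(A₁,B'₁) → Hom_A(B', A₁)`. -/
noncomputable def rho (ψ : Disc.Omega A₁ B'₁) : B' →ₗ[A] A₁ :=
  (ψ.toLinearMap.restrictScalars A) ∘ₗ (IsScalarTower.toAlgHom A B' B'₁).toLinearMap

theorem rho_apply (ψ : Disc.Omega A₁ B'₁) (b : B') :
    rho (A := A) ψ b = ψ.toLinearMap (algebraMap B' B'₁ b) := rfl

include h in
theorem rho_injective : Function.Injective (rho (A := A) (B' := B') (A₁ := A₁) (B'₁ := B'₁)) := by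
  intro ψ₁ ψ₂ heq
  apply Disc.Omega.ext
  refine h.out.algHom_ext _ _ fun b => ?_
  exact LinearMap.congr_fun heq b

theorem rho_smul (s : B') (ψ : Disc.Omega A₁ B'₁) :
    rho (A := A) (algebraMap B' B'₁ s • ψ) = actH A B' A₁ s (rho ψ) := by
  ext b
  rw [actH_apply, LinearMap.comp_apply, rho_apply, rho_apply, Disc.Omega.smul_toLinearMap_apply,
    LinearMap.mulLeft_apply, (algebraMap B' B'₁).map_mul]

/-- `u : Dual A B' ⊗[A] A₁ → B'₁ ⊗[B'] Ω`. -/
noncomputable def uMap : Module.Dual A B' ⊗[A] A₁ →ₗ[A] B'₁ ⊗[B'] Disc.Omega A B' :=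
  TensorProduct.lift
    (LinearMap.mk₂ A
      (fun f a₁ => algebraMap A₁ B'₁ a₁ ⊗ₜ[B'] (omegaEquivDual A B').symm f)
      (fun f g a₁ => by rw [map_add, tmul_add])
      (fun a f a₁ => by rw [map_smul, tmul_smul])
      (fun f a₁ a₂ => by rw [map_add, add_tmul])
      (fun a f a₁ => by
        rw [Algebra.smul_def, map_mul, ← IsScalarTower.algebraMap_apply,
          TensorProduct.smul_tmul', Algebra.smul_def]))

theorem uMap_tmul (f : Module.Dual A B') (a₁ : A₁) :
    uMap (B'₁ := B'₁) (f ⊗ₜ a₁) = algebraMap A₁ B'₁ a₁ ⊗ₜ[B'] (⟨f⟩ : Disc.Omega A B') := rfl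

theorem rho_theta_uMap (z : Module.Dual A B' ⊗[A] A₁) :
    rho (A := A) (theta h (uMap z)) = dualTensorHom A B' A₁ z := by
  induction z using TensorProduct.induction_on with
  | zero => 
    rw [map_zero, map_zero, map_zero]
    rfl
  | tmul f a₁ =>
    ext b
    rw [uMap_tmul, theta_tmul, rho_apply, Disc.Omega.smul_toLinearMap_apply, dualTensorHom_apply,
      ← Algebra.smul_def, map_smul, QFDual.bcFin_apply_algebraMap, smul_eq_mul, Algebra.smul_def,
      mul_comm]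
  | add z₁ z₂ h₁ h₂ =>
    rw [map_add, map_add, map_add, ← h₁, ← h₂]
    rfl

theorem uMap_actT (s : B') (z : Module.Dual A B' ⊗[A] A₁) :
    uMap (B'₁ := B'₁) (actT A B' A₁ s z) = algebraMap B' B'₁ s • uMap z := by
  induction z using TensorProduct.induction_on with
  | zero => rw [map_zero, map_zero, smul_zero]
  | tmul f a₁ =>
    rw [actT_apply, LinearMap.rTensor_tmul, uMap_tmul, uMap_tmul, TensorProduct.smul_tmul',
      smul_eq_mul, ← Algebra.smul_def, TensorProduct.smul_tmul]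
    rfl
  | add z₁ z₂ h₁ h₂ => rw [map_add, map_add, map_add, h₁, h₂, smul_add]

theorem uMap_lTensor_mulLeft (a₁ : A₁) (z : Module.Dual A B' ⊗[A] A₁) :
    uMap (B'₁ := B'₁) (LinearMap.lTensor (Module.Dual A B') (LinearMap.mulLeft A a₁) z) =
      algebraMap A₁ B'₁ a₁ • uMap z := by
  induction z using TensorProduct.induction_on with
  | zero => rw [map_zero, map_zero, smul_zero]
  | tmul f a =>
    rw [LinearMap.lTensor_tmul, uMap_tmul, uMap_tmul, LinearMap.mulLeft_apply, map_mul,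
      TensorProduct.smul_tmul', smul_eq_mul]
  | add z₁ z₂ h₁ h₂ => rw [map_add, map_add, map_add, h₁, h₂, smul_add]

include h in
theorem uMap_surjective : Function.Surjective (uMap (A := A) (B' := B') (A₁ := A₁) (B'₁ := B'₁)) := by
  intro y
  induction y using TensorProduct.induction_on with
  | zero => exact ⟨0, map_zero _⟩
  | tmul b φ =>
    revert φ
    refine h.out.inductionOn b (fun b => ∀ φ : Disc.Omega A B', ∃ z, uMap z = b ⊗ₜ[B'] φ)
      ?_ ?_ ?_ ?_
    · intro φ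
      exact ⟨0, by rw [map_zero, zero_tmul]⟩
    · intro m φ
      refine ⟨(m • φ).toLinearMap ⊗ₜ (1 : A₁), ?_⟩
      rw [uMap_tmul, map_one]
      show (1 : B'₁) ⊗ₜ[B'] (m • φ) = algebraMap B' B'₁ m ⊗ₜ[B'] φ
      rw [← TensorProduct.smul_tmul, Algebra.smul_def, mul_one]
    · intro a₁ n hn φ
      obtain ⟨z, hz⟩ := hn φ
      refine ⟨LinearMap.lTensor (Module.Dual A B') (LinearMap.mulLeft A a₁) z, ?_⟩
      rw [uMap_lTensor_mulLeft, hz, TensorProduct.smul_tmul', smul_eq_mul, ← Algebra.smul_def]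
    · intro n₁ n₂ h₁ h₂ φ
      obtain ⟨z₁, hz₁⟩ := h₁ φ
      obtain ⟨z₂, hz₂⟩ := h₂ φ
      exact ⟨z₁ + z₂, by rw [map_add, hz₁, hz₂, add_tmul]⟩
  | add y₁ y₂ h₁ h₂ =>
    obtain ⟨z₁, hz₁⟩ := h₁
    obtain ⟨z₂, hz₂⟩ := h₂
    exact ⟨z₁ + z₂, by rw [map_add, hz₁, hz₂]⟩

variable [Module.FinitePresentation A B'] (q' : Ideal B') [q'.IsPrime]
  [Module.Flat A (Localization.AtPrime q')]

include h in
theorem exists_notMem_smul_eq_zero_of_theta_eq_zero (x : B'₁ ⊗[B'] Disc.Omega A B')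
    (hx : theta h x = 0) : ∃ s : B', s ∉ q' ∧ algebraMap B' B'₁ s • x = 0 := by
  obtain ⟨z, rfl⟩ := uMap_surjective h x
  have hz : dualTensorHom A B' A₁ z = 0 := by
    rw [← rho_theta_uMap h, hx]
    rfl
  obtain ⟨s, hs, hsz⟩ := exists_notMem_actT_eq_zero q' A₁ z hz
  exact ⟨s, hs, by rw [← uMap_actT, hsz, map_zero]⟩

include h in
theorem exists_notMem_smul_mem_range_theta (ψ : Disc.Omega A₁ B'₁) :
    ∃ s : B', s ∉ q' ∧ algebraMap B' B'₁ s • ψ ∈ LinearMap.range (theta h) := by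
  obtain ⟨s, hs, z, hz⟩ := exists_notMem_actH_mem_range q' A₁ (rho (A := A) ψ)
  refine ⟨s, hs, uMap z, ?_⟩
  apply rho_injective h
  rw [rho_theta_uMap, hz, rho_smul]

end BC

section Main

theorem main_S8959 (A B' B A₁ B'₁ B₁ : Type u) [CommRing A] [CommRing B'] [CommRing B] [CommRing A₁]
    [CommRing B'₁] [CommRing B₁] [IsNoetherianRing A] [IsNoetherianRing B] [IsNoetherianRing A₁]
    [Algebra A B'] [Algebra B' B] [Algebra A B] [IsScalarTower A B' B] [Module.Flat A B]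
    (hf : QFDual.IsQFFactor A B' B) [Algebra A A₁] [Algebra B' B'₁] [Algebra A₁ B'₁]
    [Algebra A B'₁] [IsScalarTower A A₁ B'₁] [IsScalarTower A B' B'₁]
    (h : Algebra.IsPushout A A₁ B' B'₁) [Algebra B B₁] [Algebra A₁ B₁] [Algebra A B₁]
    [IsScalarTower A A₁ B₁] [IsScalarTower A B B₁] (hB : Algebra.IsPushout A A₁ B B₁)
    [Algebra B'₁ B₁] [Algebra B' B₁] [IsScalarTower B' B'₁ B₁] [IsScalarTower B' B B₁]
    [IsScalarTower A₁ B'₁ B₁] : Function.Bijective (QFDual.omegaBC (B₁ := B₁) h) := by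
  haveI := hf.finite
  haveI : Module.FinitePresentation A B' := Module.finitePresentation_of_finite A B'
  haveI : Module.Flat B' B := AssOpenImm.flat_of_isOpenImmersion hf.isOpenImmersion
  haveI : IsScalarTower A B'₁ B₁ := IsScalarTower.of_algebraMap_eq' (by
    rw [IsScalarTower.algebraMap_eq A A₁ B₁, IsScalarTower.algebraMap_eq A₁ B'₁ B₁,
      RingHom.comp_assoc, ← IsScalarTower.algebraMap_eq A A₁ B'₁])
  haveI hsymm : Algebra.IsPushout A B' A₁ B'₁ := h.symm
  have hP : Algebra.IsPushout B' B B'₁ B₁ :=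
    (Algebra.IsPushout.comp_iff A B' A₁ (S' := B'₁) (T := B) (T' := B₁)).mp hB.symm
  have hP' : Algebra.IsPushout B' B'₁ B B₁ := hP.symm
  haveI : Module.Flat B'₁ B₁ := Module.Flat.isBaseChange (R := B') (S := B'₁) (M := B) B₁ hP'.out
  -- local data at a prime of `B₁`
  have hloc : ∀ Q : Ideal B₁, Q.IsPrime → ∃ q' : Ideal B', ∃ _ : q'.IsPrime,
      Module.Flat A (Localization.AtPrime q') ∧
      ∀ s : B', s ∉ q' → algebraMap B'₁ B₁ (algebraMap B' B'₁ s) ∉ Q := by
    intro Q hQ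
    haveI := hQ
    let q : Ideal B := Q.comap (algebraMap B B₁)
    haveI : q.IsPrime := Ideal.comap_isPrime _ _
    refine ⟨q.comap (algebraMap B' B), Ideal.comap_isPrime _ _,
      flat_localization_comap_of_isOpenImmersion hf.isOpenImmersion q, ?_⟩
    intro s hs hmem
    apply hs
    show algebraMap B B₁ (algebraMap B' B s) ∈ Q
    rw [← IsScalarTower.algebraMap_apply, IsScalarTower.algebraMap_apply B' B'₁ B₁]
    exact hmem
  have hinj : Function.Injective ((theta h).lTensor B₁) := by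
    refine lTensor_injective_of_forall_prime _ fun x hx Q hQ => ?_
    obtain ⟨q', hq', hflat, hq'Q⟩ := hloc Q hQ
    obtain ⟨s, hs, hsx⟩ := exists_notMem_smul_eq_zero_of_theta_eq_zero h q' x hx
    exact ⟨algebraMap B' B'₁ s, hq'Q s hs, hsx⟩
  have hsurj : Function.Surjective ((theta h).lTensor B₁) := by
    refine lTensor_surjective_of_forall_prime _ fun ψ Q hQ => ?_
    obtain ⟨q', hq', hflat, hq'Q⟩ := hloc Q hQ
    obtain ⟨s, hs, hsψ⟩ := exists_notMem_smul_mem_range_theta h q' ψ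
    exact ⟨algebraMap B' B'₁ s, hq'Q s hs, hsψ⟩
  let c := AlgebraTensorModule.cancelBaseChange B' B'₁ B₁ B₁ (Disc.Omega A B')
  have hcomp : ∀ y, QFDual.omegaBC (B₁ := B₁) h (c y) = (theta h).lTensor B₁ y := by
    intro y
    induction y using TensorProduct.induction_on with
    | zero => rw [map_zero, map_zero, map_zero]
    | tmul b₁ w =>
      induction w using TensorProduct.induction_on with
      | zero => rw [tmul_zero, map_zero, map_zero, map_zero]
      | tmul b φ =>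
        rw [AlgebraTensorModule.cancelBaseChange_tmul, QFDual.omegaBC_tmul,
          LinearMap.lTensor_tmul, theta_tmul, TensorProduct.smul_tmul]
      | add w₁ w₂ h₁ h₂ =>
        rw [tmul_add, map_add, map_add, map_add, h₁, h₂]
    | add y₁ y₂ h₁ h₂ => rw [map_add, map_add, map_add, h₁, h₂]
  constructor
  · intro y₁ y₂ hy
    obtain ⟨w₁, rfl⟩ := c.surjective y₁
    obtain ⟨w₂, rfl⟩ := c.surjective y₂
    rw [hcomp, hcomp] at hy
    rw [hinj hy]
  · intro y
    obtain ⟨w, hw⟩ := hsurj y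
    exact ⟨c w, by rw [hcomp, hw]⟩

end Main

end Groth.Agent.Lib.T2H8.QFLoc
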