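import Groth.Agent.Lib.T2H8QFLocE
import Groth.Agent.Lib.T2H8AssOpenImmB
import Groth.Agent.Lib.T2H4InvCrit
import Groth.Statements.S8963

/-!
# S8963: invertibility of `ω_{B/A}` is a fibrewise condition (flat quasi-finite `A → B`)
-/

namespace Groth.Agent.Lib.T2H8.QFLoc

universe u
open TensorProduct AlgebraicGeometry CategoryTheory

section LemmaL

variable {A R M : Type u} [CommRing A] [CommRing R] [Algebra A R] [IsLocalRing R]
  [IsNoetherianRing R] [AddCommGroup M] [Module R M] [Module A M] [IsScalarTower A R M]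
  [Module.Finite R M] [Module.Flat A M]

/-- A finite module `M` over a Noetherian local `A`-algebra `R`, flat over `A`, whose reduction
modulo `I R` (with `I R` in the maximal ideal) is free of rank one, is free of rank one. -/
theorem nonempty_linearEquiv_of_quotient (I : Ideal A)
    (hI : I.map (algebraMap A R) ≤ IsLocalRing.maximalIdeal R)
    (e : (R ⧸ I.map (algebraMap A R)) ⊗[R] M ≃ₗ[R] (R ⧸ I.map (algebraMap A R))) :
    Nonempty (M ≃ₗ[R] R) := by
  classical
  set J := I.map (algebraMap A R) with hJ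
  have hjac : J ≤ Ideal.jacobson ⊥ := by
    rw [IsLocalRing.jacobson_eq_maximalIdeal ⊥ bot_ne_top]
    exact hI
  obtain ⟨m₀, hm₀⟩ := TensorProduct.mk_surjective R M (R ⧸ J) Ideal.Quotient.mk_surjective
    (e.symm 1)
  have hem₀ : e ((1 : R ⧸ J) ⊗ₜ[R] m₀) = 1 := by
    have : (1 : R ⧸ J) ⊗ₜ[R] m₀ = e.symm 1 := hm₀
    rw [this, LinearEquiv.apply_symm_apply]
  have hmem : ∀ m : M, (1 : R ⧸ J) ⊗ₜ[R] m = 0 ↔ m ∈ J • (⊤ : Submodule R M) := by
    intro m
    rw [← (quotTensorEquivQuotSMul M J).map_eq_zero_iff, quotTensorEquivQuotSMul_mk_one_tmul,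
      Submodule.Quotient.mk_eq_zero]
  have hex : ∀ r : R, e ((1 : R ⧸ J) ⊗ₜ[R] (r • m₀)) = Ideal.Quotient.mk J r := by
    intro r
    rw [TensorProduct.tmul_smul, map_smul, hem₀, Algebra.smul_def, mul_one]
    rfl
  -- (F1)
  have hF1 : ∀ m : M, ∃ r : R, m - r • m₀ ∈ J • (⊤ : Submodule R M) := by
    intro m
    obtain ⟨r, hr⟩ := Ideal.Quotient.mk_surjective (e ((1 : R ⧸ J) ⊗ₜ[R] m))
    refine ⟨r, ?_⟩
    rw [← hmem, tmul_sub, ← e.map_eq_zero_iff, map_sub, hex, hr, sub_self]
  -- (F2)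
  have hF2 : ∀ x : R, x • m₀ ∈ J • (⊤ : Submodule R M) → x ∈ J := by
    intro x hx
    rw [← hmem] at hx
    have := hex x
    rw [hx, map_zero] at this
    exact Ideal.Quotient.eq_zero_iff_mem.mp this.symm
  let f : R →ₗ[R] M := LinearMap.toSpanSingleton R M m₀
  have hf : ∀ r, f r = r • m₀ := fun r => rfl
  -- surjectivity
  have hsurj : Function.Surjective f := by
    rw [← LinearMap.range_eq_top, eq_top_iff]
    refine Submodule.le_of_le_smul_of_le_jacobson_bot (I := J) Module.Finite.fg_top hjac ?_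
    intro m _
    obtain ⟨r, hr⟩ := hF1 m
    have : m = f r + (m - r • m₀) := by rw [hf]; abel
    rw [this]
    exact Submodule.add_mem_sup (LinearMap.mem_range_self f r) hr
  -- injectivity
  have hker : LinearMap.ker f = ⊥ := by
    refine Submodule.eq_bot_of_le_smul_of_le_jacobson_bot J _ (IsNoetherian.noetherian _) ?_ hjac
    intro x hx
    have hxm : x • m₀ = 0 := hx
    have hxJ : x ∈ J := hF2 x (by rw [hxm]; exact Submodule.zero_mem _)
    rw [hJ, Ideal.map, Submodule.mem_span_image_iff_exists_fun] at hxJ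
    obtain ⟨t, htI, l, hl⟩ := hxJ
    -- the relation
    have hrel : ∑ i : t, (i : A) • (l i • m₀) = 0 := by
      have : ∀ i : t, (i : A) • (l i • m₀) = (l i • algebraMap A R (i : A)) • m₀ := by
        intro i
        rw [smul_eq_mul, mul_comm, mul_smul, algebraMap_smul]
      rw [Finset.sum_congr rfl fun i _ => this i, ← Finset.sum_smul, hl, hxm]
    obtain ⟨k, c, y, hy, hc⟩ := Module.Flat.isTrivialRelation_of_sum_smul_eq_zero hrel
    choose s hs using fun j => hsurj (y j)
    let κ : t → R := fun i => l i - ∑ j, algebraMap A R (c i j) * s j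
    have hκ : ∀ i, κ i ∈ LinearMap.ker f := by
      intro i
      have hyi : l i • m₀ = ∑ j, c i j • y j := hy i
      rw [LinearMap.mem_ker, hf, sub_smul, hyi, Finset.sum_smul, sub_eq_zero]
      refine Finset.sum_congr rfl fun j _ => ?_
      rw [mul_smul, ← hf, hs j, algebraMap_smul]
    have hx' : x = ∑ i : t, algebraMap A R (i : A) • κ i := by
      have h1 : ∑ i : t, algebraMap A R (i : A) • κ i =
          ∑ i : t, l i • algebraMap A R (i : A) -
            ∑ j, algebraMap A R (∑ i : t, (i : A) * c i j) * s j := by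
        simp only [κ, smul_eq_mul, mul_sub, Finset.sum_sub_distrib, Finset.mul_sum, map_sum,
          Finset.sum_mul, map_mul]
        congr 1
        · exact Finset.sum_congr rfl fun i _ => mul_comm _ _
        · rw [Finset.sum_comm]
          refine Finset.sum_congr rfl fun j _ => Finset.sum_congr rfl fun i _ => ?_
          ring
      rw [h1, hl]
      simp only [hc, map_zero, zero_mul, Finset.sum_const_zero, sub_zero]
    rw [hx']
    refine Submodule.sum_mem _ fun i _ => ?_
    refine Submodule.smul_mem_smul ?_ (hκ i)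
    rw [hJ]
    exact Ideal.mem_map_of_mem _ (htI i.2)
  exact ⟨(LinearEquiv.ofBijective f ⟨LinearMap.ker_eq_bot.mp hker, hsurj⟩).symm⟩

end LemmaL

section FlatTensor

variable {A B M R : Type u} [CommRing A] [CommRing B] [Algebra A B] [CommRing R] [Algebra B R]
  [Algebra A R] [IsScalarTower A B R] [Module.Flat B R] [AddCommGroup M] [Module B M] [Module A M]
  [IsScalarTower A B M] [Module.Flat A M]

theorem flat_tensor_of_flat : Module.Flat A (R ⊗[B] M) := by
  rw [Module.Flat.iff_lTensor_preserves_injective_linearMap]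
  intro N₁ N₂ _ _ _ _ f hf
  let e₁ := AlgebraTensorModule.assoc A B R R M N₁
  let e₂ := AlgebraTensorModule.assoc A B R R M N₂
  let g : M ⊗[A] N₁ →ₗ[B] M ⊗[A] N₂ := AlgebraTensorModule.lTensor B M f
  have hg : Function.Injective g := Module.Flat.lTensor_preserves_injective_linearMap f hf
  have hg' : Function.Injective (g.lTensor R) :=
    Module.Flat.lTensor_preserves_injective_linearMap g hg
  have hcomm : ∀ y, e₂ (f.lTensor (R ⊗[B] M) y) = g.lTensor R (e₁ y) := by
    intro y
    induction y using TensorProduct.induction_on with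
    | zero => simp
    | tmul m n =>
      induction m using TensorProduct.induction_on with
      | zero => simp
      | tmul b φ => rfl
      | add m₁ m₂ h₁ h₂ =>
        rw [add_tmul, map_add, map_add, map_add, map_add, h₁, h₂]
    | add y₁ y₂ h₁ h₂ => rw [map_add, map_add, map_add, map_add, h₁, h₂]
  intro y₁ y₂ hy
  apply e₁.injective
  apply hg'
  rw [← hcomm, ← hcomm, hy]

end FlatTensor

section Forward

theorem invertible_fibre_of_invertible (A B' B : Type u) [CommRing A] [CommRing B'] [CommRing B]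
    [IsNoetherianRing A] [IsNoetherianRing B] [Algebra A B'] [Algebra B' B] [Algebra A B]
    [IsScalarTower A B' B] [Module.Flat A B] (hf : QFDual.IsQFFactor A B' B)
    (hinv : Module.Invertible B (QFDual.omega A B' B))
    (A₁ : Type u) [CommRing A₁] [IsNoetherianRing A₁] [Algebra A A₁]
    (B'₁ B₁ : Type u) [CommRing B'₁] [CommRing B₁] [Algebra B' B'₁]
    [Algebra A₁ B'₁] [Algebra A B'₁] [IsScalarTower A A₁ B'₁]
    [IsScalarTower A B' B'₁] [Algebra B B₁] [Algebra A₁ B₁] [Algebra A B₁]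
    [IsScalarTower A A₁ B₁] [IsScalarTower A B B₁] [Algebra B'₁ B₁] [Algebra B' B₁]
    [IsScalarTower B' B'₁ B₁] [IsScalarTower B' B B₁] [IsScalarTower A₁ B'₁ B₁]
    (h : Algebra.IsPushout A A₁ B' B'₁) (hB : Algebra.IsPushout A A₁ B B₁) :
    Module.Invertible B₁ (QFDual.omega A₁ B'₁ B₁) := by
  have hbij := main_S8959 A B' B A₁ B'₁ B₁ hf h hB
  let e₁ : QFDual.omega A B' B₁ ≃ₗ[B₁] QFDual.omega A₁ B'₁ B₁ :=
    LinearEquiv.ofBijective _ hbij
  let e₂ : B₁ ⊗[B] (B ⊗[B'] Disc.Omega A B') ≃ₗ[B₁] B₁ ⊗[B'] Disc.Omega A B' :=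
    AlgebraTensorModule.cancelBaseChange B' B B₁ B₁ (Disc.Omega A B')
  haveI : Module.Invertible B (B ⊗[B'] Disc.Omega A B') := hinv
  haveI : Module.Invertible B₁ (B₁ ⊗[B] (B ⊗[B'] Disc.Omega A B')) := inferInstance
  exact Module.Invertible.congr (e₂ ≪≫ₗ e₁)

/-- the converse direction of the base-change comparison: invertibility of `ω_{B₁/A₁}` gives
invertibility of `B₁ ⊗[B] ω_{B/A}`. -/
theorem invertible_baseChange_of_invertible_fibre (A B' B : Type u) [CommRing A] [CommRing B']
    [CommRing B]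
    [IsNoetherianRing A] [IsNoetherianRing B] [Algebra A B'] [Algebra B' B] [Algebra A B]
    [IsScalarTower A B' B] [Module.Flat A B] (hf : QFDual.IsQFFactor A B' B)
    (A₁ : Type u) [CommRing A₁] [IsNoetherianRing A₁] [Algebra A A₁]
    (B'₁ B₁ : Type u) [CommRing B'₁] [CommRing B₁] [Algebra B' B'₁]
    [Algebra A₁ B'₁] [Algebra A B'₁] [IsScalarTower A A₁ B'₁]
    [IsScalarTower A B' B'₁] [Algebra B B₁] [Algebra A₁ B₁] [Algebra A B₁]
    [IsScalarTower A A₁ B₁] [IsScalarTower A B B₁] [Algebra B'₁ B₁] [Algebra B' B₁]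
    [IsScalarTower B' B'₁ B₁] [IsScalarTower B' B B₁] [IsScalarTower A₁ B'₁ B₁]
    (h : Algebra.IsPushout A A₁ B' B'₁) (hB : Algebra.IsPushout A A₁ B B₁)
    (hinv : Module.Invertible B₁ (QFDual.omega A₁ B'₁ B₁)) :
    Module.Invertible B₁ (B₁ ⊗[B] (B ⊗[B'] Disc.Omega A B')) := by
  have hbij := main_S8959 A B' B A₁ B'₁ B₁ hf h hB
  let e₁ : QFDual.omega A B' B₁ ≃ₗ[B₁] QFDual.omega A₁ B'₁ B₁ :=
    LinearEquiv.ofBijective _ hbij
  let e₂ : B₁ ⊗[B] (B ⊗[B'] Disc.Omega A B') ≃ₗ[B₁] B₁ ⊗[B'] Disc.Omega A B' :=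
    AlgebraTensorModule.cancelBaseChange B' B B₁ B₁ (Disc.Omega A B')
  exact Module.Invertible.congr (e₂ ≪≫ₗ e₁).symm

end Forward

section Fibre

attribute [local instance] Algebra.TensorProduct.rightAlgebra

variable (A B' B : Type u) [CommRing A] [CommRing B'] [CommRing B] [IsNoetherianRing A]
  [IsNoetherianRing B] [Algebra A B'] [Algebra B' B] [Algebra A B] [IsScalarTower A B' B]
  [Module.Flat A B]

theorem invertible_tensor_fibre (hf : QFDual.IsQFFactor A B' B)
    (hfib : ∀ (p : Ideal A) [p.IsPrime] (B'₁ B₁ : Type u) [CommRing B'₁] [CommRing B₁]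
      [Algebra B' B'₁] [Algebra p.ResidueField B'₁] [Algebra A B'₁]
      [IsScalarTower A p.ResidueField B'₁] [IsScalarTower A B' B'₁] [Algebra B B₁]
      [Algebra p.ResidueField B₁] [Algebra A B₁] [IsScalarTower A p.ResidueField B₁]
      [IsScalarTower A B B₁] [Algebra B'₁ B₁] [Algebra B' B₁] [IsScalarTower B' B'₁ B₁]
      [IsScalarTower B' B B₁] [IsScalarTower p.ResidueField B'₁ B₁],
      Algebra.IsPushout A p.ResidueField B' B'₁ → Algebra.IsPushout A p.ResidueField B B₁ →
      Module.Invertible B₁ (QFDual.omega p.ResidueField B'₁ B₁))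
    (p : Ideal A) [p.IsPrime] :
    Module.Invertible (p.ResidueField ⊗[A] B)
      ((p.ResidueField ⊗[A] B) ⊗[B] (B ⊗[B'] Disc.Omega A B')) := by
  let φ : p.ResidueField ⊗[A] B' →ₐ[p.ResidueField] p.ResidueField ⊗[A] B :=
    Algebra.TensorProduct.map (AlgHom.id p.ResidueField p.ResidueField)
      (IsScalarTower.toAlgHom A B' B)
  letI : Algebra (p.ResidueField ⊗[A] B') (p.ResidueField ⊗[A] B) := φ.toRingHom.toAlgebra
  letI : Algebra B' (p.ResidueField ⊗[A] B) :=
    Algebra.compHom (p.ResidueField ⊗[A] B) (algebraMap B' B)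
  haveI : IsScalarTower B' B (p.ResidueField ⊗[A] B) := IsScalarTower.of_algebraMap_eq' rfl
  haveI : IsScalarTower B' (p.ResidueField ⊗[A] B') (p.ResidueField ⊗[A] B) :=
    IsScalarTower.of_algebraMap_eq' (by
      ext b
      show (1 : p.ResidueField) ⊗ₜ[A] (algebraMap B' B b) = φ ((1 : p.ResidueField) ⊗ₜ[A] b)
      simp [φ])
  haveI : IsScalarTower p.ResidueField (p.ResidueField ⊗[A] B') (p.ResidueField ⊗[A] B) :=
    IsScalarTower.of_algebraMap_eq' (RingHom.ext fun k => (φ.commutes k).symm)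
  have h : Algebra.IsPushout A p.ResidueField B' (p.ResidueField ⊗[A] B') := inferInstance
  have hB : Algebra.IsPushout A p.ResidueField B (p.ResidueField ⊗[A] B) := inferInstance
  have hinv := hfib p (p.ResidueField ⊗[A] B') (p.ResidueField ⊗[A] B) h hB
  exact invertible_baseChange_of_invertible_fibre A B' B hf p.ResidueField
    (p.ResidueField ⊗[A] B') (p.ResidueField ⊗[A] B) h hB hinv

end Fibre

section LocalStep

attribute [local instance] Algebra.TensorProduct.rightAlgebra

variable {A B M : Type u} [CommRing A] [CommRing B] [Algebra A B] [IsNoetherianRing B]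
  [AddCommGroup M] [Module B M] [Module A M] [IsScalarTower A B M] [Module.Finite B M]
  [Module.Flat A M]

theorem nonempty_localization_linearEquiv_of_invertible_fibre
    (q : Ideal B) [q.IsPrime] (p : Ideal A) [p.IsPrime] (hp : q.comap (algebraMap A B) = p)
    (hinv : Module.Invertible (p.ResidueField ⊗[A] B) ((p.ResidueField ⊗[A] B) ⊗[B] M)) :
    Nonempty (Localization.AtPrime q ⊗[B] M ≃ₗ[Localization.AtPrime q] Localization.AtPrime q) := by
  let R := Localization.AtPrime q
  let J : Ideal R := p.map (algebraMap A R)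
  have hJ : J ≤ IsLocalRing.maximalIdeal R := by
    rw [Ideal.map_le_iff_le_comap]
    intro a ha
    rw [Ideal.mem_comap, IsScalarTower.algebraMap_apply A B R,
      IsLocalization.AtPrime.to_map_mem_maximal_iff R q]
    rw [← hp] at ha
    exact ha
  have hJtop : J ≠ ⊤ := fun h => (IsLocalRing.maximalIdeal.isMaximal R).ne_top
    (top_le_iff.mp (h ▸ hJ))
  haveI : Nontrivial (R ⧸ J) := Ideal.Quotient.nontrivial_iff.mpr hJtop
  haveI : IsLocalRing (R ⧸ J) :=
    IsLocalRing.of_surjective' (Ideal.Quotient.mk J) Ideal.Quotient.mk_surjective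
  -- the map `κ(p) → R ⧸ J`
  have hf₁ : p ≤ RingHom.ker (Algebra.ofId A (R ⧸ J)) := by
    intro a ha
    rw [RingHom.mem_ker]
    show algebraMap A (R ⧸ J) a = 0
    rw [IsScalarTower.algebraMap_apply A R (R ⧸ J)]
    exact Ideal.Quotient.eq_zero_iff_mem.mpr (Ideal.mem_map_of_mem _ ha)
  have hf₂ : p.primeCompl ≤ (IsUnit.submonoid (R ⧸ J)).comap (Algebra.ofId A (R ⧸ J)) := by
    intro a ha
    show IsUnit (algebraMap A (R ⧸ J) a)
    rw [IsScalarTower.algebraMap_apply A R (R ⧸ J), IsScalarTower.algebraMap_apply A B R]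
    apply IsUnit.map
    apply IsLocalization.map_units R (⟨algebraMap A B a, ?_⟩ : q.primeCompl)
    intro hmem
    apply ha
    rw [← hp]
    exact hmem
  let βκ : p.ResidueField →ₐ[A] R ⧸ J :=
    Ideal.ResidueField.liftₐ p (Algebra.ofId A (R ⧸ J)) hf₁ hf₂
  let β : p.ResidueField ⊗[A] B →ₐ[A] R ⧸ J :=
    Algebra.TensorProduct.lift βκ (IsScalarTower.toAlgHom A B (R ⧸ J)) (fun _ _ => Commute.all _ _)
  letI : Algebra (p.ResidueField ⊗[A] B) (R ⧸ J) := β.toRingHom.toAlgebra
  haveI : IsScalarTower B (p.ResidueField ⊗[A] B) (R ⧸ J) :=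
    IsScalarTower.of_algebraMap_eq' (by
      ext b
      show algebraMap B (R ⧸ J) b = β ((1 : p.ResidueField) ⊗ₜ[A] b)
      simp [β])
  -- invertibility over `R ⧸ J`
  haveI := hinv
  haveI : Module.Invertible (R ⧸ J)
      ((R ⧸ J) ⊗[p.ResidueField ⊗[A] B] ((p.ResidueField ⊗[A] B) ⊗[B] M)) := inferInstance
  let c₁ : (R ⧸ J) ⊗[p.ResidueField ⊗[A] B] ((p.ResidueField ⊗[A] B) ⊗[B] M) ≃ₗ[R ⧸ J]
      (R ⧸ J) ⊗[B] M :=
    AlgebraTensorModule.cancelBaseChange B (p.ResidueField ⊗[A] B) (R ⧸ J) (R ⧸ J) M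
  haveI : Module.Invertible (R ⧸ J) ((R ⧸ J) ⊗[B] M) := Module.Invertible.congr c₁
  haveI : Module.Free (R ⧸ J) ((R ⧸ J) ⊗[B] M) := inferInstance
  obtain ⟨e₀⟩ := (Module.Invertible.free_iff_linearEquiv (R := R ⧸ J)
    (M := (R ⧸ J) ⊗[B] M)).mp inferInstance
  let c₂ : (R ⧸ J) ⊗[R] (R ⊗[B] M) ≃ₗ[R ⧸ J] (R ⧸ J) ⊗[B] M :=
    AlgebraTensorModule.cancelBaseChange B R (R ⧸ J) (R ⧸ J) M
  let e : (R ⧸ J) ⊗[R] (R ⊗[B] M) ≃ₗ[R] (R ⧸ J) := (c₂ ≪≫ₗ e₀).restrictScalars R
  haveI : Module.Flat A (R ⊗[B] M) := flat_tensor_of_flat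
  exact nonempty_linearEquiv_of_quotient p hJ e

end LocalStep

section Main

theorem main_S8963 (A B' B : Type u) [CommRing A] [CommRing B'] [CommRing B] [IsNoetherianRing A]
    [IsNoetherianRing B] [Algebra A B'] [Algebra B' B] [Algebra A B] [IsScalarTower A B' B]
    [Module.Flat A B] (hf : QFDual.IsQFFactor A B' B) :
    Module.Invertible B (QFDual.omega A B' B) ↔
      ∀ (p : Ideal A) [p.IsPrime] (B'₁ B₁ : Type u) [CommRing B'₁] [CommRing B₁]
      [Algebra B' B'₁] [Algebra p.ResidueField B'₁] [Algebra A B'₁]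
      [IsScalarTower A p.ResidueField B'₁] [IsScalarTower A B' B'₁] [Algebra B B₁]
      [Algebra p.ResidueField B₁] [Algebra A B₁] [IsScalarTower A p.ResidueField B₁]
      [IsScalarTower A B B₁] [Algebra B'₁ B₁] [Algebra B' B₁] [IsScalarTower B' B'₁ B₁]
      [IsScalarTower B' B B₁] [IsScalarTower p.ResidueField B'₁ B₁],
      Algebra.IsPushout A p.ResidueField B' B'₁ → Algebra.IsPushout A p.ResidueField B B₁ →
      Module.Invertible B₁ (QFDual.omega p.ResidueField B'₁ B₁) := by
  constructor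
  · intro hinv p hp B'₁ B₁
    intros
    exact invertible_fibre_of_invertible A B' B hf hinv p.ResidueField B'₁ B₁
      (by assumption) (by assumption)
  · intro hfib
    haveI := hf.finite
    haveI : Module.Flat A (B ⊗[B'] Disc.Omega A B') := main_S8944 A B B' hf.isOpenImmersion
    haveI : IsNoetherianRing B' := IsNoetherianRing.of_finite A B'
    haveI : Module.Finite B' (Disc.Omega A B') := AssOpenImm.finite_omega_of_noetherian A B'
    haveI : Module.Finite B (B ⊗[B'] Disc.Omega A B') := Module.Finite.base_change B' B _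
    haveI : Module.FinitePresentation B (B ⊗[B'] Disc.Omega A B') :=
      Module.finitePresentation_of_finite B _
    apply T2H4.InvCrit.invertible_of_local
    intro q hq
    exact nonempty_localization_linearEquiv_of_invertible_fibre q (q.comap (algebraMap A B)) rfl
      (invertible_tensor_fibre A B' B hf hfib _)

end Main

end Groth.Agent.Lib.T2H8.QFLoc
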