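import Mathlib
import Groth.Prelude
import Groth.Agent.Lib.T2H3P1Fibres

/-!
# R-equivalence and closed covers (helper8)
-/

set_option autoImplicit false
universe u

namespace Groth.Agent.Lib.T2H8.REqLib
open AlgebraicGeometry CategoryTheory CategoryTheory.Limits

theorem irreducibleSpace_P1K (K : Type u) [Field K] : IrreducibleSpace (REq.P1K K) := by
  have h := (Groth.Agent.Lib.T2H3.P1Fibres.geometricallyIrreducible_toBase
    (Spec (CommRingCat.of K))).geometrically_irreducibleSpace
  exact h (K := K) (𝟙 _) (𝟙 _) (REq.P1K.toSpec K) (IsPullback.of_id_fst)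

theorem range_eq_singleton {K : Type u} [Field K] {Y : Scheme.{u}}
    (z : Spec (CommRingCat.of K) ⟶ Y) (pt : Spec (CommRingCat.of K)) :
    Set.range z.base = {z.base pt} := by
  ext y
  constructor
  · rintro ⟨s, rfl⟩
    rw [Subsingleton.elim s pt]
    rfl
  · rintro rfl
    exact ⟨pt, rfl⟩

theorem main (k : Type u) [Field k] (Y : Scheme.{u})
    (g : Y ⟶ Spec (CommRingCat.of k)) (K : Type u) [Field K] [Algebra k K]
    (V W : Set Y) (hV : IsClosed V) (hW : IsClosed W) (hVW : V ∪ W = Set.univ)
    (hT : ∀ z : REq.Pts g K, ¬ (Set.range z.1.base ⊆ V ∩ W))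
    (p q : REq.Pts g K) (hp : Set.range p.1.base ⊆ V) (hq : Set.range q.1.base ⊆ W) :
    ¬ REq.REquiv g K p q := by
  intro hpq
  have pt : Spec (CommRingCat.of K) := default
  have key : ∀ A B : REq.Pts g K, REq.ElemLink g K A B →
      (Set.range A.1.base ⊆ V ↔ Set.range B.1.base ⊆ V) := by
    rintro A B ⟨U, h, a, b, -, -, -, hA, hB⟩
    haveI := irreducibleSpace_P1K K
    have hU : IsPreirreducible (U : Set (REq.P1K K)) :=
      (PreirreducibleSpace.isPreirreducible_univ).open_subset U.isOpen (Set.subset_univ _)
    haveI : PreirreducibleSpace ↥(U : Set (REq.P1K K)) := Subtype.preirreducibleSpace hU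
    have hU' : IsPreirreducible (Set.univ : Set ↥(U : Scheme.{u})) :=
      PreirreducibleSpace.isPreirreducible_univ (X := ↥(U : Set (REq.P1K K)))
    rw [isPreirreducible_iff_isClosed_union_isClosed] at hU'
    have hcov : (Set.univ : Set ↥(U : Scheme.{u})) ⊆ h.base ⁻¹' V ∪ h.base ⁻¹' W := by
      rw [← Set.preimage_union, hVW, Set.preimage_univ]
    have hA' : A.1.base pt = h.base (a.base pt) := by
      rw [← hA]; rfl
    have hB' : B.1.base pt = h.base (b.base pt) := by
      rw [← hB]; rfl
    rw [range_eq_singleton A.1 pt, range_eq_singleton B.1 pt, Set.singleton_subset_iff,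
      Set.singleton_subset_iff]
    rcases hU' _ _ (hV.preimage h.continuous) (hW.preimage h.continuous) hcov with h1 | h1
    · have ha : A.1.base pt ∈ V := by rw [hA']; exact h1 (Set.mem_univ _)
      have hb : B.1.base pt ∈ V := by rw [hB']; exact h1 (Set.mem_univ _)
      exact ⟨fun _ => hb, fun _ => ha⟩
    · have ha : A.1.base pt ∈ W := by rw [hA']; exact h1 (Set.mem_univ _)
      have hb : B.1.base pt ∈ W := by rw [hB']; exact h1 (Set.mem_univ _)
      constructor
      · intro hv
        exfalso
        apply hT A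
        rw [range_eq_singleton A.1 pt, Set.singleton_subset_iff]
        exact ⟨hv, ha⟩
      · intro hv
        exfalso
        apply hT B
        rw [range_eq_singleton B.1 pt, Set.singleton_subset_iff]
        exact ⟨hv, hb⟩
  have key2 : ∀ A B : REq.Pts g K, REq.REquiv g K A B →
      (Set.range A.1.base ⊆ V ↔ Set.range B.1.base ⊆ V) := by
    intro A B hAB
    induction hAB with
    | rel x y h => exact key x y h
    | refl x => exact Iff.rfl
    | symm x y _ ih => exact ih.symm
    | trans x y z _ _ ih1 ih2 => exact ih1.trans ih2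
  have hqV := (key2 p q hpq).mp hp
  exact hT q (Set.subset_inter hqV hq)

end Groth.Agent.Lib.T2H8.REqLib
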