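import Mathlib
import Groth.Agent.Lib.T2H8Recoll

set_option autoImplicit false
set_option linter.style.haveILetI false
set_option linter.unusedSectionVars false
universe u
open CategoryTheory CategoryTheory.Limits AlgebraicGeometry Opposite ZeroObject

namespace Groth.Agent.Lib.T2H8.Recoll

open Groth.Agent.S0651

variable {Z X U : Scheme.{u}} (i : Z ⟶ X) [IsClosedImmersion i] (j : U ⟶ X) [IsOpenImmersion j]
  [AlgebraicGeometry.Etale j] [EtShriek.JCont j]
  (hU : Set.range j.base = (Set.range i.base)ᶜ)

/-- `j^{-1}` of the counit `j_! j^{-1} F → F` is an isomorphism -/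
lemma isIso_restr_map_counit (F : EtCoh.Ab X) :
    IsIso ((EtShriek.restrAlong j).map ((EtShriek.extZeroAdj j).counit.app F)) := by
  haveI := isIso_unit_extZero j
  have t := (EtShriek.extZeroAdj j).right_triangle_components F
  haveI : IsIso ((EtShriek.extZeroAdj j).unit.app ((EtShriek.restrAlong j).obj F) ≫
      (EtShriek.restrAlong j).map ((EtShriek.extZeroAdj j).counit.app F)) := by
    rw [t]; exact IsIso.id _
  exact IsIso.of_isIso_comp_left ((EtShriek.extZeroAdj j).unit.app ((EtShriek.restrAlong j).obj F)) _

/-- `i^{-1}` of the unit `F → i_* i^{-1} F` is an isomorphism -/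
lemma isIso_pull_map_unit (F : EtCoh.Ab X) :
    IsIso ((EtCoh.pull i).map ((EtCoh.pullPushAdj i).unit.app F)) := by
  have t := (EtCoh.pullPushAdj i).left_triangle_components F
  haveI : IsIso ((EtCoh.pullPushAdj i).counit.app ((EtCoh.pull i).obj F)) := inferInstance
  haveI : IsIso ((EtCoh.pull i).map ((EtCoh.pullPushAdj i).unit.app F) ≫
      (EtCoh.pullPushAdj i).counit.app ((EtCoh.pull i).obj F)) := by
    rw [t]; exact IsIso.id _
  exact IsIso.of_isIso_comp_right _ ((EtCoh.pullPushAdj i).counit.app ((EtCoh.pull i).obj F))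

include hU in
theorem shortExact (F : EtCoh.Ab X) :
    ∃ w : (EtShriek.extZeroAdj j).counit.app F ≫ (EtCoh.pullPushAdj i).unit.app F = 0,
      (ShortComplex.mk _ _ w).ShortExact := by
  have w : (EtShriek.extZeroAdj j).counit.app F ≫ (EtCoh.pullPushAdj i).unit.app F = 0 := by
    apply ((EtShriek.extZeroAdj j).homEquiv _ _).injective
    exact (isZero_restr_push i j hU _).eq_of_tgt _ _
  refine ⟨w, ?_⟩
  haveI h1 := isIso_restr_map_counit j F
  haveI h2 := isIso_pull_map_unit i F
  have hz1 := isZero_pull_extZero i j hU ((EtShriek.restrAlong j).obj F)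
  have hz2 := isZero_restr_push i j hU ((EtCoh.pull i).obj F)
  refine ShortComplex.ShortExact.mk' ?_ ?_ ?_
  · apply exact_of_exact_map i j hU
    · refine (ShortComplex.exact_iff_mono _ (hz1.eq_of_src _ _)).2 ?_
      change Mono ((EtCoh.pull i).map ((EtCoh.pullPushAdj i).unit.app F))
      infer_instance
    · refine (ShortComplex.exact_iff_epi _ (hz2.eq_of_tgt _ _)).2 ?_
      change Epi ((EtShriek.restrAlong j).map ((EtShriek.extZeroAdj j).counit.app F))
      infer_instance
  · change Mono ((EtShriek.extZeroAdj j).counit.app F)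
    let S' : ShortComplex (EtCoh.Ab X) :=
      ShortComplex.mk (0 : (0 : EtCoh.Ab X) ⟶ _) ((EtShriek.extZeroAdj j).counit.app F) zero_comp
    have hS' : S'.Exact := by
      apply exact_of_exact_map i j hU
      · exact ShortComplex.exact_of_isZero_X₂ _ hz1
      · refine (ShortComplex.exact_iff_mono _ ?_).2 ?_
        · change (EtShriek.restrAlong j).map 0 = 0
          exact Functor.map_zero _ _ _
        · change Mono ((EtShriek.restrAlong j).map ((EtShriek.extZeroAdj j).counit.app F))
          infer_instance
    exact (S'.exact_iff_mono rfl).1 hS'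
  · change Epi ((EtCoh.pullPushAdj i).unit.app F)
    let S'' : ShortComplex (EtCoh.Ab X) :=
      ShortComplex.mk ((EtCoh.pullPushAdj i).unit.app F) (0 : _ ⟶ (0 : EtCoh.Ab X)) comp_zero
    have hS'' : S''.Exact := by
      apply exact_of_exact_map i j hU
      · refine (ShortComplex.exact_iff_epi _ ?_).2 ?_
        · change (EtCoh.pull i).map 0 = 0
          exact Functor.map_zero _ _ _
        · change Epi ((EtCoh.pull i).map ((EtCoh.pullPushAdj i).unit.app F))
          infer_instance
      · exact ShortComplex.exact_of_isZero_X₂ _ hz2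
    exact (S''.exact_iff_epi rfl).1 hS''

end Groth.Agent.Lib.T2H8.Recoll
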