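import Mathlib
import Groth.Agent.Lib.T2H8RecollExact
import Groth.Prelude.Def_W4c1etweilhu916Glue

set_option autoImplicit false
set_option linter.style.haveILetI false
set_option linter.unusedSectionVars false
universe u
open CategoryTheory CategoryTheory.Limits AlgebraicGeometry Opposite ZeroObject

namespace Groth.Agent.Lib.T2H8.Recoll

open Groth.Agent.S0651

/-- if the counit at `L F` is invertible, so is `L` of the unit at `F` -/
lemma isIso_map_unit_of_isIso_counit {C D : Type*} [Category C] [Category D] {L : C ⥤ D}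
    {R : D ⥤ C} (adj : L ⊣ R) (F : C) [IsIso (adj.counit.app (L.obj F))] :
    IsIso (L.map (adj.unit.app F)) := by
  have t := adj.left_triangle_components F
  haveI : IsIso (L.map (adj.unit.app F) ≫ adj.counit.app (L.obj F)) := by
    rw [t]; exact IsIso.id _
  exact IsIso.of_isIso_comp_right _ (adj.counit.app (L.obj F))

variable {Z X U : Scheme.{u}} (i : Z ⟶ X) [IsClosedImmersion i] (j : U ⟶ X) [IsOpenImmersion j]
  (hU : Set.range j.base = (Set.range i.base)ᶜ)

instance isIso_counit_pull_open (H : EtCoh.Ab U) : IsIso ((EtCoh.pullPushAdj j).counit.app H) :=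
  isIso_counit_pull j H

instance isIso_pull_map_unit_open (F : EtCoh.Ab X) :
    IsIso ((EtCoh.pull j).map ((EtCoh.pullPushAdj j).unit.app F)) :=
  isIso_map_unit_of_isIso_counit (EtCoh.pullPushAdj j) F

instance isIso_pull_map_unit_closed (F : EtCoh.Ab X) :
    IsIso ((EtCoh.pull i).map ((EtCoh.pullPushAdj i).unit.app F)) :=
  isIso_pull_map_unit i F

include hU in
lemma isZero_pull_push (G : EtCoh.Ab Z) :
    IsZero ((EtCoh.pull j).obj ((EtCoh.push i).obj G)) :=
  (isZero_restr_push i j hU G).of_iso ((Groth.Agent.Lib.Helper9.EtPull.rho j).app _)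

include hU in
lemma isZero_of_isZero_pull (A : EtCoh.Ab X) (h1 : IsZero ((EtCoh.pull i).obj A))
    (h2 : IsZero ((EtCoh.pull j).obj A)) : IsZero A :=
  isZero_of_isZero_pull_restr i j hU A h1
    (h2.of_iso ((Groth.Agent.Lib.Helper9.EtPull.rho j).app A).symm)

include hU in
lemma exact_of_exact_map' (S : ShortComplex (EtCoh.Ab X)) (h1 : (S.map (EtCoh.pull i)).Exact)
    (h2 : (S.map (EtCoh.pull j)).Exact) : S.Exact := by
  rw [ShortComplex.exact_iff_isZero_homology] at h1 h2 ⊢
  apply isZero_of_isZero_pull i j hU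
  · exact h1.of_iso (S.mapHomologyIso (EtCoh.pull i)).symm
  · exact h2.of_iso (S.mapHomologyIso (EtCoh.pull j)).symm

include hU in
lemma mono_of_mono_map {A B : EtCoh.Ab X} (g : A ⟶ B) (h1 : Mono ((EtCoh.pull i).map g))
    (h2 : Mono ((EtCoh.pull j).map g)) : Mono g := by
  let S' : ShortComplex (EtCoh.Ab X) := ShortComplex.mk (0 : (0 : EtCoh.Ab X) ⟶ A) g zero_comp
  have hS' : S'.Exact := by
    apply exact_of_exact_map' i j hU
    · refine (ShortComplex.exact_iff_mono _ ?_).2 h1
      change (EtCoh.pull i).map 0 = 0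
      exact Functor.map_zero _ _ _
    · refine (ShortComplex.exact_iff_mono _ ?_).2 h2
      change (EtCoh.pull j).map 0 = 0
      exact Functor.map_zero _ _ _
  exact (S'.exact_iff_mono rfl).1 hS'

include hU in
lemma epi_of_epi_map {A B : EtCoh.Ab X} (g : A ⟶ B) (h1 : Epi ((EtCoh.pull i).map g))
    (h2 : Epi ((EtCoh.pull j).map g)) : Epi g := by
  let S' : ShortComplex (EtCoh.Ab X) := ShortComplex.mk g (0 : B ⟶ (0 : EtCoh.Ab X)) comp_zero
  have hS' : S'.Exact := by
    apply exact_of_exact_map' i j hU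
    · refine (ShortComplex.exact_iff_epi _ ?_).2 h1
      change (EtCoh.pull i).map 0 = 0
      exact Functor.map_zero _ _ _
    · refine (ShortComplex.exact_iff_epi _ ?_).2 h2
      change (EtCoh.pull j).map 0 = 0
      exact Functor.map_zero _ _ _
  exact (S'.exact_iff_epi rfl).1 hS'

include hU in
lemma isIso_of_isIso_map {A B : EtCoh.Ab X} (g : A ⟶ B) (h1 : IsIso ((EtCoh.pull i).map g))
    (h2 : IsIso ((EtCoh.pull j).map g)) : IsIso g := by
  haveI := mono_of_mono_map i j hU g inferInstance inferInstance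
  haveI := epi_of_epi_map i j hU g inferInstance inferInstance
  exact isIso_of_mono_of_epi g

/-- a map between zero objects is an isomorphism -/
lemma isIso_of_isZero {C : Type*} [Category C] [HasZeroMorphisms C] {A B : C} (f : A ⟶ B)
    (hA : IsZero A) (hB : IsZero B) : IsIso f :=
  ⟨⟨0, hA.eq_of_src _ _, hB.eq_of_src _ _⟩⟩

lemma isIso_map_kernel_ι {C D : Type*} [Category C] [Category D] [Abelian C] [Abelian D]
    (G : C ⥤ D) [G.Additive] [PreservesFiniteLimits G] {A B : C} (g : A ⟶ B) (h : G.map g = 0) :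
    IsIso (G.map (kernel.ι g)) := by
  have e : G.map (kernel.ι g) = (PreservesKernel.iso G g).hom ≫ kernel.ι (G.map g) := by
    rw [← PreservesKernel.iso_inv_ι, Iso.hom_inv_id_assoc]
  haveI := kernel.ι_of_zero h
  rw [e]
  infer_instance

include hU in
lemma eq_zero_of_map_eq_zero {A B : EtCoh.Ab X} (g : A ⟶ B) (h1 : (EtCoh.pull i).map g = 0)
    (h2 : (EtCoh.pull j).map g = 0) : g = 0 := by
  haveI : IsIso (kernel.ι g) := isIso_of_isIso_map i j hU _
    (isIso_map_kernel_ι (EtCoh.pull i) g h1) (isIso_map_kernel_ι (EtCoh.pull j) g h2)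
  rw [← cancel_epi (kernel.ι g), kernel.condition, comp_zero]

include hU in
lemma faithful_recollTriple : (EtCore.recollTriple i j).Faithful where
  map_injective {F F'} φ ψ h := by
    have h1 : (EtCoh.pull i).map φ = (EtCoh.pull i).map ψ := congrArg CommaMorphism.left h
    have h2 : (EtCoh.pull j).map φ = (EtCoh.pull j).map ψ := congrArg CommaMorphism.right h
    rw [← sub_eq_zero]
    apply eq_zero_of_map_eq_zero i j hU
    · rw [Functor.map_sub, h1, sub_self]
    · rw [Functor.map_sub, h2, sub_self]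

section Glue

/-- the comparison map `F' → i_* i^* F' ×_{i_* i^* j_* j^* F'} j_* j^* F'` -/
noncomputable def glueA (F' : EtCoh.Ab X) :
    (EtCoh.push i).obj ((EtCoh.pull i).obj F') ⟶
      (EtCoh.push i).obj ((EtCoh.pull i).obj ((EtCoh.push j).obj ((EtCoh.pull j).obj F'))) :=
  (EtCoh.push i).map ((EtCoh.pull i).map ((EtCoh.pullPushAdj j).unit.app F'))

noncomputable def glueB (F' : EtCoh.Ab X) :
    (EtCoh.push j).obj ((EtCoh.pull j).obj F') ⟶
      (EtCoh.push i).obj ((EtCoh.pull i).obj ((EtCoh.push j).obj ((EtCoh.pull j).obj F'))) :=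
  (EtCoh.pullPushAdj i).unit.app ((EtCoh.push j).obj ((EtCoh.pull j).obj F'))

lemma glue_sq (F' : EtCoh.Ab X) :
    (EtCoh.pullPushAdj i).unit.app F' ≫ glueA i j F' =
      (EtCoh.pullPushAdj j).unit.app F' ≫ glueB i j F' :=
  ((EtCoh.pullPushAdj i).unit.naturality ((EtCoh.pullPushAdj j).unit.app F')).symm

noncomputable def glueC (F' : EtCoh.Ab X) : F' ⟶ pullback (glueA i j F') (glueB i j F') :=
  pullback.lift _ _ (glue_sq i j F')

include hU in
lemma isIso_glueC (F' : EtCoh.Ab X) : IsIso (glueC i j F') := by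
  have hp := IsPullback.of_hasPullback (glueA i j F') (glueB i j F')
  apply isIso_of_isIso_map i j hU
  · have hpi := hp.map (EtCoh.pull i)
    haveI : IsIso ((EtCoh.pull i).map (glueB i j F')) := isIso_pull_map_unit_closed i _
    haveI : IsIso ((EtCoh.pull i).map (pullback.fst (glueA i j F') (glueB i j F'))) :=
      hpi.isIso_fst_of_isIso
    haveI : IsIso ((EtCoh.pull i).map (glueC i j F') ≫
        (EtCoh.pull i).map (pullback.fst (glueA i j F') (glueB i j F'))) := by
      rw [← Functor.map_comp]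
      unfold glueC
      rw [pullback.lift_fst]
      infer_instance
    exact IsIso.of_isIso_comp_right _
      ((EtCoh.pull i).map (pullback.fst (glueA i j F') (glueB i j F')))
  · have hpj := hp.map (EtCoh.pull j)
    haveI : IsIso ((EtCoh.pull j).map (glueA i j F')) :=
      isIso_of_isZero _ (isZero_pull_push i j hU _) (isZero_pull_push i j hU _)
    haveI : IsIso ((EtCoh.pull j).map (pullback.snd (glueA i j F') (glueB i j F'))) :=
      hpj.isIso_snd_of_isIso
    haveI : IsIso ((EtCoh.pull j).map (glueC i j F') ≫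
        (EtCoh.pull j).map (pullback.snd (glueA i j F') (glueB i j F'))) := by
      rw [← Functor.map_comp]
      unfold glueC
      rw [pullback.lift_snd]
      infer_instance
    exact IsIso.of_isIso_comp_right _
      ((EtCoh.pull j).map (pullback.snd (glueA i j F') (glueB i j F')))

include hU in
lemma exists_map {F F' : EtCoh.Ab X} (ml : (EtCoh.pull i).obj F ⟶ (EtCoh.pull i).obj F')
    (mr : (EtCoh.pull j).obj F ⟶ (EtCoh.pull j).obj F')
    (hw : ml ≫ (EtCoh.pull i).map ((EtCoh.pullPushAdj j).unit.app F') =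
        (EtCoh.pull i).map ((EtCoh.pullPushAdj j).unit.app F) ≫
          (EtCoh.pull i).map ((EtCoh.push j).map mr)) :
    ∃ φ : F ⟶ F', (EtCoh.pull i).map φ = ml ∧ (EtCoh.pull j).map φ = mr := by
  haveI := isIso_glueC i j hU F'
  let l1 : F ⟶ (EtCoh.push i).obj ((EtCoh.pull i).obj F') :=
    (EtCoh.pullPushAdj i).unit.app F ≫ (EtCoh.push i).map ml
  let l2 : F ⟶ (EtCoh.push j).obj ((EtCoh.pull j).obj F') :=
    (EtCoh.pullPushAdj j).unit.app F ≫ (EtCoh.push j).map mr
  have compat : l1 ≫ glueA i j F' = l2 ≫ glueB i j F' := by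
    change ((EtCoh.pullPushAdj i).unit.app F ≫ (EtCoh.push i).map ml) ≫
      (EtCoh.push i).map ((EtCoh.pull i).map ((EtCoh.pullPushAdj j).unit.app F')) =
      ((EtCoh.pullPushAdj j).unit.app F ≫ (EtCoh.push j).map mr) ≫
        (EtCoh.pullPushAdj i).unit.app ((EtCoh.push j).obj ((EtCoh.pull j).obj F'))
    rw [Category.assoc, ← Functor.map_comp, hw, ← Functor.map_comp]
    exact ((EtCoh.pullPushAdj i).unit.naturality
      ((EtCoh.pullPushAdj j).unit.app F ≫ (EtCoh.push j).map mr)).symm
  let φ : F ⟶ F' := pullback.lift l1 l2 compat ≫ inv (glueC i j F')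
  have h1 : φ ≫ (EtCoh.pullPushAdj i).unit.app F' = l1 := by
    have e : inv (glueC i j F') ≫ (EtCoh.pullPushAdj i).unit.app F' =
        pullback.fst (glueA i j F') (glueB i j F') := by
      rw [IsIso.inv_comp_eq]
      exact (pullback.lift_fst _ _ _).symm
    rw [Category.assoc, e, pullback.lift_fst]
  have h2 : φ ≫ (EtCoh.pullPushAdj j).unit.app F' = l2 := by
    have e : inv (glueC i j F') ≫ (EtCoh.pullPushAdj j).unit.app F' =
        pullback.snd (glueA i j F') (glueB i j F') := by
      rw [IsIso.inv_comp_eq]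
      exact (pullback.lift_snd _ _ _).symm
    rw [Category.assoc, e, pullback.lift_snd]
  refine ⟨φ, ?_, ?_⟩
  · apply ((EtCoh.pullPushAdj i).homEquiv _ _).injective
    rw [Adjunction.homEquiv_unit, Adjunction.homEquiv_unit]
    exact ((EtCoh.pullPushAdj i).unit.naturality φ).symm.trans h1
  · apply ((EtCoh.pullPushAdj j).homEquiv _ _).injective
    rw [Adjunction.homEquiv_unit, Adjunction.homEquiv_unit]
    exact ((EtCoh.pullPushAdj j).unit.naturality φ).symm.trans h2

include hU in
lemma full_recollTriple : (EtCore.recollTriple i j).Full where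
  map_surjective {F F'} m := by
    obtain ⟨φ, h1, h2⟩ := exists_map i j hU (F := F) (F' := F') m.left m.right m.w
    exact ⟨φ, CommaMorphism.ext h1 h2⟩

include hU in
lemma exists_obj (G : EtCoh.Ab Z) (H : EtCoh.Ab U)
    (ψ : G ⟶ (EtCoh.pull i).obj ((EtCoh.push j).obj H)) :
    ∃ (F : EtCoh.Ab X) (l : (EtCoh.pull i).obj F ≅ G) (r : (EtCoh.pull j).obj F ≅ H),
      (EtCoh.pull i).map ((EtCoh.pullPushAdj j).unit.app F) ≫
        (EtCoh.pull i).map ((EtCoh.push j).map r.hom) = l.hom ≫ ψ := by
  let a : (EtCoh.push i).obj G ⟶ (EtCoh.push i).obj ((EtCoh.pull i).obj ((EtCoh.push j).obj H)) :=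
    (EtCoh.push i).map ψ
  let b : (EtCoh.push j).obj H ⟶ (EtCoh.push i).obj ((EtCoh.pull i).obj ((EtCoh.push j).obj H)) :=
    (EtCoh.pullPushAdj i).unit.app ((EtCoh.push j).obj H)
  have hp := IsPullback.of_hasPullback a b
  have hpi := hp.map (EtCoh.pull i)
  have hpj := hp.map (EtCoh.pull j)
  haveI : IsIso ((EtCoh.pull i).map b) := isIso_pull_map_unit_closed i _
  haveI h1 : IsIso ((EtCoh.pull i).map (pullback.fst a b)) := hpi.isIso_fst_of_isIso
  haveI : IsIso ((EtCoh.pull j).map a) :=
    isIso_of_isZero _ (isZero_pull_push i j hU _) (isZero_pull_push i j hU _)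
  haveI h2 : IsIso ((EtCoh.pull j).map (pullback.snd a b)) := hpj.isIso_snd_of_isIso
  haveI : IsIso ((EtCoh.pullPushAdj i).counit.app G) := inferInstance
  refine ⟨pullback a b,
    asIso ((EtCoh.pull i).map (pullback.fst a b)) ≪≫ asIso ((EtCoh.pullPushAdj i).counit.app G),
    asIso ((EtCoh.pull j).map (pullback.snd a b)) ≪≫ asIso ((EtCoh.pullPushAdj j).counit.app H), ?_⟩
  have lhs : (EtCoh.pullPushAdj j).unit.app (pullback a b) ≫
      (EtCoh.push j).map ((EtCoh.pull j).map (pullback.snd a b) ≫
        (EtCoh.pullPushAdj j).counit.app H) = pullback.snd a b := by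
    rw [Functor.map_comp, ← Category.assoc]
    have nat := (EtCoh.pullPushAdj j).unit.naturality (pullback.snd a b)
    have nat' : (EtCoh.pullPushAdj j).unit.app (pullback a b) ≫
        (EtCoh.push j).map ((EtCoh.pull j).map (pullback.snd a b)) =
        pullback.snd a b ≫ (EtCoh.pullPushAdj j).unit.app ((EtCoh.push j).obj H) := nat.symm
    rw [nat', Category.assoc, (EtCoh.pullPushAdj j).right_triangle_components H]
    exact Category.comp_id _
  have rhs : ((EtCoh.pull i).map (pullback.fst a b) ≫ (EtCoh.pullPushAdj i).counit.app G) ≫ ψ =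
      (EtCoh.pull i).map (pullback.snd a b) := by
    have nat : (EtCoh.pull i).map ((EtCoh.push i).map ψ) ≫
        (EtCoh.pullPushAdj i).counit.app ((EtCoh.pull i).obj ((EtCoh.push j).obj H)) =
        (EtCoh.pullPushAdj i).counit.app G ≫ ψ := (EtCoh.pullPushAdj i).counit.naturality ψ
    rw [Category.assoc, ← nat, ← Category.assoc, ← Functor.map_comp]
    have c : pullback.fst a b ≫ (EtCoh.push i).map ψ = pullback.snd a b ≫ b := pullback.condition
    rw [c, Functor.map_comp, Category.assoc]
    have t := (EtCoh.pullPushAdj i).left_triangle_components ((EtCoh.push j).obj H)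
    change (EtCoh.pull i).map (pullback.snd a b) ≫
      (EtCoh.pull i).map ((EtCoh.pullPushAdj i).unit.app ((EtCoh.push j).obj H)) ≫
        (EtCoh.pullPushAdj i).counit.app ((EtCoh.pull i).obj ((EtCoh.push j).obj H)) = _
    rw [t]
    exact Category.comp_id _
  change (EtCoh.pull i).map ((EtCoh.pullPushAdj j).unit.app (pullback a b)) ≫
      (EtCoh.pull i).map ((EtCoh.push j).map ((EtCoh.pull j).map (pullback.snd a b) ≫
        (EtCoh.pullPushAdj j).counit.app H)) =
    ((EtCoh.pull i).map (pullback.fst a b) ≫ (EtCoh.pullPushAdj i).counit.app G) ≫ ψ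
  rw [← Functor.map_comp, lhs, rhs]

include hU in
lemma essSurj_recollTriple : (EtCore.recollTriple i j).EssSurj where
  mem_essImage T := by
    obtain ⟨F, l, r, h⟩ := exists_obj i j hU T.left T.right T.hom
    exact ⟨F, ⟨Comma.isoMk l r h.symm⟩⟩

include hU in
theorem isEquivalence_recollTriple : (EtCore.recollTriple i j).IsEquivalence :=
  { faithful := faithful_recollTriple i j hU
    full := full_recollTriple i j hU
    essSurj := essSurj_recollTriple i j hU }

end Glue

end Groth.Agent.Lib.T2H8.Recoll
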