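import Mathlib
import Groth.Agent.Lib.T2H8RecollEquiv
import Groth.Agent.Lib.Helper17ExactAdj
import Groth.Agent.Lib.Helper17SerreLoc3
import Groth.Prelude.Def_DCoh2

set_option autoImplicit false
set_option linter.style.haveILetI false
set_option linter.unusedSectionVars false
universe w w' v v' u u'
open CategoryTheory CategoryTheory.Limits AlgebraicGeometry Opposite ZeroObject

namespace Groth.Agent.Lib.T2H8.RecollDer

open Groth.Agent.Lib.Helper17.SerreLoc Groth.Agent.Lib.Helper17.ExactAdj

section General

variable {A : Type u} [Category.{v} A] [Abelian A] [HasDerivedCategory.{w} A]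
  {B : Type u'} [Category.{v'} B] [Abelian B] [HasDerivedCategory.{w'} B]
  (F : A ⥤ B) (G : B ⥤ A) (adj : F ⊣ G) [F.Additive] [G.Additive]
  [PreservesFiniteLimits F] [PreservesFiniteColimits F]
  [PreservesFiniteLimits G] [PreservesFiniteColimits G]

lemma isIso_adjHC_counit_app [∀ Y, IsIso (adj.counit.app Y)] (K : CochainComplex B ℤ) :
    IsIso ((adjHC adj (ComplexShape.up ℤ)).counit.app K) := by
  haveI : ∀ i, IsIso (((adjHC adj (ComplexShape.up ℤ)).counit.app K).f i) := fun i => by
    change IsIso (adj.counit.app (K.X i))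
    infer_instance
  exact HomologicalComplex.Hom.isIso_of_components _

lemma isIso_counit_app_Q [∀ Y, IsIso (adj.counit.app Y)] (K : CochainComplex B ℤ) :
    IsIso ((mapDerivedCategoryAdjunction F G adj).counit.app (DerivedCategory.Q.obj K)) := by
  haveI := isIso_adjHC_counit_app F G adj K
  unfold mapDerivedCategoryAdjunction
  rw [Adjunction.localization_counit_app]
  infer_instance

lemma isIso_counit_app [∀ Y, IsIso (adj.counit.app Y)] (X : DerivedCategory B) :
    IsIso ((mapDerivedCategoryAdjunction F G adj).counit.app X) := by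
  let e := DerivedCategory.Q.objObjPreimageIso X
  haveI := isIso_counit_app_Q F G adj (DerivedCategory.Q.objPreimage X)
  have nat := (mapDerivedCategoryAdjunction F G adj).counit.naturality e.hom
  have h : (mapDerivedCategoryAdjunction F G adj).counit.app X =
      (G.mapDerivedCategory ⋙ F.mapDerivedCategory).map e.inv ≫
        (mapDerivedCategoryAdjunction F G adj).counit.app
          (DerivedCategory.Q.obj (DerivedCategory.Q.objPreimage X)) ≫ e.hom := by
    have nat' : (G.mapDerivedCategory ⋙ F.mapDerivedCategory).map e.hom ≫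
        (mapDerivedCategoryAdjunction F G adj).counit.app X =
        (mapDerivedCategoryAdjunction F G adj).counit.app
          (DerivedCategory.Q.obj (DerivedCategory.Q.objPreimage X)) ≫ e.hom := nat
    rw [← nat', ← Category.assoc, ← Functor.map_comp, e.inv_hom_id, CategoryTheory.Functor.map_id,
      Category.id_comp]
  rw [h]
  infer_instance

/-- the derived functor of an exact fully faithful right adjoint with exact left adjoint is fully
faithful -/
noncomputable def fullyFaithfulDerived [∀ Y, IsIso (adj.counit.app Y)] :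
    G.mapDerivedCategory.FullyFaithful := by
  haveI : ∀ X, IsIso ((mapDerivedCategoryAdjunction F G adj).counit.app X) :=
    fun X => isIso_counit_app F G adj X
  haveI : IsIso (mapDerivedCategoryAdjunction F G adj).counit := NatIso.isIso_of_isIso_app _
  exact (mapDerivedCategoryAdjunction F G adj).fullyFaithfulROfIsIsoCounit

/-- cohomology commutes with the derived functor of an exact functor (object level) -/
noncomputable def homologyMapIso (X : DerivedCategory A) (n : ℤ) :
    (DerivedCategory.homologyFunctor B n).obj (F.mapDerivedCategory.obj X) ≅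
      F.obj ((DerivedCategory.homologyFunctor A n).obj X) :=
  (DerivedCategory.homologyFunctor B n).mapIso
      (F.mapDerivedCategory.mapIso (DerivedCategory.Q.objObjPreimageIso X).symm) ≪≫
    homologyMapDerivedCategoryIso F _ n ≪≫
    F.mapIso ((DerivedCategory.homologyFunctor A n).mapIso (DerivedCategory.Q.objObjPreimageIso X))

end General

section Main

attribute [local instance] HasDerivedCategory.standard

open Groth.Agent.Lib.T2H8.Recoll CategoryTheory.Pretriangulated

variable {Z X U : Scheme.{u}} (i : Z ⟶ X) [IsClosedImmersion i] (j : U ⟶ X) [IsOpenImmersion j]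
  (hU : Set.range j.base = (Set.range i.base)ᶜ) [PreservesFiniteColimits (EtCoh.push i)]

include hU in
lemma isZero_pull_homology_push (L : DerivedCategory (EtCoh.Ab Z)) (n : ℤ) :
    IsZero ((EtCoh.pull j).obj ((DerivedCategory.homologyFunctor (EtCoh.Ab X) n).obj
      ((EtCoh.push i).mapDerivedCategory.obj L))) :=
  (isZero_pull_push i j hU _).of_iso ((EtCoh.pull j).mapIso (homologyMapIso (EtCoh.push i) L n))

include hU in
lemma isZero_pullD_pushD (L : DerivedCategory (EtCoh.Ab Z)) :
    IsZero ((EtCoh.pull j).mapDerivedCategory.obj ((EtCoh.push i).mapDerivedCategory.obj L)) := by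
  rw [isZero_iff_homology]
  intro n
  exact (isZero_pull_homology_push i j hU L n).of_iso (homologyMapIso (EtCoh.pull j) _ n)

lemma isZero_pullD_of_isZero_pull_homology (K : DerivedCategory (EtCoh.Ab X))
    (hK : ∀ n : ℤ, IsZero ((EtCoh.pull j).obj ((DerivedCategory.homologyFunctor (EtCoh.Ab X) n).obj K))) :
    IsZero ((EtCoh.pull j).mapDerivedCategory.obj K) := by
  rw [isZero_iff_homology]
  intro n
  exact (hK n).of_iso (homologyMapIso (EtCoh.pull j) K n)

include hU in
/-- `(Li^*, Lj^*)` detects zero objects of `D(X_et)` -/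
lemma isZero_of_isZero_pullD (C : DerivedCategory (EtCoh.Ab X))
    (h1 : IsZero ((EtCoh.pull i).mapDerivedCategory.obj C))
    (h2 : IsZero ((EtCoh.pull j).mapDerivedCategory.obj C)) : IsZero C := by
  rw [isZero_iff_homology]
  intro n
  apply isZero_of_isZero_pull i j hU
  · exact ((DerivedCategory.homologyFunctor _ n).map_isZero h1).of_iso
      (homologyMapIso (EtCoh.pull i) C n).symm
  · exact ((DerivedCategory.homologyFunctor _ n).map_isZero h2).of_iso
      (homologyMapIso (EtCoh.pull j) C n).symm

include hU in
theorem main :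
    ((EtCoh.push i).mapDerivedCategory.Full ∧ (EtCoh.push i).mapDerivedCategory.Faithful) ∧
      ∀ K : DerivedCategory (EtCoh.Ab X),
        (EtCoh.push i).mapDerivedCategory.essImage K ↔
          ∀ n : ℤ, IsZero ((EtCoh.pull j).obj
            ((DerivedCategory.homologyFunctor (EtCoh.Ab X) n).obj K)) := by
  haveI hc : ∀ Y, IsIso ((EtCoh.pullPushAdj i).counit.app Y) := fun Y => inferInstance
  let ff := fullyFaithfulDerived (EtCoh.pull i) (EtCoh.push i) (EtCoh.pullPushAdj i)
  refine ⟨⟨ff.full, ff.faithful⟩, fun K => ⟨?_, ?_⟩⟩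
  · rintro ⟨L, ⟨e⟩⟩ n
    exact (isZero_pull_homology_push i j hU L n).of_iso
      ((EtCoh.pull j).mapIso ((DerivedCategory.homologyFunctor _ n).mapIso e.symm))
  · intro hK
    let adjD := mapDerivedCategoryAdjunction (EtCoh.pull i) (EtCoh.push i) (EtCoh.pullPushAdj i)
    let u := adjD.unit.app K
    haveI : IsIso (adjD.counit.app ((EtCoh.pull i).mapDerivedCategory.obj K)) :=
      isIso_counit_app _ _ _ _
    haveI hiu : IsIso ((EtCoh.pull i).mapDerivedCategory.map u) :=
      isIso_map_unit_of_isIso_counit adjD K
    haveI hju : IsIso ((EtCoh.pull j).mapDerivedCategory.map u) :=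
      isIso_of_isZero _ (isZero_pullD_of_isZero_pull_homology j K hK) (isZero_pullD_pushD i j hU _)
    obtain ⟨C, g, h, hT⟩ := distinguished_cocone_triangle u
    have hTi := (EtCoh.pull i).mapDerivedCategory.map_distinguished _ hT
    have hTj := (EtCoh.pull j).mapDerivedCategory.map_distinguished _ hT
    have hCi : IsZero ((EtCoh.pull i).mapDerivedCategory.obj C) :=
      (Triangle.isZero₃_iff_isIso₁ _ hTi).2 hiu
    have hCj : IsZero ((EtCoh.pull j).mapDerivedCategory.obj C) :=
      (Triangle.isZero₃_iff_isIso₁ _ hTj).2 hju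
    have hC : IsZero C := isZero_of_isZero_pullD i j hU C hCi hCj
    haveI : IsIso u := (Triangle.isZero₃_iff_isIso₁ _ hT).1 hC
    exact ⟨(EtCoh.pull i).mapDerivedCategory.obj K, ⟨(asIso u).symm⟩⟩

end Main

end Groth.Agent.Lib.T2H8.RecollDer
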