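import Mathlib
import Groth.Agent.Lib.T2H8RecollEquiv

set_option autoImplicit false
set_option linter.style.haveILetI false
set_option linter.unusedSectionVars false
universe u
open CategoryTheory CategoryTheory.Limits AlgebraicGeometry Opposite ZeroObject

namespace Groth.Agent.Lib.T2H8.Recoll

variable {Z X U : Scheme.{u}} (i : Z ⟶ X) [IsClosedImmersion i] (j : U ⟶ X) [IsOpenImmersion j]
  (hU : Set.range j.base = (Set.range i.base)ᶜ)

/-- `j^{-1}` kills the sections with support in `Z` -/
lemma isZero_pull_kernel_unit (I : EtCoh.Ab X) :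
    IsZero ((EtCoh.pull j).obj (kernel ((EtCoh.pullPushAdj j).unit.app I))) := by
  have h : IsZero (kernel ((EtCoh.pull j).map ((EtCoh.pullPushAdj j).unit.app I))) :=
    isZero_kernel_of_mono _
  exact h.of_iso (PreservesKernel.iso (EtCoh.pull j) _)

include hU in
/-- a sheaf killed by `j^{-1}` is `i_* i^{-1}` of itself -/
lemma isIso_unit_of_isZero_pull (K : EtCoh.Ab X) (hK : IsZero ((EtCoh.pull j).obj K)) :
    IsIso ((EtCoh.pullPushAdj i).unit.app K) := by
  apply isIso_of_isIso_map i j hU
  · exact isIso_pull_map_unit_closed i K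
  · exact isIso_of_isZero _ hK (isZero_pull_push i j hU _)

include hU in
theorem injective_pull_kernel (I : EtCoh.Ab X) [Injective I] :
    Injective ((EtCoh.pull i).obj (kernel ((EtCoh.pullPushAdj j).unit.app I))) := by
  set K := kernel ((EtCoh.pullPushAdj j).unit.app I) with hKdef
  haveI hη : IsIso ((EtCoh.pullPushAdj i).unit.app K) :=
    isIso_unit_of_isZero_pull i j hU K (isZero_pull_kernel_unit j I)
  constructor
  intro A B f g hg
  haveI : Mono ((EtCoh.push i).map g) := by
    haveI : (EtCoh.push i).PreservesMonomorphisms :=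
      Functor.preservesMonomorphisms_of_adjunction (EtCoh.pullPushAdj i)
    infer_instance
  let f' : (EtCoh.push i).obj A ⟶ I :=
    (EtCoh.push i).map f ≫ inv ((EtCoh.pullPushAdj i).unit.app K) ≫
      kernel.ι ((EtCoh.pullPushAdj j).unit.app I)
  let h' : (EtCoh.push i).obj B ⟶ I := Injective.factorThru f' ((EtCoh.push i).map g)
  have hh' : (EtCoh.push i).map g ≫ h' = f' := Injective.comp_factorThru f' _
  have hz : h' ≫ (EtCoh.pullPushAdj j).unit.app I = 0 := by
    apply ((EtCoh.pullPushAdj j).homEquiv _ _).symm.injective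
    exact (isZero_pull_push i j hU B).eq_of_src _ _
  let h'' : (EtCoh.push i).obj B ⟶ K := kernel.lift _ h' hz
  have e1 : (EtCoh.push i).map g ≫ h'' =
      (EtCoh.push i).map f ≫ inv ((EtCoh.pullPushAdj i).unit.app K) := by
    rw [← cancel_mono (kernel.ι ((EtCoh.pullPushAdj j).unit.app I))]
    rw [Category.assoc, kernel.lift_ι, hh', Category.assoc]
  refine ⟨(EtCoh.push i).preimage (h'' ≫ (EtCoh.pullPushAdj i).unit.app K), ?_⟩
  apply (EtCoh.push i).map_injective
  rw [Functor.map_comp, Functor.map_preimage, ← Category.assoc, e1, Category.assoc,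
    IsIso.inv_hom_id, Category.comp_id]

end Groth.Agent.Lib.T2H8.Recoll
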