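import Mathlib

/-!
# Realizing a finite residue field extension flat-locally (S14678)
-/

set_option autoImplicit false
set_option linter.unusedSectionVars false
set_option linter.style.haveILetI false
universe u
open CategoryTheory CategoryTheory.Limits AlgebraicGeometry

namespace Groth.Agent.Lib.T2H8.ResidueExt

section Alg

variable {A K L : Type u} [CommRing A] [Field K] [Field L] [Algebra K L]

/-- fractions of elements of the image -/
def IsFrac {B : Type u} [CommRing B] (φ : B →+* L) (y : L) : Prop :=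
  ∃ r d : B, φ d ≠ 0 ∧ φ d * y = φ r

lemma isFrac_add {B : Type u} [CommRing B] (φ : B →+* L) {y z : L} (hy : IsFrac φ y)
    (hz : IsFrac φ z) : IsFrac φ (y + z) := by
  obtain ⟨r, d, hd, h⟩ := hy
  obtain ⟨r', d', hd', h'⟩ := hz
  refine ⟨r * d' + r' * d, d * d', ?_, ?_⟩
  · rw [map_mul]; exact mul_ne_zero hd hd'
  · rw [map_mul, map_add, map_mul, map_mul, ← h, ← h']; ring

lemma isFrac_mul {B : Type u} [CommRing B] (φ : B →+* L) {y z : L} (hy : IsFrac φ y)
    (hz : IsFrac φ z) : IsFrac φ (y * z) := by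
  obtain ⟨r, d, hd, h⟩ := hy
  obtain ⟨r', d', hd', h'⟩ := hz
  refine ⟨r * r', d * d', ?_, ?_⟩
  · rw [map_mul]; exact mul_ne_zero hd hd'
  · rw [map_mul, map_mul, ← h, ← h']; ring

lemma isFrac_zero {B : Type u} [CommRing B] (φ : B →+* L) : IsFrac φ 0 :=
  ⟨0, 1, by rw [map_one]; exact one_ne_zero, by simp⟩

lemma isFrac_image {B : Type u} [CommRing B] (φ : B →+* L) (b : B) : IsFrac φ (φ b) :=
  ⟨b, 1, by rw [map_one]; exact one_ne_zero, by simp⟩

/-- the main algebraic statement -/
theorem surjectiveOnStalks_eval (ψ0 : A →+* K) (hψ0 : ψ0.SurjectiveOnStalks) {n : ℕ}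
    (α : Fin n → L) (hα : Submodule.span K (Set.range α) = ⊤) :
    (MvPolynomial.eval₂Hom ((algebraMap K L).comp ψ0) α).SurjectiveOnStalks := by
  set φ := MvPolynomial.eval₂Hom ((algebraMap K L).comp ψ0) α with hφ
  have hscal : ∀ c : K, IsFrac φ (algebraMap K L c) := by
    intro c
    obtain ⟨x, r, e, he, hr, h⟩ :=
      (RingHom.surjective_localRingHom_iff (f := ψ0) (⊥ : Ideal K)).1 (hψ0 ⊥ inferInstance) c
    have he' : e ≠ 0 := fun h0 => he (by rw [h0]; exact Ideal.zero_mem _)
    have hr' : ψ0 r ≠ 0 := fun h0 => hr (by rw [h0]; exact Ideal.zero_mem _)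
    have h1 : ψ0 r * c = ψ0 x := by
      have : e * (ψ0 r * c) = e * ψ0 x := by rw [← mul_assoc]; exact h
      exact mul_left_cancel₀ he' this
    refine ⟨MvPolynomial.C x, MvPolynomial.C r, ?_, ?_⟩
    · rw [hφ, MvPolynomial.coe_eval₂Hom, MvPolynomial.eval₂_C]
      simpa using hr'
    · rw [hφ, MvPolynomial.coe_eval₂Hom, MvPolynomial.eval₂_C, MvPolynomial.eval₂_C]
      simp only [RingHom.comp_apply]
      rw [← map_mul, h1]
  have hall : ∀ y : L, IsFrac φ y := by
    intro y
    have hy : y ∈ Submodule.span K (Set.range α) := by rw [hα]; trivial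
    induction hy using Submodule.span_induction with
    | mem x hx =>
      obtain ⟨i, rfl⟩ := hx
      have : φ (MvPolynomial.X i) = α i := by
        rw [hφ, MvPolynomial.coe_eval₂Hom, MvPolynomial.eval₂_X]
      rw [← this]
      exact isFrac_image φ _
    | zero => exact isFrac_zero φ
    | add x y _ _ hx hy => exact isFrac_add φ hx hy
    | smul c x _ hx =>
      rw [Algebra.smul_def]
      exact isFrac_mul φ (hscal c) hx
  apply RingHom.surjectiveOnStalks_of_exists_div
  intro y
  obtain ⟨r, d, hd, h⟩ := hall y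
  exact ⟨r, d, isUnit_iff_ne_zero.2 hd, h⟩

end Alg

section Sch

theorem main_S14678 (S : Scheme.{u}) (s : ↥S)
    (ℓ : Type u) [Field ℓ] [Algebra (S.residueField s) ℓ] [Module.Finite (S.residueField s) ℓ] :
    ∃ (U' : Scheme.{u}) (b : U' ⟶ S) (t : Spec (CommRingCat.of ℓ) ⟶ U'),
      IsAffine U' ∧ Flat b ∧ LocallyOfFinitePresentation b ∧ IsPreimmersion t ∧
        t ≫ b = Spec.map (CommRingCat.ofHom (algebraMap (S.residueField s) ℓ)) ≫
          S.fromSpecResidueField s := by
  obtain ⟨_, ⟨U, hU, rfl⟩, hsU, -⟩ :=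
    S.isBasis_affineOpens.exists_subset_of_mem_open (Set.mem_univ s) isOpen_univ
  have hU' : IsAffineOpen U := hU
  let ψ0 : Γ(S, U) ⟶ S.residueField s := S.evaluation U s hsU
  have hψ0 : Spec.map ψ0 ≫ hU'.fromSpec = S.fromSpecResidueField s := by
    rw [Scheme.fromSpecResidueField, ← hU'.fromSpecStalk_eq_fromSpecStalk hsU,
      IsAffineOpen.fromSpecStalk, ← Category.assoc, ← Spec.map_comp]
    rfl
  haveI : IsPreimmersion (Spec.map ψ0 ≫ hU'.fromSpec) := by rw [hψ0]; infer_instance
  haveI : IsPreimmersion (Spec.map ψ0) := IsPreimmersion.of_comp (Spec.map ψ0) hU'.fromSpec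
  have hsos : ψ0.hom.SurjectiveOnStalks := ((IsPreimmersion.SpecMap_iff ψ0).1 inferInstance).2
  obtain ⟨n, α, hα⟩ := Module.Finite.exists_fin (R := S.residueField s) (M := ℓ)
  let φ : MvPolynomial (Fin n) Γ(S, U) →+* ℓ :=
    MvPolynomial.eval₂Hom ((algebraMap (S.residueField s) ℓ).comp ψ0.hom) α
  let cB : Γ(S, U) ⟶ CommRingCat.of (MvPolynomial (Fin n) Γ(S, U)) :=
    CommRingCat.ofHom (algebraMap Γ(S, U) (MvPolynomial (Fin n) Γ(S, U)))
  refine ⟨Spec (CommRingCat.of (MvPolynomial (Fin n) Γ(S, U))), Spec.map cB ≫ hU'.fromSpec,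
    Spec.map (CommRingCat.ofHom φ), inferInstance, ?_, ?_, ?_, ?_⟩
  · haveI : Flat (Spec.map cB) := by
      rw [HasRingHomProperty.Spec_iff (P := @Flat)]
      exact RingHom.flat_algebraMap_iff.2 inferInstance
    infer_instance
  · haveI : LocallyOfFinitePresentation (Spec.map cB) := by
      rw [HasRingHomProperty.Spec_iff (P := @LocallyOfFinitePresentation)]
      exact RingHom.finitePresentation_algebraMap.2 inferInstance
    infer_instance
  · apply IsPreimmersion.mk_SpecMap
    · exact Topology.IsEmbedding.of_subsingleton _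
    · exact surjectiveOnStalks_eval ψ0.hom hsos α hα
  · rw [← hψ0, ← Category.assoc, ← Category.assoc, ← Spec.map_comp, ← Spec.map_comp]
    congr 2
    ext a
    simp [φ, cB]

end Sch

end Groth.Agent.Lib.T2H8.ResidueExt
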