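import Mathlib
import Groth.Agent.S0651
import Groth.Agent.Lib.Helper16SmallEtale

set_option autoImplicit false
set_option linter.style.haveILetI false
set_option linter.unusedSectionVars false
universe u
open CategoryTheory CategoryTheory.Limits AlgebraicGeometry Opposite

namespace Groth.Agent.Lib.T2H8.RestrFaithful

open Groth.Agent.S0651

variable {X Y : Scheme.{u}} (u : X ⟶ Y) [AlgebraicGeometry.Etale u] [Surjective u]
  [EtShriek.JCont u]

/-- the projection `V ×_Y X → V` is an étale covering when `u : X → Y` is étale surjective -/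
lemma counit_covering (V : Y.Etale) :
    Sieve.generate (Presieve.singleton ((compBcAdj u).counit.app V)) ∈ Y.smallEtaleTopology V := by
  rw [Groth.Agent.Lib.Helper16.SmallEtale.mem_smallEtale_iff]
  intro x
  have hs : Function.Surjective (pullback.fst V.hom u).base :=
    (inferInstance : Surjective (pullback.fst V.hom u)).surj
  obtain ⟨w, hw⟩ := hs x
  refine ⟨_, (compBcAdj u).counit.app V, w, Sieve.le_generate _ _ _ (Presieve.singleton_self _), ?_⟩
  exact hw

instance faithful_restrAlong : (EtShriek.restrAlong u).Faithful where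
  map_injective {F T} φ ψ h := by
    apply Sheaf.hom_ext
    ext V : 2
    obtain ⟨V⟩ := V
    have hT : Presieve.IsSheaf Y.smallEtaleTopology (T.obj ⋙ forget AddCommGrpCat.{u + 1}) :=
      (isSheaf_iff_isSheaf_of_type _ _).1
        ((Presheaf.isSheaf_iff_isSheaf_forget Y.smallEtaleTopology T.obj (forget _)).1 T.property)
    apply ConcreteCategory.hom_ext
    intro s
    apply (hT _ (counit_covering u V)).isSeparatedFor.ext
    intro W g hg
    obtain ⟨W', a, b, hb, rfl⟩ := hg
    obtain ⟨⟩ := hb
    have h1 : ∀ (χ : F ⟶ T) (t : F.obj.obj (op V)),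
        T.obj.map ((compBcAdj u).counit.app V).op (χ.hom.app (op V) t) =
          ((EtShriek.restrAlong u).map χ).hom.app (op ((EtCoh.bc u).obj V))
            (F.obj.map ((compBcAdj u).counit.app V).op t) := by
      intro χ t
      exact (ConcreteCategory.congr_hom (χ.hom.naturality ((compBcAdj u).counit.app V).op) t).symm
    change T.obj.map (a ≫ (compBcAdj u).counit.app V).op (φ.hom.app (op V) s) =
      T.obj.map (a ≫ (compBcAdj u).counit.app V).op (ψ.hom.app (op V) s)
    rw [op_comp, Functor.map_comp]
    change T.obj.map a.op (T.obj.map ((compBcAdj u).counit.app V).op (φ.hom.app (op V) s)) =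
      T.obj.map a.op (T.obj.map ((compBcAdj u).counit.app V).op (ψ.hom.app (op V) s))
    rw [h1 φ s, h1 ψ s, h]

theorem epi_counit (F : EtCoh.Ab Y) : Epi ((EtShriek.extZeroAdj u).counit.app F) :=
  inferInstance

end Groth.Agent.Lib.T2H8.RestrFaithful
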