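import Mathlib
import Groth.Prelude.Def_W4bk4boschfrg79
import Groth.Agent.Lib.T2H8RPowFT
import Groth.Agent.S11529

/-!
# T2H8RigFin: admissible local domains of dimension one are finite over the base valuation ring
-/

set_option autoImplicit false
set_option linter.unusedSectionVars false
universe u

namespace Groth.Agent.Lib.T2H8.RigFin

open MvPolynomial RPowBase

theorem isPrecomplete_span_of_dvd {R : Type*} [CommRing R] (t c : R) (M : Type*) [AddCommGroup M]
    [Module R M] [IsPrecomplete (Ideal.span {t}) M] (hct : c ∣ t) (i : ℕ) (hi : t ∣ c ^ i) :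
    IsPrecomplete (Ideal.span {c}) M :=
  Helper18ComplProd.isPrecomplete_of_pow_le (Ideal.span {t}) (Ideal.span {c}) M
    ((Ideal.span_singleton_le_span_singleton).mpr hct) i (by
      rw [Ideal.span_singleton_pow, Ideal.span_singleton_le_span_singleton]; exact hi)

theorem isHausdorff_span_of_dvd {R : Type*} [CommRing R] (t c : R) (M : Type*) [AddCommGroup M]
    [Module R M] [IsHausdorff (Ideal.span {t}) M] (i : ℕ) (hi : t ∣ c ^ i) :
    IsHausdorff (Ideal.span {c}) M := by
  refine ⟨fun x hx => ?_⟩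
  apply IsHausdorff.haus' (I := Ideal.span {t}) x
  intro l
  have h1 := hx (i * l)
  rw [SModEq.zero] at h1 ⊢
  have hle : (Ideal.span {c}) ^ (i * l) ≤ (Ideal.span {t}) ^ l := by
    rw [pow_mul]
    apply Ideal.pow_right_mono
    rw [Ideal.span_singleton_pow, Ideal.span_singleton_le_span_singleton]
    exact hi
  exact Submodule.smul_mono_left hle h1

section main

variable (R : Type u) [CommRing R] [IsDomain R] [ValuationRing R] [Ring.KrullDimLE 1 R]

theorem exists_smul_of_mem_map (B : Type u) [CommRing B] [Algebra R B] (x : B)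
    (hx : x ∈ Ideal.span ((algebraMap R B) '' (IsLocalRing.maximalIdeal R : Set R))) :
    ∃ c : R, ¬ IsUnit c ∧ ∃ b : B, x = c • b := by
  induction hx using Submodule.span_induction with
  | mem x hx =>
    obtain ⟨m, hm, rfl⟩ := hx
    exact ⟨m, (IsLocalRing.mem_maximalIdeal m).mp hm, 1, by rw [Algebra.smul_def, mul_one]⟩
  | zero => exact ⟨0, not_isUnit_zero, 0, by simp⟩
  | add x y _ _ hx hy =>
    obtain ⟨c₁, hc₁, b₁, rfl⟩ := hx
    obtain ⟨c₂, hc₂, b₂, rfl⟩ := hy
    rcases ValuationRing.dvd_total c₁ c₂ with ⟨e, rfl⟩ | ⟨e, rfl⟩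
    · exact ⟨c₁, hc₁, b₁ + e • b₂, by rw [smul_add, smul_smul]⟩
    · exact ⟨c₂, hc₂, e • b₁ + b₂, by rw [smul_add, smul_smul]⟩
  | smul a x _ hx =>
    obtain ⟨c, hc, b, rfl⟩ := hx
    exact ⟨c, hc, a • b, by rw [smul_comm]⟩

theorem finite_of_local_dim_one (t : R) (ht : t ≠ 0) [hc : IsAdicComplete (Ideal.span {t}) R]
    (B : Type u) [CommRing B] [Algebra R B] [IsDomain B] [IsLocalRing B]
    (hB : AdicRing.Admissible R (Ideal.span {t}) B) (hdim : ringKrullDim B = 1) :
    Module.Finite R B := by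
  classical
  have hR : AdicRing.IsBase R (Ideal.span {t}) :=
    ⟨hc, Or.inr ⟨inferInstance, inferInstance, inferInstance, t, ht, rfl⟩⟩
  have htu : ¬ IsUnit t := RPowFP.not_isUnit_of_complete t hc
  obtain ⟨⟨n, φ, hφ, -⟩, htor⟩ := hB
  have hA : AdicRing.TopFiniteType R (Ideal.span {t}) B := ⟨n, φ, hφ⟩
  have hcB : IsAdicComplete (Ideal.span {t}) B := Groth.Agent.S11529.result R _ hR B hA B
  -- `t` is nonzero in `B`
  have htB : algebraMap R B t ≠ 0 := by
    intro h0
    have h1 : t ^ 1 • (1 : B) = 0 := by rw [pow_one, Algebra.smul_def, mul_one, h0]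
    exact one_ne_zero (RPowUse.smul_pow_eq_zero_of_noPowTorsion t B htor 1 1 h1)
  -- the special fibre
  obtain ⟨𝔫, h𝔫⟩ : ∃ 𝔫 : Ideal B, 𝔫 = (IsLocalRing.maximalIdeal R).map (algebraMap R B) := ⟨_, rfl⟩
  -- density
  have hdens : ∀ x : B, ∃ p : MvPolynomial (Fin n) R, ∃ y : B, x = φ (ofA t n p) + t • y := by
    intro x
    obtain ⟨z, rfl⟩ := hφ x
    obtain ⟨p, y, hpy⟩ := exists_of_add_smul t n 1 z
    rw [pow_one] at hpy
    exact ⟨p, φ y, by rw [hpy, map_add, map_smul]⟩
  have htmem : ∀ y : B, Ideal.Quotient.mk ((IsLocalRing.maximalIdeal R).map (algebraMap R B))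
      (t • y) = 0 := by
    intro y
    rw [Ideal.Quotient.eq_zero_iff_mem, Algebra.smul_def]
    exact Ideal.mul_mem_right _ _
      (Ideal.mem_map_of_mem _ ((IsLocalRing.mem_maximalIdeal t).mpr htu))
  -- finite type over the residue field
  let θ : MvPolynomial (Fin n) (R ⧸ IsLocalRing.maximalIdeal R) →ₐ[R ⧸ IsLocalRing.maximalIdeal R]
      (B ⧸ (IsLocalRing.maximalIdeal R).map (algebraMap R B)) :=
    MvPolynomial.aeval (fun i => Ideal.Quotient.mk _ (φ (ofA t n (X i))))
  have hθ : ∀ p : MvPolynomial (Fin n) R,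
      Ideal.Quotient.mk ((IsLocalRing.maximalIdeal R).map (algebraMap R B)) (φ (ofA t n p)) =
        θ (MvPolynomial.map (Ideal.Quotient.mk (IsLocalRing.maximalIdeal R)) p) := by
    have h1 : (Ideal.Quotient.mk ((IsLocalRing.maximalIdeal R).map (algebraMap R B))).comp
        ((φ.comp (ofA t n)).toRingHom) =
        θ.toRingHom.comp (MvPolynomial.map (Ideal.Quotient.mk (IsLocalRing.maximalIdeal R))) := by
      apply MvPolynomial.ringHom_ext
      · intro r
        show Ideal.Quotient.mk _ (φ (ofA t n (C r))) = θ (MvPolynomial.map _ (C r))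
        rw [MvPolynomial.map_C, MvPolynomial.aeval_C]
        have h2 : φ (ofA t n (C r)) = algebraMap R B r := by
          rw [show (C r : MvPolynomial (Fin n) R) = algebraMap R _ r from rfl,
            (ofA t n).commutes, φ.commutes]
        rw [h2]
        rfl
      · intro i
        show Ideal.Quotient.mk _ (φ (ofA t n (X i))) = θ (MvPolynomial.map _ (X i))
        rw [MvPolynomial.map_X, MvPolynomial.aeval_X]
    intro p
    exact congrArg (fun F : MvPolynomial (Fin n) R →+* _ => F p) h1
  have hθsurj : Function.Surjective θ := by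
    intro xbar
    obtain ⟨x, rfl⟩ := Ideal.Quotient.mk_surjective xbar
    obtain ⟨p, y, hpy⟩ := hdens x
    refine ⟨MvPolynomial.map (Ideal.Quotient.mk (IsLocalRing.maximalIdeal R)) p, ?_⟩
    rw [← hθ, hpy, map_add, htmem, add_zero]
  haveI : Algebra.FiniteType (R ⧸ IsLocalRing.maximalIdeal R)
      (B ⧸ (IsLocalRing.maximalIdeal R).map (algebraMap R B)) :=
    Algebra.FiniteType.of_surjective θ hθsurj
  -- Krull dimension zero
  haveI : Ring.KrullDimLE 1 B := Ring.krullDimLE_iff.mpr (by rw [hdim]; exact le_rfl)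
  haveI : Ring.KrullDimLE 0 (B ⧸ (IsLocalRing.maximalIdeal R).map (algebraMap R B)) := by
    rw [Ring.krullDimLE_zero_iff]
    intro q hq
    have hqc : (q.comap (Ideal.Quotient.mk
        ((IsLocalRing.maximalIdeal R).map (algebraMap R B)))).IsPrime := Ideal.comap_isPrime _ q
    have hne : q.comap (Ideal.Quotient.mk
        ((IsLocalRing.maximalIdeal R).map (algebraMap R B))) ≠ ⊥ := by
      intro h0
      apply htB
      have h1 : algebraMap R B t ∈ q.comap (Ideal.Quotient.mk
          ((IsLocalRing.maximalIdeal R).map (algebraMap R B))) := by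
        rw [Ideal.mem_comap]
        have h2 := htmem 1
        rw [Algebra.smul_def, mul_one] at h2
        rw [h2]
        exact q.zero_mem
      rw [h0] at h1
      exact (Ideal.mem_bot).mp h1
    have hmax := hqc.isMaximal_of_ne_bot hne
    have h3 := Ideal.map_eq_top_or_isMaximal_of_surjective
      (Ideal.Quotient.mk ((IsLocalRing.maximalIdeal R).map (algebraMap R B)))
      Ideal.Quotient.mk_surjective hmax
    rw [Ideal.map_comap_of_surjective _ Ideal.Quotient.mk_surjective] at h3
    rcases h3 with h3 | h3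
    · exact absurd h3 hq.ne_top
    · exact h3
  haveI : IsArtinianRing (R ⧸ IsLocalRing.maximalIdeal R) := by
    letI : Field (R ⧸ IsLocalRing.maximalIdeal R) := Ideal.Quotient.field _
    infer_instance
  haveI : Module.Finite (R ⧸ IsLocalRing.maximalIdeal R)
      (B ⧸ (IsLocalRing.maximalIdeal R).map (algebraMap R B)) :=
    (Module.finite_iff_krullDimLE_zero _ _).mpr inferInstance
  obtain ⟨s, bbar, hbbar⟩ := Module.Finite.exists_fin (R := R ⧸ IsLocalRing.maximalIdeal R)
    (M := B ⧸ (IsLocalRing.maximalIdeal R).map (algebraMap R B))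
  choose b hb using fun j => Ideal.Quotient.mk_surjective (bbar j)
  -- approximation modulo the special fibre
  have happ : ∀ x : B, ∃ r : Fin s → R, x - ∑ j, r j • b j ∈
      Ideal.span ((algebraMap R B) '' (IsLocalRing.maximalIdeal R : Set R)) := by
    intro x
    have h1 : Ideal.Quotient.mk ((IsLocalRing.maximalIdeal R).map (algebraMap R B)) x ∈
        Submodule.span (R ⧸ IsLocalRing.maximalIdeal R) (Set.range bbar) := by
      rw [hbbar]
      exact Submodule.mem_top
    obtain ⟨κ, hκ⟩ := (Submodule.mem_span_range_iff_exists_fun _).mp h1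
    choose r hr using fun j => Ideal.Quotient.mk_surjective (κ j)
    refine ⟨r, ?_⟩
    show x - ∑ j, r j • b j ∈ (IsLocalRing.maximalIdeal R).map (algebraMap R B)
    rw [← Ideal.Quotient.eq_zero_iff_mem, map_sub, map_sum, ← hκ, sub_eq_zero]
    apply Finset.sum_congr rfl
    intro j _
    rw [← hr j, ← hb j, Algebra.smul_def, Algebra.smul_def, map_mul]
    rfl
  -- the finitely many relations
  have hrel1 : ∃ c : R, ¬ IsUnit c ∧ ∃ (r : Fin s → R) (b' : B), (1 : B) = ∑ j, r j • b j + c • b' := by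
    obtain ⟨r, hr⟩ := happ 1
    obtain ⟨c, hc, b', hb'⟩ := exists_smul_of_mem_map R B _ hr
    exact ⟨c, hc, r, b', by rw [← hb']; ring⟩
  have hrel2 : ∀ ij : Fin n × Fin s, ∃ c : R, ¬ IsUnit c ∧ ∃ (r : Fin s → R) (b' : B),
      φ (ofA t n (X ij.1)) * b ij.2 = ∑ j, r j • b j + c • b' := by
    intro ij
    obtain ⟨r, hr⟩ := happ (φ (ofA t n (X ij.1)) * b ij.2)
    obtain ⟨c, hc, b', hb'⟩ := exists_smul_of_mem_map R B _ hr
    exact ⟨c, hc, r, b', by rw [← hb']; ring⟩
  obtain ⟨c₁, hc₁, r₁, b₁, hone⟩ := hrel1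
  choose c₂ hc₂ r₂ b₂ hmul using hrel2
  obtain ⟨c, hc0, hcu, hct, hcs⟩ := exists_nonunit_dvd t ht htu
    (insert c₁ (Finset.univ.image c₂)) (by
      intro a ha
      rcases Finset.mem_insert.mp ha with rfl | ha
      · exact hc₁
      · obtain ⟨ij, -, rfl⟩ := Finset.mem_image.mp ha
        exact hc₂ ij)
  obtain ⟨e₁, he₁⟩ := hcs c₁ (Finset.mem_insert_self _ _)
  have he₂ : ∀ ij, c ∣ c₂ ij := fun ij =>
    hcs _ (Finset.mem_insert_of_mem (Finset.mem_image_of_mem _ (Finset.mem_univ ij)))
  choose e₂ he₂' using he₂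
  obtain ⟨e, he⟩ := hct
  -- the submodule `W + cB`
  let V : Submodule R B :=
    { carrier := {x | ∃ (r : Fin s → R) (b' : B), x = ∑ j, r j • b j + c • b'}
      add_mem' := by
        rintro x y ⟨r, b', rfl⟩ ⟨r', b'', rfl⟩
        refine ⟨r + r', b' + b'', ?_⟩
        simp only [Pi.add_apply, add_smul, Finset.sum_add_distrib, smul_add]
        abel
      zero_mem' := ⟨0, 0, by simp⟩
      smul_mem' := by
        rintro a x ⟨r, b', rfl⟩
        refine ⟨a • r, a • b', ?_⟩
        simp only [Pi.smul_apply, smul_eq_mul, mul_smul, smul_add, Finset.smul_sum]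
        rw [smul_comm a c b'] }
  have hVc : ∀ b' : B, c • b' ∈ V := fun b' => ⟨0, b', by simp⟩
  have hVb : ∀ j, b j ∈ V := fun j => ⟨Pi.single j 1, 0, by simp [Pi.single_apply]⟩
  have hV1 : (1 : B) ∈ V := by
    rw [hone]
    apply V.add_mem
    · exact V.sum_mem (fun j _ => V.smul_mem _ (hVb j))
    · rw [he₁, mul_smul]
      exact hVc _
  have hVmul : ∀ (i : Fin n) (x : B), x ∈ V → φ (ofA t n (X i)) * x ∈ V := by
    rintro i x ⟨r, b', rfl⟩
    rw [mul_add, Finset.mul_sum]
    apply V.add_mem
    · apply V.sum_mem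
      intro j _
      rw [mul_smul_comm, hmul (i, j)]
      apply V.smul_mem
      apply V.add_mem
      · exact V.sum_mem (fun l _ => V.smul_mem _ (hVb l))
      · rw [he₂' (i, j), mul_smul]
        exact hVc _
    · rw [mul_smul_comm]
      exact hVc _
  have hVpoly : ∀ p : MvPolynomial (Fin n) R, φ (ofA t n p) ∈ V := by
    intro p
    induction p using MvPolynomial.induction_on with
    | C r =>
      have h2 : φ (ofA t n (C r)) = r • (1 : B) := by
        rw [show (C r : MvPolynomial (Fin n) R) = algebraMap R _ r from rfl,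
          (ofA t n).commutes, φ.commutes, Algebra.smul_def, mul_one]
      rw [h2]
      exact V.smul_mem _ hV1
    | add p q hp hq =>
      rw [map_add, map_add]
      exact V.add_mem hp hq
    | mul_X p i hp =>
      rw [map_mul, map_mul, mul_comm]
      exact hVmul i _ hp
  have hVtop : ∀ x : B, x ∈ V := by
    intro x
    obtain ⟨p, y, hpy⟩ := hdens x
    rw [hpy]
    apply V.add_mem (hVpoly p)
    rw [he, mul_smul]
    exact hVc _
  -- Nakayama
  obtain ⟨i, hi⟩ := exists_dvd_pow t c ht hcu
  haveI : IsPrecomplete (Ideal.span {c}) (Fin s → R) := by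
    haveI := hc.toIsPrecomplete
    haveI := isPrecomplete_span_of_dvd t c R ⟨e, he⟩ i hi
    exact Helper19.isPrecomplete_pi_module (Ideal.span {c}) R
  haveI : IsHausdorff (Ideal.span {c}) B := by
    haveI := hcB.toIsHausdorff
    exact isHausdorff_span_of_dvd t c B i hi
  have hsurj : Function.Surjective (Fintype.linearCombination R b) := by
    apply surjective_of_mkQ_comp_surjective (I := Ideal.span {c})
    intro ybar
    obtain ⟨y, rfl⟩ := Submodule.Quotient.mk_surjective _ ybar
    obtain ⟨r, b', hy⟩ := hVtop y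
    refine ⟨r, ?_⟩
    show Submodule.Quotient.mk (Fintype.linearCombination R b r) = Submodule.Quotient.mk y
    rw [Submodule.Quotient.eq, hy, Fintype.linearCombination_apply]
    have h6 : ∑ j, r j • b j - (∑ j, r j • b j + c • b') = c • (-b') := by
      rw [smul_neg]
      abel
    rw [h6]
    exact Submodule.smul_mem_smul (Ideal.mem_span_singleton_self c) Submodule.mem_top
  exact Module.Finite.of_surjective _ hsurj

end main

end Groth.Agent.Lib.T2H8.RigFin
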