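import Mathlib
import Groth.Agent.Lib.T2H8RpushTorsion
import Groth.Agent.Lib.T2H8TorsionCoh
import Groth.Agent.Lib.Helper9JContAll

/-!
# Higher direct images of torsion sheaves along qcqs morphisms are torsion (S0125)
-/

set_option autoImplicit false
set_option linter.unusedSectionVars false
set_option linter.style.haveILetI false
universe u
open CategoryTheory CategoryTheory.Limits Opposite AlgebraicGeometry Abelian

namespace Groth.Agent.Lib.T2H8.RpushTorsionGen

open Groth.Agent.Lib.Helper9.EtPull Groth.Agent.Lib.Helper9.EtMV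
  Groth.Agent.Lib.T2H8.EtTrace Groth.Agent.Lib.T2H8.TorsionCoh Groth.Agent.Lib.T2H8.RpushTorsion
  Groth.Agent.Lib.Helper16.DimShift Groth.Agent.Lib.Helper16.SmallEtale

section ExtTorsion

variable {T X : Scheme.{u}} (j : T ⟶ X) [Etale j]

/-- the inverse image of a torsion sheaf along an étale morphism is torsion -/
lemma isTorsion_pull_etale (F : EtCoh.Ab X) (hF : EtCoh.IsTorsion F) :
    EtCoh.IsTorsion ((EtCoh.pull j).obj F) := by
  haveI : EtShriek.JCont j := Groth.Agent.Lib.Helper9.JContAll.jCont j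
  exact isTorsion_of_iso ((rho j).app F).symm (isTorsion_restrAlong j F hF)

variable [CompactSpace T] [QuasiSeparatedSpace T]

/-- `Ext^m(ℤ[h_T], F)` is torsion for `T` qcqs étale over `X` and `F` torsion -/
theorem ext_Zh_torsion (F : EtCoh.Ab X) (hF : EtCoh.IsTorsion F) (m : ℕ)
    (c : Ext.{u + 1} (Zh (obj j)) F m) : ∃ d : ℕ, 0 < d ∧ d • c = 0 := by
  haveI : EtShriek.JCont j := Groth.Agent.Lib.Helper9.JContAll.jCont j
  haveI := pull_preservesFiniteLimits_of_etale j
  obtain ⟨d, hd, h⟩ := exists_nsmul_eq_zero_of_isTorsion _ (isTorsion_pull_etale j F hF) m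
    (Phi j F m c)
  refine ⟨d, hd, (Phi j F m).injective ?_⟩
  rw [map_nsmul, h, map_zero]

end ExtTorsion

section DimShift

variable {X : Scheme.{u}} (A : EtCoh.Ab X) {F : EtCoh.Ab X} (I : InjectiveResolution F)

attribute [local instance] Ext.subsingleton_of_injective in
/-- torsion of `Ext^{≥ 1}(A, F)` propagates to the syzygies of an injective resolution -/
theorem ext_ZZ_torsion (h : ∀ (m : ℕ) (c : Ext.{u + 1} A F (m + 1)), ∃ d : ℕ, 0 < d ∧ d • c = 0) :
    ∀ (n k : ℕ) (c : Ext.{u + 1} A (ZZ I n) (k + 1)), ∃ d : ℕ, 0 < d ∧ d • c = 0 := by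
  intro n
  induction n with
  | zero =>
    intro k c
    exact h k c
  | succ n ih =>
    intro k c
    have hS := shortExact_ofResolution I n
    let δ := hS.extClass.postcomp A (rfl : k + 1 + 1 = k + 1 + 1)
    obtain ⟨d, hd, hdc⟩ := ih (k + 1) (δ c)
    refine ⟨d, hd, ?_⟩
    have h1 : δ (d • c) = 0 := by rw [map_nsmul, hdc]
    haveI : Injective (ShortComplex.mk (ff I n) (gg I n) (ff_gg I n)).X₂ :=
      inferInstanceAs (Injective (I.cocomplex.X n))
    obtain ⟨x₂, hx₂⟩ := Ext.covariant_sequence_exact₃ A hS (d • c) rfl h1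
    rw [← hx₂, Subsingleton.elim x₂ 0, Ext.zero_comp]

end DimShift

section Lift

variable {X : Scheme.{u}}

set_option backward.isDefEq.respectTransparency.types false in
/-- a positive multiple of a section of the quotient lifts over `P` when `H^1(P, ·)` of the
subobject is torsion -/
theorem exists_nsmul_lift_gen {Sx : ShortComplex (EtCoh.Ab X)} (hS : Sx.ShortExact) (P : X.Etale)
    (hP : ∀ y : EtCoh.H P.left ((EtCoh.pull P.hom).obj Sx.X₁) 1, ∃ d : ℕ, 0 < d ∧ d • y = 0)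
    (t : Sx.X₃.obj.obj (op P)) :
    ∃ (d : ℕ) (s : Sx.X₂.obj.obj (op P)), 0 < d ∧ Sx.g.hom.app (op P) s = d • t := by
  let j : P.left ⟶ X := P.hom
  haveI : Etale j := inferInstanceAs (Etale P.hom)
  haveI : EtShriek.JCont j := Groth.Agent.Lib.Helper9.JContAll.jCont j
  haveI := pull_preservesFiniteLimits_of_etale j
  let e : obj j ⟶ P := MorphismProperty.Over.homMk (𝟙 _) (by
    change 𝟙 _ ≫ P.hom = 𝟙 _ ≫ P.hom
    rfl)
  let e' : P ⟶ obj j := MorphismProperty.Over.homMk (𝟙 _) (by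
    change 𝟙 _ ≫ (𝟙 _ ≫ P.hom) = P.hom
    rw [Category.id_comp, Category.id_comp])
  have hee : e' ≫ e = 𝟙 P := by
    apply MorphismProperty.Over.Hom.ext
    change 𝟙 _ ≫ 𝟙 _ = 𝟙 _
    rw [Category.id_comp]
  let t' := Sx.X₃.obj.map e.op t
  let φ : Zh (obj j) ⟶ Sx.X₃ := (zhEquiv (obj j) Sx.X₃).symm t'
  let δ : (Zh (obj j) ⟶ Sx.X₃) →+ Ext.{u + 1} (Zh (obj j)) Sx.X₁ 1 :=
    (hS.extClass.postcomp (Zh (obj j)) (zero_add 1)).comp
      (Ext.addEquiv₀ (X := Zh (obj j)) (Y := Sx.X₃)).symm.toAddMonoidHom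
  have hδ : ∀ ψ : Zh (obj j) ⟶ Sx.X₃, δ ψ = (Ext.mk₀ ψ).comp hS.extClass (zero_add 1) :=
    fun ψ => rfl
  obtain ⟨d, hd, h⟩ := hP (Phi j Sx.X₁ 1 (δ φ))
  have h1 : δ (d • φ) = 0 := by
    apply (Phi j Sx.X₁ 1).injective
    rw [map_nsmul, map_nsmul, h, map_zero]
  rw [hδ] at h1
  obtain ⟨x₂, hx₂⟩ := Ext.covariant_sequence_exact₃ (Zh (obj j)) hS (Ext.mk₀ (d • φ)) (n₁ := 1)
    rfl h1
  obtain ⟨ψ, rfl⟩ := (Ext.mk₀_bijective _ _).2 x₂
  rw [Ext.mk₀_comp_mk₀] at hx₂
  have hψ : ψ ≫ Sx.g = d • φ := (Ext.mk₀_bijective _ _).1 hx₂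
  let s' := zhEquiv (obj j) Sx.X₂ ψ
  refine ⟨d, Sx.X₂.obj.map e'.op s', hd, ?_⟩
  have h2 : Sx.g.hom.app (op (obj j)) s' = d • t' := by
    have := zhEquiv_comp (obj j) ψ Sx.g
    rw [hψ, zhEquiv_nsmul, Equiv.apply_symm_apply] at this
    exact this.symm
  have h3 := NatTrans.naturality_apply Sx.g.hom e'.op s'
  refine h3.trans ?_
  rw [h2, map_nsmul]
  congr 1
  have h4 := (Groth.Agent.Lib.T2H8.Excision.map_comp_apply Sx.X₃ e' e t).symm
  refine h4.trans ?_
  rw [hee]
  simp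

set_option backward.isDefEq.respectTransparency.types false in
/-- sections of a torsion sheaf over a qcqs object are torsion -/
theorem exists_nsmul_eq_zero_sect (P : X.Etale) [CompactSpace P.left] [QuasiSeparatedSpace P.left]
    (F : EtCoh.Ab X) (hF : EtCoh.IsTorsion F) (t : F.obj.obj (op P)) :
    ∃ d : ℕ, 0 < d ∧ d • t = 0 := by
  let j : P.left ⟶ X := P.hom
  haveI : Etale j := inferInstanceAs (Etale P.hom)
  let e : obj j ⟶ P := MorphismProperty.Over.homMk (𝟙 _) (by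
    change 𝟙 _ ≫ P.hom = 𝟙 _ ≫ P.hom
    rfl)
  let e' : P ⟶ obj j := MorphismProperty.Over.homMk (𝟙 _) (by
    change 𝟙 _ ≫ (𝟙 _ ≫ P.hom) = P.hom
    rw [Category.id_comp, Category.id_comp])
  have hee : e' ≫ e = 𝟙 P := by
    apply MorphismProperty.Over.Hom.ext
    change 𝟙 _ ≫ 𝟙 _ = 𝟙 _
    rw [Category.id_comp]
  let t' := F.obj.map e.op t
  let φ : Zh (obj j) ⟶ F := (zhEquiv (obj j) F).symm t'
  obtain ⟨d, hd, h⟩ := ext_Zh_torsion j F hF 0 (Ext.mk₀ φ)
  refine ⟨d, hd, ?_⟩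
  have h1 : d • φ = 0 := by
    have h2 : (Ext.addEquiv₀ (X := Zh (obj j)) (Y := F)).symm (d • φ) = 0 := by
      rw [map_nsmul]
      exact h
    exact (Ext.addEquiv₀ (X := Zh (obj j)) (Y := F)).symm.map_eq_zero_iff.1 h2
  have h0 : zhEquiv (obj j) F 0 = 0 := by
    have h5 := zhEquiv_nsmul (obj j) F φ 0
    rwa [zero_smul, zero_smul] at h5
  have h3 : d • t' = 0 := by
    have h5 := zhEquiv_nsmul (obj j) F φ d
    rw [h1, h0, Equiv.apply_symm_apply] at h5
    exact h5.symm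
  have h4 := (Groth.Agent.Lib.T2H8.Excision.map_comp_apply F e' e t).symm
  have h6 : F.obj.map e'.op t' = t := by
    refine h4.trans ?_
    rw [hee]
    simp
  rw [← h6, ← map_nsmul, h3, map_zero]

end Lift

section Push

variable {X Y : Scheme.{u}} (f : X ⟶ Y) [QuasiCompact f] [QuasiSeparated f]

/-- the base change of an affine étale `Y`-scheme along a qcqs morphism is qcqs -/
lemma qcqs_bc (V : Y.Etale) [IsAffine V.left] :
    CompactSpace ((EtCoh.bc f).obj V).left ∧ QuasiSeparatedSpace ((EtCoh.bc f).obj V).left := by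
  let vh : V.left ⟶ Y := V.hom
  have h1 : CompactSpace ↥(pullback vh f) :=
    QuasiCompact.compactSpace_of_compactSpace (pullback.fst vh f)
  have h2 : QuasiSeparatedSpace ↥(pullback vh f) :=
    quasiSeparatedSpace_of_quasiSeparated (pullback.fst vh f)
  exact ⟨h1, h2⟩

set_option backward.isDefEq.respectTransparency.types false in
/-- shrinking an étale neighbourhood to an affine one -/
lemma exists_affine_refinement (U : Y.Etale) (x : U.left) :
    ∃ (V : Y.Etale) (i : V ⟶ U), IsAffine V.left ∧ ∃ v : V.left, i.left.base v = x := by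
  obtain ⟨_, ⟨W₀, hW₀, rfl⟩, hxW, -⟩ := (U.left.isBasis_affineOpens).exists_subset_of_mem_open
    (Set.mem_univ x) isOpen_univ
  let W' : U.left.Opens := W₀
  have hW' : IsAffineOpen W' := hW₀
  let V : Y.Etale := Scheme.Etale.mk (W'.ι ≫ U.hom)
  let i : V ⟶ U := MorphismProperty.Over.homMk W'.ι rfl
  exact ⟨V, i, hW', ⟨x, hxW⟩, rfl⟩

set_option backward.isDefEq.respectTransparency.types false in
/-- the direct image of a torsion sheaf along a qcqs morphism is torsion -/
theorem isTorsion_push_gen (F : EtCoh.Ab X) (hF : EtCoh.IsTorsion F) :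
    EtCoh.IsTorsion ((EtCoh.push f).obj F) := by
  intro U s x
  obtain ⟨V, i, hV, hv⟩ := exists_affine_refinement U x
  haveI := hV
  obtain ⟨hc, hq⟩ := qcqs_bc f V
  let t : F.obj.obj (op ((EtCoh.bc f).obj V)) := ((EtCoh.push f).obj F).obj.map i.op s
  obtain ⟨d, hd, h⟩ := exists_nsmul_eq_zero_sect ((EtCoh.bc f).obj V) F hF t
  exact ⟨V, i, hv, isOfFinAddOrder_iff_nsmul_eq_zero.2 ⟨d, hd, h⟩⟩

set_option backward.isDefEq.respectTransparency.types false in
/-- the cokernel of `f_*` of the epimorphism of a short exact sequence is torsion when `H^1` of the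
subobject is torsion over all qcqs étale `X`-schemes -/
theorem isTorsion_cokernel_push_gen {Sx : ShortComplex (EtCoh.Ab X)} (hS : Sx.ShortExact)
    (hK : ∀ (P : X.Etale), CompactSpace P.left → QuasiSeparatedSpace P.left →
      ∀ y : EtCoh.H P.left ((EtCoh.pull P.hom).obj Sx.X₁) 1, ∃ d : ℕ, 0 < d ∧ d • y = 0) :
    EtCoh.IsTorsion (cokernel ((EtCoh.push f).map Sx.g)) := by
  intro U s x
  let πT : (EtCoh.push f).obj Sx.X₃ ⟶ cokernel ((EtCoh.push f).map Sx.g) := cokernel.π _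
  have hls : Sheaf.IsLocallySurjective πT :=
    (Sheaf.isLocallySurjective_iff_epi' _ πT).2 inferInstance
  have hmem := Presheaf.imageSieve_mem Y.smallEtaleTopology πT.hom (U := op U) s
  rw [mem_smallEtale_iff] at hmem
  obtain ⟨V₁, g₁, y, ⟨t₁, ht₁⟩, hy⟩ := hmem x
  obtain ⟨V, i, hV, ⟨v, hv⟩⟩ := exists_affine_refinement V₁ y
  haveI := hV
  obtain ⟨hc, hq⟩ := qcqs_bc f V
  let P := (EtCoh.bc f).obj V
  let t : ((EtCoh.push f).obj Sx.X₃).obj.obj (op V) := ((EtCoh.push f).obj Sx.X₃).obj.map i.op t₁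
  let tP : Sx.X₃.obj.obj (op P) := t
  obtain ⟨d, s', hd, hs'⟩ := exists_nsmul_lift_gen hS P (hK P hc hq) tP
  refine ⟨V, i ≫ g₁, ⟨v, ?_⟩, ?_⟩
  · change g₁.left.base (i.left.base v) = x
    rw [hv]
    exact hy
  rw [isOfFinAddOrder_iff_nsmul_eq_zero]
  refine ⟨d, hd, ?_⟩
  have h1 : (cokernel ((EtCoh.push f).map Sx.g)).obj.map (i ≫ g₁).op s =
      πT.hom.app (op V) t := by
    rw [Groth.Agent.Lib.T2H8.Excision.map_comp_apply]
    have h2 : πT.hom.app (op V₁) t₁ = (cokernel ((EtCoh.push f).map Sx.g)).obj.map g₁.op s := ht₁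
    rw [← h2]
    exact (NatTrans.naturality_apply πT.hom i.op t₁).symm
  rw [h1, ← map_nsmul]
  have h3 : d • t = ((EtCoh.push f).map Sx.g).hom.app (op V) s' := hs'.symm
  rw [h3]
  have h4 := congrArg (fun m : (EtCoh.push f).obj Sx.X₂ ⟶ cokernel ((EtCoh.push f).map Sx.g) =>
    m.hom.app (op V) s') (cokernel.condition ((EtCoh.push f).map Sx.g))
  exact h4

/-- **S0125** -/
theorem main_S0125 (F : EtCoh.Ab X) (hF : EtCoh.IsTorsion F) (n : ℕ) :
    EtCoh.IsTorsion ((EtCoh.Rpush f n).obj F) := by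
  haveI : PreservesLimits (EtCoh.push f) := (EtCoh.pullPushAdj f).rightAdjoint_preservesLimits
  cases n with
  | zero =>
    exact isTorsion_of_iso (((EtCoh.push f).rightDerivedZeroIsoSelf).app F).symm
      (isTorsion_push_gen f F hF)
  | succ m =>
    let I : InjectiveResolution F := injectiveResolution F
    refine isTorsion_of_iso (rightDerivedSuccIso (EtCoh.push f) I m).symm
      (isTorsion_cokernel_push_gen f (shortExact_ofResolution I m) ?_)
    intro P hc hq y
    let j : P.left ⟶ X := P.hom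
    haveI : Etale j := inferInstanceAs (Etale P.hom)
    haveI : EtShriek.JCont j := Groth.Agent.Lib.Helper9.JContAll.jCont j
    haveI := pull_preservesFiniteLimits_of_etale j
    obtain ⟨c, rfl⟩ := (Phi j (ZZ I m) 1).surjective y
    obtain ⟨d, hd, h⟩ := ext_ZZ_torsion (Zh (obj j)) I
      (fun k c' => ext_Zh_torsion j F hF (k + 1) c') m 0 c
    exact ⟨d, hd, by rw [← map_nsmul, h, map_zero]⟩

end Push

end Groth.Agent.Lib.T2H8.RpushTorsionGen
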