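import Mathlib
import Groth.Agent.Lib.T2H8RpushTorsionGen
import Groth.Agent.Lib.T2H8EtTraceDeg
import Groth.Prelude.Def_EtAcyc
import Groth.Prelude.Def_RDerDelta

/-!
# Higher direct images of `L`-torsion sheaves along qcqs morphisms are `L`-torsion (S8560)
-/

set_option autoImplicit false
set_option linter.unusedSectionVars false
set_option linter.style.haveILetI false
universe u
open CategoryTheory CategoryTheory.Limits Opposite AlgebraicGeometry Abelian

namespace Groth.Agent.Lib.T2H8.RpushLTorsion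

open Groth.Agent.Lib.T2H8.EtTrace Groth.Agent.Lib.T2H8.RpushTorsionGen

section Arith

/-- every positive integer is the product of an `L`-number and a number prime to `L` -/
theorem exists_factor (L : Set ℕ) : ∀ N : ℕ, 0 < N → ∃ a b : ℕ, N = a * b ∧ EtAcyc.PrimesIn L a ∧
    ∀ p : ℕ, p.Prime → p ∈ L → ¬ p ∣ b := by
  intro N
  induction N using Nat.strong_induction_on with
  | _ N ih =>
    intro hN
    by_cases h1 : N = 1
    · subst h1
      refine ⟨1, 1, rfl, ⟨one_pos, fun p hp hd => ?_⟩, fun p hp _ hd => ?_⟩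
      · exact absurd (Nat.dvd_one.1 hd) hp.ne_one
      · exact absurd (Nat.dvd_one.1 hd) hp.ne_one
    · let p := N.minFac
      have hp : p.Prime := Nat.minFac_prime h1
      obtain ⟨M, hM⟩ : p ∣ N := Nat.minFac_dvd N
      have hMpos : 0 < M := by
        rcases Nat.eq_zero_or_pos M with h | h
        · rw [h, mul_zero] at hM
          omega
        · exact h
      have hMlt : M < N := by
        rw [hM]
        have := hp.two_le
        nlinarith
      obtain ⟨a, b, hab, ha, hb⟩ := ih M hMlt hMpos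
      by_cases hpL : p ∈ L
      · refine ⟨p * a, b, by rw [hM, hab, mul_assoc], ⟨Nat.mul_pos hp.pos ha.1, ?_⟩, hb⟩
        intro q hq hqd
        rcases (Nat.Prime.dvd_mul hq).1 hqd with h | h
        · rw [(Nat.prime_dvd_prime_iff_eq hq hp).1 h]
          exact hpL
        · exact ha.2 q hq h
      · refine ⟨a, p * b, by rw [hM, hab]; ring, ha, ?_⟩
        intro q hq hqL hqd
        rcases (Nat.Prime.dvd_mul hq).1 hqd with h | h
        · rw [(Nat.prime_dvd_prime_iff_eq hq hp).1 h] at hqL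
          exact hpL hqL
        · exact hb q hq hqL h

end Arith

section Sheaf

variable {X : Scheme.{u}}

lemma isTorsion_of_isLTorsion (L : Set ℕ) (F : EtCoh.Ab X) (hF : EtAcyc.IsLTorsion L F) :
    EtCoh.IsTorsion F := by
  intro U s x
  obtain ⟨V, g, m, hv, hm, hms⟩ := hF U s x
  exact ⟨V, g, hv, isOfFinAddOrder_iff_nsmul_eq_zero.2 ⟨m, hm.1, hms⟩⟩

lemma injective_app_of_mono'' {F G : EtCoh.Ab X} (a : F ⟶ G) [Mono a] (U : X.Etaleᵒᵖ) :
    Function.Injective (a.hom.app U) := by
  haveI : Mono a.hom := (Sheaf.Hom.mono_iff_presheaf_mono _ _ a).mp inferInstance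
  haveI : Mono (a.hom.app U) := inferInstance
  exact (AddCommGrpCat.mono_iff_injective _).mp inferInstance

/-- a torsion sheaf on which the integers prime to `L` act invertibly is `L`-torsion -/
theorem isLTorsion_of_isTorsion_of_isIso (L : Set ℕ) (R : EtCoh.Ab X) (hR : EtCoh.IsTorsion R)
    (hiso : ∀ b : ℕ, (∀ p : ℕ, p.Prime → p ∈ L → ¬ p ∣ b) → Mono (b • 𝟙 R)) :
    EtAcyc.IsLTorsion L R := by
  intro U s x
  obtain ⟨V, g, hv, hfin⟩ := hR U s x
  obtain ⟨N, hN, hNs⟩ := isOfFinAddOrder_iff_nsmul_eq_zero.1 hfin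
  obtain ⟨a, b, hab, ha, hb⟩ := exists_factor L N hN
  refine ⟨V, g, a, hv, ha, ?_⟩
  haveI := hiso b hb
  apply injective_app_of_mono'' (b • 𝟙 R) (op V)
  rw [nsmul_hom_app_apply, nsmul_hom_app_apply, map_zero]
  change b • (a • R.obj.map g.op s) = b • 0
  rw [smul_zero, ← mul_smul, mul_comm, ← hab]
  exact hNs

end Sheaf

section Main

/-- **S8560** -/
theorem main_S8560 {X Y : Scheme.{u}} (f : X ⟶ Y) [QuasiCompact f] [QuasiSeparated f]
    (L : Set ℕ) (F : EtCoh.Ab X) (hF : EtAcyc.IsLTorsion L F) (q : ℕ) :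
    EtAcyc.IsLTorsion L ((EtCoh.Rpush f q).obj F) := by
  apply isLTorsion_of_isTorsion_of_isIso L _
    (main_S0125 f F (isTorsion_of_isLTorsion L F hF) q)
  intro b hb
  haveI := isIso_nsmul_id hb F hF
  have h1 : b • 𝟙 ((EtCoh.Rpush f q).obj F) = (EtCoh.Rpush f q).map (b • 𝟙 F) := by
    rw [Functor.map_nsmul, CategoryTheory.Functor.map_id]
  rw [h1]
  infer_instance

end Main

end Groth.Agent.Lib.T2H8.RpushLTorsion
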