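import Mathlib
import Groth.Agent.Lib.T2H8SepClosedSections
import Groth.Prelude.Def_SGA4b

set_option autoImplicit false
set_option linter.style.haveILetI false
set_option linter.unusedSectionVars false
universe u
open CategoryTheory CategoryTheory.Limits AlgebraicGeometry Opposite

namespace Groth.Agent.Lib.T2H8.SepClosedSections

/-- global sections of a direct image (sheaves of sets) -/
noncomputable def pushShSectionsIso {X Y : Scheme.{u}} (f : X ⟶ Y) :
    EtDesc.pushSh f ⋙ (sheafSections Y.smallEtaleTopology (Type (u + 1))).obj (op (EtCoh.top Y)) ≅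
      (sheafSections X.smallEtaleTopology (Type (u + 1))).obj (op (EtCoh.top X)) :=
  NatIso.ofComponents (fun F => F.obj.mapIso (EtCore.bcTopIso f).op.symm) (fun {F G} φ => by
    simp only [Functor.comp_map]
    exact (φ.hom.naturality _).symm)

theorem isEquivalence_pullSh (k k' : Type u) [Field k] [IsSepClosed k]
    [Field k'] [IsSepClosed k'] [Algebra k k'] :
    (EtDesc.pullSh (Spec.map (CommRingCat.ofHom (algebraMap k k')))).IsEquivalence := by
  let f : Spec (CommRingCat.of k') ⟶ Spec (CommRingCat.of k) :=
    Spec.map (CommRingCat.ofHom (algebraMap k k'))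
  haveI h1 := isEquivalence_sections k
  haveI h2 := isEquivalence_sections k'
  haveI h3 : (EtDesc.pushSh f ⋙ (sheafSections (Xk k).smallEtaleTopology (Type (u + 1))).obj
      (op (EtCoh.top (Xk k)))).IsEquivalence :=
    Functor.isEquivalence_of_iso (pushShSectionsIso f).symm
  haveI h4 : (EtDesc.pushSh f).IsEquivalence :=
    Functor.isEquivalence_of_comp_right _
      ((sheafSections (Xk k).smallEtaleTopology (Type (u + 1))).obj (op (EtCoh.top (Xk k))))
  exact (EtDesc.adjSh f).isEquivalence_left_of_isEquivalence_right

end Groth.Agent.Lib.T2H8.SepClosedSections
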