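import Mathlib
import Groth.Prelude.Def_EtShriek2
import Groth.Agent.Lib.T2H8ShriekComp

/-!
# The canonical composition isomorphism for direct images with proper support (S12103)
-/

set_option autoImplicit false
set_option linter.unusedSectionVars false
set_option linter.style.haveILetI false
universe u
open CategoryTheory CategoryTheory.Limits Opposite AlgebraicGeometry

namespace Groth.Agent.Lib.T2H8.ShriekCompUnique
open Groth.Agent.Lib.Helper1
open Groth.Agent.Lib.T2H8.ShriekSheaf Groth.Agent.Lib.T2H8.Excision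
open Groth.Agent.Lib.T2H8.ShriekCompact Groth.Agent.Lib.T2H8.ShriekH0c
open Groth.Agent.Lib.T2H8.ShriekComp

section Incl

variable {X Y : Scheme.{u}} (f : X ⟶ Y) [LocallyOfFiniteType f] (F : EtCoh.Ab X)

/-- the inclusion of the sections with proper support -/
noncomputable def Sfι : (Sf f).obj F ⟶ (EtCoh.push f).obj F := ⟨EtShriek.lowerShriekPreι f F⟩

lemma Sfι_app_apply (V : Y.Etale) (s : EtShriek.shriekSubgroup f F V) :
    ((Sfι f F).hom.app (op V)).hom s = s.1 := rfl

instance mono_Sfι : Mono (Sfι f F) := by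
  haveI : Mono ((sheafToPresheaf _ _).map (Sfι f F)) := by
    change Mono (EtShriek.lowerShriekPreι f F)
    haveI : ∀ V, Mono ((EtShriek.lowerShriekPreι f F).app V) := by
      intro V
      rw [AddCommGrpCat.mono_iff_injective]
      exact Subtype.val_injective
    exact NatTrans.mono_of_mono_app _
  exact (sheafToPresheaf _ _).mono_of_mono_map inferInstance

lemma toPush_eq : EtShriek.lowerShriekToPush f F = (shIso f).hom.app F ≫ Sfι f F := by
  unfold EtShriek.lowerShriekToPush
  rw [Adjunction.homEquiv_counit]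
  exact (sheafificationAdjunction Y.smallEtaleTopology AddCommGrpCat.{u + 1}).counit.naturality
    (Sfι f F)

instance mono_toPush : Mono (EtShriek.lowerShriekToPush f F) := by
  rw [toPush_eq]
  infer_instance

/-- `Sf f` preserves the monomorphism `Sfι` -/
instance mono_Sf_map_Sfι {W : Scheme.{u}} (g : Y ⟶ W) [LocallyOfFiniteType g] :
    Mono ((Sf g).map (Sfι f F)) := by
  haveI : Mono ((sheafToPresheaf _ _).map ((Sf g).map (Sfι f F))) := by
    haveI : ∀ V, Mono (((sheafToPresheaf _ _).map ((Sf g).map (Sfι f F))).app V) := by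
      intro V
      rw [AddCommGrpCat.mono_iff_injective]
      intro a b hab
      have h1 : (show ↥(EtShriek.shriekSubgroup f F ((EtCoh.bc g).obj V.unop)) from
          (show ↥(EtShriek.shriekSubgroup g ((Sf f).obj F) V.unop) from a).1).1 =
          (show ↥(EtShriek.shriekSubgroup f F ((EtCoh.bc g).obj V.unop)) from
          (show ↥(EtShriek.shriekSubgroup g ((Sf f).obj F) V.unop) from b).1).1 := by
        have h0 := congrArg Subtype.val hab
        exact h0
      exact Subtype.ext (Subtype.ext h1)
    exact NatTrans.mono_of_mono_app _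
  exact (sheafToPresheaf _ _).mono_of_mono_map inferInstance

end Incl

section Main

variable {X Y Z : Scheme.{u}} (h : X ⟶ Y) (g : Y ⟶ Z) [LocallyOfFiniteType h]
  [IsSeparated g] [LocallyOfFiniteType g]

set_option backward.isDefEq.respectTransparency.types false in
/-- the key compatibility on the level of `Sf` -/
lemma PsiSheaf_compat (F : EtCoh.Ab X) :
    PsiSheaf h g F ≫ (Sf g).map (Sfι h F) ≫ Sfι g ((EtCoh.push h).obj F) =
      Sfι (h ≫ g) F ≫ (EtCoh.pushComp g h).inv.app F := by
  apply Sheaf.hom_ext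
  ext W s
  have e : ((EtCoh.pushComp g h).inv.app F).hom.app W = F.obj.map (eIso h g W.unop).inv.op :=
    Functor.sheafPushforwardContinuousComp'_inv_app_hom_app _ _ _ _ _ F W
  change F.obj.map (eIso h g W.unop).inv.op s.1 =
    ((EtCoh.pushComp g h).inv.app F).hom.app W s.1
  rw [e]
  rfl

/-- the composition isomorphism -/
noncomputable def compIso :
    EtShriek.lowerShriek (h ≫ g) ≅ EtShriek.lowerShriek h ⋙ EtShriek.lowerShriek g :=
  shIso (h ≫ g) ≪≫ SfComp h g ≪≫ Functor.isoWhiskerRight (shIso h).symm (Sf g) ≪≫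
    Functor.isoWhiskerLeft (EtShriek.lowerShriek h) (shIso g).symm

lemma compIso_hom_app (F : EtCoh.Ab X) :
    (compIso h g).hom.app F = (shIso (h ≫ g)).hom.app F ≫ PsiSheaf h g F ≫
      (Sf g).map ((shIso h).inv.app F) ≫ (shIso g).inv.app ((EtShriek.lowerShriek h).obj F) :=
  rfl

lemma inv_toPush (F : EtCoh.Ab X) :
    (shIso h).inv.app F ≫ EtShriek.lowerShriekToPush h F = Sfι h F := by
  rw [toPush_eq, Iso.inv_hom_id_app_assoc]

lemma lowerShriek_map_eq {G G' : EtCoh.Ab Y} (m : G ⟶ G') :
    (EtShriek.lowerShriek g).map m =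
      (shIso g).hom.app G ≫ (Sf g).map m ≫ (shIso g).inv.app G' := by
  have nat := (shIso g).hom.naturality m
  rw [← Category.assoc, ← nat, Category.assoc, Iso.hom_inv_id_app, Category.comp_id]

lemma compIso_compat (F : EtCoh.Ab X) :
    (compIso h g).hom.app F ≫ (EtShriek.lowerShriek g).map (EtShriek.lowerShriekToPush h F) ≫
        EtShriek.lowerShriekToPush g ((EtCoh.push h).obj F) =
      EtShriek.lowerShriekToPush (h ≫ g) F ≫ (EtCoh.pushComp g h).inv.app F := by
  rw [toPush_eq (h ≫ g), toPush_eq g, Category.assoc, ← PsiSheaf_compat, compIso_hom_app,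
    lowerShriek_map_eq]
  simp only [Category.assoc, Iso.inv_hom_id_app_assoc]
  rw [← (Sf g).map_comp_assoc, inv_toPush]

instance mono_lowerShriek_map_toPush (F : EtCoh.Ab X) :
    Mono ((EtShriek.lowerShriek g).map (EtShriek.lowerShriekToPush h F)) := by
  rw [lowerShriek_map_eq, toPush_eq h, Functor.map_comp]
  infer_instance

end Main

theorem main_S12103 {X Y Z : Scheme.{u}} (h : X ⟶ Y) (g : Y ⟶ Z)
    [IsSeparated h] [LocallyOfFiniteType h] [IsSeparated g] [LocallyOfFiniteType g] :
    ∃! φ : EtShriek.lowerShriek (h ≫ g) ≅ EtShriek.lowerShriek h ⋙ EtShriek.lowerShriek g,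
      ∀ F : EtCoh.Ab X,
        φ.hom.app F ≫ (EtShriek.lowerShriek g).map (EtShriek.lowerShriekToPush h F) ≫
            EtShriek.lowerShriekToPush g ((EtCoh.push h).obj F) =
          EtShriek.lowerShriekToPush (h ≫ g) F ≫ (EtCoh.pushComp g h).inv.app F := by
  refine ⟨compIso h g, compIso_compat h g, ?_⟩
  intro φ' hφ'
  apply Iso.ext
  apply NatTrans.ext
  funext F
  rw [← cancel_mono ((EtShriek.lowerShriek g).map (EtShriek.lowerShriekToPush h F) ≫
    EtShriek.lowerShriekToPush g ((EtCoh.push h).obj F))]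
  rw [hφ' F, compIso_compat]

end Groth.Agent.Lib.T2H8.ShriekCompUnique
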