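import Mathlib
import Groth.Prelude.Def_EtShriek2
import Groth.Agent.Lib.T2H8ClosedSupp
import Groth.Agent.Lib.T2H8ShriekComp

/-!
# Direct images with proper support commute with direct sums (S0682)
-/

set_option autoImplicit false
set_option linter.unusedSectionVars false
set_option linter.style.haveILetI false
universe w u
open CategoryTheory CategoryTheory.Limits Opposite AlgebraicGeometry

namespace Groth.Agent.Lib.T2H8.ShriekCoprodW
open Groth.Agent.Lib.Helper1
open Groth.Agent.Lib.T2H8.ShriekSheaf Groth.Agent.Lib.T2H8.Excision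
open Groth.Agent.Lib.T2H8.ShriekCompact Groth.Agent.Lib.T2H8.ShriekH0c
open Groth.Agent.Lib.T2H8.ShriekComp
open Groth.Agent.Lib.T2H8.ClosedSupp

attribute [local instance] Classical.propDecidable

section Coprod

variable {X : Scheme.{u}} {ι : Type w} (F : ι → EtCoh.Ab X) [HasCoproduct F]

/-- the injection on sections -/
noncomputable def inj (i : ι) (U : X.Etale) : (F i).obj.obj (op U) →+ (∐ F).obj.obj (op U) :=
  ((Sigma.ι F i).hom.app (op U)).hom

/-- the projection on sections -/
noncomputable def prj (i : ι) (U : X.Etale) : (∐ F).obj.obj (op U) →+ (F i).obj.obj (op U) :=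
  ((Sigma.π F i).hom.app (op U)).hom

lemma inj_map (i : ι) {U W : X.Etale} (g : W ⟶ U) (x : (F i).obj.obj (op U)) :
    inj F i W ((F i).obj.map g.op x) = (∐ F).obj.map g.op (inj F i U x) :=
  NatTrans.naturality_apply (Sigma.ι F i).hom g.op x

lemma prj_map (i : ι) {U W : X.Etale} (g : W ⟶ U) (s : (∐ F).obj.obj (op U)) :
    prj F i W ((∐ F).obj.map g.op s) = (F i).obj.map g.op (prj F i U s) :=
  NatTrans.naturality_apply (Sigma.π F i).hom g.op s

lemma prj_inj_self (i : ι) (U : X.Etale) (x : (F i).obj.obj (op U)) :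
    prj F i U (inj F i U x) = x := by
  have h := Sigma.ι_π_eq_id F i
  have h2 := congrArg (fun m => (m.hom.app (op U)).hom x) h
  exact h2

lemma prj_inj_of_ne {i j : ι} (hij : i ≠ j) (U : X.Etale) (x : (F i).obj.obj (op U)) :
    prj F j U (inj F i U x) = 0 := by
  have h := Sigma.ι_π_of_ne F hij
  have h2 := congrArg (fun m => (m.hom.app (op U)).hom x) h
  exact h2

/-- the finite partial sums -/
noncomputable def E (I : Finset ι) (U : X.Etale) (s : (∐ F).obj.obj (op U)) :
    (∐ F).obj.obj (op U) :=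
  ∑ i ∈ I, inj F i U (prj F i U s)

lemma E_map (I : Finset ι) {U W : X.Etale} (g : W ⟶ U) (s : (∐ F).obj.obj (op U)) :
    E F I W ((∐ F).obj.map g.op s) = (∐ F).obj.map g.op (E F I U s) := by
  unfold E
  rw [map_sum]
  refine Finset.sum_congr rfl (fun i _ => ?_)
  rw [prj_map, inj_map]

lemma E_add (I : Finset ι) (U : X.Etale) (s t : (∐ F).obj.obj (op U)) :
    E F I U (s + t) = E F I U s + E F I U t := by
  unfold E
  rw [← Finset.sum_add_distrib]
  refine Finset.sum_congr rfl (fun i _ => ?_)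
  rw [map_add, map_add]

lemma E_zero (I : Finset ι) (U : X.Etale) : E F I U 0 = 0 := by
  unfold E
  refine Finset.sum_eq_zero (fun i _ => ?_)
  rw [map_zero, map_zero]

lemma E_neg (I : Finset ι) (U : X.Etale) (s : (∐ F).obj.obj (op U)) :
    E F I U (-s) = - E F I U s := by
  unfold E
  rw [← Finset.sum_neg_distrib]
  refine Finset.sum_congr rfl (fun i _ => ?_)
  rw [map_neg, map_neg]

lemma prj_E (I : Finset ι) (j : ι) (U : X.Etale) (s : (∐ F).obj.obj (op U)) :
    prj F j U (E F I U s) = if j ∈ I then prj F j U s else 0 := by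
  unfold E
  rw [map_sum]
  split_ifs with hj
  · rw [Finset.sum_eq_single j]
    · exact prj_inj_self F j U _
    · intro i _ hij
      exact prj_inj_of_ne F hij U _
    · intro h; exact absurd hj h
  · refine Finset.sum_eq_zero (fun i hi => ?_)
    have hij : i ≠ j := fun h => hj (h ▸ hi)
    exact prj_inj_of_ne F hij U _

lemma E_E {I J : Finset ι} (hIJ : I ⊆ J) (U : X.Etale) (s : (∐ F).obj.obj (op U)) :
    E F J U (E F I U s) = E F I U s := by
  have h1 : E F J U (E F I U s) = ∑ j ∈ J, if j ∈ I then inj F j U (prj F j U s) else 0 := by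
    unfold E
    refine Finset.sum_congr rfl (fun j _ => ?_)
    have := prj_E F I j U s
    unfold E at this
    rw [this]
    split_ifs
    · rfl
    · rw [map_zero]
  rw [h1, ← Finset.sum_filter]
  unfold E
  congr 1
  ext j
  simp only [Finset.mem_filter]
  exact ⟨fun h => h.2, fun h => ⟨hIJ h, h⟩⟩

lemma E_eq_of_subset {I J : Finset ι} (hIJ : I ⊆ J) (U : X.Etale) (s : (∐ F).obj.obj (op U))
    (h : E F I U s = s) : E F J U s = s := by
  rw [← h, E_E F hIJ]

lemma E_inj {I : Finset ι} {i : ι} (hi : i ∈ I) (U : X.Etale) (x : (F i).obj.obj (op U)) :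
    E F I U (inj F i U x) = inj F i U x := by
  unfold E
  rw [Finset.sum_eq_single i]
  · rw [prj_inj_self]
  · intro j _ hji
    rw [prj_inj_of_ne F (Ne.symm hji), map_zero]
  · intro h; exact absurd hi h

/-- locally a finite sum -/
def LocFin (V : X.Etale) (s : (∐ F).obj.obj (op V)) : Prop :=
  ∀ v : V.left, ∃ (W : X.Etale) (g : W ⟶ V) (w : W.left) (I : Finset ι), g.left w = v ∧
    E F I W ((∐ F).obj.map g.op s) = (∐ F).obj.map g.op s

lemma locFin_of_E {V : X.Etale} {s : (∐ F).obj.obj (op V)} {I : Finset ι}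
    (h : E F I V s = s) : LocFin F V s := by
  intro v
  refine ⟨V, 𝟙 V, v, I, rfl, ?_⟩
  have e : (∐ F).obj.map (𝟙 V).op s = s := by
    rw [op_id, CategoryTheory.Functor.map_id]; rfl
  rw [e, h]

lemma locFin_add {V : X.Etale} {s t : (∐ F).obj.obj (op V)} (hs : LocFin F V s)
    (ht : LocFin F V t) : LocFin F V (s + t) := by
  intro v
  obtain ⟨W, g, w, I, hw, hI⟩ := hs v
  obtain ⟨W', g', w', I', hw', hI'⟩ := ht v
  obtain ⟨P, a, b, p, hab, hap, hbp⟩ := exists_fibre_product g g' w w' (hw.trans hw'.symm)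
  refine ⟨P, a ≫ g, p, I ∪ I', ?_, ?_⟩
  · have : (a ≫ g).left p = g.left (a.left p) := rfl
    rw [this]
    have h2 : a.left p = w := hap
    rw [h2, hw]
  · rw [map_add, E_add]
    have h1 : E F (I ∪ I') P ((∐ F).obj.map (a ≫ g).op s) = (∐ F).obj.map (a ≫ g).op s := by
      apply E_eq_of_subset F (Finset.subset_union_left (s₁ := I) (s₂ := I'))
      rw [map_comp_apply, E_map, hI]
    have h2 : E F (I ∪ I') P ((∐ F).obj.map (a ≫ g).op t) = (∐ F).obj.map (a ≫ g).op t := by
      apply E_eq_of_subset F (Finset.subset_union_right (s₁ := I) (s₂ := I'))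
      rw [hab, map_comp_apply, E_map, hI']
    rw [h1, h2]

lemma locFin_map {V W₀ : X.Etale} (g₀ : W₀ ⟶ V) {s : (∐ F).obj.obj (op V)}
    (hs : LocFin F V s) : LocFin F W₀ ((∐ F).obj.map g₀.op s) := by
  intro w₀
  obtain ⟨W, g, w, I, hw, hI⟩ := hs (g₀.left w₀)
  obtain ⟨P, a, b, p, hab, hap, hbp⟩ := exists_fibre_product g₀ g w₀ w hw.symm
  refine ⟨P, a, p, I, hap, ?_⟩
  rw [← map_comp_apply, hab, map_comp_apply, E_map, hI]

/-- the local family of subgroups of locally finite sums -/
noncomputable def locFinSub : LocSub (∐ F) where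
  Q V :=
    { carrier := {s | LocFin F V s}
      zero_mem' := locFin_of_E F (I := ∅) (E_zero F ∅ V)
      add_mem' := fun hs ht => locFin_add F hs ht
      neg_mem' := by
        intro s hs v
        obtain ⟨W, g, w, I, hw, hI⟩ := hs v
        refine ⟨W, g, w, I, hw, ?_⟩
        rw [map_neg, E_neg, hI] }
  map_mem g s hs := locFin_map F g hs
  loc V s R hR h := by
    intro v
    rw [Groth.Agent.Lib.Helper16.SmallEtale.mem_smallEtale_iff] at hR
    obtain ⟨W, g, w, hg, hw⟩ := hR v
    obtain ⟨W', g', w', I, hw', hI⟩ := h W g hg w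
    refine ⟨W', g' ≫ g, w', I, ?_, ?_⟩
    · have : (g' ≫ g).left w' = g.left (g'.left w') := rfl
      rw [this, hw', hw]
    · rw [map_comp_apply]
      exact hI

/-- the injections factor through the subsheaf of locally finite sums -/
noncomputable def kap (i : ι) : F i ⟶ (locFinSub F).sub :=
  ⟨{ app := fun V => AddCommGrpCat.ofHom
      ((inj F i V.unop).codRestrict ((locFinSub F).Q V.unop)
        (fun x => locFin_of_E F (I := {i}) (E_inj F (Finset.mem_singleton_self i) V.unop x)))
     naturality := fun V V' m => by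
      ext x
      apply Subtype.ext
      exact inj_map F i m.unop x }⟩

lemma kap_ι (i : ι) : kap F i ≫ (locFinSub F).ι = Sigma.ι F i := by
  apply Sheaf.hom_ext
  ext V x
  rfl

/-- every section of the coproduct is locally a finite sum -/
theorem locFin_all (V : X.Etale) (s : (∐ F).obj.obj (op V)) : LocFin F V s := by
  have h : Sigma.desc (kap F) ≫ (locFinSub F).ι = 𝟙 (∐ F) := by
    apply Sigma.hom_ext
    intro i
    rw [Sigma.ι_desc_assoc, kap_ι, Category.comp_id]
  have h2 := congrArg (fun m => (m.hom.app (op V)).hom s) h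
  have h3 : (((locFinSub F).ι).hom.app (op V)).hom (((Sigma.desc (kap F)).hom.app (op V)).hom s) =
      s := h2
  rw [LocSub.ι_app_apply] at h3
  rw [← h3]
  exact (((Sigma.desc (kap F)).hom.app (op V)).hom s).2

/-- the projections are jointly injective -/
theorem eq_zero_of_prj {V : X.Etale} (z : (∐ F).obj.obj (op V))
    (h : ∀ i, prj F i V z = 0) : z = 0 := by
  apply eq_of_locally_eq (∐ F)
  intro v
  obtain ⟨W, g, w, I, hw, hI⟩ := locFin_all F V z v
  refine ⟨W, g, ⟨w, hw⟩, ?_⟩
  rw [map_zero, ← hI]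
  unfold E
  refine Finset.sum_eq_zero (fun i _ => ?_)
  rw [prj_map, h i, map_zero, map_zero]

/-- a section with quasi-compact support is a finite sum -/
theorem exists_E_eq {U : X.Etale} (s : (∐ F).obj.obj (op U))
    (hs : IsCompact (EtShriek.sectSupp (∐ F) U s)) : ∃ I : Finset ι, E F I U s = s := by
  choose W g w I hw hI using locFin_all F U s
  have hopen : ∀ x : U.left, IsOpen (Set.range (g x).left) := by
    intro x
    haveI : Etale (g x).left := inferInstanceAs (Etale (g x).left)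
    exact (g x).left.isOpenMap.isOpen_range
  obtain ⟨t, ht⟩ := hs.elim_finite_subcover (fun x => Set.range (g x).left) hopen
    (fun x _ => Set.mem_iUnion.2 ⟨x, w x, hw x⟩)
  refine ⟨t.biUnion I, ?_⟩
  apply eq_of_locally_eq (∐ F)
  intro y
  by_cases hy : y ∈ EtShriek.sectSupp (∐ F) U s
  · obtain ⟨x, hx⟩ := Set.mem_iUnion.1 (ht hy)
    obtain ⟨hxt, w', hw'⟩ := Set.mem_iUnion.1 hx
    refine ⟨W x, g x, ⟨w', hw'⟩, ?_⟩
    rw [← E_map]
    exact E_eq_of_subset F (Finset.subset_biUnion_of_mem I hxt) _ _ (hI x)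
  · rw [not_mem_sectSupp_iff] at hy
    obtain ⟨W', g', hw', hg'⟩ := hy
    refine ⟨W', g', hw', ?_⟩
    rw [← E_map, hg', E_zero]

end Coprod

section Main

variable {X Y : Scheme.{u}} (f : X ⟶ Y) [LocallyOfFiniteType f] {ι : Type w}
  (F : ι → EtCoh.Ab X) [HasCoproduct F] [HasCoproduct (fun i => (Sf f).obj (F i))]

lemma Sf_map_val' {G G' : EtCoh.Ab X} (α : G ⟶ G') (V : Y.Etale)
    (t : EtShriek.shriekSubgroup f G V) :
    (show ↥(EtShriek.shriekSubgroup f G' V) from (((Sf f).map α).hom.app (op V)).hom t).1 =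
      (α.hom.app (op ((EtCoh.bc f).obj V))).hom t.1 := rfl

lemma Sf_map_zero (G G' : EtCoh.Ab X) : (Sf f).map (0 : G ⟶ G') = 0 := by
  apply Sheaf.hom_ext
  ext V t
  apply Subtype.ext
  rfl

/-- the comparison morphism -/
noncomputable abbrev sig : (∐ fun i => (Sf f).obj (F i)) ⟶ (Sf f).obj (∐ F) :=
  sigmaComparison (Sf f) F

lemma sig_π (i : ι) :
    sig f F ≫ (Sf f).map (Sigma.π F i) = Sigma.π (fun i => (Sf f).obj (F i)) i := by
  apply Sigma.hom_ext
  intro j
  rw [ι_comp_sigmaComparison_assoc, ← Functor.map_comp]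
  by_cases hji : j = i
  · subst hji
    rw [Sigma.ι_π_eq_id, Sigma.ι_π_eq_id, CategoryTheory.Functor.map_id]
  · rw [Sigma.ι_π_of_ne _ hji, Sigma.ι_π_of_ne _ hji, Sf_map_zero]

lemma sig_injective (V : Y.Etale) :
    Function.Injective ((sig f F).hom.app (op V)).hom := by
  rw [injective_iff_map_eq_zero]
  intro z hz
  apply eq_zero_of_prj (fun i => (Sf f).obj (F i))
  intro i
  have h := congrArg (fun m => (m.hom.app (op V)).hom z) (sig_π f F i)
  have h2 : prj (fun i => (Sf f).obj (F i)) i V z =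
      (((Sf f).map (Sigma.π F i)).hom.app (op V)).hom (((sig f F).hom.app (op V)).hom z) := h.symm
  rw [h2, hz, map_zero]

instance mono_sig : Mono (sig f F) := by
  haveI : Mono ((sheafToPresheaf _ _).map (sig f F)) := by
    haveI : ∀ V, Mono (((sheafToPresheaf _ _).map (sig f F)).app V) := by
      intro V
      rw [AddCommGrpCat.mono_iff_injective]
      exact sig_injective f F V.unop
    exact NatTrans.mono_of_mono_app _
  exact (sheafToPresheaf _ _).mono_of_mono_map inferInstance

lemma Sf_sum_val {G : EtCoh.Ab X} (V : Y.Etale) {κ : Type*} (I : Finset κ)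
    (t : κ → EtShriek.shriekSubgroup f G V) :
    (∑ i ∈ I, t i : EtShriek.shriekSubgroup f G V).1 = ∑ i ∈ I, (t i).1 :=
  AddSubgroup.val_finsetSum _ _ _

lemma isCompact_sectSupp (G : EtCoh.Ab X) {V : Y.Etale} [CompactSpace V.left]
    (t : EtCoh.sect G ((EtCoh.bc f).obj V)) (ht : EtShriek.ShriekPred f G V t) :
    IsCompact (EtShriek.sectSupp G _ t) := by
  have hT : ClSub.IsProperOver (EtShriek.prV f V) (EtShriek.sectSupp G _ t) :=
    (hasProperSupport_iff f G t).1 ((shriekPred_iff f G t).1 ht)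
  obtain ⟨hcl, hp⟩ := hT
  haveI := hp
  haveI : CompactSpace ↥(Scheme.IdealSheafData.vanishingIdeal ⟨_, hcl⟩).subscheme :=
    QuasiCompact.compactSpace_of_compactSpace (redι _ hcl ≫ EtShriek.prV f V)
  rw [← range_redι _ hcl]
  exact isCompact_range (redι _ hcl).continuous

open Groth.Agent.Lib.T2H8.ExtZeroMono (opObj opι range_opι) in
lemma sig_locally_surjective (V : Y.Etale) (s : EtShriek.shriekSubgroup f (∐ F) V) (v : V.left) :
    ∃ (W : Y.Etale) (g : W ⟶ V) (w : W.left), g.left w = v ∧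
      ∃ z : (∐ fun i => (Sf f).obj (F i)).obj.obj (op W),
        ((sig f F).hom.app (op W)).hom z = ((Sf f).obj (∐ F)).obj.map g.op s := by
  obtain ⟨_, ⟨O, hO, rfl⟩, hvO, -⟩ :=
    V.left.isBasis_affineOpens.exists_subset_of_mem_open (Set.mem_univ v) isOpen_univ
  have hO' : IsAffineOpen O := hO
  have hvO' : v ∈ Set.range (opι O).left := by rw [range_opι]; exact hvO
  obtain ⟨w, hw⟩ := hvO'
  refine ⟨opObj O, opι O, w, hw, ?_⟩
  haveI : CompactSpace (opObj O).left := isCompact_iff_compactSpace.1 hO'.isCompact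
  set s' : EtShriek.shriekSubgroup f (∐ F) (opObj O) :=
    ((Sf f).obj (∐ F)).obj.map (opι O).op s with hs'
  have hpred : EtShriek.ShriekPred f (∐ F) (opObj O) s'.1 :=
    (mem_shriekSubgroup_iff _ _ _ _).1 s'.2
  obtain ⟨I, hI⟩ := exists_E_eq F s'.1 (isCompact_sectSupp f (∐ F) s'.1 hpred)
  refine ⟨∑ i ∈ I, inj (fun i => (Sf f).obj (F i)) i (opObj O)
    ((((Sf f).map (Sigma.π F i)).hom.app (op (opObj O))).hom s'), ?_⟩
  rw [map_sum]
  apply Subtype.ext
  refine (Sf_sum_val f (opObj O) I _).trans ?_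
  refine Eq.trans ?_ hI
  unfold E
  refine Finset.sum_congr rfl (fun i _ => ?_)
  have h1 := congrArg (fun m => (m.hom.app (op (opObj O))).hom
    ((((Sf f).map (Sigma.π F i)).hom.app (op (opObj O))).hom s'))
    (ι_comp_sigmaComparison (Sf f) F i)
  have h2 : ((sig f F).hom.app (op (opObj O))).hom (inj (fun i => (Sf f).obj (F i)) i (opObj O)
      ((((Sf f).map (Sigma.π F i)).hom.app (op (opObj O))).hom s')) =
    (((Sf f).map (Sigma.ι F i)).hom.app (op (opObj O))).hom
      ((((Sf f).map (Sigma.π F i)).hom.app (op (opObj O))).hom s') := h1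
  rw [h2]
  rfl

instance epi_sig : Epi (sig f F) := by
  rw [← Sheaf.isLocallySurjective_iff_epi' AddCommGrpCat.{u + 1}]
  refine ⟨fun {V} s => ?_⟩
  rw [Groth.Agent.Lib.Helper16.SmallEtale.mem_smallEtale_iff]
  intro v
  obtain ⟨W, g, w, hw, z, hz⟩ := sig_locally_surjective f F V s v
  exact ⟨W, g, w, ⟨z, hz⟩, hw⟩

instance isIso_sig : IsIso (sig f F) := isIso_of_mono_of_epi _

theorem preservesCoproduct : PreservesColimit (Discrete.functor F) (Sf f) :=
  PreservesCoproduct.of_iso_comparison (Sf f) F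

end Main

theorem preservesCoproductsW {X Y : Scheme.{u}} (f : X ⟶ Y) [IsSeparated f]
    [LocallyOfFiniteType f] (ι : Type (u + 1)) :
    PreservesColimitsOfShape (Discrete ι) (Sf f) := by
  haveI : HasColimitsOfSize.{u + 1, u + 1} (EtCoh.Ab X) :=
    IsGrothendieckAbelian.hasColimits (EtCoh.Ab X)
  haveI : HasColimitsOfSize.{u + 1, u + 1} (EtCoh.Ab Y) :=
    IsGrothendieckAbelian.hasColimits (EtCoh.Ab Y)
  haveI : ∀ F : ι → EtCoh.Ab X, PreservesColimit (Discrete.functor F) (Sf f) := fun F =>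
    preservesCoproduct f F
  exact preservesColimitsOfShape_of_discrete (Sf f)

end Groth.Agent.Lib.T2H8.ShriekCoprodW
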