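import Mathlib
import Groth.Agent.Lib.T2H8ShriekLqfExact
import Groth.Agent.Lib.T2H3SheafSES

/-!
# Exactness of `f_!` for `f` separated and locally quasi-finite (S0684)
-/

set_option autoImplicit false
set_option linter.unusedSectionVars false
set_option linter.style.haveILetI false
universe u
open CategoryTheory CategoryTheory.Limits Opposite AlgebraicGeometry

namespace Groth.Agent.Lib.T2H8.ShriekLqfMain

open Groth.Agent.Lib.Helper1 Groth.Agent.Lib.Helper16.SmallEtale
open Groth.Agent.Lib.T2H8.ShriekSheaf Groth.Agent.Lib.T2H8.ShriekCompact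
open Groth.Agent.Lib.T2H8.ShriekLqfExact Groth.Agent.Lib.T2H8.Excision
open Groth.Agent.Lib.T2H8.ShriekComp

section Sections

variable {X : Scheme.{u}}

/-- sections of a monomorphism of abelian etale sheaves are injective -/
theorem injective_app_of_mono {F G : EtCoh.Ab X} (α : F ⟶ G) [Mono α] (U : X.Etaleᵒᵖ) :
    Function.Injective (α.hom.app U) := by
  let Φ : EtCoh.Ab X ⥤ AddCommGrpCat.{u + 1} :=
    sheafToPresheaf _ _ ⋙ (evaluation _ _).obj U
  have : Mono (Φ.map α) := inferInstance
  exact (AddCommGrpCat.mono_iff_injective (Φ.map α)).1 this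

/-- left exactness of sections -/
theorem exact_sections {S : ShortComplex (EtCoh.Ab X)} (hS : S.ShortExact)
    (U : X.Etaleᵒᵖ) (e : S.X₂.obj.obj U) (he : S.g.hom.app U e = 0) :
    ∃ b : S.X₁.obj.obj U, S.f.hom.app U b = e := by
  let Φ : EtCoh.Ab X ⥤ AddCommGrpCat.{u + 1} :=
    sheafToPresheaf _ _ ⋙ (evaluation _ _).obj U
  haveI := hS.mono_f
  haveI : Φ.PreservesZeroMorphisms := ⟨fun _ _ => rfl⟩
  have h : (S.map Φ).Exact := hS.exact.map_of_mono_of_preservesKernel Φ inferInstance inferInstance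
  rw [ShortComplex.ab_exact_iff] at h
  exact h e he

/-- the support of a section does not change under a monomorphism -/
theorem sectSupp_of_mono {F G : EtCoh.Ab X} (α : F ⟶ G) [Mono α] (U : X.Etale)
    (s : F.obj.obj (op U)) :
    EtShriek.sectSupp G U (α.hom.app (op U) s) = EtShriek.sectSupp F U s := by
  apply Set.Subset.antisymm (EtShriek.sectSupp_map_subset α U s)
  intro x hx
  by_contra hcon
  rw [not_mem_sectSupp_iff] at hcon
  obtain ⟨W, g, hw, hg⟩ := hcon
  have n1 := NatTrans.naturality_apply α.hom g.op s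
  have h0 : α.hom.app (op W) (F.obj.map g.op s) = 0 := by
    rw [n1]; exact hg
  have h1 : F.obj.map g.op s = 0 := by
    apply injective_app_of_mono α (op W)
    rw [h0, map_zero]
  have : x ∉ EtShriek.sectSupp F U s := by
    rw [not_mem_sectSupp_iff]
    exact ⟨W, g, hw, h1⟩
  exact this hx

end Sections

section Exact

variable {X Y : Scheme.{u}} (f : X ⟶ Y) [LocallyOfFiniteType f]

lemma Sf_map_val' {G G' : EtCoh.Ab X} (α : G ⟶ G') (V : Y.Etale)
    (t : EtShriek.shriekSubgroup f G V) :
    (show ↥(EtShriek.shriekSubgroup f G' V) from (((Sf f).map α).hom.app (op V)).hom t).1 =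
      (α.hom.app (op ((EtCoh.bc f).obj V))).hom t.1 := rfl

instance Sf_additive : (Sf f).Additive where
  map_add {F G} {α β} := by
    apply Sheaf.hom_ext
    ext V t
    apply Subtype.ext
    rfl

/-- `f_!` is left exact, for `f` locally of finite type -/
theorem Sf_map_leftExact (S : ShortComplex (EtCoh.Ab X)) (hS : S.ShortExact) :
    (S.map (Sf f)).Exact ∧ Mono ((Sf f).map S.f) := by
  haveI := hS.mono_f
  constructor
  · apply Groth.Agent.Lib.T2H3.SheafSES.exact_of_sections
    intro W x₂ hx₂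
    let x₂' : ↥(EtShriek.shriekSubgroup f S.X₂ W.unop) := x₂
    have h0 : S.g.hom.app (op ((EtCoh.bc f).obj W.unop)) x₂'.1 = 0 := by
      have := congrArg (fun z : ↥(EtShriek.shriekSubgroup f S.X₃ W.unop) => z.1) hx₂
      exact this
    obtain ⟨b, hb⟩ := exact_sections hS (op ((EtCoh.bc f).obj W.unop)) x₂'.1 h0
    have hbmem : b ∈ EtShriek.shriekSubgroup f S.X₁ W.unop := by
      rw [mem_shriekSubgroup_iff, shriekPred_iff, hasProperSupport_iff]
      have h1 : EtShriek.ShriekPred f S.X₂ W.unop x₂'.1 :=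
        (mem_shriekSubgroup_iff f S.X₂ W.unop x₂'.1).1 x₂'.2
      have h2 := (hasProperSupport_iff f S.X₂ x₂'.1).1 ((shriekPred_iff f S.X₂ x₂'.1).1 h1)
      rw [← hb, sectSupp_of_mono] at h2
      exact h2
    refine ⟨(⟨b, hbmem⟩ : ↥(EtShriek.shriekSubgroup f S.X₁ W.unop)), ?_⟩
    apply Subtype.ext
    exact hb
  · apply Groth.Agent.Lib.T2H3.SheafSES.mono_of_sections
    intro W a b hab
    let a' : ↥(EtShriek.shriekSubgroup f S.X₁ W.unop) := a
    let b' : ↥(EtShriek.shriekSubgroup f S.X₁ W.unop) := b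
    have h0 : S.f.hom.app (op ((EtCoh.bc f).obj W.unop)) a'.1 =
        S.f.hom.app (op ((EtCoh.bc f).obj W.unop)) b'.1 := by
      have := congrArg (fun z : ↥(EtShriek.shriekSubgroup f S.X₂ W.unop) => z.1) hab
      exact this
    have h1 : a'.1 = b'.1 := injective_app_of_mono S.f _ h0
    exact Subtype.ext h1

instance Sf_preservesFiniteLimits : PreservesFiniteLimits (Sf f) :=
  ((Functor.preservesFiniteLimits_tfae (Sf f)).out 0 3).1 (Sf_map_leftExact f)

variable [IsSeparated f] [LocallyQuasiFinite f]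

theorem Sf_map_shortExact (S : ShortComplex (EtCoh.Ab X)) (hS : S.ShortExact) :
    (S.map (Sf f)).ShortExact := by
  obtain ⟨h1, h2⟩ := Sf_map_leftExact f S hS
  haveI := hS.epi_g
  haveI := Sf_preservesEpimorphisms f
  exact { exact := h1, mono_f := h2, epi_g := inferInstanceAs (Epi ((Sf f).map S.g)) }

theorem Sf_exact : PreservesFiniteLimits (Sf f) ∧ PreservesFiniteColimits (Sf f) :=
  ((Functor.exact_tfae (Sf f)).out 0 3).1 (Sf_map_shortExact f)

end Exact

theorem main_S0684 {X Y : Scheme.{u}} (f : X ⟶ Y) [IsSeparated f]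
    [LocallyOfFiniteType f] [LocallyQuasiFinite f] :
    PreservesFiniteLimits (EtShriek.lowerShriek f) ∧
      PreservesFiniteColimits (EtShriek.lowerShriek f) := by
  obtain ⟨h1, h2⟩ := Sf_exact f
  exact ⟨preservesFiniteLimits_of_natIso (shIso f).symm,
    preservesFiniteColimits_of_natIso (shIso f).symm⟩

end Groth.Agent.Lib.T2H8.ShriekLqfMain
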