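import Mathlib
import Groth.Agent.Lib.T2H8ShriekLqfMain
import Groth.Agent.Lib.T2H8ShriekCoprodW

/-!
# `f_!` is a left adjoint for `f` separated and locally quasi-finite (S0689)
-/

set_option autoImplicit false
set_option linter.unusedSectionVars false
set_option linter.style.haveILetI false
universe u
open CategoryTheory CategoryTheory.Limits Opposite AlgebraicGeometry

namespace Groth.Agent.Lib.T2H8.ShriekLqfAdj

open Groth.Agent.Lib.T2H8.ShriekCompact Groth.Agent.Lib.T2H8.ShriekLqfMain

theorem main_S0689 {X Y : Scheme.{u}} (f : X ⟶ Y) [IsSeparated f]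
    [LocallyOfFiniteType f] [LocallyQuasiFinite f] :
    (EtShriek.lowerShriek f).IsLeftAdjoint := by
  haveI : HasColimitsOfSize.{u + 1, u + 1} (EtCoh.Ab X) :=
    IsGrothendieckAbelian.hasColimits (EtCoh.Ab X)
  haveI : WellPowered.{u + 1} (EtCoh.Ab X) := IsGrothendieckAbelian.wellPowered _
  haveI : WellPowered.{u + 1} (EtCoh.Ab X)ᵒᵖ := Abelian.wellPowered_opposite
  obtain ⟨h1, h2⟩ := Sf_exact f
  haveI : ∀ J : Type (u + 1), PreservesColimitsOfShape (Discrete J) (Sf f) := fun J =>
    Groth.Agent.Lib.T2H8.ShriekCoprodW.preservesCoproductsW f J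
  haveI : PreservesColimitsOfSize.{u + 1, u + 1} (Sf f) :=
    preservesColimits_of_preservesCoequalizers_and_coproducts (Sf f)
  haveI : (Sf f).IsLeftAdjoint :=
    isLeftAdjoint_of_preservesColimits_of_isSeparating (isSeparator_separator (EtCoh.Ab X)) (Sf f)
  exact Functor.isLeftAdjoint_of_iso (shIso f).symm

end Groth.Agent.Lib.T2H8.ShriekLqfAdj
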