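import Mathlib
import Groth.Prelude.Def_EtBase
import Groth.Agent.Lib.Helper16SmallEtale

set_option autoImplicit false
set_option linter.unusedSectionVars false
set_option linter.style.haveILetI false
universe u
open CategoryTheory CategoryTheory.Limits Opposite AlgebraicGeometry TensorProduct

/-!
# Specialization arrows between geometric points of the small étale site (helper8)

`exists_arrow`: a morphism of points from a generization, by an inverse limit of finite nonempty
sets of lifts.  `exists_arrow_through`: the same through a prescribed lift to an étale neighbourhood.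
-/

namespace Groth.Agent.Lib.T2H8.SpecArrow

theorem finite_algHom_of_etale (A B K : Type u) [CommRing A] [CommRing B] [Field K]
    [Algebra A B] [Algebra A K] [Algebra.Etale A B] : Finite (B →ₐ[A] K) := by
  haveI : Algebra.Etale K (K ⊗[A] B) := inferInstance
  haveI : Module.Finite K (K ⊗[A] B) := Algebra.FormallyUnramified.finite_of_free K (K ⊗[A] B)
  haveI : Finite (K ⊗[A] B →ₐ[K] K) := Finite.algHom K (K ⊗[A] B) K
  exact Finite.of_equiv _ (Algebra.TensorProduct.liftEquivRight A K B K).symm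

variable {S : Scheme.{u}} {Ω Ω' : Type u} [Field Ω] [IsSepClosed Ω] [Field Ω'] [IsSepClosed Ω']
  (σ : Spec (CommRingCat.of Ω) ⟶ S) (ζ : Spec (CommRingCat.of Ω') ⟶ S)

/-- the underlying scheme morphism of a lift -/
noncomputable abbrev lm {V : S.Etale} (l : (Scheme.pointSmallEtale ζ).fiber.obj V) :
    Spec (CommRingCat.of Ω') ⟶ V.left := l.left

lemma lm_hom {V : S.Etale} (l : (Scheme.pointSmallEtale ζ).fiber.obj V) :
    lm ζ l ≫ V.hom = ζ := Over.w l

/-- the point of a lift -/
noncomputable abbrev lpt {V : S.Etale} (l : (Scheme.pointSmallEtale ζ).fiber.obj V) : V.left :=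
  lm ζ l default

lemma lpt_map {V V' : S.Etale} (g : V' ⟶ V) (l : (Scheme.pointSmallEtale ζ).fiber.obj V') :
    lpt ζ ((Scheme.pointSmallEtale ζ).fiber.map g l) = g.left (lpt ζ l) := rfl

/-- lifts of `ζ` generizing a given lift of `σ` -/
def Lft (j : (Scheme.pointSmallEtale σ).fiber.Elements) : Type u :=
  {l : (Scheme.pointSmallEtale ζ).fiber.obj j.1 // lpt ζ l ⤳ lpt σ j.2}

/-- functoriality of the generizing lifts -/
noncomputable def LftFunctor : (Scheme.pointSmallEtale σ).fiber.Elements ⥤ Type u where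
  obj j := Lft σ ζ j
  map {j j'} g := ↾(fun l : Lft σ ζ j => (⟨(Scheme.pointSmallEtale ζ).fiber.map g.1 l.1, by
    have h1 : lpt σ j'.2 = g.1.left (lpt σ j.2) := by
      rw [← lpt_map, g.2]
    rw [lpt_map, h1]
    exact l.2.map g.1.left.continuous⟩ : Lft σ ζ j'))
  map_id j := by
    ext l
    apply Subtype.ext
    simp
  map_comp g g' := by
    ext l
    apply Subtype.ext
    simp

variable {σ ζ}

lemma lpt_hom {V : S.Etale} (l : (Scheme.pointSmallEtale ζ).fiber.obj V) :
    V.hom (lpt ζ l) = ζ default := by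
  have := congrArg (fun m : Spec (CommRingCat.of Ω') ⟶ S => m default) (lm_hom ζ l)
  simpa only [Scheme.Hom.comp_apply] using this

set_option backward.isDefEq.respectTransparency.types false in
lemma nonempty_lft (hsp : ζ default ⤳ σ default) (j : (Scheme.pointSmallEtale σ).fiber.Elements) :
    Nonempty (Lft σ ζ j) := by
  obtain ⟨V, v⟩ := j
  haveI : Etale V.hom := V.prop
  have hv : V.hom (lpt σ v) = σ default := lpt_hom v
  have hgen : GeneralizingMap V.hom := Flat.generalizingMap V.hom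
  obtain ⟨p, hp1, hp2⟩ := hgen (a := lpt σ v) (b := ζ default) (by rw [hv]; exact hsp)
  obtain ⟨l, hl1, hl2⟩ := Scheme.exists_fac_of_etale_of_isSepClosed V.hom ζ p hp2
  refine ⟨⟨Over.homMk l hl1, ?_⟩⟩
  change l default ⤳ _
  rw [hl2]
  exact hp1

set_option backward.isDefEq.respectTransparency.types false in
lemma finite_lft (j : (Scheme.pointSmallEtale σ).fiber.Elements) : Finite (Lft σ ζ j) := by
  obtain ⟨V, v⟩ := j
  rcases isEmpty_or_nonempty (Lft σ ζ ⟨V, v⟩) with hE | ⟨⟨l₁, hl₁⟩⟩
  · infer_instance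
  haveI : Etale V.hom := V.prop
  let p₀ : V.left := lpt σ v
  let s₀ : S := V.hom p₀
  obtain ⟨S₀, hS₀, hsS₀, -⟩ := exists_isAffineOpen_mem_and_subset (X := S) (x := s₀)
    (U := (⊤ : S.Opens)) trivial
  obtain ⟨V₀, hV₀, hpV₀, hle⟩ := exists_isAffineOpen_mem_and_subset (x := p₀)
    (U := V.hom ⁻¹ᵁ S₀) hsS₀
  haveI : IsAffine (S₀ : Scheme.{u}) := hS₀
  haveI : IsAffine (V₀ : Scheme.{u}) := hV₀
  let h₀ : (V₀ : Scheme.{u}) ⟶ (S₀ : Scheme.{u}) := V.hom.resLE S₀ V₀ hle
  have hh₀ : h₀ ≫ S₀.ι = V₀.ι ≫ V.hom := Scheme.Hom.resLE_comp_ι _ _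
  haveI : Etale h₀ := by
    haveI : Etale (h₀ ≫ S₀.ι) := by rw [hh₀]; infer_instance
    exact Etale.of_comp h₀ S₀.ι
  -- every generizing lift lands in `V₀`
  have hmem : ∀ l : Lft σ ζ ⟨V, v⟩, Set.range (lm ζ l.1) ⊆ (V₀ : Set V.left) := by
    rintro l _ ⟨z, rfl⟩
    rw [Subsingleton.elim z default]
    exact l.2.mem_open V₀.isOpen hpV₀
  have hζ : Set.range ζ ⊆ (S₀ : Set S) := by
    rintro _ ⟨z, rfl⟩
    rw [Subsingleton.elim z default, ← lpt_hom l₁]
    exact hle (hl₁.mem_open V₀.isOpen hpV₀)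
  let ζ₀ : Spec (CommRingCat.of Ω') ⟶ (S₀ : Scheme.{u}) :=
    IsOpenImmersion.lift (X := (S₀ : Scheme.{u})) (Y := Spec (CommRingCat.of Ω')) (Z := S)
      S₀.ι ζ (by rw [Scheme.Opens.range_ι]; exact hζ)
  have hζ₀ : ζ₀ ≫ S₀.ι = ζ := IsOpenImmersion.lift_fac _ _ _
  let l₀ : Lft σ ζ ⟨V, v⟩ → (Spec (CommRingCat.of Ω') ⟶ (V₀ : Scheme.{u})) := fun l =>
    IsOpenImmersion.lift (X := (V₀ : Scheme.{u})) (Y := Spec (CommRingCat.of Ω')) (Z := V.left)
      V₀.ι (lm ζ l.1) (by rw [Scheme.Opens.range_ι]; exact hmem l)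
  have hl₀ : ∀ l, l₀ l ≫ V₀.ι = lm ζ l.1 := fun l => IsOpenImmersion.lift_fac _ _ _
  have hl₀h : ∀ l, l₀ l ≫ h₀ = ζ₀ := by
    intro l
    rw [← cancel_mono S₀.ι, Category.assoc, hh₀, ← Category.assoc, hl₀, hζ₀]
    exact lm_hom ζ l.1
  -- the algebra
  let A := Γ((S₀ : Scheme.{u}), ⊤)
  let B := Γ((V₀ : Scheme.{u}), ⊤)
  let _ : Algebra A B := h₀.appTop.hom.toAlgebra
  have het : Algebra.Etale A B := by
    have := (HasRingHomProperty.iff_of_isAffine (P := @Etale) (f := h₀)).mp inferInstance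
    exact this
  let e := Scheme.ΓSpecIso (CommRingCat.of Ω')
  let _ : Algebra A Ω' := (ζ₀.appTop ≫ e.hom).hom.toAlgebra
  haveI := finite_algHom_of_etale A B Ω'
  let ρ : Lft σ ζ ⟨V, v⟩ → (B →ₐ[A] Ω') := fun l =>
    { toRingHom := ((l₀ l).appTop ≫ e.hom).hom
      commutes' := by
        intro a
        change ((l₀ l).appTop ≫ e.hom).hom (h₀.appTop.hom a) = (ζ₀.appTop ≫ e.hom).hom a
        rw [← hl₀h l, Scheme.Hom.comp_appTop]
        rfl }
  refine Finite.of_injective ρ ?_
  intro l l' hll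
  have h1 : ((l₀ l).appTop ≫ e.hom).hom = ((l₀ l').appTop ≫ e.hom).hom :=
    congrArg (fun q : B →ₐ[A] Ω' => q.toRingHom) hll
  have h2 : (l₀ l).appTop ≫ e.hom = (l₀ l').appTop ≫ e.hom := CommRingCat.hom_ext h1
  have h3 : (l₀ l).appTop = (l₀ l').appTop := (cancel_mono e.hom).1 h2
  have h4 : l₀ l = l₀ l' := ext_of_isAffine h3
  apply Subtype.ext
  apply Over.OverMorphism.ext
  change lm ζ l.1 = lm ζ l'.1
  rw [← hl₀, ← hl₀, h4]

set_option backward.isDefEq.respectTransparency.types false in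
/-- **specialization arrows exist**: if `ζ` is located at a generization of the point of `σ`,
there is a morphism of points of the small étale site from `ζ` to `σ`. -/
theorem exists_arrow (hsp : ζ default ⤳ σ default) :
    ∃ φ : Scheme.pointSmallEtale ζ ⟶ Scheme.pointSmallEtale σ,
      ∀ (V : S.Etale) (v : (Scheme.pointSmallEtale σ).fiber.obj V),
        lpt ζ (φ.hom.app V v) ⤳ lpt σ v := by
  haveI : ∀ j, Finite ((LftFunctor σ ζ).obj j) := fun j => finite_lft j
  haveI : ∀ j, Nonempty ((LftFunctor σ ζ).obj j) := fun j => nonempty_lft hsp j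
  obtain ⟨u, hu⟩ := nonempty_sections_of_finite_cofiltered_system (LftFunctor σ ζ)
  refine ⟨⟨{ app := fun V => ↾(fun v => (u ⟨V, v⟩).1), naturality := ?_ }⟩, ?_⟩
  · intro V' V g
    ext v'
    let j' : (Scheme.pointSmallEtale σ).fiber.Elements := ⟨V', v'⟩
    let j : (Scheme.pointSmallEtale σ).fiber.Elements :=
      ⟨V, (Scheme.pointSmallEtale σ).fiber.map g v'⟩
    let gg : j' ⟶ j := ⟨g, rfl⟩
    have := hu gg
    exact (congrArg Subtype.val this).symm
  · intro V v
    exact (u ⟨V, v⟩).2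

section Through

variable {X : Scheme.{u}} (W : X.Etale) (σW : Spec (CommRingCat.of Ω) ⟶ W.left)
  (ζW : Spec (CommRingCat.of Ω') ⟶ W.left)

/-- a lift of `σW ≫ W.hom` to `V` gives a lift of `σW` to the base change of `V` -/
noncomputable def tilde {Ω₀ : Type u} [Field Ω₀] [IsSepClosed Ω₀]
    (τ : Spec (CommRingCat.of Ω₀) ⟶ W.left) (V : X.Etale)
    (v : (Scheme.pointSmallEtale (τ ≫ W.hom)).fiber.obj V) :
    (Scheme.pointSmallEtale τ).fiber.obj ((EtCoh.bc W.hom).obj V) :=
  Over.homMk (show Spec (CommRingCat.of Ω₀) ⟶ ((EtCoh.bc W.hom).obj V).left from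
    pullback.lift (lm _ v) τ (lm_hom _ v))
    (by
      change pullback.lift _ _ _ ≫ pullback.snd V.hom W.hom = τ
      exact pullback.lift_snd _ _ _)

variable {Ω₀ : Type u} [Field Ω₀] [IsSepClosed Ω₀] (τ : Spec (CommRingCat.of Ω₀) ⟶ W.left)

lemma tilde_fst (V : X.Etale) (v : (Scheme.pointSmallEtale (τ ≫ W.hom)).fiber.obj V) :
    lm τ (tilde W τ V v) ≫
      (pullback.fst V.hom W.hom : ((EtCoh.bc W.hom).obj V).left ⟶ V.left) = lm _ v := by
  change pullback.lift _ _ _ ≫ _ = _
  exact pullback.lift_fst _ _ _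

lemma tilde_snd (V : X.Etale) (v : (Scheme.pointSmallEtale (τ ≫ W.hom)).fiber.obj V) :
    lm τ (tilde W τ V v) ≫
      (pullback.snd V.hom W.hom : ((EtCoh.bc W.hom).obj V).left ⟶ W.left) = τ := by
  change pullback.lift _ _ _ ≫ _ = _
  exact pullback.lift_snd _ _ _

open Groth.Agent.Lib.Helper16.SmallEtale in
set_option backward.isDefEq.respectTransparency.types false in
lemma tilde_map {V V' : X.Etale} (g : V' ⟶ V)
    (v' : (Scheme.pointSmallEtale (τ ≫ W.hom)).fiber.obj V') :
    (Scheme.pointSmallEtale τ).fiber.map ((EtCoh.bc W.hom).map g) (tilde W τ V' v') =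
      tilde W τ V ((Scheme.pointSmallEtale (τ ≫ W.hom)).fiber.map g v') := by
  apply Over.OverMorphism.ext
  change lm τ (tilde W τ V' v') ≫ ((EtCoh.bc W.hom).map g).left = lm τ (tilde W τ V _)
  apply pullback.hom_ext
  · refine (Category.assoc _ _ _).trans ?_
    refine (whisker_eq _ (bc_map_left_fst W.hom g)).trans ?_
    refine (Category.assoc _ _ _).symm.trans ?_
    refine (eq_whisker (tilde_fst W τ V' v') _).trans ?_
    refine Eq.trans ?_
      (tilde_fst W τ V ((Scheme.pointSmallEtale (τ ≫ W.hom)).fiber.map g v')).symm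
    rfl
  · refine (Category.assoc _ _ _).trans ?_
    refine (whisker_eq _ (bc_map_left_snd W.hom g)).trans ?_
    exact (tilde_snd W τ V' v').trans (tilde_snd W τ V _).symm

/-- a lift of `τ` to the base change of `V` gives a lift of `τ ≫ W.hom` to `V` -/
noncomputable def untilde (V : X.Etale)
    (μ : (Scheme.pointSmallEtale τ).fiber.obj ((EtCoh.bc W.hom).obj V)) :
    (Scheme.pointSmallEtale (τ ≫ W.hom)).fiber.obj V :=
  Over.homMk (show Spec (CommRingCat.of Ω₀) ⟶ V.left from
    lm τ μ ≫ (pullback.fst V.hom W.hom : ((EtCoh.bc W.hom).obj V).left ⟶ V.left))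
    (by
      change (lm τ μ ≫ pullback.fst V.hom W.hom) ≫ V.hom = τ ≫ W.hom
      refine (Category.assoc _ _ _).trans ?_
      refine (whisker_eq _ pullback.condition).trans ?_
      refine (Category.assoc _ _ _).symm.trans ?_
      exact eq_whisker (lm_hom τ μ) _)

lemma untilde_left (V : X.Etale)
    (μ : (Scheme.pointSmallEtale τ).fiber.obj ((EtCoh.bc W.hom).obj V)) :
    lm _ (untilde W τ V μ) =
      lm τ μ ≫ (pullback.fst V.hom W.hom : ((EtCoh.bc W.hom).obj V).left ⟶ V.left) := rfl

open Groth.Agent.Lib.Helper16.SmallEtale in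
set_option backward.isDefEq.respectTransparency.types false in
lemma untilde_map {V V' : X.Etale} (g : V' ⟶ V)
    (μ' : (Scheme.pointSmallEtale τ).fiber.obj ((EtCoh.bc W.hom).obj V')) :
    untilde W τ V ((Scheme.pointSmallEtale τ).fiber.map ((EtCoh.bc W.hom).map g) μ') =
      (Scheme.pointSmallEtale (τ ≫ W.hom)).fiber.map g (untilde W τ V' μ') := by
  apply Over.OverMorphism.ext
  change (lm τ μ' ≫ ((EtCoh.bc W.hom).map g).left) ≫ pullback.fst V.hom W.hom =
    (lm τ μ' ≫ pullback.fst V'.hom W.hom) ≫ g.left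
  refine (Category.assoc _ _ _).trans ?_
  refine Eq.trans ?_ (Category.assoc _ _ _).symm
  exact whisker_eq _ (bc_map_left_fst W.hom g)

/-- the lift of `τ` to the identity neighbourhood is unique -/
lemma top_lift_unique (μ : (Scheme.pointSmallEtale τ).fiber.obj (EtCoh.top W.left)) :
    lm τ μ = τ := by
  have h1 : lm τ μ ≫ 𝟙 W.left = τ := lm_hom τ μ
  exact (Category.comp_id _).symm.trans h1

set_option backward.isDefEq.respectTransparency.types false in
/-- the diagonal as a morphism of étale `W`-schemes -/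
noncomputable def diagW : EtCoh.top W.left ⟶ (EtCoh.bc W.hom).obj W :=
  MorphismProperty.Over.homMk
    (show W.left ⟶ ((EtCoh.bc W.hom).obj W).left from pullback.lift (𝟙 W.left) (𝟙 W.left) rfl)
    (by
      change pullback.lift _ _ _ ≫ pullback.snd W.hom W.hom = 𝟙 W.left
      exact pullback.lift_snd _ _ _) trivial

lemma diagW_fst : (diagW W).left ≫
    (pullback.fst W.hom W.hom : ((EtCoh.bc W.hom).obj W).left ⟶ W.left) = 𝟙 W.left := by
  change pullback.lift _ _ _ ≫ _ = _
  exact pullback.lift_fst _ _ _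

lemma diagW_snd : (diagW W).left ≫
    (pullback.snd W.hom W.hom : ((EtCoh.bc W.hom).obj W).left ⟶ W.left) = 𝟙 W.left := by
  change pullback.lift _ _ _ ≫ _ = _
  exact pullback.lift_snd _ _ _

set_option backward.isDefEq.respectTransparency.types false in
/-- **specialization arrows through a prescribed lift** -/
theorem exists_arrow_through (hsp : ζW default ⤳ σW default) :
    ∃ φ : Scheme.pointSmallEtale (ζW ≫ W.hom) ⟶ Scheme.pointSmallEtale (σW ≫ W.hom),
      lm _ (φ.hom.app W (Over.homMk σW rfl)) = ζW := by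
  obtain ⟨a, -⟩ := exists_arrow (σ := σW) (ζ := ζW) hsp
  let appf : ∀ V : X.Etale, (Scheme.pointSmallEtale (σW ≫ W.hom)).fiber.obj V →
      (Scheme.pointSmallEtale (ζW ≫ W.hom)).fiber.obj V := fun V v =>
    untilde W ζW V (a.hom.app ((EtCoh.bc W.hom).obj V) (tilde W σW V v))
  have hnat : ∀ {V' V : X.Etale} (g : V' ⟶ V)
      (v' : (Scheme.pointSmallEtale (σW ≫ W.hom)).fiber.obj V'),
      appf V ((Scheme.pointSmallEtale (σW ≫ W.hom)).fiber.map g v') =
        (Scheme.pointSmallEtale (ζW ≫ W.hom)).fiber.map g (appf V' v') := by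
    intro V' V g v'
    change untilde W ζW V (a.hom.app _ (tilde W σW V
        ((Scheme.pointSmallEtale (σW ≫ W.hom)).fiber.map g v'))) =
      (Scheme.pointSmallEtale (ζW ≫ W.hom)).fiber.map g
        (untilde W ζW V' (a.hom.app _ (tilde W σW V' v')))
    rw [← untilde_map, ← tilde_map]
    congr 1
    exact NatTrans.naturality_apply a.hom ((EtCoh.bc W.hom).map g) (tilde W σW V' v')
  refine ⟨⟨{ app := fun V => ↾(appf V), naturality := fun V' V g => (by
    ext v'
    exact hnat g v') }⟩, ?_⟩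
  · change lm _ (untilde W ζW W (a.hom.app _ (tilde W σW W (Over.homMk σW rfl)))) = ζW
    rw [untilde_left]
    -- the lift to the top neighbourhood
    let σt : (Scheme.pointSmallEtale σW).fiber.obj (EtCoh.top W.left) :=
      Over.homMk σW (Category.comp_id _)
    have e1 : tilde W σW W (Over.homMk σW rfl) =
        (Scheme.pointSmallEtale σW).fiber.map (diagW W) σt := by
      apply Over.OverMorphism.ext
      change lm σW (tilde W σW W _) = σW ≫ (diagW W).left
      apply pullback.hom_ext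
      · refine (tilde_fst W σW W _).trans ?_
        refine Eq.trans ?_ (Category.assoc _ _ _).symm
        refine Eq.trans ?_ (whisker_eq _ (diagW_fst W)).symm
        exact (Category.comp_id _).symm
      · refine (tilde_snd W σW W _).trans ?_
        refine Eq.trans ?_ (Category.assoc _ _ _).symm
        refine Eq.trans ?_ (whisker_eq _ (diagW_snd W)).symm
        exact (Category.comp_id _).symm
    have e2 : a.hom.app _ ((Scheme.pointSmallEtale σW).fiber.map (diagW W) σt) =
        (Scheme.pointSmallEtale ζW).fiber.map (diagW W) (a.hom.app _ σt) :=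
      NatTrans.naturality_apply a.hom (diagW W) σt
    rw [e1, e2]
    change (lm ζW (a.hom.app _ σt) ≫ (diagW W).left) ≫ pullback.fst W.hom W.hom = ζW
    rw [top_lift_unique W ζW (a.hom.app _ σt)]
    refine (Category.assoc _ _ _).trans ?_
    exact (whisker_eq _ (diagW_fst W)).trans (Category.comp_id _)

end Through

end Groth.Agent.Lib.T2H8.SpecArrow
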