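import Mathlib
import Groth.Prelude.Def_EtBase
import Groth.Prelude.Def_PBC
import Groth.Agent.Lib.T2H8StalkCard
import Groth.Agent.Lib.T2H8SpecArrow

/-!
# Constructibility from injective specialization maps (helper8)
-/

set_option autoImplicit false
set_option linter.unusedSectionVars false
set_option linter.style.haveILetI false
universe u
open CategoryTheory CategoryTheory.Limits Opposite AlgebraicGeometry TopologicalSpace

namespace Groth.Agent.Lib.T2H8.SpecMono
open Groth.Agent.Lib.T2H8.FLC Groth.Agent.Lib.T2H8.LocTriv Groth.Agent.Lib.T2H8.FLCSerre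
open Groth.Agent.Lib.Helper16.SmallEtale Groth.Agent.Lib.Helper16.EtStalk
open Groth.Agent.Lib.T2H8.Supp Groth.Agent.Lib.T2H8AgreeAb Groth.Agent.Lib.T2H8.StalkCard
open Groth.Agent.Lib.T2H8.SpecArrow

section Generic

variable {T : Scheme.{u}}

open Groth.Agent.Lib.T2H8EtZarSheaf Groth.Agent.Lib.T2H8.ConstrSub in
set_option backward.isDefEq.respectTransparency.types false in
/-- **generic triviality from an upper bound on the stalk cardinalities** -/
theorem exists_isTriv_of_card_le [IsLocallyNoetherian T] (H : EtCoh.Ab T)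
    {Ω : Type u} [Field Ω] [IsSepClosed Ω] (ξ : Spec (CommRingCat.of Ω) ⟶ T)
    (hgen : ∀ z : T, z ⤳ ξ default → z = ξ default)
    (hfin : ∀ (Ω' : Type u) [Field Ω'] [IsSepClosed Ω'] (ξ' : Spec (CommRingCat.of Ω') ⟶ T),
      Finite ((EtCoh.stalk ξ').obj H))
    (hcard : ∀ y : T, ∃ (Ω' : Type u) (_ : Field Ω') (_ : IsSepClosed Ω')
      (ξ' : Spec (CommRingCat.of Ω') ⟶ T), Set.range ξ' = {y} ∧
        Nat.card ((EtCoh.stalk ξ').obj H) ≤ Nat.card ((EtCoh.stalk ξ).obj H)) :
    ∃ (U : T.Etale) (u : U.left), U.hom u = ξ default ∧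
      ∃ (M : AddCommGrpCat.{u + 1}) (_ : Finite M) (t : M ⟶ H.obj.obj (op U)),
        IsTriv H U M t := by
  classical
  let Φ := Scheme.pointSmallEtale ξ
  let M : AddCommGrpCat.{u + 1} := (EtCoh.stalk ξ).obj H
  haveI : Finite M := hfin Ω ξ
  haveI : Finite ((EtCoh.stalk ξ).obj H) := hfin Ω ξ
  obtain ⟨W, w₀, s, hs⟩ := exists_common_lift H ξ
  let w : W.left := (w₀.left : Spec (CommRingCat.of Ω) ⟶ W.left) (default : Spec (CommRingCat.of Ω))
  have hw : W.hom w = ξ default := by
    have e1 : w₀.left ≫ W.hom = ξ := Over.w w₀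
    exact congrArg (fun m : Spec (CommRingCat.of Ω) ⟶ T => m default) e1
  have hwmax : ∀ z : W.left, z ⤳ w → z = w :=
    maximal_of_etale W w (by rw [hw]; exact hgen)
  -- an irreducible open neighbourhood
  haveI : Etale W.hom := W.prop
  haveI : IsLocallyNoetherian W.left :=
    @LocallyOfFiniteType.isLocallyNoetherian W.left T W.hom inferInstance ‹IsLocallyNoetherian T›
  obtain ⟨A₁, hA₁, hwA₁, -⟩ := exists_isAffineOpen_mem_and_subset (x := w)
    (U := (⊤ : W.left.Opens)) trivial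
  haveI : IsNoetherianRing Γ(W.left, A₁) := IsLocallyNoetherian.component_noetherian ⟨A₁, hA₁⟩
  haveI hN : NoetherianSpace ↥(A₁ : Set W.left) := noetherianSpace_of_isAffineOpen A₁ hA₁
  haveI hQ : QuasiSober ↥(A₁ : Set W.left) := inferInstanceAs (QuasiSober (A₁ : Scheme.{u}))
  obtain ⟨O, hO, hwO, hOsub⟩ := exists_open_subset_closure_of_maximal
    (⟨w, hwA₁⟩ : ↥(A₁ : Set W.left)) (by
      intro z hz
      exact Subtype.ext (hwmax z.1 ((subtype_specializes_iff z ⟨w, hwA₁⟩).mp hz)))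
  let A₂ : Set W.left := Subtype.val '' O
  have hA₂o : IsOpen A₂ := A₁.isOpen.isOpenMap_subtype_val O hO
  have hwA₂ : w ∈ A₂ := ⟨⟨w, hwA₁⟩, hwO, rfl⟩
  have hA₂sub : A₂ ⊆ closure {w} := by
    rintro _ ⟨z, hz, rfl⟩
    have h2 : (⟨w, hwA₁⟩ : ↥(A₁ : Set W.left)) ⤳ z := specializes_iff_mem_closure.2 (hOsub hz)
    exact specializes_iff_mem_closure.1 ((subtype_specializes_iff _ _).mp h2)
  -- the opens where the lifts are additive
  let B : M × M → Set W.left := fun p => agree H (s p.1 + s p.2) (s (p.1 + p.2))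
  have hB : ∀ p, IsOpen (B p) := fun p => isOpen_agree H _ _
  have hwB : ∀ p, w ∈ B p := by
    intro p
    refine (mem_agree_iff_germ H _ _ ξ w₀).mpr ?_
    rw [map_add, hs, hs, hs]
    rfl
  let A : W.left.Opens := ⟨A₂ ∩ ⋂ p, B p, hA₂o.inter (isOpen_iInter_of_finite hB)⟩
  have hwA : w ∈ A := ⟨hwA₂, Set.mem_iInter.2 hwB⟩
  let U : T.Etale := opn W A
  let j : U ⟶ W := opnι W A
  have hjA : ∀ v : U.left, j.left v ∈ (A : Set W.left) := fun v => by
    rw [← range_opnι W A]; exact ⟨v, rfl⟩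
  -- the geometric point lifts to `U`
  have hrange : Set.range (w₀.left : Spec (CommRingCat.of Ω) ⟶ W.left) ⊆ (A : Set W.left) := by
    rw [range_eq_singleton]
    exact Set.singleton_subset_iff.2 hwA
  let l : Spec (CommRingCat.of Ω) ⟶ (A : Scheme.{u}) :=
    IsOpenImmersion.lift (X := (A : Scheme.{u})) (Y := Spec (CommRingCat.of Ω)) (Z := W.left)
      A.ι w₀.left (by rw [Scheme.Opens.range_ι]; exact hrange)
  have hl : l ≫ A.ι = w₀.left :=
    IsOpenImmersion.lift_fac (X := (A : Scheme.{u})) (Y := Spec (CommRingCat.of Ω)) (Z := W.left)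
      A.ι w₀.left _
  let u₀ : Φ.fiber.obj U := Over.homMk l (by
    change l ≫ A.ι ≫ W.hom = ξ
    rw [← Category.assoc, hl]
    exact Over.w w₀)
  have hu₀ : Φ.fiber.map j u₀ = w₀ := by
    apply Over.OverMorphism.ext
    exact hl
  let u : U.left := (u₀.left : Spec (CommRingCat.of Ω) ⟶ U.left) (default : Spec (CommRingCat.of Ω))
  have hju : j.left u = w :=
    congrArg (fun m : Spec (CommRingCat.of Ω) ⟶ W.left => m default) hl
  -- the trivializing homomorphism
  have hadd : ∀ m m' : M, H.obj.map j.op (s (m + m')) =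
      H.obj.map j.op (s m) + H.obj.map j.op (s m') := by
    intro m m'
    rw [← map_add]
    symm
    apply eq_of_agree_eq_univ H
    intro v
    rw [mem_agree_map_iff]
    exact Set.mem_iInter.1 (hjA v).2 (m, m')
  let t : M ⟶ H.obj.obj (op U) :=
    AddCommGrpCat.ofHom (AddMonoidHom.mk' (fun m => H.obj.map j.op (s m)) hadd)
  have ht_apply : ∀ m, t m = H.obj.map j.op (s m) := fun m => rfl
  have hgerm : ∀ m, Φ.toPresheafFiber U u₀ H.obj (t m) = m := by
    intro m
    rw [ht_apply]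
    have e1 := Φ.toPresheafFiber_w_apply j u₀ H.obj (s m)
    rw [hu₀] at e1
    exact e1.trans (hs m)
  -- `u` is the generic point of `U`
  have hugen : ∀ O' : Set U.left, IsOpen O' → O'.Nonempty → u ∈ O' := by
    rintro O' hO' ⟨v, hv⟩
    have h1 : j.left v ∈ closure {w} := hA₂sub (hjA v).1
    have h2 : w ⤳ j.left v := specializes_iff_mem_closure.2 h1
    rw [← hju] at h2
    have h3 : u ⤳ v := (A.ι.isEmbedding.isInducing.specializes_iff).1 h2
    exact h3.mem_open hO' hv
  have hinj : ∀ (Y : T.Etale) (f : Y ⟶ U) (m m' : M),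
      H.obj.map f.op (t m) = H.obj.map f.op (t m') → Nonempty Y.left → m = m' := by
    rintro Y f m m' hmm ⟨y⟩
    have h1 : f.left y ∈ agree H (t m) (t m') := ⟨Y, f, y, rfl, hmm⟩
    have h2 : u ∈ agree H (t m) (t m') := hugen _ (isOpen_agree H _ _) ⟨_, h1⟩
    have h3 := (mem_agree_iff_germ H (t m) (t m') ξ u₀).mp h2
    rw [hgerm, hgerm] at h3
    exact h3
  refine ⟨U, u, ?_, M, inferInstance, t, ⟨?_, ?_⟩⟩
  · have e1 : u₀.left ≫ U.hom = ξ := Over.w u₀
    exact congrArg (fun m : Spec (CommRingCat.of Ω) ⟶ T => m default) e1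
  · intro Y f m m' hmm
    by_cases hY : IsEmpty Y.left
    · exact Or.inr (Groth.Agent.Lib.T2H8.LocTrivPull.bot_mem_of_isEmpty Y hY)
    · rw [not_isEmpty_iff] at hY
      exact Or.inl (hinj Y f m m' hmm hY)
  · intro Y f z
    rw [mem_smallEtale_iff]
    intro p
    obtain ⟨Ω', _, _, ξ', hξ', hc⟩ := hcard (Y.hom p)
    have h0 : Y.hom p = ξ' default := by
      have : ξ' default ∈ Set.range ξ' := ⟨default, rfl⟩
      rw [hξ'] at this
      exact this.symm
    haveI : Etale Y.hom := Y.prop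
    obtain ⟨l', hl'1, hl'2⟩ := Scheme.exists_fac_of_etale_of_isSepClosed Y.hom ξ' p h0
    let Φ' := Scheme.pointSmallEtale ξ'
    let y₀ : Φ'.fiber.obj Y := Over.homMk l' hl'1
    let ψ : M → ((EtCoh.stalk ξ').obj H) := fun m =>
      Φ'.toPresheafFiber Y y₀ H.obj (H.obj.map f.op (t m))
    have hψinj : Function.Injective ψ := by
      intro m m' h
      obtain ⟨Z, g, z₁, hz₁, hg⟩ := (Φ'.toPresheafFiber_eq_iff' Y y₀ _ _).mp h
      rw [map_map_apply, map_map_apply] at hg
      exact hinj Z (g ≫ f) m m' hg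
        ⟨(z₁.left : Spec (CommRingCat.of Ω') ⟶ Z.left) (default : Spec (CommRingCat.of Ω'))⟩
    haveI : Finite ((EtCoh.stalk ξ').obj H) := hfin Ω' ξ'
    have hψbij : Function.Bijective ψ := hψinj.bijective_of_nat_card_le hc
    obtain ⟨m, hm⟩ := hψbij.2 (Φ'.toPresheafFiber Y y₀ H.obj z)
    obtain ⟨Z, g, z₁, hz₁, hg⟩ := (Φ'.toPresheafFiber_eq_iff' Y y₀ _ _).mp hm
    refine ⟨Z, g, (z₁.left : Spec (CommRingCat.of Ω') ⟶ Z.left) (default : Spec (CommRingCat.of Ω')), ⟨m, ?_⟩, ?_⟩
    · rw [← hg, map_map_apply]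
    · have e3 : z₁.left ≫ g.left = y₀.left := congrArg (fun m => m.left) hz₁
      rw [← hl'2]
      exact congrArg (fun m : Spec (CommRingCat.of Ω') ⟶ Y.left => m default) e3


end Generic

section Main
open Groth.Agent.Lib.T2H8.Constr Groth.Agent.Lib.T2H8.ConstrNoeth Groth.Agent.Lib.T2H8.FLCPull

variable {X : Scheme.{u}}

/-- the geometric point at `x` with the separable closure of the residue field -/
noncomputable def geomPt (x : X) :
    Spec (CommRingCat.of (SeparableClosure (X.residueField x))) ⟶ X :=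
  Spec.map (CommRingCat.ofHom (algebraMap (X.residueField x)
    (SeparableClosure (X.residueField x)))) ≫ X.fromSpecResidueField x

lemma geomPt_default (x : X) : geomPt x default = x := by
  dsimp only [geomPt]
  rw [Scheme.Hom.comp_apply]
  exact Scheme.fromSpecResidueField_apply _ _

set_option backward.isDefEq.respectTransparency.types false in
/-- the pointwise datum from injectivity of the specialization maps -/
theorem goodAt_of_mono [IsLocallyNoetherian X] (F : EtCoh.Ab X)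
    (hfin : ∀ (Ω : Type u) [Field Ω] [IsSepClosed Ω] (ξ : Spec (CommRingCat.of Ω) ⟶ X),
      Finite ((EtCoh.stalk ξ).obj F))
    (hmono : ∀ (Ω Ω' : Type u) [Field Ω] [IsSepClosed Ω] [Field Ω'] [IsSepClosed Ω']
        (ξ : Spec (CommRingCat.of Ω) ⟶ X) (ξ' : Spec (CommRingCat.of Ω') ⟶ X)
        (φ : Scheme.pointSmallEtale ξ' ⟶ Scheme.pointSmallEtale ξ),
        Function.Injective
          ((GrothendieckTopology.Point.Hom.sheafFiber (A := AddCommGrpCat.{u + 1}) φ).app F))
    (x : X) : GoodAt F x := by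
  let Ω := SeparableClosure (X.residueField x)
  let ξ₀ : Spec (CommRingCat.of Ω) ⟶ X := geomPt x
  have hξ₀ : ξ₀ default = x := geomPt_default x
  let V : X.Opens := ⊤
  have hxV : x ∈ V := trivial
  let V' : X.Opens := ⟨(closure {x})ᶜ, isClosed_closure.isOpen_compl⟩
  obtain ⟨T, g, hg, hgr⟩ := exists_immersion_range_sdiff V V'
  haveI := hg
  have hrange : Set.range g.base = (V : Set X) ∩ closure {x} := by
    change Set.range g = _
    rw [hgr]
    ext p
    constructor
    · rintro ⟨hpV, hpn⟩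
      exact ⟨hpV, by by_contra hc; exact hpn hc⟩
    · rintro ⟨hpV, hpc⟩
      exact ⟨hpV, fun hn => hn hpc⟩
  haveI : IsLocallyNoetherian T := LocallyOfFiniteType.isLocallyNoetherian g
  have hxr : x ∈ Set.range g.base := by
    rw [hrange]
    exact ⟨hxV, subset_closure rfl⟩
  obtain ⟨η, hη⟩ := hxr
  obtain ⟨ξ, hξ⟩ := exists_lift_of_surjectiveOnStalks g ξ₀ η (hξ₀.trans hη.symm)
  have hξη : ξ default = η := by
    apply g.isEmbedding.injective
    have : (ξ ≫ g) default = x := by rw [hξ]; exact hξ₀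
    exact this.trans hη.symm
  let H := (EtCoh.pull g).obj F
  have hcardH : ∀ {Ω' : Type u} [Field Ω'] [IsSepClosed Ω'] (ξ' : Spec (CommRingCat.of Ω') ⟶ T),
      Nat.card ((EtCoh.stalk ξ').obj H) = Nat.card ((EtCoh.stalk (ξ' ≫ g)).obj F) := by
    intro Ω' _ _ ξ'
    exact Nat.card_congr
      ((Groth.Agent.S0101.stalkPullIso g ξ').app F).symm.addCommGroupIsoToAddEquiv.toEquiv
  have hgen : ∀ z : T, z ⤳ ξ default → z = ξ default := by
    intro z hz
    rw [hξη] at hz ⊢
    apply g.isEmbedding.injective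
    have h1 : g.base z ⤳ g.base η := hz.map g.continuous
    have h2 : g.base z ∈ closure {x} := by
      have : g.base z ∈ Set.range g.base := ⟨z, rfl⟩
      rw [hrange] at this
      exact this.2
    have h3 : g.base η ⤳ g.base z := by
      change g η ⤳ g z
      rw [hη]
      exact specializes_iff_mem_closure.2 h2
    exact (h1.antisymm h3).eq
  have hfinH : ∀ (Ω' : Type u) [Field Ω'] [IsSepClosed Ω'] (ξ' : Spec (CommRingCat.of Ω') ⟶ T),
      Finite ((EtCoh.stalk ξ').obj H) := by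
    intro Ω' _ _ ξ'
    haveI := hfin Ω' (ξ' ≫ g)
    exact Finite.of_equiv _
      ((Groth.Agent.S0101.stalkPullIso g ξ').app F).addCommGroupIsoToAddEquiv.toEquiv
  have hcard : ∀ y : T, ∃ (Ω' : Type u) (_ : Field Ω') (_ : IsSepClosed Ω')
      (ξ' : Spec (CommRingCat.of Ω') ⟶ T), Set.range ξ' = {y} ∧
        Nat.card ((EtCoh.stalk ξ').obj H) ≤ Nat.card ((EtCoh.stalk ξ).obj H) := by
    intro y
    let Ω' := SeparableClosure (X.residueField (g y))
    let ξ'' : Spec (CommRingCat.of Ω') ⟶ X := geomPt (g y)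
    have h0 : ξ'' default = g y := geomPt_default (g y)
    obtain ⟨ξ', hξ'⟩ := exists_lift_of_surjectiveOnStalks g ξ'' y h0
    refine ⟨Ω', inferInstance, inferInstance, ξ', ?_, ?_⟩
    · rw [range_eq_singleton]
      have h1 : (ξ' ≫ g) default = g y := by rw [hξ']; exact h0
      have : ξ' default = y := g.isEmbedding.injective h1
      rw [this]
    · rw [hcardH ξ', hcardH ξ]
      have hsp : (ξ ≫ g) default ⤳ (ξ' ≫ g) default := by
        rw [hξ, hξ', hξ₀, h0]
        have : g y ∈ closure {x} := by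
          have : g y ∈ Set.range g.base := ⟨y, rfl⟩
          rw [hrange] at this
          exact this.2
        exact specializes_iff_mem_closure.2 this
      obtain ⟨φ, -⟩ := exists_arrow (σ := ξ' ≫ g) (ζ := ξ ≫ g) hsp
      haveI := hfin Ω (ξ ≫ g)
      exact Nat.card_le_card_of_injective _ (hmono Ω' Ω (ξ' ≫ g) (ξ ≫ g) φ)
  obtain ⟨U, u, hu, M, hM, t, ht⟩ := exists_isTriv_of_card_le H ξ hgen hfinH hcard
  haveI : Etale U.hom := U.prop
  refine goodAt_of_open_finTrivAt F x V T g hxV hrange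
    ⟨Set.range U.hom, U.hom.isOpenMap.isOpen_range⟩ ⟨U.hom u, u, rfl⟩ ?_
  rintro _ ⟨u', rfl⟩
  exact ⟨U, u', rfl, M, hM, t, ht⟩

/-- **injective specialization maps and finite stalks give constructibility** -/
theorem main [IsLocallyNoetherian X] (F : EtCoh.Ab X)
    (hfin : ∀ (Ω : Type u) [Field Ω] [IsSepClosed Ω] (ξ : Spec (CommRingCat.of Ω) ⟶ X),
      Finite ((EtCoh.stalk ξ).obj F))
    (hmono : ∀ (Ω Ω' : Type u) [Field Ω] [IsSepClosed Ω] [Field Ω'] [IsSepClosed Ω']
        (ξ : Spec (CommRingCat.of Ω) ⟶ X) (ξ' : Spec (CommRingCat.of Ω') ⟶ X)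
        (φ : Scheme.pointSmallEtale ξ' ⟶ Scheme.pointSmallEtale ξ),
        Mono ((GrothendieckTopology.Point.Hom.sheafFiber (A := AddCommGrpCat.{u + 1}) φ).app F)) :
    EtPBC.IsConstructible F := by
  rw [constructible_iff_goodAt]
  intro x
  refine goodAt_of_mono F hfin ?_ x
  intro Ω Ω' _ _ _ _ ξ ξ' φ
  exact (AddCommGrpCat.mono_iff_injective _).1 (hmono Ω Ω' ξ ξ' φ)

end Main

end Groth.Agent.Lib.T2H8.SpecMono
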