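import Mathlib
import Groth.Prelude.Def_EtBase
import Groth.Prelude.Def_PBC
import Groth.Agent.Lib.T2H8SpecMono

/-!
# Finite locally constant sheaves and specialization isomorphisms (helper8)
-/

set_option autoImplicit false
set_option linter.unusedSectionVars false
set_option linter.style.haveILetI false
universe u
open CategoryTheory CategoryTheory.Limits Opposite AlgebraicGeometry TopologicalSpace

namespace Groth.Agent.Lib.T2H8.SpecIso
open Groth.Agent.Lib.T2H8.FLC Groth.Agent.Lib.T2H8.LocTriv Groth.Agent.Lib.T2H8.FLCSerre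
open Groth.Agent.Lib.Helper16.SmallEtale Groth.Agent.Lib.Helper16.EtStalk
open Groth.Agent.Lib.T2H8.Supp Groth.Agent.Lib.T2H8AgreeAb Groth.Agent.Lib.T2H8.StalkCard
open Groth.Agent.Lib.T2H8.SpecArrow Groth.Agent.Lib.T2H8.SpecMono


section Top

variable {Y : Type*} [TopologicalSpace Y]

/-- in a Noetherian sober space every point has an open neighbourhood all of whose points share a
generization with it -/
theorem exists_open_common_generization [NoetherianSpace Y] [QuasiSober Y] (y : Y) :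
    ∃ O : Set Y, IsOpen O ∧ y ∈ O ∧ ∀ z ∈ O, ∃ e ∈ O, e ⤳ z ∧ e ⤳ y := by
  classical
  obtain ⟨S, hS, hZS⟩ := NoetherianSpace.exists_finset_irreducible (⊤ : Closeds Y)
  have hmem : ∀ z : Y, ∃ t ∈ S, z ∈ (t : Set Y) := by
    intro z
    have hz : z ∈ ((⊤ : Closeds Y) : Set Y) := trivial
    rw [hZS, Closeds.coe_finset_sup] at hz
    simpa only [Finset.sup_set_eq_biUnion, Function.comp_apply, id_eq,
      Set.mem_iUnion, exists_prop] using hz
  let O : Set Y := (⋃ t ∈ S.filter (fun t : Closeds Y => y ∉ (t : Set Y)), ((t : Closeds Y) : Set Y))ᶜ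
  have hO : IsOpen O := by
    have hcl : IsClosed (⋃ t ∈ S.filter (fun t : Closeds Y => y ∉ (t : Set Y)), ((t : Closeds Y) : Set Y)) :=
      Set.Finite.isClosed_biUnion (S.filter _).finite_toSet (fun t _ => t.isClosed)
    exact hcl.isOpen_compl
  refine ⟨O, hO, ?_, ?_⟩
  · intro hyO
    obtain ⟨t, ht⟩ := Set.mem_iUnion.1 hyO
    obtain ⟨htS, hyt⟩ := Set.mem_iUnion.1 ht
    exact (Finset.mem_filter.1 htS).2 hyt
  · intro z hzO
    obtain ⟨t, htS, hzt⟩ := hmem z
    have hyt : y ∈ (t : Set Y) := by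
      by_contra hyt
      exact hzO (Set.mem_iUnion.2 ⟨t, Set.mem_iUnion.2 ⟨Finset.mem_filter.2 ⟨htS, hyt⟩, hzt⟩⟩)
    have hirr : IsIrreducible (t : Set Y) := hS ⟨t, htS⟩
    let x := hirr.genericPoint
    have hx : closure {x} = (t : Set Y) := hirr.isGenericPoint_genericPoint t.isClosed
    have hxy : x ⤳ y := by
      rw [specializes_iff_mem_closure, hx]
      exact hyt
    have hxz : x ⤳ z := by
      rw [specializes_iff_mem_closure, hx]
      exact hzt
    refine ⟨x, ?_, hxz, hxy⟩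
    intro hxO
    obtain ⟨t', ht'⟩ := Set.mem_iUnion.1 hxO
    obtain ⟨ht'S, hxt'⟩ := Set.mem_iUnion.1 ht'
    have h1 : closure {x} ⊆ (t' : Set Y) :=
      closure_minimal (Set.singleton_subset_iff.2 hxt') t'.isClosed
    exact (Finset.mem_filter.1 ht'S).2 (h1 (specializes_iff_mem_closure.1 hxy))

end Top

variable {X : Scheme.{u}} {Ω Ω' : Type u} [Field Ω] [IsSepClosed Ω] [Field Ω'] [IsSepClosed Ω']

/-- the effect of a specialization arrow on germs -/
lemma sheafFiber_germ (F : EtCoh.Ab X) {ξ : Spec (CommRingCat.of Ω) ⟶ X}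
    {ξ' : Spec (CommRingCat.of Ω') ⟶ X}
    (φ : Scheme.pointSmallEtale ξ' ⟶ Scheme.pointSmallEtale ξ) (U : X.Etale)
    (u₀ : (Scheme.pointSmallEtale ξ).fiber.obj U) (s : F.obj.obj (op U)) :
    (GrothendieckTopology.Point.Hom.sheafFiber (A := AddCommGrpCat.{u + 1}) φ).app F
      ((Scheme.pointSmallEtale ξ).toPresheafFiber U u₀ F.obj s) =
      (Scheme.pointSmallEtale ξ').toPresheafFiber U (φ.hom.app U u₀) F.obj s := by
  have h := (Scheme.pointSmallEtale ξ).toPresheafFiber_presheafFiberDesc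
    (P := F.obj) (fun X x => (Scheme.pointSmallEtale ξ').toPresheafFiber X (φ.hom.app X x) F.obj)
    (by
      intro X Y f x
      have := (Scheme.pointSmallEtale ξ').toPresheafFiber_w f (φ.hom.app X x) F.obj
      refine this.trans ?_
      congr 1
      exact (NatTrans.naturality_apply φ.hom f x).symm) U u₀
  exact ConcreteCategory.congr_hom h s

set_option backward.isDefEq.respectTransparency.types false in
/-- specialization maps of a finite locally constant sheaf are bijective -/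
theorem bijective_of_finTrivAt (F : EtCoh.Ab X) {ξ : Spec (CommRingCat.of Ω) ⟶ X}
    {ξ' : Spec (CommRingCat.of Ω') ⟶ X} (hF : FinTrivAt F (ξ default))
    (φ : Scheme.pointSmallEtale ξ' ⟶ Scheme.pointSmallEtale ξ) :
    Function.Bijective
      ((GrothendieckTopology.Point.Hom.sheafFiber (A := AddCommGrpCat.{u + 1}) φ).app F) := by
  obtain ⟨U, u, hu, M, hM, t, ht⟩ := hF
  haveI : Etale U.hom := U.prop
  obtain ⟨l, hl1, hl2⟩ := Scheme.exists_fac_of_etale_of_isSepClosed U.hom ξ u hu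
  let u₀ : (Scheme.pointSmallEtale ξ).fiber.obj U := Over.homMk l hl1
  let u₀' : (Scheme.pointSmallEtale ξ').fiber.obj U := φ.hom.app U u₀
  let sf := (GrothendieckTopology.Point.Hom.sheafFiber (A := AddCommGrpCat.{u + 1}) φ).app F
  have key : ∀ m : M, sf ((Scheme.pointSmallEtale ξ).toPresheafFiber U u₀ F.obj (t m)) =
      (Scheme.pointSmallEtale ξ').toPresheafFiber U u₀' F.obj (t m) :=
    fun m => sheafFiber_germ F φ U u₀ (t m)
  constructor
  · intro a b hab
    obtain ⟨m, rfl⟩ := Groth.Agent.Lib.T2H8.LocTrivPull.germ_surjective ht ξ u₀ a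
    obtain ⟨m', rfl⟩ := Groth.Agent.Lib.T2H8.LocTrivPull.germ_surjective ht ξ u₀ b
    have h1 : (Scheme.pointSmallEtale ξ').toPresheafFiber U u₀' F.obj (t m) =
        (Scheme.pointSmallEtale ξ').toPresheafFiber U u₀' F.obj (t m') :=
      (key m).symm.trans (hab.trans (key m'))
    rw [germ_injective ht ξ' u₀' m m' h1]
  · intro b
    obtain ⟨m, rfl⟩ := Groth.Agent.Lib.T2H8.LocTrivPull.germ_surjective ht ξ' u₀' b
    exact ⟨_, key m⟩

/-- **specialization maps of a finite locally constant sheaf are isomorphisms** -/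
theorem isIso_of_flc (F : EtCoh.Ab X) (hF : EtCoh.IsFiniteLocallyConstant F)
    (ξ : Spec (CommRingCat.of Ω) ⟶ X) (ξ' : Spec (CommRingCat.of Ω') ⟶ X)
    (φ : Scheme.pointSmallEtale ξ' ⟶ Scheme.pointSmallEtale ξ) :
    IsIso ((GrothendieckTopology.Point.Hom.sheafFiber (A := AddCommGrpCat.{u + 1}) φ).app F) := by
  rw [ConcreteCategory.isIso_iff_bijective]
  exact bijective_of_finTrivAt F (finTrivAt_of_flc F hF _) φ

section Core

variable {Ω₀ : Type u} [Field Ω₀] [IsSepClosed Ω₀]

set_option backward.isDefEq.respectTransparency.types false in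
/-- germs at a point are detected at a common generization, special form -/
theorem inj_core_aux (F : EtCoh.Ab X)
    (hinj : ∀ (Ω Ω' : Type u) [Field Ω] [IsSepClosed Ω] [Field Ω'] [IsSepClosed Ω']
        (ξ : Spec (CommRingCat.of Ω) ⟶ X) (ξ' : Spec (CommRingCat.of Ω') ⟶ X)
        (φ : Scheme.pointSmallEtale ξ' ⟶ Scheme.pointSmallEtale ξ),
        Function.Injective
          ((GrothendieckTopology.Point.Hom.sheafFiber (A := AddCommGrpCat.{u + 1}) φ).app F))
    (U : X.Etale) (σU : Spec (CommRingCat.of Ω₀) ⟶ U.left) (a b : F.obj.obj (op U))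
    (e v : U.left) (hev : e ⤳ v) (heu : e ⤳ σU default) (hv : v ∈ agree F a b) :
    (Scheme.pointSmallEtale (σU ≫ U.hom)).toPresheafFiber U (Over.homMk σU rfl) F.obj a =
      (Scheme.pointSmallEtale (σU ≫ U.hom)).toPresheafFiber U (Over.homMk σU rfl) F.obj b := by
  let Ω'' := SeparableClosure (U.left.residueField e)
  let ζU : Spec (CommRingCat.of Ω'') ⟶ U.left := geomPt e
  have hζ : ζU default = e := geomPt_default e
  obtain ⟨φ, hφ⟩ := exists_arrow_through U σU ζU (by rw [hζ]; exact heu)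
  let u₀ : (Scheme.pointSmallEtale (σU ≫ U.hom)).fiber.obj U := Over.homMk σU rfl
  let u₀' : (Scheme.pointSmallEtale (ζU ≫ U.hom)).fiber.obj U := φ.hom.app U u₀
  have he : e ∈ agree F a b := hev.mem_open (isOpen_agree F a b) hv
  have h1 : (u₀'.left : Spec (CommRingCat.of Ω'') ⟶ U.left)
      (default : Spec (CommRingCat.of Ω'')) ∈ agree F a b := by
    have h0 : (u₀'.left : Spec (CommRingCat.of Ω'') ⟶ U.left) = ζU := hφ
    have h0' : (u₀'.left : Spec (CommRingCat.of Ω'') ⟶ U.left)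
        (default : Spec (CommRingCat.of Ω'')) = e :=
      (congrArg (fun q : Spec (CommRingCat.of Ω'') ⟶ U.left =>
        q (default : Spec (CommRingCat.of Ω''))) h0).trans hζ
    exact h0'.symm ▸ he
  have h2 := (mem_agree_iff_germ F a b (ζU ≫ U.hom) u₀').mp h1
  rw [← sheafFiber_germ F φ U u₀ a, ← sheafFiber_germ F φ U u₀ b] at h2
  exact hinj _ _ _ _ φ h2

set_option backward.isDefEq.respectTransparency.types false in
/-- germs at a point are detected at a common generization -/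
theorem inj_core (F : EtCoh.Ab X)
    (hinj : ∀ (Ω Ω' : Type u) [Field Ω] [IsSepClosed Ω] [Field Ω'] [IsSepClosed Ω']
        (ξ : Spec (CommRingCat.of Ω) ⟶ X) (ξ' : Spec (CommRingCat.of Ω') ⟶ X)
        (φ : Scheme.pointSmallEtale ξ' ⟶ Scheme.pointSmallEtale ξ),
        Function.Injective
          ((GrothendieckTopology.Point.Hom.sheafFiber (A := AddCommGrpCat.{u + 1}) φ).app F))
    (U : X.Etale) (ξ : Spec (CommRingCat.of Ω₀) ⟶ X)
    (u₀ : (Scheme.pointSmallEtale ξ).fiber.obj U) (a b : F.obj.obj (op U))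
    (e v : U.left) (hev : e ⤳ v)
    (heu : e ⤳ (u₀.left : Spec (CommRingCat.of Ω₀) ⟶ U.left)
      (default : Spec (CommRingCat.of Ω₀)))
    (hv : v ∈ agree F a b) :
    (Scheme.pointSmallEtale ξ).toPresheafFiber U u₀ F.obj a =
      (Scheme.pointSmallEtale ξ).toPresheafFiber U u₀ F.obj b := by
  have key : ∀ (σU : Spec (CommRingCat.of Ω₀) ⟶ U.left) (hσ : σU ≫ U.hom = ξ)
      (_ : e ⤳ σU (default : Spec (CommRingCat.of Ω₀))),
      (Scheme.pointSmallEtale ξ).toPresheafFiber U (Over.homMk σU hσ) F.obj a =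
        (Scheme.pointSmallEtale ξ).toPresheafFiber U (Over.homMk σU hσ) F.obj b := by
    intro σU hσ h
    subst hσ
    exact inj_core_aux F hinj U σU a b e v hev h hv
  exact key u₀.left (Over.w u₀) heu

end Core

section Main

open Groth.Agent.Lib.T2H8EtZarSheaf Groth.Agent.Lib.T2H8.ConstrSub in
set_option backward.isDefEq.respectTransparency.types false in
/-- **bijective specialization maps and finite stalks give local triviality** -/
theorem finTrivAt_of_bij [IsLocallyNoetherian X] (F : EtCoh.Ab X)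
    (hfin : ∀ (Ω : Type u) [Field Ω] [IsSepClosed Ω] (ξ : Spec (CommRingCat.of Ω) ⟶ X),
      Finite ((EtCoh.stalk ξ).obj F))
    (hbij : ∀ (Ω Ω' : Type u) [Field Ω] [IsSepClosed Ω] [Field Ω'] [IsSepClosed Ω']
        (ξ : Spec (CommRingCat.of Ω) ⟶ X) (ξ' : Spec (CommRingCat.of Ω') ⟶ X)
        (φ : Scheme.pointSmallEtale ξ' ⟶ Scheme.pointSmallEtale ξ),
        Function.Bijective
          ((GrothendieckTopology.Point.Hom.sheafFiber (A := AddCommGrpCat.{u + 1}) φ).app F))
    (x : X) : FinTrivAt F x := by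
  classical
  let Ω := SeparableClosure (X.residueField x)
  let ξ : Spec (CommRingCat.of Ω) ⟶ X := geomPt x
  have hξx : ξ default = x := geomPt_default x
  let Φ := Scheme.pointSmallEtale ξ
  let M : AddCommGrpCat.{u + 1} := (EtCoh.stalk ξ).obj F
  haveI : Finite M := hfin Ω ξ
  haveI : Finite ((EtCoh.stalk ξ).obj F) := hfin Ω ξ
  obtain ⟨W, w₀, s, hs⟩ := exists_common_lift F ξ
  let w : W.left := (w₀.left : Spec (CommRingCat.of Ω) ⟶ W.left) (default : Spec (CommRingCat.of Ω))
  have hw : W.hom w = ξ default := by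
    have e1 : w₀.left ≫ W.hom = ξ := Over.w w₀
    exact congrArg (fun m : Spec (CommRingCat.of Ω) ⟶ X => m default) e1
  haveI : Etale W.hom := W.prop
  haveI : IsLocallyNoetherian W.left :=
    @LocallyOfFiniteType.isLocallyNoetherian W.left X W.hom inferInstance ‹IsLocallyNoetherian X›
  obtain ⟨A₁, hA₁, hwA₁, -⟩ := exists_isAffineOpen_mem_and_subset (x := w)
    (U := (⊤ : W.left.Opens)) trivial
  haveI : IsNoetherianRing Γ(W.left, A₁) := IsLocallyNoetherian.component_noetherian ⟨A₁, hA₁⟩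
  haveI hN : NoetherianSpace ↥(A₁ : Set W.left) := noetherianSpace_of_isAffineOpen A₁ hA₁
  haveI hQ : QuasiSober ↥(A₁ : Set W.left) := inferInstanceAs (QuasiSober (A₁ : Scheme.{u}))
  obtain ⟨O, hO, hwO, hOgen⟩ := exists_open_common_generization
    (⟨w, hwA₁⟩ : ↥(A₁ : Set W.left))
  let A₂ : Set W.left := Subtype.val '' O
  have hA₂o : IsOpen A₂ := A₁.isOpen.isOpenMap_subtype_val O hO
  have hwA₂ : w ∈ A₂ := ⟨⟨w, hwA₁⟩, hwO, rfl⟩
  have hA₂gen : ∀ z ∈ A₂, ∃ e ∈ A₂, e ⤳ z ∧ e ⤳ w := by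
    rintro _ ⟨z, hz, rfl⟩
    obtain ⟨e, heO, hez, hew⟩ := hOgen z hz
    exact ⟨e.1, ⟨e, heO, rfl⟩, (subtype_specializes_iff _ _).mp hez,
      (subtype_specializes_iff e ⟨w, hwA₁⟩).mp hew⟩
  -- the opens where the lifts are additive
  let B : M × M → Set W.left := fun p => agree F (s p.1 + s p.2) (s (p.1 + p.2))
  have hB : ∀ p, IsOpen (B p) := fun p => isOpen_agree F _ _
  have hwB : ∀ p, w ∈ B p := by
    intro p
    refine (mem_agree_iff_germ F _ _ ξ w₀).mpr ?_
    rw [map_add, hs, hs, hs]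
    rfl
  let A : W.left.Opens := ⟨A₂ ∩ ⋂ p, B p, hA₂o.inter (isOpen_iInter_of_finite hB)⟩
  have hwA : w ∈ A := ⟨hwA₂, Set.mem_iInter.2 hwB⟩
  let U : X.Etale := opn W A
  let j : U ⟶ W := opnι W A
  have hjA : ∀ v : U.left, j.left v ∈ (A : Set W.left) := fun v => by
    rw [← range_opnι W A]; exact ⟨v, rfl⟩
  have hrange : Set.range (w₀.left : Spec (CommRingCat.of Ω) ⟶ W.left) ⊆ (A : Set W.left) := by
    rw [range_eq_singleton]
    exact Set.singleton_subset_iff.2 hwA
  let l : Spec (CommRingCat.of Ω) ⟶ (A : Scheme.{u}) :=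
    IsOpenImmersion.lift (X := (A : Scheme.{u})) (Y := Spec (CommRingCat.of Ω)) (Z := W.left)
      A.ι w₀.left (by rw [Scheme.Opens.range_ι]; exact hrange)
  have hl : l ≫ A.ι = w₀.left :=
    IsOpenImmersion.lift_fac (X := (A : Scheme.{u})) (Y := Spec (CommRingCat.of Ω)) (Z := W.left)
      A.ι w₀.left _
  let u₀ : Φ.fiber.obj U := Over.homMk l (by
    change l ≫ A.ι ≫ W.hom = ξ
    rw [← Category.assoc, hl]
    exact Over.w w₀)
  have hu₀ : Φ.fiber.map j u₀ = w₀ := by
    apply Over.OverMorphism.ext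
    exact hl
  let u : U.left := (u₀.left : Spec (CommRingCat.of Ω) ⟶ U.left) (default : Spec (CommRingCat.of Ω))
  have hju : j.left u = w :=
    congrArg (fun m : Spec (CommRingCat.of Ω) ⟶ W.left => m default) hl
  have hUu : U.hom u = x := by
    have e1 : u₀.left ≫ U.hom = ξ := Over.w u₀
    exact (congrArg (fun m : Spec (CommRingCat.of Ω) ⟶ X => m default) e1).trans hξx
  -- the trivializing homomorphism
  have hadd : ∀ m m' : M, F.obj.map j.op (s (m + m')) =
      F.obj.map j.op (s m) + F.obj.map j.op (s m') := by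
    intro m m'
    rw [← map_add]
    symm
    apply eq_of_agree_eq_univ F
    intro v
    rw [mem_agree_map_iff]
    exact Set.mem_iInter.1 (hjA v).2 (m, m')
  let t : M ⟶ F.obj.obj (op U) :=
    AddCommGrpCat.ofHom (AddMonoidHom.mk' (fun m => F.obj.map j.op (s m)) hadd)
  have ht_apply : ∀ m, t m = F.obj.map j.op (s m) := fun m => rfl
  have hgerm : ∀ m, Φ.toPresheafFiber U u₀ F.obj (t m) = m := by
    intro m
    rw [ht_apply]
    have e1 := Φ.toPresheafFiber_w_apply j u₀ F.obj (s m)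
    rw [hu₀] at e1
    exact e1.trans (hs m)
  -- common generizations in `U`
  have hgenU : ∀ v : U.left, ∃ e : U.left, e ⤳ v ∧ e ⤳ u := by
    intro v
    obtain ⟨e', he'A₂, he'v, he'w⟩ := hA₂gen (j.left v) (hjA v).1
    have he'A : e' ∈ (A : Set W.left) :=
      ⟨he'A₂, Set.mem_iInter.2 fun p => he'w.mem_open (hB p) (hwB p)⟩
    rw [← range_opnι W A] at he'A
    obtain ⟨e, rfl⟩ := he'A
    refine ⟨e, (A.ι.isEmbedding.isInducing.specializes_iff).1 he'v, ?_⟩
    rw [← hju] at he'w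
    exact (A.ι.isEmbedding.isInducing.specializes_iff).1 he'w
  have hinjF : ∀ (Ω Ω' : Type u) [Field Ω] [IsSepClosed Ω] [Field Ω'] [IsSepClosed Ω']
      (ξ : Spec (CommRingCat.of Ω) ⟶ X) (ξ' : Spec (CommRingCat.of Ω') ⟶ X)
      (φ : Scheme.pointSmallEtale ξ' ⟶ Scheme.pointSmallEtale ξ),
      Function.Injective
        ((GrothendieckTopology.Point.Hom.sheafFiber (A := AddCommGrpCat.{u + 1}) φ).app F) :=
    fun Ω Ω' _ _ _ _ ξ ξ' φ => (hbij Ω Ω' ξ ξ' φ).1
  have hinj : ∀ (Y : X.Etale) (f : Y ⟶ U) (m m' : M),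
      F.obj.map f.op (t m) = F.obj.map f.op (t m') → Nonempty Y.left → m = m' := by
    rintro Y f m m' hmm ⟨y⟩
    have h1 : f.left y ∈ agree F (t m) (t m') := ⟨Y, f, y, rfl, hmm⟩
    obtain ⟨e, hev, heu⟩ := hgenU (f.left y)
    have h3 := inj_core F hinjF U ξ u₀ (t m) (t m') e (f.left y) hev heu h1
    rw [hgerm, hgerm] at h3
    exact h3
  -- the stalk cardinality is constant on the image of `U`
  have hcard : ∀ v : U.left, Nat.card ((EtCoh.stalk (geomPt (U.hom v))).obj F) = Nat.card M := by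
    intro v
    obtain ⟨e, hev, heu⟩ := hgenU v
    haveI : Etale U.hom := U.prop
    let η := geomPt (U.hom e)
    have hη : η default = U.hom e := geomPt_default _
    have h1 : η default ⤳ (geomPt (U.hom v)) default := by
      rw [hη, geomPt_default]
      exact hev.map U.hom.continuous
    have h2 : η default ⤳ ξ default := by
      rw [hη, hξx, ← hUu]
      exact heu.map U.hom.continuous
    obtain ⟨φ₁, -⟩ := exists_arrow (σ := geomPt (U.hom v)) (ζ := η) h1
    obtain ⟨φ₂, -⟩ := exists_arrow (σ := ξ) (ζ := η) h2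
    have c1 := Nat.card_congr (Equiv.ofBijective _ (hbij _ _ _ _ φ₁))
    have c2 := Nat.card_congr (Equiv.ofBijective _ (hbij _ _ _ _ φ₂))
    exact c1.trans c2.symm
  refine ⟨U, u, hUu, M, inferInstance, t, ⟨?_, ?_⟩⟩
  · intro Y f m m' hmm
    by_cases hY : IsEmpty Y.left
    · exact Or.inr (Groth.Agent.Lib.T2H8.LocTrivPull.bot_mem_of_isEmpty Y hY)
    · rw [not_isEmpty_iff] at hY
      exact Or.inl (hinj Y f m m' hmm hY)
  · intro Y f z
    rw [mem_smallEtale_iff]
    intro p
    have hYp : Y.hom p = U.hom (f.left p) := by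
      have e1 : f.left ≫ U.hom = Y.hom := MorphismProperty.Over.w f
      rw [← e1]
      rfl
    let Ω' := SeparableClosure (X.residueField (U.hom (f.left p)))
    let ξ' : Spec (CommRingCat.of Ω') ⟶ X := geomPt (U.hom (f.left p))
    have h0 : Y.hom p = ξ' default := hYp.trans (geomPt_default _).symm
    haveI : Etale Y.hom := Y.prop
    obtain ⟨l', hl'1, hl'2⟩ := Scheme.exists_fac_of_etale_of_isSepClosed Y.hom ξ' p h0
    let Φ' := Scheme.pointSmallEtale ξ'
    let y₀ : Φ'.fiber.obj Y := Over.homMk l' hl'1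
    let ψ : M → ((EtCoh.stalk ξ').obj F) := fun m =>
      Φ'.toPresheafFiber Y y₀ F.obj (F.obj.map f.op (t m))
    have hψinj : Function.Injective ψ := by
      intro m m' h
      obtain ⟨Z, g, z₁, hz₁, hg⟩ := (Φ'.toPresheafFiber_eq_iff' Y y₀ _ _).mp h
      rw [map_map_apply, map_map_apply] at hg
      exact hinj Z (g ≫ f) m m' hg
        ⟨(z₁.left : Spec (CommRingCat.of Ω') ⟶ Z.left) (default : Spec (CommRingCat.of Ω'))⟩
    haveI : Finite ((EtCoh.stalk ξ').obj F) := hfin Ω' ξ'
    have hψbij : Function.Bijective ψ :=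
      hψinj.bijective_of_nat_card_le (le_of_eq (hcard (f.left p)))
    obtain ⟨m, hm⟩ := hψbij.2 (Φ'.toPresheafFiber Y y₀ F.obj z)
    obtain ⟨Z, g, z₁, hz₁, hg⟩ := (Φ'.toPresheafFiber_eq_iff' Y y₀ _ _).mp hm
    refine ⟨Z, g, (z₁.left : Spec (CommRingCat.of Ω') ⟶ Z.left) (default : Spec (CommRingCat.of Ω')), ⟨m, ?_⟩, ?_⟩
    · rw [← hg, map_map_apply]
    · have e3 : z₁.left ≫ g.left = y₀.left := congrArg (fun m => m.left) hz₁
      exact (congrArg (fun m : Spec (CommRingCat.of Ω') ⟶ Y.left => m default) e3).trans hl'2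

/-- **S3114**: on a locally noetherian scheme, an abelian sheaf with finite stalks is finite locally
constant iff all specialization maps are isomorphisms -/
theorem main (X : Scheme.{u}) [IsLocallyNoetherian X] (F : EtCoh.Ab X)
    (hfin : ∀ (Ω : Type u) [Field Ω] [IsSepClosed Ω] (ξ : Spec (CommRingCat.of Ω) ⟶ X),
      Finite ((EtCoh.stalk ξ).obj F)) :
    EtCoh.IsFiniteLocallyConstant F ↔
      ∀ (Ω Ω' : Type u) [Field Ω] [IsSepClosed Ω] [Field Ω'] [IsSepClosed Ω']
        (ξ : Spec (CommRingCat.of Ω) ⟶ X) (ξ' : Spec (CommRingCat.of Ω') ⟶ X)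
        (φ : Scheme.pointSmallEtale ξ' ⟶ Scheme.pointSmallEtale ξ),
        IsIso ((GrothendieckTopology.Point.Hom.sheafFiber (A := AddCommGrpCat.{u + 1}) φ).app F) := by
  constructor
  · intro hF Ω Ω' _ _ _ _ ξ ξ' φ
    exact isIso_of_flc F hF ξ ξ' φ
  · intro h
    refine flc_of_finTrivAt F fun x => finTrivAt_of_bij F hfin ?_ x
    intro Ω Ω' _ _ _ _ ξ ξ' φ
    exact (ConcreteCategory.isIso_iff_bijective _).1 (h Ω Ω' ξ ξ' φ)

end Main

end Groth.Agent.Lib.T2H8.SpecIso
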