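import Mathlib
import Groth.Prelude.Def_EtBase
import Groth.Prelude.Def_PBC
import Groth.Agent.Lib.T2H8SpecIso
import Groth.Agent.Lib.T2H8ConstrPull
import Groth.Agent.Lib.T2H8FLCPull

/-!
# Local constancy of a constructible sheaf near a point and specialization maps (helper8)
-/

set_option autoImplicit false
set_option linter.unusedSectionVars false
set_option linter.style.haveILetI false
universe u
open CategoryTheory CategoryTheory.Limits Opposite AlgebraicGeometry TopologicalSpace

namespace Groth.Agent.Lib.T2H8.SpecLoc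
open Groth.Agent.Lib.T2H8.FLC Groth.Agent.Lib.T2H8.LocTriv Groth.Agent.Lib.T2H8.FLCSerre
open Groth.Agent.Lib.Helper16.SmallEtale Groth.Agent.Lib.Helper16.EtStalk
open Groth.Agent.Lib.T2H8.Supp Groth.Agent.Lib.T2H8AgreeAb Groth.Agent.Lib.T2H8.StalkCard
open Groth.Agent.Lib.T2H8.SpecArrow Groth.Agent.Lib.T2H8.SpecMono Groth.Agent.Lib.T2H8.SpecIso

section Top

variable {Y : Type*} [TopologicalSpace Y]

/-- in a spectral space a constructible set containing all generizations of a point is a
neighbourhood of that point -/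
theorem mem_nhds_of_generizations [CompactSpace Y] [QuasiSober Y] [PrespectralSpace Y]
    [QuasiSeparatedSpace Y] {E : Set Y} (hE : Topology.IsConstructible E) (y : Y)
    (h : ∀ z, z ⤳ y → z ∈ E) : E ∈ nhds y := by
  classical
  let ι := Option {O : Set Y // IsOpen O ∧ IsCompact O ∧ y ∈ O}
  let R : ι → Set Y := fun i => i.elim E (fun O => (O.1)ᶜ)
  let Nb : ι → Set Y := fun i => i.elim Set.univ (fun O => O.1)
  have hR : ∀ i, Topology.IsConstructible (R i) := by
    rintro (_ | O)
    · exact hE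
    · exact (O.2.2.1.isConstructible O.2.1).compl
  have hcov : (⋃ i, R i) = Set.univ := by
    apply Set.eq_univ_of_forall
    intro z
    by_cases hz : z ⤳ y
    · exact Set.mem_iUnion.2 ⟨none, h z hz⟩
    · rw [specializes_iff_forall_open] at hz
      push_neg at hz
      obtain ⟨O, hO, hyO, hzO⟩ := hz
      obtain ⟨V, hVc, hVo, hyV, hVO⟩ := PrespectralSpace.exists_isCompact_and_isOpen_between
        (isCompact_singleton (x := y)) hO (Set.singleton_subset_iff.2 hyO)
      exact Set.mem_iUnion.2 ⟨some ⟨V, hVo, hVc, hyV rfl⟩, fun hzV => hzO (hVO hzV)⟩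
  obtain ⟨t, ht⟩ := Groth.Agent.Lib.T2H8.ConstrTop.exists_finite_subcover R hR hcov
  have hN : (⋂ i ∈ t, Nb i) ∈ nhds y := by
    rw [Filter.biInter_finset_mem]
    rintro (_ | O) _
    · exact Filter.univ_mem
    · exact O.2.1.mem_nhds O.2.2.2
  refine Filter.mem_of_superset hN ?_
  intro z hz
  obtain ⟨i, hit, hzi⟩ := ht z
  rcases i with _ | O
  · exact hzi
  · have : z ∈ Nb (some O) := Set.mem_iInter₂.1 hz (some O) hit
    exact absurd this hzi

end Top

variable {X : Scheme.{u}}

section AgreeFLC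

set_option backward.isDefEq.respectTransparency.types false in
/-- the agreement locus of two sections of a finite locally constant sheaf is closed -/
theorem isClosed_agree_of_flc (H : EtCoh.Ab X) (hH : EtCoh.IsFiniteLocallyConstant H)
    {V : X.Etale} (a b : H.obj.obj (op V)) : IsClosed (agree H a b) := by
  rw [← isOpen_compl_iff, isOpen_iff_forall_mem_open]
  intro v hv
  obtain ⟨U, u, hu, M, hM, t, ht⟩ := finTrivAt_of_flc H hH (V.hom v)
  obtain ⟨W, f, g, w, hfw, hgw⟩ := exists_common U V u v hu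
  obtain ⟨Z₁, k₁, ⟨m, hm⟩, ⟨z₁, hz₁⟩⟩ :=
    exists_mem_range_of_mem (ht.surj W f (H.obj.map g.op a)) w
  obtain ⟨Z₂, k₂, ⟨m', hm'⟩, ⟨z₂, hz₂⟩⟩ :=
    exists_mem_range_of_mem (ht.surj Z₁ (k₁ ≫ f) (H.obj.map (k₁ ≫ g).op b)) z₁
  let h : Z₂ ⟶ W := k₂ ≫ k₁
  have ha : H.obj.map (h ≫ g).op a = H.obj.map (h ≫ f).op (t m) := by
    have e1 : H.obj.map (h ≫ g).op a = H.obj.map k₂.op (H.obj.map k₁.op (H.obj.map g.op a)) := by
      rw [map_map_apply, map_map_apply, Category.assoc]
    have e2 : H.obj.map (h ≫ f).op (t m) = H.obj.map k₂.op (H.obj.map (k₁ ≫ f).op (t m)) := by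
      rw [map_map_apply, Category.assoc]
    rw [e1, e2, hm]
  have hb : H.obj.map (h ≫ g).op b = H.obj.map (h ≫ f).op (t m') := by
    have e1 : H.obj.map (h ≫ g).op b = H.obj.map k₂.op (H.obj.map (k₁ ≫ g).op b) := by
      rw [map_map_apply, Category.assoc]
    have e2 : H.obj.map (h ≫ f).op (t m') =
        H.obj.map (k₂ ≫ k₁ ≫ f).op (t m') := by
      rw [Category.assoc]
    rw [e1, e2, hm']
  have hz₂v : (h ≫ g).left z₂ = v := by
    have e1 : (h ≫ g).left z₂ = g.left (k₁.left (k₂.left z₂)) := rfl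
    rw [e1, hz₂, hz₁, hgw]
  haveI : Etale (h ≫ g).left := inferInstanceAs (Etale (h ≫ g).left)
  refine ⟨Set.range (h ≫ g).left, ?_, (h ≫ g).left.isOpenMap.isOpen_range, ⟨z₂, hz₂v⟩⟩
  rintro _ ⟨p, rfl⟩ hp
  have hp' := (mem_agree_map_iff H (h ≫ g) a b p).2 hp
  rw [ha, hb] at hp'
  obtain ⟨Y, q, y, hy, hq⟩ := hp'
  rw [map_map_apply, map_map_apply] at hq
  rcases ht.inj Y (q ≫ h ≫ f) m m' hq with hmm | hbot
  · apply hv
    rw [← hz₂v]
    refine (mem_agree_map_iff H (h ≫ g) a b z₂).1 ?_
    rw [ha, hb, hmm]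
    exact ⟨Z₂, 𝟙 Z₂, z₂, rfl, rfl⟩
  · exact bot_not_mem y hbot

end AgreeFLC

section AgreeConstr

open Groth.Agent.Lib.T2H8.Constr

set_option backward.isDefEq.respectTransparency.types false in
/-- the agreement locus of two sections of a constructible sheaf over an affine étale scheme
lying over an affine open is constructible -/
theorem isConstructible_agree (F : EtCoh.Ab X) (hF : EtPBC.IsConstructible F) (V : X.Etale)
    [IsAffine V.left] (U₀ : X.Opens) (hU₀ : IsAffineOpen U₀) (hV : ∀ v : V.left, V.hom v ∈ U₀)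
    (a b : F.obj.obj (op V)) : Topology.IsConstructible (agree F a b) := by
  obtain ⟨n, T, g, h1, h2, h3, h4, h5⟩ := (adaptedStrata_iff F _).1 (hF U₀ hU₀)
  haveI : IsAffine (U₀ : Scheme.{u}) := hU₀
  have hr : Set.range V.hom ⊆ Set.range U₀.ι := by
    rw [Scheme.Opens.range_ι]
    rintro _ ⟨v, rfl⟩
    exact hV v
  let r : V.left ⟶ U₀.toScheme := IsOpenImmersion.lift U₀.ι V.hom hr
  have hfac : r ≫ U₀.ι = V.hom := IsOpenImmersion.lift_fac _ _ _
  have hval : ∀ v : V.left, (r v).1 = V.hom v := by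
    intro v
    have := congrArg (fun m => (m : V.left ⟶ X) v) hfac
    exact this
  let e : ∀ i, pullback V.hom (g i) ⟶ V.left := fun i => pullback.fst V.hom (g i)
  have hre : ∀ i, Set.range (e i) = V.hom ⁻¹' Set.range (g i) := fun i =>
    Scheme.Pullback.range_fst V.hom (g i)
  have heq : agree F a b = ⋃ i, (e i) '' agree ((EtCoh.pull (g i)).obj F)
      (((EtCoh.pullPushAdj (g i)).unit.app F).hom.app (op V) a)
      (((EtCoh.pullPushAdj (g i)).unit.app F).hom.app (op V) b) := by
    ext v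
    simp only [Set.mem_iUnion]
    constructor
    · intro hv
      have hv' : V.hom v ∈ ⋃ i, Set.range (g i) := by rw [h4]; exact hV v
      obtain ⟨i, hi⟩ := Set.mem_iUnion.1 hv'
      have : v ∈ Set.range (e i) := by rw [hre]; exact hi
      obtain ⟨v', rfl⟩ := this
      exact ⟨i, v', (mem_agree_pull_iff (g i) F a b v').2 hv, rfl⟩
    · rintro ⟨i, v', hv', rfl⟩
      exact (mem_agree_pull_iff (g i) F a b v').1 hv'
  rw [heq]
  refine Topology.IsConstructible.iUnion fun i => ?_
  haveI := h1 i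
  haveI : IsImmersion (e i) := inferInstanceAs (IsImmersion (pullback.fst V.hom (g i)))
  refine Groth.Agent.Lib.T2H8.ConstrTop.isConstructible_image_of_isEmbedding
    (e i).isEmbedding ?_ ?_
  · rw [hre]
    have hpre : V.hom ⁻¹' Set.range (g i) =
        r ⁻¹' ((Subtype.val : ↥(U₀ : Set X) → X) ⁻¹' Set.range (g i)) := by
      ext v
      change V.hom v ∈ Set.range (g i) ↔ (r v).1 ∈ Set.range (g i)
      rw [hval]
    rw [hpre]
    haveI : CompactSpace ↥U₀.toScheme := isCompact_iff_compactSpace.1 hU₀.isCompact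
    refine (h2 i).preimage r.continuous ?_
    intro s hs hsr
    have hsc : IsCompact s := hsr.isCompact
    exact (QuasiCompact.isCompact_preimage (f := r) s hs hsc).isRetrocompact
      (hs.preimage r.continuous)
  · exact isConstructible_of_isClopen
      ⟨isClosed_agree_of_flc _ (h5 i) _ _, isOpen_agree _ _ _⟩

end AgreeConstr

section FiniteStalk

variable {Ω : Type u} [Field Ω] [IsSepClosed Ω]

set_option backward.isDefEq.respectTransparency.types false in
/-- geometric stalks of a finite locally constant sheaf are finite -/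
theorem finite_stalk_of_flc (H : EtCoh.Ab X) (hH : EtCoh.IsFiniteLocallyConstant H)
    (ξ : Spec (CommRingCat.of Ω) ⟶ X) : Finite ((EtCoh.stalk ξ).obj H) := by
  obtain ⟨U, u, hu, M, hM, t, ht⟩ := finTrivAt_of_flc H hH (ξ default)
  haveI : Etale U.hom := U.prop
  obtain ⟨l, hl1, hl2⟩ := Scheme.exists_fac_of_etale_of_isSepClosed U.hom ξ u hu
  let u₀ : (Scheme.pointSmallEtale ξ).fiber.obj U := Over.homMk l hl1
  obtain ⟨e⟩ := nonempty_germIso ht ξ u₀
  exact Finite.of_equiv M e.addCommGroupIsoToAddEquiv.toEquiv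

set_option backward.isDefEq.respectTransparency.types false in
/-- geometric stalks of a constructible sheaf are finite -/
theorem finite_stalk_of_constructible (F : EtCoh.Ab X) (hF : EtPBC.IsConstructible F)
    (ξ : Spec (CommRingCat.of Ω) ⟶ X) : Finite ((EtCoh.stalk ξ).obj F) := by
  let x : X := ξ default
  let U : X.Opens := (X.affineCover.f (X.affineCover.idx x)).opensRange
  have hU : IsAffineOpen U := isAffineOpen_opensRange _
  have hxU : x ∈ U := X.affineCover.covers x
  obtain ⟨n, T, g, h1, h2, h3, h4, h5⟩ :=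
    (Groth.Agent.Lib.T2H8.Constr.adaptedStrata_iff F _).1 (hF U hU)
  have hx' : x ∈ ⋃ i, Set.range (g i) := by rw [h4]; exact hxU
  obtain ⟨i, p, hp⟩ := Set.mem_iUnion.1 hx'
  haveI := h1 i
  obtain ⟨ξ', rfl⟩ := exists_lift_of_surjectiveOnStalks (g i) ξ p hp.symm
  haveI : Finite ((EtCoh.pull (g i) ⋙ EtCoh.stalk ξ').obj F) :=
    finite_stalk_of_flc _ (h5 i) ξ'
  exact Finite.of_equiv _
    ((Groth.Agent.S0101.stalkPullIso (g i) ξ').app F).symm.addCommGroupIsoToAddEquiv.toEquiv

end FiniteStalk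

section Core

variable {Ω : Type u} [Field Ω] [IsSepClosed Ω]

open Groth.Agent.Lib.T2H8EtZarSheaf Groth.Agent.Lib.T2H8.ConstrSub in
set_option backward.isDefEq.respectTransparency.types false in
/-- **local triviality from separation of the lifted germs and constancy of the stalk
cardinality** -/
theorem finTrivAt_core (F : EtCoh.Ab X) (ξ : Spec (CommRingCat.of Ω) ⟶ X)
    [Finite ((EtCoh.stalk ξ).obj F)]
    (W : X.Etale) (w₀ : (Scheme.pointSmallEtale ξ).fiber.obj W)
    (s : ((EtCoh.stalk ξ).obj F) → F.obj.obj (op W))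
    (hs : ∀ m, (Scheme.pointSmallEtale ξ).toPresheafFiber W w₀ F.obj (s m) = m)
    (hsep : ∀ m m', m ≠ m' → (agree F (s m) (s m'))ᶜ ∈
      nhds ((w₀.left : Spec (CommRingCat.of Ω) ⟶ W.left) (default : Spec (CommRingCat.of Ω))))
    (O : Set X) (hO : IsOpen O) (hxO : ξ default ∈ O)
    (hcard : ∀ y ∈ O, y ∈ locus (fun A => Nat.card A = Nat.card ((EtCoh.stalk ξ).obj F)) F) :
    FinTrivAt F (ξ default) := by
  classical
  let Φ := Scheme.pointSmallEtale ξ
  let M : AddCommGrpCat.{u + 1} := (EtCoh.stalk ξ).obj F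
  haveI : Finite M := ‹Finite ((EtCoh.stalk ξ).obj F)›
  let w : W.left := (w₀.left : Spec (CommRingCat.of Ω) ⟶ W.left) (default : Spec (CommRingCat.of Ω))
  have hw : W.hom w = ξ default := by
    have e1 : w₀.left ≫ W.hom = ξ := Over.w w₀
    exact congrArg (fun m : Spec (CommRingCat.of Ω) ⟶ X => m default) e1
  haveI : Etale W.hom := W.prop
  -- the separation neighbourhoods
  let N : M × M → Set W.left := fun p =>
    if p.1 = p.2 then Set.univ else (agree F (s p.1) (s p.2))ᶜ
  have hN : ∀ p, N p ∈ nhds w := by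
    intro p
    by_cases hp : p.1 = p.2
    · simp only [N, if_pos hp]
      exact Filter.univ_mem
    · simp only [N, if_neg hp]
      exact hsep _ _ hp
  have hN' : (⋂ p, N p) ∈ nhds w := Filter.iInter_mem.2 hN
  obtain ⟨A₂, hA₂N, hA₂o, hwA₂⟩ := mem_nhds_iff.1 hN'
  -- the opens where the lifts are additive
  let B : M × M → Set W.left := fun p => agree F (s p.1 + s p.2) (s (p.1 + p.2))
  have hB : ∀ p, IsOpen (B p) := fun p => isOpen_agree F _ _
  have hwB : ∀ p, w ∈ B p := by
    intro p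
    refine (mem_agree_iff_germ F _ _ ξ w₀).mpr ?_
    rw [map_add, hs, hs, hs]
    rfl
  let A : W.left.Opens := ⟨(A₂ ∩ ⋂ p, B p) ∩ W.hom ⁻¹' O,
    (hA₂o.inter (isOpen_iInter_of_finite hB)).inter (hO.preimage W.hom.continuous)⟩
  have hwA : w ∈ A := ⟨⟨hwA₂, Set.mem_iInter.2 hwB⟩, by
    change W.hom w ∈ O
    rw [hw]
    exact hxO⟩
  let U : X.Etale := opn W A
  let j : U ⟶ W := opnι W A
  have hjA : ∀ v : U.left, j.left v ∈ (A : Set W.left) := fun v => by
    rw [← range_opnι W A]; exact ⟨v, rfl⟩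
  have hrange : Set.range (w₀.left : Spec (CommRingCat.of Ω) ⟶ W.left) ⊆ (A : Set W.left) := by
    rw [range_eq_singleton]
    exact Set.singleton_subset_iff.2 hwA
  let l : Spec (CommRingCat.of Ω) ⟶ (A : Scheme.{u}) :=
    IsOpenImmersion.lift (X := (A : Scheme.{u})) (Y := Spec (CommRingCat.of Ω)) (Z := W.left)
      A.ι w₀.left (by rw [Scheme.Opens.range_ι]; exact hrange)
  have hl : l ≫ A.ι = w₀.left :=
    IsOpenImmersion.lift_fac (X := (A : Scheme.{u})) (Y := Spec (CommRingCat.of Ω)) (Z := W.left)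
      A.ι w₀.left _
  let u₀ : Φ.fiber.obj U := Over.homMk l (by
    change l ≫ A.ι ≫ W.hom = ξ
    rw [← Category.assoc, hl]
    exact Over.w w₀)
  have hu₀ : Φ.fiber.map j u₀ = w₀ := by
    apply Over.OverMorphism.ext
    exact hl
  let u : U.left := (u₀.left : Spec (CommRingCat.of Ω) ⟶ U.left) (default : Spec (CommRingCat.of Ω))
  have hju : j.left u = w :=
    congrArg (fun m : Spec (CommRingCat.of Ω) ⟶ W.left => m default) hl
  have hUu : U.hom u = ξ default := by
    have e1 : u₀.left ≫ U.hom = ξ := Over.w u₀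
    exact congrArg (fun m : Spec (CommRingCat.of Ω) ⟶ X => m default) e1
  -- the trivializing homomorphism
  have hadd : ∀ m m' : M, F.obj.map j.op (s (m + m')) =
      F.obj.map j.op (s m) + F.obj.map j.op (s m') := by
    intro m m'
    rw [← map_add]
    symm
    apply eq_of_agree_eq_univ F
    intro v
    rw [mem_agree_map_iff]
    exact Set.mem_iInter.1 (hjA v).1.2 (m, m')
  let t : M ⟶ F.obj.obj (op U) :=
    AddCommGrpCat.ofHom (AddMonoidHom.mk' (fun m => F.obj.map j.op (s m)) hadd)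
  have ht_apply : ∀ m, t m = F.obj.map j.op (s m) := fun m => rfl
  have hinj : ∀ (Y : X.Etale) (f : Y ⟶ U) (m m' : M),
      F.obj.map f.op (t m) = F.obj.map f.op (t m') → Nonempty Y.left → m = m' := by
    rintro Y f m m' hmm ⟨y⟩
    by_contra hne
    have h1 : j.left (f.left y) ∈ agree F (s m) (s m') := by
      refine ⟨Y, f ≫ j, y, rfl, ?_⟩
      rw [ht_apply, ht_apply, map_map_apply, map_map_apply] at hmm
      exact hmm
    have h2 : j.left (f.left y) ∈ N (m, m') :=
      Set.mem_iInter.1 (hA₂N (hjA (f.left y)).1.1) (m, m')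
    simp only [N, if_neg hne] at h2
    exact h2 h1
  refine ⟨U, u, hUu, M, inferInstance, t, ⟨?_, ?_⟩⟩
  · intro Y f m m' hmm
    by_cases hY : IsEmpty Y.left
    · exact Or.inr (Groth.Agent.Lib.T2H8.LocTrivPull.bot_mem_of_isEmpty Y hY)
    · rw [not_isEmpty_iff] at hY
      exact Or.inl (hinj Y f m m' hmm hY)
  · intro Y f z
    rw [mem_smallEtale_iff]
    intro p
    have hYp : Y.hom p = W.hom (j.left (f.left p)) := by
      have e1 : (f ≫ j).left ≫ W.hom = Y.hom := MorphismProperty.Over.w (f ≫ j)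
      rw [← e1]
      rfl
    have hpO : Y.hom p ∈ O := by
      rw [hYp]
      exact (hjA (f.left p)).2
    obtain ⟨Ω', _, _, ξ', hξ', hc⟩ := hcard _ hpO
    have h0 : Y.hom p = ξ' default := by
      have : ξ' default ∈ Set.range ξ' := ⟨default, rfl⟩
      rw [hξ'] at this
      exact this.symm
    haveI : Etale Y.hom := Y.prop
    obtain ⟨l', hl'1, hl'2⟩ := Scheme.exists_fac_of_etale_of_isSepClosed Y.hom ξ' p h0
    let Φ' := Scheme.pointSmallEtale ξ'
    let y₀ : Φ'.fiber.obj Y := Over.homMk l' hl'1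
    let ψ : M → ((EtCoh.stalk ξ').obj F) := fun m =>
      Φ'.toPresheafFiber Y y₀ F.obj (F.obj.map f.op (t m))
    have hψinj : Function.Injective ψ := by
      intro m m' h
      obtain ⟨Z, g, z₁, hz₁, hg⟩ := (Φ'.toPresheafFiber_eq_iff' Y y₀ _ _).mp h
      rw [map_map_apply, map_map_apply] at hg
      exact hinj Z (g ≫ f) m m' hg
        ⟨(z₁.left : Spec (CommRingCat.of Ω') ⟶ Z.left) (default : Spec (CommRingCat.of Ω'))⟩
    haveI : Nonempty M := ⟨0⟩
    haveI : Finite ((EtCoh.stalk ξ').obj F) :=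
      Nat.finite_of_card_ne_zero (by rw [hc]; exact Nat.card_pos.ne')
    have hψbij : Function.Bijective ψ :=
      hψinj.bijective_of_nat_card_le (le_of_eq hc)
    obtain ⟨m, hm⟩ := hψbij.2 (Φ'.toPresheafFiber Y y₀ F.obj z)
    obtain ⟨Z, g, z₁, hz₁, hg⟩ := (Φ'.toPresheafFiber_eq_iff' Y y₀ _ _).mp hm
    refine ⟨Z, g, (z₁.left : Spec (CommRingCat.of Ω') ⟶ Z.left) (default : Spec (CommRingCat.of Ω')), ⟨m, ?_⟩, ?_⟩
    · rw [← hg, map_map_apply]
    · have e3 : z₁.left ≫ g.left = y₀.left := congrArg (fun m => m.left) hz₁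
      exact (congrArg (fun m : Spec (CommRingCat.of Ω') ⟶ Y.left => m default) e3).trans hl'2

end Core

section Restrict

variable {Ω : Type u} [Field Ω] [IsSepClosed Ω]

open Groth.Agent.Lib.T2H8EtZarSheaf Groth.Agent.Lib.T2H8.ConstrSub in
set_option backward.isDefEq.respectTransparency.types false in
/-- a lift of a geometric point to an étale scheme lifts to every open containing its image -/
theorem exists_fiber_opn (ξ : Spec (CommRingCat.of Ω) ⟶ X) (W : X.Etale)
    (w₀ : (Scheme.pointSmallEtale ξ).fiber.obj W) (A : W.left.Opens)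
    (hwA : (w₀.left : Spec (CommRingCat.of Ω) ⟶ W.left) (default : Spec (CommRingCat.of Ω)) ∈ A) :
    ∃ u₀ : (Scheme.pointSmallEtale ξ).fiber.obj (opn W A),
      (Scheme.pointSmallEtale ξ).fiber.map (opnι W A) u₀ = w₀ := by
  have hrange : Set.range (w₀.left : Spec (CommRingCat.of Ω) ⟶ W.left) ⊆ (A : Set W.left) := by
    rw [range_eq_singleton]
    exact Set.singleton_subset_iff.2 hwA
  let l : Spec (CommRingCat.of Ω) ⟶ (A : Scheme.{u}) :=
    IsOpenImmersion.lift (X := (A : Scheme.{u})) (Y := Spec (CommRingCat.of Ω)) (Z := W.left)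
      A.ι w₀.left (by rw [Scheme.Opens.range_ι]; exact hrange)
  have hl : l ≫ A.ι = w₀.left :=
    IsOpenImmersion.lift_fac (X := (A : Scheme.{u})) (Y := Spec (CommRingCat.of Ω)) (Z := W.left)
      A.ι w₀.left _
  refine ⟨Over.homMk l (by
    change l ≫ A.ι ≫ W.hom = ξ
    rw [← Category.assoc, hl]
    exact Over.w w₀), ?_⟩
  apply Over.OverMorphism.ext
  exact hl

end Restrict

section InjAt

variable {Ω₀ : Type u} [Field Ω₀] [IsSepClosed Ω₀]

set_option backward.isDefEq.respectTransparency.types false in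
/-- germs at a point are detected at a generization, special form -/
theorem inj_at_aux (F : EtCoh.Ab X)
    (U : X.Etale) (σU : Spec (CommRingCat.of Ω₀) ⟶ U.left)
    (hinj : ∀ (Ω' : Type u) [Field Ω'] [IsSepClosed Ω']
        (ξ' : Spec (CommRingCat.of Ω') ⟶ X)
        (φ : Scheme.pointSmallEtale ξ' ⟶ Scheme.pointSmallEtale (σU ≫ U.hom)),
        Function.Injective
          ((GrothendieckTopology.Point.Hom.sheafFiber (A := AddCommGrpCat.{u + 1}) φ).app F))
    (a b : F.obj.obj (op U))
    (e : U.left) (heu : e ⤳ σU default) (he : e ∈ agree F a b) :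
    (Scheme.pointSmallEtale (σU ≫ U.hom)).toPresheafFiber U (Over.homMk σU rfl) F.obj a =
      (Scheme.pointSmallEtale (σU ≫ U.hom)).toPresheafFiber U (Over.homMk σU rfl) F.obj b := by
  let Ω'' := SeparableClosure (U.left.residueField e)
  let ζU : Spec (CommRingCat.of Ω'') ⟶ U.left := geomPt e
  have hζ : ζU default = e := geomPt_default e
  obtain ⟨φ, hφ⟩ := exists_arrow_through U σU ζU (by rw [hζ]; exact heu)
  let u₀ : (Scheme.pointSmallEtale (σU ≫ U.hom)).fiber.obj U := Over.homMk σU rfl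
  let u₀' : (Scheme.pointSmallEtale (ζU ≫ U.hom)).fiber.obj U := φ.hom.app U u₀
  have h1 : (u₀'.left : Spec (CommRingCat.of Ω'') ⟶ U.left)
      (default : Spec (CommRingCat.of Ω'')) ∈ agree F a b := by
    have h0 : (u₀'.left : Spec (CommRingCat.of Ω'') ⟶ U.left) = ζU := hφ
    have h0' : (u₀'.left : Spec (CommRingCat.of Ω'') ⟶ U.left)
        (default : Spec (CommRingCat.of Ω'')) = e :=
      (congrArg (fun q : Spec (CommRingCat.of Ω'') ⟶ U.left =>
        q (default : Spec (CommRingCat.of Ω''))) h0).trans hζ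
    exact h0'.symm ▸ he
  have h2 := (mem_agree_iff_germ F a b (ζU ≫ U.hom) u₀').mp h1
  rw [← sheafFiber_germ F φ U u₀ a, ← sheafFiber_germ F φ U u₀ b] at h2
  exact hinj _ _ φ h2

set_option backward.isDefEq.respectTransparency.types false in
/-- germs at a point are detected at a generization -/
theorem inj_at (F : EtCoh.Ab X) (ξ : Spec (CommRingCat.of Ω₀) ⟶ X)
    (hinj : ∀ (Ω' : Type u) [Field Ω'] [IsSepClosed Ω']
        (ξ' : Spec (CommRingCat.of Ω') ⟶ X)
        (φ : Scheme.pointSmallEtale ξ' ⟶ Scheme.pointSmallEtale ξ),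
        Function.Injective
          ((GrothendieckTopology.Point.Hom.sheafFiber (A := AddCommGrpCat.{u + 1}) φ).app F))
    (U : X.Etale) (u₀ : (Scheme.pointSmallEtale ξ).fiber.obj U) (a b : F.obj.obj (op U))
    (e : U.left)
    (heu : e ⤳ (u₀.left : Spec (CommRingCat.of Ω₀) ⟶ U.left)
      (default : Spec (CommRingCat.of Ω₀)))
    (he : e ∈ agree F a b) :
    (Scheme.pointSmallEtale ξ).toPresheafFiber U u₀ F.obj a =
      (Scheme.pointSmallEtale ξ).toPresheafFiber U u₀ F.obj b := by
  have key : ∀ (σU : Spec (CommRingCat.of Ω₀) ⟶ U.left) (hσ : σU ≫ U.hom = ξ)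
      (_ : e ⤳ σU (default : Spec (CommRingCat.of Ω₀))),
      (Scheme.pointSmallEtale ξ).toPresheafFiber U (Over.homMk σU hσ) F.obj a =
        (Scheme.pointSmallEtale ξ).toPresheafFiber U (Over.homMk σU hσ) F.obj b := by
    intro σU hσ h
    subst hσ
    exact inj_at_aux F U σU hinj a b e h he
  exact key u₀.left (Over.w u₀) heu

end InjAt

section SchemeNhds

/-- a locally constructible subset of a scheme containing all generizations of a point is a
neighbourhood of that point -/
theorem mem_nhds_of_generizations_scheme {L : Set X} (hL : Topology.IsLocallyConstructible L)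
    (x : X) (h : ∀ z : X, z ⤳ x → z ∈ L) : L ∈ nhds x := by
  let U : X.Opens := (X.affineCover.f (X.affineCover.idx x)).opensRange
  have hU : IsAffineOpen U := isAffineOpen_opensRange _
  have hxU : x ∈ U := X.affineCover.covers x
  haveI : IsAffine (U : Scheme.{u}) := hU
  haveI : CompactSpace ↥U := inferInstanceAs (CompactSpace (U : Scheme.{u}))
  haveI : PrespectralSpace ↥U := inferInstanceAs (PrespectralSpace (U : Scheme.{u}))
  haveI : QuasiSeparatedSpace ↥U := inferInstanceAs (QuasiSeparatedSpace (U : Scheme.{u}))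
  haveI : QuasiSober ↥U := inferInstanceAs (QuasiSober (U : Scheme.{u}))
  have hemb : Topology.IsOpenEmbedding (Subtype.val : ↥U → X) := U.isOpen.isOpenEmbedding_subtypeVal
  have hE : Topology.IsConstructible ((Subtype.val : ↥U → X) ⁻¹' L) :=
    (hL.preimage_of_isOpenEmbedding hemb).isConstructible
  have h1 := mem_nhds_of_generizations hE (⟨x, hxU⟩ : ↥U) (by
    intro z hz
    exact h z.1 ((subtype_specializes_iff z ⟨x, hxU⟩).mp hz))
  have h2 := hemb.image_mem_nhds.2 h1
  refine Filter.mem_of_superset h2 ?_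
  rintro _ ⟨z, hz, rfl⟩
  exact hz

end SchemeNhds

section Directions

variable {Ω : Type u} [Field Ω] [IsSepClosed Ω]

open Groth.Agent.Lib.T2H8EtZarSheaf Groth.Agent.Lib.T2H8.ConstrSub in
set_option backward.isDefEq.respectTransparency.types false in
/-- **a constructible sheaf whose specialization maps into a geometric point are bijective is
finite locally constant near that point** -/
theorem finTrivAt_of_bij_at (F : EtCoh.Ab X) (hF : EtPBC.IsConstructible F)
    (ξ : Spec (CommRingCat.of Ω) ⟶ X)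
    (hbij : ∀ (Ω' : Type u) [Field Ω'] [IsSepClosed Ω'] (ξ' : Spec (CommRingCat.of Ω') ⟶ X)
        (φ : Scheme.pointSmallEtale ξ' ⟶ Scheme.pointSmallEtale ξ),
        Function.Bijective
          ((GrothendieckTopology.Point.Hom.sheafFiber (A := AddCommGrpCat.{u + 1}) φ).app F)) :
    FinTrivAt F (ξ default) := by
  classical
  haveI : Finite ((EtCoh.stalk ξ).obj F) := finite_stalk_of_constructible F hF ξ
  let Φ := Scheme.pointSmallEtale ξ
  let x : X := ξ default
  let U₀ : X.Opens := (X.affineCover.f (X.affineCover.idx x)).opensRange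
  have hU₀ : IsAffineOpen U₀ := isAffineOpen_opensRange _
  have hxU₀ : x ∈ U₀ := X.affineCover.covers x
  obtain ⟨W₁, w₁, s₁, hs₁⟩ := exists_common_lift F ξ
  let w₁p : W₁.left :=
    (w₁.left : Spec (CommRingCat.of Ω) ⟶ W₁.left) (default : Spec (CommRingCat.of Ω))
  have hw₁ : W₁.hom w₁p = x := by
    have e1 : w₁.left ≫ W₁.hom = ξ := Over.w w₁
    exact congrArg (fun m : Spec (CommRingCat.of Ω) ⟶ X => m default) e1
  obtain ⟨A₁, hA₁, hwA₁, hA₁U⟩ := exists_isAffineOpen_mem_and_subset (X := W₁.left) (x := w₁p)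
    (U := W₁.hom ⁻¹ᵁ U₀) (by change W₁.hom w₁p ∈ U₀; rw [hw₁]; exact hxU₀)
  obtain ⟨w₀, hw₀⟩ := exists_fiber_opn ξ W₁ w₁ A₁ hwA₁
  let W : X.Etale := opn W₁ A₁
  let j : W ⟶ W₁ := opnι W₁ A₁
  haveI : IsAffine W.left := hA₁
  have hWU : ∀ v : W.left, W.hom v ∈ U₀ := by
    intro v
    have h1 : j.left v ∈ (A₁ : Set W₁.left) := by
      rw [← range_opnι W₁ A₁]; exact ⟨v, rfl⟩
    exact hA₁U h1
  let s : ((EtCoh.stalk ξ).obj F) → F.obj.obj (op W) := fun m => F.obj.map j.op (s₁ m)
  have hs : ∀ m, Φ.toPresheafFiber W w₀ F.obj (s m) = m := by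
    intro m
    have e1 := Φ.toPresheafFiber_w_apply j w₀ F.obj (s₁ m)
    rw [hw₀] at e1
    exact e1.trans (hs₁ m)
  have hinjF : ∀ (Ω' : Type u) [Field Ω'] [IsSepClosed Ω']
      (ξ' : Spec (CommRingCat.of Ω') ⟶ X)
      (φ : Scheme.pointSmallEtale ξ' ⟶ Scheme.pointSmallEtale ξ),
      Function.Injective
        ((GrothendieckTopology.Point.Hom.sheafFiber (A := AddCommGrpCat.{u + 1}) φ).app F) :=
    fun Ω' _ _ ξ' φ => (hbij Ω' ξ' φ).1
  let n := Nat.card ((EtCoh.stalk ξ).obj F)
  let L : Set X := locus (fun A => Nat.card A = n) F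
  have hL : Topology.IsLocallyConstructible L :=
    isLocallyConstructible_locus (P := fun A => Nat.card A = n) (card_invariant n) F hF
  have hLx : L ∈ nhds x := by
    refine mem_nhds_of_generizations_scheme hL x ?_
    intro z hz
    have h1 : (geomPt z) default ⤳ ξ default := by
      rw [geomPt_default]
      exact hz
    obtain ⟨φ, -⟩ := exists_arrow (σ := ξ) (ζ := geomPt z) h1
    have c1 := Nat.card_congr (Equiv.ofBijective _ (hbij _ _ φ))
    refine ⟨_, inferInstance, inferInstance, geomPt z, ?_, c1.symm⟩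
    rw [range_eq_singleton, geomPt_default]
  refine finTrivAt_core F ξ W w₀ s hs ?_ (interior L) isOpen_interior
    (mem_interior_iff_mem_nhds.2 hLx) (fun y hy => interior_subset hy)
  intro m m' hne
  refine mem_nhds_of_generizations
    ((isConstructible_agree F hF W U₀ hU₀ hWU (s m) (s m')).compl) _ ?_
  intro z hz hzmem
  have h1 := inj_at F ξ hinjF W w₀ (s m) (s m') z hz hzmem
  rw [hs, hs] at h1
  exact hne h1

open Groth.Agent.Lib.T2H8EtZarSheaf Groth.Agent.Lib.T2H8.ConstrSub in
set_option backward.isDefEq.respectTransparency.types false in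
/-- a sheaf which is finite locally constant on an open is trivialized near each geometric point
of that open, special form -/
theorem finTrivAt_of_flc_open_aux (F : EtCoh.Ab X) (U : X.Opens)
    (hFU : EtCoh.IsFiniteLocallyConstant ((EtCoh.pull U.ι).obj F))
    (ξU : Spec (CommRingCat.of Ω) ⟶ (U : Scheme.{u})) :
    FinTrivAt F ((ξU ≫ U.ι) default) := by
  classical
  let ξ : Spec (CommRingCat.of Ω) ⟶ X := ξU ≫ U.ι
  let G := (EtCoh.pull U.ι).obj F
  haveI : Finite ((EtCoh.pull U.ι ⋙ EtCoh.stalk ξU).obj F) := finite_stalk_of_flc _ hFU ξU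
  haveI : Finite ((EtCoh.stalk ξ).obj F) := Finite.of_equiv _
    ((Groth.Agent.S0101.stalkPullIso U.ι ξU).app F).symm.addCommGroupIsoToAddEquiv.toEquiv
  let Φ := Scheme.pointSmallEtale ξ
  let x : X := ξ default
  have hxU : x ∈ U := (ξU default).2
  obtain ⟨W₁, w₁, s₁, hs₁⟩ := exists_common_lift F ξ
  let w₁p : W₁.left :=
    (w₁.left : Spec (CommRingCat.of Ω) ⟶ W₁.left) (default : Spec (CommRingCat.of Ω))
  have hw₁ : W₁.hom w₁p = x := by
    have e1 : w₁.left ≫ W₁.hom = ξ := Over.w w₁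
    exact congrArg (fun m : Spec (CommRingCat.of Ω) ⟶ X => m default) e1
  let A₁ : W₁.left.Opens := W₁.hom ⁻¹ᵁ U
  have hwA₁ : w₁p ∈ A₁ := by change W₁.hom w₁p ∈ U; rw [hw₁]; exact hxU
  obtain ⟨w₀, hw₀⟩ := exists_fiber_opn ξ W₁ w₁ A₁ hwA₁
  let W : X.Etale := opn W₁ A₁
  let j : W ⟶ W₁ := opnι W₁ A₁
  have hWU : ∀ v : W.left, W.hom v ∈ U := by
    intro v
    have h1 : j.left v ∈ (A₁ : Set W₁.left) := by
      rw [← range_opnι W₁ A₁]; exact ⟨v, rfl⟩
    exact h1
  let s : ((EtCoh.stalk ξ).obj F) → F.obj.obj (op W) := fun m => F.obj.map j.op (s₁ m)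
  have hs : ∀ m, Φ.toPresheafFiber W w₀ F.obj (s m) = m := by
    intro m
    have e1 := Φ.toPresheafFiber_w_apply j w₀ F.obj (s₁ m)
    rw [hw₀] at e1
    exact e1.trans (hs₁ m)
  -- the agreement loci are closed
  have hclosed : ∀ a b : F.obj.obj (op W), IsClosed (agree F a b) := by
    intro a b
    have hsurj : Function.Surjective (pullback.fst W.hom U.ι) := by
      rw [← Set.range_eq_univ]
      have := Scheme.Pullback.range_fst W.hom U.ι
      rw [this, Scheme.Opens.range_ι]
      exact Set.eq_univ_of_forall fun v => hWU v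
    have hq : Topology.IsQuotientMap (pullback.fst W.hom U.ι) :=
      (pullback.fst W.hom U.ι).isOpenEmbedding.isOpenMap.isQuotientMap
        (pullback.fst W.hom U.ι).continuous hsurj
    rw [← hq.isClosed_preimage]
    have e1 : (pullback.fst W.hom U.ι) ⁻¹' agree F a b = agree G
        (((EtCoh.pullPushAdj U.ι).unit.app F).hom.app (op W) a)
        (((EtCoh.pullPushAdj U.ι).unit.app F).hom.app (op W) b) := by
      ext v'
      exact (mem_agree_pull_iff U.ι F a b v').symm
    rw [e1]
    exact isClosed_agree_of_flc G hFU _ _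
  let n := Nat.card ((EtCoh.stalk ξ).obj F)
  have hP := card_invariant n
  have hclopen : IsClopen (locus (fun A => Nat.card A = n) G) :=
    isClopen_locus_of_flc (P := fun A => Nat.card A = n) hP G hFU
  have hrange := locus_inter_range (P := fun A => Nat.card A = n) hP U.ι F
  refine finTrivAt_core F ξ W w₀ s hs ?_ (U.ι '' locus (fun A => Nat.card A = n) G)
    (U.ι.isOpenEmbedding.isOpenMap _ hclopen.isOpen) ?_ ?_
  · intro m m' hne
    refine (hclosed (s m) (s m')).isOpen_compl.mem_nhds ?_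
    intro hmem
    have h1 := (mem_agree_iff_germ F (s m) (s m') ξ w₀).mp hmem
    rw [hs, hs] at h1
    exact hne h1
  · rw [← hrange]
    refine ⟨⟨Ω, inferInstance, inferInstance, ξ, range_eq_singleton ξ, rfl⟩, ⟨ξU default, rfl⟩⟩
  · intro y hy
    rw [← hrange] at hy
    exact hy.1

/-- a sheaf which is finite locally constant on an open is trivialized near each geometric point
of that open -/
theorem finTrivAt_of_flc_open (F : EtCoh.Ab X) (U : X.Opens)
    (hFU : EtCoh.IsFiniteLocallyConstant ((EtCoh.pull U.ι).obj F))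
    (ξ : Spec (CommRingCat.of Ω) ⟶ X) (hxU : ξ default ∈ U) : FinTrivAt F (ξ default) := by
  have hr : Set.range ξ ⊆ Set.range U.ι := by
    rw [range_eq_singleton, Scheme.Opens.range_ι]
    exact Set.singleton_subset_iff.2 hxU
  have hfac : IsOpenImmersion.lift U.ι ξ hr ≫ U.ι = ξ := IsOpenImmersion.lift_fac _ _ _
  have := finTrivAt_of_flc_open_aux F U hFU (IsOpenImmersion.lift U.ι ξ hr)
  rw [hfac] at this
  exact this

end Directions

section Main

/-- **S8530**: a constructible sheaf is finite locally constant near `x` iff all specialization maps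
into a geometric point at `x` are isomorphisms -/
theorem main {X : Scheme.{u}} (F : EtCoh.Ab X)
    (hF : EtPBC.IsConstructible F) (x : X) {Ω : Type u} [Field Ω] [IsSepClosed Ω]
    (ξ : Spec (CommRingCat.of Ω) ⟶ X) (hξ : Set.range ξ.base = {x}) :
    (∃ U : X.Opens, x ∈ U ∧ EtCoh.IsFiniteLocallyConstant ((EtCoh.pull U.ι).obj F)) ↔
      ∀ (Ω' : Type u) [Field Ω'] [IsSepClosed Ω'] (ξ' : Spec (CommRingCat.of Ω') ⟶ X)
        (φ : Scheme.pointSmallEtale ξ' ⟶ Scheme.pointSmallEtale ξ),
        IsIso ((GrothendieckTopology.Point.Hom.sheafFiber (A := AddCommGrpCat.{u + 1}) φ).app F) := by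
  have hx : ξ default = x := by
    have : ξ default ∈ Set.range ξ.base := ⟨default, rfl⟩
    rw [hξ] at this
    exact this
  subst hx
  constructor
  · rintro ⟨U, hxU, hFU⟩ Ω' _ _ ξ' φ
    rw [ConcreteCategory.isIso_iff_bijective]
    exact bijective_of_finTrivAt F (finTrivAt_of_flc_open F U hFU ξ hxU) φ
  · intro h
    obtain ⟨V, v, hv, M, hM, t, ht⟩ := finTrivAt_of_bij_at F hF ξ
      (fun Ω' _ _ ξ' φ => (ConcreteCategory.isIso_iff_bijective _).1 (h Ω' ξ' φ))
    haveI : Etale V.hom := V.prop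
    let U : X.Opens := ⟨Set.range V.hom, V.hom.isOpenMap.isOpen_range⟩
    refine ⟨U, ⟨v, hv⟩, ?_⟩
    apply flc_of_finTrivAt
    intro y
    obtain ⟨v', hv'⟩ := y.2
    exact Groth.Agent.Lib.T2H8.FLCPull.trivAt_pull U.ι _ F y ⟨V, v', hv', M, hM, t, ht⟩

end Main

end Groth.Agent.Lib.T2H8.SpecLoc
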