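import Mathlib

/-!
# Standard étale charts of étale morphisms (S9567)
-/

set_option autoImplicit false
set_option linter.unusedSectionVars false
set_option linter.style.haveILetI false
universe u
open CategoryTheory CategoryTheory.Limits AlgebraicGeometry Polynomial

namespace Groth.Agent.Lib.T2H8.StdEtaleChart

section Alg

variable {R : Type u} [CommRing R] (P : StandardEtalePair R)

/-- the derivative becomes invertible after inverting `g` -/
lemma isUnit_derivative :
    IsUnit (algebraMap (AdjoinRoot P.f) (Localization.Away (AdjoinRoot.mk P.f P.g))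
      (AdjoinRoot.mk P.f (derivative P.f))) := by
  obtain ⟨p₁, p₂, n, e⟩ := P.cond
  have h1 : AdjoinRoot.mk P.f (derivative P.f) * AdjoinRoot.mk P.f p₁ =
      AdjoinRoot.mk P.f P.g ^ n := by
    rw [← map_mul, ← map_pow, ← e, map_add, map_mul (AdjoinRoot.mk P.f) P.f, AdjoinRoot.mk_self,
      zero_mul, add_zero]
  have h2 : IsUnit (algebraMap (AdjoinRoot P.f) (Localization.Away (AdjoinRoot.mk P.f P.g))
      (AdjoinRoot.mk P.f P.g ^ n)) := by
    rw [map_pow]
    exact (IsLocalization.Away.algebraMap_isUnit (AdjoinRoot.mk P.f P.g)).pow n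
  rw [← h1, map_mul] at h2
  exact isUnit_of_mul_isUnit_left h2

/-- the comparison of the two localizations -/
noncomputable def theta :
    Localization.Away (AdjoinRoot.mk P.f (derivative P.f)) →+*
      Localization.Away (AdjoinRoot.mk P.f P.g) :=
  IsLocalization.Away.lift (AdjoinRoot.mk P.f (derivative P.f)) (isUnit_derivative P)

lemma theta_comp :
    (theta P).comp (algebraMap (AdjoinRoot P.f) _) = algebraMap (AdjoinRoot P.f) _ :=
  IsLocalization.Away.lift_comp _ _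

instance isOpenImmersion_theta : IsOpenImmersion (Spec.map (CommRingCat.ofHom (theta P))) := by
  have e : Spec.map (CommRingCat.ofHom (theta P)) ≫
      Spec.map (CommRingCat.ofHom (algebraMap (AdjoinRoot P.f)
        (Localization.Away (AdjoinRoot.mk P.f (derivative P.f))))) =
      Spec.map (CommRingCat.ofHom (algebraMap (AdjoinRoot P.f)
        (Localization.Away (AdjoinRoot.mk P.f P.g)))) := by
    rw [← Spec.map_comp, ← CommRingCat.ofHom_comp, theta_comp]
  haveI : IsOpenImmersion (Spec.map (CommRingCat.ofHom (theta P)) ≫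
      Spec.map (CommRingCat.ofHom (algebraMap (AdjoinRoot P.f)
        (Localization.Away (AdjoinRoot.mk P.f (derivative P.f)))))) := by
    rw [e]; infer_instance
  exact IsOpenImmersion.of_comp _ (Spec.map (CommRingCat.ofHom (algebraMap (AdjoinRoot P.f)
        (Localization.Away (AdjoinRoot.mk P.f (derivative P.f))))))

lemma theta_algebraMap (r : R) :
    theta P (algebraMap R _ r) = algebraMap R _ r := by
  rw [IsScalarTower.algebraMap_apply R (AdjoinRoot P.f)
    (Localization.Away (AdjoinRoot.mk P.f (derivative P.f))),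
    IsScalarTower.algebraMap_apply R (AdjoinRoot P.f)
    (Localization.Away (AdjoinRoot.mk P.f P.g))]
  exact congrArg (fun k => k (algebraMap R (AdjoinRoot P.f) r)) (theta_comp P)

end Alg

section Chart

/-- a standard étale algebra is an open of a monogenic one -/
theorem exists_chart (R B : Type u) [CommRing R] [CommRing B] [Algebra R B]
    [Algebra.IsStandardEtale R B] :
    ∃ (p : R[X]) (_ : p.Monic)
      (ψ : Localization.Away (AdjoinRoot.mk p (derivative p)) →+* B),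
      IsOpenImmersion (Spec.map (CommRingCat.ofHom ψ)) ∧
        ψ.comp (algebraMap R _) = algebraMap R B := by
  obtain ⟨Q⟩ := (inferInstance : Algebra.IsStandardEtale R B).nonempty_standardEtalePresentation
  let ε : Localization.Away (AdjoinRoot.mk Q.P.f Q.P.g) ≃ₐ[R] B :=
    (Q.equivRing.trans Q.P.equivAwayAdjoinRoot).symm
  refine ⟨Q.P.f, Q.P.monic_f, ε.toRingEquiv.toRingHom.comp (theta Q.P), ?_, ?_⟩
  · rw [CommRingCat.ofHom_comp, Spec.map_comp]
    haveI : IsIso (CommRingCat.ofHom ε.toRingEquiv.toRingHom) :=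
      inferInstanceAs (IsIso ε.toRingEquiv.toCommRingCatIso.hom)
    infer_instance
  · ext r
    simp only [RingHom.comp_apply]
    rw [theta_algebraMap]
    exact ε.commutes r

end Chart

section Sch

theorem main_S9567 {X Y : Scheme.{u}} (φ : X ⟶ Y) (x : X)
    (V : Y.Opens) (hV : IsAffineOpen V) (hxV : φ.base x ∈ V)
    (hφ : ∃ W : X.Opens, x ∈ W ∧ Etale (W.ι ≫ φ)) :
    ∃ (U : X.Opens) (hU : IsAffineOpen U) (_ : x ∈ U) (e : U ≤ φ ⁻¹ᵁ V)
      (p : Polynomial Γ(Y, V)) (_ : p.Monic)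
      (j : U.toScheme ⟶ Spec (CommRingCat.of (Localization.Away
        (AdjoinRoot.mk p (Polynomial.derivative p))))),
      IsOpenImmersion j ∧
        j ≫ Spec.map (CommRingCat.ofHom
            (algebraMap Γ(Y, V) (Localization.Away (AdjoinRoot.mk p (Polynomial.derivative p))))) =
          hU.isoSpec.hom ≫ Spec.map (φ.appLE V U e) := by
  obtain ⟨W, hxW, hW⟩ := hφ
  obtain ⟨_, ⟨U₀', hU₀, rfl⟩, hxU₀', hU₀W⟩ := X.isBasis_affineOpens.exists_subset_of_mem_open
    (show x ∈ ((W ⊓ φ ⁻¹ᵁ V : X.Opens) : Set X) from ⟨hxW, hxV⟩) (W ⊓ φ ⁻¹ᵁ V).2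
  obtain ⟨U₀, hU₀eq⟩ : ∃ U₀ : X.Opens, U₀ = U₀' := ⟨U₀', rfl⟩
  subst hU₀eq
  have hxU₀ : x ∈ U₀ := hxU₀'
  have hU₀' : IsAffineOpen U₀ := hU₀
  have e₀ : U₀ ≤ φ ⁻¹ᵁ V := fun y hy => (hU₀W hy).2
  have eW : U₀ ≤ W := fun y hy => (hU₀W hy).1
  -- étaleness of the ring map
  haveI : IsAffine U₀.toScheme := hU₀'
  haveI : Etale (U₀.ι ≫ φ) := by
    have : U₀.ι = X.homOfLE eW ≫ W.ι := (X.homOfLE_ι eW).symm
    rw [this, Category.assoc]
    infer_instance
  have e' : (⊤ : U₀.toScheme.Opens) ≤ (U₀.ι ≫ φ) ⁻¹ᵁ V := by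
    intro y _
    exact e₀ y.2
  have het0 := HasRingHomProperty.appLE (P := @Etale) (U₀.ι ≫ φ) inferInstance ⟨V, hV⟩
    ⟨⊤, isAffineOpen_top _⟩ e'
  have hcomp : (U₀.ι ≫ φ).appLE V ⊤ e' =
      φ.appLE V U₀ e₀ ≫ X.presheaf.map (eqToHom U₀.ι_image_top).op := by
    rw [Scheme.Hom.comp_appLE, Scheme.Opens.ι_appLE]
    unfold Scheme.Hom.appLE
    rw [Category.assoc, ← Functor.map_comp]
    rfl
  have het : (φ.appLE V U₀ e₀).hom.Etale := by
    rw [hcomp] at het0
    exact (RingHom.Etale.respectsIso.cancel_right_isIso (φ.appLE V U₀ e₀)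
      (X.presheaf.map (eqToHom U₀.ι_image_top).op)).1 het0
  letI := (φ.appLE V U₀ e₀).hom.toAlgebra
  haveI : Algebra.Etale Γ(Y, V) Γ(X, U₀) := het
  let q := hU₀'.primeIdealOf ⟨x, hxU₀⟩
  haveI : Algebra.IsEtaleAt Γ(Y, V) q.asIdeal := by
    have h1 := (Algebra.etaleLocus_eq_univ_iff_etale (R := Γ(Y, V)) (A := Γ(X, U₀))).2
      inferInstance
    have h2 : q ∈ Algebra.etaleLocus Γ(Y, V) Γ(X, U₀) := by rw [h1]; trivial
    exact h2
  obtain ⟨h, hq, hstd⟩ := Algebra.IsEtaleAt.exists_isStandardEtale (R := Γ(Y, V)) q.asIdeal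
  have hU : IsAffineOpen (X.basicOpen h) := hU₀'.basicOpen h
  have hle : X.basicOpen h ≤ U₀ := X.basicOpen_le h
  have hxU : x ∈ X.basicOpen h := by
    have h1 : q ∈ hU₀'.fromSpec ⁻¹ᵁ X.basicOpen h := by
      rw [hU₀'.fromSpec_preimage_basicOpen]
      exact hq
    have h2 : hU₀'.fromSpec q = x := hU₀'.fromSpec_primeIdealOf ⟨x, hxU₀⟩
    rw [← h2]; exact h1
  have e : X.basicOpen h ≤ φ ⁻¹ᵁ V := hle.trans e₀
  haveI : IsLocalization.Away h Γ(X, X.basicOpen h) := hU₀'.isLocalization_basicOpen h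
  letI : Algebra Γ(Y, V) Γ(X, X.basicOpen h) := (φ.appLE V (X.basicOpen h) e).hom.toAlgebra
  haveI : IsScalarTower Γ(Y, V) Γ(X, U₀) Γ(X, X.basicOpen h) :=
    IsScalarTower.of_algebraMap_eq' (by
      change (φ.appLE V (X.basicOpen h) e).hom =
        (X.presheaf.map (homOfLE hle).op).hom.comp (φ.appLE V U₀ e₀).hom
      rw [← CommRingCat.hom_comp, Scheme.Hom.appLE_map])
  let ε₀ : Localization.Away h ≃ₐ[Γ(X, U₀)] Γ(X, X.basicOpen h) :=
    IsLocalization.algEquiv (.powers h) _ _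
  let ε : Localization.Away h ≃ₐ[Γ(Y, V)] Γ(X, X.basicOpen h) := ε₀.restrictScalars Γ(Y, V)
  haveI : Algebra.IsStandardEtale Γ(Y, V) Γ(X, X.basicOpen h) :=
    Algebra.IsStandardEtale.of_equiv ε
  obtain ⟨p, hp, ψ, hψ, hcompat⟩ := exists_chart Γ(Y, V) Γ(X, X.basicOpen h)
  refine ⟨X.basicOpen h, hU, hxU, e, p, hp, hU.isoSpec.hom ≫ Spec.map (CommRingCat.ofHom ψ),
    inferInstance, ?_⟩
  rw [Category.assoc, ← Spec.map_comp, ← CommRingCat.ofHom_comp, hcompat]
  rfl

end Sch

end Groth.Agent.Lib.T2H8.StdEtaleChart
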