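import Mathlib
import Groth.Agent.Lib.T2H8StrictHens

set_option autoImplicit false
universe u
open IsLocalRing CategoryTheory CategoryTheory.Limits AlgebraicGeometry Opposite

namespace Groth.Agent.Lib.T2H8.StrictHens

/-- Over a henselian local ring `R`, a residue-field-valued point of an étale `R`-algebra lifts to
an `R`-algebra retraction. -/
theorem exists_algHom_lift (R : Type u) [CommRing R] [HenselianLocalRing R]
    (A : Type u) [CommRing A] [Algebra R A] [Algebra.Etale R A]
    (χ : A →ₐ[R] ResidueField R) :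
    ∃ f : A →ₐ[R] R, ∀ a, residue R (f a) = χ a := by
  have hq : (RingHom.ker χ).IsPrime := RingHom.ker_isPrime χ
  let τ : (RingHom.ker χ).ResidueField →ₐ[R] ResidueField R :=
    Ideal.ResidueField.liftₐ (RingHom.ker χ) χ le_rfl (by
      intro a ha
      refine IsUnit.mk0 _ ?_
      exact ha)
  obtain ⟨f, hf, -⟩ := Groth.Agent.Lib.Helper3.Hensel.existsUnique_algHom_of_etale (R := R) (S := R)
    (RingHom.ker χ) τ
  exact ⟨f, fun a => by rw [hf, Ideal.ResidueField.liftₐ_algebraMap]⟩

/-- Over a henselian local ring, a point of an étale scheme with values in the residue field and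
lying over the closed point extends to a section. -/
theorem exists_section_through (R : Type u) [CommRing R] [HenselianLocalRing R]
    {V : Scheme.{u}} (g : V ⟶ Spec (CommRingCat.of R)) [Etale g]
    (w : Spec (CommRingCat.of (ResidueField R)) ⟶ V)
    (hw : w ≫ g = Spec.map (CommRingCat.ofHom (residue R))) :
    ∃ σ : Spec (CommRingCat.of R) ⟶ V, σ ≫ g = 𝟙 _ ∧
      Spec.map (CommRingCat.ofHom (residue R)) ≫ σ = w := by
  obtain ⟨A, j, _, hj, _⟩ := Scheme.exists_affine_mem_range_and_range_subset
    (x := w default) (U := ⊤) (by simp)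
  have hrange : Set.range w ⊆ Set.range j := by
    rintro _ ⟨a, rfl⟩
    rwa [Subsingleton.elim a default]
  let w' : Spec (CommRingCat.of (ResidueField R)) ⟶ Spec A := IsOpenImmersion.lift j w hrange
  have hw' : w' ≫ j = w := IsOpenImmersion.lift_fac j w hrange
  let ψ : CommRingCat.of R ⟶ A := Spec.preimage (j ≫ g)
  have hψ : Spec.map ψ = j ≫ g := Spec.map_preimage _
  let χ₀ : A ⟶ CommRingCat.of (ResidueField R) := Spec.preimage w'
  have hχ₀ : Spec.map χ₀ = w' := Spec.map_preimage _
  have hcomp : ψ ≫ χ₀ = CommRingCat.ofHom (residue R) := by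
    apply Spec.map_injective
    rw [Spec.map_comp, hψ, hχ₀, ← Category.assoc, hw', hw]
  have hE : Etale (Spec.map ψ) := by rw [hψ]; infer_instance
  have hE' : ψ.hom.Etale := (HasRingHomProperty.Spec_iff (P := @Etale)).mp hE
  algebraize [ψ.hom]
  let χ : A →ₐ[R] ResidueField R :=
    { χ₀.hom with
      commutes' := fun r => by
        have := congrArg (fun φ => φ.hom r) hcomp
        exact this }
  obtain ⟨f, hf⟩ := exists_algHom_lift R A χ
  refine ⟨Spec.map (CommRingCat.ofHom f.toRingHom) ≫ j, ?_, ?_⟩
  · rw [Category.assoc, ← hψ, ← Spec.map_comp]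
    have : ψ ≫ CommRingCat.ofHom f.toRingHom = 𝟙 _ := by
      ext r
      exact f.commutes r
    rw [this, Spec.map_id]
  · rw [← Category.assoc, ← Spec.map_comp, ← hw', ← hχ₀]
    congr 2
    ext a
    exact hf a

end Groth.Agent.Lib.T2H8.StrictHens
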