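import Mathlib
import Groth.Prelude.Def_SGA4b
import Groth.Prelude.Def_Hens2
import Groth.Agent.Lib.T2H8StrictHens2
import Groth.Agent.Lib.T2H8PullFaithful

/-!
# The fibre functor at the closed geometric point of a strictly henselian local scheme is global
sections (helper8)
-/

set_option autoImplicit false
set_option linter.style.haveILetI false
set_option linter.unusedSectionVars false
universe u
open IsLocalRing CategoryTheory CategoryTheory.Limits AlgebraicGeometry Opposite

namespace Groth.Agent.Lib.T2H8.StrictLocFiber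

variable (R : Type u) [CommRing R] [HenselianLocalRing R]

/-- two retractions of an étale algebra over a henselian local ring which agree modulo the maximal
ideal are equal -/
theorem algHom_ext_of_residue (A : Type u) [CommRing A] [Algebra R A] [Algebra.Etale R A]
    (f₁ f₂ : A →ₐ[R] R) (h : ∀ a, residue R (f₁ a) = residue R (f₂ a)) : f₁ = f₂ := by
  let χ : A →ₐ[R] ResidueField R := (IsScalarTower.toAlgHom R R (ResidueField R)).comp f₁
  have hχ : ∀ a, χ a = residue R (f₁ a) := fun a => rfl
  have hq : (RingHom.ker χ).IsPrime := RingHom.ker_isPrime χ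
  let τ : (RingHom.ker χ).ResidueField →ₐ[R] ResidueField R :=
    Ideal.ResidueField.liftₐ (RingHom.ker χ) χ le_rfl (by
      intro a ha
      refine IsUnit.mk0 _ ?_
      exact ha)
  obtain ⟨f, -, hf⟩ := Groth.Agent.Lib.Helper3.Hensel.existsUnique_algHom_of_etale (R := R) (S := R)
    (RingHom.ker χ) τ
  have e1 : f₁ = f := hf f₁ (fun a => by rw [Ideal.ResidueField.liftₐ_algebraMap, hχ])
  have e2 : f₂ = f := hf f₂ (fun a => by rw [Ideal.ResidueField.liftₐ_algebraMap, hχ, h])
  rw [e1, e2]

/-- a morphism from a local scheme whose closed point lands in an open subscheme factors through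
that open subscheme -/
theorem range_subset_of_closedPoint {V : Scheme.{u}} (σ : Spec (CommRingCat.of R) ⟶ V)
    {W : Scheme.{u}} (j : W ⟶ V) [IsOpenImmersion j] (h : σ (closedPoint R) ∈ Set.range j) :
    Set.range σ ⊆ Set.range j := by
  rintro _ ⟨p, rfl⟩
  have hopen : IsOpen (σ ⁻¹' Set.range j) := j.isOpenEmbedding.isOpen_range.preimage σ.continuous
  have hsp : p ⤳ closedPoint R := IsLocalRing.specializes_closedPoint p
  exact hsp.mem_open hopen h

/-- two sections of an étale scheme over a henselian local ring which agree on the closed point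
(as morphisms from the spectrum of the residue field) are equal -/
theorem section_ext {V : Scheme.{u}} (g : V ⟶ Spec (CommRingCat.of R)) [Etale g]
    (σ₁ σ₂ : Spec (CommRingCat.of R) ⟶ V) (h₁ : σ₁ ≫ g = 𝟙 _) (h₂ : σ₂ ≫ g = 𝟙 _)
    (h : Spec.map (CommRingCat.ofHom (residue R)) ≫ σ₁ =
      Spec.map (CommRingCat.ofHom (residue R)) ≫ σ₂) : σ₁ = σ₂ := by
  let ξ₀ : Spec (CommRingCat.of (ResidueField R)) ⟶ Spec (CommRingCat.of R) :=
    Spec.map (CommRingCat.ofHom (residue R))
  have hcl : ξ₀ default = closedPoint R := by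
    have : (ξ₀ default).asIdeal = (closedPoint R).asIdeal := by
      change Ideal.comap (residue R) _ = maximalIdeal R
      rw [← IsLocalRing.ker_residue]
      congr 1
    exact PrimeSpectrum.ext this
  have hpt : σ₁ (closedPoint R) = σ₂ (closedPoint R) := by
    rw [← hcl]
    have e1 : σ₁ (ξ₀ default) = (ξ₀ ≫ σ₁) default := (Scheme.Hom.comp_apply _ _ _).symm
    have e2 : σ₂ (ξ₀ default) = (ξ₀ ≫ σ₂) default := (Scheme.Hom.comp_apply _ _ _).symm
    rw [e1, e2, h]
  obtain ⟨A, j, _, hj, _⟩ := Scheme.exists_affine_mem_range_and_range_subset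
    (x := σ₁ (closedPoint R)) (U := ⊤) (by simp)
  have hr1 : Set.range σ₁ ⊆ Set.range j := range_subset_of_closedPoint R σ₁ j hj
  have hr2 : Set.range σ₂ ⊆ Set.range j := range_subset_of_closedPoint R σ₂ j (hpt ▸ hj)
  let τ₁ : Spec (CommRingCat.of R) ⟶ Spec A := IsOpenImmersion.lift j σ₁ hr1
  let τ₂ : Spec (CommRingCat.of R) ⟶ Spec A := IsOpenImmersion.lift j σ₂ hr2
  have hτ₁ : τ₁ ≫ j = σ₁ := IsOpenImmersion.lift_fac j σ₁ hr1
  have hτ₂ : τ₂ ≫ j = σ₂ := IsOpenImmersion.lift_fac j σ₂ hr2
  let ψ : CommRingCat.of R ⟶ A := Spec.preimage (j ≫ g)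
  have hψ : Spec.map ψ = j ≫ g := Spec.map_preimage _
  let φ₁ : A ⟶ CommRingCat.of R := Spec.preimage τ₁
  let φ₂ : A ⟶ CommRingCat.of R := Spec.preimage τ₂
  have hφ₁ : Spec.map φ₁ = τ₁ := Spec.map_preimage _
  have hφ₂ : Spec.map φ₂ = τ₂ := Spec.map_preimage _
  have hc1 : ψ ≫ φ₁ = 𝟙 _ := by
    apply Spec.map_injective
    rw [Spec.map_comp, hψ, hφ₁, ← Category.assoc, hτ₁, h₁, Spec.map_id]
  have hc2 : ψ ≫ φ₂ = 𝟙 _ := by
    apply Spec.map_injective
    rw [Spec.map_comp, hψ, hφ₂, ← Category.assoc, hτ₂, h₂, Spec.map_id]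
  have hres : φ₁ ≫ CommRingCat.ofHom (residue R) = φ₂ ≫ CommRingCat.ofHom (residue R) := by
    apply Spec.map_injective
    rw [Spec.map_comp, Spec.map_comp, hφ₁, hφ₂, ← cancel_mono j, Category.assoc, Category.assoc,
      hτ₁, hτ₂]
    exact h
  have hE : Etale (Spec.map ψ) := by rw [hψ]; infer_instance
  have hE' : ψ.hom.Etale := (HasRingHomProperty.Spec_iff (P := @Etale)).mp hE
  algebraize [ψ.hom]
  let f₁ : A →ₐ[R] R :=
    { φ₁.hom with
      commutes' := fun r => by
        have := congrArg (fun φ => φ.hom r) hc1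
        exact this }
  let f₂ : A →ₐ[R] R :=
    { φ₂.hom with
      commutes' := fun r => by
        have := congrArg (fun φ => φ.hom r) hc2
        exact this }
  have hf : f₁ = f₂ := by
    apply algHom_ext_of_residue R A f₁ f₂
    intro a
    have := congrArg (fun φ => φ.hom a) hres
    exact this
  have hφ : φ₁ = φ₂ := by
    ext a
    exact congrArg (fun f : A →ₐ[R] R => f a) hf
  rw [← hτ₁, ← hτ₂, ← hφ₁, ← hφ₂, hφ]

variable [IsSepClosed (ResidueField R)]

/-- the closed geometric point of `Spec R` -/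
noncomputable abbrev ξ₀ : Spec (CommRingCat.of (ResidueField R)) ⟶ Spec (CommRingCat.of R) :=
  Spec.map (CommRingCat.ofHom (residue R))

/-- the tautological element of the fibre of the terminal object -/
noncomputable def x₀ : (Scheme.pointSmallEtale (ξ₀ R)).fiber.obj (EtCoh.top (Spec (CommRingCat.of R))) :=
  Over.homMk (ξ₀ R) (Category.comp_id _)

set_option backward.isDefEq.respectTransparency.types false in
/-- `(Spec R, ξ₀)` is an initial étale neighbourhood of the closed geometric point -/
noncomputable def isInitial :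
    IsInitial (Functor.elementsMk (Scheme.pointSmallEtale (ξ₀ R)).fiber
      (EtCoh.top (Spec (CommRingCat.of R))) (x₀ R)) := by
  refine IsInitial.ofUniqueHom (fun Y => ?_) (fun Y m => ?_)
  · have hw : Y.2.left ≫ Y.1.hom = ξ₀ R := Over.w Y.2
    let σ := (Groth.Agent.Lib.T2H8.StrictHens.exists_section_through R Y.1.hom Y.2.left hw).choose
    have hσ := (Groth.Agent.Lib.T2H8.StrictHens.exists_section_through R Y.1.hom Y.2.left hw).choose_spec
    refine ⟨MorphismProperty.Over.homMk σ (hσ.1.trans (by rfl)) trivial, ?_⟩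
    apply Over.OverMorphism.ext
    exact hσ.2
  · have hw : Y.2.left ≫ Y.1.hom = ξ₀ R := Over.w Y.2
    apply Subtype.ext
    apply MorphismProperty.Over.Hom.ext
    have hm : (Scheme.pointSmallEtale (ξ₀ R)).fiber.map m.1 (x₀ R) = Y.2 := m.2
    have hm' : ξ₀ R ≫ m.1.left = Y.2.left := congrArg (fun t => t.left) hm
    have hs1 : m.1.left ≫ Y.1.hom = 𝟙 _ := (MorphismProperty.Over.w m.1).trans (by rfl)
    apply section_ext R Y.1.hom _ _ hs1
    · exact ((Groth.Agent.Lib.T2H8.StrictHens.exists_section_through R Y.1.hom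
        Y.2.left hw).choose_spec).1
    · rw [hm']
      exact (((Groth.Agent.Lib.T2H8.StrictHens.exists_section_through R Y.1.hom
        Y.2.left hw).choose_spec).2).symm

set_option backward.isDefEq.respectTransparency.types false in
theorem isIso_toPresheafFiber (P : (Spec (CommRingCat.of R)).Etaleᵒᵖ ⥤ Type (u + 1)) :
    IsIso ((Scheme.pointSmallEtale (ξ₀ R)).toPresheafFiber (EtCoh.top _) (x₀ R) P) := by
  have ht : IsTerminal (op (Functor.elementsMk (Scheme.pointSmallEtale (ξ₀ R)).fiber
      (EtCoh.top (Spec (CommRingCat.of R))) (x₀ R))) := terminalOpOfInitial (isInitial R)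
  exact isIso_ι_of_isTerminal ht
    ((CategoryOfElements.π (Scheme.pointSmallEtale (ξ₀ R)).fiber).op ⋙ P)

set_option backward.isDefEq.respectTransparency.types false in
/-- global sections are the fibre at the closed geometric point -/
noncomputable def sectionsIsoFiber :
    (sheafSections (Spec (CommRingCat.of R)).smallEtaleTopology (Type (u + 1))).obj
      (op (EtCoh.top (Spec (CommRingCat.of R)))) ≅
    (Scheme.pointSmallEtale (ξ₀ R)).sheafFiber (A := Type (u + 1)) :=
  NatIso.ofComponents
    (fun F => @asIso _ _ _ _ ((Scheme.pointSmallEtale (ξ₀ R)).toPresheafFiber (EtCoh.top _) (x₀ R) F.obj)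
      (isIso_toPresheafFiber R F.obj))
    (by
      intro F G a
      exact ((Scheme.pointSmallEtale (ξ₀ R)).toPresheafFiber_naturality a.hom
        (EtCoh.top _) (x₀ R)).symm)

end Groth.Agent.Lib.T2H8.StrictLocFiber
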