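import Mathlib
import Groth.Prelude.Def_SGA4b
import Groth.Agent.Lib.T2H8MemLocus

set_option autoImplicit false
universe u
open CategoryTheory CategoryTheory.Limits AlgebraicGeometry Opposite

namespace Groth.Agent.Lib.T2H8SubDesc

open Groth.Agent.Lib.T2H8ShStalkA Groth.Agent.Lib.Helper16.SmallEtale
open Groth.Agent.Lib.T2H8StalkFiniteCore Groth.Agent.Lib.T2H8FiniteBC Groth.Agent.S0100
open Groth.Agent.Lib.T2H8Agree Groth.Agent.Lib.T2H8MemLocus Groth.Agent.Lib.T2H8DescCore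
  Groth.Agent.Lib.T2H8DescSat

section Factor

variable {Z : Scheme.{u}}

set_option backward.isDefEq.respectTransparency.types false in
lemma injective_of_mono {G H : EtDesc.Sh Z} (a : G ⟶ H) [Mono a] (W : Z.Etale) :
    Function.Injective (a.hom.app (op W)) :=
  Groth.Agent.Lib.T2H8SecPull.injective_app_of_mono a _

set_option backward.isDefEq.respectTransparency.types false in
/-- a morphism factors through a subsheaf if it does so locally. -/
lemma exists_factor {G₁ G₂ F : EtDesc.Sh Z} (a₁ : G₁ ⟶ F) (a₂ : G₂ ⟶ F) [Mono a₂]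
    (hloc : ∀ (U : Z.Etale) (t₁ : G₁.obj.obj (op U)) (v : U.left),
      v ∈ memL a₂ (a₁.hom.app (op U) t₁)) : ∃ ψ : G₁ ⟶ G₂, ψ ≫ a₂ = a₁ := by
  have hinj := injective_of_mono a₂
  have key : ∀ (U : Z.Etale) (t₁ : G₁.obj.obj (op U)), ∃ t₂ : G₂.obj.obj (op U),
      a₂.hom.app (op U) t₂ = a₁.hom.app (op U) t₁ := fun U t₁ =>
    exists_of_memL_eq_univ a₂ hinj _ (hloc U t₁)
  choose ψf hψ using key
  have hnat : ∀ {U V : Z.Etale} (h : V ⟶ U) (t : G₁.obj.obj (op U)),
      ψf V (G₁.obj.map h.op t) = G₂.obj.map h.op (ψf U t) := by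
    intro U V h t
    apply hinj V
    rw [hψ]
    have n1 := NatTrans.naturality_apply a₁.hom h.op t
    have n2 := NatTrans.naturality_apply a₂.hom h.op (ψf U t)
    rw [n1, n2, hψ]
  refine ⟨⟨{ app := fun U => TypeCat.ofHom (ψf U.unop)
             naturality := by
              intro U V h
              ext t
              exact hnat h.unop t }⟩, ?_⟩
  apply Sheaf.hom_ext
  ext U t
  exact hψ U.unop t

/-- two subsheaves which factor through each other are isomorphic. -/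
lemma exists_iso_of_factor {G₁ G₂ F : EtDesc.Sh Z} (a₁ : G₁ ⟶ F) (a₂ : G₂ ⟶ F) [Mono a₁] [Mono a₂]
    (ψ : G₁ ⟶ G₂) (hψ : ψ ≫ a₂ = a₁) (ψ' : G₂ ⟶ G₁) (hψ' : ψ' ≫ a₁ = a₂) :
    ∃ e : G₁ ≅ G₂, e.hom ≫ a₂ = a₁ := by
  refine ⟨⟨ψ, ψ', ?_, ?_⟩, hψ⟩
  · rw [← cancel_mono a₁, Category.assoc, hψ', hψ, Category.id_comp]
  · rw [← cancel_mono a₂, Category.assoc, hψ, hψ', Category.id_comp]

end Factor


section PartA

variable {X' X : Scheme.{u}} (f : X' ⟶ X)

set_option backward.isDefEq.respectTransparency.types false in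
lemma memL_of_pull_factor [Surjective f] {G₁ G₂ F : EtDesc.Sh X} (a₁ : G₁ ⟶ F) (a₂ : G₂ ⟶ F)
    (φ : (EtDesc.pullSh f).obj G₁ ⟶ (EtDesc.pullSh f).obj G₂)
    (hφ : φ ≫ (EtDesc.pullSh f).map a₂ = (EtDesc.pullSh f).map a₁)
    (U : X.Etale) (t₁ : G₁.obj.obj (op U)) (v : U.left) :
    v ∈ memL a₂ (a₁.hom.app (op U) t₁) := by
  obtain ⟨v', hv'⟩ := (inferInstance : Surjective (pullback.fst U.hom f)).surj v
  rw [← hv', ← mem_memL_pull_iff f a₂ (a₁.hom.app (op U) t₁) v']
  refine ⟨(EtCoh.bc f).obj U, 𝟙 _, v', rfl,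
    φ.hom.app (op ((EtCoh.bc f).obj U)) (((EtDesc.adjSh f).unit.app G₁).hom.app (op U) t₁), ?_⟩
  have e1 : ((EtDesc.pullSh f).map a₂).hom.app (op ((EtCoh.bc f).obj U))
      (φ.hom.app (op ((EtCoh.bc f).obj U)) (((EtDesc.adjSh f).unit.app G₁).hom.app (op U) t₁)) =
      ((EtDesc.pullSh f).map a₁).hom.app (op ((EtCoh.bc f).obj U))
        (((EtDesc.adjSh f).unit.app G₁).hom.app (op U) t₁) :=
    congrArg (fun m => m.hom.app (op ((EtCoh.bc f).obj U))
      (((EtDesc.adjSh f).unit.app G₁).hom.app (op U) t₁)) hφ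
  have e2 : ((EtDesc.pullSh f).map a₁).hom.app (op ((EtCoh.bc f).obj U))
        (((EtDesc.adjSh f).unit.app G₁).hom.app (op U) t₁) =
      ((EtDesc.adjSh f).unit.app F).hom.app (op U) (a₁.hom.app (op U) t₁) :=
    congrArg (fun m => m.hom.app (op U) t₁) ((EtDesc.adjSh f).unit.naturality a₁).symm
  refine e1.trans (e2.trans ?_)
  exact (congrArg (fun m => (ConcreteCategory.hom m)
    (((EtDesc.adjSh f).unit.app F).hom.app (op U) (a₁.hom.app (op U) t₁)))
    (((EtDesc.pullSh f).obj F).obj.map_id (op ((EtCoh.bc f).obj U)))).symm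

set_option backward.isDefEq.respectTransparency.types false in
/-- part (a) of `S5595`. -/
theorem sub_injective [Surjective f] {F : EtDesc.Sh X} (G₁ G₂ : EtDesc.Sh X) (a₁ : G₁ ⟶ F)
    (a₂ : G₂ ⟶ F) [Mono a₁] [Mono a₂]
    (h : ∃ φ : (EtDesc.pullSh f).obj G₁ ≅ (EtDesc.pullSh f).obj G₂,
      φ.hom ≫ (EtDesc.pullSh f).map a₂ = (EtDesc.pullSh f).map a₁) :
    ∃ ψ : G₁ ≅ G₂, ψ.hom ≫ a₂ = a₁ := by
  obtain ⟨φ, hφ⟩ := h
  have hφ' : φ.inv ≫ (EtDesc.pullSh f).map a₁ = (EtDesc.pullSh f).map a₂ := by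
    rw [← hφ, Iso.inv_hom_id_assoc]
  obtain ⟨ψ, hψ⟩ := exists_factor a₁ a₂ (memL_of_pull_factor f a₁ a₂ φ.hom hφ)
  obtain ⟨ψ', hψ'⟩ := exists_factor a₂ a₁ (memL_of_pull_factor f a₂ a₁ φ.inv hφ')
  exact exists_iso_of_factor a₁ a₂ ψ hψ ψ' hψ'

end PartA


section PartB

variable {X' X : Scheme.{u}} (f : X' ⟶ X) {F : EtDesc.Sh X} {G' : EtDesc.Sh X'}
  (a' : G' ⟶ (EtDesc.pullSh f).obj F)

set_option backward.isDefEq.respectTransparency.types false in
/-- the subfunctor of sections of `F` whose pullback lies in `G'`. -/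
def subG : Subfunctor F.obj where
  obj U := {t | ∃ s : G'.obj.obj (op ((EtCoh.bc f).obj U.unop)),
    a'.hom.app (op ((EtCoh.bc f).obj U.unop)) s =
      ((EtDesc.adjSh f).unit.app F).hom.app (op U.unop) t}
  map := by
    rintro U V i t ⟨s, hs⟩
    refine ⟨G'.obj.map ((EtCoh.bc f).map i.unop).op s, ?_⟩
    have n1 := NatTrans.naturality_apply a'.hom ((EtCoh.bc f).map i.unop).op s
    have n2 := unit_map f F i.unop t
    exact n1.trans ((congrArg _ hs).trans n2.symm)

set_option backward.isDefEq.respectTransparency.types false in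
lemma mem_subG_iff (U : X.Etale) (t : F.obj.obj (op U)) :
    t ∈ (subG f a').obj (op U) ↔ ∃ s : G'.obj.obj (op ((EtCoh.bc f).obj U)),
      a'.hom.app (op ((EtCoh.bc f).obj U)) s = ((EtDesc.adjSh f).unit.app F).hom.app (op U) t :=
  Iff.rfl

set_option backward.isDefEq.respectTransparency.types false in
lemma isSheaf_subG [Mono a'] :
    Presieve.IsSheaf X.smallEtaleTopology (subG f a').toFunctor := by
  rw [Subfunctor.isSheaf_iff _ ((isSheaf_iff_isSheaf_of_type _ _).mp F.property)]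
  intro U t ht
  induction U using Opposite.rec with | _ U => ?_
  rw [mem_subG_iff]
  apply exists_of_memL_eq_univ a' (injective_of_mono a')
  intro v'
  rw [mem_smallEtale_iff] at ht
  obtain ⟨W, g, w, hg, hw⟩ := ht ((pullback.fst U.hom f) v')
  obtain ⟨s, hs⟩ := hg
  have sq := EtCoh.isPullback_bc_map f g
  obtain ⟨z, hz1, hz2⟩ := Scheme.Pullback.exists_preimage_pullback
    (f := (pullback.fst U.hom f : ((EtCoh.bc f).obj U).left ⟶ U.left)) (g := g.left) v' w hw.symm
  refine ⟨(EtCoh.bc f).obj W, (EtCoh.bc f).map g, sq.isoPullback.inv z, ?_, s, ?_⟩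
  · rw [← hz1, ← Scheme.Hom.comp_apply, IsPullback.isoPullback_inv_fst]
    rfl
  · exact hs.trans (unit_map f F g t)

/-- the descended subsheaf. -/
noncomputable def descSub [Mono a'] : EtDesc.Sh X :=
  ⟨(subG f a').toFunctor, (isSheaf_iff_isSheaf_of_type _ _).mpr (isSheaf_subG f a')⟩

/-- the inclusion of the descended subsheaf. -/
noncomputable def descSubι [Mono a'] : descSub f a' ⟶ F := ⟨(subG f a').ι⟩

instance [Mono a'] : Mono (descSubι f a') := by
  haveI : Mono ((sheafToPresheaf _ _).map (descSubι f a')) :=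
    inferInstanceAs (Mono (subG f a').ι)
  exact (sheafToPresheaf _ _).mono_of_mono_map inferInstance

set_option backward.isDefEq.respectTransparency.types false in
lemma exists_theta [Mono a'] : ∃ θ : descSub f a' ⟶ (EtDesc.pushSh f).obj G',
    θ ≫ (EtDesc.pushSh f).map a' = descSubι f a' ≫ (EtDesc.adjSh f).unit.app F := by
  have hinj := injective_of_mono a'
  let θf : ∀ U : X.Etale, (subG f a').obj (op U) → G'.obj.obj (op ((EtCoh.bc f).obj U)) :=
    fun U t => t.2.choose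
  have hθ : ∀ (U : X.Etale) (t : (subG f a').obj (op U)),
      a'.hom.app (op ((EtCoh.bc f).obj U)) (θf U t) =
        ((EtDesc.adjSh f).unit.app F).hom.app (op U) t.1 := fun U t => t.2.choose_spec
  have hnat : ∀ {U V : X.Etale} (i : V ⟶ U) (t : (subG f a').obj (op U)),
      θf V ((subG f a').toFunctor.map i.op t) =
        G'.obj.map ((EtCoh.bc f).map i).op (θf U t) := by
    intro U V i t
    apply hinj
    have n1 := NatTrans.naturality_apply a'.hom ((EtCoh.bc f).map i).op (θf U t)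
    have n2 := unit_map f F i t.1
    rw [hθ, n1, hθ]
    exact n2
  refine ⟨⟨{ app := fun U => TypeCat.ofHom (θf U.unop)
             naturality := by
              intro U V i
              ext t
              exact hnat i.unop t }⟩, ?_⟩
  apply Sheaf.hom_ext
  ext U t
  exact hθ U.unop t

set_option backward.isDefEq.respectTransparency.types false in
/-- the comparison `f^* G ⟶ G'` over `f^* F`. -/
lemma exists_psi [Mono a'] : ∃ ψ₀ : (EtDesc.pullSh f).obj (descSub f a') ⟶ G',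
    ψ₀ ≫ a' = (EtDesc.pullSh f).map (descSubι f a') := by
  obtain ⟨θ, hθ⟩ := exists_theta f a'
  refine ⟨((EtDesc.adjSh f).homEquiv _ _).symm θ, ?_⟩
  apply ((EtDesc.adjSh f).homEquiv _ _).injective
  rw [Adjunction.homEquiv_naturality_right, Equiv.apply_symm_apply, hθ, Adjunction.homEquiv_unit]
  exact (EtDesc.adjSh f).unit.naturality (descSubι f a')

end PartB


section Stalk

variable {Z : Scheme.{u}}

set_option backward.isDefEq.respectTransparency.types false in
lemma stalk_injective_of_mono {G H : EtDesc.Sh Z} (a : G ⟶ H) [Mono a] {Ω : Type u} [Field Ω]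
    [IsSepClosed Ω] (ξ : Spec (CommRingCat.of Ω) ⟶ Z) :
    Function.Injective ((stalkSh ξ).map a) := by
  haveI : Sheaf.IsLocallyInjective a :=
    (Sheaf.isLocallyInjective_iff_injective a).mpr
      (fun U => Groth.Agent.Lib.T2H8SecPull.injective_app_of_mono a U)
  exact (Scheme.pointSmallEtale ξ).toPresheafFiber_map_injective a.hom

set_option backward.isDefEq.respectTransparency.types false in
lemma exists_lift_open {Ω : Type u} [Field Ω] {P : Scheme.{u}} (D : P.Opens)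
    (l : Spec (CommRingCat.of Ω) ⟶ P)
    (h : l (default : Spec (CommRingCat.of Ω)) ∈ D) :
    ∃ l₀ : Spec (CommRingCat.of Ω) ⟶ D, l₀ ≫ D.ι = l := by
  have hr : Set.range l ⊆ Set.range D.ι := by
    rintro _ ⟨q, rfl⟩
    have : q = (default : Spec (CommRingCat.of Ω)) :=
      Subsingleton.elim (α := ↥(Spec (CommRingCat.of Ω))) _ _
    rw [this, Scheme.Opens.range_ι]
    exact h
  exact ⟨IsOpenImmersion.lift D.ι l hr, IsOpenImmersion.lift_fac _ _ _⟩

end Stalk


section Iso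

open Groth.Agent.Lib.T2H8EtZarSheaf

variable {X' X : Scheme.{u}} (f : X' ⟶ X) {F : EtDesc.Sh X} {G' : EtDesc.Sh X'}
  (a' : G' ⟶ (EtDesc.pullSh f).obj F)

set_option backward.isDefEq.respectTransparency.types false in
/-- a saturated open subset of `U ×_X X'` is the preimage of an open subset of `U`. -/
lemma exists_open_of_saturated (hf : EtDesc.IsUnivSubmersive f) (U : X.Etale)
    (E : Set ((EtCoh.bc f).obj U).left) (hE : IsOpen E)
    (hsat : ∀ y z : ((EtCoh.bc f).obj U).left,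
      (pullback.fst U.hom f) y = (pullback.fst U.hom f) z → y ∈ E → z ∈ E) :
    ∃ E₀ : U.left.Opens, ∀ y : ((EtCoh.bc f).obj U).left, (pullback.fst U.hom f) y ∈ E₀ ↔ y ∈ E := by
  have hq := quotient_fst f hf U
  let E₀ : Set U.left := (pullback.fst U.hom f) '' E
  have hpre : (pullback.fst U.hom f) ⁻¹' E₀ = E := by
    apply Set.Subset.antisymm
    · rintro y ⟨z, hz, hzy⟩
      exact hsat z y hzy hz
    · intro y hy
      exact ⟨y, hy, rfl⟩
  have hE₀ : IsOpen E₀ := by
    rw [← hq.isOpen_preimage, hpre]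
    exact hE
  refine ⟨⟨E₀, hE₀⟩, fun y => ?_⟩
  have e : y ∈ (pullback.fst U.hom f) ⁻¹' E₀ ↔ y ∈ E := Eq.to_iff (congrArg (fun T => y ∈ T) hpre)
  exact e

set_option backward.isDefEq.respectTransparency.types false in
/-- a section of `F` whose pullback lies in `G'` near a point restricts to a section of the
descended subsheaf near the image point. -/
lemma exists_sub_section (hf : EtDesc.IsUnivSubmersive f) [Mono a']
    (φ : (EtDesc.pullSh (pullback.fst f f)).obj G' ≅ (EtDesc.pullSh (pullback.snd f f)).obj G')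
    (hφ : φ.hom ≫ (EtDesc.pullSh (pullback.snd f f)).map a' =
      (EtDesc.pullSh (pullback.fst f f)).map a' ≫ (EtDesc.canIso f F).hom)
    (U : X.Etale) (t : F.obj.obj (op U)) (y₀ : ((EtCoh.bc f).obj U).left)
    (hy₀ : y₀ ∈ memL a' (((EtDesc.adjSh f).unit.app F).hom.app (op U) t)) :
    ∃ E₀ : U.left.Opens, (pullback.fst U.hom f) y₀ ∈ E₀ ∧
      F.obj.map (opnι U E₀).op t ∈ (subG f a').obj (op (opn U E₀)) := by
  obtain ⟨E₀, hE₀⟩ := exists_open_of_saturated f hf U
    (memL a' (((EtDesc.adjSh f).unit.app F).hom.app (op U) t)) (isOpen_memL a' _)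
    (fun y z hyz hy => sat_of_sub f a' φ hφ U t y z hyz hy)
  refine ⟨E₀, (hE₀ y₀).mpr hy₀, ?_⟩
  rw [mem_subG_iff]
  apply exists_of_memL_eq_univ a' (injective_of_mono a')
  intro v'
  rw [unit_map f F (opnι U E₀) t]
  apply (mem_memL_map_iff a' ((EtCoh.bc f).map (opnι U E₀)) _ v').mpr
  apply (hE₀ _).mp
  have e := congrArg (fun m : ((EtCoh.bc f).obj (opn U E₀)).left ⟶ U.left => m v')
    (bc_map_left_fst f (opnι U E₀))
  have e' : (pullback.fst U.hom f) (((EtCoh.bc f).map (opnι U E₀)).left v') =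
      (opnι U E₀).left ((pullback.fst (opn U E₀).hom f) v') := e
  rw [e']
  exact ((pullback.fst (opn U E₀).hom f) v').2

set_option backward.isDefEq.respectTransparency.types false in
/-- the comparison `f^* G ⟶ G'` is an isomorphism. -/
theorem isIso_psi (hf : EtDesc.IsUnivSubmersive f) [Mono a']
    (φ : (EtDesc.pullSh (pullback.fst f f)).obj G' ≅ (EtDesc.pullSh (pullback.snd f f)).obj G')
    (hφ : φ.hom ≫ (EtDesc.pullSh (pullback.snd f f)).map a' =
      (EtDesc.pullSh (pullback.fst f f)).map a' ≫ (EtDesc.canIso f F).hom)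
    (ψ₀ : (EtDesc.pullSh f).obj (descSub f a') ⟶ G')
    (hψ₀ : ψ₀ ≫ a' = (EtDesc.pullSh f).map (descSubι f a')) : IsIso ψ₀ := by
  apply Groth.Agent.Lib.T2H8ShStalkB.isIso_of_stalks
  intro Ω _ _ ξ'
  let Φ := Scheme.pointSmallEtale (ξ' ≫ f)
  let Φ' := Scheme.pointSmallEtale ξ'
  have hinj_a' := stalk_injective_of_mono a' ξ'
  have hinj_ι := stalk_injective_of_mono (descSubι f a') (ξ' ≫ f)
  have hcomp : ∀ γ, (stalkSh ξ').map a' ((stalkSh ξ').map ψ₀ γ) =
      (stalkSh ξ').map ((EtDesc.pullSh f).map (descSubι f a')) γ := by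
    intro γ
    have h1 := congrArg (fun m => (stalkSh ξ').map m) hψ₀
    have h2 : (stalkSh ξ').map ψ₀ ≫ (stalkSh ξ').map a' =
        (stalkSh ξ').map ((EtDesc.pullSh f).map (descSubι f a')) :=
      ((stalkSh ξ').map_comp ψ₀ a').symm.trans h1
    exact congrArg (fun m => m γ) h2
  have nat : ∀ γ₀ : ToType ((stalkSh (ξ' ≫ f)).obj (descSub f a')),
      (stalkPullIso f ξ').hom.app F ((stalkSh (ξ' ≫ f)).map (descSubι f a') γ₀) =
        (stalkSh ξ').map ((EtDesc.pullSh f).map (descSubι f a'))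
          ((stalkPullIso f ξ').hom.app (descSub f a') γ₀) := fun γ₀ =>
    congrArg (fun m => m γ₀) ((stalkPullIso f ξ').hom.naturality (descSubι f a'))
  have hbijG : Function.Bijective ((stalkPullIso f ξ').hom.app (descSub f a')) := by
    have : IsIso ((stalkPullIso f ξ').hom.app (descSub f a')) := inferInstance
    exact (isIso_iff_bijective _).mp this
  have hinjF : Function.Injective ((stalkPullIso f ξ').hom.app F) := by
    have : IsIso ((stalkPullIso f ξ').hom.app F) := inferInstance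
    exact ((isIso_iff_bijective _).mp this).1
  constructor
  · intro γ₁ γ₂ h
    obtain ⟨δ₁, rfl⟩ := hbijG.2 γ₁
    obtain ⟨δ₂, rfl⟩ := hbijG.2 γ₂
    have h2 := congrArg ((stalkSh ξ').map a') h
    rw [hcomp, hcomp, ← nat, ← nat] at h2
    rw [hinj_ι (hinjF h2)]
  · intro γ'
    obtain ⟨U, ub, t, ht⟩ := Φ.toPresheafFiber_jointly_surjective (P := F.obj)
      ((stalkPullIso f ξ').inv.app F ((stalkSh ξ').map a' γ'))
    have g1 := Groth.Agent.Lib.T2H8ShBC.stalkPull_germ f ξ' F U ub t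
    have ii : (stalkPullIso f ξ').hom.app F ((stalkPullIso f ξ').inv.app F
        ((stalkSh ξ').map a' γ')) = (stalkSh ξ').map a' γ' :=
      congrArg (fun m => m ((stalkSh ξ').map a' γ')) ((stalkPullIso f ξ').inv_hom_id_app F)
    have g2 : (stalkSh ξ').map a' γ' =
        Φ'.toPresheafFiber ((EtCoh.bc f).obj U) (liftPt f ξ' (ξ' ≫ f) rfl U ub)
          ((EtDesc.pullSh f).obj F).obj (((EtDesc.adjSh f).unit.app F).hom.app (op U) t) :=
      ii.symm.trans ((congrArg ((stalkPullIso f ξ').hom.app F) ht.symm).trans g1)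
    have hy₀ := (mem_memL_iff_germ a' (((EtDesc.adjSh f).unit.app F).hom.app (op U) t) ξ'
      (liftPt f ξ' (ξ' ≫ f) rfl U ub)).mpr ⟨γ', g2⟩
    obtain ⟨E₀, hE₀, ht₀⟩ := exists_sub_section f a' hf φ hφ U t _ hy₀
    have hpt : (ub.left : Spec (CommRingCat.of Ω) ⟶ U.left) (default : Spec (CommRingCat.of Ω)) =
        (pullback.fst U.hom f) (((liftPt f ξ' (ξ' ≫ f) rfl U ub).left :
          Spec (CommRingCat.of Ω) ⟶ ((EtCoh.bc f).obj U).left)
          (default : Spec (CommRingCat.of Ω))) := by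
      rw [← liftPt_left_fst f ξ' (ξ' ≫ f) rfl U ub]
      rfl
    obtain ⟨l₀, hl₀⟩ := exists_lift_open E₀ ub.left (Set.mem_of_eq_of_mem hpt hE₀)
    have hl₀' : l₀ ≫ (opn U E₀).hom = ξ' ≫ f := by
      change l₀ ≫ E₀.ι ≫ U.hom = _
      rw [← Category.assoc, hl₀]
      exact Over.w ub
    let ub₀ : Φ.fiber.obj (opn U E₀) := Over.homMk l₀ hl₀'
    have hub₀ : Φ.fiber.map (opnι U E₀) ub₀ = ub := Over.OverMorphism.ext hl₀
    let t₀ : (descSub f a').obj.obj (op (opn U E₀)) := ⟨F.obj.map (opnι U E₀).op t, ht₀⟩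
    refine ⟨(stalkPullIso f ξ').hom.app (descSub f a')
      (Φ.toPresheafFiber (opn U E₀) ub₀ (descSub f a').obj t₀), ?_⟩
    apply hinj_a'
    rw [hcomp, ← nat]
    have n1 : (stalkSh (ξ' ≫ f)).map (descSubι f a')
        (Φ.toPresheafFiber (opn U E₀) ub₀ (descSub f a').obj t₀) =
        Φ.toPresheafFiber (opn U E₀) ub₀ F.obj (F.obj.map (opnι U E₀).op t) :=
      Φ.toPresheafFiber_naturality_apply (descSubι f a').hom (opn U E₀) ub₀ t₀
    have n2 := Φ.toPresheafFiber_w_apply (opnι U E₀) ub₀ F.obj t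
    rw [hub₀] at n2
    rw [n1, n2, ht]
    exact ii

end Iso


section Final

variable {X' X : Scheme.{u}} (f : X' ⟶ X)

set_option backward.isDefEq.respectTransparency.types false in
/-- `S5595`. -/
theorem subsheaf_descent (hf : EtDesc.IsUnivSubmersive f) (F : EtDesc.Sh X) :
    (∀ (G₁ G₂ : EtDesc.Sh X) (a₁ : G₁ ⟶ F) (a₂ : G₂ ⟶ F) [Mono a₁] [Mono a₂],
      (∃ φ : (EtDesc.pullSh f).obj G₁ ≅ (EtDesc.pullSh f).obj G₂,
          φ.hom ≫ (EtDesc.pullSh f).map a₂ = (EtDesc.pullSh f).map a₁) →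
      ∃ ψ : G₁ ≅ G₂, ψ.hom ≫ a₂ = a₁) ∧
    (∀ (G' : EtDesc.Sh X') (a' : G' ⟶ (EtDesc.pullSh f).obj F) [Mono a'],
      (∃ φ : (EtDesc.pullSh (pullback.fst f f)).obj G' ≅ (EtDesc.pullSh (pullback.snd f f)).obj G',
          φ.hom ≫ (EtDesc.pullSh (pullback.snd f f)).map a' =
            (EtDesc.pullSh (pullback.fst f f)).map a' ≫ (EtDesc.canIso f F).hom) →
      ∃ (G : EtDesc.Sh X) (a : G ⟶ F) (_ : Mono a) (ψ : (EtDesc.pullSh f).obj G ≅ G'),
        ψ.hom ≫ a' = (EtDesc.pullSh f).map a) := by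
  haveI : Surjective f := surjective_of_quotient f (quotient_fst f hf)
  refine ⟨fun G₁ G₂ a₁ a₂ _ _ h => sub_injective f G₁ G₂ a₁ a₂ h, ?_⟩
  rintro G' a' _ ⟨φ, hφ⟩
  obtain ⟨ψ₀, hψ₀⟩ := exists_psi f a'
  haveI := isIso_psi f a' hf φ hφ ψ₀ hψ₀
  exact ⟨descSub f a', descSubι f a', inferInstance, asIso ψ₀, hψ₀⟩

end Final

end Groth.Agent.Lib.T2H8SubDesc
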