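import Mathlib
import Groth.Prelude
import Groth.Agent.Lib.T2H8TateA
import Groth.Agent.Lib.T2H8TateB
import Groth.Agent.Lib.T3H8WiebeE

/-!
# Tate's trace lemma, generic form

`B = P/(f_1..f_n)` finite free over `A` with `f` Koszul-regular, `P` generated by `x_1..x_n` with
partial derivatives `d_k`; if `ω_{B/A}` is invertible, then there is an iso `B ≃ ω_{B/A}` carrying
`det(d_j f_i)` to the trace.
-/

universe u

namespace Groth.Agent.Lib.T2H8.Tate

open TensorProduct Disc

theorem tate_generic {A P : Type u} [CommRing A] [CommRing P] [Algebra A P] {n : ℕ}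
    (x : Fin n → P) (hx : Algebra.adjoin A (Set.range x) = ⊤)
    (d : Fin n → Derivation A P P) (hd : ∀ k j, d k (x j) = if j = k then 1 else 0)
    (f : Fin n → P) (hf : LCI.IsKoszulRegularSeq P (List.ofFn f))
    [Module.Finite A (P ⧸ Ideal.span (Set.range f))]
    [Module.Free A (P ⧸ Ideal.span (Set.range f))]
    [Module.Invertible (P ⧸ Ideal.span (Set.range f))
      (Disc.Omega A (P ⧸ Ideal.span (Set.range f)))] :
    ∃ e : (P ⧸ Ideal.span (Set.range f)) ≃ₗ[P ⧸ Ideal.span (Set.range f)]
        Disc.Omega A (P ⧸ Ideal.span (Set.range f)),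
      e (Ideal.Quotient.mk (Ideal.span (Set.range f))
        (Matrix.det (Matrix.of fun i j => d j (f i)))) =
        Disc.Omega.trace A (P ⧸ Ideal.span (Set.range f)) := by
  obtain ⟨c, hc⟩ := exists_matrix (A := A) x (Ideal.span (Set.range f)) hx f
    (fun i => Ideal.subset_span ⟨i, rfl⟩)
  have hAnn := Groth.Agent.Lib.T3H8.Wiebe.main_S2235 f hf (gg x (Ideal.span (Set.range f)))
    (ker_rho x (Ideal.span (Set.range f)) hx) c hc
  obtain ⟨e, he⟩ := exists_equiv_of_annihilator _ hAnn
  refine ⟨e, ?_⟩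
  rw [← he]
  congr 1
  rw [← rho_det x (Ideal.span (Set.range f)) d hd c hc, rho,
    Algebra.TensorProduct.productMap_eq_comp_map]
  rfl

end Groth.Agent.Lib.T2H8.Tate
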