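import Mathlib
import Groth.Prelude
import Groth.Agent.Lib.T2H8TateC
import Groth.Agent.Lib.T2H4GorOmega4
import Groth.Agent.Lib.T2H8QFLocG
import Groth.Agent.Lib.T2H7KRegM

/-!
# Tate's trace lemma for `A[x_1..x_n]/(f_1..f_n)` finite free over `A`
-/

universe u

namespace Groth.Agent.Lib.T2H8.Tate

open TensorProduct Disc MvPolynomial

section Gen

lemma fiber_dim_zero' {A B : Type u} [CommRing A] [CommRing B] [Algebra A B] [Module.Finite A B]
    (p : Ideal A) [p.IsPrime] [Nontrivial (p.Fiber B)] : ringKrullDim (p.Fiber B) = 0 := by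
  haveI : Module.Finite p.ResidueField (p.Fiber B) :=
    Module.Finite.base_change A p.ResidueField _
  haveI : IsArtinianRing (p.Fiber B) := IsArtinianRing.of_finite p.ResidueField _
  exact ringKrullDimZero_iff_ringKrullDim_eq_zero.mp inferInstance

lemma gorRing_of_subsingleton (C : Type u) [CommRing C] [Subsingleton C] :
    LocCoh.IsGorensteinRing C := by
  haveI : IsNoetherianRing C := ⟨fun I => ⟨∅, Subsingleton.elim _ _⟩⟩
  refine ⟨fun q hq => ?_⟩
  exact absurd (Subsingleton.elim (0 : C) 1 ▸ q.zero_mem) (hq.one_notMem)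

end Gen

section Poly

variable (A : Type u) [CommRing A] (n : ℕ) (f : Fin n → MvPolynomial (Fin n) A)

lemma fiber_dim_zero [Module.Finite A (MvPolynomial (Fin n) A ⧸ Ideal.span (Set.range f))]
    (p : Ideal A) [p.IsPrime]
    [Nontrivial (p.Fiber (MvPolynomial (Fin n) A ⧸ Ideal.span (Set.range f)))] :
    ringKrullDim (p.Fiber (MvPolynomial (Fin n) A ⧸ Ideal.span (Set.range f))) = 0 :=
  fiber_dim_zero' p

lemma isRelGCI_of_finite [Module.Finite A (MvPolynomial (Fin n) A ⧸ Ideal.span (Set.range f))] :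
    Synt.IsRelGCI A n n f := by
  intro p hnt
  refine ⟨le_rfl, ?_⟩
  rw [Nat.sub_self]
  haveI := hnt
  exact fiber_dim_zero A n f p.asIdeal

lemma gor_fiber [Module.Finite A (MvPolynomial (Fin n) A ⧸ Ideal.span (Set.range f))]
    (p : Ideal A) [p.IsPrime] :
    LocCoh.IsGorensteinRing (p.Fiber (MvPolynomial (Fin n) A ⧸ Ideal.span (Set.range f))) := by
  rcases subsingleton_or_nontrivial
    (p.Fiber (MvPolynomial (Fin n) A ⧸ Ideal.span (Set.range f))) with hs | hnt
  · exact gorRing_of_subsingleton _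
  · apply Groth.Agent.Lib.T2H8.QFLoc.gorRing_of_isGlobalCI p.ResidueField
    refine Or.inr ⟨n, n, le_rfl, Groth.Agent.Lib.T2H7.SyntB.φ p n (Ideal.span (Set.range f)),
      fun i => Groth.Agent.Lib.T2H7.SyntB.ι p n (f i),
      Groth.Agent.Lib.T2H7.SyntB.φ_surjective p n _, ?_, ?_⟩
    · rw [Groth.Agent.Lib.T2H7.SyntB.ker_φ, Ideal.map_span, ← Set.range_comp]
      rfl
    · rw [Nat.sub_self]
      exact fiber_dim_zero A n f p

end Poly

theorem main_S8969 (A : Type u) [CommRing A] [IsNoetherianRing A] (n : ℕ)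
    (f : Fin n → MvPolynomial (Fin n) A)
    [Module.Finite A (MvPolynomial (Fin n) A ⧸ Ideal.span (Set.range f))]
    [Module.Free A (MvPolynomial (Fin n) A ⧸ Ideal.span (Set.range f))] :
    ∃ e : (MvPolynomial (Fin n) A ⧸ Ideal.span (Set.range f)) ≃ₗ[MvPolynomial (Fin n) A ⧸
        Ideal.span (Set.range f)] Disc.Omega A (MvPolynomial (Fin n) A ⧸ Ideal.span (Set.range f)),
      e (Ideal.Quotient.mk (Ideal.span (Set.range f))
        (Matrix.det (Matrix.of fun i j : Fin n => MvPolynomial.pderiv j (f i)))) =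
      Disc.Omega.trace A (MvPolynomial (Fin n) A ⧸ Ideal.span (Set.range f)) := by
  have hK := Groth.Agent.Lib.T2H7.KRegM.isKoszulRegularSeq_of_isRelGCI f
    (isRelGCI_of_finite A n f)
  haveI : Module.Invertible (MvPolynomial (Fin n) A ⧸ Ideal.span (Set.range f))
      (Disc.Omega A (MvPolynomial (Fin n) A ⧸ Ideal.span (Set.range f))) :=
    Groth.Agent.Lib.T2H4.GorOmega.invertible_of_gorenstein_fibers
      (fun p _ => gor_fiber A n f p)
  exact tate_generic (A := A) (X : Fin n → MvPolynomial (Fin n) A) MvPolynomial.adjoin_range_X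
    (fun k => pderiv k) (fun k j => by
      rw [pderiv_X]
      by_cases h : j = k
      · subst h; simp
      · simp [h]) f hK

end Groth.Agent.Lib.T2H8.Tate
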