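import Mathlib

/-!
# Commutative algebra for the density of torsion (helper8)

* `finite_of_field_finiteType_int`: a field of finite type over `ℤ` is finite.
* `finite_quotient_pow_of_isMaximal`: for `A` of finite type over `ℤ` and `𝔮` maximal, `A ⧸ 𝔮 ^ N` is
  a finite ring.
* `mem_pow_of_pow_mul_mem`: `𝔮 ^ N` is `𝔮`-primary.
* `exists_pow_mul_eq_zero_of_forall_isMaximal`: in a noetherian Jacobson ring, if `f ∈ 𝔮 ^ N` for all
  `N` and all maximal `𝔮 ∌ a`, then `a ^ k * f = 0` for some `k`.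
-/

set_option autoImplicit false
universe u

namespace Groth.Agent.Lib.T2H8.TorsDense

instance isJacobsonRing_int : IsJacobsonRing ℤ := by
  rw [isJacobsonRing_iff_prime_eq]
  intro P hP
  by_cases hP0 : P = ⊥
  · subst hP0
    rw [eq_bot_iff]
    intro x hx
    rw [Ideal.jacobson, Ideal.mem_sInf] at hx
    rw [Ideal.mem_bot]
    obtain ⟨p, hpx, hp⟩ := Nat.exists_infinite_primes (x.natAbs + 1)
    haveI : Fact p.Prime := ⟨hp⟩
    have h1 : x ∈ Ideal.span {(p : ℤ)} :=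
      hx ⟨bot_le, Int.ideal_span_isMaximal_of_prime p⟩
    rw [Ideal.mem_span_singleton] at h1
    refine Int.eq_zero_of_abs_lt_dvd h1 ?_
    rw [Int.abs_eq_natAbs]
    exact_mod_cast (by omega : x.natAbs < p)
  · haveI := hP.isMaximal hP0
    exact Ideal.jacobson_eq_self_of_isMaximal

theorem finite_of_field_finiteType_int (K : Type u) [Field K] [inst : Algebra ℤ K]
    [hft : Algebra.FiniteType ℤ K] : Finite K := by
  obtain rfl : inst = Ring.toIntAlgebra K := Subsingleton.elim _ _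
  haveI hfin : Module.Finite ℤ K := finite_of_finite_type_of_isJacobsonRing ℤ K
  haveI : Algebra.IsIntegral ℤ K := Algebra.IsIntegral.of_finite ℤ K
  obtain ⟨p, hp⟩ := CharP.exists K
  haveI := hp
  have hp0 : p ≠ 0 := by
    rintro rfl
    haveI : CharZero K := CharP.charP_to_charZero K
    have hinj : Function.Injective (algebraMap ℤ K) := (algebraMap ℤ K).injective_int
    exact Int.not_isField (isField_of_isIntegral_of_isField hinj (Field.toIsField K))
  haveI : Fact p.Prime := ⟨(CharP.char_is_prime_or_zero K p).resolve_right hp0⟩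
  letI : Algebra (ZMod p) K := ZMod.algebra K p
  haveI : Module.Finite (ZMod p) K := by
    obtain ⟨s, hs⟩ := hfin.fg_top
    refine ⟨⟨s, ?_⟩⟩
    rw [eq_top_iff]
    intro x _
    have hx : x ∈ Submodule.span ℤ (s : Set K) := hs ▸ Submodule.mem_top
    refine Submodule.span_induction (p := fun y _ => y ∈ Submodule.span (ZMod p) (s : Set K))
      (fun y hy => Submodule.subset_span hy) (Submodule.zero_mem _)
      (fun y z _ _ hy hz => Submodule.add_mem _ hy hz) (fun c y _ hy => ?_) hx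
    have : c • y = (c : ZMod p) • y := by
      rw [Algebra.smul_def (c : ZMod p), zsmul_eq_mul]
      congr 1
      simp
    rw [this]
    exact Submodule.smul_mem _ _ hy
  exact Module.finite_of_finite (ZMod p)

theorem finite_quotient_pow_of_isMaximal (A : Type u) [CommRing A] [Algebra ℤ A]
    [Algebra.FiniteType ℤ A]
    (𝔮 : Ideal A) [h𝔮 : 𝔮.IsMaximal] (N : ℕ) : Finite (A ⧸ 𝔮 ^ N) := by
  haveI : IsNoetherianRing A := Algebra.FiniteType.isNoetherianRing ℤ A
  letI : Field (A ⧸ 𝔮) := Ideal.Quotient.field 𝔮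
  haveI : Algebra.FiniteType ℤ (A ⧸ 𝔮) :=
    Algebra.FiniteType.of_surjective (A := A) (Ideal.Quotient.mkₐ ℤ 𝔮)
      (Ideal.Quotient.mkₐ_surjective ℤ 𝔮)
  haveI : Finite (A ⧸ 𝔮) := finite_of_field_finiteType_int (A ⧸ 𝔮)
  exact Ideal.finite_quotient_pow (IsNoetherian.noetherian 𝔮) N

theorem mem_pow_of_pow_mul_mem {A : Type u} [CommRing A] (𝔮 : Ideal A) [h𝔮 : 𝔮.IsMaximal] {a f : A}
    (ha : a ∉ 𝔮) {k N : ℕ} (h : a ^ k * f ∈ 𝔮 ^ N) : f ∈ 𝔮 ^ N := by
  rcases Nat.eq_zero_or_pos N with rfl | hN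
  · simp
  have hrad : (𝔮 ^ N).radical = 𝔮 := by
    rw [Ideal.radical_pow _ hN.ne', h𝔮.isPrime.radical]
  have hprim : (𝔮 ^ N).IsPrimary := Ideal.isPrimary_of_isMaximal_radical (by rw [hrad]; exact h𝔮)
  rw [mul_comm] at h
  rcases (Ideal.isPrimary_iff.mp hprim).2 h with h1 | h1
  · exact h1
  · rw [hrad] at h1
    exact absurd (h𝔮.isPrime.mem_of_pow_mem k h1) ha

theorem exists_pow_mul_eq_zero_of_forall_isMaximal {A : Type u} [CommRing A] [IsNoetherianRing A]
    [IsJacobsonRing A] (a f : A)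
    (h : ∀ 𝔮 : Ideal A, 𝔮.IsMaximal → a ∉ 𝔮 → ∀ N : ℕ, f ∈ 𝔮 ^ N) : ∃ k : ℕ, a ^ k * f = 0 := by
  let I : Ideal A := LinearMap.ker (LinearMap.toSpanSingleton A A f)
  have hI : ∀ x : A, x ∈ I ↔ x * f = 0 := fun x => by
    simp [I, LinearMap.mem_ker, LinearMap.toSpanSingleton_apply]
  have hmem : a ∈ I.jacobson := by
    rw [Ideal.jacobson, Ideal.mem_sInf]
    rintro 𝔮 ⟨hle, hmax⟩
    by_contra ha
    have h1 : f ∈ (⨅ i : ℕ, 𝔮 ^ i • ⊤ : Submodule A A) := by
      rw [Submodule.mem_iInf]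
      intro i
      simpa using h 𝔮 hmax ha i
    obtain ⟨r, hr⟩ := (Ideal.mem_iInf_smul_pow_eq_bot_iff 𝔮 f).mp h1
    have h2 : (1 - (r : A)) ∈ I := by
      rw [hI, sub_mul, one_mul, ← smul_eq_mul (r : A), hr, sub_self]
    have h3 : (1 - (r : A)) ∈ 𝔮 := hle h2
    have h4 : (1 : A) ∈ 𝔮 := by
      have := 𝔮.add_mem h3 r.2
      simpa using this
    exact hmax.ne_top ((Ideal.eq_top_iff_one 𝔮).mpr h4)
  rw [← Ideal.radical_eq_jacobson] at hmem
  obtain ⟨k, hk⟩ := hmem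
  exact ⟨k, (hI _).mp hk⟩

end Groth.Agent.Lib.T2H8.TorsDense
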