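import Groth.Agent.Lib.T2H8TorsDenseA
import Groth.Agent.Lib.Helper25Torsion

/-!
# Density of the torsion subgroups of a diagonalisable group (helper8)

* `ker_quotMap_le_ker`: an algebra map `R[M] → B` whose characters are killed by `n` factors through
  `R[M] → R[M/Mⁿ]`.
* `exists_pow_mul_eq_zero_of_finiteType_int`, `exists_pow_mul_eq_zero_of_quotMap`: if for every
  `n > 0` some `a ^ k * f` dies in `R[M/Mⁿ]`, then some `a ^ k * f` is zero (`M` finitely generated).
-/

set_option autoImplicit false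
universe u

namespace Groth.Agent.Lib.T2H8.TorsDense

open Groth.Agent.Lib.Helper25.Tors SGA3b

section Factor

variable (R : Type u) [CommRing R] (M : Type u) [CommGroup M]

theorem quotMap_single (n : ℕ) (m : M) (r : R) :
    quotMap R M n (MonoidAlgebra.single m r) =
      MonoidAlgebra.single (QuotientGroup.mk' (powSub M n) m) r := by
  simp [quotMap]

theorem ker_quotMap_le_ker (n : ℕ) {B : Type u} [CommRing B] [Algebra R B]
    (ψ : MonoidAlgebra R M →ₐ[R] B) (h : ∀ m : M, ψ (MonoidAlgebra.of R M m) ^ n = 1) :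
    RingHom.ker (quotMap R M n) ≤ RingHom.ker ψ := by
  let χ : M →* B := (ψ : MonoidAlgebra R M →* B).comp (MonoidAlgebra.of R M)
  have hχ : powSub M n ≤ χ.ker := by
    rintro _ ⟨x, rfl⟩
    rw [MonoidHom.mem_ker]
    change χ (x ^ n) = 1
    rw [map_pow]
    exact h x
  let χbar : M ⧸ powSub M n →* B := QuotientGroup.lift (powSub M n) χ hχ
  let ψbar : MonoidAlgebra R (M ⧸ powSub M n) →ₐ[R] B := MonoidAlgebra.lift R B _ χbar
  have hfac : ψ = ψbar.comp (quotMap R M n : MonoidAlgebra R M →ₐ[R] _) := by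
    apply MonoidAlgebra.algHom_ext
    · intro m
      change ψ (MonoidAlgebra.single m 1) = ψbar (quotMap R M n (MonoidAlgebra.single m 1))
      rw [quotMap_single, MonoidAlgebra.lift_single, one_smul]
      rfl
    · exact Subsingleton.elim _ _
  intro x hx
  rw [RingHom.mem_ker] at hx ⊢
  rw [hfac]
  change ψbar (quotMap R M n x) = 0
  rw [hx, map_zero]

end Factor

section FiniteTypeInt

variable (R : Type u) [CommRing R] (M : Type u) [CommGroup M]

theorem exists_pow_mul_eq_zero_of_finiteType_int [Algebra.FiniteType ℤ R] [Group.FG M]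
    (a f : MonoidAlgebra R M)
    (h : ∀ n : ℕ, 0 < n → ∃ k : ℕ, quotMap R M n (a ^ k * f) = 0) : ∃ k : ℕ, a ^ k * f = 0 := by
  haveI : Monoid.FG M := Group.fg_iff_monoid_fg.mp inferInstance
  haveI h1 : Algebra.FiniteType R (MonoidAlgebra R M) := inferInstance
  haveI h2 : Algebra.FiniteType ℤ (MonoidAlgebra R M) :=
    Algebra.FiniteType.trans (inferInstance : Algebra.FiniteType ℤ R) h1
  haveI : IsNoetherianRing (MonoidAlgebra R M) :=
    Algebra.FiniteType.isNoetherianRing ℤ (MonoidAlgebra R M)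
  haveI : IsJacobsonRing (MonoidAlgebra R M) :=
    isJacobsonRing_of_finiteType (A := ℤ) (B := MonoidAlgebra R M)
  apply exists_pow_mul_eq_zero_of_forall_isMaximal
  intro 𝔮 hmax ha N
  haveI := hmax
  haveI hfin : Finite (MonoidAlgebra R M ⧸ 𝔮 ^ N) := finite_quotient_pow_of_isMaximal _ 𝔮 N
  let ψ : MonoidAlgebra R M →ₐ[R] (MonoidAlgebra R M ⧸ 𝔮 ^ N) := Ideal.Quotient.mkₐ R (𝔮 ^ N)
  set n := Nat.card (MonoidAlgebra R M ⧸ 𝔮 ^ N)ˣ with hn
  have hn0 : 0 < n := Nat.card_pos
  have hψ : ∀ m : M, ψ (MonoidAlgebra.of R M m) ^ n = 1 := by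
    intro m
    have hu : IsUnit (ψ (MonoidAlgebra.of R M m)) :=
      ((Group.isUnit m).map (MonoidAlgebra.of R M)).map ψ
    obtain ⟨u, hu⟩ := hu
    rw [← hu, ← Units.val_pow_eq_pow_val, hn, pow_card_eq_one', Units.val_one]
  obtain ⟨k, hk⟩ := h n hn0
  have h3 : ψ (a ^ k * f) = 0 := ker_quotMap_le_ker R M n ψ hψ hk
  have h4 : a ^ k * f ∈ 𝔮 ^ N := Ideal.Quotient.eq_zero_iff_mem.mp h3
  exact mem_pow_of_pow_mul_mem 𝔮 ha h4

end FiniteTypeInt

section Reduction

variable (R : Type u) [CommRing R] (M : Type u) [CommGroup M]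

theorem quotMap_mapRingHom {R₀ : Type u} [CommRing R₀] (ι : R₀ →+* R) (n : ℕ)
    (y : MonoidAlgebra R₀ M) :
    quotMap R M n (MonoidAlgebra.mapRingHom M ι y) =
      MonoidAlgebra.mapRingHom _ ι (quotMap R₀ M n y) := by
  induction y using MonoidAlgebra.induction_linear with
  | zero => simp
  | add f g hf hg => simp only [map_add, hf, hg]
  | single m r =>
    rw [MonoidAlgebra.mapRingHom_single, quotMap_single, quotMap_single,
      MonoidAlgebra.mapRingHom_single]

theorem exists_pow_mul_eq_zero_of_quotMap [Group.FG M] (a f : MonoidAlgebra R M)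
    (h : ∀ n : ℕ, 0 < n → ∃ k : ℕ, quotMap R M n (a ^ k * f) = 0) : ∃ k : ℕ, a ^ k * f = 0 := by
  classical
  let S : Finset R := a.coeff.support.image a.coeff ∪ f.coeff.support.image f.coeff
  let R₀ : Subalgebra ℤ R := Algebra.adjoin ℤ (S : Set R)
  haveI : Algebra.FiniteType ℤ R₀ :=
    (Subalgebra.fg_iff_finiteType R₀).mp (Subalgebra.fg_adjoin_finset S)
  let ι : R₀ →+* R := R₀.subtype
  have hι : Function.Injective ι := Subtype.val_injective
  have hrange : ∀ x : MonoidAlgebra R M, (∀ m, x.coeff m ∈ R₀) →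
      x ∈ Set.range (MonoidAlgebra.mapRingHom M ι) := by
    intro x hx
    rw [MonoidAlgebra.coe_mapRingHom, MonoidAlgebra.range_map]
    intro i
    exact ⟨⟨x.coeff i, hx i⟩, rfl⟩
  have hcoeff : ∀ x : MonoidAlgebra R M, x.coeff.support.image x.coeff ⊆ S →
      ∀ m, x.coeff m ∈ R₀ := by
    intro x hx m
    by_cases hm : m ∈ x.coeff.support
    · exact Algebra.subset_adjoin (hx (Finset.mem_image_of_mem _ hm))
    · rw [Finsupp.notMem_support_iff.mp hm]
      exact R₀.zero_mem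
  obtain ⟨a₀, ha₀⟩ := hrange a (hcoeff a Finset.subset_union_left)
  obtain ⟨f₀, hf₀⟩ := hrange f (hcoeff f Finset.subset_union_right)
  have key : ∀ n : ℕ, 0 < n → ∃ k : ℕ, quotMap R₀ M n (a₀ ^ k * f₀) = 0 := by
    intro n hn
    obtain ⟨k, hk⟩ := h n hn
    refine ⟨k, ?_⟩
    apply MonoidAlgebra.map_injective (ι : R₀ →+ R) hι
    rw [MonoidAlgebra.map_zero]
    change MonoidAlgebra.mapRingHom _ ι (quotMap R₀ M n (a₀ ^ k * f₀)) = 0
    rw [← quotMap_mapRingHom, map_mul, map_pow, ha₀, hf₀, hk]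
  obtain ⟨k, hk⟩ := exists_pow_mul_eq_zero_of_finiteType_int R₀ M a₀ f₀ key
  refine ⟨k, ?_⟩
  rw [← ha₀, ← hf₀, ← map_pow, ← map_mul, hk, map_zero]

end Reduction

end Groth.Agent.Lib.T2H8.TorsDense
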