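import Mathlib
import Groth.Agent.Lib.T2H8PushConstH1
import Groth.Agent.Lib.T2H8NormalConst
import Groth.Agent.Lib.T2H3TwConstIrr
import Groth.Agent.Lib.Helper3ShF
import Groth.Agent.S2135

/-!
# `H^1(X, M) = 0` for `X` irreducible and geometrically unibranch, `M` torsion-free (S8528)
-/

set_option autoImplicit false
set_option linter.unusedSectionVars false
set_option linter.style.haveILetI false
universe u
open CategoryTheory CategoryTheory.Limits Opposite AlgebraicGeometry

namespace Groth.Agent.Lib.T2H8.UnibranchConst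

open Groth.Agent.Lib.T2H8.NormalConst Groth.Agent.Lib.T2H8EtZarSheaf
open Groth.Agent.Lib.T2H3.TwConstIrr

section Alg

open IsLocalRing Groth.Agent.Lib.Helper3

/-- a local ring all of whose strict henselizations have irreducible spectrum is geometrically
unibranch -/
theorem isGeomUnibranch_of_irreducible_sh (A : Type u) [CommRing A] [IsLocalRing A]
    (h : ∀ (R : Type u) [CommRing R] [IsLocalRing R] [Algebra A R]
      [IsLocalHom (algebraMap A R)] [Hensel.IsStrictHenselization A R],
      IrreducibleSpace (PrimeSpectrum R)) : CAlg2.IsGeomUnibranch A := by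
  let ΩA := SeparableClosure (ResidueField A)
  letI : Algebra A ΩA := ((algebraMap (ResidueField A) ΩA).comp (residue A)).toAlgebra
  haveI : IsScalarTower A (ResidueField A) ΩA := IsScalarTower.of_algebraMap_eq (fun _ => rfl)
  have h1 : IrreducibleSpace (PrimeSpectrum (Sh.Rsh A ΩA)) := h (Sh.Rsh A ΩA)
  have hn : (nilradical (Sh.Rsh A ΩA)).IsPrime :=
    PrimeSpectrum.irreducibleSpace_iff_isPrime_nilradical.1 h1
  refine (Groth.Agent.S2135.result (A := A) (Ash := Sh.Rsh A ΩA)).2 ?_
  refine ⟨nilradical (Sh.Rsh A ΩA),
    ⟨⟨hn, bot_le⟩, fun q hq _ => nilradical_le_prime (H := hq.1) q⟩, ?_⟩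
  intro p hp
  exact le_antisymm (hp.2 ⟨hn, bot_le⟩ (nilradical_le_prime (H := hp.1.1) p))
    (nilradical_le_prime (H := hp.1.1) p)

end Alg

section Top

variable {U X : Scheme.{u}} (j : U ⟶ X) [IsPreimmersion j]

/-- `W ×_X U` is preconnected when the preimage of the image of `U` in `W` is -/
theorem preconnected_bc' (W : X.Etale) (h : _root_.IsPreconnected (W.hom ⁻¹' Set.range j)) :
    PreconnectedSpace ((EtCoh.bc j).obj W).left := by
  have hemb : Topology.IsEmbedding (pullback.fst W.hom j) := (pullback.fst W.hom j).isEmbedding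
  have hr : Set.range (pullback.fst W.hom j) = W.hom ⁻¹' Set.range j := Scheme.Pullback.range_fst _ _
  have h1 : _root_.IsPreconnected ((pullback.fst W.hom j) '' Set.univ) := by
    rw [Set.image_univ, hr]
    exact h
  exact ⟨(hemb.isInducing.isPreconnected_image).mp h1⟩

variable [IrreducibleSpace X] (hG : ∀ x : X, CAlg2.IsGeomUnibranch (X.presheaf.stalk x))

/-- the fibre over the generic point is dense in an étale `X`-scheme -/
theorem dense_generic_fibre' (V : X.Etale) : Dense (V.hom ⁻¹' {genericPoint X}) := by
  let p : V.left ⟶ X := V.hom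
  haveI : Etale p := V.prop
  intro v
  rw [mem_closure_iff]
  intro O hO hvO
  obtain ⟨l, hl, hlv⟩ := exists_generic_specializes p v
  exact ⟨l, hlv.mem_open hO hvO, hl⟩

include hG in
/-- local preconnectedness of the generic fibre -/
theorem exists_preconnected' (V : X.Etale) (v : V.left) :
    ∃ W : V.left.Opens, v ∈ W ∧
      _root_.IsPreconnected ((opn V W).hom ⁻¹' ({genericPoint X} : Set X)) := by
  let p : V.left ⟶ X := V.hom
  haveI : Etale p := V.prop
  obtain ⟨l, hl, hlv⟩ := exists_generic_specializes p v
  have hop : IsOpen (closure ({l} : Set V.left)) := isOpen_closure_generic p hG l hl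
  let W : V.left.Opens := ⟨closure {l}, hop⟩
  refine ⟨W, specializes_iff_mem_closure.mp hlv, ?_⟩
  apply Set.Subsingleton.isPreconnected
  intro a ha b hb
  have ha' : V.hom a.1 = genericPoint X := ha
  have hb' : V.hom b.1 = genericPoint X := hb
  have e1 : a.1 = l := generic_fibre_closure p l a.1 hl ha' a.2
  have e2 : b.1 = l := generic_fibre_closure p l b.1 hl hb' b.2
  exact Subtype.ext (e1.trans e2.symm)

include hG in
/-- the constant sheaf is the direct image of its restriction to the generic point -/
theorem isIso_unit_const' (hT : Set.range j = {genericPoint X}) (M : Type) [AddCommGroup M] :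
    IsIso ((EtCoh.pullPushAdj j).unit.app (EtCoh.const X M)) := by
  refine isIso_unit j (EtCoh.const X M) (Mv M) (tConst X M) (isTriv_const X M) ?_ ?_
  · intro V
    rw [Scheme.Pullback.range_fst]
    refine (dense_generic_fibre' V).mono ?_
    intro v hv
    have : V.hom v = genericPoint X := hv
    change V.hom v ∈ Set.range j
    rw [this, hT]
    rfl
  · intro V v
    obtain ⟨W, hvW, hW⟩ := exists_preconnected' hG V v
    refine ⟨W, hvW, preconnected_bc' j (opn V W) ?_⟩
    rw [hT]
    exact hW

end Top

section Main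

open Groth.Agent.Lib.T2H8.PushConstH1

/-- transfer of vanishing along an isomorphism -/
theorem subsingleton_H_of_iso'' {X : Scheme.{u}} {A B : EtCoh.Ab X} (e : A ≅ B) (q : ℕ)
    (h : Subsingleton (EtCoh.H X B q)) : Subsingleton (EtCoh.H X A q) := by
  haveI : Subsingleton ((EtCoh.HF X q).obj B) := h
  exact (((EtCoh.HF X q).mapIso e).addCommGroupIsoToAddEquiv.toEquiv).subsingleton

/-- **S8528** -/
theorem main_S8528 (X : Scheme.{u}) [IrreducibleSpace X]
    (hX : ∀ (x : X) (R : Type u) [CommRing R] [IsLocalRing R] [Algebra (X.presheaf.stalk x) R]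
      [IsLocalHom (algebraMap (X.presheaf.stalk x) R)]
      [Hensel.IsStrictHenselization (X.presheaf.stalk x) R],
      IrreducibleSpace (PrimeSpectrum R))
    (M : Type) [AddCommGroup M] [IsAddTorsionFree M] :
    Subsingleton (EtCoh.H X (EtCoh.const X M) 1) := by
  have hG : ∀ x : X, CAlg2.IsGeomUnibranch (X.presheaf.stalk x) := fun x =>
    isGeomUnibranch_of_irreducible_sh _ (fun R _ _ _ _ _ => hX x R)
  let κ : Type u := X.residueField (genericPoint X)
  let g : Spec (CommRingCat.of κ) ⟶ X := X.fromSpecResidueField (genericPoint X)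
  haveI : IsIso ((EtCoh.pullPushAdj g).unit.app (EtCoh.const X M)) :=
    isIso_unit_const' g hG (Scheme.range_fromSpecResidueField _) M
  let e1 := asIso ((EtCoh.pullPushAdj g).unit.app (EtCoh.const X M))
  let e := e1 ≪≫ (EtCoh.push g).mapIso (EtCore.pullConst g M)
  refine subsingleton_H_of_iso'' e 1 ?_
  exact subsingleton_H1_push g _ (subsingleton_H1_const κ M)

end Main

end Groth.Agent.Lib.T2H8.UnibranchConst
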