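import Mathlib
import Groth.Prelude.Def_EtModW
import Groth.Prelude.Def_ARSys

/-!
# Sections over a weakly contractible object commute with quotients modulo an ideal (helper8)
-/

set_option autoImplicit false
set_option linter.unusedSectionVars false
universe u
open CategoryTheory CategoryTheory.Limits Opposite AlgebraicGeometry

namespace Groth.Agent.Lib.T2H8.WCQuot

variable (Λ : Type (u + 1)) [CommRing Λ] {X : Scheme.{u}}

/-- an epimorphism of sheaves of modules on the pro-étale site is surjective on sections over a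
weakly contractible object -/
theorem surjective_of_epi {F G : EtModW.ModP Λ X} (φ : F ⟶ G) [Epi φ] (U : X.ProEt)
    (hU : ProEtS.IsWC U) : Function.Surjective (φ.hom.app (op U)).hom := by
  have h1 : Sheaf.IsLocallySurjective φ :=
    (Sheaf.isLocallySurjective_iff_epi' (ModuleCat.{u + 1} Λ) φ).2 inferInstance
  let φ' := (sheafCompose (Scheme.ProEt.topology X) (forget (ModuleCat.{u + 1} Λ))).map φ
  have h2 : Sheaf.IsLocallySurjective φ' :=
    (Presheaf.isLocallySurjective_iff_whisker_forget (Scheme.ProEt.topology X) φ.hom).1 h1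
  have h3 : Epi φ' := (Sheaf.isLocallySurjective_iff_epi φ').1 h2
  intro y
  obtain ⟨x, hx⟩ := hU _ _ φ' h3 y
  exact ⟨x, hx⟩


/-- a quotient map modulo `I` is an epimorphism -/
theorem epi_of_isQuot (I : Ideal Λ) {F Q : EtModW.ModP Λ X} (p : F ⟶ Q) (hp : ARSys.IsQuot I p) :
    Epi p := by
  refine ⟨fun {Z} ψ₁ ψ₂ h => ?_⟩
  have hk : ARSys.HomKilledBy I (p ≫ ψ₁) := by
    intro a ha
    have h1 : a • (p ≫ ψ₁) = p ≫ ((a • 𝟙 Q) ≫ ψ₁) := by
      rw [Linear.smul_comp, Category.id_comp, Linear.comp_smul]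
    rw [h1, hp.1 a ha, zero_comp, comp_zero]
  exact (hp.2 _ _ hk).unique rfl h.symm

/-- sections of a kernel -/
theorem exists_kernel_section {F C : EtModW.ModP Λ X} (q : F ⟶ C) (U : X.ProEt)
    (s : F.obj.obj (op U)) (hs : (q.hom.app (op U)).hom s = 0) :
    ∃ k : (kernel q).obj.obj (op U), ((kernel.ι q).hom.app (op U)).hom k = s := by
  let G := sheafToPresheaf (Scheme.ProEt.topology X) (ModuleCat.{u + 1} Λ) ⋙
    (evaluation (X.ProEt)ᵒᵖ (ModuleCat.{u + 1} Λ)).obj (op U)
  have hlim : IsLimit ((KernelFork.ofι (kernel.ι q) (kernel.condition q)).map G) :=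
    KernelFork.mapIsLimit _ (kernelIsKernel q) G
  let τ : ModuleCat.of Λ Λ ⟶ G.obj F := ModuleCat.ofHom (LinearMap.toSpanSingleton Λ _ s)
  have hτ : τ ≫ G.map q = 0 := by
    ext
    change (q.hom.app (op U)).hom ((1 : Λ) • s) = 0
    rw [one_smul, hs]
  obtain ⟨l, hl⟩ := KernelFork.IsLimit.lift' hlim τ hτ
  refine ⟨l.hom (1 : Λ), ?_⟩
  have := congrArg (fun m => m.hom (1 : Λ)) hl
  simp only at this
  change ((kernel.ι q).hom.app (op U)).hom (l.hom 1) = (LinearMap.toSpanSingleton Λ _ s) 1 at this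
  rw [this, LinearMap.toSpanSingleton_apply, one_smul]


theorem sum_hom_app {F G : EtModW.ModP Λ X} {ι : Type*} (t : Finset ι) (f : ι → (F ⟶ G))
    (V : X.ProEt) (x : F.obj.obj (op V)) :
    ((∑ i ∈ t, f i).hom.app (op V)).hom x = ∑ i ∈ t, ((f i).hom.app (op V)).hom x := by
  classical
  induction t using Finset.induction_on with
  | empty => simp only [Finset.sum_empty]; rfl
  | insert a t ha ih =>
    rw [Finset.sum_insert ha, Finset.sum_insert ha, ← ih]
    rfl

attribute [local instance] Abelian.hasFiniteBiproducts in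
theorem main (I : Ideal Λ) (hI : I.FG) (F Q : EtModW.ModP Λ X) (p : F ⟶ Q)
    (hp : ARSys.IsQuot I p) (U : X.ProEt) (hU : ProEtS.IsWC U) :
    Function.Surjective (p.hom.app (op U)).hom ∧
      LinearMap.ker (p.hom.app (op U)).hom = I • (⊤ : Submodule Λ (F.obj.obj (op U))) := by
  classical
  haveI := epi_of_isQuot Λ I p hp
  refine ⟨surjective_of_epi Λ p U hU, le_antisymm ?_ ?_⟩
  · -- kernel ⊆ I • ⊤
    obtain ⟨n, a, hS⟩ := Submodule.fg_iff_exists_fin_generating_family.1 hI
    let B : EtModW.ModP Λ X := ⨁ (fun _ : Fin n => F)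
    let σ : B ⟶ F := biproduct.desc (fun i : Fin n => (a i) • 𝟙 F)
    let q : F ⟶ cokernel σ := cokernel.π σ
    have hgen : ∀ i : Fin n, (a i) • q = 0 := by
      intro i
      have h1 : (a i) • q = (biproduct.ι (fun _ : Fin n => F) i ≫ σ) ≫ q := by
        rw [biproduct.ι_desc, Linear.smul_comp, Category.id_comp]
      rw [h1, Category.assoc, cokernel.condition, comp_zero]
    have hk : ARSys.HomKilledBy I q := by
      intro a ha
      rw [← hS] at ha
      refine Submodule.span_induction (p := fun a _ => a • q = 0) ?_ ?_ ?_ ?_ ha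
      · rintro x ⟨i, rfl⟩
        exact hgen i
      · exact zero_smul _ _
      · intro x y _ _ hx hy
        rw [add_smul, hx, hy, add_zero]
      · intro c x _ hx
        rw [smul_eq_mul, mul_smul, hx, smul_zero]
    obtain ⟨ψ, hψ, -⟩ := hp.2 _ q hk
    intro s hs
    rw [LinearMap.mem_ker] at hs
    have hqs : (q.hom.app (op U)).hom s = 0 := by
      rw [← hψ]
      change ((ψ.hom.app (op U)).hom) ((p.hom.app (op U)).hom s) = 0
      rw [hs, map_zero]
    obtain ⟨k, hk'⟩ := exists_kernel_section Λ q U s hqs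
    have hex : (ShortComplex.mk σ q (cokernel.condition σ)).Exact := ShortComplex.exact_cokernel σ
    haveI : Epi (kernel.lift q σ (cokernel.condition σ)) :=
      (ShortComplex.exact_iff_epi_kernel_lift _).1 hex
    obtain ⟨r, hr⟩ := surjective_of_epi Λ (kernel.lift q σ (cokernel.condition σ)) U hU k
    have hσr : (σ.hom.app (op U)).hom r = s := by
      rw [← hk', ← hr]
      have : σ = kernel.lift q σ (cokernel.condition σ) ≫ kernel.ι q := (kernel.lift_ι _ _ _).symm
      conv_lhs => rw [this]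
      rfl
    rw [← hσr]
    have hσ : σ = ∑ j : Fin n, biproduct.π (fun _ : Fin n => F) j ≫ ((a j) • 𝟙 F) := biproduct.desc_eq
    rw [hσ, sum_hom_app]
    refine Submodule.sum_mem _ (fun j _ => ?_)
    have : (((biproduct.π (fun _ : Fin n => F) j ≫ ((a j) • 𝟙 F)).hom.app (op U)).hom r) =
        (a j) • (((biproduct.π (fun _ : Fin n => F) j).hom.app (op U)).hom r) := rfl
    rw [this]
    refine Submodule.smul_mem_smul ?_ Submodule.mem_top
    rw [← hS]
    exact Submodule.subset_span ⟨j, rfl⟩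
  · -- I • ⊤ ⊆ kernel
    rw [Submodule.smul_le]
    intro a ha s _
    rw [LinearMap.mem_ker, map_smul]
    have h1 : ((a • 𝟙 Q : Q ⟶ Q).hom.app (op U)).hom ((p.hom.app (op U)).hom s) =
        a • (p.hom.app (op U)).hom s := rfl
    rw [← h1, hp.1 a ha]
    rfl

end Groth.Agent.Lib.T2H8.WCQuot
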