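import Mathlib
import Groth.Prelude.Def_W4c1extbt610Disp

/-!
# helper8: Witt vectors over a square-zero ideal

`ghostMap_injective` (p-torsion-free rings), `frobenius_teichmuller`, `teichmuller_add` (for elements with
vanishing products, via the universal ring `ℤ ⊕ ℤ²`), the shift `sh`, the decomposition
`x = [x₀] + V (sh x)`, the ideal `WI 𝔞 = W(𝔞)` and, for `𝔞² = 0` (and `p𝔞 = 0`): `sh` is additive and
Frobenius-semilinear on `W(𝔞)`, `p W(𝔞) = 0`, `F W(𝔞) = 0`, `V(w) W(𝔞) = 0`, `W(𝔞)² = 0`.  The tower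
`tower p 𝔞 j = 𝔞 (𝔞 + pS)^j` and `exists_pow_p_mul_eq_zero`.
-/

set_option autoImplicit false
universe u
open WittVector

namespace Groth.Agent.Lib.T2H8.WittSqZero

variable {p : ℕ} [hp : Fact p.Prime]

theorem ghostComponent_eq_sum {A : Type*} [CommRing A] (x : WittVector p A) (n : ℕ) :
    ghostComponent n x = ∑ i ∈ Finset.range (n + 1), (p : A) ^ i * x.coeff i ^ p ^ (n - i) := by
  rw [ghostComponent_apply, wittPolynomial_eq_sum_C_mul_X_pow, map_sum]
  refine Finset.sum_congr rfl fun i _ => ?_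
  simp

/-- the ghost map is injective on `p`-torsion-free rings. -/
theorem ghostMap_injective {A : Type*} [CommRing A] (hA : ∀ a : A, (p : A) * a = 0 → a = 0) :
    Function.Injective (WittVector.ghostMap : WittVector p A → ℕ → A) := by
  have hpow : ∀ (k : ℕ) (a : A), (p : A) ^ k * a = 0 → a = 0 := by
    intro k
    induction k with
    | zero => intro a h; simpa using h
    | succ k ih =>
      intro a h
      rw [pow_succ, mul_assoc] at h
      exact hA a (ih _ h)
  intro x y hxy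
  have hgh : ∀ n, ghostComponent n x = ghostComponent n y := fun n => congrFun hxy n
  have key : ∀ n, x.coeff n = y.coeff n := by
    intro n
    induction n using Nat.strong_induction_on with
    | _ n ih =>
      have h := hgh n
      rw [ghostComponent_eq_sum, ghostComponent_eq_sum, Finset.sum_range_succ, Finset.sum_range_succ] at h
      have h1 : ∑ i ∈ Finset.range n, (p : A) ^ i * x.coeff i ^ p ^ (n - i) =
          ∑ i ∈ Finset.range n, (p : A) ^ i * y.coeff i ^ p ^ (n - i) :=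
        Finset.sum_congr rfl fun i hi => by rw [ih i (Finset.mem_range.1 hi)]
      rw [h1, add_right_inj, Nat.sub_self, pow_zero, pow_one, pow_one] at h
      have h2 : (p : A) ^ n * (x.coeff n - y.coeff n) = 0 := by rw [mul_sub, h, sub_self]
      exact sub_eq_zero.1 (hpow n _ h2)
  exact WittVector.ext key


theorem map_frobenius' {R S : Type u} [CommRing R] [CommRing S] (f : R →+* S) (x : WittVector p R) :
    WittVector.map f (frobenius x) = frobenius (WittVector.map f x) :=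
  (WittVector.frobenius_isPoly p).map f x

/-- `F [r] = [r ^ p]` over any commutative ring. -/
theorem frobenius_teichmuller {R : Type u} [CommRing R] (r : R) :
    frobenius (teichmuller p r) = teichmuller p (r ^ p) := by
  have huniv : frobenius (teichmuller p (MvPolynomial.X r : MvPolynomial R ℤ)) =
      teichmuller p ((MvPolynomial.X r : MvPolynomial R ℤ) ^ p) := by
    apply ghostMap_injective (p := p) (A := MvPolynomial R ℤ)
    · intro a ha
      rcases mul_eq_zero.1 ha with h | h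
      · exact absurd h (Nat.cast_ne_zero.2 hp.out.ne_zero)
      · exact h
    · funext n
      rw [ghostMap_apply, ghostMap_apply, ghostComponent_frobenius, ghostComponent_teichmuller,
        ghostComponent_teichmuller, ← pow_mul, pow_succ']
  have h := congrArg (WittVector.map (MvPolynomial.eval₂Hom (Int.castRingHom R) id)) huniv
  rw [map_frobenius', map_teichmuller, map_teichmuller] at h
  simpa using h


abbrev E := TrivSqZeroExt ℤ (ℤ × ℤ)

theorem E_torsionFree (e : E) (h : (p : E) * e = 0) : e = 0 := by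
  have h1 := congrArg TrivSqZeroExt.fst h
  have h2 := congrArg TrivSqZeroExt.snd h
  rw [TrivSqZeroExt.fst_mul, TrivSqZeroExt.fst_natCast, TrivSqZeroExt.fst_zero] at h1
  rw [TrivSqZeroExt.snd_mul, TrivSqZeroExt.fst_natCast, TrivSqZeroExt.snd_natCast,
    TrivSqZeroExt.snd_zero] at h2
  have hp0 : (p : ℤ) ≠ 0 := by exact_mod_cast hp.out.ne_zero
  have hf : e.fst = 0 := (mul_eq_zero.1 h1).resolve_left hp0
  have hs : e.snd = 0 := by
    simp only [smul_zero, add_zero] at h2
    have h3 := congrArg Prod.fst h2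
    have h4 := congrArg Prod.snd h2
    simp only [Prod.smul_fst, Prod.smul_snd, smul_eq_mul, Prod.fst_zero, Prod.snd_zero] at h3 h4
    exact Prod.ext ((mul_eq_zero.1 h3).resolve_left hp0) ((mul_eq_zero.1 h4).resolve_left hp0)
  exact TrivSqZeroExt.ext hf hs

theorem teichmuller_add_E :
    teichmuller p (TrivSqZeroExt.inr (1, 0) + TrivSqZeroExt.inr (0, 1) : E) =
      teichmuller p (TrivSqZeroExt.inr (1, 0) : E) + teichmuller p (TrivSqZeroExt.inr (0, 1) : E) := by
  apply ghostMap_injective (p := p) (A := E) E_torsionFree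
  funext n
  rw [ghostMap_apply, ghostMap_apply, RingHom.map_add, ghostComponent_teichmuller,
    ghostComponent_teichmuller, ghostComponent_teichmuller]
  rcases Nat.eq_zero_or_pos n with rfl | hn
  · simp
  · have h2 : 2 ≤ p ^ n := by
      calc 2 ≤ p := hp.out.two_le
        _ = p ^ 1 := (pow_one p).symm
        _ ≤ p ^ n := Nat.pow_le_pow_right hp.out.pos hn
    have hz : ∀ m : ℤ × ℤ, (TrivSqZeroExt.inr m : E) ^ p ^ n = 0 := by
      intro m
      refine pow_eq_zero_of_le h2 ?_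
      rw [pow_two, TrivSqZeroExt.inr_mul_inr]
    rw [← TrivSqZeroExt.inr_add, hz, hz, hz, add_zero]


section
variable {S : Type u} [CommRing S]

noncomputable def gAB (a b : S) : (ℤ × ℤ) →ₗ[ℤ] S :=
  LinearMap.coprod (LinearMap.toSpanSingleton ℤ S a) (LinearMap.toSpanSingleton ℤ S b)

theorem gAB_apply (a b : S) (m n : ℤ) : gAB a b (m, n) = m * a + n * b := by
  simp [gAB, LinearMap.coprod_apply, LinearMap.toSpanSingleton_apply]

theorem gAB_mul (a b : S) (haa : a * a = 0) (hab : a * b = 0) (hbb : b * b = 0) (x y : ℤ × ℤ) :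
    gAB a b x * gAB a b y = 0 := by
  obtain ⟨m, n⟩ := x
  obtain ⟨m', n'⟩ := y
  rw [gAB_apply, gAB_apply]
  linear_combination ((m : S) * m') * haa + ((m : S) * n' + n * m') * hab + ((n : S) * n') * hbb

theorem gAB_smul (a b : S) (r : ℤ) (x : ℤ × ℤ) :
    gAB a b (r • x) = (Algebra.ofId ℤ S) r * gAB a b x := by
  rw [map_smul, zsmul_eq_mul]
  simp [Algebra.ofId_apply]

theorem gAB_op_smul (a b : S) (r : ℤ) (x : ℤ × ℤ) :
    gAB a b (MulOpposite.op r • x) = gAB a b x * (Algebra.ofId ℤ S) r := by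
  rw [op_smul_eq_smul, gAB_smul, mul_comm]

/-- the ring map `ℤ ⊕ ℤ² → S` attached to two elements with vanishing products. -/
noncomputable def toS (a b : S) (haa : a * a = 0) (hab : a * b = 0) (hbb : b * b = 0) : E →ₐ[ℤ] S :=
  TrivSqZeroExt.lift (S := ℤ) (Algebra.ofId ℤ S) (gAB a b) (gAB_mul a b haa hab hbb)
    (gAB_smul a b) (gAB_op_smul a b)

theorem toS_inr (a b : S) (haa : a * a = 0) (hab : a * b = 0) (hbb : b * b = 0) (m n : ℤ) :
    toS a b haa hab hbb (TrivSqZeroExt.inr (m, n)) = m * a + n * b := by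
  rw [toS, TrivSqZeroExt.lift_apply_inr, gAB_apply]

/-- Teichmüller representatives are additive on elements whose pairwise products vanish. -/
theorem teichmuller_add (a b : S) (haa : a * a = 0) (hab : a * b = 0) (hbb : b * b = 0) :
    teichmuller p (a + b) = teichmuller p a + teichmuller p b := by
  have h := congrArg (WittVector.map (toS a b haa hab hbb : E →+* S)) (teichmuller_add_E (p := p))
  rw [RingHom.map_add, map_teichmuller, map_teichmuller, map_teichmuller, RingHom.map_add] at h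
  simp only [RingHom.coe_coe, toS_inr] at h
  simpa using h

end


section
variable {S : Type u} [CommRing S]

/-- the shift `(x₀, x₁, …) ↦ (x₁, x₂, …)`. -/
def sh (x : WittVector p S) : WittVector p S := WittVector.mk p fun n => x.coeff (n + 1)

@[simp] theorem sh_coeff (x : WittVector p S) (n : ℕ) : (sh x).coeff n = x.coeff (n + 1) := rfl

theorem coeff_teich_add_V (c : S) (d : WittVector p S) (n : ℕ) :
    (teichmuller p c + verschiebung d).coeff n =
      (teichmuller p c).coeff n + (verschiebung d).coeff n := by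
  apply WittVector.coeff_add_of_disjoint
  intro m
  rcases Nat.eq_zero_or_pos m with rfl | hm
  · right; exact verschiebung_coeff_zero d
  · left; exact teichmuller_coeff_pos p c m hm

theorem coeff_teich_add_V_zero (c : S) (d : WittVector p S) :
    (teichmuller p c + verschiebung d).coeff 0 = c := by
  rw [coeff_teich_add_V, teichmuller_coeff_zero, verschiebung_coeff_zero, add_zero]

theorem coeff_teich_add_V_succ (c : S) (d : WittVector p S) (n : ℕ) :
    (teichmuller p c + verschiebung d).coeff (n + 1) = d.coeff n := by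
  rw [coeff_teich_add_V, teichmuller_coeff_pos p c _ n.succ_pos, verschiebung_coeff_succ, zero_add]

theorem sh_teich_add_V (c : S) (d : WittVector p S) :
    sh (teichmuller p c + verschiebung d) = d := by
  ext n
  rw [sh_coeff, coeff_teich_add_V_succ]

theorem eq_teich_add_V (x : WittVector p S) :
    x = teichmuller p (x.coeff 0) + verschiebung (sh x) := by
  ext n
  rcases n with _ | n
  · rw [coeff_teich_add_V_zero]
  · rw [coeff_teich_add_V_succ, sh_coeff]

/-- `W(𝔞)`: Witt vectors with all coefficients in `𝔞`. -/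
noncomputable def WI (𝔞 : Ideal S) : Ideal (WittVector p S) :=
  RingHom.ker (WittVector.map (Ideal.Quotient.mk 𝔞) : WittVector p S →+* WittVector p (S ⧸ 𝔞))

theorem mem_WI {𝔞 : Ideal S} {x : WittVector p S} : x ∈ WI (p := p) 𝔞 ↔ ∀ n, x.coeff n ∈ 𝔞 := by
  rw [WI, RingHom.mem_ker]
  constructor
  · intro h n
    have := congrArg (fun w => WittVector.coeff w n) h
    simp only [WittVector.map_coeff, WittVector.zero_coeff] at this
    exact Ideal.Quotient.eq_zero_iff_mem.1 this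
  · intro h
    ext n
    rw [WittVector.map_coeff, WittVector.zero_coeff]
    exact Ideal.Quotient.eq_zero_iff_mem.2 (h n)

theorem sh_mem_WI {𝔞 : Ideal S} {x : WittVector p S} (hx : x ∈ WI (p := p) 𝔞) : sh x ∈ WI (p := p) 𝔞 :=
  mem_WI.2 fun n => mem_WI.1 hx (n + 1)

theorem teich_mem_WI {𝔞 : Ideal S} {a : S} (ha : a ∈ 𝔞) : teichmuller p a ∈ WI (p := p) 𝔞 := by
  refine mem_WI.2 fun n => ?_
  rcases Nat.eq_zero_or_pos n with rfl | hn
  · rw [teichmuller_coeff_zero]; exact ha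
  · rw [teichmuller_coeff_pos p a n hn]; exact 𝔞.zero_mem

end

section sqzero
variable {S : Type u} [CommRing S] (𝔞 : Ideal S) (h2 : ∀ a ∈ 𝔞, ∀ b ∈ 𝔞, a * b = 0)
include h2

theorem pow_p_eq_zero {a : S} (ha : a ∈ 𝔞) : a ^ p = 0 :=
  pow_eq_zero_of_le hp.out.two_le (by rw [pow_two]; exact h2 a ha a ha)

theorem frobenius_teich_eq_zero {a : S} (ha : a ∈ 𝔞) : frobenius (teichmuller p a) = 0 := by
  rw [frobenius_teichmuller, pow_p_eq_zero 𝔞 h2 ha, teichmuller_zero]

theorem teich_add_mem {a b : S} (ha : a ∈ 𝔞) (hb : b ∈ 𝔞) :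
    teichmuller p (a + b) = teichmuller p a + teichmuller p b :=
  teichmuller_add a b (h2 a ha a ha) (h2 a ha b hb) (h2 b hb b hb)

theorem V_mul_teich (w : WittVector p S) {a : S} (ha : a ∈ 𝔞) :
    verschiebung w * teichmuller p a = 0 := by
  rw [← verschiebung_mul_frobenius, frobenius_teich_eq_zero 𝔞 h2 ha, mul_zero, map_zero]

theorem mul_teich (w : WittVector p S) {a : S} (ha : a ∈ 𝔞) :
    w * teichmuller p a = teichmuller p (w.coeff 0 * a) := by
  conv_lhs => rw [eq_teich_add_V w]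
  rw [add_mul, V_mul_teich 𝔞 h2 _ ha, add_zero, ← map_mul]

theorem add_eq {x y : WittVector p S} (hx : x ∈ WI (p := p) 𝔞) (hy : y ∈ WI (p := p) 𝔞) :
    x + y = teichmuller p (x.coeff 0 + y.coeff 0) + verschiebung (sh x + sh y) := by
  conv_lhs => rw [eq_teich_add_V x, eq_teich_add_V y]
  rw [teich_add_mem 𝔞 h2 (mem_WI.1 hx 0) (mem_WI.1 hy 0), map_add]
  abel

theorem sh_add {x y : WittVector p S} (hx : x ∈ WI (p := p) 𝔞) (hy : y ∈ WI (p := p) 𝔞) :
    sh (x + y) = sh x + sh y := by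
  rw [add_eq 𝔞 h2 hx hy, sh_teich_add_V]

theorem mul_eq (w : WittVector p S) {x : WittVector p S} (hx : x ∈ WI (p := p) 𝔞) :
    w * x = teichmuller p (w.coeff 0 * x.coeff 0) + verschiebung (frobenius w * sh x) := by
  conv_lhs => rw [eq_teich_add_V x]
  rw [mul_add, mul_teich 𝔞 h2 w (mem_WI.1 hx 0), mul_comm w (verschiebung _),
    ← verschiebung_mul_frobenius, mul_comm (sh x)]

theorem sh_mul (w : WittVector p S) {x : WittVector p S} (hx : x ∈ WI (p := p) 𝔞) :
    sh (w * x) = frobenius w * sh x := by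
  rw [mul_eq 𝔞 h2 w hx, sh_teich_add_V]

theorem coeff_add {x y : WittVector p S} (hx : x ∈ WI (p := p) 𝔞) (hy : y ∈ WI (p := p) 𝔞) (n : ℕ) :
    (x + y).coeff n = x.coeff n + y.coeff n := by
  induction n generalizing x y with
  | zero => exact WittVector.add_coeff_zero x y
  | succ n ih =>
    have := ih (sh_mem_WI hx) (sh_mem_WI hy)
    rw [← sh_add 𝔞 h2 hx hy] at this
    exact this

theorem coeff_natCast_mul {x : WittVector p S} (hx : x ∈ WI (p := p) 𝔞) (m n : ℕ) :
    ((m : WittVector p S) * x).coeff n = m * x.coeff n := by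
  induction m with
  | zero => simp
  | succ m ih =>
    rw [Nat.cast_succ, add_mul, one_mul, coeff_add 𝔞 h2 (Ideal.mul_mem_left _ _ hx) hx, ih]
    push_cast
    ring

variable (hp𝔞 : ∀ a ∈ 𝔞, (p : S) * a = 0)
include hp𝔞

theorem p_mul {x : WittVector p S} (hx : x ∈ WI (p := p) 𝔞) : (p : WittVector p S) * x = 0 := by
  ext n
  rw [coeff_natCast_mul 𝔞 h2 hx, hp𝔞 _ (mem_WI.1 hx n), WittVector.zero_coeff]

theorem frobenius_eq_zero {x : WittVector p S} (hx : x ∈ WI (p := p) 𝔞) : frobenius x = 0 := by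
  conv_lhs => rw [eq_teich_add_V x]
  rw [map_add, frobenius_teich_eq_zero 𝔞 h2 (mem_WI.1 hx 0), frobenius_verschiebung, mul_comm,
    p_mul 𝔞 h2 hp𝔞 (sh_mem_WI hx), add_zero]

theorem V_mul {x : WittVector p S} (hx : x ∈ WI (p := p) 𝔞) (w : WittVector p S) :
    verschiebung w * x = 0 := by
  rw [← verschiebung_mul_frobenius, frobenius_eq_zero 𝔞 h2 hp𝔞 hx, mul_zero, map_zero]

theorem mul_eq_zero' {x y : WittVector p S} (hx : x ∈ WI (p := p) 𝔞) (hy : y ∈ WI (p := p) 𝔞) :
    x * y = 0 := by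
  rw [mul_eq 𝔞 h2 x hy, frobenius_eq_zero 𝔞 h2 hp𝔞 hx, zero_mul, map_zero, add_zero,
    h2 _ (mem_WI.1 hx 0) _ (mem_WI.1 hy 0), teichmuller_zero]

end sqzero


section
variable {S : Type u} [CommRing S]

theorem WI_mono {𝔞 𝔟 : Ideal S} (h : 𝔞 ≤ 𝔟) : WI (p := p) 𝔞 ≤ WI (p := p) 𝔟 :=
  fun _ hx => mem_WI.2 fun n => h (mem_WI.1 hx n)

theorem WI_bot : WI (p := p) (⊥ : Ideal S) = ⊥ := by
  rw [eq_bot_iff]
  intro x hx
  rw [Ideal.mem_bot]
  ext n
  rw [WittVector.zero_coeff]
  exact (Ideal.mem_bot).1 (mem_WI.1 hx n)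

theorem mem_ker_map_iff {R : Type u} [CommRing R] (f : S →+* R) (x : WittVector p S) :
    x ∈ RingHom.ker (WittVector.map f : WittVector p S →+* WittVector p R) ↔
      x ∈ WI (p := p) (RingHom.ker f) := by
  rw [mem_WI, RingHom.mem_ker]
  constructor
  · intro h n
    have := congrArg (fun w => WittVector.coeff w n) h
    simp only [WittVector.map_coeff, WittVector.zero_coeff] at this
    exact (RingHom.mem_ker).2 this
  · intro h
    ext n
    rw [WittVector.map_coeff, WittVector.zero_coeff]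
    exact (RingHom.mem_ker).1 (h n)

theorem map_mem_WI {R : Type u} [CommRing R] (f : S →+* R) {𝔟 : Ideal S} {x : WittVector p S}
    (hx : x ∈ WI (p := p) 𝔟) : WittVector.map f x ∈ WI (p := p) (𝔟.map f) :=
  mem_WI.2 fun n => by
    rw [WittVector.map_coeff]
    exact Ideal.mem_map_of_mem f (mem_WI.1 hx n)

theorem coeff_zero_of_mem_IV {i : WittVector p S} (hi : i ∈ W4c1extbt610.IV p S) : i.coeff 0 = 0 := by
  have hle : W4c1extbt610.IV p S ≤ RingHom.ker (WittVector.constantCoeff : WittVector p S →+* S) := by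
    rw [W4c1extbt610.IV, Ideal.span_le]
    rintro _ ⟨w, rfl⟩
    exact verschiebung_coeff_zero w
  exact hle hi

theorem mem_IV_of_coeff_zero {x : WittVector p S} (hx : x.coeff 0 = 0) :
    x ∈ W4c1extbt610.IV p S := by
  rw [eq_teich_add_V x, hx, teichmuller_zero, zero_add]
  exact W4c1extbt610.verschiebung_mem_IV p S _

theorem eq_V_sh_of_coeff_zero {x : WittVector p S} (hx : x.coeff 0 = 0) :
    x = verschiebung (sh x) := by
  conv_lhs => rw [eq_teich_add_V x, hx, teichmuller_zero, zero_add]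

/-- conditions descend to a quotient. -/
theorem map_mk_sq {𝔟 𝔡 : Ideal S} (h : 𝔟 * 𝔟 ≤ 𝔡) :
    ∀ a ∈ 𝔟.map (Ideal.Quotient.mk 𝔡), ∀ b ∈ 𝔟.map (Ideal.Quotient.mk 𝔡), a * b = 0 := by
  intro a ha b hb
  obtain ⟨x, hx, rfl⟩ := (Ideal.mem_map_iff_of_surjective _ Ideal.Quotient.mk_surjective).1 ha
  obtain ⟨y, hy, rfl⟩ := (Ideal.mem_map_iff_of_surjective _ Ideal.Quotient.mk_surjective).1 hb
  rw [← map_mul]
  exact Ideal.Quotient.eq_zero_iff_mem.2 (h (Ideal.mul_mem_mul hx hy))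

theorem map_mk_p {𝔟 𝔡 : Ideal S} (h : ∀ a ∈ 𝔟, (p : S) * a ∈ 𝔡) :
    ∀ a ∈ 𝔟.map (Ideal.Quotient.mk 𝔡), (p : S ⧸ 𝔡) * a = 0 := by
  intro a ha
  obtain ⟨x, hx, rfl⟩ := (Ideal.mem_map_iff_of_surjective _ Ideal.Quotient.mk_surjective).1 ha
  rw [← map_natCast (Ideal.Quotient.mk 𝔡), ← map_mul]
  exact Ideal.Quotient.eq_zero_iff_mem.2 (h x hx)

theorem p_mul_mem {𝔟 𝔡 : Ideal S} (h1 : 𝔟 * 𝔟 ≤ 𝔡) (h2 : ∀ a ∈ 𝔟, (p : S) * a ∈ 𝔡)
    {x : WittVector p S} (hx : x ∈ WI (p := p) 𝔟) : (p : WittVector p S) * x ∈ WI (p := p) 𝔡 := by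
  rw [WI, RingHom.mem_ker, map_mul, map_natCast]
  exact p_mul _ (map_mk_sq h1) (map_mk_p h2) (map_mem_WI _ hx)

/-- the tower `𝔞 ⊇ 𝔞𝔠 ⊇ 𝔞𝔠² ⊇ ⋯`, `𝔠 = 𝔞 + pS`. -/
def tower (p : ℕ) (𝔞 : Ideal S) (j : ℕ) : Ideal S := 𝔞 * (𝔞 ⊔ Ideal.span {(p : S)}) ^ j

theorem tower_le (p : ℕ) (𝔞 : Ideal S) (j : ℕ) : tower p 𝔞 j ≤ 𝔞 := by
  unfold tower
  exact Ideal.mul_le_left

theorem tower_succ (p : ℕ) (𝔞 : Ideal S) (j : ℕ) :
    tower p 𝔞 (j + 1) = tower p 𝔞 j * (𝔞 ⊔ Ideal.span {(p : S)}) := by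
  unfold tower
  rw [pow_succ, mul_assoc]

theorem tower_sq_le (p : ℕ) (𝔞 : Ideal S) (j : ℕ) : tower p 𝔞 j * tower p 𝔞 j ≤ tower p 𝔞 (j + 1) := by
  rw [tower_succ]
  exact Ideal.mul_mono_right ((tower_le p 𝔞 j).trans le_sup_left)

theorem tower_succ_le (p : ℕ) (𝔞 : Ideal S) (j : ℕ) : tower p 𝔞 (j + 1) ≤ tower p 𝔞 j := by
  rw [tower_succ]
  exact Ideal.mul_le_left

theorem tower_zero (p : ℕ) (𝔞 : Ideal S) : tower p 𝔞 0 = 𝔞 := by
  rw [tower, pow_zero, Ideal.one_eq_top, Ideal.mul_top]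

theorem p_mul_tower (p : ℕ) (𝔞 : Ideal S) (j : ℕ) (a : S) (ha : a ∈ tower p 𝔞 j) :
    (p : S) * a ∈ tower p 𝔞 (j + 1) := by
  rw [tower_succ, mul_comm (p : S) a]
  exact Ideal.mul_mem_mul ha (Ideal.mem_sup_right (Ideal.subset_span rfl))

theorem tower_eq_bot (𝔞 : Ideal S) (h𝔞 : IsNilpotent 𝔞) (hpS : IsNilpotent (p : S)) :
    ∃ k, tower p 𝔞 k = ⊥ := by
  obtain ⟨n, hn⟩ := h𝔞
  obtain ⟨m, hm⟩ := hpS
  refine ⟨n + m, ?_⟩
  have h1 : (𝔞 ⊔ Ideal.span {(p : S)}) ^ (n + m) = ⊥ := by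
    rw [eq_bot_iff]
    refine Ideal.sup_pow_add_le_pow_sup_pow.trans ?_
    rw [hn, Ideal.span_singleton_pow, hm]
    simp
  rw [tower, h1, Ideal.mul_bot]

theorem pow_p_mul_mem_tower (𝔞 : Ideal S) (j : ℕ) {x : WittVector p S} (hx : x ∈ WI (p := p) 𝔞) :
    (p : WittVector p S) ^ j * x ∈ WI (p := p) (tower p 𝔞 j) := by
  induction j with
  | zero => rw [pow_zero, one_mul, tower_zero]; exact hx
  | succ j ih =>
    rw [pow_succ', mul_assoc]
    exact p_mul_mem (tower_sq_le p 𝔞 j) (p_mul_tower p 𝔞 j) ih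

/-- a power of `p` kills `W(𝔞)` when `𝔞` and `p` are nilpotent. -/
theorem exists_pow_p_mul_eq_zero (𝔞 : Ideal S) (h𝔞 : IsNilpotent 𝔞) (hpS : IsNilpotent (p : S)) :
    ∃ k, ∀ x ∈ WI (p := p) 𝔞, (p : WittVector p S) ^ k * x = 0 := by
  obtain ⟨k, hk⟩ := tower_eq_bot (p := p) 𝔞 h𝔞 hpS
  refine ⟨k, fun x hx => ?_⟩
  have := pow_p_mul_mem_tower 𝔞 k hx
  rw [hk, WI_bot] at this
  exact this

end


end Groth.Agent.Lib.T2H8.WittSqZero
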