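import Mathlib

/-!
# Idempotent lifting to the integral closure via Zariski's main theorem (S9313)

`zmtIdeal A B` : the ideal of the integral closure `B'` of `A` in `B` consisting of the `g`
with `∀ x : B, ∃ m, g ^ m * x` integral over `A` (so that `B'_g = B_g`).
-/

namespace Groth.Agent.Lib.T2H8.ZMTIdem

universe u v

section ZMTIdeal

variable (A : Type u) (B : Type v) [CommRing A] [CommRing B] [Algebra A B]

/-- The ideal of the integral closure `B'` of `A` in `B` of those `g` with `B'_g = B_g`. -/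
def zmtIdeal : Ideal (integralClosure A B) where
  carrier := {g | ∀ x : B, ∃ m : ℕ, IsIntegral A ((g : B) ^ m * x)}
  zero_mem' := fun x => ⟨1, by simp [isIntegral_zero]⟩
  add_mem' := by
    intro g1 g2 h1 h2 x
    obtain ⟨m1, hm1⟩ := h1 x
    obtain ⟨m2, hm2⟩ := h2 x
    refine ⟨m1 + m2, ?_⟩
    have hg1 : IsIntegral A (g1 : B) := g1.2
    have hg2 : IsIntegral A (g2 : B) := g2.2
    rw [show ((g1 + g2 : integralClosure A B) : B) = (g1 : B) + (g2 : B) from rfl, add_pow,
      Finset.sum_mul]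
    refine IsIntegral.sum _ fun k hk => ?_
    have hk' : k ≤ m1 + m2 := by
      have := Finset.mem_range.mp hk
      omega
    by_cases hk1 : m1 ≤ k
    · have : (g1 : B) ^ k * (g2 : B) ^ (m1 + m2 - k) * ((m1 + m2).choose k : B) * x =
          (g1 : B) ^ (k - m1) * (g2 : B) ^ (m1 + m2 - k) * ((m1 + m2).choose k : B) *
            ((g1 : B) ^ m1 * x) := by
        have : (g1 : B) ^ k = (g1 : B) ^ (k - m1) * (g1 : B) ^ m1 := by
          rw [← pow_add, Nat.sub_add_cancel hk1]
        rw [this]; ring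
      rw [this]
      exact (((hg1.pow _).mul (hg2.pow _)).mul (isIntegral_natCast _)).mul hm1
    · have hk2 : m2 ≤ m1 + m2 - k := by omega
      have : (g1 : B) ^ k * (g2 : B) ^ (m1 + m2 - k) * ((m1 + m2).choose k : B) * x =
          (g1 : B) ^ k * (g2 : B) ^ (m1 + m2 - k - m2) * ((m1 + m2).choose k : B) *
            ((g2 : B) ^ m2 * x) := by
        have : (g2 : B) ^ (m1 + m2 - k) = (g2 : B) ^ (m1 + m2 - k - m2) * (g2 : B) ^ m2 := by
          rw [← pow_add, Nat.sub_add_cancel hk2]
        rw [this]; ring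
      rw [this]
      exact (((hg1.pow _).mul (hg2.pow _)).mul (isIntegral_natCast _)).mul hm2
  smul_mem' := by
    intro c g hg x
    obtain ⟨m, hm⟩ := hg x
    refine ⟨m, ?_⟩
    have hc : IsIntegral A (c : B) := c.2
    have : ((c • g : integralClosure A B) : B) ^ m * x = (c : B) ^ m * ((g : B) ^ m * x) := by
      rw [show ((c • g : integralClosure A B) : B) = (c : B) * (g : B) from rfl, mul_pow]; ring
    rw [this]
    exact (hc.pow _).mul hm

variable {A B}

theorem mem_zmtIdeal {g : integralClosure A B} :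
    g ∈ zmtIdeal A B ↔ ∀ x : B, ∃ m : ℕ, IsIntegral A ((g : B) ^ m * x) := Iff.rfl

/-- For `g` in the ZMT ideal, `B'_g → B_g` is bijective. -/
theorem bijective_of_mem_zmtIdeal (g : integralClosure A B) (hg : g ∈ zmtIdeal A B) :
    Function.Bijective (algebraMap (Localization.Away g)
      (Localization (Algebra.algebraMapSubmonoid B (Submonoid.powers g)))) := by
  constructor
  · exact localizationAlgebra_injective _ _ Subtype.val_injective
  · intro x
    obtain ⟨b, ⟨s, hs⟩, rfl⟩ := IsLocalization.exists_mk'_eq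
      (Algebra.algebraMapSubmonoid B (Submonoid.powers g)) x
    obtain ⟨t, ⟨n, rfl⟩, rfl⟩ := hs
    obtain ⟨m, hm⟩ := hg b
    refine ⟨IsLocalization.mk' _ (⟨(g : B) ^ m * b, hm⟩ : integralClosure A B)
      (⟨g ^ (n + m), ⟨n + m, rfl⟩⟩ : Submonoid.powers g), ?_⟩
    rw [localizationAlgebraMap_def, IsLocalization.map_mk', IsLocalization.mk'_eq_iff_eq]
    congr 1
    show (g ^ n : integralClosure A B).1 * ((g : B) ^ m * b) =
      ((g ^ (n + m) : integralClosure A B) : B) * b
    push_cast
    ring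

end ZMTIdeal

section QF

variable {A : Type u} {B : Type v} [CommRing A] [CommRing B] [Algebra A B]

/-- If `B/K` is finite over `A`, `K ≤ q`, and `K` is killed modulo `pB` (`p = q ∩ A`) by some
`e ∉ q`, then `A → B` is (weakly) quasi-finite at `q`. -/
theorem weaklyQuasiFiniteAt_of_finite_quotient (q : Ideal B) [q.IsPrime] (K : Ideal B)
    [Module.Finite A (B ⧸ K)] (e : B) (he : e ∉ q)
    (heK : ∀ k ∈ K, e * k ∈ (q.under A).map (algebraMap A B)) :
    Algebra.WeaklyQuasiFiniteAt A q := by
  rw [Algebra.weaklyQuasiFiniteAt_iff]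
  set P : Ideal (Localization.AtPrime q) :=
    (q.under A).map (algebraMap A (Localization.AtPrime q)) with hP
  have hunit : ∀ s : B, s ∉ q → IsUnit (algebraMap B (Localization.AtPrime q) s) := fun s hs =>
    IsLocalization.map_units (M := q.primeCompl) (Localization.AtPrime q) ⟨s, hs⟩
  have hkill : ∀ k ∈ K, algebraMap B (Localization.AtPrime q) k ∈ P := by
    intro k hk
    have h1 : algebraMap B (Localization.AtPrime q) (e * k) ∈ P := by
      have := Ideal.mem_map_of_mem (algebraMap B (Localization.AtPrime q)) (heK k hk)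
      rwa [Ideal.map_map, ← IsScalarTower.algebraMap_eq] at this
    rw [map_mul] at h1
    obtain ⟨u, hu⟩ := hunit e he
    have : algebraMap B (Localization.AtPrime q) k =
        (↑u⁻¹ : Localization.AtPrime q) * (algebraMap B (Localization.AtPrime q) e *
          algebraMap B (Localization.AtPrime q) k) := by
      rw [← hu, ← mul_assoc, Units.inv_mul, one_mul]
    rw [this]
    exact Ideal.mul_mem_left _ _ h1
  let f0 : B →ₐ[A] (Localization.AtPrime q ⧸ P) :=
    (Ideal.Quotient.mkₐ A P).comp (IsScalarTower.toAlgHom A B (Localization.AtPrime q))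
  let f : (B ⧸ K) →ₐ[A] (Localization.AtPrime q ⧸ P) :=
    Ideal.Quotient.liftₐ K f0 (by
      intro k hk
      show Ideal.Quotient.mk P (algebraMap B (Localization.AtPrime q) k) = 0
      exact Ideal.Quotient.eq_zero_iff_mem.mpr (hkill k hk))
  have hf : ∀ b : B, f (Ideal.Quotient.mk K b) =
      Ideal.Quotient.mk P (algebraMap B (Localization.AtPrime q) b) := fun b => rfl
  refine Algebra.QuasiFinite.of_forall_exists_mul_mem_range f fun x => ?_
  obtain ⟨y, rfl⟩ := Ideal.Quotient.mk_surjective x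
  obtain ⟨b, ⟨s, hs⟩, rfl⟩ := IsLocalization.exists_mk'_eq q.primeCompl y
  refine ⟨Ideal.Quotient.mk K s, ?_, ⟨Ideal.Quotient.mk K b, ?_⟩⟩
  · rw [hf]
    exact (hunit s hs).map (Ideal.Quotient.mk P)
  · show f (Ideal.Quotient.mk K b) = _ * f (Ideal.Quotient.mk K s)
    rw [hf, hf, ← map_mul]
    congr 1
    exact (IsLocalization.mk'_spec _ b ⟨s, hs⟩).symm

end QF

section Sup

variable {A : Type u} {B : Type v} [CommRing A] [CommRing B] [Algebra A B]
  [Algebra.FiniteType A B]

/-- If `B/K` is finite over `A` and `A → B` is quasi-finite at all primes containing `K`, then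
the contraction of `K` to the integral closure and the ZMT ideal are comaximal. -/
theorem comap_sup_zmtIdeal_eq_top (K : Ideal B) [Module.Finite A (B ⧸ K)]
    (hq : ∀ (q : Ideal B) [q.IsPrime], K ≤ q → Algebra.WeaklyQuasiFiniteAt A q) :
    K.comap (algebraMap (integralClosure A B) B) ⊔ zmtIdeal A B = ⊤ := by
  by_contra h
  obtain ⟨𝔪, h𝔪, hle⟩ := Ideal.exists_le_maximal _ h
  haveI := h𝔪.isPrime
  haveI : Algebra.IsIntegral A (B ⧸ K) := Algebra.IsIntegral.of_finite A (B ⧸ K)
  haveI : Algebra.IsIntegral (integralClosure A B) (B ⧸ K) :=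
    Algebra.IsIntegral.tower_top (R := A)
  obtain ⟨Q, -, hQ, hQ𝔪⟩ := Ideal.exists_ideal_over_prime_of_isIntegral 𝔪
    (⊥ : Ideal (B ⧸ K)) (by
      intro x hx
      apply hle
      apply Ideal.mem_sup_left
      rw [Ideal.mem_comap] at hx ⊢
      have hx' : algebraMap (integralClosure A B) (B ⧸ K) x = 0 := by simpa using hx
      rw [IsScalarTower.algebraMap_apply (integralClosure A B) B (B ⧸ K)] at hx'
      exact Ideal.Quotient.eq_zero_iff_mem.mp hx')
  let q : Ideal B := Q.comap (Ideal.Quotient.mk K)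
  haveI : q.IsPrime := Ideal.comap_isPrime _ _
  have hKq : K ≤ q := by
    intro k hk
    show Ideal.Quotient.mk K k ∈ Q
    rw [Ideal.Quotient.eq_zero_iff_mem.mpr hk]
    exact Q.zero_mem
  haveI := hq q hKq
  obtain ⟨r, hrq, hr⟩ := Algebra.zariskisMainProperty_iff'.mp
    (Algebra.ZariskisMainProperty.of_finiteType_of_weaklyQuasiFiniteAt (R := A) q)
  have hrint : IsIntegral A r := by
    obtain ⟨n, hn⟩ := hr r
    rw [← pow_succ] at hn
    exact (IsIntegral.pow_iff (by simp)).mp hn
  have h1 : (⟨r, hrint⟩ : integralClosure A B) ∈ zmtIdeal A B := hr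
  have h2 : (⟨r, hrint⟩ : integralClosure A B) ∈ 𝔪 := hle (Ideal.mem_sup_right h1)
  rw [← hQ𝔪] at h2
  exact hrq h2

end Sup

section Main

variable {A : Type u} {B : Type v} [CommRing A] [CommRing B] [Algebra A B]

/-- Elements of `IB ∩ B'` are pushed into `IB'` by a power of `g ∈ zmtIdeal`. -/
theorem exists_pow_mul_mem_map (I : Ideal A) (g : integralClosure A B) (hg : g ∈ zmtIdeal A B)
    (w : integralClosure A B) (hw : (w : B) ∈ Ideal.map (algebraMap A B) I) :
    ∃ M : ℕ, g ^ M * w ∈ Ideal.map (algebraMap A (integralClosure A B)) I := by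
  have key : ∀ b : B, b ∈ Ideal.map (algebraMap A B) I →
      ∃ (M : ℕ) (c : integralClosure A B), (c : B) = (g : B) ^ M * b ∧
        c ∈ Ideal.map (algebraMap A (integralClosure A B)) I := by
    intro b hb
    rw [Ideal.map] at hb
    induction hb using Submodule.span_induction with
    | mem x hx =>
      obtain ⟨i, hi, rfl⟩ := hx
      exact ⟨0, algebraMap A (integralClosure A B) i, by simp,
        Ideal.mem_map_of_mem _ hi⟩
    | zero => exact ⟨0, 0, by simp, Ideal.zero_mem _⟩
    | add x y _ _ hx hy =>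
      obtain ⟨M1, c1, h1, h1'⟩ := hx
      obtain ⟨M2, c2, h2, h2'⟩ := hy
      refine ⟨M1 + M2, g ^ M2 * c1 + g ^ M1 * c2, ?_,
        Ideal.add_mem _ (Ideal.mul_mem_left _ _ h1') (Ideal.mul_mem_left _ _ h2')⟩
      push_cast
      rw [h1, h2]; ring
    | smul a x _ hx =>
      obtain ⟨M, c, h1, h1'⟩ := hx
      obtain ⟨m', hm'⟩ := hg a
      refine ⟨M + m', (⟨(g : B) ^ m' * a, hm'⟩ : integralClosure A B) * c, ?_,
        Ideal.mul_mem_left _ _ h1'⟩
      push_cast
      rw [h1, smul_eq_mul]; ring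
  obtain ⟨M, c, hc, hc'⟩ := key _ hw
  refine ⟨M, ?_⟩
  have : g ^ M * w = c := Subtype.ext (by rw [hc]; rfl)
  rw [this]; exact hc'

end Main

section MainThm

theorem main_S9313 (A B : Type u) [CommRing A] [CommRing B]
    [Algebra A B] [Algebra.FiniteType A B] (I : Ideal A) (e : B ⧸ Ideal.map (algebraMap A B) I)
    (he : IsIdempotentElem e)
    (hfin : Module.Finite (A ⧸ I) ((B ⧸ Ideal.map (algebraMap A B) I) ⧸ Ideal.span {1 - e})) :
    ∃ g : integralClosure A B,
      IsIdempotentElem (Ideal.Quotient.mk (Ideal.map (algebraMap A (integralClosure A B)) I) g) ∧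
      Ideal.Quotient.mk (Ideal.map (algebraMap A B) I) (g : B) = e ∧
      Function.Bijective (algebraMap (Localization.Away g)
        (Localization (Algebra.algebraMapSubmonoid B (Submonoid.powers g)))) := by
  classical
  let π : B →ₐ[A] ((B ⧸ (Ideal.map (algebraMap A B) I)) ⧸ Ideal.span {1 - e}) :=
    (Ideal.Quotient.mkₐ A (Ideal.span {1 - e})).comp (Ideal.Quotient.mkₐ A (Ideal.map (algebraMap A B) I))
  have hπsurj : Function.Surjective π :=
    (Ideal.Quotient.mkₐ_surjective A _).comp (Ideal.Quotient.mkₐ_surjective A _)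
  set K : Ideal B := RingHom.ker π with hK
  have hKmem : ∀ b : B, b ∈ K ↔ Ideal.Quotient.mk (Ideal.map (algebraMap A B) I) b ∈ Ideal.span {1 - e} := by
    intro b
    rw [hK, RingHom.mem_ker]
    show Ideal.Quotient.mk (Ideal.span {1 - e}) (Ideal.Quotient.mk (Ideal.map (algebraMap A B) I) b) = 0 ↔ _
    exact Ideal.Quotient.eq_zero_iff_mem
  haveI : Module.Finite A ((B ⧸ (Ideal.map (algebraMap A B) I)) ⧸ Ideal.span {1 - e}) := Module.Finite.trans (A ⧸ I) _
  haveI : Module.Finite A (B ⧸ K) :=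
    Module.Finite.equiv (Ideal.quotientKerAlgEquivOfSurjective hπsurj).symm.toLinearEquiv
  -- `k ∈ K` implies `mk k * e = 0`
  have hKe : ∀ b : B, b ∈ K → Ideal.Quotient.mk (Ideal.map (algebraMap A B) I) b * e = 0 := by
    intro b hb
    obtain ⟨c, hc⟩ := Ideal.mem_span_singleton'.mp ((hKmem b).mp hb)
    rw [← hc, mul_assoc, sub_mul, one_mul, he.eq, sub_self, mul_zero]
  have hIBK : (Ideal.map (algebraMap A B) I) ≤ K := by
    intro b hb
    rw [hKmem, Ideal.Quotient.eq_zero_iff_mem.mpr hb]
    exact Ideal.zero_mem _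
  obtain ⟨e0, he0⟩ := Ideal.Quotient.mk_surjective e
  have h1e0 : 1 - e0 ∈ K := by
    rw [hKmem, map_sub, map_one, he0]
    exact Ideal.mem_span_singleton_self _
  -- quasi-finiteness at primes containing `K`
  have hq : ∀ (q : Ideal B) [q.IsPrime], K ≤ q → Algebra.WeaklyQuasiFiniteAt A q := by
    intro q _ hKq
    refine weaklyQuasiFiniteAt_of_finite_quotient q K e0 ?_ ?_
    · intro hmem
      have : (1 : B) ∈ q := by
        have := q.add_mem (hKq h1e0) hmem
        simpa using this
      exact (Ideal.IsPrime.ne_top ‹_›) ((Ideal.eq_top_iff_one _).mpr this)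
    · intro k hk
      have h1 : e0 * k ∈ (Ideal.map (algebraMap A B) I) := by
        rw [← Ideal.Quotient.eq_zero_iff_mem, map_mul, he0, mul_comm]
        exact hKe k hk
      have h2 : I ≤ q.under A := by
        intro i hi
        rw [Ideal.mem_comap]
        exact hKq (hIBK (Ideal.mem_map_of_mem _ hi))
      exact Ideal.map_mono h2 h1
  have htop := comap_sup_zmtIdeal_eq_top K hq
  obtain ⟨j, hj, g, hg, hjg⟩ := Submodule.mem_sup.mp ((Ideal.eq_top_iff_one _).mp htop)
  -- `mk g * e = e`
  have hge : Ideal.Quotient.mk (Ideal.map (algebraMap A B) I) (g : B) * e = e := by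
    have hjK : (j : B) ∈ K := hj
    have h1 : (j : B) + (g : B) = 1 := by
      have := congrArg (fun x : integralClosure A B => (x : B)) hjg
      simpa using this
    have h2 := hKe _ hjK
    have h3 : Ideal.Quotient.mk (Ideal.map (algebraMap A B) I) (g : B) = 1 - Ideal.Quotient.mk (Ideal.map (algebraMap A B) I) (j : B) := by
      rw [← map_one (Ideal.Quotient.mk (Ideal.map (algebraMap A B) I)), ← h1, map_add]; ring
    rw [h3, sub_mul, h2, one_mul, sub_zero]
  have hgpe : ∀ n : ℕ, Ideal.Quotient.mk (Ideal.map (algebraMap A B) I) (g : B) ^ n * e = e := by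
    intro n
    induction n with
    | zero => simp
    | succ n ih => rw [pow_succ, mul_assoc, hge, ih]
  obtain ⟨m, hm⟩ := hg e0
  set y : integralClosure A B := ⟨(g : B) ^ m * e0, hm⟩ with hy
  set z : integralClosure A B := g * y with hz
  have hzB : Ideal.Quotient.mk (Ideal.map (algebraMap A B) I) (z : B) = e := by
    have : (z : B) = (g : B) ^ (m + 1) * e0 := by
      show (g : B) * ((g : B) ^ m * e0) = _
      ring
    rw [this, map_mul, map_pow, he0, hgpe]
  obtain ⟨M1, hM1⟩ := exists_pow_mul_mem_map I g hg (z * z - z) (by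
    rw [← Ideal.Quotient.eq_zero_iff_mem]
    show Ideal.Quotient.mk (Ideal.map (algebraMap A B) I) ((z : B) * (z : B) - (z : B)) = 0
    rw [map_sub, map_mul, hzB, he.eq, sub_self])
  obtain ⟨M2, hM2⟩ := exists_pow_mul_mem_map I g hg ((g - 1) * z) (by
    rw [← Ideal.Quotient.eq_zero_iff_mem]
    show Ideal.Quotient.mk (Ideal.map (algebraMap A B) I) (((g : B) - 1) * (z : B)) = 0
    rw [map_mul, map_sub, map_one, hzB, sub_mul, hge, one_mul, sub_self])
  set γ := Ideal.Quotient.mk (Ideal.map (algebraMap A (integralClosure A B)) I) g with hγ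
  set ζ := Ideal.Quotient.mk (Ideal.map (algebraMap A (integralClosure A B)) I) z with hζ
  have e1 : γ ^ M1 * (ζ * ζ - ζ) = 0 := by
    rw [hγ, hζ, ← map_pow, ← map_mul, ← map_sub, ← map_mul]
    exact Ideal.Quotient.eq_zero_iff_mem.mpr hM1
  have e2 : γ ^ M2 * ((γ - 1) * ζ) = 0 := by
    rw [hγ, hζ, ← map_pow, ← map_one (Ideal.Quotient.mk (Ideal.map (algebraMap A (integralClosure A B)) I)), ← map_sub, ← map_mul, ← map_mul]
    exact Ideal.Quotient.eq_zero_iff_mem.mpr hM2
  set L := M1 + M2 with hL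
  set ζ' := γ ^ L * ζ with hζ'
  have e3 : γ * ζ' = ζ' := by
    have : γ * ζ' - ζ' = γ ^ M1 * (γ ^ M2 * ((γ - 1) * ζ)) := by
      rw [hζ', hL, pow_add]; ring
    rw [e2, mul_zero] at this
    exact sub_eq_zero.mp this
  have e4 : ∀ n : ℕ, γ ^ n * ζ' = ζ' := by
    intro n
    induction n with
    | zero => simp
    | succ n ih => rw [pow_succ, mul_assoc, e3, ih]
  have e5 : ζ' * ζ' = ζ' := by
    have : ζ' * ζ' - ζ' = γ ^ L * (γ ^ M2 * (γ ^ M1 * (ζ * ζ - ζ))) + (γ ^ L * ζ' - ζ') := by
      rw [hζ', hL, pow_add]; ring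
    rw [e1, mul_zero, mul_zero, zero_add, e4, sub_self] at this
    exact sub_eq_zero.mp this
  refine ⟨g ^ L * z, ?_, ?_, ?_⟩
  · show Ideal.Quotient.mk (Ideal.map (algebraMap A (integralClosure A B)) I) (g ^ L * z) * Ideal.Quotient.mk (Ideal.map (algebraMap A (integralClosure A B)) I) (g ^ L * z) = _
    rw [map_mul, map_pow]
    exact e5
  · show Ideal.Quotient.mk (Ideal.map (algebraMap A B) I) ((g : B) ^ L * (z : B)) = e
    rw [map_mul, map_pow, hzB, hgpe]
  · apply bijective_of_mem_zmtIdeal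
    exact Ideal.mul_mem_left _ _ (Ideal.mul_mem_right _ _ hg)

end MainThm

end Groth.Agent.Lib.T2H8.ZMTIdem
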