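import Groth.Agent.Lib.T2H8ZinkA

/-!
# Lifting homomorphisms of Frobenius modules (Disp, S14865/S14866)

`W` a commutative ring with an endomorphism `σ`, `P₁`, `P₂` free `W`-modules, `F₁`, `F₂` `σ`-semilinear
endomorphisms with `F₁` carrying a basis `b₁` to a basis `c₁`.  A linear map `α : P₁ → P₂` commutes with
the `F`'s iff it is fixed by the additive operator `T α = (c₁ i ↦ F₂ (α (b₁ i)))`.  If an iterate of `σ`
kills an ideal `J`, then `T` is nilpotent on maps with values in `J P₂`, which gives existence and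
uniqueness of lifts (`exists_lift`, `lift_unique`).
-/

set_option autoImplicit false
universe u v w z

namespace Groth.Agent.Lib.T2H8.Zink

section Lin

variable {W : Type u} [CommRing W] {σ : W →+* W}
  {P₁ : Type v} {P₂ : Type w} [AddCommGroup P₁] [Module W P₁] [AddCommGroup P₂] [Module W P₂]
  {ι₁ : Type z} (b₁ c₁ : Module.Basis ι₁ W P₁) (F₂ : P₂ →ₛₗ[σ] P₂)

/-- The operator `α ↦ (c₁ i ↦ F₂ (α (b₁ i)))`. -/
noncomputable def T : (P₁ →ₗ[W] P₂) →+ (P₁ →ₗ[W] P₂) where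
  toFun α := c₁.constr W (fun i => F₂ (α (b₁ i)))
  map_zero' := by
    apply c₁.ext
    intro i
    rw [Module.Basis.constr_basis]
    simp
  map_add' α β := by
    apply c₁.ext
    intro i
    rw [Module.Basis.constr_basis, LinearMap.add_apply, LinearMap.add_apply,
      Module.Basis.constr_basis, Module.Basis.constr_basis, map_add]

lemma T_apply_basis (α : P₁ →ₗ[W] P₂) (i : ι₁) : T b₁ c₁ F₂ α (c₁ i) = F₂ (α (b₁ i)) :=
  Module.Basis.constr_basis _ _ _ _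

lemma map_mem_smul_top (𝔡 : Ideal W) {y : P₂} (hy : y ∈ 𝔡 • (⊤ : Submodule W P₂)) :
    F₂ y ∈ (𝔡.map σ) • (⊤ : Submodule W P₂) := by
  refine Submodule.smul_induction_on hy ?_ ?_
  · intro d hd z _
    rw [map_smulₛₗ]
    exact Submodule.smul_mem_smul (Ideal.mem_map_of_mem σ hd) Submodule.mem_top
  · intro y z hy hz
    rw [map_add]
    exact Submodule.add_mem _ hy hz

lemma T_mem_smul_top (𝔡 : Ideal W) (ω : P₁ →ₗ[W] P₂)
    (hω : ∀ x, ω x ∈ 𝔡 • (⊤ : Submodule W P₂)) (x : P₁) :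
    T b₁ c₁ F₂ ω x ∈ (𝔡.map σ) • (⊤ : Submodule W P₂) := by
  change c₁.constr W (fun i => F₂ (ω (b₁ i))) x ∈ _
  rw [Module.Basis.constr_apply]
  apply Submodule.sum_mem
  intro i _
  exact Submodule.smul_mem _ _ (map_mem_smul_top F₂ 𝔡 (hω (b₁ i)))

lemma iterate_T_mem_smul_top (𝔡 : Ideal W) (ω : P₁ →ₗ[W] P₂)
    (hω : ∀ x, ω x ∈ 𝔡 • (⊤ : Submodule W P₂)) (n : ℕ) (x : P₁) :
    (T b₁ c₁ F₂)^[n] ω x ∈ ((Ideal.map σ)^[n] 𝔡) • (⊤ : Submodule W P₂) := by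
  induction n generalizing x with
  | zero => exact hω x
  | succ n ih =>
    rw [Function.iterate_succ_apply', Function.iterate_succ_apply']
    exact T_mem_smul_top b₁ c₁ F₂ _ _ ih x

omit [AddCommGroup P₁] [Module W P₁] [AddCommGroup P₂] [Module W P₂] in
lemma iterate_map_span (s : Set W) (n : ℕ) :
    (Ideal.map σ)^[n] (Ideal.span s) = Ideal.span (σ^[n] '' s) := by
  induction n generalizing s with
  | zero => simp
  | succ n ih =>
    rw [Function.iterate_succ_apply, Ideal.map_span, ih, Set.image_image]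
    rfl

omit [AddCommGroup P₁] [Module W P₁] [AddCommGroup P₂] [Module W P₂] in
lemma iterate_map_eq_bot (𝔡 : Ideal W) (n : ℕ) (h : ∀ d ∈ 𝔡, σ^[n] d = 0) :
    (Ideal.map σ)^[n] 𝔡 = ⊥ := by
  rw [← Ideal.span_eq 𝔡, iterate_map_span, Ideal.span_eq_bot]
  rintro _ ⟨d, hd, rfl⟩
  exact h d hd

/-- `T` is nilpotent on maps with values in `J P₂` when an iterate of `σ` kills `J`. -/
lemma iterate_T_eq_zero (J : Ideal W) (M : ℕ) (hJ : ∀ d ∈ J, σ^[M] d = 0) (ω : P₁ →ₗ[W] P₂)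
    (hω : ∀ x, ω x ∈ J • (⊤ : Submodule W P₂)) : (T b₁ c₁ F₂)^[M] ω = 0 := by
  ext x
  have h := iterate_T_mem_smul_top b₁ c₁ F₂ J ω hω M x
  rw [iterate_map_eq_bot J M hJ, Submodule.bot_smul, Submodule.mem_bot] at h
  rw [h, LinearMap.zero_apply]

variable (F₁ : P₁ →ₛₗ[σ] P₁) (hc : ∀ i, c₁ i = F₁ (b₁ i))

include hc in
/-- Fixed points of `T` are the maps commuting with the semilinear endomorphisms. -/
lemma T_eq_self_iff (α : P₁ →ₗ[W] P₂) :
    T b₁ c₁ F₂ α = α ↔ ∀ x, F₂ (α x) = α (F₁ x) := by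
  constructor
  · intro h x
    have h1 : F₂.comp α = α.comp F₁ := by
      apply b₁.ext
      intro i
      rw [LinearMap.comp_apply, LinearMap.comp_apply, ← hc, ← T_apply_basis b₁ c₁ F₂, h]
    exact LinearMap.congr_fun h1 x
  · intro h
    apply c₁.ext
    intro i
    rw [T_apply_basis, h, hc]

omit [AddCommGroup P₂] [Module W P₂] in
lemma apply_mem_of_basis_mem {P₂ : Type w} [AddCommGroup P₂] [Module W P₂]
    (ω : P₁ →ₗ[W] P₂) (N : Submodule W P₂) (h : ∀ i, ω (c₁ i) ∈ N) (x : P₁) :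
    ω x ∈ N := by
  have h1 : (⊤ : Submodule W P₁) ≤ N.comap ω := by
    rw [← c₁.span_eq, Submodule.span_le]
    rintro _ ⟨i, rfl⟩
    exact h i
  exact h1 Submodule.mem_top

variable (J 𝔠 : Ideal W) (M : ℕ)

include hc in
/-- Existence of a lift commuting with the semilinear endomorphisms. -/
theorem exists_lift (hJ : ∀ d ∈ J, σ^[M] d = 0) (h𝔠J : 𝔠 ≤ J) (h𝔠σ : ∀ x ∈ 𝔠, σ x ∈ 𝔠)
    (α₀ : P₁ →ₗ[W] P₂)
    (hα₀ : ∀ x, F₂ (α₀ x) - α₀ (F₁ x) ∈ 𝔠 • (⊤ : Submodule W P₂)) :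
    ∃ α : P₁ →ₗ[W] P₂, (∀ x, α x - α₀ x ∈ 𝔠 • (⊤ : Submodule W P₂)) ∧
      ∀ x, F₂ (α x) = α (F₁ x) := by
  have hstab : 𝔠.map σ ≤ 𝔠 := by
    rw [Ideal.map_le_iff_le_comap]
    exact fun x hx => h𝔠σ x hx
  have hTstab : ∀ ω : P₁ →ₗ[W] P₂, (∀ x, ω x ∈ 𝔠 • (⊤ : Submodule W P₂)) →
      ∀ x, T b₁ c₁ F₂ ω x ∈ 𝔠 • (⊤ : Submodule W P₂) := fun ω hω x =>
    Submodule.smul_mono_left hstab (T_mem_smul_top b₁ c₁ F₂ 𝔠 ω hω x)
  set η : P₁ →ₗ[W] P₂ := T b₁ c₁ F₂ α₀ - α₀ with hη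
  have hηmem : ∀ x, η x ∈ 𝔠 • (⊤ : Submodule W P₂) := by
    apply apply_mem_of_basis_mem c₁
    intro i
    rw [hη, LinearMap.sub_apply, T_apply_basis, hc]
    exact hα₀ (b₁ i)
  have hiter : ∀ k : ℕ, ∀ x, (T b₁ c₁ F₂)^[k] η x ∈ 𝔠 • (⊤ : Submodule W P₂) := by
    intro k
    induction k with
    | zero => exact hηmem
    | succ k ih =>
      rw [Function.iterate_succ_apply']
      exact hTstab _ ih
  have hsum : ∀ n : ℕ, (∑ k ∈ Finset.range n, (T b₁ c₁ F₂)^[k] η) -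
      T b₁ c₁ F₂ (∑ k ∈ Finset.range n, (T b₁ c₁ F₂)^[k] η) = η - (T b₁ c₁ F₂)^[n] η := by
    intro n
    induction n with
    | zero => simp
    | succ n ih =>
      rw [Finset.sum_range_succ, map_add, Function.iterate_succ_apply']
      have : ∀ a b c d : P₁ →ₗ[W] P₂, a + b - (c + d) = (a - c) + b - d := by
        intro a b c d; abel
      rw [this, ih]
      abel
  have hM : (T b₁ c₁ F₂)^[M] η = 0 :=
    iterate_T_eq_zero b₁ c₁ F₂ J M hJ η (fun x => Submodule.smul_mono_left h𝔠J (hηmem x))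
  have hω := hsum M
  rw [hM, sub_zero] at hω
  set ω : P₁ →ₗ[W] P₂ := ∑ k ∈ Finset.range M, (T b₁ c₁ F₂)^[k] η with hωdef
  refine ⟨α₀ + ω, fun x => ?_, ?_⟩
  · rw [LinearMap.add_apply, add_sub_cancel_left, hωdef, LinearMap.sum_apply]
    exact Submodule.sum_mem _ (fun k _ => hiter k x)
  · rw [← T_eq_self_iff b₁ c₁ F₂ F₁ hc, map_add]
    have h1 : T b₁ c₁ F₂ α₀ = η + α₀ := by rw [hη]; abel
    have h2 : T b₁ c₁ F₂ ω = ω - η := by rw [← hω]; abel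
    rw [h1, h2]
    abel

include hc in
/-- Uniqueness of lifts commuting with the semilinear endomorphisms. -/
theorem lift_unique (hJ : ∀ d ∈ J, σ^[M] d = 0) (α α' : P₁ →ₗ[W] P₂)
    (h : ∀ x, α x - α' x ∈ J • (⊤ : Submodule W P₂))
    (hα : ∀ x, F₂ (α x) = α (F₁ x)) (hα' : ∀ x, F₂ (α' x) = α' (F₁ x)) : α = α' := by
  have h1 : T b₁ c₁ F₂ (α - α') = α - α' := by
    rw [map_sub, (T_eq_self_iff b₁ c₁ F₂ F₁ hc α).2 hα, (T_eq_self_iff b₁ c₁ F₂ F₁ hc α').2 hα']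
  have h2 : (T b₁ c₁ F₂)^[M] (α - α') = α - α' := Function.iterate_fixed h1 M
  have h3 : (T b₁ c₁ F₂)^[M] (α - α') = 0 :=
    iterate_T_eq_zero b₁ c₁ F₂ J M hJ (α - α') (fun x => by
      rw [LinearMap.sub_apply]; exact h x)
  rw [h3] at h2
  exact sub_eq_zero.1 h2.symm

end Lin

section Witt

variable (p : ℕ) [Fact p.Prime] {S R : Type u} [CommRing S] [CommRing R] (φ : S →+* R)

lemma mem_ker_map_iff (x : WittVector p S) :
    x ∈ RingHom.ker (WittVector.map (p := p) φ) ↔ ∀ n, x.coeff n ∈ RingHom.ker φ := by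
  rw [RingHom.mem_ker, WittVector.ext_iff]
  simp only [WittVector.map_coeff, WittVector.zero_coeff, RingHom.mem_ker]

lemma frobenius_mem_ker_map (x : WittVector p S)
    (hx : x ∈ RingHom.ker (WittVector.map (p := p) φ)) :
    WittVector.frobenius x ∈ RingHom.ker (WittVector.map (p := p) φ) := by
  rw [mem_ker_map_iff] at hx ⊢
  exact fun n => coeff_frobenius_mem _ x hx n

theorem exists_iterate_frobenius_ker (hp : IsNilpotent (p : S)) (N : ℕ)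
    (hN : ∀ a : S, φ a = 0 → a ^ N = 0) :
    ∃ M : ℕ, ∀ d ∈ RingHom.ker (WittVector.map (p := p) φ),
      (⇑(WittVector.frobenius : WittVector p S →+* WittVector p S))^[M] d = 0 := by
  obtain ⟨M, hM⟩ := exists_iterate_frobenius_eq_zero (p := p) (RingHom.ker φ) N
    (fun a ha => hN a ha) hp
  exact ⟨M, fun d hd => hM d ((mem_ker_map_iff p φ d).1 hd)⟩

variable {P₁ : Type v} [AddCommGroup P₁] [Module (WittVector p S) P₁]
  {P₂ : Type w} [AddCommGroup P₂] [Module (WittVector p S) P₂]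
  {ι₁ : Type z} (b₁ : Module.Basis ι₁ (WittVector p S) P₁)
  (F₁ : P₁ →ₛₗ[(WittVector.frobenius : WittVector p S →+* WittVector p S)] P₁)
  (F₂ : P₂ →ₛₗ[(WittVector.frobenius : WittVector p S →+* WittVector p S)] P₂)

/-- S14866. -/
theorem exists_lift_witt (hp : IsNilpotent (p : S)) (N : ℕ) (hN : ∀ a : S, φ a = 0 → a ^ N = 0)
    (hF₁ : LinearIndependent (WittVector p S) (fun i => F₁ (b₁ i)) ∧
      Submodule.span (WittVector p S) (Set.range fun i => F₁ (b₁ i)) = ⊤)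
    (𝔠 : Ideal (WittVector p S)) (h𝔠 : 𝔠 ≤ RingHom.ker (WittVector.map (p := p) φ))
    (h𝔠F : ∀ x ∈ 𝔠, WittVector.frobenius x ∈ 𝔠)
    (α₀ : P₁ →ₗ[WittVector p S] P₂)
    (hα₀ : ∀ x : P₁, F₂ (α₀ x) - α₀ (F₁ x) ∈ 𝔠 • (⊤ : Submodule (WittVector p S) P₂)) :
    ∃ α : P₁ →ₗ[WittVector p S] P₂,
      (∀ x : P₁, α x - α₀ x ∈ 𝔠 • (⊤ : Submodule (WittVector p S) P₂)) ∧
        ∀ x : P₁, F₂ (α x) = α (F₁ x) := by
  obtain ⟨M, hM⟩ := exists_iterate_frobenius_ker p φ hp N hN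
  exact exists_lift b₁ (Module.Basis.mk hF₁.1 (by rw [hF₁.2])) F₂ F₁
    (fun i => by rw [Module.Basis.mk_apply]) _ 𝔠 M hM h𝔠 h𝔠F α₀ hα₀

/-- S14865. -/
theorem existsUnique_lift_witt (hp : IsNilpotent (p : S)) (N : ℕ)
    (hN : ∀ a : S, φ a = 0 → a ^ N = 0)
    (hF₁ : LinearIndependent (WittVector p S) (fun i => F₁ (b₁ i)) ∧
      Submodule.span (WittVector p S) (Set.range fun i => F₁ (b₁ i)) = ⊤)
    (α₀ : P₁ →ₗ[WittVector p S] P₂)
    (hα₀ : ∀ x : P₁, F₂ (α₀ x) - α₀ (F₁ x) ∈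
      RingHom.ker (WittVector.map (p := p) φ) • (⊤ : Submodule (WittVector p S) P₂)) :
    ∃! α : P₁ →ₗ[WittVector p S] P₂,
      (∀ x : P₁, α x - α₀ x ∈
        RingHom.ker (WittVector.map (p := p) φ) • (⊤ : Submodule (WittVector p S) P₂)) ∧
        ∀ x : P₁, F₂ (α x) = α (F₁ x) := by
  obtain ⟨M, hM⟩ := exists_iterate_frobenius_ker p φ hp N hN
  obtain ⟨α, hα1, hα2⟩ := exists_lift b₁ (Module.Basis.mk hF₁.1 (by rw [hF₁.2])) F₂ F₁
    (fun i => by rw [Module.Basis.mk_apply]) _ _ M hM le_rfl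
    (fun x hx => frobenius_mem_ker_map p φ x hx) α₀ hα₀
  refine ⟨α, ⟨hα1, hα2⟩, fun α' ⟨hα'1, hα'2⟩ => ?_⟩
  apply lift_unique b₁ (Module.Basis.mk hF₁.1 (by rw [hF₁.2])) F₂ F₁
    (fun i => by rw [Module.Basis.mk_apply]) _ M hM α' α _ hα'2 hα2
  intro x
  have : α' x - α x = (α' x - α₀ x) - (α x - α₀ x) := by abel
  rw [this]
  exact Submodule.sub_mem _ (hα'1 x) (hα1 x)

end Witt

end Groth.Agent.Lib.T2H8.Zink
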