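import Mathlib

set_option autoImplicit false
set_option linter.style.haveILetI false
set_option linter.unusedSectionVars false
universe u

namespace Groth.Agent.Lib.T2H9.ArtinSchreier

open Polynomial

section poly

variable {R : Type u} [CommRing R] [Nontrivial R] (p : ℕ)

/-- the Artin–Schreier polynomial -/
noncomputable def asPoly (ξ : R) : R[X] := X ^ p - X - C ξ

theorem asPoly_eq (ξ : R) : asPoly p ξ = X ^ p - (X + C ξ) := by
  unfold asPoly
  ring

theorem degree_lt (hp : 2 ≤ p) (ξ : R) : (X + C ξ : R[X]).degree < ((X : R[X]) ^ p).degree := by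
  rw [degree_X_pow]
  refine lt_of_le_of_lt (degree_add_le _ _) (max_lt ?_ ?_)
  · refine lt_of_le_of_lt degree_X_le ?_
    exact_mod_cast (by omega : 1 < p)
  · refine lt_of_le_of_lt degree_C_le ?_
    exact_mod_cast (by omega : 0 < p)

theorem asPoly_monic (hp : 2 ≤ p) (ξ : R) : (asPoly p ξ).Monic := by
  rw [asPoly_eq]
  exact (monic_X_pow p).sub_of_left (degree_lt p hp ξ)

theorem asPoly_natDegree (hp : 2 ≤ p) (ξ : R) : (asPoly p ξ).natDegree = p := by
  rw [asPoly_eq, natDegree_sub_eq_left_of_natDegree_lt, natDegree_X_pow]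
  rw [natDegree_X_pow]
  have := degree_lt p hp ξ
  rw [degree_X_pow] at this
  by_cases h0 : (X + C ξ : R[X]) = 0
  · rw [h0, natDegree_zero]; omega
  · exact (natDegree_lt_iff_degree_lt h0).mpr this

theorem asPoly_separable [CharP R p] (ξ : R) : (asPoly p ξ).Separable := by
  rw [separable_def]
  have hd : derivative (asPoly p ξ) = -1 := by
    unfold asPoly
    rw [derivative_sub, derivative_sub, derivative_X_pow, derivative_X, derivative_C,
      CharP.cast_eq_zero, C_0, zero_mul, zero_sub, sub_zero]
  rw [hd]
  exact isCoprime_one_right.neg_right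

theorem aeval_asPoly {S : Type u} [CommRing S] [Algebra R S] (ξ : R) (x : S) :
    aeval x (asPoly p ξ) = x ^ p - x - algebraMap R S ξ := by
  simp [asPoly]

theorem map_asPoly {S : Type u} [CommRing S] [Nontrivial S] (φ : R →+* S) (ξ : R) :
    (asPoly p ξ).map φ = asPoly p (φ ξ) := by
  simp [asPoly]

end poly

section field

variable (K : Type u) {L : Type u} [Field K] [Field L] [Algebra K L] (p : ℕ) [hp : Fact p.Prime]
  [CharP K p] (ξ : K) (z : L)

include K in
theorem charP_top : CharP L p := charP_of_injective_algebraMap (algebraMap K L).injective p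

omit [Algebra K L] [CharP K p] in
theorem natCast_pow_char [CharP L p] (i : ℕ) : ((i : L)) ^ p = i := by
  rw [← frobenius_def, map_natCast]

open Classical in
/-- the finset of roots `z + i` -/
noncomputable def rootFinset : Finset L := (Finset.range p).image (fun i : ℕ => z + (i : L))

include K in
theorem card_rootFinset : (rootFinset p z).card = p := by
  classical
  haveI : CharP L p := charP_top K p
  unfold rootFinset
  rw [Finset.card_image_of_injOn, Finset.card_range]
  intro i hi j hj hij
  have h1 : (i : L) = (j : L) := add_left_cancel hij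
  exact CharP.natCast_injOn_Iio L p (Finset.mem_range.mp hi) (Finset.mem_range.mp hj) h1

variable {K}
variable (hz : z ^ p - z = algebraMap K L ξ)

include hz

theorem root_add (i : ℕ) : (z + i) ^ p - (z + i) = algebraMap K L ξ := by
  haveI : CharP L p := charP_top K p
  rw [add_pow_char, natCast_pow_char, ← hz]
  ring

theorem isRoot_add (i : ℕ) : ((asPoly p ξ).map (algebraMap K L)).IsRoot (z + i) := by
  rw [IsRoot.def, eval_map_algebraMap, aeval_asPoly, root_add p ξ z hz i, sub_self]

theorem roots_eq : ((asPoly p ξ).map (algebraMap K L)).roots = (rootFinset p z).val := by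
  classical
  have h2 : 2 ≤ p := hp.out.two_le
  have hne : (asPoly p ξ).map (algebraMap K L) ≠ 0 :=
    ((asPoly_monic p h2 ξ).map _).ne_zero
  symm
  apply Multiset.eq_of_le_of_card_le
  · rw [Multiset.le_iff_subset (rootFinset p z).nodup]
    intro x hx
    have hx' : x ∈ rootFinset p z := hx
    unfold rootFinset at hx'
    rw [Finset.mem_image] at hx'
    obtain ⟨i, _, rfl⟩ := hx'
    rw [mem_roots hne]
    exact isRoot_add p ξ z hz i
  · calc Multiset.card ((asPoly p ξ).map (algebraMap K L)).roots
        ≤ ((asPoly p ξ).map (algebraMap K L)).natDegree := card_roots' _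
      _ = p := by rw [(asPoly_monic p h2 ξ).natDegree_map, asPoly_natDegree p h2]
      _ = Multiset.card (rootFinset p z).val := (card_rootFinset K p z).symm

theorem splits : ((asPoly p ξ).map (algebraMap K L)).Splits := by
  have h2 : 2 ≤ p := hp.out.two_le
  rw [splits_iff_card_roots, roots_eq p ξ z hz, (asPoly_monic p h2 ξ).natDegree_map,
    asPoly_natDegree p h2]
  exact card_rootFinset K p z

theorem isIntegral_z : IsIntegral K z := by
  have h2 : 2 ≤ p := hp.out.two_le
  refine ⟨asPoly p ξ, asPoly_monic p h2 ξ, ?_⟩
  rw [← aeval_def, aeval_asPoly, hz, sub_self]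

theorem isGalois (hgen : IntermediateField.adjoin K {z} = ⊤) : IsGalois K L := by
  have hint := isIntegral_z p ξ z hz
  haveI : (asPoly p ξ).IsSplittingField K L := by
    refine ⟨splits p ξ z hz, ?_⟩
    rw [eq_top_iff]
    have h1 : Algebra.adjoin K {z} = ⊤ := by
      rw [← IntermediateField.adjoin_simple_toSubalgebra_of_isAlgebraic hint.isAlgebraic, hgen]
      rfl
    rw [← h1]
    apply Algebra.adjoin_mono
    rw [Set.singleton_subset_iff, mem_rootSet]
    have h2 : 2 ≤ p := hp.out.two_le
    refine ⟨(asPoly_monic p h2 ξ).ne_zero, ?_⟩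
    rw [aeval_asPoly, hz, sub_self]
  exact IsGalois.of_separable_splitting_field (asPoly_separable p ξ)

theorem finrank_le (hgen : IntermediateField.adjoin K {z} = ⊤) : Module.finrank K L ≤ p := by
  have h2 : 2 ≤ p := hp.out.two_le
  have hint := isIntegral_z p ξ z hz
  have h1 : Module.finrank K L = (minpoly K z).natDegree := by
    rw [← IntermediateField.adjoin.finrank hint, hgen, IntermediateField.finrank_top']
  rw [h1, ← asPoly_natDegree p h2 ξ]
  apply natDegree_le_of_dvd
  · apply minpoly.dvd
    rw [aeval_asPoly, hz, sub_self]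
  · exact (asPoly_monic p h2 ξ).ne_zero

theorem finiteDimensional (hgen : IntermediateField.adjoin K {z} = ⊤) :
    FiniteDimensional K L := by
  have hint := isIntegral_z p ξ z hz
  haveI : FiniteDimensional K (IntermediateField.adjoin K {z}) :=
    IntermediateField.adjoin.finiteDimensional hint
  haveI : FiniteDimensional K (⊤ : IntermediateField K L) := hgen ▸ inferInstance
  exact (IntermediateField.topEquiv : (⊤ : IntermediateField K L) ≃ₐ[K] L).toLinearEquiv.finiteDimensional

omit hz [CharP K p] hp in
theorem adjoin_sub (c : K) (hgen : IntermediateField.adjoin K {z} = ⊤) :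
    IntermediateField.adjoin K {z - algebraMap K L c} = ⊤ := by
  rw [eq_top_iff, ← hgen, IntermediateField.adjoin_simple_le_iff]
  have h1 : z = (z - algebraMap K L c) + algebraMap K L c := by ring
  have h2 : (z - algebraMap K L c) + algebraMap K L c ∈
      IntermediateField.adjoin K {z - algebraMap K L c} :=
    add_mem (IntermediateField.mem_adjoin_simple_self K _)
      (IntermediateField.algebraMap_mem _ c)
  rwa [← h1] at h2

theorem shift_eq (c : K) :
    (z - algebraMap K L c) ^ p - (z - algebraMap K L c) =
      algebraMap K L (ξ - (c ^ p - c)) := by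
  haveI : CharP L p := charP_top K p
  rw [sub_pow_char, map_sub, map_sub, map_pow, ← hz]
  ring

omit hz in
theorem sum_eq_of_forall_mem (s : Multiset L) (hs : ∀ x ∈ s, ∃ i : ℕ, x = z + (i : L)) :
    ∃ n : ℕ, s.sum = Multiset.card s • z + (n : L) := by
  induction s using Multiset.induction with
  | empty => exact ⟨0, by simp⟩
  | cons a s ih =>
    obtain ⟨n, hn⟩ := ih (fun x hx => hs x (Multiset.mem_cons_of_mem hx))
    obtain ⟨i, hi⟩ := hs a (Multiset.mem_cons_self a s)
    refine ⟨i + n, ?_⟩
    rw [Multiset.sum_cons, Multiset.card_cons, hn, hi, succ_nsmul, Nat.cast_add]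
    ring

theorem finrank_eq_one_or (hgen : IntermediateField.adjoin K {z} = ⊤) :
    Module.finrank K L = 1 ∨ Module.finrank K L = p := by
  classical
  have h2 : 2 ≤ p := hp.out.two_le
  haveI : CharP L p := charP_top K p
  have hint := isIntegral_z p ξ z hz
  have h1 : Module.finrank K L = (minpoly K z).natDegree := by
    rw [← IntermediateField.adjoin.finrank hint, hgen, IntermediateField.finrank_top']
  have hle := finrank_le p ξ z hz hgen
  have hdvd : minpoly K z ∣ asPoly p ξ := by
    apply minpoly.dvd
    rw [aeval_asPoly, hz, sub_self]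
  have hne : (asPoly p ξ).map (algebraMap K L) ≠ 0 := ((asPoly_monic p h2 ξ).map _).ne_zero
  have hdvd' : (minpoly K z).map (algebraMap K L) ∣ (asPoly p ξ).map (algebraMap K L) :=
    Polynomial.map_dvd _ hdvd
  have hsplit : ((minpoly K z).map (algebraMap K L)).Splits :=
    (splits p ξ z hz).of_dvd hne hdvd'
  have hmonic : ((minpoly K z).map (algebraMap K L)).Monic := (minpoly.monic hint).map _
  have hroots : ∀ x ∈ ((minpoly K z).map (algebraMap K L)).roots, ∃ i : ℕ, x = z + (i : L) := by
    intro x hx
    have hx' := Multiset.mem_of_le (roots.le_of_dvd hne hdvd') hx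
    rw [roots_eq p ξ z hz] at hx'
    have hx'' : x ∈ rootFinset p z := hx'
    unfold rootFinset at hx''
    rw [Finset.mem_image] at hx''
    obtain ⟨i, _, rfl⟩ := hx''
    exact ⟨i, rfl⟩
  obtain ⟨n, hn⟩ := sum_eq_of_forall_mem z _ hroots
  have hcard : Multiset.card ((minpoly K z).map (algebraMap K L)).roots =
      (minpoly K z).natDegree := by
    rw [splits_iff_card_roots.mp hsplit, (minpoly.monic hint).natDegree_map]
  have hnext := hsplit.nextCoeff_eq_neg_sum_roots_of_monic hmonic
  rw [nextCoeff_map (algebraMap K L).injective, hn, hcard, ← h1] at hnext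
  by_cases hd : ((Module.finrank K L : ℕ) : L) = 0
  · right
    have hdvdp : p ∣ Module.finrank K L := (CharP.cast_eq_zero_iff L p _).mp hd
    have hpos : 0 < Module.finrank K L := by
      rw [h1]
      exact minpoly.natDegree_pos hint
    exact le_antisymm hle (Nat.le_of_dvd hpos hdvdp)
  · left
    rw [h1, minpoly.natDegree_eq_one_iff]
    refine ⟨-((Module.finrank K L : ℕ) : K)⁻¹ * ((minpoly K z).nextCoeff + (n : K)), ?_⟩
    have hd' : ((Module.finrank K L : ℕ) : K) ≠ 0 := by
      intro h
      apply hd
      have := congrArg (algebraMap K L) h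
      rwa [map_natCast, map_zero] at this
    rw [map_mul, map_neg, map_inv₀, map_add, map_natCast, map_natCast, hnext, nsmul_eq_mul]
    field_simp
    ring

end field

end Groth.Agent.Lib.T2H9.ArtinSchreier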