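import Mathlib
import Groth.Prelude.Def_EtRam
import Groth.Agent.Lib.T2H9TotRam
import Groth.Agent.Lib.Helper24DvrEF

set_option autoImplicit false
set_option linter.style.haveILetI false
set_option linter.unusedSectionVars false
universe u

namespace Groth.Agent.Lib.T2H9.EFUnique

open IsLocalRing Groth.Agent.Lib.T2H9.RamTower Groth.Agent.Lib.T2H9.TotRam

section Core
variable {A B : Type u} [CommRing A] [IsDomain A] [IsDiscreteValuationRing A]
  [CommRing B] [IsDomain B] [IsDiscreteValuationRing B] [Algebra A B]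
  [IsLocalHom (algebraMap A B)]
  {πA : A} {πB : B} (hπA : Irreducible πA) (hπB : Irreducible πB) {e : ℕ} {u : Bˣ}
  (hu : algebraMap A B πA = ↑u * πB ^ e)

include hπA hπB hu

/-- a combination of the standard elements divisible by the uniformizer of the base has all
its coefficients in the maximal ideal -/
theorem key_mod {ι : Type u} [Fintype ι] (b : ι → B)
    (hb : LinearIndependent (ResidueField A) (fun i => residue B (b i)))
    (g : ι × Fin e → A)
    (hg : πB ^ e ∣ ∑ k, algebraMap A B (g k) * (πB ^ (k.2 : ℕ) * b k.1)) :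
    ∀ k, g k ∈ maximalIdeal A := by
  classical
  by_contra hne
  push Not at hne
  obtain ⟨⟨i1, j1⟩, hk1⟩ := hne
  have hex : ∃ j : ℕ, ∃ (hj : j < e) (i : ι), g (i, ⟨j, hj⟩) ∉ maximalIdeal A :=
    ⟨j1.1, j1.2, i1, hk1⟩
  obtain ⟨j0, ⟨hj0, i0, hi0⟩, hminP⟩ : ∃ j0, (∃ (hj : j0 < e) (i : ι),
      g (i, ⟨j0, hj⟩) ∉ maximalIdeal A) ∧ ∀ j < j0, ¬ (∃ (hj : j < e) (i : ι),
      g (i, ⟨j, hj⟩) ∉ maximalIdeal A) :=
    ⟨Nat.find hex, Nat.find_spec hex, fun j hj => Nat.find_min hex hj⟩
  have hmin : ∀ j, j < j0 → ∀ (hj : j < e) (i : ι), g (i, ⟨j, hj⟩) ∈ maximalIdeal A := by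
    intro j hjlt hj i
    by_contra hcon
    exact hminP j hjlt ⟨hj, i, hcon⟩
  obtain ⟨J0, hJ0⟩ : ∃ J0 : Fin e, J0 = ⟨j0, hj0⟩ := ⟨_, rfl⟩
  have hJ0v : (J0 : ℕ) = j0 := by rw [hJ0]
  rw [Fintype.sum_prod_type_right] at hg
  have hdvd_other : ∀ j : Fin e, j ≠ J0 →
      πB ^ (j0 + 1) ∣ ∑ i, algebraMap A B (g (i, j)) * (πB ^ (j : ℕ) * b i) := by
    intro j hjne
    apply Finset.dvd_sum
    intro i _
    have hjne' : (j : ℕ) ≠ j0 := fun h => hjne (Fin.ext (h.trans hJ0v.symm))
    rcases lt_or_gt_of_ne hjne' with hlt | hgt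
    · have hm := hmin j hlt j.2 i
      rw [hπA.maximalIdeal_eq, Ideal.mem_span_singleton] at hm
      have h1 : algebraMap A B πA ∣ algebraMap A B (g (i, j)) := map_dvd _ hm
      have h2 : πB ^ (j0 + 1) ∣ algebraMap A B πA := by
        rw [hu]
        exact dvd_mul_of_dvd_right (pow_dvd_pow _ (by omega)) _
      exact dvd_mul_of_dvd_left (h2.trans h1) _
    · exact dvd_mul_of_dvd_right (dvd_mul_of_dvd_left (pow_dvd_pow _ (by omega)) _) _
  have hsum0 : (∑ i, algebraMap A B (g (i, J0)) * (πB ^ (J0 : ℕ) * b i)) +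
      ∑ j ∈ Finset.univ.erase J0, ∑ i, algebraMap A B (g (i, j)) * (πB ^ (j : ℕ) * b i) =
      ∑ j, ∑ i, algebraMap A B (g (i, j)) * (πB ^ (j : ℕ) * b i) :=
    Finset.add_sum_erase Finset.univ
      (fun j : Fin e => ∑ i, algebraMap A B (g (i, j)) * (πB ^ (j : ℕ) * b i))
      (Finset.mem_univ J0)
  have hdvd0 : πB ^ (j0 + 1) ∣ ∑ i, algebraMap A B (g (i, J0)) * (πB ^ (J0 : ℕ) * b i) := by
    have h1 : πB ^ (j0 + 1) ∣ ∑ j, ∑ i, algebraMap A B (g (i, j)) * (πB ^ (j : ℕ) * b i) :=
      (pow_dvd_pow _ (by omega)).trans hg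
    have h2 : πB ^ (j0 + 1) ∣
        ∑ j ∈ Finset.univ.erase J0, ∑ i, algebraMap A B (g (i, j)) * (πB ^ (j : ℕ) * b i) :=
      Finset.dvd_sum (fun j hj => hdvd_other j (Finset.ne_of_mem_erase hj))
    rw [← hsum0] at h1
    exact (dvd_add_left h2).mp h1
  have hfac : ∑ i, algebraMap A B (g (i, J0)) * (πB ^ (J0 : ℕ) * b i) =
      πB ^ j0 * ∑ i, algebraMap A B (g (i, J0)) * b i := by
    rw [Finset.mul_sum, hJ0v]
    refine Finset.sum_congr rfl (fun i _ => ?_)
    ring
  rw [hfac, pow_succ, mul_dvd_mul_iff_left (pow_ne_zero _ hπB.ne_zero)] at hdvd0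
  have hS : residue B (∑ i, algebraMap A B (g (i, J0)) * b i) = 0 := by
    rw [residue_eq_zero_iff, hπB.maximalIdeal_eq, Ideal.mem_span_singleton]; exact hdvd0
  rw [map_sum] at hS
  have hS' : ∑ i, (residue A (g (i, J0))) • residue B (b i) = 0 := by
    rw [← hS]
    refine Finset.sum_congr rfl (fun i _ => ?_)
    rw [map_mul, Algebra.smul_def, IsLocalRing.ResidueField.algebraMap_residue]
  have h0 := Fintype.linearIndependent_iff.mp hb (fun i => residue A (g (i, J0))) hS' i0
  rw [residue_eq_zero_iff] at h0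
  apply hi0
  rw [hJ0] at h0
  exact h0

end Core

section finite

variable (A B K L : Type u) [CommRing A] [IsDomain A] [IsDiscreteValuationRing A]
  [CommRing B] [IsDomain B] [IsDiscreteValuationRing B] [Algebra A B] [IsLocalHom (algebraMap A B)]
  [Field K] [Field L] [Algebra A K] [IsFractionRing A K] [Algebra B L] [IsFractionRing B L]
  [Algebra K L] [Algebra A L] [IsScalarTower A K L] [IsScalarTower A B L] [FiniteDimensional K L]

open Groth.Agent.Lib.Helper24DvrEF in
/-- if `e * f` equals the degree of the extension of fraction fields then the upper discrete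
valuation ring is a finite module over the lower one -/
theorem finite_of_ef_eq (hinj : Function.Injective (algebraMap A B))
    {πA : A} {πB : B} (hπA : Irreducible πA) (hπB : Irreducible πB) {e : ℕ} {u : Bˣ}
    (hu : algebraMap A B πA = ↑u * πB ^ e)
    (hef : e * Module.finrank (ResidueField A) (ResidueField B) = Module.finrank K L) :
    Module.Finite A B := by
  classical
  obtain ⟨hresfin, _⟩ := s7132 A B K L hinj
  haveI := hresfin
  let bb := (Module.finBasis (ResidueField A) (ResidueField B)).reindex (Equiv.ulift.{u}.symm)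
  choose b hb using fun i => residue_surjective (R := B) (bb i)
  have hbli : LinearIndependent (ResidueField A) (fun i => residue B (b i)) := by
    have : (fun i => residue B (b i)) = bb := funext hb
    rw [this]
    exact bb.linearIndependent
  have hTli := linInd hπA hπB hu hinj b hbli
  have hTL : LinearIndependent K (fun k : ULift.{u} (Fin (Module.finrank (ResidueField A)
      (ResidueField B))) × Fin e => algebraMap B L (πB ^ (k.2 : ℕ) * b k.1)) := by
    have h1 := hTli.map' (IsScalarTower.toAlgHom A B L).toLinearMap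
      (LinearMap.ker_eq_bot.mpr (IsFractionRing.injective B L))
    exact (LinearIndependent.iff_fractionRing A K).mp h1
  have hcard : Fintype.card (ULift.{u} (Fin (Module.finrank (ResidueField A)
      (ResidueField B))) × Fin e) = Module.finrank K L := by
    rw [Fintype.card_prod, Fintype.card_ulift, Fintype.card_fin, Fintype.card_fin, mul_comm, hef]
  haveI : Nonempty (ULift.{u} (Fin (Module.finrank (ResidueField A)
      (ResidueField B))) × Fin e) := by
    rw [← Fintype.card_pos_iff, hcard]
    exact Module.finrank_pos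
  let bas := basisOfLinearIndependentOfCardEqFinrank hTL hcard
  have hbas : ∀ k, bas k = algebraMap B L (πB ^ (k.2 : ℕ) * b k.1) := fun k => by
    rw [coe_basisOfLinearIndependentOfCardEqFinrank]
  have hfπ : algebraMap A B πA ≠ 0 := fun h => hπA.ne_zero (hinj (h.trans (map_zero _).symm))
  set F : Submodule A B := Submodule.span A (Set.range (fun k : ULift.{u} (Fin (Module.finrank
      (ResidueField A) (ResidueField B))) × Fin e => πB ^ (k.2 : ℕ) * b k.1)) with hF
  -- claim 2 : clearing denominators
  have hclaim2 : ∀ x : B, ∃ m : ℕ, πA ^ m • x ∈ F := by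
    intro x
    obtain ⟨d, hd⟩ := IsLocalization.exist_integer_multiples_of_finset (nonZeroDivisors A)
      (Finset.univ.image (fun k => bas.repr (algebraMap B L x) k))
    have hd' : ∀ k, ∃ a : A, algebraMap A K a = (d : A) • bas.repr (algebraMap B L x) k := by
      intro k
      exact hd _ (Finset.mem_image_of_mem _ (Finset.mem_univ k))
    choose a ha using hd'
    have hdx : (d : A) • x = ∑ k, a k • (πB ^ (k.2 : ℕ) * b k.1) := by
      apply IsFractionRing.injective B L
      rw [map_sum]
      have h1 : algebraMap B L ((d : A) • x) = (d : A) • algebraMap B L x := by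
        rw [Algebra.smul_def, Algebra.smul_def, map_mul, ← IsScalarTower.algebraMap_apply]
      rw [h1]
      conv_lhs => rw [← bas.sum_repr (algebraMap B L x)]
      rw [Finset.smul_sum]
      refine Finset.sum_congr rfl (fun k _ => ?_)
      rw [hbas, ← smul_assoc, ← ha k, algebraMap_smul]
      exact ((IsScalarTower.toAlgHom A B L).toLinearMap.map_smul (a k) _).symm
    have hd0 : (d : A) ≠ 0 := nonZeroDivisors.ne_zero d.2
    obtain ⟨m, v, hv⟩ := IsDiscreteValuationRing.eq_unit_mul_pow_irreducible hd0 hπA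
    refine ⟨m, ?_⟩
    have h2 : πA ^ m • x = ((v⁻¹ : Aˣ) : A) • ((d : A) • x) := by
      rw [smul_smul, hv, ← mul_assoc, Units.inv_mul, one_mul]
    rw [h2, hdx]
    apply Submodule.smul_mem
    apply Submodule.sum_mem
    intro k _
    exact Submodule.smul_mem _ _ (Submodule.subset_span ⟨k, rfl⟩)
  -- claim 1 : divisibility
  have hclaim1 : ∀ y ∈ F, algebraMap A B πA ∣ y → ∃ y' ∈ F, y = πA • y' := by
    intro y hy hdvd
    rw [hF, Submodule.mem_span_range_iff_exists_fun] at hy
    obtain ⟨g, rfl⟩ := hy
    have hdvd' : πB ^ e ∣ ∑ k, algebraMap A B (g k) * (πB ^ (k.2 : ℕ) * b k.1) := by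
      have h1 : πB ^ e ∣ algebraMap A B πA := by
        rw [hu]
        exact dvd_mul_left _ _
      refine h1.trans ?_
      convert hdvd using 2
      rw [Algebra.smul_def]
    have hk := key_mod hπA hπB hu b hbli g hdvd'
    have hk' : ∀ k, ∃ g' : A, g k = πA * g' := by
      intro k
      have := hk k
      rw [hπA.maximalIdeal_eq, Ideal.mem_span_singleton] at this
      exact this
    choose g' hg' using hk'
    refine ⟨∑ k, g' k • (πB ^ (k.2 : ℕ) * b k.1), ?_, ?_⟩
    · apply Submodule.sum_mem
      intro k _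
      exact Submodule.smul_mem _ _ (Submodule.subset_span ⟨k, rfl⟩)
    · rw [Finset.smul_sum]
      refine Finset.sum_congr rfl (fun k _ => ?_)
      rw [smul_smul, ← hg' k]
  have hmain : ∀ m : ℕ, ∀ x : B, πA ^ m • x ∈ F → x ∈ F := by
    intro m
    induction m with
    | zero => intro x hx; simpa using hx
    | succ m ih =>
      intro x hx
      apply ih
      have h1 : πA ^ (m + 1) • x = πA • (πA ^ m • x) := by rw [smul_smul, pow_succ']
      rw [h1] at hx
      obtain ⟨y', hy', hyy'⟩ := hclaim1 _ hx ⟨πA ^ m • x, by rw [Algebra.smul_def]⟩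
      have h2 : πA ^ m • x = y' := by
        have h3 : algebraMap A B πA * (πA ^ m • x) = algebraMap A B πA * y' := by
          rw [← Algebra.smul_def, ← Algebra.smul_def]
          exact hyy'
        exact mul_left_cancel₀ hfπ h3
      rw [h2]
      exact hy'
  have htop : F = ⊤ := by
    rw [eq_top_iff]
    intro x _
    obtain ⟨m, hm⟩ := hclaim2 x
    exact hmain m x hm
  rw [Module.finite_def, ← htop]
  exact Submodule.fg_span (Set.finite_range _)

end finite

section unique

variable (A K L : Type u) [CommRing A] [IsDomain A] [IsDiscreteValuationRing A]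
  [Field K] [Field L] [Algebra A K] [IsFractionRing A K] [Algebra K L] [Algebra A L]
  [IsScalarTower A K L] [FiniteDimensional K L]

/-- a valuation ring above `A` with `e * f = [L : K]` is the only one dominating `A`, and it
is a finite `A`-module -/
theorem unique_of_ef_eq (V : ValuationSubring L) [IsDiscreteValuationRing V] [Algebra A V]
    [IsLocalHom (algebraMap A V)] (hAV : ∀ a, ((algebraMap A V a : V) : L) = algebraMap A L a)
    {πA : A} (hπA : Irreducible πA) {ω : V} (hω : Irreducible ω) {e : ℕ} {u : Vˣ}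
    (hu : algebraMap A V πA = ↑u * ω ^ e)
    (hef : e * Module.finrank (ResidueField A) (ResidueField V) = Module.finrank K L) :
    Module.Finite A V ∧
      ∀ V' : ValuationSubring L, EtRam.Dominates A (algebraMap A L) V' → V' = V := by
  haveI : IsScalarTower A V L := IsScalarTower.of_algebraMap_eq (fun a => (hAV a).symm)
  have hinjAL : Function.Injective (algebraMap A L) := by
    rw [IsScalarTower.algebraMap_eq A K L]
    exact (algebraMap K L).injective.comp (IsFractionRing.injective A K)
  have hinj : Function.Injective (algebraMap A V) := by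
    intro a b hab
    apply hinjAL
    rw [← hAV, ← hAV, hab]
  haveI hfin : Module.Finite A V := finite_of_ef_eq A V K L hinj hπA hω hu hef
  refine ⟨hfin, ?_⟩
  haveI : Algebra.IsIntegral A V := Algebra.IsIntegral.of_finite A V
  have hV0 : V0 V L = V := by
    ext x
    constructor
    · rintro ⟨b, rfl⟩
      exact b.2
    · intro hx
      exact ⟨⟨x, hx⟩, rfl⟩
  intro V' hV'
  have hV'' : EtRam.Dominates A ((algebraMap V L).comp (algebraMap A V)) V' := by
    refine (dominates_congr (fun a => ?_) V').mp hV'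
    exact hAV a
  rw [eq_V0_of_dominates L hinj V' hV'', hV0]

end unique

end Groth.Agent.Lib.T2H9.EFUnique
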