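import Mathlib
import Groth.Prelude.Def_EtRam
import Groth.Agent.Lib.T2H9TotRamDeg
import Groth.Agent.Lib.T2H9EFUnique

set_option autoImplicit false
set_option linter.style.haveILetI false
set_option linter.unusedSectionVars false
universe u

namespace Groth.Agent.Lib.T2H9.DvrData

open IsLocalRing Groth.Agent.Lib.T2H9.RamTower Groth.Agent.Lib.T2H9.TotRam
  Groth.Agent.Lib.T2H9.ValDom Groth.Agent.Lib.T2H9.TotRamDeg Groth.Agent.Lib.T2H9.EFUnique

section data

variable (A K L : Type u) [CommRing A] [IsDomain A] [IsDiscreteValuationRing A]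
  [Field K] [Algebra A K] [IsFractionRing A K] [Field L] [Algebra K L] [Algebra A L]
  [IsScalarTower A K L] [FiniteDimensional K L]

include K in
theorem algebraMap_injective : Function.Injective (algebraMap A L) := by
  rw [IsScalarTower.algebraMap_eq A K L]
  exact (algebraMap K L).injective.comp (IsFractionRing.injective A K)

include K in
/-- some valuation subring dominates `A` -/
theorem exists_dominates : ∃ V : ValuationSubring L, EtRam.Dominates A (algebraMap A L) V := by
  obtain ⟨V, hV⟩ := exists_comap_eq (algebraMap K L) (V0 A K)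
  refine ⟨V, ?_⟩
  have h1 : EtRam.Dominates A ((algebraMap K L).comp (algebraMap A K)) V := by
    rw [← dominates_comap_iff, hV]
    exact dominates_V0_self A K
  rwa [← IsScalarTower.algebraMap_eq A K L] at h1

/-- the numerical data of a discrete valuation ring dominating `A` -/
theorem ef_data (π : A) (hπ : Irreducible π) (V : ValuationSubring L)
    (h : EtRam.Dominates A (algebraMap A L) V) [IsDiscreteValuationRing V] :
    letI : Algebra A V := (RingHom.codRestrict (algebraMap A L) V h.1).toAlgebra
    ∀ [IsLocalHom (algebraMap A V)], ∃ (ω : V) (u : Vˣ) (e : ℕ), Irreducible ω ∧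
      algebraMap A V π = ↑u * ω ^ e ∧ 0 < e ∧
      Module.Finite (ResidueField A) (ResidueField V) ∧
      0 < Module.finrank (ResidueField A) (ResidueField V) ∧
      e * Module.finrank (ResidueField A) (ResidueField V) ≤ Module.finrank K L := by
  letI : Algebra A V := (RingHom.codRestrict (algebraMap A L) V h.1).toAlgebra
  intro _
  haveI : IsScalarTower A V L := IsScalarTower.of_algebraMap_eq (fun _ => rfl)
  have hinjL := algebraMap_injective A K L
  have hinj : Function.Injective (algebraMap A V) := fun a b hab =>
    hinjL (congrArg Subtype.val hab)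
  obtain ⟨hfin, hef⟩ := Groth.Agent.Lib.Helper24DvrEF.s7132 A V K L hinj
  haveI := hfin
  obtain ⟨ω, hω⟩ := IsDiscreteValuationRing.exists_irreducible V
  have hπ0 : algebraMap A V π ≠ 0 := fun h0 => hπ.ne_zero (hinj (h0.trans (map_zero _).symm))
  obtain ⟨e, u, hu⟩ := IsDiscreteValuationRing.eq_unit_mul_pow_irreducible hπ0 hω
  have hmap : (maximalIdeal A).map (algebraMap A V) = Ideal.span {algebraMap A V π} := by
    rw [hπ.maximalIdeal_eq, Ideal.map_span, Set.image_singleton]
  have hram := ramificationIdx'_eq_of_span _ hmap ω hω u e hu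
  rw [hram] at hef
  have he : 0 < e := by
    rcases Nat.eq_zero_or_pos e with h0 | h0
    · exfalso
      rw [h0, pow_zero, mul_one] at hu
      have : IsUnit (algebraMap A V π) := hu ▸ u.isUnit
      exact hπ.not_isUnit (isUnit_of_map_unit (algebraMap A V) π this)
    · exact h0
  exact ⟨ω, u, e, hω, hu, he, hfin, Module.finrank_pos, hef⟩

theorem weaklyUnramified_of_e_eq_one (π : A) (hπ : Irreducible π) (V : ValuationSubring L)
    (h : EtRam.Dominates A (algebraMap A L) V) [IsDiscreteValuationRing V] :
    letI : Algebra A V := (RingHom.codRestrict (algebraMap A L) V h.1).toAlgebra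
    ∀ (ω : V) (u : Vˣ), Irreducible ω → algebraMap A V π = ↑u * ω ^ 1 →
      EtRam.IsWeaklyUnramified A V := by
  letI : Algebra A V := (RingHom.codRestrict (algebraMap A L) V h.1).toAlgebra
  intro ω u hω hu
  have hmap : (maximalIdeal A).map (algebraMap A V) = Ideal.span {algebraMap A V π} := by
    rw [hπ.maximalIdeal_eq, Ideal.map_span, Set.image_singleton]
  unfold EtRam.IsWeaklyUnramified
  rw [hmap, hu, pow_one, hω.maximalIdeal_eq]
  exact Ideal.span_singleton_eq_span_singleton.mpr (associated_unit_mul_left _ _ u.isUnit)

theorem unique_of_ef (π : A) (hπ : Irreducible π) (V : ValuationSubring L)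
    (h : EtRam.Dominates A (algebraMap A L) V) [IsDiscreteValuationRing V] :
    letI : Algebra A V := (RingHom.codRestrict (algebraMap A L) V h.1).toAlgebra
    ∀ [IsLocalHom (algebraMap A V)] (ω : V) (u : Vˣ) (e : ℕ), Irreducible ω →
      algebraMap A V π = ↑u * ω ^ e →
      e * Module.finrank (ResidueField A) (ResidueField V) = Module.finrank K L →
      ∀ V' : ValuationSubring L, EtRam.Dominates A (algebraMap A L) V' → V' = V := by
  letI : Algebra A V := (RingHom.codRestrict (algebraMap A L) V h.1).toAlgebra
  intro _ ω u e hω hu hef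
  exact (unique_of_ef_eq A K L V (fun _ => rfl) hπ hω hu hef).2

theorem residue_surjective_of_f_eq_one (V : ValuationSubring L)
    (h : EtRam.Dominates A (algebraMap A L) V) :
    letI : Algebra A V := (RingHom.codRestrict (algebraMap A L) V h.1).toAlgebra
    ∀ [IsLocalHom (algebraMap A V)],
      Module.finrank (ResidueField A) (ResidueField V) = 1 →
      Function.Surjective
        (fun a : A => residue V (RingHom.codRestrict (algebraMap A L) V h.1 a)) := by
  letI : Algebra A V := (RingHom.codRestrict (algebraMap A L) V h.1).toAlgebra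
  intro _ hf r
  have h1 := Subalgebra.bot_eq_top_of_finrank_eq_one hf
  have h2 : r ∈ (⊥ : Subalgebra (ResidueField A) (ResidueField V)) := by
    rw [h1]
    exact Algebra.mem_top
  obtain ⟨c, rfl⟩ := Algebra.mem_bot.mp h2
  obtain ⟨a, rfl⟩ := residue_surjective c
  exact ⟨a, rfl⟩

end data

end Groth.Agent.Lib.T2H9.DvrData
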