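import Mathlib
import Groth.Prelude.Def_EtRam
import Groth.Agent.Lib.T2H9DvrData
import Groth.Agent.Lib.T2H9ValGen
import Groth.Agent.Lib.T2H9RedArt

set_option autoImplicit false
set_option linter.style.haveILetI false
set_option linter.unusedSectionVars false
universe u

namespace Groth.Agent.Lib.T2H9.UnramLocal

open IsLocalRing Polynomial Groth.Agent.Lib.T2H9.RamTower Groth.Agent.Lib.T2H9.TotRam
  Groth.Agent.Lib.T2H9.ValDom Groth.Agent.Lib.T2H9.DvrData Groth.Agent.Lib.T2H9.ValGen
  Groth.Agent.Lib.T2H9.RedArt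

section quotient

variable {A : Type u} [CommRing A] [IsDomain A] [IsDiscreteValuationRing A]
  {L : Type u} [Field L] [Algebra A L]

/-- the quotient of `A[z]` by a uniformizer of `A` is reduced and artinian when `z` is a root
of a monic polynomial with separable reduction -/
theorem quotient_reducedArtinian (π : A) (hπ : Irreducible π) (z : L) (f : A[X]) (hf : f.Monic)
    (hfz : aeval z f = 0) (hsep : (f.map (residue A)).Separable) :
    IsArtinianRing (Algebra.adjoin A {z} ⧸
        Ideal.span {algebraMap A (Algebra.adjoin A {z}) π}) ∧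
      IsReduced (Algebra.adjoin A {z} ⧸ Ideal.span {algebraMap A (Algebra.adjoin A {z}) π}) := by
  set R := Algebra.adjoin A {z} with hR
  set t : R := algebraMap A R π with ht
  let zR : R := ⟨z, Algebra.self_mem_adjoin_singleton A z⟩
  -- the map from the residue field
  let φ₀ : ResidueField A →+* R ⧸ Ideal.span {t} :=
    Ideal.Quotient.lift (maximalIdeal A) ((Ideal.Quotient.mk _).comp (algebraMap A R)) (by
      intro x hx
      rw [hπ.maximalIdeal_eq, Ideal.mem_span_singleton] at hx
      obtain ⟨c, rfl⟩ := hx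
      rw [RingHom.comp_apply, Ideal.Quotient.eq_zero_iff_mem, map_mul]
      exact Ideal.mul_mem_right _ _ (Ideal.mem_span_singleton_self t))
  have hφ₀ : ∀ x : A, φ₀ (residue A x) = Ideal.Quotient.mk _ (algebraMap A R x) := fun x => rfl
  have hzR : aeval zR f = 0 := by
    apply Subtype.ext
    rw [← Subalgebra.aeval_coe]
    exact hfz
  have heval : ∀ q : A[X], eval₂ φ₀ (Ideal.Quotient.mk (Ideal.span {t}) zR) (q.map (residue A)) =
      Ideal.Quotient.mk _ (aeval zR q) := by
    intro q
    rw [eval₂_map, aeval_def, hom_eval₂]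
    rfl
  have hroot : eval₂ φ₀ (Ideal.Quotient.mk (Ideal.span {t}) zR) (f.map (residue A)) = 0 := by
    rw [heval, hzR, map_zero]
  let φ : AdjoinRoot (f.map (residue A)) →+* R ⧸ Ideal.span {t} := AdjoinRoot.lift φ₀ _ hroot
  have hφsurj : Function.Surjective φ := by
    intro r
    obtain ⟨y, rfl⟩ := Ideal.Quotient.mk_surjective r
    have hy : (y : L) ∈ (aeval z : A[X] →ₐ[A] L).range := by
      rw [← Algebra.adjoin_singleton_eq_range_aeval]
      exact y.2
    obtain ⟨q, hq⟩ := hy
    refine ⟨AdjoinRoot.mk _ (q.map (residue A)), ?_⟩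
    rw [AdjoinRoot.lift_mk, heval]
    congr 1
    apply Subtype.ext
    rw [← Subalgebra.aeval_coe]
    exact hq
  haveI : Module.Finite (ResidueField A) (AdjoinRoot (f.map (residue A))) :=
    (hf.map (residue A)).finite_adjoinRoot
  haveI : IsArtinianRing (AdjoinRoot (f.map (residue A))) :=
    IsArtinianRing.of_finite (ResidueField A) _
  haveI : IsReduced (AdjoinRoot (f.map (residue A))) :=
    (Ideal.isRadical_iff_quotient_reduced _).mp
      (isRadical_iff_span_singleton.mp hsep.squarefree.isRadical)
  exact of_surjective φ hφsurj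

end quotient

section main

variable (A K L : Type u) [CommRing A] [IsDomain A] [IsDiscreteValuationRing A]
  [Field K] [Algebra A K] [IsFractionRing A K] [Field L] [Algebra K L] [Algebra A L]
  [IsScalarTower A K L]

/-- every element of `K[z]` is a quotient of elements of `A[z]` -/
theorem fraction_of_adjoin (z : L) (htop : Algebra.adjoin K {z} = ⊤) (x : L) :
    ∃ y ∈ Algebra.adjoin A {z}, ∃ y' ∈ Algebra.adjoin A {z}, y' ≠ 0 ∧ x * y' = y := by
  have hinjAL : Function.Injective (algebraMap A L) := by
    rw [IsScalarTower.algebraMap_eq A K L]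
    exact (algebraMap K L).injective.comp (IsFractionRing.injective A K)
  have hx : x ∈ Algebra.adjoin K {z} := by rw [htop]; exact Algebra.mem_top
  rw [Algebra.adjoin_singleton_eq_range_aeval] at hx
  obtain ⟨q, rfl⟩ := hx
  obtain ⟨b, hb, hspec⟩ := IsLocalization.integerNormalization_spec (nonZeroDivisors A) q
  set P := IsLocalization.integerNormalization (nonZeroDivisors A) q
  have hP : aeval z P ∈ Algebra.adjoin A {z} := by
    rw [Algebra.adjoin_singleton_eq_range_aeval]
    exact ⟨_, rfl⟩
  have hb0 : algebraMap A L b ≠ 0 := by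
    intro h
    rw [← map_zero (algebraMap A L)] at h
    exact nonZeroDivisors.ne_zero hb (hinjAL h)
  refine ⟨aeval z P, hP, algebraMap A L b, Subalgebra.algebraMap_mem _ b, hb0, ?_⟩
  have := congrArg (aeval z) hspec
  rw [aeval_map_algebraMap, ← algebraMap_smul K b q, map_smul, Algebra.smul_def,
    ← IsScalarTower.algebraMap_apply] at this
  rw [this]
  exact mul_comm _ _

/-- the local structure of a valuation ring above `A` when the generator of the extension has
separable reduction -/
theorem unramified_local (π : A) (hπ : Irreducible π) (z : L) (htop : Algebra.adjoin K {z} = ⊤)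
    (f : A[X]) (hf : f.Monic) (hfz : aeval z f = 0) (hsep : (f.map (residue A)).Separable)
    (V : ValuationSubring L) (h : EtRam.Dominates A (algebraMap A L) V)
    [IsDiscreteValuationRing V] :
    letI : Algebra A V := (RingHom.codRestrict (algebraMap A L) V h.1).toAlgebra
    ∀ [IsLocalHom (algebraMap A V)],
      EtRam.IsWeaklyUnramified A V ∧
        Algebra.IsSeparable (ResidueField A) (ResidueField V) := by
  letI : Algebra A V := (RingHom.codRestrict (algebraMap A L) V h.1).toAlgebra
  intro _
  have hinjAL : Function.Injective (algebraMap A L) := by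
    rw [IsScalarTower.algebraMap_eq A K L]
    exact (algebraMap K L).injective.comp (IsFractionRing.injective A K)
  set πL := algebraMap A L π with hπL
  have hπV : V.valuation πL < 1 := h.2 π (by
    rw [hπ.maximalIdeal_eq]; exact Ideal.mem_span_singleton_self π)
  have hπL0 : πL ≠ 0 := fun h0 => hπ.ne_zero (hinjAL (h0.trans (map_zero _).symm))
  -- `z` lies in `V`
  have hzV : z ∈ V := mem_of_isIntegralElem (algebraMap A L) V h.1 z ⟨f, hf, hfz⟩
  have hRV : ∀ x ∈ (Algebra.adjoin A {z}).toSubring, x ∈ V := by
    intro x hx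
    have hx' : x ∈ Algebra.adjoin A {z} := hx
    induction hx' using Algebra.adjoin_induction with
    | mem y hy => rw [Set.mem_singleton_iff] at hy; rw [hy]; exact hzV
    | algebraMap c => exact h.1 c
    | add y y' _ _ hy hy' => exact V.add_mem _ _ (hy ‹_›) (hy' ‹_›)
    | mul y y' _ _ hy hy' => exact V.mul_mem _ _ (hy ‹_›) (hy' ‹_›)
  obtain ⟨hart, hred⟩ := quotient_reducedArtinian π hπ z f hf hfz hsep
  haveI := hart
  haveI := hred
  let ι : Algebra.adjoin A {z} →+* V :=
    { toFun := fun y => ⟨y.1, hRV y.1 y.2⟩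
      map_one' := rfl
      map_mul' := fun _ _ => rfl
      map_zero' := rfl
      map_add' := fun _ _ => rfl }
  have h𝔫 : (maximalIdeal V).comap ι ≠ ⊤ := (Ideal.comap_isPrime ι _).ne_top
  have hmem𝔫 : ∀ y : Algebra.adjoin A {z}, y ∈ (maximalIdeal V).comap ι ↔
      V.valuation (y : L) < 1 := fun y => V.valuation_lt_one_iff (ι y)
  have ht𝔫 : algebraMap A (Algebra.adjoin A {z}) π ∈ (maximalIdeal V).comap ι :=
    (hmem𝔫 _).mpr hπV
  have h2 : ∀ y ∈ (Algebra.adjoin A {z}).toSubring, V.valuation y < 1 →
      ∃ s ∈ (Algebra.adjoin A {z}).toSubring, V.valuation s = 1 ∧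
        ∃ y' ∈ (Algebra.adjoin A {z}).toSubring, s * y = πL * y' := by
    intro y hy hlt
    obtain ⟨s, hs, y', hsy⟩ := exists_mul_eq_mul (algebraMap A (Algebra.adjoin A {z}) π)
      ((maximalIdeal V).comap ι) h𝔫 ht𝔫 ⟨y, hy⟩ ((hmem𝔫 _).mpr hlt)
    refine ⟨s.1, s.2, ?_, y'.1, y'.2, congrArg Subtype.val hsy⟩
    rw [hmem𝔫, not_lt] at hs
    exact le_antisymm ((V.valuation_le_one_iff _).mpr (hRV _ s.2)) hs
  have h3 : ∀ x : L, ∃ y ∈ (Algebra.adjoin A {z}).toSubring,
      ∃ y' ∈ (Algebra.adjoin A {z}).toSubring, y' ≠ 0 ∧ x * y' = y :=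
    fraction_of_adjoin A K L z htop
  obtain ⟨hc1, hc2⟩ := gen_of_subring V (Algebra.adjoin A {z}).toSubring hRV πL
    (Subalgebra.algebraMap_mem _ π) hπV hπL0 h2 h3
  refine ⟨?_, ?_⟩
  · unfold EtRam.IsWeaklyUnramified
    apply le_antisymm
    · exact ((local_hom_TFAE (algebraMap A V)).out 0 2).mp ‹_›
    · intro x hx
      obtain ⟨w, hw, hxw⟩ := hc1 x ((V.valuation_lt_one_iff x).mp hx)
      have hx' : x = algebraMap A V π * ⟨w, hw⟩ := Subtype.ext hxw
      rw [hx']
      apply Ideal.mul_mem_right
      apply Ideal.mem_map_of_mem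
      rw [hπ.maximalIdeal_eq]
      exact Ideal.mem_span_singleton_self π
  · haveI : IsScalarTower A V L := IsScalarTower.of_algebraMap_eq (fun _ => rfl)
    set ζ := residue V ⟨z, hzV⟩ with hζ
    have hzVf : aeval (⟨z, hzV⟩ : V) f = 0 := by
      apply Subtype.val_injective
      have h4 := Polynomial.aeval_algebraMap_apply L (⟨z, hzV⟩ : V) f
      rw [ZeroMemClass.coe_zero]
      exact h4.symm.trans hfz
    have hζroot : aeval ζ (f.map (residue A)) = 0 := by
      rw [aeval_def, eval₂_map]
      have h4 : (algebraMap (ResidueField A) (ResidueField V)).comp (residue A) =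
          (residue V).comp (algebraMap A V) := by
        ext c
        rfl
      rw [h4, hζ, ← hom_eval₂, ← aeval_def, hzVf, map_zero]
    have hζsep : IsSeparable (ResidueField A) ζ :=
      Polynomial.Separable.of_dvd hsep (minpoly.dvd _ ζ hζroot)
    have hres : ∀ y ∈ Algebra.adjoin A {z}, ∃ hy : y ∈ V,
        residue V ⟨y, hy⟩ ∈ IntermediateField.adjoin (ResidueField A) {ζ} := by
      intro y hy
      induction hy using Algebra.adjoin_induction with
      | mem y hy =>
        rw [Set.mem_singleton_iff] at hy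
        subst hy
        exact ⟨hzV, IntermediateField.mem_adjoin_simple_self _ _⟩
      | algebraMap c =>
        refine ⟨h.1 c, ?_⟩
        have h4 : residue V ⟨algebraMap A L c, h.1 c⟩ =
            algebraMap (ResidueField A) (ResidueField V) (residue A c) := rfl
        rw [h4]
        exact IntermediateField.algebraMap_mem _ _
      | add y y' _ _ hy hy' =>
        obtain ⟨h5, h6⟩ := hy
        obtain ⟨h5', h6'⟩ := hy'
        refine ⟨V.add_mem _ _ h5 h5', ?_⟩
        have h4 : residue V ⟨y + y', V.add_mem _ _ h5 h5'⟩ =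
            residue V ⟨y, h5⟩ + residue V ⟨y', h5'⟩ := by
          rw [← map_add]
          rfl
        rw [h4]
        exact add_mem h6 h6'
      | mul y y' _ _ hy hy' =>
        obtain ⟨h5, h6⟩ := hy
        obtain ⟨h5', h6'⟩ := hy'
        refine ⟨V.mul_mem _ _ h5 h5', ?_⟩
        have h4 : residue V ⟨y * y', V.mul_mem _ _ h5 h5'⟩ =
            residue V ⟨y, h5⟩ * residue V ⟨y', h5'⟩ := by
          rw [← map_mul]
          rfl
        rw [h4]
        exact mul_mem h6 h6'
    have htopζ : IntermediateField.adjoin (ResidueField A) {ζ} = ⊤ := by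
      rw [eq_top_iff]
      intro r _
      obtain ⟨x, rfl⟩ := residue_surjective r
      rcases lt_or_eq_of_le (V.valuation_le_one x) with hlt | heq
      · have : residue V x = 0 := by
          rw [residue_eq_zero_iff]
          exact (V.valuation_lt_one_iff x).mpr hlt
        rw [this]
        exact zero_mem _
      · obtain ⟨v, hv, v', hv', hv1, hv'1, hxv⟩ := hc2 x heq
        obtain ⟨hvV, hvres⟩ := hres v hv
        obtain ⟨hv'V, hv'res⟩ := hres v' hv'
        have hx' : x * ⟨v', hv'V⟩ = ⟨v, hvV⟩ := Subtype.ext hxv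
        have hunit : IsUnit (⟨v', hv'V⟩ : V) := (V.valuation_eq_one_iff _).mpr hv'1
        have hne : residue V ⟨v', hv'V⟩ ≠ 0 := by
          rw [Ne, residue_eq_zero_iff, mem_maximalIdeal, mem_nonunits_iff, not_not]
          exact hunit
        have h4 : residue V x = residue V ⟨v, hvV⟩ / residue V ⟨v', hv'V⟩ := by
          rw [eq_div_iff hne, ← map_mul, hx']
        rw [h4]
        exact div_mem hvres hv'res
    rw [← IntermediateField.isSeparable_top, ← htopζ,
      IntermediateField.isSeparable_adjoin_simple_iff_isSeparable]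
    exact hζsep

end main

end Groth.Agent.Lib.T2H9.UnramLocal
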