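import Mathlib
import Groth.Prelude.Def_EtRam
import Groth.Agent.Lib.T2H9DvrData
import Groth.Agent.Lib.T2H9ArtinSchreier
import Groth.Agent.Lib.T2H9UnramLocal

set_option autoImplicit false
set_option linter.style.haveILetI false
set_option linter.unusedSectionVars false
universe u

namespace Groth.Agent.Lib.T2H9.ASCases

open IsLocalRing Polynomial Groth.Agent.Lib.T2H9.RamTower Groth.Agent.Lib.T2H9.TotRam
  Groth.Agent.Lib.T2H9.ValDom Groth.Agent.Lib.T2H9.TotRamDeg Groth.Agent.Lib.T2H9.EFUnique
  Groth.Agent.Lib.T2H9.DvrData Groth.Agent.Lib.T2H9.ArtinSchreier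

section defs

variable (p : ℕ) (A K L : Type u) [CommRing A] [IsDomain A] [IsDiscreteValuationRing A]
  [Field K] [Algebra A K] [IsFractionRing A K] [Field L] [Algebra K L] [Algebra A L]

def Case1 : Prop := Module.finrank K L = 1

def Case2 : Prop := EtRam.IsUnramifiedExt A (algebraMap A L) ∧ Module.finrank K L = p

def Case3 : Prop := EtRam.IsTotallyRamified A (algebraMap A L) ∧ Module.finrank K L = p

def Case4 : Prop := (∃ V : ValuationSubring L, EtRam.Dominates A (algebraMap A L) V) ∧
  (∀ V V' : ValuationSubring L, EtRam.Dominates A (algebraMap A L) V →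
    EtRam.Dominates A (algebraMap A L) V' → V = V') ∧
  ∀ (V : ValuationSubring L) (h : EtRam.Dominates A (algebraMap A L) V),
    letI : Algebra A V := (RingHom.codRestrict (algebraMap A L) V h.1).toAlgebra
    ∀ [IsLocalHom (algebraMap A V)],
      EtRam.IsWeaklyUnramified A V ∧
        IsPurelyInseparable (IsLocalRing.ResidueField A) (IsLocalRing.ResidueField V) ∧
        Module.finrank (IsLocalRing.ResidueField A) (IsLocalRing.ResidueField V) = p

end defs

section charp

variable (p : ℕ) [hp : Fact p.Prime] (A K : Type u) [CommRing A] [IsDomain A]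
  [IsDiscreteValuationRing A] [Field K] [Algebra A K] [IsFractionRing A K] [CharP K p]

include K in
theorem charP_base : CharP A p :=
  ((algebraMap A K).charP_iff (IsFractionRing.injective A K) p).mpr inferInstance

include K in
theorem charP_residue : CharP (ResidueField A) p := by
  haveI := charP_base p A K
  rw [← ringChar.eq_iff]
  apply CharP.ringChar_of_prime_eq_zero hp.out
  have : residue A (p : A) = 0 := by
    rw [CharP.cast_eq_zero A p]
    exact map_zero (residue A)
  rw [← this, map_natCast]

end charp

section cases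

variable (p : ℕ) [hp : Fact p.Prime] (A K L : Type u) [CommRing A] [IsDomain A]
  [IsDiscreteValuationRing A] [Field K] [Algebra A K] [IsFractionRing A K] [Field L] [Algebra K L]
  [Algebra A L] [IsScalarTower A K L] [CharP K p]
  (π : A) (hπ : Irreducible π) (ξ : K) (z : L) (hz : z ^ p - z = algebraMap K L ξ)
  (hgen : IntermediateField.adjoin K {z} = ⊤)

include hπ hz hgen

/-- the local analysis in case (C) -/
theorem caseC_local (m : ℕ) (hm : 0 < m) (a : A) (ha : ∀ r : A, residue A a ≠ residue A r ^ p)
    (hξ : ξ * algebraMap A K π ^ (p * m) = algebraMap A K a)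
    (V : ValuationSubring L) (h : EtRam.Dominates A (algebraMap A L) V) :
    letI : Algebra A V := (RingHom.codRestrict (algebraMap A L) V h.1).toAlgebra
    ∀ [IsLocalHom (algebraMap A V)] [IsDiscreteValuationRing V],
      ∃ (ω : V) (u : Vˣ), Irreducible ω ∧ algebraMap A V π = ↑u * ω ^ 1 ∧
        Module.finrank (ResidueField A) (ResidueField V) = p ∧ Module.finrank K L = p ∧
        IsPurelyInseparable (ResidueField A) (ResidueField V) := by
  letI : Algebra A V := (RingHom.codRestrict (algebraMap A L) V h.1).toAlgebra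
  intro _ _
  have h2 : 2 ≤ p := hp.out.two_le
  haveI : FiniteDimensional K L := finiteDimensional p ξ z hz hgen
  obtain ⟨ω, u, e, hω, hu, he, hfin, hfpos, hef⟩ := ef_data A K L π hπ V h
  haveI := hfin
  have hN := finrank_le p ξ z hz hgen
  -- the element `w`
  have hξL : algebraMap K L ξ * algebraMap A L π ^ (p * m) = algebraMap A L a := by
    have := congrArg (algebraMap K L) hξ
    rwa [map_mul, map_pow, ← IsScalarTower.algebraMap_apply, ← IsScalarTower.algebraMap_apply]
      at this
  set πL := algebraMap A L π with hπL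
  set w := πL ^ m * z with hw
  have hzp : z ^ p = z + algebraMap K L ξ := by rw [← hz]; ring
  have hwp : w ^ p = πL ^ (m * (p - 1)) * w + algebraMap A L a := by
    have h3 : m * (p - 1) + m = p * m := by
      have : p = (p - 1) + 1 := by omega
      nth_rewrite 2 [this]
      ring
    rw [hw, mul_pow, ← pow_mul, hzp, mul_add, ← mul_assoc, ← pow_add, h3, mul_comm m p, ← hξL]
    ring
  have hπV : V.valuation πL < 1 := h.2 π (by
    rw [hπ.maximalIdeal_eq]; exact Ideal.mem_span_singleton_self π)
  have hwV : w ∈ V := by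
    rw [← V.valuation_le_one_iff]
    by_contra hgt
    push Not at hgt
    have h3 : V.valuation (w ^ p) = V.valuation w ^ p := map_pow _ _ _
    have h4 : V.valuation w < V.valuation w ^ p := by
      calc V.valuation w = V.valuation w ^ 1 := (pow_one _).symm
        _ < V.valuation w ^ p := pow_lt_pow_right₀ hgt (by omega)
    have h5 : V.valuation (πL ^ (m * (p - 1)) * w) ≤ V.valuation w := by
      rw [map_mul, map_pow]
      calc V.valuation πL ^ (m * (p - 1)) * V.valuation w ≤ 1 * V.valuation w :=
            mul_le_mul' (pow_le_one₀ zero_le hπV.le) le_rfl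
        _ = V.valuation w := one_mul _
    have h6 : V.valuation (algebraMap A L a) ≤ 1 := (V.valuation_le_one_iff _).mpr (h.1 a)
    have h7 : V.valuation (w ^ p) ≤ max (V.valuation (πL ^ (m * (p - 1)) * w))
        (V.valuation (algebraMap A L a)) := by
      rw [hwp]
      exact V.valuation.map_add _ _
    rw [h3] at h7
    have h8 : max (V.valuation (πL ^ (m * (p - 1)) * w)) (V.valuation (algebraMap A L a)) <
        V.valuation w ^ p := max_lt (h5.trans_lt h4) (h6.trans_lt (hgt.trans h4))
    exact absurd h7 (not_le.mpr h8)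
  -- the residue of `w`
  set wV : V := ⟨w, hwV⟩ with hwVdef
  have hwVp : wV ^ p = algebraMap A V π ^ (m * (p - 1)) * wV + algebraMap A V a := by
    apply Subtype.ext
    exact hwp
  have hresπ : residue V (algebraMap A V π) = 0 := by
    rw [residue_eq_zero_iff]
    exact (V.valuation_lt_one_iff _).mpr hπV
  have hmp : m * (p - 1) ≠ 0 := by
    have : 0 < p - 1 := by omega
    exact (Nat.mul_pos hm this).ne'
  have hresw : (residue V wV) ^ p = algebraMap (ResidueField A) (ResidueField V) (residue A a) := by
    rw [← map_pow, hwVp, map_add, map_mul, map_pow, hresπ, zero_pow hmp, zero_mul, zero_add]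
    rfl
  have hirr : Irreducible (X ^ p - C (residue A a) : (ResidueField A)[X]) := by
    apply X_pow_sub_C_irreducible_of_prime hp.out
    intro b
    obtain ⟨r, rfl⟩ := residue_surjective b
    exact fun hb => ha r hb.symm
  have hmin : (X ^ p - C (residue A a) : (ResidueField A)[X]) =
      minpoly (ResidueField A) (residue V wV) := by
    apply minpoly.eq_of_irreducible_of_monic hirr
    · rw [map_sub, map_pow, aeval_X, aeval_C, hresw, sub_self]
    · exact monic_X_pow_sub_C _ (by omega)
  have hdeg : (minpoly (ResidueField A) (residue V wV)).natDegree = p := by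
    rw [← hmin, natDegree_X_pow_sub_C]
  have hpf : p ≤ Module.finrank (ResidueField A) (ResidueField V) := by
    rw [← hdeg]
    exact minpoly.natDegree_le _
  -- numerics
  have hf : Module.finrank (ResidueField A) (ResidueField V) = p := by
    apply le_antisymm _ hpf
    calc Module.finrank (ResidueField A) (ResidueField V)
        = 1 * Module.finrank (ResidueField A) (ResidueField V) := (one_mul _).symm
      _ ≤ e * Module.finrank (ResidueField A) (ResidueField V) := Nat.mul_le_mul_right _ he
      _ ≤ p := hef.trans hN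
  have he1 : e = 1 := by
    rw [hf] at hef
    have h3 : e * p ≤ p := hef.trans hN
    have hp0 : 0 < p := by omega
    have : e ≤ 1 := by
      by_contra hne
      push Not at hne
      have : 2 * p ≤ e * p := Nat.mul_le_mul_right p hne
      omega
    omega
  have hNp : Module.finrank K L = p := by
    apply le_antisymm hN
    rw [hf, he1, one_mul] at hef
    exact hef
  subst he1
  refine ⟨ω, u, hω, hu, hf, hNp, ?_⟩
  -- pure inseparability
  haveI : CharP (ResidueField A) p := charP_residue p A K
  haveI : CharP (ResidueField V) p :=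
    charP_of_injective_algebraMap (algebraMap (ResidueField A) (ResidueField V)).injective p
  haveI : ExpChar (ResidueField A) p := ExpChar.prime hp.out
  rw [isPurelyInseparable_iff_pow_mem (ResidueField A) p]
  have htop : IntermediateField.adjoin (ResidueField A) {residue V wV} = ⊤ := by
    rw [Field.primitive_element_iff_minpoly_natDegree_eq, hdeg, hf]
  have halg : IsAlgebraic (ResidueField A) (residue V wV) :=
    (Algebra.IsIntegral.isIntegral (R := ResidueField A) _).isAlgebraic
  have htop' : Algebra.adjoin (ResidueField A) {residue V wV} = ⊤ := by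
    rw [← IntermediateField.adjoin_simple_toSubalgebra_of_isAlgebraic halg, htop]
    rfl
  intro x
  refine ⟨1, ?_⟩
  rw [pow_one]
  have hx : x ∈ Algebra.adjoin (ResidueField A) {residue V wV} := htop' ▸ Algebra.mem_top
  induction hx using Algebra.adjoin_induction with
  | mem y hy =>
    rw [Set.mem_singleton_iff] at hy
    rw [hy, hresw]
    exact ⟨_, rfl⟩
  | algebraMap c => exact ⟨c ^ p, by rw [map_pow]⟩
  | add y y' _ _ hy hy' =>
    rw [add_pow_char]
    exact add_mem hy hy'
  | mul y y' _ _ hy hy' =>
    rw [mul_pow]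
    exact mul_mem hy hy'

theorem caseC (m : ℕ) (hm : 0 < m) (a : A) (ha : ∀ r : A, residue A a ≠ residue A r ^ p)
    (hξ : ξ * algebraMap A K π ^ (p * m) = algebraMap A K a) : Case4 p A L := by
  haveI : FiniteDimensional K L := finiteDimensional p ξ z hz hgen
  haveI : IsGalois K L := isGalois p ξ z hz hgen
  refine ⟨exists_dominates A K L, ?_, ?_⟩
  · intro V V' hV hV'
    haveI : IsDiscreteValuationRing V' := isDiscreteValuationRing_of_dominates A K L V' hV'
    letI : Algebra A V' := (RingHom.codRestrict (algebraMap A L) V' hV'.1).toAlgebra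
    haveI : IsLocalHom (algebraMap A V') := isLocalHom_of_dominates _ V' hV'
    obtain ⟨ω, u, hω, hu, hf, hNp, _⟩ := caseC_local p A K L π hπ ξ z hz hgen m hm a ha hξ V' hV'
    exact unique_of_ef A K L π hπ V' hV' ω u 1 hω hu (by rw [one_mul, hf, hNp]) V hV
  · intro V h
    letI : Algebra A V := (RingHom.codRestrict (algebraMap A L) V h.1).toAlgebra
    intro _
    haveI : IsDiscreteValuationRing V := isDiscreteValuationRing_of_dominates A K L V h
    obtain ⟨ω, u, hω, hu, hf, hNp, hpi⟩ := caseC_local p A K L π hπ ξ z hz hgen m hm a ha hξ V h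
    exact ⟨weaklyUnramified_of_e_eq_one A L π hπ V h ω u hω hu, hpi, hf⟩

/-- the local analysis in case (B) -/
theorem caseB_local (n : ℕ) (hn : 0 < n) (hpn : ¬ p ∣ n) (a : Aˣ)
    (hξ : ξ * algebraMap A K π ^ n = algebraMap A K a)
    (V : ValuationSubring L) (h : EtRam.Dominates A (algebraMap A L) V) :
    letI : Algebra A V := (RingHom.codRestrict (algebraMap A L) V h.1).toAlgebra
    ∀ [IsLocalHom (algebraMap A V)] [IsDiscreteValuationRing V],
      ∃ (ω : V) (u : Vˣ), Irreducible ω ∧ algebraMap A V π = ↑u * ω ^ p ∧
        Module.finrank (ResidueField A) (ResidueField V) = 1 ∧ Module.finrank K L = p := by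
  letI : Algebra A V := (RingHom.codRestrict (algebraMap A L) V h.1).toAlgebra
  intro _ _
  have h2 : 2 ≤ p := hp.out.two_le
  haveI : FiniteDimensional K L := finiteDimensional p ξ z hz hgen
  obtain ⟨ω, u, e, hω, hu, he, hfin, hfpos, hef⟩ := ef_data A K L π hπ V h
  haveI := hfin
  have hN := finrank_le p ξ z hz hgen
  have hξL : algebraMap K L ξ * algebraMap A L π ^ n = algebraMap A L a := by
    have := congrArg (algebraMap K L) hξ
    rwa [map_mul, map_pow, ← IsScalarTower.algebraMap_apply, ← IsScalarTower.algebraMap_apply]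
      at this
  set πL := algebraMap A L π with hπL
  have hπV : V.valuation πL < 1 := h.2 π (by
    rw [hπ.maximalIdeal_eq]; exact Ideal.mem_span_singleton_self π)
  have hπ0 : V.valuation πL ≠ 0 := by
    rw [Valuation.ne_zero_iff]
    intro h0
    exact hπ.ne_zero (algebraMap_injective A K L (h0.trans (map_zero _).symm))
  have haV : V.valuation (algebraMap A L a) = 1 := by
    have h3 : V.valuation (algebraMap A L a) ≤ 1 := (V.valuation_le_one_iff _).mpr (h.1 a)
    have h4 : V.valuation (algebraMap A L ((a⁻¹ : Aˣ) : A)) ≤ 1 :=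
      (V.valuation_le_one_iff _).mpr (h.1 _)
    have h5 : V.valuation (algebraMap A L a) * V.valuation (algebraMap A L ((a⁻¹ : Aˣ) : A)) = 1 := by
      rw [← map_mul, ← map_mul, Units.mul_inv, map_one, map_one]
    apply le_antisymm h3
    calc (1 : _) = V.valuation (algebraMap A L a) *
          V.valuation (algebraMap A L ((a⁻¹ : Aˣ) : A)) := h5.symm
      _ ≤ V.valuation (algebraMap A L a) * 1 := mul_le_mul' le_rfl h4
      _ = _ := mul_one _
  have hval1 : V.valuation (algebraMap K L ξ) * V.valuation πL ^ n = 1 := by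
    rw [← map_pow, ← map_mul, hξL, haV]
  have hzV : 1 < V.valuation z := by
    by_contra hle
    push Not at hle
    have hzmem : z ∈ V := (V.valuation_le_one_iff z).mp hle
    have hξmem : algebraMap K L ξ ∈ V := by
      rw [← hz]
      exact V.sub_mem (V.pow_mem hzmem p) hzmem
    have h3 : V.valuation (algebraMap K L ξ) ≤ 1 := (V.valuation_le_one_iff _).mpr hξmem
    have h4 : V.valuation πL ^ n < 1 := pow_lt_one₀ zero_le hπV hn.ne'
    have h5 : V.valuation (algebraMap K L ξ) * V.valuation πL ^ n < 1 := by
      calc V.valuation (algebraMap K L ξ) * V.valuation πL ^ n ≤ 1 * V.valuation πL ^ n :=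
            mul_le_mul' h3 le_rfl
        _ = V.valuation πL ^ n := one_mul _
        _ < 1 := h4
    rw [hval1] at h5
    exact lt_irrefl _ h5
  have hzp : V.valuation (algebraMap K L ξ) = V.valuation z ^ p := by
    rw [← hz, ← map_pow]
    apply Valuation.map_sub_eq_of_lt_left
    rw [map_pow]
    calc V.valuation z = V.valuation z ^ 1 := (pow_one _).symm
      _ < V.valuation z ^ p := pow_lt_pow_right₀ hzV (by omega)
  rw [hzp] at hval1
  -- pass to the uniformizer
  have hω1 : V.valuation (ω : L) < 1 := by
    rw [← V.valuation_lt_one_iff, mem_maximalIdeal, mem_nonunits_iff]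
    exact hω.not_isUnit
  have hω0 : V.valuation (ω : L) ≠ 0 := by
    rw [Valuation.ne_zero_iff]
    exact fun h0 => hω.ne_zero (Subtype.ext h0)
  have hz0 : z ≠ 0 := by
    intro h0
    rw [h0, map_zero] at hzV
    exact not_lt.mpr zero_le hzV
  have hzinv : z⁻¹ ∈ V := by
    rw [← V.valuation_le_one_iff, map_inv₀]
    exact inv_le_one_of_one_le₀ hzV.le
  have hzinv0 : (⟨z⁻¹, hzinv⟩ : V) ≠ 0 := fun h0 => inv_ne_zero hz0 (congrArg Subtype.val h0)
  obtain ⟨k, u', hu'⟩ := IsDiscreteValuationRing.eq_unit_mul_pow_irreducible hzinv0 hω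
  have hvzinv : (V.valuation z)⁻¹ = V.valuation (ω : L) ^ k := by
    have h3 : z⁻¹ = ((u' : V) : L) * (ω : L) ^ k := by
      have := congrArg Subtype.val hu'
      simpa using this
    rw [← map_inv₀, h3, map_mul, map_pow, V.valuation_unit, one_mul]
  have hvπ : V.valuation πL = V.valuation (ω : L) ^ e := by
    have h3 : πL = ((u : V) : L) * (ω : L) ^ e := by
      have h4 := congrArg Subtype.val hu
      rw [MulMemClass.coe_mul, SubmonoidClass.coe_pow] at h4
      exact h4
    rw [h3, map_mul, map_pow, V.valuation_unit, one_mul]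
  have hen : e * n = k * p := by
    have h3 : V.valuation (ω : L) ^ (e * n) = V.valuation (ω : L) ^ (k * p) := by
      rw [pow_mul, pow_mul, ← hvπ, ← hvzinv, inv_pow]
      exact eq_inv_of_mul_eq_one_right hval1
    exact (pow_right_inj₀ (zero_lt_iff.mpr hω0) hω1.ne).mp h3
  have hpe : p ∣ e := by
    have : p ∣ e * n := ⟨k, by rw [hen, mul_comm]⟩
    rcases (Nat.Prime.dvd_mul hp.out).mp this with h3 | h3
    · exact h3
    · exact absurd h3 hpn
  have hpe' : p ≤ e := Nat.le_of_dvd he hpe
  have hf : Module.finrank (ResidueField A) (ResidueField V) = 1 := by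
    by_contra hne
    have hf2 : 2 ≤ Module.finrank (ResidueField A) (ResidueField V) := by omega
    have : p * 2 ≤ e * Module.finrank (ResidueField A) (ResidueField V) :=
      Nat.mul_le_mul hpe' hf2
    omega
  rw [hf, mul_one] at hef
  have hep : e = p := le_antisymm (hef.trans hN) hpe'
  subst hep
  exact ⟨ω, u, hω, hu, hf, le_antisymm hN hef⟩

theorem caseB (n : ℕ) (hn : 0 < n) (hpn : ¬ p ∣ n) (a : Aˣ)
    (hξ : ξ * algebraMap A K π ^ n = algebraMap A K a) : Case3 p A K L := by
  haveI : FiniteDimensional K L := finiteDimensional p ξ z hz hgen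
  haveI : IsGalois K L := isGalois p ξ z hz hgen
  obtain ⟨V₀, hV₀⟩ := exists_dominates A K L
  have hdeg : Module.finrank K L = p := by
    haveI : IsDiscreteValuationRing V₀ := isDiscreteValuationRing_of_dominates A K L V₀ hV₀
    letI : Algebra A V₀ := (RingHom.codRestrict (algebraMap A L) V₀ hV₀.1).toAlgebra
    haveI : IsLocalHom (algebraMap A V₀) := isLocalHom_of_dominates _ V₀ hV₀
    obtain ⟨ω, u, hω, hu, hf, hNp⟩ := caseB_local p A K L π hπ ξ z hz hgen n hn hpn a hξ V₀ hV₀
    exact hNp
  refine ⟨⟨⟨V₀, hV₀⟩, ?_, ?_⟩, hdeg⟩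
  · intro V V' hV hV'
    haveI : IsDiscreteValuationRing V' := isDiscreteValuationRing_of_dominates A K L V' hV'
    letI : Algebra A V' := (RingHom.codRestrict (algebraMap A L) V' hV'.1).toAlgebra
    haveI : IsLocalHom (algebraMap A V') := isLocalHom_of_dominates _ V' hV'
    obtain ⟨ω, u, hω, hu, hf, hNp⟩ := caseB_local p A K L π hπ ξ z hz hgen n hn hpn a hξ V' hV'
    exact unique_of_ef A K L π hπ V' hV' ω u p hω hu (by rw [hf, mul_one, hNp]) V hV
  · intro V h
    haveI : IsDiscreteValuationRing V := isDiscreteValuationRing_of_dominates A K L V h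
    letI : Algebra A V := (RingHom.codRestrict (algebraMap A L) V h.1).toAlgebra
    haveI : IsLocalHom (algebraMap A V) := isLocalHom_of_dominates _ V h
    obtain ⟨ω, u, hω, hu, hf, hNp⟩ := caseB_local p A K L π hπ ξ z hz hgen n hn hpn a hξ V h
    exact residue_surjective_of_f_eq_one A L V h hf

theorem adjoin_top : Algebra.adjoin K {z} = ⊤ := by
  have hint := isIntegral_z p ξ z hz
  rw [← IntermediateField.adjoin_simple_toSubalgebra_of_isAlgebraic hint.isAlgebraic, hgen]
  rfl

theorem caseA (a : A) (hξ : algebraMap A K a = ξ) : Case1 K L ∨ Case2 p A K L := by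
  have h2 : 2 ≤ p := hp.out.two_le
  haveI : FiniteDimensional K L := finiteDimensional p ξ z hz hgen
  haveI : IsGalois K L := isGalois p ξ z hz hgen
  rcases finrank_eq_one_or p ξ z hz hgen with h1 | hp'
  · left
    exact h1
  · right
    refine ⟨?_, hp'⟩
    intro V h
    letI : Algebra A V := (RingHom.codRestrict (algebraMap A L) V h.1).toAlgebra
    intro _
    haveI : IsDiscreteValuationRing V := isDiscreteValuationRing_of_dominates A K L V h
    haveI : CharP (ResidueField A) p := charP_residue p A K
    refine Groth.Agent.Lib.T2H9.UnramLocal.unramified_local A K L π hπ z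
      (adjoin_top p A K L π hπ ξ z hz hgen) (asPoly p a) (asPoly_monic p h2 a) ?_ ?_ V h
    · rw [aeval_asPoly, IsScalarTower.algebraMap_apply A K L, hξ, hz, sub_self]
    · rw [map_asPoly]
      exact asPoly_separable p _

end cases

section tri

variable (p : ℕ) [hp : Fact p.Prime] (A K L : Type u) [CommRing A] [IsDomain A]
  [IsDiscreteValuationRing A] [Field K] [Algebra A K] [IsFractionRing A K] [Field L] [Algebra K L]
  [Algebra A L] [IsScalarTower A K L] [CharP K p]
  (π : A) (hπ : Irreducible π)

include hπ in
theorem trichotomy : ∀ (N : ℕ) (ξ : K) (z : L), z ^ p - z = algebraMap K L ξ →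
    IntermediateField.adjoin K {z} = ⊤ →
    (∃ a : A, ξ * algebraMap A K π ^ N = algebraMap A K a) →
    Case1 K L ∨ Case2 p A K L ∨ Case3 p A K L ∨ Case4 p A L := by
  have h2 : 2 ≤ p := hp.out.two_le
  have hϖ0 : algebraMap A K π ≠ 0 := by
    intro h0
    exact hπ.ne_zero (IsFractionRing.injective A K (h0.trans (map_zero _).symm))
  intro N
  induction N with
  | zero =>
    intro ξ z hz hgen ⟨a, ha⟩
    rw [pow_zero, mul_one] at ha
    rcases caseA p A K L π hπ ξ z hz hgen a ha.symm with h | h
    · exact Or.inl h
    · exact Or.inr (Or.inl h)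
  | succ N ih =>
    intro ξ z hz hgen ⟨a, ha⟩
    by_cases hau : IsUnit a
    · by_cases hpN : p ∣ N + 1
      · obtain ⟨m, hm⟩ := hpN
        have hm0 : 0 < m := by
          rcases Nat.eq_zero_or_pos m with h0 | h0
          · rw [h0, mul_zero] at hm
            omega
          · exact h0
        by_cases hres : ∀ r : A, residue A a ≠ residue A r ^ p
        · rw [hm] at ha
          exact Or.inr (Or.inr (Or.inr (caseC p A K L π hπ ξ z hz hgen m hm0 a hres ha)))
        · push Not at hres
          obtain ⟨r, hr⟩ := hres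
          have hmem : a - r ^ p ∈ maximalIdeal A := by
            rw [← residue_eq_zero_iff, map_sub, map_pow, hr, sub_self]
          rw [hπ.maximalIdeal_eq, Ideal.mem_span_singleton] at hmem
          obtain ⟨b, hb⟩ := hmem
          have hmN : m ≤ N := by
            have : 2 * m ≤ p * m := Nat.mul_le_mul_right m h2
            omega
          set ϖ := algebraMap A K π with hϖ
          set c : K := algebraMap A K r / ϖ ^ m with hc
          have hc1 : c ^ p * ϖ ^ (N + 1) = algebraMap A K (r ^ p) := by
            rw [hc, div_pow, ← pow_mul, mul_comm m p, ← hm, map_pow,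
              div_mul_cancel₀ _ (pow_ne_zero _ hϖ0)]
          have hc2 : c * ϖ ^ N = algebraMap A K (r * π ^ (N - m)) := by
            have : ϖ ^ N = ϖ ^ (N - m) * ϖ ^ m := by rw [← pow_add, Nat.sub_add_cancel hmN]
            rw [hc, this, map_mul, map_pow, ← hϖ]
            field_simp
          have hc3 : (ξ - c ^ p) * ϖ ^ N = algebraMap A K b := by
            have h5 : (ξ - c ^ p) * ϖ ^ (N + 1) = ϖ * algebraMap A K b := by
              rw [sub_mul, ha, hc1, ← map_sub, hb, map_mul]
            rw [pow_succ, ← mul_assoc, mul_comm _ ϖ] at h5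
            exact mul_left_cancel₀ hϖ0 h5
          refine ih (ξ - (c ^ p - c)) (z - algebraMap K L c) (shift_eq p ξ z hz c)
            (adjoin_sub z c hgen) ⟨b + r * π ^ (N - m), ?_⟩
          rw [map_add, ← hc2, ← hc3]
          ring
      · exact Or.inr (Or.inr (Or.inl
          (caseB p A K L π hπ ξ z hz hgen (N + 1) (Nat.succ_pos N) hpN hau.unit ha)))
    · have hmem : a ∈ maximalIdeal A := by
        rw [mem_maximalIdeal, mem_nonunits_iff]
        exact hau
      rw [hπ.maximalIdeal_eq, Ideal.mem_span_singleton] at hmem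
      obtain ⟨a', rfl⟩ := hmem
      refine ih ξ z hz hgen ⟨a', ?_⟩
      rw [pow_succ, ← mul_assoc, map_mul, mul_comm (algebraMap A K π)] at ha
      exact mul_right_cancel₀ hϖ0 ha

end tri

end Groth.Agent.Lib.T2H9.ASCases
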