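import Mathlib
import Groth.Prelude.Def_EtRam
import Groth.Agent.Lib.T2H9UnramLocal
import Groth.Agent.Lib.T2H9ASCases
import Groth.Agent.Lib.T2H9FinDVR
import Groth.Agent.Lib.T2H9RamTower
import Groth.Agent.S1984

/-!
# Artin–Schreier extensions whose class comes from the base field up to an unramified part

If `M = L(z)` with `z ^ p - z = ξ₁ + ℘(y) + b` where `ξ₁ ∈ K`, `y ∈ L`, `b ∈ B`, and `K₁/K` is a
totally ramified finite separable extension containing a root `w` of `w ^ p - w = ξ₁`, then `K₁` is
a weak solution for `A → C`.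
-/

set_option autoImplicit false
set_option linter.style.haveILetI false
set_option linter.unusedSectionVars false
set_option maxHeartbeats 800000
universe u

namespace Groth.Agent.Lib.T2H9.ASEmpty

open IsLocalRing Polynomial Groth.Agent.Lib.T2H9.RamTower Groth.Agent.Lib.T2H9.FinDVR
  Groth.Agent.Lib.T2H9.ArtinSchreier

section gen

variable {F E : Type u} [Field F] [Field E] [Algebra F E]

theorem adjoin_gen_eq_top (α : E) (hα : IsIntegral F α) :
    Algebra.adjoin F {IntermediateField.AdjoinSimple.gen F α} = ⊤ := by
  rw [eq_top_iff]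
  rintro ⟨x, hx⟩ -
  have h1 : x ∈ (IntermediateField.adjoin F {α}).toSubalgebra := hx
  rw [IntermediateField.adjoin_simple_toSubalgebra_of_isAlgebraic hα.isAlgebraic,
    Algebra.adjoin_singleton_eq_range_aeval] at h1
  obtain ⟨q, hq⟩ := h1
  rw [Algebra.adjoin_singleton_eq_range_aeval]
  refine ⟨q, Subtype.ext ?_⟩
  change ((aeval (IntermediateField.AdjoinSimple.gen F α) q : IntermediateField.adjoin F {α}) : E) = x
  rw [IntermediateField.AdjoinSimple.coe_aeval_gen_apply]
  exact hq

end gen

section main

variable (p : ℕ) [hpf : Fact p.Prime] (A B C K L M : Type u)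
  [CommRing A] [IsDomain A] [IsDiscreteValuationRing A]
  [CommRing B] [IsDomain B] [IsDiscreteValuationRing B]
  [CommRing C] [IsDomain C] [IsDiscreteValuationRing C]
  [Algebra A B] [Algebra B C] [Algebra A C] [IsScalarTower A B C]
  [IsLocalHom (algebraMap A B)] [IsLocalHom (algebraMap B C)]
  [Field K] [Field L] [Field M] [Algebra A K] [IsFractionRing A K] [Algebra B L]
  [IsFractionRing B L] [Algebra C M] [IsFractionRing C M] [Algebra K L] [Algebra L M]
  [Algebra K M] [IsScalarTower K L M] [Algebra A L] [IsScalarTower A K L] [IsScalarTower A B L]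
  [Algebra B M] [IsScalarTower B L M] [IsScalarTower B C M] [CharP L p]
  (K₁ : Type u) [Field K₁] [Algebra K K₁] [FiniteDimensional K K₁] [Algebra.IsSeparable K K₁]

theorem weakSol_empty (hinj : Function.Injective (algebraMap A B))
    (hw : EtRam.IsWeaklyUnramified A B)
    (ht : EtRam.IsTotallyRamified A ((algebraMap K K₁).comp (algebraMap A K)))
    (z : M) (hzgen : Algebra.adjoin L {z} = ⊤)
    (ξ₁ : K) (w : K₁) (hw₁ : w ^ p - w = algebraMap K K₁ ξ₁) (y : L) (b : B)
    (hz : z ^ p - z = algebraMap L M (algebraMap K L ξ₁ + (y ^ p - y) + algebraMap B L b)) :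
    EtRam.IsWeakSolution C K M K₁ := by
  classical
  have hp : p.Prime := hpf.out
  intro M'' _ _ _ _ _ _ hgen W hW
  letI algV₁W : Algebra (W.comap (algebraMap K₁ M'')) W :=
    (EtRam.inclOfComap W (algebraMap K₁ M'')).toAlgebra
  change EtRam.IsWeaklyUnramified (W.comap (algebraMap K₁ M'')) W
  letI algLM'' : Algebra L M'' := ((algebraMap M M'').comp (algebraMap L M)).toAlgebra
  haveI : IsScalarTower L M M'' := IsScalarTower.of_algebraMap_eq (fun _ => rfl)
  haveI : IsScalarTower K L M'' := IsScalarTower.of_algebraMap_eq (fun k => by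
    change algebraMap K M'' k = algebraMap M M'' (algebraMap L M (algebraMap K L k))
    rw [← IsScalarTower.algebraMap_apply K L M, ← IsScalarTower.algebraMap_apply K M M''])
  haveI : CharP M'' p := charP_of_injective_algebraMap (algebraMap L M'').injective p
  letI algCM'' : Algebra C M'' := ((algebraMap M M'').comp (algebraMap C M)).toAlgebra
  haveI : IsScalarTower C M M'' := IsScalarTower.of_algebraMap_eq (fun _ => rfl)
  have hWC : EtRam.Dominates C (algebraMap C M'') W := hW
  letI algBM'' : Algebra B M'' := ((algebraMap L M'').comp (algebraMap B L)).toAlgebra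
  haveI : IsScalarTower B L M'' := IsScalarTower.of_algebraMap_eq (fun _ => rfl)
  have hBC'' : ∀ b : B, algebraMap B M'' b = algebraMap C M'' (algebraMap B C b) := by
    intro b
    change algebraMap M M'' (algebraMap L M (algebraMap B L b)) =
      algebraMap M M'' (algebraMap C M (algebraMap B C b))
    rw [← IsScalarTower.algebraMap_apply B L M, ← IsScalarTower.algebraMap_apply B C M]
  have hWB : EtRam.Dominates B (algebraMap B M'') W := by
    refine ⟨fun b => ?_, fun b hb => ?_⟩
    · rw [hBC'']
      exact hWC.1 _
    · rw [hBC'']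
      apply hWC.2
      rw [mem_maximalIdeal, mem_nonunits_iff] at hb ⊢
      exact fun h => hb (isUnit_of_map_unit (algebraMap B C) b h)
  -- the new generator
  set zF : M'' := algebraMap M M'' z with hzF
  set yF : M'' := algebraMap L M'' y with hyF
  set wF : M'' := algebraMap K₁ M'' w with hwF
  set bF : M'' := algebraMap B M'' b with hbF
  set z'' : M'' := zF - yF - wF with hz''def
  have hz'' : z'' ^ p - z'' = bF := by
    have h1 : zF ^ p - zF = algebraMap L M'' (algebraMap K L ξ₁) + (yF ^ p - yF) + bF := by
      rw [hzF, ← map_pow, ← map_sub, hz, hyF, hbF, ← map_pow, ← map_sub,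
        IsScalarTower.algebraMap_apply B L M'', ← map_add, ← map_add]
      rfl
    have h2 : wF ^ p - wF = algebraMap L M'' (algebraMap K L ξ₁) := by
      rw [hwF, ← map_pow, ← map_sub, hw₁, ← IsScalarTower.algebraMap_apply K K₁ M'',
        ← IsScalarTower.algebraMap_apply K L M'']
    rw [hz''def, sub_pow_char, sub_pow_char]
    linear_combination h1 - h2
  -- the intermediate field generated by the new generator
  have hz''int : IsIntegral L z'' := by
    refine ⟨X ^ p - X - Polynomial.C (algebraMap B L b), ?_, ?_⟩
    · have h1 : (X + Polynomial.C (algebraMap B L b) : L[X]).degree < ((X : L[X]) ^ p).degree := by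
        rw [degree_X_pow, degree_X_add_C]
        exact_mod_cast hp.one_lt
      have h2 : (X ^ p - X - Polynomial.C (algebraMap B L b) : L[X]) = X ^ p - (X + Polynomial.C (algebraMap B L b)) := by
        ring
      rw [h2]
      exact (monic_X_pow p).sub_of_left h1
    · rw [eval₂_sub, eval₂_sub, eval₂_pow, eval₂_X, eval₂_C, hz'', hbF,
        IsScalarTower.algebraMap_apply B L M'', sub_self]
  set Mb : IntermediateField L M'' := IntermediateField.adjoin L {z''} with hMb
  haveI : FiniteDimensional L Mb := IntermediateField.adjoin.finiteDimensional hz''int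
  letI algBMb : Algebra B Mb := ((algebraMap L Mb).comp (algebraMap B L)).toAlgebra
  haveI : IsScalarTower B L Mb := IsScalarTower.of_algebraMap_eq (fun _ => rfl)
  have hBMb : ∀ b' : B, algebraMap Mb M'' (algebraMap B Mb b') = algebraMap B M'' b' := fun _ => rfl
  set Cb : ValuationSubring Mb := W.comap (algebraMap Mb M'') with hCb
  have hCbB : EtRam.Dominates B (algebraMap B Mb) Cb := by
    rw [hCb, dominates_comap_iff]
    exact hWB
  haveI : IsDiscreteValuationRing Cb := isDiscreteValuationRing_of_dominates B L Mb Cb hCbB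
  set gen : Mb := IntermediateField.AdjoinSimple.gen L z'' with hgendef
  have hgentop : Algebra.adjoin L {gen} = ⊤ := adjoin_gen_eq_top z'' hz''int
  have hgencoe : (gen : M'') = z'' := IntermediateField.AdjoinSimple.coe_gen L z''
  have hgenroot : gen ^ p - gen = algebraMap B Mb b := by
    apply Subtype.ext
    change (gen : M'') ^ p - (gen : M'') = algebraMap Mb M'' (algebraMap B Mb b)
    rw [hgencoe, hz'', hBMb]
  -- `B → Cb` is weakly unramified
  obtain ⟨πB, hπB⟩ := IsDiscreteValuationRing.exists_irreducible B
  haveI : CharP (ResidueField B) p := Groth.Agent.Lib.T2H9.ASCases.charP_residue p B L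
  letI algBCb : Algebra B Cb := (RingHom.codRestrict (algebraMap B Mb) Cb hCbB.1).toAlgebra
  haveI hlocBCb : IsLocalHom (algebraMap B Cb) := isLocalHom_of_dominates (algebraMap B Mb) Cb hCbB
  have hwBCb : EtRam.IsWeaklyUnramified B Cb := by
    have h1 := Groth.Agent.Lib.T2H9.UnramLocal.unramified_local B L Mb πB hπB gen hgentop
      (asPoly p b) (asPoly_monic p hp.two_le b)
      (by rw [aeval_asPoly, hgenroot, sub_self])
      (by rw [map_asPoly]; exact asPoly_separable p _) Cb hCbB
    exact h1.1
  -- `A → Cb`
  letI algACb : Algebra A Cb := ((algebraMap B Cb).comp (algebraMap A B)).toAlgebra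
  haveI : IsScalarTower A B Cb := IsScalarTower.of_algebraMap_eq (fun _ => rfl)
  haveI hlocACb : IsLocalHom (algebraMap A Cb) := by
    change IsLocalHom ((algebraMap B Cb).comp (algebraMap A B))
    exact RingHom.isLocalHom_comp _ _
  have hinjBMb : Function.Injective (algebraMap B Mb) :=
    (algebraMap L Mb).injective.comp (IsFractionRing.injective B L)
  have hinjACb : Function.Injective (algebraMap A Cb) := by
    intro a a' haa'
    apply hinj
    apply hinjBMb
    exact congrArg Subtype.val haa'
  have hwACb : EtRam.IsWeaklyUnramified A Cb := by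
    unfold EtRam.IsWeaklyUnramified at hw hwBCb ⊢
    rw [IsScalarTower.algebraMap_eq A B Cb, ← Ideal.map_map, hw, hwBCb]
  letI algKMb : Algebra K Mb := ((algebraMap L Mb).comp (algebraMap K L)).toAlgebra
  haveI : IsScalarTower K L Mb := IsScalarTower.of_algebraMap_eq (fun _ => rfl)
  letI algAMb : Algebra A Mb := ((algebraMap L Mb).comp (algebraMap A L)).toAlgebra
  haveI : IsScalarTower A L Mb := IsScalarTower.of_algebraMap_eq (fun _ => rfl)
  haveI : IsScalarTower A K Mb := IsScalarTower.of_algebraMap_eq (fun a => by
    change algebraMap L Mb (algebraMap A L a) = algebraMap L Mb (algebraMap K L (algebraMap A K a))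
    rw [← IsScalarTower.algebraMap_apply A K L])
  haveI : IsScalarTower A Cb Mb := IsScalarTower.of_algebraMap_eq (fun a => by
    change algebraMap L Mb (algebraMap A L a) = algebraMap L Mb (algebraMap B L (algebraMap A B a))
    rw [← IsScalarTower.algebraMap_apply A B L])
  have hsol := (Groth.Agent.S1984.result A Cb K Mb hinjACb hwACb K₁ ht).2
  haveI : IsScalarTower K Mb M'' := IsScalarTower.of_algebraMap_eq (fun k => by
    change algebraMap K M'' k = algebraMap L M'' (algebraMap K L k)
    rw [← IsScalarTower.algebraMap_apply K L M''])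
  have hgen' : Algebra.adjoin Mb (Set.range (algebraMap K₁ M'')) = ⊤ := by
    rw [eq_top_iff]
    intro x hxtop
    clear hxtop
    set T' := Algebra.adjoin Mb (Set.range (algebraMap K₁ M'')) with hT'
    have hLT : ∀ l : L, algebraMap L M'' l ∈ T' := fun l =>
      T'.algebraMap_mem (algebraMap L Mb l)
    have hzT : zF ∈ T' := by
      have h1 : zF = z'' + yF + wF := by rw [hz''def]; ring
      rw [h1]
      refine T'.add_mem (T'.add_mem ?_ (hLT y)) (Algebra.subset_adjoin ⟨w, rfl⟩)
      rw [← hgencoe]
      exact T'.algebraMap_mem gen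
    have hMT : ∀ m : M, algebraMap M M'' m ∈ T' := by
      intro m
      have hm : m ∈ Algebra.adjoin L {z} := by rw [hzgen]; exact Algebra.mem_top
      induction hm using Algebra.adjoin_induction with
      | mem m hm =>
        rw [Set.mem_singleton_iff] at hm
        rw [hm]
        exact hzT
      | algebraMap l => exact hLT l
      | add m m' _ _ h1 h2 => rw [map_add]; exact T'.add_mem h1 h2
      | mul m m' _ _ h1 h2 => rw [map_mul]; exact T'.mul_mem h1 h2
    have hx : x ∈ Algebra.adjoin M (Set.range (algebraMap K₁ M'')) := by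
      rw [hgen]; exact Algebra.mem_top
    induction hx using Algebra.adjoin_induction with
    | mem x hx => exact Algebra.subset_adjoin hx
    | algebraMap m => exact hMT m
    | add x x' _ _ h1 h2 => exact T'.add_mem h1 h2
    | mul x x' _ _ h1 h2 => exact T'.mul_mem h1 h2
  have hWCb : EtRam.Dominates Cb ((algebraMap Mb M'').comp (algebraMap Cb Mb)) W := by
    refine ⟨fun c => c.2, fun c hc => ?_⟩
    rw [ValuationSubring.valuation_lt_one_iff, valuation_comap_lt_one_iff] at hc
    exact hc
  exact hsol M'' hgen' W hWCb

end main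

end Groth.Agent.Lib.T2H9.ASEmpty
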