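import Mathlib

/-!
# Artin–Schreier: a Galois extension of degree `p` in characteristic `p` is generated by a root of
`X ^ p - X - ξ`
-/

set_option autoImplicit false
set_option linter.style.haveILetI false
set_option linter.unusedSectionVars false
universe u

namespace Groth.Agent.Lib.T2H9.ASGen

open Module

variable (p : ℕ) [hpf : Fact p.Prime] (L M : Type u) [Field L] [Field M] [Algebra L M]
  [CharP L p] [IsGalois L M]

theorem exists_artinSchreier (hdeg : finrank L M = p) :
    ∃ z : M, z ∉ Set.range (algebraMap L M) ∧ ∃ ξ : L, z ^ p - z = algebraMap L M ξ := by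
  classical
  have hp : p.Prime := hpf.out
  haveI : FiniteDimensional L M := Module.finite_of_finrank_pos (hdeg ▸ hp.pos)
  haveI : CharP M p := charP_of_injective_algebraMap (algebraMap L M).injective p
  have hcard : Nat.card Gal(M/L) = p := by rw [IsGalois.card_aut_eq_finrank, hdeg]
  haveI : Finite Gal(M/L) := Nat.finite_of_card_ne_zero (hcard ▸ hp.ne_zero)
  haveI : Nontrivial Gal(M/L) := by
    rw [← Finite.one_lt_card_iff_nontrivial, hcard]
    exact hp.one_lt
  obtain ⟨σ, hσ⟩ := exists_ne (1 : Gal(M/L))
  have hzp : Subgroup.zpowers σ = ⊤ := zpowers_eq_top_of_prime_card hcard hσ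
  have hfix : ∀ x : M, σ x = x → x ∈ Set.range (algebraMap L M) := by
    intro x hx
    rw [IsGalois.mem_range_algebraMap_iff_fixed]
    intro τ
    have hτ : τ ∈ Subgroup.zpowers σ := by rw [hzp]; trivial
    obtain ⟨k, rfl⟩ := Subgroup.mem_zpowers_iff.mp hτ
    have hstab : σ ∈ MulAction.stabilizer Gal(M/L) x := hx
    exact (MulAction.stabilizer Gal(M/L) x).zpow_mem hstab k
  set N : M →ₗ[L] M := σ.toLinearMap - LinearMap.id with hN
  have hNapp : ∀ x, N x = σ x - x := fun x => rfl
  set T : M →ₗ[L] L := Algebra.trace L M with hT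
  have hker : LinearMap.ker N = LinearMap.range (Algebra.linearMap L M) := by
    ext x
    rw [LinearMap.mem_ker, hNapp, sub_eq_zero, LinearMap.mem_range]
    constructor
    · intro hx
      obtain ⟨l, hl⟩ := hfix x hx
      exact ⟨l, hl⟩
    · rintro ⟨l, rfl⟩
      exact σ.commutes l
  have hkerdim : finrank L (LinearMap.ker N) = 1 := by
    rw [hker, LinearMap.finrank_range_of_inj (algebraMap L M).injective, finrank_self]
  have hrangedim : finrank L (LinearMap.range N) + 1 = p := by
    rw [← hkerdim, LinearMap.finrank_range_add_finrank_ker, hdeg]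
  have hTsurj : Function.Surjective T := Algebra.trace_surjective L M
  have hTker : finrank L (LinearMap.ker T) + 1 = p := by
    have h1 := LinearMap.finrank_range_add_finrank_ker T
    rw [LinearMap.range_eq_top.mpr hTsurj, finrank_top, finrank_self, hdeg] at h1
    omega
  have hle : LinearMap.range N ≤ LinearMap.ker T := by
    rintro _ ⟨x, rfl⟩
    rw [LinearMap.mem_ker, hNapp, map_sub, hT, Algebra.trace_eq_of_algEquiv σ x, sub_self]
  have heq : LinearMap.range N = LinearMap.ker T :=
    Submodule.eq_of_le_of_finrank_eq hle (by omega)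
  have h1 : (1 : M) ∈ LinearMap.ker T := by
    rw [LinearMap.mem_ker, hT, ← map_one (algebraMap L M), Algebra.trace_algebraMap, hdeg,
      nsmul_eq_mul, mul_one, CharP.cast_eq_zero]
  rw [← heq] at h1
  obtain ⟨z, hz⟩ := h1
  rw [hNapp, sub_eq_iff_eq_add] at hz
  refine ⟨z, ?_, ?_⟩
  · rintro ⟨l, rfl⟩
    rw [σ.commutes] at hz
    exact one_ne_zero (α := M) (by linear_combination -hz)
  · have h2 : σ (z ^ p - z) = z ^ p - z := by
      rw [map_sub, map_pow, hz, add_pow_char, one_pow]
      ring
    obtain ⟨ξ, hξ⟩ := hfix _ h2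
    exact ⟨ξ, hξ.symm⟩

end Groth.Agent.Lib.T2H9.ASGen
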