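import Mathlib

/-!
# A normal form for Artin–Schreier classes over a discretely valued field of characteristic `p`

Let `B` be a discrete valuation ring with fraction field `L` of characteristic `p` and uniformizer
`ϖ`.  Modulo `℘(L) + B` (where `℘ y = y ^ p - y`) and modulo an additive subgroup `KA` of "harmless"
elements, every element of `L` is a finite sum of terms `μ ^ (p ^ r) * ϖ ^ (-j)` with pairwise
distinct pairs `(j, r)` in lowest form (`r = 0` or `p ∤ j`) and with the residue of `μ` not a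
`p`-th power.
-/

set_option autoImplicit false
set_option linter.style.haveILetI false
set_option linter.unusedSectionVars false
universe u

namespace Groth.Agent.Lib.T2H9.ASNormalForm

open IsLocalRing

section defs

variable (p : ℕ) [hp : Fact p.Prime] (B L : Type u) [CommRing B] [Field L] [Algebra B L]
  [CharP L p]

/-- The subgroup `℘(L) + B`. -/
def G : AddSubgroup L where
  carrier := {x | ∃ (y : L) (b : B), x = y ^ p - y + algebraMap B L b}
  zero_mem' := ⟨0, 0, by simp [zero_pow hp.out.ne_zero]⟩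
  add_mem' := by
    rintro _ _ ⟨y, b, rfl⟩ ⟨y', b', rfl⟩
    refine ⟨y + y', b + b', ?_⟩
    rw [add_pow_char, map_add]
    ring
  neg_mem' := by
    rintro _ ⟨y, b, rfl⟩
    refine ⟨-y, -b, ?_⟩
    have h1 : (-y) ^ p = -(y ^ p) := by
      have := sub_pow_char (p := p) (0 : L) y
      simpa [zero_pow hp.out.ne_zero] using this
    rw [h1, map_neg]
    ring

variable {p B L}

theorem mem_G {x : L} : x ∈ G p B L ↔ ∃ (y : L) (b : B), x = y ^ p - y + algebraMap B L b :=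
  Iff.rfl

theorem algebraMap_mem_G (b : B) : algebraMap B L b ∈ G p B L :=
  ⟨0, b, by simp [zero_pow hp.out.ne_zero]⟩

theorem wp_mem_G (y : L) : y ^ p - y ∈ G p B L := ⟨y, 0, by simp⟩

theorem pow_pow_sub_mem_G (y : L) (t : ℕ) : y ^ (p ^ t) - y ∈ G p B L := by
  induction t with
  | zero => simp [(G p B L).zero_mem]
  | succ t ih =>
    have h1 : y ^ (p ^ (t + 1)) - y = ((y ^ (p ^ t)) ^ p - y ^ (p ^ t)) + (y ^ (p ^ t) - y) := by
      rw [← pow_mul, ← pow_succ]; ring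
    rw [h1]
    exact (G p B L).add_mem (wp_mem_G _) ih

end defs

section nf

variable (p : ℕ) [hp : Fact p.Prime] {B L : Type u} [CommRing B] [IsDomain B]
  [IsDiscreteValuationRing B] [Field L] [Algebra B L] [IsFractionRing B L] [CharP L p]
  (ϖ : B)

/-- A single term `μ ^ (p ^ r) * ϖ ^ (-j)`. -/
noncomputable def term (jr : ℕ × ℕ) (m : B) : L :=
  algebraMap B L m ^ (p ^ jr.2) * ((algebraMap B L ϖ)⁻¹) ^ jr.1

/-- The value of a family of terms. -/
noncomputable def val (S : Finset (ℕ × ℕ)) (μ : ℕ × ℕ → B) : L :=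
  ∑ jr ∈ S, term (L := L) p ϖ jr (μ jr)

/-- Validity of a family of terms. -/
def Valid (S : Finset (ℕ × ℕ)) (μ : ℕ × ℕ → B) : Prop :=
  ∀ jr ∈ S, 1 ≤ jr.1 ∧ (jr.2 = 0 ∨ ¬ p ∣ jr.1) ∧ ∀ c : B, residue B (μ jr) ≠ residue B c ^ p

variable {p ϖ}

theorem val_insert [DecidableEq (ℕ × ℕ)] {S : Finset (ℕ × ℕ)} {μ : ℕ × ℕ → B} {jr : ℕ × ℕ}
    (h : jr ∉ S) (m : B) :
    val (L := L) p ϖ (insert jr S) (Function.update μ jr m) =
      term p ϖ jr m + val p ϖ S μ := by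
  rw [val, Finset.sum_insert h, Function.update_self, val]
  congr 1
  refine Finset.sum_congr rfl fun x hx => ?_
  rw [Function.update_of_ne]
  rintro rfl
  exact h hx

theorem val_erase [DecidableEq (ℕ × ℕ)] {S : Finset (ℕ × ℕ)} (μ : ℕ × ℕ → B) {jr : ℕ × ℕ}
    (h : jr ∈ S) :
    val (L := L) p ϖ S μ = term p ϖ jr (μ jr) + val p ϖ (S.erase jr) μ := by
  rw [val, val]
  exact (Finset.add_sum_erase S (fun x => term (L := L) p ϖ x (μ x)) h).symm

theorem val_update [DecidableEq (ℕ × ℕ)] {S : Finset (ℕ × ℕ)} (μ : ℕ × ℕ → B) {jr : ℕ × ℕ}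
    (h : jr ∈ S) (m : B) :
    val (L := L) p ϖ S (Function.update μ jr m) =
      term p ϖ jr m + val p ϖ (S.erase jr) μ := by
  rw [val_erase _ h, Function.update_self]
  congr 1
  refine Finset.sum_congr rfl fun x hx => ?_
  rw [Function.update_of_ne (Finset.ne_of_mem_erase hx)]

theorem term_add (jr : ℕ × ℕ) (m m' : B) :
    term (L := L) p ϖ jr (m + m') = term p ϖ jr m + term p ϖ jr m' := by
  rw [term, term, term, map_add, add_pow_char_pow, add_mul]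

theorem exists_lowest (M s : ℕ) (hM : 1 ≤ M) :
    ∃ j₀ r₀ t : ℕ, M = j₀ * p ^ t ∧ s = r₀ + t ∧ 1 ≤ j₀ ∧ (r₀ = 0 ∨ ¬ p ∣ j₀) := by
  obtain ⟨t', j', hj', hMeq⟩ := Nat.exists_eq_pow_mul_and_not_dvd (n := M) (by omega) p
    hp.out.ne_one
  by_cases hst : s ≤ t'
  · refine ⟨p ^ (t' - s) * j', 0, s, ?_, by omega, ?_, Or.inl rfl⟩
    · rw [hMeq, mul_right_comm, ← pow_add, Nat.sub_add_cancel hst]
    · have h1 : 0 < p ^ (t' - s) := pow_pos hp.out.pos _
      have h2 : 0 < j' := Nat.pos_of_ne_zero (fun h => hj' (h ▸ dvd_zero p))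
      exact Nat.mul_pos h1 h2
  · refine ⟨j', s - t', t', ?_, by omega, ?_, Or.inr hj'⟩
    · rw [hMeq, mul_comm]
    · exact Nat.pos_of_ne_zero (fun h => hj' (h ▸ dvd_zero p))

theorem lowest_sub_mem_G (μ₀ : B) {M s j₀ r₀ t : ℕ} (hM : M = j₀ * p ^ t) (hs : s = r₀ + t) :
    algebraMap B L μ₀ ^ (p ^ s) * ((algebraMap B L ϖ)⁻¹) ^ M - term p ϖ (j₀, r₀) μ₀ ∈ G p B L := by
  have h1 : algebraMap B L μ₀ ^ (p ^ s) * ((algebraMap B L ϖ)⁻¹) ^ M =
      (term (L := L) p ϖ (j₀, r₀) μ₀) ^ (p ^ t) := by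
    rw [term, mul_pow, ← pow_mul, ← pow_mul, ← pow_add, hM, hs]
  rw [h1]
  exact pow_pow_sub_mem_G _ _

variable (p ϖ) in
/-- `x` has a pole of order at most `m`. -/
def PoleLE (m : ℕ) (x : L) : Prop := ∃ c : B, x = algebraMap B L c * ((algebraMap B L ϖ)⁻¹) ^ m

variable (p ϖ) in
/-- `x` has a normal form modulo `KA`. -/
def NF (KA : AddSubgroup L) (x : L) : Prop :=
  ∃ k ∈ KA, ∃ (S : Finset (ℕ × ℕ)) (μ : ℕ × ℕ → B), Valid p S μ ∧
    x - k - val p ϖ S μ ∈ G p B L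

theorem poleLE_succ_of_poleLE (hϖ0 : ϖ ≠ 0) {m : ℕ} {x : L} (h : PoleLE ϖ m x) :
    PoleLE ϖ (m + 1) x := by
  obtain ⟨c, rfl⟩ := h
  refine ⟨c * ϖ, ?_⟩
  have h0 : algebraMap B L ϖ ≠ 0 := by
    rwa [Ne, map_eq_zero_iff _ (IsFractionRing.injective B L)]
  rw [map_mul, pow_succ]
  field_simp

theorem poleLE_mono (hϖ0 : ϖ ≠ 0) {m n : ℕ} (hmn : m ≤ n) {x : L} (h : PoleLE ϖ m x) :
    PoleLE ϖ n x := by
  induction n, hmn using Nat.le_induction with
  | base => exact h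
  | succ n _ ih => exact poleLE_succ_of_poleLE hϖ0 ih

theorem poleLE_add {m : ℕ} {x y : L} (hx : PoleLE ϖ m x) (hy : PoleLE ϖ m y) :
    PoleLE ϖ m (x + y) := by
  obtain ⟨c, rfl⟩ := hx
  obtain ⟨d, rfl⟩ := hy
  exact ⟨c + d, by rw [map_add, add_mul]⟩

theorem nf_step [DecidableEq (ℕ × ℕ)] (hϖ : maximalIdeal B = Ideal.span {ϖ}) (KA : AddSubgroup L)
    (hdich : ∀ c : B,
      (∃ c₀ : B, c - c₀ ∈ maximalIdeal B ∧
        ∀ n : ℕ, algebraMap B L c₀ * ((algebraMap B L ϖ)⁻¹) ^ n ∈ KA) ∨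
      (∃ (s : ℕ) (μ₀ : B), c - μ₀ ^ (p ^ s) ∈ maximalIdeal B ∧
        ∀ d : B, residue B μ₀ ≠ residue B d ^ p))
    (m : ℕ)
    (ihm : ∀ (x : L), PoleLE ϖ m x → ∀ (S : Finset (ℕ × ℕ)) (μ : ℕ × ℕ → B), Valid p S μ →
      NF p ϖ KA (x + val p ϖ S μ))
    (x : L) (hx : PoleLE ϖ (m + 1) x) (S : Finset (ℕ × ℕ)) (μ : ℕ × ℕ → B) (hV : Valid p S μ)
    (ihS : ∀ (x' : L), PoleLE ϖ (m + 1) x' → ∀ jr ∈ S,
      NF p ϖ KA (x' + val p ϖ (S.erase jr) μ)) :
    NF p ϖ KA (x + val p ϖ S μ) := by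
  have hϖ0 : ϖ ≠ 0 := by
    have hirr : Irreducible ϖ := (IsDiscreteValuationRing.irreducible_iff_uniformizer ϖ).mpr hϖ
    exact hirr.ne_zero
  have h0 : algebraMap B L ϖ ≠ 0 := by
    rwa [Ne, map_eq_zero_iff _ (IsFractionRing.injective B L)]
  obtain ⟨c, rfl⟩ := hx
  set ϖi : L := (algebraMap B L ϖ)⁻¹ with hϖi
  have hstep : ∀ c' : B, algebraMap B L (ϖ * c') * ϖi ^ (m + 1) = algebraMap B L c' * ϖi ^ m := by
    intro c'
    rw [map_mul, pow_succ, hϖi]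
    field_simp
  rcases hdich c with ⟨c₀, hc₀, hKA⟩ | ⟨s, μ₀, hμ₀, hres⟩
  · rw [hϖ, Ideal.mem_span_singleton'] at hc₀
    obtain ⟨c', hc'⟩ := hc₀
    obtain ⟨k, hk, S', μ', hV', hG⟩ := ihm (algebraMap B L c' * ϖi ^ m) ⟨c', rfl⟩ S μ hV
    refine ⟨k + algebraMap B L c₀ * ϖi ^ (m + 1), KA.add_mem hk (hKA _), S', μ', hV', ?_⟩
    have h1 : algebraMap B L c * ϖi ^ (m + 1) =
        algebraMap B L c₀ * ϖi ^ (m + 1) + algebraMap B L c' * ϖi ^ m := by
      rw [← hstep c', ← add_mul, ← map_add, mul_comm ϖ c', hc']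
      congr 2; ring
    rw [h1]
    have h2 : algebraMap B L c₀ * ϖi ^ (m + 1) + algebraMap B L c' * ϖi ^ m + val p ϖ S μ -
        (k + algebraMap B L c₀ * ϖi ^ (m + 1)) - val p ϖ S' μ' =
        algebraMap B L c' * ϖi ^ m + val p ϖ S μ - k - val p ϖ S' μ' := by ring
    rw [h2]
    exact hG
  · rw [hϖ, Ideal.mem_span_singleton'] at hμ₀
    obtain ⟨c', hc'⟩ := hμ₀
    obtain ⟨j₀, r₀, t, hM, hs, hj₀, hlow⟩ := exists_lowest (p := p) (m + 1) s (by omega)
    have hD := lowest_sub_mem_G (L := L) (ϖ := ϖ) μ₀ hM hs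
    set D : L := algebraMap B L μ₀ ^ (p ^ s) * ϖi ^ (m + 1) - term p ϖ (j₀, r₀) μ₀ with hDdef
    have h1 : algebraMap B L c * ϖi ^ (m + 1) =
        D + term p ϖ (j₀, r₀) μ₀ + algebraMap B L c' * ϖi ^ m := by
      rw [← hstep c', hDdef, sub_add_cancel, ← map_pow, ← add_mul, ← map_add, mul_comm ϖ c', hc']
      congr 2; ring
    by_cases hmem : (j₀, r₀) ∈ S
    · -- merge with the existing term and reprocess
      have hx'' : PoleLE ϖ (m + 1) (algebraMap B L c' * ϖi ^ m +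
          term p ϖ (j₀, r₀) (μ₀ + μ (j₀, r₀))) := by
        refine poleLE_add (poleLE_succ_of_poleLE hϖ0 ⟨c', rfl⟩) ?_
        have hle : j₀ ≤ m + 1 := by
          rw [hM]; exact Nat.le_mul_of_pos_right _ (pow_pos hp.out.pos _)
        exact poleLE_mono hϖ0 hle ⟨(μ₀ + μ (j₀, r₀)) ^ (p ^ r₀), by rw [term, map_pow]⟩
      obtain ⟨k, hk, S', μ', hV', hG⟩ := ihS _ hx'' _ hmem
      refine ⟨k, hk, S', μ', hV', ?_⟩
      rw [h1, val_erase μ hmem]
      have h2 : D + term p ϖ (j₀, r₀) μ₀ + algebraMap B L c' * ϖi ^ m +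
          (term p ϖ (j₀, r₀) (μ (j₀, r₀)) + val p ϖ (S.erase (j₀, r₀)) μ) - k - val p ϖ S' μ' =
          (algebraMap B L c' * ϖi ^ m + term p ϖ (j₀, r₀) (μ₀ + μ (j₀, r₀)) +
            val p ϖ (S.erase (j₀, r₀)) μ - k - val p ϖ S' μ') + D := by
        rw [term_add]; ring
      rw [h2]
      exact (G p B L).add_mem hG hD
    · -- a new term
      have hVnew : Valid p (insert (j₀, r₀) S) (Function.update μ (j₀, r₀) μ₀) := by
        intro jr hjr
        rcases Finset.mem_insert.mp hjr with rfl | hjr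
        · rw [Function.update_self]
          exact ⟨hj₀, hlow, hres⟩
        · have hne : jr ≠ (j₀, r₀) := by
            rintro rfl
            exact hmem hjr
          rw [Function.update_of_ne hne]
          exact hV jr hjr
      obtain ⟨k, hk, S', μ', hV', hG⟩ := ihm (algebraMap B L c' * ϖi ^ m) ⟨c', rfl⟩ _ _ hVnew
      refine ⟨k, hk, S', μ', hV', ?_⟩
      rw [val_insert hmem] at hG
      rw [h1]
      have h2 : D + term p ϖ (j₀, r₀) μ₀ + algebraMap B L c' * ϖi ^ m + val p ϖ S μ - k -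
          val p ϖ S' μ' =
          (algebraMap B L c' * ϖi ^ m + (term p ϖ (j₀, r₀) μ₀ + val p ϖ S μ) - k -
            val p ϖ S' μ') + D := by ring
      rw [h2]
      exact (G p B L).add_mem hG hD

theorem nf_aux [DecidableEq (ℕ × ℕ)] (hϖ : maximalIdeal B = Ideal.span {ϖ}) (KA : AddSubgroup L)
    (hdich : ∀ c : B,
      (∃ c₀ : B, c - c₀ ∈ maximalIdeal B ∧
        ∀ n : ℕ, algebraMap B L c₀ * ((algebraMap B L ϖ)⁻¹) ^ n ∈ KA) ∨
      (∃ (s : ℕ) (μ₀ : B), c - μ₀ ^ (p ^ s) ∈ maximalIdeal B ∧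
        ∀ d : B, residue B μ₀ ≠ residue B d ^ p)) :
    ∀ (m : ℕ) (x : L), PoleLE ϖ m x → ∀ (S : Finset (ℕ × ℕ)) (μ : ℕ × ℕ → B), Valid p S μ →
      NF p ϖ KA (x + val p ϖ S μ) := by
  intro m
  induction m with
  | zero =>
    rintro x ⟨c, rfl⟩ S μ hV
    refine ⟨0, KA.zero_mem, S, μ, hV, ?_⟩
    rw [pow_zero, mul_one, sub_zero, add_sub_cancel_right]
    exact algebraMap_mem_G c
  | succ m ihm =>
    suffices hQ : ∀ (n : ℕ) (x : L), PoleLE ϖ (m + 1) x → ∀ (S : Finset (ℕ × ℕ))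
        (μ : ℕ × ℕ → B), S.card = n → Valid p S μ → NF p ϖ KA (x + val p ϖ S μ) from
      fun x hx S μ hV => hQ S.card x hx S μ rfl hV
    intro n
    induction n with
    | zero =>
      intro x hx S μ hcard hV
      refine nf_step hϖ KA hdich m ihm x hx S μ hV ?_
      intro x' _ jr hjr
      rw [Finset.card_eq_zero.mp hcard] at hjr
      exact absurd hjr (Finset.notMem_empty _)
    | succ n ihn =>
      intro x hx S μ hcard hV
      refine nf_step hϖ KA hdich m ihm x hx S μ hV ?_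
      intro x' hx' jr hjr
      refine ihn x' hx' (S.erase jr) μ ?_ ?_
      · rw [Finset.card_erase_of_mem hjr, hcard]; rfl
      · exact fun jr' hjr' => hV jr' (Finset.mem_of_mem_erase hjr')

/-- Every element of `L` has a normal form. -/
theorem exists_nf [DecidableEq (ℕ × ℕ)] (hϖ : maximalIdeal B = Ideal.span {ϖ}) (KA : AddSubgroup L)
    (hdich : ∀ c : B,
      (∃ c₀ : B, c - c₀ ∈ maximalIdeal B ∧
        ∀ n : ℕ, algebraMap B L c₀ * ((algebraMap B L ϖ)⁻¹) ^ n ∈ KA) ∨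
      (∃ (s : ℕ) (μ₀ : B), c - μ₀ ^ (p ^ s) ∈ maximalIdeal B ∧
        ∀ d : B, residue B μ₀ ≠ residue B d ^ p))
    (x : L) : NF p ϖ KA x := by
  have hirr : Irreducible ϖ := (IsDiscreteValuationRing.irreducible_iff_uniformizer ϖ).mpr hϖ
  have h0 : algebraMap B L ϖ ≠ 0 := by
    rw [Ne, map_eq_zero_iff _ (IsFractionRing.injective B L)]
    exact hirr.ne_zero
  obtain ⟨m, hm⟩ : ∃ m : ℕ, PoleLE ϖ m x := by
    obtain ⟨c, d, hd, rfl⟩ := IsFractionRing.div_surjective (A := B) x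
    have hd0 : d ≠ 0 := nonZeroDivisors.ne_zero hd
    obtain ⟨m, u, hu⟩ := IsDiscreteValuationRing.eq_unit_mul_pow_irreducible hd0 hirr
    refine ⟨m, c * ((u⁻¹ : Bˣ) : B), ?_⟩
    have hu' : algebraMap B L (u : B) * algebraMap B L ((u⁻¹ : Bˣ) : B) = 1 := by
      rw [← map_mul, Units.mul_inv, map_one]
    have hu0 : algebraMap B L (u : B) ≠ 0 := left_ne_zero_of_mul_eq_one hu'
    rw [hu, map_mul, map_mul, map_pow, inv_pow, eq_inv_of_mul_eq_one_right hu']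
    field_simp
  have := nf_aux hϖ KA hdich m x hm ∅ (fun _ => 0) (fun jr hjr => absurd hjr (Finset.notMem_empty _))
  rwa [val, Finset.sum_empty, add_zero] at this

end nf

end Groth.Agent.Lib.T2H9.ASNormalForm
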