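import Mathlib
import Groth.Prelude.Def_EtRam

set_option autoImplicit false
set_option linter.style.haveILetI false
set_option linter.unusedSectionVars false
universe u

/-!
# The key computation for a purely inseparable step: a residue that is not a `p`-th power
-/

namespace Groth.Agent.Lib.T2H9.PIStepKey

open IsLocalRing Polynomial

section key

variable (p : ℕ) {F : Type u} [Field F] (W : ValuationSubring F)

theorem val_pow_sub_pow_le (π X : F) (γ : W.ValueGroup) (hπ : W.valuation π ≤ 1)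
    (hX : W.valuation X ≤ 1) (h : W.valuation (π - X) ≤ γ) (j : ℕ) :
    W.valuation (π ^ j - X ^ j) ≤ γ := by
  induction j with
  | zero => rw [pow_zero, pow_zero, sub_self, map_zero]; exact zero_le
  | succ j ih =>
    have h1 : π ^ (j + 1) - X ^ (j + 1) = π ^ j * (π - X) + (π ^ j - X ^ j) * X := by ring
    rw [h1]
    refine (W.valuation.map_add _ _).trans (max_le ?_ ?_)
    · rw [map_mul, map_pow]
      calc W.valuation π ^ j * W.valuation (π - X) ≤ 1 * γ :=
            mul_le_mul' (pow_le_one' hπ j) h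
        _ = γ := one_mul _
    · rw [map_mul]
      calc W.valuation (π ^ j - X ^ j) * W.valuation X ≤ γ * 1 := mul_le_mul' ih hX
        _ = γ := mul_one _

theorem val_pow_eq (π x b₀ : F) (m : ℕ) (hπ : W.valuation π < 1) (hb₀ : b₀ ∈ W)
    (hx : x ^ p = π + π ^ (m + 2) * b₀) :
    x ^ p = π * (1 + π ^ (m + 1) * b₀) ∧ W.valuation (1 + π ^ (m + 1) * b₀) = 1 ∧
      W.valuation (x ^ p) = W.valuation π := by
  have hvb₀ : W.valuation b₀ ≤ 1 := (W.valuation_le_one_iff _).mpr hb₀
  have h1 : W.valuation (π ^ (m + 1) * b₀) < 1 := by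
    rw [map_mul, map_pow]
    calc W.valuation π ^ (m + 1) * W.valuation b₀ ≤ W.valuation π ^ (m + 1) * 1 :=
          mul_le_mul' le_rfl hvb₀
      _ = W.valuation π ^ (m + 1) := mul_one _
      _ < 1 := pow_lt_one₀ zero_le hπ (Nat.succ_ne_zero m)
  have hxε : x ^ p = π * (1 + π ^ (m + 1) * b₀) := by rw [hx]; ring
  have hvε : W.valuation (1 + π ^ (m + 1) * b₀) = 1 := W.valuation.map_one_add_of_lt h1
  exact ⟨hxε, hvε, by rw [hxε, map_mul, hvε, mul_one]⟩

theorem key [CharP F p] (hp : p.Prime) (π x b₀ u b πC : F) (c : ℕ → F) (m : ℕ)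
    (hπ : W.valuation π < 1) (hπ0 : π ≠ 0)
    (hb₀ : b₀ ∈ W) (hx : x ^ p = π + π ^ (m + 2) * b₀)
    (hc : ∀ i, c i ∈ W) (hb : b ∈ W)
    (hu : u = ∑ i ∈ Finset.range m, c i ^ p * π ^ i + b * π ^ m)
    (hπC : πC ^ p = u * π) :
    ∃ z : F, z ∈ W ∧ W.valuation (z ^ p - b) < 1 := by
  haveI : Fact p.Prime := ⟨hp⟩
  have hvb₀ : W.valuation b₀ ≤ 1 := (W.valuation_le_one_iff _).mpr hb₀
  have hvb : W.valuation b ≤ 1 := (W.valuation_le_one_iff _).mpr hb
  have hvc : ∀ i, W.valuation (c i) ≤ 1 := fun i => (W.valuation_le_one_iff _).mpr (hc i)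
  have hvπ0 : W.valuation π ≠ 0 := (W.valuation.ne_zero_iff).mpr hπ0
  have hvπpos : 0 < W.valuation π := zero_lt_iff.mpr hvπ0
  set γ : W.ValueGroup := W.valuation π ^ (m + 2) with hγ
  -- the valuation of `x ^ p`
  have h1 : W.valuation (π ^ (m + 1) * b₀) < 1 := by
    rw [map_mul, map_pow]
    calc W.valuation π ^ (m + 1) * W.valuation b₀ ≤ W.valuation π ^ (m + 1) * 1 :=
          mul_le_mul' le_rfl hvb₀
      _ = W.valuation π ^ (m + 1) := mul_one _
      _ < 1 := pow_lt_one₀ zero_le hπ (Nat.succ_ne_zero m)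
  have hxε : x ^ p = π * (1 + π ^ (m + 1) * b₀) := by rw [hx]; ring
  have hvε : W.valuation (1 + π ^ (m + 1) * b₀) = 1 := W.valuation.map_one_add_of_lt h1
  have hvxp : W.valuation (x ^ p) = W.valuation π := by rw [hxε, map_mul, hvε, mul_one]
  have hdiff : W.valuation (π - x ^ p) ≤ γ := by
    have : π - x ^ p = -(π ^ (m + 2) * b₀) := by rw [hx]; ring
    rw [this, Valuation.map_neg, map_mul, map_pow]
    calc W.valuation π ^ (m + 2) * W.valuation b₀ ≤ W.valuation π ^ (m + 2) * 1 :=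
          mul_le_mul' le_rfl hvb₀
      _ = γ := mul_one _
  have hA : ∀ j, W.valuation (π ^ j - x ^ (p * j)) ≤ γ := by
    intro j
    rw [pow_mul]
    exact val_pow_sub_pow_le W π (x ^ p) γ hπ.le (hvxp.le.trans hπ.le) hdiff j
  have hx0 : x ≠ 0 := by
    intro h0
    rw [h0, zero_pow hp.ne_zero, map_zero] at hvxp
    exact hvπ0 hvxp.symm
  -- the auxiliary elements
  set y : F := ∑ i ∈ Finset.range m, c i * x ^ (i + 1) with hy
  have hyp : y ^ p = ∑ i ∈ Finset.range m, c i ^ p * x ^ (p * (i + 1)) := by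
    rw [hy, sum_pow_char]
    refine Finset.sum_congr rfl (fun i _ => ?_)
    rw [mul_pow, ← pow_mul, mul_comm (i + 1) p]
  set N : F := πC ^ p - y ^ p - b * x ^ (p * (m + 1)) with hN
  have hNeq : N = ∑ i ∈ Finset.range m, c i ^ p * (π ^ (i + 1) - x ^ (p * (i + 1))) +
      b * (π ^ (m + 1) - x ^ (p * (m + 1))) := by
    rw [hN, hπC, hu, hyp, add_mul, Finset.sum_mul]
    simp only [mul_sub, Finset.sum_sub_distrib]
    have : ∀ i, c i ^ p * π ^ i * π = c i ^ p * π ^ (i + 1) := fun i => by ring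
    simp only [this]
    ring
  have hvN : W.valuation N ≤ γ := by
    rw [hNeq]
    refine (W.valuation.map_add _ _).trans (max_le ?_ ?_)
    · apply W.valuation.map_sum_le
      intro i _
      rw [map_mul, map_pow]
      calc W.valuation (c i) ^ p * W.valuation (π ^ (i + 1) - x ^ (p * (i + 1))) ≤ 1 * γ :=
            mul_le_mul' (pow_le_one' (hvc i) p) (hA (i + 1))
        _ = γ := one_mul _
    · rw [map_mul]
      calc W.valuation b * W.valuation (π ^ (m + 1) - x ^ (p * (m + 1))) ≤ 1 * γ :=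
            mul_le_mul' hvb (hA (m + 1))
        _ = γ := one_mul _
  set z : F := (πC - y) / x ^ (m + 1) with hz
  have hxpow0 : x ^ (p * (m + 1)) ≠ 0 := pow_ne_zero _ hx0
  have hzp : z ^ p - b = N / x ^ (p * (m + 1)) := by
    rw [hz, div_pow, sub_pow_char, ← pow_mul, mul_comm (m + 1) p, hN]
    field_simp
  have hvxpow : W.valuation (x ^ (p * (m + 1))) = W.valuation π ^ (m + 1) := by
    rw [pow_mul, map_pow, hvxp]
  have hvz : W.valuation (z ^ p - b) ≤ W.valuation π := by
    have h2 : W.valuation (z ^ p - b) * W.valuation π ^ (m + 1) = W.valuation N := by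
      rw [hzp, map_div₀, hvxpow, div_mul_cancel₀ _ (pow_ne_zero _ hvπ0)]
    have h3 : W.valuation (z ^ p - b) * W.valuation π ^ (m + 1) ≤
        W.valuation π * W.valuation π ^ (m + 1) := by
      rw [h2, ← pow_succ']
      exact hvN
    exact le_of_mul_le_mul_right h3 (pow_pos hvπpos _)
  refine ⟨z, ?_, hvz.trans_lt hπ⟩
  rw [← W.valuation_le_one_iff]
  by_contra hcon
  rw [not_le] at hcon
  have h4 : 1 < W.valuation z ^ p := one_lt_pow₀ hcon hp.ne_zero
  have h5 : W.valuation (z ^ p) ≤ 1 := by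
    have : z ^ p = (z ^ p - b) + b := by ring
    rw [this]
    exact (W.valuation.map_add _ _).trans (max_le (hvz.trans hπ.le) hvb)
  rw [map_pow] at h5
  exact absurd h4 (not_lt.mpr h5)

end key

end Groth.Agent.Lib.T2H9.PIStepKey
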