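import Mathlib
import Groth.Agent.Lib.T2H9ASNormalForm
import Groth.Agent.Lib.T2H9PIStepKey

/-!
# Valuation computations for Artin–Schreier classes after adjoining a `q`-th root of a uniformizer

`F` is a field of characteristic `p` with a valuation subring `W`; `πF` has positive valuation and
`x ^ q = πF + πF ^ n * b₀` with `q = p ^ R`, `b₀ ∈ W`, `n ≥ 2`.  We compare, modulo `℘(F) + W`,
terms `μ ^ (p ^ r) * πF ^ (-j)` with `μ * x ^ (-j * p ^ (R - r))`.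
-/

set_option autoImplicit false
set_option linter.style.haveILetI false
set_option linter.unusedSectionVars false
universe u

namespace Groth.Agent.Lib.T2H9.ASCompute

open Groth.Agent.Lib.T2H9.ASNormalForm Groth.Agent.Lib.T2H9.PIStepKey

section basic

variable (p : ℕ) [hp : Fact p.Prime] {F : Type u} [Field F] [CharP F p] (W : ValuationSubring F)

theorem mem_GW_of_mem {w : F} (hw : w ∈ W) : w ∈ G p W F :=
  algebraMap_mem_G (p := p) (B := W) (L := F) ⟨w, hw⟩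

theorem mem_GW {x : F} : x ∈ G p W F ↔ ∃ (y w : F), w ∈ W ∧ x = y ^ p - y + w := by
  constructor
  · rintro ⟨y, b, rfl⟩
    exact ⟨y, b, b.2, rfl⟩
  · rintro ⟨y, w, hw, rfl⟩
    exact ⟨y, ⟨w, hw⟩, rfl⟩

/-- Existence of a residue `p`-th root from an Artin–Schreier equation with a large pole. -/
theorem exists_root (x z ξ' μs : F) (N : ℕ) (hx : W.valuation x < 1) (hN : 1 ≤ N) (hpN : p ∣ N)
    (hz : z ^ p - z = ξ') (hμs : μs ∈ W) (h : W.valuation (ξ' * x ^ N - μs) < 1) :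
    ∃ t ∈ W, W.valuation (t ^ p - μs) < 1 := by
  obtain ⟨k, rfl⟩ := hpN
  have hp2 : 2 ≤ p := hp.out.two_le
  have hk : 1 ≤ k := by
    rcases Nat.eq_zero_or_pos k with rfl | h0
    · omega
    · exact h0
  set t : F := z * x ^ k with ht
  have htp : t ^ p = t * x ^ (p * k - k) + ξ' * x ^ (p * k) := by
    have h1 : z ^ p = z + ξ' := by rw [← hz]; ring
    obtain ⟨d, hd⟩ : ∃ d, p * k = k + d := ⟨p * k - k, by
      have : k ≤ p * k := Nat.le_mul_of_pos_left k hp.out.pos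
      omega⟩
    have hd' : p * k - k = d := by omega
    rw [ht, mul_pow, h1, ← pow_mul, mul_comm k p, hd', hd, pow_add]
    ring
  have hpk : 1 ≤ p * k - k := by
    have : 2 * k ≤ p * k := Nat.mul_le_mul_right k hp2
    omega
  have hvxpow : W.valuation (x ^ (p * k - k)) < 1 := by
    rw [map_pow]
    exact pow_lt_one₀ zero_le hx (by omega)
  have hvμ : W.valuation μs ≤ 1 := (W.valuation_le_one_iff _).mpr hμs
  have hvξ : W.valuation (ξ' * x ^ (p * k)) ≤ 1 := by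
    have : ξ' * x ^ (p * k) = (ξ' * x ^ (p * k) - μs) + μs := by ring
    rw [this]
    exact (W.valuation.map_add _ _).trans (max_le h.le hvμ)
  have htW : W.valuation t ≤ 1 := by
    by_contra hcon
    rw [not_le] at hcon
    have h4 : W.valuation t < W.valuation t ^ p := by
      calc W.valuation t = W.valuation t ^ 1 := (pow_one _).symm
        _ < W.valuation t ^ p := pow_lt_pow_right₀ hcon (by omega)
    have h5 : W.valuation (t ^ p) ≤ W.valuation t := by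
      rw [htp]
      refine (W.valuation.map_add _ _).trans (max_le ?_ (hvξ.trans hcon.le))
      rw [map_mul]
      calc W.valuation t * W.valuation (x ^ (p * k - k)) ≤ W.valuation t * 1 :=
            mul_le_mul' le_rfl hvxpow.le
        _ = W.valuation t := mul_one _
    rw [map_pow] at h5
    exact absurd h4 (not_lt.mpr h5)
  refine ⟨t, (W.valuation_le_one_iff _).mp htW, ?_⟩
  have h6 : t ^ p - μs = t * x ^ (p * k - k) + (ξ' * x ^ (p * k) - μs) := by rw [htp]; ring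
  rw [h6]
  refine lt_of_le_of_lt (W.valuation.map_add _ _) (max_lt ?_ h)
  rw [map_mul]
  calc W.valuation t * W.valuation (x ^ (p * k - k)) ≤ 1 * W.valuation (x ^ (p * k - k)) :=
        mul_le_mul' htW le_rfl
    _ = W.valuation (x ^ (p * k - k)) := one_mul _
    _ < 1 := hvxpow

end basic

section root

variable (p : ℕ) [hp : Fact p.Prime] {F : Type u} [Field F] [CharP F p] (W : ValuationSubring F)
  (πF x b₀ : F) (n R : ℕ)

/-- Basic facts about `x` with `x ^ q = πF + πF ^ n * b₀`. -/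
theorem root_basic (hπ : W.valuation πF < 1) (hπ0 : πF ≠ 0) (hb₀ : b₀ ∈ W) (hn : 2 ≤ n)
    (hx : x ^ (p ^ R) = πF + πF ^ n * b₀) :
    x ^ (p ^ R) = πF * (1 + πF ^ (n - 1) * b₀) ∧ W.valuation (1 + πF ^ (n - 1) * b₀) = 1 ∧
      W.valuation (πF ^ (n - 1) * b₀) ≤ W.valuation πF ^ (n - 1) ∧
      W.valuation x < 1 ∧ x ≠ 0 := by
  have hvb₀ : W.valuation b₀ ≤ 1 := (W.valuation_le_one_iff _).mpr hb₀
  have hle : W.valuation (πF ^ (n - 1) * b₀) ≤ W.valuation πF ^ (n - 1) := by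
    rw [map_mul, map_pow]
    calc W.valuation πF ^ (n - 1) * W.valuation b₀ ≤ W.valuation πF ^ (n - 1) * 1 :=
          mul_le_mul' le_rfl hvb₀
      _ = W.valuation πF ^ (n - 1) := mul_one _
  have h1 : W.valuation (πF ^ (n - 1) * b₀) < 1 :=
    hle.trans_lt (pow_lt_one₀ zero_le hπ (by omega))
  have hxε : x ^ (p ^ R) = πF * (1 + πF ^ (n - 1) * b₀) := by
    rw [hx]
    obtain ⟨k, rfl⟩ : ∃ k, n = k + 1 := ⟨n - 1, by omega⟩
    rw [Nat.add_sub_cancel, pow_succ]; ring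
  have hvε : W.valuation (1 + πF ^ (n - 1) * b₀) = 1 := W.valuation.map_one_add_of_lt h1
  have hvxq : W.valuation x ^ (p ^ R) = W.valuation πF := by
    rw [← map_pow, hxε, map_mul, hvε, mul_one]
  have hq : p ^ R ≠ 0 := pow_ne_zero _ hp.out.ne_zero
  refine ⟨hxε, hvε, hle, ?_, ?_⟩
  · by_contra hcon
    rw [not_lt] at hcon
    have := one_le_pow₀ hcon (n := p ^ R)
    rw [hvxq] at this
    exact absurd hπ (not_lt.mpr this)
  · rintro rfl
    rw [map_zero, zero_pow hq] at hvxq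
    exact hπ0 ((W.valuation.zero_iff).mp hvxq.symm)

variable (hπ : W.valuation πF < 1) (hπ0 : πF ≠ 0) (hb₀ : b₀ ∈ W) (hn : 2 ≤ n)
  (hx : x ^ (p ^ R) = πF + πF ^ n * b₀)

include hπ hπ0 hb₀ hn hx

theorem sub_mem_W (c : F) (hc : c ∈ W) (j : ℕ) (hj : j + 1 ≤ n) :
    c * πF⁻¹ ^ j - c * x⁻¹ ^ (j * p ^ R) ∈ W := by
  obtain ⟨hxε, hvε, hle, hvx, hx0⟩ := root_basic p W πF x b₀ n R hπ hπ0 hb₀ hn hx
  set u : F := 1 + πF ^ (n - 1) * b₀ with hu
  have hu0 : u ≠ 0 := by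
    intro h0
    rw [h0, map_zero] at hvε
    exact zero_ne_one hvε
  have hvπ0 : W.valuation πF ≠ 0 := (W.valuation.ne_zero_iff).mpr hπ0
  have hvπpos : 0 < W.valuation πF := zero_lt_iff.mpr hvπ0
  have hvc : W.valuation c ≤ 1 := (W.valuation_le_one_iff _).mpr hc
  have h1 : x⁻¹ ^ (j * p ^ R) = πF⁻¹ ^ j * u⁻¹ ^ j := by
    rw [mul_comm j, pow_mul, inv_pow, hxε, mul_inv, mul_pow]
  have h2 : (c * πF⁻¹ ^ j - c * x⁻¹ ^ (j * p ^ R)) * πF ^ j = c * u⁻¹ ^ j * (u ^ j - 1 ^ j) := by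
    rw [h1, one_pow]
    have hπj : πF⁻¹ ^ j * πF ^ j = 1 := by rw [← mul_pow, inv_mul_cancel₀ hπ0, one_pow]
    have huj : u⁻¹ ^ j * u ^ j = 1 := by rw [← mul_pow, inv_mul_cancel₀ hu0, one_pow]
    linear_combination (c - c * u⁻¹ ^ j) * hπj - c * huj
  have h3 : W.valuation (u ^ j - 1 ^ j) ≤ W.valuation πF ^ (n - 1) := by
    apply val_pow_sub_pow_le W u 1 _ hvε.le (by rw [map_one]) _ j
    have : u - 1 = πF ^ (n - 1) * b₀ := by rw [hu]; ring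
    rw [this]
    exact hle
  have h4 : W.valuation (c * πF⁻¹ ^ j - c * x⁻¹ ^ (j * p ^ R)) * W.valuation πF ^ j ≤
      1 * W.valuation πF ^ j := by
    rw [← map_pow, ← map_mul, h2, map_mul, map_mul, map_pow, map_inv₀, hvε, inv_one, one_pow,
      mul_one, one_mul, map_pow]
    calc W.valuation c * W.valuation (u ^ j - 1 ^ j) ≤ 1 * W.valuation πF ^ (n - 1) :=
          mul_le_mul' hvc h3
      _ = W.valuation πF ^ (n - 1) := one_mul _
      _ ≤ W.valuation πF ^ j := pow_le_pow_right_of_le_one' hπ.le (by omega)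
  rw [← W.valuation_le_one_iff]
  exact le_of_mul_le_mul_right h4 (pow_pos hvπpos _)

theorem term_congr (μ : F) (hμ : μ ∈ W) (j r : ℕ) (hj : j + 1 ≤ n) (hr : r ≤ R) :
    μ ^ (p ^ r) * πF⁻¹ ^ j - μ * x⁻¹ ^ (j * p ^ (R - r)) ∈ G p W F := by
  have h1 := sub_mem_W p W πF x b₀ n R hπ hπ0 hb₀ hn hx (μ ^ (p ^ r)) (pow_mem hμ _) j hj
  have h2 : μ ^ (p ^ r) * x⁻¹ ^ (j * p ^ R) = (μ * x⁻¹ ^ (j * p ^ (R - r))) ^ (p ^ r) := by
    rw [mul_pow, ← pow_mul, mul_assoc, ← pow_add, Nat.sub_add_cancel hr]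
  have h3 : μ ^ (p ^ r) * πF⁻¹ ^ j - μ * x⁻¹ ^ (j * p ^ (R - r)) =
      (μ ^ (p ^ r) * πF⁻¹ ^ j - μ ^ (p ^ r) * x⁻¹ ^ (j * p ^ R)) +
        ((μ * x⁻¹ ^ (j * p ^ (R - r))) ^ (p ^ r) - μ * x⁻¹ ^ (j * p ^ (R - r))) := by
    rw [← h2]; ring
  rw [h3]
  exact (G p W F).add_mem (mem_GW_of_mem p W h1) (pow_pow_sub_mem_G _ _)

theorem apart (𝒜 : Set F) (h𝒜 : ∀ a ∈ 𝒜, a ∈ W)
    (hperf : ∀ a ∈ 𝒜, ∃ e ∈ 𝒜, ∃ a' ∈ 𝒜, a = e ^ (p ^ R) + πF * a') :
    ∀ i : ℕ, i + 1 ≤ n → ∀ a ∈ 𝒜, ∃ y' : F, a * πF⁻¹ ^ i - y' ∈ G p W F ∧ y' * x ^ i ∈ W := by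
  obtain ⟨hxε, hvε, hle, hvx, hx0⟩ := root_basic p W πF x b₀ n R hπ hπ0 hb₀ hn hx
  have hxW : x ∈ W := (W.valuation_le_one_iff _).mp hvx.le
  intro i
  induction i with
  | zero =>
    intro _ a ha
    refine ⟨0, ?_, by rw [zero_mul]; exact W.zero_mem⟩
    rw [pow_zero, mul_one, sub_zero]
    exact mem_GW_of_mem p W (h𝒜 a ha)
  | succ i ih =>
    intro hi a ha
    obtain ⟨e, he, a', ha', rfl⟩ := hperf a ha
    obtain ⟨y₂, hy₂, hy₂W⟩ := ih (by omega) a' ha'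
    refine ⟨e * x⁻¹ ^ (i + 1) + y₂, ?_, ?_⟩
    · have h1 := term_congr p W πF x b₀ n R hπ hπ0 hb₀ hn hx e (h𝒜 e he) (i + 1) R hi le_rfl
      rw [Nat.sub_self, pow_zero, mul_one] at h1
      have h2 : (e ^ (p ^ R) + πF * a') * πF⁻¹ ^ (i + 1) - (e * x⁻¹ ^ (i + 1) + y₂) =
          (e ^ (p ^ R) * πF⁻¹ ^ (i + 1) - e * x⁻¹ ^ (i + 1)) + (a' * πF⁻¹ ^ i - y₂) := by
        rw [pow_succ πF⁻¹ i]
        field_simp
        ring
      rw [h2]
      exact (G p W F).add_mem h1 hy₂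
    · have h3 : (e * x⁻¹ ^ (i + 1) + y₂) * x ^ (i + 1) = e + (y₂ * x ^ i) * x := by
        have hX : x⁻¹ ^ (i + 1) * x ^ (i + 1) = 1 := by
          rw [← mul_pow, inv_mul_cancel₀ hx0, one_pow]
        rw [pow_succ x i] at hX ⊢
        linear_combination e * hX
      rw [h3]
      exact W.add_mem _ _ (h𝒜 e he) (W.mul_mem _ _ hy₂W hxW)

omit hπ hπ0 hb₀ hn hx in
theorem nf_injOn (S : Finset (ℕ × ℕ))
    (hvalid : ∀ jr ∈ S, jr.2 < R ∧ (jr.2 = 0 ∨ ¬ p ∣ jr.1)) :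
    ∀ a ∈ S, ∀ b ∈ S, a.1 * p ^ (R - a.2) = b.1 * p ^ (R - b.2) → a = b := by
  have key : ∀ a ∈ S, ∀ b ∈ S, a.2 ≤ b.2 → a.1 * p ^ (R - a.2) = b.1 * p ^ (R - b.2) → a = b := by
    rintro ⟨j, r⟩ ha ⟨j', r'⟩ hb hrr h
    simp only at hrr h
    obtain ⟨hrR, -⟩ := hvalid _ ha
    obtain ⟨hr'R, hlow'⟩ := hvalid _ hb
    simp only at hrR hr'R hlow'
    have h1 : R - r = (r' - r) + (R - r') := by omega
    rw [h1, pow_add, ← mul_assoc] at h
    have h2 : j * p ^ (r' - r) = j' := Nat.eq_of_mul_eq_mul_right (pow_pos hp.out.pos _) h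
    rcases Nat.eq_or_lt_of_le hrr with hreq | hlt
    · subst hreq
      rw [Nat.sub_self, pow_zero, mul_one] at h2
      rw [h2]
    · exfalso
      have h3 : p ∣ j' := by
        rw [← h2]
        exact Dvd.dvd.mul_left (dvd_pow_self p (by omega)) j
      rcases hlow' with h4 | h4
      · omega
      · exact h4 h3
  intro a ha b hb h
  rcases le_total a.2 b.2 with hle | hle
  · exact key a ha b hb hle h
  · exact (key b hb a ha hle h.symm).symm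

theorem exists_top (S : Finset (ℕ × ℕ)) (hS : S.Nonempty) (μ : ℕ × ℕ → F)
    (hμ : ∀ jr ∈ S, μ jr ∈ W) (nA : ℕ)
    (hvalid : ∀ jr ∈ S, 1 ≤ jr.1 ∧ jr.1 + 1 ≤ n ∧ jr.2 < R ∧ (jr.2 = 0 ∨ ¬ p ∣ jr.1) ∧
      nA < p ^ (R - jr.2))
    (y' : F) (hy' : y' * x ^ nA ∈ W) (ξ : F)
    (hξ : ξ - y' - ∑ jr ∈ S, μ jr ^ (p ^ jr.2) * πF⁻¹ ^ jr.1 ∈ G p W F) :
    ∃ jr ∈ S, ∃ N : ℕ, 1 ≤ N ∧ p ∣ N ∧ ∃ Y : F,
      W.valuation ((ξ - (Y ^ p - Y)) * x ^ N - μ jr) < 1 := by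
  classical
  obtain ⟨hxε, hvε, hle, hvx, hx0⟩ := root_basic p W πF x b₀ n R hπ hπ0 hb₀ hn hx
  set Nf : ℕ × ℕ → ℕ := fun jr => jr.1 * p ^ (R - jr.2) with hNf
  have hinj := nf_injOn p R S (fun jr hjr => ⟨(hvalid jr hjr).2.2.1, (hvalid jr hjr).2.2.2.1⟩)
  obtain ⟨js, hjs, hmax⟩ := S.exists_max_image Nf hS
  obtain ⟨hj1, hjn, hrR, hlow, hnA⟩ := hvalid js hjs
  set Ns := Nf js with hNs
  have hNs1 : nA < Ns := by
    calc nA < p ^ (R - js.2) := hnA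
      _ ≤ js.1 * p ^ (R - js.2) := Nat.le_mul_of_pos_left _ hj1
  have hpNs : p ∣ Ns := Dvd.dvd.mul_left (dvd_pow_self p (by omega)) _
  have hsum : ξ - (y' + ∑ jr ∈ S, μ jr * x⁻¹ ^ (Nf jr)) ∈ G p W F := by
    have h1 : ξ - (y' + ∑ jr ∈ S, μ jr * x⁻¹ ^ (Nf jr)) =
        (ξ - y' - ∑ jr ∈ S, μ jr ^ (p ^ jr.2) * πF⁻¹ ^ jr.1) +
          ∑ jr ∈ S, (μ jr ^ (p ^ jr.2) * πF⁻¹ ^ jr.1 - μ jr * x⁻¹ ^ (Nf jr)) := by
      rw [Finset.sum_sub_distrib]; ring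
    rw [h1]
    refine (G p W F).add_mem hξ (AddSubgroup.sum_mem _ fun jr hjr => ?_)
    obtain ⟨-, h2, h3, -, -⟩ := hvalid jr hjr
    exact term_congr p W πF x b₀ n R hπ hπ0 hb₀ hn hx (μ jr) (hμ jr hjr) jr.1 jr.2 h2 h3.le
  obtain ⟨Y, w, hw, hYw⟩ := (mem_GW p W).mp hsum
  refine ⟨js, hjs, Ns, by omega, hpNs, Y, ?_⟩
  have hpow : ∀ N : ℕ, N ≤ Ns → x⁻¹ ^ N * x ^ Ns = x ^ (Ns - N) := by
    intro N hN
    obtain ⟨d, hd⟩ := Nat.exists_eq_add_of_le hN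
    rw [hd, Nat.add_sub_cancel_left, pow_add, ← mul_assoc, ← mul_pow, inv_mul_cancel₀ hx0,
      one_pow, one_mul]
  have hexp : (ξ - (Y ^ p - Y)) * x ^ Ns - μ js =
      y' * x ^ nA * x ^ (Ns - nA) + ∑ jr ∈ S.erase js, μ jr * x ^ (Ns - Nf jr) + w * x ^ Ns := by
    have h1 : ξ - (Y ^ p - Y) = y' + ∑ jr ∈ S, μ jr * x⁻¹ ^ (Nf jr) + w := by
      linear_combination hYw
    rw [h1, add_mul, add_mul, Finset.sum_mul, ← Finset.add_sum_erase S _ hjs, mul_assoc,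
      hpow Ns le_rfl, Nat.sub_self, pow_zero, mul_one, mul_assoc, ← pow_add,
      Nat.add_sub_cancel' hNs1.le]
    have h2 : ∑ jr ∈ S.erase js, μ jr * x⁻¹ ^ Nf jr * x ^ Ns =
        ∑ jr ∈ S.erase js, μ jr * x ^ (Ns - Nf jr) := by
      refine Finset.sum_congr rfl fun jr hjr => ?_
      rw [mul_assoc, hpow _ (hmax jr (Finset.mem_of_mem_erase hjr))]
    rw [h2]
    ring
  rw [hexp]
  have hvxpow : ∀ d : ℕ, 1 ≤ d → W.valuation (x ^ d) < 1 := by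
    intro d hd
    rw [map_pow]
    exact pow_lt_one₀ zero_le hvx (by omega)
  refine lt_of_le_of_lt (W.valuation.map_add _ _) (max_lt
    (lt_of_le_of_lt (W.valuation.map_add _ _) (max_lt ?_ ?_)) ?_)
  · rw [map_mul]
    calc W.valuation (y' * x ^ nA) * W.valuation (x ^ (Ns - nA)) ≤
          1 * W.valuation (x ^ (Ns - nA)) :=
          mul_le_mul' ((W.valuation_le_one_iff _).mpr hy') le_rfl
      _ = W.valuation (x ^ (Ns - nA)) := one_mul _
      _ < 1 := hvxpow _ (by omega)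
  · apply Valuation.map_sum_lt _ one_ne_zero
    intro jr hjr
    have hjrS := Finset.mem_of_mem_erase hjr
    have hne : Nf jr ≠ Ns := fun h => (Finset.ne_of_mem_erase hjr) (hinj jr hjrS js hjs h)
    have hlt : Nf jr < Ns := lt_of_le_of_ne (hmax jr hjrS) hne
    rw [map_mul]
    calc W.valuation (μ jr) * W.valuation (x ^ (Ns - Nf jr)) ≤
          1 * W.valuation (x ^ (Ns - Nf jr)) :=
          mul_le_mul' ((W.valuation_le_one_iff _).mpr (hμ jr hjrS)) le_rfl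
      _ = W.valuation (x ^ (Ns - Nf jr)) := one_mul _
      _ < 1 := hvxpow _ (by omega)
  · rw [map_mul]
    calc W.valuation w * W.valuation (x ^ Ns) ≤ 1 * W.valuation (x ^ Ns) :=
          mul_le_mul' ((W.valuation_le_one_iff _).mpr hw) le_rfl
      _ = W.valuation (x ^ Ns) := one_mul _
      _ < 1 := hvxpow _ (by omega)

end root

end Groth.Agent.Lib.T2H9.ASCompute
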