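import Mathlib
import Groth.Prelude.Def_EtRam
import Groth.Agent.Lib.T2H9TotRamDeg
import Groth.Agent.Lib.Helper24DvrEF

set_option autoImplicit false
set_option linter.style.haveILetI false
set_option linter.unusedSectionVars false
universe u

/-!
# A purely inseparable step of prime degree over a discrete valuation ring: basic structure
-/

namespace Groth.Agent.Lib.T2H9.PIStepBasic

open IsLocalRing Polynomial Groth.Agent.Lib.T2H9.TotRamDeg

section field

variable (p : ℕ) (L M : Type u) [Field L] [Field M] [Algebra L M] [IsPurelyInseparable L M]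

theorem finiteDimensional_of_finrank (hp : p.Prime) (hdeg : Module.finrank L M = p) :
    FiniteDimensional L M :=
  Module.finite_of_finrank_pos (hdeg ▸ hp.pos)

theorem charP_of_finrank (hp : p.Prime) (hdeg : Module.finrank L M = p) : CharP L p := by
  haveI : FiniteDimensional L M := finiteDimensional_of_finrank p L M hp hdeg
  obtain ⟨q, hq⟩ := ExpChar.exists L
  haveI := hq
  obtain ⟨n, hn⟩ := IsPurelyInseparable.finrank_eq_pow (F := L) M q
  rw [hdeg] at hn
  obtain ⟨rfl, -⟩ := (Nat.Prime.pow_eq_iff hp).mp hn.symm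
  cases hq with
  | zero => exact absurd hp Nat.not_prime_one
  | prime hq' => assumption

theorem pow_mem_range (hp : p.Prime) (hdeg : Module.finrank L M = p) (x : M) :
    ∃ l : L, algebraMap L M l = x ^ p := by
  haveI := charP_of_finrank p L M hp hdeg
  haveI : ExpChar L p := ExpChar.prime hp
  haveI : FiniteDimensional L M := finiteDimensional_of_finrank p L M hp hdeg
  obtain ⟨n, y, hy⟩ := IsPurelyInseparable.minpoly_eq_X_pow_sub_C L p x
  have hint : IsIntegral L x := Algebra.IsIntegral.isIntegral x
  have hdvd : (minpoly L x).natDegree ∣ p := hdeg ▸ minpoly.degree_dvd hint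
  rw [hy, natDegree_X_pow_sub_C] at hdvd
  have hroot : x ^ p ^ n = algebraMap L M y := by
    have h1 := minpoly.aeval L x
    rw [hy, map_sub, map_pow, aeval_X, aeval_C, sub_eq_zero] at h1
    exact h1
  have hn : n = 0 ∨ n = 1 := by
    rcases (Nat.dvd_prime hp).mp hdvd with h1 | h1
    · left
      by_contra hne
      have : 1 < p ^ n := Nat.one_lt_pow hne hp.one_lt
      omega
    · right
      have h2 : p ^ n = p ^ 1 := by rw [pow_one]; exact h1
      exact Nat.pow_right_injective hp.two_le h2
  rcases hn with rfl | rfl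
  · rw [pow_zero, pow_one] at hroot
    exact ⟨y ^ p, by rw [map_pow, hroot]⟩
  · rw [pow_one] at hroot
    exact ⟨y, hroot.symm⟩

end field

section inter

variable (B C L M : Type u) [CommRing B] [IsDomain B] [IsDiscreteValuationRing B]
  [CommRing C] [IsDomain C] [IsDiscreteValuationRing C] [Algebra B C] [IsLocalHom (algebraMap B C)]
  [Field L] [Field M] [Algebra B L] [IsFractionRing B L] [Algebra C M] [IsFractionRing C M]
  [Algebra L M] [Algebra B M] [IsScalarTower B L M] [IsScalarTower B C M]

/-- `L ∩ C = B` -/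
theorem mem_of_mem (l : L) (c : C) (h : algebraMap L M l = algebraMap C M c) :
    ∃ b : B, algebraMap B L b = l := by
  rcases ValuationRing.isInteger_or_isInteger B l with ⟨b, hb⟩ | ⟨b', hb'⟩
  · exact ⟨b, hb⟩
  · by_cases hl : l = 0
    · exact ⟨0, by rw [map_zero, hl]⟩
    by_cases hu : IsUnit b'
    · obtain ⟨v, rfl⟩ := hu
      refine ⟨((v⁻¹ : Bˣ) : B), ?_⟩
      have h1 : algebraMap B L (v : B) * algebraMap B L ((v⁻¹ : Bˣ) : B) = 1 := by
        rw [← map_mul, Units.mul_inv, map_one]
      rw [hb'] at h1
      have h2 : l⁻¹ * l = 1 := inv_mul_cancel₀ hl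
      exact mul_left_cancel₀ (inv_ne_zero hl) (h1.trans h2.symm)
    · exfalso
      have h1 : algebraMap C M (algebraMap B C b' * c) = 1 := by
        rw [map_mul, ← h, ← IsScalarTower.algebraMap_apply B C M,
          IsScalarTower.algebraMap_apply B L M, hb', ← map_mul, inv_mul_cancel₀ hl, map_one]
      have h2 : algebraMap B C b' * c = 1 :=
        IsFractionRing.injective C M (h1.trans (map_one _).symm)
      have h3 : IsUnit (algebraMap B C b') := IsUnit.of_mul_eq_one c h2
      exact hu (isUnit_of_map_unit (algebraMap B C) b' h3)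

end inter

section three

variable (p : ℕ) (A B C L M : Type u)
  [CommRing A] [IsDomain A] [IsDiscreteValuationRing A]
  [CommRing B] [IsDomain B] [IsDiscreteValuationRing B]
  [CommRing C] [IsDomain C] [IsDiscreteValuationRing C]
  [Algebra A B] [Algebra B C] [Algebra A C] [IsScalarTower A B C]
  [IsLocalHom (algebraMap A B)] [IsLocalHom (algebraMap B C)]
  [Field L] [Field M] [Algebra B L] [IsFractionRing B L]
  [Algebra C M] [IsFractionRing C M] [Algebra L M] [Algebra B M] [IsScalarTower B L M]
  [IsScalarTower B C M] [IsPurelyInseparable L M]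

theorem maximalIdeal_eq_of_weaklyUnramified (π : A) (hπ : maximalIdeal A = Ideal.span {π})
    (hw : EtRam.IsWeaklyUnramified A B) :
    maximalIdeal B = Ideal.span {algebraMap A B π} := by
  unfold EtRam.IsWeaklyUnramified at hw
  rw [← hw, hπ, Ideal.map_span, Set.image_singleton]

/-- either `C` is weakly unramified over `A`, or a uniformizer of `C` has its `p`-th power equal
to a unit of `B` times the uniformizer of `A` -/
theorem structure_thm (hp : p.Prime) (hBC : Function.Injective (algebraMap B C)) (π : A)
    (hπ : maximalIdeal A = Ideal.span {π}) (hw : EtRam.IsWeaklyUnramified A B)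
    (hdeg : Module.finrank L M = p) :
    EtRam.IsWeaklyUnramified A C ∨
      ∃ (πC : C) (u : Bˣ), Irreducible πC ∧
        πC ^ p = algebraMap B C ((u : B) * algebraMap A B π) := by
  classical
  set πB : B := algebraMap A B π with hπB
  have hmB : maximalIdeal B = Ideal.span {πB} :=
    maximalIdeal_eq_of_weaklyUnramified A B π hπ hw
  have hπBirr : Irreducible πB :=
    (IsDiscreteValuationRing.irreducible_iff_uniformizer _).mpr hmB
  obtain ⟨ϖ, hϖ⟩ := IsDiscreteValuationRing.exists_irreducible C
  have hπC0 : algebraMap B C πB ≠ 0 := fun h0 =>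
    hπBirr.ne_zero (hBC (h0.trans (map_zero _).symm))
  obtain ⟨e, w, hw'⟩ := IsDiscreteValuationRing.eq_unit_mul_pow_irreducible hπC0 hϖ
  by_cases he1 : e = 1
  · left
    unfold EtRam.IsWeaklyUnramified
    rw [hπ, Ideal.map_span, Set.image_singleton, hϖ.maximalIdeal_eq,
      IsScalarTower.algebraMap_apply A B C, hw', he1, pow_one]
    exact Ideal.span_singleton_eq_span_singleton.mpr (associated_unit_mul_left _ _ w.isUnit)
  · right
    obtain ⟨l, hl⟩ := pow_mem_range p L M hp hdeg (algebraMap C M ϖ)
    obtain ⟨β, hβ⟩ := mem_of_mem B C L M l (ϖ ^ p) (by rw [hl, map_pow])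
    have hβC : algebraMap B C β = ϖ ^ p := by
      apply IsFractionRing.injective C M
      rw [← IsScalarTower.algebraMap_apply B C M, IsScalarTower.algebraMap_apply B L M, hβ, hl,
        map_pow]
    have hβ0 : β ≠ 0 := by
      rintro rfl
      rw [map_zero] at hβC
      exact pow_ne_zero p hϖ.ne_zero hβC.symm
    obtain ⟨j, u₀, hu₀⟩ := IsDiscreteValuationRing.eq_unit_mul_pow_irreducible hβ0 hπBirr
    have h1 : ((Units.map (algebraMap B C : B →* C) u₀ * w ^ j : Cˣ) : C) * ϖ ^ (e * j) =
        ((1 : Cˣ) : C) * ϖ ^ p := by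
      rw [Units.val_one, one_mul, ← hβC, hu₀, map_mul, map_pow, hw', mul_pow, ← pow_mul,
        Units.val_mul, Units.val_pow_eq_pow_val, Units.coe_map]
      simp only [MonoidHom.coe_coe]
      ring
    have h2 : e * j = p := IsDiscreteValuationRing.unit_mul_pow_congr_pow hϖ hϖ _ _ _ _ h1
    have he : e = p := by
      rcases (Nat.dvd_prime hp).mp ⟨j, h2.symm⟩ with h | h
      · exact absurd h he1
      · exact h
    have hj : j = 1 := by
      rw [he] at h2
      have h3 : p * j = p * 1 := by rw [mul_one]; exact h2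
      exact Nat.eq_of_mul_eq_mul_left hp.pos h3
    refine ⟨ϖ, u₀, hϖ, ?_⟩
    rw [← hβC, hu₀, hj, pow_one]

end three

end Groth.Agent.Lib.T2H9.PIStepBasic
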