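import Mathlib
import Groth.Prelude.Def_EtRam
import Groth.Agent.Lib.T2H9PIStepBasic
import Groth.Agent.Lib.T2H9PIStepKey
import Groth.Agent.Lib.T2H9FinDVR
import Groth.Agent.Lib.T2H9TotRam
import Groth.Agent.Lib.Helper28NagataDVR

set_option autoImplicit false
set_option linter.style.haveILetI false
set_option linter.unusedSectionVars false
universe u

/-!
# A purely inseparable step: the separable totally ramified weak solution
-/

namespace Groth.Agent.Lib.T2H9.PIStepSol

open IsLocalRing Polynomial Groth.Agent.Lib.T2H9.TotRamDeg Groth.Agent.Lib.T2H9.RamTower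
  Groth.Agent.Lib.T2H9.FinDVR Groth.Agent.Lib.T2H9.PIStepBasic Groth.Agent.Lib.T2H9.PIStepKey

section resdeg

theorem le_finrank_of_pow_eq (p : ℕ) (hp : p.Prime) {k k' : Type u} [Field k] [Field k']
    [Algebra k k'] [FiniteDimensional k k'] (β : k) (hβ : ∀ r : k, r ^ p ≠ β) (ζ : k')
    (hζ : ζ ^ p = algebraMap k k' β) : p ≤ Module.finrank k k' := by
  have hirr : Irreducible (X ^ p - C β : k[X]) := X_pow_sub_C_irreducible_of_prime hp hβ
  have hroot : aeval ζ (X ^ p - C β : k[X]) = 0 := by
    rw [map_sub, map_pow, aeval_X, aeval_C, hζ, sub_self]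
  have hmin : minpoly k ζ = X ^ p - C β :=
    (minpoly.eq_of_irreducible_of_monic hirr hroot (monic_X_pow_sub_C β hp.ne_zero)).symm
  have h1 := minpoly.natDegree_le (A := k) ζ
  rw [hmin, natDegree_X_pow_sub_C] at h1
  exact h1

end resdeg

section tensor

open TensorProduct

variable (K L M K₁ : Type u) [Field K] [Field L] [Field M] [Field K₁] [Algebra K L] [Algebra L M]
  [Algebra K M] [IsScalarTower K L M] [Algebra K K₁] [FiniteDimensional K K₁]
  [Algebra.IsSeparable K K₁] [IsPurelyInseparable L M]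

theorem isField_tensor_top (h : IsField (L ⊗[K] K₁)) : IsField (M ⊗[K] K₁) := by
  letI : Field (L ⊗[K] K₁) := h.toField
  haveI : Algebra.FormallyUnramified K K₁ := Algebra.FormallyUnramified.of_isSeparable K K₁
  haveI : Algebra.FormallyUnramified L (L ⊗[K] K₁) := inferInstance
  haveI : Module.Finite L (L ⊗[K] K₁) := inferInstance
  haveI : Algebra.IsSeparable L (L ⊗[K] K₁) := Algebra.FormallyUnramified.isSeparable L _
  have h1 : IsField ((L ⊗[K] K₁) ⊗[L] M) :=
    Groth.Agent.Lib.Helper28.NagataDVR.isField_tensor_of_isSeparable_of_isPurelyInseparable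
      L (L ⊗[K] K₁) M
  let e1 := Algebra.TensorProduct.cancelBaseChange K L L M K₁
  let e2 := Algebra.TensorProduct.comm L M (L ⊗[K] K₁)
  exact MulEquiv.isField h1 ((e1.symm.trans e2).toRingEquiv.toMulEquiv)

end tensor

section weak

variable (p : ℕ) (A B C K L M : Type u)
  [CommRing A] [IsDomain A] [IsDiscreteValuationRing A]
  [CommRing B] [IsDomain B] [IsDiscreteValuationRing B]
  [CommRing C] [IsDomain C] [IsDiscreteValuationRing C]
  [Algebra A B] [Algebra B C] [Algebra A C] [IsScalarTower A B C]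
  [IsLocalHom (algebraMap A B)] [IsLocalHom (algebraMap B C)]
  [Field K] [Field L] [Field M] [Algebra A K] [IsFractionRing A K] [Algebra B L]
  [IsFractionRing B L] [Algebra C M] [IsFractionRing C M] [Algebra K L] [Algebra L M]
  [Algebra K M] [IsScalarTower K L M] [Algebra A L] [IsScalarTower A K L] [IsScalarTower A B L]
  [Algebra B M] [IsScalarTower B L M] [IsScalarTower B C M]
  [IsPurelyInseparable L M]
  (K₁ : Type u) [Field K₁] [Algebra K K₁] [Algebra A K₁] [IsScalarTower A K K₁]
  [FiniteDimensional K K₁] [Algebra.IsSeparable K K₁]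

theorem weakSol (hp : p.Prime) (π : A)
    (hπ : maximalIdeal A = Ideal.span {π}) (hw : EtRam.IsWeaklyUnramified A B)
    (hdeg : Module.finrank L M = p) (πC : C) (u : Bˣ)
    (hπC : πC ^ p = algebraMap B C ((u : B) * algebraMap A B π))
    (m : ℕ) (c : ℕ → B) (b : B)
    (hu : (u : B) = ∑ i ∈ Finset.range m, c i ^ p * algebraMap A B π ^ i +
      b * algebraMap A B π ^ m)
    (hb : ∀ r : B, residue B b ≠ residue B r ^ p)
    (hK₁ : Module.finrank K K₁ = p) (x b₀ : K₁) (hb₀ : IsIntegral A b₀)
    (hx : x ^ p = algebraMap A K₁ π + algebraMap A K₁ π ^ (m + 2) * b₀) :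
    EtRam.IsWeakSolution C K M K₁ := by
  classical
  intro M'' _ _ _ _ _ _ hgen W hW
  letI algV₁W : Algebra (W.comap (algebraMap K₁ M'')) W :=
    (EtRam.inclOfComap W (algebraMap K₁ M'')).toAlgebra
  change EtRam.IsWeaklyUnramified (W.comap (algebraMap K₁ M'')) W
  haveI : FiniteDimensional L M := finiteDimensional_of_finrank p L M hp hdeg
  haveI : CharP L p := charP_of_finrank p L M hp hdeg
  obtain ⟨hfinMM'', hdegMM''⟩ := finrank_le K M K₁ M'' hgen
  haveI := hfinMM''
  letI algLM'' : Algebra L M'' := ((algebraMap M M'').comp (algebraMap L M)).toAlgebra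
  haveI : IsScalarTower L M M'' := IsScalarTower.of_algebraMap_eq (fun _ => rfl)
  haveI : IsScalarTower K L M'' := IsScalarTower.of_algebraMap_eq (fun k => by
    change algebraMap K M'' k = algebraMap M M'' (algebraMap L M (algebraMap K L k))
    rw [← IsScalarTower.algebraMap_apply K L M, ← IsScalarTower.algebraMap_apply K M M''])
  haveI : FiniteDimensional L M'' := FiniteDimensional.trans L M M''
  haveI : CharP M'' p := charP_of_injective_algebraMap (algebraMap L M'').injective p
  letI algCM'' : Algebra C M'' := ((algebraMap M M'').comp (algebraMap C M)).toAlgebra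
  haveI : IsScalarTower C M M'' := IsScalarTower.of_algebraMap_eq (fun _ => rfl)
  have hWC : EtRam.Dominates C (algebraMap C M'') W := hW
  haveI : IsDiscreteValuationRing W := isDiscreteValuationRing_of_dominates C M M'' W hWC
  letI algBM'' : Algebra B M'' := ((algebraMap L M'').comp (algebraMap B L)).toAlgebra
  haveI : IsScalarTower B L M'' := IsScalarTower.of_algebraMap_eq (fun _ => rfl)
  have hBC'' : ∀ b : B, algebraMap B M'' b = algebraMap C M'' (algebraMap B C b) := by
    intro b
    change algebraMap M M'' (algebraMap L M (algebraMap B L b)) =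
      algebraMap M M'' (algebraMap C M (algebraMap B C b))
    rw [← IsScalarTower.algebraMap_apply B L M, ← IsScalarTower.algebraMap_apply B C M]
  have hWB : EtRam.Dominates B (algebraMap B M'') W := by
    refine ⟨fun b => ?_, fun b hb => ?_⟩
    · rw [hBC'']
      exact hWC.1 _
    · rw [hBC'']
      apply hWC.2
      rw [mem_maximalIdeal, mem_nonunits_iff] at hb ⊢
      exact fun h => hb (isUnit_of_map_unit (algebraMap B C) b h)
  letI algBW : Algebra B W := (RingHom.codRestrict (algebraMap B M'') W hWB.1).toAlgebra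
  haveI : IsScalarTower B W M'' := IsScalarTower.of_algebraMap_eq (fun _ => rfl)
  haveI : IsLocalHom (algebraMap B W) := isLocalHom_of_dominates (algebraMap B M'') W hWB
  have hinjBM'' : Function.Injective (algebraMap B M'') :=
    (algebraMap L M'').injective.comp (IsFractionRing.injective B L)
  have hinjBW : Function.Injective (algebraMap B W) := fun a b hab =>
    hinjBM'' (congrArg Subtype.val hab)
  obtain ⟨hresfin, hef⟩ := Groth.Agent.Lib.Helper24DvrEF.s7132 B W L M'' hinjBW
  haveI := hresfin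
  have hdegLM'' : Module.finrank L M'' ≤ p * p := by
    rw [← Module.finrank_mul_finrank L M M'', hdeg]
    exact Nat.mul_le_mul_left p (hdegMM''.trans hK₁.le)
  -- the elements
  set πB : B := algebraMap A B π with hπB
  have hmB : maximalIdeal B = Ideal.span {πB} :=
    maximalIdeal_eq_of_weaklyUnramified A B π hπ hw
  have hπBirr : Irreducible πB :=
    (IsDiscreteValuationRing.irreducible_iff_uniformizer _).mpr hmB
  have hAK : ∀ a : A, algebraMap K₁ M'' (algebraMap A K₁ a) =
      algebraMap B M'' (algebraMap A B a) := by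
    intro a
    rw [IsScalarTower.algebraMap_apply A K K₁, ← IsScalarTower.algebraMap_apply K K₁ M'',
      IsScalarTower.algebraMap_apply K L M'', ← IsScalarTower.algebraMap_apply A K L,
      IsScalarTower.algebraMap_apply A B L, ← IsScalarTower.algebraMap_apply B L M'']
  set πF : M'' := algebraMap B M'' πB with hπF
  have hπFval : W.valuation πF < 1 :=
    hWB.2 πB (by rw [hmB]; exact Ideal.mem_span_singleton_self _)
  have hπF0 : πF ≠ 0 := fun h0 => hπBirr.ne_zero (hinjBM'' (h0.trans (map_zero _).symm))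
  set xF : M'' := algebraMap K₁ M'' x with hxFdef
  set b₀F : M'' := algebraMap K₁ M'' b₀ with hb₀Fdef
  have hxF : xF ^ p = πF + πF ^ (m + 2) * b₀F := by
    rw [hπF, hπB, ← hAK, hxFdef, hb₀Fdef, ← map_pow, ← map_pow, ← map_mul, ← map_add, hx]
  have hb₀F : b₀F ∈ W := by
    apply Groth.Agent.Lib.T2H9.TotRam.mem_of_isIntegralElem
      ((algebraMap K₁ M'').comp (algebraMap A K₁)) W ?_ _ ?_
    · intro a
      rw [RingHom.comp_apply, hAK]
      exact hWB.1 _
    · obtain ⟨q, hq, hqb⟩ := hb₀
      refine ⟨q, hq, ?_⟩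
      rw [hb₀Fdef, ← Polynomial.hom_eval₂, hqb, map_zero]
  have huF : algebraMap B M'' (u : B) =
      ∑ i ∈ Finset.range m, algebraMap B M'' (c i) ^ p * πF ^ i + algebraMap B M'' b * πF ^ m := by
    have := congrArg (algebraMap B M'') hu
    rw [map_add, map_sum, map_mul, map_pow] at this
    rw [this]
    congr 1
    refine Finset.sum_congr rfl (fun i _ => ?_)
    rw [map_mul, map_pow, map_pow]
  have hπCF : algebraMap C M'' πC ^ p = algebraMap B M'' (u : B) * πF := by
    rw [← map_pow, hπC, ← hBC'', map_mul]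
  obtain ⟨z, hzW, hzval⟩ := key p W hp πF xF b₀F (algebraMap B M'' (u : B)) (algebraMap B M'' b)
    (algebraMap C M'' πC) (fun i => algebraMap B M'' (c i)) m hπFval hπF0 hb₀F hxF
    (fun i => hWB.1 _) (hWB.1 b) huF hπCF
  -- the residue degree
  have hf : p ≤ Module.finrank (ResidueField B) (ResidueField W) := by
    apply le_finrank_of_pow_eq p hp (residue B b) ?_ (residue W ⟨z, hzW⟩) ?_
    · intro r hr
      obtain ⟨r', rfl⟩ := residue_surjective r
      exact hb r' hr.symm
    · have h1 : (⟨z, hzW⟩ : W) ^ p - algebraMap B W b ∈ maximalIdeal W := by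
        rw [W.valuation_lt_one_iff]
        exact hzval
      have h2 := (residue_eq_zero_iff _).mpr h1
      rw [map_sub, map_pow, sub_eq_zero] at h2
      exact h2
  -- the ramification index
  obtain ⟨hxε, hvε, hvxp⟩ := val_pow_eq p W πF xF b₀F m hπFval hb₀F hxF
  have hxval : W.valuation xF < 1 := by
    by_contra hcon
    rw [not_lt] at hcon
    have h1 : 1 ≤ W.valuation xF ^ p := one_le_pow₀ hcon
    rw [← map_pow, hvxp] at h1
    exact absurd hπFval (not_lt.mpr h1)
  have hxW : xF ∈ W := (W.valuation_le_one_iff _).mp hxval.le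
  have hεW : 1 + πF ^ (m + 1) * b₀F ∈ W := (W.valuation_le_one_iff _).mp hvε.le
  have hεu : IsUnit (⟨1 + πF ^ (m + 1) * b₀F, hεW⟩ : W) := (W.valuation_eq_one_iff _).mpr hvε
  obtain ⟨εu, hεu'⟩ := hεu
  obtain ⟨ϖ, hϖ⟩ := IsDiscreteValuationRing.exists_irreducible W
  have hxW0 : (⟨xF, hxW⟩ : W) ≠ 0 := by
    intro h0
    have h1 : xF = 0 := congrArg Subtype.val h0
    rw [h1, zero_pow hp.ne_zero] at hxε
    rcases mul_eq_zero.mp hxε.symm with h2 | h2
    · exact hπF0 h2
    · rw [h2, map_zero] at hvε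
      exact zero_ne_one hvε
  obtain ⟨s, w₁, hs⟩ := IsDiscreteValuationRing.eq_unit_mul_pow_irreducible hxW0 hϖ
  have hs0 : s ≠ 0 := by
    rintro rfl
    rw [pow_zero, mul_one] at hs
    have h1 : IsUnit (⟨xF, hxW⟩ : W) := hs ▸ w₁.isUnit
    have h2 := (W.valuation_eq_one_iff _).mp h1
    exact absurd h2 (ne_of_lt hxval)
  have hπW : algebraMap B W πB = ((w₁ ^ p * εu⁻¹ : Wˣ) : W) * ϖ ^ (s * p) := by
    have h1 : (⟨xF, hxW⟩ : W) ^ p = algebraMap B W πB * (εu : W) := by
      rw [hεu']
      exact Subtype.ext hxε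
    have h2 : algebraMap B W πB = (⟨xF, hxW⟩ : W) ^ p * ((εu⁻¹ : Wˣ) : W) := by
      rw [h1, mul_assoc, Units.mul_inv, mul_one]
    rw [h2, hs, mul_pow, ← pow_mul, Units.val_mul, Units.val_pow_eq_pow_val]
    ring
  have hmapW : (maximalIdeal B).map (algebraMap B W) = Ideal.span {algebraMap B W πB} := by
    rw [hmB, Ideal.map_span, Set.image_singleton]
  have hram : Ideal.ramificationIdx' (maximalIdeal B) (maximalIdeal W) = s * p :=
    ramificationIdx'_eq_of_span _ hmapW ϖ hϖ _ _ hπW
  have hs1 : s = 1 := by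
    rw [hram] at hef
    have h1 : s * p * p ≤ p * p :=
      calc s * p * p ≤ s * p * Module.finrank (ResidueField B) (ResidueField W) :=
            Nat.mul_le_mul_left _ hf
        _ ≤ Module.finrank L M'' := hef
        _ ≤ p * p := hdegLM''
    have h2 : s * (p * p) ≤ 1 * (p * p) := by rw [one_mul, ← mul_assoc]; exact h1
    have h3 := Nat.le_of_mul_le_mul_right h2 (Nat.mul_pos hp.pos hp.pos)
    omega
  rw [hs1, pow_one] at hs
  haveI : IsLocalHom (algebraMap (W.comap (algebraMap K₁ M'')) W) :=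
    EtRam.isLocalHom_inclOfComap W (algebraMap K₁ M'')
  unfold EtRam.IsWeaklyUnramified
  apply le_antisymm
  · exact ((local_hom_TFAE (algebraMap (W.comap (algebraMap K₁ M'')) W)).out 0 2).mp ‹_›
  · rw [hϖ.maximalIdeal_eq, Ideal.span_le, Set.singleton_subset_iff]
    have h1 : ϖ = ((w₁⁻¹ : Wˣ) : W) * (⟨xF, hxW⟩ : W) := by
      rw [hs, ← mul_assoc, Units.inv_mul, one_mul]
    rw [h1]
    apply Ideal.mul_mem_left
    have hxV₁ : x ∈ W.comap (algebraMap K₁ M'') := hxW
    have h2 : (⟨xF, hxW⟩ : W) =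
        algebraMap (W.comap (algebraMap K₁ M'')) W ⟨x, hxV₁⟩ := rfl
    rw [h2]
    apply Ideal.mem_map_of_mem
    rw [ValuationSubring.valuation_lt_one_iff, valuation_comap_lt_one_iff]
    exact hxval

end weak

end Groth.Agent.Lib.T2H9.PIStepSol
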