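import Mathlib
import Groth.Prelude.Def_EtRam
import Groth.Agent.Lib.T2H9ASNormalForm
import Groth.Agent.Lib.T2H9ASCompute
import Groth.Agent.Lib.T2H9PIStepSol

/-!
# A totally ramified extension with a nice uniformizer is a weak solution for an Artin–Schreier
extension whose class has a nonempty normal form
-/

set_option autoImplicit false
set_option linter.style.haveILetI false
set_option linter.unusedSectionVars false
set_option maxHeartbeats 800000
universe u

namespace Groth.Agent.Lib.T2H9.ASWeakSol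

open IsLocalRing Polynomial Groth.Agent.Lib.T2H9.TotRamDeg Groth.Agent.Lib.T2H9.RamTower
  Groth.Agent.Lib.T2H9.FinDVR Groth.Agent.Lib.T2H9.PIStepBasic Groth.Agent.Lib.T2H9.PIStepSol
  Groth.Agent.Lib.T2H9.ASNormalForm Groth.Agent.Lib.T2H9.ASCompute

section weak

variable (p : ℕ) [hpf : Fact p.Prime] (A B C K L M : Type u)
  [CommRing A] [IsDomain A] [IsDiscreteValuationRing A]
  [CommRing B] [IsDomain B] [IsDiscreteValuationRing B]
  [CommRing C] [IsDomain C] [IsDiscreteValuationRing C]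
  [Algebra A B] [Algebra B C] [Algebra A C] [IsScalarTower A B C]
  [IsLocalHom (algebraMap A B)] [IsLocalHom (algebraMap B C)]
  [Field K] [Field L] [Field M] [Algebra A K] [IsFractionRing A K] [Algebra B L]
  [IsFractionRing B L] [Algebra C M] [IsFractionRing C M] [Algebra K L] [Algebra L M]
  [Algebra K M] [IsScalarTower K L M] [Algebra A L] [IsScalarTower A K L] [IsScalarTower A B L]
  [Algebra B M] [IsScalarTower B L M] [IsScalarTower B C M] [CharP L p]
  (K₁ : Type u) [Field K₁] [Algebra K K₁] [Algebra A K₁] [IsScalarTower A K K₁]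
  [FiniteDimensional K K₁] [Algebra.IsSeparable K K₁]

theorem weakSol (π : A)
    (hπ : maximalIdeal A = Ideal.span {π}) (hw : EtRam.IsWeaklyUnramified A B)
    (hdeg : Module.finrank L M = p) (z : M) (ξ : L) (hz : z ^ p - z = algebraMap L M ξ)
    (aA : A) (nA : ℕ) (S : Finset (ℕ × ℕ)) (hS : S.Nonempty) (μ : ℕ × ℕ → B)
    (hV : Valid p S μ)
    (hNF : ξ - algebraMap A L aA * ((algebraMap B L (algebraMap A B π))⁻¹) ^ nA -
      val p (algebraMap A B π) S μ ∈ G p B L)
    (R n : ℕ) (hn : 2 ≤ n) (hnA : nA + 1 ≤ n)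
    (hSn : ∀ jr ∈ S, jr.1 + 1 ≤ n ∧ jr.2 < R ∧ nA < p ^ (R - jr.2))
    (hperf : ∀ a : A, ∃ e a' : A, a = e ^ (p ^ R) + π * a')
    (hK₁ : Module.finrank K K₁ = p ^ R) (x b₀ : K₁) (hb₀ : IsIntegral A b₀)
    (hx : x ^ (p ^ R) = algebraMap A K₁ π + algebraMap A K₁ π ^ n * b₀) :
    EtRam.IsWeakSolution C K M K₁ := by
  classical
  have hp : p.Prime := hpf.out
  intro M'' _ _ _ _ _ _ hgen W hW
  letI algV₁W : Algebra (W.comap (algebraMap K₁ M'')) W :=
    (EtRam.inclOfComap W (algebraMap K₁ M'')).toAlgebra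
  change EtRam.IsWeaklyUnramified (W.comap (algebraMap K₁ M'')) W
  haveI : FiniteDimensional L M := Module.finite_of_finrank_pos (hdeg ▸ hp.pos)
  obtain ⟨hfinMM'', hdegMM''⟩ := finrank_le K M K₁ M'' hgen
  haveI := hfinMM''
  letI algLM'' : Algebra L M'' := ((algebraMap M M'').comp (algebraMap L M)).toAlgebra
  haveI : IsScalarTower L M M'' := IsScalarTower.of_algebraMap_eq (fun _ => rfl)
  haveI : IsScalarTower K L M'' := IsScalarTower.of_algebraMap_eq (fun k => by
    change algebraMap K M'' k = algebraMap M M'' (algebraMap L M (algebraMap K L k))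
    rw [← IsScalarTower.algebraMap_apply K L M, ← IsScalarTower.algebraMap_apply K M M''])
  haveI : FiniteDimensional L M'' := FiniteDimensional.trans L M M''
  haveI : CharP M'' p := charP_of_injective_algebraMap (algebraMap L M'').injective p
  letI algCM'' : Algebra C M'' := ((algebraMap M M'').comp (algebraMap C M)).toAlgebra
  haveI : IsScalarTower C M M'' := IsScalarTower.of_algebraMap_eq (fun _ => rfl)
  have hWC : EtRam.Dominates C (algebraMap C M'') W := hW
  haveI : IsDiscreteValuationRing W := isDiscreteValuationRing_of_dominates C M M'' W hWC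
  letI algBM'' : Algebra B M'' := ((algebraMap L M'').comp (algebraMap B L)).toAlgebra
  haveI : IsScalarTower B L M'' := IsScalarTower.of_algebraMap_eq (fun _ => rfl)
  have hBC'' : ∀ b : B, algebraMap B M'' b = algebraMap C M'' (algebraMap B C b) := by
    intro b
    change algebraMap M M'' (algebraMap L M (algebraMap B L b)) =
      algebraMap M M'' (algebraMap C M (algebraMap B C b))
    rw [← IsScalarTower.algebraMap_apply B L M, ← IsScalarTower.algebraMap_apply B C M]
  have hWB : EtRam.Dominates B (algebraMap B M'') W := by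
    refine ⟨fun b => ?_, fun b hb => ?_⟩
    · rw [hBC'']
      exact hWC.1 _
    · rw [hBC'']
      apply hWC.2
      rw [mem_maximalIdeal, mem_nonunits_iff] at hb ⊢
      exact fun h => hb (isUnit_of_map_unit (algebraMap B C) b h)
  letI algBW : Algebra B W := (RingHom.codRestrict (algebraMap B M'') W hWB.1).toAlgebra
  haveI : IsScalarTower B W M'' := IsScalarTower.of_algebraMap_eq (fun _ => rfl)
  haveI : IsLocalHom (algebraMap B W) := isLocalHom_of_dominates (algebraMap B M'') W hWB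
  have hinjBM'' : Function.Injective (algebraMap B M'') :=
    (algebraMap L M'').injective.comp (IsFractionRing.injective B L)
  have hinjBW : Function.Injective (algebraMap B W) := fun a b hab =>
    hinjBM'' (congrArg Subtype.val hab)
  obtain ⟨hresfin, hef⟩ := Groth.Agent.Lib.Helper24DvrEF.s7132 B W L M'' hinjBW
  haveI := hresfin
  have hdegLM'' : Module.finrank L M'' ≤ p * p ^ R := by
    rw [← Module.finrank_mul_finrank L M M'', hdeg]
    exact Nat.mul_le_mul_left p (hdegMM''.trans hK₁.le)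
  -- the elements
  set πB : B := algebraMap A B π with hπB
  have hmB : maximalIdeal B = Ideal.span {πB} :=
    maximalIdeal_eq_of_weaklyUnramified A B π hπ hw
  have hπBirr : Irreducible πB :=
    (IsDiscreteValuationRing.irreducible_iff_uniformizer _).mpr hmB
  have hAK : ∀ a : A, algebraMap K₁ M'' (algebraMap A K₁ a) =
      algebraMap B M'' (algebraMap A B a) := by
    intro a
    rw [IsScalarTower.algebraMap_apply A K K₁, ← IsScalarTower.algebraMap_apply K K₁ M'',
      IsScalarTower.algebraMap_apply K L M'', ← IsScalarTower.algebraMap_apply A K L,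
      IsScalarTower.algebraMap_apply A B L, ← IsScalarTower.algebraMap_apply B L M'']
  set πF : M'' := algebraMap B M'' πB with hπF
  have hπFval : W.valuation πF < 1 :=
    hWB.2 πB (by rw [hmB]; exact Ideal.mem_span_singleton_self _)
  have hπF0 : πF ≠ 0 := fun h0 => hπBirr.ne_zero (hinjBM'' (h0.trans (map_zero _).symm))
  set xF : M'' := algebraMap K₁ M'' x with hxFdef
  set b₀F : M'' := algebraMap K₁ M'' b₀ with hb₀Fdef
  have hxF : xF ^ (p ^ R) = πF + πF ^ n * b₀F := by
    rw [hπF, hπB, ← hAK, hxFdef, hb₀Fdef, ← map_pow, ← map_pow, ← map_mul, ← map_add, hx]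
  have hb₀F : b₀F ∈ W := by
    apply Groth.Agent.Lib.T2H9.TotRam.mem_of_isIntegralElem
      ((algebraMap K₁ M'').comp (algebraMap A K₁)) W ?_ _ ?_
    · intro a
      rw [RingHom.comp_apply, hAK]
      exact hWB.1 _
    · obtain ⟨q, hq, hqb⟩ := hb₀
      refine ⟨q, hq, ?_⟩
      rw [hb₀Fdef, ← Polynomial.hom_eval₂, hqb, map_zero]
  -- images of the Artin–Schreier data
  set ξF : M'' := algebraMap L M'' ξ with hξF
  set zF : M'' := algebraMap M M'' z with hzF
  have hzF' : zF ^ p - zF = ξF := by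
    rw [hzF, ← map_pow, ← map_sub, hz]
    rfl
  set μF : ℕ × ℕ → M'' := fun jr => algebraMap B M'' (μ jr) with hμF
  have hμFW : ∀ jr, μF jr ∈ W := fun jr => hWB.1 _
  set aF : M'' := algebraMap B M'' (algebraMap A B aA) with haF
  have hNF' : ξF - aF * πF⁻¹ ^ nA - ∑ jr ∈ S, μF jr ^ (p ^ jr.2) * πF⁻¹ ^ jr.1 ∈ G p W M'' := by
    obtain ⟨y, b, hyb⟩ := hNF
    rw [mem_GW]
    refine ⟨algebraMap L M'' y, algebraMap B M'' b, hWB.1 b, ?_⟩
    have h1 := congrArg (algebraMap L M'') hyb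
    rw [map_sub, map_sub, map_mul, map_pow, map_inv₀, val, map_sum, map_add, map_sub, map_pow,
      IsScalarTower.algebraMap_apply A B L, ← IsScalarTower.algebraMap_apply B L M'',
      ← IsScalarTower.algebraMap_apply B L M'', ← IsScalarTower.algebraMap_apply B L M''] at h1
    rw [← h1]
    congr 1
    refine Finset.sum_congr rfl fun jr _ => ?_
    rw [term, map_mul, map_pow, map_pow, map_inv₀, ← IsScalarTower.algebraMap_apply B L M'',
      ← IsScalarTower.algebraMap_apply B L M'']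
  obtain ⟨hxε, hvε, hle, hvx, hx0⟩ := root_basic p W πF xF b₀F n R hπFval hπF0 hb₀F hn hxF
  have hperfF : ∀ a ∈ Set.range (fun a : A => algebraMap B M'' (algebraMap A B a)),
      ∃ e ∈ Set.range (fun a : A => algebraMap B M'' (algebraMap A B a)),
      ∃ a' ∈ Set.range (fun a : A => algebraMap B M'' (algebraMap A B a)),
        a = e ^ (p ^ R) + πF * a' := by
    rintro _ ⟨a, rfl⟩
    obtain ⟨e, a', rfl⟩ := hperf a
    refine ⟨_, ⟨e, rfl⟩, _, ⟨a', rfl⟩, ?_⟩
    simp only [map_add, map_mul, map_pow, hπF, hπB]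
  obtain ⟨y', hy'G, hy'W⟩ := apart p W πF xF b₀F n R hπFval hπF0 hb₀F hn hxF _
    (by rintro _ ⟨a, rfl⟩; exact hWB.1 _) hperfF nA hnA aF ⟨aA, rfl⟩
  have hvalidF : ∀ jr ∈ S, 1 ≤ jr.1 ∧ jr.1 + 1 ≤ n ∧ jr.2 < R ∧ (jr.2 = 0 ∨ ¬ p ∣ jr.1) ∧
      nA < p ^ (R - jr.2) := fun jr hjr =>
    ⟨(hV jr hjr).1, (hSn jr hjr).1, (hSn jr hjr).2.1, (hV jr hjr).2.1, (hSn jr hjr).2.2⟩
  have hξ' : ξF - y' - ∑ jr ∈ S, μF jr ^ (p ^ jr.2) * πF⁻¹ ^ jr.1 ∈ G p W M'' := by
    have h1 : ξF - y' - ∑ jr ∈ S, μF jr ^ (p ^ jr.2) * πF⁻¹ ^ jr.1 =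
        (ξF - aF * πF⁻¹ ^ nA - ∑ jr ∈ S, μF jr ^ (p ^ jr.2) * πF⁻¹ ^ jr.1) +
          (aF * πF⁻¹ ^ nA - y') := by ring
    rw [h1]
    exact (G p W M'').add_mem hNF' hy'G
  obtain ⟨js, hjs, N, hN1, hpN, Y, hYv⟩ := exists_top p W πF xF b₀F n R hπFval hπF0 hb₀F hn hxF
    S hS μF (fun jr _ => hμFW jr) nA hvalidF y' hy'W ξF hξ'
  obtain ⟨t, htW, htv⟩ := exists_root p W xF (zF - Y) (ξF - (Y ^ p - Y)) (μF js) N hvx hN1 hpN
    (by rw [sub_pow_char, ← hzF']; ring) (hμFW js) hYv
  -- the residue degree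
  have hf : p ≤ Module.finrank (ResidueField B) (ResidueField W) := by
    apply le_finrank_of_pow_eq p hp (residue B (μ js)) ?_ (residue W ⟨t, htW⟩) ?_
    · intro r hr
      obtain ⟨r', rfl⟩ := residue_surjective r
      exact (hV js hjs).2.2 r' hr.symm
    · have h1 : (⟨t, htW⟩ : W) ^ p - algebraMap B W (μ js) ∈ maximalIdeal W := by
        rw [W.valuation_lt_one_iff]
        exact htv
      have h2 := (residue_eq_zero_iff _).mpr h1
      rw [map_sub, map_pow, sub_eq_zero] at h2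
      exact h2
  -- the ramification index
  have hxW : xF ∈ W := (W.valuation_le_one_iff _).mp hvx.le
  have hεW : 1 + πF ^ (n - 1) * b₀F ∈ W := (W.valuation_le_one_iff _).mp hvε.le
  have hεu : IsUnit (⟨1 + πF ^ (n - 1) * b₀F, hεW⟩ : W) := (W.valuation_eq_one_iff _).mpr hvε
  obtain ⟨εu, hεu'⟩ := hεu
  obtain ⟨ϖ, hϖ⟩ := IsDiscreteValuationRing.exists_irreducible W
  have hxW0 : (⟨xF, hxW⟩ : W) ≠ 0 := fun h0 => hx0 (congrArg Subtype.val h0)
  obtain ⟨s, w₁, hs⟩ := IsDiscreteValuationRing.eq_unit_mul_pow_irreducible hxW0 hϖ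
  have hs0 : s ≠ 0 := by
    rintro rfl
    rw [pow_zero, mul_one] at hs
    have h1 : IsUnit (⟨xF, hxW⟩ : W) := hs ▸ w₁.isUnit
    have h2 := (W.valuation_eq_one_iff _).mp h1
    exact absurd h2 (ne_of_lt hvx)
  have hπW : algebraMap B W πB = ((w₁ ^ (p ^ R) * εu⁻¹ : Wˣ) : W) * ϖ ^ (s * p ^ R) := by
    have h1 : (⟨xF, hxW⟩ : W) ^ (p ^ R) = algebraMap B W πB * (εu : W) := by
      rw [hεu']
      exact Subtype.ext hxε
    have h2 : algebraMap B W πB = (⟨xF, hxW⟩ : W) ^ (p ^ R) * ((εu⁻¹ : Wˣ) : W) := by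
      rw [h1, mul_assoc, Units.mul_inv, mul_one]
    rw [h2, hs, mul_pow, ← pow_mul, Units.val_mul, Units.val_pow_eq_pow_val]
    ring
  have hmapW : (maximalIdeal B).map (algebraMap B W) = Ideal.span {algebraMap B W πB} := by
    rw [hmB, Ideal.map_span, Set.image_singleton]
  have hram : Ideal.ramificationIdx' (maximalIdeal B) (maximalIdeal W) = s * p ^ R :=
    ramificationIdx'_eq_of_span _ hmapW ϖ hϖ _ _ hπW
  have hs1 : s = 1 := by
    rw [hram] at hef
    have hq : 0 < p ^ R := pow_pos hp.pos R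
    have h1 : s * p ^ R * p ≤ p * p ^ R :=
      calc s * p ^ R * p ≤ s * p ^ R * Module.finrank (ResidueField B) (ResidueField W) :=
            Nat.mul_le_mul_left _ hf
        _ ≤ Module.finrank L M'' := hef
        _ ≤ p * p ^ R := hdegLM''
    have h2 : s * (p * p ^ R) ≤ 1 * (p * p ^ R) := by
      rw [one_mul]
      calc s * (p * p ^ R) = s * p ^ R * p := by ring
        _ ≤ p * p ^ R := h1
    have h3 := Nat.le_of_mul_le_mul_right h2 (Nat.mul_pos hp.pos hq)
    omega
  rw [hs1, pow_one] at hs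
  haveI : IsLocalHom (algebraMap (W.comap (algebraMap K₁ M'')) W) :=
    EtRam.isLocalHom_inclOfComap W (algebraMap K₁ M'')
  unfold EtRam.IsWeaklyUnramified
  apply le_antisymm
  · exact ((local_hom_TFAE (algebraMap (W.comap (algebraMap K₁ M'')) W)).out 0 2).mp ‹_›
  · rw [hϖ.maximalIdeal_eq, Ideal.span_le, Set.singleton_subset_iff]
    have h1 : ϖ = ((w₁⁻¹ : Wˣ) : W) * (⟨xF, hxW⟩ : W) := by
      rw [hs, ← mul_assoc, Units.inv_mul, one_mul]
    rw [h1]
    apply Ideal.mul_mem_left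
    have hxV₁ : x ∈ W.comap (algebraMap K₁ M'') := hxW
    have h2 : (⟨xF, hxW⟩ : W) =
        algebraMap (W.comap (algebraMap K₁ M'')) W ⟨x, hxV₁⟩ := rfl
    rw [h2]
    apply Ideal.mem_map_of_mem
    rw [ValuationSubring.valuation_lt_one_iff, valuation_comap_lt_one_iff]
    exact hvx

end weak

end Groth.Agent.Lib.T2H9.ASWeakSol
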