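import Mathlib

set_option autoImplicit false
set_option linter.style.haveILetI false
set_option linter.unusedSectionVars false
universe u

namespace Groth.Agent.Lib.T2H9.Eisenstein

open Polynomial IsLocalRing

variable {A : Type u} [CommRing A] [IsDomain A] [IsDiscreteValuationRing A]

/-- the polynomial `X^q - π^n X - π` -/
noncomputable def poly (π : A) (n q : ℕ) : A[X] := X ^ q - C (π ^ n) * X - C π

theorem poly_eq (π : A) (n q : ℕ) : poly π n q = X ^ q - (C (π ^ n) * X + C π) := by
  rw [poly, sub_sub]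

theorem degree_lt (π : A) (n q : ℕ) (hq : 2 ≤ q) :
    (C (π ^ n) * X + C π : A[X]).degree < ((X : A[X]) ^ q).degree := by
  rw [degree_X_pow]
  refine lt_of_le_of_lt (degree_add_le _ _) (max_lt ?_ ?_)
  · refine lt_of_le_of_lt (degree_C_mul_X_le _) ?_
    exact_mod_cast (by omega : 1 < q)
  · refine lt_of_le_of_lt degree_C_le ?_
    exact_mod_cast (by omega : 0 < q)

theorem poly_monic (π : A) (n q : ℕ) (hq : 2 ≤ q) : (poly π n q).Monic := by
  rw [poly_eq]
  exact (monic_X_pow q).sub_of_left (degree_lt π n q hq)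

theorem poly_natDegree (π : A) (n q : ℕ) (hq : 2 ≤ q) : (poly π n q).natDegree = q := by
  rw [poly_eq, natDegree_sub_eq_left_of_natDegree_lt, natDegree_X_pow]
  rw [natDegree_X_pow]
  have := degree_lt π n q hq
  rw [degree_X_pow] at this
  by_cases h0 : (C (π ^ n) * X + C π : A[X]) = 0
  · rw [h0, natDegree_zero]; omega
  · exact (natDegree_lt_iff_degree_lt h0).mpr this

theorem poly_coeff (π : A) (n q : ℕ) (_hq : 2 ≤ q) (i : ℕ) (hi : i < q) :
    (poly π n q).coeff i = if i = 0 then -π else if i = 1 then -π ^ n else 0 := by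
  rw [poly, coeff_sub, coeff_sub, coeff_X_pow, coeff_C_mul, coeff_X, coeff_C]
  have hiq : i ≠ q := hi.ne
  rcases i with _ | _ | i
  · simp [hiq]
  · simp [hiq]
  · simp [hiq]

theorem poly_isEisensteinAt {π : A} (hπ : Irreducible π) (n q : ℕ) (hn : 1 ≤ n) (hq : 2 ≤ q) :
    (poly π n q).IsEisensteinAt (maximalIdeal A) := by
  have hπm : π ∈ maximalIdeal A := by
    rw [mem_maximalIdeal, mem_nonunits_iff]
    exact hπ.not_isUnit
  refine ⟨?_, ?_, ?_⟩
  · rw [(poly_monic π n q hq).leadingCoeff]
    exact fun h => (maximalIdeal.isMaximal A).ne_top ((Ideal.eq_top_iff_one _).mpr h)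
  · intro i hi
    rw [poly_natDegree π n q hq] at hi
    rw [poly_coeff π n q hq i hi]
    split_ifs
    · exact (maximalIdeal A).neg_mem hπm
    · exact (maximalIdeal A).neg_mem (Ideal.pow_mem_of_mem _ hπm n (by omega))
    · exact (maximalIdeal A).zero_mem
  · rw [poly_coeff π n q hq 0 (by omega), if_pos rfl, hπ.maximalIdeal_eq, Ideal.span_singleton_pow,
      Ideal.mem_span_singleton, dvd_neg]
    rintro ⟨c, hc⟩
    have h1 : π * 1 = π * (π * c) := by rw [mul_one, ← mul_assoc, ← sq, ← hc]
    have h2 := mul_left_cancel₀ hπ.ne_zero h1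
    exact hπ.not_isUnit (IsUnit.of_mul_eq_one c h2.symm)

theorem poly_irreducible {π : A} (hπ : Irreducible π) (n q : ℕ) (hn : 1 ≤ n) (hq : 2 ≤ q) :
    Irreducible (poly π n q) :=
  (poly_isEisensteinAt hπ n q hn hq).irreducible (maximalIdeal.isMaximal A).isPrime
    (poly_monic π n q hq).isPrimitive (by rw [poly_natDegree π n q hq]; omega)

variable (K : Type u) [Field K] [Algebra A K] [IsFractionRing A K]

theorem poly_map_irreducible {π : A} (hπ : Irreducible π) (n q : ℕ) (hn : 1 ≤ n) (hq : 2 ≤ q) :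
    Irreducible ((poly π n q).map (algebraMap A K)) :=
  ((poly_monic π n q hq).irreducible_iff_irreducible_map_fraction_map).mp
    (poly_irreducible hπ n q hn hq)

theorem poly_map_separable {π : A} (hπ : Irreducible π) (n q : ℕ) (hn : 1 ≤ n) (hq : 2 ≤ q) :
    ((poly π n q).map (algebraMap A K)).Separable := by
  rw [separable_iff_derivative_ne_zero (poly_map_irreducible K hπ n q hn hq)]
  intro h0
  have h1 := congrArg (fun P => P.coeff 0) h0
  simp only [poly, Polynomial.map_sub, Polynomial.map_mul, Polynomial.map_pow, map_X, map_C,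
    derivative_sub, derivative_X_pow, derivative_mul, derivative_C, derivative_X, zero_mul,
    zero_add, mul_one, coeff_sub, coeff_C_zero, coeff_zero, sub_zero] at h1
  have h2 : (C (q : K) * X ^ (q - 1) : K[X]).coeff 0 = 0 := by
    rw [coeff_C_mul, coeff_X_pow, if_neg (by omega), mul_zero]
  rw [h2, zero_sub, neg_eq_zero, map_pow] at h1
  have h3 : algebraMap A K π ≠ 0 := by
    rw [Ne, map_eq_zero_iff _ (IsFractionRing.injective A K)]
    exact hπ.ne_zero
  exact pow_ne_zero n h3 h1

end Groth.Agent.Lib.T2H9.Eisenstein
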