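import Mathlib
import Groth.Prelude.Def_EtRam
import Groth.Agent.Lib.T2H9ASNormalForm
import Groth.Agent.Lib.T2H9ASWeakSol
import Groth.Agent.Lib.T2H9ASEmpty
import Groth.Agent.Lib.T2H9ASGen
import Groth.Agent.Lib.T2H9ASCases
import Groth.Agent.S7157
import Groth.Agent.S7158

/-!
# Assembly of the characteristic `p` Artin–Schreier step in Epp's theorem
-/

set_option autoImplicit false
set_option linter.style.haveILetI false
set_option linter.unusedSectionVars false
set_option maxHeartbeats 800000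
universe u

namespace Groth.Agent.Lib.T2H9.ASAssemble

open IsLocalRing Polynomial Groth.Agent.Lib.T2H9.ASNormalForm

section residue

variable (p : ℕ) [hpf : Fact p.Prime] (A B : Type u)
  [CommRing A] [IsDomain A] [IsDiscreteValuationRing A]
  [CommRing B] [IsDomain B] [IsDiscreteValuationRing B]
  [Algebra A B] [IsLocalHom (algebraMap A B)] [CharP (ResidueField B) p]

variable (hk : ∀ x : ResidueField B, (∀ n : ℕ, ∃ y : ResidueField B, y ^ (p ^ n) = x) ↔
      x ∈ Set.range (algebraMap (ResidueField A) (ResidueField B)))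

include hk

/-- The residue field of `A` is perfect. -/
theorem exists_pth_root (a : A) (π : A) (hπ : maximalIdeal A = Ideal.span {π}) :
    ∃ e a' : A, a = e ^ p + π * a' := by
  have hp : p.Prime := hpf.out
  haveI : ExpChar (ResidueField B) p := ExpChar.prime hp
  set x : ResidueField B := algebraMap (ResidueField A) (ResidueField B) (residue A a) with hx
  have hxr : ∀ n : ℕ, ∃ y : ResidueField B, y ^ (p ^ n) = x := (hk x).mpr ⟨_, rfl⟩
  obtain ⟨y₁, hy₁⟩ := hxr 1
  rw [pow_one] at hy₁
  have hy₁r : ∀ n : ℕ, ∃ y : ResidueField B, y ^ (p ^ n) = y₁ := by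
    intro n
    obtain ⟨y, hy⟩ := hxr (n + 1)
    refine ⟨y, frobenius_inj (ResidueField B) p ?_⟩
    rw [frobenius_def, frobenius_def, ← pow_mul, ← pow_succ, hy, hy₁]
  obtain ⟨ebar, hebar⟩ := (hk y₁).mp hy₁r
  obtain ⟨e, rfl⟩ := residue_surjective ebar
  have h1 : residue A (e ^ p) = residue A a := by
    apply (algebraMap (ResidueField A) (ResidueField B)).injective
    rw [map_pow, map_pow, hebar, hy₁]
  have h2 : a - e ^ p ∈ maximalIdeal A := by
    rw [← residue_eq_zero_iff, map_sub, h1, sub_self]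
  rw [hπ, Ideal.mem_span_singleton'] at h2
  obtain ⟨a', ha'⟩ := h2
  exact ⟨e, a', by rw [mul_comm, ha']; ring⟩

theorem exists_root_pow [CharP A p] (π : A) (hπ : maximalIdeal A = Ideal.span {π}) (R : ℕ)
    (a : A) : ∃ e a' : A, a = e ^ (p ^ R) + π * a' := by
  induction R generalizing a with
  | zero => exact ⟨a, 0, by simp⟩
  | succ R ih =>
    obtain ⟨e, a', rfl⟩ := ih a
    obtain ⟨e₁, e', rfl⟩ := exists_pth_root p A B hk e π hπ
    refine ⟨e₁, π ^ (p ^ R - 1) * e' ^ (p ^ R) + a', ?_⟩
    have h1 : 1 ≤ p ^ R := Nat.one_le_pow _ _ hpf.out.pos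
    have h2 : π ^ (p ^ R) = π * π ^ (p ^ R - 1) := by
      rw [← pow_succ', Nat.sub_add_cancel h1]
    have h3 : p * p ^ R = p ^ (R + 1) := (pow_succ' p R).symm
    rw [add_pow_char_pow, mul_pow, ← pow_mul, h3, h2]
    ring

/-- The dichotomy for residues of elements of `B`. -/
theorem dichotomy (c : B) :
    (∃ a : A, c - algebraMap A B a ∈ maximalIdeal B) ∨
      (∃ (s : ℕ) (μ₀ : B), c - μ₀ ^ (p ^ s) ∈ maximalIdeal B ∧
        ∀ d : B, residue B μ₀ ≠ residue B d ^ p) := by
  classical
  by_cases h : residue B c ∈ Set.range (algebraMap (ResidueField A) (ResidueField B))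
  · left
    obtain ⟨abar, habar⟩ := h
    obtain ⟨a, rfl⟩ := residue_surjective abar
    refine ⟨a, ?_⟩
    rw [← residue_eq_zero_iff, map_sub, ← habar, ResidueField.algebraMap_residue, sub_self]
  · right
    rw [← hk] at h
    push Not at h
    have hex : ∃ n : ℕ, ∀ y : ResidueField B, y ^ (p ^ n) ≠ residue B c := h
    set n₀ := Nat.find hex with hn₀
    have hn₀spec : ∀ y : ResidueField B, y ^ (p ^ n₀) ≠ residue B c := Nat.find_spec hex
    have hn₀pos : n₀ ≠ 0 := by
      intro h0
      have := hn₀spec (residue B c)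
      rw [h0, pow_zero, pow_one] at this
      exact this rfl
    obtain ⟨s, hs⟩ : ∃ s, n₀ = s + 1 := ⟨n₀ - 1, by omega⟩
    have hmin : ¬ ∀ y : ResidueField B, y ^ (p ^ s) ≠ residue B c :=
      Nat.find_min hex (by omega)
    push Not at hmin
    obtain ⟨y, hy⟩ := hmin
    obtain ⟨μ₀, rfl⟩ := residue_surjective y
    refine ⟨s, μ₀, ?_, ?_⟩
    · rw [← residue_eq_zero_iff, map_sub, map_pow, hy, sub_self]
    · intro d hd
      apply hn₀spec (residue B d)
      rw [hs, pow_succ, pow_mul', ← hd, hy]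

end residue

section reduce

variable (p : ℕ) [hpf : Fact p.Prime] (A K : Type u)
  [CommRing A] [IsDomain A] [IsDiscreteValuationRing A]
  [Field K] [Algebra A K] [IsFractionRing A K] [CharP K p]

theorem wp_add (y y' : K) : (y + y') ^ p - (y + y') = (y ^ p - y) + (y' ^ p - y') := by
  rw [add_pow_char]; ring

/-- Reduction of an element `a * π ^ (-m)` of `K` modulo `℘(K)`: either it becomes integral, or
its pole order becomes prime to `p` (with unit leading coefficient). -/
theorem reduceK (π : A) (hπ : maximalIdeal A = Ideal.span {π})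
    (hperf1 : ∀ a : A, ∃ e a' : A, a = e ^ p + π * a') (m : ℕ) :
    ∀ a : A,
      (∃ (y : K) (a' : A),
        algebraMap A K a * ((algebraMap A K π)⁻¹) ^ m = y ^ p - y + algebraMap A K a') ∨
      (∃ (n' : ℕ) (a₂ : Aˣ) (y : K), 0 < n' ∧ ¬ p ∣ n' ∧
        algebraMap A K a * ((algebraMap A K π)⁻¹) ^ m =
          y ^ p - y + algebraMap A K a₂ * ((algebraMap A K π)⁻¹) ^ n') := by
  have hp : p.Prime := hpf.out
  have hirr : Irreducible π := (IsDiscreteValuationRing.irreducible_iff_uniformizer π).mpr hπ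
  have h0 : algebraMap A K π ≠ 0 := by
    rw [Ne, map_eq_zero_iff _ (IsFractionRing.injective A K)]
    exact hirr.ne_zero
  induction m using Nat.strong_induction_on with
  | _ m ih =>
    intro a
    rcases Nat.eq_zero_or_pos m with rfl | hm
    · left
      exact ⟨0, a, by simp [zero_pow hp.ne_zero]⟩
    by_cases ha : a ∈ maximalIdeal A
    · rw [hπ, Ideal.mem_span_singleton'] at ha
      obtain ⟨a'', rfl⟩ := ha
      have key : algebraMap A K (a'' * π) * ((algebraMap A K π)⁻¹) ^ m =
          algebraMap A K a'' * ((algebraMap A K π)⁻¹) ^ (m - 1) := by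
        obtain ⟨m', rfl⟩ : ∃ m', m = m' + 1 := ⟨m - 1, by omega⟩
        rw [Nat.add_sub_cancel, map_mul, pow_succ]
        field_simp
      rw [key]
      exact ih (m - 1) (by omega) a''
    have hau : IsUnit a := by
      by_contra h
      exact ha ((mem_maximalIdeal a).mpr h)
    by_cases hpm : p ∣ m
    · obtain ⟨m', rfl⟩ := hpm
      obtain ⟨e, a', rfl⟩ := hperf1 a
      have hm' : 0 < m' := Nat.pos_of_ne_zero (by rintro rfl; simp at hm)
      have hle : m' ≤ p * m' - 1 := by
        have h2 : 2 * m' ≤ p * m' := Nat.mul_le_mul_right _ hp.two_le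
        omega
      set y₀ : K := algebraMap A K e * ((algebraMap A K π)⁻¹) ^ m' with hy₀
      have hinv : ∀ j : ℕ, ((algebraMap A K π)⁻¹) ^ j * (algebraMap A K π) ^ j = 1 := by
        intro j
        rw [← mul_pow, inv_mul_cancel₀ h0, one_pow]
      have key : algebraMap A K (e ^ p + π * a') * ((algebraMap A K π)⁻¹) ^ (p * m') =
          (y₀ ^ p - y₀) + algebraMap A K (e * π ^ (p * m' - 1 - m') + a') *
            ((algebraMap A K π)⁻¹) ^ (p * m' - 1) := by
        have e1 : p * m' = (p * m' - 1) + 1 := by omega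
        have e2 : p * m' - 1 = (p * m' - 1 - m') + m' := by omega
        have h3 : ((algebraMap A K π)⁻¹) ^ (p * m') =
            ((algebraMap A K π)⁻¹) ^ (p * m' - 1) * (algebraMap A K π)⁻¹ := by
          rw [← pow_succ, ← e1]
        have h4 : ((algebraMap A K π)⁻¹) ^ (p * m' - 1) * (algebraMap A K π) ^ (p * m' - 1 - m') =
            ((algebraMap A K π)⁻¹) ^ m' := by
          have h4gen : ∀ d j : ℕ, ((algebraMap A K π)⁻¹) ^ (d + j) * (algebraMap A K π) ^ d =
              ((algebraMap A K π)⁻¹) ^ j := by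
            intro d j
            rw [pow_add, mul_comm (_ ^ d), mul_assoc, hinv, mul_one]
          have := h4gen (p * m' - 1 - m') m'
          rwa [← e2] at this
        have h5 : y₀ ^ p = algebraMap A K e ^ p * ((algebraMap A K π)⁻¹) ^ (p * m') := by
          rw [hy₀, mul_pow, ← pow_mul, mul_comm m' p]
        rw [h5, map_add, map_add, map_mul, map_mul, map_pow, map_pow, add_mul, add_mul, hy₀]
        have h6 : algebraMap A K π * algebraMap A K a' * ((algebraMap A K π)⁻¹) ^ (p * m') =
            algebraMap A K a' * ((algebraMap A K π)⁻¹) ^ (p * m' - 1) := by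
          rw [h3]
          field_simp
        have h7 : algebraMap A K e * algebraMap A K π ^ (p * m' - 1 - m') *
            ((algebraMap A K π)⁻¹) ^ (p * m' - 1) =
            algebraMap A K e * ((algebraMap A K π)⁻¹) ^ m' := by
          rw [mul_assoc, mul_comm (_ ^ (p * m' - 1 - m')), h4]
        rw [h6, h7]
        ring
      rw [key]
      rcases ih (p * m' - 1) (by omega) (e * π ^ (p * m' - 1 - m') + a') with
        ⟨y, a₁, h⟩ | ⟨n', a₂, y, hn', hpn', h⟩
      · left
        refine ⟨y₀ + y, a₁, ?_⟩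
        rw [h, wp_add]
        ring
      · right
        refine ⟨n', a₂, y₀ + y, hn', hpn', ?_⟩
        rw [h, wp_add]
        ring
    · right
      exact ⟨m, hau.unit, 0, hm, hpm, by simp [zero_pow hp.ne_zero]⟩

/-- The totally ramified Artin–Schreier extension attached to `a₂ * π ^ (-n')`, `p ∤ n'`. -/
theorem exists_ext_of_AS (π : A) (hπ : maximalIdeal A = Ideal.span {π}) (ξ₁ : K) (n' : ℕ)
    (a₂ : Aˣ) (hn' : 0 < n') (hpn' : ¬ p ∣ n')
    (hξ₁ : ξ₁ = algebraMap A K a₂ * ((algebraMap A K π)⁻¹) ^ n') :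
    ∃ (K₁ : Type u) (_ : Field K₁) (_ : Algebra K K₁), FiniteDimensional K K₁ ∧
      Algebra.IsSeparable K K₁ ∧
      EtRam.IsTotallyRamified A ((algebraMap K K₁).comp (algebraMap A K)) ∧
      ∃ w : K₁, w ^ p - w = algebraMap K K₁ ξ₁ := by
  have hp : p.Prime := hpf.out
  have hirr : Irreducible π := (IsDiscreteValuationRing.irreducible_iff_uniformizer π).mpr hπ
  have h0 : algebraMap A K π ≠ 0 := by
    rw [Ne, map_eq_zero_iff _ (IsFractionRing.injective A K)]
    exact hirr.ne_zero
  have hdegne : (Groth.Agent.Lib.T2H9.ArtinSchreier.asPoly p ξ₁).degree ≠ 0 := by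
    rw [Polynomial.degree_eq_natDegree
      (Groth.Agent.Lib.T2H9.ArtinSchreier.asPoly_monic p hp.two_le ξ₁).ne_zero,
      Groth.Agent.Lib.T2H9.ArtinSchreier.asPoly_natDegree p hp.two_le]
    exact_mod_cast hp.ne_zero
  obtain ⟨w₀, hw₀⟩ := IsAlgClosed.exists_aeval_eq_zero (AlgebraicClosure K)
    (Groth.Agent.Lib.T2H9.ArtinSchreier.asPoly p ξ₁) hdegne
  rw [Groth.Agent.Lib.T2H9.ArtinSchreier.aeval_asPoly] at hw₀
  have hint : IsIntegral K w₀ := Algebra.IsIntegral.isIntegral w₀
  refine ⟨↥(IntermediateField.adjoin K {w₀}), inferInstance, inferInstance, ?_⟩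
  set w : ↥(IntermediateField.adjoin K {w₀}) := IntermediateField.AdjoinSimple.gen K w₀ with hwdef
  have hw : w ^ p - w = algebraMap K ↥(IntermediateField.adjoin K {w₀}) ξ₁ := by
    apply Subtype.ext
    have : ((w ^ p - w : ↥(IntermediateField.adjoin K {w₀})) : AlgebraicClosure K) =
        w₀ ^ p - w₀ := by
      simp [hwdef]
    rw [this]
    change w₀ ^ p - w₀ = algebraMap K (AlgebraicClosure K) ξ₁
    rw [← sub_eq_zero, hw₀]
  have hgen : IntermediateField.adjoin K {w} = ⊤ :=
    IntermediateField.adjoin_eq_top_of_algebra _ _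
      (Groth.Agent.Lib.T2H9.ASEmpty.adjoin_gen_eq_top w₀ hint)
  letI algAK₁ : Algebra A ↥(IntermediateField.adjoin K {w₀}) :=
    ((algebraMap K ↥(IntermediateField.adjoin K {w₀})).comp (algebraMap A K)).toAlgebra
  haveI : IsScalarTower A K ↥(IntermediateField.adjoin K {w₀}) :=
    IsScalarTower.of_algebraMap_eq (fun _ => rfl)
  have h := Groth.Agent.S7158.result p hp A K ↥(IntermediateField.adjoin K {w₀}) π hπ ξ₁ w hw hgen
  dsimp only at h
  obtain ⟨hgal, -, -, hB, -⟩ := h
  have h3 := hB n' a₂ hn' hpn' (by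
    rw [hξ₁, mul_assoc, ← mul_pow, inv_mul_cancel₀ h0, one_pow, mul_one])
  haveI : FiniteDimensional K ↥(IntermediateField.adjoin K {w₀}) :=
    Module.finite_of_finrank_pos (h3.2 ▸ hp.pos)
  exact ⟨inferInstance, inferInstance, h3.1, w, hw⟩

theorem exists_eq_mul_inv_pow (π : A) (hπ : maximalIdeal A = Ideal.span {π}) (x : K) :
    ∃ (a : A) (m : ℕ), x = algebraMap A K a * ((algebraMap A K π)⁻¹) ^ m := by
  have hirr : Irreducible π := (IsDiscreteValuationRing.irreducible_iff_uniformizer π).mpr hπ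
  have h0 : algebraMap A K π ≠ 0 := by
    rw [Ne, map_eq_zero_iff _ (IsFractionRing.injective A K)]
    exact hirr.ne_zero
  obtain ⟨c, d, hd, rfl⟩ := IsFractionRing.div_surjective (A := A) x
  have hd0 : d ≠ 0 := nonZeroDivisors.ne_zero hd
  obtain ⟨m, u, hu⟩ := IsDiscreteValuationRing.eq_unit_mul_pow_irreducible hd0 hirr
  refine ⟨c * ((u⁻¹ : Aˣ) : A), m, ?_⟩
  have hu' : algebraMap A K (u : A) * algebraMap A K ((u⁻¹ : Aˣ) : A) = 1 := by
    rw [← map_mul, Units.mul_inv, map_one]
  have hu0 : algebraMap A K (u : A) ≠ 0 := left_ne_zero_of_mul_eq_one hu'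
  rw [hu, map_mul, map_mul, map_pow, inv_pow, eq_inv_of_mul_eq_one_right hu']
  field_simp

theorem isTotallyRamified_self :
    EtRam.IsTotallyRamified A ((algebraMap K K).comp (algebraMap A K)) := by
  haveI : IsLocalHom (algebraMap A A) := ⟨fun a ha => ha⟩
  have h := Groth.Agent.Lib.T2H9.TotRam.isTotallyRamified_of_dvr (A := A) (B := A) K
    (fun _ _ h => h) (fun b => ⟨b, by simp⟩)
  have e : (algebraMap A K).comp (algebraMap A A) = (algebraMap K K).comp (algebraMap A K) := by
    ext; rfl
  rwa [e] at h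

end reduce

section main

variable (p : ℕ) (A B C K L M : Type u)
  [CommRing A] [IsDomain A] [IsDiscreteValuationRing A]
  [CommRing B] [IsDomain B] [IsDiscreteValuationRing B]
  [CommRing C] [IsDomain C] [IsDiscreteValuationRing C]
  [Algebra A B] [Algebra B C] [Algebra A C] [IsScalarTower A B C]
  [IsLocalHom (algebraMap A B)] [IsLocalHom (algebraMap B C)]
  [Field K] [Field L] [Field M] [Algebra A K] [IsFractionRing A K] [Algebra B L]
  [IsFractionRing B L] [Algebra C M] [IsFractionRing C M] [Algebra K L] [Algebra L M]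
  [Algebra K M] [IsScalarTower K L M] [Algebra A L] [IsScalarTower A K L] [IsScalarTower A B L]
  [Algebra B M] [IsScalarTower B L M] [IsScalarTower B C M]

theorem main (hp : p.Prime) (hAB : Function.Injective (algebraMap A B))
    (hw : EtRam.IsWeaklyUnramified A B) [CharP K p] [IsGalois L M]
    (hdeg : Module.finrank L M = p)
    (hk : ∀ x : ResidueField B, (∀ n : ℕ, ∃ y : ResidueField B, y ^ (p ^ n) = x) ↔
      x ∈ Set.range (algebraMap (ResidueField A) (ResidueField B))) :
    ∃ (K₁ : Type u) (_ : Field K₁) (_ : Algebra K K₁), FiniteDimensional K K₁ ∧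
      Algebra.IsSeparable K K₁ ∧
      EtRam.IsTotallyRamified A ((algebraMap K K₁).comp (algebraMap A K)) ∧
      EtRam.IsWeakSolution C K M K₁ := by
  classical
  haveI hpf : Fact p.Prime := ⟨hp⟩
  haveI : CharP L p := charP_of_injective_algebraMap (algebraMap K L).injective p
  haveI : CharP A p := Groth.Agent.Lib.T2H9.ASCases.charP_base p A K
  haveI : CharP (ResidueField A) p := Groth.Agent.Lib.T2H9.ASCases.charP_residue p A K
  haveI : CharP (ResidueField B) p := Groth.Agent.Lib.T2H9.ASCases.charP_residue p B L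
  obtain ⟨π, hirr⟩ := IsDiscreteValuationRing.exists_irreducible A
  have hπ : maximalIdeal A = Ideal.span {π} := hirr.maximalIdeal_eq
  have hϖ : maximalIdeal B = Ideal.span {algebraMap A B π} := by
    have hw' := hw
    unfold EtRam.IsWeaklyUnramified at hw'
    rw [← hw', hπ, Ideal.map_span, Set.image_singleton]
  have hAL : ∀ a : A, algebraMap K L (algebraMap A K a) = algebraMap B L (algebraMap A B a) := by
    intro a
    rw [← IsScalarTower.algebraMap_apply A K L, IsScalarTower.algebraMap_apply A B L]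
  have hKL : ∀ (a : A) (n : ℕ), algebraMap K L (algebraMap A K a * ((algebraMap A K π)⁻¹) ^ n) =
      algebraMap B L (algebraMap A B a) * ((algebraMap B L (algebraMap A B π))⁻¹) ^ n := by
    intro a n
    rw [map_mul, map_pow, map_inv₀, hAL, hAL]
  -- the Artin–Schreier generator
  obtain ⟨z, hzL, ξ, hz⟩ := Groth.Agent.Lib.T2H9.ASGen.exists_artinSchreier p L M hdeg
  have hzgen : Algebra.adjoin L {z} = ⊤ := by
    rcases (Subalgebra.isSimpleOrder_of_finrank_prime L M (hdeg ▸ hp)).eq_bot_or_eq_top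
      (Algebra.adjoin L {z}) with h | h
    · exfalso
      apply hzL
      have h1 : z ∈ Algebra.adjoin L {z} := Algebra.subset_adjoin (Set.mem_singleton z)
      rw [h, Algebra.mem_bot] at h1
      exact h1
    · exact h
  -- the normal form of `ξ`
  set KA : AddSubgroup L := (algebraMap K L).toAddMonoidHom.range with hKA
  have hdich : ∀ c : B,
      (∃ c₀ : B, c - c₀ ∈ maximalIdeal B ∧
        ∀ n : ℕ, algebraMap B L c₀ * ((algebraMap B L (algebraMap A B π))⁻¹) ^ n ∈ KA) ∨
      (∃ (s : ℕ) (μ₀ : B), c - μ₀ ^ (p ^ s) ∈ maximalIdeal B ∧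
        ∀ d : B, residue B μ₀ ≠ residue B d ^ p) := by
    intro c
    rcases dichotomy p A B hk c with ⟨a, ha⟩ | h
    · left
      refine ⟨algebraMap A B a, ha, fun n => ?_⟩
      exact ⟨algebraMap A K a * ((algebraMap A K π)⁻¹) ^ n, hKL a n⟩
    · right
      exact h
  obtain ⟨k, ⟨k₀, rfl⟩, S, μ, hV, hG⟩ := exists_nf (p := p) (ϖ := algebraMap A B π) hϖ KA hdich ξ
  obtain ⟨aA, nA, rfl⟩ := exists_eq_mul_inv_pow A K π hπ k₀
  change ξ - algebraMap K L (algebraMap A K aA * ((algebraMap A K π)⁻¹) ^ nA) -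
    val p (algebraMap A B π) S μ ∈ G p B L at hG
  rcases S.eq_empty_or_nonempty with rfl | hS
  · -- empty normal form
    rw [val, Finset.sum_empty, sub_zero] at hG
    obtain ⟨y, b, hyb⟩ := hG
    rcases reduceK p A K π hπ (fun a => exists_pth_root p A B hk a π hπ) nA aA with
      ⟨yK, a', h⟩ | ⟨n', a₂, yK, hn', hpn', h⟩
    · refine ⟨K, inferInstance, inferInstance, inferInstance, inferInstance,
        isTotallyRamified_self A K, ?_⟩
      refine Groth.Agent.Lib.T2H9.ASEmpty.weakSol_empty p A B C K L M K hAB hw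
        (isTotallyRamified_self A K) z hzgen 0 0 (by simp [zero_pow hp.ne_zero])
        (algebraMap K L yK + y) (algebraMap A B a' + b) ?_
      rw [hz]
      congr 1
      have h1 : ξ = algebraMap K L (algebraMap A K aA * ((algebraMap A K π)⁻¹) ^ nA) +
          (y ^ p - y + algebraMap B L b) := by
        rw [← hyb]; ring
      rw [h1, h, map_add, map_sub, map_pow, hAL, map_zero, add_pow_char, map_add]
      ring
    · obtain ⟨K₁, fK₁, aK₁, hfin, hsep, htot, w, hw₁⟩ := exists_ext_of_AS p A K π hπ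
        (algebraMap A K a₂ * ((algebraMap A K π)⁻¹) ^ n') n' a₂ hn' hpn' rfl
      refine ⟨K₁, fK₁, aK₁, hfin, hsep, htot, ?_⟩
      refine Groth.Agent.Lib.T2H9.ASEmpty.weakSol_empty p A B C K L M K₁ hAB hw
        htot z hzgen _ w hw₁ (algebraMap K L yK + y) b ?_
      rw [hz]
      congr 1
      have h1 : ξ = algebraMap K L (algebraMap A K aA * ((algebraMap A K π)⁻¹) ^ nA) +
          (y ^ p - y + algebraMap B L b) := by
        rw [← hyb]; ring
      rw [h1, h, map_add, map_sub, map_pow, add_pow_char]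
      ring
  · -- nonempty normal form
    set R : ℕ := S.sup Prod.snd + 1 + nA with hR
    set n : ℕ := max (S.sup Prod.fst) nA + 2 with hn
    obtain ⟨K₁, fK₁, aK₁, aAK₁, tow, hK₁, hsep, htot, x, b₀, b', hxint, hb₀, hb', hx, -⟩ :=
      Groth.Agent.S7157.result p hp A K π hπ n (by omega) R
    haveI : FiniteDimensional K K₁ := Module.finite_of_finrank_pos (hK₁ ▸ pow_pos hp.pos R)
    refine ⟨K₁, fK₁, aK₁, inferInstance, hsep, ?_, ?_⟩
    · rw [← IsScalarTower.algebraMap_eq A K K₁]
      exact htot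
    · refine Groth.Agent.Lib.T2H9.ASWeakSol.weakSol p A B C K L M K₁ π hπ hw hdeg z ξ hz aA nA S hS
        μ hV ?_ R n (by omega) (by omega) ?_ (exists_root_pow p A B hk π hπ R) hK₁ x b₀
        hb₀ hx
      · rw [hKL, ← IsScalarTower.algebraMap_apply A B L] at hG
        exact hG
      · intro jr hjr
        have h1 : jr.1 ≤ S.sup Prod.fst := Finset.le_sup (f := Prod.fst) hjr
        have h2 : jr.2 ≤ S.sup Prod.snd := Finset.le_sup (f := Prod.snd) hjr
        refine ⟨by omega, by omega, ?_⟩
        have h3 : nA < R - jr.2 := by omega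
        exact h3.trans (Nat.lt_pow_self hp.one_lt)

end main

end Groth.Agent.Lib.T2H9.ASAssemble
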