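import Mathlib
import Groth.Agent.Lib.T2H9ASBunG1

set_option autoImplicit false
set_option linter.style.haveILetI false
universe u v

open CategoryTheory CategoryTheory.Limits AlgebraicGeometry TensorProduct

namespace Groth.Agent.Lib.T2H9.ASBun

open Groth.Agent.Lib.T2H9.HomBC Groth.Agent.Lib.T2H9.KS Groth.Agent.Lib.T2H5.Twist
  Groth.Agent.Lib.Helper23.RestrTensor Groth.Agent.Lib.Helper23.PB

section Swap

variable {C : Type u} [Category.{v} C] [HasFiniteCoproducts C]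

/-- interchange of two finite coproducts. -/
noncomputable def sigmaSwapIso {α β : Type} [Finite α] [Finite β] (f : α → β → C) :
    (∐ fun a => ∐ fun b => f a b) ≅ ∐ fun b => ∐ fun a => f a b where
  hom := Sigma.desc fun a => Sigma.desc fun b =>
    Sigma.ι (fun a => f a b) a ≫ Sigma.ι (fun b => ∐ fun a => f a b) b
  inv := Sigma.desc fun b => Sigma.desc fun a =>
    Sigma.ι (fun b => f a b) b ≫ Sigma.ι (fun a => ∐ fun b => f a b) a
  hom_inv_id := by
    refine Sigma.hom_ext _ _ fun a => Sigma.hom_ext _ _ fun b => ?_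
    simp
  inv_hom_id := by
    refine Sigma.hom_ext _ _ fun b => Sigma.hom_ext _ _ fun a => ?_
    simp

end Swap

section Geo

variable (k K : Type u) [Field k] [Field K] [Algebra k K]
  {X X' : Scheme.{u}} [X.Over (Spec (CommRingCat.of k))] [X'.Over (Spec (CommRingCat.of K))]
  (g' : X' ⟶ X)
  (h : IsPullback g' (X' ↘ Spec (CommRingCat.of K)) (X ↘ Spec (CommRingCat.of k))
    (Spec.map (CommRingCat.ofHom (algebraMap k K))))

theorem nonempty_copow_cast' {Y : Scheme.{u}} (W : Y.Modules) (n m : ℕ) (h : n = m) :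
    Nonempty ((∐ fun _ : Fin n => W) ≅ ∐ fun _ : Fin m => W) := by
  subst h
  exact ⟨Iso.refl _⟩

include h in
/-- if `π^*E ≅ ∐ Nᵢ` and for each `i` there is an indecomposable coherent `Wᵢ` with `π^*Wᵢ ≅ Nᵢ^{dᵢ}`, then the
indecomposable coherent `E` is isomorphic to one of the `Wᵢ`. -/
theorem exists_iso_of_types [Algebra.IsAlgebraic k K] [IsProper (X ↘ Spec (CommRingCat.of k))]
    (E : X.Modules) (hE : Coh.IsCoh E) (hEi : Indec E) (n : ℕ) (Ns : Fin n → X'.Modules)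
    (eE : (Scheme.Modules.pullback g').obj E ≅ ∐ Ns)
    (Ws : Fin n → X.Modules) (hWc : ∀ i, Coh.IsCoh (Ws i)) (hWi : ∀ i, Indec (Ws i))
    (d : Fin n → ℕ)
    (eW : ∀ i, (Scheme.Modules.pullback g').obj (Ws i) ≅ ∐ fun _ : Fin (d i) => Ns i) :
    ∃ i, Nonempty (E ≅ Ws i) := by
  haveI : IsLocallyNoetherian X :=
    LocallyOfFiniteType.isLocallyNoetherian (X ↘ Spec (CommRingCat.of k))
  have hd : ∀ i, d i ≠ 0 := by
    intro i hi
    haveI : (Ws i).IsQuasicoherent := (hWc i).1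
    refine (hWi i).1 (isZero_of_isZero_pullback k K g' h (Ws i) ?_)
    have e1 := eW i
    rw [hi] at e1
    exact (isZero_copow_zero (Ns i)).of_iso e1
  let D : ℕ := ∏ i, d i
  have hD : D ≠ 0 := Finset.prod_ne_zero_iff.2 fun i _ => hd i
  let e : Fin n → ℕ := fun i => D / d i
  have he : ∀ i, e i * d i = D := fun i =>
    Nat.div_mul_cancel (Finset.dvd_prod_of_mem d (Finset.mem_univ i))
  haveI := (Scheme.Modules.pullbackPushforwardAdjunction g').leftAdjoint_preservesColimits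
  -- the two modules
  let A : X.Modules := ∐ fun _ : Fin D => E
  let B : X.Modules := ∐ fun i : Fin n => ∐ fun _ : Fin (e i) => Ws i
  have hAc : Coh.IsCoh A := Groth.Agent.Lib.T2H5.GenIsoA.isCoh_sigma _ (fun _ => hE)
  have hBc : Coh.IsCoh B := Groth.Agent.Lib.T2H5.GenIsoA.isCoh_sigma _
    (fun i => Groth.Agent.Lib.T2H5.GenIsoA.isCoh_sigma _ (fun _ => hWc i))
  have eA : (Scheme.Modules.pullback g').obj A ≅ ∐ fun _ : Fin D => ∐ Ns :=
    pullbackCopowIso g' E D ≪≫ Sigma.mapIso (fun _ => eE)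
  have eBi : ∀ i, (Scheme.Modules.pullback g').obj (∐ fun _ : Fin (e i) => Ws i) ≅
      ∐ fun _ : Fin D => Ns i := fun i =>
    pullbackCopowIso g' (Ws i) (e i) ≪≫ Sigma.mapIso (fun _ => eW i) ≪≫
      copowMulIso (Ns i) (e i) (d i) ≪≫ (nonempty_copow_cast' (Ns i) _ _ (he i)).some
  have eB : (Scheme.Modules.pullback g').obj B ≅ ∐ fun i : Fin n => ∐ fun _ : Fin D => Ns i :=
    PreservesCoproduct.iso (Scheme.Modules.pullback g')
      (fun i : Fin n => ∐ fun _ : Fin (e i) => Ws i) ≪≫ Sigma.mapIso eBi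
  obtain ⟨ε⟩ := Groth.Agent.Lib.T2H9.NoetherDeuring.nonempty_iso_of_pullback_iso k K g' h A B hAc hBc
    (eA ≪≫ sigmaSwapIso (fun (_ : Fin D) (i : Fin n) => Ns i) ≪≫ eB.symm)
  -- Krull–Schmidt
  haveI : Module.Finite k (End E) := Groth.Agent.Lib.T2H9.HomFinite.finite_hom k E E hE hE
  have hEl : IsLocalRing (End E) := isLocalRing_end k hEi
  have hWl : ∀ i, IsLocalRing (End (Ws i)) := fun i => by
    haveI : Module.Finite k (End (Ws i)) :=
      Groth.Agent.Lib.T2H9.HomFinite.finite_hom k _ _ (hWc i) (hWc i)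
    exact isLocalRing_end k (hWi i)
  let Φ : (⨁ fun _ : Fin D => E) ≅ ⨁ fun p : (Σ i : Fin n, Fin (e i)) => Ws p.1 :=
    biproduct.isoCoproduct _ ≪≫ ε ≪≫ (biproduct.isoCoproduct _).symm ≪≫
      biproduct.mapIso (fun i => (biproduct.isoCoproduct (fun _ : Fin (e i) => Ws i)).symm) ≪≫
      biproductBiproductIso (fun i : Fin n => Fin (e i)) (fun i _ => Ws i)
  obtain ⟨σ, hσ⟩ := uniq (fun _ : Fin D => E) (fun p : (Σ i : Fin n, Fin (e i)) => Ws p.1)
    (fun _ => hEl) (fun p => hWl p.1) Φ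
  exact ⟨(σ ⟨0, Nat.pos_of_ne_zero hD⟩).1, hσ ⟨0, Nat.pos_of_ne_zero hD⟩⟩

end Geo

end Groth.Agent.Lib.T2H9.ASBun
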