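import Mathlib
import Groth.Agent.Lib.T2H9ASBunG2
import Groth.Agent.Lib.T2H9ASBunG3
import Groth.Agent.Lib.Helper18PBUnit2

set_option autoImplicit false
set_option linter.style.haveILetI false
universe u v

open CategoryTheory CategoryTheory.Limits AlgebraicGeometry TensorProduct

namespace Groth.Agent.Lib.T2H9.ASBun

open Groth.Agent.Lib.T2H9.HomBC Groth.Agent.Lib.T2H9.KS Groth.Agent.Lib.T2H5.Twist
  Groth.Agent.Lib.Helper23.RestrTensor Groth.Agent.Lib.Helper23.PB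

section Uniq

variable (K : Type u) [Field K] {Y : Scheme.{u}} [Y.Over (Spec (CommRingCat.of K))]

/-- the type of an isotypical module is unique. -/
theorem nonempty_iso_of_copow_iso [IsProper (Y ↘ Spec (CommRingCat.of K))]
    (N N' : Y.Modules) (hNc : Coh.IsCoh N) (hN'c : Coh.IsCoh N') (hNi : Indec N) (hN'i : Indec N')
    (d d' : ℕ) (hd : d ≠ 0) (φ : (∐ fun _ : Fin d => N) ≅ ∐ fun _ : Fin d' => N') :
    Nonempty (N ≅ N') := by
  haveI : Module.Finite K (End N) := Groth.Agent.Lib.T2H9.HomFinite.finite_hom K _ _ hNc hNc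
  haveI : Module.Finite K (End N') := Groth.Agent.Lib.T2H9.HomFinite.finite_hom K _ _ hN'c hN'c
  have hl := isLocalRing_end K hNi
  have hl' := isLocalRing_end K hN'i
  obtain ⟨σ, hσ⟩ := uniq (fun _ : Fin d => N) (fun _ : Fin d' => N') (fun _ => hl) (fun _ => hl')
    (biproduct.isoCoproduct _ ≪≫ φ ≪≫ (biproduct.isoCoproduct _).symm)
  exact hσ ⟨0, Nat.pos_of_ne_zero hd⟩

end Uniq

section PicCyclic

variable (k : Type u) [Field k] {X : Scheme.{u}}
    (p : X ⟶ Spec (CommRingCat.of k)) (K : Type u) [Field K] [Algebra k K]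
    [PicGrp.Law X] [PicGrp.Law (W4bk4gw11416.baseChange p K)]
    (hπ : PicGrp.PullMul (W4c1astiltbs12.proj p K))
    (L : (W4bk4gw11416.baseChange p K).Modules) (hL : PicF.IsInvertible L)
    (e : PicLoc.PicSet (W4bk4gw11416.baseChange p K) ≃* Multiplicative ℤ)
    (he : e (PicGrp.cls L hL) = Multiplicative.ofAdd 1)

include he in
omit [PicGrp.Law X] in
theorem map_cls_zpow (m : ℤ) : e (PicGrp.cls L hL ^ m) = Multiplicative.ofAdd m := by
  rw [map_zpow, he, ← ofAdd_zsmul, smul_eq_mul, mul_one]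

include he in
omit [PicGrp.Law X] in
theorem cls_eq_zpow (N : (W4bk4gw11416.baseChange p K).Modules) (hN : PicF.IsInvertible N) :
    PicGrp.cls N hN = PicGrp.cls L hL ^ (Multiplicative.toAdd (e (PicGrp.cls N hN))) := by
  apply e.injective
  rw [map_cls_zpow k p K L hL e he]
  rfl

omit [PicGrp.Law X] in
theorem cls_tensorPow (j : ℕ) :
    PicGrp.cls (CohB1.tensorPow L j) (Groth.Agent.Lib.Helper23.SecTw.isInvertible_tensorPow hL j) =
      PicGrp.cls L hL ^ j :=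
  Subtype.ext (PicGrp.cls_pow_val hL j).symm

omit [PicGrp.Law X] in
theorem cls_tensorMod {A B : (W4bk4gw11416.baseChange p K).Modules} (hA : PicF.IsInvertible A)
    (hB : PicF.IsInvertible B) :
    PicGrp.cls (CohB1.tensorMod A B) (Groth.Agent.Lib.Helper23.SecTw.isInvertible_tensorMod hA hB) =
      PicGrp.cls A hA * PicGrp.cls B hB :=
  Subtype.ext (PicGrp.cls_mul_cls_val hA hB).symm

variable (r : ℕ) (J : X.Modules) (hJ : PicF.IsInvertible J)
    (hJL : Nonempty (W4c1astiltbs12.bcMod p K J ≅ CohB1.tensorPow L r))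

include hπ hJL in
/-- the class of the pull-back of a module of class `(cls J)^a`. -/
theorem cls_pullback_zpow (a : ℤ) (Ja : X.Modules) (hJa : PicF.IsInvertible Ja)
    (hcl : PicGrp.cls Ja hJa = PicGrp.cls J hJ ^ a) :
    PicGrp.cls ((Scheme.Modules.pullback (W4c1astiltbs12.proj p K)).obj Ja)
      (PicLoc.isInvertible_pullback (W4c1astiltbs12.proj p K) hJa) =
      PicGrp.cls L hL ^ ((r : ℤ) * a) := by
  have h1 : PicGrp.cls (W4c1astiltbs12.bcMod p K J)
      (PicLoc.isInvertible_pullback (W4c1astiltbs12.proj p K) hJ) = PicGrp.cls L hL ^ r := by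
    rw [← cls_tensorPow k p K L hL r]
    exact (PicGrp.cls_eq_cls_iff _ _).2 hJL
  rw [← PicGrp.pullHom_cls (W4c1astiltbs12.proj p K) hπ Ja hJa, hcl, map_zpow, PicGrp.pullHom_cls,
    h1, ← zpow_natCast, ← zpow_mul]

variable [IsProper p] [Algebra.IsAlgebraic k K] [ConnectedSpace ↥(W4bk4gw11416.baseChange p K)]

include hπ he hJL in
/-- for every invertible `N` on `X_K` there is an indecomposable finite locally free module of the form `M ⊗ J_a`
which is isotypical of type `N`. -/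
theorem exists_twist_of_type (hr : 1 ≤ r)
    (M₁ : X.Modules) (d₁ : ℕ) (hM₁ : FlatMod.IsFinLocFree M₁) (hM₁i : Indec M₁)
    (e₁ : Nonempty (W4c1astiltbs12.bcMod p K M₁ ≅ W4c1astiltbs12.pow L d₁))
    (N : (W4bk4gw11416.baseChange p K).Modules) (hN : PicF.IsInvertible N) :
    ∃ (a : ℤ) (j : ℕ), j < r ∧ ∃ (M : X.Modules) (d : ℕ) (Ja : X.Modules)
      (hJa : PicF.IsInvertible Ja),
      FlatMod.IsFinLocFree M ∧ Indec M ∧
      Nonempty (W4c1astiltbs12.bcMod p K M ≅ W4c1astiltbs12.pow (CohB1.tensorPow L j) d) ∧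
      PicGrp.cls Ja hJa = PicGrp.cls J hJ ^ a ∧ FlatMod.IsFinLocFree (CohB1.tensorMod M Ja) ∧
      Indec (CohB1.tensorMod M Ja) ∧
      Nonempty (W4c1astiltbs12.bcMod p K (CohB1.tensorMod M Ja) ≅ W4c1astiltbs12.pow N d) := by
  letI : X.Over (Spec (CommRingCat.of k)) := ⟨p⟩
  haveI : IsProper (X ↘ Spec (CommRingCat.of k)) := inferInstanceAs (IsProper p)
  letI : (W4bk4gw11416.baseChange p K).Over (Spec (CommRingCat.of K)) :=
    ⟨pullback.snd p (Spec.map (CommRingCat.ofHom (algebraMap k K)))⟩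
  have hpb : IsPullback (W4c1astiltbs12.proj p K)
      ((W4bk4gw11416.baseChange p K) ↘ Spec (CommRingCat.of K)) (X ↘ Spec (CommRingCat.of k))
      (Spec.map (CommRingCat.ofHom (algebraMap k K))) :=
    IsPullback.of_hasPullback p (Spec.map (CommRingCat.ofHom (algebraMap k K)))
  obtain ⟨e₁⟩ := e₁
  have hr0 : (r : ℤ) ≠ 0 := by omega
  have hrpos : (0 : ℤ) < r := by omega
  set m : ℤ := Multiplicative.toAdd (e (PicGrp.cls N hN)) with hm
  have hNm : PicGrp.cls N hN = PicGrp.cls L hL ^ m := cls_eq_zpow k p K L hL e he N hN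
  have hj0 : 0 ≤ m % (r : ℤ) := Int.emod_nonneg m hr0
  have hjr : m % (r : ℤ) < r := Int.emod_lt_of_pos m hrpos
  have hjcast : (((m % (r : ℤ)).toNat : ℕ) : ℤ) = m % (r : ℤ) := Int.toNat_of_nonneg hj0
  refine ⟨m / (r : ℤ), (m % (r : ℤ)).toNat, by omega, ?_⟩
  obtain ⟨G, d, hG, hGi, ⟨φ⟩⟩ := exists_indec_tensorPow k K (W4c1astiltbs12.proj p K) hpb L hL M₁ hM₁
    hM₁i d₁ e₁ (m % (r : ℤ)).toNat
  obtain ⟨Ja, hJa, hJacls⟩ := PicGrp.exists_eq_cls ((PicGrp.cls J hJ) ^ (m / (r : ℤ)))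
  obtain ⟨Ja', hJa', hJa'cls⟩ := PicGrp.exists_eq_cls ((PicGrp.cls J hJ) ^ (-(m / (r : ℤ))))
  have e1 : PicGrp.cls Ja hJa * PicGrp.cls Ja' hJa' = 1 := by
    rw [← hJacls, ← hJa'cls, zpow_neg, mul_inv_cancel]
  obtain ⟨ψ1⟩ := (PicGrp.cls_mul_cls_eq_one_iff hJa hJa').1 e1
  obtain ⟨ψ2⟩ := (PicGrp.cls_mul_cls_eq_one_iff hJa' hJa).1 (by rw [mul_comm]; exact e1)
  have hJaK := cls_pullback_zpow k p K hπ L hL r J hJ hJL (m / (r : ℤ)) Ja hJa hJacls.symm
  have hLj := Groth.Agent.Lib.Helper23.SecTw.isInvertible_tensorPow hL (m % (r : ℤ)).toNat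
  have hcl : PicGrp.cls (CohB1.tensorMod (CohB1.tensorPow L (m % (r : ℤ)).toNat)
      ((Scheme.Modules.pullback (W4c1astiltbs12.proj p K)).obj Ja))
      (Groth.Agent.Lib.Helper23.SecTw.isInvertible_tensorMod hLj
        (PicLoc.isInvertible_pullback (W4c1astiltbs12.proj p K) hJa)) = PicGrp.cls N hN := by
    rw [cls_tensorMod k p K hLj (PicLoc.isInvertible_pullback (W4c1astiltbs12.proj p K) hJa),
      cls_tensorPow k p K L hL, hJaK, hNm, ← zpow_natCast, ← zpow_add, hjcast,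
      Int.emod_add_mul_ediv]
  obtain ⟨θ⟩ := (PicGrp.cls_eq_cls_iff _ _).1 hcl
  refine ⟨G, d, Ja, hJa, hG, hGi, ⟨φ⟩, hJacls.symm,
    Groth.Agent.Lib.Helper1.FLF.isFinLocFree_tensor _ _ hG
      (Groth.Agent.Helper18PBUnit.isFinLocFree_of_isInvertible hJa),
    indec_tensor_of_iso_unit hGi ψ1 ψ2, ?_⟩
  exact ⟨pullbackTensorIso G Ja (W4c1astiltbs12.proj p K) ≪≫ PicGrp.tensorModIso φ (Iso.refl _) ≪≫
    copowTensorIso _ _ d ≪≫ Sigma.mapIso (fun _ => θ)⟩

include hπ he hJL in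
/-- **S15405** in library form. -/
theorem pic_cyclic_classification (hr : 1 ≤ r)
    (hML : ∃ (M₁ : X.Modules) (d₁ : ℕ), FlatMod.IsFinLocFree M₁ ∧ Indec M₁ ∧
      Nonempty (W4c1astiltbs12.bcMod p K M₁ ≅ W4c1astiltbs12.pow L d₁))
    (E : X.Modules) (hE : FlatMod.IsFinLocFree E) (hEi : Indec E)
    (n : ℕ) (Ls : Fin n → (W4bk4gw11416.baseChange p K).Modules)
    (hLs : ∀ i, PicF.IsInvertible (Ls i))
    (hEs : Nonempty (W4c1astiltbs12.bcMod p K E ≅ ∐ Ls)) :
    (∃ (a : ℤ) (j : ℕ), j < r ∧ ∃ (M : X.Modules) (d : ℕ) (Ja : X.Modules)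
      (hJa : PicF.IsInvertible Ja),
      FlatMod.IsFinLocFree M ∧ Indec M ∧
      Nonempty (W4c1astiltbs12.bcMod p K M ≅ W4c1astiltbs12.pow (CohB1.tensorPow L j) d) ∧
      PicGrp.cls Ja hJa = PicGrp.cls J hJ ^ a ∧ Nonempty (E ≅ CohB1.tensorMod M Ja)) ∧
    (∀ (a a' : ℤ) (j j' : ℕ) (M M' : X.Modules) (d d' : ℕ) (Ja Ja' : X.Modules)
      (hJa : PicF.IsInvertible Ja) (hJa' : PicF.IsInvertible Ja'),
      j < r → j' < r → Indec M → Indec M' →
      Nonempty (W4c1astiltbs12.bcMod p K M ≅ W4c1astiltbs12.pow (CohB1.tensorPow L j) d) →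
      Nonempty (W4c1astiltbs12.bcMod p K M' ≅ W4c1astiltbs12.pow (CohB1.tensorPow L j') d') →
      PicGrp.cls Ja hJa = PicGrp.cls J hJ ^ a → PicGrp.cls Ja' hJa' = PicGrp.cls J hJ ^ a' →
      Nonempty (E ≅ CohB1.tensorMod M Ja) → Nonempty (E ≅ CohB1.tensorMod M' Ja') →
      a = a' ∧ j = j') := by
  letI : X.Over (Spec (CommRingCat.of k)) := ⟨p⟩
  haveI : IsProper (X ↘ Spec (CommRingCat.of k)) := inferInstanceAs (IsProper p)
  letI : (W4bk4gw11416.baseChange p K).Over (Spec (CommRingCat.of K)) :=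
    ⟨pullback.snd p (Spec.map (CommRingCat.ofHom (algebraMap k K)))⟩
  have hpb : IsPullback (W4c1astiltbs12.proj p K)
      ((W4bk4gw11416.baseChange p K) ↘ Spec (CommRingCat.of K)) (X ↘ Spec (CommRingCat.of k))
      (Spec.map (CommRingCat.ofHom (algebraMap k K))) :=
    IsPullback.of_hasPullback p (Spec.map (CommRingCat.ofHom (algebraMap k K)))
  haveI : IsProper ((W4bk4gw11416.baseChange p K) ↘ Spec (CommRingCat.of K)) :=
    Groth.Agent.Lib.T2H9.RatTwistC.isProper_bc k K (W4c1astiltbs12.proj p K) hpb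
  have hEc := Groth.Agent.Lib.T2H4.HZshLF.isCoh_of_isFinLocFree E hE
  haveI : E.IsQuasicoherent := hEc.1
  obtain ⟨eE⟩ := hEs
  constructor
  · obtain ⟨M₁, d₁, hM₁, hM₁i, e₁⟩ := hML
    choose a j hj M d Ja hJa hM hMi hφ hcls hWflf hWi hψ using fun i =>
      exists_twist_of_type k p K hπ L hL e he r J hJ hJL hr M₁ d₁ hM₁ hM₁i e₁ (Ls i) (hLs i)
    obtain ⟨i, ε⟩ := exists_iso_of_types k K (W4c1astiltbs12.proj p K) hpb E hEc hEi n Ls eE
      (fun i => CohB1.tensorMod (M i) (Ja i))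
      (fun i => Groth.Agent.Lib.T2H4.HZshLF.isCoh_of_isFinLocFree _ (hWflf i)) hWi d
      (fun i => (hψ i).some)
    exact ⟨a i, j i, hj i, M i, d i, Ja i, hJa i, hM i, hMi i, hφ i, hcls i, ε⟩
  · intro a a' j j' M M' d d' Ja Ja' hJa hJa' hj hj' hMi hM'i ⟨φ⟩ ⟨φ'⟩ hcls hcls' ⟨ε⟩ ⟨ε'⟩
    have hLj := Groth.Agent.Lib.Helper23.SecTw.isInvertible_tensorPow hL j
    have hLj' := Groth.Agent.Lib.Helper23.SecTw.isInvertible_tensorPow hL j'
    have hJaK := PicLoc.isInvertible_pullback (W4c1astiltbs12.proj p K) hJa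
    have hJa'K := PicLoc.isInvertible_pullback (W4c1astiltbs12.proj p K) hJa'
    have hN := Groth.Agent.Lib.Helper23.SecTw.isInvertible_tensorMod hLj hJaK
    have hN' := Groth.Agent.Lib.Helper23.SecTw.isInvertible_tensorMod hLj' hJa'K
    have hNc := Groth.Agent.Lib.T2H6.RankAdd.isCoh_of_isFinLocFreeOfRank _ 1
      (Groth.Agent.Lib.Helper23.SecTw.isFinLocFreeOfRank_one_of_isInvertible _ hN)
    have hN'c := Groth.Agent.Lib.T2H6.RankAdd.isCoh_of_isFinLocFreeOfRank _ 1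
      (Groth.Agent.Lib.Helper23.SecTw.isFinLocFreeOfRank_one_of_isInvertible _ hN')
    have ψ : W4c1astiltbs12.bcMod p K E ≅ ∐ fun _ : Fin d =>
        CohB1.tensorMod (CohB1.tensorPow L j)
          ((Scheme.Modules.pullback (W4c1astiltbs12.proj p K)).obj Ja) :=
      (Scheme.Modules.pullback (W4c1astiltbs12.proj p K)).mapIso ε ≪≫
        pullbackTensorIso M Ja (W4c1astiltbs12.proj p K) ≪≫ PicGrp.tensorModIso φ (Iso.refl _) ≪≫
        copowTensorIso _ _ d
    have ψ' : W4c1astiltbs12.bcMod p K E ≅ ∐ fun _ : Fin d' =>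
        CohB1.tensorMod (CohB1.tensorPow L j')
          ((Scheme.Modules.pullback (W4c1astiltbs12.proj p K)).obj Ja') :=
      (Scheme.Modules.pullback (W4c1astiltbs12.proj p K)).mapIso ε' ≪≫
        pullbackTensorIso M' Ja' (W4c1astiltbs12.proj p K) ≪≫ PicGrp.tensorModIso φ' (Iso.refl _) ≪≫
        copowTensorIso _ _ d'
    have hd : d ≠ 0 := by
      rintro rfl
      exact hEi.1 (isZero_of_isZero_pullback k K (W4c1astiltbs12.proj p K) hpb E
        ((isZero_copow_zero _).of_iso ψ))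
    obtain ⟨θ⟩ := nonempty_iso_of_copow_iso K _ _ hNc hN'c (indec_invertible _ hN)
      (indec_invertible _ hN') d d' hd (ψ.symm ≪≫ ψ')
    have hcl := (PicGrp.cls_eq_cls_iff hN hN').2 ⟨θ⟩
    rw [cls_tensorMod k p K hLj hJaK, cls_tensorMod k p K hLj' hJa'K, cls_tensorPow k p K L hL,
      cls_tensorPow k p K L hL,
      cls_pullback_zpow k p K hπ L hL r J hJ hJL a Ja hJa hcls,
      cls_pullback_zpow k p K hπ L hL r J hJ hJL a' Ja' hJa' hcls', ← zpow_natCast, ← zpow_add,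
      ← zpow_natCast, ← zpow_add] at hcl
    have hcl2 := congrArg e hcl
    rw [map_cls_zpow k p K L hL e he, map_cls_zpow k p K L hL e he] at hcl2
    have key : (j : ℤ) + (r : ℤ) * a = (j' : ℤ) + (r : ℤ) * a' := Multiplicative.ofAdd.injective hcl2
    have hjj : (j : ℤ) = j' := by
      have h1 : ((j : ℤ) + (r : ℤ) * a) % (r : ℤ) = j := by
        rw [Int.add_mul_emod_self_left]
        exact Int.emod_eq_of_lt (by omega) (by omega)
      have h2 : ((j' : ℤ) + (r : ℤ) * a') % (r : ℤ) = j' := by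
        rw [Int.add_mul_emod_self_left]
        exact Int.emod_eq_of_lt (by omega) (by omega)
      rw [← h1, ← h2, key]
    refine ⟨?_, by exact_mod_cast hjj⟩
    rw [hjj] at key
    have h3 : (r : ℤ) * a = (r : ℤ) * a' := by omega
    exact mul_left_cancel₀ (by omega : (r : ℤ) ≠ 0) h3

end PicCyclic

end Groth.Agent.Lib.T2H9.ASBun
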