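import Mathlib
import Groth.Agent.Lib.T2H9RedArt

set_option autoImplicit false
set_option linter.style.haveILetI false
set_option linter.unusedSectionVars false
universe u

/-!
# Quotients of `k₁ ⊗[k] F` for a geometrically reduced extension `F/k` and a finite extension `k₁/k`

`Q` is a `k₁`-algebra receiving a compatible ring map from `F`.
* `reducedArtinian_of_gen`: if `Q` is generated by the two images, it is reduced and artinian.
* `geomReduced_of_fracGen`: if `Q` is a field all of whose elements are ratios of elements of the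
  subring generated by the two images, then `Q` is geometrically reduced over `k₁`.
-/

namespace Groth.Agent.Lib.T2H9.ResTensor

open TensorProduct Groth.Agent.Lib.T2H9.RedArt

section abstract

variable (k k₁ F : Type u) [Field k] [Field k₁] [Algebra k k₁] [Module.Finite k k₁]
  [Field F] [Algebra k F] [Algebra.IsGeometricallyReduced k F]

theorem isReduced_tensor : IsReduced (k₁ ⊗[k] F) := by
  haveI : Algebra.IsAlgebraic k k₁ := Algebra.IsAlgebraic.of_finite k k₁
  infer_instance

theorem isArtinianRing_tensor : IsArtinianRing (k₁ ⊗[k] F) := by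
  haveI : IsArtinianRing (F ⊗[k] k₁) := IsArtinianRing.of_finite F (F ⊗[k] k₁)
  exact (Algebra.TensorProduct.comm k F k₁).surjective.isArtinianRing

/-- quotients of `k₁ ⊗[k] F` are geometrically reduced over `k₁` -/
theorem geomReduced_of_surjective (Q : Type u) [CommRing Q] [Algebra k₁ Q]
    (q : k₁ ⊗[k] F →ₐ[k₁] Q) (hq : Function.Surjective q) :
    Algebra.IsGeometricallyReduced k₁ Q := by
  haveI := isReduced_tensor k k₁ F
  haveI := isArtinianRing_tensor k k₁ F
  rw [Algebra.isGeometricallyReduced_field_iff]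
  haveI : Algebra.IsAlgebraic k k₁ := Algebra.IsAlgebraic.of_finite k k₁
  haveI : Algebra.IsAlgebraic k (AlgebraicClosure k₁) :=
    Algebra.IsAlgebraic.trans k k₁ (AlgebraicClosure k₁)
  haveI hred : IsReduced (AlgebraicClosure k₁ ⊗[k] F) := inferInstance
  let e := Algebra.TensorProduct.cancelBaseChange k k₁ k₁ (AlgebraicClosure k₁) F
  haveI : IsReduced (AlgebraicClosure k₁ ⊗[k₁] (k₁ ⊗[k] F)) :=
    isReduced_of_injective e e.injective
  -- idempotent generator of the kernel
  have hfg : (RingHom.ker q).FG := (isNoetherianRing_iff_ideal_fg _).mp inferInstance _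
  have hidem : IsIdempotentElem (RingHom.ker q) := by
    apply le_antisymm Ideal.mul_le_right
    intro y hy
    obtain ⟨c, hc⟩ := exists_eq_sq_mul y
    rw [hc]
    exact Ideal.mul_mem_right _ _ (Ideal.mul_mem_mul hy hy)
  obtain ⟨η, hη, hηker⟩ := (Ideal.isIdempotentElem_iff_of_fg _ hfg).mp hidem
  let Ψ := Algebra.TensorProduct.map (AlgHom.id k₁ (AlgebraicClosure k₁)) q
  have hΨ : Function.Surjective Ψ :=
    Algebra.TensorProduct.map_surjective _ _ (fun x => ⟨x, rfl⟩) hq
  set ε : AlgebraicClosure k₁ ⊗[k₁] (k₁ ⊗[k] F) := 1 ⊗ₜ η with hε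
  have hker : RingHom.ker Ψ = Ideal.span {ε} := by
    rw [Algebra.TensorProduct.lTensor_ker _ hq, hηker, Ideal.submodule_span_eq, Ideal.map_span,
      Set.image_singleton]
    rfl
  have hεε : ε * ε = ε := by
    rw [hε, Algebra.TensorProduct.tmul_mul_tmul, mul_one, hη.eq]
  have hεker : Ψ ε = 0 := by
    rw [← RingHom.mem_ker, hker]
    exact Ideal.mem_span_singleton_self ε
  constructor
  rintro z ⟨n, hn⟩
  obtain ⟨x, rfl⟩ := hΨ z
  rcases Nat.eq_zero_or_pos n with h0 | h0
  · rw [h0, pow_zero] at hn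
    have : Ψ x = Ψ x * 1 := (mul_one _).symm
    rw [this, hn, mul_zero]
  · obtain ⟨m, rfl⟩ := Nat.exists_eq_succ_of_ne_zero h0.ne'
    have h1 : x ^ (m + 1) ∈ RingHom.ker Ψ := by rw [RingHom.mem_ker, map_pow]; exact hn
    rw [hker, Ideal.mem_span_singleton'] at h1
    obtain ⟨y, hy⟩ := h1
    have h2 : ((1 - ε) * x) ^ (m + 1) = 0 := by
      rw [mul_pow, ← hy, pow_succ (1 - ε) m]
      have : (1 - ε) * ε = 0 := by rw [sub_mul, one_mul, hεε, sub_self]
      calc (1 - ε) ^ m * (1 - ε) * (y * ε) = (1 - ε) ^ m * y * ((1 - ε) * ε) := by ring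
        _ = 0 := by rw [this, mul_zero]
    have h3 : (1 - ε) * x = 0 := IsReduced.eq_zero _ ⟨m + 1, h2⟩
    have h4 : x = ε * x := by
      have : (1 - ε) * x = x - ε * x := by ring
      rw [this, sub_eq_zero] at h3
      exact h3
    rw [h4, map_mul, hεker, zero_mul]

variable (Q : Type u) [CommRing Q] [Algebra k₁ Q] (g : F →+* Q)
  (hcomp : ∀ c : k, g (algebraMap k F c) = algebraMap k₁ Q (algebraMap k k₁ c))

/-- the induced map from the tensor product -/
noncomputable def q₀ : k₁ ⊗[k] F →ₐ[k₁] Q :=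
  letI : Algebra k Q := ((algebraMap k₁ Q).comp (algebraMap k k₁)).toAlgebra
  haveI : IsScalarTower k k₁ Q := IsScalarTower.of_algebraMap_eq (fun _ => rfl)
  Algebra.TensorProduct.productLeftAlgHom (Algebra.ofId k₁ Q)
    ({ g with commutes' := fun c => hcomp c } : F →ₐ[k] Q)

theorem q₀_tmul (c : k₁) (y : F) : q₀ k k₁ F Q g hcomp (c ⊗ₜ y) = algebraMap k₁ Q c * g y := by
  unfold q₀
  simp [Algebra.ofId_apply]

theorem closure_le_range :
    Subring.closure (Set.range (algebraMap k₁ Q) ∪ Set.range g) ≤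
      (q₀ k k₁ F Q g hcomp).toRingHom.range := by
  rw [Subring.closure_le]
  rintro _ (⟨c, rfl⟩ | ⟨y, rfl⟩)
  · exact ⟨c ⊗ₜ 1, by
      change q₀ k k₁ F Q g hcomp (c ⊗ₜ 1) = _
      rw [q₀_tmul, map_one, mul_one]⟩
  · exact ⟨1 ⊗ₜ y, by
      change q₀ k k₁ F Q g hcomp (1 ⊗ₜ y) = _
      rw [q₀_tmul, map_one, one_mul]⟩

include hcomp in
/-- a ring generated by the images of `k₁` and `F` is reduced and artinian -/
theorem reducedArtinian_of_gen
    (hgen : ∀ x : Q, x ∈ Subring.closure (Set.range (algebraMap k₁ Q) ∪ Set.range g)) :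
    IsArtinianRing Q ∧ IsReduced Q := by
  haveI := isReduced_tensor k k₁ F
  haveI := isArtinianRing_tensor k k₁ F
  refine of_surjective (q₀ k k₁ F Q g hcomp).toRingHom (fun x => ?_)
  exact closure_le_range k k₁ F Q g hcomp (hgen x)

end abstract

section field

variable (k k₁ F : Type u) [Field k] [Field k₁] [Algebra k k₁] [Module.Finite k k₁]
  [Field F] [Algebra k F] [Algebra.IsGeometricallyReduced k F]
  (Q : Type u) [Field Q] [Algebra k₁ Q] (g : F →+* Q)
  (hcomp : ∀ c : k, g (algebraMap k F c) = algebraMap k₁ Q (algebraMap k k₁ c))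

include hcomp in
/-- a field whose elements are ratios of elements of the subring generated by the images of `k₁`
and `F` is geometrically reduced over `k₁` -/
theorem geomReduced_of_fracGen
    (hfrac : ∀ x : Q, ∃ u ∈ Subring.closure (Set.range (algebraMap k₁ Q) ∪ Set.range g),
      ∃ u' ∈ Subring.closure (Set.range (algebraMap k₁ Q) ∪ Set.range g), u' ≠ 0 ∧ x * u' = u) :
    Algebra.IsGeometricallyReduced k₁ Q := by
  haveI := isReduced_tensor k k₁ F
  haveI := isArtinianRing_tensor k k₁ F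
  apply geomReduced_of_surjective k k₁ F Q (q₀ k k₁ F Q g hcomp)
  intro x
  obtain ⟨u, hu, u', hu', hu'0, hxu⟩ := hfrac x
  obtain ⟨a, ha⟩ := closure_le_range k k₁ F Q g hcomp hu
  obtain ⟨a', ha'⟩ := closure_le_range k k₁ F Q g hcomp hu'
  change q₀ k k₁ F Q g hcomp a = u at ha
  change q₀ k k₁ F Q g hcomp a' = u' at ha'
  obtain ⟨c, hc⟩ := exists_eq_sq_mul a'
  have h1 : u' * q₀ k k₁ F Q g hcomp c = 1 := by
    have h2 := congrArg (q₀ k k₁ F Q g hcomp) hc
    rw [map_mul, map_mul, ha'] at h2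
    have h3 : u' * (u' * q₀ k k₁ F Q g hcomp c) = u' * 1 := by
      rw [mul_one, ← mul_assoc]
      exact h2.symm
    exact mul_left_cancel₀ hu'0 h3
  refine ⟨a * c, ?_⟩
  rw [map_mul, ha, ← hxu, mul_assoc, h1, mul_one]

end field

end Groth.Agent.Lib.T2H9.ResTensor
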