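import Mathlib
import Groth.Agent.Lib.T2H9ResTensor

set_option autoImplicit false
set_option linter.style.haveILetI false
set_option linter.unusedSectionVars false
universe u

/-!
# Quotients of `(k₁ ⊗[k] F)[X]/(X^e - u)` with `e` invertible

Tame analogue of `T2H9ResTensor`: the ring `Q` is generated over `k₁` by the image of `F` and
one more element `θ` whose `e`-th power is a ratio of units coming from `k₁` and `F`.
-/

namespace Groth.Agent.Lib.T2H9.ResKummer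

open TensorProduct Polynomial Groth.Agent.Lib.T2H9.RedArt Groth.Agent.Lib.T2H9.ResTensor

section sep

/-- adjoining a root of a monic separable polynomial to a reduced ring gives a reduced ring -/
theorem isReduced_adjoinRoot {R : Type u} [CommRing R] [IsReduced R] {g : R[X]} (hgm : g.Monic)
    (hsep : g.Separable) : IsReduced (AdjoinRoot g) := by
  classical
  refine ⟨fun x hx => ?_⟩
  obtain ⟨h, rfl⟩ := AdjoinRoot.mk_surjective x
  set r := h %ₘ g with hr
  have hmk : AdjoinRoot.mk g h = AdjoinRoot.mk g r := by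
    rw [AdjoinRoot.mk_eq_mk]
    refine ⟨h /ₘ g, ?_⟩
    have := Polynomial.modByMonic_add_div h g
    rw [hr]
    linear_combination this.symm
  rw [hmk] at hx ⊢
  obtain ⟨n, hn⟩ := hx
  rw [← map_pow, AdjoinRoot.mk_eq_zero] at hn
  suffices r = 0 by rw [this, map_zero]
  ext i
  rw [coeff_zero]
  have hmem : r.coeff i ∈ nilradical R := by
    rw [nilradical_eq_sInf, Ideal.mem_sInf]
    intro p hp
    haveI : p.IsPrime := hp
    haveI : Nontrivial R := ⟨⟨0, 1, fun h01 => hp.ne_top (by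
      rw [Ideal.eq_top_iff_one, ← h01]; exact p.zero_mem)⟩⟩
    let ψ : R →+* p.ResidueField := algebraMap R p.ResidueField
    have hgsep : (g.map ψ).Separable := hsep.map
    have hdvd : g.map ψ ∣ (r.map ψ) ^ n := by
      rw [← Polynomial.map_pow]
      exact Polynomial.map_dvd ψ hn
    have hdvd' : g.map ψ ∣ r.map ψ := hgsep.squarefree.isRadical n _ hdvd
    have hdeg : (r.map ψ).degree < (g.map ψ).degree := by
      calc (r.map ψ).degree ≤ r.degree := Polynomial.degree_map_le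
        _ < g.degree := Polynomial.degree_modByMonic_lt h hgm
        _ = (g.map ψ).degree := (hgm.degree_map ψ).symm
    have h0 : r.map ψ = 0 := Polynomial.eq_zero_of_dvd_of_degree_lt hdvd' hdeg
    have h1 : ψ (r.coeff i) = 0 := by
      rw [← Polynomial.coeff_map, h0, coeff_zero]
    exact (Ideal.algebraMap_residueField_eq_zero).mp h1
  rw [nilradical_eq_zero] at hmem
  exact hmem

end sep

section gen

variable (k₁ E Q : Type u) [Field k₁] [CommRing E] [Algebra k₁ E] [IsArtinianRing E] [IsReduced E]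
  [CommRing Q] [Algebra k₁ Q]

/-- quotients of a reduced artinian algebra which stays reduced over the algebraic closure are
geometrically reduced -/
theorem geomReduced_of_surjective_gen (hE : IsReduced (AlgebraicClosure k₁ ⊗[k₁] E))
    (q : E →ₐ[k₁] Q) (hq : Function.Surjective q) :
    Algebra.IsGeometricallyReduced k₁ Q := by
  rw [Algebra.isGeometricallyReduced_field_iff]
  haveI := hE
  have hfg : (RingHom.ker q).FG := (isNoetherianRing_iff_ideal_fg _).mp inferInstance _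
  have hidem : IsIdempotentElem (RingHom.ker q) := by
    apply le_antisymm Ideal.mul_le_right
    intro y hy
    obtain ⟨c, hc⟩ := exists_eq_sq_mul y
    rw [hc]
    exact Ideal.mul_mem_right _ _ (Ideal.mul_mem_mul hy hy)
  obtain ⟨η, hη, hηker⟩ := (Ideal.isIdempotentElem_iff_of_fg _ hfg).mp hidem
  let Ψ := Algebra.TensorProduct.map (AlgHom.id k₁ (AlgebraicClosure k₁)) q
  have hΨ : Function.Surjective Ψ :=
    Algebra.TensorProduct.map_surjective _ _ (fun x => ⟨x, rfl⟩) hq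
  set ε : AlgebraicClosure k₁ ⊗[k₁] E := 1 ⊗ₜ η with hε
  have hker : RingHom.ker Ψ = Ideal.span {ε} := by
    rw [Algebra.TensorProduct.lTensor_ker _ hq, hηker, Ideal.submodule_span_eq, Ideal.map_span,
      Set.image_singleton]
    rfl
  have hεε : ε * ε = ε := by
    rw [hε, Algebra.TensorProduct.tmul_mul_tmul, mul_one, hη.eq]
  have hεker : Ψ ε = 0 := by
    rw [← RingHom.mem_ker, hker]
    exact Ideal.mem_span_singleton_self ε
  constructor
  rintro z ⟨n, hn⟩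
  obtain ⟨x, rfl⟩ := hΨ z
  rcases Nat.eq_zero_or_pos n with h0 | h0
  · rw [h0, pow_zero] at hn
    have : Ψ x = Ψ x * 1 := (mul_one _).symm
    rw [this, hn, mul_zero]
  · obtain ⟨m, rfl⟩ := Nat.exists_eq_succ_of_ne_zero h0.ne'
    have h1 : x ^ (m + 1) ∈ RingHom.ker Ψ := by rw [RingHom.mem_ker, map_pow]; exact hn
    rw [hker, Ideal.mem_span_singleton'] at h1
    obtain ⟨y, hy⟩ := h1
    have h2 : ((1 - ε) * x) ^ (m + 1) = 0 := by
      rw [mul_pow, ← hy, pow_succ (1 - ε) m]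
      have : (1 - ε) * ε = 0 := by rw [sub_mul, one_mul, hεε, sub_self]
      calc (1 - ε) ^ m * (1 - ε) * (y * ε) = (1 - ε) ^ m * y * ((1 - ε) * ε) := by ring
        _ = 0 := by rw [this, mul_zero]
    have h3 : (1 - ε) * x = 0 := IsReduced.eq_zero _ ⟨m + 1, h2⟩
    have h4 : x = ε * x := by
      have : (1 - ε) * x = x - ε * x := by ring
      rw [this, sub_eq_zero] at h3
      exact h3
    rw [h4, map_mul, hεker, zero_mul]

end gen

section kummer

variable (k k₁ F : Type u) [Field k] [Field k₁] [Algebra k k₁] [Module.Finite k k₁]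
  [Field F] [Algebra k F] [Algebra.IsGeometricallyReduced k F]
  (e : ℕ) (u₁ : k₁) (uB : F)

/-- the polynomial `X^e - u₁ ⊗ uB⁻¹` -/
noncomputable def pol : (k₁ ⊗[k] F)[X] := X ^ e - C (u₁ ⊗ₜ[k] uB⁻¹)

theorem pol_monic (he0 : e ≠ 0) : (pol k k₁ F e u₁ uB).Monic :=
  monic_X_pow_sub_C _ he0

theorem pol_separable (he : (e : k) ≠ 0) (hu₁ : u₁ ≠ 0) (huB : uB ≠ 0) :
    (pol k k₁ F e u₁ uB).Separable := by
  have hunit : IsUnit (u₁ ⊗ₜ[k] uB⁻¹ : k₁ ⊗[k] F) := by
    refine ⟨⟨u₁ ⊗ₜ uB⁻¹, u₁⁻¹ ⊗ₜ uB, ?_, ?_⟩, rfl⟩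
    · rw [Algebra.TensorProduct.tmul_mul_tmul, mul_inv_cancel₀ hu₁, inv_mul_cancel₀ huB]
      rfl
    · rw [Algebra.TensorProduct.tmul_mul_tmul, inv_mul_cancel₀ hu₁, mul_inv_cancel₀ huB]
      rfl
  have he' : IsUnit ((e : ℕ) : k₁ ⊗[k] F) := by
    have : ((e : ℕ) : k₁ ⊗[k] F) = algebraMap k (k₁ ⊗[k] F) (e : k) := by
      rw [map_natCast]
    rw [this]
    exact (IsUnit.mk0 _ he).map _
  have := separable_X_pow_sub_C_unit hunit.unit he'
  rwa [IsUnit.unit_spec] at this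

theorem isArtinianRing_adjoinRoot (he0 : e ≠ 0) :
    IsArtinianRing (AdjoinRoot (pol k k₁ F e u₁ uB)) := by
  haveI := isArtinianRing_tensor k k₁ F
  haveI : Module.Finite (k₁ ⊗[k] F) (AdjoinRoot (pol k k₁ F e u₁ uB)) :=
    (pol_monic k k₁ F e u₁ uB he0).finite_adjoinRoot
  exact IsArtinianRing.of_finite (k₁ ⊗[k] F) _

theorem isReduced_adjoinRoot_pol (he : (e : k) ≠ 0) (hu₁ : u₁ ≠ 0) (huB : uB ≠ 0) :
    IsReduced (AdjoinRoot (pol k k₁ F e u₁ uB)) := by
  haveI := isReduced_tensor k k₁ F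
  have he0 : e ≠ 0 := by
    rintro rfl
    exact he Nat.cast_zero
  exact isReduced_adjoinRoot (pol_monic k k₁ F e u₁ uB he0) (pol_separable k k₁ F e u₁ uB he hu₁ huB)

theorem isReduced_tensor_adjoinRoot (he : (e : k) ≠ 0) (hu₁ : u₁ ≠ 0) (huB : uB ≠ 0) :
    IsReduced (AlgebraicClosure k₁ ⊗[k₁] AdjoinRoot (pol k k₁ F e u₁ uB)) := by
  have he0 : e ≠ 0 := by
    rintro rfl
    exact he Nat.cast_zero
  haveI : Algebra.IsAlgebraic k k₁ := Algebra.IsAlgebraic.of_finite k k₁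
  haveI : Algebra.IsAlgebraic k (AlgebraicClosure k₁) :=
    Algebra.IsAlgebraic.trans k k₁ (AlgebraicClosure k₁)
  haveI hred : IsReduced (AlgebraicClosure k₁ ⊗[k] F) := inferInstance
  let e₀ := Algebra.TensorProduct.cancelBaseChange k k₁ k₁ (AlgebraicClosure k₁) F
  haveI : IsReduced (AlgebraicClosure k₁ ⊗[k₁] (k₁ ⊗[k] F)) :=
    isReduced_of_injective e₀ e₀.injective
  let e₁ := AdjoinRoot.tensorAlgEquiv (R := k₁) (T := AlgebraicClosure k₁)
    (pol k k₁ F e u₁ uB) _ rfl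
  haveI : IsReduced (AdjoinRoot ((pol k k₁ F e u₁ uB).map
      (Algebra.TensorProduct.includeRight :
        k₁ ⊗[k] F →ₐ[k₁] AlgebraicClosure k₁ ⊗[k₁] (k₁ ⊗[k] F)).toRingHom)) :=
    isReduced_adjoinRoot ((pol_monic k k₁ F e u₁ uB he0).map _)
      (pol_separable k k₁ F e u₁ uB he hu₁ huB).map
  exact isReduced_of_injective e₁ e₁.injective

variable (Q : Type u) [CommRing Q] [Algebra k₁ Q] (g : F →+* Q)
  (hcomp : ∀ c : k, g (algebraMap k F c) = algebraMap k₁ Q (algebraMap k k₁ c))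
  (θ : Q) (hθ : θ ^ e * g uB = algebraMap k₁ Q u₁)

include hθ in
theorem eval₂_pol (huB : uB ≠ 0) :
    (pol k k₁ F e u₁ uB).eval₂ (q₀ k k₁ F Q g hcomp : k₁ ⊗[k] F →+* Q) θ = 0 := by
  unfold pol
  rw [eval₂_sub, eval₂_pow, eval₂_X, eval₂_C]
  change θ ^ e - q₀ k k₁ F Q g hcomp (u₁ ⊗ₜ uB⁻¹) = 0
  rw [q₀_tmul, ← hθ, mul_assoc, ← map_mul, mul_inv_cancel₀ huB, map_one, mul_one, sub_self]

/-- the induced map from `(k₁ ⊗[k] F)[X]/(X^e - u)` -/
noncomputable def q₁ (huB : uB ≠ 0) : AdjoinRoot (pol k k₁ F e u₁ uB) →ₐ[k₁] Q :=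
  AdjoinRoot.liftAlgHom (pol k k₁ F e u₁ uB) (q₀ k k₁ F Q g hcomp) θ
    (eval₂_pol k k₁ F e u₁ uB Q g hcomp θ hθ huB)

theorem closure_le_range (huB : uB ≠ 0) :
    Subring.closure (Set.range (algebraMap k₁ Q) ∪ Set.range g ∪ {θ}) ≤
      (q₁ k k₁ F e u₁ uB Q g hcomp θ hθ huB).toRingHom.range := by
  rw [Subring.closure_le]
  rintro _ ((⟨c, rfl⟩ | ⟨y, rfl⟩) | hx)
  · exact ⟨AdjoinRoot.of _ (c ⊗ₜ 1), by
      change q₁ k k₁ F e u₁ uB Q g hcomp θ hθ huB (AdjoinRoot.of _ (c ⊗ₜ 1)) = _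
      unfold q₁
      rw [AdjoinRoot.liftAlgHom_of, q₀_tmul, map_one, mul_one]⟩
  · exact ⟨AdjoinRoot.of _ (1 ⊗ₜ y), by
      change q₁ k k₁ F e u₁ uB Q g hcomp θ hθ huB (AdjoinRoot.of _ (1 ⊗ₜ y)) = _
      unfold q₁
      rw [AdjoinRoot.liftAlgHom_of, q₀_tmul, map_one, one_mul]⟩
  · rw [Set.mem_singleton_iff] at hx
    rw [hx]
    exact ⟨AdjoinRoot.root _, by
      change q₁ k k₁ F e u₁ uB Q g hcomp θ hθ huB (AdjoinRoot.root _) = _
      unfold q₁
      rw [AdjoinRoot.liftAlgHom_root]⟩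

include hcomp hθ in
/-- a ring generated by the images of `k₁`, `F` and `θ` is reduced and artinian -/
theorem reducedArtinian_of_gen (he : (e : k) ≠ 0) (hu₁ : u₁ ≠ 0) (huB : uB ≠ 0)
    (hgen : ∀ x : Q, x ∈ Subring.closure (Set.range (algebraMap k₁ Q) ∪ Set.range g ∪ {θ})) :
    IsArtinianRing Q ∧ IsReduced Q := by
  have he0 : e ≠ 0 := by
    rintro rfl
    exact he Nat.cast_zero
  haveI := isArtinianRing_adjoinRoot k k₁ F e u₁ uB he0
  haveI := isReduced_adjoinRoot_pol k k₁ F e u₁ uB he hu₁ huB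
  refine of_surjective (q₁ k k₁ F e u₁ uB Q g hcomp θ hθ huB).toRingHom (fun x => ?_)
  exact closure_le_range k k₁ F e u₁ uB Q g hcomp θ hθ huB (hgen x)

end kummer

section field

variable (k k₁ F : Type u) [Field k] [Field k₁] [Algebra k k₁] [Module.Finite k k₁]
  [Field F] [Algebra k F] [Algebra.IsGeometricallyReduced k F]
  (e : ℕ) (u₁ : k₁) (uB : F)
  (Q : Type u) [Field Q] [Algebra k₁ Q] (g : F →+* Q)
  (hcomp : ∀ c : k, g (algebraMap k F c) = algebraMap k₁ Q (algebraMap k k₁ c))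
  (θ : Q) (hθ : θ ^ e * g uB = algebraMap k₁ Q u₁)

include hcomp hθ in
/-- a field whose elements are ratios of elements of the subring generated by the images of `k₁`,
`F` and `θ` is geometrically reduced over `k₁` -/
theorem geomReduced_of_fracGen (he : (e : k) ≠ 0) (hu₁ : u₁ ≠ 0) (huB : uB ≠ 0)
    (hfrac : ∀ x : Q,
      ∃ u ∈ Subring.closure (Set.range (algebraMap k₁ Q) ∪ Set.range g ∪ {θ}),
      ∃ u' ∈ Subring.closure (Set.range (algebraMap k₁ Q) ∪ Set.range g ∪ {θ}),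
        u' ≠ 0 ∧ x * u' = u) :
    Algebra.IsGeometricallyReduced k₁ Q := by
  have he0 : e ≠ 0 := by
    rintro rfl
    exact he Nat.cast_zero
  haveI := isArtinianRing_adjoinRoot k k₁ F e u₁ uB he0
  haveI := isReduced_adjoinRoot_pol k k₁ F e u₁ uB he hu₁ huB
  apply geomReduced_of_surjective_gen k₁ (AdjoinRoot (pol k k₁ F e u₁ uB)) Q
    (isReduced_tensor_adjoinRoot k k₁ F e u₁ uB he hu₁ huB)
    (q₁ k k₁ F e u₁ uB Q g hcomp θ hθ huB)
  intro x
  obtain ⟨u, hu, u', hu', hu'0, hxu⟩ := hfrac x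
  obtain ⟨a, ha⟩ := closure_le_range k k₁ F e u₁ uB Q g hcomp θ hθ huB hu
  obtain ⟨a', ha'⟩ := closure_le_range k k₁ F e u₁ uB Q g hcomp θ hθ huB hu'
  change q₁ k k₁ F e u₁ uB Q g hcomp θ hθ huB a = u at ha
  change q₁ k k₁ F e u₁ uB Q g hcomp θ hθ huB a' = u' at ha'
  obtain ⟨c, hc⟩ := exists_eq_sq_mul a'
  have h1 : u' * q₁ k k₁ F e u₁ uB Q g hcomp θ hθ huB c = 1 := by
    have h2 := congrArg (q₁ k k₁ F e u₁ uB Q g hcomp θ hθ huB) hc
    rw [map_mul, map_mul, ha'] at h2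
    have h3 : u' * (u' * q₁ k k₁ F e u₁ uB Q g hcomp θ hθ huB c) = u' * 1 := by
      rw [mul_one, ← mul_assoc]
      exact h2.symm
    exact mul_left_cancel₀ hu'0 h3
  refine ⟨a * c, ?_⟩
  rw [map_mul, ha, ← hxu, mul_assoc, h1, mul_one]

end field

end Groth.Agent.Lib.T2H9.ResKummer
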