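import Mathlib
import Groth.Prelude.Def_EtRam
import Groth.Agent.Lib.T2H9SolAll
import Groth.Agent.Lib.T2H9ResKummer
import Groth.Agent.Lib.T2H9TotRamDeg

set_option autoImplicit false
set_option linter.style.haveILetI false
set_option linter.unusedSectionVars false
universe u

/-!
# Abhyankar's lemma for extensions of discrete valuation rings
-/

namespace Groth.Agent.Lib.T2H9.Abhyankar

open IsLocalRing TensorProduct Groth.Agent.Lib.T2H9.RamTower Groth.Agent.Lib.T2H9.FinDVR
  Groth.Agent.Lib.T2H9.ValGen Groth.Agent.Lib.T2H9.RedArt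
  Groth.Agent.Lib.T2H9.SolAll Groth.Agent.Lib.T2H9.TotRamDeg

section ram

variable (A B : Type u) [CommRing A] [IsDomain A] [IsDiscreteValuationRing A]
  [CommRing B] [IsDomain B] [IsDiscreteValuationRing B] [Algebra A B] [IsLocalHom (algebraMap A B)]

theorem ramificationIdx'_ne_zero (hinj : Function.Injective (algebraMap A B)) :
    Ideal.ramificationIdx' (maximalIdeal A) (maximalIdeal B) ≠ 0 := by
  obtain ⟨π, hπ⟩ := IsDiscreteValuationRing.exists_irreducible A
  obtain ⟨πB, hπB⟩ := IsDiscreteValuationRing.exists_irreducible B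
  have hπB0 : algebraMap A B π ≠ 0 := fun h0 =>
    hπ.ne_zero (hinj (h0.trans (map_zero _).symm))
  obtain ⟨e, uB, huB⟩ := IsDiscreteValuationRing.eq_unit_mul_pow_irreducible hπB0 hπB
  have hmapB : (maximalIdeal A).map (algebraMap A B) = Ideal.span {algebraMap A B π} := by
    rw [hπ.maximalIdeal_eq, Ideal.map_span, Set.image_singleton]
  rw [ramificationIdx'_eq_of_span _ hmapB πB hπB uB e huB]
  rintro rfl
  rw [pow_zero, mul_one] at huB
  have : IsUnit (algebraMap A B π) := huB ▸ uB.isUnit
  exact hπ.not_isUnit (isUnit_of_map_unit (algebraMap A B) π this)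

end ram

section main

variable (A B K L : Type u) [CommRing A] [IsDomain A] [IsDiscreteValuationRing A]
  [CommRing B] [IsDomain B] [IsDiscreteValuationRing B] [Algebra A B] [IsLocalHom (algebraMap A B)]
  [Field K] [Field L] [Algebra A K] [IsFractionRing A K] [Algebra B L] [IsFractionRing B L]
  [Algebra K L] [Algebra A L] [IsScalarTower A K L] [IsScalarTower A B L]
  [Algebra.IsGeometricallyReduced (ResidueField A) (ResidueField B)]
  (K₁ : Type u) [Field K₁] [Algebra K K₁] [FiniteDimensional K K₁]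
  (M : Type u) [Field M] [Algebra K M] [Algebra L M] [Algebra K₁ M] [IsScalarTower K L M]
  [IsScalarTower K K₁ M]

include K in
theorem core
    (he : ((Ideal.ramificationIdx' (maximalIdeal A) (maximalIdeal B) : ℕ) : ResidueField A) ≠ 0)
    (hgen : Algebra.adjoin L (Set.range (algebraMap K₁ M)) = ⊤) (W : ValuationSubring M)
    (hW : EtRam.Dominates B ((algebraMap L M).comp (algebraMap B L)) W)
    (hA : ∀ a : A, (algebraMap K K₁) (algebraMap A K a) ∈ W.comap (algebraMap K₁ M)) :
    letI : Algebra A (W.comap (algebraMap K₁ M)) :=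
      (RingHom.codRestrict ((algebraMap K K₁).comp (algebraMap A K))
        (W.comap (algebraMap K₁ M)) hA).toAlgebra
    letI : Algebra (W.comap (algebraMap K₁ M)) W :=
      (EtRam.inclOfComap W (algebraMap K₁ M)).toAlgebra
    Ideal.ramificationIdx' (maximalIdeal A) (maximalIdeal B) ∣
      Ideal.ramificationIdx' (maximalIdeal A) (maximalIdeal (W.comap (algebraMap K₁ M))) →
    EtRam.IsWeaklyUnramified (W.comap (algebraMap K₁ M)) W ∧
     @Algebra.IsGeometricallyReduced (ResidueField (W.comap (algebraMap K₁ M))) (ResidueField W) _ _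
        (ResidueField.map (EtRam.inclOfComap W (algebraMap K₁ M))).toAlgebra := by
  classical
  letI : Algebra A K₁ := ((algebraMap K K₁).comp (algebraMap A K)).toAlgebra
  haveI : IsScalarTower A K K₁ := IsScalarTower.of_algebraMap_eq (fun _ => rfl)
  letI : Algebra B M := ((algebraMap L M).comp (algebraMap B L)).toAlgebra
  haveI : IsScalarTower B L M := IsScalarTower.of_algebraMap_eq (fun _ => rfl)
  haveI hfinLM : Module.Finite L M := finite_of_adjoin K L K₁ M hgen
  have hWB : EtRam.Dominates B (algebraMap B M) W := hW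
  haveI : IsDiscreteValuationRing W := isDiscreteValuationRing_of_dominates B L M W hWB
  have hcompat : ∀ a : A,
      algebraMap K₁ M (algebraMap A K₁ a) = algebraMap B M (algebraMap A B a) := by
    intro a
    change algebraMap K₁ M (algebraMap K K₁ (algebraMap A K a)) =
      algebraMap L M (algebraMap B L (algebraMap A B a))
    rw [← IsScalarTower.algebraMap_apply K K₁ M, ← IsScalarTower.algebraMap_apply A B L,
      IsScalarTower.algebraMap_apply A K L, ← IsScalarTower.algebraMap_apply K L M]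
  set f := algebraMap K₁ M with hf
  set V₁ := W.comap f with hV₁
  have hV₁dom : EtRam.Dominates A (algebraMap A K₁) V₁ := by
    rw [dominates_comap_iff]
    refine ⟨fun a => ?_, fun a ha => ?_⟩
    · rw [RingHom.comp_apply, hcompat]
      exact hWB.1 _
    · rw [RingHom.comp_apply, hcompat]
      apply hWB.2
      rw [mem_maximalIdeal, mem_nonunits_iff] at ha ⊢
      intro hu
      exact ha (isUnit_of_map_unit (algebraMap A B) a hu)
  haveI : IsDiscreteValuationRing V₁ := isDiscreteValuationRing_of_dominates A K K₁ V₁ hV₁dom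
  letI algAV₁ : Algebra A V₁ :=
    (RingHom.codRestrict ((algebraMap K K₁).comp (algebraMap A K)) V₁ hA).toAlgebra
  haveI : IsScalarTower A V₁ K₁ := IsScalarTower.of_algebraMap_eq (fun _ => rfl)
  haveI : IsLocalHom (algebraMap A V₁) := isLocalHom_of_dominates (algebraMap A K₁) V₁ hV₁dom
  letI algBW : Algebra B W := (RingHom.codRestrict (algebraMap B M) W hWB.1).toAlgebra
  haveI : IsScalarTower B W M := IsScalarTower.of_algebraMap_eq (fun _ => rfl)
  haveI : IsLocalHom (algebraMap B W) := isLocalHom_of_dominates (algebraMap B M) W hWB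
  letI algV₁W : Algebra V₁ W := (EtRam.inclOfComap W f).toAlgebra
  haveI : IsLocalHom (algebraMap V₁ W) := EtRam.isLocalHom_inclOfComap W f
  intro hdvd
  have hinjAK₁ : Function.Injective (algebraMap A K₁) :=
    (algebraMap K K₁).injective.comp (IsFractionRing.injective A K)
  have hinjAV₁ : Function.Injective (algebraMap A V₁) := fun a b hab =>
    hinjAK₁ (congrArg Subtype.val hab)
  have hinjAB : Function.Injective (algebraMap A B) := by
    intro a b hab
    have h1 : algebraMap A L a = algebraMap A L b := by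
      rw [IsScalarTower.algebraMap_apply A B L, hab, ← IsScalarTower.algebraMap_apply A B L]
    rw [IsScalarTower.algebraMap_apply A K L, IsScalarTower.algebraMap_apply A K L] at h1
    exact IsFractionRing.injective A K ((algebraMap K L).injective h1)
  obtain ⟨hresfin, -⟩ := Groth.Agent.Lib.Helper24DvrEF.s7132 A V₁ K K₁ hinjAV₁
  haveI := hresfin
  obtain ⟨π, hπ⟩ := IsDiscreteValuationRing.exists_irreducible A
  obtain ⟨πB, hπB⟩ := IsDiscreteValuationRing.exists_irreducible B
  obtain ⟨π₁, hπ₁⟩ := IsDiscreteValuationRing.exists_irreducible V₁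
  have hπB0 : algebraMap A B π ≠ 0 := fun h0 =>
    hπ.ne_zero (hinjAB (h0.trans (map_zero _).symm))
  have hπ₁0 : algebraMap A V₁ π ≠ 0 := fun h0 =>
    hπ.ne_zero (hinjAV₁ (h0.trans (map_zero _).symm))
  obtain ⟨e, uB, huB⟩ := IsDiscreteValuationRing.eq_unit_mul_pow_irreducible hπB0 hπB
  obtain ⟨e₁, u₁, hu₁⟩ := IsDiscreteValuationRing.eq_unit_mul_pow_irreducible hπ₁0 hπ₁
  have hmapB : (maximalIdeal A).map (algebraMap A B) = Ideal.span {algebraMap A B π} := by
    rw [hπ.maximalIdeal_eq, Ideal.map_span, Set.image_singleton]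
  have hmapV₁ : (maximalIdeal A).map (algebraMap A V₁) = Ideal.span {algebraMap A V₁ π} := by
    rw [hπ.maximalIdeal_eq, Ideal.map_span, Set.image_singleton]
  have hramB := ramificationIdx'_eq_of_span _ hmapB πB hπB uB e huB
  have hramV₁ := ramificationIdx'_eq_of_span _ hmapV₁ π₁ hπ₁ u₁ e₁ hu₁
  rw [hramB] at he
  rw [hramB, hramV₁] at hdvd
  obtain ⟨d, hd⟩ := hdvd
  have he0 : e ≠ 0 := by
    rintro rfl
    exact he Nat.cast_zero
  have he₁0 : e₁ ≠ 0 := by
    rintro rfl
    rw [pow_zero, mul_one] at hu₁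
    have : IsUnit (algebraMap A V₁ π) := hu₁ ▸ u₁.isUnit
    exact hπ.not_isUnit (isUnit_of_map_unit (algebraMap A V₁) π this)
  have hd0 : d ≠ 0 := by
    rintro rfl
    exact he₁0 (by rw [hd, mul_zero])
  set t : M := f (π₁ : K₁) with ht
  have ht1 : W.valuation t < 1 := by
    rw [ht, ← valuation_comap_lt_one_iff, ← ValuationSubring.valuation_lt_one_iff,
      mem_maximalIdeal, mem_nonunits_iff]
    exact hπ₁.not_isUnit
  have ht0 : t ≠ 0 := by
    rw [ht, Ne, map_eq_zero]
    exact fun h => hπ₁.ne_zero (Subtype.ext h)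
  -- the element `θ`
  set πBM : M := algebraMap B M πB with hπBM
  set uBM : M := algebraMap B M (uB : B) with huBM
  set u1M : M := f ((u₁ : V₁) : K₁) with hu1M
  set θ : M := πBM / t ^ d with hθdef
  have hrel1 : algebraMap B M (algebraMap A B π) = uBM * πBM ^ e := by
    rw [huB, map_mul, map_pow]
  have hrel2 : algebraMap B M (algebraMap A B π) = u1M * t ^ (e * d) := by
    rw [← hcompat, ← hd]
    have := congrArg (fun x : V₁ => f (x : K₁)) hu₁
    simp only [MulMemClass.coe_mul, SubmonoidClass.coe_pow, map_mul, map_pow] at this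
    exact this
  have hθrel : θ ^ e * uBM = u1M := by
    have ht0' : t ^ (e * d) ≠ 0 := pow_ne_zero _ ht0
    have h1 : uBM * πBM ^ e = u1M * t ^ (e * d) := hrel1.symm.trans hrel2
    rw [hθdef, div_pow, ← pow_mul, mul_comm d e, div_mul_eq_mul_div, div_eq_iff ht0', mul_comm]
    exact h1
  have huBMval : W.valuation uBM = 1 := by
    have h1 : IsUnit (algebraMap B W (uB : B)) := uB.isUnit.map (algebraMap B W)
    exact (W.valuation_eq_one_iff _).mp h1
  have hu1Mval : W.valuation u1M = 1 := by
    have h1 : IsUnit (algebraMap V₁ W (u₁ : V₁)) := u₁.isUnit.map (algebraMap V₁ W)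
    exact (W.valuation_eq_one_iff _).mp h1
  have hθval : W.valuation θ = 1 := by
    have h1 : W.valuation θ ^ e = 1 := by
      have := congrArg W.valuation hθrel
      rw [map_mul, map_pow, huBMval, hu1Mval, mul_one] at this
      exact this
    rcases lt_trichotomy (W.valuation θ) 1 with h | h | h
    · exact absurd h1 (ne_of_lt (pow_lt_one₀ zero_le h he0))
    · exact h
    · exact absurd h1 (ne_of_gt (one_lt_pow₀ h he0))
  have hθW : θ ∈ W := (W.valuation_le_one_iff θ).mp hθval.le
  have hπBθ : πBM = θ * t ^ d := by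
    rw [hθdef, div_mul_cancel₀ _ (pow_ne_zero _ ht0)]
  -- the subring generated by `B`, `V₁` and `θ`
  set R : Subalgebra B M :=
    Algebra.adjoin B (Set.range (fun v : V₁ => f (v : K₁)) ∪ {θ}) with hR
  have hRW : ∀ x ∈ R, x ∈ W := by
    intro x hx
    induction hx using Algebra.adjoin_induction with
    | mem y hy =>
      rcases hy with ⟨v, rfl⟩ | hy
      · exact v.2
      · rw [Set.mem_singleton_iff] at hy
        rw [hy]
        exact hθW
    | algebraMap c => exact hWB.1 c
    | add y y' _ _ hy hy' => exact W.add_mem _ _ hy hy'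
    | mul y y' _ _ hy hy' => exact W.mul_mem _ _ hy hy'
  let ι₁ : V₁ →+* R :=
    { toFun := fun v => ⟨f (v : K₁), Algebra.subset_adjoin (Or.inl ⟨v, rfl⟩)⟩
      map_one' := Subtype.ext (map_one f)
      map_mul' := fun x y => Subtype.ext (map_mul f (x : K₁) (y : K₁))
      map_zero' := Subtype.ext (map_zero f)
      map_add' := fun x y => Subtype.ext (map_add f (x : K₁) (y : K₁)) }
  set tR : R := ι₁ π₁ with htR
  let θR : R := ⟨θ, Algebra.subset_adjoin (Or.inr rfl)⟩
  have hV₁t : ∀ v ∈ maximalIdeal V₁, ι₁ v ∈ Ideal.span {tR} := by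
    intro v hv
    rw [hπ₁.maximalIdeal_eq, Ideal.mem_span_singleton'] at hv
    obtain ⟨c, rfl⟩ := hv
    rw [map_mul]
    exact Ideal.mul_mem_left _ _ (Ideal.mem_span_singleton_self tR)
  have hAR : ∀ a : A, algebraMap B R (algebraMap A B a) = ι₁ (algebraMap A V₁ a) := by
    intro a
    apply Subtype.ext
    exact (hcompat a).symm
  have hπBR : algebraMap B R πB = θR * tR ^ d := Subtype.ext hπBθ
  have hBt : ∀ b ∈ maximalIdeal B, algebraMap B R b ∈ Ideal.span {tR} := by
    intro b hb
    rw [hπB.maximalIdeal_eq, Ideal.mem_span_singleton'] at hb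
    obtain ⟨c, rfl⟩ := hb
    rw [map_mul, hπBR]
    apply Ideal.mul_mem_left
    apply Ideal.mul_mem_left
    obtain ⟨d', rfl⟩ := Nat.exists_eq_succ_of_ne_zero hd0
    rw [pow_succ]
    exact Ideal.mul_mem_left _ _ (Ideal.mem_span_singleton_self tR)
  let g₁ : ResidueField V₁ →+* R ⧸ Ideal.span {tR} :=
    Ideal.Quotient.lift (maximalIdeal V₁) ((Ideal.Quotient.mk _).comp ι₁) (fun v hv => by
      rw [RingHom.comp_apply, Ideal.Quotient.eq_zero_iff_mem]
      exact hV₁t v hv)
  let g₂ : ResidueField B →+* R ⧸ Ideal.span {tR} :=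
    Ideal.Quotient.lift (maximalIdeal B) ((Ideal.Quotient.mk _).comp (algebraMap B R))
      (fun b hb => by
        rw [RingHom.comp_apply, Ideal.Quotient.eq_zero_iff_mem]
        exact hBt b hb)
  letI algQ : Algebra (ResidueField V₁) (R ⧸ Ideal.span {tR}) := g₁.toAlgebra
  have hcomp : ∀ c : ResidueField A, g₂ (algebraMap (ResidueField A) (ResidueField B) c) =
      algebraMap (ResidueField V₁) (R ⧸ Ideal.span {tR})
        (algebraMap (ResidueField A) (ResidueField V₁) c) := by
    intro c
    obtain ⟨a, rfl⟩ := residue_surjective c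
    change Ideal.Quotient.mk _ (algebraMap B R (algebraMap A B a)) =
      Ideal.Quotient.mk _ (ι₁ (algebraMap A V₁ a))
    rw [hAR]
  set θQ : R ⧸ Ideal.span {tR} := Ideal.Quotient.mk _ θR with hθQ
  have hθQrel : θQ ^ e * g₂ (residue B (uB : B)) =
      algebraMap (ResidueField V₁) (R ⧸ Ideal.span {tR}) (residue V₁ (u₁ : V₁)) := by
    change Ideal.Quotient.mk _ θR ^ e * Ideal.Quotient.mk _ (algebraMap B R (uB : B)) =
      Ideal.Quotient.mk _ (ι₁ (u₁ : V₁))
    rw [← map_pow, ← map_mul]
    congr 1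
    exact Subtype.ext hθrel
  have hresuB : residue B (uB : B) ≠ 0 := by
    rw [Ne, residue_eq_zero_iff, mem_maximalIdeal, mem_nonunits_iff, not_not]
    exact uB.isUnit
  have hresu₁ : residue V₁ (u₁ : V₁) ≠ 0 := by
    rw [Ne, residue_eq_zero_iff, mem_maximalIdeal, mem_nonunits_iff, not_not]
    exact u₁.isUnit
  have hgenQ : ∀ x : R ⧸ Ideal.span {tR}, x ∈ Subring.closure
      (Set.range (algebraMap (ResidueField V₁) (R ⧸ Ideal.span {tR})) ∪ Set.range g₂ ∪
        {θQ}) := by
    intro x
    obtain ⟨r, rfl⟩ := Ideal.Quotient.mk_surjective x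
    obtain ⟨r, hr⟩ := r
    induction hr using Algebra.adjoin_induction with
    | mem y hy =>
      rcases hy with ⟨v, rfl⟩ | hy
      · exact Subring.subset_closure (Or.inl (Or.inl ⟨residue V₁ v, rfl⟩))
      · rw [Set.mem_singleton_iff] at hy
        subst hy
        exact Subring.subset_closure (Or.inr rfl)
    | algebraMap b => exact Subring.subset_closure (Or.inl (Or.inr ⟨residue B b, rfl⟩))
    | add y y' hy hy' h1 h2 =>
      have : (⟨y + y', add_mem hy hy'⟩ : R) = ⟨y, hy⟩ + ⟨y', hy'⟩ := rfl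
      rw [this, map_add]
      exact add_mem h1 h2
    | mul y y' hy hy' h1 h2 =>
      have : (⟨y * y', mul_mem hy hy'⟩ : R) = ⟨y, hy⟩ * ⟨y', hy'⟩ := rfl
      rw [this, map_mul]
      exact mul_mem h1 h2
  obtain ⟨hart, hred⟩ := Groth.Agent.Lib.T2H9.ResKummer.reducedArtinian_of_gen
    (ResidueField A) (ResidueField V₁) (ResidueField B) e (residue V₁ (u₁ : V₁))
    (residue B (uB : B)) (R ⧸ Ideal.span {tR}) g₂ hcomp θQ hθQrel he hresu₁ hresuB hgenQ
  haveI := hart
  haveI := hred
  let ι : R →+* W :=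
    { toFun := fun y => ⟨y.1, hRW y.1 y.2⟩
      map_one' := rfl
      map_mul' := fun _ _ => rfl
      map_zero' := rfl
      map_add' := fun _ _ => rfl }
  have h𝔫 : (maximalIdeal W).comap ι ≠ ⊤ := (Ideal.comap_isPrime ι _).ne_top
  have hmem𝔫 : ∀ y : R, y ∈ (maximalIdeal W).comap ι ↔ W.valuation (y : M) < 1 :=
    fun y => W.valuation_lt_one_iff (ι y)
  have ht𝔫 : tR ∈ (maximalIdeal W).comap ι := (hmem𝔫 _).mpr ht1
  have h2 : ∀ y ∈ R.toSubring, W.valuation y < 1 →
      ∃ s ∈ R.toSubring, W.valuation s = 1 ∧ ∃ y' ∈ R.toSubring, s * y = t * y' := by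
    intro y hy hlt
    obtain ⟨s, hs, y', hsy⟩ := exists_mul_eq_mul tR ((maximalIdeal W).comap ι) h𝔫 ht𝔫 ⟨y, hy⟩
      ((hmem𝔫 _).mpr hlt)
    refine ⟨s.1, s.2, ?_, y'.1, y'.2, congrArg Subtype.val hsy⟩
    rw [hmem𝔫, not_lt] at hs
    exact le_antisymm ((W.valuation_le_one_iff _).mpr (hRW _ s.2)) hs
  have h3 : ∀ x : M, ∃ y ∈ R.toSubring, ∃ y' ∈ R.toSubring, y' ≠ 0 ∧ x * y' = y := by
    intro x
    have hx : x ∈ Algebra.adjoin L (Set.range f) := by rw [hgen]; exact Algebra.mem_top
    induction hx using Algebra.adjoin_induction with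
    | mem z hz =>
      obtain ⟨c, rfl⟩ := hz
      by_cases hcV : c ∈ V₁
      · exact ⟨f c, Algebra.subset_adjoin (Or.inl ⟨⟨c, hcV⟩, rfl⟩), 1, R.one_mem, one_ne_zero,
          mul_one _⟩
      · have hc := (V₁.mem_or_inv_mem c).resolve_left hcV
        have hc0 : c ≠ 0 := by
          intro h0
          exact hcV (h0 ▸ V₁.zero_mem)
        refine ⟨1, R.one_mem, f c⁻¹, Algebra.subset_adjoin (Or.inl ⟨⟨c⁻¹, hc⟩, rfl⟩), ?_, ?_⟩
        · rw [Ne, map_eq_zero]
          exact inv_ne_zero hc0
        · rw [← map_mul, mul_inv_cancel₀ hc0, map_one]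
    | algebraMap l =>
      obtain ⟨p, q, hq, rfl⟩ := IsFractionRing.div_surjective (A := B) l
      have hq0 : algebraMap B M q ≠ 0 := by
        intro h0
        exact nonZeroDivisors.ne_zero hq
          (algebraMap_injective B L M (h0.trans (map_zero _).symm))
      refine ⟨algebraMap B M p, R.algebraMap_mem p, algebraMap B M q, R.algebraMap_mem q, hq0, ?_⟩
      rw [map_div₀, ← IsScalarTower.algebraMap_apply, ← IsScalarTower.algebraMap_apply,
        div_mul_cancel₀ _ hq0]
    | add x₁ x₂ _ _ h1 h2 =>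
      obtain ⟨y₁, hy₁, y₁', hy₁', hy₁0, e₁⟩ := h1
      obtain ⟨y₂, hy₂, y₂', hy₂', hy₂0, e₂⟩ := h2
      refine ⟨y₁ * y₂' + y₂ * y₁', R.add_mem (R.mul_mem hy₁ hy₂') (R.mul_mem hy₂ hy₁'),
        y₁' * y₂', R.mul_mem hy₁' hy₂', mul_ne_zero hy₁0 hy₂0, ?_⟩
      rw [← e₁, ← e₂]
      ring
    | mul x₁ x₂ _ _ h1 h2 =>
      obtain ⟨y₁, hy₁, y₁', hy₁', hy₁0, e₁⟩ := h1
      obtain ⟨y₂, hy₂, y₂', hy₂', hy₂0, e₂⟩ := h2
      refine ⟨y₁ * y₂, R.mul_mem hy₁ hy₂, y₁' * y₂', R.mul_mem hy₁' hy₂',
        mul_ne_zero hy₁0 hy₂0, ?_⟩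
      rw [← e₁, ← e₂]
      ring
  have hRW' : ∀ x ∈ R.toSubring, x ∈ W := hRW
  have htR' : t ∈ R.toSubring := tR.2
  obtain ⟨hc1, hc2⟩ := gen_of_subring W R.toSubring hRW' t htR' ht1 ht0 h2 h3
  refine ⟨?_, ?_⟩
  · unfold EtRam.IsWeaklyUnramified
    apply le_antisymm
    · exact ((local_hom_TFAE (algebraMap V₁ W)).out 0 2).mp ‹_›
    · intro x hx
      obtain ⟨w, hw', hxw⟩ := hc1 x ((W.valuation_lt_one_iff x).mp hx)
      have hx' : x = algebraMap V₁ W π₁ * ⟨w, hw'⟩ := Subtype.ext hxw
      rw [hx']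
      apply Ideal.mul_mem_right
      apply Ideal.mem_map_of_mem
      rw [mem_maximalIdeal, mem_nonunits_iff]
      exact hπ₁.not_isUnit
  · letI a1 : Algebra (ResidueField V₁) (ResidueField W) :=
      (ResidueField.map (EtRam.inclOfComap W f)).toAlgebra
    have hcomp' : ∀ c : ResidueField A,
        (algebraMap (ResidueField B) (ResidueField W))
          (algebraMap (ResidueField A) (ResidueField B) c) =
        algebraMap (ResidueField V₁) (ResidueField W)
          (algebraMap (ResidueField A) (ResidueField V₁) c) := by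
      intro c
      obtain ⟨a, rfl⟩ := residue_surjective c
      change residue W (algebraMap B W (algebraMap A B a)) =
        residue W (algebraMap V₁ W (algebraMap A V₁ a))
      congr 1
      apply Subtype.ext
      exact (hcompat a).symm
    set θκ : ResidueField W := residue W ⟨θ, hθW⟩ with hθκ
    set C := Subring.closure (Set.range (algebraMap (ResidueField V₁) (ResidueField W)) ∪
      Set.range (algebraMap (ResidueField B) (ResidueField W)) ∪ {θκ}) with hC
    have hθκrel : θκ ^ e * algebraMap (ResidueField B) (ResidueField W) (residue B (uB : B)) =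
        algebraMap (ResidueField V₁) (ResidueField W) (residue V₁ (u₁ : V₁)) := by
      change residue W ⟨θ, hθW⟩ ^ e * residue W (algebraMap B W (uB : B)) =
        residue W (algebraMap V₁ W (u₁ : V₁))
      rw [← map_pow, ← map_mul]
      congr 1
      exact Subtype.ext hθrel
    have hres : ∀ r : R, residue W (ι r) ∈ C := by
      intro r
      obtain ⟨r, hr⟩ := r
      induction hr using Algebra.adjoin_induction with
      | mem y hy =>
        rcases hy with ⟨v, rfl⟩ | hy
        · exact Subring.subset_closure (Or.inl (Or.inl ⟨residue V₁ v, rfl⟩))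
        · rw [Set.mem_singleton_iff] at hy
          subst hy
          exact Subring.subset_closure (Or.inr rfl)
      | algebraMap b => exact Subring.subset_closure (Or.inl (Or.inr ⟨residue B b, rfl⟩))
      | add y y' hy hy' h1 h2 =>
        have : ι (⟨y + y', add_mem hy hy'⟩ : R) = ι ⟨y, hy⟩ + ι ⟨y', hy'⟩ := rfl
        rw [this, map_add]
        exact add_mem h1 h2
      | mul y y' hy hy' h1 h2 =>
        have : ι (⟨y * y', mul_mem hy hy'⟩ : R) = ι ⟨y, hy⟩ * ι ⟨y', hy'⟩ := rfl
        rw [this, map_mul]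
        exact mul_mem h1 h2
    have hfrac : ∀ x : ResidueField W, ∃ u ∈ C, ∃ u' ∈ C, u' ≠ 0 ∧ x * u' = u := by
      intro x
      obtain ⟨w, rfl⟩ := residue_surjective x
      rcases lt_or_eq_of_le (W.valuation_le_one w) with hlt | heq
      · have : residue W w = 0 := by
          rw [residue_eq_zero_iff]
          exact (W.valuation_lt_one_iff w).mpr hlt
        exact ⟨0, C.zero_mem, 1, C.one_mem, one_ne_zero, by rw [this, zero_mul]⟩
      · obtain ⟨v, hv, v', hv', hv1, hv'1, hxv⟩ := hc2 w heq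
        refine ⟨residue W (ι ⟨v, hv⟩), hres _, residue W (ι ⟨v', hv'⟩), hres _, ?_, ?_⟩
        · have hunit : IsUnit (ι ⟨v', hv'⟩) := (W.valuation_eq_one_iff _).mpr hv'1
          rw [Ne, residue_eq_zero_iff, mem_maximalIdeal, mem_nonunits_iff, not_not]
          exact hunit
        · rw [← map_mul]
          congr 1
          exact Subtype.ext hxv
    exact Groth.Agent.Lib.T2H9.ResKummer.geomReduced_of_fracGen
      (ResidueField A) (ResidueField V₁) (ResidueField B) e (residue V₁ (u₁ : V₁))
      (residue B (uB : B)) (ResidueField W) (algebraMap (ResidueField B) (ResidueField W))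
      hcomp' θκ hθκrel he hresu₁ hresuB hfrac

end main

end Groth.Agent.Lib.T2H9.Abhyankar
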