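import Mathlib

/-!
# A point of a scheme locally of finite type over a field has an open neighbourhood immersed in
affine space (helper9)
-/

set_option autoImplicit false
universe u

namespace Groth.Agent.Lib.T2H9.AffNbhd

open AlgebraicGeometry CategoryTheory

theorem main (k : Type u) [Field k] {X : Scheme.{u}}
    (f : X ⟶ Spec (CommRingCat.of k)) [LocallyOfFiniteType f] (x : X) :
    ∃ (U : X.Opens) (_ : x ∈ U) (Y : Scheme.{u}) (g : Y ⟶ Spec (CommRingCat.of k))
      (i : (U : Scheme.{u}) ⟶ Y),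
      IsImmersion i ∧ i ≫ g = U.ι ≫ f ∧ ∀ y : Y, IsRegularLocalRing (Y.presheaf.stalk y) := by
  -- an affine open neighbourhood
  obtain ⟨_, ⟨U, hU : IsAffineOpen U, rfl⟩, hxU, -⟩ :=
    X.isBasis_affineOpens.exists_subset_of_mem_open (Set.mem_univ x) isOpen_univ
  have e : U ≤ f ⁻¹ᵁ ⊤ := le_top
  have hft : (f.appLE ⊤ U e).hom.FiniteType :=
    f.finiteType_appLE (isAffineOpen_top _) hU e
  let ψ : k →+* Γ(X, U) := (f.appLE ⊤ U e).hom.comp (Scheme.ΓSpecIso (CommRingCat.of k)).inv.hom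
  have hψ : ψ.FiniteType := by
    refine RingHom.FiniteType.comp hft ?_
    exact RingHom.FiniteType.of_surjective _
      (ConcreteCategory.bijective_of_isIso (Scheme.ΓSpecIso (CommRingCat.of k)).inv).2
  letI : Algebra k Γ(X, U) := ψ.toAlgebra
  have hfin : Algebra.FiniteType k Γ(X, U) := hψ
  obtain ⟨n, φ, hφ⟩ := Algebra.FiniteType.iff_quotient_mvPolynomial''.mp hfin
  let P : CommRingCat.{u} := CommRingCat.of (MvPolynomial (Fin n) k)
  let φ' : P ⟶ Γ(X, U) := CommRingCat.ofHom φ.toRingHom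
  let c : CommRingCat.of k ⟶ P := CommRingCat.ofHom (algebraMap k (MvPolynomial (Fin n) k))
  have hci : IsClosedImmersion (Spec.map φ') := IsClosedImmersion.spec_of_surjective φ' hφ
  refine ⟨U, hxU, Spec P, Spec.map c, hU.isoSpec.hom ≫ Spec.map φ', inferInstance, ?_, ?_⟩
  · apply ext_of_isAffine
    have hcφ : c ≫ φ' = (Scheme.ΓSpecIso (CommRingCat.of k)).inv ≫ f.appLE ⊤ U e := by
      ext a
      exact φ.commutes a
    rw [Scheme.Hom.comp_appTop, Scheme.Hom.comp_appTop, Scheme.Hom.comp_appTop,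
      hU.isoSpec_hom_appTop]
    rw [← cancel_epi (Scheme.ΓSpecIso (CommRingCat.of k)).inv]
    rw [Scheme.ΓSpecIso_naturality_assoc, Scheme.ΓSpecIso_naturality_assoc, Iso.inv_hom_id_assoc,
      ← Category.assoc, hcφ, Category.assoc]
    congr 1
    rw [Scheme.Hom.appLE, Scheme.Opens.ι_appTop, Scheme.Opens.topIso_inv, Category.assoc]
    refine congrArg (f.app ⊤ ≫ ·) ?_
    exact (X.presheaf.map_comp _ _).symm.trans (congrArg X.presheaf.map (Subsingleton.elim _ _))
  · intro y
    have : IsRegularRing (MvPolynomial (Fin n) k) := inferInstance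
    exact IsRegularLocalRing.of_ringEquiv
      (StructureSheaf.stalkIso (MvPolynomial (Fin n) k) y).toRingEquiv

end Groth.Agent.Lib.T2H9.AffNbhd
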