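import Mathlib
import Groth.Agent.Lib.T2H9Thick7
import Groth.Agent.S0003
import Groth.Agent.S0051

/-! # Algebraization with an ample module, X: ampleness from the closed fibre (helper9)

`isAmple_of_isAmple_closed_fibre` (EGA III 4.7.1 over a complete base): an invertible module on a proper scheme over a
Noetherian adically complete ring whose restriction to the closed fibre is ample is ample (uniform vanishing on the levels,
the theorem on formal functions and the cohomological criterion of ampleness). -/

set_option autoImplicit false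
set_option linter.style.haveILetI false
set_option linter.unusedVariables false
set_option linter.unusedSectionVars false
universe u
open CategoryTheory CategoryTheory.Limits Opposite AlgebraicGeometry TopologicalSpace

namespace Groth.Agent.Lib.T2H9.Alg

open Groth.Agent.Lib.T2H2.AlgzB Groth.Agent.Lib.T2H9.GrAdic Groth.Agent.Lib.T2H9.Thick
  Groth.Agent.Lib.T2H9.FlatFib Groth.Agent.Lib.T2H9.FibQuot Groth.Agent.Lib.T2H5.Twist

section stageH

variable (A : Type u) [CommRing A] [IsNoetherianRing A] (J : Ideal A) [IsAdicComplete J A]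
  (Y : Scheme.{u}) [Y.Over (Spec (CommRingCat.of A))] [IsProper (Y ↘ Spec (CommRingCat.of A))]
  {Z : Scheme.{u}} (R₀ : Type u) [CommRing R₀] [IsNoetherianRing R₀]
  (j : Z ⟶ Y) [IsClosedImmersion j] (q : Z ⟶ Spec (CommRingCat.of R₀)) [IsProper q]
  (f : Spec (CommRingCat.of R₀) ⟶ Spec (CommRingCat.of A)) [IsClosedImmersion f]
  (hpb : IsPullback j q (Y ↘ Spec (CommRingCat.of A)) f) (hJ : RingHom.ker (φT f) = J)
  (M : Y.Modules) (hM : PicF.IsInvertible M) (L₀ : Z.Modules) (hL₀ : CohB1.IsAmple L₀)
  (eL : (Scheme.Modules.pullback j).obj M ≅ L₀)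

include hpb hJ hM hL₀ eL in
/-- **EGA III 4.7.1 over a complete base**: an invertible module on a proper scheme over a Noetherian adically complete
ring which is ample on the closed fibre is ample. -/
theorem isAmple_of_isAmple_closed_fibre : CohB1.IsAmple M := by
  rw [Groth.Agent.S0051.result A Y (Y ↘ Spec (CommRingCat.of A)) M hM]
  intro F hF
  haveI : IsLocallyNoetherian Z := LocallyOfFiniteType.isLocallyNoetherian q
  haveI : CompactSpace Z := QuasiCompact.compactSpace_of_compactSpace q
  haveI : IsNoetherian Z := {}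
  haveI : Z.IsSeparated := Groth.Agent.Lib.Helper23.SecTw.isSeparated_of_isAmple L₀ hL₀
  obtain ⟨D, hD⟩ := Groth.Agent.Lib.T2H4.AmpleAffine.exists_cohDim Z (fun V W hV hW => hV.inf hW)
  have hD' : ∀ (N : Z.Modules) [N.IsQuasicoherent] (n : ℕ), D ≤ n →
      Subsingleton (Coh.HH Z N n) := fun N _ n hn => hD N n hn
  have hSerre := (Groth.Agent.S0051.result R₀ Z q L₀ hL₀.1).1 hL₀
  obtain ⟨r, a, hspan⟩ := (Submodule.fg_iff_exists_fin_generating_family).1
    (IsNoetherian.noetherian J)
  obtain ⟨d₀, hd₀⟩ := uniform_vanishing_levels j q f hpb J hJ M hM L₀ hL₀.1 eL hSerre D hD' F hF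
    a hspan
  refine ⟨d₀, fun d hd p hp => ?_⟩
  let P : Y.Modules := CohB1.tensorPow M d
  have hP : PicF.IsInvertible P := Groth.Agent.Lib.Helper23.SecTw.isInvertible_tensorPow hM d
  haveI : (tr P).IsLeftAdjoint := Groth.Agent.Lib.Helper21.ModTensor3.tR_isLeftAdjoint Y.sheaf P
  have hcoh : Coh.IsCoh (CohB1.tensorMod F (CohB1.tensorPow M d)) :=
    Groth.Agent.Lib.T2H5.AmpleSerre.isCoh_tensor_tensorPow F M hF hM d
  obtain ⟨c2⟩ := nonempty_completion_comp_iso (tr P)
    (Groth.Agent.Lib.T2H9.FibLift.tr_map_smulMod Y P) J F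
  have hlev : ∀ n : ℕ, Subsingleton (Formal.HHmodPow J
      (CohB1.tensorMod F (CohB1.tensorPow M d)) p n) := by
    intro n
    have h1 := hd₀ d hd n p hp
    exact Groth.Agent.Lib.T2H5.PnStruct.subsingleton_HH_of_iso (c2.app (op n)) p h1
  haveI : Subsingleton (Formal.HHlim J (CohB1.tensorMod F (CohB1.tensorPow M d)) p) := by
    refine ⟨fun x z => Subtype.ext (funext fun n => ?_)⟩
    exact @Subsingleton.elim _ (hlev n) _ _
  have hbij := Groth.Agent.S0003.result A J Y (CohB1.tensorMod F (CohB1.tensorPow M d)) hcoh p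
  exact hbij.1.subsingleton

end stageH

end Groth.Agent.Lib.T2H9.Alg
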