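import Mathlib
import Groth.Agent.Lib.T2H9Alg2
import Groth.Agent.Lib.T2H6VAmpleC
import Groth.Agent.Lib.T2H2PPTrans
import Groth.Agent.S3573

/-! # Algebraization with an ample module, III: compatible morphisms to projective space (helper9)

`pullbackComp_pullSec`, `exists_compatible_mor` (compatible generating sections of invertible modules on a chain
`X_k → X_{k+1}` give compatible morphisms `X_k → P^N`, through S3573). -/

set_option autoImplicit false
set_option linter.style.haveILetI false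
set_option linter.unusedVariables false
set_option linter.unusedSectionVars false
universe u
open CategoryTheory CategoryTheory.Limits Opposite AlgebraicGeometry TopologicalSpace

namespace Groth.Agent.Lib.T2H9.Alg

open Groth.Agent.Lib.Helper23.SecTw Groth.Agent.Lib.Helper23.PB Groth.Agent.Lib.Helper6
  Groth.Agent.Lib.Helper23.GenLocus Groth.Agent.Lib.Helper23.Extend

section mor

/-- `pullSec` along a composite -/
theorem pullbackComp_pullSec {A B X : Scheme.{u}} (j : A ⟶ B) (p : B ⟶ X) (F : X.Modules)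
    (t : ProjUP.Γm F) :
    ((Scheme.Modules.pullbackComp j p).hom.app F).app ⊤
      (ProjUP.pullSec j ((Scheme.Modules.pullback p).obj F) (ProjUP.pullSec p F t)) =
      ProjUP.pullSec (j ≫ p) F t :=
  Groth.Agent.Lib.T2H2.PPTrans.pullbackComp_hom_pullSect j p F ⊤ t

variable (Xs : ℕ → Scheme.{u}) (i : ∀ k, Xs k ⟶ Xs (k + 1))
  (P : ∀ k, (Xs k).Modules) (hP : ∀ k, PicF.IsInvertible (P k))
  (ψ : ∀ k, (Scheme.Modules.pullback (i k)).obj (P (k + 1)) ≅ P k) (N : ℕ)
  (σ : ∀ k, Fin (N + 1) → ProjUP.Γm (P k))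
  (hσ : ∀ k j, (ψ k).hom.app ⊤ (ProjUP.pullSec (i k) (P (k + 1)) (σ (k + 1) j)) = σ k j)
  (hgen : ∀ k, ProjUP.GeneratedBy (P k) (σ k))

include hP hσ hgen in
/-- compatible generating sections on a chain give compatible morphisms to projective space -/
theorem exists_compatible_mor :
    ∃ r : ∀ k, Xs k ⟶ CohB1.ProjSpace N (ULift.{u} ℤ), (∀ k, r k = i k ≫ r (k + 1)) ∧
      ∀ k, ∃ τ : (Scheme.Modules.pullback (r k)).obj (Twist.twistProjSpace N (ULift.{u} ℤ) 1) ≅ P k,
        ∀ j, τ.hom.app ⊤ (ProjUP.pullSec (r k) (Twist.twistProjSpace N (ULift.{u} ℤ) 1)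
          (ProjUP.coord N (ULift.{u} ℤ) j)) = σ k j := by
  have h := fun k => Groth.Agent.Lib.T2H6.VAmpleC.exists_mor_Pn (R := ULift.{u} ℤ) N
    (specULiftZIsTerminal.from (Xs k)) (P k) (hP k) (σ k) (hgen k)
  choose r hr hchart τ hτ using h
  refine ⟨r, fun k => ?_, fun k => ⟨τ k, hτ k⟩⟩
  refine Groth.Agent.S3573.result N (r k) (i k ≫ r (k + 1)) (specULiftZIsTerminal.hom_ext _ _)
    (τ k ≪≫ (ψ k).symm ≪≫ (Scheme.Modules.pullback (i k)).mapIso (τ (k + 1)).symm ≪≫
      (Scheme.Modules.pullbackComp (i k) (r (k + 1))).app (Twist.twistProjSpace N (ULift.{u} ℤ) 1)) (fun j => ?_)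
  change ((Scheme.Modules.pullbackComp (i k) (r (k + 1))).hom.app (Twist.twistProjSpace N (ULift.{u} ℤ) 1)).app ⊤
    (((Scheme.Modules.pullback (i k)).map (τ (k + 1)).inv).app ⊤
      ((ψ k).inv.app ⊤ ((τ k).hom.app ⊤ (ProjUP.pullSec (r k) (Twist.twistProjSpace N (ULift.{u} ℤ) 1) (ProjUP.coord N (ULift.{u} ℤ) j))))) = _
  rw [hτ k j]
  have h1 : (ψ k).inv.app ⊤ (σ k j) = ProjUP.pullSec (i k) (P (k + 1)) (σ (k + 1) j) := by
    rw [← hσ k j]
    change ((ψ k).hom ≫ (ψ k).inv).app ⊤ _ = _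
    rw [(ψ k).hom_inv_id]
    rfl
  rw [h1, map_pullSec]
  have h2 : (τ (k + 1)).inv.app ⊤ (σ (k + 1) j) =
      ProjUP.pullSec (r (k + 1)) (Twist.twistProjSpace N (ULift.{u} ℤ) 1) (ProjUP.coord N (ULift.{u} ℤ) j) := by
    rw [← hτ (k + 1) j]
    change ((τ (k + 1)).hom ≫ (τ (k + 1)).inv).app ⊤ _ = _
    rw [(τ (k + 1)).hom_inv_id]
    rfl
  rw [h2]
  exact pullbackComp_pullSec (i k) (r (k + 1)) _ _

end mor

end Groth.Agent.Lib.T2H9.Alg
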