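import Mathlib
import Groth.Agent.Lib.T2H9Alg1
import Groth.Agent.Lib.T2H9Alg2
import Groth.Agent.Lib.T2H9Alg3
import Groth.Agent.Lib.T2H9Alg4
import Groth.Agent.Lib.T2H6VAmpleE
import Groth.Agent.S9705

/-! # Algebraization with an ample module, V: compatible closed immersions into `P^N_A` (helper9)

`pfst`, `projOverMap` (base change `P^N_{S'} → P^N_S`, a closed immersion if `S' → S` is), `jj_surjective`,
**`exists_compatible_closedImmersions`**: an adic chain `X_k` over `Spec (A/J^{k+1})` with `X_0` proper and compatible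
invertible modules `L_k`, `L_0` ample, admits compatible closed immersions `X_k → P^N_A` over `Spec A`. -/

set_option autoImplicit false
set_option linter.style.haveILetI false
set_option linter.unusedVariables false
set_option linter.unusedSectionVars false
universe u
open CategoryTheory CategoryTheory.Limits Opposite AlgebraicGeometry TopologicalSpace

namespace Groth.Agent.Lib.T2H9.Alg

open Groth.Agent.Lib.Helper23.SecTw Groth.Agent.Lib.Helper23.PB Groth.Agent.Lib.Helper6
  Groth.Agent.Lib.Helper23.GenLocus Groth.Agent.Lib.Helper23.Extend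
  Groth.Agent.Lib.T2H9.Thick Groth.Agent.Lib.T2H9.FlatFib Groth.Agent.Lib.T2H9.FibQuot

section base

variable {S S' : Scheme.{u}} (N : ℕ) (g : S' ⟶ S)

/-- the first projection `P^N_S ⟶ P^N_ℤ` -/
noncomputable abbrev pfst (N : ℕ) (S : Scheme.{u}) :
    CohB1.ProjSpaceOver N S ⟶ CohB1.ProjSpace N (ULift.{u} ℤ) :=
  pullback.fst (CohB1.ProjSpace.toSpec N (ULift.{u} ℤ)) (specULiftZIsTerminal.from S)

/-- the base change morphism `P^N_{S'} ⟶ P^N_S` -/
noncomputable def projOverMap : CohB1.ProjSpaceOver N S' ⟶ CohB1.ProjSpaceOver N S :=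
  pullback.lift (pfst N S') (CohB1.ProjSpaceOver.toBase N S' ≫ g)
    (specULiftZIsTerminal.hom_ext _ _)

theorem projOverMap_fst : projOverMap N g ≫ pfst N S = pfst N S' :=
  pullback.lift_fst _ _ _

theorem projOverMap_snd :
    projOverMap N g ≫ CohB1.ProjSpaceOver.toBase N S = CohB1.ProjSpaceOver.toBase N S' ≫ g :=
  pullback.lift_snd _ _ _

theorem isPullback_projOverMap :
    IsPullback (projOverMap N g) (CohB1.ProjSpaceOver.toBase N S') (CohB1.ProjSpaceOver.toBase N S) g := by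
  refine IsPullback.of_right ?_ (projOverMap_snd N g)
    (IsPullback.of_hasPullback (CohB1.ProjSpace.toSpec N (ULift.{u} ℤ)) (specULiftZIsTerminal.from S))
  have h1 : projOverMap N g ≫ pullback.fst (CohB1.ProjSpace.toSpec N (ULift.{u} ℤ))
      (specULiftZIsTerminal.from S) = pfst N S' := projOverMap_fst N g
  rw [h1]
  have h : g ≫ specULiftZIsTerminal.from S = specULiftZIsTerminal.from S' :=
    specULiftZIsTerminal.hom_ext _ _
  rw [h]
  exact IsPullback.of_hasPullback _ _

instance [IsClosedImmersion g] : IsClosedImmersion (projOverMap N g) :=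
  MorphismProperty.of_isPullback (P := @IsClosedImmersion) (isPullback_projOverMap N g).flip
    inferInstance

end base

section chainEmb

variable {A : Type u} [CommRing A] [IsNoetherianRing A] (J : Ideal A)
  (Xs : ℕ → Scheme.{u}) [∀ k, (Xs k).Over (Spec (CommRingCat.of A))]
  (p : ∀ k, Xs k ⟶ Spec (CommRingCat.of (A ⧸ J ^ (k + 1))))
  (hs : ∀ k, Xs k ↘ Spec (CommRingCat.of A) = p k ≫ CohB1.specQuot J k)
  (i : ∀ k, Xs k ⟶ Xs (k + 1))
  (hcart : ∀ k, IsPullback (i k) (p k) (p (k + 1)) (CohB1.specQuotTrans J k))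

include hcart in
theorem jj_surjective (k : ℕ) : Function.Surjective (jj Xs i k) := by
  induction k with
  | zero => exact fun x => ⟨x, rfl⟩
  | succ k ih =>
    intro y
    obtain ⟨x, rfl⟩ := chain_surjective J Xs p i hcart k y
    obtain ⟨z, rfl⟩ := ih x
    exact ⟨z, rfl⟩

include hs hcart in
/-- **compatible closed immersions of a chain of thickenings into a projective space over `A`** -/
theorem exists_compatible_closedImmersions [IsProper (p 0)] (L : ∀ k, (Xs k).Modules)
    (hL : ∀ k, PicF.IsInvertible (L k))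
    (φ : ∀ k, Nonempty ((Scheme.Modules.pullback (i k)).obj (L (k + 1)) ≅ L k))
    (ha : CohB1.IsAmple (L 0)) :
    ∃ (N : ℕ) (r : ∀ k, Xs k ⟶ CohB1.ProjSpaceOver N (Spec (CommRingCat.of A))),
      (∀ k, IsClosedImmersion (r k)) ∧
      (∀ k, r k ≫ CohB1.ProjSpaceOver.toBase N (Spec (CommRingCat.of A)) =
        Xs k ↘ Spec (CommRingCat.of A)) ∧
      ∀ k, r k = i k ≫ r (k + 1) := by
  obtain ⟨n₀, hn₀⟩ := exists_lift_section_chain J Xs p hs i hcart L hL φ ha
  obtain ⟨n₁, hn₁⟩ := Groth.Agent.Lib.T2H6.VAmpleE.eventually_veryAmple_pow (p 0) (L 0) ha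
  set d := max n₀ n₁ with hd
  -- the system of powers
  let P : ∀ k, (Xs k).Modules := fun k => CohB1.tensorPow (L k) d
  have hP : ∀ k, PicF.IsInvertible (P k) := fun k => isInvertible_tensorPow (hL k) d
  let ψ : ∀ k, (Scheme.Modules.pullback (i k)).obj (P (k + 1)) ≅ P k := fun k =>
    (nonempty_pullback_tensorPow_iso (i k) (L (k + 1)) (hL (k + 1)) d).some ≪≫
      Groth.Agent.Lib.Helper23.AmpleIso.tensorPowIso (φ k).some d
  have hlift : ∀ k, ∀ u : ProjUP.Γm ((Scheme.Modules.pullback (i k)).obj (P (k + 1))),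
      ∃ s : ProjUP.Γm (P (k + 1)), ProjUP.pullSec (i k) (P (k + 1)) s = u :=
    fun k u => hn₀ d (le_max_left _ _) k u
  -- level zero
  obtain ⟨N, ι, himm, hsnd, ⟨ε⟩⟩ := hn₁ d (le_max_right _ _)
  let r₁ : Xs 0 ⟶ CohB1.ProjSpace N (ULift.{u} ℤ) :=
    ι ≫ pfst N (Spec (CommRingCat.of (A ⧸ J ^ (0 + 1))))
  let Φ₁ : (Scheme.Modules.pullback r₁).obj (Twist.twistProjSpace N (ULift.{u} ℤ) 1) ≅ P 0 :=
    ((Scheme.Modules.pullbackComp ι (pfst N (Spec (CommRingCat.of (A ⧸ J ^ (0 + 1)))))).app _).symm ≪≫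
      ε.symm
  let t : Fin (N + 1) → ProjUP.Γm (P 0) := fun j =>
    Φ₁.hom.app ⊤ (ProjUP.pullSec r₁ (Twist.twistProjSpace N (ULift.{u} ℤ) 1)
      (ProjUP.coord N (ULift.{u} ℤ) j))
  obtain ⟨hgt, -⟩ := Groth.Agent.Lib.T2H6.VAmpleC.chart_data_of_iso N r₁ (P 0) (hP 0) Φ₁ t
    (fun _ => rfl)
  -- the compatible sections
  let σ : ∀ k, Fin (N + 1) → ProjUP.Γm (P k) := fun k j => liftFam Xs i P ψ hlift (t j) k
  have hσ : ∀ k j, (ψ k).hom.app ⊤ (ProjUP.pullSec (i k) (P (k + 1)) (σ (k + 1) j)) = σ k j :=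
    fun k j => liftFam_succ Xs i P ψ hlift (t j) k
  have hgen : ∀ k, ProjUP.GeneratedBy (P k) (σ k) := by
    intro k
    induction k with
    | zero => exact hgt
    | succ k ih =>
      exact generatedBy_of_compat (i k) (chain_surjective J Xs p i hcart k) (P (k + 1)) (hP (k + 1))
        (P k) (hP k) (ψ k) (σ (k + 1)) (σ k) (hσ k) ih
  obtain ⟨r, hrc, hτ⟩ := exists_compatible_mor Xs i P hP ψ N σ hσ hgen
  -- `r 0 = r₁`
  have hr0 : r 0 = r₁ := by
    obtain ⟨τ, hτ0⟩ := hτ 0
    refine Groth.Agent.S3573.result N (r 0) r₁ (specULiftZIsTerminal.hom_ext _ _) (τ ≪≫ Φ₁.symm)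
      (fun j => ?_)
    change Φ₁.inv.app ⊤ (τ.hom.app ⊤ _) = _
    rw [hτ0 j]
    change Φ₁.inv.app ⊤ (Φ₁.hom.app ⊤ _) = _
    change (Φ₁.hom ≫ Φ₁.inv).app ⊤ _ = _
    rw [Φ₁.hom_inv_id]
    rfl
  -- the morphisms to `P^N_A`
  let rt : ∀ k, Xs k ⟶ CohB1.ProjSpaceOver N (Spec (CommRingCat.of A)) := fun k =>
    pullback.lift (r k) (Xs k ↘ Spec (CommRingCat.of A)) (specULiftZIsTerminal.hom_ext _ _)
  have hrt1 : ∀ k, rt k ≫ pfst N (Spec (CommRingCat.of A)) = r k := fun k => pullback.lift_fst _ _ _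
  have hrt2 : ∀ k, rt k ≫ CohB1.ProjSpaceOver.toBase N (Spec (CommRingCat.of A)) =
      Xs k ↘ Spec (CommRingCat.of A) := fun k => pullback.lift_snd _ _ _
  have hrtc : ∀ k, rt k = i k ≫ rt (k + 1) := by
    intro k
    apply pullback.hom_ext
    · have h1 : rt k ≫ pullback.fst _ _ = r k := hrt1 k
      have h2 : (i k ≫ rt (k + 1)) ≫ pullback.fst _ _ = i k ≫ r (k + 1) := by
        rw [Category.assoc]
        exact congrArg (fun t => i k ≫ t) (hrt1 (k + 1))
      exact h1.trans ((hrc k).trans h2.symm)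
    · have h1 : rt k ≫ pullback.snd _ _ = Xs k ↘ Spec (CommRingCat.of A) := hrt2 k
      have h2 : (i k ≫ rt (k + 1)) ≫ pullback.snd _ _ =
          i k ≫ (Xs (k + 1) ↘ Spec (CommRingCat.of A)) := by
        rw [Category.assoc]
        exact congrArg (fun t => i k ≫ t) (hrt2 (k + 1))
      exact h1.trans ((chain_hi J Xs p hs i hcart k).symm.trans h2.symm)
  have hjj : ∀ k, jj Xs i k ≫ rt k = rt 0 := by
    intro k
    induction k with
    | zero => exact Category.id_comp _
    | succ k ih =>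
      change (jj Xs i k ≫ i k) ≫ rt (k + 1) = _
      rw [Category.assoc, ← hrtc k, ih]
  -- level zero is a closed immersion
  have h0 : IsClosedImmersion (rt 0) := by
    have hfac : rt 0 = ι ≫ projOverMap N (CohB1.specQuot J 0) := by
      apply pullback.hom_ext
      · have h1 : rt 0 ≫ pullback.fst _ _ = r 0 := hrt1 0
        have h2 : (ι ≫ projOverMap N (CohB1.specQuot J 0)) ≫ pullback.fst _ _ = r₁ := by
          rw [Category.assoc]
          exact congrArg (fun t => ι ≫ t) (projOverMap_fst N (CohB1.specQuot J 0))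
        exact h1.trans (hr0.trans h2.symm)
      · have h1 : rt 0 ≫ pullback.snd _ _ = Xs 0 ↘ Spec (CommRingCat.of A) := hrt2 0
        have h2 : (ι ≫ projOverMap N (CohB1.specQuot J 0)) ≫ pullback.snd _ _ =
            p 0 ≫ CohB1.specQuot J 0 := by
          rw [Category.assoc]
          have := projOverMap_snd N (CohB1.specQuot J 0)
          refine (congrArg (fun t => ι ≫ t) this).trans ?_
          rw [← Category.assoc]
          exact congrArg (fun t => t ≫ CohB1.specQuot J 0) hsnd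
        exact h1.trans ((hs 0).trans h2.symm)
    haveI := himm
    haveI : IsProper (ι ≫ CohB1.ProjSpaceOver.toBase N (Spec (CommRingCat.of (A ⧸ J ^ (0 + 1))))) := by
      have : ι ≫ CohB1.ProjSpaceOver.toBase N (Spec (CommRingCat.of (A ⧸ J ^ (0 + 1)))) = p 0 := hsnd
      rw [this]
      infer_instance
    haveI := Groth.Agent.S9705.isProper_toBase N (Spec (CommRingCat.of (A ⧸ J ^ (0 + 1))))
    haveI : IsProper ι :=
      IsProper.of_comp ι (CohB1.ProjSpaceOver.toBase N (Spec (CommRingCat.of (A ⧸ J ^ (0 + 1)))))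
    haveI : IsClosedImmersion ι :=
      IsClosedImmersion.iff_isPreimmersion.2 ⟨inferInstance, ι.isClosedMap.isClosed_range⟩
    rw [hfac]
    infer_instance
  refine ⟨N, rt, fun k => ?_, hrt2, hrtc⟩
  haveI : IsClosedImmersion (jj Xs i k ≫ rt k) := by rw [hjj k]; exact h0
  haveI := chain_isClosedImmersion J Xs p hs i hcart k
  have hkill : Formal.KilledBy (J ^ (k + 1)) (Coh.structureModule (Xs k)) :=
    killedBy_of_isPullback (Xs (k + 1)) (i k) (p k) (CohB1.specQuot J k)
      (chain_hpbA J Xs p hs i hcart k) (J ^ (k + 1)) (ker_φT_specQuot J k)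
      (chain_hi J Xs p hs i hcart k) _
  have hJ : RingHom.ker (φT (CohB1.specQuot J 0)) = J := by
    rw [ker_φT_specQuot, zero_add, pow_one]
  exact isClosedImmersion_of_thickening J (k + 1) (jj Xs i k) (p 0) (CohB1.specQuot J 0) hJ
    (chain_hpbJ J Xs p hs i hcart k) (jj_surjective J Xs p i hcart k) hkill (rt k)
    (CohB1.ProjSpaceOver.toBase N (Spec (CommRingCat.of A))) (hrt2 k)

end chainEmb

end Groth.Agent.Lib.T2H9.Alg
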