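import Mathlib
import Groth.Agent.Lib.T2H9Alg5
import Groth.Agent.Lib.T2H9Alg9
import Groth.Agent.Lib.T2H9Alg10
import Groth.Agent.Lib.T2H6VAmpleF
import Groth.Agent.S9705

/-! # Algebraization with an ample module, XI: Grothendieck's algebraization theorem (helper9)

`algebraization`: an adic chain of schemes `Xs n` over `Spec (A/I^(n+1))`, `A` Noetherian `I`-adically complete, with `Xs 0`
proper and a compatible system of invertible modules with `L 0` ample, is induced by a proper `A`-scheme with an ample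
invertible module. -/

set_option autoImplicit false
set_option linter.style.haveILetI false
set_option linter.unusedVariables false
set_option linter.unusedSectionVars false
universe u
open CategoryTheory CategoryTheory.Limits Opposite AlgebraicGeometry TopologicalSpace

namespace Groth.Agent.Lib.T2H9.Alg

open Groth.Agent.Lib.T2H2.AlgzB Groth.Agent.Lib.T2H9.GrAdic Groth.Agent.Lib.T2H9.Thick
  Groth.Agent.Lib.T2H9.FlatFib Groth.Agent.Lib.T2H9.FibQuot Groth.Agent.Lib.T2H5

section main

/-- **Grothendieck's algebraization theorem** for an adic chain with an ample invertible module. -/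
theorem algebraization (A : Type u) [CommRing A]
    [IsNoetherianRing A] (I : Ideal A) [IsAdicComplete I A]
    (Xs : ℕ → Scheme.{u}) (p : (n : ℕ) → (Xs n ⟶ Spec (CommRingCat.of (A ⧸ I ^ (n + 1)))))
    (i : (n : ℕ) → (Xs n ⟶ Xs (n + 1)))
    (hcart : ∀ n, IsPullback (i n) (p n) (p (n + 1)) (CohB1.specQuotTrans I n)) (hp : IsProper (p 0))
    (L : (n : ℕ) → (Xs n).Modules) (hL : ∀ n, PicF.IsInvertible (L n))
    (φ : ∀ n, Nonempty ((Scheme.Modules.pullback (i n)).obj (L (n + 1)) ≅ L n)) (ha : CohB1.IsAmple (L 0)) :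
    ∃ (Y : Scheme.{u}) (g : Y ⟶ Spec (CommRingCat.of A)) (M : Y.Modules) (e : (n : ℕ) → (Xs n ⟶ Y)),
      IsProper g ∧ PicF.IsInvertible M ∧ CohB1.IsAmple M ∧
      (∀ n, IsPullback (e n) (p n) g (CohB1.specQuot I n)) ∧ (∀ n, e n = i n ≫ e (n + 1)) ∧
      ∀ n, Nonempty ((Scheme.Modules.pullback (e n)).obj M ≅ L n) := by
  letI inst : ∀ k, (Xs k).Over (Spec (CommRingCat.of A)) :=
    fun k => ⟨p k ≫ CohB1.specQuot I k⟩
  have hs : ∀ k, Xs k ↘ Spec (CommRingCat.of A) = p k ≫ CohB1.specQuot I k := fun k => rfl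
  haveI := hp
  obtain ⟨N, r, hrcl, hrt, hrc⟩ := exists_compatible_closedImmersions I Xs p hs i hcart L hL φ ha
  haveI := hrcl
  -- the projective space
  haveI hPprop : IsProper (CohB1.ProjSpaceOver N (Spec (CommRingCat.of A)) ↘ Spec (CommRingCat.of A)) :=
    Groth.Agent.S9705.isProper_toBase N (Spec (CommRingCat.of A))
  have h1 : CohB1.IsAmple (Twist.twistProjSpace N (ULift.{u} ℤ) 1) := by
    have := Groth.Agent.Lib.T2H5.AmplePn.isAmple_twist_of_pos N (ULift.{u} ℤ) 1 Nat.one_pos
    simpa using this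
  haveI : IsAffineHom (specULiftZIsTerminal.from (Spec (CommRingCat.of A))) :=
    isAffineHom_of_isAffine _
  haveI : IsAffineHom (pullback.fst (CohB1.ProjSpace.toSpec N (ULift.{u} ℤ))
      (specULiftZIsTerminal.from (Spec (CommRingCat.of A)))) :=
    MorphismProperty.pullback_fst _ _ inferInstance
  have hLP : CohB1.IsAmple (Twist.twistOver N (Spec (CommRingCat.of A)) 1) :=
    Groth.Agent.Lib.Helper23.PB.isAmple_pullback_of_isAffineHom
      (pullback.fst (CohB1.ProjSpace.toSpec N (ULift.{u} ℤ))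
        (specULiftZIsTerminal.from (Spec (CommRingCat.of A)))) _ h1
  -- the limit scheme
  obtain ⟨Y, ιY, hιY, e, he, hpbY⟩ := exists_limit_scheme A I
    (CohB1.ProjSpaceOver N (Spec (CommRingCat.of A))) _ hLP Xs p hs i hcart r hrt hrc
  haveI := hιY
  letI instY : Y.Over (Spec (CommRingCat.of A)) :=
    ⟨ιY ≫ (CohB1.ProjSpaceOver N (Spec (CommRingCat.of A)) ↘ Spec (CommRingCat.of A))⟩
  haveI hYprop : IsProper (Y ↘ Spec (CommRingCat.of A)) := by
    change IsProper (ιY ≫ _)
    infer_instance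
  have hLY : CohB1.IsAmple ((Scheme.Modules.pullback ιY).obj
      (Twist.twistOver N (Spec (CommRingCat.of A)) 1)) :=
    Groth.Agent.Lib.Helper23.PB.isAmple_pullback_of_isAffineHom ιY _ hLP
  have hecl : ∀ k, IsClosedImmersion (e k) := fun k => by
    haveI : IsClosedImmersion (e k ≫ ιY) := by rw [he k]; infer_instance
    exact IsClosedImmersion.of_comp_isClosedImmersion (e k) ιY
  haveI := hecl
  have het : ∀ k, e k ≫ (Y ↘ Spec (CommRingCat.of A)) = Xs k ↘ Spec (CommRingCat.of A) := by
    intro k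
    change e k ≫ ιY ≫ _ = _
    rw [← Category.assoc, he k]
    exact hrt k
  have hec : ∀ k, e k = i k ≫ e (k + 1) := by
    intro k
    rw [← cancel_mono ιY, Category.assoc, he k, he (k + 1)]
    exact hrc k
  -- the module
  obtain ⟨M, hMcoh, hMiso⟩ := exists_module_of_chain A I Y _ hLY Xs p hs i hcart e het hec hpbY L hL φ
  have hMinv : PicF.IsInvertible M := isInvertible_of_chain A I Y Xs p e hpbY M hMcoh
    (fun k => Groth.Agent.Lib.Helper23.AmpleIso.isInvertible_of_iso (hMiso k).some.symm (hL k))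
  have hJ0 : RingHom.ker (φT (CohB1.specQuot I 0)) = I := by
    rw [ker_φT_specQuot, zero_add, pow_one]
  have hMample : CohB1.IsAmple M :=
    isAmple_of_isAmple_closed_fibre A I Y (A ⧸ I ^ (0 + 1)) (e 0) (p 0) (CohB1.specQuot I 0) (hpbY 0) hJ0
      M hMinv (L 0) ha (hMiso 0).some
  exact ⟨Y, Y ↘ Spec (CommRingCat.of A), M, e, hYprop, hMinv, hMample, hpbY, hec, hMiso⟩

end main

end Groth.Agent.Lib.T2H9.Alg
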