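import Groth.Agent.Lib.T2H9RegComp
import Groth.Prelude.Def_AlgSpMor6

set_option autoImplicit false
set_option linter.style.haveILetI false
set_option linter.unusedSectionVars false
universe u
open CategoryTheory AlgebraicGeometry Limits

namespace Groth.Agent.Lib.T2H9.AlgSpReg

open AlgSp

variable {S : Scheme.{u}}

/-- composition of regular immersions of algebraic spaces, given the scheme-level statement -/
theorem isRegImmMor_comp (kf kg kr : RegImm.Kind)
    (C : ∀ {X Y Z : Scheme.{u}} (i : Y ⟶ X) (j : Z ⟶ Y), RegImm.IsRegularImmersion kf i →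
      RegImm.IsRegularImmersion kg j → RegImm.IsRegularImmersion kr (j ≫ i))
    {F G H : Sp S} (a : F ⟶ G) (b : G ⟶ H) (ha : IsRegImmMor kg a) (hb : IsRegImmMor kf b) :
    IsRegImmMor kr (a ≫ b) := by
  refine ⟨MorphismProperty.comp_mem _ _ _ ha.1 hb.1, ?_⟩
  intro V W c fst snd hc sq
  have sqb := hb.1.isPullback c
  have hRb : RegImm.IsRegularImmersion kf (hb.1.snd c).left := hb.2 c _ _ hc sqb
  have hEt : RepWith @Etale (hb.1.fst c) := MorphismProperty.of_isPullback sqb.flip hc
  have sqa := ha.1.isPullback (hb.1.fst c)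
  have hRa : RegImm.IsRegularImmersion kg (ha.1.snd (hb.1.fst c)).left :=
    ha.2 _ _ _ hEt sqa
  have big := sqa.paste_vert sqb
  let e := sq.isoIsPullback _ _ big
  have he2 : e.hom ≫ ((yon S).map (ha.1.snd (hb.1.fst c)) ≫ (yon S).map (hb.1.snd c)) =
      (yon S).map snd := sq.isoIsPullback_hom_snd _ _ big
  obtain ⟨ε, hε⟩ := (yon S).map_surjective e.hom
  haveI : IsIso ((yon S).map ε) := by rw [hε]; infer_instance
  haveI : IsIso ε := isIso_of_fully_faithful (yon S) ε
  have h3 : ε ≫ ha.1.snd (hb.1.fst c) ≫ hb.1.snd c = snd := by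
    apply (yon S).map_injective
    rw [Functor.map_comp, Functor.map_comp, hε, he2]
  have h4 : snd.left = ε.left ≫ (ha.1.snd (hb.1.fst c)).left ≫ (hb.1.snd c).left := by
    rw [← h3]
    rfl
  rw [h4]
  haveI : IsIso ε.left := (inferInstance : IsIso ((Over.forget S).map ε))
  exact Groth.Agent.Lib.T2H9.RegComp.isRegularImmersion_iso_comp kr ε.left _ (C _ _ hRb hRa)

end Groth.Agent.Lib.T2H9.AlgSpReg
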