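import Groth.Agent.Lib.T2H9AlgSpReg
import Groth.Agent.Lib.Helper12NoethDescent
import Groth.Agent.S5003
import Groth.Agent.S8905

set_option autoImplicit false
set_option linter.style.haveILetI false
set_option linter.unusedSectionVars false
universe u
open CategoryTheory AlgebraicGeometry Limits

namespace Groth.Agent.Lib.T2H9.AlgSpReg2

open AlgSp

variable {S : Scheme.{u}}

/-- an étale chart of a locally Noetherian sheaf is locally Noetherian -/
theorem isLocallyNoetherian_of_etale_chart {F : Sp S} (hF : IsLocNoethSp F) {V : Over S}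
    (b : (yon S).obj V ⟶ F) (hb : RepWith @Etale b) : IsLocallyNoetherian V.left := by
  obtain ⟨U, p, hpe, hps, hU⟩ := hF
  have sq := hpe.1.isPullback b
  haveI : Etale (hpe.1.snd b).left := hpe.2 _ _ _ sq
  haveI : Surjective (hpe.1.snd b).left := hps.2 _ _ _ sq
  have h1 : RepWith @Etale (hpe.1.fst b) := MorphismProperty.of_isPullback sq.flip hb
  obtain ⟨q, hq⟩ := (yon S).map_surjective (hpe.1.fst b)
  rw [← hq, repWith_yon_map_iff] at h1
  haveI : Etale q.left := h1
  haveI : IsLocallyNoetherian U.left := hU
  haveI : IsLocallyNoetherian (hpe.1.pullback b).left :=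
    LocallyOfFiniteType.isLocallyNoetherian q.left
  exact Groth.Agent.Lib.Helper12.NoethDescent.isLocallyNoetherian_of_flat_lfp_surjective
    (hpe.1.snd b).left

theorem isRegImmMor_koszul_of_quasi {F G : Sp S} (f : F ⟶ G) (hG : IsLocNoethSp G)
    (h : IsRegImmMor .quasi f) : IsRegImmMor .koszul f := by
  refine ⟨h.1, fun V W b fst snd hb sq => ?_⟩
  haveI := isLocallyNoetherian_of_etale_chart hG b hb
  have h1 : RegImm.IsRegularImmersion .quasi snd.left := h.2 b fst snd hb sq
  exact (Groth.Agent.S8905.result snd.left).1 ((Groth.Agent.S5003.result snd.left).2 h1)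

end Groth.Agent.Lib.T2H9.AlgSpReg2
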