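import Groth.Agent.Lib.Helper1TorD
import Groth.Prelude.Def_ega3

/-!
# T2H9UnivQis (helper9): universally exact tails and tensoring quasi-isomorphisms

For an acyclic complex `K` of flat modules which stays exact in high degrees after tensoring with
every `R ⧸ I`, all boundaries are flat (`flat_range_d_of_acyclic`) and `K ⊗ M` is acyclic for every
`M` (`exactAt_TC_of_acyclic`); no boundedness is needed.  Consequence
(`quasiIso_tensorRight_map`): a quasi-isomorphism `L → C` of termwise flat complexes, with `L`
bounded above by `r` and `H^j(C ⊗ N) = 0` for all `j > r` and all `N`, stays a quasi-isomorphism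
after tensoring with any module.  Uses helper1's `Tor` library.
-/

set_option autoImplicit false
set_option linter.style.haveILetI false
universe u
open CategoryTheory CategoryTheory.Limits MonoidalCategory
attribute [local instance] HasDerivedCategory.standard

namespace Groth.Agent.Lib.T2H9.UnivQis

open Groth.Agent.Lib.Helper1.Tor DerivedCategory Pretriangulated

variable {R : Type u} [CommRing R]

/-- for an acyclic complex of flat modules which stays exact in high degrees after tensoring with
the quotients `R ⧸ I`, all images of the differentials are flat. -/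
theorem flat_range_d_of_acyclic (K : DRing.Cx R) (hflat : DRing.TermwiseFlat K)
    (hex : ∀ j : ℤ, K.ExactAt j) (n : ℤ)
    (hT : ∀ (I : Ideal R) (j : ℤ), n < j → ((TC (ModuleCat.of R (R ⧸ I))).obj K).ExactAt j)
    (i : ℤ) : Module.Flat R (LinearMap.range (K.d i (i + 1)).hom) := by
  have hA : ∀ i : ℤ, n + 2 ≤ i → Module.Flat R (LinearMap.range (K.d i (i + 1)).hom) := by
    intro i hi
    have := hflat i
    refine flat_of_forall_exact_lTensor (K.d (i - 1 - 1) (i - 1)).hom (K.d (i - 1) i).hom
      (K.d i (i + 1)).hom.rangeRestrict (LinearMap.surjective_rangeRestrict _) ?_ ?_ ?_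
    · have h1 := (exactAt_iff_fexact K (i - 1) i (i + 1) (by lia) rfl).1 (hex i)
      intro z
      rw [← h1 z]
      constructor
      · intro hz
        exact congrArg Subtype.val hz
      · intro hz
        exact Subtype.ext hz
    · exact (exactAt_iff_fexact K (i - 1 - 1) (i - 1) i (by lia) (by lia)).1 (hex (i - 1))
    · intro I
      have h1 := hT I (i - 1) (by lia)
      rw [exactAt_TC_iff _ K (i - 1 - 1) (i - 1) i (by lia) (by lia)] at h1
      exact h1
  have key : ∀ (k : ℕ) (i : ℤ), n + 2 ≤ i + k →
      Module.Flat R (LinearMap.range (K.d i (i + 1)).hom) := by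
    intro k
    induction k with
    | zero =>
      intro i hi
      exact hA i (by simpa using hi)
    | succ k ih =>
      intro i hi
      have h1 : Module.Flat R (LinearMap.range (K.d (i + 1) (i + 1 + 1)).hom) :=
        ih (i + 1) (by push_cast at hi; lia)
      have h2 := (exactAt_iff_fexact K i (i + 1) (i + 1 + 1) rfl rfl).1 (hex (i + 1))
      have := hflat (i + 1)
      exact flat_range_of_exact _ _ h2
  exact key (n + 2 - i).toNat i (by have := Int.self_le_toNat (n + 2 - i); lia)

/-- such a complex stays acyclic after tensoring with any module -/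
theorem exactAt_TC_of_acyclic (K : DRing.Cx R) (hflat : DRing.TermwiseFlat K)
    (hex : ∀ j : ℤ, K.ExactAt j) (n : ℤ)
    (hT : ∀ (I : Ideal R) (j : ℤ), n < j → ((TC (ModuleCat.of R (R ⧸ I))).obj K).ExactAt j)
    (M : ModuleCat.{u} R) (j : ℤ) : ((TC M).obj K).ExactAt j := by
  rw [exactAt_TC_iff M K (j - 1) j (j + 1) (by lia) rfl]
  have h1 := (exactAt_iff_fexact K (j - 1) j (j + 1) (by lia) rfl).1 (hex j)
  have h2 := (exactAt_iff_fexact K j (j + 1) (j + 1 + 1) rfl rfl).1 (hex (j + 1))
  have := flat_range_d_of_acyclic K hflat hex n hT (j + 1)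
  exact exact_lTensor_of_flat_range _ _ _ h1 h2 M

/-- tensoring the mapping cone of a quasi-isomorphism `L → C` (`L` bounded above, both termwise
flat, `C ⊗ N` exact above the bound for every `N`) stays exact in high degrees -/
theorem exactAt_TC_mappingCone {L C : DRing.Cx R} (φ : L ⟶ C) (r : ℤ)
    (hLb : DRing.VanishesAbove L r)
    (hCT : ∀ (N : ModuleCat.{u} R) (j : ℤ), r < j → ((TC N).obj C).ExactAt j)
    (N : ModuleCat.{u} R) (j : ℤ) (hj : r < j) :
    ((TC N).obj (CochainComplex.mappingCone φ)).ExactAt j := by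
  have e := CochainComplex.mappingCone.mapHomologicalComplexIso φ (T N)
  have hT' := DerivedCategory.mappingCone_triangle_distinguished ((TC N).map φ)
  have h3 := DerivedCategory.HomologySequence.exact₃ _ hT' j (j + 1) rfl
  have hz2 : IsZero ((homologyFunctor (ModuleCat.{u} R) j).obj (Q.obj ((TC N).obj C))) :=
    (exactAt_iff_isZero_H _ j).1 (hCT N j hj)
  have hz1 : IsZero ((homologyFunctor (ModuleCat.{u} R) (j + 1)).obj (Q.obj ((TC N).obj L))) := by
    rw [← exactAt_iff_isZero_H]
    apply exactAt_of_isZero_X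
    exact (T N).map_isZero (hLb (j + 1) (by lia))
  have hz3 : IsZero ((homologyFunctor (ModuleCat.{u} R) j).obj
      (Q.obj (CochainComplex.mappingCone ((TC N).map φ)))) :=
    h3.isZero_of_both_zeros (hz2.eq_of_src _ _) (hz1.eq_of_tgt _ _)
  rw [exactAt_iff_isZero_H]
  exact hz3.of_iso ((homologyFunctor (ModuleCat.{u} R) j).mapIso (Q.mapIso e))

/-- a quasi-isomorphism `L → C` of termwise flat complexes, with `L` bounded above and `C ⊗ N`
exact above the bound for all `N`, stays a quasi-isomorphism after tensoring. -/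
theorem isIso_Q_map_TC_of_tensorVanishing {L C : DRing.Cx R} (φ : L ⟶ C) (r : ℤ)
    (hLb : DRing.VanishesAbove L r) (hL : DRing.TermwiseFlat L) (hC : DRing.TermwiseFlat C)
    (hφ : IsIso (Q.map φ))
    (hCT : ∀ (N : ModuleCat.{u} R) (j : ℤ), r < j → ((TC N).obj C).ExactAt j)
    (M : ModuleCat.{u} R) : IsIso (Q.map ((TC M).map φ)) := by
  have hT := DerivedCategory.mappingCone_triangle_distinguished φ
  have hz : IsZero (Q.obj (CochainComplex.mappingCone φ)) :=
    (Triangle.isZero₃_iff_isIso₁ _ hT).2 hφ
  have hex : ∀ j : ℤ, (CochainComplex.mappingCone φ).ExactAt j := exactAt_of_isZero_Q _ hz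
  have hex' : ∀ j : ℤ, ((TC M).obj (CochainComplex.mappingCone φ)).ExactAt j := fun j =>
    exactAt_TC_of_acyclic _ (termwiseFlat_mappingCone φ hL hC) hex r
      (fun I j hj => exactAt_TC_mappingCone φ r hLb hCT _ j hj) M j
  have hz' : IsZero (Q.obj ((TC M).obj (CochainComplex.mappingCone φ))) := isZero_Q_of_exactAt _ hex'
  have e := CochainComplex.mappingCone.mapHomologicalComplexIso φ (T M)
  have hz'' : IsZero (Q.obj (CochainComplex.mappingCone ((TC M).map φ))) :=
    hz'.of_iso (Q.mapIso e).symm
  have hT' := DerivedCategory.mappingCone_triangle_distinguished ((TC M).map φ)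
  exact (Triangle.isZero₃_iff_isIso₁ _ hT').1 hz''

/-- the `tensorRight` form -/
theorem quasiIso_tensorRight_map (L C : CochainComplex (ModuleCat.{u} R) ℤ) (φ : L ⟶ C)
    [QuasiIso φ] (r : ℤ) (hLb : ∀ i : ℤ, r < i → IsZero (L.X i))
    (hL : ∀ i, Module.Flat R (L.X i)) (hC : ∀ i, Module.Flat R (C.X i))
    (hCM : ∀ (N : ModuleCat.{u} R) (j : ℤ), r < j → IsZero ((CohIII.tensorObj C N).homology j))
    (M : ModuleCat.{u} R) :
    QuasiIso (((tensorRight M).mapHomologicalComplex (ComplexShape.up ℤ)).map φ) := by
  have hφ : IsIso (Q.map φ) := (DerivedCategory.isIso_Q_map_iff_quasiIso _ φ).2 inferInstance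
  have hCT : ∀ (N : ModuleCat.{u} R) (j : ℤ), r < j → ((TC N).obj C).ExactAt j := by
    intro N j hj
    let e : tensorLeft N ≅ tensorRight N := BraidedCategory.tensorLeftIsoTensorRight N
    let E := NatIso.mapHomologicalComplex e (ComplexShape.up ℤ)
    rw [HomologicalComplex.exactAt_iff_isZero_homology]
    exact (hCM N j hj).of_iso
      ((HomologicalComplex.homologyFunctor _ _ j).mapIso (E.app C))
  have h1 : IsIso (Q.map ((TC M).map φ)) :=
    isIso_Q_map_TC_of_tensorVanishing φ r hLb hL hC hφ hCT M
  have h2 : QuasiIso ((TC M).map φ) := (DerivedCategory.isIso_Q_map_iff_quasiIso _ _).1 h1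
  let e : tensorLeft M ≅ tensorRight M := BraidedCategory.tensorLeftIsoTensorRight M
  let E := NatIso.mapHomologicalComplex e (ComplexShape.up ℤ)
  have h3 : ((tensorRight M).mapHomologicalComplex (ComplexShape.up ℤ)).map φ =
      (E.app L).inv ≫ (TC M).map φ ≫ (E.app C).hom := by
    rw [Iso.app_inv, Iso.app_hom, E.hom.naturality φ, Iso.inv_hom_id_app_assoc]
  rw [h3]
  infer_instance

end Groth.Agent.Lib.T2H9.UnivQis
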