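import Groth.Agent.Lib.T2H9TFunAlg
import Groth.Agent.Lib.T2H9UnivQis
import Groth.Agent.Lib.Helper3FlatCx

/-!
# Canonical truncation of complexes of flat modules and the functors `T^i` (helper9)

`flat_opcycles_of_isZero_T`: if `T_p = 0` then `opcycles_q` is flat (`c.Rel p q`, any shape).
`lower_trunc`: for a bounded above cochain complex `L` of flat modules with `T^i(L, -) = 0` for
`i < n`, the truncation `L.truncGE n` has flat terms and `TFunMap (L.πTruncGE n) i` is an
isomorphism for all `i`.
-/

set_option autoImplicit false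
set_option linter.style.haveILetI false
set_option linter.unusedSectionVars false
set_option linter.unusedVariables false
universe u
open CategoryTheory CategoryTheory.Limits MonoidalCategory

namespace Groth.Agent.Lib.T2H9.Trunc

open Groth.Agent.Lib.Helper3 Groth.Agent.Lib.T2H9.TFunAlg

variable {A : Type u} [CommRing A]

/-- if `T_p` vanishes identically then `opcycles_q` is flat (`c.Rel p q`) -/
theorem flat_opcycles_of_isZero_T {ι : Type} {c : ComplexShape ι}
    (P : HomologicalComplex (ModuleCat.{u} A) c) (hP : ∀ i, Module.Flat A (P.X i)) (p q : ι)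
    (hrel : c.Rel p q) (h : ∀ M : ModuleCat.{u} A, IsZero ((CohIII.TFun P p).obj M)) :
    Module.Flat A (P.opcycles q) := by
  rw [Module.Flat.iff_lTensor_preserves_injective_linearMap'.{u, u, u}]
  intro N N' _ _ _ _ f hf
  let φ : ModuleCat.of A N ⟶ ModuleCat.of A N' := ModuleCat.ofHom f
  haveI hφ : Mono φ := (ModuleCat.mono_iff_injective φ).mpr hf
  let S := ShortComplex.cokernelSequence φ
  haveI : Mono S.f := hφ
  haveI : Epi S.g := inferInstanceAs (Epi (cokernel.π φ))
  have hS : S.ShortExact := ⟨ShortComplex.cokernelSequence_exact φ⟩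
  have hepi : Epi ((CohIII.TFun P p).map S.g) :=
    ⟨fun _ _ _ => (h _).eq_of_src _ _⟩
  have hmono : Mono ((CohIII.TFun P q).map φ) := mono_T_map_of_epi P hP S hS p q hrel hepi
  have h1 : Mono (P.opcycles q ◁ φ) := mono_whiskerLeft_opcycles P q (hP _) φ hmono
  exact (ModuleCat.mono_iff_injective _).mp h1

/-- the canonical truncation `τ_{≥ n}` of a bounded above complex of flat modules whose functors
`T^i` vanish for `i < n`: flat terms, and the same functors `T^i`. -/
theorem lower_trunc (L : CochainComplex (ModuleCat.{u} A) ℤ)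
    (hL : ∀ i, Module.Flat A (L.X i)) (r : ℤ) (hLb : ∀ i, r < i → IsZero (L.X i)) (n : ℤ)
    (hT : ∀ (M : ModuleCat.{u} A) (i : ℤ), i < n → IsZero ((CohIII.TFun L i).obj M)) :
    (∀ i, Module.Flat A ((L.truncGE n).X i)) ∧
    (∀ i, i < n → IsZero ((L.truncGE n).X i)) ∧
    (∀ i, IsZero (L.X i) → IsZero ((L.truncGE n).X i)) ∧
    (∀ i, Module.Finite A (L.X i) → Module.Finite A ((L.truncGE n).X i)) ∧
    ∀ i, IsIso (TFunMap (L.πTruncGE n) i) := by
  have hflatW : Module.Flat A (L.opcycles n) :=
    flat_opcycles_of_isZero_T L hL (n - 1) n (by show n - 1 + 1 = n; ring)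
      (fun M => hT M (n - 1) (by lia))
  have hlt : ∀ i, i < n → IsZero ((L.truncGE n).X i) := fun i hi =>
    (L.truncGE n).isZero_of_isStrictlyGE n i hi
  have hzero : ∀ i, IsZero (L.X i) → IsZero ((L.truncGE n).X i) := by
    intro i hi
    rcases lt_trichotomy i n with h | h | h
    · exact hlt i h
    · subst h
      have h1 : IsZero (L.opcycles i) := IsZero.of_epi (L.pOpcycles i) hi
      exact h1.of_iso (L.truncGEXIsoOpcycles i)
    · exact hi.of_iso (L.truncGEXIso n i h)
  have hflat : ∀ i, Module.Flat A ((L.truncGE n).X i) := by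
    intro i
    rcases lt_trichotomy i n with h | h | h
    · haveI := ModuleCat.subsingleton_of_isZero (hlt i h)
      infer_instance
    · subst h
      exact Module.Flat.of_linearEquiv (L.truncGEXIsoOpcycles i).toLinearEquiv
    · haveI := hL i
      exact Module.Flat.of_linearEquiv (L.truncGEXIso n i h).toLinearEquiv
  have hfin : ∀ i, Module.Finite A (L.X i) → Module.Finite A ((L.truncGE n).X i) := by
    intro i hi
    rcases lt_trichotomy i n with h | h | h
    · haveI := ModuleCat.subsingleton_of_isZero (hlt i h)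
      infer_instance
    · subst h
      haveI := finite_opcycles L i
      exact Module.Finite.equiv (L.truncGEXIsoOpcycles i).toLinearEquiv.symm
    · exact Module.Finite.equiv (L.truncGEXIso n i h).toLinearEquiv.symm
  refine ⟨hflat, hlt, hzero, hfin, ?_⟩
  haveI : L.IsGE n := by
    rw [L.isGE_iff n]
    intro i hi
    rw [HomologicalComplex.exactAt_iff_isZero_homology]
    exact (hT (ModuleCat.of A A) i hi).of_iso (TUnitIso L i).symm
  haveI : QuasiIso (L.πTruncGE n) := inferInstance
  have hq : ∀ M : ModuleCat.{u} A, QuasiIso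
      (((tensorRight M).mapHomologicalComplex (ComplexShape.up ℤ)).map (L.πTruncGE n)) :=
    fun M => Groth.Agent.Lib.T2H9.UnivQis.quasiIso_tensorRight_map L (L.truncGE n) (L.πTruncGE n) r
      hLb hL hflat (fun N j hj => by
        rw [← HomologicalComplex.exactAt_iff_isZero_homology]
        exact ShortComplex.exact_of_isZero_X₂ _
          ((tensorRight N).map_isZero (hzero j (hLb j hj)))) M
  intro i
  exact isIso_TFunMap _ i (fun M => (hq M).quasiIsoAt _)

end Groth.Agent.Lib.T2H9.Trunc
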