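import Groth.Agent.Lib.T2H9BridgeAmp
import Groth.Agent.Lib.T2H9Trunc
import Groth.Agent.Lib.T2H9FibVanish
import Groth.Agent.Lib.T2H9FibRank

/-!
# A complex of finite projective modules of prescribed amplitude computing cohomology after base
change (helper9)

`exists_amp_complex`: for `X` proper over a Noetherian ring `A`, `F` coherent and `A`-flat with
`H^p(X, F) = 0` for `p > d₀` and `H^p(X_y, F_y) = 0` for all `y` and `p < d'`, the canonical
truncation `τ_{≥ d'}` of the bridge complex (chosen zero above `d₀`, `T2H9BridgeAmp`) consists of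
finite projective modules, lives in `[d', d₀]` and computes `H^p(X_B, F_B)` as `H^p(L ⊗_A B)` for
every `A`-algebra `B` (`T2H9Trunc`, `T2H9FibVanish`).
-/

set_option autoImplicit false
set_option linter.style.haveILetI false
set_option linter.unusedSectionVars false
set_option linter.unusedVariables false
universe u
open CategoryTheory CategoryTheory.Limits AlgebraicGeometry Opposite TopologicalSpace

namespace Groth.Agent.Lib.T2H9.AmpCx

open Groth.Agent.Lib.T2H9.TFunGeo Groth.Agent.Lib.T2H9.TFunAlg Groth.Agent.Lib.Helper3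
  Groth.Agent.Lib.T2H9.Bridge Groth.Agent.Lib.T2H9.Reindex Groth.Agent.Lib.T2H9.CoreBC
  Groth.Agent.Lib.T2H9.ProjFormula

/-- a complex of finite projective modules of amplitude `[d', d₀]` computing the cohomology of all
base changes -/
theorem exists_amp_complex (A : Type u) [CommRing A] [IsNoetherianRing A] (X : Scheme.{u})
    [X.Over (Spec (CommRingCat.of A))] [IsProper (X ↘ Spec (CommRingCat.of A))] (F : X.Modules)
    (hF : Coh.IsCoh F) (hfl : FlatMod.IsFlatOver (X ↘ Spec (CommRingCat.of A)) F)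
    (d' : ℕ) (d₀ : ℤ) (hd : ∀ p : ℕ, d₀ < (p : ℤ) → Subsingleton (Coh.HH X F p))
    (hd' : ∀ (y : ↑(Spec (CommRingCat.of A))) (p : ℕ), p < d' →
      Subsingleton (CohIII.fiberH (X ↘ Spec (CommRingCat.of A)) F y p)) :
    ∃ L : CochainComplex (ModuleCat.{u} A) ℤ,
      (∀ i, Module.Finite A (L.X i) ∧ Module.Projective A (L.X i)) ∧
      (∀ i : ℤ, i < (d' : ℤ) ∨ d₀ < i → IsZero (L.X i)) ∧
      ∀ (B : Type u) [CommRing B] [Algebra A B] (p : ℕ),
        Nonempty (Coh.HH (pullback (X ↘ Spec (CommRingCat.of A))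
              (Spec.map (CommRingCat.ofHom (algebraMap A B))))
            ((Scheme.Modules.pullback (pullback.fst (X ↘ Spec (CommRingCat.of A))
              (Spec.map (CommRingCat.ofHom (algebraMap A B))))).obj F) p ≃+
          CohIII.T L (p : ℤ) (ModuleCat.of A B)) := by
  obtain ⟨L, hLff, hLb, hneg, hbr⟩ :=
    Groth.Agent.Lib.T2H9.BridgeAmp.exists_cochain_bridge_amp A X F hF hfl d₀ hd
  haveI := hF.1
  have hLflat : ∀ i, Module.Flat A (L.X i) := fun i => by
    haveI := (hLff i).2
    infer_instance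
  -- the chain complex
  let P : ChainComplex (ModuleCat.{u} A) ℤ := toChain L
  have hP : ∀ i, Module.Finite A (P.X i) ∧ Module.Flat A (P.X i) := fun i =>
    ⟨(hLff (-i)).1, hLflat (-i)⟩
  have hbrP : ∀ p : ℕ, Nonempty (CohIII.TFun P (-(p : ℤ)) ⋙
      forget₂ (ModuleCat.{u} A) AddCommGrpCat.{u} ≅
      CohIII.tensorAFunctor A F ⋙ CohIII.HAb X p) := fun p => by
    obtain ⟨e⟩ := hbr p
    exact ⟨Functor.isoWhiskerRight (tFunReindexIso L (-(p : ℤ)) (p : ℤ) (by simp)) _ ≪≫ e⟩
  -- vanishing of `T^i` for `i < d'`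
  have hT : ∀ (M : ModuleCat.{u} A) (i : ℤ), i < (d' : ℤ) → IsZero ((CohIII.TFun L i).obj M) := by
    intro M i hi
    by_cases hneg' : i < 0
    · exact hneg M i hneg'
    · obtain ⟨p, rfl⟩ := Int.eq_ofNat_of_zero_le (not_lt.1 hneg')
      have hp : p < d' := by exact_mod_cast hi
      have hdr : ∀ y : PrimeSpectrum A, CohIII.dRank P (-(p : ℤ)) y = 0 := by
        intro y
        have h1 := Groth.Agent.Lib.T2H9.FibRank.fiberRank_eq_dRank A F P p
          (fun A' _ _ X' _ g' hsq => by
            obtain ⟨e⟩ := hbrP p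
            obtain ⟨core⟩ := nonempty_coreIso_of_separated g' hsq F p
            exact ⟨bridgeBc g' F P _ p e core⟩) y
        rw [← h1]
        haveI := hd' y p hp
        exact Module.finrank_zero_of_subsingleton
      have hz := Groth.Agent.Lib.T2H9.FibVanish.isZero_T_of_dRank_eq_zero P hP (-(p : ℤ)) hdr M
      exact hz.of_iso ((tFunReindexIso L (-(p : ℤ)) (p : ℤ) (by simp)).app M).symm
  obtain ⟨hflat', hlt', hzero', hfin', hiso'⟩ :=
    Groth.Agent.Lib.T2H9.Trunc.lower_trunc L hLflat d₀ hLb (d' : ℤ) hT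
  refine ⟨L.truncGE (d' : ℤ), fun i => ?_, fun i hi => ?_, ?_⟩
  · haveI := hfin' i (hLff i).1
    haveI := hflat' i
    haveI : Module.FinitePresentation A ((L.truncGE (d' : ℤ)).X i) :=
      Module.finitePresentation_of_finite A _
    exact ⟨inferInstance, Module.Flat.projective_of_finitePresentation⟩
  · rcases hi with hi | hi
    · exact hlt' i hi
    · exact hzero' i (hLb i hi)
  · intro B _ _ p
    let φ : A →+* B := algebraMap A B
    let XB := pullback (X ↘ Spec (CommRingCat.of A)) (Spec.map (CommRingCat.ofHom φ))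
    letI : XB.Over (Spec (CommRingCat.of B)) := ⟨pullback.snd _ _⟩
    let g' : XB ⟶ X := pullback.fst _ _
    have hsq : IsPullback g' (XB ↘ Spec (CommRingCat.of B)) (X ↘ Spec (CommRingCat.of A))
        (Spec.map (CommRingCat.ofHom (algebraMap A B))) := IsPullback.of_hasPullback _ _
    obtain ⟨e⟩ := hbr p
    obtain ⟨core⟩ := nonempty_coreIso_of_separated g' hsq F p
    let ebc := bridgeBc g' F L (p : ℤ) p e core
    let FB := (Scheme.Modules.pullback g').obj F
    -- step 1: `H^p(X_B, F_B) ≃ H^p(X_B, F_B ⊗ B)`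
    let l1 : Coh.HH XB ((CohIII.tensorAFunctor B FB).obj (ModuleCat.of B B)) p ≃ₗ[B]
        Coh.HH XB FB p :=
      Groth.Agent.Lib.T2H5.HilbPoly.hhEquiv (tensorAFunctorUnitIso B FB) p
    -- step 2: the bridge
    let l2 : (CohIII.TFun (CohIII.bcCx φ L) (p : ℤ)).obj (ModuleCat.of B B) ≃+
        Coh.HH XB ((CohIII.tensorAFunctor B FB).obj (ModuleCat.of B B)) p :=
      (ebc.app (ModuleCat.of B B)).addCommGroupIsoToAddEquiv
    -- step 3: base change of the complex
    let l3 : (CohIII.TFun (CohIII.bcCx φ L) (p : ℤ)).obj (ModuleCat.of B B) ≃+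
        (CohIII.TFun L (p : ℤ)).obj ((ModuleCat.restrictScalars φ).obj (ModuleCat.of B B)) :=
      ((tFunBcIso φ L (p : ℤ)).app (ModuleCat.of B B)).toLinearEquiv.toAddEquiv
    -- step 4: `B` as an `A`-module
    let e4 : (ModuleCat.restrictScalars φ).obj (ModuleCat.of B B) ≅ ModuleCat.of A B :=
      LinearEquiv.toModuleIso (Groth.Agent.S2380.idEquiv A B)
    let l4 : (CohIII.TFun L (p : ℤ)).obj ((ModuleCat.restrictScalars φ).obj (ModuleCat.of B B)) ≃+
        (CohIII.TFun L (p : ℤ)).obj (ModuleCat.of A B) :=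
      ((CohIII.TFun L (p : ℤ)).mapIso e4).toLinearEquiv.toAddEquiv
    -- step 5: truncation
    haveI := hiso' (p : ℤ)
    let l5 : (CohIII.TFun L (p : ℤ)).obj (ModuleCat.of A B) ≃+
        (CohIII.TFun (L.truncGE (d' : ℤ)) (p : ℤ)).obj (ModuleCat.of A B) :=
      ((asIso (TFunMap (L.πTruncGE (d' : ℤ)) (p : ℤ))).app (ModuleCat.of A B)).toLinearEquiv.toAddEquiv
    exact ⟨l1.symm.toAddEquiv.trans (l2.symm.trans (l3.trans (l4.trans l5)))⟩

end Groth.Agent.Lib.T2H9.AmpCx
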