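import Groth.Prelude.Def_ModelsG
import Groth.Agent.Lib.T2H6TensorDegGen
import Groth.Agent.Lib.T2H6FGABridge
import Groth.Agent.Lib.T2H6PtTwistD
import Groth.Agent.Lib.T2H9IdealProd
import Groth.Agent.Lib.T2H9PicInj
import Groth.Agent.Lib.Helper2TensorInv
import Groth.Agent.Lib.Helper23PB
set_option backward.isDefEq.respectTransparency.types false

/-!
# T2H9ArInterA (helper9): basic calculus of the intersection numbers `ArSurf.inter`

`ArSurf.inter R X L Γ = deg_κ (L|_Γ)`; here: invariance under isomorphism, additivity in `L` (invertible),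
the value on ideal modules of products of invertible ideals.
-/

set_option autoImplicit false
set_option linter.style.haveILetI false
set_option linter.unusedSectionVars false
universe u

open AlgebraicGeometry CategoryTheory Limits TopologicalSpace Opposite

namespace Groth.Agent.Lib.T2H9.ArInterA

open Groth.Agent.Lib.Helper23.SecTw Groth.Agent.Lib.Helper23.GenLocus Groth.Agent.Lib.Helper6
  Groth.Agent.Lib.T2H4.AmpleCartier Groth.Agent.Lib.T2H9.IdealProd

variable {R : Type u} [CommRing R] [IsDomain R] [IsDiscreteValuationRing R]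
  {X : Over (Spec (CommRingCat.of R))} (Γ : ArSurf.VertComp R X)

/-- a vertical prime divisor of a proper `R`-scheme is proper over the residue field -/
theorem isProper_curve [IsProper X.hom] :
    IsProper (Γ.curve.left ↘ Spec (CommRingCat.of (IsLocalRing.ResidueField R))) := by
  change IsProper Γ.curve.hom
  haveI : IsProper (Γ.curve.hom ≫ Spec.map (CommRingCat.ofHom (IsLocalRing.residue R))) := by
    rw [← Γ.w]
    infer_instance
  exact IsProper.of_comp Γ.curve.hom (Spec.map (CommRingCat.ofHom (IsLocalRing.residue R)))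

theorem curveDeg_eq [IsProper X.hom] (M : Γ.curve.left.Modules) :
    ArSurf.curveDeg (IsLocalRing.ResidueField R) Γ.curve.left M =
      Curv2.deg (IsLocalRing.ResidueField R) Γ.curve.left M 1 := by
  haveI := isProper_curve Γ
  unfold ArSurf.curveDeg Curv2.deg
  rw [Groth.Agent.Lib.T2H6.FGABridge.eulerCharLE_eq_euler _ _ M 1 Γ.dim_eq.le,
    Groth.Agent.Lib.T2H6.FGABridge.eulerCharLE_eq_euler _ _ _ 1 Γ.dim_eq.le]
  push_cast
  ring

theorem inter_eq [IsProper X.hom] (L : X.left.Modules) :
    ArSurf.inter R X L Γ = Curv2.deg (IsLocalRing.ResidueField R) Γ.curve.left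
      ((Scheme.Modules.pullback Γ.ι).obj L) 1 := by
  unfold ArSurf.inter
  exact curveDeg_eq Γ _

variable [IsProper X.hom]

theorem inter_eq_of_iso {L L' : X.left.Modules} (e : L ≅ L') :
    ArSurf.inter R X L Γ = ArSurf.inter R X L' Γ := by
  haveI := isProper_curve Γ
  rw [inter_eq, inter_eq]
  exact Groth.Agent.Lib.T2H6.PtTwistD.deg_eq_of_iso _ ((Scheme.Modules.pullback Γ.ι).mapIso e) 1

theorem inter_structureModule : ArSurf.inter R X (Coh.structureModule X.left) Γ = 0 := by
  haveI := isProper_curve Γ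
  rw [inter_eq,
    Groth.Agent.Lib.T2H6.PtTwistD.deg_eq_of_iso _ (Groth.Agent.Lib.Helper23.PB.pullbackUnitIso Γ.ι) 1]
  exact Groth.Agent.Lib.T2H6.CurveDeg.deg_structureModule _

theorem inter_tensorMod (L M : X.left.Modules) (hL : PicF.IsInvertible L) (hM : PicF.IsInvertible M) :
    ArSurf.inter R X (CohB1.tensorMod L M) Γ = ArSurf.inter R X L Γ + ArSurf.inter R X M Γ := by
  haveI := isProper_curve Γ
  rw [inter_eq, inter_eq, inter_eq]
  obtain ⟨e⟩ := Groth.Agent.Lib.Helper23.PB.nonempty_pullback_tensorMod_iso Γ.ι L M hL hM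
  rw [Groth.Agent.Lib.T2H6.PtTwistD.deg_eq_of_iso _ e 1]
  exact Groth.Agent.Lib.T2H6.PtTwistD.deg_tensor1 _ Γ.dim_eq _ _
    (Groth.Agent.Lib.Helper23.PB.isInvertible_pullback Γ.ι L hL)
    (Groth.Agent.Lib.Helper23.PB.isInvertible_pullback Γ.ι M hM)

theorem isInvertible_of_isInverseOf {Y : Scheme.{u}} {L M : Y.Modules} (h : ClSub.IsInverseOf L M) :
    PicF.IsInvertible L := by
  obtain ⟨e⟩ := h
  exact Groth.Agent.Lib.Helper2.TensorInv.isInvertible_of_tensor_iso L M e

theorem inter_of_isInverseOf {L M : X.left.Modules} (h : ClSub.IsInverseOf L M) (hM : PicF.IsInvertible M) :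
    ArSurf.inter R X L Γ = - ArSurf.inter R X M Γ := by
  have hL := isInvertible_of_isInverseOf h
  obtain ⟨e⟩ := h
  have h1 := inter_tensorMod Γ L M hL hM
  rw [inter_eq_of_iso Γ e, inter_structureModule] at h1
  linarith

theorem inter_idealMod_mul (I J : X.left.IdealSheafData) (hI : PicF.IsInvertible (ClSub.idealMod I))
    (hJ : PicF.IsInvertible (ClSub.idealMod J)) :
    ArSurf.inter R X (ClSub.idealMod (I * J)) Γ =
      ArSurf.inter R X (ClSub.idealMod I) Γ + ArSurf.inter R X (ClSub.idealMod J) Γ := by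
  rw [← inter_eq_of_iso Γ (mulIso I J hJ)]
  exact inter_tensorMod Γ _ _ hI hJ

theorem inter_idealMod_top : ArSurf.inter R X (ClSub.idealMod (⊤ : X.left.IdealSheafData)) Γ = 0 := by
  rw [inter_eq_of_iso Γ idealModTopIso]
  exact inter_structureModule Γ

theorem isInvertible_idealMod_mul (I J : X.left.IdealSheafData) (hI : PicF.IsInvertible (ClSub.idealMod I))
    (hJ : PicF.IsInvertible (ClSub.idealMod J)) : PicF.IsInvertible (ClSub.idealMod (I * J)) :=
  Groth.Agent.Lib.Helper23.AmpleIso.isInvertible_of_iso (mulIso I J hJ)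
    (Groth.Agent.Lib.Helper23.SecTw.isInvertible_tensorMod hI hJ)

theorem inter_idealMod_pow (I : X.left.IdealSheafData) (hI : PicF.IsInvertible (ClSub.idealMod I)) (n : ℕ) :
    ArSurf.inter R X (ClSub.idealMod (I ^ n)) Γ = n * ArSurf.inter R X (ClSub.idealMod I) Γ := by
  induction n with
  | zero =>
    rw [pow_zero]
    change ArSurf.inter R X (ClSub.idealMod (⊤ : X.left.IdealSheafData)) Γ = _
    rw [inter_idealMod_top]
    simp
  | succ n ih =>
    rw [pow_succ, inter_idealMod_mul Γ _ _ (isInvertible_idealMod_pow I hI n) hI, ih]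
    push_cast
    ring

theorem isInvertible_and_inter_idealMod_prod_pow {ι : Type*} [DecidableEq ι] (s : Finset ι)
    (I : ι → X.left.IdealSheafData)
    (hI : ∀ i, PicF.IsInvertible (ClSub.idealMod (I i))) (a : ι → ℕ) :
    PicF.IsInvertible (ClSub.idealMod (∏ i ∈ s, I i ^ a i)) ∧
    ArSurf.inter R X (ClSub.idealMod (∏ i ∈ s, I i ^ a i)) Γ =
      ∑ i ∈ s, (a i : ℤ) * ArSurf.inter R X (ClSub.idealMod (I i)) Γ := by
  induction s using Finset.induction_on with
  | empty =>
    rw [Finset.prod_empty, Finset.sum_empty]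
    refine ⟨?_, inter_idealMod_top Γ⟩
    exact Groth.Agent.Lib.Helper23.AmpleIso.isInvertible_of_iso idealModTopIso.symm
      (Groth.Agent.Lib.Helper23.TensorUnit.isInvertible_structureModule _)
  | insert i s hi ih =>
    rw [Finset.prod_insert hi, Finset.sum_insert hi]
    have h1 := isInvertible_idealMod_pow (I i) (hI i) (a i)
    refine ⟨isInvertible_idealMod_mul _ _ h1 ih.1, ?_⟩
    rw [inter_idealMod_mul Γ _ _ h1 ih.1, inter_idealMod_pow Γ _ (hI i), ih.2]

end Groth.Agent.Lib.T2H9.ArInterA
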