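import Groth.Agent.Lib.T2H9ArInterA
import Groth.Agent.Lib.T2H4FibreComp
set_option backward.isDefEq.respectTransparency.types false

/-!
# T2H9ArInterB (helper9): the closed fibre of a regular flat proper model is numerically trivial

* `nonempty_idealMod_iso_of_span`: an ideal sheaf generated by one regular global function has trivial ideal module.
* `sum_mult_mul_inter`: `Σ_j m_j (Γ_j · Γ_i) = 0` with `Γ_j · Γ_i = deg (O(Γ_j)|_{Γ_i})`.
-/

set_option autoImplicit false
set_option linter.style.haveILetI false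
set_option linter.unusedSectionVars false
universe u

open AlgebraicGeometry CategoryTheory Limits TopologicalSpace Opposite

namespace Groth.Agent.Lib.T2H9.ArInterB

open Groth.Agent.Lib.Helper23.SecTw Groth.Agent.Lib.Helper23.GenLocus Groth.Agent.Lib.Helper6
  Groth.Agent.Lib.T2H4.AmpleCartier Groth.Agent.Lib.T2H9.IdealProd Groth.Agent.Lib.T2H9.ArInterA

section principal

variable {X : Scheme.{u}}

/-- an ideal sheaf generated, on every affine open, by (the restriction of) one global function which is a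
non-zero-divisor there, has trivial ideal module -/
theorem nonempty_idealMod_iso_of_span (I : X.IdealSheafData) (t : Γ(X, ⊤))
    (hspan : ∀ V : X.affineOpens, I.ideal V = Ideal.span {resf (le_top : V.1 ≤ ⊤) t})
    (hreg : ∀ V : X.affineOpens, resf (le_top : V.1 ≤ ⊤) t ∈ nonZeroDivisors Γ(X, V.1)) :
    Nonempty (ClSub.idealMod I ≅ Coh.structureModule X) := by
  haveI := Groth.Agent.Lib.T2H6.AmpleCrit.isQuasicoherent_idealMod I
  haveI : (Coh.structureModule X).IsQuasicoherent :=
    Groth.Agent.Lib.Helper23.Serre.isQuasicoherent_structureModule' X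
  have h0 : (ClSub.toSubscheme I).app ⊤ (toS ⊤ t) = 0 := by
    refine toSubscheme_app_eq_zero_of_forall I ⊤ t fun V hV => ?_
    rw [hspan V]
    exact Ideal.mem_span_singleton_self _
  obtain ⟨a, ha⟩ : ∃ a : Γ(ClSub.idealMod I, ⊤), ιf I ⊤ a = t :=
    ⟨OmegaSh.kerLift (ClSub.toSubscheme I) ⊤ (toS ⊤ t) h0,
      congrArg (ofS ⊤) (OmegaSh.ι_kerLift (ClSub.toSubscheme I) ⊤ (toS ⊤ t) h0)⟩
  let φ : Coh.structureModule X ⟶ ClSub.idealMod I := secHom (ClSub.idealMod I) a
  have hφ : ∀ (V : X.Opens) (r : Γ(X, V)), ιf I V (φ.app V (toS V r)) = r * resf (le_top : V ≤ ⊤) t := by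
    intro V r
    rw [app_toS, sv_secHom, ιf_smul, ιf_res, ha]
  have hiso : IsIso φ := by
    refine Groth.Agent.Lib.T2H5.IdealMul.isIso_of_bijective_app φ fun V => ⟨?_, ?_⟩
    · intro r r' hrr
      have h1 : ofS V.1 r * resf (le_top : V.1 ≤ ⊤) t = ofS V.1 r' * resf (le_top : V.1 ≤ ⊤) t := by
        rw [← hφ, ← hφ]
        exact congrArg (ιf I V.1) hrr
      exact (mul_cancel_right_mem_nonZeroDivisors (hreg V)).mp h1
    · intro b
      have hb := ιf_mem_ideal I V b
      rw [hspan V] at hb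
      obtain ⟨r, hr⟩ := Ideal.mem_span_singleton'.mp hb
      refine ⟨toS V.1 r, ιf_injective I V.1 ?_⟩
      rw [hφ, hr]
  exact ⟨(asIso φ).symm⟩

end principal

section fibre

variable {R : Type u} [CommRing R] [IsDomain R] [IsDiscreteValuationRing R]
  {X : Over (Spec (CommRingCat.of R))}

theorem resf_secHom (V : X.left.Opens) (ϖ : R) :
    resf (le_top : V ≤ ⊤) (Groth.Agent.Lib.T2H4.FibreComp.secHom R X ⊤ ϖ) =
      Groth.Agent.Lib.T2H4.FibreComp.secHom R X V ϖ := by
  unfold Groth.Agent.Lib.T2H4.FibreComp.secHom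
  simp only [RingHom.comp_apply]
  change (X.hom.appLE ⊤ ⊤ le_top ≫ X.left.presheaf.map (homOfLE (le_top : V ≤ ⊤)).op).hom _ = _
  rw [Scheme.Hom.appLE_map]

/-- the ideal module of the closed fibre of a flat `R`-scheme is trivial -/
theorem nonempty_idealMod_specialFibreIdeal_iso [Flat X.hom] :
    Nonempty (ClSub.idealMod (Models.specialFibreIdeal R X) ≅ Coh.structureModule X.left) := by
  obtain ⟨ϖ, hϖ⟩ := IsDiscreteValuationRing.exists_irreducible R
  refine nonempty_idealMod_iso_of_span _ (Groth.Agent.Lib.T2H4.FibreComp.secHom R X ⊤ ϖ)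
    (fun V => ?_) (fun V => ?_)
  · rw [resf_secHom]
    exact Groth.Agent.Lib.T2H4.FibreComp.specialFibreIdeal_ideal_eq_span R X ϖ hϖ V
  · rw [resf_secHom]
    exact Groth.Agent.Lib.T2H4.FibreComp.secHom_mem_nonZeroDivisors R X V ϖ hϖ.ne_zero

variable [IsProper X.hom] [Flat X.hom] [IsLocallyNoetherian X.left]

/-- **the closed fibre is numerically trivial**: `Σ_j m_j deg(O(Γ_j)|_Γ) = 0` -/
theorem sum_mult_mul_inter (hreg : Models.IsRegularScheme X.left)
    {n : ℕ} (Γ : Fin n → ArSurf.VertComp R X) (hΓ : Models.IsComponentList R X Γ)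
    (L : Fin n → X.left.Modules) (hL : ∀ j, ClSub.IsInverseOf (L j) (ClSub.idealMod (Γ j).ι.ker))
    (Γ' : ArSurf.VertComp R X) :
    ∑ j, (Models.mult R X (Γ j) : ℤ) * ArSurf.inter R X (L j) Γ' = 0 := by
  haveI : CompactSpace X.left := QuasiCompact.compactSpace_of_compactSpace X.hom
  obtain ⟨hcart, hprod⟩ := Groth.Agent.Lib.T2H4.FibreComp.specialFibreIdeal_eq_prod hreg Γ hΓ
  have hinv : ∀ j, PicF.IsInvertible (ClSub.idealMod (Γ j).ι.ker) := fun j =>
    isInvertible_idealMod _ (hcart j)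
  obtain ⟨e⟩ := nonempty_idealMod_specialFibreIdeal_iso (R := R) (X := X)
  have h0 : ArSurf.inter R X (ClSub.idealMod (Models.specialFibreIdeal R X)) Γ' = 0 := by
    rw [inter_eq_of_iso Γ' e]
    exact inter_structureModule Γ'
  rw [hprod, (isInvertible_and_inter_idealMod_prod_pow Γ' Finset.univ (fun j => (Γ j).ι.ker) hinv
    (fun j => Models.mult R X (Γ j))).2] at h0
  have h1 : ∀ j, ArSurf.inter R X (L j) Γ' = - ArSurf.inter R X (ClSub.idealMod (Γ j).ι.ker) Γ' := fun j =>
    inter_of_isInverseOf Γ' (hL j) (hinv j)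
  simp only [h1, mul_neg, Finset.sum_neg_distrib, h0, neg_zero]

end fibre

end Groth.Agent.Lib.T2H9.ArInterB
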