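import Groth.Agent.Lib.T2H9ArInterB
import Groth.Agent.S9705
set_option backward.isDefEq.respectTransparency.types false

/-!
# T2H9ArInterC (helper9): instances for arithmetic surfaces and regular proper models
-/

set_option autoImplicit false
set_option linter.style.haveILetI false
set_option linter.unusedSectionVars false
universe u

open AlgebraicGeometry CategoryTheory Limits TopologicalSpace Opposite

namespace Groth.Agent.Lib.T2H9.ArInterC

variable {R : Type u} [CommRing R] [IsDomain R] [IsDiscreteValuationRing R]

theorem isProper_of_isArithSurface {X : Over (Spec (CommRingCat.of R))} (hX : ArSurf.IsArithSurface R X) :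
    IsProper X.hom := by
  obtain ⟨-, -, -, -, n, i, hi, hcomp⟩ := hX
  haveI := hi
  haveI : IsProper (CohB1.ProjSpaceOver.toBase n (Spec (CommRingCat.of R))) :=
    Groth.Agent.S9705.isProper_toBase n _
  rw [← hcomp]
  infer_instance

theorem isLocallyNoetherian_of_isProper {X : Over (Spec (CommRingCat.of R))} [IsProper X.hom] :
    IsLocallyNoetherian X.left :=
  LocallyOfFiniteType.isLocallyNoetherian X.hom

end Groth.Agent.Lib.T2H9.ArInterC
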