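import Groth.Agent.Lib.T2H9ArInterA
import Groth.Agent.Lib.T2H6NegVanL
import Groth.Agent.Lib.T2H6CIPullA
import Groth.Agent.Lib.T2H6ParShC
import Groth.Agent.Lib.T2H6PosD
import Groth.Agent.Lib.T2H6CurveTors
import Groth.Agent.Lib.T2H4EffCartProd
import Groth.Agent.Lib.Helper23SecTw9
set_option backward.isDefEq.respectTransparency.types false

/-!
# T2H9ArInterD (helper9): the degree of `O(D)` restricted to a curve not contained in `D`

For an affine morphism `f : Y ⟶ X` from a proper integral curve over `k`, an invertible ideal sheaf `D` on `X` whose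
support misses the generic point of `Y`, and `L` inverse to the ideal module of `D`:
`deg_k f^* L = dim_k H⁰(Y, O_Y / f^{-1} D)`.
-/

set_option autoImplicit false
set_option linter.style.haveILetI false
set_option linter.unusedSectionVars false
universe u

open AlgebraicGeometry CategoryTheory Limits TopologicalSpace Opposite

namespace Groth.Agent.Lib.T2H9.ArInterD

open Groth.Agent.Lib.Helper23.SecTw Groth.Agent.Lib.Helper23.GenLocus Groth.Agent.Lib.Helper6
  Groth.Agent.Lib.T2H4.AmpleCartier Groth.Agent.Lib.T2H3.ZeroScheme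

variable (k : Type u) [Field k] {Y : Scheme.{u}} [Y.Over (Spec (CommRingCat.of k))] [IsIntegral Y]
  [IsProper (Y ↘ Spec (CommRingCat.of k))]

/-- the degree of an ideal sheaf with finite cosupport on a proper integral curve -/
theorem deg_idealMod (hdim : topologicalKrullDim Y = 1) (J : Y.IdealSheafData)
    (hη : genericPoint Y ∉ J.support) :
    Curv2.deg k Y (ClSub.idealMod J) 1 = - (Module.finrank k (Coh.HH Y (ClSub.quotMod J) 0) : ℤ) := by
  haveI : IsNoetherian Y := Groth.Agent.Lib.T2H6.CurveSatur.isNoetherian_of_proper k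
  have hOc : Coh.IsCoh (Coh.structureModule Y) := Groth.Agent.Lib.T2H5.GenIsoF.isCoh_structureModule
  have hQc : Coh.IsCoh (ClSub.quotMod J) := Groth.Agent.Lib.T2H6.ParShC.isCoh_quotMod J
  have hIc : Coh.IsCoh (ClSub.idealMod J) :=
    Groth.Agent.Lib.T2H5.Devissage.isCoh_of_mono (ClSub.idealModι J) hOc
      (Groth.Agent.Lib.T2H6.AmpleCrit.isQuasicoherent_idealMod J)
  have hadd := Groth.Agent.Lib.T2H6.EulerField.euler_additive k Y
    (Groth.Agent.Lib.T2H6.AmpleCrit.idealSC J)
    (Groth.Agent.Lib.T2H6.AmpleCrit.idealSC_shortExact J) hIc hOc hQc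
  have hQpts : ∀ x ∈ CohB1.support (ClSub.quotMod J), IsClosed ({x} : Set Y) := by
    intro x hx
    refine Groth.Agent.Lib.Helper20.CDivLib.isClosed_singleton_of_ne_genericPoint hdim.le x ?_
    rintro rfl
    exact hη (Groth.Agent.Lib.T2H6.ParShC.support_quotMod_subset J hx)
  have hq := Groth.Agent.Lib.T2H6.PosD.euler_eq_finrank_of_closedPoints k _ hQc hQpts
  change Curv2.euler k Y (Coh.structureModule Y) =
    Curv2.euler k Y (ClSub.idealMod J) + Curv2.euler k Y (ClSub.quotMod J) at hadd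
  unfold Curv2.deg
  push_cast
  linarith

omit [IsProper (Y ↘ Spec (CommRingCat.of k))] in
/-- the zero scheme of the zero section contains the generic point -/
theorem genericPoint_mem_support_zeroScheme_zero (L' : Y.Modules) (hL' : PicF.IsInvertible L') :
    genericPoint Y ∈ (PicF2.zeroScheme L' (0 : Coh.structureModule Y ⟶ L')).support := by
  obtain ⟨W, e, hηW, hW, he⟩ := Groth.Agent.Lib.Helper23.PB.exists_affine_gen L' hL' (genericPoint Y)
  rw [Groth.Agent.Lib.T2H4.EffCartProd.mem_support_iff_le_primeIdealOf _ ⟨W, hW⟩ _ hηW,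
    zeroScheme_ideal L' 0 hL' ⟨W, hW⟩]
  have hc : sv (0 : Coh.structureModule Y ⟶ L') W = (0 : Γ(Y, W)) • e := by
    rw [zero_smul, Groth.Agent.Lib.Helper23.SecTw.sv_zero]
  rw [zI_eq_span L' 0 he hc]
  intro x hx
  rw [Ideal.mem_span_singleton'] at hx
  obtain ⟨a, rfl⟩ := hx
  rw [mul_zero]
  exact Ideal.zero_mem _

/-- **the degree of `O(D)|_Y`** -/
theorem deg_pullback_eq_finrank {X : Scheme.{u}} (f : Y ⟶ X) [IsAffineHom f]
    (hdim : topologicalKrullDim Y = 1) (D : X.IdealSheafData)
    (hD : PicF.IsInvertible (ClSub.idealMod D)) (L : X.Modules)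
    (hL : ClSub.IsInverseOf L (ClSub.idealMod D)) (hη : f.base (genericPoint Y) ∉ D.support) :
    PicF.IsInvertible (ClSub.idealMod (D.comap f)) ∧
    Curv2.deg k Y ((Scheme.Modules.pullback f).obj L) 1 =
      (Module.finrank k (Coh.HH Y (ClSub.quotMod (D.comap f)) 0) : ℤ) := by
  have hLinv : PicF.IsInvertible L := Groth.Agent.Lib.T2H9.ArInterA.isInvertible_of_isInverseOf hL
  obtain ⟨e0⟩ := hL
  let φ : CohB1.tensorMod (ClSub.idealMod D) L ≅ Coh.structureModule X :=
    Groth.Agent.Lib.T2H6.TensorPows.braidIso _ _ ≪≫ e0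
  set s := Groth.Agent.Lib.T2H6.NegVan.secOfInv D L φ with hs
  have hz : PicF2.zeroScheme L s = D := Groth.Agent.Lib.T2H6.NegVan.zeroScheme_secOfInv D L φ hD hLinv
  set s' := Groth.Agent.Lib.T2H6.CIPull.pbSec f L s with hs'
  have hz' : D.comap f = PicF2.zeroScheme ((Scheme.Modules.pullback f).obj L) s' := by
    rw [← hz]
    exact Groth.Agent.Lib.T2H6.CIPull.comap_zeroScheme f L hLinv s
  have hL' : PicF.IsInvertible ((Scheme.Modules.pullback f).obj L) :=
    Groth.Agent.Lib.Helper23.PB.isInvertible_pullback f L hLinv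
  have hηJ : genericPoint Y ∉ (D.comap f).support := by
    rw [Scheme.IdealSheafData.support_comap]
    exact hη
  have hne : s' ≠ 0 := by
    intro h0
    apply hηJ
    rw [hz', h0]
    exact genericPoint_mem_support_zeroScheme_zero _ hL'
  haveI : Mono s' := Groth.Agent.Lib.T2H6.InvMono.mono_of_ne_zero
    (Groth.Agent.Lib.Helper23.TensorUnit.isInvertible_structureModule Y) hL' s' hne
  obtain ⟨ψ⟩ := Groth.Agent.Lib.T2H6.NegVan.nonempty_tensor_idealMod_zeroScheme_iso
    ((Scheme.Modules.pullback f).obj L) hL' s'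
  rw [← hz'] at ψ
  have hJinv : PicF.IsInvertible (ClSub.idealMod (D.comap f)) :=
    Groth.Agent.Lib.Helper2.TensorInv.isInvertible_of_tensor_iso _ _ ψ
  refine ⟨hJinv, ?_⟩
  have h1 := Groth.Agent.Lib.T2H6.PtTwistD.deg_tensor1 k hdim _ _ hJinv hL'
  rw [Groth.Agent.Lib.T2H6.PtTwistD.deg_eq_of_iso k ψ 1,
    Groth.Agent.Lib.T2H6.CurveDeg.deg_structureModule, deg_idealMod k hdim _ hηJ] at h1
  linarith

end Groth.Agent.Lib.T2H9.ArInterD
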