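import Groth.Agent.Lib.T2H9ArInterD
import Groth.Agent.Lib.T2H5Devissage
import Groth.Agent.Lib.T2H5Chevalley
import Groth.Agent.Lib.Helper20SuppClosed
set_option backward.isDefEq.respectTransparency.types false

/-!
# T2H9ArInterE (helper9): intersection of a vertical prime divisor with an effective divisor not containing it
-/

set_option autoImplicit false
set_option linter.style.haveILetI false
set_option linter.unusedSectionVars false
universe u

open AlgebraicGeometry CategoryTheory Limits TopologicalSpace Opposite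

namespace Groth.Agent.Lib.T2H9.ArInterE

open Groth.Agent.Lib.Helper23.SecTw Groth.Agent.Lib.Helper23.GenLocus Groth.Agent.Lib.Helper6
  Groth.Agent.Lib.T2H4.AmpleCartier Groth.Agent.Lib.T2H9.ArInterA

section curve

variable (k : Type u) [Field k] {Y : Scheme.{u}} [Y.Over (Spec (CommRingCat.of k))] [IsIntegral Y]
  [IsProper (Y ↘ Spec (CommRingCat.of k))]

/-- `H⁰(Y, O_Y/J) = 0` iff `J` is the unit ideal -/
theorem finrank_quotMod_eq_zero_iff (hdim : topologicalKrullDim Y = 1) (J : Y.IdealSheafData)
    (hη : genericPoint Y ∉ J.support) :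
    Module.finrank k (Coh.HH Y (ClSub.quotMod J) 0) = 0 ↔ (J.support : Set Y) = ∅ := by
  constructor
  · intro h0
    have hgen : Subsingleton ((ClSub.quotMod J).presheaf.stalk (genericPoint Y)) := by
      by_contra hns
      exact hη (Groth.Agent.Lib.T2H6.ParShC.support_quotMod_subset J hns)
    have hz := Groth.Agent.Lib.T2H6.CurveTors.isZero_of_finrank_eq_zero k hdim _
      (Groth.Agent.Lib.T2H6.ParShC.isCoh_quotMod J) hgen h0
    have htop : J = ⊤ := by
      refine top_le_iff.mp fun V => ?_
      rw [Scheme.IdealSheafData.ideal_top]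
      intro x _
      rw [← J.ker_subschemeι_app V, RingHom.mem_ker]
      haveI := Groth.Agent.Lib.Helper20.SuppClosed.subsingleton_sections_of_isZero hz V.1
      exact Subsingleton.elim (α := Γ(ClSub.quotMod J, V.1)) _ _
    rw [htop, Scheme.IdealSheafData.support_top]
    rfl
  · intro h0
    have hs : CohB1.support (ClSub.quotMod J) = ∅ := by
      have := Groth.Agent.Lib.T2H6.ParShC.support_quotMod_subset J
      rw [h0] at this
      exact Set.subset_empty_iff.mp this
    have hz := Groth.Agent.Lib.T2H5.Devissage.isZero_of_support_eq_empty _ hs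
    haveI := Groth.Agent.Lib.T2H5.Chevalley.subsingleton_HH_of_isZero hz 0
    exact Module.finrank_zero_of_subsingleton

end curve

variable {R : Type u} [CommRing R] [IsDomain R] [IsDiscreteValuationRing R]
  {X : Over (Spec (CommRingCat.of R))} [IsProper X.hom] (Γ : ArSurf.VertComp R X)

/-- `D · Γ = h⁰(Γ, O_Γ / D|_Γ)` for an invertible ideal sheaf `D` not containing `Γ` -/
theorem inter_eq_finrank (D : X.left.IdealSheafData) (hD : PicF.IsInvertible (ClSub.idealMod D))
    (L : X.left.Modules) (hL : ClSub.IsInverseOf L (ClSub.idealMod D))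
    (hη : Γ.ι.base (genericPoint Γ.curve.left) ∉ D.support) :
    ArSurf.inter R X L Γ = (Module.finrank (IsLocalRing.ResidueField R)
      (Coh.HH Γ.curve.left (ClSub.quotMod (D.comap Γ.ι)) 0) : ℤ) := by
  haveI := isProper_curve Γ
  rw [inter_eq]
  exact (Groth.Agent.Lib.T2H9.ArInterD.deg_pullback_eq_finrank _ Γ.ι Γ.dim_eq D hD L hL hη).2

theorem inter_nonneg (D : X.left.IdealSheafData) (hD : PicF.IsInvertible (ClSub.idealMod D))
    (L : X.left.Modules) (hL : ClSub.IsInverseOf L (ClSub.idealMod D))
    (hη : Γ.ι.base (genericPoint Γ.curve.left) ∉ D.support) :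
    0 ≤ ArSurf.inter R X L Γ := by
  rw [inter_eq_finrank Γ D hD L hL hη]
  positivity

theorem inter_eq_zero_iff (D : X.left.IdealSheafData) (hD : PicF.IsInvertible (ClSub.idealMod D))
    (L : X.left.Modules) (hL : ClSub.IsInverseOf L (ClSub.idealMod D))
    (hη : Γ.ι.base (genericPoint Γ.curve.left) ∉ D.support) :
    ArSurf.inter R X L Γ = 0 ↔ Disjoint (Set.range Γ.ι.base) (D.support : Set X.left) := by
  haveI := isProper_curve Γ
  rw [inter_eq_finrank Γ D hD L hL hη]
  have hηJ : genericPoint Γ.curve.left ∉ (D.comap Γ.ι).support := by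
    rw [Scheme.IdealSheafData.support_comap]
    exact hη
  rw [Nat.cast_eq_zero, finrank_quotMod_eq_zero_iff _ Γ.dim_eq _ hηJ,
    Scheme.IdealSheafData.support_comap]
  rw [Set.disjoint_left]
  constructor
  · rintro h _ ⟨y, rfl⟩ hy
    have : y ∈ (∅ : Set Γ.curve.left) := by
      rw [← h]
      exact hy
    exact this
  · intro h
    ext y
    simp only [Set.mem_empty_iff_false, iff_false]
    intro hy
    exact h ⟨y, rfl⟩ hy

end Groth.Agent.Lib.T2H9.ArInterE
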