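import Groth.Agent.Lib.T2H9ArInterE
import Groth.Agent.Lib.T2H9ArInterB
set_option backward.isDefEq.respectTransparency.types false

/-!
# T2H9ArInterF (helper9): off-diagonal intersection numbers of the components of the closed fibre
-/

set_option autoImplicit false
set_option linter.style.haveILetI false
set_option linter.unusedSectionVars false
universe u

open AlgebraicGeometry CategoryTheory Limits TopologicalSpace Opposite

namespace Groth.Agent.Lib.T2H9.ArInterF

open Groth.Agent.Lib.T2H4.FibreComp Groth.Agent.Lib.T2H9.ArInterA Groth.Agent.Lib.T2H9.ArInterE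

variable {R : Type u} [CommRing R] [IsDomain R] [IsDiscreteValuationRing R]
  {X : Over (Spec (CommRingCat.of R))}

/-- the generic point of a component does not lie on another component -/
theorem genPt_notMem_support_of_ne {n : ℕ} (Γ : Fin n → ArSurf.VertComp R X)
    (hΓ : Models.IsComponentList R X Γ) {i j : Fin n} (hij : i ≠ j) :
    (Γ i).ι.base (genericPoint (Γ i).curve.left) ∉ (Γ j).ι.ker.support := by
  intro hmem
  have hcomp := range_mem_fibreComponents Γ hΓ
  have hξgen : IsGenericPoint (Models.genPtOf R X (Γ i)) ((Γ i).ι.ker.support : Set X.left) :=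
    isGenericPoint_genPtOf (Γ i)
  have hsub : Set.range (Γ i).ι ⊆ Set.range (Γ j).ι := by
    rw [← coe_support_ker, ← coe_support_ker, ← hξgen.def]
    exact closure_minimal (Set.singleton_subset_iff.2 hmem) (Γ j).ι.ker.support.isClosed
  have heq : Set.range (Γ j).ι = Set.range (Γ i).ι :=
    Set.Subset.antisymm ((hcomp i).2 (hcomp j).1 hsub) hsub
  exact hij (hΓ.1 heq).symm

variable [IsProper X.hom] [Flat X.hom] [IsLocallyNoetherian X.left]

theorem isInvertible_idealMod_ker (hreg : Models.IsRegularScheme X.left)
    {n : ℕ} (Γ : Fin n → ArSurf.VertComp R X) (hΓ : Models.IsComponentList R X Γ) (j : Fin n) :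
    PicF.IsInvertible (ClSub.idealMod (Γ j).ι.ker) :=
  Groth.Agent.Lib.T2H4.AmpleCartier.isInvertible_idealMod _
    (isEffCartierIdeal_ker hreg (Γ j) (range_mem_fibreComponents Γ hΓ j))

/-- **off-diagonal intersection numbers** are non-negative and vanish exactly for disjoint components -/
theorem inter_offDiag (hreg : Models.IsRegularScheme X.left)
    {n : ℕ} (Γ : Fin n → ArSurf.VertComp R X) (hΓ : Models.IsComponentList R X Γ)
    (L : Fin n → X.left.Modules) (hL : ∀ j, ClSub.IsInverseOf (L j) (ClSub.idealMod (Γ j).ι.ker))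
    {i j : Fin n} (hij : i ≠ j) :
    0 ≤ ArSurf.inter R X (L j) (Γ i) ∧
      (ArSurf.inter R X (L j) (Γ i) = 0 ↔
        Disjoint (Set.range ((Γ i).ι.base : (Γ i).curve.left → X.left))
          (Set.range ((Γ j).ι.base : (Γ j).curve.left → X.left))) := by
  have hinv := isInvertible_idealMod_ker hreg Γ hΓ j
  have hη := genPt_notMem_support_of_ne Γ hΓ hij
  refine ⟨inter_nonneg (Γ i) _ hinv (L j) (hL j) hη, ?_⟩
  rw [inter_eq_zero_iff (Γ i) _ hinv (L j) (hL j) hη, coe_support_ker]

end Groth.Agent.Lib.T2H9.ArInterF
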