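import Groth.Agent.Lib.T2H9ArInterF
import Groth.Agent.Lib.T2H9P1IsoC
set_option backward.isDefEq.respectTransparency.types false

/-!
# T2H9ArInterG (helper9): symmetry of the intersection numbers of two distinct curves
-/

set_option autoImplicit false
set_option linter.style.haveILetI false
set_option linter.unusedSectionVars false
universe u

open AlgebraicGeometry CategoryTheory Limits TopologicalSpace Opposite

namespace Groth.Agent.Lib.T2H9.ArInterG

section hRank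

variable (k : Type u) [Field k]

theorem hRank_pushforward {Z Y : Scheme.{u}} (f : Z ⟶ Y) [IsAffineHom f] (g : Y ⟶ Spec (CommRingCat.of k))
    (F : Z.Modules) [F.IsQuasicoherent] (p : ℕ) :
    Models.hRank k Y g ((Scheme.Modules.pushforward f).obj F) p = Models.hRank k Z (f ≫ g) F p := by
  letI : Y.Over (Spec (CommRingCat.of k)) := ⟨g⟩
  letI : Z.Over (Spec (CommRingCat.of k)) := ⟨f ≫ g⟩
  exact Groth.Agent.Lib.T2H6.TensorDegGen.finrank_HH_pushforward f k rfl F p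

theorem hRank_structureModule_of_iso {Z Z' : Scheme.{u}} (e : Z ≅ Z') (g' : Z' ⟶ Spec (CommRingCat.of k))
    (p : ℕ) :
    Models.hRank k Z (e.hom ≫ g') (Coh.structureModule Z) p =
      Models.hRank k Z' g' (Coh.structureModule Z') p := by
  letI : Z'.Over (Spec (CommRingCat.of k)) := ⟨g'⟩
  letI : Z.Over (Spec (CommRingCat.of k)) := ⟨e.hom ≫ g'⟩
  haveI : (Coh.structureModule Z').IsQuasicoherent :=
    Groth.Agent.Lib.Helper23.Serre.isQuasicoherent_structureModule' Z'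
  have h1 := Groth.Agent.Lib.T2H9.P1Iso.finrank_HH_pullback_of_isIso k e.hom rfl (Coh.structureModule Z') p
  have h2 := Groth.Agent.Lib.T2H6.FieldBC.finrank_HH_eq_of_iso k Z
    (Groth.Agent.Lib.Helper23.PB.pullbackUnitIso e.hom) p
  exact h2.symm.trans h1

theorem hRank_congr {Z : Scheme.{u}} {g g' : Z ⟶ Spec (CommRingCat.of k)} (h : g = g') (F : Z.Modules) (p : ℕ) :
    Models.hRank k Z g F p = Models.hRank k Z g' F p := by
  subst h; rfl

/-- the sections of `O_Y / f^{-1} I(Y₂)` are the functions on the fibre product -/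
theorem hRank_quotMod_comap {X Y Y₂ : Scheme.{u}} (f : Y ⟶ X) (ι₂ : Y₂ ⟶ X) [IsClosedImmersion ι₂]
    (g : Y ⟶ Spec (CommRingCat.of k)) (p : ℕ) :
    Models.hRank k Y g (ClSub.quotMod (ι₂.ker.comap f)) p =
      Models.hRank k (pullback f ι₂) (pullback.fst f ι₂ ≫ g) (Coh.structureModule _) p := by
  haveI : (Coh.structureModule (ι₂.ker.comap f).subscheme).IsQuasicoherent :=
    Groth.Agent.Lib.Helper23.Serre.isQuasicoherent_structureModule' _
  rw [hRank_pushforward k (ι₂.ker.comap f).subschemeι g _ p]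
  let a : pullback f ι₂ ≅ pullback f ι₂.ker.subschemeι :=
    asIso (pullback.map f ι₂ f ι₂.imageι (𝟙 Y) ι₂.toImage (𝟙 X) (by simp) (by simp))
  let e : (ι₂.ker.comap f).subscheme ≅ pullback f ι₂ := (ι₂.ker.comapIso f) ≪≫ a.symm
  have he : e.hom ≫ pullback.fst f ι₂ = (ι₂.ker.comap f).subschemeι := by
    have h1 : a.hom ≫ pullback.fst f ι₂.ker.subschemeι = pullback.fst f ι₂ := by
      simp only [a, asIso_hom]
      exact (pullback.lift_fst _ _ _).trans (Category.comp_id _)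
    have h2 : a.inv ≫ pullback.fst f ι₂ = pullback.fst f ι₂.ker.subschemeι := by
      rw [← h1, Iso.inv_hom_id_assoc]
    simp only [e, Iso.trans_hom, Iso.symm_hom, Category.assoc, h2]
    exact Scheme.IdealSheafData.comapIso_hom_fst _ _
  rw [← hRank_structureModule_of_iso k e (pullback.fst f ι₂ ≫ g) p]
  exact hRank_congr k (by rw [← Category.assoc, he]) _ p

/-- **symmetry** -/
theorem hRank_quotMod_comap_symm {X Y₁ Y₂ : Scheme.{u}} (ι₁ : Y₁ ⟶ X) (ι₂ : Y₂ ⟶ X)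
    [IsClosedImmersion ι₁] [IsClosedImmersion ι₂]
    (g₁ : Y₁ ⟶ Spec (CommRingCat.of k)) (g₂ : Y₂ ⟶ Spec (CommRingCat.of k))
    (hg : pullback.fst ι₁ ι₂ ≫ g₁ = pullback.snd ι₁ ι₂ ≫ g₂) (p : ℕ) :
    Models.hRank k Y₁ g₁ (ClSub.quotMod (ι₂.ker.comap ι₁)) p =
      Models.hRank k Y₂ g₂ (ClSub.quotMod (ι₁.ker.comap ι₂)) p := by
  rw [hRank_quotMod_comap k ι₁ ι₂ g₁ p, hRank_quotMod_comap k ι₂ ι₁ g₂ p]
  rw [← hRank_structureModule_of_iso k (pullbackSymmetry ι₁ ι₂) (pullback.fst ι₂ ι₁ ≫ g₂) p]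
  refine hRank_congr k ?_ _ p
  rw [hg, ← Category.assoc, pullbackSymmetry_hom_comp_fst]

end hRank

end Groth.Agent.Lib.T2H9.ArInterG

namespace Groth.Agent.Lib.T2H9.ArInterG

open Groth.Agent.Lib.T2H9.ArInterA Groth.Agent.Lib.T2H9.ArInterE

variable {R : Type u} [CommRing R] [IsDomain R] [IsDiscreteValuationRing R]
  {X : Over (Spec (CommRingCat.of R))} [IsProper X.hom]

theorem fst_hom_eq_snd_hom (Γ₁ Γ₂ : ArSurf.VertComp R X) :
    pullback.fst Γ₁.ι Γ₂.ι ≫ Γ₁.curve.hom = pullback.snd Γ₁.ι Γ₂.ι ≫ Γ₂.curve.hom := by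
  haveI : IsClosedImmersion (Spec.map (CommRingCat.ofHom (IsLocalRing.residue R))) :=
    IsClosedImmersion.spec_of_surjective _ IsLocalRing.residue_surjective
  rw [← cancel_mono (Spec.map (CommRingCat.ofHom (IsLocalRing.residue R))), Category.assoc, Category.assoc,
    ← Γ₁.w, ← Γ₂.w, ← Category.assoc, ← Category.assoc, pullback.condition]

/-- **symmetry of the intersection number of two curves without common component** -/
theorem inter_symm_of_notMem (Γ₁ Γ₂ : ArSurf.VertComp R X)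
    (hinv₁ : PicF.IsInvertible (ClSub.idealMod Γ₁.ι.ker))
    (hinv₂ : PicF.IsInvertible (ClSub.idealMod Γ₂.ι.ker))
    (L₁ L₂ : X.left.Modules) (h₁ : ClSub.IsInverseOf L₁ (ClSub.idealMod Γ₁.ι.ker))
    (h₂ : ClSub.IsInverseOf L₂ (ClSub.idealMod Γ₂.ι.ker))
    (hη₁ : Γ₁.ι.base (genericPoint Γ₁.curve.left) ∉ Γ₂.ι.ker.support)
    (hη₂ : Γ₂.ι.base (genericPoint Γ₂.curve.left) ∉ Γ₁.ι.ker.support) :
    ArSurf.inter R X L₂ Γ₁ = ArSurf.inter R X L₁ Γ₂ := by
  rw [inter_eq_finrank Γ₁ _ hinv₂ L₂ h₂ hη₁, inter_eq_finrank Γ₂ _ hinv₁ L₁ h₁ hη₂]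
  have h := hRank_quotMod_comap_symm (IsLocalRing.ResidueField R) Γ₁.ι Γ₂.ι Γ₁.curve.hom Γ₂.curve.hom
    (fst_hom_eq_snd_hom Γ₁ Γ₂) 0
  exact congrArg (Nat.cast (R := ℤ)) h

end Groth.Agent.Lib.T2H9.ArInterG
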