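import Groth.Agent.Lib.T2H9ArInterG
import Groth.Agent.Lib.T2H9ArInterC
set_option backward.isDefEq.respectTransparency.types false

/-!
# T2H9ArInterH (helper9): symmetry and numerical triviality of the fibre, for the component list of a regular model
-/

set_option autoImplicit false
set_option linter.style.haveILetI false
set_option linter.unusedSectionVars false
universe u

open AlgebraicGeometry CategoryTheory Limits TopologicalSpace Opposite

namespace Groth.Agent.Lib.T2H9.ArInterH

open Groth.Agent.Lib.T2H9.ArInterA Groth.Agent.Lib.T2H9.ArInterE Groth.Agent.Lib.T2H9.ArInterF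
  Groth.Agent.Lib.T2H9.ArInterG

variable {R : Type u} [CommRing R] [IsDomain R] [IsDiscreteValuationRing R]
  {X : Over (Spec (CommRingCat.of R))} [IsProper X.hom] [Flat X.hom] [IsLocallyNoetherian X.left]

theorem inter_symm (hreg : Models.IsRegularScheme X.left)
    {n : ℕ} (Γ : Fin n → ArSurf.VertComp R X) (hΓ : Models.IsComponentList R X Γ)
    (L : Fin n → X.left.Modules) (hL : ∀ j, ClSub.IsInverseOf (L j) (ClSub.idealMod (Γ j).ι.ker))
    (i j : Fin n) :
    ArSurf.inter R X (L j) (Γ i) = ArSurf.inter R X (L i) (Γ j) := by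
  by_cases hij : i = j
  · subst hij; rfl
  · exact inter_symm_of_notMem (Γ i) (Γ j) (isInvertible_idealMod_ker hreg Γ hΓ i)
      (isInvertible_idealMod_ker hreg Γ hΓ j) (L i) (L j) (hL i) (hL j)
      (genPt_notMem_support_of_ne Γ hΓ hij) (genPt_notMem_support_of_ne Γ hΓ (Ne.symm hij))

theorem sum_mult_mul_inter_right (hreg : Models.IsRegularScheme X.left)
    {n : ℕ} (Γ : Fin n → ArSurf.VertComp R X) (hΓ : Models.IsComponentList R X Γ)
    (L : Fin n → X.left.Modules) (hL : ∀ j, ClSub.IsInverseOf (L j) (ClSub.idealMod (Γ j).ι.ker))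
    (j : Fin n) :
    ∑ i, (Models.mult R X (Γ i) : ℤ) * ArSurf.inter R X (L j) (Γ i) = 0 := by
  rw [← Groth.Agent.Lib.T2H9.ArInterB.sum_mult_mul_inter hreg Γ hΓ L hL (Γ j)]
  exact Finset.sum_congr rfl fun i _ => by rw [inter_symm hreg Γ hΓ L hL i j]

end Groth.Agent.Lib.T2H9.ArInterH
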