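import Groth.Agent.Lib.T2H9SteinNormal
import Groth.Agent.Lib.Helper7Dim
import Groth.Agent.Lib.Helper3DimCons

set_option autoImplicit false
set_option linter.style.haveILetI false
set_option linter.unusedSectionVars false
set_option linter.unusedVariables false
universe u
open CategoryTheory AlgebraicGeometry Limits TopologicalSpace Opposite

namespace Groth.Agent.Lib.T2H9.FibBirat

section Top

open Order Groth.Agent.Lib.Helper7

variable {T : Type*} [TopologicalSpace T]

attribute [local instance] specializationOrder

/-- a proper closed subset of an irreducible sober space has smaller dimension -/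
theorem topologicalKrullDim_add_one_le_of_isClosed [QuasiSober T] [T0Space T] [IrreducibleSpace T]
    (Z : Set T) (hZ : IsClosed Z) (hne : Z ≠ Set.univ) :
    topologicalKrullDim Z + 1 ≤ topologicalKrullDim T := by
  haveI : QuasiSober Z := hZ.isClosedEmbedding_subtypeVal.quasiSober
  have e1 : topologicalKrullDim Z = @krullDim Z (Subtype.preorder _) := by
    rw [topologicalKrullDim_eq_krullDim_points (X := Z)]
    exact @krullDim_eq_of_orderIso Z Z (specializationOrder Z).toPreorder (Subtype.preorder _)
      { toEquiv := Equiv.refl Z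
        map_rel_iff' := fun {a b} => (subtype_specializes_iff b a).symm }
  rw [e1, topologicalKrullDim_eq_krullDim_points (X := T)]
  have hη : genericPoint T ∉ Z := by
    intro h
    apply hne
    rw [Set.eq_univ_iff_forall]
    intro t
    have h1 : genericPoint T ⤳ t := (genericPoint_spec T).specializes (Set.mem_univ t)
    exact h1.mem_closed hZ h
  have hmono : StrictMono (Subtype.val : Z → T) := fun a b hab => hab
  have hlt : ∀ z : Z, (z : T) < genericPoint T := by
    intro z
    rw [specializationOrder_lt_iff]
    exact ⟨(genericPoint_spec T).specializes (Set.mem_univ _), fun h => hη (h ▸ z.2)⟩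
  have key : ∀ z : Z, (height z : ℕ∞) + 1 ≤ height (genericPoint T) := fun z =>
    (add_le_add_left (height_le_height_apply_of_strictMono _ hmono z) 1).trans
      (height_add_one_le (hlt z))
  rcases isEmpty_or_nonempty Z with hemp | hnemp
  · rw [krullDim_eq_bot]
    simp
  · rw [krullDim_eq_iSup_height_of_nonempty]
    have h1 : (⨆ z : Z, height z) + 1 ≤ height (genericPoint T) := by
      rw [ENat.iSup_add]
      exact iSup_le key
    calc ((⨆ z : Z, height z : ℕ∞) : WithBot ℕ∞) + 1
        = (((⨆ z : Z, height z) + 1 : ℕ∞) : WithBot ℕ∞) := by norm_cast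
      _ ≤ ((height (genericPoint T) : ℕ∞) : WithBot ℕ∞) := WithBot.coe_le_coe.mpr h1
      _ ≤ krullDim T := height_le_krullDim _

end Top

section main

variable {X Y : Scheme.{u}} [IsIntegral X] [IsIntegral Y] (f : X ⟶ Y)
  (hdom : f.base (genericPoint X) ⤳ genericPoint Y)

open Groth.Agent.Lib.T2H9.SteinNormal

/-- a proper closed subset of `X` does not dominate `Y` when `dim X = dim Y < ∞` -/
theorem image_ne_univ (hcl : IsClosedMap f.base) (hfin : topologicalKrullDim X < ⊤)
    (hdim : topologicalKrullDim X = topologicalKrullDim Y) (Z : Set X) (hZ : IsClosed Z)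
    (hne : Z ≠ Set.univ) : f.base '' Z ≠ Set.univ := by
  intro himg
  haveI : QuasiSober Z := hZ.isClosedEmbedding_subtypeVal.quasiSober
  let g : Z → Y := fun z => f.base z.1
  have hgs : Function.Surjective g := by
    intro y
    obtain ⟨x, hx, rfl⟩ := (Set.eq_univ_iff_forall.mp himg) y
    exact ⟨⟨x, hx⟩, rfl⟩
  have hgsp : SpecializingMap g := by
    intro z y hzy
    obtain ⟨x', hx', rfl⟩ := hcl.specializingMap hzy
    have hx'Z : x' ∈ Z := hx'.mem_closed hZ z.2
    exact ⟨⟨x', hx'Z⟩, (subtype_specializes_iff z ⟨x', hx'Z⟩).mpr hx', rfl⟩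
  have h1 : topologicalKrullDim Y ≤ topologicalKrullDim Z :=
    Groth.Agent.Lib.Helper7.topologicalKrullDim_le_of_specializingMap g hgs hgsp
  have h2 := topologicalKrullDim_add_one_le_of_isClosed Z hZ hne
  have h3 : topologicalKrullDim Z + 1 ≤ topologicalKrullDim Z := by
    rw [hdim] at h2
    exact h2.trans h1
  have h4 : topologicalKrullDim Z < ⊤ := by
    refine lt_of_le_of_lt ?_ hfin
    exact le_trans (le_add_of_nonneg_right zero_le_one) h2
  have h5 : topologicalKrullDim Z ≠ ⊥ := by
    intro h
    rw [h, le_bot_iff, ← hdim] at h1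
    have : (0 : WithBot ℕ∞) ≤ topologicalKrullDim X := by
      unfold topologicalKrullDim
      haveI : Nonempty (IrreducibleCloseds X) :=
        ⟨⟨Set.univ, (IrreducibleSpace.isIrreducible_univ X), isClosed_univ⟩⟩
      exact Order.krullDim_nonneg
    rw [h1] at this
    exact absurd this (by simp)
  revert h3 h4 h5
  generalize topologicalKrullDim Z = a
  intro h3 h4 h5
  induction a using WithBot.recBotCoe with
  | bot => exact h5 rfl
  | coe a =>
    induction a using ENat.recTopCoe with
    | top => exact absurd h4 (by simp)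
    | coe n =>
      have : ((n + 1 : ℕ) : WithBot ℕ∞) ≤ (n : WithBot ℕ∞) := by exact_mod_cast h3
      have : n + 1 ≤ n := by exact_mod_cast this
      omega

include hdom in
/-- a fibration between integral schemes of the same finite dimension is birational -/
theorem surjective_stalkToFunctionField (hcl : IsClosedMap f.base)
    (hfin : topologicalKrullDim X < ⊤) (hdim : topologicalKrullDim X = topologicalKrullDim Y)
    (hfib : ∀ U : Y.Opens, IsIso (f.app U)) :
    Function.Surjective (CohIII.stalkToFunctionField f (genericPoint Y) hdom) := by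
  intro x
  obtain ⟨W, hW, s, hs⟩ := TopCat.Presheaf.exists_germ_eq X.presheaf (x := genericPoint X) x
  have hZne : ((W : Set X)ᶜ) ≠ Set.univ := by
    intro h
    have : genericPoint X ∈ ((W : Set X)ᶜ) := h ▸ Set.mem_univ _
    exact this hW
  have himg := image_ne_univ f hcl hfin hdim ((W : Set X)ᶜ) W.isOpen.isClosed_compl hZne
  let U : Y.Opens := ⟨(f.base '' ((W : Set X)ᶜ))ᶜ,
    (hcl _ W.isOpen.isClosed_compl).isOpen_compl⟩
  haveI hUne : Nonempty U := by
    obtain ⟨y, hy⟩ := (Set.ne_univ_iff_exists_notMem _).mp himg
    exact ⟨⟨y, hy⟩⟩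
  have hle : f ⁻¹ᵁ U ≤ W := by
    intro x' hx'
    by_contra hcon
    exact hx' ⟨x', hcon, rfl⟩
  haveI := hfib U
  obtain ⟨s₀, hs₀⟩ := (ConcreteCategory.bijective_of_isIso (f.app U)).2
    (X.presheaf.map (homOfLE hle).op s)
  refine ⟨Y.germToFunctionField U s₀, ?_⟩
  rw [← germ_app f hdom U s₀, hs₀, ← hs]
  haveI := nonempty_preimage f hdom U
  exact ConcreteCategory.congr_hom (X.presheaf.germ_res (homOfLE hle) (genericPoint X)
    (genericPoint_mem_preimage f hdom U)) s

end main

end Groth.Agent.Lib.T2H9.FibBirat
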