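import Groth.Agent.Lib.T2H9ArInterH
import Groth.Agent.Lib.T2H9FibBirat
set_option backward.isDefEq.respectTransparency.types false

/-!
# T2H9ArInterI (helper9): on an arithmetic surface every vertical prime divisor is a component of the closed fibre
-/

set_option autoImplicit false
set_option linter.style.haveILetI false
set_option linter.unusedSectionVars false
universe u

open AlgebraicGeometry CategoryTheory Limits TopologicalSpace Opposite

namespace Groth.Agent.Lib.T2H9.ArInterI

section Top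

variable {X Y₁ Y₂ : Type*} [TopologicalSpace X] [TopologicalSpace Y₁] [TopologicalSpace Y₂]

/-- a closed subspace strictly inside an irreducible closed subspace has smaller dimension -/
theorem topologicalKrullDim_add_one_le_of_range_ssubset [QuasiSober Y₂] [T0Space Y₂] [IrreducibleSpace Y₂]
    (f₁ : Y₁ → X) (f₂ : Y₂ → X) (h₁ : Topology.IsClosedEmbedding f₁) (h₂ : Topology.IsClosedEmbedding f₂)
    (hsub : Set.range f₁ ⊆ Set.range f₂) (hne : Set.range f₁ ≠ Set.range f₂) :
    topologicalKrullDim Y₁ + 1 ≤ topologicalKrullDim Y₂ := by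
  set Z : Set Y₂ := f₂ ⁻¹' Set.range f₁ with hZ
  have hZc : IsClosed Z := h₁.isClosed_range.preimage h₂.continuous
  have hZne : Z ≠ Set.univ := by
    intro h
    apply hne
    refine Set.Subset.antisymm hsub ?_
    rintro _ ⟨y, rfl⟩
    have : y ∈ Z := h ▸ Set.mem_univ y
    exact this
  have hlt := Groth.Agent.Lib.T2H9.FibBirat.topologicalKrullDim_add_one_le_of_isClosed Z hZc hZne
  -- the map `Y₁ → Z`
  let e := h₂.isEmbedding.toHomeomorph
  let θ₀ : Y₁ → Y₂ := fun y => e.symm ⟨f₁ y, hsub ⟨y, rfl⟩⟩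
  have hθ₀ : ∀ y, f₂ (θ₀ y) = f₁ y := by
    intro y
    have h := e.apply_symm_apply ⟨f₁ y, hsub ⟨y, rfl⟩⟩
    exact congrArg Subtype.val h
  have hθ₀c : Continuous θ₀ :=
    e.symm.continuous.comp (h₁.continuous.subtype_mk _)
  let θ : Y₁ → Z := fun y => ⟨θ₀ y, by
    change f₂ (θ₀ y) ∈ Set.range f₁
    rw [hθ₀]
    exact ⟨y, rfl⟩⟩
  have hθc : Continuous θ := hθ₀c.subtype_mk _
  have hind : Topology.IsInducing θ := by
    refine Topology.IsInducing.of_comp hθc (h₂.continuous.comp continuous_subtype_val) ?_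
    have : (f₂ ∘ Subtype.val) ∘ θ = f₁ := by
      funext y
      exact hθ₀ y
    rw [this]
    exact h₁.isInducing
  have hle := hind.topologicalKrullDim_le
  exact (add_le_add_left hle 1).trans hlt

end Top

end Groth.Agent.Lib.T2H9.ArInterI

namespace Groth.Agent.Lib.T2H9.ArInterI

open Groth.Agent.Lib.T2H4.FibreComp

variable {R : Type u} [CommRing R] [IsDomain R] [IsDiscreteValuationRing R]
  {X : Over (Spec (CommRingCat.of R))}

theorem range_subset_specialFibreSet (Γ : ArSurf.VertComp R X) :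
    Set.range Γ.ι ⊆ Models.specialFibreSet R X := by
  rintro _ ⟨y, rfl⟩
  have h1 : X.hom.base (Γ.ι.base y) = (Γ.ι ≫ X.hom).base y := rfl
  have h2 : X.hom.base (Γ.ι.base y) = IsLocalRing.closedPoint R := by
    rw [h1, Γ.w]
    exact IsLocalRing.PrimeSpectrum.comap_residue R _
  exact h2

/-- the closed fibre of a flat integral `R`-scheme is not everything -/
theorem specialFibreSet_ne_univ [Flat X.hom] [Nonempty X.left] :
    Models.specialFibreSet R X ≠ Set.univ := by
  intro h
  obtain ⟨ϖ, hϖ⟩ := IsDiscreteValuationRing.exists_irreducible R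
  obtain ⟨x⟩ := ‹Nonempty X.left›
  obtain ⟨U, hU, hxU, -⟩ := exists_isAffineOpen_mem_and_subset (x := x) (U := ⊤) trivial
  have hreg := secHom_mem_nonZeroDivisors R X ⟨U, hU⟩ ϖ hϖ.ne_zero
  -- `ϖ` lies in every prime of `Γ(X, U)`
  have hnil : IsNilpotent (secHom R X U ϖ) := by
    rw [← mem_nilradical, nilradical_eq_sInf, Ideal.mem_sInf]
    intro P hP
    have hP' : P.IsPrime := hP
    have hy : hU.fromSpec ⟨P, hP'⟩ ∈ (Models.specialFibreIdeal R X).support := by
      rw [← SetLike.mem_coe, support_specialFibreIdeal, h]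
      trivial
    rw [Groth.Agent.Lib.T2H4.EffCartProd.fromSpec_mem_support_iff _ ⟨U, hU⟩] at hy
    apply hy
    rw [specialFibreIdeal_ideal_eq_span R X ϖ hϖ ⟨U, hU⟩]
    exact Ideal.mem_span_singleton_self _
  obtain ⟨n, hn⟩ := hnil
  have h0 : (1 : Γ(X.left, U)) = 0 := by
    have hpow : secHom R X U ϖ ^ n ∈ nonZeroDivisors Γ(X.left, U) := pow_mem hreg n
    have := (mem_nonZeroDivisors_iff.mp hpow).1 1 (by rw [hn, zero_mul])
    exact this
  haveI : Nonempty U := ⟨⟨x, hxU⟩⟩
  haveI : Nontrivial Γ(X.left, U) := by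
    have := hU.isoSpec
    exact (Scheme.component_nontrivial X.left U)
  exact one_ne_zero h0

/-- **on a flat integral two-dimensional `R`-scheme every vertical prime divisor is a component of the closed fibre** -/
theorem range_mem_fibreComponents_of_dim [IsIntegral X.left] [Flat X.hom]
    (hdim : topologicalKrullDim X.left = 2) (Γ : ArSurf.VertComp R X) :
    Set.range Γ.ι ∈ Models.fibreComponents R X := by
  have hirr : IsIrreducible (Set.range Γ.ι) := by
    have h := (IrreducibleSpace.isIrreducible_univ Γ.curve.left).image Γ.ι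
      Γ.ι.continuous.continuousOn
    rwa [Set.image_univ] at h
  refine ⟨⟨hirr, range_subset_specialFibreSet Γ⟩, ?_⟩
  rintro S ⟨hS, hSsub⟩ hle
  have hle' : Set.range Γ.ι ⊆ S := hle
  set T : Set X.left := closure S with hT
  have hTirr : IsIrreducible T := hS.closure
  have hTc : IsClosed T := isClosed_closure
  have hTsub : T ⊆ Models.specialFibreSet R X :=
    closure_minimal hSsub (Models.isClosed_specialFibreSet R X)
  have hΓT : Set.range Γ.ι ⊆ T := hle'.trans subset_closure
  suffices h : Set.range Γ.ι = T by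
    intro x hx
    have : x ∈ T := subset_closure hx
    rw [← h] at this
    exact this
  by_contra hne
  haveI : IrreducibleSpace T := Subtype.irreducibleSpace hTirr
  haveI : QuasiSober T := hTc.isClosedEmbedding_subtypeVal.quasiSober
  have h1 := topologicalKrullDim_add_one_le_of_range_ssubset (Y₁ := Γ.curve.left) (Y₂ := T)
    Γ.ι (Subtype.val) Γ.ι.isClosedEmbedding hTc.isClosedEmbedding_subtypeVal
    (by rw [Subtype.range_coe]; exact hΓT) (by rw [Subtype.range_coe]; exact hne)
  have h2 := topologicalKrullDim_add_one_le_of_range_ssubset (Y₁ := T) (Y₂ := X.left)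
    (Subtype.val) id hTc.isClosedEmbedding_subtypeVal Topology.IsClosedEmbedding.id
    (by rw [Set.range_id]; exact Set.subset_univ _) (by
      rw [Subtype.range_coe, Set.range_id]
      intro h
      exact specialFibreSet_ne_univ (R := R) (X := X) (Set.eq_univ_of_univ_subset (h ▸ hTsub)))
  rw [Γ.dim_eq] at h1
  rw [hdim] at h2
  have h3 : (1 : WithBot ℕ∞) + 1 + 1 ≤ 2 := (add_le_add_left h1 1).trans h2
  revert h3
  decide

/-- the generic point of a component does not lie on a different component -/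
theorem genPt_notMem_support_of_range_ne (Γ₁ Γ₂ : ArSurf.VertComp R X)
    (h₁ : Set.range Γ₁.ι ∈ Models.fibreComponents R X) (h₂ : Set.range Γ₂.ι ∈ Models.fibreComponents R X)
    (hne : Set.range Γ₁.ι ≠ Set.range Γ₂.ι) :
    Γ₁.ι.base (genericPoint Γ₁.curve.left) ∉ Γ₂.ι.ker.support := by
  intro hmem
  have hξgen : IsGenericPoint (Models.genPtOf R X Γ₁) (Γ₁.ι.ker.support : Set X.left) :=
    isGenericPoint_genPtOf Γ₁
  have hsub : Set.range Γ₁.ι ⊆ Set.range Γ₂.ι := by
    rw [← coe_support_ker, ← coe_support_ker, ← hξgen.def]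
    exact closure_minimal (Set.singleton_subset_iff.2 hmem) Γ₂.ι.ker.support.isClosed
  exact hne (Set.Subset.antisymm hsub (h₁.2 h₂.1 hsub))

/-- vertical prime divisors of an arithmetic surface are effective Cartier divisors -/
theorem isInvertible_idealMod_ker_of_isArithSurface (hX : ArSurf.IsArithSurface R X) (Γ : ArSurf.VertComp R X) :
    Set.range Γ.ι ∈ Models.fibreComponents R X ∧ PicF.IsInvertible (ClSub.idealMod Γ.ι.ker) := by
  haveI := Groth.Agent.Lib.T2H9.ArInterC.isProper_of_isArithSurface hX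
  haveI : Flat X.hom := hX.2.2.2.1
  haveI : IsIntegral X.left := hX.2.1
  haveI := Groth.Agent.Lib.T2H9.ArInterC.isLocallyNoetherian_of_isProper (X := X)
  have hcomp := range_mem_fibreComponents_of_dim hX.2.2.1 Γ
  exact ⟨hcomp, Groth.Agent.Lib.T2H4.AmpleCartier.isInvertible_idealMod _
    (isEffCartierIdeal_ker hX.1 Γ hcomp)⟩

/-- **symmetry of the intersection number of two distinct vertical prime divisors of an arithmetic surface** -/
theorem inter_symm_of_ne (hX : ArSurf.IsArithSurface R X) (Γ₁ Γ₂ : ArSurf.VertComp R X)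
    (hne : Set.range Γ₁.ι.base ≠ Set.range Γ₂.ι.base)
    (L₁ L₂ : X.left.Modules) (h₁ : ClSub.IsInverseOf L₁ (ClSub.idealMod Γ₁.ι.ker))
    (h₂ : ClSub.IsInverseOf L₂ (ClSub.idealMod Γ₂.ι.ker)) :
    ArSurf.inter R X L₂ Γ₁ = ArSurf.inter R X L₁ Γ₂ := by
  haveI := Groth.Agent.Lib.T2H9.ArInterC.isProper_of_isArithSurface hX
  obtain ⟨hc₁, hi₁⟩ := isInvertible_idealMod_ker_of_isArithSurface hX Γ₁
  obtain ⟨hc₂, hi₂⟩ := isInvertible_idealMod_ker_of_isArithSurface hX Γ₂
  exact Groth.Agent.Lib.T2H9.ArInterG.inter_symm_of_notMem Γ₁ Γ₂ hi₁ hi₂ L₁ L₂ h₁ h₂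
    (genPt_notMem_support_of_range_ne Γ₁ Γ₂ hc₁ hc₂ hne)
    (genPt_notMem_support_of_range_ne Γ₂ Γ₁ hc₂ hc₁ (Ne.symm hne))

end Groth.Agent.Lib.T2H9.ArInterI
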