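import Groth.Agent.Lib.T2H9ConnZ
import Groth.Agent.Lib.T2H9SteinFinite
import Groth.Prelude.Def_Models

/-!
# Connectedness of the special fibre of a flat proper model over a DVR (helper9)

`appTop_injective`: global functions of a flat qcqs `R`-scheme inject into those of the generic
fibre; `appTop_bijective`: `R ≅ Γ(X, O_X)` when the generic fibre has only constant functions;
`connectedSpace_specialFibre` (Zariski connectedness via `T2H9ConnZ.isConnected_closedFibre`).
-/

set_option autoImplicit false
set_option linter.style.haveILetI false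
set_option linter.unusedSectionVars false
set_option linter.unusedVariables false
universe u
open CategoryTheory AlgebraicGeometry Limits TopologicalSpace Opposite

namespace Groth.Agent.Lib.T2H9.ModelConn

section dvr
variable (R : Type u) [CommRing R] [IsDomain R] [IsDiscreteValuationRing R]

/-- the fraction field of a DVR is the localization away from a uniformizer -/
theorem isLocalization_away {ϖ : R} (hϖ : Irreducible ϖ) (K : Type*) [CommRing K] [Algebra R K]
    [IsFractionRing R K] : IsLocalization.Away ϖ K := by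
  refine (IsLocalization.iff_of_le_of_exists_dvd (M := Submonoid.powers ϖ) (S := K)
    (nonZeroDivisors R) ?_ ?_).mpr inferInstance
  · rintro _ ⟨n, rfl⟩
    exact mem_nonZeroDivisors_of_ne_zero (pow_ne_zero n hϖ.ne_zero)
  · intro r hr
    obtain ⟨n, hn⟩ := IsDiscreteValuationRing.associated_pow_irreducible
      (nonZeroDivisors.ne_zero hr) hϖ
    exact ⟨ϖ ^ n, ⟨n, rfl⟩, hn.dvd⟩

end dvr

section flat

variable {X S : Scheme.{u}}

/-- a section vanishing on all affine opens vanishes -/
theorem eq_zero_of_forall_affine (b : Γ(X, ⊤))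
    (h : ∀ U : X.affineOpens, X.presheaf.map (homOfLE (le_top : U.1 ≤ ⊤)).op b = 0) : b = 0 := by
  refine X.sheaf.eq_of_locally_eq' (fun U : X.affineOpens => U.1) ⊤
    (fun U => homOfLE le_top) ?_ b 0 ?_
  · rw [iSup_affineOpens_eq_top]
  · intro U
    refine (h U).trans ?_
    exact (map_zero (X.presheaf.map (homOfLE (le_top : U.1 ≤ ⊤)).op).hom).symm

/-- sections of a scheme flat over a domain are torsion-free -/
theorem eq_zero_of_pow_mul_eq_zero {R : CommRingCat.{u}} [IsDomain R] (p : X ⟶ Spec R) [Flat p]
    (x : Γ(Spec R, ⊤)) (hx : x ≠ 0) (n : ℕ) (b : Γ(X, ⊤))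
    (h : (p.appTop x) ^ n * b = 0) : b = 0 := by
  haveI : IsDomain Γ(Spec R, ⊤) :=
    (Scheme.ΓSpecIso R).commRingCatIsoToRingEquiv.toMulEquiv.isDomain_iff.mpr inferInstance
  apply eq_zero_of_forall_affine
  intro U
  have e : U.1 ≤ p ⁻¹ᵁ ⊤ := fun _ _ => trivial
  have hfl : (p.appLE ⊤ U.1 e).hom.Flat := p.flat_appLE (isAffineOpen_top _) U.2 e
  letI := (p.appLE ⊤ U.1 e).hom.toAlgebra
  haveI : Module.Flat Γ(Spec R, ⊤) Γ(X, U.1) := hfl
  have hreg : IsSMulRegular Γ(Spec R, ⊤) x := (IsRegular.of_ne_zero hx).isSMulRegular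
  have h1 : IsSMulRegular Γ(X, U.1) (algebraMap Γ(Spec R, ⊤) Γ(X, U.1) x) :=
    IsSMulRegular.of_flat hreg
  have h2 := h1.pow n
  have e1 : algebraMap Γ(Spec R, ⊤) Γ(X, U.1) x =
      X.presheaf.map (homOfLE (le_top : U.1 ≤ ⊤)).op (p.appTop x) := rfl
  have h3 := congrArg (X.presheaf.map (homOfLE (le_top : U.1 ≤ ⊤)).op).hom h
  rw [map_mul, map_pow, map_zero] at h3
  apply h2
  change _ ^ n * _ = _ ^ n * _
  rw [mul_zero, e1]
  exact h3

/-- a global section killed by an open immersion vanishes on its range -/
theorem res_opensRange_eq_zero {C : Scheme.{u}} (g : C ⟶ X) [IsOpenImmersion g] (b : Γ(X, ⊤))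
    (h : g.appTop b = 0) :
    X.presheaf.map (homOfLE (le_top : g ''ᵁ ⊤ ≤ ⊤)).op b = 0 := by
  have hinj : Function.Injective (g.appIso ⊤).hom :=
    (ConcreteCategory.bijective_of_isIso (g.appIso ⊤).hom).1
  apply hinj
  rw [map_zero, Scheme.Hom.appIso_hom]
  have hnat := ConcreteCategory.congr_hom
    (g.naturality (homOfLE (le_top : g ''ᵁ ⊤ ≤ ⊤)).op) b
  change (C.presheaf.map _) ((g.app (g ''ᵁ ⊤)) (X.presheaf.map (homOfLE _).op b)) = 0
  rw [show (g.app (g ''ᵁ ⊤)) (X.presheaf.map (homOfLE (le_top : g ''ᵁ ⊤ ≤ ⊤)).op b) =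
    C.presheaf.map ((Opens.map g.base).map (homOfLE (le_top : g ''ᵁ ⊤ ≤ ⊤))).op (g.app ⊤ b)
    from hnat]
  have h' : g.app ⊤ b = 0 := h
  rw [h', map_zero, map_zero]

end flat

section model

variable (R : Type u) [CommRing R] [IsDomain R] [IsDiscreteValuationRing R]
variable {X C : Scheme.{u}} (p : X ⟶ Spec (CommRingCat.of R))
  (f : C ⟶ Spec (CommRingCat.of (FractionRing R))) (g : C ⟶ X)
  (h : IsPullback g f p (Spec.map (CommRingCat.ofHom (algebraMap R (FractionRing R)))))

include h in
theorem range_eq_preimage :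
    Set.range g.base = p.base ⁻¹' Set.range
      (Spec.map (CommRingCat.ofHom (algebraMap R (FractionRing R)))).base := by
  have e : g = h.isoPullback.hom ≫ pullback.fst p _ := (h.isoPullback_hom_fst).symm
  have h1 := Scheme.Pullback.range_fst p
    (Spec.map (CommRingCat.ofHom (algebraMap R (FractionRing R))))
  rw [← h1, e]
  ext z
  constructor
  · rintro ⟨c, rfl⟩
    exact ⟨h.isoPullback.hom.base c, rfl⟩
  · rintro ⟨c, rfl⟩
    refine ⟨h.isoPullback.inv.base c, ?_⟩
    change (h.isoPullback.inv ≫ h.isoPullback.hom ≫ pullback.fst p _).base c = _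
    rw [Iso.inv_hom_id_assoc]

include h in
/-- for a flat qcqs model over a DVR, global functions inject into those of the generic fibre -/
theorem appTop_injective [Flat p] [QuasiCompact p] [QuasiSeparated p] :
    Function.Injective g.appTop.hom := by
  obtain ⟨ϖ, hϖ⟩ := IsDiscreteValuationRing.exists_irreducible R
  haveI := isLocalization_away R hϖ (FractionRing R)
  haveI : IsOpenImmersion (Spec.map (CommRingCat.ofHom (algebraMap R (FractionRing R)))) :=
    IsOpenImmersion.of_isLocalization ϖ
  haveI : IsOpenImmersion g := MorphismProperty.of_isPullback h.flip inferInstance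
  haveI : CompactSpace X := (quasiCompact_iff_compactSpace p).mp inferInstance
  haveI : QuasiSeparatedSpace X := quasiSeparatedSpace_of_quasiSeparated p
  let x : Γ(Spec (CommRingCat.of R), ⊤) := (Scheme.ΓSpecIso (CommRingCat.of R)).inv ϖ
  have hx : x ≠ 0 := by
    intro h0
    have := congrArg (Scheme.ΓSpecIso (CommRingCat.of R)).hom h0
    rw [map_zero] at this
    exact hϖ.ne_zero ((Iso.inv_hom_id_apply (Scheme.ΓSpecIso (CommRingCat.of R)) ϖ).symm.trans this)
  rw [injective_iff_map_eq_zero]
  intro b hb
  have h1 := res_opensRange_eq_zero g b hb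
  have hle : X.basicOpen (p.appTop x) ≤ g ''ᵁ ⊤ := by
    intro z hz
    have hz' : z ∈ p ⁻¹ᵁ (Spec (CommRingCat.of R)).basicOpen x := by
      rw [Scheme.preimage_basicOpen]; exact hz
    have hz2 : p.base z ∈ (Spec (CommRingCat.of R)).basicOpen x := hz'
    rw [basicOpen_eq_of_affine] at hz2
    have hr : p.base z ∈ Set.range
        (Spec.map (CommRingCat.ofHom (algebraMap R (FractionRing R)))).base := by
      have := PrimeSpectrum.localization_away_comap_range (FractionRing R) ϖ
      change p.base z ∈ Set.range (PrimeSpectrum.comap (algebraMap R (FractionRing R)))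
      rw [this]
      exact hz2
    have : z ∈ Set.range g.base := by rw [range_eq_preimage R p f g h]; exact hr
    obtain ⟨c, rfl⟩ := this
    exact ⟨c, trivial, rfl⟩
  have h2 : X.presheaf.map (homOfLE (le_top : X.basicOpen (p.appTop x) ≤ ⊤)).op b = 0 := by
    have := congrArg (X.presheaf.map (homOfLE hle).op).hom h1
    rw [map_zero] at this
    refine Eq.trans ?_ this
    change _ = (X.presheaf.map (homOfLE le_top).op ≫ X.presheaf.map (homOfLE hle).op) b
    rw [← Functor.map_comp]
    rfl
  obtain ⟨n, hn⟩ := exists_of_res_zero_of_qcqs_of_top (X := X) (s := p.appTop x) (f := b) h2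
  exact eq_zero_of_pow_mul_eq_zero p x hx n b hn

include h in
/-- for a flat proper model over a DVR whose generic fibre has only constant global functions,
`R → Γ(X, O_X)` is bijective -/
theorem appTop_bijective [Flat p] [IsProper p] (hH0 : IsIso f.appTop) :
    Function.Bijective p.appTop.hom := by
  have ginj := appTop_injective R p f g h
  let ι := Spec.map (CommRingCat.ofHom (algebraMap R (FractionRing R)))
  have hcomm : ∀ r', g.appTop (p.appTop r') = f.appTop (ι.appTop r') := by
    intro r'
    have := congrArg (fun t => Scheme.Hom.appTop t) h.w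
    simp only [Scheme.Hom.comp_appTop] at this
    exact ConcreteCategory.congr_hom this r'
  have hnat : ∀ r', (Scheme.ΓSpecIso (CommRingCat.of (FractionRing R))).hom (ι.appTop r') =
      algebraMap R (FractionRing R) ((Scheme.ΓSpecIso (CommRingCat.of R)).hom r') := by
    intro r'
    exact ConcreteCategory.congr_hom
      (Scheme.ΓSpecIso_naturality (CommRingCat.ofHom (algebraMap R (FractionRing R)))) r'
  have finj : Function.Injective f.appTop.hom :=
    (ConcreteCategory.bijective_of_isIso f.appTop).1
  have fsurj : Function.Surjective f.appTop.hom :=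
    (ConcreteCategory.bijective_of_isIso f.appTop).2
  have αinj : Function.Injective (Scheme.ΓSpecIso (CommRingCat.of R)).hom.hom :=
    (ConcreteCategory.bijective_of_isIso (Scheme.ΓSpecIso (CommRingCat.of R)).hom).1
  have βinj : Function.Injective (Scheme.ΓSpecIso (CommRingCat.of (FractionRing R))).hom.hom :=
    (ConcreteCategory.bijective_of_isIso
      (Scheme.ΓSpecIso (CommRingCat.of (FractionRing R))).hom).1
  have ιinj : Function.Injective ι.appTop.hom := by
    intro a b hab
    apply αinj
    apply IsFractionRing.injective R (FractionRing R)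
    have := congrArg (Scheme.ΓSpecIso (CommRingCat.of (FractionRing R))).hom.hom hab
    exact (hnat a).symm.trans (this.trans (hnat b))
  constructor
  · intro a b hab
    apply ιinj
    apply finj
    have := congrArg g.appTop.hom hab
    exact (hcomm a).symm.trans (this.trans (hcomm b))
  · intro b
    letI := (p.app ⊤).hom.toAlgebra
    haveI : Module.Finite Γ(Spec (CommRingCat.of R), ⊤) Γ(X, p ⁻¹ᵁ ⊤) :=
      Groth.Agent.Lib.T2H9.SteinFinite.finite_sections_of_isProper p ⊤ (isAffineOpen_top _)
    have hint : IsIntegral Γ(Spec (CommRingCat.of R), ⊤) (show Γ(X, p ⁻¹ᵁ ⊤) from b) :=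
      Algebra.IsIntegral.isIntegral _
    obtain ⟨P, hP, hPb⟩ := hint
    have hPb' : Polynomial.eval₂ p.appTop.hom b P = 0 := hPb
    obtain ⟨c, hc⟩ := fsurj (g.appTop b)
    -- `c` is integral over `R`
    have h1 : Polynomial.eval₂ ι.appTop.hom c P = 0 := by
      apply finj
      rw [map_zero, Polynomial.hom_eval₂, hc]
      have e : f.appTop.hom.comp ι.appTop.hom = g.appTop.hom.comp p.appTop.hom :=
        RingHom.ext fun r' => (hcomm r').symm
      rw [e, ← Polynomial.hom_eval₂, hPb', map_zero]
    let α := (Scheme.ΓSpecIso (CommRingCat.of R)).hom.hom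
    let β := (Scheme.ΓSpecIso (CommRingCat.of (FractionRing R))).hom.hom
    have h2 : IsIntegral R (β c) := by
      refine ⟨P.map α, hP.map _, ?_⟩
      rw [Polynomial.eval₂_map]
      have e : (algebraMap R (FractionRing R)).comp α = β.comp ι.appTop.hom :=
        RingHom.ext fun r' => (hnat r').symm
      rw [e, ← Polynomial.hom_eval₂, h1, map_zero]
    obtain ⟨r, hr⟩ := IsIntegrallyClosed.algebraMap_eq_of_integral h2
    refine ⟨(Scheme.ΓSpecIso (CommRingCat.of R)).inv r, ?_⟩
    apply ginj
    refine (hcomm _).trans ?_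
    rw [← hc]
    congr 1
    apply βinj
    refine (hnat _).trans ?_
    rw [Iso.inv_hom_id_apply]
    exact hr

include h in
/-- S2209: the special fibre of a flat proper model is connected. -/
theorem connectedSpace_specialFibre [Flat p] [IsProper p] (hH0 : IsIso f.appTop) :
    ConnectedSpace ↥(Models.specialFibre R X p) := by
  have hbij := appTop_bijective R p f g h hH0
  letI : X.Over (Spec (CommRingCat.of R)) := ⟨p⟩
  haveI : IsProper (X ↘ Spec (CommRingCat.of R)) := ‹IsProper p›
  haveI : IsLocalRing Γ(Spec (CommRingCat.of R), ⊤) :=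
    (Scheme.ΓSpecIso (CommRingCat.of R)).symm.commRingCatIsoToRingEquiv.isLocalRing
  haveI : IsLocalRing Γ(X, ⊤) := (RingEquiv.ofBijective p.appTop.hom hbij).isLocalRing
  have hc := Groth.Agent.Lib.T2H9.ConnZ.isConnected_closedFibre (A := R) X
  let q : Spec (CommRingCat.of (IsLocalRing.ResidueField R)) ⟶ Spec (CommRingCat.of R) :=
    Spec.map (CommRingCat.ofHom (algebraMap R (IsLocalRing.ResidueField R)))
  have hψ : Function.Surjective (algebraMap R (IsLocalRing.ResidueField R)) :=
    IsLocalRing.residue_surjective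
  have hq : ∀ s, q.base s = IsLocalRing.closedPoint R := by
    intro s
    apply PrimeSpectrum.ext
    change Ideal.comap (algebraMap R (IsLocalRing.ResidueField R)) s.asIdeal =
      IsLocalRing.maximalIdeal R
    haveI : s.asIdeal.IsMaximal := by
      have : s.asIdeal = ⊥ := Ideal.eq_bot_of_prime s.asIdeal
      rw [this]
      exact Ideal.bot_isMaximal
    exact IsLocalRing.eq_maximalIdeal (Ideal.comap_isMaximal_of_surjective _ hψ)
  haveI : IsClosedImmersion q := IsClosedImmersion.spec_of_surjective _ hψ
  have hr : Set.range (pullback.fst p q).base = p.base ⁻¹' {IsLocalRing.closedPoint R} := by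
    rw [Scheme.Pullback.range_fst]
    congr 1
    ext z
    constructor
    · rintro ⟨s, rfl⟩
      exact hq s
    · intro hz
      exact ⟨IsLocalRing.closedPoint (IsLocalRing.ResidueField R), (hq _).trans hz.symm⟩
  change ConnectedSpace ↥(pullback p q)
  rw [((pullback.fst p q).isEmbedding.toHomeomorph).connectedSpace_iff,
    ← isConnected_iff_connectedSpace, hr]
  exact hc

end model

end Groth.Agent.Lib.T2H9.ModelConn
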