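import Groth.Agent.Lib.T2H9ArInterH
import Groth.Agent.Lib.T2H9ModelConn
set_option backward.isDefEq.respectTransparency.types false

/-!
# T2H9ArInterJ (helper9): the dual graph of the closed fibre of a regular proper model is connected
-/

set_option autoImplicit false
set_option linter.style.haveILetI false
set_option linter.unusedSectionVars false
universe u

open AlgebraicGeometry CategoryTheory Limits TopologicalSpace Opposite

namespace Groth.Agent.Lib.T2H9.ArInterJ

open Groth.Agent.Lib.T2H4.FibreComp Groth.Agent.Lib.T2H9.ArInterF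

variable {R : Type u} [CommRing R] [IsDomain R] [IsDiscreteValuationRing R]

/-- the closed fibre of a model with `H⁰(C, O_C) = K` is connected -/
theorem isConnected_specialFibreSet {C X : Scheme.{u}} (f : C ⟶ Spec (CommRingCat.of (FractionRing R)))
    (p : X ⟶ Spec (CommRingCat.of R)) (hH0 : IsIso f.appTop)
    (hX : Models.IsRegularProperModel R X p C f) :
    _root_.IsConnected (Models.specialFibreSet R (Over.mk p)) := by
  obtain ⟨⟨hflat, hlft, hqc, g, hg⟩, hprop, hreg⟩ := hX
  haveI := hflat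
  haveI := hprop
  have hbij := Groth.Agent.Lib.T2H9.ModelConn.appTop_bijective R p f g hg hH0
  letI : X.Over (Spec (CommRingCat.of R)) := ⟨p⟩
  haveI : IsProper (X ↘ Spec (CommRingCat.of R)) := ‹IsProper p›
  haveI : IsLocalRing Γ(Spec (CommRingCat.of R), ⊤) :=
    (Scheme.ΓSpecIso (CommRingCat.of R)).symm.commRingCatIsoToRingEquiv.isLocalRing
  haveI : IsLocalRing Γ(X, ⊤) := (RingEquiv.ofBijective p.appTop.hom hbij).isLocalRing
  exact Groth.Agent.Lib.T2H9.ConnZ.isConnected_closedFibre (A := R) X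

variable {X : Over (Spec (CommRingCat.of R))}

/-- the closed fibre is the union of the listed components -/
theorem specialFibreSet_eq_iUnion {n : ℕ} (Γ : Fin n → ArSurf.VertComp R X)
    (hΓ : Models.IsComponentList R X Γ) :
    Models.specialFibreSet R X = ⋃ i, Set.range (Γ i).ι := by
  apply Set.Subset.antisymm
  · intro x hx
    obtain ⟨Z, hZ, hxZ⟩ := exists_component_mem x hx
    rw [← hΓ.2] at hZ
    obtain ⟨i, rfl⟩ := hZ
    exact Set.mem_iUnion.2 ⟨i, hxZ⟩
  · refine Set.iUnion_subset fun i => ?_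
    exact (range_mem_fibreComponents Γ hΓ i).1.2

variable [IsProper X.hom] [Flat X.hom] [IsLocallyNoetherian X.left]

/-- **connectedness of the intersection graph** -/
theorem exists_inter_ne_zero (hconn : _root_.IsConnected (Models.specialFibreSet R X))
    (hreg : Models.IsRegularScheme X.left)
    {n : ℕ} (Γ : Fin n → ArSurf.VertComp R X) (hΓ : Models.IsComponentList R X Γ)
    (L : Fin n → X.left.Modules) (hL : ∀ j, ClSub.IsInverseOf (L j) (ClSub.idealMod (Γ j).ι.ker))
    (I : Finset (Fin n)) (hI : I.Nonempty) (hI' : I ≠ Finset.univ) :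
    ∃ i ∈ I, ∃ j ∉ I, ArSurf.inter R X (L j) (Γ i) ≠ 0 := by
  by_contra hcon
  push Not at hcon
  have hdisj : ∀ i ∈ I, ∀ j ∉ I, Disjoint (Set.range (Γ i).ι) (Set.range (Γ j).ι) := by
    intro i hi j hj
    have hij : i ≠ j := fun h => hj (h ▸ hi)
    exact ((inter_offDiag hreg Γ hΓ L hL hij).2).1 (hcon i hi j hj)
  set A : Set X.left := ⋃ i ∈ I, Set.range (Γ i).ι with hA
  set B : Set X.left := ⋃ j ∈ Iᶜ, Set.range (Γ j).ι with hB
  have hAc : IsClosed A :=
    I.finite_toSet.isClosed_biUnion fun i _ => (Γ i).ι.isClosedEmbedding.isClosed_range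
  have hBc : IsClosed B :=
    (Iᶜ).finite_toSet.isClosed_biUnion fun i _ => (Γ i).ι.isClosedEmbedding.isClosed_range
  have hcov : Models.specialFibreSet R X ⊆ A ∪ B := by
    rw [specialFibreSet_eq_iUnion Γ hΓ]
    refine Set.iUnion_subset fun i => ?_
    by_cases hi : i ∈ I
    · exact (Set.subset_biUnion_of_mem (u := fun i => Set.range (Γ i).ι) hi).trans Set.subset_union_left
    · have hi' : i ∈ Iᶜ := Finset.mem_compl.2 hi
      exact (Set.subset_biUnion_of_mem (u := fun i => Set.range (Γ i).ι) hi').trans Set.subset_union_right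
  obtain ⟨i₀, hi₀⟩ := hI
  obtain ⟨j₀, hj₀⟩ : ∃ j, j ∉ I := by
    by_contra h
    push Not at h
    exact hI' (Finset.eq_univ_iff_forall.2 h)
  have hsubF : ∀ i, Set.range (Γ i).ι ⊆ Models.specialFibreSet R X := fun i =>
    (range_mem_fibreComponents Γ hΓ i).1.2
  have hneA : (Models.specialFibreSet R X ∩ A).Nonempty := by
    obtain ⟨y⟩ : Nonempty (Γ i₀).curve.left := inferInstance
    exact ⟨(Γ i₀).ι y, hsubF i₀ ⟨y, rfl⟩, Set.mem_biUnion hi₀ ⟨y, rfl⟩⟩
  have hneB : (Models.specialFibreSet R X ∩ B).Nonempty := by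
    obtain ⟨y⟩ : Nonempty (Γ j₀).curve.left := inferInstance
    exact ⟨(Γ j₀).ι y, hsubF j₀ ⟨y, rfl⟩, Set.mem_biUnion (Finset.mem_compl.2 hj₀) ⟨y, rfl⟩⟩
  obtain ⟨x, -, hxA, hxB⟩ := isPreconnected_closed_iff.1 hconn.isPreconnected A B hAc hBc hcov hneA hneB
  simp only [hA, hB, Set.mem_iUnion] at hxA hxB
  obtain ⟨i, hi, hxi⟩ := hxA
  obtain ⟨j, hj, hxj⟩ := hxB
  exact Set.disjoint_left.1 (hdisj i hi j (Finset.mem_compl.1 hj)) hxi hxj

end Groth.Agent.Lib.T2H9.ArInterJ
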