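import Mathlib

/-!
# T2H9ArInterK (helper9): negative semi-definiteness of a symmetric integer matrix with non-negative off-diagonal
entries and a positive vector in its kernel (the linear algebra behind Zariski's lemma)
-/

set_option autoImplicit false
universe u

open Finset

namespace Groth.Agent.Lib.T2H9.ArInterK

variable {n : ℕ} (A : Fin n → Fin n → ℤ) (m : Fin n → ℕ)

/-- the quadratic form as a double sum -/
theorem sum_prod_eq (x : Fin n → ℚ) (a : Fin n → Fin n → ℚ) :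
    ∑ q : Fin n × Fin n, x q.1 * x q.2 * a q.1 q.2 = ∑ i, ∑ j, x i * x j * a i j :=
  Fintype.sum_prod_type _

/-- the key identity -/
theorem two_mul_quad_eq (a : Fin n → Fin n → ℚ) (μ : Fin n → ℚ) (hμ : ∀ i, μ i ≠ 0)
    (hsymm : ∀ i j, a i j = a j i) (hker : ∀ i, ∑ j, μ j * a i j = 0) (x : Fin n → ℚ) :
    2 * ∑ i, ∑ j, x i * x j * a i j =
      - ∑ i, ∑ j, a i j * μ i * μ j * (x i / μ i - x j / μ j) ^ 2 := by
  have h1 : ∀ i j, a i j * μ i * μ j * (x i / μ i - x j / μ j) ^ 2 =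
      (x i ^ 2 / μ i) * (μ j * a i j) - 2 * (x i * x j * a i j) + (x j ^ 2 / μ j) * (μ i * a j i) := by
    intro i j
    rw [hsymm j i]
    field_simp [hμ i, hμ j]
    ring
  simp only [h1, Finset.sum_add_distrib, Finset.sum_sub_distrib, ← Finset.mul_sum]
  have h2 : ∑ i, x i ^ 2 / μ i * ∑ j, μ j * a i j = 0 := by
    simp only [hker, mul_zero, Finset.sum_const_zero]
  have h3 : ∑ i, ∑ j, x j ^ 2 / μ j * (μ i * a j i) = 0 := by
    rw [Finset.sum_comm]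
    simp only [← Finset.mul_sum, hker, mul_zero, Finset.sum_const_zero]
  rw [h2, h3]
  ring

variable {A m}

theorem term_nonneg (hoff : ∀ i j, i ≠ j → 0 ≤ A i j) (x : Fin n → ℚ) (i j : Fin n) :
    0 ≤ (A i j : ℚ) * (m i : ℚ) * (m j : ℚ) * (x i / (m i : ℚ) - x j / (m j : ℚ)) ^ 2 := by
  by_cases hij : i = j
  · subst hij
    rw [sub_self, zero_pow two_ne_zero, mul_zero]
  · have h1 : (0 : ℚ) ≤ (A i j : ℚ) := by exact_mod_cast hoff i j hij
    exact mul_nonneg (mul_nonneg (mul_nonneg h1 (Nat.cast_nonneg _)) (Nat.cast_nonneg _)) (sq_nonneg _)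

theorem cast_quad (x : Fin n → ℤ) : ((∑ q : Fin n × Fin n, x q.1 * x q.2 * A q.1 q.2 : ℤ) : ℚ) =
    ∑ i, ∑ j, (x i : ℚ) * (x j : ℚ) * (A i j : ℚ) := by
  rw [Fintype.sum_prod_type]
  push_cast
  rfl

/-- **negative semi-definiteness** -/
theorem quad_nonpos (hm : ∀ i, 0 < m i) (hsymm : ∀ i j, A i j = A j i)
    (hoff : ∀ i j, i ≠ j → 0 ≤ A i j) (hker : ∀ i, ∑ j, (m j : ℤ) * A i j = 0) (x : Fin n → ℤ) :
    ∑ q : Fin n × Fin n, x q.1 * x q.2 * A q.1 q.2 ≤ 0 := by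
  have hμ : ∀ i, (m i : ℚ) ≠ 0 := fun i => by exact_mod_cast (hm i).ne'
  have hkerQ : ∀ i, ∑ j, (m j : ℚ) * (A i j : ℚ) = 0 := fun i => by exact_mod_cast hker i
  have hsymmQ : ∀ i j, (A i j : ℚ) = (A j i : ℚ) := fun i j => by rw [hsymm i j]
  have key := two_mul_quad_eq (fun i j => (A i j : ℚ)) (fun i => (m i : ℚ)) hμ hsymmQ hkerQ
    (fun i => (x i : ℚ))
  have hnn : 0 ≤ ∑ i, ∑ j, (A i j : ℚ) * (m i : ℚ) * (m j : ℚ) *
      ((x i : ℚ) / (m i : ℚ) - (x j : ℚ) / (m j : ℚ)) ^ 2 :=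
    Finset.sum_nonneg fun i _ => Finset.sum_nonneg fun j _ => term_nonneg hoff (fun i => (x i : ℚ)) i j
  have hQ : (∑ i, ∑ j, (x i : ℚ) * (x j : ℚ) * (A i j : ℚ)) ≤ 0 := by
    have key' : 2 * ∑ i, ∑ j, (x i : ℚ) * (x j : ℚ) * (A i j : ℚ) =
      - ∑ i, ∑ j, (A i j : ℚ) * (m i : ℚ) * (m j : ℚ) *
        ((x i : ℚ) / (m i : ℚ) - (x j : ℚ) / (m j : ℚ)) ^ 2 := key
    linarith
  have h2 : ((∑ q : Fin n × Fin n, x q.1 * x q.2 * A q.1 q.2 : ℤ) : ℚ) ≤ 0 := by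
    rw [cast_quad]
    exact hQ
  exact_mod_cast h2

/-- **the equality case**, for a connected matrix -/
theorem quad_eq_zero_iff (hm : ∀ i, 0 < m i) (hsymm : ∀ i j, A i j = A j i)
    (hoff : ∀ i j, i ≠ j → 0 ≤ A i j) (hker : ∀ i, ∑ j, (m j : ℤ) * A i j = 0)
    (hconn : ∀ I : Finset (Fin n), I.Nonempty → I ≠ Finset.univ → ∃ i ∈ I, ∃ j ∉ I, A i j ≠ 0)
    (x : Fin n → ℤ) :
    ∑ q : Fin n × Fin n, x q.1 * x q.2 * A q.1 q.2 = 0 ↔
      ∃ c : ℚ, ∀ i, (x i : ℚ) = c * (m i : ℚ) := by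
  have hμ : ∀ i, (m i : ℚ) ≠ 0 := fun i => by exact_mod_cast (hm i).ne'
  have hkerQ : ∀ i, ∑ j, (m j : ℚ) * (A i j : ℚ) = 0 := fun i => by exact_mod_cast hker i
  have hsymmQ : ∀ i j, (A i j : ℚ) = (A j i : ℚ) := fun i j => by rw [hsymm i j]
  have key := two_mul_quad_eq (fun i j => (A i j : ℚ)) (fun i => (m i : ℚ)) hμ hsymmQ hkerQ
    (fun i => (x i : ℚ))
  have hcast := cast_quad (A := A) x
  have key' : 2 * ∑ i, ∑ j, (x i : ℚ) * (x j : ℚ) * (A i j : ℚ) =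
      - ∑ i, ∑ j, (A i j : ℚ) * (m i : ℚ) * (m j : ℚ) *
        ((x i : ℚ) / (m i : ℚ) - (x j : ℚ) / (m j : ℚ)) ^ 2 := key
  clear key
  constructor
  · intro h0
    have h0Q : ∑ i, ∑ j, (x i : ℚ) * (x j : ℚ) * (A i j : ℚ) = 0 := by
      rw [← hcast, h0]; simp
    rw [h0Q, mul_zero] at key'
    have hsum0 : ∑ i, ∑ j, (A i j : ℚ) * (m i : ℚ) * (m j : ℚ) *
        ((x i : ℚ) / (m i : ℚ) - (x j : ℚ) / (m j : ℚ)) ^ 2 = 0 := by linarith
    have hterm : ∀ i j, (A i j : ℚ) * (m i : ℚ) * (m j : ℚ) *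
        ((x i : ℚ) / (m i : ℚ) - (x j : ℚ) / (m j : ℚ)) ^ 2 = 0 := by
      intro i j
      have h1 := (Finset.sum_eq_zero_iff_of_nonneg
        (fun i _ => Finset.sum_nonneg fun j _ => term_nonneg hoff (fun i => (x i : ℚ)) i j)).1 hsum0 i
        (Finset.mem_univ i)
      exact (Finset.sum_eq_zero_iff_of_nonneg
        (fun j _ => term_nonneg hoff (fun i => (x i : ℚ)) i j)).1 h1 j (Finset.mem_univ j)
    have hyeq : ∀ i j, A i j ≠ 0 → (x i : ℚ) / (m i : ℚ) = (x j : ℚ) / (m j : ℚ) := by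
      intro i j hA
      have h1 := hterm i j
      have hA' : (A i j : ℚ) ≠ 0 := by exact_mod_cast hA
      have h2 : ((x i : ℚ) / (m i : ℚ) - (x j : ℚ) / (m j : ℚ)) ^ 2 = 0 := by
        rcases mul_eq_zero.1 h1 with h | h
        · exact absurd h (mul_ne_zero (mul_ne_zero hA' (hμ i)) (hμ j))
        · exact h
      exact sub_eq_zero.1 ((pow_eq_zero_iff two_ne_zero).1 h2)
    rcases Nat.eq_zero_or_pos n with hn | hn
    · subst hn
      exact ⟨0, fun i => i.elim0⟩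
    · let i₀ : Fin n := ⟨0, hn⟩
      refine ⟨(x i₀ : ℚ) / (m i₀ : ℚ), fun i => ?_⟩
      let I : Finset (Fin n) := Finset.univ.filter fun i =>
        (x i : ℚ) / (m i : ℚ) = (x i₀ : ℚ) / (m i₀ : ℚ)
      have hI : I.Nonempty := ⟨i₀, by simp [I]⟩
      have hIu : I = Finset.univ := by
        by_contra hne
        obtain ⟨i, hi, j, hj, hA⟩ := hconn I hI hne
        apply hj
        have hi' : (x i : ℚ) / (m i : ℚ) = (x i₀ : ℚ) / (m i₀ : ℚ) := by
          simpa [I] using hi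
        have := hyeq i j hA
        simp only [I, Finset.mem_filter, Finset.mem_univ, true_and]
        rw [← this, hi']
      have hi : i ∈ I := hIu ▸ Finset.mem_univ i
      have hi' : (x i : ℚ) / (m i : ℚ) = (x i₀ : ℚ) / (m i₀ : ℚ) := by
        simpa [I] using hi
      rw [← hi']
      field_simp [hμ i]
  · rintro ⟨c, hc⟩
    have hQ : ∑ i, ∑ j, (x i : ℚ) * (x j : ℚ) * (A i j : ℚ) = 0 := by
      have : ∀ i, ∑ j, (x i : ℚ) * (x j : ℚ) * (A i j : ℚ) = 0 := by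
        intro i
        have h1 : ∀ j, (x i : ℚ) * (x j : ℚ) * (A i j : ℚ) = (x i : ℚ) * c * ((m j : ℚ) * (A i j : ℚ)) := by
          intro j
          rw [hc j]
          ring
        simp only [h1, ← Finset.mul_sum, hkerQ, mul_zero]
      simp only [this, Finset.sum_const_zero]
    have : ((∑ q : Fin n × Fin n, x q.1 * x q.2 * A q.1 q.2 : ℤ) : ℚ) = 0 := by rw [hcast, hQ]
    exact_mod_cast this

end Groth.Agent.Lib.T2H9.ArInterK
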