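import Groth.Agent.Lib.T2H9ArInterJ
import Groth.Agent.Lib.T2H9ArInterK
set_option backward.isDefEq.respectTransparency.types false

/-!
# T2H9ArInterL (helper9): Zariski's lemma for the closed fibre of a regular proper model
-/

set_option autoImplicit false
set_option linter.style.haveILetI false
set_option linter.unusedSectionVars false
universe u

open AlgebraicGeometry CategoryTheory Limits TopologicalSpace Opposite

namespace Groth.Agent.Lib.T2H9.ArInterL

open Groth.Agent.Lib.T2H4.FibreComp Groth.Agent.Lib.T2H9.ArInterF Groth.Agent.Lib.T2H9.ArInterH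
  Groth.Agent.Lib.T2H9.ArInterJ

section support

variable {Y : Scheme.{u}}

theorem exists_mem_support_of_mem_support_prod_pow {ι : Type*} [DecidableEq ι] (s : Finset ι)
    (I : ι → Y.IdealSheafData) (a : ι → ℕ) (x : Y) (hx : x ∈ (∏ i ∈ s, I i ^ a i).support) :
    ∃ i ∈ s, a i ≠ 0 ∧ x ∈ (I i).support := by
  induction s using Finset.induction_on with
  | empty =>
    rw [Finset.prod_empty] at hx
    change x ∈ (⊤ : Y.IdealSheafData).support at hx
    rw [Scheme.IdealSheafData.support_top] at hx
    exact absurd hx (fun h => h)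
  | insert i s hi ih =>
    rw [Finset.prod_insert hi, Scheme.IdealSheafData.support_mul] at hx
    rcases hx with hx | hx
    · by_cases h0 : a i = 0
      · rw [h0, pow_zero] at hx
        change x ∈ (⊤ : Y.IdealSheafData).support at hx
        rw [Scheme.IdealSheafData.support_top] at hx
        exact absurd hx (fun h => h)
      · rw [Scheme.IdealSheafData.support_pow _ _ h0] at hx
        exact ⟨i, Finset.mem_insert_self i s, h0, hx⟩
    · obtain ⟨j, hj, h0, hxj⟩ := ih hx
      exact ⟨j, Finset.mem_insert_of_mem hj, h0, hxj⟩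

end support

variable {R : Type u} [CommRing R] [IsDomain R] [IsDiscreteValuationRing R]
  {X : Over (Spec (CommRingCat.of R))} [IsProper X.hom] [Flat X.hom] [IsLocallyNoetherian X.left]

/-- multiplicities of components are positive -/
theorem mult_pos (hreg : Models.IsRegularScheme X.left)
    {n : ℕ} (Γ : Fin n → ArSurf.VertComp R X) (hΓ : Models.IsComponentList R X Γ) (i : Fin n) :
    0 < Models.mult R X (Γ i) := by
  haveI : CompactSpace X.left := QuasiCompact.compactSpace_of_compactSpace X.hom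
  obtain ⟨-, hprod⟩ := specialFibreIdeal_eq_prod hreg Γ hΓ
  have hξ : (Γ i).ι.base (genericPoint (Γ i).curve.left) ∈ (Models.specialFibreIdeal R X).support := by
    rw [← SetLike.mem_coe, support_specialFibreIdeal]
    exact (range_mem_fibreComponents Γ hΓ i).1.2 ⟨_, rfl⟩
  rw [hprod] at hξ
  obtain ⟨j, -, h0, hj⟩ := exists_mem_support_of_mem_support_prod_pow Finset.univ
    (fun j => (Γ j).ι.ker) (fun j => Models.mult R X (Γ j)) _ hξ
  by_cases hij : i = j
  · subst hij
    exact Nat.pos_of_ne_zero h0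
  · exact absurd hj (genPt_notMem_support_of_ne Γ hΓ hij)

/-- **Zariski's lemma** for the closed fibre of a regular proper flat `R`-scheme with connected closed fibre -/
theorem inter_form (hconn : _root_.IsConnected (Models.specialFibreSet R X))
    (hreg : Models.IsRegularScheme X.left)
    {n : ℕ} (Γ : Fin n → ArSurf.VertComp R X) (hΓ : Models.IsComponentList R X Γ)
    (L : Fin n → X.left.Modules) (hL : ∀ j, ClSub.IsInverseOf (L j) (ClSub.idealMod (Γ j).ι.ker))
    (a : Fin n → ℤ) :
    (∑ q : Fin n × Fin n, a q.1 * a q.2 * ArSurf.inter R X (L q.2) (Γ q.1)) ≤ 0 ∧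
      ((∑ q : Fin n × Fin n, a q.1 * a q.2 * ArSurf.inter R X (L q.2) (Γ q.1)) = 0 ↔
        ∃ c : ℚ, ∀ i, (a i : ℚ) = c * (Models.mult R X (Γ i) : ℚ)) := by
  have hm : ∀ i, 0 < Models.mult R X (Γ i) := mult_pos hreg Γ hΓ
  have hsymm : ∀ i j, ArSurf.inter R X (L j) (Γ i) = ArSurf.inter R X (L i) (Γ j) :=
    inter_symm hreg Γ hΓ L hL
  have hoff : ∀ i j, i ≠ j → 0 ≤ ArSurf.inter R X (L j) (Γ i) := fun i j hij =>
    (inter_offDiag hreg Γ hΓ L hL hij).1
  have hker : ∀ i, ∑ j, (Models.mult R X (Γ j) : ℤ) * ArSurf.inter R X (L j) (Γ i) = 0 := fun i =>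
    Groth.Agent.Lib.T2H9.ArInterB.sum_mult_mul_inter hreg Γ hΓ L hL (Γ i)
  have hcn := exists_inter_ne_zero hconn hreg Γ hΓ L hL
  exact ⟨Groth.Agent.Lib.T2H9.ArInterK.quad_nonpos (A := fun i j => ArSurf.inter R X (L j) (Γ i))
      hm hsymm hoff hker a,
    Groth.Agent.Lib.T2H9.ArInterK.quad_eq_zero_iff (A := fun i j => ArSurf.inter R X (L j) (Γ i))
      hm hsymm hoff hker hcn a⟩

end Groth.Agent.Lib.T2H9.ArInterL
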