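import Groth.Agent.Lib.T2H9ArInterL
import Groth.Agent.Lib.T2H9ArInterI
set_option backward.isDefEq.respectTransparency.types false

/-!
# T2H9ArInterM (helper9): the kernel of the intersection form on an arithmetic surface with connected closed fibre
-/

set_option autoImplicit false
set_option linter.style.haveILetI false
set_option linter.unusedSectionVars false
universe u

open AlgebraicGeometry CategoryTheory Limits TopologicalSpace Opposite

namespace Groth.Agent.Lib.T2H9.ArInterM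

open Groth.Agent.Lib.T2H4.FibreComp Groth.Agent.Lib.T2H9.ArInterF Groth.Agent.Lib.T2H9.ArInterH
  Groth.Agent.Lib.T2H9.ArInterJ Groth.Agent.Lib.T2H9.ArInterI Groth.Agent.Lib.T2H9.ArInterL

section LA

variable {n : ℕ} {A : Fin n → Fin n → ℤ} {m : Fin n → ℕ}

/-- the kernel of a connected Zariski matrix -/
theorem ker_iff (hm : ∀ i, 0 < m i) (hsymm : ∀ i j, A i j = A j i)
    (hoff : ∀ i j, i ≠ j → 0 ≤ A i j) (hker : ∀ i, ∑ j, (m j : ℤ) * A i j = 0)
    (hconn : ∀ I : Finset (Fin n), I.Nonempty → I ≠ Finset.univ → ∃ i ∈ I, ∃ j ∉ I, A i j ≠ 0)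
    (x : Fin n → ℤ) :
    (∀ i, ∑ j, x j * A i j = 0) ↔ ∃ c : ℚ, ∀ i, (x i : ℚ) = c * (m i : ℚ) := by
  constructor
  · intro h
    rw [← Groth.Agent.Lib.T2H9.ArInterK.quad_eq_zero_iff hm hsymm hoff hker hconn x,
      Fintype.sum_prod_type]
    refine Finset.sum_eq_zero fun i _ => ?_
    have h1 : ∑ j, x i * x j * A i j = x i * ∑ j, x j * A i j := by
      rw [Finset.mul_sum]
      exact Finset.sum_congr rfl fun j _ => by ring
    rw [h1, h i, mul_zero]
  · rintro ⟨c, hc⟩ i
    have hkerQ : ∑ j, (m j : ℚ) * (A i j : ℚ) = 0 := by exact_mod_cast hker i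
    have h1 : ((∑ j, x j * A i j : ℤ) : ℚ) = 0 := by
      push_cast
      have h2 : ∀ j, (x j : ℚ) * (A i j : ℚ) = c * ((m j : ℚ) * (A i j : ℚ)) := fun j => by
        rw [hc j]; ring
      simp only [h2, ← Finset.mul_sum, hkerQ, mul_zero]
    exact_mod_cast h1

end LA

variable {R : Type u} [CommRing R] [IsDomain R] [IsDiscreteValuationRing R]
  {X : Over (Spec (CommRingCat.of R))}

/-- a family of pairwise distinct vertical prime divisors covering the closed fibre of an arithmetic surface is the list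
of its components -/
theorem isComponentList_of_cover (hX : ArSurf.IsArithSurface R X)
    {r : ℕ} (Γ : Fin r → ArSurf.VertComp R X)
    (hdist : Function.Injective fun i => Set.range (Γ i).ι.base)
    (hcov : ∀ x : X.left, X.hom.base x = IsLocalRing.closedPoint R → ∃ i, x ∈ Set.range (Γ i).ι.base) :
    Models.IsComponentList R X Γ := by
  haveI : Flat X.hom := hX.2.2.2.1
  haveI : IsIntegral X.left := hX.2.1
  refine ⟨hdist, Set.ext fun Z => ⟨?_, fun hZ => ?_⟩⟩
  · rintro ⟨i, rfl⟩
    exact range_mem_fibreComponents_of_dim hX.2.2.1 (Γ i)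
  · classical
    have hsub : Z ⊆ ⋃₀ ((Finset.univ.image fun i => Set.range (Γ i).ι.base : Finset (Set X.left)) :
        Set (Set X.left)) := by
      intro z hz
      obtain ⟨i, hi⟩ := hcov z (hZ.1.2 hz)
      exact Set.mem_sUnion.2 ⟨_, Finset.mem_coe.2 (Finset.mem_image.2 ⟨i, Finset.mem_univ i, rfl⟩), hi⟩
    obtain ⟨W, hW, hZW⟩ := isIrreducible_iff_sUnion_isClosed.mp hZ.1.1 _ (by
      intro W hW
      obtain ⟨i, -, rfl⟩ := Finset.mem_image.1 hW
      exact (Γ i).ι.isClosedEmbedding.isClosed_range) hsub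
    obtain ⟨i, -, rfl⟩ := Finset.mem_image.1 hW
    refine ⟨i, ?_⟩
    have hi := range_mem_fibreComponents_of_dim hX.2.2.1 (Γ i)
    exact Set.Subset.antisymm (hZ.2 hi.1 hZW) hZW

theorem mult_eq_length (Γ : ArSurf.VertComp R X) :
    Models.mult R X Γ =
      (Module.length ↑(X.left.presheaf.stalk (Γ.ι.base (genericPoint ↥Γ.curve.left)))
        (↑(X.left.presheaf.stalk (Γ.ι.base (genericPoint ↥Γ.curve.left))) ⧸
          (IsLocalRing.maximalIdeal R).map
            ((X.left.presheaf.germ ⊤ (Γ.ι.base (genericPoint ↥Γ.curve.left)) trivial).hom.comp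
              (X.hom.appTop.hom.comp (Scheme.ΓSpecIso (CommRingCat.of R)).inv.hom)))).toNat := rfl

/-- **the kernel of the intersection form is spanned by the closed fibre** -/
theorem ker_inter_form (hX : ArSurf.IsArithSurface R X)
    (hconn : _root_.IsConnected (Models.specialFibreSet R X))
    {r : ℕ} (Γ : Fin r → ArSurf.VertComp R X) (hΓ : Models.IsComponentList R X Γ)
    (L : Fin r → X.left.Modules) (hL : ∀ j, ClSub.IsInverseOf (L j) (ClSub.idealMod ((Γ j).ι.ker)))
    (a : Fin r → ℤ) :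
    (∀ i, ∑ j, a j * ArSurf.inter R X (L j) (Γ i) = 0) ↔
      ∃ c : ℚ, ∀ i, (a i : ℚ) = c * (Models.mult R X (Γ i) : ℚ) := by
  haveI := Groth.Agent.Lib.T2H9.ArInterC.isProper_of_isArithSurface hX
  haveI : Flat X.hom := hX.2.2.2.1
  haveI := Groth.Agent.Lib.T2H9.ArInterC.isLocallyNoetherian_of_isProper (X := X)
  have hreg : Models.IsRegularScheme X.left := hX.1
  have hm : ∀ i, 0 < Models.mult R X (Γ i) := mult_pos hreg Γ hΓ
  have hsymm : ∀ i j, ArSurf.inter R X (L j) (Γ i) = ArSurf.inter R X (L i) (Γ j) :=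
    inter_symm hreg Γ hΓ L hL
  have hoff : ∀ i j, i ≠ j → 0 ≤ ArSurf.inter R X (L j) (Γ i) := fun i j hij =>
    (inter_offDiag hreg Γ hΓ L hL hij).1
  have hker : ∀ i, ∑ j, (Models.mult R X (Γ j) : ℤ) * ArSurf.inter R X (L j) (Γ i) = 0 := fun i =>
    Groth.Agent.Lib.T2H9.ArInterB.sum_mult_mul_inter hreg Γ hΓ L hL (Γ i)
  have hcn := exists_inter_ne_zero hconn hreg Γ hΓ L hL
  exact ker_iff (A := fun i j => ArSurf.inter R X (L j) (Γ i)) hm hsymm hoff hker hcn a

end Groth.Agent.Lib.T2H9.ArInterM
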