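import Groth.Agent.Lib.T2H9ArInterC
set_option backward.isDefEq.respectTransparency.types false

/-!
# T2H9ArInterN (helper9): a curve contracted to a point has intersection number zero with every pulled back module
-/

set_option autoImplicit false
set_option linter.style.haveILetI false
set_option linter.unusedSectionVars false
universe u

open AlgebraicGeometry CategoryTheory Limits TopologicalSpace Opposite

namespace Groth.Agent.Lib.T2H9.ArInterN

open Groth.Agent.Lib.T2H9.ArInterA

/-- the pullback of an invertible module along a morphism with image a single point is trivial -/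
theorem nonempty_pullback_iso_of_range_eq_singleton {E Y : Scheme.{u}} (h : E ⟶ Y) (y : Y)
    (hy : Set.range h.base = {y}) (M : Y.Modules) (hM : PicF.IsInvertible M) :
    Nonempty ((Scheme.Modules.pullback h).obj M ≅ Coh.structureModule E) := by
  obtain ⟨U, hyU, ⟨ε⟩⟩ := hM y
  have hsub : Set.range h.base ⊆ Set.range U.ι.base := by
    rw [hy, Scheme.Opens.range_ι]
    exact Set.singleton_subset_iff.2 hyU
  let h' : E ⟶ U := IsOpenImmersion.lift U.ι h hsub
  have hh' : h' ≫ U.ι = h := IsOpenImmersion.lift_fac U.ι h hsub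
  let e1 : (Scheme.Modules.pullback h).obj M ≅ (Scheme.Modules.pullback (h' ≫ U.ι)).obj M :=
    (Scheme.Modules.pullbackCongr hh'.symm).app M
  let e2 : (Scheme.Modules.pullback (h' ≫ U.ι)).obj M ≅
      (Scheme.Modules.pullback h').obj ((Scheme.Modules.pullback U.ι).obj M) :=
    ((Scheme.Modules.pullbackComp h' U.ι).app M).symm
  let e3 : (Scheme.Modules.pullback U.ι).obj M ≅ Coh.structureModule (U : Scheme.{u}) :=
    ((Scheme.Modules.restrictFunctorIsoPullback U.ι).app M).symm ≪≫ ε
  exact ⟨e1 ≪≫ e2 ≪≫ (Scheme.Modules.pullback h').mapIso e3 ≪≫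
    Groth.Agent.Lib.Helper23.PB.pullbackUnitIso h'⟩

variable {R : Type u} [CommRing R] [IsDomain R] [IsDiscreteValuationRing R]

theorem inter_pullback_eq_zero {X : Over (Spec (CommRingCat.of R))} [IsProper X.hom] {Y : Scheme.{u}}
    (f : X.left ⟶ Y) (E : ArSurf.VertComp R X) (y : Y)
    (hE : Set.range ((E.ι ≫ f).base : E.curve.left → Y) = {y})
    (M : Y.Modules) (hM : PicF.IsInvertible M) :
    ArSurf.inter R X ((Scheme.Modules.pullback f).obj M) E = 0 := by
  haveI := isProper_curve E
  obtain ⟨e⟩ := nonempty_pullback_iso_of_range_eq_singleton (E.ι ≫ f) y hE M hM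
  rw [inter_eq]
  have e' : (Scheme.Modules.pullback E.ι).obj ((Scheme.Modules.pullback f).obj M) ≅
      Coh.structureModule E.curve.left :=
    (Scheme.Modules.pullbackComp E.ι f).app M ≪≫ e
  rw [Groth.Agent.Lib.T2H6.PtTwistD.deg_eq_of_iso _ e' 1]
  exact Groth.Agent.Lib.T2H6.CurveDeg.deg_structureModule _

end Groth.Agent.Lib.T2H9.ArInterN
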