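import Mathlib
import Groth.Agent.Lib.T2H9ArInterI
import Groth.Agent.Lib.T2H9P1IsoC
import Groth.Agent.Lib.Helper10RedInd
set_option backward.isDefEq.respectTransparency.types false

/-!
# T2H9ArInterP (helper9): the intersection number with a vertical prime divisor only depends on its support
-/

set_option autoImplicit false
set_option linter.style.haveILetI false
set_option linter.unusedSectionVars false
universe u

open AlgebraicGeometry CategoryTheory Limits TopologicalSpace Opposite

namespace Groth.Agent.Lib.T2H9.ArInterP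

open Groth.Agent.Lib.T2H9.ArInterA

variable {R : Type u} [CommRing R] [IsDomain R] [IsDiscreteValuationRing R]
  {X : Over (Spec (CommRingCat.of R))}

/-- two vertical prime divisors with the same support are isomorphic over `X` and over the residue field -/
theorem exists_iso_of_range_eq (Γ Γ' : ArSurf.VertComp R X)
    (h : Set.range Γ.ι.base = Set.range Γ'.ι.base) :
    ∃ e : Γ.curve.left ≅ Γ'.curve.left, e.hom ≫ Γ'.ι = Γ.ι ∧ e.hom ≫ Γ'.curve.hom = Γ.curve.hom := by
  obtain ⟨e, he⟩ := Groth.Agent.Lib.Helper10.RedInd.exists_iso_of_isClosedImmersion Γ.ι Γ'.ι h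
  refine ⟨e, he, ?_⟩
  haveI : IsClosedImmersion (Spec.map (CommRingCat.ofHom (IsLocalRing.residue R))) :=
    IsClosedImmersion.spec_of_surjective _ IsLocalRing.residue_surjective
  rw [← cancel_mono (Spec.map (CommRingCat.ofHom (IsLocalRing.residue R))), Category.assoc,
    ← Γ'.w, ← Γ.w, ← Category.assoc, he]

/-- the intersection number with a vertical prime divisor only depends on its support -/
theorem inter_eq_of_range_eq [IsProper X.hom] (Γ Γ' : ArSurf.VertComp R X)
    (h : Set.range Γ.ι.base = Set.range Γ'.ι.base) (M : X.left.Modules) [M.IsQuasicoherent] :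
    ArSurf.inter R X M Γ = ArSurf.inter R X M Γ' := by
  obtain ⟨e, he, he'⟩ := exists_iso_of_range_eq Γ Γ' h
  haveI := isProper_curve Γ
  haveI := isProper_curve Γ'
  rw [inter_eq, inter_eq, ← he]
  haveI : ((Scheme.Modules.pullback Γ'.ι).obj M).IsQuasicoherent :=
    Groth.Agent.Lib.Helper2.PullbackSec.isQuasicoherent_pullback Γ'.ι M
  rw [← Groth.Agent.Lib.T2H9.P1Iso.deg_pullback_of_isIso (IsLocalRing.ResidueField R) e.hom he'
    ((Scheme.Modules.pullback Γ'.ι).obj M) 1]
  exact Groth.Agent.Lib.T2H6.PtTwistD.deg_eq_of_iso _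
    ((Scheme.Modules.pullbackComp e.hom Γ'.ι).app M).symm 1

end Groth.Agent.Lib.T2H9.ArInterP
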