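import Mathlib
import Groth.Agent.Lib.T2H4FibreComp
import Groth.Agent.Lib.T2H9ArInterI
import Groth.Agent.Lib.Helper11RedCl
import Groth.Agent.Lib.T2H9ArInterL
set_option backward.isDefEq.respectTransparency.types false

/-!
# T2H9ArInterQ (helper9): the irreducible components of the closed fibre of a regular flat `R`-scheme as
effective Cartier ideal sheaves, and the factorisation of the ideal of the closed fibre
-/

set_option autoImplicit false
set_option linter.style.haveILetI false
set_option linter.unusedSectionVars false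
universe u

open AlgebraicGeometry CategoryTheory Limits TopologicalSpace Opposite

namespace Groth.Agent.Lib.T2H9.ArInterQ

open Groth.Agent.Lib.T2H4.FibreComp

variable {R : Type u} [CommRing R] [IsDomain R] [IsDiscreteValuationRing R]
  {X : Over (Spec (CommRingCat.of R))}

section Integral

variable (E : X.left.IdealSheafData) [IsIntegral E.subscheme]

/-- the generic point of an integral closed subscheme -/
noncomputable def genPt : X.left := E.subschemeι.base (genericPoint E.subscheme)

theorem isGenericPoint_genPt : IsGenericPoint (genPt E) (E.support : Set X.left) := by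
  have h := (genericPoint_spec E.subscheme).image E.subschemeι.continuous
  rw [Set.image_univ, E.range_subschemeι, E.support.isClosed.closure_eq] at h
  exact h

theorem genPt_mem_support : genPt E ∈ E.support := by
  rw [← SetLike.mem_coe, ← E.range_subschemeι]
  exact ⟨_, rfl⟩

theorem specialFibreIdeal_le
    (hsub : (E.support : Set X.left) ⊆ Models.specialFibreSet R X) :
    Models.specialFibreIdeal R X ≤ E := by
  rw [Groth.Agent.Lib.T2H4.EffCartProd.eq_vanishingIdeal_support E,
    ← Scheme.IdealSheafData.le_support_iff_le_vanishingIdeal]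
  intro x hx
  have := hsub hx
  rw [← support_specialFibreIdeal] at this
  exact this

theorem ideal_eq_primeIdealOf_genPt (U : X.left.affineOpens) (htop : E.ideal U ≠ ⊤) :
    ∃ hξ : genPt E ∈ U.1, E.ideal U = (U.2.primeIdealOf ⟨genPt E, hξ⟩).asIdeal := by
  haveI hP : (E.ideal U).IsPrime :=
    (Groth.Agent.Lib.T2H4.EffCartProd.ideal_isPrime_or_eq_top E U).resolve_right htop
  let q₀ : PrimeSpectrum Γ(X.left, U.1) := ⟨E.ideal U, hP⟩
  have hy₀ : U.2.fromSpec q₀ ∈ E.support :=
    (Groth.Agent.Lib.T2H4.EffCartProd.fromSpec_mem_support_iff E U q₀).2 le_rfl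
  have hy₀U : U.2.fromSpec q₀ ∈ U.1 := Groth.Agent.Lib.Helper2.QCoh.fromSpec_mem U.2 q₀
  have hspec : genPt E ⤳ U.2.fromSpec q₀ := (isGenericPoint_genPt E).specializes hy₀
  have hξ : genPt E ∈ U.1 := hspec.mem_open U.1.2 hy₀U
  refine ⟨hξ, le_antisymm ?_ ?_⟩
  · exact (Groth.Agent.Lib.T2H4.EffCartProd.mem_support_iff_le_primeIdealOf E U _ hξ).1
      (genPt_mem_support E)
  · have h2 := (specializes_iff_primeIdealOf_le U _ _ hξ hy₀U).1 hspec
    rw [Groth.Agent.Lib.Helper2.QCoh.primeIdealOf_fromSpec] at h2
    exact h2

theorem ideal_mem_minimalPrimes (hcomp : (E.support : Set X.left) ∈ Models.fibreComponents R X)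
    (U : X.left.affineOpens) (htop : E.ideal U ≠ ⊤) :
    E.ideal U ∈ ((Models.specialFibreIdeal R X).ideal U).minimalPrimes := by
  haveI hP : (E.ideal U).IsPrime :=
    (Groth.Agent.Lib.T2H4.EffCartProd.ideal_isPrime_or_eq_top E U).resolve_right htop
  obtain ⟨hξ, hEq⟩ := ideal_eq_primeIdealOf_genPt E U htop
  have hFsub : (E.support : Set X.left) ⊆ Models.specialFibreSet R X := hcomp.1.2
  refine ⟨⟨hP, specialFibreIdeal_le E hFsub U⟩, ?_⟩
  rintro Q ⟨hQ, hDQ⟩ hQle
  let q : PrimeSpectrum Γ(X.left, U.1) := ⟨Q, hQ⟩
  have hyF : U.2.fromSpec q ∈ Models.specialFibreSet R X := by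
    rw [← support_specialFibreIdeal]
    exact (Groth.Agent.Lib.T2H4.EffCartProd.fromSpec_mem_support_iff _ U q).2 hDQ
  have hspec : U.2.fromSpec q ⤳ genPt E := by
    have h1 : U.2.fromSpec q ⤳ U.2.fromSpec (U.2.primeIdealOf ⟨genPt E, hξ⟩) := by
      rw [fromSpec_specializes_iff, ← hEq]
      exact hQle
    rwa [U.2.fromSpec_primeIdealOf] at h1
  have hsubcl : (E.support : Set X.left) ⊆ closure {U.2.fromSpec q} := by
    rw [← (isGenericPoint_genPt E).def]
    exact closure_minimal (Set.singleton_subset_iff.2 (specializes_iff_mem_closure.1 hspec))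
      isClosed_closure
  have hirr : IsIrreducible (closure ({U.2.fromSpec q} : Set X.left)) :=
    isIrreducible_singleton.closure
  have hclF : closure ({U.2.fromSpec q} : Set X.left) ⊆ Models.specialFibreSet R X :=
    closure_minimal (Set.singleton_subset_iff.2 hyF) (Models.isClosed_specialFibreSet R X)
  have hmax := hcomp.2 ⟨hirr, hclF⟩ hsubcl
  have hy : U.2.fromSpec q ∈ E.support := hmax (subset_closure rfl)
  exact (Groth.Agent.Lib.T2H4.EffCartProd.fromSpec_mem_support_iff E U q).1 hy

/-- **an integral closed subscheme supported on a component of the closed fibre of a regular flat `R`-scheme is an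
effective Cartier divisor** -/
theorem isEffCartierIdeal [IsLocallyNoetherian X.left] [Flat X.hom]
    (hreg : Models.IsRegularScheme X.left)
    (hcomp : (E.support : Set X.left) ∈ Models.fibreComponents R X) :
    BlowUp.IsEffCartierIdeal E := by
  obtain ⟨ϖ, hϖ⟩ := IsDiscreteValuationRing.exists_irreducible R
  refine Groth.Agent.Lib.T2H4.LocFactAmple.isEffCartierIdeal_of_ass_height_one _
    (fun U P hP => ?_) (fun x _ => ?_)
  · haveI : IsNoetherianRing Γ(X.left, U.1) := IsLocallyNoetherian.component_noetherian U
    by_cases htop : E.ideal U = ⊤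
    · exfalso
      haveI : Subsingleton (Γ(X.left, U.1) ⧸ E.ideal U) :=
        Ideal.Quotient.subsingleton_iff.2 htop
      exact not_isAssociatedPrime_of_subsingleton hP
    · haveI hPr : (E.ideal U).IsPrime :=
        (Groth.Agent.Lib.T2H4.EffCartProd.ideal_isPrime_or_eq_top E U).resolve_right htop
      have hPeq : P = E.ideal U := by
        have h1 := IsAssociatedPrime.eq_radical (Ideal.IsPrime.isPrimary hPr) hP
        rw [h1, hPr.radical]
      rw [hPeq]
      have hmin := ideal_mem_minimalPrimes E hcomp U htop
      rw [specialFibreIdeal_ideal_eq_span R X ϖ hϖ U] at hmin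
      haveI : (Ideal.span {secHom R X U.1 ϖ}).IsPrincipal := ⟨⟨_, rfl⟩⟩
      have hle : (E.ideal U).height ≤ 1 :=
        Ideal.height_le_one_of_isPrincipal_of_mem_minimalPrimes _ _ hmin
      have hne : (E.ideal U).height ≠ 0 := by
        intro h0
        have hminA : E.ideal U ∈ minimalPrimes Γ(X.left, U.1) := Ideal.height_eq_zero_iff.1 h0
        have hmem : secHom R X U.1 ϖ ∈ E.ideal U :=
          hmin.1.2 (Ideal.mem_span_singleton_self _)
        exact Set.disjoint_left.1 (Ideal.disjoint_nonZeroDivisors_of_mem_minimalPrimes hminA) hmem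
          (secHom_mem_nonZeroDivisors R X U ϖ hϖ.ne_zero)
      exact le_antisymm hle (Order.one_le_iff_pos.2 (pos_iff_ne_zero.2 hne))
  · haveI := hreg x
    exact ⟨Groth.Agent.Lib.Helper5.isDomain_of_isRegularLocalRing _,
      Groth.Agent.Lib.T2H4.RegUFD.uniqueFactorizationMonoid_of_isRegularLocalRing _⟩

end Integral

section Components

theorem isClosed_of_mem_fibreComponents {Z : Set X.left} (hZ : Z ∈ Models.fibreComponents R X) :
    IsClosed Z := by
  have h1 : closure Z ⊆ Z :=
    hZ.2 ⟨hZ.1.1.closure, closure_minimal hZ.1.2 (Models.isClosed_specialFibreSet R X)⟩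
      subset_closure
  exact closure_subset_iff_isClosed.mp h1

theorem finite_fibreComponents [NoetherianSpace X.left] : (Models.fibreComponents R X).Finite := by
  obtain ⟨S, hSf, hSc, hSi, hSU⟩ :=
    NoetherianSpace.exists_finite_set_isClosed_irreducible (Models.isClosed_specialFibreSet R X)
  refine hSf.subset fun s hs => ?_
  lift S to Finset (Set X.left) using hSf
  rcases isIrreducible_iff_sUnion_isClosed.1 hs.1.1 S hSc (hSU ▸ hs.1.2) with ⟨t, htS, ht⟩
  have htF : t ⊆ Models.specialFibreSet R X := by
    rw [hSU]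
    exact Set.subset_sUnion_of_mem htS
  rwa [ht.antisymm (hs.2 ⟨hSi _ htS, htF⟩ ht)]

/-- the reduced ideal sheaf of (the closure of) a subset -/
noncomputable def compIdeal (Z : Set X.left) : X.left.IdealSheafData :=
  Scheme.IdealSheafData.vanishingIdeal ⟨closure Z, isClosed_closure⟩

theorem coe_support_compIdeal {Z : Set X.left} (hZ : Z ∈ Models.fibreComponents R X) :
    ((compIdeal Z).support : Set X.left) = Z := by
  unfold compIdeal
  rw [Scheme.IdealSheafData.coe_support_vanishingIdeal]
  exact (isClosed_of_mem_fibreComponents hZ).closure_eq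

theorem isIntegral_compIdeal {Z : Set X.left} (hZ : Z ∈ Models.fibreComponents R X) :
    IsIntegral (compIdeal Z).subscheme := by
  haveI : IsReduced (compIdeal Z).subscheme :=
    Groth.Agent.Lib.Helper11RedCl.isReduced_subscheme_vanishingIdeal _
  have hirr : IsIrreducible (Set.range (compIdeal Z).subschemeι) := by
    rw [(compIdeal Z).range_subschemeι, coe_support_compIdeal hZ]
    exact hZ.1.1
  haveI : IrreducibleSpace (Set.range (compIdeal Z).subschemeι) := Subtype.irreducibleSpace hirr
  haveI : IrreducibleSpace (compIdeal Z).subscheme :=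
    ((compIdeal Z).subschemeι.isEmbedding.toHomeomorph.irreducibleSpace_iff).mpr inferInstance
  exact isIntegral_of_irreducibleSpace_of_isReduced _

theorem compIdeal_support (E : X.left.IdealSheafData) [IsIntegral E.subscheme] :
    compIdeal (E.support : Set X.left) = E := by
  unfold compIdeal
  conv_rhs => rw [Groth.Agent.Lib.T2H4.EffCartProd.eq_vanishingIdeal_support E]
  congr 1
  exact Closeds.ext E.support.isClosed.closure_eq

theorem compIdeal_range (Γ : ArSurf.VertComp R X) :
    compIdeal (Set.range Γ.ι.base) = Γ.ι.ker := by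
  rw [← coe_support_ker]
  exact compIdeal_support _

end Components

section Factor

variable [IsLocallyNoetherian X.left] [CompactSpace X.left] [Flat X.hom]

/-- two integral closed subschemes supported on components of the closed fibre, one through the generic point of
the other, coincide -/
theorem eq_of_genPt_mem (E E' : X.left.IdealSheafData) [IsIntegral E.subscheme]
    [IsIntegral E'.subscheme]
    (hE : (E.support : Set X.left) ∈ Models.fibreComponents R X)
    (hE' : (E'.support : Set X.left) ∈ Models.fibreComponents R X)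
    (h : genPt E ∈ E'.support) : E = E' := by
  have hsub : (E.support : Set X.left) ⊆ (E'.support : Set X.left) := by
    rw [← (isGenericPoint_genPt E).def]
    exact closure_minimal (Set.singleton_subset_iff.2 h) E'.support.isClosed
  have heq : (E'.support : Set X.left) = (E.support : Set X.left) :=
    Set.Subset.antisymm (hE.2 hE'.1 hsub) hsub
  rw [← compIdeal_support E, ← compIdeal_support E', heq]

open Classical in
/-- **the closed fibre of a regular flat `R`-scheme is a product of powers of the ideal sheaves of all its components** -/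
theorem exists_factorization (hreg : Models.IsRegularScheme X.left) :
    ∃ (T : Finset X.left.IdealSheafData) (a : X.left.IdealSheafData → ℕ),
      (∀ E ∈ T, IsIntegral E.subscheme ∧ (E.support : Set X.left) ∈ Models.fibreComponents R X ∧
        BlowUp.IsEffCartierIdeal E ∧ 0 < a E) ∧
      (∀ Z ∈ Models.fibreComponents R X, compIdeal Z ∈ T) ∧
      Models.specialFibreIdeal R X = ∏ E ∈ T, E ^ a E := by
  haveI : IsNoetherian X.left := {}
  have hfin := finite_fibreComponents (R := R) (X := X)
  obtain ⟨T, hT⟩ : ∃ T : Finset X.left.IdealSheafData, T = hfin.toFinset.image compIdeal := ⟨_, rfl⟩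
  have hmem : ∀ E ∈ T, ∃ Z ∈ Models.fibreComponents R X, E = compIdeal Z := by
    intro E hE
    rw [hT, Finset.mem_image] at hE
    obtain ⟨Z, hZ, rfl⟩ := hE
    exact ⟨Z, (Set.Finite.mem_toFinset hfin).1 hZ, rfl⟩
  have hint : ∀ E ∈ T, IsIntegral E.subscheme := by
    intro E hE
    obtain ⟨Z, hZ, rfl⟩ := hmem E hE
    exact isIntegral_compIdeal hZ
  have hcomp : ∀ E ∈ T, (E.support : Set X.left) ∈ Models.fibreComponents R X := by
    intro E hE
    obtain ⟨Z, hZ, rfl⟩ := hmem E hE
    rw [coe_support_compIdeal hZ]
    exact hZ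
  have hcart : ∀ E ∈ T, BlowUp.IsEffCartierIdeal E := by
    intro E hE
    haveI := hint E hE
    exact isEffCartierIdeal E hreg (hcomp E hE)
  have hall : ∀ Z ∈ Models.fibreComponents R X, compIdeal Z ∈ T := by
    intro Z hZ
    rw [hT]
    exact Finset.mem_image_of_mem _ ((Set.Finite.mem_toFinset hfin).2 hZ)
  have hsub : ((Models.specialFibreIdeal R X).support : Set X.left) ⊆
      ⋃ E ∈ T, (E.support : Set X.left) := by
    intro x hx
    rw [support_specialFibreIdeal] at hx
    obtain ⟨Z, hZ, hxZ⟩ := exists_component_mem x hx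
    refine Set.mem_iUnion.2 ⟨compIdeal Z, Set.mem_iUnion.2 ⟨hall Z hZ, ?_⟩⟩
    rw [coe_support_compIdeal hZ]
    exact hxZ
  obtain ⟨a, ha⟩ := Groth.Agent.Lib.T2H4.EffCartProd.exists_exponents T
    (Models.specialFibreIdeal R X) (isEffCartierIdeal_specialFibreIdeal R X) hcart hint hsub
  refine ⟨T, a, fun E hE => ⟨hint E hE, hcomp E hE, hcart E hE, ?_⟩, hall, ha⟩
  haveI := hint E hE
  have hξ : genPt E ∈ (Models.specialFibreIdeal R X).support := by
    rw [← SetLike.mem_coe, support_specialFibreIdeal]
    exact (hcomp E hE).1.2 (genPt_mem_support E)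
  rw [ha] at hξ
  obtain ⟨E', hE', h0, hmemE'⟩ :=
    Groth.Agent.Lib.T2H9.ArInterL.exists_mem_support_of_mem_support_prod_pow T (fun E => E) a _ hξ
  haveI := hint E' hE'
  have : E = E' := eq_of_genPt_mem E E' (hcomp E hE) (hcomp E' hE') hmemE'
  rw [this]
  exact Nat.pos_of_ne_zero h0

end Factor

end Groth.Agent.Lib.T2H9.ArInterQ
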