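import Mathlib
import Groth.Agent.Lib.T2H9ArInterQ
import Groth.Agent.Lib.T2H9ArInterP
import Groth.Agent.Lib.T2H9ArInterE
import Groth.Agent.Lib.T2H9ArInterB
import Groth.Agent.Lib.T2H9TensorInv
set_option backward.isDefEq.respectTransparency.types false

/-!
# T2H9ArInterR (helper9): positive weights on all components of the closed fibre of an arithmetic surface with
`Σ m_E (E · Γ) = 0` and `E · Γ ≥ 0` for `E ≠ Γ`; negative semi-definiteness for arbitrary lists of vertical prime
divisors
-/

set_option autoImplicit false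
set_option linter.style.haveILetI false
set_option linter.unusedSectionVars false
universe u

open AlgebraicGeometry CategoryTheory Limits TopologicalSpace Opposite

namespace Groth.Agent.Lib.T2H9.ArInterR

open Groth.Agent.Lib.T2H4.FibreComp Groth.Agent.Lib.T2H9.ArInterA Groth.Agent.Lib.T2H9.ArInterQ

variable {R : Type u} [CommRing R] [IsDomain R] [IsDiscreteValuationRing R]
  {X : Over (Spec (CommRingCat.of R))}

/-- an invertible ideal sheaf not containing a vertical prime divisor meets it non-positively -/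
theorem inter_idealMod_nonpos [IsProper X.hom] (Γ : ArSurf.VertComp R X) (D : X.left.IdealSheafData)
    (hD : PicF.IsInvertible (ClSub.idealMod D))
    (hη : Γ.ι.base (genericPoint Γ.curve.left) ∉ D.support) :
    ArSurf.inter R X (ClSub.idealMod D) Γ ≤ 0 := by
  have hL : ClSub.IsInverseOf (Groth.Agent.Lib.T2H9.TensorInv.inv (ClSub.idealMod D))
      (ClSub.idealMod D) := ⟨Groth.Agent.Lib.T2H9.TensorInv.invTensorIso _ hD⟩
  have h1 := Groth.Agent.Lib.T2H9.ArInterE.inter_nonneg Γ D hD _ hL hη
  rw [inter_of_isInverseOf Γ hL hD] at h1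
  linarith

open Classical in
theorem exists_weights (hX : ArSurf.IsArithSurface R X) :
    ∃ (T : Finset X.left.IdealSheafData) (m : X.left.IdealSheafData → ℕ),
      (∀ E ∈ T, 0 < m E) ∧ (∀ Γ : ArSurf.VertComp R X, Γ.ι.ker ∈ T) ∧
      (∀ E ∈ T, PicF.IsInvertible (ClSub.idealMod E)) ∧
      (∀ Γ' : ArSurf.VertComp R X,
        ∑ E ∈ T, (m E : ℤ) * ArSurf.inter R X (ClSub.idealMod E) Γ' = 0) ∧
      (∀ (Γ' : ArSurf.VertComp R X), ∀ E ∈ T, E ≠ Γ'.ι.ker →
        ArSurf.inter R X (ClSub.idealMod E) Γ' ≤ 0) := by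
  haveI := Groth.Agent.Lib.T2H9.ArInterC.isProper_of_isArithSurface hX
  haveI : Flat X.hom := hX.2.2.2.1
  haveI : IsIntegral X.left := hX.2.1
  haveI := Groth.Agent.Lib.T2H9.ArInterC.isLocallyNoetherian_of_isProper (X := X)
  haveI : CompactSpace X.left := QuasiCompact.compactSpace_of_compactSpace X.hom
  obtain ⟨T, a, hT, hall, hprod⟩ := exists_factorization (R := R) (X := X) hX.1
  have hinv : ∀ E ∈ T, PicF.IsInvertible (ClSub.idealMod E) := fun E hE =>
    Groth.Agent.Lib.T2H4.AmpleCartier.isInvertible_idealMod _ (hT E hE).2.2.1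
  have hker : ∀ Γ : ArSurf.VertComp R X, Γ.ι.ker ∈ T := by
    intro Γ
    rw [← compIdeal_range Γ]
    exact hall _ (Groth.Agent.Lib.T2H9.ArInterI.range_mem_fibreComponents_of_dim hX.2.2.1 Γ)
  refine ⟨T, a, fun E hE => (hT E hE).2.2.2, hker, hinv, ?_, ?_⟩
  · intro Γ'
    obtain ⟨e⟩ := Groth.Agent.Lib.T2H9.ArInterB.nonempty_idealMod_specialFibreIdeal_iso (R := R) (X := X)
    have h0 : ArSurf.inter R X (ClSub.idealMod (Models.specialFibreIdeal R X)) Γ' = 0 := by
      rw [inter_eq_of_iso Γ' e]
      exact inter_structureModule Γ'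
    have hprod' : Models.specialFibreIdeal R X = ∏ E : T, (E : X.left.IdealSheafData) ^ a E := by
      rw [hprod]
      exact (Finset.prod_coe_sort T (fun E => E ^ a E)).symm
    rw [hprod', (isInvertible_and_inter_idealMod_prod_pow Γ' Finset.univ
      (fun E : T => (E : X.left.IdealSheafData)) (fun E => hinv E.1 E.2) (fun E => a E)).2] at h0
    rw [← h0]
    exact (Finset.sum_coe_sort T (fun E => (a E : ℤ) * ArSurf.inter R X (ClSub.idealMod E) Γ')).symm
  · intro Γ' E hE hne
    refine inter_idealMod_nonpos Γ' E (hinv E hE) (fun hmem => hne ?_)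
    haveI := (hT E hE).1
    have h1 := eq_of_genPt_mem Γ'.ι.ker E
      (by rw [coe_support_ker]
          exact Groth.Agent.Lib.T2H9.ArInterI.range_mem_fibreComponents_of_dim hX.2.2.1 Γ')
      (hT E hE).2.1 ?_
    · exact h1.symm
    · -- the generic point of `Γ'.ι.ker` is the image of the generic point of the curve
      have hgen : IsGenericPoint (Γ'.ι.base (genericPoint Γ'.curve.left))
          (Γ'.ι.ker.support : Set X.left) := isGenericPoint_genPtOf Γ'
      have h2 := (isGenericPoint_genPt Γ'.ι.ker).eq hgen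
      rw [h2]
      exact hmem

end Groth.Agent.Lib.T2H9.ArInterR
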