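import Mathlib
import Groth.Agent.Lib.T2H9ArInterR
import Groth.Agent.Lib.T2H6AmpleCrit
set_option backward.isDefEq.respectTransparency.types false

/-!
# T2H9ArInterS (helper9): the intersection form on an arbitrary list of vertical prime divisors of an arithmetic
surface is negative semi-definite (S3253)
-/

set_option autoImplicit false
set_option linter.style.haveILetI false
set_option linter.unusedSectionVars false
universe u

open AlgebraicGeometry CategoryTheory Limits TopologicalSpace Opposite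

namespace Groth.Agent.Lib.T2H9.ArInterS

open Groth.Agent.Lib.T2H4.FibreComp Groth.Agent.Lib.T2H9.ArInterA Groth.Agent.Lib.T2H9.ArInterQ
  Groth.Agent.Lib.T2H9.ArInterR

section LinAlg

variable {κ : Type*} [Fintype κ]

theorem two_mul_quad_eq (a : κ → κ → ℚ) (μ : κ → ℚ) (hμ : ∀ i, μ i ≠ 0)
    (hsymm : ∀ i j, a i j = a j i) (x : κ → ℚ) :
    2 * ∑ i, ∑ j, x i * x j * a i j =
      2 * ∑ i, x i ^ 2 / μ i * ∑ j, μ j * a i j
        - ∑ i, ∑ j, a i j * μ i * μ j * (x i / μ i - x j / μ j) ^ 2 := by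
  have h1 : ∀ i j, a i j * μ i * μ j * (x i / μ i - x j / μ j) ^ 2 =
      (x i ^ 2 / μ i) * (μ j * a i j) - 2 * (x i * x j * a i j) + (x j ^ 2 / μ j) * (μ i * a j i) := by
    intro i j
    rw [hsymm j i]
    field_simp [hμ i, hμ j]
    ring
  simp only [h1, Finset.sum_add_distrib, Finset.sum_sub_distrib, ← Finset.mul_sum]
  have h3 : ∑ i, ∑ j, x j ^ 2 / μ j * (μ i * a j i) = ∑ i, x i ^ 2 / μ i * ∑ j, μ j * a i j := by
    rw [Finset.sum_comm]
    simp only [← Finset.mul_sum]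
  rw [h3]
  ring

/-- **negative semi-definiteness** of a symmetric integer matrix with non-negative off-diagonal entries and a
positive vector `m` with `A m ≤ 0` -/
theorem quad_nonpos (B : κ → κ → ℤ) (m : κ → ℕ) (hm : ∀ i, 0 < m i) (hsymm : ∀ i j, B i j = B j i)
    (hoff : ∀ i j, i ≠ j → 0 ≤ B i j) (hker : ∀ i, ∑ j, (m j : ℤ) * B i j ≤ 0) (x : κ → ℤ) :
    ∑ i, ∑ j, x i * x j * B i j ≤ 0 := by
  have hμ : ∀ i, (m i : ℚ) ≠ 0 := fun i => by exact_mod_cast (hm i).ne'
  have hμpos : ∀ i, (0 : ℚ) < (m i : ℚ) := fun i => by exact_mod_cast hm i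
  have hkerQ : ∀ i, ∑ j, (m j : ℚ) * (B i j : ℚ) ≤ 0 := fun i => by exact_mod_cast hker i
  have hsymmQ : ∀ i j, (B i j : ℚ) = (B j i : ℚ) := fun i j => by rw [hsymm i j]
  have key := two_mul_quad_eq (fun i j => (B i j : ℚ)) (fun i => (m i : ℚ)) hμ hsymmQ
    (fun i => (x i : ℚ))
  have hnn : 0 ≤ ∑ i, ∑ j, (B i j : ℚ) * (m i : ℚ) * (m j : ℚ) *
      ((x i : ℚ) / (m i : ℚ) - (x j : ℚ) / (m j : ℚ)) ^ 2 := by
    refine Finset.sum_nonneg fun i _ => Finset.sum_nonneg fun j _ => ?_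
    by_cases hij : i = j
    · subst hij
      rw [sub_self, zero_pow two_ne_zero, mul_zero]
    · have h1 : (0 : ℚ) ≤ (B i j : ℚ) := by exact_mod_cast hoff i j hij
      exact mul_nonneg (mul_nonneg (mul_nonneg h1 (Nat.cast_nonneg _)) (Nat.cast_nonneg _))
        (sq_nonneg _)
  have hnp : ∑ i, (x i : ℚ) ^ 2 / (m i : ℚ) * ∑ j, (m j : ℚ) * (B i j : ℚ) ≤ 0 := by
    refine Finset.sum_nonpos fun i _ => ?_
    exact mul_nonpos_of_nonneg_of_nonpos (div_nonneg (sq_nonneg _) (hμpos i).le) (hkerQ i)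
  have hQ : (∑ i, ∑ j, (x i : ℚ) * (x j : ℚ) * (B i j : ℚ)) ≤ 0 := by
    have key' : 2 * ∑ i, ∑ j, (x i : ℚ) * (x j : ℚ) * (B i j : ℚ) =
      2 * ∑ i, (x i : ℚ) ^ 2 / (m i : ℚ) * ∑ j, (m j : ℚ) * (B i j : ℚ)
      - ∑ i, ∑ j, (B i j : ℚ) * (m i : ℚ) * (m j : ℚ) *
        ((x i : ℚ) / (m i : ℚ) - (x j : ℚ) / (m j : ℚ)) ^ 2 := key
    linarith
  have h2 : ((∑ i, ∑ j, x i * x j * B i j : ℤ) : ℚ) ≤ 0 := by
    push_cast
    exact hQ
  exact_mod_cast h2

theorem sum_fiber {ι : Type*} [Fintype ι] [DecidableEq κ] (k : ι → κ) (a : ι → ℤ) (B : κ → κ → ℤ) :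
    ∑ i, ∑ j, a i * a j * B (k i) (k j) =
      ∑ E, ∑ F, (∑ i with k i = E, a i) * (∑ j with k j = F, a j) * B E F := by
  have h1 : ∀ (f : ι → ℤ), ∑ i, f i = ∑ E, ∑ i with k i = E, f i := fun f =>
    (Finset.sum_fiberwise Finset.univ k f).symm
  rw [h1 (fun i => ∑ j, a i * a j * B (k i) (k j))]
  refine Finset.sum_congr rfl fun E _ => ?_
  have h2 : ∀ i ∈ Finset.univ.filter (fun i => k i = E), ∑ j, a i * a j * B (k i) (k j) =
      ∑ F, ∑ j with k j = F, a i * a j * B E F := by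
    intro i hi
    rw [h1 (fun j => a i * a j * B (k i) (k j))]
    refine Finset.sum_congr rfl fun F _ => Finset.sum_congr rfl fun j hj => ?_
    rw [(Finset.mem_filter.1 hi).2, (Finset.mem_filter.1 hj).2]
  rw [Finset.sum_congr rfl h2, Finset.sum_comm]
  refine Finset.sum_congr rfl fun F _ => ?_
  rw [Finset.sum_mul_sum, Finset.sum_mul]
  refine Finset.sum_congr rfl fun i _ => ?_
  rw [Finset.sum_mul]

end LinAlg

variable {R : Type u} [CommRing R] [IsDomain R] [IsDiscreteValuationRing R]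
  {X : Over (Spec (CommRingCat.of R))}

theorem range_eq_of_ker_eq (Γ Γ' : ArSurf.VertComp R X) (h : Γ.ι.ker = Γ'.ι.ker) :
    Set.range Γ.ι.base = Set.range Γ'.ι.base := by
  have := congrArg (fun I : X.left.IdealSheafData => (I.support : Set X.left)) h
  simp only [coe_support_ker] at this
  exact this

open Classical in
/-- **the intersection form on any list of vertical prime divisors of an arithmetic surface is negative
semi-definite** -/
theorem main (hX : ArSurf.IsArithSurface R X) {r : ℕ} (Γ : Fin r → ArSurf.VertComp R X)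
    (L : Fin r → X.left.Modules)
    (hL : ∀ j, ClSub.IsInverseOf (L j) (ClSub.idealMod ((Γ j).ι.ker))) (a : Fin r → ℤ) :
    (Finset.univ : Finset (Fin r × Fin r)).sum
      (fun p => a p.1 * a p.2 * ArSurf.inter R X (L p.2) (Γ p.1)) ≤ 0 := by
  haveI := Groth.Agent.Lib.T2H9.ArInterC.isProper_of_isArithSurface hX
  obtain ⟨T, m, hm, hker, hinv, hsum, hoff⟩ := exists_weights hX
  obtain ⟨S, hS⟩ : ∃ S : Finset X.left.IdealSheafData,
    S = Finset.univ.image (fun j => (Γ j).ι.ker) := ⟨_, rfl⟩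
  have hmemS : ∀ j, (Γ j).ι.ker ∈ S := fun j => hS ▸ Finset.mem_image_of_mem _ (Finset.mem_univ j)
  have hST : S ⊆ T := by
    intro E hE
    rw [hS, Finset.mem_image] at hE
    obtain ⟨j, -, rfl⟩ := hE
    exact hker _
  have hSmem : ∀ E ∈ S, ∃ j, (Γ j).ι.ker = E := by
    intro E hE
    rw [hS, Finset.mem_image] at hE
    obtain ⟨j, -, hj⟩ := hE
    exact ⟨j, hj⟩
  have hrep : ∀ E : S, ∃ j, (Γ j).ι.ker = E.1 := fun E => hSmem E.1 E.2
  choose rep hrep using hrep
  let k : Fin r → S := fun j => ⟨(Γ j).ι.ker, hmemS j⟩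
  let B : S → S → ℤ := fun E F => - ArSurf.inter R X (ClSub.idealMod F.1) (Γ (rep E))
  -- the intersection numbers are given by `B`
  have c1 : ∀ i j, ArSurf.inter R X (L j) (Γ i) = B (k i) (k j) := by
    intro i j
    rw [inter_of_isInverseOf (Γ i) (hL j) (hinv _ (hker _))]
    change _ = - ArSurf.inter R X (ClSub.idealMod (Γ j).ι.ker) (Γ (rep (k i)))
    haveI := Groth.Agent.Lib.T2H6.AmpleCrit.isQuasicoherent_idealMod (Γ j).ι.ker
    rw [Groth.Agent.Lib.T2H9.ArInterP.inter_eq_of_range_eq (Γ i) (Γ (rep (k i)))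
      (range_eq_of_ker_eq _ _ (hrep (k i)).symm)]
  have hLrep : ∀ F : S, ClSub.IsInverseOf (L (rep F)) (ClSub.idealMod F.1) := by
    intro F
    have := hL (rep F)
    rwa [hrep F] at this
  have hB : ∀ E F : S, B E F = ArSurf.inter R X (L (rep F)) (Γ (rep E)) := by
    intro E F
    rw [inter_of_isInverseOf (Γ (rep E)) (hLrep F) (hinv _ (hST F.2))]
  have c2 : ∀ E F : S, B E F = B F E := by
    intro E F
    by_cases hEF : E = F
    · rw [hEF]
    · rw [hB E F, hB F E]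
      refine Groth.Agent.Lib.T2H9.ArInterI.inter_symm_of_ne hX (Γ (rep E)) (Γ (rep F)) ?_
        (L (rep E)) (L (rep F)) (hL _) (hL _)
      intro hrange
      apply hEF
      apply Subtype.ext
      rw [← hrep E, ← hrep F, ← compIdeal_range, ← compIdeal_range, hrange]
  have c3 : ∀ E F : S, E ≠ F → 0 ≤ B E F := by
    intro E F hEF
    have h1 := hoff (Γ (rep E)) F.1 (hST F.2) (by
      rw [hrep E]
      exact fun h => hEF (Subtype.ext h.symm))
    change 0 ≤ - ArSurf.inter R X (ClSub.idealMod F.1) (Γ (rep E))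
    linarith
  have c4 : ∀ E : S, ∑ F : S, ((m F.1 : ℕ) : ℤ) * B E F ≤ 0 := by
    intro E
    have h0 := hsum (Γ (rep E))
    rw [← Finset.sum_sdiff hST] at h0
    have h1 : ∑ F ∈ T \ S, (m F : ℤ) * ArSurf.inter R X (ClSub.idealMod F) (Γ (rep E)) ≤ 0 := by
      refine Finset.sum_nonpos fun F hF => ?_
      rw [Finset.mem_sdiff] at hF
      have h2 := hoff (Γ (rep E)) F hF.1 (fun h => hF.2 (by rw [h, hrep E]; exact E.2))
      exact mul_nonpos_of_nonneg_of_nonpos (Int.natCast_nonneg _) h2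
    have h3 : ∑ F : S, ((m F.1 : ℕ) : ℤ) * B E F =
        - ∑ F ∈ S, (m F : ℤ) * ArSurf.inter R X (ClSub.idealMod F) (Γ (rep E)) := by
      rw [← Finset.sum_coe_sort S, ← Finset.sum_neg_distrib]
      refine Finset.sum_congr rfl fun F _ => ?_
      change ((m F.1 : ℕ) : ℤ) * - ArSurf.inter R X (ClSub.idealMod F.1) (Γ (rep E)) = _
      ring
    rw [h3]
    linarith
  have hq := quad_nonpos B (fun E => m E.1) (fun E => hm E.1 (hST E.2)) c2 c3 c4
    (fun E => ∑ i with k i = E, a i)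
  rw [Fintype.sum_prod_type]
  simp only [c1]
  rw [sum_fiber k a B]
  exact hq

end Groth.Agent.Lib.T2H9.ArInterS
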