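import Groth.Agent.Lib.T2H9AutPn3
import Groth.Agent.Lib.T2H5Twist
import Groth.Agent.Lib.Helper23RestrTensor
import Groth.Agent.Lib.Helper23AmpleIso
import Groth.Agent.S10962
import Groth.Agent.S1697

/-!
# T2H9AutPn4 (helper9): every automorphism of `P^n_k` over a field `k` is linear
-/

set_option autoImplicit false
set_option linter.unusedSectionVars false
set_option linter.unusedVariables false
set_option linter.style.haveILetI false
universe u

open CategoryTheory CategoryTheory.Limits AlgebraicGeometry TopologicalSpace Opposite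
open Groth.Agent.Lib.T2H9.PicPn Groth.Agent.Lib.T3H9.Rig Groth.Agent.Lib.T3H9.Hyp

namespace Groth.Agent.Lib.T2H9.AutPn

section tw

variable (n : ℕ) (R : Type u) [CommRing R]

/-- `f^*O(1) ≅ O(d)` implies `f^*O(a) ≅ O(a d)` -/
theorem pullback_twist_nat (f : CohB1.ProjSpace n R ⟶ CohB1.ProjSpace n R) (d : ℤ)
    (e : (Scheme.Modules.pullback f).obj (Twist.twistProjSpace n R 1) ≅ Twist.twistProjSpace n R d)
    (a : ℕ) :
    Nonempty ((Scheme.Modules.pullback f).obj (Twist.twistProjSpace n R (a : ℤ)) ≅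
      Twist.twistProjSpace n R ((a : ℤ) * d)) := by
  induction a with
  | zero =>
    rw [Nat.cast_zero, zero_mul]
    exact ⟨(Scheme.Modules.pullback f).mapIso (Groth.Agent.Lib.T2H5.Twist.nonempty_twist_zero_iso n R).some ≪≫
      Groth.Agent.Lib.Helper23.PB.pullbackUnitIso f ≪≫
      (Groth.Agent.Lib.T2H5.Twist.nonempty_twist_zero_iso n R).some.symm⟩
  | succ a ih =>
    obtain ⟨ih⟩ := ih
    have e1 := (Groth.Agent.Lib.T2H5.Twist.nonempty_twist_tensor_iso n R (a : ℤ) 1 ((a + 1 : ℕ) : ℤ)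
      (by push_cast; ring)).some
    have e2 := (Groth.Agent.Lib.T2H5.Twist.nonempty_twist_tensor_iso n R ((a : ℤ) * d) d
      (((a + 1 : ℕ) : ℤ) * d) (by push_cast; ring)).some
    exact ⟨(Scheme.Modules.pullback f).mapIso e1.symm ≪≫
      Groth.Agent.Lib.Helper23.RestrTensor.pullbackTensorIso _ _ f ≪≫
      PicGrp.tensorModIso ih e ≪≫ e2⟩

end tw

section field

variable (n : ℕ) (k : Type u) [Field k]

local notation "π" => CohB1.ProjSpace.toSpec n k
local notation "𝒰" => Dat.univ n k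

/-- an automorphism of projective space pulls `O(1)` back to `O(1)` -/
theorem deg_eq_one (hn : 1 ≤ n) (f g : CohB1.ProjSpace n k ⟶ CohB1.ProjSpace n k)
    (hfg : f ≫ g = 𝟙 _) [IsAffineHom g] (d : ℤ)
    (e : (Scheme.Modules.pullback f).obj (Twist.twistProjSpace n k 1) ≅ Twist.twistProjSpace n k d) :
    d = 1 := by
  obtain ⟨d', ⟨e'⟩⟩ := Groth.Agent.S1697.result k n
    ((Scheme.Modules.pullback g).obj (Twist.twistProjSpace n k 1))
    (Groth.Agent.Lib.Helper23.PB.isInvertible_pullback g _ (Dat.isInvertible_univ n k))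
  have hamp1 : CohB1.IsAmple (Twist.twistProjSpace n k 1) :=
    (Groth.Agent.S10962.result k n hn 1).2 one_pos
  have hamp2 := Groth.Agent.Lib.Helper23.PB.isAmple_pullback_of_isAffineHom g _ hamp1
  have hamp3 := Groth.Agent.Lib.Helper23.AmpleIso.isAmple_of_iso e' hamp2
  have hd' : 0 < d' := (Groth.Agent.S10962.result k n hn d').1 hamp3
  obtain ⟨a, rfl⟩ : ∃ a : ℕ, d' = (a : ℤ) := ⟨d'.toNat, (Int.toNat_of_nonneg hd'.le).symm⟩
  obtain ⟨e2⟩ := pullback_twist_nat n k f d e a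
  -- `O(1) ≅ 𝟙^* O(1) ≅ (f ≫ g)^* O(1) ≅ f^* g^* O(1) ≅ f^* O(a) ≅ O(a d)`
  have e3 : Twist.twistProjSpace n k 1 ≅ Twist.twistProjSpace n k ((a : ℤ) * d) :=
    ((Scheme.Modules.pullbackId _).app _).symm ≪≫
      eqToIso (congrArg (fun h => (Scheme.Modules.pullback h).obj (Twist.twistProjSpace n k 1))
        hfg.symm) ≪≫
      ((Scheme.Modules.pullbackComp f g).app (Twist.twistProjSpace n k 1)).symm ≪≫
      (Scheme.Modules.pullback f).mapIso e' ≪≫ e2
  have h1 : (1 : ℤ) = (a : ℤ) * d := twist_injective (n := n) (R := k) hn e3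
  have ha : (0 : ℤ) < a := hd'
  rcases Int.eq_one_or_neg_one_of_mul_eq_one' h1.symm with ⟨-, h⟩ | ⟨h, -⟩
  · exact h
  · omega

/-- a morphism pulling `O(1)` back to `O(1)` is given by a matrix of linear forms -/
theorem exists_matrix (f : CohB1.ProjSpace n k ⟶ CohB1.ProjSpace n k) (hf : f ≫ π = π)
    (e : (Scheme.Modules.pullback f).obj (Twist.twistProjSpace n k 1) ≅ Twist.twistProjSpace n k 1) :
    ∃ M : Matrix (Fin (n + 1)) (Fin (n + 1)) k, Dat.Equiv (Dat.pull f 𝒰) (lin π M 𝒰) := by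
  have h : ∀ i : Fin (n + 1), ∃ a : Fin (n + 1) → k,
      e.hom.app ⊤ ((Dat.pull f 𝒰).σ i) = comb π 𝒰 a := fun i => exists_comb_eq n k _
  choose M hM using h
  exact ⟨M, e, hM⟩

/-- **automorphisms of projective space over a field are linear** -/
theorem exists_mor_eq (hn : 1 ≤ n) (f g : CohB1.ProjSpace n k ⟶ CohB1.ProjSpace n k)
    (hf : f ≫ π = π) (hg : g ≫ π = π) (hfg : f ≫ g = 𝟙 _) (hgf : g ≫ f = 𝟙 _) :
    ∃ M : Matrix.GeneralLinearGroup (Fin (n + 1)) k, f = mor n k M := by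
  haveI : IsIso f := ⟨g, hfg, hgf⟩
  haveI : IsIso g := ⟨f, hgf, hfg⟩
  obtain ⟨d, ⟨e⟩⟩ := Groth.Agent.S1697.result k n
    ((Scheme.Modules.pullback f).obj (Twist.twistProjSpace n k 1))
    (Groth.Agent.Lib.Helper23.PB.isInvertible_pullback f _ (Dat.isInvertible_univ n k))
  obtain rfl := deg_eq_one n k hn f g hfg d e
  obtain ⟨d', ⟨e'⟩⟩ := Groth.Agent.S1697.result k n
    ((Scheme.Modules.pullback g).obj (Twist.twistProjSpace n k 1))
    (Groth.Agent.Lib.Helper23.PB.isInvertible_pullback g _ (Dat.isInvertible_univ n k))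
  obtain rfl := deg_eq_one n k hn g f hgf d' e'
  obtain ⟨M, hM⟩ := exists_matrix n k f hf e
  obtain ⟨M', hM'⟩ := exists_matrix n k g hg e'
  have h1 : Dat.Equiv (lin π (M' * M) 𝒰) 𝒰 := by
    rw [← lin_lin]
    refine (lin_equiv π M' hM).symm.trans ?_
    have e1 : lin π M' (Dat.pull f 𝒰) = Dat.pull f (lin π M' 𝒰) := by
      rw [pull_lin, hf]
    rw [e1]
    refine (Dat.pull_equiv f hM').symm.trans ?_
    refine (Dat.pull_comp f g 𝒰).trans ?_
    refine (Dat.pull_congr hfg 𝒰).trans ?_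
    exact Dat.pull_id _
  obtain ⟨u, hu⟩ := scalar_of_equiv n k _ h1
  have h2 : (((u⁻¹ : kˣ) : k) • M') * M = 1 := by
    rw [Matrix.smul_mul, hu]
    ext i j
    rw [Matrix.smul_apply, Matrix.scalar_apply, Matrix.diagonal_apply, Matrix.one_apply, smul_eq_mul]
    by_cases hij : i = j
    · rw [if_pos hij, if_pos hij, Units.inv_mul]
    · rw [if_neg hij, if_neg hij, mul_zero]
  have h3 : M * (((u⁻¹ : kˣ) : k) • M') = 1 := mul_eq_one_comm.1 h2
  exact ⟨⟨M, ((u⁻¹ : kˣ) : k) • M', h3, h2⟩, mor_unique n k _ f hf hM⟩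

end field

end Groth.Agent.Lib.T2H9.AutPn
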