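import Groth.Agent.Lib.T2H9AutPn4
import Groth.Agent.Lib.Helper27ProjSpaceZero

/-!
# T2H9AutPn5 (helper9): `GL_{n+1}(k) → Aut(P^n_k / k)` is surjective with kernel the scalar matrices
-/

set_option autoImplicit false
set_option linter.unusedSectionVars false
set_option linter.unusedVariables false
set_option linter.style.haveILetI false
universe u

open CategoryTheory CategoryTheory.Limits AlgebraicGeometry TopologicalSpace Opposite
open Groth.Agent.Lib.T2H9.PicPn Groth.Agent.Lib.T3H9.Rig Groth.Agent.Lib.T3H9.Hyp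

namespace Groth.Agent.Lib.T2H9.AutPn

variable (n : ℕ) (R : Type u) [CommRing R]

local notation "π" => CohB1.ProjSpace.toSpec n R
local notation "𝒰" => Dat.univ n R

/-- the automorphism of `P^n_R` over `R` attached to an invertible matrix -/
noncomputable def autOf (M : Matrix.GeneralLinearGroup (Fin (n + 1)) R) :
    Aut (Over.mk π) where
  hom := Over.homMk (mor n R M) (mor_comp n R M)
  inv := Over.homMk (mor n R M⁻¹) (mor_comp n R M⁻¹)
  hom_inv_id := by
    apply Over.OverMorphism.ext
    change mor n R M ≫ mor n R M⁻¹ = 𝟙 _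
    rw [← mor_mul, inv_mul_cancel, mor_one]
  inv_hom_id := by
    apply Over.OverMorphism.ext
    change mor n R M⁻¹ ≫ mor n R M = 𝟙 _
    rw [← mor_mul, mul_inv_cancel, mor_one]

theorem autOf_hom_left (M : Matrix.GeneralLinearGroup (Fin (n + 1)) R) :
    (autOf n R M).hom.left = mor n R M := rfl

/-- the group homomorphism `GL_{n+1}(R) → Aut(P^n_R / R)` -/
noncomputable def autHom : Matrix.GeneralLinearGroup (Fin (n + 1)) R →* Aut (Over.mk π) where
  toFun := autOf n R
  map_one' := by
    apply Iso.ext
    apply Over.OverMorphism.ext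
    change mor n R 1 = 𝟙 _
    exact mor_one n R
  map_mul' M N := by
    apply Iso.ext
    apply Over.OverMorphism.ext
    change mor n R (M * N) = mor n R N ≫ mor n R M
    exact mor_mul n R N M

theorem autHom_hom_left (M : Matrix.GeneralLinearGroup (Fin (n + 1)) R) :
    (autHom n R M).hom.left = mor n R M := rfl

theorem autHom_eq_one_iff (M : Matrix.GeneralLinearGroup (Fin (n + 1)) R) :
    autHom n R M = 1 ↔ mor n R M = 𝟙 _ := by
  constructor
  · intro h
    have := congrArg (fun a : Aut (Over.mk π) => a.hom.left) h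
    exact this
  · intro h
    apply Iso.ext
    apply Over.OverMorphism.ext
    exact h

theorem mor_eq_id_iff (M : Matrix.GeneralLinearGroup (Fin (n + 1)) R) :
    mor n R M = 𝟙 _ ↔ Dat.Equiv (lin π M.1 𝒰) 𝒰 := by
  constructor
  · intro h
    refine (mor_equiv n R M).symm.trans ?_
    refine (Dat.pull_congr h 𝒰).trans ?_
    exact Dat.pull_id _
  · intro h
    refine (mor_unique n R M (𝟙 _) (Category.id_comp _) ?_).symm
    exact (Dat.pull_id _).trans h.symm

theorem ker_autHom [IsDomain R] :
    (autHom n R).ker = (Units.map (Matrix.scalar (Fin (n + 1)) :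
      R →+* Matrix (Fin (n + 1)) (Fin (n + 1)) R).toMonoidHom).range := by
  ext M
  rw [MonoidHom.mem_ker, autHom_eq_one_iff, mor_eq_id_iff, MonoidHom.mem_range]
  constructor
  · intro h
    obtain ⟨u, hu⟩ := scalar_of_equiv n R M.1 h
    exact ⟨u, Units.ext hu.symm⟩
  · rintro ⟨u, rfl⟩
    exact equiv_of_scalar n R u

theorem surjective_autHom (k : Type u) [Field k] : Function.Surjective (autHom n k) := by
  intro a
  have hf : a.hom.left ≫ CohB1.ProjSpace.toSpec n k = CohB1.ProjSpace.toSpec n k := Over.w a.hom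
  have hg : a.inv.left ≫ CohB1.ProjSpace.toSpec n k = CohB1.ProjSpace.toSpec n k := Over.w a.inv
  have hfg : a.hom.left ≫ a.inv.left = 𝟙 _ := by
    rw [← Over.comp_left, a.hom_inv_id]; rfl
  have hgf : a.inv.left ≫ a.hom.left = 𝟙 _ := by
    rw [← Over.comp_left, a.inv_hom_id]; rfl
  rcases Nat.eq_zero_or_pos n with h0 | hpos
  · subst h0
    refine ⟨1, ?_⟩
    rw [map_one]
    apply Iso.ext
    apply Over.OverMorphism.ext
    haveI : IsIso (CohB1.ProjSpace.toSpec 0 k) := Groth.Agent.Lib.Helper27ProjSpaceSurj.isIso_toSpec k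
    apply (cancel_mono (CohB1.ProjSpace.toSpec 0 k)).1
    exact (Category.id_comp _).trans hf.symm
  · obtain ⟨M, hM⟩ := exists_mor_eq n k hpos a.hom.left a.inv.left hf hg hfg hgf
    refine ⟨M, ?_⟩
    apply Iso.ext
    apply Over.OverMorphism.ext
    exact hM.symm

end Groth.Agent.Lib.T2H9.AutPn
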