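import Mathlib
import Groth.Prelude.Def_Curv2
import Groth.Agent.Lib.Helper4VarDim5
import Groth.Agent.Lib.Helper3LocDimBC
import Groth.Agent.Lib.Helper28FlatNormal

/-!
# Dimension of local rings under base field extension (helper9)
-/

set_option autoImplicit false
set_option linter.style.haveILetI false
universe u

open CategoryTheory CategoryTheory.Limits AlgebraicGeometry
attribute [local instance] Curv2.stalkAlgebra Curv2.resAlgebra

namespace Groth.Agent.Lib.T2H9.BCDim

theorem main (k : Type u) [Field k] (X : Scheme.{u}) [X.Over (Spec (CommRingCat.of k))]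
    [LocallyOfFiniteType (X ↘ (Spec (CommRingCat.of k)))]
    (K : Type u) [Field K] [Algebra k K] (y : ↥(Curv2.bc k X K)) (a a' : ℕ)
    (ha : Algebra.trdeg k (X.residueField (Curv2.bcFst k X K y)) = a)
    (ha' : letI : (Curv2.bc k X K).Over (Spec (CommRingCat.of K)) := ⟨Curv2.bcSnd k X K⟩
      Algebra.trdeg K ((Curv2.bc k X K).residueField y) = a') :
    ringKrullDim ((Curv2.bc k X K).presheaf.stalk y) + (a' : WithBot ℕ∞) =
        ringKrullDim (X.presheaf.stalk (Curv2.bcFst k X K y)) + (a : WithBot ℕ∞) ∧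
      ringKrullDim (↥((Curv2.bc k X K).presheaf.stalk y) ⧸
        Ideal.map ((Curv2.bcFst k X K).stalkMap y).hom
          (IsLocalRing.maximalIdeal ↥(X.presheaf.stalk (Curv2.bcFst k X K y)))) +
        (a' : WithBot ℕ∞) = (a : WithBot ℕ∞) := by
  letI : (Curv2.bc k X K).Over (Spec (CommRingCat.of K)) := ⟨Curv2.bcSnd k X K⟩
  haveI : LocallyOfFiniteType ((Curv2.bc k X K) ↘ Spec (CommRingCat.of K)) :=
    (inferInstance : LocallyOfFiniteType (pullback.snd (X ↘ Spec (CommRingCat.of k))
      (Spec.map (CommRingCat.ofHom (algebraMap k K)))))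
  haveI : IsLocallyNoetherian X := LocallyOfFiniteType.isLocallyNoetherian (X ↘ Spec (CommRingCat.of k))
  haveI : IsLocallyNoetherian (Curv2.bc k X K) :=
    LocallyOfFiniteType.isLocallyNoetherian ((Curv2.bc k X K) ↘ Spec (CommRingCat.of K))
  obtain ⟨b, hb⟩ := Groth.Agent.Lib.Helper4.VarDim.exists_ringKrullDim_stalk_eq k X
    (Curv2.bcFst k X K y)
  obtain ⟨b', hb'⟩ := Groth.Agent.Lib.Helper4.VarDim.exists_ringKrullDim_stalk_eq K
    (Curv2.bc k X K) y
  have h1 := Groth.Agent.Lib.Helper4.VarDim.localDim_eq_add k X (Curv2.bcFst k X K y) a b ha hb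
  have h2 := Groth.Agent.Lib.Helper4.VarDim.localDim_eq_add K (Curv2.bc k X K) y a' b' ha' hb'
  haveI : Subsingleton ↥(Spec (CommRingCat.of k)) :=
    inferInstanceAs (Subsingleton (PrimeSpectrum k))
  haveI : Subsingleton ↥(Spec (CommRingCat.of K)) :=
    inferInstanceAs (Subsingleton (PrimeSpectrum K))
  have hsq : IsPullback (Curv2.bcFst k X K) (Curv2.bcSnd k X K) (X ↘ Spec (CommRingCat.of k))
      (Spec.map (CommRingCat.ofHom (algebraMap k K))) := IsPullback.of_hasPullback _ _
  have h3 := Groth.Agent.Lib.Helper3.LocDimBC.localDim_eq_of_isPullback_onePoint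
    (X ↘ Spec (CommRingCat.of k)) (Curv2.bcSnd k X K) (Curv2.bcFst k X K)
    (Spec.map (CommRingCat.ofHom (algebraMap k K))) hsq y
  rw [h1, h2] at h3
  have h4 : a' + b' = a + b := by exact_mod_cast h3
  -- flatness
  haveI : Flat (Spec.map (CommRingCat.ofHom (algebraMap k K))) := by
    rw [Flat.SpecMap_iff]
    exact (RingHom.flat_algebraMap_iff (R := k) (S := K)).mpr inferInstance
  haveI : Flat (Curv2.bcFst k X K) :=
    MorphismProperty.pullback_fst (P := @Flat) _ _ inferInstance
  letI := ((Curv2.bcFst k X K).stalkMap y).hom.toAlgebra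
  haveI : IsLocalHom (algebraMap (X.presheaf.stalk (Curv2.bcFst k X K y))
      ((Curv2.bc k X K).presheaf.stalk y)) :=
    inferInstanceAs (IsLocalHom ((Curv2.bcFst k X K).stalkMap y).hom)
  haveI : Module.Flat (X.presheaf.stalk (Curv2.bcFst k X K y))
      ((Curv2.bc k X K).presheaf.stalk y) := Flat.stalkMap (Curv2.bcFst k X K) y
  have h5 := Groth.Agent.Lib.Helper28.ringKrullDim_eq_add_of_flat
    (R := X.presheaf.stalk (Curv2.bcFst k X K y)) (S := (Curv2.bc k X K).presheaf.stalk y)
    (Ideal.map ((Curv2.bcFst k X K).stalkMap y).hom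
      (IsLocalRing.maximalIdeal ↥(X.presheaf.stalk (Curv2.bcFst k X K y)))) rfl
  rw [hb, hb'] at h5
  refine ⟨?_, ?_⟩
  · rw [hb, hb']
    have : b' + a' = b + a := by omega
    exact_mod_cast this
  · generalize ringKrullDim (↥((Curv2.bc k X K).presheaf.stalk y) ⧸
        Ideal.map ((Curv2.bcFst k X K).stalkMap y).hom
          (IsLocalRing.maximalIdeal ↥(X.presheaf.stalk (Curv2.bcFst k X K y)))) = c at h5 ⊢
    induction c using WithBot.recBotCoe with
    | bot => simp at h5
    | coe c =>
      induction c using ENat.recTopCoe with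
      | top =>
        exfalso
        have : ((b' : ℕ∞) : WithBot ℕ∞) = (((⊤ : ℕ∞) + (b : ℕ∞) : ℕ∞) : WithBot ℕ∞) := by
          exact_mod_cast h5
        rw [top_add] at this
        exact ENat.coe_ne_top b' (WithBot.coe_injective this)
      | coe c =>
        have h6 : b' = c + b := by exact_mod_cast h5
        have : c + a' = a := by omega
        exact_mod_cast this

end Groth.Agent.Lib.T2H9.BCDim
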