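import Mathlib
import Groth.Prelude.Def_Curv2
import Groth.Agent.Lib.Helper4VarDim5
import Groth.Agent.Lib.Helper6GeomComp3
import Groth.Agent.Lib.Helper10FibStalk
import Groth.Agent.Lib.Helper28FlatNormal

/-!
# The maximal ideal under base field extension (helper9)
-/

set_option autoImplicit false
set_option linter.style.haveILetI false
universe u

open CategoryTheory CategoryTheory.Limits AlgebraicGeometry
attribute [local instance] Curv2.resAlgebra
open scoped TensorProduct

namespace Groth.Agent.Lib.T2H9.BCMax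

/-- the local ring of a reduced fibre, as a quotient of the local ring of the source. -/
theorem isReduced_quotient_of_isReduced_fiber {X' X : Scheme.{u}} (f : X' ⟶ X) (y : X')
    [IsReduced (f.fiber (f.base y))] :
    _root_.IsReduced (X'.presheaf.stalk y ⧸
      Ideal.map (f.stalkMap y).hom (IsLocalRing.maximalIdeal (X.presheaf.stalk (f.base y)))) := by
  have key : ∀ (s : X) (z : f.fiber s) [IsReduced (f.fiber s)],
      _root_.IsReduced (X'.presheaf.stalk (f.fiberι s z) ⧸
        Ideal.map (f.stalkMap (f.fiberι s z)).hom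
          (IsLocalRing.maximalIdeal (X.presheaf.stalk (f.base (f.fiberι s z))))) := by
    intro s z _
    have hsurj : Function.Surjective ((f.fiberι s).stalkMap z).hom :=
      (f.fiberι s).stalkMap_surjective z
    have hker := Groth.Agent.Lib.Helper10.FibStalk.ker_eq_map f s z
    let e := (Ideal.quotEquivOfEq hker.symm).trans (RingHom.quotientKerEquivOfSurjective hsurj)
    exact isReduced_of_injective e.toRingHom e.injective
  have h := key (f.base y) (f.asFiber y)
  rw [f.fiberι_asFiber y] at h
  exact h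

variable (k : Type u) [Field k] (X : Scheme.{u}) [X.Over (Spec (CommRingCat.of k))]
  (K : Type u) [Field K] [Algebra k K]

/-- the fibre of `X_K → X` over `x` is `Spec (κ(x) ⊗ K)`. -/
noncomputable def fiberIso (x : X) :
    (Curv2.bcFst k X K).fiber x ≅ Spec (CommRingCat.of (X.residueField x ⊗[k] K)) :=
  pullbackSymmetry _ _ ≪≫
    pullbackRightPullbackFstIso (X ↘ Spec (CommRingCat.of k))
      (Spec.map (CommRingCat.ofHom (algebraMap k K))) (X.fromSpecResidueField x) ≪≫
    pullback.congrHom (Groth.Agent.Lib.Helper6.GeomComp.specMap_resMap k X x).symm rfl ≪≫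
    pullbackSpecIso k (X.residueField x) K

theorem main [LocallyOfFiniteType (X ↘ (Spec (CommRingCat.of k)))] (y : ↥(Curv2.bc k X K))
    (hdim : ringKrullDim ↥(X.presheaf.stalk (Curv2.bcFst k X K y)) =
      ringKrullDim ↥((Curv2.bc k X K).presheaf.stalk y))
    (hred : _root_.IsReduced (X.residueField (Curv2.bcFst k X K y) ⊗[k] K)) :
    Ideal.map ((Curv2.bcFst k X K).stalkMap y).hom
        (IsLocalRing.maximalIdeal ↥(X.presheaf.stalk (Curv2.bcFst k X K y))) =
      IsLocalRing.maximalIdeal ↥((Curv2.bc k X K).presheaf.stalk y) := by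
  letI : (Curv2.bc k X K).Over (Spec (CommRingCat.of K)) := ⟨Curv2.bcSnd k X K⟩
  haveI : LocallyOfFiniteType ((Curv2.bc k X K) ↘ Spec (CommRingCat.of K)) :=
    (inferInstance : LocallyOfFiniteType (pullback.snd (X ↘ Spec (CommRingCat.of k))
      (Spec.map (CommRingCat.ofHom (algebraMap k K)))))
  haveI : IsLocallyNoetherian X := LocallyOfFiniteType.isLocallyNoetherian (X ↘ Spec (CommRingCat.of k))
  haveI : IsLocallyNoetherian (Curv2.bc k X K) :=
    LocallyOfFiniteType.isLocallyNoetherian ((Curv2.bc k X K) ↘ Spec (CommRingCat.of K))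
  -- reducedness
  haveI : _root_.IsReduced ↑(CommRingCat.of (X.residueField (Curv2.bcFst k X K y) ⊗[k] K)) := hred
  haveI : IsReduced (Spec (CommRingCat.of (X.residueField (Curv2.bcFst k X K y) ⊗[k] K))) :=
    inferInstance
  haveI : IsReduced ((Curv2.bcFst k X K).fiber ((Curv2.bcFst k X K).base y)) :=
    isReduced_of_isOpenImmersion (fiberIso k X K ((Curv2.bcFst k X K).base y)).hom
  haveI hQred := isReduced_quotient_of_isReduced_fiber (Curv2.bcFst k X K) y
  -- dimension
  obtain ⟨b, hb⟩ := Groth.Agent.Lib.Helper4.VarDim.exists_ringKrullDim_stalk_eq k X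
    (Curv2.bcFst k X K y)
  haveI : Flat (Spec.map (CommRingCat.ofHom (algebraMap k K))) := by
    rw [Flat.SpecMap_iff]
    exact (RingHom.flat_algebraMap_iff (R := k) (S := K)).mpr inferInstance
  haveI : Flat (Curv2.bcFst k X K) :=
    MorphismProperty.pullback_fst (P := @Flat) _ _ inferInstance
  letI := ((Curv2.bcFst k X K).stalkMap y).hom.toAlgebra
  haveI : IsLocalHom (algebraMap (X.presheaf.stalk (Curv2.bcFst k X K y))
      ((Curv2.bc k X K).presheaf.stalk y)) :=
    inferInstanceAs (IsLocalHom ((Curv2.bcFst k X K).stalkMap y).hom)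
  haveI : Module.Flat (X.presheaf.stalk (Curv2.bcFst k X K y))
      ((Curv2.bc k X K).presheaf.stalk y) := Flat.stalkMap (Curv2.bcFst k X K) y
  set J := Ideal.map ((Curv2.bcFst k X K).stalkMap y).hom
      (IsLocalRing.maximalIdeal ↥(X.presheaf.stalk (Curv2.bcFst k X K y))) with hJ
  have h5 := Groth.Agent.Lib.Helper28.ringKrullDim_eq_add_of_flat
    (R := X.presheaf.stalk (Curv2.bcFst k X K y)) (S := (Curv2.bc k X K).presheaf.stalk y) J rfl
  rw [← hdim, hb] at h5
  have hJle : J ≤ IsLocalRing.maximalIdeal ((Curv2.bc k X K).presheaf.stalk y) :=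
    IsLocalRing.map_maximalIdeal_le _
  have hJne : J ≠ ⊤ := fun h => (IsLocalRing.maximalIdeal.isMaximal _).ne_top
    (top_le_iff.mp (h ▸ hJle))
  haveI : Nontrivial ((Curv2.bc k X K).presheaf.stalk y ⧸ J) := Ideal.Quotient.nontrivial_iff.mpr hJne
  have hdim0 : ringKrullDim ((Curv2.bc k X K).presheaf.stalk y ⧸ J) ≤ 0 := by
    generalize ringKrullDim ((Curv2.bc k X K).presheaf.stalk y ⧸ J) = c at h5 ⊢
    induction c using WithBot.recBotCoe with
    | bot => exact bot_le
    | coe c =>
      induction c using ENat.recTopCoe with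
      | top =>
        exfalso
        have : ((b : ℕ∞) : WithBot ℕ∞) = (((⊤ : ℕ∞) + (b : ℕ∞) : ℕ∞) : WithBot ℕ∞) := by
          exact_mod_cast h5
        rw [top_add] at this
        exact ENat.coe_ne_top b (WithBot.coe_injective this)
      | coe c =>
        have h6 : b = c + b := by exact_mod_cast h5
        have : c = 0 := by omega
        subst this
        rfl
  haveI : Ring.KrullDimLE 0 ((Curv2.bc k X K).presheaf.stalk y ⧸ J) :=
    (Ring.krullDimLE_iff).mpr hdim0
  haveI : IsLocalRing ((Curv2.bc k X K).presheaf.stalk y ⧸ J) := inferInstance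
  have hfield : IsField ((Curv2.bc k X K).presheaf.stalk y ⧸ J) :=
    Ring.KrullDimLE.isField_of_isReduced
  haveI := Ideal.Quotient.maximal_of_isField J hfield
  exact IsLocalRing.eq_maximalIdeal ‹J.IsMaximal›

end Groth.Agent.Lib.T2H9.BCMax
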