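import Groth.Agent.Lib.T2H9Grauert
import Groth.Agent.S9705

/-!
# Complexes over Bézout domains / DVRs and the Betti-number criterion (helper9)

Over a Bézout domain submodules of flat modules are flat, so for a complex of flat modules
`opcycles` is flat iff the homology is.  Combined with the Grauert criterion
(`T2H9.Grauert`) this gives, over a DVR `R` and for `X` proper over `Spec R`, `F` coherent
and `R`-flat: the `p`-th Betti numbers at the closed and generic point agree iff
`H^p(X,F)` and `H^{p+1}(X,F)` are free (`fiberRank_eq_generic_iff_free`).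
-/

set_option autoImplicit false
set_option linter.style.haveILetI false
set_option linter.unusedSectionVars false
set_option linter.unusedVariables false
universe u
open CategoryTheory AlgebraicGeometry Opposite TopologicalSpace Limits TensorProduct

namespace Groth.Agent.Lib.T2H9.BezoutCx

open Groth.Agent.Lib.Helper3

section alg
variable {R : Type u} [CommRing R] [IsDomain R] [IsBezout R]

/-- over a Bézout domain, a module embedding into a flat module is flat -/
theorem flat_of_injective {N M : Type u} [AddCommGroup N] [AddCommGroup M] [Module R N] [Module R M]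
    [Module.Flat R M] (f : N →ₗ[R] M) (hf : Function.Injective f) : Module.Flat R N := by
  rw [Module.Flat.flat_iff_torsion_eq_bot_of_isBezout]
  have hM : Submodule.torsion R M = ⊥ := Module.Flat.torsion_eq_bot
  rw [eq_bot_iff]
  intro n hn
  rw [Submodule.mem_torsion_iff] at hn
  obtain ⟨a, ha⟩ := hn
  have h1 : f n ∈ Submodule.torsion R M := by
    rw [Submodule.mem_torsion_iff]
    refine ⟨a, ?_⟩
    have ha' : (a : R) • n = 0 := ha
    change (a : R) • f n = 0
    rw [← map_smul, ha', map_zero]
  rw [hM, Submodule.mem_bot] at h1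
  rw [Submodule.mem_bot]
  exact hf (h1.trans (map_zero f).symm)

/-- over a Bézout domain, for a complex of flat modules: `opcycles` flat iff homology flat -/
theorem flat_opcycles_iff_flat_homology {ι : Type} {c : ComplexShape ι}
    (P : HomologicalComplex (ModuleCat.{u} R) c) (p q : ι) (hrel : c.Rel p q)
    [Module.Flat R (P.X q)] :
    Module.Flat R (P.opcycles p) ↔ Module.Flat R (P.homology p) := by
  constructor
  · intro h
    exact flat_of_injective (P.homologyι p).hom ((ModuleCat.mono_iff_injective _).mp inferInstance)
  · intro h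
    haveI : Module.Flat R (LinearMap.range (P.fromOpcycles p q).hom) :=
      flat_of_injective (LinearMap.range (P.fromOpcycles p q).hom).subtype
        (Submodule.injective_subtype _)
    refine flat_of_exact_of_flat_left_right (P.homologyι p).hom
      (P.fromOpcycles p q).hom.rangeRestrict
      ((ModuleCat.mono_iff_injective _).mp inferInstance)
      (LinearMap.surjective_rangeRestrict _) ?_
    have hex := exact_homologyι_fromOpcycles P p q (c.next_eq' hrel)
    intro w
    rw [← hex w]
    constructor
    · intro h0
      exact congrArg Subtype.val h0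
    · intro h0
      exact Subtype.ext h0

end alg

section dvr
open Groth.Agent.Lib.T2H9.TFunGeo

variable (R : Type u) [CommRing R] [IsDomain R] [IsDiscreteValuationRing R]

theorem eq_closedPoint_of_ne_genericPoint (x : ↥(Spec (CommRingCat.of R)))
    (hx : x ≠ genericPoint ↥(Spec (CommRingCat.of R))) : x = IsLocalRing.closedPoint R := by
  rw [genericPoint_eq_bot_of_affine (CommRingCat.of R)] at hx
  have h1 : x.asIdeal ≠ ⊥ := fun h => hx (PrimeSpectrum.ext h)
  have h2 : x.asIdeal.IsMaximal := x.2.isMaximal h1
  exact PrimeSpectrum.ext (IsLocalRing.eq_maximalIdeal h2)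

/-- on the spectrum of a discrete valuation ring, a function is locally constant iff it takes the
same value at the closed and at the generic point -/
theorem isLocallyConstant_iff {α : Type*} (g : ↥(Spec (CommRingCat.of R)) → α)
    (s : ↥(Spec (CommRingCat.of R))) (hs : s ≠ genericPoint ↥(Spec (CommRingCat.of R))) :
    IsLocallyConstant g ↔ g s = g (genericPoint ↥(Spec (CommRingCat.of R))) := by
  constructor
  · intro h
    letI : TopologicalSpace α := ⊥
    haveI : DiscreteTopology α := ⟨rfl⟩
    have h1 : genericPoint ↥(Spec (CommRingCat.of R)) ⤳ s := genericPoint_specializes s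
    exact ((h1.map h.continuous).eq).symm
  · intro h
    have hc : ∀ x, g x = g (genericPoint ↥(Spec (CommRingCat.of R))) := by
      intro x
      by_cases hx : x = genericPoint ↥(Spec (CommRingCat.of R))
      · rw [hx]
      · rw [eq_closedPoint_of_ne_genericPoint R x hx, ← eq_closedPoint_of_ne_genericPoint R s hs, h]
    have : g = fun _ => g (genericPoint ↥(Spec (CommRingCat.of R))) := funext hc
    rw [this]
    exact IsLocallyConstant.const _

variable (X : Scheme.{u}) [X.Over (Spec (CommRingCat.of R))]
  [IsProper (X ↘ Spec (CommRingCat.of R))] (F : X.Modules) (hF : Coh.IsCoh F)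
  (hfl : FlatMod.IsFlatOver (X ↘ Spec (CommRingCat.of R)) F)

include hF hfl in
/-- over a discrete valuation ring: `dim H^p(X_s, F_s) = dim H^p(X_η, F_η)` iff `H^p(X, F)` and
`H^{p+1}(X, F)` are free -/
theorem fiberRank_eq_generic_iff_free (p : ℕ) (s : ↥(Spec (CommRingCat.of R)))
    (hs : s ≠ genericPoint ↥(Spec (CommRingCat.of R))) :
    CohIII.fiberRank (X ↘ Spec (CommRingCat.of R)) F p s =
        CohIII.fiberRank (X ↘ Spec (CommRingCat.of R)) F p
          (genericPoint ↥(Spec (CommRingCat.of R))) ↔
      Module.Free R (Coh.HH X F p) ∧ Module.Free R (Coh.HH X F (p + 1)) := by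
  obtain ⟨P, h1, h2, h3, h4⟩ :=
    Groth.Agent.Lib.T2H9.CoreBC.exists_chain_bridge_bc R X F hF hfl
  have hP : ∀ i, Module.Finite R (P.X i) ∧ Module.Flat R (P.X i) := fun i =>
    ⟨(h1 i).1, haveI := (h1 i).2; inferInstance⟩
  have hflat : ∀ i, Module.Flat R (P.X i) := fun i => (hP i).2
  have hfr : CohIII.fiberRank (X ↘ Spec (CommRingCat.of R)) F p = CohIII.dRank P (-(p : ℤ)) := by
    funext y
    exact Groth.Agent.Lib.T2H9.FibRank.fiberRank_eq_dRank R F P p
      (fun A' _ _ X' _ g' hsq => h4 A' X' g' hsq p) y
  have hl : ∀ q : ℕ, Nonempty (P.homology (-(q : ℤ)) ≃ₗ[R] Coh.HH X F q) := by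
    intro q
    obtain ⟨e⟩ := h3 q
    let l1 := Groth.Agent.Lib.T2H9.LenFormula.bridgeLinearEquiv R F P (-(q : ℤ)) q e
      (ModuleCat.of R R)
    let l2 : Coh.HH X ((CohIII.tensorAFunctor R F).obj (ModuleCat.of R R)) q ≃ₗ[R] Coh.HH X F q :=
      Groth.Agent.Lib.T2H5.HilbPoly.hhEquiv (tensorAFunctorUnitIso R F) q
    let l3 := (TUnitIso P (-(q : ℤ))).toLinearEquiv
    exact ⟨(l3.symm.trans l1).trans l2⟩
  have hfinH : ∀ i : ℤ, Module.Finite R (P.homology i) := by
    intro i
    haveI := (hP i).1
    haveI := finite_opcycles P i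
    exact Module.Finite.of_injective (P.homologyι i).hom
      ((ModuleCat.mono_iff_injective _).mp inferInstance)
  have hfree_iff : ∀ q : ℕ, Module.Free R (Coh.HH X F q) ↔ Module.Flat R (P.homology (-(q : ℤ))) := by
    intro q
    obtain ⟨l⟩ := hl q
    haveI := hfinH (-(q : ℤ))
    constructor
    · intro h
      haveI : Module.Free R (P.homology (-(q : ℤ))) := Module.Free.of_equiv l.symm
      infer_instance
    · intro h
      haveI : Module.Free R (P.homology (-(q : ℤ))) := Module.free_of_flat_of_isLocalRing
      exact Module.Free.of_equiv l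
  set j : ℤ := -(p : ℤ) with hj
  have hj1 : -((p + 1 : ℕ) : ℤ) = j - 1 := by
    push_cast
    ring
  have hrel : ∀ q : ℤ, (ComplexShape.down ℤ).Rel q (q - 1) := by
    intro q
    show q - 1 + 1 = q
    ring
  rw [hfree_iff p, hfree_iff (p + 1), hj1, hfr,
    ← isLocallyConstant_iff R (CohIII.dRank P j) s hs]
  haveI := hflat (j - 1)
  haveI := hflat (j - 1 - 1)
  rw [← flat_opcycles_iff_flat_homology P j (j - 1) (hrel j),
    ← flat_opcycles_iff_flat_homology P (j - 1) (j - 1 - 1) (hrel (j - 1)),
    ← Groth.Agent.S2375.result P hflat j,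
    ← Groth.Agent.S2410.preservesEpi_iff_flat_opcycles P hflat j (j - 1) (by ring)]
  constructor
  · intro h
    exact (Groth.Agent.S2381.result P hP j).2 inferInstance h
  · intro h
    exact (Groth.Agent.S2381.result P hP j).1 h

end dvr

end Groth.Agent.Lib.T2H9.BezoutCx
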