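import Mathlib

set_option autoImplicit false
set_option linter.unusedSectionVars false
set_option linter.style.haveILetI false
set_option linter.unusedVariables false

open Polynomial IntermediateField

namespace Groth.Agent.Lib.T2H9.BirHyp

variable {k K : Type*} [Field k] [Field K] [Algebra k K] {d : ℕ} (s : Fin d → K)

/-- **Algebraic core**: a finitely generated field extension `K/k` which is separable algebraic over a purely
transcendental subextension `k(s)` is the fraction field of a hypersurface ring `k[T][x]/(g)`. -/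
theorem exists_hypersurface_model [Algebra.EssFiniteType k K] (hs : IsTranscendenceBasis k s)
    (hsep : Algebra.IsSeparable (IntermediateField.adjoin k (Set.range s)) K) :
    ∃ (g : Polynomial (MvPolynomial (Fin d) k)) (ψ : AdjoinRoot g →+* K), g.Monic ∧
      Irreducible (g.map (algebraMap (MvPolynomial (Fin d) k) (FractionRing (MvPolynomial (Fin d) k)))) ∧
      (g.map (algebraMap (MvPolynomial (Fin d) k) (FractionRing (MvPolynomial (Fin d) k)))).Separable ∧
      (∀ c : k, ψ (algebraMap k (AdjoinRoot g) c) = algebraMap k K c) ∧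
      Function.Injective ψ ∧
      (∀ z : K, ∃ x y : AdjoinRoot g, z = ψ x / ψ y) := by
  classical
  set R := MvPolynomial (Fin d) k with hR
  set Q := FractionRing R with hQ
  set F := IntermediateField.adjoin k (Set.range s) with hF
  have hai : AlgebraicIndependent k s := hs.1
  let eQF : Q ≃ₐ[k] F := hai.aevalEquivField
  letI algRK : Algebra R K := (MvPolynomial.aeval s : R →ₐ[k] K).toRingHom.toAlgebra
  letI algQK : Algebra Q K := ((F.val : F →ₐ[k] K).comp (eQF : Q →ₐ[k] F)).toRingHom.toAlgebra
  have hRK : ∀ a : R, algebraMap R K a = MvPolynomial.aeval s a := fun a => rfl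
  have hQK : ∀ q : Q, algebraMap Q K q = ((eQF q : F) : K) := fun q => rfl
  haveI : IsScalarTower R Q K := by
    refine IsScalarTower.of_algebraMap_eq fun a => ?_
    rw [hRK, hQK]
    exact (hai.aevalEquivField_algebraMap_apply_coe a).symm
  haveI : IsScalarTower k Q K := by
    refine IsScalarTower.of_algebraMap_eq fun c => ?_
    rw [hQK, AlgEquiv.commutes]
    rfl
  haveI : IsScalarTower k R K := by
    refine IsScalarTower.of_algebraMap_eq fun c => ?_
    rw [hRK, MvPolynomial.algebraMap_eq, MvPolynomial.aeval_C]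
  -- separability over `Q`
  haveI : Algebra.IsSeparable Q K := by
    refine Algebra.IsSeparable.of_equiv_equiv (A₁ := F) (B₁ := K) eQF.symm.toRingEquiv (RingEquiv.refl K) ?_
    ext x
    simp only [RingHom.coe_comp, Function.comp_apply, RingHom.coe_coe]
    show algebraMap Q K (eQF.symm x) = algebraMap F K x
    rw [hQK]
    simp
  haveI : Algebra.IsAlgebraic Q K := Algebra.IsSeparable.isAlgebraic Q K
  haveI : Algebra.EssFiniteType Q K := Algebra.EssFiniteType.of_comp k Q K
  haveI : Module.Finite Q K := Algebra.finite_of_essFiniteType_of_isAlgebraic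
  obtain ⟨α, hα⟩ := Field.exists_primitive_element Q K
  have hinjRK : Function.Injective (algebraMap R K) := by
    intro a b hab
    exact (algebraicIndependent_iff_injective_aeval.1 hai) hab
  haveI : FaithfulSMul R K := (faithfulSMul_iff_algebraMap_injective R K).2 hinjRK
  have hαalg : IsAlgebraic R α :=
    (IsFractionRing.isAlgebraic_iff R Q K).2 (Algebra.IsAlgebraic.isAlgebraic α)
  obtain ⟨y, hy0, hyint⟩ := hαalg.exists_integral_multiple
  set β : K := y • α with hβ
  have hyK : algebraMap R K y ≠ 0 := fun h => hy0 (hinjRK (h.trans (map_zero _).symm))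
  have hβtop : Q⟮β⟯ = ⊤ := by
    rw [eq_top_iff, ← hα, IntermediateField.adjoin_simple_le_iff]
    have h1 : β ∈ Q⟮β⟯ := IntermediateField.mem_adjoin_simple_self Q β
    have h2 : algebraMap Q K (algebraMap R Q y) ∈ Q⟮β⟯ := IntermediateField.algebraMap_mem _ _
    have h3 : α = (algebraMap Q K (algebraMap R Q y))⁻¹ * β := by
      rw [← IsScalarTower.algebraMap_apply, hβ, Algebra.smul_def, ← mul_assoc, inv_mul_cancel₀ hyK,
        one_mul]
    rw [h3]
    exact mul_mem (inv_mem h2) h1
  set g : R[X] := minpoly R β with hg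
  have hgmonic : g.Monic := minpoly.monic hyint
  have hgmap : g.map (algebraMap R Q) = minpoly Q β :=
    (minpoly.isIntegrallyClosed_eq_field_fractions' Q hyint).symm
  have hβQ : IsIntegral Q β := Algebra.IsIntegral.isIntegral β
  have hroot : g.eval₂ (algebraMap R K) β = 0 := by
    rw [← Polynomial.aeval_def]; exact minpoly.aeval R β
  refine ⟨g, AdjoinRoot.lift (algebraMap R K) β hroot, hgmonic, ?_, ?_, ?_, ?_, ?_⟩
  · rw [hgmap]; exact minpoly.irreducible hβQ
  · rw [hgmap]; exact Algebra.IsSeparable.isSeparable Q β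
  · intro c
    rw [IsScalarTower.algebraMap_apply k R (AdjoinRoot g), AdjoinRoot.algebraMap_eq,
      AdjoinRoot.lift_of, ← IsScalarTower.algebraMap_apply]
  · rw [injective_iff_map_eq_zero]
    intro a ha
    induction a using AdjoinRoot.induction_on with
    | ih p =>
      rw [AdjoinRoot.lift_mk, ← Polynomial.aeval_def] at ha
      exact AdjoinRoot.mk_eq_zero.2 (minpoly.isIntegrallyClosed_dvd hyint ha)
  · intro z
    have hz : z ∈ Q⟮β⟯ := hβtop ▸ IntermediateField.mem_top
    have hβalg : IsAlgebraic Q β := Algebra.IsAlgebraic.isAlgebraic β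
    have hz' : z ∈ (Q⟮β⟯).toSubalgebra := hz
    rw [IntermediateField.adjoin_simple_toSubalgebra_of_isAlgebraic hβalg,
      Algebra.adjoin_singleton_eq_range_aeval] at hz'
    obtain ⟨P, rfl⟩ := hz'
    obtain ⟨b, hbmem, hb⟩ := IsLocalization.integerNormalization_spec (nonZeroDivisors R) P
    have hb0 : (b : R) ≠ 0 := nonZeroDivisors.ne_zero hbmem
    have hbK : algebraMap R K (b : R) ≠ 0 := fun h => hb0 (hinjRK (h.trans (map_zero _).symm))
    refine ⟨AdjoinRoot.mk g (IsLocalization.integerNormalization (nonZeroDivisors R) P),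
      AdjoinRoot.of g (b : R), ?_⟩
    rw [AdjoinRoot.lift_mk, AdjoinRoot.lift_of, eq_div_iff hbK]
    have h1 := congrArg (Polynomial.aeval β) hb
    rw [Polynomial.aeval_map_algebraMap, Polynomial.aeval_def] at h1
    rw [h1, ← algebraMap_smul Q b P, map_smul, Algebra.smul_def, mul_comm,
      ← IsScalarTower.algebraMap_apply]
    rfl

end Groth.Agent.Lib.T2H9.BirHyp
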