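import Groth.Agent.Lib.T2H9BirHyp1
import Groth.Agent.Lib.T2H3StalkSmooth
import Groth.Agent.Lib.T2H6BiratFF

set_option autoImplicit false
set_option linter.unusedSectionVars false
set_option linter.style.haveILetI false
set_option linter.unusedVariables false
universe u

open CategoryTheory AlgebraicGeometry Polynomial

namespace Groth.Agent.Lib.T2H9.BirHyp

attribute [local instance] Curv2.stalkAlgebra

/-- the structure map `k → O_{Y,y}` of `Y = Spec B` at a point is the localization map composed with `k → B`. -/
theorem stalkMap_Spec (k : Type u) [Field k] (B : Type u) [CommRing B] [Algebra k B]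
    (y : Spec (CommRingCat.of B)) (c : k) :
    letI : (Spec (CommRingCat.of B)).Over (Spec (CommRingCat.of k)) :=
      ⟨Spec.map (CommRingCat.ofHom (algebraMap k B))⟩
    Curv2.stalkMap k (Spec (CommRingCat.of B)) y c =
      (StructureSheaf.toStalk B y).hom (algebraMap k B c) := by
  letI : (Spec (CommRingCat.of B)).Over (Spec (CommRingCat.of k)) :=
      ⟨Spec.map (CommRingCat.ofHom (algebraMap k B))⟩
  have h2 : StructureSheaf.toStalk B y = (Scheme.ΓSpecIso (CommRingCat.of B)).inv ≫
      (Spec (CommRingCat.of B)).presheaf.germ ⊤ y trivial := rfl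
  have h3 := Scheme.ΓSpecIso_inv_naturality (CommRingCat.ofHom (algebraMap k B))
  have h4 : Curv2.stalkMap k (Spec (CommRingCat.of B)) y =
      ((Scheme.ΓSpecIso (CommRingCat.of k)).inv ≫
        (Spec.map (CommRingCat.ofHom (algebraMap k B))).appTop ≫
          (Spec (CommRingCat.of B)).presheaf.germ ⊤ y trivial).hom := rfl
  rw [h4, ← Category.assoc, ← h3, Category.assoc, ← h2]
  rfl


/-- **Main theorem**: an integral finite type `k`-scheme with separably generated function field is birational
to a hypersurface. -/
theorem main (k : Type u) [Field k]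
    (X : Scheme.{u}) [X.Over (Spec (CommRingCat.of k))] [IsIntegral X]
    [LocallyOfFiniteType (X ↘ Spec (CommRingCat.of k))] [QuasiCompact (X ↘ Spec (CommRingCat.of k))]
    (d : ℕ) (s : Fin d → X.presheaf.stalk (genericPoint X)) (hs : IsTranscendenceBasis k s)
    (hsep : Algebra.IsSeparable ↥(IntermediateField.adjoin k (Set.range s)) (X.presheaf.stalk (genericPoint X))) :
    ∃ (g : Polynomial (MvPolynomial (Fin d) k)), g.Monic ∧
      Irreducible (g.map (algebraMap (MvPolynomial (Fin d) k) (FractionRing (MvPolynomial (Fin d) k)))) ∧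
      (g.map (algebraMap (MvPolynomial (Fin d) k) (FractionRing (MvPolynomial (Fin d) k)))).Separable ∧
      ∃ (U : X.Opens) (V : (Spec (CommRingCat.of (AdjoinRoot g))).Opens) (e : (U : Scheme.{u}) ≅ (V : Scheme.{u})),
        (U : Set X).Nonempty ∧ (V : Set (Spec (CommRingCat.of (AdjoinRoot g)))).Nonempty ∧
        e.hom ≫ V.ι ≫ Spec.map (CommRingCat.ofHom (algebraMap k (AdjoinRoot g))) =
          U.ι ≫ (X ↘ Spec (CommRingCat.of k)) := by
  haveI : Algebra.EssFiniteType k (X.presheaf.stalk (genericPoint X)) :=
    Groth.Agent.Lib.T2H3.StalkSmooth.essFiniteType_stalk k X (genericPoint X)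
  obtain ⟨g, ψ, hmon, hirr, hsepg, hψk, hψinj, hψsurj⟩ :=
    exists_hypersurface_model (k := k) (K := X.presheaf.stalk (genericPoint X)) s hs hsep
  refine ⟨g, hmon, hirr, hsepg, ?_⟩
  set B := AdjoinRoot g with hB
  haveI : IsDomain B := hψinj.isDomain ψ
  haveI : IsDomain (CommRingCat.of B) := ‹IsDomain B›
  let Y : Scheme.{u} := Spec (CommRingCat.of B)
  letI ovY : Y.Over (Spec (CommRingCat.of k)) := ⟨Spec.map (CommRingCat.ofHom (algebraMap k B))⟩
  haveI : IsIntegral Y := inferInstance
  haveI : LocallyOfFiniteType (Y ↘ Spec (CommRingCat.of k)) := by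
    show LocallyOfFiniteType (Spec.map (CommRingCat.ofHom (algebraMap k B)))
    rw [HasRingHomProperty.Spec_iff (P := @LocallyOfFiniteType)]
    show (algebraMap k B).FiniteType
    rw [RingHom.finiteType_algebraMap]
    haveI : Algebra.FiniteType k (MvPolynomial (Fin d) k)[X] :=
      Algebra.FiniteType.trans (S := MvPolynomial (Fin d) k) inferInstance inferInstance
    exact Algebra.FiniteType.of_surjective ((AdjoinRoot.mkₐ g).restrictScalars k)
      (AdjoinRoot.mk_surjective (g := g))
  -- `X.functionField` is a fraction field of `B` through `ψ`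
  letI algBK : Algebra B X.functionField := ψ.toAlgebra
  haveI : FaithfulSMul B X.functionField := (faithfulSMul_iff_algebraMap_injective B _).2 hψinj
  haveI fracX : IsFractionRing B X.functionField := IsFractionRing.of_field B X.functionField hψsurj
  letI algBY : Algebra B Y.functionField := instAlgebraCarrierFunctionFieldSpec (CommRingCat.of B)
  haveI fracY : IsFractionRing B Y.functionField :=
    functionField_isFractionRing_of_affine (CommRingCat.of B)
  let e₀ : X.functionField ≃ₐ[B] Y.functionField :=
    IsLocalization.algEquiv (nonZeroDivisors B) X.functionField Y.functionField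
  let e : X.functionField ≅ Y.functionField := e₀.toRingEquiv.toCommRingCatIso
  have he : e.hom.hom.comp (Curv2.stalkMap k X (genericPoint X)) =
      Curv2.stalkMap k Y (genericPoint Y) := by
    ext c
    have h1 : Curv2.stalkMap k X (genericPoint X) c = algebraMap B X.functionField (algebraMap k B c) :=
      (hψk c).symm
    have h2 : Curv2.stalkMap k Y (genericPoint Y) c =
        algebraMap B Y.functionField (algebraMap k B c) :=
      (stalkMap_Spec k B (genericPoint Y) c).trans rfl
    rw [RingHom.comp_apply, h1, h2]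
    exact e₀.commutes (algebraMap k B c)
  obtain ⟨U, V, hU, φ, hφ⟩ := Groth.Agent.Lib.T2H6.BiratFF.exists_iso_opens k X Y e he
  refine ⟨U, V, φ, hU, ?_, hφ⟩
  obtain ⟨x, hx⟩ := hU
  exact ⟨(φ.hom ⟨x, hx⟩ : V).1, (φ.hom ⟨x, hx⟩ : V).2⟩

end Groth.Agent.Lib.T2H9.BirHyp
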