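import Mathlib
import Groth.Prelude.Def_CInt
import Groth.Agent.Lib.Helper6StalkIso

/-!
# helper9: morphisms which are isomorphisms over a dense open with schematically dense preimage:
étale at `x` ⟺ flat at `x` ⟺ local section through `x` (S17728)
-/

set_option autoImplicit false
universe u
open CategoryTheory CategoryTheory.Limits AlgebraicGeometry TopologicalSpace Opposite

namespace Groth.Agent.Lib.T2H9.BirSecA

/-- A closed immersion through which a scheme-theoretically dominant morphism factors is an isomorphism. -/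
theorem isIso_of_isClosedImmersion_of_dominant {Z W D : Scheme.{u}} (i : Z ⟶ W) [IsClosedImmersion i]
    (j : D ⟶ W) [IsSchemeTheoreticallyDominant j] (k : D ⟶ Z) (h : k ≫ i = j) : IsIso i := by
  rw [IsClosedImmersion.isIso_iff_ker_eq_bot, eq_bot_iff]
  have h1 := Scheme.Hom.le_ker_comp k i
  rw [h, Scheme.Hom.ker_eq_bot j] at h1
  exact h1

/-- If `f` is a monomorphism over `U`, two morphisms to the source which agree after `f` and land over `U`
agree. -/
theorem eq_of_comp_eq_of_mono_restrict {X S D : Scheme.{u}} (f : X ⟶ S) (U : S.Opens) [Mono (f ∣_ U)]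
    (α β : D ⟶ X) (h : α ≫ f = β ≫ f) (hr : ∀ d, f (α d) ∈ U) : α = β := by
  have hα : Set.range α ⊆ Set.range (f ⁻¹ᵁ U).ι := by
    rw [Scheme.Opens.range_ι]
    rintro _ ⟨d, rfl⟩
    exact hr d
  have hβ : Set.range β ⊆ Set.range (f ⁻¹ᵁ U).ι := by
    rw [Scheme.Opens.range_ι]
    rintro _ ⟨d, rfl⟩
    show f (β d) ∈ U
    have : f (β d) = f (α d) := by
      rw [← Scheme.Hom.comp_apply, ← h, Scheme.Hom.comp_apply]
    rw [this]
    exact hr d
  have h1 : IsOpenImmersion.lift (f ⁻¹ᵁ U).ι α hα ≫ (f ∣_ U) =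
      IsOpenImmersion.lift (f ⁻¹ᵁ U).ι β hβ ≫ (f ∣_ U) := by
    rw [← cancel_mono U.ι, Category.assoc, Category.assoc, morphismRestrict_ι,
      IsOpenImmersion.lift_fac_assoc, IsOpenImmersion.lift_fac_assoc, h]
  have h2 := (cancel_mono (f ∣_ U)).mp h1
  rw [← IsOpenImmersion.lift_fac (f ⁻¹ᵁ U).ι α hα, h2, IsOpenImmersion.lift_fac]

/-- Schematic density in the prelude's sense gives scheme-theoretic dominance (Mathlib's sense) of the
inclusion of the trace on any open subscheme. -/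
theorem isSchemeTheoreticallyDominant_of_dense {X : Scheme.{u}} {N : X.Opens}
    (hN : CInt.IsSchematicallyDense N) (W : X.Opens) [QuasiCompact (W.ι ⁻¹ᵁ N).ι] :
    IsSchemeTheoreticallyDominant ((W.ι ⁻¹ᵁ N).ι) := by
  rw [isSchemeTheoreticallyDominant_iff]
  refine Scheme.IdealSheafData.ext ?_
  funext T
  rw [Scheme.Hom.ker_apply]
  show _ = (⊥ : Ideal _)
  rw [eq_bot_iff]
  intro a ha
  rw [RingHom.mem_ker] at ha
  rw [Ideal.mem_bot]
  rw [Scheme.Opens.ι_app] at ha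
  have hle : W.ι ''ᵁ T.1 ⊓ N ≤ W.ι ''ᵁ ((W.ι ⁻¹ᵁ N).ι ''ᵁ ((W.ι ⁻¹ᵁ N).ι ⁻¹ᵁ T.1)) := by
    rintro x ⟨⟨y, hyT, rfl⟩, hxN⟩
    refine ⟨y, ?_, rfl⟩
    exact ⟨⟨y, hxN⟩, hyT, rfl⟩
  apply hN (W.ι ''ᵁ T.1)
  refine Eq.trans ?_ (map_zero _).symm
  have h2 : (X.presheaf.map (homOfLE (inf_le_left : W.ι ''ᵁ T.1 ⊓ N ≤ W.ι ''ᵁ T.1)).op).hom a =
      (X.presheaf.map (homOfLE hle).op).hom
        ((W.toScheme.presheaf.map (homOfLE (show (W.ι ⁻¹ᵁ N).ι ''ᵁ ((W.ι ⁻¹ᵁ N).ι ⁻¹ᵁ T.1) ≤ T.1 from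
          by rintro _ ⟨z, hz, rfl⟩; exact hz)).op).hom a) := by
    show _ = (X.presheaf.map (homOfLE hle).op).hom ((X.presheaf.map _).hom a)
    rw [← CommRingCat.comp_apply, ← Functor.map_comp]
    rfl
  rw [h2]
  erw [ha]
  exact map_zero _

/-- (3) ⇒ (1): a local section through `x` gives an open neighbourhood of `x` which is an open subscheme of `S`. -/
theorem exists_isOpenImmersion_of_section {X S : Scheme.{u}} [IsLocallyNoetherian X] (f : X ⟶ S)
    (U : S.Opens) (hiso : IsIso (f ∣_ U)) (hdense : CInt.IsSchematicallyDense (f ⁻¹ᵁ U))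
    (x : X) (V : S.Opens) (hV : f x ∈ V) (σ : V.toScheme ⟶ X) (hσ : σ ≫ f = V.ι)
    (hσx : σ ⟨f x, hV⟩ = x) :
    ∃ W : X.Opens, x ∈ W ∧ IsOpenImmersion (W.ι ≫ f) := by
  obtain ⟨W₀, hW₀, hxW₀⟩ : ∃ W₀ : X.Opens, IsAffineOpen W₀ ∧ x ∈ W₀ := by
    obtain ⟨_, ⟨W, hW, rfl⟩, hx, -⟩ :=
      X.isBasis_affineOpens.exists_subset_of_mem_open (Set.mem_univ x) isOpen_univ
    exact ⟨W, hW, hx⟩
  set V' : V.toScheme.Opens := σ ⁻¹ᵁ W₀ with hV'
  set ιZ : V'.toScheme ⟶ S := V'.ι ≫ V.ι with hιZ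
  set τ : V'.toScheme ⟶ X := V'.ι ≫ σ with hτ
  have hτf : τ ≫ f = ιZ := by rw [hτ, Category.assoc, hσ]
  set W₁ : X.Opens := W₀ ⊓ f ⁻¹ᵁ ιZ.opensRange with hW₁
  have hxW₁ : x ∈ W₁ := by
    refine ⟨hxW₀, ?_⟩
    show f x ∈ ιZ.opensRange
    have h1 : (⟨f x, hV⟩ : V.toScheme) ∈ V' := by
      show σ ⟨f x, hV⟩ ∈ W₀
      rw [hσx]; exact hxW₀
    exact ⟨⟨⟨f x, hV⟩, h1⟩, rfl⟩
  have hτr : Set.range τ ⊆ Set.range W₁.ι := by
    rw [Scheme.Opens.range_ι]
    rintro _ ⟨z, rfl⟩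
    refine ⟨z.2, ?_⟩
    show f (τ z) ∈ ιZ.opensRange
    rw [← Scheme.Hom.comp_apply, hτf]
    exact ⟨z, rfl⟩
  set τ₁ : V'.toScheme ⟶ W₁.toScheme := IsOpenImmersion.lift W₁.ι τ hτr with hτ₁
  have hpr : Set.range (W₁.ι ≫ f) ⊆ Set.range ιZ := by
    rintro _ ⟨w, rfl⟩
    exact w.2.2
  set p : W₁.toScheme ⟶ V'.toScheme := IsOpenImmersion.lift ιZ (W₁.ι ≫ f) hpr with hp
  have hpι : p ≫ ιZ = W₁.ι ≫ f := IsOpenImmersion.lift_fac _ _ _
  have hτp : τ₁ ≫ p = 𝟙 _ := by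
    rw [← cancel_mono ιZ, Category.assoc, hpι, ← Category.assoc, hτ₁, IsOpenImmersion.lift_fac,
      hτf, Category.id_comp]
  haveI : IsAffine W₀.toScheme := hW₀
  haveI : IsSeparated p := by
    haveI : IsSeparated (p ≫ Limits.terminal.from _) := by
      have : p ≫ Limits.terminal.from _ = X.homOfLE (inf_le_left : W₁ ≤ W₀) ≫
        Limits.terminal.from W₀.toScheme := Limits.terminal.hom_ext _ _
      rw [this]
      infer_instance
    exact IsSeparated.of_comp p (Limits.terminal.from _)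
  haveI : IsClosedImmersion (τ₁ ≫ p) := by rw [hτp]; infer_instance
  haveI : IsClosedImmersion τ₁ := IsClosedImmersion.of_comp τ₁ p
  haveI : IsLocallyNoetherian W₁.toScheme := isLocallyNoetherian_of_isOpenImmersion W₁.ι
  haveI hj : IsSchemeTheoreticallyDominant ((W₁.ι ⁻¹ᵁ (f ⁻¹ᵁ U)).ι) :=
    isSchemeTheoreticallyDominant_of_dense hdense W₁
  haveI : Mono (f ∣_ U) := inferInstance
  have hk : ((W₁.ι ⁻¹ᵁ (f ⁻¹ᵁ U)).ι ≫ p) ≫ τ₁ = (W₁.ι ⁻¹ᵁ (f ⁻¹ᵁ U)).ι := by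
    rw [← cancel_mono W₁.ι]
    symm
    apply eq_of_comp_eq_of_mono_restrict f U
    · simp only [Category.assoc]
      rw [hτ₁, IsOpenImmersion.lift_fac_assoc, hτf, hpι]
    · intro d
      exact d.2
  haveI : IsIso τ₁ := isIso_of_isClosedImmersion_of_dominant τ₁ _ _ hk
  haveI : IsIso p := by
    have : IsIso (τ₁ ≫ p) := by rw [hτp]; infer_instance
    exact IsIso.of_isIso_comp_left τ₁ p
  refine ⟨W₁, hxW₁, ?_⟩
  rw [← hpι]
  infer_instance

/-- (1) ⇒ (2) -/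
theorem flat_stalkMap_of_flat_nbhd {X S : Scheme.{u}} (f : X ⟶ S) (W : X.Opens) (x : X) (hx : x ∈ W)
    [Flat (W.ι ≫ f)] : (f.stalkMap x).hom.Flat := by
  have h1 := Flat.stalkMap (W.ι ≫ f) ⟨x, hx⟩
  have h2 := Scheme.Hom.stalkMap_comp W.ι f ⟨x, hx⟩
  have h3 := (IsIso.eq_comp_inv _).mpr h2.symm
  have h4 : ((W.ι ≫ f).stalkMap ⟨x, hx⟩ ≫ inv (W.ι.stalkMap ⟨x, hx⟩)).hom.Flat :=
    RingHom.Flat.comp h1 (RingHom.Flat.of_bijective (ConcreteCategory.bijective_of_isIso _))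
  exact (congrArg (fun q => (CommRingCat.Hom.hom q).Flat) h3).mpr h4

/-- density version for the open itself -/
theorem isSchemeTheoreticallyDominant_ι_of_dense {X : Scheme.{u}} {N : X.Opens}
    (hN : CInt.IsSchematicallyDense N) [QuasiCompact N.ι] :
    IsSchemeTheoreticallyDominant N.ι := by
  rw [isSchemeTheoreticallyDominant_iff]
  refine Scheme.IdealSheafData.ext ?_
  funext T
  rw [Scheme.Hom.ker_apply]
  show _ = (⊥ : Ideal _)
  rw [eq_bot_iff]
  intro a ha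
  rw [RingHom.mem_ker] at ha
  rw [Ideal.mem_bot]
  rw [Scheme.Opens.ι_app] at ha
  have hle : T.1 ⊓ N ≤ N.ι ''ᵁ (N.ι ⁻¹ᵁ T.1) := by
    rintro x ⟨hxT, hxN⟩
    exact ⟨⟨x, hxN⟩, hxT, rfl⟩
  apply hN T.1
  refine Eq.trans ?_ (map_zero _).symm
  have h2 : (X.presheaf.map (homOfLE (inf_le_left : T.1 ⊓ N ≤ T.1)).op).hom a =
      (X.presheaf.map (homOfLE hle).op).hom
        ((X.presheaf.map (homOfLE (show N.ι ''ᵁ (N.ι ⁻¹ᵁ T.1) ≤ T.1 from
          by rintro _ ⟨z, hz, rfl⟩; exact hz)).op).hom a) := by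
    rw [← CommRingCat.comp_apply, ← Functor.map_comp]
    rfl
  rw [h2]
  erw [ha]
  exact map_zero _

/-- Lemma D: density passes to the local scheme at a point. -/
theorem isSchemeTheoreticallyDominant_fromSpecStalk {X : Scheme.{u}} [IsLocallyNoetherian X] {N : X.Opens}
    (hN : CInt.IsSchematicallyDense N) (x : X) :
    IsSchemeTheoreticallyDominant ((X.fromSpecStalk x ⁻¹ᵁ N).ι) := by
  haveI := isSchemeTheoreticallyDominant_ι_of_dense hN
  haveI : Flat (X.fromSpecStalk x) := Groth.Agent.Lib.Helper6.flat_fromSpecStalk X x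
  have h1 : IsSchemeTheoreticallyDominant (pullback.fst (X.fromSpecStalk x) N.ι) := inferInstance
  rw [← pullbackRestrictIsoRestrict_inv_fst]
  infer_instance

/-- Lemma M -/
theorem mono_of_flat_of_dense {B : CommRingCat.{u}} {S' : Scheme.{u}} (g : Spec B ⟶ S') [Flat g]
    (U' : S'.Opens) [IsSchemeTheoreticallyDominant (g ⁻¹ᵁ U').ι] [QuasiCompact (g ⁻¹ᵁ U').ι]
    [Mono (g ∣_ U')] : Mono g := by
  have key : pullback.fst g g = pullback.snd g g := by
    set j' := pullback.snd (g ⁻¹ᵁ U').ι (pullback.fst g g) with hj'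
    haveI : IsSchemeTheoreticallyDominant j' := inferInstance
    haveI : QuasiCompact j' := inferInstance
    have hαβ : j' ≫ pullback.fst g g = j' ≫ pullback.snd g g := by
      apply eq_of_comp_eq_of_mono_restrict g U'
      · rw [Category.assoc, Category.assoc, pullback.condition]
      · intro d
        have : j' ≫ pullback.fst g g = pullback.fst (g ⁻¹ᵁ U').ι (pullback.fst g g) ≫ (g ⁻¹ᵁ U').ι :=
          pullback.condition.symm
        rw [this, Scheme.Hom.comp_apply]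
        exact (pullback.fst (g ⁻¹ᵁ U').ι (pullback.fst g g) d).2
    have h2 : (pullback.fst g g).appTop ≫ j'.appTop = (pullback.snd g g).appTop ≫ j'.appTop := by
      rw [← Scheme.Hom.comp_appTop, ← Scheme.Hom.comp_appTop, hαβ]
    haveI : Mono j'.appTop := ConcreteCategory.mono_of_injective _ (Scheme.Hom.app_injective j' ⊤)
    have h3 := (cancel_mono j'.appTop).mp h2
    apply ext_to_Spec
    show _ ≫ (pullback.fst g g).appTop = _ ≫ (pullback.snd g g).appTop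
    rw [h3]
  constructor
  intro T a b hab
  calc a = pullback.lift a b hab ≫ pullback.fst g g := (pullback.lift_fst _ _ _).symm
    _ = pullback.lift a b hab ≫ pullback.snd g g := by rw [key]
    _ = b := pullback.lift_snd _ _ _

theorem mono_morphismRestrict {X Y : Scheme.{u}} (ψ : X ⟶ Y) [Mono ψ] (N : Y.Opens) : Mono (ψ ∣_ N) := by
  haveI : Mono ((ψ ∣_ N) ≫ N.ι) := by
    rw [morphismRestrict_ι]
    infer_instance
  exact mono_of_mono (ψ ∣_ N) N.ι

/-- (2) ⇒ stalk map is an isomorphism -/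
theorem isIso_stalkMap_of_flat {X S : Scheme.{u}} [IsLocallyNoetherian X] (f : X ⟶ S)
    (U : S.Opens) (hiso : IsIso (f ∣_ U)) (hdense : CInt.IsSchematicallyDense (f ⁻¹ᵁ U)) (x : X)
    (hflat : (f.stalkMap x).hom.Flat) : IsIso (f.stalkMap x) := by
  set g := Spec.map (f.stalkMap x) with hg
  have hsq : g ≫ S.fromSpecStalk (f x) = X.fromSpecStalk x ≫ f :=
    Scheme.SpecMap_stalkMap_fromSpecStalk f
  set U' : (Spec (S.presheaf.stalk (f x))).Opens := S.fromSpecStalk (f x) ⁻¹ᵁ U with hU'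
  have hopen : g ⁻¹ᵁ U' = X.fromSpecStalk x ⁻¹ᵁ (f ⁻¹ᵁ U) := by
    rw [hU', ← Scheme.Hom.comp_preimage, ← Scheme.Hom.comp_preimage, hsq]
  haveI : Flat g := (Flat.SpecMap_iff).mpr hflat
  haveI hdom : IsSchemeTheoreticallyDominant (g ⁻¹ᵁ U').ι := by
    rw [hopen]; exact isSchemeTheoreticallyDominant_fromSpecStalk hdense x
  haveI : QuasiCompact (g ⁻¹ᵁ U').ι := inferInstance
  haveI : Mono (g ∣_ U') := by
    have hm : ∀ (q : Spec (X.presheaf.stalk x) ⟶ S), q = X.fromSpecStalk x ≫ f → Mono (q ∣_ U) := by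
      rintro q rfl
      rw [morphismRestrict_comp]
      haveI h5 : Mono (X.fromSpecStalk x ∣_ (f ⁻¹ᵁ U)) := mono_morphismRestrict _ _
      haveI h6 : Mono (f ∣_ U) := inferInstance
      exact @mono_comp _ _ _ _ _ _ h5 _ h6
    have h1 := hm (g ≫ S.fromSpecStalk (f x)) hsq
    rw [morphismRestrict_comp] at h1
    exact @mono_of_mono _ _ _ _ _ _ _ h1
  haveI : Mono g := mono_of_flat_of_dense g U'
  have hFF : (f.stalkMap x).hom.FaithfullyFlat := by
    algebraize [(f.stalkMap x).hom]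
    have : Module.FaithfullyFlat (S.presheaf.stalk (f x)) (X.presheaf.stalk x) :=
      @Module.FaithfullyFlat.of_flat_of_isLocalHom _ _ _ _ _ _ _ hflat (f.toLRSHom.prop x)
    exact ‹RingHom.FaithfullyFlat _›
  haveI : Surjective g := ((flat_and_surjective_SpecMap_iff (f.stalkMap x)).mpr hFF).2
  haveI : IsIso g := Flat.isIso_of_surjective_of_mono g
  exact (ConcreteCategory.isIso_iff_bijective _).mpr (isIso_SpecMap_iff.mp ‹IsIso g›)

/-- (2) ⇒ (3) -/
theorem exists_section_of_flat {X S : Scheme.{u}} [IsLocallyNoetherian S] (f : X ⟶ S)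
    [LocallyOfFiniteType f]
    (U : S.Opens) (hiso : IsIso (f ∣_ U)) (hdense : CInt.IsSchematicallyDense (f ⁻¹ᵁ U)) (x : X)
    (hflat : (f.stalkMap x).hom.Flat) :
    ∃ (V : S.Opens) (hV : f x ∈ V) (σ : V.toScheme ⟶ X), σ ≫ f = V.ι ∧ σ ⟨f x, hV⟩ = x := by
  haveI : IsLocallyNoetherian X := LocallyOfFiniteType.isLocallyNoetherian f
  haveI := isIso_stalkMap_of_flat f U hiso hdense x hflat
  set φ : Spec (S.presheaf.stalk (f x)) ⟶ X :=
    Spec.map (inv (f.stalkMap x)) ≫ X.fromSpecStalk x with hφdef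
  have hφ : φ ≫ f = S.fromSpecStalk (f x) ≫ 𝟙 S := by
    rw [Category.comp_id, hφdef, Category.assoc, ← Scheme.SpecMap_stalkMap_fromSpecStalk f,
      ← Spec.map_comp_assoc, IsIso.hom_inv_id, Spec.map_id, Category.id_comp]
  obtain ⟨V, hV, σ, hσ1, hσ2⟩ := spread_out_of_isGermInjective' (𝟙 S) f φ hφ
  refine ⟨V, hV, σ, by rw [hσ2, Category.comp_id], ?_⟩
  have h1 : φ (IsLocalRing.closedPoint _) = x := by
    rw [hφdef, Scheme.Hom.comp_apply]
    have : Spec.map (inv (f.stalkMap x)) (IsLocalRing.closedPoint _) = IsLocalRing.closedPoint _ :=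
      IsLocalRing.comap_closedPoint (inv (f.stalkMap x)).hom
    rw [this, Scheme.fromSpecStalk_closedPoint]
  have h2 : V.fromSpecStalkOfMem (f x) hV (IsLocalRing.closedPoint _) = ⟨f x, hV⟩ := by
    apply Subtype.ext
    have := congr($(V.fromSpecStalkOfMem_ι (f x) hV) (IsLocalRing.closedPoint _))
    rw [Scheme.Hom.comp_apply, Scheme.fromSpecStalk_closedPoint] at this
    exact this
  rw [← h2, ← Scheme.Hom.comp_apply, ← hσ1, h1]

end Groth.Agent.Lib.T2H9.BirSecA
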