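import Mathlib
import Groth.Prelude
import Groth.Agent.Lib.T2H7BlowStalk
import Groth.Agent.Lib.Helper18Fitt19
import Groth.Agent.Lib.Helper28RegEtale
import Groth.Agent.Lib.Helper6SmRegSch
import Groth.Agent.Lib.Helper19GRLoc
import Groth.Agent.Lib.Helper4RectDepthB
import Groth.Agent.Lib.Helper5RegImm2

set_option autoImplicit false
universe u
open CategoryTheory AlgebraicGeometry RingTheory.Sequence

namespace Groth.Agent.Lib.T2H9.BlowReg

section Ring

variable {A : Type u} [CommRing A]

/-- In the affine blow-up algebra `A[I/c] ⊆ A_c` the element `c` is a nonzerodivisor. -/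
theorem algebraMap_mem_nonZeroDivisors (I : Ideal A) (c : A) :
    algebraMap A (BlowUp.affineAlgebra A I c) c ∈ nonZeroDivisors (BlowUp.affineAlgebra A I c) := by
  rw [mem_nonZeroDivisors_iff_right]
  intro x hx
  have h1 : (x : Localization.Away c) * algebraMap A (Localization.Away c) c = 0 := by
    have := congrArg Subtype.val hx
    simpa using this
  have hu : IsUnit (algebraMap A (Localization.Away c) c) := IsLocalization.Away.algebraMap_isUnit c
  exact Subtype.ext (hu.mul_left_eq_zero.mp h1)

/-- `A_c` is the localization of `A[I/c]` at the powers of `c`. -/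
theorem isLocalization_away (I : Ideal A) (c : A) :
    IsLocalization (Submonoid.powers (algebraMap A (BlowUp.affineAlgebra A I c) c))
      (Localization.Away c) := by
  rw [isLocalization_iff]
  refine ⟨?_, ?_, ?_⟩
  · rintro ⟨_, n, rfl⟩
    rw [map_pow]
    apply IsUnit.pow
    exact IsLocalization.Away.algebraMap_isUnit c
  · intro z
    obtain ⟨⟨x, ⟨_, n, rfl⟩⟩, hx⟩ := IsLocalization.surj (Submonoid.powers c) z
    refine ⟨⟨algebraMap A _ x, ⟨_, n, rfl⟩⟩, ?_⟩
    simpa using hx
  · intro x y hxy
    exact ⟨1, by rw [Subtype.ext hxy]⟩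

/-- Blow-up chart of a regular ring along a regular sequence with regular quotient is regular. -/
theorem isRegularRing_affineAlgebra_fn {n : ℕ} (a : Fin n → A) (i₀ : Fin n) [IsRegularRing A]
    (ha : IsWeaklyRegular A (List.ofFn a))
    (hq : IsRegularRing (A ⧸ Ideal.ofList (List.ofFn a))) :
    IsRegularRing (BlowUp.affineAlgebra A (Ideal.ofList (List.ofFn a)) (a i₀)) := by
  obtain ⟨Ψ, hΨC, hsurj, hker⟩ := Groth.Agent.Lib.T2H7.BlowExc.exists_presentation_fn a i₀ ha
  have hN : IsNoetherianRing (BlowUp.affineAlgebra A (Ideal.ofList (List.ofFn a)) (a i₀)) :=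
    isNoetherianRing_of_surjective _ _ Ψ hsurj
  have haI : a i₀ ∈ Ideal.ofList (List.ofFn a) :=
    Ideal.subset_span ((List.mem_ofFn' _ _).2 ⟨i₀, rfl⟩)
  have hc := algebraMap_mem_nonZeroDivisors (Ideal.ofList (List.ofFn a)) (a i₀)
  have hIB := Groth.Agent.Helper18Fitt.map_blowup_eq_span (Ideal.ofList (List.ofFn a)) (a i₀) haI
    (BlowUp.affineAlgebra A (Ideal.ofList (List.ofFn a)) (a i₀)) AlgEquiv.refl
  have hsm := Groth.Agent.Lib.T2H7.BlowExc.smooth_quotientMap_chart_fn a i₀ ha
    (algebraMap A (BlowUp.affineAlgebra A (Ideal.ofList (List.ofFn a)) (a i₀)))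
    (RingEquiv.refl _) (by ext; rfl)
  have hreg1 : IsRegularRing (BlowUp.affineAlgebra A (Ideal.ofList (List.ofFn a)) (a i₀) ⧸
      (Ideal.ofList (List.ofFn a)).map
        (algebraMap A (BlowUp.affineAlgebra A (Ideal.ofList (List.ofFn a)) (a i₀)))) := by
    rw [isRegularRing_iff]
    intro P hP
    exact Groth.Agent.Lib.Helper6.SmRegSch.isRegularLocalRing_of_ringHom_smooth _ hsm P
  rw [hIB] at hreg1
  rw [isRegularRing_iff]
  intro q hqp
  by_cases hcq : algebraMap A (BlowUp.affineAlgebra A (Ideal.ofList (List.ofFn a)) (a i₀)) (a i₀) ∈ q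
  · exact Groth.Agent.Lib.Helper28.isRegularLocalRing_localization_of_quotient_span_singleton _ hc
      hreg1 q hcq
  · have hloc := isLocalization_away (Ideal.ofList (List.ofFn a)) (a i₀)
    have hRA : IsRegularRing (Localization.Away (a i₀)) :=
      Groth.Agent.Lib.Helper19.GR.isRegularRing_of_isLocalization (Submonoid.powers (a i₀))
    have hdisj : Disjoint ((Submonoid.powers (algebraMap A
        (BlowUp.affineAlgebra A (Ideal.ofList (List.ofFn a)) (a i₀)) (a i₀)) : Submonoid _) :
          Set (BlowUp.affineAlgebra A (Ideal.ofList (List.ofFn a)) (a i₀)))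
        (q : Set (BlowUp.affineAlgebra A (Ideal.ofList (List.ofFn a)) (a i₀))) :=
      (Ideal.disjoint_powers_iff_notMem_of_isPrime _).mpr hcq
    have hp : (q.map (algebraMap (BlowUp.affineAlgebra A (Ideal.ofList (List.ofFn a)) (a i₀))
        (Localization.Away (a i₀)))).IsPrime :=
      IsLocalization.isPrime_of_isPrime_disjoint _ _ _ hqp hdisj
    have hcomap : (q.map (algebraMap (BlowUp.affineAlgebra A (Ideal.ofList (List.ofFn a)) (a i₀))
        (Localization.Away (a i₀)))).comap (algebraMap _ _) = q :=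
      IsLocalization.under_map_of_isPrime_disjoint _ _ hqp hdisj
    have h1 := IsLocalization.isLocalization_isLocalization_atPrime_isLocalization
      (Submonoid.powers (algebraMap A
        (BlowUp.affineAlgebra A (Ideal.ofList (List.ofFn a)) (a i₀)) (a i₀)))
      (Localization.AtPrime (q.map (algebraMap (BlowUp.affineAlgebra A (Ideal.ofList (List.ofFn a)) (a i₀))
        (Localization.Away (a i₀))))) (q.map (algebraMap (BlowUp.affineAlgebra A (Ideal.ofList (List.ofFn a)) (a i₀))
        (Localization.Away (a i₀))))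
    have hR : IsRegularLocalRing (Localization.AtPrime (q.map (algebraMap
        (BlowUp.affineAlgebra A (Ideal.ofList (List.ofFn a)) (a i₀))
        (Localization.Away (a i₀))))) := hRA.isRegularLocalRing_localization _
    have key : ∀ (q' : Ideal (BlowUp.affineAlgebra A (Ideal.ofList (List.ofFn a)) (a i₀)))
        [q'.IsPrime], q' = q → IsLocalization.AtPrime (Localization.AtPrime (q.map (algebraMap
        (BlowUp.affineAlgebra A (Ideal.ofList (List.ofFn a)) (a i₀))
        (Localization.Away (a i₀))))) q' → IsRegularLocalRing (Localization.AtPrime q) := by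
      rintro q' _ rfl h
      exact IsRegularLocalRing.of_ringEquiv (IsLocalization.algEquiv q'.primeCompl
        (Localization.AtPrime (q'.map (algebraMap
        (BlowUp.affineAlgebra A (Ideal.ofList (List.ofFn a)) (a i₀))
        (Localization.Away (a i₀))))) (Localization.AtPrime q')).toRingEquiv
    exact key _ hcomap h1

/-- List version. -/
theorem isRegularRing_affineAlgebra [IsRegularRing A] (rs : List A) (hrs : IsWeaklyRegular A rs)
    (j : Fin rs.length) (hq : IsRegularRing (A ⧸ Ideal.ofList rs)) :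
    IsRegularRing (BlowUp.affineAlgebra A (Ideal.ofList rs) rs[j]) := by
  have h0 : List.ofFn (fun k : Fin rs.length => rs[k]) = rs := List.ofFn_getElem
  have key : ∀ l : List A, l = rs → IsRegularRing (BlowUp.affineAlgebra A (Ideal.ofList l) rs[j]) →
      IsRegularRing (BlowUp.affineAlgebra A (Ideal.ofList rs) rs[j]) := by
    rintro l rfl h
    exact h
  refine key _ h0 ?_
  refine isRegularRing_affineAlgebra_fn (fun k : Fin rs.length => rs[k]) j ?_ ?_
  · rw [h0]; exact hrs
  · rw [h0]; exact hq

end Ring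

section Scheme

open Groth.Agent.Lib.T2H7.BlowStalk Groth.Agent.Lib.T2H7.BlowExc

/-- The kernel ideal sheaf of a closed immersion of regular locally Noetherian schemes is a
regular ideal. -/
theorem isRegularIdeal_ker {X Y : Scheme.{u}} [IsLocallyNoetherian X] (i : Y ⟶ X)
    [IsClosedImmersion i]
    (hreg : ∀ x : X, IsRegularLocalRing (X.presheaf.stalk x))
    (hregY : ∀ y : Y, IsRegularLocalRing (Y.presheaf.stalk y)) :
    RegImm.IsRegularIdeal RegImm.Kind.regular i.ker := by
  intro x hx
  have hx' : x ∈ (i.ker.support : Set X) := hx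
  rw [Scheme.Hom.support_ker, i.isClosedEmbedding.isClosed_range.closure_eq] at hx'
  obtain ⟨y, rfl⟩ := hx'
  obtain ⟨U, hyU, -, rs, hrs, hker⟩ :=
    (Groth.Agent.Lib.Helper5.RegImm.isRegularImmersion_of_regular i hreg hregY).2 y
  exact ⟨U, hyU, rs, hrs, (Scheme.Hom.ker_apply i U).trans hker⟩

/-- For a closed immersion `i : Y ⟶ X` with `Y` regular, the quotient of `Γ(X, U)` by the ideal of
`Y` is a regular ring, for every affine open `U`. -/
theorem isRegularRing_quotient_ker {X Y : Scheme.{u}} [IsLocallyNoetherian X] (i : Y ⟶ X)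
    [IsClosedImmersion i]
    (hregY : ∀ y : Y, IsRegularLocalRing (Y.presheaf.stalk y)) (U : X.Opens) (hU : IsAffineOpen U) :
    IsRegularRing (Γ(X, U) ⧸ i.ker.ideal ⟨U, hU⟩) := by
  have hYN : IsLocallyNoetherian Y := LocallyOfFiniteType.isLocallyNoetherian i
  have hR : IsRegularRing Γ(Y, i ⁻¹ᵁ U) :=
    Groth.Agent.Lib.Helper4.RectDepth.isRegularRing_sections hregY (hU.preimage i)
  have hsurj : Function.Surjective (i.app U).hom := i.app_surjective U hU
  have hk : i.ker.ideal ⟨U, hU⟩ = RingHom.ker (i.app U).hom := Scheme.Hom.ker_apply i ⟨U, hU⟩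
  rw [hk]
  exact IsRegularRing.of_ringEquiv (RingHom.quotientKerEquivOfSurjective hsurj).symm

/-- The blow-up of a regular locally Noetherian scheme along a regular closed subscheme is
regular. -/
theorem isRegularLocalRing_stalk_of_isBlowUp {X Y Xt : Scheme.{u}} [IsLocallyNoetherian X]
    (hreg : ∀ x : X, IsRegularLocalRing (X.presheaf.stalk x))
    (i : Y ⟶ X) [IsClosedImmersion i]
    (hregY : ∀ y : Y, IsRegularLocalRing (Y.presheaf.stalk y))
    (π : Xt ⟶ X) (hπ : BlowUp.IsBlowUp π i.ker) (z : Xt) :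
    IsRegularLocalRing (Xt.presheaf.stalk z) := by
  obtain ⟨U, hU, hxU, rs, hrs, hIU⟩ :=
    exists_weaklyRegular_of_isRegularIdeal i.ker (isRegularIdeal_ker i hreg hregY) (π z)
  have hA : IsRegularRing Γ(X, U) :=
    Groth.Agent.Lib.Helper4.RectDepth.isRegularRing_sections hreg hU
  have hQ : IsRegularRing (Γ(X, U) ⧸ Ideal.ofList rs) := by
    rw [← hIU]
    exact isRegularRing_quotient_ker i hregY U hU
  obtain ⟨W', hW', hle, j, σ, hzW', -⟩ := exists_algEquiv_chart π i.ker hπ U hU rs hIU z hxU
  have hB := isRegularRing_affineAlgebra rs hrs j hQ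
  have hΓ : IsRegularRing Γ(Xt, W') := IsRegularRing.of_ringEquiv σ.symm
  let _ := TopCat.Presheaf.algebra_section_stalk Xt.presheaf (⟨z, hzW'⟩ : W')
  have hloc := hW'.isLocalization_stalk ⟨z, hzW'⟩
  have := hΓ.isRegularLocalRing_localization (hW'.primeIdealOf ⟨z, hzW'⟩).asIdeal
  exact IsRegularLocalRing.of_ringEquiv
    (IsLocalization.algEquiv (hW'.primeIdealOf ⟨z, hzW'⟩).asIdeal.primeCompl
      (Localization.AtPrime (hW'.primeIdealOf ⟨z, hzW'⟩).asIdeal) (Xt.presheaf.stalk z)).toRingEquiv

end Scheme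

end Groth.Agent.Lib.T2H9.BlowReg
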