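import Groth.Agent.Lib.Helper17PCoh19

/-!
# T2H9Mumford (helper9): Mumford's lemma over a Noetherian ring

`exists_finite_free_quasiIso`: a cochain complex of modules over a Noetherian ring whose cohomology
modules are finitely generated and vanish above `b` receives a quasi-isomorphism from a complex of
finite free modules vanishing above `b`.  Instantiates helper17's abstract pseudo-coherence library
(`exists_allTerms_quasiIso`, `isNPC_iff_coh`) with `P =` finite free modules.
-/

set_option autoImplicit false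
set_option linter.style.haveILetI false
universe u
open CategoryTheory CategoryTheory.Limits

namespace Groth.Agent.Lib.T2H9.Mumford

open Groth.Agent.Lib.Helper17.PCoh12 Groth.Agent.Lib.Helper17.PCoh16
  Groth.Agent.Lib.Helper17.PCoh18 Groth.Agent.Lib.Helper17.PCoh19

attribute [local instance] HasDerivedCategory.standard

variable (A : Type u) [CommRing A]

/-- finite free modules -/
def FF : ObjectProperty (ModuleCat.{u} A) := fun X => Module.Finite A X ∧ Module.Free A X

instance : (FF A).IsClosedUnderIsomorphisms where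
  of_iso {X Y} e h := by
    obtain ⟨h1, h2⟩ := h
    exact ⟨Module.Finite.equiv e.toLinearEquiv, Module.Free.of_equiv e.toLinearEquiv⟩

instance : (FF A).ContainsZero where
  exists_zero := ⟨ModuleCat.of A PUnit.{u + 1}, ModuleCat.isZero_of_subsingleton _,
    ⟨inferInstanceAs (Module.Finite A PUnit.{u + 1}), inferInstanceAs (Module.Free A PUnit.{u + 1})⟩⟩

theorem ff_sum (X Y : ModuleCat.{u} A) (hX : FF A X) (hY : FF A Y) : FF A (X ⨯ Y) := by
  obtain ⟨h1, h2⟩ := hX
  obtain ⟨h3, h4⟩ := hY
  let e : (X ⨯ Y : ModuleCat.{u} A) ≅ X ⊞ Y := (biprod.isoProd X Y).symm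
  let l : ↑(X ⨯ Y : ModuleCat.{u} A) ≃ₗ[A] (↑X × ↑Y) :=
    (e ≪≫ ModuleCat.biprodIsoProd X Y).toLinearEquiv
  exact ⟨Module.Finite.equiv l.symm, Module.Free.of_equiv l.symm⟩

theorem ff_ql : PCoh.IsQuasiLiftable (FF A) := by
  intro E F u hu hF
  obtain ⟨h1, h2⟩ := hF
  have hs : Function.Surjective u.hom := (ModuleCat.epi_iff_surjective u).1 hu
  haveI : Module.Free A F := h2
  haveI : Module.Projective A F := Module.Projective.of_free
  obtain ⟨v, hv⟩ := Module.projective_lifting_property u.hom LinearMap.id hs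
  refine ⟨F, ModuleCat.ofHom v, ⟨h1, h2⟩, ?_⟩
  have : ModuleCat.ofHom v ≫ u = 𝟙 F := by
    ext x
    exact LinearMap.congr_fun hv x
  rw [this]
  infer_instance

variable {A}

theorem isOfFiniteType_of_finite (X : ModuleCat.{u} A) [Module.Finite A X] :
    PCoh.IsOfFiniteType (FF A) X := by
  obtain ⟨n, f, hf⟩ := Module.Finite.exists_fin' A X
  refine ⟨ModuleCat.of A (Fin n → A), ModuleCat.ofHom f, ⟨?_, ?_⟩, ?_⟩
  · exact inferInstanceAs (Module.Finite A (Fin n → A))
  · exact inferInstanceAs (Module.Free A (Fin n → A))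
  · exact (ModuleCat.epi_iff_surjective _).2 hf

theorem ff_preCoh [IsNoetherianRing A] (X : ModuleCat.{u} A) : PreCoh (FF A) X := by
  intro E u hE
  obtain ⟨h1, h2⟩ := hE
  haveI : IsNoetherian A E := isNoetherian_of_isNoetherianRing_of_finite A E
  haveI : Module.Finite A (kernel u : ModuleCat.{u} A) := by
    have hinj : Function.Injective (kernel.ι u).hom :=
      (ModuleCat.mono_iff_injective _).1 inferInstance
    exact Module.Finite.of_injective (kernel.ι u).hom hinj
  exact isOfFiniteType_of_finite _

theorem ff_coh [IsNoetherianRing A] (X : ModuleCat.{u} A) [Module.Finite A X] : Coh (FF A) X :=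
  ⟨isOfFiniteType_of_finite X, ff_preCoh X⟩

/-- **Mumford's lemma**: over a Noetherian ring, a complex with finitely generated cohomology
vanishing above `b` receives a quasi-isomorphism from a complex of finite free modules vanishing
above `b`. -/
theorem exists_finite_free_quasiIso [IsNoetherianRing A] (b : ℤ)
    (E : CochainComplex (ModuleCat.{u} A) ℤ) (hfin : ∀ i, Module.Finite A (E.homology i))
    (hEac : ∀ i : ℤ, b < i → IsZero (E.homology i)) :
    ∃ (L : CochainComplex (ModuleCat.{u} A) ℤ) (w : L ⟶ E), QuasiIso w ∧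
      (∀ i, Module.Finite A (L.X i) ∧ Module.Free A (L.X i)) ∧ ∀ i : ℤ, b < i → IsZero (L.X i) := by
  have hcoh : ∀ X : ModuleCat.{u} A, FF A X → PreCoh (FF A) X := fun X _ => ff_preCoh X
  have hqs := isQuasiStable_of_preCoh (C := ModuleCat.{u} A) (P := FF A) hcoh
  have hfin' : ∀ i, Module.Finite A
      ((DerivedCategory.homologyFunctor (ModuleCat.{u} A) i).obj (DerivedCategory.Q.obj E) :
        ModuleCat.{u} A) := fun i =>
    haveI := hfin i
    Module.Finite.equiv (homologyIsoQ E i).toLinearEquiv.symm
  have hE : ∀ k : ℤ, IsNPC (FF A) k (DerivedCategory.Q.obj E) := by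
    intro k
    refine (isNPC_iff_coh (FF A) (ff_sum A) (ff_ql A) hcoh k _ b ?_).2 ⟨?_, fun i _ => ?_⟩
    · intro i hi
      exact IsZero.of_iso (hEac i hi) (homologyIsoQ E i)
    · haveI := hfin' k
      exact isOfFiniteType_of_finite _
    · haveI := hfin' i
      exact ff_coh _
  obtain ⟨G, w, hw, hG, hz⟩ :=
    exists_allTerms_quasiIso (FF A) (ff_sum A) hqs (ff_ql A) b E hE hEac
  exact ⟨G, w, hw, hG, hz⟩

end Groth.Agent.Lib.T2H9.Mumford
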