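import Groth.Agent.Lib.Helper3FlatCx

/-!
# T2H9TFunAlg (helper9): algebra of the functors `TFun P p : M ↦ H_p(P ⊗ M)`

`TFun_map_smul` (`TFun P p` is `A`-linear), `TFunMap w p` (the natural transformation induced by a
morphism of complexes) and `isIso_TFunMap` (an isomorphism when `w ⊗ M` is a quasi-isomorphism in
degree `p` for every `M`).
-/

set_option autoImplicit false
set_option linter.style.haveILetI false
universe u
open CategoryTheory CategoryTheory.Limits MonoidalCategory

namespace Groth.Agent.Lib.T2H9.TFunAlg

open Groth.Agent.Lib.Helper3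

variable {A : Type u} [CommRing A] {ι : Type} {c : ComplexShape ι}

theorem tensorMap_smul (P : HomologicalComplex (ModuleCat.{u} A) c) {M N : ModuleCat.{u} A}
    (a : A) (g : M ⟶ N) : CohIII.tensorMap P (a • g) = a • CohIII.tensorMap P g := by
  apply HomologicalComplex.hom_ext
  intro i
  rw [tensorMap_f, HomologicalComplex.smul_f_apply, tensorMap_f]
  exact MonoidalLinear.whiskerLeft_smul _ _ _

theorem homologyMap_smul {P Q : HomologicalComplex (ModuleCat.{u} A) c} (a : A) (φ : P ⟶ Q)
    (p : ι) : HomologicalComplex.homologyMap (a • φ) p = a • HomologicalComplex.homologyMap φ p := by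
  have h : (HomologicalComplex.shortComplexFunctor (ModuleCat.{u} A) c p).map (a • φ) =
      a • (HomologicalComplex.shortComplexFunctor (ModuleCat.{u} A) c p).map φ := rfl
  change ShortComplex.homologyMap
    ((HomologicalComplex.shortComplexFunctor (ModuleCat.{u} A) c p).map (a • φ)) = _
  rw [h, ShortComplex.homologyMap_smul]
  rfl

theorem TFun_map_smul (P : HomologicalComplex (ModuleCat.{u} A) c) (p : ι)
    {M N : ModuleCat.{u} A} (a : A) (g : M ⟶ N) :
    (CohIII.TFun P p).map (a • g) = a • (CohIII.TFun P p).map g := by
  change HomologicalComplex.homologyMap (CohIII.tensorMap P (a • g)) p = _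
  rw [tensorMap_smul, homologyMap_smul]
  rfl

/-- a morphism of complexes induces a natural transformation of the `T` functors -/
noncomputable def TFunMap {P Q : HomologicalComplex (ModuleCat.{u} A) c} (w : P ⟶ Q) (p : ι) :
    CohIII.TFun P p ⟶ CohIII.TFun Q p where
  app M := HomologicalComplex.homologyMap (((tensorRight M).mapHomologicalComplex c).map w) p
  naturality {M N} g := by
    change HomologicalComplex.homologyMap (CohIII.tensorMap P g) p ≫ _ =
      _ ≫ HomologicalComplex.homologyMap (CohIII.tensorMap Q g) p
    rw [← HomologicalComplex.homologyMap_comp, ← HomologicalComplex.homologyMap_comp]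
    congr 1
    exact (NatTrans.mapHomologicalComplex_naturality ((tensoringRight (ModuleCat.{u} A)).map g) w).symm

theorem isIso_TFunMap {P Q : HomologicalComplex (ModuleCat.{u} A) c} (w : P ⟶ Q) (p : ι)
    (h : ∀ M : ModuleCat.{u} A, QuasiIsoAt (((tensorRight M).mapHomologicalComplex c).map w) p) :
    IsIso (TFunMap w p) := by
  haveI : ∀ M, IsIso ((TFunMap w p).app M) := fun M =>
    (quasiIsoAt_iff_isIso_homologyMap _ p).1 (h M)
  exact NatIso.isIso_of_isIso_app _

end Groth.Agent.Lib.T2H9.TFunAlg
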