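import Groth.Agent.Lib.T2H9TFunGeo4
import Groth.Agent.Lib.T2H9TFunAlg
import Groth.Agent.Lib.T2H9Mumford
import Groth.Agent.Lib.T2H9UnivQis
import Groth.Agent.Lib.T2H5T2Main
import Groth.Agent.Lib.Helper22NA9
import Groth.Agent.Lib.Helper23AffOpen3

/-!
# T2H9Bridge (helper9): cohomology of `f^*(M~) ⊗ F` is the homology of `L ⊗ M`

**`exists_cochain_bridge`** (EGA III 6.10.5, 7.7.5 / Mumford §5): for `X` proper over a Noetherian
ring `A` and `F` coherent, flat over `A`, there is a bounded above cochain complex `L` of finite free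
`A`-modules and, for every `p`, an isomorphism of functors of the `A`-module `M`
`H^p(L ⊗_A M) ≅ H^p(X, f^*(M~) ⊗ F)`.

Proof: take a finite affine covering `U`; the Čech complexes of `f^*(M~) ⊗ F` form a functor `K` of
`M`, degreewise a finite biproduct of colimit preserving functors `M ↦ Γ(V, f^*(M~) ⊗ F)`
(`T2H9TFunGeo1`), so by Eilenberg–Watts (`T2H9EW1/2`, `S4504`) `K(M) ≅ C ⊗ M` for the complex
`C = K(A)` of flat `A`-modules (`Cx`), naturally in `M`; Čech cohomology computes cohomology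
naturally in `M` (`T2H9CechNat2`, `T2H9TFunGeo4`).  `C` has finitely generated cohomology
(finiteness theorem) vanishing above the number of affines, Mumford's lemma (`T2H9Mumford`) gives a
quasi-isomorphism `L → C` from a bounded above complex of finite free modules, which stays a
quasi-isomorphism after `⊗ M` (`T2H9UnivQis`).
-/

set_option autoImplicit false
set_option linter.style.haveILetI false
universe u
open CategoryTheory CategoryTheory.Limits AlgebraicGeometry Opposite TopologicalSpace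

namespace Groth.Agent.Lib.T2H9.Bridge

open Groth.Agent.Lib.Helper16.CechLow Groth.Agent.Lib.T2H9.EW Groth.Agent.Lib.T2H9.TFunGeo
  Groth.Agent.Lib.T2H9.TFunAlg Groth.Agent.Lib.Helper3

section sep
variable {X Y : Scheme.{u}} (f : X ⟶ Y) [IsAffine Y] [IsSeparated f]

include f in
theorem isAffineOpen_inf {V W : X.Opens} (hV : IsAffineOpen V) (hW : IsAffineOpen W) :
    IsAffineOpen (V ⊓ W) := by
  have h : IsAffineHom (pullback.diagonal f) := inferInstance
  have e : f ⁻¹ᵁ ⊤ = ⊤ := rfl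
  exact isAffineHom_diagonal_iff.mp h ⊤ (isAffineOpen_top Y) V (by rw [e]; exact le_top) W
    (by rw [e]; exact le_top) hV hW

include f in
theorem isAffineOpen_iInf {κ : Type*} [Finite κ] [Nonempty κ] {U : κ → X.Opens}
    (hU : ∀ i, IsAffineOpen (U i)) : IsAffineOpen (⨅ i, U i) :=
  InfClosed.iInf_mem_of_nonempty (s := Set.ofPred IsAffineOpen)
    (fun _ h _ h' => isAffineOpen_inf f h h') hU

end sep

section cover
variable (A : Type u) [CommRing A] {X : Scheme.{u}} [X.Over (Spec (CommRingCat.of A))]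
  (F : X.Modules) [F.IsQuasicoherent] {ι : Type u} [Finite ι] (U : ι → X.Opens)
  (hcov : iSup U = ⊤)
  (hUa : ∀ (n : ℕ) (x : Fin (n + 1) → ι), IsAffineOpen (iInf fun k => U (x k)))

include hUa in
theorem isAffineOpen_Ux (n : ℕ) (x : Fin (n + 1) → ι) : IsAffineOpen (Ux U x) := by
  have e : Ux U x = iInf fun k => U (x k) := Groth.Agent.S0493.prod_eq_iInf (X := X.carrier) U x
  rw [e]
  exact hUa n x

/-- the complex `C = K(A)` of `A`-modules attached to the covering -/
noncomputable def Cx : CochainComplex (ModuleCat.{u} A) ℤ :=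
  (liftACx (K A F U)).obj (ModuleCat.of A A)

include hUa in
theorem flat_Cx (hfl : FlatMod.IsFlatOver (X ↘ Spec (CommRingCat.of A)) F) (i : ℤ) :
    Module.Flat A ((Cx A F U).X i) :=
  flatA_K A F U (isAffineOpen_Ux U hUa) hfl i

include hcov hUa in
/-- `M ↦ H^p(C ⊗ M)` is `M ↦ H^p(X, f^*(M~) ⊗ F)` -/
theorem nonempty_bridgeC (p : ℕ) :
    Nonempty (CohIII.TFun (Cx A F U) (p : ℤ) ⋙ forget₂ (ModuleCat.{u} A) AddCommGrpCat.{u} ≅
      CohIII.tensorAFunctor A F ⋙ CohIII.HAb X p) := by
  obtain ⟨e⟩ := nonempty_cechIso A F U hcov hUa p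
  exact ⟨tFunForgetIso (K A F U) (ewBij_K A F U (isAffineOpen_Ux U hUa)) (p : ℤ) ≪≫
    extendHomologyNatIso A F U p ≪≫ e⟩

include hcov hUa in
/-- vanishing of `H^j(C ⊗ N)` above the cohomological dimension -/
theorem isZero_homology_tensorObj_Cx (t : ℕ)
    (hvan : ∀ (G : X.Modules) [G.IsQuasicoherent] (p : ℕ), t ≤ p → Subsingleton (Coh.HH X G p))
    (N : ModuleCat.{u} A) (j : ℤ) (hj : (t : ℤ) < j) :
    IsZero ((CohIII.tensorObj (Cx A F U) N).homology j) := by
  obtain ⟨p, rfl⟩ := Int.eq_ofNat_of_zero_le (le_trans (Int.natCast_nonneg t) hj.le)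
  obtain ⟨e⟩ := nonempty_bridgeC A F U hcov hUa p
  have hp : t ≤ p := by exact_mod_cast hj.le
  have h1 : Subsingleton ((CohIII.tensorAFunctor A F ⋙ CohIII.HAb X p).obj N) :=
    hvan ((CohIII.tensorAFunctor A F).obj N) p hp
  have e' := (e.app N).addCommGroupIsoToAddEquiv
  have h2 : Subsingleton ((CohIII.tensorObj (Cx A F U) N).homology (p : ℤ)) :=
    @Equiv.subsingleton _ _ e'.toEquiv h1
  exact @ModuleCat.isZero_of_subsingleton _ _ _ h2

include hcov hUa in
/-- the comparison at `M = A` is `A`-linear for the geometric module structure on cohomology -/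
theorem exists_linearEquiv_T_unit (p : ℕ) :
    Nonempty ((CohIII.TFun (Cx A F U) (p : ℤ)).obj (ModuleCat.of A A) ≃ₗ[A]
      Coh.HH X ((CohIII.tensorAFunctor A F).obj (ModuleCat.of A A)) p) := by
  obtain ⟨e⟩ := nonempty_bridgeC A F U hcov hUa p
  let e' := (e.app (ModuleCat.of A A)).addCommGroupIsoToAddEquiv
  refine ⟨{ e' with map_smul' := fun a x => ?_ }⟩
  have hnat := e.hom.naturality (a • 𝟙 (ModuleCat.of A A))
  have h1 := congrArg (fun φ => φ.hom x) hnat
  have h2 : (CohIII.TFun (Cx A F U) (p : ℤ)).map (a • 𝟙 (ModuleCat.of A A)) = a • 𝟙 _ := by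
    rw [TFun_map_smul, CategoryTheory.Functor.map_id]
  have h3 : (CohIII.tensorAFunctor A F).map (a • 𝟙 (ModuleCat.of A A)) =
      Formal.smulMod A _ a := tensorAFunctor_map_smul A F _ a
  simp only [Functor.comp_map, h2, h3] at h1
  exact h1

theorem isZero_Cx_neg (j : ℤ) (hj : j < 0) : IsZero ((Cx A F U).X j) := by
  have h : Subsingleton ((Kn (K A F U) j).obj (ModuleCat.of A A)) :=
    AddCommGrpCat.subsingleton_of_isZero (isZero_K_neg A F U j hj _)
  exact @ModuleCat.isZero_of_subsingleton _ _ _ h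

include hcov hUa in
theorem finite_homology_Cx [IsNoetherianRing A] [IsProper (X ↘ Spec (CommRingCat.of A))]
    (hF : Coh.IsCoh F) (j : ℤ) : Module.Finite A ((Cx A F U).homology j) := by
  by_cases hj : j < 0
  · have hz : IsZero ((Cx A F U).homology j) := by
      rw [← HomologicalComplex.exactAt_iff_isZero_homology]
      exact ShortComplex.exact_of_isZero_X₂ _ (isZero_Cx_neg A F U j hj)
    haveI := ModuleCat.subsingleton_of_isZero hz
    infer_instance
  · obtain ⟨p, rfl⟩ := Int.eq_ofNat_of_zero_le (not_lt.1 hj)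
    obtain ⟨l⟩ := exists_linearEquiv_T_unit A F U hcov hUa p
    haveI : Module.Finite A (Coh.HH X F p) :=
      Groth.Agent.Lib.T2H5.T2Main.finite_HH_of_isProper A X F hF p
    haveI : Module.Finite A
        (Coh.HH X ((CohIII.tensorAFunctor A F).obj (ModuleCat.of A A)) p) :=
      Groth.Agent.Lib.T2H5.T2Les.finite_HH_of_iso (tensorAFunctorUnitIso A F) p inferInstance
    have h4 : Module.Finite A (CohIII.T (Cx A F U) (p : ℤ) (ModuleCat.of A A)) :=
      Module.Finite.equiv l.symm
    exact @Module.Finite.equiv _ _ _ _ _ _ _ _ h4 (TUnitIso (Cx A F U) (p : ℤ)).toLinearEquiv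

end cover

/-- **The bridge theorem** (EGA III 6.10.5 / Mumford): for `X` proper over a Noetherian ring `A` and
`F` coherent and flat over `A` there is a bounded above complex `L` of finite free `A`-modules with
`H^p(X, f^*(M~) ⊗ F) ≅ H^p(L ⊗ M)`, naturally in the `A`-module `M`, for all `p`. -/
theorem exists_cochain_bridge (A : Type u) [CommRing A] [IsNoetherianRing A] (X : Scheme.{u})
    [X.Over (Spec (CommRingCat.of A))] [IsProper (X ↘ Spec (CommRingCat.of A))] (F : X.Modules)
    (hF : Coh.IsCoh F) (hfl : FlatMod.IsFlatOver (X ↘ Spec (CommRingCat.of A)) F) :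
    ∃ L : CochainComplex (ModuleCat.{u} A) ℤ,
      (∀ i, Module.Finite A (L.X i) ∧ Module.Free A (L.X i)) ∧
      (∃ b : ℤ, ∀ i, b < i → IsZero (L.X i)) ∧
      ∀ p : ℕ, Nonempty (CohIII.TFun L (p : ℤ) ⋙ forget₂ (ModuleCat.{u} A) AddCommGrpCat.{u} ≅
        CohIII.tensorAFunctor A F ⋙ CohIII.HAb X p) := by
  haveI := hF.1
  haveI : CompactSpace X := QuasiCompact.compactSpace_of_compactSpace (X ↘ Spec (CommRingCat.of A))
  obtain ⟨t, W, hW, hcovW⟩ :=
    Groth.Agent.Lib.Helper22.NA9.exists_fin_affine_cover (⊤ : X.Opens) isCompact_univ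
  let U : ULift.{u} (Fin t) → X.Opens := fun i => W i.down
  have hcov : iSup U = ⊤ := by
    rw [← hcovW]
    apply le_antisymm
    · exact iSup_le fun i => le_iSup W i.down
    · exact iSup_le fun k => le_iSup U ⟨k⟩
  have hUa : ∀ (n : ℕ) (x : Fin (n + 1) → ULift.{u} (Fin t)),
      IsAffineOpen (iInf fun k => U (x k)) := fun n x =>
    isAffineOpen_iInf (X ↘ Spec (CommRingCat.of A)) (fun k => hW (x k).down)
  have hvan : ∀ (G : X.Modules) [G.IsQuasicoherent] (p : ℕ), t ≤ p →
      Subsingleton (Coh.HH X G p) := fun G _ p hp =>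
    Groth.Agent.Lib.Helper23.AffVanish.subsingleton_HH_of_cover t W hW hcovW
      (fun V V' hV hV' => isAffineOpen_inf (X ↘ Spec (CommRingCat.of A)) hV hV') G p hp
  have hCM := isZero_homology_tensorObj_Cx A F U hcov hUa t hvan
  have hCflat := flat_Cx A F U hUa hfl
  have hfin := finite_homology_Cx A F U hcov hUa hF
  have hEac : ∀ i : ℤ, (t : ℤ) < i → IsZero ((Cx A F U).homology i) := fun i hi =>
    (hCM (ModuleCat.of A A) i hi).of_iso (TUnitIso (Cx A F U) i).symm
  obtain ⟨L, w, hw, hLff, hLb⟩ :=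
    Groth.Agent.Lib.T2H9.Mumford.exists_finite_free_quasiIso (t : ℤ) (Cx A F U) hfin hEac
  haveI := hw
  have hLflat : ∀ i, Module.Flat A (L.X i) := fun i => by
    haveI := (hLff i).2
    infer_instance
  have hq : ∀ M : ModuleCat.{u} A, QuasiIso
      (((MonoidalCategory.tensorRight M).mapHomologicalComplex (ComplexShape.up ℤ)).map w) :=
    fun M => Groth.Agent.Lib.T2H9.UnivQis.quasiIso_tensorRight_map L (Cx A F U) w (t : ℤ) hLb
      hLflat hCflat hCM M
  refine ⟨L, hLff, ⟨(t : ℤ), hLb⟩, fun p => ?_⟩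
  obtain ⟨e⟩ := nonempty_bridgeC A F U hcov hUa p
  haveI : IsIso (TFunMap w (p : ℤ)) := isIso_TFunMap w (p : ℤ) (fun M => (hq M).quasiIsoAt _)
  exact ⟨Functor.isoWhiskerRight (asIso (TFunMap w (p : ℤ))) _ ≪≫ e⟩

end Groth.Agent.Lib.T2H9.Bridge
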