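import Groth.Agent.Lib.T2H9Bridge2
import Groth.Agent.Lib.T2H9CoreBC
import Groth.Agent.Lib.T2H5HilbPoly

/-!
# The bridge theorem with control of the amplitude (helper9)

`exists_cochain_bridge_amp`: as `T2H9Bridge.exists_cochain_bridge`, but the complex of finite free
modules is zero above any `d₀` above which `H^p(X, F)` vanishes, and its functors `T^i` vanish for
`i < 0`.
-/

set_option autoImplicit false
set_option linter.style.haveILetI false
set_option linter.unusedSectionVars false
set_option linter.unusedVariables false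
universe u
open CategoryTheory CategoryTheory.Limits AlgebraicGeometry Opposite TopologicalSpace

namespace Groth.Agent.Lib.T2H9.BridgeAmp

open Groth.Agent.Lib.Helper16.CechLow Groth.Agent.Lib.T2H9.EW Groth.Agent.Lib.T2H9.TFunGeo
  Groth.Agent.Lib.T2H9.TFunAlg Groth.Agent.Lib.Helper3 Groth.Agent.Lib.T2H9.Bridge

/-- the bridge theorem with control of the amplitude: the complex can be chosen zero above any
`d₀` above which the cohomology of `F` vanishes, and its functors `T^i` vanish for `i < 0` -/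
theorem exists_cochain_bridge_amp (A : Type u) [CommRing A] [IsNoetherianRing A] (X : Scheme.{u})
    [X.Over (Spec (CommRingCat.of A))] [IsProper (X ↘ Spec (CommRingCat.of A))] (F : X.Modules)
    (hF : Coh.IsCoh F) (hfl : FlatMod.IsFlatOver (X ↘ Spec (CommRingCat.of A)) F)
    (d₀ : ℤ) (hd : ∀ p : ℕ, d₀ < (p : ℤ) → Subsingleton (Coh.HH X F p)) :
    ∃ L : CochainComplex (ModuleCat.{u} A) ℤ,
      (∀ i, Module.Finite A (L.X i) ∧ Module.Free A (L.X i)) ∧
      (∀ i : ℤ, d₀ < i → IsZero (L.X i)) ∧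
      (∀ (M : ModuleCat.{u} A) (i : ℤ), i < 0 → IsZero ((CohIII.TFun L i).obj M)) ∧
      ∀ p : ℕ, Nonempty (CohIII.TFun L (p : ℤ) ⋙ forget₂ (ModuleCat.{u} A) AddCommGrpCat.{u} ≅
        CohIII.tensorAFunctor A F ⋙ CohIII.HAb X p) := by
  haveI := hF.1
  haveI : CompactSpace X := QuasiCompact.compactSpace_of_compactSpace (X ↘ Spec (CommRingCat.of A))
  obtain ⟨t, W, hW, hcovW⟩ :=
    Groth.Agent.Lib.Helper22.NA9.exists_fin_affine_cover (⊤ : X.Opens) isCompact_univ
  let U : ULift.{u} (Fin t) → X.Opens := fun i => W i.down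
  have hcov : iSup U = ⊤ := by
    rw [← hcovW]
    apply le_antisymm
    · exact iSup_le fun i => le_iSup W i.down
    · exact iSup_le fun k => le_iSup U ⟨k⟩
  have hUa : ∀ (n : ℕ) (x : Fin (n + 1) → ULift.{u} (Fin t)),
      IsAffineOpen (iInf fun k => U (x k)) := fun n x =>
    isAffineOpen_iInf (X ↘ Spec (CommRingCat.of A)) (fun k => hW (x k).down)
  have hvan : ∀ (G : X.Modules) [G.IsQuasicoherent] (p : ℕ), t ≤ p →
      Subsingleton (Coh.HH X G p) := fun G _ p hp =>
    Groth.Agent.Lib.Helper23.AffVanish.subsingleton_HH_of_cover t W hW hcovW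
      (fun V V' hV hV' => isAffineOpen_inf (X ↘ Spec (CommRingCat.of A)) hV hV') G p hp
  have hCM := isZero_homology_tensorObj_Cx A F U hcov hUa t hvan
  have hCflat := flat_Cx A F U hUa hfl
  have hfin := finite_homology_Cx A F U hcov hUa hF
  have hEac : ∀ i : ℤ, d₀ < i → IsZero ((Cx A F U).homology i) := by
    intro i hi
    by_cases hneg : i < 0
    · rw [← HomologicalComplex.exactAt_iff_isZero_homology]
      exact ShortComplex.exact_of_isZero_X₂ _ (isZero_Cx_neg A F U i hneg)
    · obtain ⟨p, rfl⟩ := Int.eq_ofNat_of_zero_le (not_lt.1 hneg)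
      obtain ⟨l⟩ := exists_linearEquiv_T_unit A F U hcov hUa p
      haveI : Subsingleton (Coh.HH X F p) := hd p hi
      let l2 : Coh.HH X ((CohIII.tensorAFunctor A F).obj (ModuleCat.of A A)) p ≃ₗ[A] Coh.HH X F p :=
        Groth.Agent.Lib.T2H5.HilbPoly.hhEquiv (tensorAFunctorUnitIso A F) p
      have h2 : Subsingleton ((CohIII.TFun (Cx A F U) (p : ℤ)).obj (ModuleCat.of A A)) :=
        (l.trans l2).toEquiv.subsingleton
      have h3 : IsZero ((CohIII.TFun (Cx A F U) (p : ℤ)).obj (ModuleCat.of A A)) :=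
        @ModuleCat.isZero_of_subsingleton _ _ _ h2
      exact h3.of_iso (TUnitIso (Cx A F U) (p : ℤ)).symm
  obtain ⟨L, w, hw, hLff, hLb⟩ :=
    Groth.Agent.Lib.T2H9.Mumford.exists_finite_free_quasiIso d₀ (Cx A F U) hfin hEac
  haveI := hw
  have hLflat : ∀ i, Module.Flat A (L.X i) := fun i => by
    haveI := (hLff i).2
    infer_instance
  have hq : ∀ M : ModuleCat.{u} A, QuasiIso
      (((MonoidalCategory.tensorRight M).mapHomologicalComplex (ComplexShape.up ℤ)).map w) :=
    fun M => Groth.Agent.Lib.T2H9.UnivQis.quasiIso_tensorRight_map L (Cx A F U) w (max d₀ (t : ℤ))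
      (fun i hi => hLb i (lt_of_le_of_lt (le_max_left _ _) hi))
      hLflat hCflat (fun N j hj => hCM N j (lt_of_le_of_lt (le_max_right _ _) hj)) M
  have hiso : ∀ i : ℤ, IsIso (TFunMap w i) := fun i =>
    isIso_TFunMap w i (fun M => (hq M).quasiIsoAt _)
  refine ⟨L, hLff, hLb, ?_, fun p => ?_⟩
  · intro M i hi
    haveI := hiso i
    have hz : IsZero ((CohIII.TFun (Cx A F U) i).obj M) := by
      show IsZero ((CohIII.tensorObj (Cx A F U) M).homology i)
      rw [← HomologicalComplex.exactAt_iff_isZero_homology]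
      exact ShortComplex.exact_of_isZero_X₂ _
        ((MonoidalCategory.tensorRight M).map_isZero (isZero_Cx_neg A F U i hi))
    exact hz.of_iso ((asIso (TFunMap w i)).app M)
  · obtain ⟨e⟩ := nonempty_bridgeC A F U hcov hUa p
    haveI := hiso (p : ℤ)
    exact ⟨Functor.isoWhiskerRight (asIso (TFunMap w (p : ℤ))) _ ≪≫ e⟩

end Groth.Agent.Lib.T2H9.BridgeAmp
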