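import Mathlib
import Groth.Prelude
import Groth.Agent.Lib.T2H9CIBaseChange
import Groth.Agent.Lib.T2H9SyntCI3
import Groth.Agent.Lib.T2H9SyntMor

set_option autoImplicit false
set_option linter.unusedSectionVars false
set_option linter.style.haveILetI false
universe u

namespace Groth.Agent.Lib.T2H9.CIOverStalk

open IsLocalRing TensorProduct AlgebraicGeometry CategoryTheory Limits
  Groth.Agent.Lib.T2H9.CILocus Groth.Agent.Lib.T2H9.CIBaseChange Groth.Agent.Lib.T2H9.SyntCI
  Groth.Agent.Lib.T2H9.GeomDepthCI

section Ring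

variable (k T : Type u) [Field k] [CommRing T] [IsLocalRing T] [Algebra k T]
  [Algebra.EssFiniteType k T]

/-- for local algebras essentially of finite type over a field, "complete intersection over `k`"
is the absolute notion -/
theorem isCIOver_iff_isCI : Synt.IsCIOver k T ↔ Pi1.IsCompleteIntersection T := by
  refine ⟨isCI_of_isCIOver, fun h => ?_⟩
  haveI : IsNoetherianRing T := Algebra.EssFiniteType.isNoetherianRing k T
  obtain ⟨n, P, hP, π, hπ⟩ := exists_regular_presentation k T
  haveI : IsRegularRing (MvPolynomial (Fin n) k) := inferInstance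
  haveI : IsRegularLocalRing (Localization.AtPrime P) :=
    IsRegularRing.isRegularLocalRing_localization _
  let eT : (Localization.AtPrime P ⧸ RingHom.ker π.toRingHom) ≃+* T :=
    RingHom.quotientKerEquivOfSurjective (f := π.toRingHom) hπ
  have hJ : RingHom.ker π.toRingHom ≠ ⊤ := RingHom.ker_ne_top _
  haveI : IsLocalRing (Localization.AtPrime P ⧸ RingHom.ker π.toRingHom) :=
    Groth.Agent.Lib.Helper5.isLocalRing_quotient hJ
  obtain ⟨rs, hrs, hreg⟩ := exists_isRegular_of_isCompleteIntersection_quotient _ hJ
    (isCI_of_ringEquiv eT.symm h)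
  haveI : Algebra.EssFiniteType (MvPolynomial (Fin n) k) (Localization.AtPrime P) :=
    Algebra.EssFiniteType.of_isLocalization _ P.primeCompl
  have hess : Algebra.EssFiniteType k (Localization.AtPrime P) :=
    Algebra.EssFiniteType.comp k (MvPolynomial (Fin n) k) _
  exact isCIOver_of_isRegular_ker k T (Localization.AtPrime P) hess π hπ rs hreg hrs.symm

end Ring

section Scheme

variable {K : CommRingCat.{u}} {W : Scheme.{u}} (π : W ⟶ Spec K)

theorem structure_hom_eq (w : W) :
    (Scheme.ΓSpecIso K).inv ≫ π.appLE ⊤ ⊤ le_top ≫ W.presheaf.germ ⊤ w trivial =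
      ((Scheme.ΓSpecIso K).inv ≫ (Spec K).presheaf.germ ⊤ (π w) trivial) ≫ π.stalkMap w := by
  rw [Category.assoc]
  congr 1
  ext a
  exact (Groth.Agent.Lib.T2H9.SyntMor.stalkMap_germ_eq_germ_appLE π (U := ⊤) (V := ⊤) le_top w
    trivial a).symm

theorem essFiniteType_structure_hom [LocallyOfFiniteType π] (w : W) :
    ((Scheme.ΓSpecIso K).inv ≫ π.appLE ⊤ ⊤ le_top ≫
      W.presheaf.germ ⊤ w trivial).hom.EssFiniteType := by
  rw [structure_hom_eq, CommRingCat.hom_comp]
  refine RingHom.EssFiniteType.comp ?_ (LocallyOfFiniteType.stalkMap π w)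
  rw [← Spec.algebraMap_stalkIso_inv, CommRingCat.hom_comp]
  refine RingHom.EssFiniteType.comp ?_ ?_
  · rw [CommRingCat.hom_ofHom, RingHom.essFiniteType_algebraMap]
    exact Algebra.EssFiniteType.of_isLocalization _ (π w).asIdeal.primeCompl
  · exact (RingHom.FiniteType.of_surjective _
      (ConcreteCategory.bijective_of_isIso (Spec.stalkIso K (π w)).inv).2).essFiniteType

/-- for a point of a scheme locally of finite type over a field, "complete intersection over the
field" for the local ring (with the algebra structure through global sections) is the absolute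
notion -/
theorem isCIOver_stalk_iff {k : Type u} [Field k] {W : Scheme.{u}}
    (π : W ⟶ Spec (CommRingCat.of k)) [LocallyOfFiniteType π] (w : W) :
    letI := ((Scheme.ΓSpecIso (CommRingCat.of k)).inv ≫ π.appLE ⊤ ⊤ le_top ≫
      W.presheaf.germ ⊤ w trivial).hom.toAlgebra
    Synt.IsCIOver k (W.presheaf.stalk w) ↔ Pi1.IsCompleteIntersection (W.presheaf.stalk w) := by
  letI := ((Scheme.ΓSpecIso (CommRingCat.of k)).inv ≫ π.appLE ⊤ ⊤ le_top ≫
      W.presheaf.germ ⊤ w trivial).hom.toAlgebra
  haveI : Algebra.EssFiniteType k (W.presheaf.stalk w) := by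
    rw [← RingHom.essFiniteType_algebraMap, RingHom.algebraMap_toAlgebra]
    exact essFiniteType_structure_hom π w
  exact isCIOver_iff_isCI k (W.presheaf.stalk w)

end Scheme

end Groth.Agent.Lib.T2H9.CIOverStalk
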