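import Mathlib
import Groth.Agent.Lib.Helper13FlatMV

/-!
# T2H9KapTotal (helper9): base change of a finite "biproduct" of modules

`kap_bijective_of_total`: a semilinear map compatible with finite decompositions into retracts, which
induces base change isomorphisms on the pieces, induces a base change isomorphism.
-/

set_option autoImplicit false
universe u
open TensorProduct

namespace Groth.Agent.Lib.T2H9.KapTotal
open Groth.Agent.Helper13FlatMV

variable {R R' : Type u} [CommRing R] [CommRing R'] [Algebra R R']
  {κ : Type*} [Fintype κ]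
  {N : Type u} [AddCommGroup N] [Module R N] {N' : Type u} [AddCommGroup N'] [Module R' N']
  {Nx : κ → Type u} [∀ x, AddCommGroup (Nx x)] [∀ x, Module R (Nx x)]
  {Nx' : κ → Type u} [∀ x, AddCommGroup (Nx' x)] [∀ x, Module R' (Nx' x)]

/-- **base change of a finite "biproduct"**: if a semilinear map `τ : N → N'` is compatible with
decompositions of `N` and `N'` into finitely many retracts and induces isomorphisms
`R' ⊗ N_x ≅ N'_x` on the pieces, then it induces an isomorphism `R' ⊗ N ≅ N'`. -/
theorem kap_bijective_of_total
    (π : ∀ x, N →ₗ[R] Nx x) (s : ∀ x, Nx x →ₗ[R] N) (htot : ∀ w, ∑ x, s x (π x w) = w)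
    (π' : ∀ x, N' →ₗ[R'] Nx' x) (s' : ∀ x, Nx' x →ₗ[R'] N') (htot' : ∀ w, ∑ x, s' x (π' x w) = w)
    (τ : N →+ N') (hτ : ∀ (r : R) (n : N), τ (r • n) = algebraMap R R' r • τ n)
    (τx : ∀ x, Nx x →+ Nx' x)
    (hτx : ∀ (x : κ) (r : R) (n : Nx x), τx x (r • n) = algebraMap R R' r • τx x n)
    (hπ : ∀ x n, π' x (τ n) = τx x (π x n)) (hs : ∀ x n, τ (s x n) = s' x (τx x n))
    (hb : ∀ x, Function.Bijective (kap (τx x) (hτx x))) : Function.Bijective (kap τ hτ) := by
  have c1 : ∀ (x : κ) (z : R' ⊗[R] N),
      kap (τx x) (hτx x) (LinearMap.baseChange R' (π x) z) = π' x (kap τ hτ z) := by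
    intro x z
    induction z using TensorProduct.induction_on with
    | zero => simp
    | tmul r' n =>
      rw [LinearMap.baseChange_tmul, kap_tmul, kap_tmul, map_smul, hπ]
    | add z w hz hw => rw [map_add, map_add, map_add, map_add, hz, hw]
  have c2 : ∀ (x : κ) (z : R' ⊗[R] Nx x),
      kap τ hτ (LinearMap.baseChange R' (s x) z) = s' x (kap (τx x) (hτx x) z) := by
    intro x z
    induction z using TensorProduct.induction_on with
    | zero => simp
    | tmul r' n =>
      rw [LinearMap.baseChange_tmul, kap_tmul, kap_tmul, map_smul, hs]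
    | add z w hz hw => rw [map_add, map_add, map_add, map_add, hz, hw]
  have tot : ∀ z : R' ⊗[R] N,
      ∑ x, LinearMap.baseChange R' (s x) (LinearMap.baseChange R' (π x) z) = z := by
    intro z
    induction z using TensorProduct.induction_on with
    | zero => simp
    | tmul r' n =>
      simp only [LinearMap.baseChange_tmul]
      rw [← TensorProduct.tmul_sum, htot]
    | add z w hz hw =>
      simp only [map_add, Finset.sum_add_distrib]
      rw [hz, hw]
  constructor
  · rw [injective_iff_map_eq_zero]
    intro z hz
    rw [← tot z]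
    refine Finset.sum_eq_zero fun x _ => ?_
    have h1 := c1 x z
    rw [hz, map_zero] at h1
    have h2 : LinearMap.baseChange R' (π x) z = 0 := (hb x).1 (h1.trans (map_zero _).symm)
    rw [h2, map_zero]
  · intro w
    choose zx hzx using fun x => (hb x).2 (π' x w)
    refine ⟨∑ x, LinearMap.baseChange R' (s x) (zx x), ?_⟩
    rw [map_sum]
    rw [Finset.sum_congr rfl fun x _ => (c2 x (zx x)).trans (congrArg (s' x) (hzx x))]
    exact htot' w

end Groth.Agent.Lib.T2H9.KapTotal
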