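import Groth.Agent.Lib.T2H9CechTransfer
import Groth.Agent.Lib.T2H9CechBC1
import Groth.Agent.Lib.T2H9Bridge
import Groth.Agent.Lib.T2H9ProjFormula
import Groth.Agent.Lib.T2H4AffKz
import Groth.Agent.Lib.T2H9KapTotal
import Groth.Agent.S2380

/-!
# T2H9CechBC2 (helper9): base change of the Čech complex and of the functors `T^p`

For a cartesian square `X' = X ×_{Spec A} Spec A'` with projection `g' : X' ⟶ X`, a quasi-coherent
`F` on `X` and a finite family `U` of opens of `X` with affine finite intersections: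
* `τV`, `Tc`, `Tz`: the (semilinear) base change maps on sections / Čech cochains of `f^*(A~) ⊗ F`;
* `bcCxIso : A' ⊗_A C(U, F) ≅ C(g'⁻¹U, g'^*F)` (complexes of `A'`-modules, `Cx` of `T2H9Bridge`);
* `nonempty_coreIso`: `H^p(X, f^*(M'_A~) ⊗ F) ≅ H^p(X', f'^*(M'~) ⊗ g'^*F)`, naturally in the
  `A'`-module `M'` (no flatness, no Noetherian hypothesis).
-/

set_option autoImplicit false
set_option linter.style.haveILetI false
set_option linter.unusedSectionVars false
set_option linter.unusedVariables false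
universe u
open CategoryTheory AlgebraicGeometry Opposite TopologicalSpace Limits

namespace Groth.Agent.Lib.T2H9.CechBC

open Groth.Agent.Lib.T2H9.H0Unit Groth.Agent.Helper13PullbackUnit Groth.Agent.Helper13QcqsBC
  Groth.Agent.Helper13FlatMV Groth.Agent.Lib.Helper6 Groth.Agent.Lib.T2H9.FFGeom
  Groth.Agent.Lib.T2H9.FBCZero Groth.Agent.Lib.Helper16.CechLow Groth.Agent.Lib.T2H9.TFunGeo
  Groth.Agent.Lib.T2H9.EW Groth.Agent.Lib.T2H9.CechTransfer Groth.Agent.Lib.T2H9.Bridge

variable {A A' : Type u} [CommRing A] [CommRing A'] [Algebra A A']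
variable {X X' : Scheme.{u}} [X.Over (Spec (CommRingCat.of A))] [X'.Over (Spec (CommRingCat.of A'))]
variable (g' : X' ⟶ X)
variable (h : IsPullback g' (X' ↘ Spec (CommRingCat.of A')) (X ↘ Spec (CommRingCat.of A))
  (Spec.map (CommRingCat.ofHom (algebraMap A A'))))
variable (F : X.Modules) {ι : Type u} (U : ι → X.Opens)

/-- the inverse image family -/
def pre : ι → X'.Opens := fun i => g' ⁻¹ᵁ U i

theorem Ux_pre {n : ℕ} (x : Fin (n + 1) → ι) : Ux (pre g' U) x = g' ⁻¹ᵁ (Ux U x) := by
  ext z
  have h1 := Groth.Agent.Lib.T2H4.AffKz.mem_Ux (Z := X'.carrier) (pre g' U) x z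
  have h2 := Groth.Agent.Lib.T2H4.AffKz.mem_Ux (Z := X.carrier) U x (g' z)
  exact h1.trans h2.symm

theorem iSup_pre (hcov : iSup U = ⊤) : iSup (pre g' U) = ⊤ := by
  rw [eq_top_iff]
  intro z _
  have hz : g' z ∈ iSup U := by rw [hcov]; trivial
  obtain ⟨i, hi⟩ := Opens.mem_iSup.1 hz
  exact Opens.mem_iSup.2 ⟨i, hi⟩

end Groth.Agent.Lib.T2H9.CechBC

namespace Groth.Agent.Lib.T2H9.CechBC
open Groth.Agent.Lib.T2H9.H0Unit Groth.Agent.Helper13PullbackUnit Groth.Agent.Helper13QcqsBC
  Groth.Agent.Helper13FlatMV Groth.Agent.Lib.Helper6 Groth.Agent.Lib.T2H9.FFGeom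
  Groth.Agent.Lib.T2H9.FBCZero Groth.Agent.Lib.Helper16.CechLow Groth.Agent.Lib.T2H9.TFunGeo
  Groth.Agent.Lib.T2H9.EW Groth.Agent.Lib.T2H9.CechTransfer Groth.Agent.Lib.T2H9.Bridge

variable {A A' : Type u} [CommRing A] [CommRing A'] [Algebra A A']
variable {X X' : Scheme.{u}} [X.Over (Spec (CommRingCat.of A))] [X'.Over (Spec (CommRingCat.of A'))]
variable (g' : X' ⟶ X)
variable (h : IsPullback g' (X' ↘ Spec (CommRingCat.of A')) (X ↘ Spec (CommRingCat.of A))
  (Spec.map (CommRingCat.ofHom (algebraMap A A'))))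
variable (F : X.Modules) {ι : Type u} (U : ι → X.Opens)

variable (A A') in
/-- the base change map on sections of the unit values of the `T` functors -/
noncomputable def τV {V : X.Opens} {V' : X'.Opens} (hle : V' ≤ g' ⁻¹ᵁ V) :
    (toPsh.obj ((CohIII.tensorAFunctor A F).obj (ModuleCat.of A A))).obj (op V) ⟶
      (toPsh.obj ((CohIII.tensorAFunctor A' ((Scheme.Modules.pullback g').obj F)).obj
        (ModuleCat.of A' A'))).obj (op V') :=
  (toPsh.map (tensorAFunctorUnitIso A F).hom).app (op V) ≫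
    AddCommGrpCat.ofHom (unitSec g' F hle) ≫
    (toPsh.map (tensorAFunctorUnitIso A' ((Scheme.Modules.pullback g').obj F)).inv).app (op V')

theorem τV_res {V W : X.Opens} {V' W' : X'.Opens} (hV : V' ≤ g' ⁻¹ᵁ V) (hW : W' ≤ g' ⁻¹ᵁ W)
    (hWV : W ≤ V) (hWV' : W' ≤ V') :
    (toPsh.obj ((CohIII.tensorAFunctor A F).obj (ModuleCat.of A A))).map (homOfLE hWV).op ≫
        τV A A' g' F hW =
      τV A A' g' F hV ≫ (toPsh.obj ((CohIII.tensorAFunctor A' ((Scheme.Modules.pullback g').obj F)).obj
        (ModuleCat.of A' A'))).map (homOfLE hWV').op := by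
  have h1 := (toPsh.map (tensorAFunctorUnitIso A F).hom).naturality (homOfLE hWV).op
  have h2 := (toPsh.map (tensorAFunctorUnitIso A' ((Scheme.Modules.pullback g').obj F)).inv).naturality
    (homOfLE hWV').op
  have key : (toPsh.obj F).map (homOfLE hWV).op ≫ AddCommGrpCat.ofHom (unitSec g' F hW) =
      AddCommGrpCat.ofHom (unitSec g' F hV) ≫
        (toPsh.obj ((Scheme.Modules.pullback g').obj F)).map (homOfLE hWV').op := by
    ext a
    exact (unitSec_res g' F hV hW hWV hWV' a).symm
  unfold τV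
  calc _ = ((toPsh.obj ((CohIII.tensorAFunctor A F).obj (ModuleCat.of A A))).map (homOfLE hWV).op ≫
        (toPsh.map (tensorAFunctorUnitIso A F).hom).app (op W)) ≫
        AddCommGrpCat.ofHom (unitSec g' F hW) ≫
        (toPsh.map (tensorAFunctorUnitIso A' ((Scheme.Modules.pullback g').obj F)).inv).app (op W') :=
        (Category.assoc _ _ _).symm
    _ = ((toPsh.map (tensorAFunctorUnitIso A F).hom).app (op V) ≫ (toPsh.obj F).map (homOfLE hWV).op) ≫
        AddCommGrpCat.ofHom (unitSec g' F hW) ≫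
        (toPsh.map (tensorAFunctorUnitIso A' ((Scheme.Modules.pullback g').obj F)).inv).app (op W') :=
        congrArg (· ≫ _) h1
    _ = (toPsh.map (tensorAFunctorUnitIso A F).hom).app (op V) ≫
        ((toPsh.obj F).map (homOfLE hWV).op ≫ AddCommGrpCat.ofHom (unitSec g' F hW)) ≫
        (toPsh.map (tensorAFunctorUnitIso A' ((Scheme.Modules.pullback g').obj F)).inv).app (op W') := by
        simp only [Category.assoc]
    _ = (toPsh.map (tensorAFunctorUnitIso A F).hom).app (op V) ≫
        (AddCommGrpCat.ofHom (unitSec g' F hV) ≫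
          (toPsh.obj ((Scheme.Modules.pullback g').obj F)).map (homOfLE hWV').op) ≫
        (toPsh.map (tensorAFunctorUnitIso A' ((Scheme.Modules.pullback g').obj F)).inv).app (op W') :=
        congrArg (fun t => _ ≫ t ≫ _) key
    _ = (toPsh.map (tensorAFunctorUnitIso A F).hom).app (op V) ≫
        AddCommGrpCat.ofHom (unitSec g' F hV) ≫
          ((toPsh.obj ((Scheme.Modules.pullback g').obj F)).map (homOfLE hWV').op ≫
        (toPsh.map (tensorAFunctorUnitIso A' ((Scheme.Modules.pullback g').obj F)).inv).app (op W')) := by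
        simp only [Category.assoc]
    _ = (toPsh.map (tensorAFunctorUnitIso A F).hom).app (op V) ≫
        AddCommGrpCat.ofHom (unitSec g' F hV) ≫
          ((toPsh.map (tensorAFunctorUnitIso A' ((Scheme.Modules.pullback g').obj F)).inv).app (op V') ≫
            (toPsh.obj ((CohIII.tensorAFunctor A' ((Scheme.Modules.pullback g').obj F)).obj
              (ModuleCat.of A' A'))).map (homOfLE hWV').op) :=
        congrArg (fun t => _ ≫ _ ≫ t) h2
    _ = _ := by simp only [Category.assoc]

include h in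
theorem τV_smul {V : X.Opens} {V' : X'.Opens} (hle : V' ≤ g' ⁻¹ᵁ V) (a : A) :
    (toPsh.map ((CohIII.tensorAFunctor A F).map (a • 𝟙 (ModuleCat.of A A)))).app (op V) ≫
        τV A A' g' F hle =
      τV A A' g' F hle ≫ (toPsh.map ((CohIII.tensorAFunctor A' ((Scheme.Modules.pullback g').obj F)).map
        (algebraMap A A' a • 𝟙 (ModuleCat.of A' A')))).app (op V') := by
  ext s
  let s' : LObj (CohIII.tensorAFunctor A F ⋙ secAb V) (ModuleCat.of A A) := s
  have e1 : secUnitEquiv A F V (a • s') = a • secUnitEquiv A F V s' := map_smul _ _ _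
  have e2 := uV_smul g' h F hle a (secUnitEquiv A F V s')
  have e3 := (secUnitEquiv A' ((Scheme.Modules.pullback g').obj F) V').symm.map_smul
    (algebraMap A A' a) (uV g' F hle (secUnitEquiv A F V s'))
  exact (congrArg (secUnitEquiv A' ((Scheme.Modules.pullback g').obj F) V').symm
    ((congrArg (uV g' F hle) e1).trans e2)).trans e3

section chain
open Groth.Agent.Lib.T2H5.CechPn

/-- the presheaf of the unit value of the `T` functor over `A` -/
noncomputable abbrev PA : (Opens X)ᵒᵖ ⥤ AddCommGrpCat.{u} :=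
  toPsh.obj ((CohIII.tensorAFunctor A F).obj (ModuleCat.of A A))

variable (A A') in
/-- the presheaf of the unit value of the `T` functor over `A'` -/
noncomputable abbrev PA' : (Opens X')ᵒᵖ ⥤ AddCommGrpCat.{u} :=
  toPsh.obj ((CohIII.tensorAFunctor A' ((Scheme.Modules.pullback g').obj F)).obj (ModuleCat.of A' A'))

theorem Ux_pre_le {n : ℕ} (x : Fin (n + 1) → ι) : Ux (pre g' U) x ≤ g' ⁻¹ᵁ (Ux U x) :=
  le_of_eq (Ux_pre g' U x)

variable (A A') in
/-- the component maps -/
noncomputable def τx (n : ℕ) (x : Fin (n + 1) → ι) :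
    (PA (A := A) F).obj (op (Ux U x)) ⟶ (PA' A' g' F).obj (op (Ux (pre g' U) x)) :=
  τV A A' g' F (Ux_pre_le g' U x)

theorem τx_face (n : ℕ) (x : Fin (n + 2) → ι) (i : Fin (n + 2)) :
    (PA (A := A) F).map (face U x i).op ≫ τx A A' g' F U (n + 1) x =
      τx A A' g' F U n (x ∘ Fin.succAbove i) ≫ (PA' A' g' F).map (face (pre g' U) x i).op := by
  have e1 : face U x i = homOfLE (face U x i).le := Subsingleton.elim _ _
  have e2 : face (pre g' U) x i = homOfLE (face (pre g' U) x i).le := Subsingleton.elim _ _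
  rw [e1, e2]
  exact τV_res g' F (Ux_pre_le g' U (x ∘ Fin.succAbove i)) (Ux_pre_le g' U x) _ _

variable (A A') in
/-- the base change map of Čech complexes (unit values), `ℕ`-indexed -/
noncomputable def Tc : CK U (PA (A := A) F) ⟶ CK (pre g' U) (PA' A' g' F) :=
  transfer U (pre g' U) (PA (A := A) F) (PA' A' g' F) (τx A A' g' F U) (τx_face g' F U)

include h in
theorem Tc_smul (a : A) :
    (cechComplexFunctor U).map (toPsh.map ((CohIII.tensorAFunctor A F).map
        (a • 𝟙 (ModuleCat.of A A)))) ≫ Tc A A' g' F U =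
      Tc A A' g' F U ≫ (cechComplexFunctor (pre g' U)).map (toPsh.map ((CohIII.tensorAFunctor A'
        ((Scheme.Modules.pullback g').obj F)).map (algebraMap A A' a • 𝟙 (ModuleCat.of A' A')))) := by
  apply HomologicalComplex.hom_ext
  intro n
  refine hom_ext_pr (pre g' U) _ _ (fun x => ?_)
  rw [HomologicalComplex.comp_f, HomologicalComplex.comp_f, Category.assoc, Category.assoc]
  have c1 := cechMap_pr (pre g' U) (toPsh.map ((CohIII.tensorAFunctor A'
    ((Scheme.Modules.pullback g').obj F)).map (algebraMap A A' a • 𝟙 (ModuleCat.of A' A')))) n x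
  have c2 := cechMap_pr U (toPsh.map ((CohIII.tensorAFunctor A F).map
    (a • 𝟙 (ModuleCat.of A A)))) n x
  have c3 : (Tc A A' g' F U).f n ≫ pr (pre g' U) (PA' A' g' F) n x =
      pr U (PA (A := A) F) n x ≫ τx A A' g' F U n x :=
    transferF_pr U (pre g' U) (PA (A := A) F) (PA' A' g' F) (τx A A' g' F U) n x
  have c4 := τV_smul g' h F (Ux_pre_le g' U x) a
  rw [c3, c1, ← Category.assoc, c2, ← Category.assoc, c3, Category.assoc, Category.assoc]
  exact congrArg (_ ≫ ·) c4

end chain

section kapV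

variable (A A') in
/-- `τV` as an additive map of the functorial modules -/
noncomputable def τVfun {V : X.Opens} {V' : X'.Opens} (hle : V' ≤ g' ⁻¹ᵁ V) :
    LObj (CohIII.tensorAFunctor A F ⋙ secAb V) (ModuleCat.of A A) →+
      LObj (CohIII.tensorAFunctor A' ((Scheme.Modules.pullback g').obj F) ⋙ secAb V')
        (ModuleCat.of A' A') :=
  (τV A A' g' F hle).hom

include h in
theorem τVfun_smul {V : X.Opens} {V' : X'.Opens} (hle : V' ≤ g' ⁻¹ᵁ V) (a : A)
    (s : LObj (CohIII.tensorAFunctor A F ⋙ secAb V) (ModuleCat.of A A)) :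
    τVfun A A' g' F hle (a • s) = algebraMap A A' a • τVfun A A' g' F hle s :=
  congrArg (fun φ => φ.hom s) (τV_smul g' h F hle a)

include h in
theorem kap_τV_bijective [F.IsQuasicoherent] {V : X.Opens} {V' : X'.Opens} (hV : IsAffineOpen V)
    (hV' : V' = g' ⁻¹ᵁ V) :
    Function.Bijective (kap (R := A) (R' := A') (τVfun A A' g' F (le_of_eq hV'))
      (τVfun_smul g' h F (le_of_eq hV'))) := by
  refine FBCAlg.kap_bijective_of_equiv (RingEquiv.refl A) (RingEquiv.refl A') (fun a => rfl)
    (secUnitEquiv A F V).toAddEquiv (fun a m => map_smul (secUnitEquiv A F V) a m)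
    (secUnitEquiv A' ((Scheme.Modules.pullback g').obj F) V').toAddEquiv
    (fun b q => map_smul (secUnitEquiv A' ((Scheme.Modules.pullback g').obj F) V') b q)
    (uV g' F (le_of_eq hV')) (uV_smul g' h F (le_of_eq hV')) _ _ ?_
    (kap_uV_bijective g' h F hV hV')
  intro m
  exact (secUnitEquiv A' ((Scheme.Modules.pullback g').obj F) V').apply_symm_apply _

end kapV

section kapN
open Groth.Agent.Lib.T2H9.KapTotal
variable [Finite ι] [F.IsQuasicoherent]
  (hUa : ∀ (n : ℕ) (x : Fin (n + 1) → ι), IsAffineOpen (Ux U x))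

variable (A A') in
/-- the base change map of Čech cochains as an additive map of the functorial modules -/
noncomputable def Tcfun (n : ℕ) :
    LObj (Kc A F U ⋙ HomologicalComplex.eval _ _ n) (ModuleCat.of A A) →+
      LObj (Kc A' ((Scheme.Modules.pullback g').obj F) (pre g' U) ⋙ HomologicalComplex.eval _ _ n)
        (ModuleCat.of A' A') :=
  ((Tc A A' g' F U).f n).hom

include h in
theorem Tcfun_smul (n : ℕ) (a : A)
    (w : LObj (Kc A F U ⋙ HomologicalComplex.eval _ _ n) (ModuleCat.of A A)) :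
    Tcfun A A' g' F U n (a • w) = algebraMap A A' a • Tcfun A A' g' F U n w :=
  congrArg (fun φ => (φ.f n).hom w) (Tc_smul g' h F U a)

include h hUa in
theorem kap_Tc_bijective (n : ℕ) :
    Function.Bijective (kap (R := A) (R' := A') (Tcfun A A' g' F U n) (Tcfun_smul g' h F U n)) := by
  letI : Fintype (Fin (n + 1) → ι) := Fintype.ofFinite _
  refine kap_bijective_of_total
    (π := fun x => ((liftANat (πx A F U n x)).app (ModuleCat.of A A)).hom)
    (s := fun x => ((liftANat (sx A F U n x)).app (ModuleCat.of A A)).hom)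
    (fun w => sum_pr_inc U (toPsh.obj ((CohIII.tensorAFunctor A F).obj (ModuleCat.of A A))) n w)
    (π' := fun x => ((liftANat (πx A' ((Scheme.Modules.pullback g').obj F) (pre g' U) n x)).app
      (ModuleCat.of A' A')).hom)
    (s' := fun x => ((liftANat (sx A' ((Scheme.Modules.pullback g').obj F) (pre g' U) n x)).app
      (ModuleCat.of A' A')).hom)
    (fun w => sum_pr_inc (pre g' U) (toPsh.obj ((CohIII.tensorAFunctor A'
      ((Scheme.Modules.pullback g').obj F)).obj (ModuleCat.of A' A'))) n w)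
    (Tcfun A A' g' F U n) (Tcfun_smul g' h F U n)
    (fun x => τVfun A A' g' F (Ux_pre_le g' U x))
    (fun x => τVfun_smul g' h F (Ux_pre_le g' U x)) ?_ ?_ ?_
  · intro x w
    exact congrArg (fun φ => φ.hom w)
      (transferF_pr U (pre g' U) (PA (A := A) F) (PA' A' g' F) (τx A A' g' F U) n x)
  · intro x w
    exact congrArg (fun φ => φ.hom w)
      (inc_transferF U (pre g' U) (PA (A := A) F) (PA' A' g' F) (τx A A' g' F U) n x)
  · intro x
    exact kap_τV_bijective g' h F (hUa n x) (Ux_pre g' U x)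

end kapN

section ext
variable [Finite ι] [F.IsQuasicoherent]
  (hUa : ∀ (n : ℕ) (x : Fin (n + 1) → ι), IsAffineOpen (Ux U x))

variable (A A') in
/-- the base change map of Čech complexes (unit values), `ℤ`-indexed -/
noncomputable def Tz : (K A F U).obj (ModuleCat.of A A) ⟶
    (K A' ((Scheme.Modules.pullback g').obj F) (pre g' U)).obj (ModuleCat.of A' A') :=
  HomologicalComplex.extendMap (Tc A A' g' F U) ComplexShape.embeddingUpNat

include h in
theorem Tz_smul (a : A) :
    (K A F U).map (a • 𝟙 (ModuleCat.of A A)) ≫ Tz A A' g' F U =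
      Tz A A' g' F U ≫ (K A' ((Scheme.Modules.pullback g').obj F) (pre g' U)).map
        (algebraMap A A' a • 𝟙 (ModuleCat.of A' A')) := by
  change HomologicalComplex.extendMap ((cechComplexFunctor U).map (toPsh.map
      ((CohIII.tensorAFunctor A F).map (a • 𝟙 (ModuleCat.of A A)))))
      ComplexShape.embeddingUpNat ≫ HomologicalComplex.extendMap (Tc A A' g' F U) _ =
    HomologicalComplex.extendMap (Tc A A' g' F U) ComplexShape.embeddingUpNat ≫
      HomologicalComplex.extendMap ((cechComplexFunctor (pre g' U)).map (toPsh.map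
        ((CohIII.tensorAFunctor A' ((Scheme.Modules.pullback g').obj F)).map
        (algebraMap A A' a • 𝟙 (ModuleCat.of A' A'))))) _
  rw [← HomologicalComplex.extendMap_comp, ← HomologicalComplex.extendMap_comp]
  exact congrArg (fun t => HomologicalComplex.extendMap t ComplexShape.embeddingUpNat)
    (Tc_smul g' h F U a)

variable (A A') in
/-- the components of `Tz` as additive maps of the functorial modules -/
noncomputable def Tzfun (i : ℤ) :
    LObj (Kn (K A F U) i) (ModuleCat.of A A) →+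
      LObj (Kn (K A' ((Scheme.Modules.pullback g').obj F) (pre g' U)) i) (ModuleCat.of A' A') :=
  ((Tz A A' g' F U).f i).hom

include h in
theorem Tzfun_smul (i : ℤ) (a : A) (w : LObj (Kn (K A F U) i) (ModuleCat.of A A)) :
    Tzfun A A' g' F U i (a • w) = algebraMap A A' a • Tzfun A A' g' F U i w :=
  congrArg (fun φ => (φ.f i).hom w) (Tz_smul g' h F U a)

variable (A) in
/-- degree `n` of `K` is degree `n` of `Kc`, as an additive equivalence of functorial modules -/
noncomputable def KnEquiv (n : ℕ) :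
    LObj (Kn (K A F U) (n : ℤ)) (ModuleCat.of A A) ≃+
      LObj (Kc A F U ⋙ HomologicalComplex.eval _ _ n) (ModuleCat.of A A) :=
  ((KnIso A F U n).app (ModuleCat.of A A)).addCommGroupIsoToAddEquiv

theorem KnEquiv_smul (n : ℕ) (a : A) (m : LObj (Kn (K A F U) (n : ℤ)) (ModuleCat.of A A)) :
    KnEquiv A F U n (a • m) = a • KnEquiv A F U n m :=
  congrArg (fun φ => φ.hom m) ((KnIso A F U n).hom.naturality (a • 𝟙 (ModuleCat.of A A)))

include h hUa in
theorem kap_Tz_bijective (i : ℤ) :
    Function.Bijective (kap (R := A) (R' := A') (Tzfun A A' g' F U i) (Tzfun_smul g' h F U i)) := by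
  by_cases hi : i < 0
  · haveI h1 : Subsingleton (LObj (Kn (K A F U) i) (ModuleCat.of A A)) :=
      AddCommGrpCat.subsingleton_of_isZero (isZero_K_neg A F U i hi _)
    haveI h2 : Subsingleton (LObj (Kn (K A' ((Scheme.Modules.pullback g').obj F) (pre g' U)) i)
        (ModuleCat.of A' A')) :=
      AddCommGrpCat.subsingleton_of_isZero (isZero_K_neg A' _ (pre g' U) i hi _)
    haveI h3 : Subsingleton (TensorProduct A A' (LObj (Kn (K A F U) i) (ModuleCat.of A A))) :=
      inferInstance
    exact ⟨fun a b _ => Subsingleton.elim _ _, fun b => ⟨0, Subsingleton.elim _ _⟩⟩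
  · obtain ⟨n, rfl⟩ := Int.eq_ofNat_of_zero_le (not_lt.1 hi)
    refine FBCAlg.kap_bijective_of_equiv (RingEquiv.refl A) (RingEquiv.refl A') (fun a => rfl)
      (KnEquiv A F U n) (KnEquiv_smul F U n)
      (KnEquiv A' ((Scheme.Modules.pullback g').obj F) (pre g' U) n)
      (KnEquiv_smul ((Scheme.Modules.pullback g').obj F) (pre g' U) n)
      (Tcfun A A' g' F U n) (Tcfun_smul g' h F U n) _ _ ?_ (kap_Tc_bijective g' h F U hUa n)
    intro m
    have e := HomologicalComplex.extendMap_f (Tc A A' g' F U) ComplexShape.embeddingUpNat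
      (i := n) (i' := (n : ℤ)) rfl
    have e2 : (Tz A A' g' F U).f (n : ℤ) ≫
        (HomologicalComplex.extendXIso (CK (pre g' U) (PA' A' g' F))
          ComplexShape.embeddingUpNat (i := n) (i' := (n : ℤ)) rfl).hom =
        (HomologicalComplex.extendXIso (CK U (PA (A := A) F))
          ComplexShape.embeddingUpNat (i := n) (i' := (n : ℤ)) rfl).hom ≫ (Tc A A' g' F U).f n :=
      ((Iso.comp_inv_eq _).1 ((Category.assoc _ _ _).trans e.symm)).symm
    exact congrArg (fun φ => φ.hom m) e2

end ext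

section iso
open TensorProduct ChangeOfRings
variable [Finite ι] [F.IsQuasicoherent]
  (hUa : ∀ (n : ℕ) (x : Fin (n + 1) → ι), IsAffineOpen (Ux U x))

/-- the degreewise base change isomorphisms `A' ⊗_A C^i ≅ C'^i` -/
noncomputable def bcEquiv (i : ℤ) :
    (ModuleCat.extendScalars (algebraMap A A')).obj ((Cx A F U).X i) ≃ₗ[A']
      (Cx A' ((Scheme.Modules.pullback g').obj F) (pre g' U)).X i :=
  (Groth.Agent.S2380.bridge A A' ((Cx A F U).X i)).trans
    (LinearEquiv.ofBijective (kap (R := A) (R' := A') (Tzfun A A' g' F U i)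
      (Tzfun_smul g' h F U i)) (kap_Tz_bijective g' h F U hUa i))

theorem bcEquiv_one_tmul (i : ℤ) (w : (Cx A F U).X i) :
    bcEquiv g' h F U hUa i ((1 : A') ⊗ₜ[A, algebraMap A A'] w) = Tzfun A A' g' F U i w := by
  change kap (R := A) (R' := A') (Tzfun A A' g' F U i) (Tzfun_smul g' h F U i)
    ((1 : A') ⊗ₜ[A] w) = _
  rw [kap_tmul, one_smul]

/-- **base change of the Čech complex**: `A' ⊗_A C(U, F) ≅ C(g'⁻¹U, g'^*F)` -/
noncomputable def bcCxIso :
    CohIII.bcCx (algebraMap A A') (Cx A F U) ≅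
      Cx A' ((Scheme.Modules.pullback g').obj F) (pre g' U) :=
  HomologicalComplex.Hom.isoOfComponents (fun i => (bcEquiv g' h F U hUa i).toModuleIso)
    (fun i j _ => by
      apply ModuleCat.ExtendScalars.hom_ext
      intro w
      change (Cx A' ((Scheme.Modules.pullback g').obj F) (pre g' U)).d i j
          (bcEquiv g' h F U hUa i ((1 : A') ⊗ₜ[A, algebraMap A A'] w)) =
        bcEquiv g' h F U hUa j ((1 : A') ⊗ₜ[A, algebraMap A A'] ((Cx A F U).d i j w))
      rw [bcEquiv_one_tmul, bcEquiv_one_tmul]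
      exact congrArg (fun φ => φ.hom w) ((Tz A A' g' F U).comm i j))

end iso

section core
open Groth.Agent.Lib.T2H9.TFunAlg Groth.Agent.Lib.T2H9.ProjFormula

/-- isomorphic complexes have isomorphic `T` functors -/
noncomputable def TFunIsoOfIso {R : Type u} [CommRing R] {κ : Type} {c : ComplexShape κ}
    {P Q : HomologicalComplex (ModuleCat.{u} R) c} (e : P ≅ Q) (p : κ) :
    CohIII.TFun P p ≅ CohIII.TFun Q p :=
  haveI : IsIso (TFunMap e.hom p) := isIso_TFunMap e.hom p (fun M =>
    @quasiIsoAt_of_isIso _ _ _ _ _ _ _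
      (((MonoidalCategory.tensorRight M).mapHomologicalComplex c).map e.hom)
      (Functor.map_isIso _ _) p _ _)
  asIso (TFunMap e.hom p)

/-- forgetting to abelian groups after restriction of scalars -/
noncomputable def restrictForgetIso {R S : Type u} [CommRing R] [CommRing S] (φ : R →+* S) :
    ModuleCat.restrictScalars φ ⋙ forget₂ (ModuleCat.{u} R) AddCommGrpCat.{u} ≅
      forget₂ (ModuleCat.{u} S) AddCommGrpCat.{u} :=
  NatIso.ofComponents (fun M => Iso.refl _) (fun g => by
    ext x
    rfl)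

variable [Finite ι] [F.IsQuasicoherent]

include h in
/-- **Base change for the cohomological functors** `T^p`: for a cartesian square
`X' = X ×_{Spec A} Spec A'` (with `X` covered by finitely many affine opens with affine
intersections, e.g. quasi-compact and separated over `A`) and `F` quasi-coherent on `X`,
`H^p(X', f'^*(M'~) ⊗ g'^*F) ≅ H^p(X, f^*(M'_A~) ⊗ F)` naturally in the `A'`-module `M'`. -/
theorem nonempty_coreIso (hcov : iSup U = ⊤)
    (hUa : ∀ (n : ℕ) (x : Fin (n + 1) → ι), IsAffineOpen (iInf fun k => U (x k))) (p : ℕ) :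
    Nonempty (ModuleCat.restrictScalars (algebraMap A A') ⋙ CohIII.tensorAFunctor A F ⋙
        CohIII.HAb X p ≅
      CohIII.tensorAFunctor A' ((Scheme.Modules.pullback g').obj F) ⋙ CohIII.HAb X' p) := by
  haveI : IsAffineHom g' := MorphismProperty.of_isPullback (P := @IsAffineHom) h.flip inferInstance
  have hUa' : ∀ (n : ℕ) (x : Fin (n + 1) → ι), IsAffineOpen (iInf fun k => pre g' U (x k)) := by
    intro n x
    have e : (iInf fun k => pre g' U (x k)) = g' ⁻¹ᵁ (iInf fun k => U (x k)) := by
      rw [← Groth.Agent.S0493.prod_eq_iInf (X := X'.carrier) (pre g' U) x,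
        ← Groth.Agent.S0493.prod_eq_iInf (X := X.carrier) U x]
      exact Ux_pre g' U x
    rw [e]
    exact (hUa n x).preimage g'
  obtain ⟨eA⟩ := nonempty_bridgeC A F U hcov hUa p
  obtain ⟨eA'⟩ := nonempty_bridgeC A' ((Scheme.Modules.pullback g').obj F) (pre g' U)
    (iSup_pre g' U hcov) hUa' p
  refine ⟨Functor.isoWhiskerLeft _ eA.symm ≪≫ (Functor.associator _ _ _).symm ≪≫
    Functor.isoWhiskerRight (tFunBcIso (algebraMap A A') (Cx A F U) (p : ℤ)).symm _ ≪≫
    Functor.isoWhiskerRight (Functor.isoWhiskerRight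
      (TFunIsoOfIso (bcCxIso g' h F U (isAffineOpen_Ux U hUa)) (p : ℤ)) _) _ ≪≫
    Functor.associator _ _ _ ≪≫
    Functor.isoWhiskerLeft _ (restrictForgetIso (algebraMap A A')) ≪≫ eA'⟩

end core

end Groth.Agent.Lib.T2H9.CechBC
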