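import Groth.Agent.Lib.T2H5CechNat

/-!
# T2H9CechNat2 (helper9): the Čech-to-derived comparison, natural in the sheaf

`exists_natural_family U hcov`: for a covering `U` of a topological space there are additive maps
`Ψ F p : Ȟ^p(U, F) → H^p(X, F)`, natural in the abelian sheaf `F` (for all morphisms of sheaves),
which are bijective whenever `F` is acyclic on all finite intersections of the covering.
Generalises `T2H5CechNat.exists_equiv_natural` (endomorphisms of one sheaf) by fixing the edge
family of `S16019` once for all sheaves.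
-/

set_option autoImplicit false
universe u

open CategoryTheory CategoryTheory.Limits TopologicalSpace Opposite Abelian

namespace Groth.Agent.Lib.T2H9.CechNat2

open Groth.Agent.Lib.Helper16.CechLow Groth.Agent.Lib.Helper16.CechH1
  Groth.Agent.Lib.Helper16.CechCmp Groth.Agent.Lib.Helper16.CechLES
  Groth.Agent.Lib.Helper23.AffVanish Groth.Agent.Lib.T2H5.CechPn Groth.Agent.Lib.T2H5.CechNat

variable {X : TopCat.{u}}

/-- The Čech-to-derived comparison maps for a covering, natural in the abelian sheaf, bijective for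
sheaves which are acyclic on all finite intersections. -/
theorem exists_natural_family {ι : Type u} (U : ι → Opens X) (hcov : iSup U = ⊤) :
    ∃ Ψ : ∀ (F : CohTop.Ab X) (p : ℕ), CohTop.cechH F.obj U p →+ CohTop.H F p,
      (∀ (F G : CohTop.Ab X) (τ : F ⟶ G) (p : ℕ) (x : CohTop.cechH F.obj U p),
        Ψ G p (HomologicalComplex.homologyMap ((cechComplexFunctor U).map τ.hom) p x) =
          Sheaf.H.map τ p (Ψ F p x)) ∧
      ∀ (F : CohTop.Ab X), (∀ (p : ℕ) (a : Fin (p + 1) → ι) (q : ℕ),
          Subsingleton (CohTop.HU F (q + 1) (iInf fun k => U (a k)))) →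
        ∀ p : ℕ, Function.Bijective (Ψ F p) := by
  let Y := fam U (iSup U) (le_iSup U)
  have hY : Sieve.ofArrows (fun i => (Y i).left) (fun i => (Y i).hom) ∈
      Opens.grothendieckTopology X (iSup U) := covering_of_iSup Y le_rfl
  obtain ⟨e, he⟩ := Groth.Agent.S16019.result (Opens.grothendieckTopology X) Y hY
  let Ψ1 : ∀ (F : CohTop.Ab X) (p : ℕ), CohTop.cechH F.obj U p ≃+ CohCx.cechH F.obj Y p :=
    fun F p => (isoH' F.obj U (iSup U) (le_iSup U) p).addCommGroupIsoToAddEquiv
  let Ψ3 : ∀ (F : CohTop.Ab X) (p : ℕ), CohSite.HU F p (iSup U) ≃+ CohSite.HU F p ⊤ :=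
    fun F p => castHU F p hcov
  let Ψ4 : ∀ (F : CohTop.Ab X) (p : ℕ), HE F p ⊤ ≃+ CohTop.H F p := fun F p => HETopEquivH X F p
  refine ⟨fun F p => (Ψ4 F p).toAddMonoidHom.comp ((Ψ3 F p).toAddMonoidHom.comp
    ((CechEdge.edgeSh e F p).comp (Ψ1 F p).toAddMonoidHom)), ?_, ?_⟩
  · intro F G τ p x
    change Ψ4 G p (Ψ3 G p (CechEdge.edgeSh e G p
      (Ψ1 G p (HomologicalComplex.homologyMap ((cechComplexFunctor U).map τ.hom) p x)))) =
      Sheaf.H.map τ p (Ψ4 F p (Ψ3 F p (CechEdge.edgeSh e F p (Ψ1 F p x))))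
    have h1 : Ψ1 G p (HomologicalComplex.homologyMap ((cechComplexFunctor U).map τ.hom) p x) =
        CechEdge.cechHMap Y τ.hom p (Ψ1 F p x) := isoH_naturality τ.hom Y p x
    have h2 : CechEdge.edgeSh e G p (CechEdge.cechHMap Y τ.hom p (Ψ1 F p x)) =
        CechEdge.HUmap τ p (iSup U) (CechEdge.edgeSh e F p (Ψ1 F p x)) :=
      edgeSh_naturality e he τ p (Ψ1 F p x)
    have h3 : Ψ3 G p (CechEdge.HUmap τ p (iSup U) (CechEdge.edgeSh e F p (Ψ1 F p x))) =
        CechEdge.HUmap τ p ⊤ (Ψ3 F p (CechEdge.edgeSh e F p (Ψ1 F p x))) :=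
      castHU_naturality τ p hcov _
    rw [h1, h2, h3]
    exact HETopEquivH_naturality τ p _
  · intro F h p
    have hh : ∀ (p : ℕ) (a : Fin (p + 1) → ι) (q : ℕ),
        Subsingleton (CohSite.HU F (q + 1) (∏ᶜ fun k => Y (a k)).left) := by
      intro p a q
      have e : (∏ᶜ fun k => Y (a k)).left = iInf fun k => U (a k) := by
        rw [← Groth.Agent.S0493.prod_eq_iInf]
        exact le_antisymm (left_le Y a) (le_left Y a)
      rw [e]
      exact h p a q
    have hbij := Groth.Agent.S16022.result (Opens.grothendieckTopology X) Y e he F hh p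
    exact (Ψ4 F p).bijective.comp ((Ψ3 F p).bijective.comp (hbij.comp (Ψ1 F p).bijective))

end Groth.Agent.Lib.T2H9.CechNat2
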