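import Groth.Agent.Lib.T2H9TFunGeo2
import Groth.Agent.Lib.T2H9EW2
import Groth.Agent.Lib.T2H9CechNat2

/-!
# T2H9TFunGeo3 (helper9): the Čech complex of `f^*(M~) ⊗ F` as a functor of `M`

* `cechAdditive`: Mathlib's `cechComplexFunctor` (with values in abelian groups) is additive;
  `inc`, `inc_pr_self`, `inc_pr_of_ne`, `inc_naturality`, `sum_pr_inc` (the Čech cochains are the
  biproduct of the components, naturally in the presheaf).
* `Kc A F U`, `K A F U`: the Čech complex of `f^*(M~) ⊗ F` for the family `U`, as a functor of the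
  `A`-module `M` (`ℕ`-indexed, resp. extended by zero to `ℤ`).
* `ewBij_K`, `flatA_K`: for a finite family with affine finite intersections (`F` quasi-coherent,
  flat over `A`), every degree of `K` satisfies Eilenberg–Watts and has a flat value at `A`.
-/

set_option autoImplicit false
set_option linter.style.haveILetI false
universe u
open CategoryTheory CategoryTheory.Limits AlgebraicGeometry Opposite TopologicalSpace

namespace Groth.Agent.Lib.T2H9.TFunGeo

open Groth.Agent.Lib.Helper16.CechLow Groth.Agent.Lib.T2H5.CechPn Groth.Agent.Lib.T2H9.EW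

section cechAdd
variable {C : Type*} [Category C] [HasFiniteProducts C] {κ : Type u} (V : κ → C)

theorem hom_ext_pr {Q : Cᵒᵖ ⥤ AddCommGrpCat.{u}} {W : AddCommGrpCat.{u}} {q : ℕ}
    (f g : W ⟶ (CK V Q).X q) (h : ∀ x, f ≫ pr V Q q x = g ≫ pr V Q q x) : f = g :=
  Pi.hom_ext (f := fun x : Fin (q + 1) → κ => Q.obj (op (Ux V x))) _ _ h

instance cechAdditive :
    (cechComplexFunctor V : (Cᵒᵖ ⥤ AddCommGrpCat.{u}) ⥤ CochainComplex AddCommGrpCat.{u} ℕ).Additive where
  map_add {P Q τ τ'} := by
    apply HomologicalComplex.hom_ext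
    intro q
    refine hom_ext_pr V _ _ (fun x => ?_)
    rw [HomologicalComplex.add_f_apply, Preadditive.add_comp,
      cechMap_pr V (τ + τ') q x, cechMap_pr V τ q x, cechMap_pr V τ' q x,
      NatTrans.app_add, Preadditive.comp_add]

section inc
variable (P : Cᵒᵖ ⥤ AddCommGrpCat.{u}) (q : ℕ)

open Classical in
/-- the inclusion of the component `x` into the Čech cochains -/
noncomputable def inc (x : Fin (q + 1) → κ) : P.obj (op (Ux V x)) ⟶ (CK V P).X q :=
  Pi.ι (fun x : Fin (q + 1) → κ => P.obj (op (Ux V x))) x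

open Classical in
theorem inc_pr_self (x : Fin (q + 1) → κ) : inc V P q x ≫ pr V P q x = 𝟙 _ :=
  Pi.ι_π_eq_id _ _

open Classical in
theorem inc_pr_of_ne {x y : Fin (q + 1) → κ} (h : x ≠ y) : inc V P q x ≫ pr V P q y = 0 :=
  Pi.ι_π_of_ne _ h

variable {P} in
theorem inc_naturality {Q : Cᵒᵖ ⥤ AddCommGrpCat.{u}} (τ : P ⟶ Q) (x : Fin (q + 1) → κ) :
    τ.app (op (Ux V x)) ≫ inc V Q q x = inc V P q x ≫ ((cechComplexFunctor V).map τ).f q := by
  refine hom_ext_pr V _ _ (fun y => ?_)
  rw [Category.assoc, Category.assoc, cechMap_pr V τ q y]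
  by_cases h : x = y
  · subst h
    rw [inc_pr_self, Category.comp_id, ← Category.assoc, inc_pr_self, Category.id_comp]
  · rw [inc_pr_of_ne V Q q h, comp_zero, ← Category.assoc, inc_pr_of_ne V P q h, zero_comp]

theorem sum_pr_inc [Finite κ] (w : (CK V P).X q) :
    letI : Fintype (Fin (q + 1) → κ) := Fintype.ofFinite _
    ∑ x : Fin (q + 1) → κ, (inc V P q x).hom ((pr V P q x).hom w) = w := by
  letI : Fintype (Fin (q + 1) → κ) := Fintype.ofFinite _
  classical
  apply elt_ext V P q
  intro y
  rw [map_sum]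
  rw [Finset.sum_eq_single y]
  · have := congrArg (fun φ => φ.hom ((pr V P q y).hom w)) (inc_pr_self V P q y)
    exact this
  · intro x _ hxy
    have := congrArg (fun φ => φ.hom ((pr V P q x).hom w)) (inc_pr_of_ne V P q hxy)
    exact this
  · intro h
    exact absurd (Finset.mem_univ y) h

end inc

end cechAdd

variable (A : Type u) [CommRing A] {X : Scheme.{u}} [X.Over (Spec (CommRingCat.of A))]
  (F : X.Modules) {ι : Type u} (U : ι → X.Opens)

/-- the underlying presheaf of abelian groups -/
noncomputable def toPsh : X.Modules ⥤ ((Opens X)ᵒᵖ ⥤ AddCommGrpCat.{u}) :=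
  SheafOfModules.toSheaf X.ringCatSheaf ⋙ sheafToPresheaf _ _

instance : (toPsh (X := X)).Additive where
  map_add := rfl

/-- the Čech complex of `f^*(M~) ⊗ F`, as a functor of `M` -/
noncomputable def Kc : ModuleCat.{u} A ⥤ CochainComplex AddCommGrpCat.{u} ℕ :=
  CohIII.tensorAFunctor A F ⋙ toPsh ⋙ cechComplexFunctor U

instance : (Kc A F U).Additive := by
  unfold Kc
  infer_instance

/-- the same, extended by zero to a `ℤ`-indexed cochain complex -/
noncomputable def K : ModuleCat.{u} A ⥤ CochainComplex AddCommGrpCat.{u} ℤ :=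
  Kc A F U ⋙ ComplexShape.embeddingUpNat.extendFunctor AddCommGrpCat.{u}

instance : (K A F U).Additive := by
  unfold K
  infer_instance

section deg
variable (n : ℕ)

/-- projection to the component `x` -/
noncomputable def πx (x : Fin (n + 1) → ι) :
    Kc A F U ⋙ HomologicalComplex.eval _ _ n ⟶ CohIII.tensorAFunctor A F ⋙ secAb (Ux U x) where
  app M := pr U (toPsh.obj ((CohIII.tensorAFunctor A F).obj M)) n x
  naturality {_ _} g := cechMap_pr U (toPsh.map ((CohIII.tensorAFunctor A F).map g)) n x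

/-- inclusion of the component `x` -/
noncomputable def sx (x : Fin (n + 1) → ι) :
    CohIII.tensorAFunctor A F ⋙ secAb (Ux U x) ⟶ Kc A F U ⋙ HomologicalComplex.eval _ _ n where
  app M := inc U (toPsh.obj ((CohIII.tensorAFunctor A F).obj M)) n x
  naturality {_ _} g := inc_naturality U n (toPsh.map ((CohIII.tensorAFunctor A F).map g)) x

variable [Finite ι] [F.IsQuasicoherent] (hU : ∀ (n : ℕ) (x : Fin (n + 1) → ι), IsAffineOpen (Ux U x))

include hU in
theorem ewBij_Kc : EWBij (Kc A F U ⋙ HomologicalComplex.eval _ _ n) := by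
  letI : Fintype (Fin (n + 1) → ι) := Fintype.ofFinite _
  refine ewBij_of_total _ (fun x => CohIII.tensorAFunctor A F ⋙ secAb (Ux U x))
    (πx A F U n) (sx A F U n) (fun M w => ?_) (fun x => ewBij_sec A F (hU n x))
  exact sum_pr_inc U (toPsh.obj ((CohIII.tensorAFunctor A F).obj M)) n w

include hU in
theorem flatA_Kc (hfl : FlatMod.IsFlatOver (X ↘ Spec (CommRingCat.of A)) F) :
    FlatA (Kc A F U ⋙ HomologicalComplex.eval _ _ n) := by
  letI : Fintype (Fin (n + 1) → ι) := Fintype.ofFinite _
  classical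
  refine flatA_of_total _ (fun x => CohIII.tensorAFunctor A F ⋙ secAb (Ux U x))
    (πx A F U n) (sx A F U n) (fun M w => ?_) (fun x => flatA_sec A F hfl (hU n x))
  exact sum_pr_inc U (toPsh.obj ((CohIII.tensorAFunctor A F).obj M)) n w

end deg

section int

/-- degree `n` of `K` is degree `n` of `Kc` -/
noncomputable def KnIso (n : ℕ) :
    Kn (K A F U) (n : ℤ) ≅ Kc A F U ⋙ HomologicalComplex.eval _ _ n :=
  NatIso.ofComponents
    (fun M => HomologicalComplex.extendXIso ((Kc A F U).obj M) ComplexShape.embeddingUpNat rfl)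
    (fun {M N} g => by
      change (HomologicalComplex.extendMap ((Kc A F U).map g) ComplexShape.embeddingUpNat).f (n : ℤ) ≫
        _ = _ ≫ ((Kc A F U).map g).f n
      rw [HomologicalComplex.extendMap_f ((Kc A F U).map g) ComplexShape.embeddingUpNat
        (i := n) (i' := (n : ℤ)) rfl, Category.assoc, Category.assoc, Iso.inv_hom_id,
        Category.comp_id])

theorem isZero_K_neg (m : ℤ) (hm : m < 0) (M : ModuleCat.{u} A) :
    IsZero ((Kn (K A F U) m).obj M) := by
  apply HomologicalComplex.isZero_extend_X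
  intro i hi
  have : (ComplexShape.embeddingUpNat.f i : ℤ) = (i : ℤ) := rfl
  omega

variable [Finite ι] [F.IsQuasicoherent] (hU : ∀ (n : ℕ) (x : Fin (n + 1) → ι), IsAffineOpen (Ux U x))

include hU in
theorem ewBij_K (m : ℤ) : EWBij (Kn (K A F U) m) := by
  by_cases hm : m < 0
  · exact ewBij_of_subsingleton _ (fun M =>
      AddCommGrpCat.subsingleton_of_isZero (isZero_K_neg A F U m hm M))
  · obtain ⟨n, rfl⟩ := Int.eq_ofNat_of_zero_le (not_lt.1 hm)
    exact ewBij_of_iso (KnIso A F U n).symm (ewBij_Kc A F U n hU)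

include hU in
theorem flatA_K (hfl : FlatMod.IsFlatOver (X ↘ Spec (CommRingCat.of A)) F) (m : ℤ) :
    FlatA (Kn (K A F U) m) := by
  by_cases hm : m < 0
  · exact flatA_of_subsingleton _ (fun M =>
      AddCommGrpCat.subsingleton_of_isZero (isZero_K_neg A F U m hm M))
  · obtain ⟨n, rfl⟩ := Int.eq_ofNat_of_zero_le (not_lt.1 hm)
    exact flatA_of_iso (KnIso A F U n).symm (flatA_Kc A F U n hU hfl)

end int

end Groth.Agent.Lib.T2H9.TFunGeo
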