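import Mathlib
import Groth.Agent.Lib.Helper16CechLow
import Groth.Agent.Lib.T2H9TFunGeo3

/-!
# T2H9CechTransfer (helper9): maps of Čech complexes from compatible families of maps on components

`transfer U U' P P' φ hφ : CK U P ⟶ CK U' P'` for families `U : ι → C`, `U' : ι → C'` in two (possibly
different) categories with finite products, presheaves `P`, `P'` of abelian groups and maps
`φ n x : P(U_x) ⟶ P'(U'_x)` commuting with the face maps.
-/

set_option autoImplicit false
set_option linter.style.haveILetI false
universe u v v' u₁ u₁'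

namespace Groth.Agent.Lib.T2H9.CechTransfer

open CategoryTheory CategoryTheory.Limits Opposite Groth.Agent.Lib.Helper16.CechLow
  Groth.Agent.Lib.T2H9.TFunGeo

variable {C : Type u₁} [Category.{v} C] [HasFiniteProducts C]
  {C' : Type u₁'} [Category.{v'} C'] [HasFiniteProducts C']
  {ι : Type u} (U : ι → C) (U' : ι → C')
  (P : Cᵒᵖ ⥤ AddCommGrpCat.{u}) (P' : C'ᵒᵖ ⥤ AddCommGrpCat.{u})
  (φ : ∀ (n : ℕ) (x : Fin (n + 1) → ι), P.obj (op (Ux U x)) ⟶ P'.obj (op (Ux U' x)))
  (hφ : ∀ (n : ℕ) (x : Fin (n + 2) → ι) (i : Fin (n + 2)),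
    P.map (face U x i).op ≫ φ (n + 1) x = φ n (x ∘ Fin.succAbove i) ≫ P'.map (face U' x i).op)

/-- the degree `n` component of the transfer map -/
noncomputable def transferF (n : ℕ) : (CK U P).X n ⟶ (CK U' P').X n :=
  Pi.lift (f := fun x : Fin (n + 1) → ι => P'.obj (op (Ux U' x)))
    (fun x => pr U P n x ≫ φ n x)

theorem transferF_pr (n : ℕ) (x : Fin (n + 1) → ι) :
    transferF U U' P P' φ n ≫ pr U' P' n x = pr U P n x ≫ φ n x :=
  Pi.lift_π _ _

include hφ in
theorem transferF_comm (n : ℕ) :
    transferF U U' P P' φ n ≫ (CK U' P').d n (n + 1) =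
      (CK U P).d n (n + 1) ≫ transferF U U' P P' φ (n + 1) := by
  refine hom_ext_pr U' _ _ (fun x => ?_)
  rw [Category.assoc, Category.assoc, d_pr, transferF_pr, ← Category.assoc, d_pr,
    Preadditive.comp_sum, Preadditive.sum_comp]
  refine Finset.sum_congr rfl (fun i _ => ?_)
  rw [Preadditive.comp_zsmul, Preadditive.zsmul_comp, ← Category.assoc, transferF_pr,
    Category.assoc, Category.assoc, hφ n x i]

/-- **transfer of Čech complexes**: a compatible family of maps on the components induces a chain map -/
noncomputable def transfer : CK U P ⟶ CK U' P' where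
  f n := transferF U U' P P' φ n
  comm' i j hij := by
    have : i + 1 = j := hij
    subst this
    exact transferF_comm U U' P P' φ hφ i

theorem transfer_f (n : ℕ) : (transfer U U' P P' φ hφ).f n = transferF U U' P P' φ n := rfl

/-- the transfer map is compatible with the inclusions of the components -/
theorem inc_transferF (n : ℕ) (x : Fin (n + 1) → ι) :
    inc U P n x ≫ transferF U U' P P' φ n = φ n x ≫ inc U' P' n x := by
  refine hom_ext_pr U' _ _ (fun y => ?_)
  rw [Category.assoc, Category.assoc, transferF_pr]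
  by_cases hxy : x = y
  · subst hxy
    rw [inc_pr_self, Category.comp_id, ← Category.assoc, inc_pr_self, Category.id_comp]
  · rw [inc_pr_of_ne U' P' n hxy, comp_zero, ← Category.assoc, inc_pr_of_ne U P n hxy, zero_comp]

end Groth.Agent.Lib.T2H9.CechTransfer
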