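import Groth.Prelude.Def_PicGrp
import Groth.Prelude.Def_FGA
import Groth.Agent.Lib.T2H6TensorPows
import Groth.Agent.Lib.T2H9IdealProd
import Groth.Agent.Lib.Helper23TensorUnit
set_option backward.isDefEq.respectTransparency.types false

/-!
# T2H9ClMonoid (helper9): the commutative monoid of isomorphism classes of `O_Y`-modules under `⊗`

`clMonoid Y : CommMonoid (PicF.Cl Y)` (a `def`, switch on with `attribute [local instance]`), with
`cl (A ⊗ B) = cl A * cl B`, `cl (L^{⊗ n}) = cl L ^ n`, `cl (multiTwist L a) = ∏ cl (L j) ^ a j`,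
`cl (idealMod (I * J)) = cl (idealMod I) * cl (idealMod J)` for `J` invertible.
-/

set_option autoImplicit false
set_option linter.style.haveILetI false
set_option linter.unusedSectionVars false
universe u

open AlgebraicGeometry CategoryTheory Limits

namespace Groth.Agent.Lib.T2H9.ClMonoid

open Groth.Agent.Lib.T2H6.TensorPows Groth.Agent.Lib.T2H9.IdealProd

variable {Y : Scheme.{u}}

/-- the commutative monoid of isomorphism classes of modules under the tensor product -/
@[reducible] noncomputable def clMonoid (Y : Scheme.{u}) : CommMonoid (PicF.Cl Y) where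
  mul := PicGrp.mulCl
  one := PicF.cl (Coh.structureModule Y)
  mul_assoc := by
    rintro ⟨A⟩ ⟨B⟩ ⟨C⟩
    exact Quot.sound ⟨assocIso' A B C⟩
  one_mul := by
    rintro ⟨A⟩
    exact Quot.sound ⟨Groth.Agent.Lib.Helper23.TensorUnit.unitTensorIso A⟩
  mul_one := by
    rintro ⟨A⟩
    exact Quot.sound ⟨Groth.Agent.Lib.Helper23.TensorUnit.tensorUnitIso A⟩
  mul_comm := by
    rintro ⟨A⟩ ⟨B⟩
    exact Quot.sound ⟨braidIso A B⟩

attribute [local instance] clMonoid

theorem cl_tensorMod (A B : Y.Modules) : PicF.cl (CohB1.tensorMod A B) = PicF.cl A * PicF.cl B := rfl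

theorem cl_structureModule : PicF.cl (Coh.structureModule Y) = 1 := rfl

theorem cl_eq_of_iso {A B : Y.Modules} (e : A ≅ B) : PicF.cl A = PicF.cl B := Quot.sound ⟨e⟩

theorem nonempty_iso_of_cl_eq {A B : Y.Modules} (h : PicF.cl A = PicF.cl B) : Nonempty (A ≅ B) :=
  (PicGrp.cl_eq_cl_iff A B).1 h

theorem cl_tensorPow (L : Y.Modules) (n : ℕ) : PicF.cl (CohB1.tensorPow L n) = PicF.cl L ^ n := by
  induction n with
  | zero => rw [pow_zero]; rfl
  | succ n ih =>
    rw [pow_succ, ← ih]
    rfl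

theorem cl_tensorList (l : List Y.Modules) : PicF.cl (FGA.tensorList l) = (l.map PicF.cl).prod := by
  induction l with
  | nil => rfl
  | cons M l ih =>
    rw [List.map_cons, List.prod_cons, ← ih]
    rfl

theorem cl_multiTwist {n : ℕ} (L : Fin n → Y.Modules) (a : Fin n → ℕ) :
    PicF.cl (FGA.multiTwist L a) = ∏ j, PicF.cl (L j) ^ a j := by
  unfold FGA.multiTwist
  rw [cl_tensorList, List.map_map, Fin.prod_univ_def]
  congr 1
  refine List.map_congr_left fun j _ => ?_
  exact cl_tensorPow (L j) (a j)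

theorem isInverseOf_iff (L M : Y.Modules) : ClSub.IsInverseOf L M ↔ PicF.cl L * PicF.cl M = 1 :=
  (PicGrp.cl_eq_cl_iff _ _).symm

theorem cl_idealMod_mul (I J : Y.IdealSheafData) (hJ : PicF.IsInvertible (ClSub.idealMod J)) :
    PicF.cl (ClSub.idealMod (I * J)) = PicF.cl (ClSub.idealMod I) * PicF.cl (ClSub.idealMod J) :=
  (cl_eq_of_iso (mulIso I J hJ)).symm

theorem cl_idealMod_top : PicF.cl (ClSub.idealMod (⊤ : Y.IdealSheafData)) = 1 :=
  cl_eq_of_iso idealModTopIso

theorem cl_idealMod_pow (I : Y.IdealSheafData) (hI : PicF.IsInvertible (ClSub.idealMod I)) (n : ℕ) :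
    PicF.cl (ClSub.idealMod (I ^ n)) = PicF.cl (ClSub.idealMod I) ^ n := by
  induction n with
  | zero =>
    rw [pow_zero, pow_zero]
    exact cl_idealMod_top
  | succ n ih =>
    rw [pow_succ, cl_idealMod_mul _ _ hI, ih, pow_succ]

theorem isInvertible_idealMod_mul (I J : Y.IdealSheafData) (hI : PicF.IsInvertible (ClSub.idealMod I))
    (hJ : PicF.IsInvertible (ClSub.idealMod J)) : PicF.IsInvertible (ClSub.idealMod (I * J)) :=
  Groth.Agent.Lib.Helper23.AmpleIso.isInvertible_of_iso (mulIso I J hJ)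
    (Groth.Agent.Lib.Helper23.SecTw.isInvertible_tensorMod hI hJ)

theorem isInvertible_and_cl_idealMod_prod_pow {ι : Type*} [DecidableEq ι] (s : Finset ι)
    (I : ι → Y.IdealSheafData) (hI : ∀ i, PicF.IsInvertible (ClSub.idealMod (I i))) (a : ι → ℕ) :
    PicF.IsInvertible (ClSub.idealMod (∏ i ∈ s, I i ^ a i)) ∧
    PicF.cl (ClSub.idealMod (∏ i ∈ s, I i ^ a i)) = ∏ i ∈ s, PicF.cl (ClSub.idealMod (I i)) ^ a i := by
  induction s using Finset.induction_on with
  | empty =>
    rw [Finset.prod_empty, Finset.prod_empty]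
    exact ⟨Groth.Agent.Lib.Helper23.AmpleIso.isInvertible_of_iso idealModTopIso.symm
      (Groth.Agent.Lib.Helper23.TensorUnit.isInvertible_structureModule _), cl_idealMod_top⟩
  | insert i s hi ih =>
    rw [Finset.prod_insert hi, Finset.prod_insert hi]
    have h1 := isInvertible_idealMod_pow (I i) (hI i) (a i)
    refine ⟨isInvertible_idealMod_mul _ _ h1 ih.1, ?_⟩
    rw [cl_idealMod_mul _ _ ih.1, cl_idealMod_pow _ (hI i), ih.2]

/-- if `L j` is inverse to `M j` for all `j`, then `∏ L_j^{a_j}` is inverse to `∏ M_j^{a_j}` -/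
theorem prod_pow_mul_prod_pow_eq_one {ι : Type*} (s : Finset ι) (l m : ι → PicF.Cl Y)
    (h : ∀ j, l j * m j = 1) (a : ι → ℕ) :
    (∏ j ∈ s, l j ^ a j) * (∏ j ∈ s, m j ^ a j) = 1 := by
  rw [← Finset.prod_mul_distrib]
  refine Finset.prod_eq_one fun j _ => ?_
  rw [← mul_pow, h j, one_pow]

/-- cancellation by a class having an inverse -/
theorem eq_of_mul_eq_mul_of_mul_eq_one {x y z w : PicF.Cl Y} (hz : z * w = 1) (h : x * z = y * z) : x = y := by
  have := congrArg (· * w) h
  simpa [mul_assoc, hz] using this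

/-- two inverses of the same class coincide -/
theorem eq_of_mul_eq_one_of_mul_eq_one {x y z : PicF.Cl Y} (hx : x * z = 1) (hy : y * z = 1) : x = y := by
  calc x = x * (y * z) := by rw [hy, mul_one]
    _ = y * (x * z) := by rw [← mul_assoc, mul_comm x y, mul_assoc]
    _ = y := by rw [hx, mul_one]

end Groth.Agent.Lib.T2H9.ClMonoid
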