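import Mathlib
import Groth.Prelude.Def_FDesc
import Groth.Agent.Lib.Helper12GeomReduced
import Groth.Agent.Lib.Helper10RedInd

/-!
# Closed subsets defined over the base field (helper9, S4682)
-/

set_option autoImplicit false
set_option linter.style.haveILetI false
set_option linter.unusedSectionVars false
universe u
open CategoryTheory CategoryTheory.Limits AlgebraicGeometry TopologicalSpace

namespace Groth.Agent.Lib.T2H9.ClosedDesc

open Scheme.IdealSheafData

/-- the pullback of the vanishing ideal sheaf of a closed subset along the projection of a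
geometrically reduced base field extension is the vanishing ideal sheaf of the preimage -/
theorem comap_vanishingIdeal {K' K : Type u} [Field K'] [Field K] [Algebra K' K]
    {Y : Scheme.{u}} (fY : Y ⟶ Spec (CommRingCat.of K'))
    [GeometricallyReduced (Spec.map (CommRingCat.ofHom (algebraMap K' K)))]
    (T' : Closeds ↥Y) :
    (vanishingIdeal T').comap (FBase.bcπ fY K) =
      vanishingIdeal (T'.preimage (FBase.bcπ fY K).continuous) := by
  set q : Spec (CommRingCat.of K) ⟶ Spec (CommRingCat.of K') :=
    Spec.map (CommRingCat.ofHom (algebraMap K' K)) with hq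
  set g : FBase.bc fY K ⟶ Y := FBase.bcπ fY K with hg
  set J := vanishingIdeal T' with hJ
  haveI : AlgebraicGeometry.IsReduced J.subscheme :=
    Groth.Agent.Lib.Helper10.RedInd.isReduced_subscheme_vanishingIdeal T'
  -- the pullback is reduced
  haveI h1 : AlgebraicGeometry.IsReduced (pullback q (J.subschemeι ≫ fY)) :=
    Groth.Agent.Lib.Helper12.GR.isReduced_pullback q (J.subschemeι ≫ fY)
  have e : pullback g J.subschemeι ≅ pullback q (J.subschemeι ≫ fY) :=
    pullbackSymmetry _ _ ≪≫ pullbackRightPullbackFstIso fY q J.subschemeι ≪≫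
      pullbackSymmetry _ _
  haveI h2 : AlgebraicGeometry.IsReduced (pullback g J.subschemeι) :=
    isReduced_of_isOpenImmersion e.hom
  unfold Scheme.IdealSheafData.comap
  rw [Groth.Agent.Lib.Helper10.RedInd.ker_eq_vanishingIdeal_of_isReduced]
  congr 1
  ext x
  change x ∈ closure (Set.range (pullback.fst g J.subschemeι)) ↔ g x ∈ (T' : Set Y)
  rw [Scheme.Pullback.range_fst, Scheme.IdealSheafData.range_subschemeι,
    ((J.support.isClosed).preimage g.continuous).closure_eq, hJ]
  rw [Set.mem_preimage, Scheme.IdealSheafData.coe_support_vanishingIdeal]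

theorem exists_preimage_eq_iff {K' K : Type u} [Field K'] [Field K] [Algebra K' K]
    {Y : Scheme.{u}} (fY : Y ⟶ Spec (CommRingCat.of K'))
    [GeometricallyReduced (Spec.map (CommRingCat.ofHom (algebraMap K' K)))]
    (T : Closeds ↥(FBase.bc fY K)) :
    (∃ T' : Closeds ↥Y, (T : Set ↥(FBase.bc fY K)) = ⇑(FBase.bcπ fY K) ⁻¹' (T' : Set ↥Y)) ↔
      ∃ J : Y.IdealSheafData, J.comap (FBase.bcπ fY K) = vanishingIdeal T := by
  constructor
  · rintro ⟨T', hT'⟩
    refine ⟨vanishingIdeal T', ?_⟩
    rw [comap_vanishingIdeal]
    congr 1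
    exact Closeds.ext hT'.symm
  · rintro ⟨J, hJ⟩
    refine ⟨J.support, ?_⟩
    have h1 := congrArg (fun I : (FBase.bc fY K).IdealSheafData =>
      ((I.support : Closeds ↥(FBase.bc fY K)) : Set ↥(FBase.bc fY K))) hJ
    simp only [Scheme.IdealSheafData.support_comap,
      Scheme.IdealSheafData.coe_support_vanishingIdeal] at h1
    exact h1.symm

end Groth.Agent.Lib.T2H9.ClosedDesc
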