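import Groth.Agent.Lib.T2H9ArInterB
import Groth.Agent.Lib.T2H5HHLes
set_option backward.isDefEq.respectTransparency.types false

set_option autoImplicit false
set_option linter.style.haveILetI false
set_option linter.unusedSectionVars false
universe u

open AlgebraicGeometry CategoryTheory Limits TopologicalSpace Opposite Abelian

namespace Groth.Agent.Lib.T2H9.CohFlat

open Groth.Agent.Lib.Helper23.SecTw Groth.Agent.Lib.Helper23.GenLocus Groth.Agent.Lib.Helper6
  Groth.Agent.Lib.T2H4.AmpleCartier Groth.Agent.Lib.T2H9.IdealProd Groth.Agent.Lib.T2H9.ArInterA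
  Groth.Agent.Lib.T2H9.ArInterB Groth.Agent.Lib.Helper23.QCohLocal

section principal

variable {X : Scheme.{u}}

/-- explicit form of `nonempty_idealMod_iso_of_span`: the trivialisation is multiplication by `t`. -/
theorem exists_isIso_mul_of_span (I : X.IdealSheafData) (t : Γ(X, ⊤))
    (hspan : ∀ V : X.affineOpens, I.ideal V = Ideal.span {resf (le_top : V.1 ≤ ⊤) t})
    (hreg : ∀ V : X.affineOpens, resf (le_top : V.1 ≤ ⊤) t ∈ nonZeroDivisors Γ(X, V.1)) :
    ∃ φ : Coh.structureModule X ⟶ ClSub.idealMod I, IsIso φ ∧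
      ∀ (V : X.Opens) (r : Γ(X, V)), ιf I V (φ.app V (toS V r)) = r * resf (le_top : V ≤ ⊤) t := by
  haveI := Groth.Agent.Lib.T2H6.AmpleCrit.isQuasicoherent_idealMod I
  haveI : (Coh.structureModule X).IsQuasicoherent :=
    Groth.Agent.Lib.Helper23.Serre.isQuasicoherent_structureModule' X
  have h0 : (ClSub.toSubscheme I).app ⊤ (toS ⊤ t) = 0 := by
    refine toSubscheme_app_eq_zero_of_forall I ⊤ t fun V hV => ?_
    rw [hspan V]
    exact Ideal.mem_span_singleton_self _
  obtain ⟨a, ha⟩ : ∃ a : Γ(ClSub.idealMod I, ⊤), ιf I ⊤ a = t :=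
    ⟨OmegaSh.kerLift (ClSub.toSubscheme I) ⊤ (toS ⊤ t) h0,
      congrArg (ofS ⊤) (OmegaSh.ι_kerLift (ClSub.toSubscheme I) ⊤ (toS ⊤ t) h0)⟩
  let φ : Coh.structureModule X ⟶ ClSub.idealMod I := secHom (ClSub.idealMod I) a
  have hφ : ∀ (V : X.Opens) (r : Γ(X, V)), ιf I V (φ.app V (toS V r)) = r * resf (le_top : V ≤ ⊤) t := by
    intro V r
    rw [app_toS, sv_secHom, ιf_smul, ιf_res, ha]
  have hiso : IsIso φ := by
    refine Groth.Agent.Lib.T2H5.IdealMul.isIso_of_bijective_app φ fun V => ⟨?_, ?_⟩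
    · intro r r' hrr
      have h1 : ofS V.1 r * resf (le_top : V.1 ≤ ⊤) t = ofS V.1 r' * resf (le_top : V.1 ≤ ⊤) t := by
        rw [← hφ, ← hφ]
        exact congrArg (ιf I V.1) hrr
      exact (mul_cancel_right_mem_nonZeroDivisors (hreg V)).mp h1
    · intro b
      have hb := ιf_mem_ideal I V b
      rw [hspan V] at hb
      obtain ⟨r, hr⟩ := Ideal.mem_span_singleton'.mp hb
      refine ⟨toS V.1 r, ιf_injective I V.1 ?_⟩
      rw [hφ, hr]
  exact ⟨φ, hiso, hφ⟩

/-- the composite `O → I → O` is multiplication by `t` on the underlying abelian sheaves. -/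
theorem toSheaf_map_comp_eq_smulAb (I : X.IdealSheafData) (t : Γ(X, ⊤))
    (φ : Coh.structureModule X ⟶ ClSub.idealMod I)
    (hφ : ∀ (V : X.Opens) (r : Γ(X, V)), ιf I V (φ.app V (toS V r)) = r * resf (le_top : V ≤ ⊤) t) :
    (SheafOfModules.toSheaf X.ringCatSheaf).map (φ ≫ ClSub.idealModι I) =
      Coh.smulAb (Coh.structureModule X) t := by
  ext U m
  rw [Coh.smulAb_app]
  have := hφ U.unop m
  rw [mul_comm] at this
  exact this

end principal

section core

variable {X : Scheme.{u}}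

/-- the homological core: for `0 → I → O → O/I → 0` with `I ≅ O` via `φ`, `H⁰(O) → H⁰(O/I)` is onto iff
`H¹(φ ≫ ι)` is injective. -/
theorem surjective_iff_injective (I : X.IdealSheafData)
    (φ : Coh.structureModule X ⟶ ClSub.idealMod I) [hφiso : CategoryTheory.IsIso φ] :
    Function.Surjective (Sheaf.H.map ((toAbF X).map
      (ClSub.toSubscheme I)) 0) ↔
    ∀ x : Coh.HH X (Coh.structureModule X) 1,
      Sheaf.H.map ((toAbF X).map (φ ≫ ClSub.idealModι I)) 1 x = 0 →
        x = 0 := by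
  have hS := Groth.Agent.Lib.T2H6.AmpleCrit.idealSC_shortExact I
  set ψ : ClSub.idealMod I ⟶ Coh.structureModule X := inv φ with hψ
  have hψ1 : ψ ≫ φ = 𝟙 _ := IsIso.inv_hom_id φ
  have hψ2 : φ ≫ ψ = 𝟙 _ := IsIso.hom_inv_id φ
  have hS' := shortExact_toAbF _ hS
  have hφinv : ∀ y : Coh.HH X (ClSub.idealMod I) 1,
      Sheaf.H.map ((toAbF X).map φ) 1
        (Sheaf.H.map ((toAbF X).map ψ) 1 y) = y := by
    intro y
    rw [← Sheaf.H.map_comp_apply, ← CategoryTheory.Functor.map_comp, hψ1,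
      CategoryTheory.Functor.map_id]
    exact Sheaf.H.map_id_apply _
  have hφinv' : ∀ x : Coh.HH X (Coh.structureModule X) 1,
      Sheaf.H.map ((toAbF X).map ψ) 1
        (Sheaf.H.map ((toAbF X).map φ) 1 x) = x := by
    intro x
    rw [← Sheaf.H.map_comp_apply, ← CategoryTheory.Functor.map_comp, hψ2,
      CategoryTheory.Functor.map_id]
    exact Sheaf.H.map_id_apply _
  have hcomp : ∀ x : Coh.HH X (Coh.structureModule X) 1,
      Sheaf.H.map ((toAbF X).map (φ ≫ ClSub.idealModι I)) 1 x =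
      Sheaf.H.map ((toAbF X).map (ClSub.idealModι I)) 1
        (Sheaf.H.map ((toAbF X).map φ) 1 x) := by
    intro x
    rw [← Sheaf.H.map_comp_apply, ← CategoryTheory.Functor.map_comp]
  constructor
  · intro hsurj x hx
    rw [hcomp] at hx
    set y := Sheaf.H.map ((toAbF X).map φ) 1 x with hy
    obtain ⟨z, hz⟩ := Ext.covariant_sequence_exact₁ _ hS' y hx (n₀ := 0) rfl
    obtain ⟨w, rfl⟩ := hsurj z
    have hy0 : y = 0 := by
      rw [← hz]
      change (w.comp (Ext.mk₀ ((toAbF X).map (ClSub.toSubscheme I))) (add_zero 0)).comp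
        hS'.extClass rfl = 0
      exact (Ext.comp_assoc_of_second_deg_zero w (Ext.mk₀ ((toAbF X).map (ClSub.toSubscheme I)))
        hS'.extClass rfl).trans
        ((congrArg (fun q => w.comp q rfl) hS'.comp_extClass).trans (Ext.comp_zero w _ _ _ _))
    have hxy : x = Sheaf.H.map ((toAbF X).map ψ) 1 y := (hφinv' x).symm
    rw [hxy, hy0]
    exact map_zero _
  · intro hinj z
    set y : Coh.HH X (ClSub.idealMod I) 1 := z.comp hS'.extClass rfl with hy
    have hy1 : Sheaf.H.map ((toAbF X).map (ClSub.idealModι I)) 1 y = 0 := by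
      change (z.comp hS'.extClass rfl).comp (Ext.mk₀ ((toAbF X).map (ClSub.idealModι I))) (add_zero 1) = 0
      rw [Ext.comp_assoc_of_third_deg_zero]
      exact (congrArg (fun q => z.comp q rfl) hS'.extClass_comp).trans (Ext.comp_zero z _ _ _ _)
    have hx := hinj (Sheaf.H.map ((toAbF X).map ψ) 1 y)
      (by rw [hcomp, hφinv, hy1])
    have hy0 : y = 0 := by
      rw [← hφinv y, hx]
      exact map_zero _
    obtain ⟨w, hw⟩ := Ext.covariant_sequence_exact₃ _ hS' z rfl hy0
    exact ⟨w, hw⟩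

end core

section main

variable (R : Type u) [CommRing R] [IsDomain R] [IsDiscreteValuationRing R]

theorem pow_smul_eq_zero {M : Type*} [AddCommGroup M] [Module R M] (ϖ : R)
    (h : ∀ x : M, ϖ • x = 0 → x = 0) (n : ℕ) (x : M) (hx : ϖ ^ n • x = 0) : x = 0 := by
  induction n generalizing x with
  | zero => simpa using hx
  | succ n ih =>
    rw [pow_succ, mul_smul] at hx
    exact h x (ih _ hx)

/-- cohomological flatness in degree 0 over a DVR ⟺ `H¹(O)` torsion-free -/
theorem surjective_iff_noZeroSMulDivisors (X : Scheme.{u}) [X.Over (Spec (CommRingCat.of R))]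
    [Flat (X ↘ Spec (CommRingCat.of R))] :
    Function.Surjective (Sheaf.H.map ((SheafOfModules.toSheaf X.ringCatSheaf).map
      (ClSub.toSubscheme (Models.specialFibreIdeal R (Over.mk (X ↘ Spec (CommRingCat.of R)))))) 0) ↔
      NoZeroSMulDivisors R (Coh.HH X (Coh.structureModule X) 1) := by
  obtain ⟨ϖ, hϖ⟩ := IsDiscreteValuationRing.exists_irreducible R
  set Xo : Over (Spec (CommRingCat.of R)) := Over.mk (X ↘ Spec (CommRingCat.of R)) with hXo
  haveI : Flat Xo.hom := ‹Flat (X ↘ Spec (CommRingCat.of R))›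
  set t : Γ(X, ⊤) := Groth.Agent.Lib.T2H4.FibreComp.secHom R Xo ⊤ ϖ with ht
  obtain ⟨φ, hiso, hφ⟩ := exists_isIso_mul_of_span (X := X) (Models.specialFibreIdeal R Xo) t
    (fun V => by
      have e : resf (le_top : V.1 ≤ ⊤) t = Groth.Agent.Lib.T2H4.FibreComp.secHom R Xo V.1 ϖ :=
        resf_secHom (X := Xo) V.1 ϖ
      rw [e]
      exact Groth.Agent.Lib.T2H4.FibreComp.specialFibreIdeal_ideal_eq_span R Xo ϖ hϖ V)
    (fun V => by
      have e : resf (le_top : V.1 ≤ ⊤) t = Groth.Agent.Lib.T2H4.FibreComp.secHom R Xo V.1 ϖ :=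
        resf_secHom (X := Xo) V.1 ϖ
      rw [e]
      exact Groth.Agent.Lib.T2H4.FibreComp.secHom_mem_nonZeroDivisors R Xo V ϖ hϖ.ne_zero)
  have hc := toSheaf_map_comp_eq_smulAb (Models.specialFibreIdeal R Xo) t φ hφ
  have htg : t = Coh.toGlobal (X ↘ Spec (CommRingCat.of R)) ϖ := by
    rw [ht]
    unfold Groth.Agent.Lib.T2H4.FibreComp.secHom Coh.toGlobal
    simp only [RingHom.comp_apply]
    congr 1
    have : Xo.hom.appLE ⊤ ⊤ le_top = (X ↘ Spec (CommRingCat.of R)).appTop := by
      rw [Scheme.Hom.appLE]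
      erw [CategoryTheory.Functor.map_id, Category.comp_id]
      rfl
    rw [this]
  have hsm : ∀ x : Coh.HH X (Coh.structureModule X) 1,
      Sheaf.H.map ((toAbF X).map (φ ≫ ClSub.idealModι (Models.specialFibreIdeal R Xo))) 1 x = ϖ • x := by
    intro x
    have h1 := Groth.Agent.Lib.T2H5.HHLes.smul_HH_eq R (Coh.structureModule X) 1 ϖ x
    rw [← htg] at h1
    rw [h1]
    exact congrArg (fun q => Sheaf.H.map q 1 x) hc
  refine (surjective_iff_injective (Models.specialFibreIdeal R Xo) φ).trans ⟨fun h => ?_, fun h x hx => ?_⟩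
  · have h' : ∀ x : Coh.HH X (Coh.structureModule X) 1, ϖ • x = 0 → x = 0 := fun x hx =>
      h x ((hsm x).trans hx)
    refine ⟨fun {r x} hrx => ?_⟩
    by_cases hr : r = 0
    · exact Or.inl hr
    · right
      obtain ⟨n, u, rfl⟩ := IsDiscreteValuationRing.eq_unit_mul_pow_irreducible hr hϖ
      rw [mul_smul] at hrx
      have h2 : ϖ ^ n • x = 0 := by
        have h3 := congrArg (fun y => (↑u⁻¹ : R) • y) hrx
        simp only [smul_smul, smul_zero] at h3
        rw [← mul_assoc, Units.inv_mul, one_mul] at h3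
        exact h3
      exact pow_smul_eq_zero R ϖ h' n x h2
  · have hx' : ϖ • x = 0 := (hsm x).symm.trans hx
    exact (h.eq_zero_or_eq_zero_of_smul_eq_zero hx').resolve_left hϖ.ne_zero

end main

end Groth.Agent.Lib.T2H9.CohFlat
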