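import Mathlib
import Groth.Prelude.Def_EtRam
import Groth.Agent.Lib.T2H9TotRam

set_option autoImplicit false
set_option linter.style.haveILetI false
set_option linter.unusedSectionVars false
universe u

namespace Groth.Agent.Lib.T2H9.CommonExt

open IsLocalRing TensorProduct Groth.Agent.Lib.T2H9.RamTower Groth.Agent.Lib.T2H9.TotRam

section basic

variable {M : Type u} [Field M]

/-- a valuation subring dominated by another one is equal to it -/
theorem eq_of_le_of_dominates (V V' : ValuationSubring M) (h1 : ∀ x ∈ V, x ∈ V')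
    (h2 : ∀ x : M, V.valuation x < 1 → V'.valuation x < 1) : V = V' := by
  apply le_antisymm
  · exact h1
  · intro x hx
    by_contra hxV
    have hx0 : x ≠ 0 := fun h => hxV (h ▸ V.zero_mem)
    have h3 : 1 < V.valuation x := by
      rw [← not_le, V.valuation_le_one_iff]
      exact hxV
    have h4 : V.valuation x⁻¹ < 1 := by
      rw [map_inv₀]
      exact inv_lt_one_of_one_lt₀ h3
    have h5 := h2 _ h4
    rw [map_inv₀] at h5
    have h6 : V'.valuation x ≤ 1 := (V'.valuation_le_one_iff x).mpr hx
    have hv0 : V'.valuation x ≠ 0 := (V'.valuation.ne_zero_iff).mpr hx0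
    have h7 : 1 ≤ (V'.valuation x)⁻¹ := (one_le_inv₀ (zero_lt_iff.mpr hv0)).mpr h6
    exact absurd h5 (not_lt.mpr h7)

end basic

section primes

variable (B C W : Type u) [CommRing B] [IsLocalRing B]
  [CommRing C] [IsLocalRing C] [Algebra B C] [IsLocalHom (algebraMap B C)]
  [CommRing W] [IsLocalRing W] [Algebra B W] [IsLocalHom (algebraMap B W)]

/-- there is a prime of the tensor product of two local algebras lying over both maximal ideals -/
theorem exists_prime_over_both :
    ∃ Q : Ideal (W ⊗[B] C), Q.IsPrime ∧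
      Q.comap (algebraMap W (W ⊗[B] C)) = maximalIdeal W ∧
      Q.comap (Algebra.TensorProduct.includeRight : C →ₐ[B] W ⊗[B] C).toRingHom =
        maximalIdeal C := by
  haveI : Nontrivial (ResidueField W ⊗[ResidueField B] ResidueField C) :=
    Algebra.TensorProduct.nontrivial_of_algebraMap_injective_of_isDomain _ _ _
      (algebraMap (ResidueField B) (ResidueField W)).injective
      (algebraMap (ResidueField B) (ResidueField C)).injective
  obtain ⟨𝔪, h𝔪⟩ := Ideal.exists_maximal (ResidueField W ⊗[ResidueField B] ResidueField C)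
  letI : Field ((ResidueField W ⊗[ResidueField B] ResidueField C) ⧸ 𝔪) := Ideal.Quotient.field 𝔪
  let eW : ResidueField W →+* (ResidueField W ⊗[ResidueField B] ResidueField C) ⧸ 𝔪 :=
    (Ideal.Quotient.mk 𝔪).comp (algebraMap (ResidueField W) _)
  let eC : ResidueField C →+* (ResidueField W ⊗[ResidueField B] ResidueField C) ⧸ 𝔪 :=
    (Ideal.Quotient.mk 𝔪).comp
      (Algebra.TensorProduct.includeRight :
        ResidueField C →ₐ[ResidueField B] ResidueField W ⊗[ResidueField B] ResidueField C).toRingHom
  let gW : W →+* (ResidueField W ⊗[ResidueField B] ResidueField C) ⧸ 𝔪 := eW.comp (residue W)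
  let gC : C →+* (ResidueField W ⊗[ResidueField B] ResidueField C) ⧸ 𝔪 := eC.comp (residue C)
  have hcomm : ∀ b : B, gW (algebraMap B W b) = gC (algebraMap B C b) := by
    intro b
    change Ideal.Quotient.mk 𝔪 (algebraMap (ResidueField W) _ (residue W (algebraMap B W b))) =
      Ideal.Quotient.mk 𝔪 ((Algebra.TensorProduct.includeRight :
        ResidueField C →ₐ[ResidueField B] ResidueField W ⊗[ResidueField B] ResidueField C)
          (residue C (algebraMap B C b)))
    have h1 : residue W (algebraMap B W b) =
        algebraMap (ResidueField B) (ResidueField W) (residue B b) := rfl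
    have h2 : residue C (algebraMap B C b) =
        algebraMap (ResidueField B) (ResidueField C) (residue B b) := rfl
    rw [h1, h2, AlgHom.commutes, ← IsScalarTower.algebraMap_apply]
  letI : Algebra B ((ResidueField W ⊗[ResidueField B] ResidueField C) ⧸ 𝔪) :=
    (gW.comp (algebraMap B W)).toAlgebra
  let gW' : W →ₐ[B] (ResidueField W ⊗[ResidueField B] ResidueField C) ⧸ 𝔪 :=
    { gW with commutes' := fun b => rfl }
  let gC' : C →ₐ[B] (ResidueField W ⊗[ResidueField B] ResidueField C) ⧸ 𝔪 :=
    { gC with commutes' := fun b => (hcomm b).symm }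
  let ψ := Algebra.TensorProduct.productMap gW' gC'
  refine ⟨RingHom.ker ψ.toRingHom, RingHom.ker_isPrime _, ?_, ?_⟩
  · ext x
    rw [Ideal.mem_comap, RingHom.mem_ker]
    have h1 : ψ.toRingHom (algebraMap W (W ⊗[B] C) x) = eW (residue W x) := by
      change ψ (x ⊗ₜ[B] (1 : C)) = _
      rw [Algebra.TensorProduct.productMap_apply_tmul, map_one, mul_one]
      rfl
    rw [h1, map_eq_zero, residue_eq_zero_iff]
  · ext x
    rw [Ideal.mem_comap, RingHom.mem_ker]
    have h1 : ψ.toRingHom ((Algebra.TensorProduct.includeRight : C →ₐ[B] W ⊗[B] C).toRingHom x) =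
        eC (residue C x) := by
      change ψ ((1 : W) ⊗ₜ[B] x) = _
      rw [Algebra.TensorProduct.productMap_apply_tmul, map_one, one_mul]
      rfl
    rw [h1, map_eq_zero, residue_eq_zero_iff]

end primes

section construction

variable (B C L M₀ M : Type u) [CommRing B] [IsDomain B] [IsDiscreteValuationRing B]
  [CommRing C] [IsDomain C] [IsDiscreteValuationRing C] [Algebra B C] [IsLocalHom (algebraMap B C)]
  [Field L] [Field M₀] [Field M] [Algebra B L] [IsFractionRing B L] [Algebra C M₀]
  [IsFractionRing C M₀] [Algebra L M₀] [Algebra B M₀] [IsScalarTower B C M₀] [IsScalarTower B L M₀]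
  [Algebra L M]

/-- two valuation rings dominating a discrete valuation ring (one of them discrete) have a
common extension to a compositum of their fraction fields -/
theorem exists_common_extension (hinj : Function.Injective (algebraMap B C))
    (W : ValuationSubring M)
    (hW : EtRam.Dominates B ((algebraMap L M).comp (algebraMap B L)) W) :
    ∃ (M' : Type u) (_ : Field M') (_ : Algebra M₀ M') (_ : Algebra M M') (W' : ValuationSubring M'),
      (∀ l : L, algebraMap M₀ M' (algebraMap L M₀ l) = algebraMap M M' (algebraMap L M l)) ∧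
      EtRam.Dominates C ((algebraMap M₀ M').comp (algebraMap C M₀)) W' ∧
      W'.comap (algebraMap M M') = W ∧
      Subfield.closure (Set.range (algebraMap M₀ M') ∪ Set.range (algebraMap M M')) = ⊤ := by
  classical
  letI : Algebra B W := (RingHom.codRestrict ((algebraMap L M).comp (algebraMap B L)) W hW.1).toAlgebra
  haveI : IsLocalHom (algebraMap B W) := isLocalHom_of_dominates _ W hW
  have hinjBW : Function.Injective (algebraMap B W) := by
    intro a b hab
    have h1 : algebraMap L M (algebraMap B L a) = algebraMap L M (algebraMap B L b) :=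
      congrArg Subtype.val hab
    exact IsFractionRing.injective B L ((algebraMap L M).injective h1)
  haveI : Module.IsTorsionFree B C := Module.isTorsionFree_iff_algebraMap_injective.mpr hinj
  haveI : Module.Flat B C := inferInstance
  obtain ⟨Q, hQp, hQW, hQC⟩ := exists_prime_over_both B C W
  haveI : Q.LiesOver (maximalIdeal W) := ⟨hQW.symm⟩
  haveI : (⊥ : Ideal W).IsPrime := Ideal.isPrime_bot
  obtain ⟨Q', hQ'le, hQ'p, hQ'lies⟩ :=
    Ideal.exists_ideal_le_liesOver_of_le (p := (⊥ : Ideal W)) (q := maximalIdeal W) Q bot_le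
  have hQ'W : Q'.comap (algebraMap W (W ⊗[B] C)) = ⊥ := hQ'lies.over.symm
  -- the field `M'`
  let φ : (W ⊗[B] C) →+* FractionRing ((W ⊗[B] C) ⧸ Q') :=
    (algebraMap ((W ⊗[B] C) ⧸ Q') (FractionRing ((W ⊗[B] C) ⧸ Q'))).comp (Ideal.Quotient.mk Q')
  have hφker : ∀ t, φ t = 0 ↔ t ∈ Q' := by
    intro t
    change algebraMap ((W ⊗[B] C) ⧸ Q') (FractionRing ((W ⊗[B] C) ⧸ Q')) (Ideal.Quotient.mk Q' t) = 0 ↔ _
    rw [map_eq_zero_iff _ (IsFractionRing.injective _ _), Ideal.Quotient.eq_zero_iff_mem]
  let jW : W →+* FractionRing ((W ⊗[B] C) ⧸ Q') := φ.comp (algebraMap W (W ⊗[B] C))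
  let iC : C →+* FractionRing ((W ⊗[B] C) ⧸ Q') :=
    φ.comp (Algebra.TensorProduct.includeRight : C →ₐ[B] W ⊗[B] C).toRingHom
  have hjWinj : Function.Injective jW := by
    rw [injective_iff_map_eq_zero]
    intro w hw
    have h1 : w ∈ Q'.comap (algebraMap W (W ⊗[B] C)) := (hφker _).mp hw
    rwa [hQ'W, Ideal.mem_bot] at h1
  have hcommB : ∀ b : B, jW (algebraMap B W b) = iC (algebraMap B C b) := by
    intro b
    change φ (algebraMap W (W ⊗[B] C) (algebraMap B W b)) =
      φ ((Algebra.TensorProduct.includeRight : C →ₐ[B] W ⊗[B] C) (algebraMap B C b))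
    rw [AlgHom.commutes, ← IsScalarTower.algebraMap_apply]
  have hiCinj : Function.Injective iC := by
    rw [injective_iff_map_eq_zero]
    intro c hc
    by_contra hc0
    -- the kernel is a nonzero prime, hence the maximal ideal
    have hker : RingHom.ker iC = maximalIdeal C := by
      haveI : (RingHom.ker iC).IsPrime := RingHom.ker_isPrime iC
      have hne : RingHom.ker iC ≠ ⊥ := fun h => hc0 (by
        have : c ∈ RingHom.ker iC := hc
        rwa [h, Ideal.mem_bot] at this)
      haveI : (RingHom.ker iC).IsMaximal := Ideal.IsPrime.isMaximal inferInstance hne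
      exact IsLocalRing.eq_maximalIdeal inferInstance
    obtain ⟨β, hβ⟩ := IsDiscreteValuationRing.exists_irreducible B
    have hβm : algebraMap B C β ∈ maximalIdeal C := by
      rw [mem_maximalIdeal, mem_nonunits_iff]
      intro hu
      exact hβ.not_isUnit (isUnit_of_map_unit (algebraMap B C) β hu)
    rw [← hker, RingHom.mem_ker, ← hcommB] at hβm
    exact hβ.ne_zero (hinjBW ((hjWinj (hβm.trans (map_zero jW).symm)).trans (map_zero _).symm))
  let iM₀ : M₀ →+* FractionRing ((W ⊗[B] C) ⧸ Q') := IsFractionRing.lift hiCinj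
  let jM : M →+* FractionRing ((W ⊗[B] C) ⧸ Q') := IsFractionRing.lift (A := W) (K := M) hjWinj
  letI : Algebra M₀ (FractionRing ((W ⊗[B] C) ⧸ Q')) := iM₀.toAlgebra
  letI : Algebra M (FractionRing ((W ⊗[B] C) ⧸ Q')) := jM.toAlgebra
  have hiM₀ : ∀ c : C, iM₀ (algebraMap C M₀ c) = iC c := IsFractionRing.lift_algebraMap hiCinj
  have hjM : ∀ w : W, jM (w : M) = jW w := IsFractionRing.lift_algebraMap hjWinj
  have hcompat : ∀ l : L, iM₀ (algebraMap L M₀ l) = jM (algebraMap L M l) := by
    have h1 : iM₀.comp (algebraMap L M₀) = jM.comp (algebraMap L M) := by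
      apply IsLocalization.ringHom_ext (nonZeroDivisors B)
      ext b
      simp only [RingHom.comp_apply]
      rw [← IsScalarTower.algebraMap_apply B L M₀, IsScalarTower.algebraMap_apply B C M₀, hiM₀,
        ← hcommB]
      exact (hjM (algebraMap B W b)).symm
    intro l
    exact RingHom.congr_fun h1 l
  -- the valuation ring
  have hunit : ∀ s : Q.primeCompl, IsUnit (φ s) := fun s => by
    rw [isUnit_iff_ne_zero, Ne, hφker]
    exact fun h => s.2 (hQ'le h)
  let f : Localization.AtPrime Q →+* FractionRing ((W ⊗[B] C) ⧸ Q') :=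
    IsLocalization.lift (M := Q.primeCompl) hunit
  obtain ⟨W', hW'mem, hW'loc⟩ := IsLocalRing.exists_factor_valuationRing f
  have hfφ : ∀ t, f (algebraMap _ (Localization.AtPrime Q) t) = φ t := fun t =>
    IsLocalization.lift_eq hunit t
  have hmem : ∀ t, φ t ∈ W' := fun t => by
    rw [← hfφ]
    exact hW'mem _
  have hval : ∀ t ∈ Q, W'.valuation (φ t) < 1 := by
    intro t ht
    have h1 : algebraMap _ (Localization.AtPrime Q) t ∈ maximalIdeal (Localization.AtPrime Q) :=
      (IsLocalization.AtPrime.to_map_mem_maximal_iff _ Q t).mpr ht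
    have h2 : (⟨f (algebraMap _ (Localization.AtPrime Q) t), hW'mem _⟩ : W') ∈
        maximalIdeal W' := by
      rw [mem_maximalIdeal, mem_nonunits_iff]
      intro hu
      rw [mem_maximalIdeal, mem_nonunits_iff] at h1
      exact h1 (hW'loc.map_nonunit _ hu)
    have h3 := (W'.valuation_lt_one_iff _).mp h2
    rw [← hfφ]
    exact h3
  refine ⟨FractionRing ((W ⊗[B] C) ⧸ Q'), inferInstance, inferInstance, inferInstance, W',
    hcompat, ⟨fun c => ?_, fun c hc => ?_⟩, ?_, ?_⟩
  · change iM₀ (algebraMap C M₀ c) ∈ W'
    rw [hiM₀]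
    exact hmem _
  · change W'.valuation (iM₀ (algebraMap C M₀ c)) < 1
    rw [hiM₀]
    apply hval
    rw [← hQC] at hc
    exact hc
  · symm
    apply eq_of_le_of_dominates
    · intro x hx
      change jM x ∈ W'
      rw [show x = ((⟨x, hx⟩ : W) : M) from rfl, hjM]
      exact hmem _
    · intro x hx
      have hxW : x ∈ W := (W.valuation_le_one_iff x).mp hx.le
      rw [valuation_comap_lt_one_iff]
      change W'.valuation (jM x) < 1
      rw [show x = ((⟨x, hxW⟩ : W) : M) from rfl, hjM]
      apply hval
      have h1 : (⟨x, hxW⟩ : W) ∈ maximalIdeal W := (W.valuation_lt_one_iff _).mpr hx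
      rw [← hQW] at h1
      exact h1
  · rw [eq_top_iff]
    intro x _
    have hφmem : ∀ t, φ t ∈ Subfield.closure
        (Set.range (algebraMap M₀ (FractionRing ((W ⊗[B] C) ⧸ Q'))) ∪
          Set.range (algebraMap M (FractionRing ((W ⊗[B] C) ⧸ Q')))) := by
      intro t
      induction t using TensorProduct.induction_on with
      | zero => rw [map_zero]; exact zero_mem _
      | tmul w c =>
        have h1 : (w ⊗ₜ[B] c : W ⊗[B] C) = algebraMap W (W ⊗[B] C) w *
            (Algebra.TensorProduct.includeRight : C →ₐ[B] W ⊗[B] C) c := by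
          change w ⊗ₜ[B] c = (w ⊗ₜ[B] (1 : C)) * ((1 : W) ⊗ₜ[B] c)
          rw [Algebra.TensorProduct.tmul_mul_tmul, mul_one, one_mul]
        rw [h1, map_mul]
        apply mul_mem
        · apply Subfield.subset_closure
          right
          exact ⟨(w : M), hjM w⟩
        · apply Subfield.subset_closure
          left
          exact ⟨algebraMap C M₀ c, hiM₀ c⟩
      | add a b ha hb => rw [map_add]; exact add_mem ha hb
    obtain ⟨d₁, d₂, _, rfl⟩ := IsFractionRing.div_surjective (A := (W ⊗[B] C) ⧸ Q') x
    obtain ⟨t₁, rfl⟩ := Ideal.Quotient.mk_surjective d₁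
    obtain ⟨t₂, rfl⟩ := Ideal.Quotient.mk_surjective d₂
    exact div_mem (hφmem t₁) (hφmem t₂)

end construction

section descend

/-- elements of the extension of an ideal of a valuation ring are multiples of a single image -/
theorem mem_map_of_valuationRing {V R : Type u} [CommRing V] [IsDomain V] [ValuationRing V]
    [CommRing R] (g : V →+* R) (I : Ideal V) (y : R) (hy : y ∈ I.map g) :
    ∃ a ∈ I, ∃ r : R, y = g a * r := by
  unfold Ideal.map at hy
  induction hy using Submodule.span_induction with
  | mem x hx =>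
    obtain ⟨a, ha, rfl⟩ := hx
    exact ⟨a, ha, 1, (mul_one _).symm⟩
  | zero => exact ⟨0, I.zero_mem, 0, by rw [mul_zero]⟩
  | add x y _ _ hx hy =>
    obtain ⟨a, ha, r, rfl⟩ := hx
    obtain ⟨a', ha', r', rfl⟩ := hy
    rcases ValuationRing.dvd_total a a' with ⟨c, rfl⟩ | ⟨c, rfl⟩
    · exact ⟨a, ha, r + g c * r', by rw [map_mul]; ring⟩
    · exact ⟨a', ha', g c * r + r', by rw [map_mul]; ring⟩
  | smul s x _ hx =>
    obtain ⟨a, ha, r, rfl⟩ := hx
    exact ⟨a, ha, s * r, by rw [smul_eq_mul]; ring⟩

variable {K₁ M M' : Type u} [Field K₁] [Field M] [Field M']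

/-- weak unramifiedness descends along a contraction of valuation rings -/
theorem weaklyUnramified_descend (W' : ValuationSubring M') (j : M →+* M') (f : K₁ →+* M) :
    (letI : Algebra (W'.comap (j.comp f)) W' := (EtRam.inclOfComap W' (j.comp f)).toAlgebra
     EtRam.IsWeaklyUnramified (W'.comap (j.comp f)) W') →
    (letI : Algebra ((W'.comap j).comap f) (W'.comap j) :=
      (EtRam.inclOfComap (W'.comap j) f).toAlgebra
     EtRam.IsWeaklyUnramified ((W'.comap j).comap f) (W'.comap j)) := by
  intro h
  letI : Algebra (W'.comap (j.comp f)) W' := (EtRam.inclOfComap W' (j.comp f)).toAlgebra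
  letI : Algebra ((W'.comap j).comap f) (W'.comap j) :=
    (EtRam.inclOfComap (W'.comap j) f).toAlgebra
  unfold EtRam.IsWeaklyUnramified at h ⊢
  apply le_antisymm
  · exact ((local_hom_TFAE (algebraMap ((W'.comap j).comap f) (W'.comap j))).out 0 2).mp
      (EtRam.isLocalHom_inclOfComap (W'.comap j) f)
  · intro x hx
    have hx1 : (W'.comap j).valuation (x : M) < 1 := ((W'.comap j).valuation_lt_one_iff x).mp hx
    rw [valuation_comap_lt_one_iff] at hx1
    have hy : (⟨j (x : M), x.2⟩ : W') ∈ maximalIdeal W' := (W'.valuation_lt_one_iff _).mpr hx1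
    rw [← h] at hy
    obtain ⟨a, ha, r, hr⟩ := mem_map_of_valuationRing _ _ _ hy
    have hr' : j (x : M) = j (f (a : K₁)) * (r : M') := congrArg Subtype.val hr
    have ha1 : (W'.comap (j.comp f)).valuation (a : K₁) < 1 :=
      ((W'.comap (j.comp f)).valuation_lt_one_iff a).mp ha
    rw [valuation_comap_lt_one_iff] at ha1
    have ha2 : ((W'.comap j).comap f).valuation (a : K₁) < 1 := by
      rw [valuation_comap_lt_one_iff, valuation_comap_lt_one_iff]
      exact ha1
    have haV : (a : K₁) ∈ (W'.comap j).comap f := a.2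
    have ha3 : (⟨(a : K₁), haV⟩ : (W'.comap j).comap f) ∈ maximalIdeal ((W'.comap j).comap f) :=
      (((W'.comap j).comap f).valuation_lt_one_iff _).mpr ha2
    by_cases hfa : f (a : K₁) = 0
    · have hx0 : (x : M) = 0 := by
        apply j.injective
        rw [hr', hfa, map_zero, zero_mul]
      have : x = 0 := Subtype.ext hx0
      rw [this]
      exact Ideal.zero_mem _
    · have hq : j ((x : M) / f (a : K₁)) = (r : M') := by
        rw [map_div₀, hr', mul_div_assoc, mul_comm, div_mul_cancel₀]
        rwa [Ne, map_eq_zero]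
      have hqW : (x : M) / f (a : K₁) ∈ W'.comap j := by
        change j _ ∈ W'
        rw [hq]
        exact r.2
      have hxeq : x = algebraMap ((W'.comap j).comap f) (W'.comap j) ⟨(a : K₁), haV⟩ *
          ⟨(x : M) / f (a : K₁), hqW⟩ := by
        apply Subtype.ext
        change (x : M) = f (a : K₁) * ((x : M) / f (a : K₁))
        rw [mul_div_cancel₀ _ hfa]
      rw [hxeq]
      exact Ideal.mul_mem_right _ _ (Ideal.mem_map_of_mem _ ha3)

/-- geometric reducedness of the residue field extension descends along a contraction -/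
theorem geomReduced_descend (W' : ValuationSubring M') (j : M →+* M') (f : K₁ →+* M) :
    @Algebra.IsGeometricallyReduced (ResidueField (W'.comap (j.comp f))) (ResidueField W') _ _
        (ResidueField.map (EtRam.inclOfComap W' (j.comp f))).toAlgebra →
    @Algebra.IsGeometricallyReduced (ResidueField ((W'.comap j).comap f))
        (ResidueField (W'.comap j)) _ _
        (ResidueField.map (EtRam.inclOfComap (W'.comap j) f)).toAlgebra := by
  intro h
  letI a1 : Algebra (ResidueField ((W'.comap j).comap f)) (ResidueField W') :=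
    (ResidueField.map (EtRam.inclOfComap W' (j.comp f))).toAlgebra
  letI a2 : Algebra (ResidueField ((W'.comap j).comap f)) (ResidueField (W'.comap j)) :=
    (ResidueField.map (EtRam.inclOfComap (W'.comap j) f)).toAlgebra
  let g : ResidueField (W'.comap j) →ₐ[ResidueField ((W'.comap j).comap f)] ResidueField W' :=
    { ResidueField.map (EtRam.inclOfComap W' j) with
      commutes' := by
        intro r
        obtain ⟨x, rfl⟩ := IsLocalRing.residue_surjective r
        rfl }
  haveI : Algebra.IsGeometricallyReduced (ResidueField ((W'.comap j).comap f))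
      (ResidueField W') := h
  exact Algebra.IsGeometricallyReduced.of_injective g g.injective

end descend

section main

variable (B C K L M₀ K₁ : Type u)
  [CommRing B] [IsDomain B] [IsDiscreteValuationRing B]
  [CommRing C] [IsDomain C] [IsDiscreteValuationRing C] [Algebra B C] [IsLocalHom (algebraMap B C)]
  [Field K] [Field L] [Field M₀] [Field K₁] [Algebra K L] [Algebra K M₀] [Algebra L M₀]
  [IsScalarTower K L M₀] [Algebra K K₁] [Algebra.IsAlgebraic K K₁]
  [Algebra B L] [IsFractionRing B L]
  [Algebra C M₀] [IsFractionRing C M₀] [Algebra B M₀]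
  [IsScalarTower B C M₀] [IsScalarTower B L M₀]

/-- local-extension properties that descend along contractions go down a tower -/
theorem forallLocalExt_descend (hinj : Function.Injective (algebraMap B C))
    (P : ∀ (M : Type u) [Field M], ValuationSubring M → (K₁ →+* M) → Prop)
    (hP : ∀ (M M' : Type u) [Field M] [Field M'] (W' : ValuationSubring M') (j : M →+* M')
      (f : K₁ →+* M), P M' W' (j.comp f) → P M (W'.comap j) f) :
    EtRam.ForallLocalExt C K M₀ K₁ P → EtRam.ForallLocalExt B K L K₁ P := by
  intro hC M _ _ _ _ _ _ hgen W hW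
  obtain ⟨M', _, _, _, W', hcompat, hW', hWeq, hclos⟩ :=
    exists_common_extension B C L M₀ M hinj W hW
  letI : Algebra K M' := ((algebraMap M₀ M').comp (algebraMap K M₀)).toAlgebra
  haveI : IsScalarTower K M₀ M' := IsScalarTower.of_algebraMap_eq (fun _ => rfl)
  letI : Algebra K₁ M' := ((algebraMap M M').comp (algebraMap K₁ M)).toAlgebra
  haveI : IsScalarTower K K₁ M' := by
    refine IsScalarTower.of_algebraMap_eq (fun k => ?_)
    change algebraMap M₀ M' (algebraMap K M₀ k) = algebraMap M M' (algebraMap K₁ M (algebraMap K K₁ k))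
    rw [IsScalarTower.algebraMap_apply K L M₀, hcompat, ← IsScalarTower.algebraMap_apply K L M,
      ← IsScalarTower.algebraMap_apply K K₁ M]
  have hgen' : Algebra.adjoin M₀ (Set.range (algebraMap K₁ M')) = ⊤ := by
    have halg : ∀ x ∈ Set.range (algebraMap K₁ M'), IsIntegral M₀ x := by
      rintro _ ⟨x, rfl⟩
      have h1 : IsIntegral K x := Algebra.IsIntegral.isIntegral x
      have h2 : IsIntegral K (algebraMap K₁ M' x) := h1.map (IsScalarTower.toAlgHom K K₁ M')
      exact h2.tower_top
    haveI hint : Algebra.IsIntegral M₀ (Algebra.adjoin M₀ (Set.range (algebraMap K₁ M'))) :=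
      Algebra.IsIntegral.adjoin halg
    have hMmem : ∀ m : M, algebraMap M M' m ∈
        Algebra.adjoin M₀ (Set.range (algebraMap K₁ M')) := by
      intro m
      have hm : m ∈ Algebra.adjoin L (Set.range (algebraMap K₁ M)) := hgen ▸ Algebra.mem_top
      induction hm using Algebra.adjoin_induction with
      | mem x hx =>
        obtain ⟨y, rfl⟩ := hx
        exact Algebra.subset_adjoin ⟨y, rfl⟩
      | algebraMap l =>
        rw [← hcompat]
        exact Subalgebra.algebraMap_mem _ _
      | add x y _ _ hx hy => rw [map_add]; exact add_mem hx hy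
      | mul x y _ _ hx hy => rw [map_mul]; exact mul_mem hx hy
    rw [eq_top_iff]
    intro x hx0
    clear hx0
    have hx : x ∈ Subfield.closure
        (Set.range (algebraMap M₀ M') ∪ Set.range (algebraMap M M')) := hclos ▸ Subfield.mem_top x
    induction hx using Subfield.closure_induction with
    | mem y hy =>
      rcases hy with ⟨z, rfl⟩ | ⟨z, rfl⟩
      · exact Subalgebra.algebraMap_mem _ _
      · exact hMmem z
    | one => exact one_mem _
    | add y z _ _ hy hz => exact add_mem hy hz
    | neg y _ hy => exact neg_mem hy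
    | inv y _ hy =>
      have h1 : IsAlgebraic M₀ y := by
        have h0 := Algebra.IsIntegral.isIntegral (R := M₀)
          (⟨y, hy⟩ : Algebra.adjoin M₀ (Set.range (algebraMap K₁ M')))
        exact (h0.map (Subalgebra.val _)).isAlgebraic
      exact Subalgebra.inv_mem_of_algebraic _ (x := ⟨y, hy⟩) h1
    | mul y z _ _ hy hz => exact mul_mem hy hz
  have h1 := hC M' hgen' W' hW'
  have h2 := hP M M' W' (algebraMap M M') (algebraMap K₁ M) h1
  rw [hWeq] at h2
  exact h2

end main

end Groth.Agent.Lib.T2H9.CommonExt
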