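import Mathlib

set_option autoImplicit false
set_option linter.style.haveILetI false
set_option linter.unusedSectionVars false
universe u

/-!
# Properties of finite extensions stable under compositum

If a property `P` of field extensions of `K` passes to any field generated by two finite
extensions having it, then it passes to Galois closures of finite separable extensions, and two
finite separable extensions with `P` embed into a common finite separable extension with `P`.
-/

namespace Groth.Agent.Lib.T2H9.CompGen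

open IntermediateField

section gen

variable (K : Type u) [Field K]
  (P : ∀ (L : Type u) [Field L] [Algebra K L], Prop)
  (hcomp : ∀ (L₁ L₂ M : Type u) [Field L₁] [Field L₂] [Field M] [Algebra K L₁] [Algebra K L₂]
    [Algebra K M] [FiniteDimensional K L₁] [FiniteDimensional K L₂] [Algebra L₁ M] [Algebra L₂ M]
    [IsScalarTower K L₁ M] [IsScalarTower K L₂ M],
    Algebra.adjoin L₁ (Set.range (algebraMap L₂ M)) = ⊤ → P L₁ → P L₂ → P M)

include hcomp in
theorem Q_range (L : Type u) [Field L] [Algebra K L] [FiniteDimensional K L]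
    (f : L →ₐ[K] AlgebraicClosure K) (h : P L) :
    FiniteDimensional K f.fieldRange ∧ P f.fieldRange := by
  let j : L →ₐ[K] f.fieldRange :=
    f.codRestrict f.fieldRange.toSubalgebra (fun x => ⟨x, rfl⟩)
  have hj : Function.Surjective j := by
    rintro ⟨y, x, rfl⟩
    exact ⟨x, rfl⟩
  letI : Algebra L f.fieldRange := j.toRingHom.toAlgebra
  haveI : IsScalarTower K L f.fieldRange :=
    IsScalarTower.of_algebraMap_eq (fun k => (j.commutes k).symm)
  haveI hfin : FiniteDimensional K f.fieldRange := Module.Finite.of_surjective j.toLinearMap hj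
  refine ⟨hfin, ?_⟩
  have hgen : Algebra.adjoin L (Set.range (algebraMap L f.fieldRange)) = ⊤ := by
    rw [eq_top_iff]
    intro y _
    obtain ⟨x, rfl⟩ := hj y
    exact Algebra.subset_adjoin ⟨x, rfl⟩
  exact hcomp L L f.fieldRange hgen h h

include hcomp in
theorem Q_sup (E₁ E₂ : IntermediateField K (AlgebraicClosure K))
    (h₁ : FiniteDimensional K E₁ ∧ P E₁) (h₂ : FiniteDimensional K E₂ ∧ P E₂) :
    FiniteDimensional K (E₁ ⊔ E₂ : IntermediateField K (AlgebraicClosure K)) ∧
      P (E₁ ⊔ E₂ : IntermediateField K (AlgebraicClosure K)) := by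
  haveI := h₁.1
  haveI := h₂.1
  refine ⟨inferInstance, ?_⟩
  letI a₁ : Algebra E₁ (E₁ ⊔ E₂ : IntermediateField K (AlgebraicClosure K)) :=
    (IntermediateField.inclusion (le_sup_left : E₁ ≤ E₁ ⊔ E₂)).toRingHom.toAlgebra
  letI a₂ : Algebra E₂ (E₁ ⊔ E₂ : IntermediateField K (AlgebraicClosure K)) :=
    (IntermediateField.inclusion (le_sup_right : E₂ ≤ E₁ ⊔ E₂)).toRingHom.toAlgebra
  haveI : IsScalarTower K E₁ (E₁ ⊔ E₂ : IntermediateField K (AlgebraicClosure K)) :=
    IsScalarTower.of_algebraMap_eq (fun k => rfl)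
  haveI : IsScalarTower K E₂ (E₁ ⊔ E₂ : IntermediateField K (AlgebraicClosure K)) :=
    IsScalarTower.of_algebraMap_eq (fun k => rfl)
  have hgen : Algebra.adjoin E₁ (Set.range (algebraMap E₂
      (E₁ ⊔ E₂ : IntermediateField K (AlgebraicClosure K)))) = ⊤ := by
    rw [eq_top_iff]
    rintro ⟨y, hy⟩ _
    have hy' : y ∈ (E₁ ⊔ E₂).toSubalgebra := hy
    rw [sup_toSubalgebra_of_isAlgebraic E₁ E₂ (Or.inl inferInstance), Algebra.sup_def] at hy'
    have hle : Algebra.adjoin K ((E₁.toSubalgebra : Set (AlgebraicClosure K)) ∪ E₂.toSubalgebra) ≤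
        (E₁ ⊔ E₂).toSubalgebra := by
      rw [sup_toSubalgebra_of_isAlgebraic E₁ E₂ (Or.inl inferInstance), Algebra.sup_def]
    have key : ∀ (z : AlgebraicClosure K)
        (hz : z ∈ Algebra.adjoin K ((E₁.toSubalgebra : Set (AlgebraicClosure K)) ∪ E₂.toSubalgebra)),
        (⟨z, hle hz⟩ : (E₁ ⊔ E₂ : IntermediateField K (AlgebraicClosure K))) ∈
          Algebra.adjoin E₁ (Set.range (algebraMap E₂
            (E₁ ⊔ E₂ : IntermediateField K (AlgebraicClosure K)))) := by
      intro z hz
      induction hz using Algebra.adjoin_induction with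
      | mem x hx =>
        rcases hx with hx | hx
        · exact Subalgebra.algebraMap_mem _ (⟨x, hx⟩ : E₁)
        · exact Algebra.subset_adjoin ⟨⟨x, hx⟩, rfl⟩
      | algebraMap k =>
        exact Subalgebra.algebraMap_mem _ (algebraMap K E₁ k)
      | add x x' hx hx' h1 h2 => exact add_mem h1 h2
      | mul x x' hx hx' h1 h2 => exact mul_mem h1 h2
    exact key y hy'
  exact hcomp E₁ E₂ (E₁ ⊔ E₂ : IntermediateField K (AlgebraicClosure K)) hgen h₁.2 h₂.2

include hcomp in
/-- two finite separable extensions with `P` embed into a common one with `P` -/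
theorem exists_common (L₁ L₂ : Type u) [Field L₁] [Field L₂] [Algebra K L₁] [Algebra K L₂]
    [FiniteDimensional K L₁] [FiniteDimensional K L₂] [Algebra.IsSeparable K L₁]
    [Algebra.IsSeparable K L₂] (h₁ : P L₁) (h₂ : P L₂) :
    ∃ (M : Type u) (_ : Field M) (_ : Algebra K M) (_ : FiniteDimensional K M)
      (_ : Algebra.IsSeparable K M) (_ : L₁ →ₐ[K] M) (_ : L₂ →ₐ[K] M), P M := by
  let i₁ : L₁ →ₐ[K] AlgebraicClosure K := IsAlgClosed.lift
  let i₂ : L₂ →ₐ[K] AlgebraicClosure K := IsAlgClosed.lift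
  obtain ⟨hf₁, hP₁⟩ := Q_range K P hcomp L₁ i₁ h₁
  obtain ⟨hf₂, hP₂⟩ := Q_range K P hcomp L₂ i₂ h₂
  obtain ⟨hf, hP⟩ := Q_sup K P hcomp i₁.fieldRange i₂.fieldRange ⟨hf₁, hP₁⟩ ⟨hf₂, hP₂⟩
  haveI : Algebra.IsSeparable K i₁.fieldRange :=
    AlgEquiv.Algebra.isSeparable (AlgEquiv.ofInjectiveField i₁)
  haveI : Algebra.IsSeparable K i₂.fieldRange :=
    AlgEquiv.Algebra.isSeparable (AlgEquiv.ofInjectiveField i₂)
  refine ⟨(i₁.fieldRange ⊔ i₂.fieldRange : IntermediateField K (AlgebraicClosure K)),
    inferInstance, inferInstance, hf, inferInstance, ?_, ?_, hP⟩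
  · exact i₁.codRestrict (i₁.fieldRange ⊔ i₂.fieldRange).toSubalgebra
      (fun x => (le_sup_left : i₁.fieldRange ≤ _) ⟨x, rfl⟩)
  · exact i₂.codRestrict (i₁.fieldRange ⊔ i₂.fieldRange).toSubalgebra
      (fun x => (le_sup_right : i₂.fieldRange ≤ _) ⟨x, rfl⟩)

include hcomp in
/-- a finite separable extension with `P` embeds into a finite Galois extension with `P` -/
theorem exists_galois (L : Type u) [Field L] [Algebra K L] [FiniteDimensional K L]
    [Algebra.IsSeparable K L] (h : P L) :
    ∃ (M : Type u) (_ : Field M) (_ : Algebra K M) (_ : FiniteDimensional K M)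
      (_ : IsGalois K M) (_ : L →ₐ[K] M), P M := by
  classical
  let i₀ : L →ₐ[K] AlgebraicClosure K := IsAlgClosed.lift
  set N := normalClosure K L (AlgebraicClosure K) with hN
  have hsepf : ∀ f : L →ₐ[K] AlgebraicClosure K, Algebra.IsSeparable K f.fieldRange := fun f =>
    AlgEquiv.Algebra.isSeparable (AlgEquiv.ofInjectiveField f)
  have hne : (Finset.univ : Finset (L →ₐ[K] AlgebraicClosure K)).Nonempty :=
    ⟨i₀, Finset.mem_univ _⟩
  have hNeq : N = Finset.univ.sup' hne (fun f : L →ₐ[K] AlgebraicClosure K => f.fieldRange) := by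
    rw [Finset.sup'_eq_sup, Finset.sup_univ_eq_iSup, hN, normalClosure_def]
  have hQ : FiniteDimensional K N ∧ P N := by
    rw [hNeq]
    apply Finset.sup'_induction (p := fun E : IntermediateField K (AlgebraicClosure K) =>
      FiniteDimensional K E ∧ P E)
    · intro E₁ h₁ E₂ h₂
      exact Q_sup K P hcomp E₁ E₂ h₁ h₂
    · intro f _
      exact Q_range K P hcomp L f h
  haveI : Algebra.IsSeparable K N := by
    rw [hN, normalClosure_def]
    haveI := hsepf
    infer_instance
  haveI : Normal K N := normalClosure.normal K L (AlgebraicClosure K)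
  refine ⟨N, inferInstance, inferInstance, hQ.1, ⟨⟩, ?_, hQ.2⟩
  exact i₀.codRestrict N.toSubalgebra (fun x => i₀.fieldRange_le_normalClosure ⟨x, rfl⟩)

end gen

end Groth.Agent.Lib.T2H9.CompGen
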