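import Mathlib
import Groth.Agent.Lib.Helper14Newton
import Groth.Agent.Lib.Helper14ProjLim
import Groth.Agent.Lib.Helper14ComplLoc

/-!
# Approximating a generator of a finite separable extension of a complete discretely valued field

`core`: let `R` be a complete discrete valuation ring with fraction field `F`, `M/F` finite
separable and `ρ : A → R` a ring map with dense image.  Then there are a monic `g ∈ A[X]` of degree
`[M : F]` and a root `β ∈ M` of `g` which generates `M` over `F`.
-/

set_option autoImplicit false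
set_option linter.style.haveILetI false
set_option linter.unusedSectionVars false
universe u

namespace Groth.Agent.Lib.T2H9.ComplDescent

open Polynomial IsLocalRing

section bezout

variable {R : Type*} [CommRing R] [IsDomain R] (F : Type*) [Field F] [Algebra R F]
  [IsFractionRing R F]

/-- Bezout relation with cleared denominators for a polynomial separable over the fraction field. -/
theorem exists_bezout (f : R[X]) (hsep : (f.map (algebraMap R F)).Separable) :
    ∃ (c : R) (a b : R[X]), c ≠ 0 ∧ a * f + b * derivative f = C c := by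
  classical
  obtain ⟨a', b', hab⟩ := hsep
  obtain ⟨c₁, hc₁, h₁⟩ := IsLocalization.integerNormalization_spec (nonZeroDivisors R) a'
  obtain ⟨c₂, hc₂, h₂⟩ := IsLocalization.integerNormalization_spec (nonZeroDivisors R) b'
  set a₀ := IsLocalization.integerNormalization (nonZeroDivisors R) a'
  set b₀ := IsLocalization.integerNormalization (nonZeroDivisors R) b'
  refine ⟨c₁ * c₂, C c₂ * a₀, C c₁ * b₀, mul_ne_zero (nonZeroDivisors.ne_zero hc₁)
    (nonZeroDivisors.ne_zero hc₂), ?_⟩
  apply Polynomial.map_injective (algebraMap R F) (IsFractionRing.injective R F)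
  simp only [Polynomial.map_add, Polynomial.map_mul, Polynomial.map_C, h₁, h₂]
  rw [← Polynomial.derivative_map]
  have h3 : C (algebraMap R F (c₁ * c₂)) =
      C (algebraMap R F c₁) * C (algebraMap R F c₂) * (a' * f.map (algebraMap R F) +
        b' * derivative (f.map (algebraMap R F))) := by
    rw [hab, mul_one, map_mul, C_mul]
  rw [h3, Algebra.smul_def, Algebra.smul_def, Polynomial.algebraMap_apply,
    Polynomial.algebraMap_apply]
  ring

end bezout


section general

variable {R : Type*} [CommRing R]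

theorem isAdicComplete_of_equiv (I : Ideal R) {M N : Type*} [AddCommGroup M] [Module R M]
    [AddCommGroup N] [Module R N] (e : M ≃ₗ[R] N) [IsAdicComplete I M] :
    IsAdicComplete I N := by
  rw [← AdicCompletion.of_bijective_iff]
  have : ⇑(AdicCompletion.of I N) =
      (AdicCompletion.congr I e) ∘ (AdicCompletion.of I M) ∘ e.symm := by
    ext x
    simp only [Function.comp_apply, AdicCompletion.congr_apply, AdicCompletion.map_of,
      LinearEquiv.coe_coe, LinearEquiv.apply_symm_apply]
  rw [this]
  exact (AdicCompletion.congr I e).bijective.comp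
    ((AdicCompletion.of_bijective I M).comp e.symm.bijective)

theorem isAdicComplete_adjoinRoot (I : Ideal R) [IsAdicComplete I R] (f : R[X]) (hf : f.Monic) :
    IsAdicComplete (I.map (algebraMap R (AdjoinRoot f))) (AdjoinRoot f) := by
  rw [IsAdicComplete.map_algebraMap_iff]
  haveI := Groth.Agent.Lib.Helper14.ProjLim.isAdicComplete_pi I f.natDegree
  exact isAdicComplete_of_equiv I (AdjoinRoot.powerBasisAux' hf).equivFun.symm

theorem aeval_mem_map_of_coeff_mem (J : Ideal R) (Δ : R[X]) (hΔ : ∀ i, Δ.coeff i ∈ J)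
    {S : Type*} [CommRing S] [Algebra R S] (x : S) : aeval x Δ ∈ J.map (algebraMap R S) := by
  rw [Polynomial.aeval_eq_sum_range]
  refine Ideal.sum_mem _ fun i _ => ?_
  rw [Algebra.smul_def]
  exact Ideal.mul_mem_right _ _ (Ideal.mem_map_of_mem _ (hΔ i))

theorem derivative_coeff_mem (J : Ideal R) (Δ : R[X]) (hΔ : ∀ i, Δ.coeff i ∈ J) (i : ℕ) :
    (derivative Δ).coeff i ∈ J := by
  rw [Polynomial.coeff_derivative]
  exact Ideal.mul_mem_right _ _ (hΔ _)

end general

section core

variable (R : Type u) [CommRing R] [IsDomain R] [IsDiscreteValuationRing R]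
  (F : Type u) [Field F] [Algebra R F] [IsFractionRing R F]
  (M : Type u) [Field M] [Algebra F M] [FiniteDimensional F M] [Algebra.IsSeparable F M]
  [Algebra R M] [IsScalarTower R F M]

theorem exists_integral_primitive :
    ∃ θ : M, IntermediateField.adjoin F {θ} = ⊤ ∧ IsIntegral R θ := by
  obtain ⟨α, hα⟩ := Field.exists_primitive_element F M
  haveI : Algebra.IsAlgebraic R F := IsLocalization.isAlgebraic F (nonZeroDivisors R)
  haveI : Algebra.IsAlgebraic R M := Algebra.IsAlgebraic.trans R F M
  obtain ⟨y, hy0, hy⟩ := (Algebra.IsAlgebraic.isAlgebraic (R := R) α).exists_integral_multiple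
  refine ⟨y • α, ?_, hy⟩
  rw [eq_top_iff, ← hα, IntermediateField.adjoin_simple_le_iff]
  have hyF : algebraMap R F y ≠ 0 := by
    rwa [Ne, map_eq_zero_iff _ (IsFractionRing.injective R F)]
  have h1 : y • α ∈ IntermediateField.adjoin F {y • α} :=
    IntermediateField.mem_adjoin_simple_self F _
  have h2 : α = (algebraMap R F y)⁻¹ • (y • α) := by
    rw [← algebraMap_smul F y α, smul_smul, inv_mul_cancel₀ hyF, one_smul]
  have h3 : (algebraMap R F y)⁻¹ • (y • α) ∈ IntermediateField.adjoin F {y • α} :=
    (IntermediateField.adjoin F {y • α}).smul_mem h1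
  rwa [← h2] at h3

variable [IsAdicComplete (maximalIdeal R) R]

theorem core (A : Type u) [CommRing A] (ρ : A →+* R)
    (happrox : ∀ (x : R) (N : ℕ), ∃ a : A, x - ρ a ∈ maximalIdeal R ^ N) :
    ∃ (g : A[X]) (β : M), g.Monic ∧ g.natDegree = Module.finrank F M ∧
      eval₂ ((algebraMap R M).comp ρ) β g = 0 ∧ IntermediateField.adjoin F {β} = ⊤ := by
  classical
  obtain ⟨θ, hθ, hint⟩ := exists_integral_primitive R F M
  set f := minpoly R θ with hf
  have hfm : f.Monic := minpoly.monic hint
  have hfmap : minpoly F θ = f.map (algebraMap R F) :=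
    minpoly.isIntegrallyClosed_eq_field_fractions' F hint
  have hdeg : f.natDegree = Module.finrank F M := by
    rw [← hfm.natDegree_map (algebraMap R F), ← hfmap,
      ← IntermediateField.adjoin.finrank (Algebra.IsIntegral.isIntegral θ), hθ,
      IntermediateField.finrank_top']
  have hsep : (f.map (algebraMap R F)).Separable :=
    hfmap ▸ Algebra.IsSeparable.isSeparable F θ
  obtain ⟨c, a₀, b₀, hc0, hbez⟩ := exists_bezout F f hsep
  obtain ⟨ϖ, hϖ⟩ := IsDiscreteValuationRing.exists_irreducible R
  obtain ⟨s, u, hcu⟩ := IsDiscreteValuationRing.eq_unit_mul_pow_irreducible hc0 hϖ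
  have hroot : eval₂ (Algebra.ofId R M : R →+* M) θ f = 0 := by
    have := minpoly.aeval R θ
    rwa [aeval_def] at this
  let ι : AdjoinRoot f →ₐ[R] M := AdjoinRoot.liftAlgHom f (Algebra.ofId R M) θ hroot
  have hιr : ι (AdjoinRoot.root f) = θ := AdjoinRoot.liftAlgHom_root f _ θ hroot
  set r : AdjoinRoot f := AdjoinRoot.root f with hr
  set I : Ideal (AdjoinRoot f) := (maximalIdeal R).map (algebraMap R (AdjoinRoot f)) with hIdef
  haveI : IsAdicComplete I (AdjoinRoot f) := isAdicComplete_adjoinRoot (maximalIdeal R) f hfm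
  set ϖ' : AdjoinRoot f := algebraMap R (AdjoinRoot f) ϖ with hϖ'
  have hI : I = Ideal.span {ϖ'} := by
    rw [hIdef, hϖ.maximalIdeal_eq, Ideal.map_span, Set.image_singleton]
  have hfr : aeval r f = 0 := by rw [AdjoinRoot.aeval_eq, AdjoinRoot.mk_self]
  have hbez' : aeval r b₀ * aeval r (derivative f) = algebraMap R (AdjoinRoot f) c := by
    have := congrArg (aeval r) hbez
    rwa [map_add, map_mul, map_mul, hfr, mul_zero, zero_add, aeval_C] at this
  set N := 2 * s + 1 with hN
  choose a ha using fun i : ℕ => happrox (f.coeff i) N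
  set n := f.natDegree with hn
  set h : A[X] := ∑ i ∈ Finset.range n, C (a i) * X ^ i with hh
  have hhdeg : h.degree < n := by
    rw [← Polynomial.mem_degreeLT]
    refine Submodule.sum_mem _ fun i hi => ?_
    rw [Polynomial.mem_degreeLT]
    refine lt_of_le_of_lt (Polynomial.degree_C_mul_X_pow_le _ _) ?_
    exact_mod_cast Finset.mem_range.mp hi
  set g : A[X] := X ^ n + h with hg
  have hgm : g.Monic := Polynomial.monic_X_pow_add hhdeg
  haveI : Nontrivial A := RingHom.domain_nontrivial ρ
  have hgdeg : g.natDegree = n := by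
    rw [hg, Polynomial.natDegree_add_eq_left_of_degree_lt, Polynomial.natDegree_X_pow]
    rwa [Polynomial.degree_X_pow]
  have hhcoeff : ∀ i, h.coeff i = if i < n then a i else 0 := by
    intro i
    rw [hh, Polynomial.finsetSum_coeff]
    simp only [Polynomial.coeff_C_mul, Polynomial.coeff_X_pow]
    by_cases hi : i < n
    · rw [if_pos hi, Finset.sum_eq_single i]
      · simp
      · intro j _ hji
        rw [if_neg (fun h => hji h.symm), mul_zero]
      · intro hi'
        exact absurd (Finset.mem_range.mpr hi) hi'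
    · rw [if_neg hi]
      refine Finset.sum_eq_zero fun j hj => ?_
      rw [if_neg, mul_zero]
      rintro rfl
      exact hi (Finset.mem_range.mp hj)
  set Δ : R[X] := g.map ρ - f with hΔ
  have hΔc : ∀ i, Δ.coeff i ∈ maximalIdeal R ^ N := by
    intro i
    rw [hΔ, Polynomial.coeff_sub, Polynomial.coeff_map, hg, Polynomial.coeff_add,
      Polynomial.coeff_X_pow, hhcoeff]
    rcases lt_trichotomy i n with hi | hi | hi
    · rw [if_neg hi.ne, if_pos hi, zero_add]
      have := ha i
      rw [← Ideal.neg_mem_iff] at this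
      rwa [neg_sub] at this
    · subst hi
      rw [if_pos rfl, if_neg (lt_irrefl _), add_zero, map_one, hn,
        Polynomial.Monic.coeff_natDegree hfm, sub_self]
      exact Ideal.zero_mem _
    · rw [if_neg hi.ne', if_neg (not_lt.mpr hi.le), add_zero, map_zero,
        Polynomial.coeff_eq_zero_of_natDegree_lt (hn ▸ hi), sub_self]
      exact Ideal.zero_mem _
  have hmapN : (maximalIdeal R ^ N).map (algebraMap R (AdjoinRoot f)) = Ideal.span {ϖ' ^ N} := by
    rw [Ideal.map_pow, ← hIdef, hI, Ideal.span_singleton_pow]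
  -- values at r
  have hgr : aeval r (g.map ρ) ∈ Ideal.span {ϖ' ^ N} := by
    have h1 : g.map ρ = f + Δ := by rw [hΔ]; ring
    rw [h1, map_add, hfr, zero_add, ← hmapN]
    exact aeval_mem_map_of_coeff_mem _ Δ hΔc r
  have hgr' : aeval r (derivative (g.map ρ)) - aeval r (derivative f) ∈ Ideal.span {ϖ' ^ N} := by
    have h1 : g.map ρ = f + Δ := by rw [hΔ]; ring
    rw [h1, derivative_add, map_add, add_sub_cancel_left, ← hmapN]
    exact aeval_mem_map_of_coeff_mem _ _ (derivative_coeff_mem _ Δ hΔc) r
  obtain ⟨e, he⟩ := Ideal.mem_span_singleton'.mp hgr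
  obtain ⟨δ', hδ'⟩ := Ideal.mem_span_singleton'.mp hgr'
  set y := aeval r b₀ with hy
  set d := aeval r (derivative (g.map ρ)) with hd
  set u' : AdjoinRoot f := algebraMap R (AdjoinRoot f) (u : R) with hu'
  have hu'unit : IsUnit u' := (u.isUnit).map (algebraMap R (AdjoinRoot f))
  have hjac : I ≤ (⊥ : Ideal (AdjoinRoot f)).jacobson := IsAdicComplete.le_jacobson_bot I
  have hyd : y * d = ϖ' ^ s * (u' + ϖ' ^ (s + 1) * (y * δ')) := by
    have h2 : d = aeval r (derivative f) + δ' * ϖ' ^ N := by rw [hδ']; ring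
    rw [h2, mul_add, hbez', hcu, map_mul, map_pow, ← hϖ', ← hu', hN]
    ring
  have hvunit : IsUnit (u' + ϖ' ^ (s + 1) * (y * δ')) := by
    obtain ⟨w, hw⟩ := hu'unit
    have hmem : ϖ' ^ (s + 1) * (y * δ') ∈ (⊥ : Ideal (AdjoinRoot f)).jacobson := by
      apply hjac
      rw [hI, pow_succ', mul_assoc]
      exact Ideal.mul_mem_right _ _ (Ideal.subset_span rfl)
    have h3 := Ideal.mem_jacobson_bot.mp hmem ((w⁻¹ : (AdjoinRoot f)ˣ) : AdjoinRoot f)
    have h4 : u' + ϖ' ^ (s + 1) * (y * δ') =
        (w : AdjoinRoot f) * (ϖ' ^ (s + 1) * (y * δ') * ((w⁻¹ : (AdjoinRoot f)ˣ) : AdjoinRoot f) + 1) := by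
      rw [← hw]
      have hww := Units.mul_inv w
      linear_combination (-(ϖ' ^ (s + 1) * (y * δ'))) * hww
    rw [h4]
    exact w.isUnit.mul h3
  obtain ⟨v, hv⟩ := hvunit
  set y' := y * ((v⁻¹ : (AdjoinRoot f)ˣ) : AdjoinRoot f) with hy'
  have hy'd : y' * d = ϖ' ^ s := by
    rw [hy', mul_right_comm, hyd, ← hv, mul_assoc, Units.mul_inv, mul_one]
  -- Newton
  have hnewton : ∃ β₀ : AdjoinRoot f, aeval β₀ (g.map ρ) = 0 ∧ β₀ - r ∈ I := by
    have hF : ((g.map ρ).map (algebraMap R (AdjoinRoot f))).eval r =
        ((derivative ((g.map ρ).map (algebraMap R (AdjoinRoot f)))).eval r) ^ 2 *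
          (y' ^ 2 * ϖ' * e) := by
      rw [Polynomial.derivative_map, Polynomial.eval_map_algebraMap,
        Polynomial.eval_map_algebraMap, ← hd, ← he, hN]
      have : d ^ 2 * (y' ^ 2 * ϖ' * e) = (y' * d) ^ 2 * ϖ' * e := by ring
      rw [this, hy'd]
      ring
    have hs' : y' ^ 2 * ϖ' * e ∈ I ^ 1 := by
      rw [pow_one, hI, mul_assoc, mul_left_comm]
      exact Ideal.mul_mem_right _ _ (Ideal.subset_span rfl)
    obtain ⟨β₀, hβ₀, hβ₀'⟩ := Groth.Agent.Lib.Helper14.Newton.exists_root_of_eval_eq_sq_mul I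
      ((g.map ρ).map (algebraMap R (AdjoinRoot f))) r 1 le_rfl _ hs' hF
    refine ⟨β₀, ?_, by simpa using hβ₀'⟩
    rwa [Polynomial.eval_map_algebraMap] at hβ₀
  obtain ⟨β₀, hβ₀, hβ₀r⟩ := hnewton
  -- `β₀` generates `AdjoinRoot f` over `R`
  haveI : Module.Finite R (AdjoinRoot f) := Module.Finite.of_basis (AdjoinRoot.powerBasisAux' hfm)
  have hadj : Algebra.adjoin R {β₀} = ⊤ := by
    rw [← Subalgebra.toSubmodule_injective.eq_iff, Algebra.top_toSubmodule, eq_top_iff]
    apply Submodule.le_of_le_smul_of_le_jacobson_bot (I := maximalIdeal R) Module.Finite.fg_top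
      (IsLocalRing.maximalIdeal_le_jacobson _)
    intro x _
    obtain ⟨q, rfl⟩ := AdjoinRoot.mk_surjective x
    rw [← AdjoinRoot.aeval_eq]
    have h1 : aeval (AdjoinRoot.root f) q = aeval β₀ q + (aeval r q - aeval β₀ q) := by
      rw [hr]; ring
    rw [h1]
    refine Submodule.add_mem_sup ?_ ?_
    · rw [Subalgebra.mem_toSubmodule, Algebra.adjoin_singleton_eq_range_aeval]
      exact ⟨q, rfl⟩
    · rw [Ideal.smul_top_eq_map, Submodule.restrictScalars_mem, ← hIdef]
      obtain ⟨k, hk⟩ := Polynomial.sub_dvd_eval_sub r β₀ (q.map (algebraMap R (AdjoinRoot f)))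
      rw [Polynomial.eval_map_algebraMap, Polynomial.eval_map_algebraMap] at hk
      rw [hk]
      have : r - β₀ ∈ I := by
        rw [← Ideal.neg_mem_iff, neg_sub]; exact hβ₀r
      exact Ideal.mul_mem_right _ _ this
  refine ⟨g, ι β₀, hgm, hgdeg.trans hdeg, ?_, ?_⟩
  · have h1 : aeval (ι β₀) (g.map ρ) = 0 := by
      rw [Polynomial.aeval_algHom_apply, hβ₀, map_zero]
    rwa [aeval_def, Polynomial.eval₂_map] at h1
  · rw [eq_top_iff, ← hθ, IntermediateField.adjoin_simple_le_iff, ← hιr]
    have h1 : r ∈ Algebra.adjoin R {β₀} := by rw [hadj]; trivial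
    rw [Algebra.adjoin_singleton_eq_range_aeval] at h1
    obtain ⟨q, hq⟩ := h1
    rw [← hq]
    change ι (aeval β₀ q) ∈ _
    rw [← Polynomial.aeval_algHom_apply]
    have h2 : aeval (ι β₀) q = aeval (ι β₀) (q.map (algebraMap R F)) := by
      rw [Polynomial.aeval_map_algebraMap]
    rw [h2]
    have h3 : aeval (ι β₀) (q.map (algebraMap R F)) ∈
        Algebra.adjoin F {ι β₀} := by
      rw [Algebra.adjoin_singleton_eq_range_aeval]
      exact ⟨_, rfl⟩
    exact IntermediateField.algebra_adjoin_le_adjoin F _ h3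

end core


section descent

open TensorProduct

variable (A K : Type u) [CommRing A] [Field K] [Algebra A K]
  (R : Type u) [CommRing R] [IsDomain R] [IsDiscreteValuationRing R]
  [IsAdicComplete (maximalIdeal R) R]
  (F : Type u) [Field F] [Algebra R F] [IsFractionRing R F]
  [Algebra A R] [Algebra A F] [Algebra K F] [IsScalarTower A R F] [IsScalarTower A K F]
  (M : Type u) [Field M] [Algebra F M] [FiniteDimensional F M] [Algebra.IsSeparable F M]

theorem descent
    (happrox : ∀ (x : R) (N : ℕ), ∃ a : A, x - algebraMap A R a ∈ maximalIdeal R ^ N) :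
    ∃ (L : Type u) (_ : Field L) (_ : Algebra K L), FiniteDimensional K L ∧
      Algebra.IsSeparable K L ∧ Nonempty ((F ⊗[K] L) ≃ₐ[F] M) := by
  classical
  letI : Algebra R M := ((algebraMap F M).comp (algebraMap R F)).toAlgebra
  haveI : IsScalarTower R F M := IsScalarTower.of_algebraMap_eq (fun _ => rfl)
  letI : Algebra K M := ((algebraMap F M).comp (algebraMap K F)).toAlgebra
  haveI : IsScalarTower K F M := IsScalarTower.of_algebraMap_eq (fun _ => rfl)
  obtain ⟨g, β, hgm, hgdeg, hgβ, hβ⟩ := core R F M A (algebraMap A R) happrox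
  set gK : K[X] := g.map (algebraMap A K) with hgK
  have hgKm : gK.Monic := hgm.map _
  have hgKdeg : gK.natDegree = Module.finrank F M := by
    rw [hgK, hgm.natDegree_map, hgdeg]
  set gF : F[X] := gK.map (algebraMap K F) with hgF
  have hgFm : gF.Monic := hgKm.map _
  have hgFdeg : gF.natDegree = Module.finrank F M := by
    rw [hgF, hgKm.natDegree_map, hgKdeg]
  have hcomp : ((algebraMap F M).comp (algebraMap K F)).comp (algebraMap A K) =
      (algebraMap R M).comp (algebraMap A R) := by
    ext a
    change algebraMap F M (algebraMap K F (algebraMap A K a)) =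
      algebraMap F M (algebraMap R F (algebraMap A R a))
    rw [← IsScalarTower.algebraMap_apply A K F, ← IsScalarTower.algebraMap_apply A R F]
  have hrootK : eval₂ (algebraMap K M) β gK = 0 := by
    rw [hgK, Polynomial.eval₂_map]
    change eval₂ (((algebraMap F M).comp (algebraMap K F)).comp (algebraMap A K)) β g = 0
    rw [hcomp]
    exact hgβ
  have hrootF : aeval β gF = 0 := by
    rw [aeval_def, hgF, Polynomial.eval₂_map]
    exact hrootK
  have hβint : IsIntegral F β := Algebra.IsIntegral.isIntegral β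
  have hmin : minpoly F β = gF := by
    symm
    apply Polynomial.eq_of_monic_of_dvd_of_natDegree_le (minpoly.monic hβint) hgFm
      (minpoly.dvd F β hrootF)
    rw [hgFdeg, ← IntermediateField.adjoin.finrank hβint, hβ, IntermediateField.finrank_top']
  have hirrF : Irreducible gF := hmin ▸ minpoly.irreducible hβint
  have hirrK : Irreducible gK :=
    Polynomial.Monic.irreducible_of_irreducible_map (algebraMap K F) gK hgKm hirrF
  have hsepF : gF.Separable := hmin ▸ Algebra.IsSeparable.isSeparable F β
  have hsepK : gK.Separable := (Polynomial.separable_map (algebraMap K F)).mp hsepF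
  haveI : Fact (Irreducible gK) := ⟨hirrK⟩
  have hne : gK ≠ 0 := hgKm.ne_zero
  haveI hfin : FiniteDimensional K (AdjoinRoot gK) := (AdjoinRoot.powerBasis hne).finite
  have hfinrank : Module.finrank K (AdjoinRoot gK) = Module.finrank F M := by
    rw [(AdjoinRoot.powerBasis hne).finrank, AdjoinRoot.powerBasis_dim, hgKdeg]
  have hsepL : Algebra.IsSeparable K (AdjoinRoot gK) := by
    have h1 : IsSeparable K (AdjoinRoot.root gK) := by
      rw [IsSeparable, AdjoinRoot.minpoly_root hne, hgKm.leadingCoeff, inv_one, map_one, mul_one]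
      exact hsepK
    haveI := (IntermediateField.isSeparable_adjoin_simple_iff_isSeparable K (AdjoinRoot gK)).mpr h1
    have h2 : IntermediateField.adjoin K {AdjoinRoot.root gK} = ⊤ := by
      rw [← IntermediateField.toSubalgebra_injective.eq_iff,
        IntermediateField.adjoin_simple_toSubalgebra_of_isAlgebraic h1.isIntegral.isAlgebraic,
        AdjoinRoot.adjoinRoot_eq_top, IntermediateField.top_toSubalgebra]
    rw [h2] at this
    exact AlgEquiv.Algebra.isSeparable (IntermediateField.topEquiv (F := K) (E := AdjoinRoot gK))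
  refine ⟨AdjoinRoot gK, inferInstance, inferInstance, hfin, hsepL, ?_⟩
  let φ : AdjoinRoot gK →ₐ[K] M := AdjoinRoot.liftAlgHom gK (Algebra.ofId K M) β hrootK
  have hφ : φ (AdjoinRoot.root gK) = β :=
    AdjoinRoot.liftAlgHom_root gK (Algebra.ofId K M) β hrootK
  let ψ : F ⊗[K] AdjoinRoot gK →ₐ[F] M :=
    Algebra.TensorProduct.productLeftAlgHom (Algebra.ofId F M) φ
  have hψsurj : Function.Surjective ψ := by
    rw [← AlgHom.range_eq_top, eq_top_iff]
    have h1 : Algebra.adjoin F {β} = ⊤ := by
      rw [← IntermediateField.adjoin_simple_toSubalgebra_of_isAlgebraic hβint.isAlgebraic, hβ,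
        IntermediateField.top_toSubalgebra]
    rw [← h1]
    apply Algebra.adjoin_le
    rintro _ rfl
    exact ⟨1 ⊗ₜ AdjoinRoot.root gK, by simp [ψ, hφ]⟩
  have hψinj : Function.Injective ψ := by
    have := LinearMap.injective_iff_surjective_of_finrank_eq_finrank (f := ψ.toLinearMap)
      (by rw [Module.finrank_baseChange, hfinrank])
    exact this.mpr hψsurj
  exact ⟨AlgEquiv.ofBijective ψ ⟨hψinj, hψsurj⟩⟩

end descent

end Groth.Agent.Lib.T2H9.ComplDescent
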