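import Mathlib

/-!
# Decomposition / inertia fields give henselian local rings

Helper library for S11105 / S11106.
-/

set_option autoImplicit false
set_option linter.unusedSectionVars false
set_option linter.style.haveILetI false

universe u

namespace Groth.Agent.Lib.T2H9.DecompHensel

open Polynomial IsLocalRing

section reduction

variable {B : Type u} [CommRing B] (Q : Ideal B) [Q.IsPrime]
  (S : Type u) [CommRing S] [Algebra B S] [IsLocalization.AtPrime S Q]

theorem scaleRoots_comp (F : S[X]) (u : S) :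
    (scaleRoots F u).comp (C u * X) = C (u ^ F.natDegree) * F := by
  ext i
  rw [comp_C_mul_X_coeff, coeff_scaleRoots, coeff_C_mul]
  by_cases hi : i ≤ F.natDegree
  · rw [mul_assoc, ← pow_add, Nat.sub_add_cancel hi, mul_comm]
  · rw [coeff_eq_zero_of_natDegree_lt (not_le.mp hi)]; simp

/-- To prove that the localisation `S = B_Q` is henselian it suffices to lift simple roots modulo
`Q` of monic polynomials over `B` to roots in `B`. -/
theorem henselian_of_lift [IsLocalRing S]
    (H : ∀ (g : B[X]) (b₀ : B), g.Monic → g.eval b₀ ∈ Q → (derivative g).eval b₀ ∉ Q →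
      ∃ a : B, g.IsRoot a ∧ a - b₀ ∈ Q) : HenselianLocalRing S := by
  refine ⟨fun F hF a₀ h₁ h₂ => ?_⟩
  classical
  obtain ⟨⟨s, hs⟩, hden⟩ := IsLocalization.exist_integer_multiples_of_finset Q.primeCompl
    (insert a₀ F.coeffs)
  set u : S := algebraMap B S s with hu
  have hunit : IsUnit u := IsLocalization.map_units S (⟨s, hs⟩ : Q.primeCompl)
  have hmem : ∀ x : B, algebraMap B S x ∈ maximalIdeal S ↔ x ∈ Q :=
    fun x => IsLocalization.AtPrime.to_map_mem_maximal_iff S Q x
  set n := F.natDegree with hn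
  set F₁ := scaleRoots F u with hF₁
  have hF₁m : F₁.Monic := (monic_scaleRoots_iff u).mpr hF
  have hlift : F₁ ∈ lifts (algebraMap B S) := by
    rw [lifts_iff_coeff_lifts]
    intro i
    rw [hF₁, coeff_scaleRoots]
    by_cases h0 : F.coeff i = 0
    · exact ⟨0, by rw [h0, map_zero, zero_mul]⟩
    · obtain ⟨c, hc⟩ := hden (F.coeff i) (Finset.mem_insert_of_mem (coeff_mem_coeffs h0))
      rw [Algebra.smul_def] at hc
      rcases lt_or_ge i n with hi | hi
      · obtain ⟨m, hm⟩ : ∃ m, n - i = m + 1 := ⟨n - i - 1, by omega⟩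
        refine ⟨c * s ^ m, ?_⟩
        rw [map_mul, hc, map_pow, ← hn, hm, pow_succ]
        change u * _ * u ^ m = _
        ring
      · have : i = n := le_antisymm (le_natDegree_of_ne_zero h0) hi
        subst this
        refine ⟨1, ?_⟩
        rw [map_one, ← hn, Nat.sub_self, pow_zero, mul_one]
        exact hF.coeff_natDegree.symm
  obtain ⟨g, hg, -, hgm⟩ := lifts_and_natDegree_eq_and_monic hlift hF₁m
  obtain ⟨b₀, hb₀⟩ := hden a₀ (Finset.mem_insert_self _ _)
  rw [Algebra.smul_def] at hb₀
  change algebraMap B S b₀ = u * a₀ at hb₀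
  have hev : ∀ x : S, F₁.eval (u * x) = u ^ n * F.eval x := by
    intro x
    have := scaleRoots_eval₂_mul (p := F) (RingHom.id S) x u
    simpa [eval₂_id] using this
  have hder : ∀ x : S, (derivative F₁).eval (u * x) * u = u ^ n * (derivative F).eval x := by
    intro x
    have h := congrArg (fun p => (derivative p).eval x) (scaleRoots_comp S F u)
    simp only [derivative_comp, derivative_mul, derivative_C, derivative_X, zero_mul, zero_add,
      mul_one, eval_mul, eval_comp, eval_C, eval_X] at h
    rw [← hn] at h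
    linear_combination h
  have hg1 : g.eval b₀ ∈ Q := by
    rw [← hmem, ← eval₂_at_apply, eval₂_eq_eval_map, hg, hb₀, hev]
    exact Ideal.mul_mem_left _ _ h₁
  have hg2 : (derivative g).eval b₀ ∉ Q := by
    rw [← hmem, ← eval₂_at_apply, eval₂_eq_eval_map, ← derivative_map, hg, hb₀]
    intro hcon
    have h3 : (derivative F₁).eval (u * a₀) * u ∈ maximalIdeal S := Ideal.mul_mem_right _ _ hcon
    rw [hder] at h3
    exact (mem_maximalIdeal _).mp h3 ((hunit.pow n).mul h₂)
  obtain ⟨a, ha, haa⟩ := H g b₀ hgm hg1 hg2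
  obtain ⟨v, hv⟩ := hunit
  refine ⟨↑v⁻¹ * algebraMap B S a, ?_, ?_⟩
  · have h4 : F₁.eval (algebraMap B S a) = 0 := by
      rw [← hg, eval_map, eval₂_at_apply, ha, map_zero]
    have h5 : u * (↑v⁻¹ * algebraMap B S a) = algebraMap B S a := by
      rw [← hv, ← mul_assoc, Units.mul_inv, one_mul]
    have h6 := hev (↑v⁻¹ * algebraMap B S a)
    rw [h5, h4] at h6
    have h7 : IsUnit (u ^ n) := (hv ▸ v.isUnit).pow n
    exact (h7.mul_right_eq_zero).mp h6.symm
  · have h8 : ↑v⁻¹ * algebraMap B S a - a₀ = ↑v⁻¹ * algebraMap B S (a - b₀) := by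
      rw [map_sub, hb₀, ← hv, mul_sub, ← mul_assoc, Units.inv_mul, one_mul]
    rw [h8]
    exact Ideal.mul_mem_left _ _ ((hmem _).mpr haa)

end reduction

section roots

variable {D : Type u} [CommRing D] [IsDomain D] (P : Ideal D) [P.IsPrime]

/-- Two distinct roots of `h` congruent to `c` modulo `P` force `h'(c) ∈ P`. -/
theorem derivative_eval_mem_of_two_roots (h : D[X]) (α α' c : D) (hne : α ≠ α')
    (hα : h.IsRoot α) (hα' : h.IsRoot α') (hc : c - α ∈ P) (hc' : c - α' ∈ P) :
    (derivative h).eval c ∈ P := by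
  obtain ⟨q₁, hq₁⟩ := dvd_iff_isRoot.mpr hα
  have h1 : q₁.IsRoot α' := by
    have := hα'
    rw [IsRoot.def, hq₁, eval_mul, eval_sub, eval_X, eval_C] at this
    rcases mul_eq_zero.mp this with h0 | h0
    · exact absurd (sub_eq_zero.mp h0).symm hne
    · exact h0
  obtain ⟨q₂, hq₂⟩ := dvd_iff_isRoot.mpr h1
  have hd : (derivative h).eval c =
      (c - α') * q₂.eval c + (c - α) * (q₂.eval c + (c - α') * (derivative q₂).eval c) := by
    rw [hq₁, hq₂]
    simp only [derivative_mul, derivative_sub, derivative_X, derivative_C, sub_zero, one_mul,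
      eval_add, eval_mul, eval_sub, eval_X, eval_C]
  rw [hd]
  exact P.add_mem (P.mul_mem_right _ hc') (P.mul_mem_right _ hc)

variable {Ω : Type u} [Field Ω] [IsSepClosed Ω] [Algebra D Ω]

/-- If `D` is integrally closed in the separably closed field `Ω`, a separable monic polynomial
over `D` with `h(c) ∈ P` has a root in `D` congruent to `c` modulo `P`. -/
theorem exists_root_sub_mem (hinj : Function.Injective (algebraMap D Ω))
    (hcl : ∀ x : Ω, IsIntegral D x → x ∈ Set.range (algebraMap D Ω)) :
    ∀ (n : ℕ) (h : D[X]), h.natDegree = n → h.Monic → (h.map (algebraMap D Ω)).Separable →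
      ∀ c : D, h.eval c ∈ P → ∃ α : D, h.IsRoot α ∧ c - α ∈ P := by
  intro n
  induction n with
  | zero =>
    intro h hn hm _ c hc
    have : h = 1 := hm.natDegree_eq_zero.mp hn
    rw [this, eval_one] at hc
    exact absurd (P.eq_top_iff_one.mpr hc) (Ideal.IsPrime.ne_top inferInstance)
  | succ n ih =>
    intro h hn hm hsep c hc
    have hdeg : (h.map (algebraMap D Ω)).degree ≠ 0 := by
      rw [hm.degree_map, degree_eq_natDegree hm.ne_zero, hn]
      exact_mod_cast Nat.succ_ne_zero n
    obtain ⟨x, hx⟩ := IsSepClosed.exists_root (h.map (algebraMap D Ω)) hdeg hsep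
    have hxint : IsIntegral D x := ⟨h, hm, by rwa [eval₂_eq_eval_map]⟩
    obtain ⟨β, rfl⟩ := hcl x hxint
    have hβ : h.IsRoot β := by
      rw [IsRoot.def, eval_map, eval₂_at_apply] at hx
      exact hinj (by rw [hx, map_zero])
    obtain ⟨q, hq⟩ := dvd_iff_isRoot.mpr hβ
    have hqm : q.Monic := by
      rw [hq] at hm
      exact Monic.of_mul_monic_left (monic_X_sub_C β) hm
    have hqn : q.natDegree = n := by
      have := (monic_X_sub_C β).natDegree_mul hqm
      rw [← hq, hn, natDegree_X_sub_C] at this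
      omega
    have hqsep : (q.map (algebraMap D Ω)).Separable := by
      rw [hq, Polynomial.map_mul] at hsep
      exact hsep.of_mul_right
    rw [hq, eval_mul, eval_sub, eval_X, eval_C] at hc
    rcases Ideal.IsPrime.mem_or_mem inferInstance hc with h1 | h1
    · exact ⟨β, hβ, h1⟩
    · obtain ⟨α, hα, hαc⟩ := ih q hqn hqm hqsep c h1
      refine ⟨α, ?_, hαc⟩
      rw [IsRoot.def, hq, eval_mul, hα.eq_zero, mul_zero]

end roots

section galois

theorem isFractionRing_intCl (R K L : Type u) [CommRing R] [IsDomain R] [Field K] [Algebra R K]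
    [IsFractionRing R K] [Field L] [Algebra K L] [Algebra R L] [IsScalarTower R K L]
    [Algebra.IsAlgebraic K L] : IsFractionRing (integralClosure R L) L := by
  haveI : Algebra.IsAlgebraic R K := IsLocalization.isAlgebraic K (nonZeroDivisors R)
  haveI : Algebra.IsAlgebraic R L := Algebra.IsAlgebraic.trans R K L
  refine integralClosure.isFractionRing_of_algebraic (A := R) (L := L) ?_
  intro x hx
  have : algebraMap R L x = algebraMap K L (algebraMap R K x) :=
    IsScalarTower.algebraMap_apply R K L x
  rw [this, map_eq_zero] at hx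
  exact (IsFractionRing.injective R K) (by rw [hx, map_zero])

theorem isIntegrallyClosed_intCl (R K L : Type u) [CommRing R] [IsDomain R] [Field K] [Algebra R K]
    [IsFractionRing R K] [Field L] [Algebra K L] [Algebra R L] [IsScalarTower R K L]
    [Algebra.IsAlgebraic K L] : IsIntegrallyClosed (integralClosure R L) := by
  haveI := isFractionRing_intCl R K L
  rw [isIntegrallyClosed_iff L]
  intro x hx
  exact ⟨⟨x, isIntegral_trans (A := integralClosure R L) x hx⟩, rfl⟩


variable {R K L Ks : Type u} [CommRing R] [IsDomain R] [Field K] [Algebra R K] [IsFractionRing R K]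
  [Field L] [Algebra K L] [Algebra R L] [IsScalarTower R K L] [Algebra.IsAlgebraic K L]
  [Field Ks] [IsSepClosed Ks] [Algebra K Ks] [Algebra L Ks] [Algebra R Ks]
  [IsScalarTower R K Ks] [IsScalarTower R L Ks] [IsScalarTower K L Ks]

variable (Ps : Ideal (integralClosure R Ks)) [Ps.IsPrime]
  (G₀ : Set (Ks ≃ₐ[K] Ks))
  (hfix : ∀ σ ∈ G₀, ∀ y : L, σ (algebraMap L Ks y) = algebraMap L Ks y)
  (hmemL : ∀ x : Ks, (∀ σ ∈ G₀, σ x = x) → x ∈ Set.range (algebraMap L Ks))
  (hdec : ∀ σ ∈ G₀, ∀ x : integralClosure R Ks, x ∈ Ps →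
    ∃ h : σ (x : Ks) ∈ integralClosure R Ks, (⟨σ (x : Ks), h⟩ : integralClosure R Ks) ∈ Ps)
  (Q : Ideal (integralClosure R L)) [Q.IsPrime]
  (hQ : ∀ y : integralClosure R L, y ∈ Q ↔
    ∃ x : integralClosure R Ks, x ∈ Ps ∧ (x : Ks) = algebraMap L Ks (y : L))

/-- the inclusion of the integral closures -/
noncomputable def jmap : integralClosure R L →+* integralClosure R Ks :=
  ((algebraMap L Ks).comp (integralClosure R L).val.toRingHom).codRestrict
    (integralClosure R Ks) (fun y => by
      have : IsIntegral R (y : L) := y.2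
      exact this.map (IsScalarTower.toAlgHom R L Ks))

omit [IsDomain R] [IsFractionRing R K] [Algebra.IsAlgebraic K L] [IsSepClosed Ks]
  [IsScalarTower R K L] [IsScalarTower R K Ks] [IsScalarTower K L Ks] in
theorem jmap_coe (y : integralClosure R L) :
    ((jmap (R := R) (L := L) (Ks := Ks) y : integralClosure R Ks) : Ks)
      = algebraMap L Ks (y : L) := rfl

include hfix hmemL hdec hQ in
/-- The Galois core: an irreducible monic polynomial over the integral closure of `R` in the
fixed field `L` with a simple root modulo `Q` has a root. -/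
theorem core (g : (integralClosure R L)[X]) (hgm : g.Monic) (hirr : Irreducible g)
    (a₀ : integralClosure R L) (h₁ : g.eval a₀ ∈ Q) (h₂ : (derivative g).eval a₀ ∉ Q) :
    ∃ a : integralClosure R L, g.IsRoot a ∧ a - a₀ ∈ Q := by
  haveI := isFractionRing_intCl R K L
  haveI := isIntegrallyClosed_intCl R K L
  set j := jmap (R := R) (L := L) (Ks := Ks) with hj
  have hjinj : Function.Injective j := by
    intro x y hxy
    have := congrArg Subtype.val hxy
    rw [jmap_coe, jmap_coe] at this
    exact Subtype.ext ((algebraMap L Ks).injective this)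
  have hQj : ∀ y, y ∈ Q ↔ j y ∈ Ps := by
    intro y
    rw [hQ]
    constructor
    · rintro ⟨x, hx, hxy⟩
      have : x = j y := Subtype.ext (by rw [hxy, jmap_coe])
      rwa [← this]
    · intro h
      exact ⟨j y, h, jmap_coe y⟩
  -- separability
  have hd0 : derivative g ≠ 0 := by
    intro h0
    rw [h0, eval_zero] at h₂
    exact h₂ Q.zero_mem
  have hirrL : Irreducible (g.map (algebraMap (integralClosure R L) L)) :=
    (hgm.irreducible_iff_irreducible_map_fraction_map).1 hirr
  have hsepL : (g.map (algebraMap (integralClosure R L) L)).Separable := by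
    rw [separable_iff_derivative_ne_zero hirrL, derivative_map]
    intro h0
    exact hd0 ((Polynomial.map_eq_zero_iff (IsFractionRing.injective _ L)).1 h0)
  set ι : integralClosure R Ks →+* Ks := algebraMap (integralClosure R Ks) Ks with hι
  set f : integralClosure R L →+* Ks :=
    (algebraMap L Ks).comp (algebraMap (integralClosure R L) L) with hf
  have hιj : ι.comp j = f := RingHom.ext fun y => rfl
  set gs := g.map j with hgs
  have hgsmap : gs.map ι = (g.map (algebraMap (integralClosure R L) L)).map (algebraMap L Ks) := by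
    rw [hgs, Polynomial.map_map, Polynomial.map_map, hιj]
  have hgssep : (gs.map ι).Separable := by rw [hgsmap]; exact hsepL.map
  have hcl : ∀ x : Ks, IsIntegral (integralClosure R Ks) x → x ∈ Set.range ι :=
    fun x hx => ⟨⟨x, isIntegral_trans x hx⟩, rfl⟩
  have hev : ∀ x : integralClosure R L, gs.eval (j x) = j (g.eval x) := by
    intro x; rw [hgs, eval_map, eval₂_at_apply]
  obtain ⟨α, hα, hαc⟩ := exists_root_sub_mem Ps (Ω := Ks) Subtype.val_injective hcl gs.natDegree gs
    rfl (hgm.map j) hgssep (j a₀) (by rw [hev]; exact (hQj _).mp h₁)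
  have key : ∀ x : integralClosure R Ks, ι (gs.eval x) = g.eval₂ f (ι x) := by
    intro x
    rw [← Polynomial.eval₂_hom, hgs, eval₂_map, hιj]
  have hα0 : g.eval₂ f (ι α) = 0 := by rw [← key, hα.eq_zero, map_zero]
  -- the Galois argument
  have hσ : ∀ σ ∈ G₀, σ (ι α) = ι α := by
    intro σ hσ
    have hint : IsIntegral R (σ (ι α)) := by
      have h0 : IsIntegral R (ι α) := α.2
      exact h0.map (σ.toAlgHom.restrictScalars R)
    set α' : integralClosure R Ks := ⟨σ (ι α), hint⟩ with hα'def
    have hσf : (σ : Ks →+* Ks).comp f = f := RingHom.ext fun y => hfix σ hσ _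
    have hα' : gs.IsRoot α' := by
      apply Subtype.val_injective
      change ι (gs.eval α') = ι 0
      rw [key, map_zero]
      change g.eval₂ f (σ (ι α)) = 0
      have := Polynomial.hom_eval₂ g f (σ : Ks →+* Ks) (ι α)
      rw [hσf, hα0, map_zero] at this
      exact this.symm
    have hc' : j a₀ - α' ∈ Ps := by
      obtain ⟨h, hmem⟩ := hdec σ hσ (j a₀ - α) hαc
      convert hmem using 1
      apply Subtype.ext
      change ι (j a₀) - σ (ι α) = σ (ι (j a₀) - ι α)
      rw [map_sub]
      congr 1
      exact (hfix σ hσ _).symm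
    by_contra hne
    have hne' : α ≠ α' := fun h => hne (congrArg ι h).symm
    have := derivative_eval_mem_of_two_roots Ps gs α α' (j a₀) hne' hα hα' hαc hc'
    rw [hgs, derivative_map, eval_map, eval₂_at_apply, ← hQj] at this
    exact h₂ this
  obtain ⟨y, hy⟩ := hmemL (ι α) hσ
  have hyint : IsIntegral R y := by
    have h0 : IsIntegral R (ι α) := α.2
    rw [← hy] at h0
    exact (isIntegral_algebraMap_iff (algebraMap L Ks).injective).mp h0
  have hja : j ⟨y, hyint⟩ = α := Subtype.ext (by rw [jmap_coe]; exact hy)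
  refine ⟨⟨y, hyint⟩, ?_, ?_⟩
  · apply hjinj
    rw [← hev, hja, hα.eq_zero, map_zero]
  · rw [hQj, map_sub, hja]
    have := Ps.neg_mem hαc
    rwa [neg_sub] at this

omit [IsFractionRing R K] [Algebra.IsAlgebraic K L] [IsSepClosed Ks] [IsScalarTower R K L]
  [IsScalarTower R K Ks] [IsScalarTower R L Ks] [IsScalarTower K L Ks] [Algebra K Ks] [Algebra L Ks]
  [Algebra R Ks] in
theorem exists_split {A : Type u} [CommRing A] [IsDomain A] (F : A[X]) (hF : F.Monic)
    (h1 : F ≠ 1) (hirr : ¬ Irreducible F) :
    ∃ G H : A[X], G.Monic ∧ H.Monic ∧ G * H = F ∧ G.natDegree ≠ 0 ∧ H.natDegree ≠ 0 := by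
  rw [hF.irreducible_iff_natDegree] at hirr
  push Not at hirr
  obtain ⟨G, H, hG, hH, hGH, h2, h3⟩ := hirr h1
  exact ⟨G, H, hG, hH, hGH, h2, h3⟩

include hfix hmemL hdec hQ in
theorem lift_root : ∀ (n : ℕ) (g : (integralClosure R L)[X]), g.natDegree = n → g.Monic →
    ∀ a₀, g.eval a₀ ∈ Q → (derivative g).eval a₀ ∉ Q → ∃ a, g.IsRoot a ∧ a - a₀ ∈ Q := by
  intro n
  induction n using Nat.strong_induction_on with
  | _ n ih =>
  intro F hn hF a₀ h₁ h₂
  have hF1 : F ≠ 1 := by
    rintro rfl
    simp at h₂
  by_cases hirr : Irreducible F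
  · exact core Ps G₀ hfix hmemL hdec Q hQ F hF hirr a₀ h₁ h₂
  · obtain ⟨G, H, hG, hH, hGH, hG0, hH0⟩ := exists_split F hF hF1 hirr
    have hdeg : F.natDegree = G.natDegree + H.natDegree := by
      rw [← hGH, hG.natDegree_mul hH]
    have hev : F.eval a₀ = G.eval a₀ * H.eval a₀ := by rw [← hGH, eval_mul]
    have hder : (derivative F).eval a₀ =
        (derivative G).eval a₀ * H.eval a₀ + G.eval a₀ * (derivative H).eval a₀ := by
      rw [← hGH, derivative_mul, eval_add, eval_mul, eval_mul]
    rw [hev] at h₁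
    rw [hder] at h₂
    have hroot : ∀ (G H : (integralClosure R L)[X]), G * H = F → ∀ a, G.IsRoot a → F.IsRoot a := by
      intro G H hGH a ha
      rw [IsRoot.def] at ha ⊢
      rw [← hGH, eval_mul, ha, zero_mul]
    rcases Ideal.IsPrime.mem_or_mem inferInstance h₁ with hm | hm
    · have hu : (derivative G).eval a₀ ∉ Q := by
        intro h3
        exact h₂ (Q.add_mem (Q.mul_mem_right _ h3) (Q.mul_mem_right _ hm))
      obtain ⟨a, ha, haa⟩ := ih G.natDegree (by omega) G rfl hG a₀ hm hu
      exact ⟨a, hroot G H hGH a ha, haa⟩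
    · have hu : (derivative H).eval a₀ ∉ Q := by
        intro h3
        exact h₂ (Q.add_mem (Q.mul_mem_left _ hm) (Q.mul_mem_left _ h3))
      obtain ⟨a, ha, haa⟩ := ih H.natDegree (by omega) H rfl hH a₀ hm hu
      exact ⟨a, hroot H G (by rw [mul_comm, hGH]) a ha, haa⟩

include hfix hmemL hdec hQ in
/-- General form: the localisation at `Q = Ps ∩ L` of the integral closure of `R` in the fixed
field `L` of a set of automorphisms preserving `Ps` is henselian. -/
theorem henselian_main : HenselianLocalRing (Localization.AtPrime Q) :=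
  henselian_of_lift Q (Localization.AtPrime Q) fun g b₀ hg h1 h2 =>
    lift_root Ps G₀ hfix hmemL hdec Q hQ g.natDegree g rfl hg b₀ h1 h2

end galois

end Groth.Agent.Lib.T2H9.DecompHensel
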