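import Mathlib
import Groth.Agent.Lib.Helper4DimFormulaAD
import Groth.Agent.Lib.Helper4DimFormulaAE
import Groth.Agent.Lib.Helper4DimFormulaAL
import Groth.Agent.Lib.Helper6EquiSubC
import Groth.Agent.Lib.Helper4RectDepthC
import Groth.Agent.Lib.Helper4DimFormulaAJ
import Groth.Agent.Lib.T2H9GenSmooth

/-!
# Closed points of the generic fibre specializing to a given closed point, over a Dedekind base
(helper9, S7890)
-/

set_option autoImplicit false
set_option linter.style.haveILetI false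
set_option linter.unusedSectionVars false
universe u
open CategoryTheory CategoryTheory.Limits AlgebraicGeometry TopologicalSpace

namespace Groth.Agent.Lib.T2H9.DedSpec

/-- **Artin–Tate type lemma**: a Noetherian domain in which every nonzero prime contains a fixed
nonzero element has dimension at most one. -/
theorem ringKrullDim_le_one_of_forall_mem {D : Type*} [CommRing D] [IsDomain D]
    [IsNoetherianRing D] (π : D) (hπ : π ≠ 0)
    (h : ∀ Q : Ideal D, Q.IsPrime → Q ≠ ⊥ → π ∈ Q) : ringKrullDim D ≤ 1 := by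
  rw [ringKrullDim_le_iff_height_le]
  intro Q hQ
  by_cases hQ0 : Q = ⊥
  · subst hQ0
    have : (⊥ : Ideal D).height = 0 := by
      rw [Ideal.height_eq_zero_iff]
      exact ⟨⟨Ideal.isPrime_bot, bot_le⟩, fun _ _ _ => bot_le⟩
    rw [this]
    exact_mod_cast zero_le_one
  classical
  have hfin := Ideal.finite_minimalPrimes_of_isNoetherianRing D (Ideal.span {π})
  have hπQ : Ideal.span {π} ≤ Q := (Ideal.span_singleton_le_iff_mem _).mpr (h Q hQ hQ0)
  have hsub : (Q : Set D) ⊆ ⋃ q ∈ (↑hfin.toFinset : Set (Ideal D)), (q : Set D) := by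
    intro b hb
    by_cases hb0 : b = 0
    · obtain ⟨q, hq, hqQ⟩ := Ideal.exists_minimalPrimes_le hπQ
      refine Set.mem_biUnion (x := q) (by simpa using hq) ?_
      rw [hb0]
      exact q.zero_mem
    · obtain ⟨pb, hpb, hpbQ⟩ := Ideal.exists_minimalPrimes_le
        (show Ideal.span {b} ≤ Q from (Ideal.span_singleton_le_iff_mem _).mpr hb)
      haveI hpbprime : pb.IsPrime := hpb.1.1
      have hbpb : b ∈ pb := hpb.1.2 (Ideal.mem_span_singleton_self b)
      have hpb0 : pb ≠ ⊥ := fun h0 => hb0 (by rw [h0] at hbpb; exact hbpb)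
      have hπpb := h pb hpbprime hpb0
      obtain ⟨q, hq, hqpb⟩ := Ideal.exists_minimalPrimes_le
        (show Ideal.span {π} ≤ pb from (Ideal.span_singleton_le_iff_mem _).mpr hπpb)
      haveI hqprime : q.IsPrime := hq.1.1
      have hq0 : q ≠ ⊥ := fun h0 => hπ (by
        have := hq.1.2 (Ideal.mem_span_singleton_self π)
        rw [h0] at this
        exact this)
      have hqeq : q = pb := by
        by_contra hne
        have hlt : q < pb := lt_of_le_of_ne hqpb hne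
        have hpbh : pb.height ≤ 1 :=
          Ideal.height_le_one_of_isPrincipal_of_mem_minimalPrimes _ pb hpb
        haveI : (⊥ : Ideal D).IsPrime := Ideal.isPrime_bot
        have h1 : (⊥ : Ideal D).height + 1 ≤ q.height :=
          Ideal.height_add_one_le_of_lt_of_isPrime (bot_lt_iff_ne_bot.mpr hq0)
        have h2 : q.height + 1 ≤ pb.height := Ideal.height_add_one_le_of_lt_of_isPrime hlt
        have h3 : (1 : ℕ∞) ≤ q.height := le_trans (by simp) h1
        have h4 : (1 : ℕ∞) + 1 ≤ pb.height := le_trans (by gcongr) h2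
        have h5 : (1 : ℕ∞) + 1 ≤ 1 := le_trans h4 hpbh
        exact absurd h5 (by decide)
      refine Set.mem_biUnion (x := q) (by simpa using hq) ?_
      rw [hqeq]
      exact hbpb
  rw [Ideal.subset_union_prime ⊥ ⊥ (fun q hq _ _ => by
    have : q ∈ (Ideal.span {π}).minimalPrimes := by simpa using hq
    exact this.1.1)] at hsub
  obtain ⟨q, hq, hQq⟩ := hsub
  have hq' : q ∈ (Ideal.span {π}).minimalPrimes := by simpa using hq
  have h1 : Q.height ≤ q.height := Ideal.height_mono hQq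
  have h2 : q.height ≤ 1 := Ideal.height_le_one_of_isPrincipal_of_mem_minimalPrimes _ q hq'
  exact_mod_cast le_trans h1 h2

/-- a prime of `B` lying over `0` of a one-dimensional local domain `A₀`, of coheight one -/
theorem exists_prime_comap_eq_bot_ringKrullDim_quotient {A₀ B : Type*} [CommRing A₀] [IsDomain A₀]
    [IsLocalRing A₀] [CommRing B] [IsLocalRing B] [IsNoetherianRing B] (φ : A₀ →+* B)
    [IsLocalHom φ]
    (hA₀ : ∀ Q : Ideal A₀, Q.IsPrime → Q ≠ ⊥ → Q = IsLocalRing.maximalIdeal A₀)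
    (hm₀ : IsLocalRing.maximalIdeal A₀ ≠ ⊥)
    (𝔮₀ : Ideal B) (h𝔮₀ : 𝔮₀.IsPrime) (h𝔮₀c : Ideal.comap φ 𝔮₀ = ⊥) :
    ∃ (𝔭 : Ideal B) (_ : 𝔭.IsPrime), Ideal.comap φ 𝔭 = ⊥ ∧ ringKrullDim (B ⧸ 𝔭) = 1 := by
  obtain ⟨𝔭, ⟨h𝔭, h𝔭c⟩, hmax⟩ := set_has_maximal_iff_noetherian.mpr
    (inferInstance : IsNoetherian B B) {I : Ideal B | I.IsPrime ∧ Ideal.comap φ I = ⊥}
    ⟨𝔮₀, h𝔮₀, h𝔮₀c⟩
  refine ⟨𝔭, h𝔭, h𝔭c, ?_⟩
  obtain ⟨π₀, hπ₀m, hπ₀⟩ : ∃ π₀ ∈ IsLocalRing.maximalIdeal A₀, π₀ ≠ 0 := by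
    by_contra hcon
    push Not at hcon
    exact hm₀ ((Submodule.eq_bot_iff _).mpr hcon)
  have hπ𝔭 : φ π₀ ∉ 𝔭 := by
    intro hmem
    have : π₀ ∈ Ideal.comap φ 𝔭 := hmem
    rw [h𝔭c] at this
    exact hπ₀ this
  have h𝔭m : 𝔭 ≠ IsLocalRing.maximalIdeal B := by
    intro heq
    apply hπ𝔭
    rw [heq]
    exact (IsLocalRing.mem_maximalIdeal _).mpr (fun hu =>
      (IsLocalRing.mem_maximalIdeal _).mp hπ₀m (isUnit_of_map_unit φ π₀ hu))
  apply le_antisymm
  · apply ringKrullDim_le_one_of_forall_mem (Ideal.Quotient.mk 𝔭 (φ π₀))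
    · rwa [Ne, Ideal.Quotient.eq_zero_iff_mem]
    · intro Q hQ hQ0
      have hQc : (Q.comap (Ideal.Quotient.mk 𝔭)).IsPrime := Ideal.comap_isPrime _ _
      have hle : 𝔭 ≤ Q.comap (Ideal.Quotient.mk 𝔭) := by
        intro b hb
        rw [Ideal.mem_comap, Ideal.Quotient.eq_zero_iff_mem.mpr hb]
        exact Q.zero_mem
      have hne : 𝔭 ≠ Q.comap (Ideal.Quotient.mk 𝔭) := by
        intro heq
        apply hQ0
        rw [eq_bot_iff]
        intro d hd
        obtain ⟨b, rfl⟩ := Ideal.Quotient.mk_surjective d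
        have : b ∈ Q.comap (Ideal.Quotient.mk 𝔭) := hd
        rw [← heq] at this
        exact (Submodule.mem_bot _).mpr (Ideal.Quotient.eq_zero_iff_mem.mpr this)
      have hnot : ¬ (Ideal.comap φ (Q.comap (Ideal.Quotient.mk 𝔭)) = ⊥) := fun hc =>
        hmax _ ⟨hQc, hc⟩ (lt_of_le_of_ne hle hne)
      have hmax₀ := hA₀ _ (Ideal.comap_isPrime φ _) hnot
      have : π₀ ∈ Ideal.comap φ (Q.comap (Ideal.Quotient.mk 𝔭)) := by rw [hmax₀]; exact hπ₀m
      exact this
  · exact Groth.Agent.Lib.Helper4.DimFormula.one_le_ringKrullDim_quotient_of_ne_maximalIdeal 𝔭 h𝔭m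

open Groth.Agent.Lib.Helper4.VarDim Groth.Agent.Lib.Helper4.FibDim
  Groth.Agent.Lib.Helper4.DimFormula

/-- over a one-dimensional universally catenary local base, a closed point `x'` admits a
generization lying over the generic point of the base with residue field algebraic over it -/
theorem exists_prime_ptTrdeg_eq_zero {X S : Scheme.{u}} [IsLocallyNoetherian S] (f : X ⟶ S)
    [LocallyOfFiniteType f] (x' : X) (hx' : IsClosed ({x'} : Set X))
    [IsDomain (S.presheaf.stalk (f.base x'))]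
    (hA₀ : ∀ Q : Ideal (S.presheaf.stalk (f.base x')), Q.IsPrime → Q ≠ ⊥ →
      Q = IsLocalRing.maximalIdeal (S.presheaf.stalk (f.base x')))
    (hm₀ : IsLocalRing.maximalIdeal (S.presheaf.stalk (f.base x')) ≠ ⊥)
    (hcat : CAlg.IsUniversallyCatenary (S.presheaf.stalk (f.base x')))
    (hdimS : ringKrullDim (S.presheaf.stalk (f.base x')) = 1)
    (𝔮₀ : Ideal (X.presheaf.stalk x')) (h𝔮₀ : 𝔮₀.IsPrime)
    (h𝔮₀c : Ideal.comap (f.stalkMap x').hom 𝔮₀ = ⊥) :
    ∃ (𝔭 : Ideal (X.presheaf.stalk x')) (h𝔭 : 𝔭.IsPrime),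
      Ideal.comap (f.stalkMap x').hom 𝔭 = ⊥ ∧
      ptTrdeg f (X.fromSpecStalk x' ⟨𝔭, h𝔭⟩) = 0 := by
  haveI : IsLocallyNoetherian X := LocallyOfFiniteType.isLocallyNoetherian f
  obtain ⟨𝔭, h𝔭, h𝔭c, hdim⟩ := exists_prime_comap_eq_bot_ringKrullDim_quotient
    (f.stalkMap x').hom hA₀ hm₀ 𝔮₀ h𝔮₀ h𝔮₀c
  refine ⟨𝔭, h𝔭, h𝔭c, ?_⟩
  have h1 := ringKrullDim_quotient_add_ptTrdeg_eq f x' hcat 𝔭
  have h2 : ringKrullDim (S.presheaf.stalk (f.base x') ⧸
      Ideal.comap (f.stalkMap x').hom 𝔭) = 1 := by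
    rw [h𝔭c, ringKrullDim_eq_of_ringEquiv (RingEquiv.quotientBot _)]
    exact hdimS
  rw [hdim, ptTrdeg_eq_zero_of_isClosed f x' hx', h2] at h1
  have h3 : (1 + 0 : ℕ) = 1 + ptTrdeg f (X.fromSpecStalk x' ⟨𝔭, h𝔭⟩) := by exact_mod_cast h1
  omega

section Spec

variable (R : Type u) [CommRing R] [IsDomain R]

/-- a generization of `y ∈ Spec R` lies over the zero ideal iff its prime in the local ring is
zero -/
theorem asIdeal_fromSpecStalk_eq_bot_iff (y : ↥(Spec (CommRingCat.of R)))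
    (𝔮 : Ideal ((Spec (CommRingCat.of R)).presheaf.stalk y)) (h𝔮 : 𝔮.IsPrime) :
    ((Spec (CommRingCat.of R)).fromSpecStalk y ⟨𝔮, h𝔮⟩).asIdeal = ⊥ ↔ 𝔮 = ⊥ := by
  letI : Algebra R ((Spec (CommRingCat.of R)).presheaf.stalk y) :=
    StructureSheaf.stalkAlgebra (R := R) y
  haveI : IsLocalization.AtPrime ((Spec (CommRingCat.of R)).presheaf.stalk y) y.asIdeal :=
    StructureSheaf.IsLocalization.to_stalk (R := R) y
  have h1 : ((Spec (CommRingCat.of R)).fromSpecStalk y ⟨𝔮, h𝔮⟩).asIdeal =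
      Ideal.comap (algebraMap R ((Spec (CommRingCat.of R)).presheaf.stalk y)) 𝔮 := by
    rw [Spec.fromSpecStalk_eq']
    rfl
  rw [h1]
  constructor
  · intro h
    have h2 : Ideal.map (algebraMap R ((Spec (CommRingCat.of R)).presheaf.stalk y))
        (Ideal.comap (algebraMap R ((Spec (CommRingCat.of R)).presheaf.stalk y)) 𝔮) = 𝔮 :=
      IsLocalization.map_comap y.asIdeal.primeCompl
        ((Spec (CommRingCat.of R)).presheaf.stalk y) 𝔮
    rw [h, Ideal.map_bot] at h2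
    exact h2.symm
  · rintro rfl
    rw [← RingHom.ker_eq_comap_bot]
    exact (RingHom.injective_iff_ker_eq_bot _).mp
      (IsLocalization.injective _ y.asIdeal.primeCompl_le_nonZeroDivisors)

end Spec

/-- **closed points of the generic fibre specializing to a closed point** -/
theorem main {R : Type u} [CommRing R] [IsDedekindDomain R]
    {X : Scheme.{u}} [IrreducibleSpace X] (f : X ⟶ Spec (CommRingCat.of R))
    [LocallyOfFiniteType f]
    (hdom : DenseRange f.base) (x' : X) (hx' : IsClosed ({x'} : Set X))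
    (hs : (f.base x').asIdeal.IsMaximal) :
    ∃ x : X, (f.base x).asIdeal = ⊥ ∧
      (∀ z : X, (f.base z).asIdeal = ⊥ → x ⤳ z → z = x) ∧ x ⤳ x' := by
  by_cases h0 : (f.base x').asIdeal = ⊥
  · refine ⟨x', h0, fun z _ hz => ?_, specializes_rfl⟩
    have : z ∈ closure ({x'} : Set X) := specializes_iff_mem_closure.mp hz
    rw [hx'.closure_eq] at this
    exact this
  set p := f.base x' with hp
  letI : Algebra R ((Spec (CommRingCat.of R)).presheaf.stalk p) :=
    StructureSheaf.stalkAlgebra (R := R) p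
  haveI : IsLocalization.AtPrime ((Spec (CommRingCat.of R)).presheaf.stalk p) p.asIdeal :=
    StructureSheaf.IsLocalization.to_stalk (R := R) p
  haveI : IsDomain ((Spec (CommRingCat.of R)).presheaf.stalk p) :=
    IsLocalization.isDomain_of_atPrime _ p.asIdeal
  haveI : IsDiscreteValuationRing ((Spec (CommRingCat.of R)).presheaf.stalk p) :=
    IsLocalization.AtPrime.isDiscreteValuationRing_of_dedekind_domain R h0 _
  have hA₀ : ∀ Q : Ideal ((Spec (CommRingCat.of R)).presheaf.stalk p), Q.IsPrime → Q ≠ ⊥ →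
      Q = IsLocalRing.maximalIdeal ((Spec (CommRingCat.of R)).presheaf.stalk p) := by
    intro Q hQ hQ0
    haveI := Ring.DimensionLEOne.maximalOfPrime hQ0 hQ
    exact IsLocalRing.eq_maximalIdeal this
  have hm₀ := IsDiscreteValuationRing.not_a_field ((Spec (CommRingCat.of R)).presheaf.stalk p)
  have hcat : CAlg.IsUniversallyCatenary ((Spec (CommRingCat.of R)).presheaf.stalk p) :=
    Groth.Agent.Lib.Helper4.RectDepth.isUniversallyCatenary_of_isRegularLocalRing _
  have hdimS := IsDiscreteValuationRing.ringKrullDim_eq_one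
    ((Spec (CommRingCat.of R)).presheaf.stalk p)
  -- the generic point
  have hξ : f.base (genericPoint X) = genericPoint ↥(Spec (CommRingCat.of R)) :=
    Groth.Agent.Lib.T2H9.GenSmooth.map_genericPoint_of_denseRange f hdom
  obtain ⟨𝔮₀, h𝔮₀, h𝔮₀pt⟩ := exists_prime_fromSpecStalk_eq (genericPoint_specializes x')
  have h𝔮₀c : Ideal.comap (f.stalkMap x').hom 𝔮₀ = ⊥ := by
    rw [← asIdeal_fromSpecStalk_eq_bot_iff R p _ (Ideal.comap_isPrime _ _)]
    have := fromSpecStalk_comap_stalkMap f x' 𝔮₀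
    rw [this, h𝔮₀pt, hξ, genericPoint_eq_bot_of_affine]
    rfl
  obtain ⟨𝔭, h𝔭, h𝔭c, htr⟩ := exists_prime_ptTrdeg_eq_zero f x' hx' hA₀ hm₀ hcat hdimS
    𝔮₀ h𝔮₀ h𝔮₀c
  have hfx : (f.base (X.fromSpecStalk x' ⟨𝔭, h𝔭⟩)).asIdeal = ⊥ := by
    rw [← fromSpecStalk_comap_stalkMap f x' 𝔭, asIdeal_fromSpecStalk_eq_bot_iff]
    exact h𝔭c
  refine ⟨X.fromSpecStalk x' ⟨𝔭, h𝔭⟩, hfx, fun z hz hxz => ?_, fromSpecStalk_specializes x' _⟩
  by_contra hne
  have hfz : f.base (X.fromSpecStalk x' ⟨𝔭, h𝔭⟩) = f.base z :=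
    PrimeSpectrum.ext (hfx.trans hz.symm)
  have := Groth.Agent.Lib.Helper6.EquiSub.ptTrdeg_lt_of_specializes f _ z hfz hxz (Ne.symm hne)
  rw [htr] at this
  exact Nat.not_lt_zero _ this

end Groth.Agent.Lib.T2H9.DedSpec
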