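import Mathlib
import Groth.Prelude
import Groth.Agent.S9126
import Groth.Agent.Lib.Helper4DimFormulaAL
import Groth.Agent.Lib.Helper14FtPts
import Groth.Agent.Lib.Helper10PunctJac
import Groth.Agent.Lib.T2H9DedSpec
import Groth.Agent.Lib.Helper4DimFormulaAN
import Groth.Agent.Lib.Helper6EquiSubB
import Groth.Agent.Lib.Helper4FibDimL

/-!
# `dim closure {x}` versus `δ(x)` over a universally catenary local base (helper9, S8538)
-/

set_option autoImplicit false
set_option linter.style.haveILetI false
set_option linter.unusedSectionVars false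
universe u
open CategoryTheory CategoryTheory.Limits AlgebraicGeometry TopologicalSpace IsLocalRing

namespace Groth.Agent.Lib.T2H9.DeltaDim

open Groth.Agent.Lib.Helper4.DimFormula Groth.Agent.Lib.Helper4.VarDim Groth.Agent.Lib.Helper4.FibDim

section Ring

/-- A locally closed point of the spectrum of a Noetherian ring has coheight at most one. -/
theorem ringKrullDim_quotient_le_one_of_isLocallyClosed {A : Type*} [CommRing A]
    [IsNoetherianRing A] (x : PrimeSpectrum A) (hx : IsLocallyClosed ({x} : Set (PrimeSpectrum A))) :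
    ringKrullDim (A ⧸ x.asIdeal) ≤ 1 := by
  obtain ⟨g, hg, h⟩ := Groth.Agent.Lib.Helper10.PunctJac.exists_basicOpen_of_isLocallyClosed_singleton hx
  haveI : IsDomain (A ⧸ x.asIdeal) := Ideal.Quotient.isDomain _
  refine Groth.Agent.Lib.T2H9.DedSpec.ringKrullDim_le_one_of_forall_mem
    (Ideal.Quotient.mk x.asIdeal g) ?_ ?_
  · rw [Ne, Ideal.Quotient.eq_zero_iff_mem]
    exact hg
  · intro Q hQ hQ0
    by_contra hgQ
    have hQ' : (Ideal.comap (Ideal.Quotient.mk x.asIdeal) Q).IsPrime := Ideal.comap_isPrime _ _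
    have hle : x.asIdeal ≤ Ideal.comap (Ideal.Quotient.mk x.asIdeal) Q := by
      intro a ha
      rw [Ideal.mem_comap, Ideal.Quotient.eq_zero_iff_mem.mpr ha]
      exact zero_mem _
    have heq := h _ hQ' hle (fun hg' => hgQ (Ideal.mem_comap.mp hg'))
    apply hQ0
    rw [← Ideal.map_comap_of_surjective (Ideal.Quotient.mk x.asIdeal)
      Ideal.Quotient.mk_surjective Q, heq, Ideal.map_quotient_self]

end Ring

section Base

variable (A : Type u) [CommRing A]

/-- All local rings of `Spec A` are universally catenary when `A` is. -/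
theorem isUniversallyCatenary_stalk_Spec (hA : CAlg.IsUniversallyCatenary A)
    (s : ↥(Spec (CommRingCat.of A))) :
    CAlg.IsUniversallyCatenary ((Spec (CommRingCat.of A)).presheaf.stalk s) := by
  letI : Algebra A ((Spec (CommRingCat.of A)).presheaf.stalk s) :=
    StructureSheaf.stalkAlgebra (R := A) s
  haveI : IsLocalization.AtPrime ((Spec (CommRingCat.of A)).presheaf.stalk s) s.asIdeal :=
    StructureSheaf.IsLocalization.to_stalk (R := A) s
  haveI : Algebra.EssFiniteType A ((Spec (CommRingCat.of A)).presheaf.stalk s) :=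
    Algebra.EssFiniteType.of_isLocalization _ s.asIdeal.primeCompl
  exact Groth.Agent.S9126.result _ _ hA

variable [IsLocalRing A]

/-- the dimension of `O_{S,m}/𝔭` at the closed point of `S = Spec A` is `dim A/q`, `q` the prime
of `A` attached to `𝔭`. -/
theorem ringKrullDim_stalk_closedPoint_quotient (σ : ↥(Spec (CommRingCat.of A)))
    (𝔭 : Ideal ((Spec (CommRingCat.of A)).presheaf.stalk
      ((closedPoint A : PrimeSpectrum A) : ↥(Spec (CommRingCat.of A))))) [h𝔭 : 𝔭.IsPrime]
    (hσ : (Spec (CommRingCat.of A)).fromSpecStalk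
      ((closedPoint A : PrimeSpectrum A) : ↥(Spec (CommRingCat.of A))) ⟨𝔭, h𝔭⟩ = σ) :
    ringKrullDim ((Spec (CommRingCat.of A)).presheaf.stalk
      ((closedPoint A : PrimeSpectrum A) : ↥(Spec (CommRingCat.of A))) ⧸ 𝔭) =
      ringKrullDim (A ⧸ σ.asIdeal) := by
  have h1 := topologicalKrullDim_setOf_mem_closure_specializes (S := Spec (CommRingCat.of A))
    ((closedPoint A : PrimeSpectrum A) : ↥(Spec (CommRingCat.of A))) 𝔭 (closure {σ})
    (by rw [hσ])
  rw [← h1]
  set q : Ideal A := PrimeSpectrum.asIdeal (R := A) σ with hq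
  change _ = ringKrullDim (A ⧸ q)
  set ψ : PrimeSpectrum (A ⧸ q) → PrimeSpectrum A :=
    PrimeSpectrum.comap (Ideal.Quotient.mk q) with hψdef
  have hψ : Topology.IsEmbedding ψ :=
    (PrimeSpectrum.isClosedEmbedding_comap_of_surjective _ _
      Ideal.Quotient.mk_surjective).isEmbedding
  have hr : Set.range ψ = PrimeSpectrum.zeroLocus (q : Set A) := by
    rw [hψdef, _root_.range_comap_of_surjective _ _ Ideal.Quotient.mk_surjective, Ideal.mk_ker]
  have hcl : closure ({σ} : Set (PrimeSpectrum A)) = PrimeSpectrum.zeroLocus (q : Set A) :=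
    PrimeSpectrum.closure_singleton (R := A) σ
  have hrange : Set.range ψ = {t : ↥(Spec (CommRingCat.of A)) | t ∈ closure {σ} ∧
      t ⤳ ((closedPoint A : PrimeSpectrum A) : ↥(Spec (CommRingCat.of A)))} := by
    rw [hr, ← hcl]
    ext t
    constructor
    · intro ht
      exact ⟨ht, IsLocalRing.specializes_closedPoint (R := A) t⟩
    · rintro ⟨ht, -⟩
      exact ht
  have e1 : topologicalKrullDim ↥(Set.range ψ) = ringKrullDim (A ⧸ q) := by
    rw [← (hψ.toHomeomorph).isHomeomorph.topologicalKrullDim_eq,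
      PrimeSpectrum.topologicalKrullDim_eq_ringKrullDim]
  rw [← e1]
  exact congrArg (fun s : Set (PrimeSpectrum A) => topologicalKrullDim ↥s) hrange.symm

end Base


section Main

variable {A : Type u} [CommRing A] [IsNoetherianRing A] [IsLocalRing A]

/-- closed points of a scheme locally of finite type over `Spec A` map to locally closed points -/
theorem isLocallyClosed_singleton_base {Z : Scheme.{u}} (p : Z ⟶ Spec (CommRingCat.of A))
    [LocallyOfFiniteType p] (z : Z) (hz : IsClosed ({z} : Set Z)) :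
    IsLocallyClosed ({p.base z} : Set (PrimeSpectrum A)) := by
  haveI : IsClosedImmersion (Z.fromSpecResidueField z) :=
    isClosed_singleton_iff_isClosedImmersion.mp hz
  haveI : LocallyOfFiniteType (Z.fromSpecResidueField z ≫ p) := inferInstance
  obtain ⟨U, -, hu, hcl⟩ :=
    Groth.Agent.Lib.Helper14.exists_affineOpen_isClosed_of_locallyOfFiniteType
      (Spec (CommRingCat.of A)) (Z.residueField z) (Z.fromSpecResidueField z ≫ p)
      (IsLocalRing.closedPoint (Z.residueField z))
  have hpt : (Z.fromSpecResidueField z ≫ p).base (IsLocalRing.closedPoint (Z.residueField z)) =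
      p.base z := by
    rw [Scheme.Hom.comp_base, TopCat.comp_app, Scheme.fromSpecResidueField_apply]
  generalize (Z.fromSpecResidueField z ≫ p).base (IsLocalRing.closedPoint (Z.residueField z)) = w
    at hu hcl hpt
  subst hpt
  obtain ⟨C, hC, hCeq⟩ := isClosed_induced_iff.mp hcl
  refine ⟨(U : Set ↥(Spec (CommRingCat.of A))), C, U.isOpen, hC, ?_⟩
  ext t
  constructor
  · rintro rfl
    refine ⟨hu, ?_⟩
    have : (⟨p.base z, hu⟩ : ↥U) ∈ Subtype.val ⁻¹' C := by rw [hCeq]; rfl
    exact this
  · rintro ⟨htU, htC⟩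
    have : (⟨t, htU⟩ : ↥U) ∈ ({⟨p.base z, hu⟩} : Set ↥U) := by rw [← hCeq]; exact htC
    exact congrArg Subtype.val this


/-- For a closed point `z` of an irreducible scheme `Z` locally of finite type over `S = Spec A`
(`A` universally catenary local):
`dim O_{Z,z} + dim A/q_{p z} = dim A/q_{p ξ} + trdeg κ(ξ)/κ(p ξ)`, `ξ` the generic point. -/
theorem ringKrullDim_stalk_add_eq_of_isClosed (hA : CAlg.IsUniversallyCatenary A)
    {Z : Scheme.{u}} [IrreducibleSpace Z] (p : Z ⟶ Spec (CommRingCat.of A))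
    [LocallyOfFiniteType p] (z : Z) (hz : IsClosed ({z} : Set Z)) :
    ringKrullDim (Z.presheaf.stalk z) + ringKrullDim (A ⧸ (p.base z).asIdeal) =
      ringKrullDim (A ⧸ (p.base (genericPoint Z)).asIdeal) +
        (ptTrdeg p (genericPoint Z) : WithBot ℕ∞) := by
  have hcat := isUniversallyCatenary_stalk_Spec A hA
  set m : ↥(Spec (CommRingCat.of A)) :=
    ((closedPoint A : PrimeSpectrum A) : ↥(Spec (CommRingCat.of A))) with hm
  obtain ⟨𝔭, h𝔭, hξ⟩ := exists_prime_fromSpecStalk_eq (genericPoint_specializes z)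
  have h1 := ringKrullDim_quotient_add_ptTrdeg_eq p z (hcat _) 𝔭
  have h2 : ringKrullDim (Z.presheaf.stalk z ⧸ 𝔭) = ringKrullDim (Z.presheaf.stalk z) :=
    ringKrullDim_quotient_eq_of_forall_specializes z 𝔭 (fun x' _ => by
      rw [hξ]
      exact genericPoint_specializes x')
  rw [h2, hξ, ptTrdeg_eq_zero_of_isClosed p z hz, Nat.cast_zero, add_zero] at h1
  -- the base
  have hpt'' : (Spec (CommRingCat.of A)).fromSpecStalk (p.base z) ⟨Ideal.comap (p.stalkMap z).hom 𝔭, Ideal.comap_isPrime _ _⟩ =
      p.base (genericPoint Z) := by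
    rw [fromSpecStalk_comap_stalkMap, hξ]
  have hsm : p.base z ⤳ m := IsLocalRing.specializes_closedPoint (R := A) (p.base z)
  have hσs : p.base (genericPoint Z) ⤳ p.base z :=
    (genericPoint_specializes z).map p.continuous
  obtain ⟨𝔮s, h𝔮s, hpts⟩ := exists_prime_fromSpecStalk_eq hsm
  obtain ⟨𝔮σ, h𝔮σ, hptσ⟩ := exists_prime_fromSpecStalk_eq (hσs.trans hsm)
  have hle : 𝔮σ ≤ 𝔮s := (fromSpecStalk_specializes_iff m 𝔮σ 𝔮s).mp (by
    rw [hpts, hptσ]
    exact hσs)
  have h4 := ringKrullDim_quotient_eq_add_of_isUniversallyCatenary m (hcat m) 𝔮σ 𝔮s hle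
    (p.base z) hpts (Ideal.comap (p.stalkMap z).hom 𝔭) (hpt''.trans hptσ.symm)
  have h5 := ringKrullDim_stalk_closedPoint_quotient A (p.base (genericPoint Z)) 𝔮σ hptσ
  have h6 := ringKrullDim_stalk_closedPoint_quotient A (p.base z) 𝔮s hpts
  rw [h5, h6] at h4
  rw [h1, h4]
  abel


/-- the dimension of a compact scheme is controlled by its closed points -/
theorem topologicalKrullDim_le_of_forall_isClosed (Z : Scheme.{u}) [CompactSpace Z]
    (N : WithBot ℕ∞)
    (h : ∀ z : Z, IsClosed ({z} : Set Z) → ringKrullDim (Z.presheaf.stalk z) ≤ N) :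
    topologicalKrullDim Z ≤ N := by
  rw [topologicalKrullDim_eq_iSup_ringKrullDim_stalk Z]
  refine iSup_le fun z => ?_
  obtain ⟨z', hz'1, hz'2⟩ := IsClosed.exists_closed_singleton (isClosed_closure (s := ({z} : Set Z)))
    ⟨z, subset_closure rfl⟩
  have hsp : z ⤳ z' := specializes_iff_mem_closure.mpr hz'1
  refine le_trans ?_ (h z' hz'2)
  rw [ringKrullDim_stalk_eq_coheight, ringKrullDim_stalk_eq_coheight]
  exact WithBot.coe_le_coe.mpr (Order.coheight_anti hsp)

attribute [local instance] Curv2.resAlgebra in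
/-- **`dim closure {x}` versus `δ(x)`** over a universally catenary local base. -/
theorem main (hA : CAlg.IsUniversallyCatenary A) {X : Scheme.{u}}
    (f : X ⟶ Spec (CommRingCat.of A)) [LocallyOfFiniteType f] [QuasiCompact f] (x : X)
    (a b d : ℕ) (ha : ringKrullDim (A ⧸ (f.base x).asIdeal) = a) (hb : ptTrdeg f x = b)
    (hd : topologicalKrullDim ↥(closure ({x} : Set X)) = d) :
    ((closure ({x} : Set X) ∩ f.base ⁻¹'
        {((closedPoint A : PrimeSpectrum A) : ↥(Spec (CommRingCat.of A)))}).Nonempty →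
      d = a + b) ∧
    (closure ({x} : Set X) ∩ f.base ⁻¹'
        {((closedPoint A : PrimeSpectrum A) : ↥(Spec (CommRingCat.of A)))} = ∅ →
      d + 1 = a + b) := by
  set X' : TopologicalSpace.Closeds X := ⟨closure {x}, isClosed_closure⟩ with hX'
  have hx' : closure ({x} : Set X) = (X' : Set X) := rfl
  haveI : IrreducibleSpace ↥(Scheme.IdealSheafData.vanishingIdeal X').subscheme :=
    Groth.Agent.Lib.Helper6.EquiSub.irreducibleSpace_subscheme X' x hx'
  have hgen := Groth.Agent.Lib.Helper6.EquiSub.subschemeι_genericPoint X' x hx'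
  have hrange := Groth.Agent.Lib.Helper6.EquiSub.range_subschemeι_vanishingIdeal X'
  set Z := (Scheme.IdealSheafData.vanishingIdeal X').subscheme with hZ
  set ι : Z ⟶ X := (Scheme.IdealSheafData.vanishingIdeal X').subschemeι with hι
  haveI : CompactSpace Z := QuasiCompact.compactSpace_of_compactSpace (ι ≫ f)
  -- dimension of `Z`
  have hdimZ : topologicalKrullDim Z = d := by
    rw [← hd, (ι.isEmbedding.toHomeomorph).isHomeomorph.topologicalKrullDim_eq]
    exact congrArg (fun s : Set X => topologicalKrullDim ↥s) hrange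
  have hptr : ptTrdeg (ι ≫ f) (genericPoint Z) = b := by
    rw [ptTrdeg_comp_of_isPreimmersion ι f, hgen, hb]
  have hpgen : (ι ≫ f).base (genericPoint Z) = f.base x := by
    rw [Scheme.Hom.comp_base, TopCat.comp_app, hgen]
  have key : ∀ z : Z, IsClosed ({z} : Set Z) →
      ringKrullDim (Z.presheaf.stalk z) + ringKrullDim (A ⧸ ((ι ≫ f).base z).asIdeal) =
        ((a + b : ℕ) : WithBot ℕ∞) := by
    intro z hz
    have := ringKrullDim_stalk_add_eq_of_isClosed hA (ι ≫ f) z hz
    rw [hpgen, ha, hptr] at this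
    rw [this]
    push_cast
    rfl
  have hle1 : ∀ z : Z, IsClosed ({z} : Set Z) →
      ringKrullDim (A ⧸ ((ι ≫ f).base z).asIdeal) ≤ 1 := fun z hz =>
    ringKrullDim_quotient_le_one_of_isLocallyClosed _
      (isLocallyClosed_singleton_base (ι ≫ f) z hz)
  have hnonneg : ∀ z : Z, 0 ≤ ringKrullDim (A ⧸ ((ι ≫ f).base z).asIdeal) := fun z => by
    haveI : Nontrivial (A ⧸ ((ι ≫ f).base z).asIdeal) :=
      Ideal.Quotient.nontrivial_iff.mpr ((ι ≫ f).base z).isPrime.ne_top
    exact ringKrullDim_nonneg_of_nontrivial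
  constructor
  · rintro ⟨t, htcl, htm⟩
    rw [hx', ← hrange] at htcl
    obtain ⟨w, rfl⟩ := htcl
    have hmcl : IsClosed ({((closedPoint A : PrimeSpectrum A) : ↥(Spec (CommRingCat.of A)))} :
        Set ↥(Spec (CommRingCat.of A))) := IsLocalRing.isClosed_singleton_closedPoint (R := A)
    obtain ⟨z₀, hz₀m, hz₀⟩ := IsClosed.exists_closed_singleton
      (hmcl.preimage (ι ≫ f).continuous) ⟨w, htm⟩
    have hz₀m' : (ι ≫ f).base z₀ = closedPoint A := hz₀m
    have h0 : ringKrullDim (A ⧸ ((ι ≫ f).base z₀).asIdeal) = 0 := by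
      rw [hz₀m']
      haveI : (closedPoint A).asIdeal.IsMaximal := IsLocalRing.maximalIdeal.isMaximal A
      letI := Ideal.Quotient.field (closedPoint A).asIdeal
      exact ringKrullDim_eq_zero_of_field _
    have hk₀ := key z₀ hz₀
    rw [h0, add_zero] at hk₀
    have hle : topologicalKrullDim Z ≤ ((a + b : ℕ) : WithBot ℕ∞) :=
      topologicalKrullDim_le_of_forall_isClosed Z _ (fun z hz => by
        rw [← key z hz]
        exact le_add_of_nonneg_right (hnonneg z))
    have hge : ((a + b : ℕ) : WithBot ℕ∞) ≤ topologicalKrullDim Z := by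
      rw [← hk₀]
      exact ringKrullDim_stalk_le_topologicalKrullDim Z z₀
    have := le_antisymm hle hge
    rw [hdimZ] at this
    exact_mod_cast this
  · intro hempty
    have hne : ∀ z : Z, ((ι ≫ f).base z).asIdeal ≠ maximalIdeal A := by
      intro z hz
      have : ι.base z ∈ closure ({x} : Set X) ∩ f.base ⁻¹'
          {((closedPoint A : PrimeSpectrum A) : ↥(Spec (CommRingCat.of A)))} := by
        refine ⟨?_, ?_⟩
        · rw [hx', ← hrange]
          exact ⟨z, rfl⟩
        · exact PrimeSpectrum.ext hz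
      rw [hempty] at this
      exact this
    have h1 : ∀ z : Z, IsClosed ({z} : Set Z) →
        ringKrullDim (A ⧸ ((ι ≫ f).base z).asIdeal) = 1 := fun z hz =>
      le_antisymm (hle1 z hz)
        (one_le_ringKrullDim_quotient_of_ne_maximalIdeal ((ι ≫ f).base z).asIdeal (hne z))
    have key' : ∀ z : Z, IsClosed ({z} : Set Z) →
        ringKrullDim (Z.presheaf.stalk z) + 1 = ((a + b : ℕ) : WithBot ℕ∞) := by
      intro z hz
      rw [← key z hz, h1 z hz]
    obtain ⟨z₁, -, hz₁⟩ := IsClosed.exists_closed_singleton (isClosed_univ (X := Z))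
      ⟨genericPoint Z, trivial⟩
    have hle : topologicalKrullDim Z ≤ ringKrullDim (Z.presheaf.stalk z₁) :=
      topologicalKrullDim_le_of_forall_isClosed Z _ (fun z hz => by
        have := (key' z hz).trans (key' z₁ hz₁).symm
        exact (withBot_enat_add_nat_cancel 1 (by exact_mod_cast this)).le)
    have heq := le_antisymm hle (ringKrullDim_stalk_le_topologicalKrullDim Z z₁)
    have := key' z₁ hz₁
    rw [← heq, hdimZ] at this
    exact_mod_cast this

end Main

end Groth.Agent.Lib.T2H9.DeltaDim
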