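import Groth.Agent.Lib.Helper13KzTor
import Groth.Agent.Lib.Helper13KzDim
import Groth.Agent.Lib.Helper5RLR
import Groth.Agent.Lib.Helper5RLR2
import Groth.Agent.Lib.Helper5RLR3
import Groth.Agent.Lib.Helper28DepthCM2
import Groth.Agent.Lib.Helper28FlatNormal
import Groth.Agent.Lib.Helper19ComplIso
import Groth.Agent.S1914

/-!
# Ring-level Tor-formula intersection multiplicities (T2H9)

* `nonempty_tor_symm`, `chi_symm`: symmetry of `Tor` and of `IntMult.chi`.
* `intMult_chi_eq_length`: `χ(A/(l), M) = length (M/(l)M)` when `l` is regular on `A` and on `M`.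
* `chi_of_principal`, `chi_of_CM`, `tendsto_and_pos`, `chi_of_length_one`: the ring-level forms of the
  statements on intersection multiplicities of properly meeting subvarieties.
-/

set_option autoImplicit false
set_option linter.style.haveILetI false
set_option linter.unusedSectionVars false
set_option linter.unusedVariables false
universe u
open CategoryTheory MonoidalCategory

namespace Groth.Agent.Lib.T2H9.IntMultRing

open Groth.Agent.Helper13Tor Groth.Agent.Helper13Kz RingTheory.Sequence IsLocalRing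

variable {A : Type u} [CommRing A]

/-- symmetry of Tor -/
theorem nonempty_tor_symm (M N : ModuleCat.{u} A) (n : ℕ) :
    Nonempty (((Tor (ModuleCat.{u} A) n).obj M).obj N ≅ ((Tor (ModuleCat.{u} A) n).obj N).obj M) := by
  let P : ProjectiveResolution M := ProjectiveResolution.of M
  obtain ⟨e⟩ := nonempty_tor_iso_homology M N P n
  let α : tensorRight N ≅ tL N := (BraidedCategory.tensorLeftIsoTensorRight N).symm
  exact ⟨e ≪≫ (HomologicalComplex.homologyFunctor _ _ n).mapIso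
    ((NatIso.mapHomologicalComplex α (ComplexShape.down ℕ)).app P.complex) ≪≫ (torIso P N n).symm⟩

theorem chi_symm (M N : Type u) [AddCommGroup M] [Module A M] [AddCommGroup N] [Module A N] :
    IntMult.chi A M N = IntMult.chi A N M := by
  unfold IntMult.chi
  congr 1
  funext i
  obtain ⟨e⟩ := nonempty_tor_symm (ModuleCat.of A M) (ModuleCat.of A N) i
  have : Module.length A (DRing.Tor A i M N) = Module.length A (DRing.Tor A i N M) :=
    e.toLinearEquiv.length_eq
  rw [this]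


theorem chi_eq_length_of_isWeaklyRegular : ∀ (l : List A) (M : Type u) [AddCommGroup M] [Module A M],
    IsWeaklyRegular M l →
      chi l M = ((Module.length A (M ⧸ (Ideal.ofList l • ⊤ : Submodule A M))).toNat : ℤ)
  | [], M, _, _, _ => by
    rw [chi_nil]
    have e : (M ⧸ (Ideal.ofList ([] : List A) • ⊤ : Submodule A M)) ≃ₗ[A] M :=
      Submodule.quotEquivOfEqBot _ (by rw [Ideal.ofList_nil, Submodule.bot_smul])
    rw [e.length_eq]
  | x :: l, M, _, _, h => by
    have h' := (isWeaklyRegular_cons_iff M x l).mp h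
    rw [chi_cons_of_regular l x h'.1, chi_eq_length_of_isWeaklyRegular l (QuotSMulTop x M) h'.2,
      (Submodule.quotOfListConsSMulTopEquivQuotSMulTopInner M x l).length_eq]

/-- the Tor Euler characteristic of `A/(l)` against a module on which `l` is regular -/
theorem intMult_chi_eq_length (l : List A) (hl : IsWeaklyRegular A l) (M : Type u) [AddCommGroup M]
    [Module A M] (hM : IsWeaklyRegular M l) :
    IntMult.chi A (A ⧸ Ideal.ofList l) M =
      ((Module.length A (M ⧸ (Ideal.ofList l • ⊤ : Submodule A M))).toNat : ℤ) := by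
  rw [intMult_chi_eq_chi l hl M, chi_eq_length_of_isWeaklyRegular l M hM]

/-- `(A/Q)/I(A/Q) ≃ A/(Q ⊔ I)` -/
noncomputable def quotQuotEquiv (Q I : Ideal A) :
    ((A ⧸ Q) ⧸ (I • ⊤ : Submodule A (A ⧸ Q))) ≃ₗ[A] (A ⧸ (Q ⊔ I)) := by
  have h : (I • ⊤ : Submodule A (A ⧸ Q)) = Submodule.map (Submodule.mkQ Q) I := by
    have h1 : (I : Submodule A A) = I • (⊤ : Submodule A A) := by
      rw [smul_eq_mul, Ideal.mul_top]
    rw [h1, Submodule.map_smul'', Submodule.map_top, Submodule.range_mkQ]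
    congr 1
    rw [smul_eq_mul, Ideal.mul_top]
  exact (Submodule.quotEquivOfEq _ _ h).trans (Submodule.quotientQuotientEquivQuotientSup Q I)


/-- the core computation -/
theorem chi_eq_length_quot (P Q : Ideal A) (l : List A) (hP : P = Ideal.ofList l)
    (hl : IsWeaklyRegular A l) (hlQ : IsWeaklyRegular (A ⧸ Q) l) :
    IntMult.chi A (A ⧸ Q) (A ⧸ P) = ((Module.length A (A ⧸ (Q ⊔ P))).toNat : ℤ) := by
  subst hP
  rw [chi_symm, intMult_chi_eq_length l hl (A ⧸ Q) hlQ, (quotQuotEquiv Q (Ideal.ofList l)).length_eq]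

section Local

variable [IsLocalRing A] [IsNoetherianRing A] (P Q : Ideal A)

theorem fli (hmax : ∀ 𝔭 : Ideal A, 𝔭.IsPrime → P ⊔ Q ≤ 𝔭 → 𝔭.IsMaximal) : FLI P (A ⧸ Q) := by
  intro p hp hP
  refine hmax p.asIdeal p.2 (sup_le hP ?_)
  rw [Module.mem_support_iff_of_finite, Ideal.annihilator_quotient] at hp
  exact hp

theorem exists_nat_dim_quot (I : Ideal A) (hI : I ≠ ⊤) : ∃ a : ℕ, ringKrullDim (A ⧸ I) = a := by
  haveI := Groth.Agent.Lib.Helper5.isLocalRing_quotient hI
  exact Groth.Agent.Lib.Helper5.exists_nat_ringKrullDim_eq (A ⧸ I)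

theorem mem_maximalIdeal_of_mem_ofList (l : List A) (hne : Ideal.ofList l ≠ ⊤) :
    ∀ a ∈ l, a ∈ maximalIdeal A := fun a ha =>
  IsLocalRing.le_maximalIdeal hne (Ideal.subset_span ha)

/-- `dim A/Q = c` when `P` is generated by a regular sequence of length `c` -/
theorem ringKrullDim_quot_eq_length (l : List A) (hP : P = Ideal.ofList l) (hreg : IsRegular A l)
    (hPne : P ≠ ⊤) (hQne : Q ≠ ⊤)
    (hmax : ∀ 𝔭 : Ideal A, 𝔭.IsPrime → P ⊔ Q ≤ 𝔭 → 𝔭.IsMaximal)
    (hdim : ringKrullDim A ≤ ringKrullDim (A ⧸ P) + ringKrullDim (A ⧸ Q)) :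
    ringKrullDim (A ⧸ Q) = (l.length : WithBot ℕ∞) := by
  subst hP
  have hF := fli _ Q hmax
  have h1 := supportDim_le_length_of_FLI (A ⧸ Q) l (mem_maximalIdeal_of_mem_ofList l hPne) hF
  rw [Module.supportDim_quotient_eq_ringKrullDim] at h1
  refine le_antisymm h1 ?_
  have h2 := ringKrullDim_add_length_eq_ringKrullDim_of_isRegular l hreg
  obtain ⟨a, ha⟩ := exists_nat_dim_quot (Ideal.ofList l) hPne
  obtain ⟨q, hq⟩ := exists_nat_dim_quot Q hQne
  rw [← h2, ha, hq] at hdim
  rw [hq]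
  have : a + l.length ≤ a + q := by exact_mod_cast hdim
  have : l.length ≤ q := by omega
  exact_mod_cast this

theorem supportDim_quot_le_zero (hmax : ∀ 𝔭 : Ideal A, 𝔭.IsPrime → P ⊔ Q ≤ 𝔭 → 𝔭.IsMaximal) :
    Module.supportDim A ((A ⧸ Q) ⧸ (P • ⊤ : Submodule A (A ⧸ Q))) ≤ 0 := by
  apply Groth.Agent.Lib.Helper5.supportDim_le_zero_of_forall_isMaximal
  intro p hp
  rw [Module.support_quotient] at hp
  exact fli P Q hmax p hp.1 hp.2

theorem supportDim_quot_eq_zero (hPne : P ≠ ⊤) (hQne : Q ≠ ⊤)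
    (hmax : ∀ 𝔭 : Ideal A, 𝔭.IsPrime → P ⊔ Q ≤ 𝔭 → 𝔭.IsMaximal) :
    Module.supportDim A ((A ⧸ Q) ⧸ (P • ⊤ : Submodule A (A ⧸ Q))) = 0 := by
  refine le_antisymm (supportDim_quot_le_zero P Q hmax) ?_
  have hne : Q ⊔ P ≠ ⊤ := by
    intro h
    have hle : Q ⊔ P ≤ maximalIdeal A :=
      sup_le (IsLocalRing.le_maximalIdeal hQne) (IsLocalRing.le_maximalIdeal hPne)
    rw [h] at hle
    exact (maximalIdeal.isMaximal A).ne_top (top_le_iff.mp hle)
  haveI : Nontrivial (A ⧸ (Q ⊔ P)) := Ideal.Quotient.nontrivial_iff.mpr hne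
  haveI : Nontrivial ((A ⧸ Q) ⧸ (P • ⊤ : Submodule A (A ⧸ Q))) :=
    (quotQuotEquiv Q P).toEquiv.nontrivial
  have hb : Module.supportDim A ((A ⧸ Q) ⧸ (P • ⊤ : Submodule A (A ⧸ Q))) ≠ ⊥ :=
    (Module.supportDim_ne_bot_iff_nontrivial A _).mpr inferInstance
  obtain ⟨e, he⟩ := WithBot.ne_bot_iff_exists.mp hb
  rw [← he]
  exact_mod_cast (zero_le : (0 : ℕ∞) ≤ e)

/-- principal case -/
theorem chi_of_principal [hQp : Q.IsPrime] (hPne : P ≠ ⊤) (g : A) (hP : P = Ideal.span {g})
    (hg : IsSMulRegular A g)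
    (hmax : ∀ 𝔭 : Ideal A, 𝔭.IsPrime → P ⊔ Q ≤ 𝔭 → 𝔭.IsMaximal)
    (hdim : ringKrullDim A ≤ ringKrullDim (A ⧸ P) + ringKrullDim (A ⧸ Q)) :
    IntMult.chi A (A ⧸ Q) (A ⧸ P) =
      ((Module.length A (A ⧸ (Q ⊔ Ideal.span {g}))).toNat : ℤ) := by
  have hP' : P = Ideal.ofList [g] := by rw [hP, Ideal.ofList_singleton]
  have hw : IsWeaklyRegular A [g] := (isWeaklyRegular_singleton_iff A g).mpr hg
  have hreg : IsRegular A [g] := by
    refine ⟨hw, ?_⟩
    rw [← hP', smul_eq_mul, Ideal.mul_top]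
    exact fun h => hPne h.symm
  have hd := ringKrullDim_quot_eq_length P Q [g] hP' hreg hPne hQp.ne_top hmax hdim
  have hgQ : g ∉ Q := by
    intro hgQ
    have hle : P ≤ Q := by
      rw [hP, Ideal.span_le, Set.singleton_subset_iff]
      exact hgQ
    have hQmax : Q.IsMaximal := hmax Q hQp (sup_le hle le_rfl)
    letI := Ideal.Quotient.field Q
    rw [ringKrullDim_eq_zero_of_field] at hd
    simp at hd
  have hregQ : IsSMulRegular (A ⧸ Q) g := by
    intro x y hxy
    have h1 : Ideal.Quotient.mk Q g * x = Ideal.Quotient.mk Q g * y := hxy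
    have h2 : Ideal.Quotient.mk Q g ≠ 0 := fun h => hgQ (Ideal.Quotient.eq_zero_iff_mem.mp h)
    exact mul_left_cancel₀ h2 h1
  have := chi_eq_length_quot P Q [g] hP' hw ((isWeaklyRegular_singleton_iff (A ⧸ Q) g).mpr hregQ)
  rw [this, hP]

/-- Cohen–Macaulay case -/
theorem chi_of_CM (hPne : P ≠ ⊤) (hQne : Q ≠ ⊤) (l : List A) (hP : P = Ideal.ofList l)
    (hreg : IsRegular A l) (hCM : LocCoh.IsCohenMacaulayLocalRing (A ⧸ Q))
    (hmax : ∀ 𝔭 : Ideal A, 𝔭.IsPrime → P ⊔ Q ≤ 𝔭 → 𝔭.IsMaximal)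
    (hdim : ringKrullDim A ≤ ringKrullDim (A ⧸ P) + ringKrullDim (A ⧸ Q)) :
    IntMult.chi A (A ⧸ Q) (A ⧸ P) = ((Module.length A (A ⧸ (Q ⊔ P))).toNat : ℤ) := by
  have hd := ringKrullDim_quot_eq_length P Q l hP hreg hPne hQne hmax hdim
  haveI := hCM.toIsLocalRing
  have hCMmod : LocCoh.IsCohenMacaulayModule A (A ⧸ Q) := by
    have h := hCM.supportDim_eq_depth
    unfold LocCoh.IsCohenMacaulayModule
    rw [Module.supportDim_self_eq_ringKrullDim,
      Groth.Agent.Lib.Helper28.depth_quotient_self_eq Q] at h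
    rw [Module.supportDim_quotient_eq_ringKrullDim]
    exact h
  have h0 := supportDim_quot_eq_zero P Q hPne hQne hmax
  have hmem := mem_maximalIdeal_of_mem_ofList l (hP ▸ hPne)
  have hlQ : IsWeaklyRegular (A ⧸ Q) l := by
    apply Groth.Agent.Lib.Helper28.isWeaklyRegular_of_supportDim_add_length_eq l (A ⧸ Q) hCMmod hmem
    rw [← hP, h0, zero_add, Module.supportDim_quotient_eq_ringKrullDim, hd]
  exact chi_eq_length_quot P Q l hP hreg.toIsWeaklyRegular hlQ

/-- Samuel limit and positivity -/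
theorem tendsto_and_pos (hPne : P ≠ ⊤) (hQne : Q ≠ ⊤) (c : ℕ) (g : Fin c → A)
    (hP : P = Ideal.span (Set.range g)) (hreg : IsRegular A (List.ofFn g))
    (hmax : ∀ 𝔭 : Ideal A, 𝔭.IsPrime → P ⊔ Q ≤ 𝔭 → 𝔭.IsMaximal)
    (hdim : ringKrullDim A ≤ ringKrullDim (A ⧸ P) + ringKrullDim (A ⧸ Q)) :
    Filter.Tendsto (fun t : ℕ => (c.factorial : ℝ) *
        ((Module.length A (A ⧸ (Q ⊔ P ^ t))).toNat : ℝ) / (t : ℝ) ^ c) Filter.atTop
      (nhds (IntMult.chi A (A ⧸ Q) (A ⧸ P) : ℝ)) ∧ 0 < IntMult.chi A (A ⧸ Q) (A ⧸ P) := by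
  have hP' : P = Ideal.ofList (List.ofFn g) := by
    rw [hP, Groth.Agent.Lib.Helper5.ofList_ofFn_eq_span_range]
  have hd := ringKrullDim_quot_eq_length P Q (List.ofFn g) hP' hreg hPne hQne hmax hdim
  have h0 := supportDim_quot_le_zero P Q hmax
  constructor
  · have key := Groth.Agent.S1914.result A c g hreg (A ⧸ Q) (by rw [← hP]; exact h0)
    rw [chi_symm, hP]
    refine key.congr (fun t => ?_)
    rw [(quotQuotEquiv Q (Ideal.span (Set.range g) ^ t)).length_eq]
  · rw [chi_symm]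
    subst hP'
    rw [intMult_chi_eq_chi _ hreg.toIsWeaklyRegular]
    refine (chi_nonneg_and_pos (List.ofFn g) (mem_maximalIdeal_of_mem_ofList _ hPne) (A ⧸ Q)
      (fli _ Q hmax)).2 ?_
    rw [Module.supportDim_quotient_eq_ringKrullDim, hd]

end Local

section Regular

open Groth.Agent.Lib.Helper5 Module

variable [IsRegularLocalRing A]

/-- lift a basis of the image of `I` in the cotangent space to elements of `I` -/
theorem exists_lift_cotV (I : Ideal A) :
    ∃ (x : Fin (finrank (ResidueField A) (cotV I)) → maximalIdeal A), (∀ i, (x i : A) ∈ I) ∧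
      LinearIndependent (ResidueField A) (fun i => (maximalIdeal A).toCotangent (x i)) := by
  classical
  let b := Module.finBasis (ResidueField A) (cotV I)
  have hex : ∀ i, ∃ z : maximalIdeal A, (z : A) ∈ I ∧
      (maximalIdeal A).toCotangent z = (b i : CotangentSpace A) :=
    fun i => (mem_cotV_iff I _).mp (b i).2
  choose x hxI hx using hex
  refine ⟨x, hxI, ?_⟩
  have h1 : LinearIndependent (ResidueField A) (fun i => ((b i : cotV I) : CotangentSpace A)) :=
    b.linearIndependent.map' (cotV I).subtype (Submodule.ker_subtype _)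
  have h2 : (fun i => (maximalIdeal A).toCotangent (x i)) =
      fun i => ((b i : cotV I) : CotangentSpace A) := funext hx
  rw [h2]
  exact h1

theorem quot_dim_le (I : Ideal A) [hI : I.IsPrime] {r : ℕ} (x : Fin r → maximalIdeal A)
    (hxI : ∀ i, (x i : A) ∈ I)
    (hli : LinearIndependent (ResidueField A) (fun i => (maximalIdeal A).toCotangent (x i))) :
    ringKrullDim (A ⧸ I) + r ≤ ringKrullDim A ∧
      (ringKrullDim A ≤ ringKrullDim (A ⧸ I) + r →
        I = Ideal.span (Set.range fun i => (x i : A))) := by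
  set J := Ideal.span (Set.range fun i => (x i : A)) with hJ
  have hJI : J ≤ I := by
    rw [hJ, Ideal.span_le]
    rintro _ ⟨i, rfl⟩
    exact hxI i
  haveI hloc : IsLocalRing (A ⧸ J) := isLocalRing_quotient_span_range x
  obtain ⟨hregJ, hdimJ⟩ := isRegularLocalRing_quotient_of_linearIndependent x hli
  haveI hdom : IsDomain (A ⧸ J) := isDomain_of_isRegularLocalRing (A ⧸ J)
  have hsurj : Function.Surjective (Ideal.Quotient.factor hJI) := Ideal.Quotient.factor_surjective hJI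
  have hle := ringKrullDim_le_of_surjective (Ideal.Quotient.factor hJI) hsurj
  obtain ⟨a, ha⟩ := exists_nat_dim_quot I hI.ne_top
  obtain ⟨j, hj⟩ := Groth.Agent.Lib.Helper5.exists_nat_ringKrullDim_eq (A ⧸ J)
  obtain ⟨d, hd⟩ := Groth.Agent.Lib.Helper5.exists_nat_ringKrullDim_eq A
  rw [hj, hd] at hdimJ
  rw [ha, hj] at hle
  have hdimJ' : j + r = d := by exact_mod_cast hdimJ
  have hle' : a ≤ j := by exact_mod_cast hle
  rw [ha, hd]
  constructor
  · have : a + r ≤ d := by omega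
    exact_mod_cast this
  · intro h
    have h' : d ≤ a + r := by exact_mod_cast h
    have hja : j ≤ a := by omega
    have hinj := Groth.Agent.Lib.Helper19.injective_of_surjective_of_ringKrullDim_le
      (Ideal.Quotient.factor hJI) hsurj (by rw [hj, ha]; exact_mod_cast hja)
    apply le_antisymm _ hJI
    intro z hz
    have h1 : Ideal.Quotient.factor hJI (Ideal.Quotient.mk J z) = 0 := by
      rw [Ideal.Quotient.factor_mk]
      exact Ideal.Quotient.eq_zero_iff_mem.mpr hz
    have h2 : Ideal.Quotient.mk J z = 0 := hinj (h1.trans (map_zero _).symm)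
    exact Ideal.Quotient.eq_zero_iff_mem.mp h2

theorem cotV_sup_eq_top (P Q : Ideal A) (h : P ⊔ Q = maximalIdeal A) : cotV P ⊔ cotV Q = ⊤ := by
  rw [eq_top_iff]
  intro t _
  obtain ⟨z, rfl⟩ := (maximalIdeal A).toCotangent_surjective t
  have hz : (z : A) ∈ P ⊔ Q := by rw [h]; exact z.2
  obtain ⟨p, hp, q, hq, hpq⟩ := Submodule.mem_sup.mp hz
  have hpm : p ∈ maximalIdeal A := h ▸ (le_sup_left : P ≤ P ⊔ Q) hp
  have hqm : q ∈ maximalIdeal A := h ▸ (le_sup_right : Q ≤ P ⊔ Q) hq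
  have hzz : z = ⟨p, hpm⟩ + ⟨q, hqm⟩ := Subtype.ext hpq.symm
  rw [hzz, map_add]
  exact Submodule.add_mem_sup (toCotangent_mem_cotV ⟨p, hpm⟩ hp) (toCotangent_mem_cotV ⟨q, hqm⟩ hq)

theorem range_fin_append {α : Type*} {m n : ℕ} (u : Fin m → α) (v : Fin n → α) :
    Set.range (Fin.append u v) = Set.range u ∪ Set.range v := by
  ext z
  constructor
  · rintro ⟨i, rfl⟩
    refine Fin.addCases (fun j => ?_) (fun j => ?_) i
    · left; exact ⟨j, by rw [Fin.append_left]⟩
    · right; exact ⟨j, by rw [Fin.append_right]⟩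
  · rintro (⟨j, rfl⟩ | ⟨j, rfl⟩)
    · exact ⟨Fin.castAdd _ j, Fin.append_left _ _ j⟩
    · exact ⟨Fin.natAdd _ j, Fin.append_right _ _ j⟩

theorem chi_of_length_one_aux (P Q : Ideal A) [hPp : P.IsPrime] [hQp : Q.IsPrime] {a b : ℕ}
    (x : Fin a → maximalIdeal A) (y : Fin b → maximalIdeal A)
    (hxP : ∀ i, (x i : A) ∈ P) (hyQ : ∀ i, (y i : A) ∈ Q)
    (hxli : LinearIndependent (ResidueField A) (fun i => (maximalIdeal A).toCotangent (x i)))
    (hyli : LinearIndependent (ResidueField A) (fun i => (maximalIdeal A).toCotangent (y i)))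
    (hab : finrank (ResidueField A) (CotangentSpace A) ≤ a + b)
    (hm : P ⊔ Q = maximalIdeal A)
    (hlen : Module.length A (A ⧸ (P ⊔ Q)) = 1)
    (hdim : ringKrullDim A ≤ ringKrullDim (A ⧸ P) + ringKrullDim (A ⧸ Q)) :
    IntMult.chi A (A ⧸ Q) (A ⧸ P) = 1 ∧ IsRegularLocalRing (A ⧸ P) ∧
      IsRegularLocalRing (A ⧸ Q) := by
  classical
  obtain ⟨hP1, hP2⟩ := quot_dim_le P x hxP hxli
  obtain ⟨hQ1, hQ2⟩ := quot_dim_le Q y hyQ hyli
  obtain ⟨p, hp⟩ := exists_nat_dim_quot P hPp.ne_top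
  obtain ⟨q, hq⟩ := exists_nat_dim_quot Q hQp.ne_top
  obtain ⟨d, hd⟩ := Groth.Agent.Lib.Helper5.exists_nat_ringKrullDim_eq A
  have hdd : finrank (ResidueField A) (CotangentSpace A) = d := by
    have := (IsRegularLocalRing.iff_finrank_cotangentSpace A).mp inferInstance
    rw [hd] at this
    exact_mod_cast this
  rw [hdd] at hab
  rw [hp, hd] at hP1 hP2
  rw [hq, hd] at hQ1 hQ2
  rw [hp, hq, hd] at hdim
  have hP1' : p + a ≤ d := by exact_mod_cast hP1
  have hQ1' : q + b ≤ d := by exact_mod_cast hQ1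
  have hdim' : d ≤ p + q := by exact_mod_cast hdim
  have hPeq : P = Ideal.span (Set.range fun i => (x i : A)) :=
    hP2 (by have : d ≤ p + a := by omega
            exact_mod_cast this)
  have hQeq : Q = Ideal.span (Set.range fun i => (y i : A)) :=
    hQ2 (by have : d ≤ q + b := by omega
            exact_mod_cast this)
  have hbad : b + a = d := by omega
  haveI hlocP : IsLocalRing (A ⧸ P) := isLocalRing_quotient hPp.ne_top
  haveI hlocQ : IsLocalRing (A ⧸ Q) := isLocalRing_quotient hQp.ne_top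
  refine ⟨?_, (isRegularLocalRing_quotient_of_linearIndependent' x hxli P hPeq).1,
    (isRegularLocalRing_quotient_of_linearIndependent' y hyli Q hQeq).1⟩
  -- the regular sequence `y ++ x`
  have hz : Ideal.span (Set.range (Fin.append (fun i => (y i : A)) (fun i => (x i : A)))) =
      maximalIdeal A := by
    rw [range_fin_append, Ideal.span_union, ← hQeq, ← hPeq, sup_comm]
    exact hm
  have hregz := isRegular_ofFn_of_span_eq_maximalIdeal (d := b + a)
    (by rw [hd, hbad]) (Fin.append (fun i => (y i : A)) (fun i => (x i : A))) hz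
  rw [List.ofFn_fin_append] at hregz
  have hw := (isWeaklyRegular_append_iff A (List.ofFn fun i => (y i : A))
    (List.ofFn fun i => (x i : A))).mp hregz.toIsWeaklyRegular
  have hQ' : Q = Ideal.ofList (List.ofFn fun i => (y i : A)) := by
    rw [ofList_ofFn_eq_span_range]; exact hQeq
  have hP' : P = Ideal.ofList (List.ofFn fun i => (x i : A)) := by
    rw [ofList_ofFn_eq_span_range]; exact hPeq
  have e : (A ⧸ (Ideal.ofList (List.ofFn fun i => (y i : A)) • ⊤ : Submodule A A)) ≃ₗ[A] (A ⧸ Q) :=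
    Submodule.quotEquivOfEq _ _ (by rw [smul_eq_mul, Ideal.mul_top, ← hQ'])
  have hxQ : IsWeaklyRegular (A ⧸ Q) (List.ofFn fun i => (x i : A)) :=
    (e.isWeaklyRegular_congr _).mp hw.2
  have hxA : IsWeaklyRegular A (List.ofFn fun i => (x i : A)) :=
    (isRegular_ofFn_of_linearIndependent x hxli).toIsWeaklyRegular
  rw [chi_eq_length_quot P Q _ hP' hxA hxQ, sup_comm, hlen]
  rfl

theorem chi_of_length_one (P Q : Ideal A) [hPp : P.IsPrime] [hQp : Q.IsPrime]
    (hlen : Module.length A (A ⧸ (P ⊔ Q)) = 1)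
    (hdim : ringKrullDim A ≤ ringKrullDim (A ⧸ P) + ringKrullDim (A ⧸ Q)) :
    IntMult.chi A (A ⧸ Q) (A ⧸ P) = 1 ∧ IsRegularLocalRing (A ⧸ P) ∧
      IsRegularLocalRing (A ⧸ Q) := by
  -- `P ⊔ Q = m`
  have hm : P ⊔ Q = maximalIdeal A := by
    have h1 : IsSimpleModule A (A ⧸ (P ⊔ Q)) := Module.length_eq_one_iff.mp hlen
    have h2 : IsCoatom (P ⊔ Q) := isSimpleModule_iff_isCoatom.mp h1
    exact IsLocalRing.eq_maximalIdeal (Ideal.isMaximal_def.mpr h2)
  have htop := cotV_sup_eq_top P Q hm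
  obtain ⟨x, hxP, hxli⟩ := exists_lift_cotV P
  obtain ⟨y, hyQ, hyli⟩ := exists_lift_cotV Q
  refine chi_of_length_one_aux P Q x y hxP hyQ hxli hyli ?_ hm hlen hdim
  have h1 := Submodule.finrank_add_le_finrank_add_finrank (cotV P) (cotV Q)
  rw [htop, finrank_top] at h1
  exact h1

end Regular

end Groth.Agent.Lib.T2H9.IntMultRing
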