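import Groth.Agent.Lib.Helper13TorBC2
import Groth.Agent.Lib.Helper13TorBC3
import Groth.Agent.Lib.Helper13TorMore
import Groth.Agent.Lib.Helper13Acyc
import Groth.Agent.Lib.T2H9IntMultRing

/-!
# Reduction to the diagonal for Tor, ring-level form (T2H9)

Let `p₁ p₂ : A → B` be ring maps with a common retraction `δ : B → A`, `P Q` ideals of `A`.
If `p₂` is flat and `A → B/p₂(P)B` (through `p₁`) is flat, then
`length_B Tor^B_n(B/ker δ, B/(p₁(Q)B + p₂(P)B)) = length_A Tor^A_n(A/P, A/Q)`.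
-/

set_option autoImplicit false
set_option linter.style.haveILetI false
set_option linter.unusedSectionVars false
universe u
open CategoryTheory CategoryTheory.Limits MonoidalCategory

namespace Groth.Agent.Lib.T2H9.DiagTor

open Groth.Agent.Helper13Tor Groth.Agent.Helper13TorBC

section Basic

variable {R : Type u} [CommRing R]

/-- `Tor` is invariant under isomorphisms in both variables -/
theorem nonempty_tor_congr {X X' Y Y' : ModuleCat.{u} R} (eX : X ≅ X') (eY : Y ≅ Y') (n : ℕ) :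
    Nonempty (((Tor (ModuleCat.{u} R) n).obj X).obj Y ≅
      ((Tor (ModuleCat.{u} R) n).obj X').obj Y') :=
  ⟨((Tor (ModuleCat.{u} R) n).mapIso eX).app Y ≪≫ ((Tor (ModuleCat.{u} R) n).obj X').mapIso eY⟩

theorem length_tor_congr {X X' Y Y' : ModuleCat.{u} R} (eX : X ≅ X') (eY : Y ≅ Y') (n : ℕ) :
    Module.length R (((Tor (ModuleCat.{u} R) n).obj X).obj Y) =
      Module.length R (((Tor (ModuleCat.{u} R) n).obj X').obj Y') := by
  obtain ⟨e⟩ := nonempty_tor_congr eX eY n
  exact e.toLinearEquiv.length_eq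

/-- an element killing `X` kills `Tor_n(X, Y)` -/
theorem smul_tor_eq_zero (X Y : ModuleCat.{u} R) (r : R) (hr : ∀ x : X, r • x = 0) (n : ℕ)
    (t : ((Tor (ModuleCat.{u} R) n).obj X).obj Y) : r • t = 0 := by
  let P := projectiveResolution Y
  let K := tC X P.complex
  let e : ((Tor (ModuleCat.{u} R) n).obj X).obj Y ≅ K.homology n := torIso P X n
  have hK : r • 𝟙 K = 0 := by
    refine HomologicalComplex.hom_ext _ _ fun j => ?_
    rw [HomologicalComplex.smul_f_apply, HomologicalComplex.id_f, HomologicalComplex.zero_f]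
    apply ModuleCat.hom_ext
    apply TensorProduct.ext'
    intro x p
    show r • (x ⊗ₜ[R] p) = 0
    rw [TensorProduct.smul_tmul', hr x, TensorProduct.zero_tmul]
  have h1 : r • 𝟙 (K.homology n) = 0 := by
    rw [← Groth.Agent.Helper13Acyc.homologyMap_smul_id, hK, HomologicalComplex.homologyMap_zero]
  have h2 : r • e.hom.hom t = 0 := congrArg (fun φ => φ.hom (e.hom.hom t)) h1
  apply e.toLinearEquiv.injective
  rw [map_smul, map_zero]
  exact h2

end Basic

/-- restriction of scalars along a map which is "surjective modulo the annihilator" preserves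
length -/
theorem length_eq_of_forall_exists_smul {A C : Type*} [CommRing A] [CommRing C] [Algebra A C]
    (T : Type*) [AddCommGroup T] [Module C T] [Module A T] [IsScalarTower A C T]
    (h : ∀ (c : C) (t : T), ∃ a : A, c • t = a • t) :
    Module.length A T = Module.length C T := by
  let φ : Submodule C T ≃o Submodule A T :=
    { toFun := Submodule.restrictScalars A
      invFun := fun N =>
        { N with
          smul_mem' := fun c t ht => by
            obtain ⟨a, ha⟩ := h c t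
            rw [ha]
            exact N.smul_mem a ht }
      left_inv := fun N => rfl
      right_inv := fun N => rfl
      map_rel_iff' := Iff.rfl }
  apply WithBot.coe_injective
  rw [Module.coe_length, Module.coe_length, Order.krullDim_eq_of_orderIso φ]

section BC

variable (A A' : Type u) [CommRing A] [CommRing A'] [Algebra A A']

/-- `A' ⊗_A A/I ≅ A'/IA'` in `ModuleCat` -/
noncomputable def extendQuotIso (I : Ideal A) :
    (E A A').obj (ModuleCat.of A (A ⧸ I)) ≅ ModuleCat.of A' (A' ⧸ I.map (algebraMap A A')) :=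
  (Groth.Agent.S2380.bridge A A' (ModuleCat.of A (A ⧸ I))).toModuleIso ≪≫
    (Algebra.TensorProduct.quotIdealMapEquivTensorQuot A' I).symm.toLinearEquiv.toModuleIso

theorem length_restrictScalars_of_forall (T : ModuleCat.{u} A')
    (h : ∀ (c : A') (t : T), ∃ a : A, c • t = algebraMap A A' a • t) :
    Module.length A ((ρ A A').obj T) = Module.length A' T := by
  letI : Module A T := Module.compHom T (algebraMap A A')
  haveI : IsScalarTower A A' T := ⟨fun a c t => by
    show (a • c) • t = algebraMap A A' a • (c • t)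
    rw [Algebra.smul_def, mul_smul]⟩
  exact length_eq_of_forall_exists_smul (A := A) (C := A') T h

theorem length_restrictScalars_of_surjective (hsurj : Function.Surjective (algebraMap A A'))
    (T : ModuleCat.{u} A') :
    Module.length A ((ρ A A').obj T) = Module.length A' T := by
  refine length_restrictScalars_of_forall A A' T fun c t => ?_
  obtain ⟨a, rfl⟩ := hsurj c
  exact ⟨a, rfl⟩

/-- vanishing of `Tor^{A'}(A' ⊗ N, Q')` for `A'` flat over `A` and `Q'` flat over `A` -/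
theorem isZero_tor_of_flat_restrict [Module.Flat A A'] (N : ModuleCat.{u} A) (Q' : Type u)
    [AddCommGroup Q'] [Module A' Q'] [Module A Q'] [IsScalarTower A A' Q'] [Module.Flat A Q']
    (q : ℕ) (hq : 0 < q) :
    IsZero (((Tor (ModuleCat.{u} A') q).obj ((E A A').obj N)).obj (ModuleCat.of A' Q')) := by
  obtain ⟨e⟩ := nonempty_restrict_tor_iso A' Q' N
    (fun q' hq' => isZero_tor_of_flat_right N (ModuleCat.of A A') q' hq') q
  have h0 : IsZero (((Tor (ModuleCat.{u} A) q).obj N).obj (ModuleCat.of A Q')) :=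
    isZero_tor_of_flat_right N (ModuleCat.of A Q') q hq
  have h1 := h0.of_iso e
  rw [ModuleCat.isZero_iff_subsingleton] at h1 ⊢
  exact h1

/-- Tor-independent base change along a surjection preserves lengths of `Tor` -/
theorem length_tor_of_surjective (hsurj : Function.Surjective (algebraMap A A'))
    (X : ModuleCat.{u} A)
    (hTor : ∀ q : ℕ, 0 < q →
      IsZero (((Tor (ModuleCat.{u} A) q).obj X).obj (ModuleCat.of A A')))
    (Q' : Type u) [AddCommGroup Q'] [Module A' Q'] [Module A Q'] [IsScalarTower A A' Q'] (n : ℕ) :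
    Module.length A (((Tor (ModuleCat.{u} A) n).obj X).obj (ModuleCat.of A Q')) =
      Module.length A' (((Tor (ModuleCat.{u} A') n).obj ((E A A').obj X)).obj
        (ModuleCat.of A' Q')) := by
  obtain ⟨e⟩ := nonempty_restrict_tor_iso A' Q' X hTor n
  rw [← e.toLinearEquiv.length_eq]
  exact length_restrictScalars_of_surjective A A' hsurj _

/-- flat base change in the right variable preserves lengths of `Tor` when the left variable is
killed by an ideal modulo which the ring map is surjective -/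
theorem length_tor_of_flat_left [Module.Flat A A'] (P' : Type u) [AddCommGroup P'] [Module A' P']
    [Module A P'] [IsScalarTower A A' P'] (𝔞 : Ideal A') (h𝔞 : ∀ c ∈ 𝔞, ∀ x : P', c • x = 0)
    (hsurj : ∀ c : A', ∃ a : A, c - algebraMap A A' a ∈ 𝔞) (Y : ModuleCat.{u} A) (n : ℕ) :
    Module.length A' (((Tor (ModuleCat.{u} A') n).obj (ModuleCat.of A' P')).obj ((E A A').obj Y)) =
      Module.length A (((Tor (ModuleCat.{u} A) n).obj (ModuleCat.of A P')).obj Y) := by
  obtain ⟨e⟩ := nonempty_restrict_tor_iso_left A' P' Y n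
  rw [← e.toLinearEquiv.length_eq]
  symm
  refine length_restrictScalars_of_forall A A' _ ?_
  intro c t
  obtain ⟨a, ha⟩ := hsurj c
  refine ⟨a, ?_⟩
  have h0 := smul_tor_eq_zero (ModuleCat.of A' P') ((E A A').obj Y) _ (h𝔞 _ ha) n t
  rw [sub_smul, sub_eq_zero] at h0
  exact h0

end BC

section Diag

variable {A B : Type u} [CommRing A] [CommRing B]

/-- Tor-independence of `B/ker δ` and `B/p₂(P)B` over `B` -/
theorem isZero_tor_retraction (p₂ : A →+* B) (δ : B →+* A) (h₂ : δ.comp p₂ = RingHom.id A)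
    (hp₂ : p₂.Flat) (P : Ideal A) (q : ℕ) (hq : 0 < q) :
    IsZero (((Tor (ModuleCat.{u} B) q).obj (ModuleCat.of B (B ⧸ RingHom.ker δ))).obj
      (ModuleCat.of B (B ⧸ P.map p₂))) := by
  letI : Algebra A B := p₂.toAlgebra
  haveI : Module.Flat A B := hp₂
  have hδp : ∀ a, δ (p₂ a) = a := fun a => RingHom.congr_fun h₂ a
  have hδ : Function.Surjective δ := fun a => ⟨p₂ a, hδp a⟩
  let e₀ : (B ⧸ RingHom.ker δ) ≃+* A := RingHom.quotientKerEquivOfSurjective hδ
  let e : (B ⧸ RingHom.ker δ) ≃ₗ[A] A :=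
    { e₀.toAddEquiv with
      map_smul' := by
        intro a x
        obtain ⟨b, rfl⟩ := Ideal.Quotient.mk_surjective x
        show e₀ (Ideal.Quotient.mk _ (p₂ a * b)) = a * e₀ (Ideal.Quotient.mk _ b)
        show δ (p₂ a * b) = a * δ b
        rw [map_mul, hδp] }
  haveI : Module.Flat A (B ⧸ RingHom.ker δ) := Module.Flat.of_linearEquiv e
  have h1 := isZero_tor_of_flat_restrict A B (ModuleCat.of A (A ⧸ P)) (B ⧸ RingHom.ker δ) q hq
  obtain ⟨e1⟩ := nonempty_tor_congr (extendQuotIso A B P)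
    (Iso.refl (ModuleCat.of B (B ⧸ RingHom.ker δ))) q
  obtain ⟨e2⟩ := Groth.Agent.Lib.T2H9.IntMultRing.nonempty_tor_symm
    (ModuleCat.of B (B ⧸ RingHom.ker δ)) (ModuleCat.of B (B ⧸ P.map p₂)) q
  exact (h1.of_iso e1.symm).of_iso e2

/-- `(B/J)/I(B/J) ≃ A/P` for `J = p₂(P)B`, `I = ker δ`, linearly over `A` acting through `p₁` -/
theorem nonempty_quot_equiv (p₁ p₂ : A →+* B) (δ : B →+* A)
    (h₁ : δ.comp p₁ = RingHom.id A) (h₂ : δ.comp p₂ = RingHom.id A) (P : Ideal A) :
    letI : Algebra A (B ⧸ P.map p₂) := ((Ideal.Quotient.mk (P.map p₂)).comp p₁).toAlgebra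
    Nonempty (((B ⧸ P.map p₂) ⧸ (RingHom.ker δ).map (algebraMap B (B ⧸ P.map p₂))) ≃ₗ[A] (A ⧸ P)) := by
  letI : Algebra A (B ⧸ P.map p₂) := ((Ideal.Quotient.mk (P.map p₂)).comp p₁).toAlgebra
  have hδ₁ : ∀ a, δ (p₁ a) = a := fun a => RingHom.congr_fun h₁ a
  have hδ₂ : ∀ a, δ (p₂ a) = a := fun a => RingHom.congr_fun h₂ a
  have hJ : P.map p₂ ≤ RingHom.ker ((Ideal.Quotient.mk P).comp δ) := by
    rw [Ideal.map_le_iff_le_comap]
    intro x hx
    rw [Ideal.mem_comap, RingHom.mem_ker, RingHom.comp_apply, hδ₂]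
    exact Ideal.Quotient.eq_zero_iff_mem.mpr hx
  let ψ₀ : (B ⧸ P.map p₂) →+* (A ⧸ P) :=
    Ideal.Quotient.lift (P.map p₂) ((Ideal.Quotient.mk P).comp δ) (fun b hb => hJ hb)
  have hψ₀ : ∀ b : B, ψ₀ (Ideal.Quotient.mk _ b) = Ideal.Quotient.mk P (δ b) := fun b => rfl
  have hI : (RingHom.ker δ).map (algebraMap B (B ⧸ P.map p₂)) ≤ RingHom.ker ψ₀ := by
    rw [Ideal.map_le_iff_le_comap]
    intro b hb
    rw [Ideal.mem_comap, RingHom.mem_ker]
    show ψ₀ (Ideal.Quotient.mk _ b) = 0
    rw [hψ₀, (RingHom.mem_ker).mp hb, map_zero]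
  have hP : ∀ a ∈ P, algebraMap A ((B ⧸ P.map p₂) ⧸
      (RingHom.ker δ).map (algebraMap B (B ⧸ P.map p₂))) a = 0 := by
    intro a ha
    show Ideal.Quotient.mk _ (Ideal.Quotient.mk (P.map p₂) (p₁ a)) = 0
    rw [Ideal.Quotient.eq_zero_iff_mem]
    have h3 : Ideal.Quotient.mk (P.map p₂) (p₁ a) = Ideal.Quotient.mk (P.map p₂) (p₁ a - p₂ a) := by
      rw [map_sub, (Ideal.Quotient.eq_zero_iff_mem (I := P.map p₂)).mpr (Ideal.mem_map_of_mem p₂ ha),
        sub_zero]
    rw [h3]
    refine Ideal.mem_map_of_mem (algebraMap B (B ⧸ P.map p₂)) ?_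
    rw [RingHom.mem_ker, map_sub, hδ₁, hδ₂, sub_self]
  let g : (A ⧸ P) →ₐ[A] ((B ⧸ P.map p₂) ⧸ (RingHom.ker δ).map (algebraMap B (B ⧸ P.map p₂))) :=
    Ideal.Quotient.liftₐ P (Algebra.ofId A _) hP
  have hg : ∀ a : A, g (Ideal.Quotient.mk P a) =
      Ideal.Quotient.mk _ (Ideal.Quotient.mk (P.map p₂) (p₁ a)) := fun a => rfl
  have hbij : Function.Bijective g.toLinearMap := by
    constructor
    · rw [← LinearMap.ker_eq_bot, LinearMap.ker_eq_bot']
      intro x hx
      obtain ⟨a, rfl⟩ := Ideal.Quotient.mk_surjective x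
      have hx' : g (Ideal.Quotient.mk P a) = 0 := hx
      rw [hg, Ideal.Quotient.eq_zero_iff_mem] at hx'
      have h4 := hI hx'
      rw [RingHom.mem_ker, hψ₀, hδ₁] at h4
      exact h4
    · intro y
      obtain ⟨c, rfl⟩ := Ideal.Quotient.mk_surjective y
      obtain ⟨b, rfl⟩ := Ideal.Quotient.mk_surjective c
      refine ⟨Ideal.Quotient.mk P (δ b), ?_⟩
      show g (Ideal.Quotient.mk P (δ b)) = _
      rw [hg]
      rw [Ideal.Quotient.eq, ← map_sub]
      refine Ideal.mem_map_of_mem (algebraMap B (B ⧸ P.map p₂)) ?_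
      rw [RingHom.mem_ker, map_sub, hδ₁, sub_self]
  exact ⟨(LinearEquiv.ofBijective g.toLinearMap hbij).symm⟩

/-- **Reduction to the diagonal**, ring-level form, for lengths of `Tor`. -/
theorem length_tor_diag (p₁ p₂ : A →+* B) (δ : B →+* A)
    (h₁ : δ.comp p₁ = RingHom.id A) (h₂ : δ.comp p₂ = RingHom.id A) (P Q : Ideal A)
    (hp₂ : p₂.Flat) (hq₁ : ((Ideal.Quotient.mk (P.map p₂)).comp p₁).Flat) (n : ℕ) :
    Module.length B (DRing.Tor B n (B ⧸ RingHom.ker δ) (B ⧸ (Q.map p₁ ⊔ P.map p₂))) =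
      Module.length A (DRing.Tor A n (A ⧸ P) (A ⧸ Q)) := by
  letI algAC : Algebra A (B ⧸ P.map p₂) := ((Ideal.Quotient.mk (P.map p₂)).comp p₁).toAlgebra
  haveI : Module.Flat A (B ⧸ P.map p₂) := hq₁
  have hδ₁ : ∀ a, δ (p₁ a) = a := fun a => RingHom.congr_fun h₁ a
  have hTor := isZero_tor_retraction p₂ δ h₂ hp₂ P
  -- step 2
  have s2 := length_tor_of_surjective B (B ⧸ P.map p₂) Ideal.Quotient.mk_surjective
    (ModuleCat.of B (B ⧸ RingHom.ker δ)) hTor
    ((B ⧸ P.map p₂) ⧸ Q.map (algebraMap A (B ⧸ P.map p₂))) n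
  -- step 3
  have s3 := length_tor_of_flat_left A (B ⧸ P.map p₂)
    ((B ⧸ P.map p₂) ⧸ (RingHom.ker δ).map (algebraMap B (B ⧸ P.map p₂)))
    ((RingHom.ker δ).map (algebraMap B (B ⧸ P.map p₂)))
    (by
      intro c hc x
      obtain ⟨y, rfl⟩ := Ideal.Quotient.mk_surjective x
      show Ideal.Quotient.mk _ (c * y) = 0
      rw [Ideal.Quotient.eq_zero_iff_mem]
      exact Ideal.mul_mem_right _ _ hc)
    (by
      intro c
      obtain ⟨b, rfl⟩ := Ideal.Quotient.mk_surjective c
      refine ⟨δ b, ?_⟩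
      show Ideal.Quotient.mk _ b - Ideal.Quotient.mk _ (p₁ (δ b)) ∈ _
      rw [← map_sub]
      refine Ideal.mem_map_of_mem (algebraMap B (B ⧸ P.map p₂)) ?_
      rw [RingHom.mem_ker, map_sub, hδ₁, sub_self])
    (ModuleCat.of A (A ⧸ Q)) n
  -- identifications
  have hQe : (Q.map p₁).map (Ideal.Quotient.mkₐ B (P.map p₂)) =
      Q.map (algebraMap A (B ⧸ P.map p₂)) := by
    show Ideal.map (Ideal.Quotient.mk (P.map p₂)) (Ideal.map p₁ Q) = _
    rw [Ideal.map_map]
    rfl
  let eL : (B ⧸ (Q.map p₁ ⊔ P.map p₂)) ≃ₗ[B]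
      ((B ⧸ P.map p₂) ⧸ Q.map (algebraMap A (B ⧸ P.map p₂))) :=
    ((Ideal.quotientEquivAlgOfEq B hQe.symm).trans
      ((DoubleQuot.quotQuotEquivQuotSupₐ B (P.map p₂) (Q.map p₁)).trans
        (Ideal.quotientEquivAlgOfEq B (sup_comm _ _)))).symm.toLinearEquiv
  obtain ⟨e6⟩ := nonempty_quot_equiv p₁ p₂ δ h₁ h₂ P
  have c1 := length_tor_congr (Iso.refl (ModuleCat.of B (B ⧸ RingHom.ker δ))) eL.toModuleIso n
  have c2 := length_tor_congr (extendQuotIso B (B ⧸ P.map p₂) (RingHom.ker δ))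
    (extendQuotIso A (B ⧸ P.map p₂) Q).symm n
  have c3 := length_tor_congr e6.toModuleIso (Iso.refl (ModuleCat.of A (A ⧸ Q))) n
  exact c1.trans (s2.trans ((c2.trans s3).trans c3))

end Diag

end Groth.Agent.Lib.T2H9.DiagTor
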