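import Groth.Agent.Lib.T2H9IntMultSetup
import Groth.Agent.Lib.T2H9RegImmBC
import Groth.Agent.Lib.T2H9DiagTor

/-!
# Reduction to the diagonal, geometric identifications (T2H9)
-/

set_option autoImplicit false
set_option linter.style.haveILetI false
set_option linter.unusedSectionVars false
universe u
open CategoryTheory AlgebraicGeometry Limits

namespace Groth.Agent.Lib.T2H9.DiagGeom

open Groth.Agent.Lib.T2H9.IntMultSetup

section Stalk

variable {X : Scheme.{u}}

theorem stalkIdeal_eq_map_germ' (I : X.IdealSheafData) (v : I.subscheme) (U : X.affineOpens)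
    (hx : I.subschemeι v ∈ U.1) :
    IntMult.stalkIdeal I (I.subschemeι v) =
      (I.ideal U).map (X.presheaf.germ U.1 (I.subschemeι v) hx).hom := by
  rw [← ker_stalkMap_subschemeι,
    Groth.Agent.Lib.T2H2.QRegStalk.ker_stalkMap_eq_map_ker_app I.subschemeι v U.1 U.2 hx,
    I.ker_subschemeι_app U]

/-- the stalk ideal at a point of the support is computed on any affine open neighbourhood -/
theorem stalkIdeal_eq_map_germ (I : X.IdealSheafData) (x : X) (hx : x ∈ I.support)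
    (U : X.affineOpens) (hxU : x ∈ U.1) :
    IntMult.stalkIdeal I x = (I.ideal U).map (X.presheaf.germ U.1 x hxU).hom :=
  stalkIdeal_eq_map_germ' I ⟨x, hx⟩ U hxU

theorem stalkIdeal_sup (I J : X.IdealSheafData) (x : X) :
    IntMult.stalkIdeal (I ⊔ J) x = IntMult.stalkIdeal I x ⊔ IntMult.stalkIdeal J x := by
  unfold IntMult.stalkIdeal
  simp only [Scheme.IdealSheafData.ideal_sup, Pi.sup_apply, Ideal.map_sup, iSup_sup_eq]

/-- the kernel of the stalk map of a closed immersion is the stalk ideal of its kernel -/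
theorem ker_stalkMap_eq_stalkIdeal {Y₀ Y : Scheme.{u}} (ι : Y₀ ⟶ Y) [IsClosedImmersion ι] (y₀ : Y₀) :
    RingHom.ker (ι.stalkMap y₀).hom = IntMult.stalkIdeal ι.ker (ι y₀) := by
  obtain ⟨U₀, hU₀, hx₀, -⟩ := TopologicalSpace.Opens.isBasis_iff_nbhd.mp Y.isBasis_affineOpens
    (TopologicalSpace.Opens.mem_top (ι y₀))
  rw [stalkIdeal_eq_map_germ ι.ker (ι y₀) (ι.range_subset_ker_support ⟨y₀, rfl⟩) ⟨U₀, hU₀⟩ hx₀,
    Groth.Agent.Lib.T2H2.QRegStalk.ker_stalkMap_eq_map_ker_app ι y₀ U₀ hU₀ hx₀, Scheme.Hom.ker_apply]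

theorem stalkIdeal_map_stalkCongr (I : X.IdealSheafData) {x y : X} (h : x = y) :
    (IntMult.stalkIdeal I x).map (X.presheaf.stalkCongr (.of_eq h)).hom.hom =
      IntMult.stalkIdeal I y := by
  subst h
  have : (X.presheaf.stalkCongr (Inseparable.of_eq (rfl : x = x))).hom = 𝟙 _ := by
    rw [TopCat.Presheaf.stalkCongr_hom]
    exact TopCat.Presheaf.stalkSpecializes_refl _ _
  rw [this]
  exact Ideal.map_id _

end Stalk

section PB

variable {X Y X₀ Y₀ : Scheme.{u}} {g : X ⟶ Y} {i : Y₀ ⟶ Y} {i' : X₀ ⟶ X} {g₀ : X₀ ⟶ Y₀}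

/-- the stalk ideal of a base-changed closed immersion is the extension of the stalk ideal -/
theorem stalkIdeal_ker_of_isPullback (sq : IsPullback i' g₀ g i) [IsClosedImmersion i] (x₀ : X₀) :
    IntMult.stalkIdeal i'.ker (i' x₀) =
      (IntMult.stalkIdeal i.ker (g (i' x₀))).map (g.stalkMap (i' x₀)).hom := by
  haveI : IsClosedImmersion i' := MorphismProperty.of_isPullback sq.flip inferInstance
  obtain ⟨U, hU, hxU, -⟩ := TopologicalSpace.Opens.isBasis_iff_nbhd.mp Y.isBasis_affineOpens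
    (TopologicalSpace.Opens.mem_top (g (i' x₀)))
  obtain ⟨V, hV, hxV, hVU⟩ := TopologicalSpace.Opens.isBasis_iff_nbhd.mp X.isBasis_affineOpens
    (show i' x₀ ∈ g ⁻¹ᵁ U from hxU)
  have hgx : g (i' x₀) ∈ i.ker.support := by
    apply i.range_subset_ker_support
    refine ⟨g₀ x₀, ?_⟩
    rw [← Scheme.Hom.comp_apply, ← sq.w, Scheme.Hom.comp_apply]
  rw [stalkIdeal_eq_map_germ i'.ker (i' x₀) (i'.range_subset_ker_support ⟨x₀, rfl⟩) ⟨V, hV⟩ hxV,
    stalkIdeal_eq_map_germ i.ker (g (i' x₀)) hgx ⟨U, hU⟩ hxU, Scheme.Hom.ker_apply,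
    Scheme.Hom.ker_apply, Groth.Agent.Lib.T2H9.RegImmBC.ker_app_eq sq hU hV hVU, Ideal.map_map,
    Ideal.map_map]
  congr 1
  rw [← CommRingCat.hom_comp, ← CommRingCat.hom_comp]
  congr 1
  rw [Scheme.Hom.germ_stalkMap, Scheme.Hom.appLE, Category.assoc, X.presheaf.germ_res]

end PB

theorem flat_hom_of_eq {R S : CommRingCat.{u}} (a b : R ⟶ S) (h : a = b) (hb : b.hom.Flat) :
    a.hom.Flat := h ▸ hb

/-- stalk maps of a retraction pair -/
theorem stalkMap_retraction {X Y : Scheme.{u}} (Δ : X ⟶ Y) (pr : Y ⟶ X) (h : Δ ≫ pr = 𝟙 X) (ξ : X)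
    (hz : pr (Δ ξ) = ξ) :
    (X.presheaf.stalkCongr (.of_eq hz.symm)).hom ≫ pr.stalkMap (Δ ξ) ≫ Δ.stalkMap ξ = 𝟙 _ := by
  have key := (Scheme.Hom.stalkMap_comp Δ pr ξ).symm.trans (Scheme.Hom.stalkMap_congr_hom _ _ h ξ)
  refine (congrArg (fun φ => (X.presheaf.stalkCongr (.of_eq hz.symm)).hom ≫ φ) key).trans ?_
  rw [Scheme.Hom.stalkMap_id]
  erw [Category.comp_id]
  rw [TopCat.Presheaf.stalkCongr_hom, TopCat.Presheaf.stalkCongr_hom]
  erw [TopCat.Presheaf.stalkSpecializes_comp]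
  exact TopCat.Presheaf.stalkSpecializes_refl _ _

theorem chi_congr_ideal {B : Type u} [CommRing B] {I I' J J' : Ideal B} (hI : I = I') (hJ : J = J') :
    IntMult.chi B (B ⧸ I) (B ⧸ J) = IntMult.chi B (B ⧸ I') (B ⧸ J') := by
  subst hI; subst hJ; rfl

/-- ring-level reduction to the diagonal for `χ` -/
theorem chi_diag {A B : Type u} [CommRing A] [CommRing B] (p₁ p₂ : A →+* B) (δ : B →+* A)
    (h₁ : δ.comp p₁ = RingHom.id A) (h₂ : δ.comp p₂ = RingHom.id A) (P Q : Ideal A)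
    (hp₂ : p₂.Flat) (hq₁ : ((Ideal.Quotient.mk (P.map p₂)).comp p₁).Flat) :
    IntMult.chi B (B ⧸ RingHom.ker δ) (B ⧸ (Q.map p₁ ⊔ P.map p₂)) =
      IntMult.chi A (A ⧸ P) (A ⧸ Q) := by
  unfold IntMult.chi
  congr 1
  funext n
  rw [Groth.Agent.Lib.T2H9.DiagTor.length_tor_diag p₁ p₂ δ h₁ h₂ P Q hp₂ hq₁ n]

section Prod

variable {X S V' W' : Scheme.{u}} (f : X ⟶ S) (ιV : V' ⟶ X) (ιW : W' ⟶ X)

/-- `V ×_S X ⟶ X ×_S X` -/
noncomputable abbrev m₁ : pullback (ιV ≫ f) f ⟶ pullback f f :=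
  pullback.map (ιV ≫ f) f f f ιV (𝟙 X) (𝟙 S) (Category.comp_id _) ((Category.comp_id _).trans
    (Category.id_comp _).symm)

/-- `X ×_S W ⟶ X ×_S X` -/
noncomputable abbrev m₂ : pullback f (ιW ≫ f) ⟶ pullback f f :=
  pullback.map f (ιW ≫ f) f f (𝟙 X) ιW (𝟙 S) ((Category.comp_id _).trans
    (Category.id_comp _).symm) (Category.comp_id _)

/-- `V ×_S W ⟶ X ×_S X` -/
noncomputable abbrev mm : pullback (ιV ≫ f) (ιW ≫ f) ⟶ pullback f f :=
  pullback.map (ιV ≫ f) (ιW ≫ f) f f ιV ιW (𝟙 S) (Category.comp_id _) (Category.comp_id _)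

theorem isPullback_m₁ :
    IsPullback (m₁ f ιV) (pullback.fst (ιV ≫ f) f) (pullback.fst f f) ιV := by
  refine IsPullback.of_right (t := (IsPullback.of_hasPullback f f).flip) ?_
    (pullback.lift_fst _ _ _)
  have : m₁ f ιV ≫ pullback.snd f f = pullback.snd (ιV ≫ f) f :=
    (pullback.lift_snd _ _ _).trans (Category.comp_id _)
  rw [this]
  exact (IsPullback.of_hasPullback (ιV ≫ f) f).flip

theorem isPullback_m₂ :
    IsPullback (m₂ f ιW) (pullback.snd f (ιW ≫ f)) (pullback.snd f f) ιW := by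
  refine IsPullback.of_right (t := IsPullback.of_hasPullback f f) ?_
    (pullback.lift_snd _ _ _)
  have : m₂ f ιW ≫ pullback.fst f f = pullback.fst f (ιW ≫ f) :=
    (pullback.lift_fst _ _ _).trans (Category.comp_id _)
  rw [this]
  exact IsPullback.of_hasPullback f (ιW ≫ f)

instance [IsClosedImmersion ιV] : IsClosedImmersion (m₁ f ιV) :=
  MorphismProperty.of_isPullback (isPullback_m₁ f ιV).flip inferInstance

instance [IsClosedImmersion ιW] : IsClosedImmersion (m₂ f ιW) :=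
  MorphismProperty.of_isPullback (isPullback_m₂ f ιW).flip inferInstance

/-- the ideal sheaf of `V ×_S W` in `X ×_S X` is the sum of those of `V ×_S X` and `X ×_S W` -/
theorem ker_mm [IsClosedImmersion ιV] [IsClosedImmersion ιW] :
    (mm f ιV ιW).ker = (m₁ f ιV).ker ⊔ (m₂ f ιW).ker := by
  apply le_antisymm
  · have h1 : (m₁ f ιV).ker ≤ ((m₁ f ιV).ker ⊔ (m₂ f ιW).ker).subschemeι.ker := by
      rw [Scheme.IdealSheafData.ker_subschemeι]; exact le_sup_left
    have h2 : (m₂ f ιW).ker ≤ ((m₁ f ιV).ker ⊔ (m₂ f ιW).ker).subschemeι.ker := by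
      rw [Scheme.IdealSheafData.ker_subschemeι]; exact le_sup_right
    set ιT := ((m₁ f ιV).ker ⊔ (m₂ f ιW).ker).subschemeι with hιT
    let l₁ := IsClosedImmersion.lift (m₁ f ιV) ιT h1
    let l₂ := IsClosedImmersion.lift (m₂ f ιW) ιT h2
    have hl₁ : l₁ ≫ m₁ f ιV = ιT := IsClosedImmersion.lift_fac _ _ _
    have hl₂ : l₂ ≫ m₂ f ιW = ιT := IsClosedImmersion.lift_fac _ _ _
    have e1 : l₁ ≫ pullback.fst (ιV ≫ f) f ≫ ιV = ιT ≫ pullback.fst f f := by
      rw [← hl₁, Category.assoc]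
      congr 1
      exact (pullback.lift_fst _ _ _).symm
    have e2 : l₂ ≫ pullback.snd f (ιW ≫ f) ≫ ιW = ιT ≫ pullback.snd f f := by
      rw [← hl₂, Category.assoc]
      congr 1
      exact (pullback.lift_snd _ _ _).symm
    let l : _ ⟶ pullback (ιV ≫ f) (ιW ≫ f) :=
      pullback.lift (l₁ ≫ pullback.fst (ιV ≫ f) f) (l₂ ≫ pullback.snd f (ιW ≫ f)) (by
        rw [Category.assoc, Category.assoc, ← Category.assoc _ ιV f, ← Category.assoc _ ιW f,
          ← Category.assoc l₁, ← Category.assoc l₂, e1, e2, Category.assoc, Category.assoc,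
          pullback.condition])
    have hl : l ≫ mm f ιV ιW = ιT := by
      apply pullback.hom_ext
      · rw [Category.assoc]
        have : mm f ιV ιW ≫ pullback.fst f f = pullback.fst _ _ ≫ ιV := pullback.lift_fst _ _ _
        rw [this, ← Category.assoc, pullback.lift_fst, Category.assoc, e1]
      · rw [Category.assoc]
        have : mm f ιV ιW ≫ pullback.snd f f = pullback.snd _ _ ≫ ιW := pullback.lift_snd _ _ _
        rw [this, ← Category.assoc, pullback.lift_snd, Category.assoc, e2]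
    have := Scheme.Hom.le_ker_comp l (mm f ιV ιW)
    rw [hl, hιT, Scheme.IdealSheafData.ker_subschemeι] at this
    exact this
  · apply sup_le
    · have : mm f ιV ιW = pullback.map (ιV ≫ f) (ιW ≫ f) (ιV ≫ f) f (𝟙 _) ιW (𝟙 S)
          ((Category.comp_id _).trans (Category.id_comp _).symm) (Category.comp_id _) ≫ m₁ f ιV := by
        apply pullback.hom_ext
        · rw [Category.assoc, pullback.lift_fst, pullback.lift_fst, pullback.lift_fst_assoc,
            Category.comp_id]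
        · rw [Category.assoc, pullback.lift_snd, pullback.lift_snd, pullback.lift_snd_assoc,
            Category.comp_id]
      rw [this]
      exact Scheme.Hom.le_ker_comp _ _
    · have : mm f ιV ιW = pullback.map (ιV ≫ f) (ιW ≫ f) f (ιW ≫ f) ιV (𝟙 _) (𝟙 S)
          (Category.comp_id _) ((Category.comp_id _).trans (Category.id_comp _).symm) ≫ m₂ f ιW := by
        apply pullback.hom_ext
        · rw [Category.assoc, pullback.lift_fst, pullback.lift_fst, pullback.lift_fst_assoc,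
            Category.comp_id]
        · rw [Category.assoc, pullback.lift_snd, pullback.lift_snd, pullback.lift_snd_assoc,
            Category.comp_id]
      rw [this]
      exact Scheme.Hom.le_ker_comp _ _

theorem stalkIdeal_ker_m₁ [IsClosedImmersion ιV] (z : ↥(pullback f f))
    (hz : z ∈ Set.range (m₁ f ιV)) :
    IntMult.stalkIdeal (m₁ f ιV).ker z =
      (IntMult.stalkIdeal ιV.ker (pullback.fst f f z)).map ((pullback.fst f f).stalkMap z).hom := by
  obtain ⟨z₀, rfl⟩ := hz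
  exact stalkIdeal_ker_of_isPullback (isPullback_m₁ f ιV) z₀

theorem stalkIdeal_ker_m₂ [IsClosedImmersion ιW] (z : ↥(pullback f f))
    (hz : z ∈ Set.range (m₂ f ιW)) :
    IntMult.stalkIdeal (m₂ f ιW).ker z =
      (IntMult.stalkIdeal ιW.ker (pullback.snd f f z)).map ((pullback.snd f f).stalkMap z).hom := by
  obtain ⟨z₀, rfl⟩ := hz
  exact stalkIdeal_ker_of_isPullback (isPullback_m₂ f ιW) z₀

/-- `O_{X, pr₁ z} → O_{X×X,z}/I_{X×W,z}` is flat when `W → S` is flat -/
theorem flat_quot_m₂ [IsClosedImmersion ιW] [Flat (ιW ≫ f)] (z : ↥(pullback f f))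
    (hz : z ∈ Set.range (m₂ f ιW)) :
    ((Ideal.Quotient.mk (IntMult.stalkIdeal (m₂ f ιW).ker z)).comp
      ((pullback.fst f f).stalkMap z).hom).Flat := by
  obtain ⟨z₁, rfl⟩ := hz
  rw [← ker_stalkMap_eq_stalkIdeal]
  have hφ : Function.Surjective ((m₂ f ιW).stalkMap z₁).hom := (m₂ f ιW).stalkMap_surjective z₁
  let e := RingHom.quotientKerEquivOfSurjective hφ
  have hcomp : (m₂ f ιW).stalkMap z₁ = (m₂ f ιW).stalkMap z₁ := rfl
  have hfac : m₂ f ιW ≫ pullback.fst f f = pullback.fst f (ιW ≫ f) :=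
    (pullback.lift_fst _ _ _).trans (Category.comp_id _)
  have h1 : ((pullback.fst f f).stalkMap (m₂ f ιW z₁) ≫ (m₂ f ιW).stalkMap z₁).hom.Flat := by
    have key := (Scheme.Hom.stalkMap_comp (m₂ f ιW) (pullback.fst f f) z₁).symm.trans
      (Scheme.Hom.stalkMap_congr_hom _ _ hfac z₁)
    have hpt : (m₂ f ιW ≫ pullback.fst f f) z₁ = (pullback.fst f (ιW ≫ f)) z₁ := by rw [hfac]
    have h0 : ((X.presheaf.stalkCongr (.of_eq hpt)).hom ≫
        (pullback.fst f (ιW ≫ f)).stalkMap z₁).hom.Flat := by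
      rw [CommRingCat.hom_comp]
      refine RingHom.Flat.comp ?_ (Flat.stalkMap _ z₁)
      exact RingHom.Flat.of_bijective (ConcreteCategory.bijective_of_isIso _)
    exact flat_hom_of_eq _ _ key h0
  have h2 : (Ideal.Quotient.mk (RingHom.ker ((m₂ f ιW).stalkMap z₁).hom)).comp
      ((pullback.fst f f).stalkMap (m₂ f ιW z₁)).hom =
      (e.symm : _ →+* _).comp ((pullback.fst f f).stalkMap (m₂ f ιW z₁) ≫
        (m₂ f ιW).stalkMap z₁).hom := by
    ext a
    simp only [RingHom.comp_apply, CommRingCat.hom_comp]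
    rw [RingEquiv.coe_toRingHom, RingEquiv.eq_symm_apply]
    rfl
  rw [h2]
  exact RingHom.Flat.comp h1 (RingHom.Flat.of_bijective e.symm.bijective)

theorem flat_comp_stalkCongr {Y : Scheme.{u}} {R : CommRingCat.{u}} {x y : Y} (h : x = y)
    (φ : Y.presheaf.stalk y ⟶ R) (hφ : φ.hom.Flat) :
    ((Y.presheaf.stalkCongr (.of_eq h)).hom ≫ φ).hom.Flat := by
  rw [CommRingCat.hom_comp]
  refine RingHom.Flat.comp ?_ hφ
  exact RingHom.Flat.of_bijective (ConcreteCategory.bijective_of_isIso _)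

/-- **Reduction to the diagonal** for the Euler characteristic of `Tor`: the local
intersection number of `V` and `W` at `ξ` equals that of the diagonal and `V ×_S W` at `Δ(ξ)`. -/
theorem chi_diagonal [IsSeparated f] [Flat f] [IsClosedImmersion ιV] [IsClosedImmersion ιW]
    [Flat (ιW ≫ f)] (ξ : X) (hξV : ξ ∈ Set.range ιV) (hξW : ξ ∈ Set.range ιW) :
    IntMult.chi (X.presheaf.stalk ξ) (X.presheaf.stalk ξ ⧸ IntMult.stalkIdeal ιW.ker ξ)
        (X.presheaf.stalk ξ ⧸ IntMult.stalkIdeal ιV.ker ξ) =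
      IntMult.chi ((pullback f f).presheaf.stalk (pullback.diagonal f ξ))
        (((pullback f f).presheaf.stalk (pullback.diagonal f ξ)) ⧸
          IntMult.stalkIdeal (pullback.diagonal f).ker (pullback.diagonal f ξ))
        (((pullback f f).presheaf.stalk (pullback.diagonal f ξ)) ⧸
          IntMult.stalkIdeal (mm f ιV ιW).ker (pullback.diagonal f ξ)) := by
  have hz₁ : pullback.fst f f (pullback.diagonal f ξ) = ξ := by
    rw [← Scheme.Hom.comp_apply, pullback.diagonal_fst]; rfl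
  have hz₂ : pullback.snd f f (pullback.diagonal f ξ) = ξ := by
    rw [← Scheme.Hom.comp_apply, pullback.diagonal_snd]; rfl
  have hm₁ : pullback.diagonal f ξ ∈ Set.range (m₁ f ιV) := by
    rw [Scheme.Pullback.range_map]
    refine ⟨?_, ?_⟩
    · show pullback.fst f f (pullback.diagonal f ξ) ∈ Set.range ιV
      rw [hz₁]; exact hξV
    · exact ⟨_, rfl⟩
  have hm₂ : pullback.diagonal f ξ ∈ Set.range (m₂ f ιW) := by
    rw [Scheme.Pullback.range_map]
    refine ⟨⟨_, rfl⟩, ?_⟩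
    show pullback.snd f f (pullback.diagonal f ξ) ∈ Set.range ιW
    rw [hz₂]; exact hξW
  let τ₁ := (X.presheaf.stalkCongr (.of_eq hz₁.symm)).hom
  let τ₂ := (X.presheaf.stalkCongr (.of_eq hz₂.symm)).hom
  let p₁ : X.presheaf.stalk ξ →+* (pullback f f).presheaf.stalk (pullback.diagonal f ξ) :=
    (τ₁ ≫ (pullback.fst f f).stalkMap (pullback.diagonal f ξ)).hom
  let p₂ : X.presheaf.stalk ξ →+* (pullback f f).presheaf.stalk (pullback.diagonal f ξ) :=
    (τ₂ ≫ (pullback.snd f f).stalkMap (pullback.diagonal f ξ)).hom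
  let δ : (pullback f f).presheaf.stalk (pullback.diagonal f ξ) →+* X.presheaf.stalk ξ :=
    ((pullback.diagonal f).stalkMap ξ).hom
  have h₁ : δ.comp p₁ = RingHom.id _ := by
    have := stalkMap_retraction (pullback.diagonal f) (pullback.fst f f) (pullback.diagonal_fst f) ξ hz₁
    exact congrArg (fun φ => φ.hom) this
  have h₂ : δ.comp p₂ = RingHom.id _ := by
    have := stalkMap_retraction (pullback.diagonal f) (pullback.snd f f) (pullback.diagonal_snd f) ξ hz₂
    exact congrArg (fun φ => φ.hom) this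
  have hQ : (IntMult.stalkIdeal ιV.ker ξ).map p₁ = IntMult.stalkIdeal (m₁ f ιV).ker (pullback.diagonal f ξ) := by
    rw [stalkIdeal_ker_m₁ f ιV (pullback.diagonal f ξ) hm₁, ← stalkIdeal_map_stalkCongr ιV.ker hz₁.symm, Ideal.map_map]
    rfl
  have hP : (IntMult.stalkIdeal ιW.ker ξ).map p₂ = IntMult.stalkIdeal (m₂ f ιW).ker (pullback.diagonal f ξ) := by
    rw [stalkIdeal_ker_m₂ f ιW (pullback.diagonal f ξ) hm₂, ← stalkIdeal_map_stalkCongr ιW.ker hz₂.symm, Ideal.map_map]
    rfl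
  have hp₂ : p₂.Flat := flat_comp_stalkCongr hz₂.symm _ (Flat.stalkMap _ (pullback.diagonal f ξ))
  have hq₁ : ((Ideal.Quotient.mk ((IntMult.stalkIdeal ιW.ker ξ).map p₂)).comp p₁).Flat := by
    rw [hP]
    have h3 := flat_quot_m₂ f ιW (pullback.diagonal f ξ) hm₂
    have h4 : (Ideal.Quotient.mk (IntMult.stalkIdeal (m₂ f ιW).ker (pullback.diagonal f ξ))).comp p₁ =
        ((Ideal.Quotient.mk (IntMult.stalkIdeal (m₂ f ιW).ker (pullback.diagonal f ξ))).comp
          ((pullback.fst f f).stalkMap (pullback.diagonal f ξ)).hom).comp τ₁.hom := rfl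
    rw [h4]
    refine RingHom.Flat.comp ?_ h3
    exact RingHom.Flat.of_bijective (ConcreteCategory.bijective_of_isIso _)
  have main := chi_diag p₁ p₂ δ h₁ h₂ (IntMult.stalkIdeal ιW.ker ξ) (IntMult.stalkIdeal ιV.ker ξ)
    hp₂ hq₁
  rw [← main]
  refine chi_congr_ideal ?_ ?_
  · exact ker_stalkMap_eq_stalkIdeal (pullback.diagonal f) ξ
  · rw [ker_mm, stalkIdeal_sup, hQ, hP]

end Prod

end Groth.Agent.Lib.T2H9.DiagGeom
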