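import Groth.Agent.Lib.Helper13KzTor
import Groth.Agent.Lib.Helper13TorBC
import Groth.Agent.Lib.Helper5RegImm
import Groth.Agent.Lib.Helper28Unmixed
import Groth.Prelude.Def_DRing2
import Groth.Prelude.Def_RegImm

/-!
# Intersections of regular closed immersions in a Cohen–Macaulay scheme (T2 helper9)

* `subsingleton_tor_of_regular`: `Tor_n(A/(fs), A/(gs)) = 0` for `n > 0` when `fs` and `gs ++ fs` are
  weakly regular.
* `subsingleton_tor_of_forall_prime`, `subsingleton_tor_of_surjective`: local-to-global for Tor.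
* `ker_fst_comp`: the ideal sheaf of `Y ×_X Z` in `X` is `I_Y ⊔ I_Z`.
* `exists_stalk_generators`, `exists_sections_of_stalk`: length-tracking passage between regular
  sequences of sections and of germs.
* `le_height_ker_app`, `exists_stalk_data`.
-/

set_option autoImplicit false
set_option linter.style.haveILetI false
set_option linter.unusedSectionVars false
universe u
open CategoryTheory RingTheory.Sequence TensorProduct AlgebraicGeometry Limits

namespace Groth.Agent.Lib.T2H9.TorInter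

open Groth.Agent.Lib.Helper5.RegImm Groth.Agent.Lib.Helper5.RegSeq

/-- `Tor_n(A/(fs), A/(gs)) = 0` for `n > 0` when `fs` is regular on `A` and on `A/(gs)`. -/
theorem subsingleton_tor_of_regular {A : Type u} [CommRing A] (fs gs : List A)
    (hf : IsWeaklyRegular A fs) (hgf : IsWeaklyRegular A (gs ++ fs)) (n : ℕ) (hn : 0 < n) :
    Subsingleton (DRing.Tor A n (A ⧸ Ideal.ofList fs) (A ⧸ Ideal.ofList gs)) := by
  obtain ⟨e⟩ := Groth.Agent.Helper13Kz.nonempty_tor_iso_KH fs hf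
    (ModuleCat.of A (A ⧸ Ideal.ofList gs)) n
  have h2 := ((isWeaklyRegular_append_iff (M := A) gs fs).mp hgf).2
  have e' : (A ⧸ (Ideal.ofList gs • ⊤ : Submodule A A)) ≃ₗ[A] (A ⧸ Ideal.ofList gs) :=
    Submodule.quotEquivOfEq _ _ (by rw [smul_eq_mul, Ideal.mul_top])
  have h3 : IsWeaklyRegular (A ⧸ Ideal.ofList gs) fs := (e'.isWeaklyRegular_congr fs).mp h2
  have hz := Groth.Agent.Helper13Kz.isZero_KH_of_weaklyRegular fs
    (ModuleCat.of A (A ⧸ Ideal.ofList gs)) h3 (-(n : ℤ)) (by omega)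
  have hz' := hz.of_iso e
  exact ModuleCat.subsingleton_of_isZero hz'

/-- local-to-global for vanishing of Tor -/
theorem subsingleton_tor_of_forall_prime {R : Type u} [CommRing R] (M N : Type u)
    [AddCommGroup M] [Module R M] [AddCommGroup N] [Module R N] (n : ℕ)
    (h : ∀ (p : Ideal R) (_ : p.IsPrime), ∃ (A' : Type u) (_ : CommRing A') (_ : Algebra R A'),
      IsLocalization.AtPrime A' p ∧
        Subsingleton (DRing.Tor A' n (A' ⊗[R] M) (A' ⊗[R] N))) :
    Subsingleton (DRing.Tor R n M N) := by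
  rw [← Module.support_eq_empty_iff (R := R)]
  rw [Set.eq_empty_iff_forall_notMem]
  intro p hp
  rw [Module.mem_support_iff] at hp
  obtain ⟨A', _, _, hloc, hsub⟩ := h p.asIdeal p.2
  haveI : Module.Flat R A' := IsLocalization.flat A' p.asIdeal.primeCompl
  obtain ⟨e⟩ := Groth.Agent.Helper13TorBC.nonempty_tor_baseChange R A' M N n
  haveI : Subsingleton (A' ⊗[R] (DRing.Tor R n M N)) := e.toEquiv.subsingleton
  have hb : IsBaseChange A' (TensorProduct.mk R A' (DRing.Tor R n M N) 1) :=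
    TensorProduct.isBaseChange R (DRing.Tor R n M N) A'
  haveI : IsLocalizedModule p.asIdeal.primeCompl (TensorProduct.mk R A' (DRing.Tor R n M N) 1) :=
    (isLocalizedModule_iff_isBaseChange p.asIdeal.primeCompl A' _).mpr hb
  have e2 := IsLocalizedModule.iso p.asIdeal.primeCompl
    (TensorProduct.mk R A' (DRing.Tor R n M N) 1)
  haveI : Subsingleton (LocalizedModule p.asIdeal.primeCompl (DRing.Tor R n M N)) :=
    e2.toEquiv.subsingleton
  exact not_nontrivial _ hp

theorem nonempty_tensor_equiv_quot {R S A' : Type u} [CommRing R] [CommRing S] [CommRing A']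
    [Algebra R A'] [Module R S] (φ : R →+* S) (hφ : Function.Surjective φ)
    (hmod : ∀ (r : R) (s : S), r • s = φ r * s) :
    Nonempty (A' ⊗[R] S ≃ₗ[A'] A' ⧸ (RingHom.ker φ).map (algebraMap R A')) := by
  let e₀ : (R ⧸ RingHom.ker φ) ≃ₗ[R] S :=
    { (RingHom.quotientKerEquivOfSurjective hφ).toAddEquiv with
      map_smul' := by
        intro r x
        obtain ⟨y, rfl⟩ := Ideal.Quotient.mk_surjective x
        show (RingHom.quotientKerEquivOfSurjective hφ) (r • Ideal.Quotient.mk _ y) =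
          r • (RingHom.quotientKerEquivOfSurjective hφ) (Ideal.Quotient.mk _ y)
        rw [hmod, Algebra.smul_def, map_mul]
        rfl }
  exact ⟨(TensorProduct.AlgebraTensorModule.congr (LinearEquiv.refl A' A') e₀.symm) ≪≫ₗ
    (Algebra.TensorProduct.quotIdealMapEquivTensorQuot A' (RingHom.ker φ)).symm.toLinearEquiv⟩

theorem subsingleton_tor_congr {A : Type u} [CommRing A] {M M' N N' : Type u}
    [AddCommGroup M] [Module A M] [AddCommGroup N] [Module A N]
    [AddCommGroup M'] [Module A M'] [AddCommGroup N'] [Module A N']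
    (e₁ : M ≃ₗ[A] M') (e₂ : N ≃ₗ[A] N') (n : ℕ) (h : Subsingleton (DRing.Tor A n M' N')) :
    Subsingleton (DRing.Tor A n M N) := by
  let j : ((Tor (ModuleCat.{u} A) n).obj (ModuleCat.of A M)).obj (ModuleCat.of A N) ≅
      ((Tor (ModuleCat.{u} A) n).obj (ModuleCat.of A M')).obj (ModuleCat.of A N') :=
    ((Tor (ModuleCat.{u} A) n).mapIso e₁.toModuleIso).app _ ≪≫
      ((Tor (ModuleCat.{u} A) n).obj _).mapIso e₂.toModuleIso
  exact j.toLinearEquiv.toEquiv.subsingleton

theorem subsingleton_tor_of_surjective {R S₁ S₂ : Type u} [CommRing R] [CommRing S₁] [CommRing S₂]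
    (φ₁ : R →+* S₁) (φ₂ : R →+* S₂) (h₁ : Function.Surjective φ₁) (h₂ : Function.Surjective φ₂)
    (n : ℕ)
    (h : ∀ (p : Ideal R) (_ : p.IsPrime), ∃ (A' : Type u) (_ : CommRing A') (_ : Algebra R A'),
      IsLocalization.AtPrime A' p ∧
        Subsingleton (DRing.Tor A' n (A' ⧸ (RingHom.ker φ₁).map (algebraMap R A'))
          (A' ⧸ (RingHom.ker φ₂).map (algebraMap R A')))) :
    Subsingleton (@DRing.Tor R _ n S₁ S₂ _ φ₁.toModule _ φ₂.toModule) := by
  letI m₁ : Module R S₁ := φ₁.toModule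
  letI m₂ : Module R S₂ := φ₂.toModule
  refine subsingleton_tor_of_forall_prime S₁ S₂ n ?_
  intro p hp
  obtain ⟨A', i1, i2, hloc, hsub⟩ := h p hp
  refine ⟨A', i1, i2, hloc, ?_⟩
  obtain ⟨e₁⟩ := nonempty_tensor_equiv_quot (A' := A') φ₁ h₁ (fun r s => rfl)
  obtain ⟨e₂⟩ := nonempty_tensor_equiv_quot (A' := A') φ₂ h₂ (fun r s => rfl)
  exact subsingleton_tor_congr e₁ e₂ n hsub

/-- the ideal sheaf of the intersection of two closed subschemes is the sum -/
theorem ker_fst_comp {X Y Z : Scheme.{u}} (iY : Y ⟶ X) (iZ : Z ⟶ X) [IsClosedImmersion iY]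
    [IsClosedImmersion iZ] : (pullback.fst iY iZ ≫ iY).ker = iY.ker ⊔ iZ.ker := by
  apply le_antisymm
  · have hY : iY.ker ≤ (iY.ker ⊔ iZ.ker).subschemeι.ker := by
      rw [Scheme.IdealSheafData.ker_subschemeι]; exact le_sup_left
    have hZ : iZ.ker ≤ (iY.ker ⊔ iZ.ker).subschemeι.ker := by
      rw [Scheme.IdealSheafData.ker_subschemeι]; exact le_sup_right
    let l : (iY.ker ⊔ iZ.ker).subscheme ⟶ pullback iY iZ :=
      pullback.lift (IsClosedImmersion.lift iY _ hY) (IsClosedImmersion.lift iZ _ hZ)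
        (by rw [IsClosedImmersion.lift_fac, IsClosedImmersion.lift_fac])
    have hl : l ≫ (pullback.fst iY iZ ≫ iY) = (iY.ker ⊔ iZ.ker).subschemeι := by
      rw [← Category.assoc, pullback.lift_fst, IsClosedImmersion.lift_fac]
    have := Scheme.Hom.le_ker_comp l (pullback.fst iY iZ ≫ iY)
    rw [hl, Scheme.IdealSheafData.ker_subschemeι] at this
    exact this
  · apply sup_le
    · exact Scheme.Hom.le_ker_comp _ _
    · rw [pullback.condition]
      exact Scheme.Hom.le_ker_comp _ _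

theorem ker_app_fst_comp {X Y Z : Scheme.{u}} (iY : Y ⟶ X) (iZ : Z ⟶ X) [IsClosedImmersion iY]
    [IsClosedImmersion iZ] (U : X.Opens) (hU : IsAffineOpen U) :
    RingHom.ker ((pullback.fst iY iZ ≫ iY).app U).hom =
      RingHom.ker (iY.app U).hom ⊔ RingHom.ker (iZ.app U).hom := by
  have h := congrArg (fun I => Scheme.IdealSheafData.ideal I ⟨U, hU⟩) (ker_fst_comp iY iZ)
  simp only [Scheme.IdealSheafData.ideal_sup, Pi.sup_apply, Scheme.Hom.ker_apply] at h
  exact h

theorem exists_stalk_generators {Z W : Scheme.{u}} (φ : Z ⟶ W) [IsClosedImmersion φ] (z : Z)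
    (x : W) (hx : φ z = x) (d : ℕ)
    (hd : ∃ U : W.affineOpens, φ z ∈ U.1 ∧ IsClosedImmersion (φ ∣_ U.1) ∧
      ∃ rs : List Γ(W, U.1), rs.length = d ∧ RegImm.Kind.regular.Seq Γ(W, U.1) rs ∧
        RingHom.ker (φ.app U.1).hom = Ideal.ofList rs) :
    ∃ fs : List (W.presheaf.stalk x), fs.length = d ∧ IsWeaklyRegular (W.presheaf.stalk x) fs ∧
      (∀ r ∈ fs, r ∈ IsLocalRing.maximalIdeal (W.presheaf.stalk x)) ∧
      ∀ (V : W.Opens) (_ : IsAffineOpen V) (hxV : x ∈ V),
        (RingHom.ker (φ.app V).hom).map (W.presheaf.germ V x hxV).hom = Ideal.ofList fs := by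
  subst hx
  obtain ⟨U, hz, -, rs, hlen, hreg, hker⟩ := hd
  have hreg' : IsRegular Γ(W, U.1) rs := hreg
  letI := (W.presheaf.germ U.1 (φ z) hz).hom.toAlgebra
  haveI : IsLocalization.AtPrime (W.presheaf.stalk (φ z)) (U.2.primeIdealOf ⟨φ z, hz⟩).asIdeal :=
    U.2.isLocalization_stalk ⟨φ z, hz⟩
  haveI : Module.Flat Γ(W, U.1) (W.presheaf.stalk (φ z)) :=
    IsLocalization.flat _ (U.2.primeIdealOf ⟨φ z, hz⟩).asIdeal.primeCompl
  have hw : IsWeaklyRegular (W.presheaf.stalk (φ z))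
      (rs.map (W.presheaf.germ U.1 (φ z) hz).hom) := hreg'.toIsWeaklyRegular.of_flat
  have hk : RingHom.ker (φ.stalkMap z).hom
      = Ideal.ofList (rs.map (W.presheaf.germ U.1 (φ z) hz).hom) := by
    rw [ker_stalkMap_eq_map_ker φ z U.1 U.2 hz, Scheme.Hom.ker_apply, hker, Ideal.map_ofList]
  refine ⟨rs.map (W.presheaf.germ U.1 (φ z) hz).hom, by rw [List.length_map, hlen], hw, ?_, ?_⟩
  · intro r hr
    have hne : RingHom.ker (φ.stalkMap z).hom ≠ ⊤ := RingHom.ker_ne_top _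
    apply IsLocalRing.le_maximalIdeal hne
    rw [hk]
    exact Ideal.subset_span hr
  · intro V hV hxV
    rw [← hk, ker_stalkMap_eq_map_ker φ z V hV hxV, Scheme.Hom.ker_apply]

theorem map_ker_eq_top_of_notMem_range {Z W : Scheme.{u}} (φ : Z ⟶ W) [IsClosedImmersion φ]
    (x : W) (hx : x ∉ Set.range φ) (V : W.Opens) (hV : IsAffineOpen V) (hxV : x ∈ V) :
    (RingHom.ker (φ.app V).hom).map (W.presheaf.germ V x hxV).hom = ⊤ := by
  have hsupp : (φ.ker.support : Set W) = Set.range φ := by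
    rw [Scheme.Hom.support_ker]
    exact (φ.isClosedEmbedding.isClosed_range).closure_eq
  have hx' : x ∉ φ.ker.support := by
    intro h
    apply hx
    rw [← hsupp]
    exact h
  rw [Scheme.IdealSheafData.mem_support_iff_of_mem (U := ⟨V, hV⟩) hxV] at hx'
  rw [Scheme.mem_zeroLocus_iff] at hx'
  push Not at hx'
  obtain ⟨f, hf, hfx⟩ := hx'
  rw [Scheme.Hom.ker_apply] at hf
  apply Ideal.eq_top_of_isUnit_mem _ (Ideal.mem_map_of_mem _ hf)
  exact (W.mem_basicOpen f x hxV).mp hfx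

theorem le_height_ker_app {X W : Scheme.{u}} (w : W ⟶ X) [IsClosedImmersion w] (n : ℕ)
    (hcodim : ∀ w' : W, (n : WithBot ℕ∞) ≤ ringKrullDim (X.presheaf.stalk (w w')))
    (U : X.Opens) (hU : IsAffineOpen U) : (n : ℕ∞) ≤ (RingHom.ker (w.app U).hom).height := by
  rw [Ideal.height_eq_inf_minimalPrimes]
  refine le_iInf₂ fun p' hp' => ?_
  haveI hprime : p'.IsPrime := hp'.1.1
  have hle : RingHom.ker (w.app U).hom ≤ p' := hp'.1.2
  let y : PrimeSpectrum Γ(X, U) := ⟨p', hprime⟩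
  have hyU : hU.fromSpec y ∈ U := by
    have := hU.range_fromSpec
    rw [← SetLike.mem_coe, ← this]
    exact ⟨y, rfl⟩
  have hsupp : (w.ker.support : Set X) = Set.range w := by
    rw [Scheme.Hom.support_ker]
    exact (w.isClosedEmbedding.isClosed_range).closure_eq
  have hmem : hU.fromSpec y ∈ w.ker.support := by
    rw [Scheme.IdealSheafData.mem_support_iff_of_mem (U := ⟨U, hU⟩) hyU]
    have hz := Set.ext_iff.mp (hU.fromSpec_preimage_zeroLocus
      ((w.ker.ideal ⟨U, hU⟩ : Ideal Γ(X, U)) : Set Γ(X, U))) y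
    refine hz.mpr ?_
    refine (PrimeSpectrum.mem_zeroLocus (R := Γ(X, U)) y _).mpr ?_
    rw [Scheme.Hom.ker_apply]
    exact hle
  have hmem' : hU.fromSpec y ∈ Set.range w := by
    rw [← hsupp]; exact hmem
  obtain ⟨w', hw'⟩ := hmem'
  have h1 := hcodim w'
  rw [hw'] at h1
  letI := TopCat.Presheaf.algebra_section_stalk X.presheaf ⟨hU.fromSpec y, hyU⟩
  haveI : IsLocalization.AtPrime (X.presheaf.stalk (hU.fromSpec y)) y.asIdeal :=
    hU.isLocalization_stalk' y hyU
  rw [IsLocalization.AtPrime.ringKrullDim_eq_height y.asIdeal] at h1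
  exact_mod_cast h1

theorem exists_stalk_data {X Y Z : Scheme.{u}} [IsLocallyNoetherian X]
    (hCM : ∀ x : X, LocCoh.IsCohenMacaulayLocalRing (X.presheaf.stalk x))
    (iY : Y ⟶ X) (iZ : Z ⟶ X) [IsClosedImmersion iY] [IsClosedImmersion iZ] (a b : ℕ)
    (hY : RegImm.IsRegularImmersionOfCodim RegImm.Kind.regular a iY)
    (hZ : RegImm.IsRegularImmersionOfCodim RegImm.Kind.regular b iZ)
    (hcodim : ∀ w : ↥(pullback iY iZ), ((a + b : ℕ) : WithBot ℕ∞) ≤
      ringKrullDim (X.presheaf.stalk ((pullback.fst iY iZ ≫ iY).base w)))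
    (w : ↥(pullback iY iZ)) (x : X) (hx : (pullback.fst iY iZ ≫ iY) w = x) :
    ∃ fs gs : List (X.presheaf.stalk x), fs.length = a ∧ gs.length = b ∧
      IsWeaklyRegular (X.presheaf.stalk x) (fs ++ gs) ∧
      IsWeaklyRegular (X.presheaf.stalk x) (gs ++ fs) ∧
      ∀ (V : X.Opens) (_ : IsAffineOpen V) (hxV : x ∈ V),
        (RingHom.ker (iY.app V).hom).map (X.presheaf.germ V x hxV).hom = Ideal.ofList fs ∧
        (RingHom.ker (iZ.app V).hom).map (X.presheaf.germ V x hxV).hom = Ideal.ofList gs := by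
  have hy : iY (pullback.fst iY iZ w) = x := hx
  have hz : iZ (pullback.snd iY iZ w) = x := by
    rw [← hx]
    have := congrArg (fun f : pullback iY iZ ⟶ X => f w) (pullback.condition (f := iY) (g := iZ))
    exact this.symm
  obtain ⟨fs, hfl, -, hfm, hfV⟩ := exists_stalk_generators iY _ x hy a (hY.2 _)
  obtain ⟨gs, hgl, -, hgm, hgV⟩ := exists_stalk_generators iZ _ x hz b (hZ.2 _)
  obtain ⟨V, hV, hxV, -⟩ := exists_isAffineOpen_mem_and_subset (x := x) (U := ⊤) trivial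
  have hK := ker_app_fst_comp iY iZ V hV
  have hht0 := le_height_ker_app (pullback.fst iY iZ ≫ iY) (a + b) hcodim V hV
  letI := (X.presheaf.germ V x hxV).hom.toAlgebra
  haveI : IsLocalization.AtPrime (X.presheaf.stalk x) (hV.primeIdealOf ⟨x, hxV⟩).asIdeal :=
    hV.isLocalization_stalk ⟨x, hxV⟩
  have hKmap : (RingHom.ker ((pullback.fst iY iZ ≫ iY).app V).hom).map
      (algebraMap Γ(X, V) (X.presheaf.stalk x)) = Ideal.ofList (fs ++ gs) := by
    rw [hK, Ideal.map_sup, Ideal.ofList_append]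
    congr 1
    · exact (hfV V hV hxV)
    · exact (hgV V hV hxV)
  have hht : ((a + b : ℕ) : ℕ∞) ≤ (Ideal.ofList (fs ++ gs)).height := by
    rw [← hKmap, ← IsLocalization.height_under (hV.primeIdealOf ⟨x, hxV⟩).asIdeal.primeCompl]
    exact le_trans hht0 (Ideal.height_mono Ideal.le_comap_map)
  haveI := hCM x
  have hmem : ∀ r ∈ fs ++ gs, r ∈ IsLocalRing.maximalIdeal (X.presheaf.stalk x) := by
    intro r hr
    rcases List.mem_append.mp hr with h | h
    · exact hfm r h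
    · exact hgm r h
  have hmem' : ∀ r ∈ gs ++ fs, r ∈ IsLocalRing.maximalIdeal (X.presheaf.stalk x) := by
    intro r hr
    rcases List.mem_append.mp hr with h | h
    · exact hgm r h
    · exact hfm r h
  have hlen : (fs ++ gs).length = a + b := by rw [List.length_append, hfl, hgl]
  have hlen' : (gs ++ fs).length = a + b := by rw [List.length_append, hfl, hgl, add_comm]
  have hht' : ((a + b : ℕ) : ℕ∞) ≤ (Ideal.ofList (gs ++ fs)).height := by
    rw [Ideal.ofList_append, sup_comm, ← Ideal.ofList_append]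
    exact hht
  obtain ⟨h1, -, -⟩ := Groth.Agent.Lib.Helper28.isWeaklyRegular_of_length_le_height (fs ++ gs) hmem
    (by rw [hlen]; exact hht)
  obtain ⟨h2, -, -⟩ := Groth.Agent.Lib.Helper28.isWeaklyRegular_of_length_le_height (gs ++ fs) hmem'
    (by rw [hlen']; exact hht')
  exact ⟨fs, gs, hfl, hgl, h1, h2, fun V' hV' hxV' => ⟨hfV V' hV' hxV', hgV V' hV' hxV'⟩⟩

/-- length-tracking version of `Helper5.RegImm.regAt_of_stalkReg` -/
theorem exists_sections_of_stalk {Z W : Scheme.{u}} [IsLocallyNoetherian W] (φ : Z ⟶ W)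
    [IsClosedImmersion φ] (z : Z) (rs : List (W.presheaf.stalk (φ z)))
    (hreg : IsWeaklyRegular (W.presheaf.stalk (φ z)) rs)
    (hker : RingHom.ker (φ.stalkMap z).hom = Ideal.ofList rs) :
    ∃ U : W.affineOpens, φ z ∈ U.1 ∧ ∃ as : List Γ(W, U.1), as.length = rs.length ∧
      IsRegular Γ(W, U.1) as ∧ RingHom.ker (φ.app U.1).hom = Ideal.ofList as := by
  obtain ⟨U, hU, hz, as, has⟩ := exists_affine_lift W (φ z) rs
  haveI : IsNoetherianRing Γ(W, U) := IsLocallyNoetherian.component_noetherian ⟨U, hU⟩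
  letI alg := (W.presheaf.germ U (φ z) hz).hom.toAlgebra
  haveI loc : IsLocalization.AtPrime (W.presheaf.stalk (φ z))
      (hU.primeIdealOf ⟨φ z, hz⟩).asIdeal := hU.isLocalization_stalk ⟨φ z, hz⟩
  have hmapI : (φ.ker.ideal ⟨U, hU⟩).map (algebraMap Γ(W, U) (W.presheaf.stalk (φ z)))
      = (Ideal.ofList as).map (algebraMap Γ(W, U) (W.presheaf.stalk (φ z))) := by
    have h1 := ker_stalkMap_eq_map_ker φ z U hU hz
    rw [hker, ← has, ← Ideal.map_ofList] at h1
    exact h1.symm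
  obtain ⟨g₁, hg₁, H₁⟩ := exists_notMem_forall_map_le.{u, u} (hU.primeIdealOf ⟨φ z, hz⟩).asIdeal
    (W.presheaf.stalk (φ z)) (IsNoetherian.noetherian (φ.ker.ideal ⟨U, hU⟩)) hmapI.le
  obtain ⟨g₂, hg₂, H₂⟩ := exists_notMem_forall_map_le.{u, u} (hU.primeIdealOf ⟨φ z, hz⟩).asIdeal
    (W.presheaf.stalk (φ z)) (IsNoetherian.noetherian (Ideal.ofList as)) hmapI.ge
  have hregOn : RegOn ((⊥ : Ideal Γ(W, U)).map (algebraMap Γ(W, U) (W.presheaf.stalk (φ z))))
      (as.map (algebraMap Γ(W, U) (W.presheaf.stalk (φ z)))) := by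
    rw [Ideal.map_bot]
    have := (isWeaklyRegular_iff_regOn rs).mp hreg
    rw [← has] at this
    exact this
  obtain ⟨g₃, hg₃, H₃⟩ := exists_notMem_forall_regOn.{u, u} (hU.primeIdealOf ⟨φ z, hz⟩).asIdeal
    (W.presheaf.stalk (φ z)) as ⊥ hregOn
  obtain ⟨f, hf⟩ : ∃ f, f = g₁ * g₂ * g₃ := ⟨_, rfl⟩
  have hfp : f ∉ (hU.primeIdealOf ⟨φ z, hz⟩).asIdeal := by
    rw [hf]
    intro hmem
    rcases Ideal.IsPrime.mem_or_mem inferInstance hmem with h1 | h1
    · rcases Ideal.IsPrime.mem_or_mem inferInstance h1 with h2 | h2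
      · exact hg₁ h2
      · exact hg₂ h2
    · exact hg₃ h1
  have hV : IsAffineOpen (W.basicOpen f) := hU.basicOpen f
  have hzV : φ z ∈ W.basicOpen f := by
    rw [W.mem_basicOpen f (φ z) hz]
    exact (IsLocalization.AtPrime.isUnit_to_map_iff (W.presheaf.stalk (φ z))
      (hU.primeIdealOf ⟨φ z, hz⟩).asIdeal f).mpr hfp
  haveI : IsLocalization.Away f Γ(W, W.basicOpen f) := hU.isLocalization_basicOpen f
  have hfu : IsUnit (algebraMap Γ(W, U) Γ(W, W.basicOpen f) f) :=
    IsLocalization.Away.algebraMap_isUnit f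
  have hfu' : IsUnit (algebraMap Γ(W, U) Γ(W, W.basicOpen f) g₁ *
      algebraMap Γ(W, U) Γ(W, W.basicOpen f) g₂ * algebraMap Γ(W, U) Γ(W, W.basicOpen f) g₃) := by
    rw [← map_mul, ← map_mul, ← hf]
    exact hfu
  have hu₃ : IsUnit (algebraMap Γ(W, U) Γ(W, W.basicOpen f) g₃) := isUnit_of_mul_isUnit_right hfu'
  have hu₁₂ := isUnit_of_mul_isUnit_left hfu'
  have hu₁ : IsUnit (algebraMap Γ(W, U) Γ(W, W.basicOpen f) g₁) := isUnit_of_mul_isUnit_left hu₁₂
  have hu₂ : IsUnit (algebraMap Γ(W, U) Γ(W, W.basicOpen f) g₂) := isUnit_of_mul_isUnit_right hu₁₂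
  have hkerV : φ.ker.ideal ⟨W.basicOpen f, hV⟩
      = Ideal.ofList (as.map (algebraMap Γ(W, U) Γ(W, W.basicOpen f))) := by
    have h1 := φ.ker.map_ideal_basicOpen ⟨U, hU⟩ f
    have h2 : (φ.ker.ideal ⟨U, hU⟩).map (algebraMap Γ(W, U) Γ(W, W.basicOpen f))
        = (Ideal.ofList as).map (algebraMap Γ(W, U) Γ(W, W.basicOpen f)) :=
      le_antisymm (H₁ _ hu₁) (H₂ _ hu₂)
    rw [← Ideal.map_ofList, ← h2]
    exact h1.symm
  have hw : IsWeaklyRegular Γ(W, W.basicOpen f)
      (as.map (algebraMap Γ(W, U) Γ(W, W.basicOpen f))) := by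
    rw [isWeaklyRegular_iff_regOn]
    have := H₃ (Submonoid.powers f) Γ(W, W.basicOpen f) hu₃
    rw [Ideal.map_bot] at this
    exact this
  haveI : Nonempty ↥(φ ⁻¹ᵁ W.basicOpen f) := ⟨⟨z, hzV⟩⟩
  refine ⟨⟨W.basicOpen f, hV⟩, hzV, as.map (algebraMap Γ(W, U) Γ(W, W.basicOpen f)), ?_,
    ⟨hw, ?_⟩, ?_⟩
  · rw [List.length_map, ← has, List.length_map]
  · rw [smul_eq_mul, Ideal.mul_top, ← hkerV, Scheme.Hom.ker_apply]
    exact (RingHom.ker_ne_top _).symm
  · rw [← hkerV, Scheme.Hom.ker_apply]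

end Groth.Agent.Lib.T2H9.TorInter
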