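import Groth.Agent.Lib.T2H9IntMultDim
import Groth.Agent.Lib.Helper3SmDim
import Groth.Agent.Lib.Helper3LocDimBC
import Groth.Agent.Lib.T2H9TorInter
import Groth.Agent.Lib.Helper5RLR
import Groth.Agent.Lib.Helper5RLR2
import Groth.Prelude.Def_RegImm

/-!
# The diagonal of a smooth variety is a regular immersion of codimension `dim X` (T2H9)
-/

set_option autoImplicit false
set_option linter.style.haveILetI false
set_option linter.unusedSectionVars false
set_option linter.unusedVariables false
universe u
open CategoryTheory AlgebraicGeometry Limits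

namespace Groth.Agent.Lib.T2H9.IntMultDiag

open Groth.Agent.Lib.Helper4.VarDim

/-- over a one-point integral base the fibre dimension is the local dimension -/
theorem fibreDimAt_eq_localDim {X T : Scheme.{u}} (f : X ⟶ T) [IsIntegral T] [Subsingleton T]
    [LocallyOfFiniteType f] (x : X) : FlatMor.fibreDimAt f x = FlatMor.localDim X x := by
  unfold FlatMor.fibreDimAt
  have hpb : IsPullback (f.fiberι (f x)) (f.fiberToSpecResidueField (f x)) f
      (T.fromSpecResidueField (f x)) := IsPullback.of_hasPullback _ _
  rw [Groth.Agent.Lib.Helper3.LocDimBC.localDim_eq_of_isPullback_onePoint f _ _ _ hpb,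
    f.fiberι_asFiber]

section Diag

variable (K : Type u) [Field K] (X : Scheme.{u}) (f : X ⟶ Spec (CommRingCat.of K)) [Smooth f]
  [IsIntegral X] (n : ℕ) (hn : topologicalKrullDim X = n)

include hn in
theorem fibreDimAt_eq (x : X) : FlatMor.fibreDimAt f x = (n : WithBot ℕ∞) := by
  letI : X.Over (Spec (CommRingCat.of K)) := ⟨f⟩
  haveI : LocallyOfFiniteType (X ↘ Spec (CommRingCat.of K)) :=
    (inferInstance : LocallyOfFiniteType f)
  rw [fibreDimAt_eq_localDim f x,
    Groth.Agent.Lib.T2H9.IntMultSetup.localDim_eq_topologicalKrullDim K X x, hn]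

include hn in
/-- `dim O_{X×X,Δ(x)} = dim O_{X,x} + n` -/
theorem ringKrullDim_stalk_diagonal (x : X) :
    ringKrullDim ((pullback f f).presheaf.stalk (pullback.diagonal f x)) =
      ringKrullDim (X.presheaf.stalk x) + (n : WithBot ℕ∞) := by
  letI : X.Over (Spec (CommRingCat.of K)) := ⟨f⟩
  haveI : LocallyOfFiniteType (X ↘ Spec (CommRingCat.of K)) :=
    (inferInstance : LocallyOfFiniteType f)
  letI : (pullback f f).Over (Spec (CommRingCat.of K)) := ⟨pullback.fst f f ≫ f⟩
  haveI : LocallyOfFiniteType ((pullback f f) ↘ Spec (CommRingCat.of K)) :=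
    (inferInstance : LocallyOfFiniteType (pullback.fst f f ≫ f))
  set z := pullback.diagonal f x with hz
  -- fibre dimensions
  have h2 : FlatMor.fibreDimAt (pullback.fst f f) z = (n : WithBot ℕ∞) := by
    rw [Groth.Agent.Lib.Helper3.LocDimBC.fibreDimAt_eq_of_isPullback f f (pullback.snd f f)
      (pullback.fst f f) (IsPullback.of_hasPullback f f).flip z]
    exact fibreDimAt_eq K X f n hn _
  have h3 : FlatMor.fibreDimAt (pullback.fst f f ≫ f) z = ((n + n : ℕ) : WithBot ℕ∞) := by
    rw [Groth.Agent.Lib.Helper3.SmDim.fibreDimAt_comp_of_smooth, h2, fibreDimAt_eq K X f n hn]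
    push_cast
    rfl
  rw [fibreDimAt_eq_localDim] at h3
  obtain ⟨b, hb⟩ := exists_ringKrullDim_stalk_eq K (pullback f f) z
  have h5 := localDim_eq_add K (pullback f f) z (trdegNat K (pullback f f) z) b
    (trdeg_eq_trdegNat K (pullback f f) z) hb
  rw [h3] at h5
  have h6 : trdegNat K X x = trdegNat K (pullback f f) z :=
    Groth.Agent.Lib.T2H9.IntMultDim.trdegNat_eq_of_isPreimmersion K (pullback f f) X
      (pullback.diagonal f) (by
        show pullback.diagonal f ≫ pullback.fst f f ≫ f = f
        rw [pullback.diagonal_fst_assoc]) x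
  have h7 := Groth.Agent.Lib.T2H9.IntMultSetup.ringKrullDim_stalk_add_trdegNat K X x
  rw [hn] at h7
  obtain ⟨a, ha, ha'⟩ := Groth.Agent.Lib.T2H9.IntMultSetup.exists_nat_of_add_eq h7
  rw [hb, ha]
  have h5' : n + n = trdegNat K (pullback f f) z + b := by exact_mod_cast h5
  have : b = a + n := by omega
  exact_mod_cast this

end Diag

open Groth.Agent.Lib.Helper5 IsLocalRing in
/-- the kernel of a surjection of regular local rings is generated by a regular sequence of length
the difference of the dimensions -/
theorem exists_regular_ker {A B : Type u} [CommRing A] [CommRing B] [IsRegularLocalRing A]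
    [IsRegularLocalRing B] (φ : A →+* B) (hφ : Function.Surjective φ) (n : ℕ)
    (hdim : ringKrullDim A = ringKrullDim B + (n : WithBot ℕ∞)) :
    ∃ rs : List A, rs.length = n ∧ RingTheory.Sequence.IsRegular A rs ∧
      RingHom.ker φ = Ideal.ofList rs := by
  have e : (A ⧸ RingHom.ker φ) ≃+* B := RingHom.quotientKerEquivOfSurjective hφ
  haveI : IsRegularLocalRing (A ⧸ RingHom.ker φ) := IsRegularLocalRing.of_ringEquiv e.symm
  obtain ⟨r, x, hli, hI⟩ := exists_linearIndependent_span_range_eq (RingHom.ker φ)
  have h1 := (isRegularLocalRing_quotient_of_linearIndependent' x hli (RingHom.ker φ) hI).2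
  rw [ringKrullDim_eq_of_ringEquiv e] at h1
  obtain ⟨b, hb⟩ := exists_nat_ringKrullDim_eq B
  obtain ⟨a, ha⟩ := exists_nat_ringKrullDim_eq A
  rw [hb, ha] at h1 hdim
  have h1' : b + r = a := by exact_mod_cast h1
  have hdim' : a = b + n := by exact_mod_cast hdim
  have hrn : r = n := by omega
  refine ⟨List.ofFn fun i => (x i : A), by rw [List.length_ofFn, hrn],
    isRegular_ofFn_of_linearIndependent x hli, ?_⟩
  rw [ofList_ofFn_eq_span_range]
  exact hI

/-- the diagonal of a smooth integral separated `K`-scheme of dimension `n` is a regular immersion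
of codimension `n` -/
theorem diagonal_isRegularImmersionOfCodim (K : Type u) [Field K] (X : Scheme.{u})
    (f : X ⟶ Spec (CommRingCat.of K)) [Smooth f] [IsSeparated f] [IsIntegral X] (n : ℕ)
    (hn : topologicalKrullDim X = n) :
    RegImm.IsRegularImmersionOfCodim RegImm.Kind.regular n (pullback.diagonal f) := by
  refine ⟨inferInstance, fun x => ?_⟩
  haveI : IsLocallyNoetherian (pullback f f) :=
    LocallyOfFiniteType.isLocallyNoetherian (pullback.fst f f ≫ f)
  haveI hA : IsRegularLocalRing ((pullback f f).presheaf.stalk (pullback.diagonal f x)) :=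
    Groth.Agent.Lib.Helper6.SmRegSch.isRegularLocalRing_stalk_of_smooth_over_field K (pullback f f)
      (pullback.fst f f ≫ f) (pullback.diagonal f x)
  haveI hB : IsRegularLocalRing (X.presheaf.stalk x) :=
    Groth.Agent.Lib.Helper6.SmRegSch.isRegularLocalRing_stalk_of_smooth_over_field K X f x
  have hsurj : Function.Surjective ((pullback.diagonal f).stalkMap x).hom :=
    (pullback.diagonal f).stalkMap_surjective x
  obtain ⟨rs, hlen, hreg, hker⟩ := exists_regular_ker ((pullback.diagonal f).stalkMap x).hom hsurj n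
    (ringKrullDim_stalk_diagonal K X f n hn x)
  obtain ⟨U, hU, as, hlen', hreg', hker'⟩ :=
    Groth.Agent.Lib.T2H9.TorInter.exists_sections_of_stalk (pullback.diagonal f) x rs
      hreg.toIsWeaklyRegular hker
  exact ⟨U, hU, inferInstance, as, hlen'.trans hlen, hreg', hker'⟩

end Groth.Agent.Lib.T2H9.IntMultDiag
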