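import Groth.Agent.Lib.T2H9IntMultDim
import Groth.Agent.Lib.T2H9IntMultDiag
import Groth.Agent.Lib.Helper3RelDimFlat
import Groth.Agent.Lib.Helper3AbHom
import Groth.Agent.Lib.Helper6GenCompTop

/-!
# Dimension of components of intersections on a smooth variety (T2H9)
-/

set_option autoImplicit false
set_option linter.style.haveILetI false
set_option linter.unusedSectionVars false
set_option linter.unusedVariables false
universe u
open CategoryTheory AlgebraicGeometry Limits

namespace Groth.Agent.Lib.T2H9.IntMultInter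

open Groth.Agent.Helper13Kz Groth.Agent.Lib.Helper4.VarDim Groth.Agent.Lib.T2H9.IntMultDim

/-- pointwise form of `le_dim_component` for an arbitrary closed subscheme -/
theorem localDim_le_dim_closure (K : Type u) [Field K] (X Y Z : Scheme.{u})
    (gY : Y ⟶ Spec (CommRingCat.of K)) [LocallyOfFiniteType gY] (f : X ⟶ Y) [IsImmersion f] (c : ℕ)
    (hloc : ∀ x : X, ∃ U : Y.affineOpens, f x ∈ U.1 ∧ IsClosedImmersion (f ∣_ U.1) ∧
      ∃ rs : List Γ(Y, U.1), rs.length = c ∧ RingHom.ker (f.app U.1).hom = Ideal.ofList rs)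
    (ι : Z ⟶ Y) [IsClosedImmersion ι] (τ : ↥(pullback f ι))
    (hτmax : ∀ w' : ↥(pullback f ι), w' ⤳ τ → w' = τ) :
    FlatMor.localDim Z (pullback.snd f ι τ) ≤
      topologicalKrullDim ↥(closure ({τ} : Set ↥(pullback f ι))) + c := by
  letI : Z.Over (Spec (CommRingCat.of K)) := ⟨ι ≫ gY⟩
  haveI : LocallyOfFiniteType (Z ↘ Spec (CommRingCat.of K)) :=
    (inferInstance : LocallyOfFiniteType (ι ≫ gY))
  letI : (pullback f ι).Over (Spec (CommRingCat.of K)) := ⟨pullback.snd f ι ≫ ι ≫ gY⟩
  haveI : LocallyOfFiniteType ((pullback f ι) ↘ Spec (CommRingCat.of K)) :=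
    (inferInstance : LocallyOfFiniteType (pullback.snd f ι ≫ ι ≫ gY))
  haveI : IsLocallyNoetherian Z := LocallyOfFiniteType.isLocallyNoetherian (ι ≫ gY)
  obtain ⟨U, hU, hcl, rs, hlen, hker⟩ := hloc (pullback.fst f ι τ)
  haveI := hcl
  have hA := ringKrullDim_stalk_le f ι τ hτmax U hU rs hker
  rw [hlen] at hA
  obtain ⟨b, hb⟩ := exists_ringKrullDim_stalk_eq K Z (pullback.snd f ι τ)
  have hB := localDim_eq_add K Z (pullback.snd f ι τ) (trdegNat K Z (pullback.snd f ι τ)) b
    (trdeg_eq_trdegNat K Z (pullback.snd f ι τ)) hb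
  have hC := trdegNat_eq_of_isPreimmersion K Z (pullback f ι) (pullback.snd f ι) rfl τ
  have hD := trdegNat_le_topologicalKrullDim_of_isLocallyClosed K (pullback f ι)
    (closure ({τ} : Set ↥(pullback f ι))) isClosed_closure.isLocallyClosed τ
    (subset_closure (Set.mem_singleton τ))
  rw [hC] at hD
  rw [hB]
  rw [hb] at hA
  push_cast
  exact add_le_add hD hA

/-- the local dimension of a product of irreducible `k`-schemes locally of finite type -/
theorem localDim_pullback (k : Type u) [Field k] (V W : Scheme.{u})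
    (gV : V ⟶ Spec (CommRingCat.of k)) (gW : W ⟶ Spec (CommRingCat.of k))
    [LocallyOfFiniteType gV] [LocallyOfFiniteType gW] [IrreducibleSpace V] [IrreducibleSpace W]
    (r s : ℕ) (hr : topologicalKrullDim V = r) (hs : topologicalKrullDim W = s)
    (z : ↥(pullback gV gW)) :
    FlatMor.localDim ↥(pullback gV gW) z = ((r + s : ℕ) : WithBot ℕ∞) := by
  have hW : ∀ w : W, FlatMor.fibreDimAt gW w = (s : WithBot ℕ∞) := by
    intro w
    letI : W.Over (Spec (CommRingCat.of k)) := ⟨gW⟩
    haveI : LocallyOfFiniteType (W ↘ Spec (CommRingCat.of k)) :=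
      (inferInstance : LocallyOfFiniteType gW)
    rw [Groth.Agent.Lib.T2H9.IntMultDiag.fibreDimAt_eq_localDim gW w,
      Groth.Agent.Lib.T2H9.IntMultSetup.localDim_eq_topologicalKrullDim k W w, hs]
  have hV : ∀ v : V, FlatMor.localDim V v = (r : WithBot ℕ∞) := by
    intro v
    letI : V.Over (Spec (CommRingCat.of k)) := ⟨gV⟩
    haveI : LocallyOfFiniteType (V ↘ Spec (CommRingCat.of k)) :=
      (inferInstance : LocallyOfFiniteType gV)
    rw [Groth.Agent.Lib.T2H9.IntMultSetup.localDim_eq_topologicalKrullDim k V v, hr]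
  haveI : IsLocallyNoetherian V := LocallyOfFiniteType.isLocallyNoetherian gV
  haveI : IsLocallyNoetherian (pullback gV gW) :=
    LocallyOfFiniteType.isLocallyNoetherian (pullback.fst gV gW ≫ gV)
  haveI : Flat gW := Groth.Agent.Lib.Helper3.AbHom.flat_of_isField (Field.toIsField k) gW
  haveI : Flat (pullback.fst gV gW) := inferInstance
  have hrel : Cyc.HasRelDim (pullback.fst gV gW) s := by
    rw [Groth.Agent.Lib.Helper3.RelDim.hasRelDim_iff_forall_fibreDimAt_eq]
    intro y
    rw [Groth.Agent.Lib.Helper3.LocDimBC.fibreDimAt_eq_of_isPullback gW gV (pullback.snd gV gW)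
      (pullback.fst gV gW) (IsPullback.of_hasPullback gV gW).flip y]
    exact hW _
  rw [Groth.Agent.Lib.Helper3.RelDimFlat.localDim_eq_add (pullback.fst gV gW) s hrel z, hV]
  push_cast
  rfl

/-- a closed subscheme structure on a closed subset -/
theorem exists_closedImmersion_range_eq (X : Scheme.{u}) (V : Set X) (hVc : IsClosed V) :
    ∃ (V' : Scheme.{u}) (ι : V' ⟶ X), IsClosedImmersion ι ∧ Set.range ι = V := by
  refine ⟨_, (Scheme.IdealSheafData.vanishingIdeal ⟨V, hVc⟩).subschemeι, inferInstance, ?_⟩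
  rw [Scheme.IdealSheafData.range_subschemeι, Scheme.IdealSheafData.coe_support_vanishingIdeal]
  rfl

/-- transport of irreducibility and dimension to a closed subscheme structure -/
theorem irreducibleSpace_and_dim {X V' : Scheme.{u}} (ι : V' ⟶ X) [IsClosedImmersion ι] (V : Set X)
    (hr : Set.range ι = V) (hVi : IsIrreducible V) :
    IrreducibleSpace V' ∧ topologicalKrullDim V' = topologicalKrullDim ↥V := by
  let e : V' ≃ₜ ↥V := (ι.isEmbedding.toHomeomorph).trans (Homeomorph.setCongr hr)
  constructor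
  · haveI : IrreducibleSpace ↥V := Subtype.irreducibleSpace hVi
    exact e.irreducibleSpace_iff.mpr inferInstance
  · exact IsHomeomorph.topologicalKrullDim_eq _ e.isHomeomorph

/-- the diagonal pulls back a product of closed subschemes to their intersection -/
theorem range_fst_diagonal {X S V' W' : Scheme.{u}} (f : X ⟶ S) (ιV : V' ⟶ X) (ιW : W' ⟶ X)
    (V W : Set X) (hV : Set.range ιV = V) (hW : Set.range ιW = W) :
    Set.range (pullback.fst (pullback.diagonal f)
      (pullback.map (ιV ≫ f) (ιW ≫ f) f f ιV ιW (𝟙 _) ((Category.comp_id _).trans rfl)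
        ((Category.comp_id _).trans rfl))) = V ∩ W := by
  rw [Scheme.Pullback.range_fst, Scheme.Pullback.range_map, hV, hW]
  ext x
  simp only [Set.mem_preimage, Set.mem_inter_iff]
  rw [← Scheme.Hom.comp_apply, ← Scheme.Hom.comp_apply, pullback.diagonal_fst,
    pullback.diagonal_snd]
  rfl

theorem le_dim_component_inter (k : Type u) [Field k] (X : Scheme.{u})
    (f : X ⟶ Spec (CommRingCat.of k)) [Smooth f] [IsSeparated f] [IsIntegral X]
    (n r s : ℕ) (hn : topologicalKrullDim X = n) (V W : Set X) (hVc : IsClosed V)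
    (hVi : IsIrreducible V) (hWc : IsClosed W) (hWi : IsIrreducible W)
    (hr : topologicalKrullDim ↥V = r) (hs : topologicalKrullDim ↥W = s) (Z : Set ↥(V ∩ W))
    (hZ : Z ∈ irreducibleComponents ↥(V ∩ W)) :
    ((r + s : ℕ) : WithBot ℕ∞) ≤ topologicalKrullDim ↥Z + n := by
  obtain ⟨V', ιV, hιV, hrV⟩ := exists_closedImmersion_range_eq X V hVc
  obtain ⟨W', ιW, hιW, hrW⟩ := exists_closedImmersion_range_eq X W hWc
  obtain ⟨hVirr, hVdim⟩ := irreducibleSpace_and_dim ιV V hrV hVi
  obtain ⟨hWirr, hWdim⟩ := irreducibleSpace_and_dim ιW W hrW hWi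
  rw [hr] at hVdim
  rw [hs] at hWdim
  have hj : IsClosedImmersion (pullback.map (ιV ≫ f) (ιW ≫ f) f f ιV ιW (𝟙 _)
      ((Category.comp_id _).trans rfl) ((Category.comp_id _).trans rfl)) :=
    MorphismProperty.pullbackMap (P := @IsClosedImmersion) hιV hιW rfl rfl
  set j := pullback.map (ιV ≫ f) (ιW ≫ f) f f ιV ιW (𝟙 _)
      ((Category.comp_id _).trans rfl) ((Category.comp_id _).trans rfl) with hjdef
  have hrq := range_fst_diagonal f ιV ιW V W hrV hrW
  rw [← hjdef] at hrq
  -- the homeomorphism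
  let h : ↥(pullback (pullback.diagonal f) j) ≃ₜ ↥(V ∩ W) :=
    ((pullback.fst (pullback.diagonal f) j).isEmbedding.toHomeomorph).trans
      (Homeomorph.setCongr hrq)
  have hT : h.symm '' Z ∈ irreducibleComponents ↥(pullback (pullback.diagonal f) j) :=
    Groth.Agent.Lib.Helper6.GenCompTop.image_mem_irreducibleComponents h.symm Z hZ
  have hdimT : topologicalKrullDim ↥(h.symm '' Z) = topologicalKrullDim ↥Z :=
    (IsHomeomorph.topologicalKrullDim_eq _ (h.symm.image Z).isHomeomorph).symm
  obtain ⟨τ, hτ⟩ := Groth.Agent.Lib.Helper14.exists_closure_eq_of_mem_irreducibleComponents hT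
  have hτmax : ∀ w' : ↥(pullback (pullback.diagonal f) j), w' ⤳ τ → w' = τ :=
    (Groth.Agent.Lib.Helper14.closure_mem_irreducibleComponents_iff τ).mp (hτ ▸ hT)
  have hloc := (Groth.Agent.Lib.T2H9.IntMultDiag.diagonal_isRegularImmersionOfCodim k X f n hn).2
  have key := localDim_le_dim_closure k X (pullback f f) (pullback (ιV ≫ f) (ιW ≫ f))
    (pullback.fst f f ≫ f) (pullback.diagonal f) n (fun x => by
      obtain ⟨U, hU, hcl, rs, hlen, -, hker⟩ := hloc x
      exact ⟨U, hU, hcl, rs, hlen, hker⟩) j τ hτmax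
  rw [localDim_pullback k V' W' (ιV ≫ f) (ιW ≫ f) r s hVdim hWdim, hτ, hdimT] at key
  exact key

end Groth.Agent.Lib.T2H9.IntMultInter
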