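import Groth.Agent.Lib.T2H9DiagGeom
import Groth.Agent.Lib.T2H9IntMultDiag
import Groth.Agent.Lib.T2H9IntMultInter
import Groth.Agent.Lib.T2H9IntMultRing
import Groth.Agent.Lib.Helper3AbHom

/-!
# Positivity of Serre's intersection multiplicity on a smooth variety (T2H9)

Via reduction to the diagonal: `χ^{O_ξ}(O_ξ/I_W, O_ξ/I_V) = χ^{O_{X×X,Δξ}}(O/I_Δ, O/I_{V×W})`, the diagonal
is cut out by a regular sequence of length `n`, and `dim O_{V×W,Δξ} ≥ n` for a proper intersection.
-/

set_option autoImplicit false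
set_option linter.style.haveILetI false
set_option linter.unusedSectionVars false
universe u
open CategoryTheory AlgebraicGeometry Limits

namespace Groth.Agent.Lib.T2H9.DiagPos

open Groth.Agent.Lib.T2H9.DiagGeom Groth.Agent.Lib.T2H9.IntMultSetup
  Groth.Agent.Lib.Helper4.VarDim

/-- the quotient of the stalk by the stalk ideal of a closed immersion is the stalk of the
subscheme (dimension form) -/
theorem ringKrullDim_quot_stalkIdeal_ker {Y₀ Y : Scheme.{u}} (ι : Y₀ ⟶ Y) [IsClosedImmersion ι]
    (y₀ : Y₀) :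
    ringKrullDim (Y.presheaf.stalk (ι y₀) ⧸ IntMult.stalkIdeal ι.ker (ι y₀)) =
      ringKrullDim (Y₀.presheaf.stalk y₀) := by
  rw [← ker_stalkMap_eq_stalkIdeal]
  exact ringKrullDim_eq_of_ringEquiv
    (RingHom.quotientKerEquivOfSurjective (ι.stalkMap_surjective y₀))

section Setup

variable (K : Type u) [Field K] (X : Scheme.{u}) (f : X ⟶ Spec (CommRingCat.of K)) [Smooth f]
  [IsSeparated f] [IsIntegral X] (IV IW : X.IdealSheafData) [IsIntegral IV.subscheme]
  [IsIntegral IW.subscheme]
  (n r s : ℕ) (hn : topologicalKrullDim X = n) (hr : topologicalKrullDim IV.support = r)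
  (hs : topologicalKrullDim IW.support = s)
  (hprop : IntMult.ProperInt (IV.support : Set X) (IW.support : Set X) n r s) (ξ : X)
  (hξV : ξ ∈ IV.support) (hξW : ξ ∈ IW.support)

theorem topologicalKrullDim_subscheme (I : X.IdealSheafData) :
    topologicalKrullDim I.subscheme = topologicalKrullDim ↥I.support := by
  let e : I.subscheme ≃ₜ ↥(I.support : Set X) :=
    (I.subschemeι.isEmbedding.toHomeomorph).trans
      (Homeomorph.setCongr (Scheme.IdealSheafData.range_subschemeι I))
  exact IsHomeomorph.topologicalKrullDim_eq _ e.isHomeomorph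

include hn hr hs hprop hξV hξW in
/-- `dim O_{V×W,Δξ} ≥ n` for a proper intersection -/
theorem le_ringKrullDim_quot :
    ((n : ℕ) : WithBot ℕ∞) ≤
      ringKrullDim ((pullback f f).presheaf.stalk (pullback.diagonal f ξ) ⧸
        IntMult.stalkIdeal (mm f IV.subschemeι IW.subschemeι).ker (pullback.diagonal f ξ)) := by
  letI : X.Over (Spec (CommRingCat.of K)) := ⟨f⟩
  haveI : LocallyOfFiniteType (X ↘ Spec (CommRingCat.of K)) :=
    (inferInstance : LocallyOfFiniteType f)
  letI : (pullback f f).Over (Spec (CommRingCat.of K)) := ⟨pullback.fst f f ≫ f⟩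
  haveI : LocallyOfFiniteType ((pullback f f) ↘ Spec (CommRingCat.of K)) :=
    (inferInstance : LocallyOfFiniteType (pullback.fst f f ≫ f))
  letI : (pullback (IV.subschemeι ≫ f) (IW.subschemeι ≫ f)).Over (Spec (CommRingCat.of K)) :=
    ⟨mm f IV.subschemeι IW.subschemeι ≫ pullback.fst f f ≫ f⟩
  haveI hmmcl : IsClosedImmersion (mm f IV.subschemeι IW.subschemeι) :=
    MorphismProperty.pullbackMap (P := @IsClosedImmersion) inferInstance inferInstance rfl rfl
  haveI : LocallyOfFiniteType
      ((pullback (IV.subschemeι ≫ f) (IW.subschemeι ≫ f)) ↘ Spec (CommRingCat.of K)) :=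
    (inferInstance : LocallyOfFiniteType
      (mm f IV.subschemeι IW.subschemeι ≫ pullback.fst f f ≫ f))
  have hz₁ : pullback.fst f f (pullback.diagonal f ξ) = ξ := by
    rw [← Scheme.Hom.comp_apply, pullback.diagonal_fst]; rfl
  have hz₂ : pullback.snd f f (pullback.diagonal f ξ) = ξ := by
    rw [← Scheme.Hom.comp_apply, pullback.diagonal_snd]; rfl
  have hrange : pullback.diagonal f ξ ∈ Set.range (mm f IV.subschemeι IW.subschemeι) := by
    rw [Scheme.Pullback.range_map, Scheme.IdealSheafData.range_subschemeι,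
      Scheme.IdealSheafData.range_subschemeι]
    refine ⟨?_, ?_⟩
    · show pullback.fst f f (pullback.diagonal f ξ) ∈ (IV.support : Set X)
      rw [hz₁]; exact hξV
    · show pullback.snd f f (pullback.diagonal f ξ) ∈ (IW.support : Set X)
      rw [hz₂]; exact hξW
  obtain ⟨z₀, hz₀⟩ := hrange
  have e0 := ringKrullDim_quot_stalkIdeal_ker (mm f IV.subschemeι IW.subschemeι) z₀
  obtain ⟨b, hb⟩ := exists_ringKrullDim_stalk_eq K
    (pullback (IV.subschemeι ≫ f) (IW.subschemeι ≫ f)) z₀
  have h5 := localDim_eq_add K (pullback (IV.subschemeι ≫ f) (IW.subschemeι ≫ f)) z₀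
    (trdegNat K (pullback (IV.subschemeι ≫ f) (IW.subschemeι ≫ f)) z₀) b
    (trdeg_eq_trdegNat K _ z₀) hb
  have hVdim : topologicalKrullDim IV.subscheme = r := by
    rw [topologicalKrullDim_subscheme, hr]
  have hWdim : topologicalKrullDim IW.subscheme = s := by
    rw [topologicalKrullDim_subscheme, hs]
  rw [Groth.Agent.Lib.T2H9.IntMultInter.localDim_pullback K IV.subscheme IW.subscheme
    (IV.subschemeι ≫ f) (IW.subschemeι ≫ f) r s hVdim hWdim z₀] at h5
  have h6 : trdegNat K (pullback (IV.subschemeι ≫ f) (IW.subschemeι ≫ f)) z₀ =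
      trdegNat K (pullback f f) (mm f IV.subschemeι IW.subschemeι z₀) :=
    Groth.Agent.Lib.T2H9.IntMultDim.trdegNat_eq_of_isPreimmersion K (pullback f f) _
      (mm f IV.subschemeι IW.subschemeι) rfl z₀
  have h7 : trdegNat K X ξ = trdegNat K (pullback f f) (pullback.diagonal f ξ) :=
    Groth.Agent.Lib.T2H9.IntMultDim.trdegNat_eq_of_isPreimmersion K (pullback f f) X
      (pullback.diagonal f) (by
        show pullback.diagonal f ≫ pullback.fst f f ≫ f = f
        rw [pullback.diagonal_fst_assoc]) ξ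
  rw [hz₀] at e0 h6
  rw [e0, hb]
  have h1 := ringKrullDim_stalk_add_trdegNat K X ξ
  have h2 := ringKrullDim_quot_stalkIdeal_add_trdegNat K X IV ξ hξV
  have h3 := ringKrullDim_quot_stalkIdeal_add_trdegNat K X IW ξ hξW
  have hdim := ringKrullDim_le_add K X f IV IW n r s hn hr hs hprop ξ hξV hξW
  rw [hn] at h1
  rw [hr] at h2
  rw [hs] at h3
  obtain ⟨a, ha, ha'⟩ := exists_nat_of_add_eq h1
  obtain ⟨p, hp, hp'⟩ := exists_nat_of_add_eq h2
  obtain ⟨q, hq, hq'⟩ := exists_nat_of_add_eq h3
  rw [ha, hp, hq] at hdim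
  have hdim' : a ≤ p + q := by exact_mod_cast hdim
  have h5' : r + s = trdegNat K (pullback (IV.subschemeι ≫ f) (IW.subschemeι ≫ f)) z₀ + b := by
    exact_mod_cast h5
  have : n ≤ b := by omega
  exact_mod_cast this

include K f hn hr hs hprop hξV hξW in
/-- **Positivity of the intersection multiplicity** at a maximal point of `V ∩ W`. -/
theorem mult_pos (hmax : ∀ ξ' : X, ξ' ∈ IV.support → ξ' ∈ IW.support → ξ' ⤳ ξ → ξ' = ξ) :
    0 < IntMult.mult IV IW ξ := by
  haveI : Flat f := Groth.Agent.Lib.Helper3.AbHom.flat_of_isField (Field.toIsField K) f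
  haveI : Flat (IW.subschemeι ≫ f) :=
    Groth.Agent.Lib.Helper3.AbHom.flat_of_isField (Field.toIsField K) _
  have hV : ξ ∈ Set.range IV.subschemeι := by
    rw [Scheme.IdealSheafData.range_subschemeι]; exact hξV
  have hW : ξ ∈ Set.range IW.subschemeι := by
    rw [Scheme.IdealSheafData.range_subschemeι]; exact hξW
  have key := chi_diagonal f IV.subschemeι IW.subschemeι ξ hV hW
  rw [Scheme.IdealSheafData.ker_subschemeι, Scheme.IdealSheafData.ker_subschemeι] at key
  show 0 < IntMult.chi _ _ _
  rw [key]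
  -- the local rings
  haveI hB : IsRegularLocalRing ((pullback f f).presheaf.stalk (pullback.diagonal f ξ)) :=
    Groth.Agent.Lib.Helper6.SmRegSch.isRegularLocalRing_stalk_of_smooth_over_field K (pullback f f)
      (pullback.fst f f ≫ f) (pullback.diagonal f ξ)
  haveI hA : IsRegularLocalRing (X.presheaf.stalk ξ) :=
    Groth.Agent.Lib.Helper6.SmRegSch.isRegularLocalRing_stalk_of_smooth_over_field K X f ξ
  haveI hPp := isPrime_stalkIdeal IV ξ hξV
  haveI hQp := isPrime_stalkIdeal IW ξ hξW
  have hmax' := isMaximal_of_sup_le IV IW ξ hξV hξW hmax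
  have hsurj : Function.Surjective ((pullback.diagonal f).stalkMap ξ).hom :=
    (pullback.diagonal f).stalkMap_surjective ξ
  obtain ⟨rs, hlen, hreg, hker⟩ := Groth.Agent.Lib.T2H9.IntMultDiag.exists_regular_ker
    ((pullback.diagonal f).stalkMap ξ).hom hsurj n
    (Groth.Agent.Lib.T2H9.IntMultDiag.ringKrullDim_stalk_diagonal K X f n hn ξ)
  have hI := ker_stalkMap_eq_stalkIdeal (pullback.diagonal f) ξ
  rw [Groth.Agent.Lib.T2H9.IntMultRing.chi_symm]
  -- the data at the diagonal
  have hz₁ : pullback.fst f f (pullback.diagonal f ξ) = ξ := by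
    rw [← Scheme.Hom.comp_apply, pullback.diagonal_fst]; rfl
  have hz₂ : pullback.snd f f (pullback.diagonal f ξ) = ξ := by
    rw [← Scheme.Hom.comp_apply, pullback.diagonal_snd]; rfl
  have hm₁ : pullback.diagonal f ξ ∈ Set.range (m₁ f IV.subschemeι) := by
    rw [Scheme.Pullback.range_map]
    refine ⟨?_, ⟨_, rfl⟩⟩
    show pullback.fst f f (pullback.diagonal f ξ) ∈ Set.range IV.subschemeι
    rw [hz₁]; exact hV
  have hm₂ : pullback.diagonal f ξ ∈ Set.range (m₂ f IW.subschemeι) := by
    rw [Scheme.Pullback.range_map]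
    refine ⟨⟨_, rfl⟩, ?_⟩
    show pullback.snd f f (pullback.diagonal f ξ) ∈ Set.range IW.subschemeι
    rw [hz₂]; exact hW
  -- `𝔞 ≤ δ⁻¹(P ⊔ Q)` and `δ(𝔞) ⊇ P ⊔ Q`
  have h𝔞 : IntMult.stalkIdeal (mm f IV.subschemeι IW.subschemeι).ker (pullback.diagonal f ξ) =
      (IntMult.stalkIdeal IV (pullback.fst f f (pullback.diagonal f ξ))).map
          ((pullback.fst f f).stalkMap (pullback.diagonal f ξ)).hom ⊔
        (IntMult.stalkIdeal IW (pullback.snd f f (pullback.diagonal f ξ))).map
          ((pullback.snd f f).stalkMap (pullback.diagonal f ξ)).hom := by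
    rw [ker_mm, stalkIdeal_sup, stalkIdeal_ker_m₁ f _ _ hm₁, stalkIdeal_ker_m₂ f _ _ hm₂,
      Scheme.IdealSheafData.ker_subschemeι, Scheme.IdealSheafData.ker_subschemeι]
  have hle := le_ringKrullDim_quot K X f IV IW n r s hn hr hs hprop ξ hξV hξW
  have hPne : IntMult.stalkIdeal (pullback.diagonal f).ker (pullback.diagonal f ξ) ≠ ⊤ := by
    rw [← hI]; exact RingHom.ker_ne_top _
  have hQne : IntMult.stalkIdeal (mm f IV.subschemeι IW.subschemeι).ker (pullback.diagonal f ξ) ≠
      ⊤ := by
    intro htop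
    rw [htop] at hle
    haveI : Subsingleton ((pullback f f).presheaf.stalk (pullback.diagonal f ξ) ⧸
        (⊤ : Ideal ((pullback f f).presheaf.stalk (pullback.diagonal f ξ)))) :=
      Ideal.Quotient.subsingleton_iff.mpr rfl
    rw [ringKrullDim_eq_bot_of_subsingleton] at hle
    exact absurd hle (by simp)
  have hP : IntMult.stalkIdeal (pullback.diagonal f).ker (pullback.diagonal f ξ) =
      Ideal.span (Set.range rs.get) := by
    rw [← hI, hker, Ideal.ofList, Set.range_list_get]
  have hreg' : RingTheory.Sequence.IsRegular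
      ((pullback f f).presheaf.stalk (pullback.diagonal f ξ)) (List.ofFn rs.get) := by
    rw [List.ofFn_get]; exact hreg
  -- retractions
  have hret₁ : ∀ x : X.presheaf.stalk ξ, ((pullback.diagonal f).stalkMap ξ).hom
      (((pullback.fst f f).stalkMap (pullback.diagonal f ξ)).hom
        ((X.presheaf.stalkCongr (.of_eq hz₁.symm)).hom.hom x)) = x := by
    intro x
    have := stalkMap_retraction (pullback.diagonal f) (pullback.fst f f) (pullback.diagonal_fst f) ξ hz₁
    exact congrArg (fun φ => φ.hom x) this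
  have hret₂ : ∀ x : X.presheaf.stalk ξ, ((pullback.diagonal f).stalkMap ξ).hom
      (((pullback.snd f f).stalkMap (pullback.diagonal f ξ)).hom
        ((X.presheaf.stalkCongr (.of_eq hz₂.symm)).hom.hom x)) = x := by
    intro x
    have := stalkMap_retraction (pullback.diagonal f) (pullback.snd f f) (pullback.diagonal_snd f) ξ hz₂
    exact congrArg (fun φ => φ.hom x) this
  have hmaxB : ∀ 𝔭 : Ideal ((pullback f f).presheaf.stalk (pullback.diagonal f ξ)), 𝔭.IsPrime →
      IntMult.stalkIdeal (pullback.diagonal f).ker (pullback.diagonal f ξ) ⊔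
        IntMult.stalkIdeal (mm f IV.subschemeι IW.subschemeι).ker (pullback.diagonal f ξ) ≤ 𝔭 →
      𝔭.IsMaximal := by
    intro 𝔭 h𝔭 hle𝔭
    have hk : RingHom.ker ((pullback.diagonal f).stalkMap ξ).hom ≤ 𝔭 := by
      rw [hI]; exact le_sup_left.trans hle𝔭
    have ha : IntMult.stalkIdeal (mm f IV.subschemeι IW.subschemeι).ker (pullback.diagonal f ξ) ≤ 𝔭 :=
      le_sup_right.trans hle𝔭
    haveI hp' : (𝔭.map ((pullback.diagonal f).stalkMap ξ).hom).IsPrime :=
      Ideal.map_isPrime_of_surjective hsurj hk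
    have hcm : (𝔭.map ((pullback.diagonal f).stalkMap ξ).hom).comap
        ((pullback.diagonal f).stalkMap ξ).hom = 𝔭 := by
      rw [Ideal.comap_map_of_surjective _ hsurj, ← RingHom.ker_eq_comap_bot]
      exact sup_eq_left.mpr hk
    have hPQ : IntMult.stalkIdeal IV ξ ⊔ IntMult.stalkIdeal IW ξ ≤
        𝔭.map ((pullback.diagonal f).stalkMap ξ).hom := by
      apply sup_le
      · intro x hx
        rw [← hret₁ x]
        apply Ideal.mem_map_of_mem
        apply ha
        rw [h𝔞]
        apply Ideal.mem_sup_left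
        apply Ideal.mem_map_of_mem
        rw [← stalkIdeal_map_stalkCongr IV hz₁.symm]
        exact Ideal.mem_map_of_mem _ hx
      · intro x hx
        rw [← hret₂ x]
        apply Ideal.mem_map_of_mem
        apply ha
        rw [h𝔞]
        apply Ideal.mem_sup_right
        apply Ideal.mem_map_of_mem
        rw [← stalkIdeal_map_stalkCongr IW hz₂.symm]
        exact Ideal.mem_map_of_mem _ hx
    have hmx := hmax' _ hp' hPQ
    rw [← hcm]
    exact Ideal.comap_isMaximal_of_surjective _ hsurj
  have hdimB : ringKrullDim ((pullback f f).presheaf.stalk (pullback.diagonal f ξ)) ≤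
      ringKrullDim ((pullback f f).presheaf.stalk (pullback.diagonal f ξ) ⧸
        IntMult.stalkIdeal (pullback.diagonal f).ker (pullback.diagonal f ξ)) +
      ringKrullDim ((pullback f f).presheaf.stalk (pullback.diagonal f ξ) ⧸
        IntMult.stalkIdeal (mm f IV.subschemeι IW.subschemeι).ker (pullback.diagonal f ξ)) := by
    rw [Groth.Agent.Lib.T2H9.IntMultDiag.ringKrullDim_stalk_diagonal K X f n hn ξ, ← hI,
      ringKrullDim_eq_of_ringEquiv (RingHom.quotientKerEquivOfSurjective hsurj)]
    exact add_le_add le_rfl hle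
  exact (Groth.Agent.Lib.T2H9.IntMultRing.tendsto_and_pos _ _ hPne hQne rs.length rs.get hP hreg'
    hmaxB hdimB).2

end Setup

end Groth.Agent.Lib.T2H9.DiagPos
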