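import Mathlib

/-!
# Schemes all of whose closed points have one-dimensional local rings (helper9)

Purely topological characterization (for quasi-compact schemes): all closed points have coheight one
iff the irreducible closed subsets which are not components are exactly the closed points.
-/

set_option autoImplicit false
universe u

namespace Groth.Agent.Lib.T2H9.DimOnePts

open AlgebraicGeometry Order

variable {X : Scheme.{u}}

theorem le_iff_mem_closure {a b : X} : a ≤ b ↔ a ∈ closure ({b} : Set X) := by
  rw [Scheme.le_iff_specializes, specializes_iff_mem_closure]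

/-- an irreducible closed set which is not a component is strictly contained in the closure of a
point -/
theorem exists_lt_of_notMem_components {F : Set X} (hF : IsClosed F) (hirr : IsIrreducible F)
    (hnc : F ∉ irreducibleComponents (X : Type u)) (η : X) (hη : closure ({η} : Set X) = F) :
    ∃ ζ : X, η < ζ := by
  obtain ⟨Z, hZ, hFZ⟩ := exists_mem_irreducibleComponents_subset_of_isIrreducible F hirr
  have hZcl : IsClosed Z := isClosed_of_mem_irreducibleComponents Z hZ
  obtain ⟨ζ, hζ⟩ := QuasiSober.sober hZ.1 hZcl
  have hζ' : closure ({ζ} : Set X) = Z := hζ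
  refine ⟨ζ, lt_of_le_not_ge ?_ ?_⟩
  · rw [le_iff_mem_closure, hζ']
    exact hFZ (hη ▸ subset_closure (Set.mem_singleton η))
  · intro hle
    have h1 : Z ⊆ F := by
      rw [← hζ', ← hη]
      exact closure_minimal (Set.singleton_subset_iff.mpr (le_iff_mem_closure.mp hle))
        isClosed_closure
    exact hnc ((Set.Subset.antisymm hFZ h1) ▸ hZ)

/-- a point with a strict generization: its closure is not a component -/
theorem closure_notMem_components_of_lt {y z : X} (h : y < z) :
    closure ({y} : Set X) ∉ irreducibleComponents (X : Type u) := by
  intro hc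
  have h1 : closure ({y} : Set X) ⊆ closure ({z} : Set X) :=
    closure_minimal (Set.singleton_subset_iff.mpr (le_iff_mem_closure.mp h.le)) isClosed_closure
  have h2 := hc.2 isIrreducible_singleton.closure h1
  have : z ≤ y := le_iff_mem_closure.mpr (h2 (subset_closure (Set.mem_singleton z)))
  exact (lt_irrefl _ (lt_of_lt_of_le h this))

theorem main [CompactSpace X] :
    (∀ x : X, IsClosed ({x} : Set X) → coheight x = 1) ↔
      ((∀ F : Set X, IsClosed F → IsIrreducible F → F ∉ irreducibleComponents (X : Type u) →
          ∃ x : X, IsClosed ({x} : Set X) ∧ F = {x}) ∧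
        ∀ x : X, IsClosed ({x} : Set X) → ({x} : Set X) ∉ irreducibleComponents (X : Type u)) := by
  constructor
  · intro h
    refine ⟨fun F hF hirr hnc => ?_, fun x hx hc => ?_⟩
    · obtain ⟨η, hη⟩ := QuasiSober.sober hirr hF
      have hη' : closure ({η} : Set X) = F := hη
      obtain ⟨ζ, hζ⟩ := exists_lt_of_notMem_components hF hirr hnc η hη'
      obtain ⟨x, hxF, hx⟩ := hF.exists_closed_singleton hirr.nonempty
      have hxη : x ≤ η := by rw [le_iff_mem_closure, hη']; exact hxF
      have hηx : η ≤ x := by
        by_contra hne
        have hlt : x < η := lt_of_le_not_ge hxη hne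
        have h1 := coheight_add_one_le hζ
        have h2 := coheight_add_one_le hlt
        rw [h x hx] at h2
        have h3 : coheight ζ + 1 + 1 ≤ 1 := (add_le_add_left h1 1).trans h2
        have : (2 : ℕ∞) ≤ 1 := le_trans (by rw [show (2 : ℕ∞) = 0 + 1 + 1 by norm_num]; gcongr; exact zero_le) h3
        exact absurd this (by norm_num)
      have hηmem : η ∈ ({x} : Set X) := by
        have := le_iff_mem_closure.mp hηx
        rwa [hx.closure_eq] at this
      have hηeq : η = x := hηmem
      refine ⟨x, hx, ?_⟩
      rw [← hη', hηeq, hx.closure_eq]
    · have hmax : IsMax x := by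
        intro y hxy
        by_contra hne
        have hlt : x < y := lt_of_le_not_ge hxy hne
        have := closure_notMem_components_of_lt hlt
        rw [hx.closure_eq] at this
        exact this hc
      have := h x hx
      rw [coheight_eq_zero.mpr hmax] at this
      exact zero_ne_one this
  · rintro ⟨h1, h2⟩ x hx
    apply le_antisymm
    · rw [show (1 : ℕ∞) = ((1 : ℕ) : ℕ∞) from rfl, coheight_le_coe_iff]
      intro y hxy
      have hymax : IsMax y := by
        intro z hyz
        by_contra hne
        have hlt : y < z := lt_of_le_not_ge hyz hne
        obtain ⟨w, hw, hFw⟩ := h1 (closure {y}) isClosed_closure isIrreducible_singleton.closure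
          (closure_notMem_components_of_lt hlt)
        have hyw : y = w := by
          have : y ∈ ({w} : Set X) := hFw ▸ subset_closure (Set.mem_singleton y)
          exact this
        have hxw : x = w := by
          have : x ∈ ({w} : Set X) := hFw ▸ le_iff_mem_closure.mp hxy.le
          exact this
        exact lt_irrefl _ (hxw ▸ hyw ▸ hxy)
      rw [coheight_eq_zero.mpr hymax]
      exact_mod_cast zero_lt_one
    · obtain ⟨ζ, hζ⟩ := exists_lt_of_notMem_components hx isIrreducible_singleton (h2 x hx) x
        hx.closure_eq
      exact le_trans (by simp) (coheight_add_one_le hζ)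

end Groth.Agent.Lib.T2H9.DimOnePts
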