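import Mathlib
import Groth.Prelude.Def_ModSite
import Groth.Prelude.Def_FlatMod2
import Groth.Agent.Lib.Helper21Dual12
import Groth.Agent.Lib.Helper21Dual9
import Groth.Agent.Lib.T2H9LocFF

/-!
# T2H9DualRank: the dual of a finite locally free module of rank `b` has rank `b` (helper9)
-/

set_option autoImplicit false
set_option linter.style.haveILetI false
set_option linter.unusedVariables false
universe u

namespace Groth.Agent.Lib.T2H9.DualRank

open CategoryTheory MonoidalCategory Opposite Limits AlgebraicGeometry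
open Groth.Agent.Lib.Helper21.Dual Groth.Agent.Lib.Helper21.LocFact
  Groth.Agent.Lib.Helper21.ModTensor Groth.Agent.Lib.Helper21.ModTensor2
  Groth.Agent.Lib.Helper21.ModTensor3 Groth.Agent.Lib.Helper21.ModTensor4
  Groth.Agent.Lib.Helper21.ModTensor5
  Groth.Agent.Lib.Helper21.ModTensor6 Groth.Agent.Lib.Helper21.ModRestr
  Groth.Agent.Lib.Helper21.RestrExact Groth.Agent.Lib.Helper21.ExtShLocFree
  Groth.Agent.Lib.T2H9.LocFF

attribute [local instance] Groth.Agent.Lib.Helper21.ExtShDelta.hasSheafHom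

section site

variable {C : Type u} [SmallCategory C] {J : GrothendieckTopology C} {O : Sheaf J CommRingCat.{u}}

/-- `E` is locally finite free of rank `b`. -/
def IsLocFFRank (b : ℕ) (E : ModSite.Mod O) : Prop :=
  ∃ (K : Type u) (X : K → C), J.CoversTop X ∧ ∀ k, ∃ (I : Type) (_ : Fintype I), Fintype.card I = b ∧
      Nonempty (FF (ModSite.unit (O.over (X k))) ((ModSite.restr O (X k)).obj E) I)

theorem isLocFF_of_isLocFFRank {b : ℕ} {E : ModSite.Mod O} (h : IsLocFFRank b E) : IsLocFF E := by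
  obtain ⟨K, X, hX, hloc⟩ := h
  refine ⟨K, X, hX, fun k => ?_⟩
  obtain ⟨I, hI, -, hff⟩ := hloc k
  exact ⟨I, hI, hff⟩

theorem isLocFFRank_of_perfect {b : ℕ} {D E : ModSite.Mod O}
    (ev : ((ModSite.tensorBi O).obj D).obj E ⟶ ModSite.unit O)
    (hperf : IsIso ((ModSite.sheafHomAdj E).homEquiv D (ModSite.unit O) ev))
    (hE : IsLocFFRank b E) : IsLocFFRank b D := by
  obtain ⟨K, X, hX, hloc⟩ := hE
  refine ⟨K, X, hX, fun k => ?_⟩
  obtain ⟨I, hI, hcard, ⟨ff⟩⟩ := hloc k
  obtain ⟨ffD, -⟩ := exists_ff_of_bijective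
    (thetaOf ff (evRes O (X k) (D := D) (E := E) ev))
    (bijective_thetaOf ff (evRes O (X k) (D := D) (E := E) ev)
      (isIso_adjunct_evRes O (X k) ev hperf))
  exact ⟨I, hI, hcard, ⟨ffD⟩⟩

theorem isLocFFRank_dual {b : ℕ} (E : ModSite.Mod O) (hE : IsLocFFRank b E) : IsLocFFRank b (dual E) :=
  isLocFFRank_of_perfect (evStd E) (hperf_std E) hE

end site

variable {X : Scheme.{u}}

theorem isLocFFRank_of_isFinLocFreeOfRank (L : ModSite.Mod X.sheaf) (b : ℕ)
    (hL : FlatMod.IsFinLocFreeOfRank b L) : IsLocFFRank (O := X.sheaf) b L := by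
  choose U hxU he using hL
  refine ⟨X, U, coversTop_of_mem U hxU, fun x => ⟨Fin b, inferInstance, Fintype.card_fin b, ⟨?_⟩⟩⟩
  have e : (ModSite.restr X.sheaf (U x)).obj L ≅
      ∐ fun _ : Fin b => ModSite.unit (X.sheaf.over (U x)) :=
    overIsoFree L (U x) b (he x).some
  exact ffOfIso (ffSigma (ModSite.unit (X.sheaf.over (U x))) (Fin b)) e.symm

theorem isFinLocFreeOfRank_of_isLocFFRank (L : ModSite.Mod X.sheaf) (b : ℕ)
    (hL : IsLocFFRank (O := X.sheaf) b L) : FlatMod.IsFinLocFreeOfRank (X := X) b L := by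
  obtain ⟨K, U', hU, h⟩ := hL
  let U : K → X.Opens := U'
  intro x
  obtain ⟨k, hk⟩ := mem_of_coversTop U hU x
  obtain ⟨I, hI, hcard, ⟨ff⟩⟩ := h k
  subst hcard
  refine ⟨U k, hk, ⟨?_⟩⟩
  let n := Fintype.card I
  let e0 : (ModSite.restr X.sheaf (U k)).obj L ≅
      ∐ fun _ : Fin n => ModSite.unit (X.sheaf.over (U k)) :=
    isoOfFF ff (ffSigma (ModSite.unit (X.sheaf.over (U k))) (Fin n)) (Fintype.equivFin I)
  let Φ : SheafOfModules.{u} (X.ringCatSheaf.over (U k)) ⥤ (↑(U k) : Scheme.{u}).Modules :=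
    (Scheme.Modules.overEquiv (U k)).functor
  let i1 : Φ.obj ((SheafOfModules.overFunctor X.ringCatSheaf (U k)).obj L) ≅ Scheme.Modules.restrict (Y := X) L (U k).ι :=
    (Scheme.Modules.overFunctorEquiv (U k)).app L
  let i3 : Φ.obj (∐ fun _ : Fin n => SheafOfModules.unit.{u} (X.ringCatSheaf.over (U k))) ≅
      ∐ fun _ : Fin n => Φ.obj (SheafOfModules.unit.{u} (X.ringCatSheaf.over (U k))) :=
    PreservesCoproduct.iso Φ _
  let i4 : (∐ fun _ : Fin n => Φ.obj (SheafOfModules.unit.{u} (X.ringCatSheaf.over (U k)))) ≅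
      FlatMod.freeMod (↑(U k)) n :=
    Sigma.mapIso (fun _ => Iso.refl _)
  exact i1.symm ≪≫ Φ.mapIso e0 ≪≫ i3 ≪≫ i4

/-- **the dual of a finite locally free module of rank `b` is finite locally free of rank `b`.** -/
theorem isFinLocFreeOfRank_dual (E : X.Modules) (b : ℕ) (hE : FlatMod.IsFinLocFreeOfRank b E) :
    FlatMod.IsFinLocFreeOfRank (X := X) b (dual (O := X.sheaf) E) :=
  isFinLocFreeOfRank_of_isLocFFRank _ b
    (isLocFFRank_dual (O := X.sheaf) E (isLocFFRank_of_isFinLocFreeOfRank E b hE))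

end Groth.Agent.Lib.T2H9.DualRank
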