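import Mathlib
import Groth.Prelude
import Groth.Agent.Lib.T2H9EllRk2
import Groth.Agent.Lib.T2H5EulerLen
import Groth.Agent.Lib.T2H9GenusOne

set_option autoImplicit false
set_option linter.style.haveILetI false
set_option linter.unusedSectionVars false
set_option linter.unusedVariables false
universe v u

open CategoryTheory CategoryTheory.Limits AlgebraicGeometry

namespace Groth.Agent.Lib.T2H9.EllUniq

section Abstract

variable {𝒜 : Type u} [Category.{v} 𝒜] [Abelian 𝒜]

section Pushout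

variable {A E E' B' : 𝒜} (s : A ⟶ E) (s' : A ⟶ E') (p' : E' ⟶ B') (w' : s' ≫ p' = 0)

/-- the projection `E ⊔_A E' ⟶ B'` killing `E`. -/
noncomputable def ρ₂ : pushout s s' ⟶ B' :=
  pushout.desc (0 : E ⟶ B') p' (by rw [comp_zero, w'])

@[reassoc (attr := simp)]
theorem inl_ρ₂ : pushout.inl s s' ≫ ρ₂ s s' p' w' = 0 := pushout.inl_desc _ _ _

@[reassoc (attr := simp)]
theorem inr_ρ₂ : pushout.inr s s' ≫ ρ₂ s s' p' w' = p' := pushout.inr_desc _ _ _

/-- `0 → E → E ⊔_A E' → B' → 0` is short exact when `0 → A → E' → B' → 0` is. -/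
theorem shortExact_pushout (hS' : (ShortComplex.mk s' p' w').ShortExact) :
    (ShortComplex.mk (pushout.inl s s') (ρ₂ s s' p' w') (inl_ρ₂ s s' p' w')).ShortExact := by
  haveI : Mono s' := hS'.mono_f
  haveI : Epi p' := hS'.epi_g
  haveI : Mono (pushout.inl s s') := Abelian.mono_pushout_of_mono_g s s'
  haveI : Epi (ρ₂ s s' p' w') := by
    have h : Epi (pushout.inr s s' ≫ ρ₂ s s' p' w') := by rw [inr_ρ₂]; infer_instance
    exact epi_of_epi (pushout.inr s s') _
  refine ShortComplex.ShortExact.mk (ShortComplex.exact_of_g_is_cokernel _ ?_)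
  have hcok : IsColimit (CokernelCofork.ofπ p' w') := hS'.gIsCokernel
  refine CokernelCofork.IsColimit.ofπ _ _
    (fun {Z} h hh => hcok.desc (CokernelCofork.ofπ (pushout.inr s s' ≫ h)
      (by rw [← Category.assoc, ← pushout.condition, Category.assoc, hh, comp_zero])))
    (fun {Z} h hh => ?_) (fun {Z} h hh m hm => ?_)
  · have h1 : p' ≫ hcok.desc (CokernelCofork.ofπ (pushout.inr s s' ≫ h)
        (by rw [← Category.assoc, ← pushout.condition, Category.assoc, hh, comp_zero])) =
        pushout.inr s s' ≫ h :=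
      hcok.fac (CokernelCofork.ofπ (pushout.inr s s' ≫ h) _) WalkingParallelPair.one
    apply pushout.hom_ext
    · rw [inl_ρ₂_assoc, zero_comp, hh]
    · rw [inr_ρ₂_assoc, h1]
  · rw [← cancel_epi (ρ₂ s s' p' w')]
    apply pushout.hom_ext
    · rw [inl_ρ₂_assoc, zero_comp, ← Category.assoc, inl_ρ₂, zero_comp]
    · have h1 : p' ≫ hcok.desc (CokernelCofork.ofπ (pushout.inr s s' ≫ h)
          (by rw [← Category.assoc, ← pushout.condition, Category.assoc, hh, comp_zero])) =
          pushout.inr s s' ≫ h :=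
        hcok.fac (CokernelCofork.ofπ (pushout.inr s s' ≫ h) _) WalkingParallelPair.one
      rw [inr_ρ₂_assoc, inr_ρ₂_assoc, h1, ← hm, inr_ρ₂_assoc]

end Pushout

section Five

variable {A E E' B B' : 𝒜} (s : A ⟶ E) (p : E ⟶ B) (w : s ≫ p = 0)
  (s' : A ⟶ E') (p' : E' ⟶ B') (w' : s' ≫ p' = 0)

/-- a map of extensions which is the identity on the sub: induced map on quotients; it is an
isomorphism as soon as the induced map is, and if the induced map vanishes the source splits. -/
theorem exists_quot_map (hS : (ShortComplex.mk s p w).ShortExact)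
    (hS' : (ShortComplex.mk s' p' w').ShortExact) (ψ : E' ⟶ E) (hψ : s' ≫ ψ = s) :
    ∃ θ : B' ⟶ B, p' ≫ θ = ψ ≫ p ∧ (IsIso θ → IsIso ψ) ∧
      (θ = 0 → ∃ r' : E' ⟶ A, s' ≫ r' = 𝟙 A) := by
  have hcok : IsColimit (CokernelCofork.ofπ p' w') := hS'.gIsCokernel
  have hker : IsLimit (KernelFork.ofι s w) := hS.fIsKernel
  have h0 : s' ≫ ψ ≫ p = 0 := by rw [← Category.assoc, hψ, w]
  have h1 : p' ≫ hcok.desc (CokernelCofork.ofπ (ψ ≫ p) h0) = ψ ≫ p :=
    hcok.fac (CokernelCofork.ofπ (ψ ≫ p) h0) WalkingParallelPair.one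
  refine ⟨hcok.desc (CokernelCofork.ofπ (ψ ≫ p) h0), h1, ?_, ?_⟩
  · intro hθ
    let φ : ShortComplex.mk s' p' w' ⟶ ShortComplex.mk s p w :=
      { τ₁ := 𝟙 A
        τ₂ := ψ
        τ₃ := hcok.desc (CokernelCofork.ofπ (ψ ≫ p) h0)
        comm₁₂ := by
          change 𝟙 A ≫ s = s' ≫ ψ
          rw [Category.id_comp, hψ]
        comm₂₃ := h1.symm }
    haveI : IsIso φ.τ₁ := inferInstanceAs (IsIso (𝟙 A))
    haveI : IsIso φ.τ₃ := hθ
    exact ShortComplex.isIso₂_of_shortExact_of_isIso₁₃ φ hS' hS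
  · intro hθ
    rw [hθ, comp_zero] at h1
    have h2 : hker.lift (KernelFork.ofι ψ h1.symm) ≫ s = ψ :=
      hker.fac (KernelFork.ofι ψ h1.symm) WalkingParallelPair.zero
    refine ⟨hker.lift (KernelFork.ofι ψ h1.symm), ?_⟩
    haveI : Mono s := hS.mono_f
    rw [← cancel_mono s, Category.assoc, h2, hψ, Category.id_comp]

end Five

end Abstract

open Groth.Agent.Lib.T2H5.Twist Groth.Agent.Lib.T2H9.TensorInv Groth.Agent.Lib.T2H6.CurveSerre
  Groth.Agent.Lib.T2H6.HHLin Groth.Agent.Lib.T2H9.VBSimple Groth.Agent.Lib.T2H9.VBNorm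

variable (k : Type u) [Field k] {X : Scheme.{u}} [X.Over (Spec (CommRingCat.of k))]

/-- a section of `H⁰(g)` hitting the unit class gives a section of `g`. -/
theorem exists_section_of_unitClass_mem {E : X.Modules} (p : E ⟶ Coh.structureModule X)
    (x : Coh.HH X E 0) (hx : Canon.HHlin k p 0 x = unitClass X) :
    ∃ σ : Coh.structureModule X ⟶ E, σ ≫ p = 𝟙 _ := by
  obtain ⟨σ, hσ⟩ := (bijective_evLin k E).2 x
  refine ⟨σ, ?_⟩
  apply (bijective_evLin k _).1
  change Canon.HHlin k (σ ≫ p) 0 (unitClass X) = Canon.HHlin k (𝟙 _) 0 (unitClass X)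
  rw [HHlin_comp_apply, HHlin_id]
  change Canon.HHlin k p 0 (evLin k E σ) = unitClass X
  rw [hσ, hx]

/-- for a non-split self-extension of `O` on a genus one curve, `H¹(O) → H¹(E)` vanishes. -/
theorem HHlin_one_eq_zero (hg : Curv2.genus k X = 1) {E : X.Modules}
    (s : Coh.structureModule X ⟶ E) (p : E ⟶ Coh.structureModule X) (w : s ≫ p = 0)
    (hS : (ShortComplex.mk s p w).ShortExact)
    (hns : ∀ σ : Coh.structureModule X ⟶ E, σ ≫ p ≠ 𝟙 _) : Canon.HHlin k s 1 = 0 := by
  have hfin : Module.finrank k (Coh.HH X (Coh.structureModule X) 1) = 1 := hg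
  haveI : Module.Free k (Coh.HH X (Coh.structureModule X) 1) := Module.Free.of_divisionRing k _
  haveI : Module.Finite k (Coh.HH X (Coh.structureModule X) 1) :=
    Module.finite_of_finrank_pos (by rw [hfin]; norm_num)
  have hex1 := Groth.Agent.Lib.T2H5.EulerLen.exact₁ (A := k) _ hS 0
  have hex3 := Groth.Agent.Lib.T2H5.HHLes.exact₃ (A := k) _ hS 0
  change LinearMap.ker (Canon.HHlin k s 1) = _ at hex1
  change _ = LinearMap.range (Canon.HHlin k p 0) at hex3
  by_contra hne
  have hker : LinearMap.ker (Canon.HHlin k s 1) = ⊥ := by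
    by_contra hkb
    apply hne
    rw [← LinearMap.ker_eq_top]
    apply Submodule.eq_top_of_finrank_eq
    have h1 : Module.finrank k (LinearMap.ker (Canon.HHlin k s 1)) ≤ 1 :=
      le_trans (Submodule.finrank_le _) hfin.le
    have h2 : Module.finrank k (LinearMap.ker (Canon.HHlin k s 1)) ≠ 0 := by
      intro h
      exact hkb (Submodule.finrank_eq_zero.1 h)
    omega
  rw [hker] at hex1
  have hδ := LinearMap.range_eq_bot.1 hex1.symm
  rw [hδ, LinearMap.ker_zero] at hex3
  obtain ⟨x, hx⟩ := LinearMap.range_eq_top.1 hex3.symm (unitClass X)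
  obtain ⟨σ, hσ⟩ := exists_section_of_unitClass_mem k p x hx
  exact hns σ hσ

/-- for a non-split self-extension of `O` on a genus one curve, `H¹(E) → H¹(O)` is injective. -/
theorem injective_HHlin_one (hg : Curv2.genus k X = 1) {E : X.Modules}
    (s : Coh.structureModule X ⟶ E) (p : E ⟶ Coh.structureModule X) (w : s ≫ p = 0)
    (hS : (ShortComplex.mk s p w).ShortExact)
    (hns : ∀ σ : Coh.structureModule X ⟶ E, σ ≫ p ≠ 𝟙 _) :
    Function.Injective (Canon.HHlin k p 1) := by
  have h2 := Groth.Agent.Lib.T2H5.EulerLen.exact₂ (A := k) _ hS 1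
  change LinearMap.ker (Canon.HHlin k p 1) = LinearMap.range (Canon.HHlin k s 1) at h2
  rw [HHlin_one_eq_zero k hg s p w hS hns, LinearMap.range_zero] at h2
  exact LinearMap.ker_eq_bot.1 h2

/-- two non-split self-extensions of `O` on a genus one curve: there is a map between them
compatible with the inclusions of `O`. -/
theorem exists_map_of_extensions (hg : Curv2.genus k X = 1) {E E' : X.Modules}
    (s : Coh.structureModule X ⟶ E) (p : E ⟶ Coh.structureModule X) (w : s ≫ p = 0)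
    (hS : (ShortComplex.mk s p w).ShortExact)
    (hns : ∀ σ : Coh.structureModule X ⟶ E, σ ≫ p ≠ 𝟙 _)
    (s' : Coh.structureModule X ⟶ E') (p' : E' ⟶ Coh.structureModule X) (w' : s' ≫ p' = 0)
    (hS' : (ShortComplex.mk s' p' w').ShortExact) :
    ∃ ψ : E' ⟶ E, s' ≫ ψ = s := by
  have hT := shortExact_pushout s s' p' w' hS'
  -- `H¹(inl)` is injective
  have hinj : Function.Injective (Canon.HHlin k (pushout.inl s s') 1) := by
    have hfac : pushout.inl s s' ≫ pushout.desc p (0 : E' ⟶ Coh.structureModule X)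
        (by rw [w, comp_zero]) = p := pushout.inl_desc _ _ _
    have hp := injective_HHlin_one k hg s p w hS hns
    intro a b hab
    apply hp
    rw [← hfac, HHlin_comp_apply, HHlin_comp_apply, hab]
  have hex1 := Groth.Agent.Lib.T2H5.EulerLen.exact₁ (A := k) _ hT 0
  have hex3 := Groth.Agent.Lib.T2H5.HHLes.exact₃ (A := k) _ hT 0
  change LinearMap.ker (Canon.HHlin k (pushout.inl s s') 1) = _ at hex1
  change _ = LinearMap.range (Canon.HHlin k (ρ₂ s s' p' w') 0) at hex3
  rw [LinearMap.ker_eq_bot.2 hinj] at hex1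
  have hδ := LinearMap.range_eq_bot.1 hex1.symm
  rw [hδ, LinearMap.ker_zero] at hex3
  obtain ⟨x, hx⟩ := LinearMap.range_eq_top.1 hex3.symm (unitClass X)
  obtain ⟨t, ht⟩ := exists_section_of_unitClass_mem k (ρ₂ s s' p' w') x hx
  let spl := ShortComplex.Splitting.ofExactOfSection _ hT.exact t ht hT.mono_f
  refine ⟨pushout.inr s s' ≫ spl.r, ?_⟩
  have hr : pushout.inl s s' ≫ spl.r = 𝟙 E := spl.f_r
  rw [← Category.assoc, ← pushout.condition, Category.assoc, hr, Category.comp_id]

variable [IsAlgClosed k] [IsProper (X ↘ Spec (CommRingCat.of k))] [IsIntegral X]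

/-- a normalized indecomposable rank two bundle of degree zero on a genus one curve is a
self-extension of `O`. -/
theorem exists_unit_extension (hdim : topologicalKrullDim X = 1)
    (hreg : ∀ x : X, IsRegularLocalRing (X.presheaf.stalk x)) (hg : Curv2.genus k X = 1)
    (E : X.Modules) (hE : FlatMod.IsFinLocFreeOfRank 2 E)
    (hn0 : Nontrivial (Coh.HH X E 0))
    (hneg : ∀ M : X.Modules, PicF.IsInvertible M → Curv2.deg k X M 1 < 0 →
      Subsingleton (Coh.HH X (CohB1.tensorMod E M) 0))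
    (hind : ∀ L₁ L₂ : X.Modules, PicF.IsInvertible L₁ → PicF.IsInvertible L₂ → IsEmpty (E ≅ L₁ ⊞ L₂))
    (hdeg : Curv2.deg k X E 2 = 0) :
    ∃ (s : Coh.structureModule X ⟶ E) (p : E ⟶ Coh.structureModule X) (w : s ≫ p = 0),
      (ShortComplex.mk s p w).ShortExact := by
  have h0 := Groth.Agent.Lib.T2H6.PosI.finrank_HH_zero_structureModule k X
  have hO := Groth.Agent.Lib.Helper23.TensorUnit.isInvertible_structureModule X
  have hO1 := Groth.Agent.Lib.Helper23.SecTw.isFinLocFreeOfRank_one_of_isInvertible _ hO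
  haveI : IsLocallyNoetherian X := Groth.Agent.Lib.T2H6.CurveDeg.isLocallyNoetherian k
  obtain ⟨x, hx⟩ := exists_ne (0 : Coh.HH X E 0)
  obtain ⟨s, hsx⟩ := (bijective_evLin k E).2 x
  have hs : s ≠ 0 := by
    intro h
    rw [h, map_zero] at hsx
    exact hx hsx.symm
  haveI := mono_of_ne_zero k hdim hreg hO 2 hE s hs
  have hM : PicF.IsInvertible (cokernel s) := isInvertible_cokernel k hdim hreg h0 E hE hneg s hs
  have hS := shortExact_cokernel s
  have hM1 := Groth.Agent.Lib.Helper23.SecTw.isFinLocFreeOfRank_one_of_isInvertible _ hM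
  have hdM : Curv2.deg k X (cokernel s) 1 = 0 := by
    have h := Groth.Agent.Lib.T2H6.RankAdd.deg_additive k _ hS 1 2 1 hO1 hE hM1
    rw [Groth.Agent.Lib.T2H6.CurveDeg.deg_structureModule, zero_add] at h
    rw [← h]
    exact hdeg
  have hiM := isInvertible_inv (cokernel s) hM
  have hdi : Curv2.deg k X (inv (cokernel s)) 1 = 0 := by
    rw [Groth.Agent.Lib.T2H6.PtTwistD.deg_inv k hdim _ hM, hdM, neg_zero]
  have hnt : Nontrivial (Coh.HH X (inv (cokernel s)) 1) := by
    by_contra hcon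
    rw [not_nontrivial_iff_subsingleton] at hcon
    have h1' : Subsingleton (Coh.HH X (CohB1.tensorMod (Coh.structureModule X) (inv (cokernel s))) 1) := by
      have e : (tr (inv (cokernel s))).obj (Coh.structureModule X) ≅ inv (cokernel s) :=
        Groth.Agent.Lib.Helper23.TensorUnit.unitTensorIso (inv (cokernel s))
      exact (Groth.Agent.Lib.T2H6.FieldBC.subsingleton_HH_iff_of_iso k X e 1).2 hcon
    obtain ⟨e⟩ := Groth.Agent.Lib.T2H9.VBNorm.exists_iso_biprod_of_h1 k _ hS hM h1'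
    exact (hind _ _ hO hM).false e
  obtain ⟨e⟩ := Groth.Agent.Lib.T2H9.EllRk2.nonempty_iso_structure_of_h1 k hdim hreg hg _ hiM hdi hnt
  have eT : CohB1.tensorMod (cokernel s) (inv (cokernel s)) ≅
      CohB1.tensorMod (Coh.structureModule X) (inv (cokernel s)) :=
    tensorInvIso (cokernel s) hM ≪≫ e.symm ≪≫
      (Groth.Agent.Lib.Helper23.TensorUnit.unitTensorIso (inv (cokernel s))).symm
  obtain ⟨eM⟩ := Groth.Agent.Lib.T2H9.GenusOne.nonempty_iso_of_tensor_iso hiM eT
  refine ⟨s, cokernel.π s ≫ eM.hom, by rw [← Category.assoc, cokernel.condition, zero_comp], ?_⟩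
  refine ShortComplex.shortExact_of_iso
    (ShortComplex.isoMk (S₁ := ShortComplex.mk s (cokernel.π s) (cokernel.condition s))
      (Iso.refl _) (Iso.refl _) eM ?_ ?_) hS
  · change 𝟙 _ ≫ s = s ≫ 𝟙 _
    rw [Category.id_comp, Category.comp_id]
  · change 𝟙 _ ≫ cokernel.π s ≫ eM.hom = cokernel.π s ≫ eM.hom
    rw [Category.id_comp]

/-- **S12431.** -/
theorem nonempty_iso_of_normalized (hdim : topologicalKrullDim X = 1)
    (hreg : ∀ x : X, IsRegularLocalRing (X.presheaf.stalk x)) (hg : Curv2.genus k X = 1)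
    (E : X.Modules) (hE : FlatMod.IsFinLocFreeOfRank 2 E)
    (hE0 : Nontrivial (Coh.HH X E 0))
    (hEneg : ∀ M : X.Modules, PicF.IsInvertible M → Curv2.deg k X M 1 < 0 →
      Subsingleton (Coh.HH X (CohB1.tensorMod E M) 0))
    (hEind : ∀ L₁ L₂ : X.Modules, PicF.IsInvertible L₁ → PicF.IsInvertible L₂ → IsEmpty (E ≅ L₁ ⊞ L₂))
    (hEdeg : Curv2.deg k X E 2 = 0)
    (E' : X.Modules) (hE' : FlatMod.IsFinLocFreeOfRank 2 E')
    (hE'0 : Nontrivial (Coh.HH X E' 0))
    (hE'neg : ∀ M : X.Modules, PicF.IsInvertible M → Curv2.deg k X M 1 < 0 →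
      Subsingleton (Coh.HH X (CohB1.tensorMod E' M) 0))
    (hE'ind : ∀ L₁ L₂ : X.Modules, PicF.IsInvertible L₁ → PicF.IsInvertible L₂ → IsEmpty (E' ≅ L₁ ⊞ L₂))
    (hE'deg : Curv2.deg k X E' 2 = 0) :
    Nonempty (E ≅ E') := by
  have h0 := Groth.Agent.Lib.T2H6.PosI.finrank_HH_zero_structureModule k X
  have hO := Groth.Agent.Lib.Helper23.TensorUnit.isInvertible_structureModule X
  obtain ⟨s, p, w, hS⟩ := exists_unit_extension k hdim hreg hg E hE hE0 hEneg hEind hEdeg
  obtain ⟨s', p', w', hS'⟩ := exists_unit_extension k hdim hreg hg E' hE' hE'0 hE'neg hE'ind hE'deg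
  have hns : ∀ σ : Coh.structureModule X ⟶ E, σ ≫ p ≠ 𝟙 _ := by
    intro σ hσ
    exact (hEind _ _ hO hO).false
      (ShortComplex.Splitting.ofExactOfSection _ hS.exact σ hσ hS.mono_f).isoBinaryBiproduct
  obtain ⟨ψ, hψ⟩ := exists_map_of_extensions k hg s p w hS hns s' p' w' hS'
  obtain ⟨θ, hθ, hiso, hzero⟩ := exists_quot_map s p w s' p' w' hS hS' ψ hψ
  -- `θ` is a scalar
  have hfr : Module.finrank k (Coh.structureModule X ⟶ Coh.structureModule X) = 1 := by
    rw [finrank_hom_eq, h0]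
  have hid : 𝟙 (Coh.structureModule X) ≠ 0 := id_ne_zero_of_isInvertible k h0 _ hO
  obtain ⟨c, hc⟩ := (finrank_eq_one_iff_of_nonzero' (𝟙 (Coh.structureModule X)) hid).1 hfr θ
  by_cases hc0 : c = 0
  · exfalso
    rw [hc0, zero_smul] at hc
    obtain ⟨r', hr'⟩ := hzero hc.symm
    haveI := hS'.epi_g
    exact (hE'ind _ _ hO hO).false
      (ShortComplex.Splitting.ofExactOfRetraction _ hS'.exact r' hr' hS'.epi_g).isoBinaryBiproduct
  · haveI : IsIso θ := by
      refine ⟨c⁻¹ • 𝟙 _, ?_, ?_⟩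
      · rw [← hc, Linear.smul_comp, Linear.comp_smul, Category.comp_id, smul_smul,
          mul_inv_cancel₀ hc0, one_smul]
      · rw [← hc, Linear.smul_comp, Linear.comp_smul, Category.comp_id, smul_smul,
          inv_mul_cancel₀ hc0, one_smul]
    haveI := hiso inferInstance
    exact ⟨(asIso ψ).symm⟩

end Groth.Agent.Lib.T2H9.EllUniq
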