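import Mathlib
import Groth.Agent.Lib.T2H9GE1

/-!
Algebra for kernels of coherent formal modules (S0834): for adic systems of modules M_n -> P_n over a Noetherian ring, uniform Mittag-Leffler for the kernels and an Artin-Rees statement for the stable images (via the adic completion).
-/

set_option autoImplicit false
set_option linter.style.haveILetI false
set_option linter.unusedSectionVars false
set_option linter.unusedVariables false
universe u

namespace Groth.Agent.Lib.T2H9.Ker1

open Groth.Agent.Lib.Helper14 Groth.Agent.Lib.T2H9.GE1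

section complete

variable {R : Type u} [CommRing R] [IsNoetherianRing R] (J : Ideal R) [IsPrecomplete J R]
variable {M P : ℕ → Type u} [∀ n, AddCommGroup (M n)] [∀ n, Module R (M n)]
  [∀ n, AddCommGroup (P n)] [∀ n, Module R (P n)]
  (f : ∀ n, M (n + 1) →ₗ[R] M n) (g : ∀ n, P (n + 1) →ₗ[R] P n) (α : ∀ n, M n →ₗ[R] P n)

/-- the stable image: the image of `ker α_{m+c}` in `M_m` -/
noncomputable def St (c m : ℕ) : Submodule R (M m) := (LinearMap.ker (α (m + c))).map (tr f m c)

variable (hf : ∀ n, Function.Surjective (f n))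
  (hkf : ∀ n, LinearMap.ker (f n) = J ^ (n + 1) • (⊤ : Submodule R (M (n + 1))))
  (hg : ∀ n, Function.Surjective (g n))
  (hkg : ∀ n, LinearMap.ker (g n) = J ^ (n + 1) • (⊤ : Submodule R (P (n + 1))))
  (hα : ∀ n x, g n (α (n + 1) x) = α n (f n x))
  [Module.Finite R (M 0)] [Module.Finite R (P 0)]

include hf hkf hg hkg hα in
theorem ker_complete : ∃ c₀ : ℕ, ∀ c, c₀ ≤ c →
    (∀ m j, c ≤ j → (LinearMap.ker (α (m + j))).map (tr f m j) = St f α c m) ∧
    (∀ n j (x : M (n + c + j)), x ∈ St f α c (n + c + j) → tr f (n + c) j x = 0 →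
      x ∈ J ^ (n + 1) • St f α c (n + c + j)) := by
  classical
  have hJ : J.FG := IsNoetherian.noetherian J
  haveI : Module.Finite R ↥(Lim f) :=
    finite_of_invLim J f (πL f) hJ hf hkf (f_comp_πL f) (πL_inj f) (πL_lift f)
  haveI : Module.Finite R ↥(Lim g) :=
    finite_of_invLim J g (πL g) hJ hg hkg (f_comp_πL g) (πL_inj g) (πL_lift g)
  have hsM : ∀ n, Function.Surjective (πL f n) := proj_surjective f (πL f) hf (πL_lift f)
  have hkM : ∀ n, LinearMap.ker (πL f n) = J ^ (n + 1) • (⊤ : Submodule R ↥(Lim f)) :=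
    ker_eq_pow_smul_top J f (πL f) hJ hf hkf (f_comp_πL f) (πL_inj f) (πL_lift f)
  have hkP : ∀ n, LinearMap.ker (πL g n) = J ^ (n + 1) • (⊤ : Submodule R ↥(Lim g)) :=
    ker_eq_pow_smul_top J g (πL g) hJ hg hkg (f_comp_πL g) (πL_inj g) (πL_lift g)
  set A := αL f g α hα with hA
  set N' : Submodule R ↥(Lim f) := LinearMap.ker A with hN'
  obtain ⟨k₀, hk₀⟩ := Ideal.exists_pow_inf_eq_pow_smul J N'
  obtain ⟨k₁, hk₁⟩ := Ideal.exists_pow_inf_eq_pow_smul J (LinearMap.range A)
  -- the key identification of the stable images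
  have key : ∀ m j, k₁ ≤ j → (LinearMap.ker (α (m + j))).map (tr f m j) = N'.map (πL f m) := by
    intro m j hj
    apply le_antisymm
    · rintro _ ⟨x, hx, rfl⟩
      replace hx : α (m + j) x = 0 := hx
      obtain ⟨xt, hxt⟩ := hsM (m + j) x
      have hb : A xt ∈ (J ^ (m + j + 1) • ⊤ : Submodule R ↥(Lim g)) := by
        rw [← hkP (m + j), LinearMap.mem_ker, hA, πL_αL, hxt, hx]
      have hc1 : A xt ∈ (J ^ (m + j + 1) • ⊤ ⊓ LinearMap.range A : Submodule R ↥(Lim g)) :=
        ⟨hb, LinearMap.mem_range_self A xt⟩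
      rw [hk₁ (m + j + 1) (by omega)] at hc1
      have hc2 : A xt ∈ (J ^ (m + j + 1 - k₁) • LinearMap.range A : Submodule R ↥(Lim g)) :=
        Submodule.smul_mono le_rfl inf_le_right hc1
      rw [← Submodule.map_top A, ← Submodule.map_smul''] at hc2
      obtain ⟨y, hy, hyA⟩ := hc2
      have hν : xt - y ∈ N' := by
        rw [hN', LinearMap.mem_ker, map_sub, hyA, sub_self]
      have hy0 : πL f m y = 0 := by
        have : y ∈ (J ^ (m + 1) • ⊤ : Submodule R ↥(Lim f)) :=
          Submodule.smul_mono_left (Ideal.pow_le_pow_right (by omega)) hy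
        rw [← hkM m] at this
        exact this
      refine ⟨xt - y, hν, ?_⟩
      rw [map_sub, hy0, sub_zero, ← hxt, tr_πL]
    · rintro _ ⟨z, hz, rfl⟩
      refine ⟨πL f (m + j) z, ?_, tr_πL f m j z⟩
      change α (m + j) (πL f (m + j) z) = 0
      rw [← πL_αL f g α hα, LinearMap.mem_ker.1 hz, map_zero]
  refine ⟨max k₀ k₁, fun c hc => ⟨fun m j hj => ?_, fun n j x hx hx0 => ?_⟩⟩
  · rw [St, key m j (le_trans (le_trans (le_max_right _ _) hc) hj),
      key m _ (le_trans (le_max_right _ _) hc)]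
  · rw [St, key _ _ (le_trans (le_max_right _ _) hc)] at hx ⊢
    obtain ⟨z, hz, rfl⟩ := hx
    rw [tr_πL] at hx0
    have hck : k₀ ≤ c := le_trans (le_max_left _ _) hc
    have h1 : z ∈ (J ^ (n + c + 1) • ⊤ ⊓ N' : Submodule R ↥(Lim f)) := by
      refine ⟨?_, hz⟩
      rw [← hkM]
      exact hx0
    rw [hk₀ _ (by omega)] at h1
    have h2 : z ∈ (J ^ (n + 1) • N' : Submodule R ↥(Lim f)) := by
      have hle : (J ^ (n + c + 1 - k₀) • (J ^ k₀ • ⊤ ⊓ N') : Submodule R ↥(Lim f)) ≤
          J ^ (n + 1) • N' :=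
        Submodule.smul_mono (Ideal.pow_le_pow_right (by omega)) inf_le_right
      exact hle h1
    rw [← Submodule.map_smul'']
    exact ⟨z, h2, rfl⟩

end complete

section smulSub

variable {B : Type u} [CommRing B] {R : Type u} [CommRing R] [Algebra B R]
  {X : Type u} [AddCommGroup X] [Module B X] [Module R X] [IsScalarTower B R X]

theorem map_smul_mem_sub (L : Ideal B) (S : Submodule R X) (j : R) (hj : j ∈ L.map (algebraMap B R))
    (x : X) (hx : x ∈ S) : j • x ∈ (L • S.restrictScalars B : Submodule B X) := by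
  have key : ∀ j ∈ L.map (algebraMap B R), ∀ x ∈ S, j • x ∈ (L • S.restrictScalars B : Submodule B X) := by
    intro j hj
    refine Submodule.span_induction
      (p := fun j _ => ∀ x ∈ S, j • x ∈ (L • S.restrictScalars B : Submodule B X)) ?_ ?_ ?_ ?_ hj
    · rintro _ ⟨a, ha, rfl⟩ x hx
      rw [algebraMap_smul]
      exact Submodule.smul_mem_smul ha hx
    · intro x _
      rw [zero_smul]
      exact Submodule.zero_mem _
    · intro j₁ j₂ _ _ h₁ h₂ x hx
      rw [add_smul]
      exact Submodule.add_mem _ (h₁ x hx) (h₂ x hx)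
    · intro r j₁ _ h₁ x hx
      rw [smul_eq_mul, mul_comm, mul_smul]
      exact h₁ (r • x) (S.smul_mem r hx)
  exact key j hj x hx

theorem mem_of_mem_map_smul_sub (L : Ideal B) (S : Submodule R X) (x : X)
    (hx : x ∈ ((L.map (algebraMap B R)) • S : Submodule R X)) :
    x ∈ (L • S.restrictScalars B : Submodule B X) := by
  refine Submodule.smul_induction_on hx ?_ ?_
  · intro j hj y hy
    exact map_smul_mem_sub L S j hj y hy
  · intro y z hy hz
    exact Submodule.add_mem _ hy hz

end smulSub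

section general

variable {B : Type u} [CommRing B] [IsNoetherianRing B] (I : Ideal B)
variable {M P : ℕ → Type u} [∀ n, AddCommGroup (M n)] [∀ n, Module B (M n)]
  [∀ n, AddCommGroup (P n)] [∀ n, Module B (P n)]
  (f : ∀ n, M (n + 1) →ₗ[B] M n) (g : ∀ n, P (n + 1) →ₗ[B] P n) (α : ∀ n, M n →ₗ[B] P n)
  (hf : ∀ n, Function.Surjective (f n))
  (hkf : ∀ n, LinearMap.ker (f n) = I ^ (n + 1) • (⊤ : Submodule B (M (n + 1))))
  (hg : ∀ n, Function.Surjective (g n))
  (hkg : ∀ n, LinearMap.ker (g n) = I ^ (n + 1) • (⊤ : Submodule B (P (n + 1))))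
  (hα : ∀ n x, g n (α (n + 1) x) = α n (f n x))
  [Module.Finite B (M 0)] [Module.Finite B (P 0)]
  (hkillM : ∀ n, ∀ a ∈ I ^ (n + 1), ∀ x : M n, a • x = 0)
  (hkillP : ∀ n, ∀ a ∈ I ^ (n + 1), ∀ x : P n, a • x = 0)

include hf hkf hg hkg hα hkillM hkillP in
theorem ker_general : ∃ c₀ : ℕ, ∀ c, c₀ ≤ c →
    (∀ m j, c ≤ j → (LinearMap.ker (α (m + j))).map (tr f m j) = St f α c m) ∧
    (∀ n j (x : M (n + c + j)), x ∈ St f α c (n + c + j) → tr f (n + c) j x = 0 →
      x ∈ I ^ (n + 1) • St f α c (n + c + j)) := by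
  have hfg : I.FG := IsNoetherian.noetherian I
  haveI : IsNoetherianRing (AdicCompletion I B) :=
    Groth.Agent.Lib.Helper19.isNoetherianRing_adicCompletion I
  haveI hcomplete : IsAdicComplete I (AdicCompletion I B) := AdicCompletion.isAdicComplete hfg
  haveI hJc : IsAdicComplete (I.map (algebraMap B (AdicCompletion I B))) (AdicCompletion I B) :=
    (IsAdicComplete.map_algebraMap_iff I (AdicCompletion I B)).mpr hcomplete
  let M' : ℕ → Type u := fun n => CM I (n + 1) (M n) (hkillM n)
  let P' : ℕ → Type u := fun n => CM I (n + 1) (P n) (hkillP n)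
  let f' : ∀ n, M' (n + 1) →ₗ[AdicCompletion I B] M' n := fun n =>
    liftLin I (Nat.le_succ (n + 1)) (hkillM (n + 1)) (hkillM n) (f n)
  let g' : ∀ n, P' (n + 1) →ₗ[AdicCompletion I B] P' n := fun n =>
    liftLin I (Nat.le_succ (n + 1)) (hkillP (n + 1)) (hkillP n) (g n)
  let α' : ∀ n, M' n →ₗ[AdicCompletion I B] P' n := fun n =>
    liftLin I le_rfl (hkillM n) (hkillP n) (α n)
  haveI : Module.Finite B (M' 0) := inferInstanceAs (Module.Finite B (M 0))
  haveI : Module.Finite B (P' 0) := inferInstanceAs (Module.Finite B (P 0))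
  haveI : Module.Finite (AdicCompletion I B) (M' 0) :=
    Module.Finite.of_restrictScalars_finite B (AdicCompletion I B) (M' 0)
  haveI : Module.Finite (AdicCompletion I B) (P' 0) :=
    Module.Finite.of_restrictScalars_finite B (AdicCompletion I B) (P' 0)
  have hkf' : ∀ n, LinearMap.ker (f' n) =
      (I.map (algebraMap B (AdicCompletion I B))) ^ (n + 1) • (⊤ : Submodule _ (M' (n + 1))) := by
    intro n
    ext x
    rw [← Ideal.map_pow]
    constructor
    · intro hx
      have h1 : (x : M (n + 1)) ∈ LinearMap.ker (f n) := hx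
      rw [hkf n] at h1
      exact mem_map_smul_top_of_mem (X := M' (n + 1)) (I ^ (n + 1)) x h1
    · intro hx
      have h1 := mem_of_mem_map_smul_top (X := M' (n + 1)) (I ^ (n + 1)) x hx
      have h2 : (x : M (n + 1)) ∈ LinearMap.ker (f n) := by rw [hkf n]; exact h1
      exact h2
  have hkg' : ∀ n, LinearMap.ker (g' n) =
      (I.map (algebraMap B (AdicCompletion I B))) ^ (n + 1) • (⊤ : Submodule _ (P' (n + 1))) := by
    intro n
    ext x
    rw [← Ideal.map_pow]
    constructor
    · intro hx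
      have h1 : (x : P (n + 1)) ∈ LinearMap.ker (g n) := hx
      rw [hkg n] at h1
      exact mem_map_smul_top_of_mem (X := P' (n + 1)) (I ^ (n + 1)) x h1
    · intro hx
      have h1 := mem_of_mem_map_smul_top (X := P' (n + 1)) (I ^ (n + 1)) x hx
      have h2 : (x : P (n + 1)) ∈ LinearMap.ker (g n) := by rw [hkg n]; exact h1
      exact h2
  obtain ⟨c₀, hc₀⟩ := ker_complete (I.map (algebraMap B (AdicCompletion I B)))
    f' g' α' hf hkf' hg hkg' hα
  have htr : ∀ (n j : ℕ) (y : M (n + j)), tr f' n j y = tr f n j y := by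
    intro n j
    induction j with
    | zero => intro y; rfl
    | succ j ih =>
      intro y
      change tr f' n j (f' (n + j) y) = tr f n j (f (n + j) y)
      exact ih _
  have hmap : ∀ (m j : ℕ) (x : M m), x ∈ (LinearMap.ker (α (m + j))).map (tr f m j) ↔
      x ∈ (LinearMap.ker (α' (m + j))).map (tr f' m j) := by
    intro m j x
    constructor
    · rintro ⟨y, hy, rfl⟩
      exact ⟨y, hy, htr m j y⟩
    · rintro ⟨y, hy, rfl⟩
      exact ⟨y, hy, (htr m j y).symm⟩
  refine ⟨c₀, fun c hc => ?_⟩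
  obtain ⟨hML, hAR⟩ := hc₀ c hc
  have hSt : ∀ m, (St f' α' c m).restrictScalars B = St f α c m := by
    intro m
    ext x
    exact (hmap m c x).symm
  refine ⟨fun m j hj => ?_, fun n j x hx hx0 => ?_⟩
  · ext x
    rw [hmap m j x, hML m j hj]
    exact (hmap m c x).symm
  · have h1 : x ∈ St f' α' c (n + c + j) := (hmap _ c x).1 hx
    have h2 := hAR n j x h1 ((htr (n + c) j x).trans hx0)
    rw [← Ideal.map_pow] at h2
    have h3 := mem_of_mem_map_smul_sub (X := M' (n + c + j)) (I ^ (n + 1)) (St f' α' c (n + c + j)) x h2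
    rw [hSt] at h3
    exact h3

end general

end Groth.Agent.Lib.T2H9.Ker1
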