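import Mathlib
import Groth.Agent.Lib.T2H9Ker1
import Groth.Agent.Lib.T2H9GE4

/-!
Local Mittag-Leffler/Artin-Rees claim for the kernels of a morphism of coherent formal modules on an affine open (S0834): StU, LocK, local_claim.
-/

set_option autoImplicit false
set_option linter.style.haveILetI false
set_option linter.unusedSectionVars false
set_option linter.unusedVariables false
universe u
open CategoryTheory CategoryTheory.Limits Opposite AlgebraicGeometry TopologicalSpace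

namespace Groth.Agent.Lib.T2H9.Ker2

open Groth.Agent.Lib.T2H2.AlgzB Groth.Agent.Lib.T2H9.FFGeom Groth.Agent.Lib.T2H9.Alg
  Groth.Agent.Lib.T2H5.IdealMul Groth.Agent.Lib.T2H9.GE1 Groth.Agent.Lib.T2H9.GE2 Groth.Agent.Lib.T2H9.GE3
  Groth.Agent.S9530

variable {A : Type u} [CommRing A] {X : Scheme.{u}} [X.Over (Spec (CommRingCat.of A))]

section loc

variable {F G : ℕᵒᵖ ⥤ X.Modules}

theorem tr_eq (F : ℕᵒᵖ ⥤ X.Modules) (U : X.Opens) (n : ℕ) : ∀ (j : ℕ) (y : Γ(F.obj (op (n + j)), U)),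
    GE1.tr (M := fun n => Γ(F.obj (op n), U))
      (fun n => appL (F.map (homOfLE (Nat.le_succ n)).op) U) n j y = (trF F n j).app U y := by
  intro j
  induction j with
  | zero =>
    intro y
    rw [GE1.tr_zero, trF_zero]
    rfl
  | succ j ih =>
    intro y
    change GE1.tr (M := fun n => Γ(F.obj (op n), U)) _ n j
      (appL (F.map (homOfLE (Nat.le_succ (n + j))).op) U y) = _
    rw [ih, trF_succ]
    rfl

/-- the stable image on sections -/
noncomputable def StU (α : F ⟶ G) (U : X.Opens) (c b : ℕ) : Submodule Γ(X, U) Γ(F.obj (op b), U) :=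
  (LinearMap.ker (appL (α.app (op (b + c))) U)).map (appL (tt F (Nat.le_add_right b c)) U)

theorem mem_StU (α : F ⟶ G) (U : X.Opens) (c b : ℕ) (x : Γ(F.obj (op b), U)) :
    x ∈ StU α U c b ↔ ∃ y : Γ(F.obj (op (b + c)), U), (α.app (op (b + c))).app U y = 0 ∧
      (tt F (Nat.le_add_right b c)).app U y = x := Iff.rfl

/-- the local property at an affine open -/
def LocK (I : Ideal A) (α : F ⟶ G) (U : X.Opens) (c : ℕ) : Prop :=
  (∀ (m b : ℕ) (h : m + c ≤ b) (x : Γ(F.obj (op m), U)),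
    (∃ y : Γ(F.obj (op b), U), (α.app (op b)).app U y = 0 ∧
      (tt F (le_trans (Nat.le_add_right m c) h)).app U y = x) ↔ x ∈ StU α U c m) ∧
  (∀ (n a b : ℕ) (h : a ≤ b), n + c ≤ a → ∀ x : Γ(F.obj (op b), U), x ∈ StU α U c b →
    (tt F h).app U x = 0 → x ∈ ((I ^ (n + 1)).map (ρU X U)) • StU α U c b)

variable (I : Ideal A) [IsNoetherian X]
  (hF : Formal.IsCohFormal I F) (hG : Formal.IsCohFormal I G) (α : F ⟶ G)

include hF hG in
theorem local_claim (U : X.affineOpens) : ∃ c₀ : ℕ, ∀ c, c₀ ≤ c → LocK I α U.1 c := by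
  haveI : IsNoetherianRing Γ(X, U.1) := IsLocallyNoetherian.component_noetherian U
  have hF' := (isCohFormal_iff I F).1 hF
  have hG' := (isCohFormal_iff I G).1 hG
  haveI qF : ∀ n, (F.obj (op n)).IsQuasicoherent := fun n => (hF'.1 n).1
  haveI qG : ∀ n, (G.obj (op n)).IsQuasicoherent := fun n => (hG'.1 n).1
  haveI eF : ∀ n, Epi (F.map (homOfLE (Nat.le_succ n)).op) := fun n => (hF'.2.2 n).epi
  haveI eG : ∀ n, Epi (G.map (homOfLE (Nat.le_succ n)).op) := fun n => (hG'.2.2 n).epi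
  haveI : Module.Finite Γ(X, U.1) Γ(F.obj (op 0), U.1) := by
    haveI : SheafOfModules.IsFiniteType (R := X.ringCatSheaf) (F.obj (op 0)) := (hF'.1 0).2
    exact Groth.Agent.Lib.Helper23.FinType.finite_of_isFiniteType _ U.2
  haveI : Module.Finite Γ(X, U.1) Γ(G.obj (op 0), U.1) := by
    haveI : SheafOfModules.IsFiniteType (R := X.ringCatSheaf) (G.obj (op 0)) := (hG'.1 0).2
    exact Groth.Agent.Lib.Helper23.FinType.finite_of_isFiniteType _ U.2
  obtain ⟨c₀, hc₀⟩ := Ker1.ker_general (I.map (ρU X U.1))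
    (M := fun n => Γ(F.obj (op n), U.1)) (P := fun n => Γ(G.obj (op n), U.1))
    (fun n => appL (F.map (homOfLE (Nat.le_succ n)).op) U.1)
    (fun n => appL (G.map (homOfLE (Nat.le_succ n)).op) U.1)
    (fun n => appL (α.app (op n)) U.1)
    (fun n => Groth.Agent.Lib.Helper23.FinType.surjective_app_of_epi _ U.2)
    (fun n => by
      rw [ker_app_of_isQuotBy (I ^ (n + 1)) _ (hF'.2.2 n) U, Ideal.map_pow])
    (fun n => Groth.Agent.Lib.Helper23.FinType.surjective_app_of_epi _ U.2)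
    (fun n => by
      rw [ker_app_of_isQuotBy (I ^ (n + 1)) _ (hG'.2.2 n) U, Ideal.map_pow])
    (fun n x => by
      rw [← appL_comp, ← appL_comp]
      have := α.naturality (homOfLE (Nat.le_succ n)).op
      rw [this])
    (fun n a ha x => by
      rw [← Ideal.map_pow] at ha
      exact smul_eq_zero_of_killedBy (I ^ (n + 1)) _ (hF'.2.1 n) U.1 a ha x)
    (fun n a ha x => by
      rw [← Ideal.map_pow] at ha
      exact smul_eq_zero_of_killedBy (I ^ (n + 1)) _ (hG'.2.1 n) U.1 a ha x)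
  refine ⟨c₀, fun c hc => ?_⟩
  obtain ⟨hML, hAR⟩ := hc₀ c hc
  have hSt : ∀ b, Ker1.St (M := fun n => Γ(F.obj (op n), U.1)) (P := fun n => Γ(G.obj (op n), U.1))
      (fun n => appL (F.map (homOfLE (Nat.le_succ n)).op) U.1)
      (fun n => appL (α.app (op n)) U.1) c b = StU α U.1 c b := by
    intro b
    ext x
    constructor
    · rintro ⟨y, hy, rfl⟩
      exact ⟨y, hy, (tr_eq F U.1 b c y).symm⟩
    · rintro ⟨y, hy, rfl⟩
      exact ⟨y, hy, tr_eq F U.1 b c y⟩
  refine ⟨fun m b h x => ?_, fun n a b h hna x hx hx0 => ?_⟩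
  · obtain ⟨j, rfl⟩ := Nat.exists_eq_add_of_le (le_trans (Nat.le_add_right m c) h)
    have hj : c ≤ j := by omega
    rw [← hSt, ← hML m j hj]
    constructor
    · rintro ⟨y, hy, rfl⟩
      exact ⟨y, hy, tr_eq F U.1 m j y⟩
    · rintro ⟨y, hy, rfl⟩
      exact ⟨y, hy, (tr_eq F U.1 m j y).symm⟩
  · obtain ⟨n', rfl⟩ := Nat.exists_eq_add_of_le' (le_trans (Nat.le_add_left c n) hna)
    obtain ⟨j, rfl⟩ := Nat.exists_eq_add_of_le h
    have hn : n ≤ n' := by omega
    rw [← hSt] at hx ⊢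
    have h1 := hAR n' j x hx ((tr_eq F U.1 (n' + c) j x).trans hx0)
    rw [Ideal.map_pow]
    exact Submodule.smul_mono_left (Ideal.pow_le_pow_right (by omega)) h1

end loc

end Groth.Agent.Lib.T2H9.Ker2
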