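import Mathlib
import Groth.Agent.Lib.T2H9Ker2

/-!
Stable images of the levelwise kernels of a morphism of coherent formal modules (S0834): Kn, κ, S, ιS, πS, range_ιS, κ_cokernel, exists_σ, epi_σ, ar_sections, isQuotBy_σ_modPowπ.
-/

set_option autoImplicit false
set_option linter.style.haveILetI false
set_option linter.unusedSectionVars false
set_option linter.unusedVariables false
universe u
open CategoryTheory CategoryTheory.Limits Opposite AlgebraicGeometry TopologicalSpace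

namespace Groth.Agent.Lib.T2H9.Ker3

open Groth.Agent.Lib.T2H2.AlgzB Groth.Agent.Lib.T2H9.FFGeom Groth.Agent.Lib.T2H9.Alg
  Groth.Agent.Lib.T2H5.IdealMul Groth.Agent.Lib.T2H9.GE1 Groth.Agent.Lib.T2H9.GE2 Groth.Agent.Lib.T2H9.GE3
  Groth.Agent.S9530 Groth.Agent.Lib.T2H9.Ker2

variable {A : Type u} [CommRing A] {X : Scheme.{u}} [X.Over (Spec (CommRingCat.of A))]

/-- a morphism of quasi-coherent modules which is surjective on the sections over an affine cover is an epi -/
theorem epi_of_affine_cover {M N : X.Modules} [M.IsQuasicoherent] [N.IsQuasicoherent] (π : M ⟶ N)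
    (S : Set X.affineOpens) (hS : ∀ x : X, ∃ U ∈ S, x ∈ U.1)
    (h : ∀ U ∈ S, Function.Surjective (π.app U.1)) : Epi π := by
  haveI : (cokernel π).IsQuasicoherent := Groth.Agent.Lib.Helper23.QCohLocal.isQuasicoherent_cokernel π
  apply Preadditive.epi_of_isZero_cokernel
  refine isZero_of_affine_cover _ S hS fun U hU s => ?_
  obtain ⟨y, rfl⟩ := Groth.Agent.Lib.Helper23.FinType.surjective_app_of_epi (cokernel.π π) U.2 s
  obtain ⟨x, rfl⟩ := h U hU y
  change (π ≫ cokernel.π π).app U.1 x = 0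
  rw [cokernel.condition]
  rfl

section defs

variable {F G : ℕᵒᵖ ⥤ X.Modules} (α : F ⟶ G)

/-- the levelwise kernel -/
noncomputable abbrev Kn (b : ℕ) : X.Modules := kernel (α.app (op b))

/-- the kernel at level `b` mapped to level `a` -/
noncomputable def κ {a b : ℕ} (h : a ≤ b) : Kn α b ⟶ F.obj (op a) := kernel.ι _ ≫ tt F h

theorem κ_tt {a b d : ℕ} (h : a ≤ b) (h' : b ≤ d) : κ α h' ≫ tt F h = κ α (h.trans h') := by
  unfold κ
  rw [Category.assoc, tt_comp]

theorem κ_α {a b : ℕ} (h : a ≤ b) : κ α h ≫ α.app (op a) = 0 := by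
  unfold κ
  rw [Category.assoc, tt_naturality, ← Category.assoc, kernel.condition, zero_comp]

/-- the stable image at level `m` -/
noncomputable def S (c m : ℕ) : X.Modules := Abelian.image (κ α (Nat.le_add_right m c))

noncomputable def ιS (c m : ℕ) : S α c m ⟶ F.obj (op m) := Abelian.image.ι _

noncomputable def πS (c m : ℕ) : Kn α (m + c) ⟶ S α c m := Abelian.factorThruImage _

instance (c m : ℕ) : Mono (ιS α c m) :=
  inferInstanceAs (Mono (Abelian.image.ι (κ α (Nat.le_add_right m c))))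

instance (c m : ℕ) : Epi (πS α c m) :=
  inferInstanceAs (Epi (Abelian.factorThruImage (κ α (Nat.le_add_right m c))))

theorem πS_ιS (c m : ℕ) : πS α c m ≫ ιS α c m = κ α (Nat.le_add_right m c) := Abelian.image.fac _

theorem ιS_α (c m : ℕ) : ιS α c m ≫ α.app (op m) = 0 := by
  rw [← cancel_epi (πS α c m), ← Category.assoc, πS_ιS, κ_α, comp_zero]

/-- lifting to the stable image -/
theorem exists_lift_S (c m : ℕ) {Z : X.Modules} (z : Z ⟶ F.obj (op m))
    (hz : z ≫ cokernel.π (κ α (Nat.le_add_right m c)) = 0) : ∃ z' : Z ⟶ S α c m, z' ≫ ιS α c m = z :=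
  ⟨kernel.lift _ z hz, kernel.lift_ι _ _ _⟩

theorem ιS_cokernel (c m : ℕ) : ιS α c m ≫ cokernel.π (κ α (Nat.le_add_right m c)) = 0 :=
  kernel.condition _

end defs

section glob

variable (I : Ideal A) [IsNoetherian X] {F G : ℕᵒᵖ ⥤ X.Modules}
  (hF : Formal.IsCohFormal I F) (hG : Formal.IsCohFormal I G) (α : F ⟶ G)

include hF in
theorem qF (n : ℕ) : (F.obj (op n)).IsQuasicoherent := (((isCohFormal_iff I F).1 hF).1 n).1

include hF hG in
theorem qKn (b : ℕ) : (Kn α b).IsQuasicoherent := by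
  haveI := qF I hF b
  haveI := qF I hG b
  exact Groth.Agent.Lib.Helper23.QCohLocal.isQuasicoherent_kernel _

include hF hG in
theorem qS (c m : ℕ) : (S α c m).IsQuasicoherent := by
  haveI := qF I hF m
  haveI := qKn I hF hG α (m + c)
  haveI : (cokernel (κ α (Nat.le_add_right m c))).IsQuasicoherent :=
    Groth.Agent.Lib.Helper23.QCohLocal.isQuasicoherent_cokernel _
  exact Groth.Agent.Lib.Helper23.QCohLocal.isQuasicoherent_kernel (cokernel.π (κ α (Nat.le_add_right m c)))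

include hF hG in
theorem isCoh_S (c m : ℕ) : Coh.IsCoh (S α c m) :=
  Groth.Agent.Lib.T2H5.Devissage.isCoh_of_mono (ιS α c m) (((isCohFormal_iff I F).1 hF).1 m) (qS I hF hG α c m)

include hF hG in
/-- sections of the stable image over an affine open -/
theorem range_ιS (c m : ℕ) (U : X.affineOpens) (x : Γ(F.obj (op m), U.1)) :
    (∃ s : Γ(S α c m, U.1), (ιS α c m).app U.1 s = x) ↔ x ∈ StU α U.1 c m := by
  haveI := qKn I hF hG α (m + c)
  haveI := qS I hF hG α c m
  constructor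
  · rintro ⟨s, rfl⟩
    obtain ⟨r, rfl⟩ := Groth.Agent.Lib.Helper23.FinType.surjective_app_of_epi (πS α c m) U.2 s
    refine ⟨(kernel.ι (α.app (op (m + c)))).app U.1 r, ?_, ?_⟩
    · change (kernel.ι (α.app (op (m + c))) ≫ α.app (op (m + c))).app U.1 r = 0
      rw [kernel.condition]
      rfl
    · change (κ α (Nat.le_add_right m c)).app U.1 r = (πS α c m ≫ ιS α c m).app U.1 r
      rw [πS_ιS]
  · rintro ⟨y, hy, rfl⟩
    obtain ⟨r, rfl⟩ := exists_kernel_app_eq (α.app (op (m + c))) U.1 y hy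
    refine ⟨(πS α c m).app U.1 r, ?_⟩
    change (πS α c m ≫ ιS α c m).app U.1 r = (κ α (Nat.le_add_right m c)).app U.1 r
    rw [πS_ιS]

variable (c : ℕ) (𝒰 : Set X.affineOpens) (h𝒰 : ∀ x : X, ∃ U ∈ 𝒰, x ∈ U.1)
  (hloc : ∀ U ∈ 𝒰, LocK I α U.1 c)

include hF hG h𝒰 hloc in
/-- (G1) the kernels at higher levels map into the stable image -/
theorem κ_cokernel (m b : ℕ) (h : m + c ≤ b) :
    κ α (le_trans (Nat.le_add_right m c) h) ≫ cokernel.π (κ α (Nat.le_add_right m c)) = 0 := by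
  haveI := qF I hF m
  haveI := qKn I hF hG α b
  haveI := qKn I hF hG α (m + c)
  haveI : (cokernel (κ α (Nat.le_add_right m c))).IsQuasicoherent :=
    Groth.Agent.Lib.Helper23.QCohLocal.isQuasicoherent_cokernel _
  refine Groth.Agent.Lib.T2H5.SubSec.hom_eq_zero_of_affine_cover _ 𝒰 h𝒰 fun U hU t => ?_
  have h1 : (κ α (le_trans (Nat.le_add_right m c) h)).app U.1 t ∈ StU α U.1 c m := by
    rw [← (hloc U hU).1 m b h]
    refine ⟨(kernel.ι (α.app (op b))).app U.1 t, ?_, rfl⟩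
    change (kernel.ι (α.app (op b)) ≫ α.app (op b)).app U.1 t = 0
    rw [kernel.condition]
    rfl
  obtain ⟨s, hs⟩ := (range_ιS I hF hG α c m U _).2 h1
  change (cokernel.π (κ α (Nat.le_add_right m c))).app U.1 ((κ α (le_trans (Nat.le_add_right m c) h)).app U.1 t) = 0
  rw [← hs]
  change (ιS α c m ≫ cokernel.π (κ α (Nat.le_add_right m c))).app U.1 s = 0
  rw [ιS_cokernel]
  rfl

include hF hG h𝒰 hloc in
/-- (G2) the transition maps of the stable images -/
theorem exists_σ {a b : ℕ} (h : a ≤ b) : ∃ σ : S α c b ⟶ S α c a, σ ≫ ιS α c a = ιS α c b ≫ tt F h := by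
  apply exists_lift_S
  rw [← cancel_epi (πS α c b), comp_zero, ← Category.assoc, ← Category.assoc, πS_ιS, κ_tt]
  exact κ_cokernel I hF hG α c 𝒰 h𝒰 hloc a (b + c) (Nat.add_le_add_right h c)

include hF hG in
theorem StU_eq_map (U : X.affineOpens) (b : ℕ) :
    StU α U.1 c b = Submodule.map (appL (ιS α c b) U.1) ⊤ := by
  ext x
  rw [← range_ιS I hF hG α c b U x]
  constructor
  · rintro ⟨s, rfl⟩
    exact ⟨s, trivial, rfl⟩
  · rintro ⟨s, -, rfl⟩
    exact ⟨s, rfl⟩

include hF hG h𝒰 hloc in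
/-- (G3) the transition maps of the stable images are epimorphisms -/
theorem epi_σ {a b : ℕ} (h : a ≤ b) (σ : S α c b ⟶ S α c a) (hσ : σ ≫ ιS α c a = ιS α c b ≫ tt F h) :
    Epi σ := by
  haveI := qS I hF hG α c a
  haveI := qS I hF hG α c b
  refine epi_of_affine_cover σ 𝒰 h𝒰 fun U hU s => ?_
  have h1 : (ιS α c a).app U.1 s ∈ StU α U.1 c a := (range_ιS I hF hG α c a U _).1 ⟨s, rfl⟩
  rw [← (hloc U hU).1 a (b + c) (Nat.add_le_add_right h c)] at h1
  obtain ⟨y, hy, hyx⟩ := h1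
  obtain ⟨r, rfl⟩ := exists_kernel_app_eq (α.app (op (b + c))) U.1 y hy
  refine ⟨(πS α c b).app U.1 r, ?_⟩
  apply Groth.Agent.Lib.Helper20.StalkExact.injective_app_of_mono (ιS α c a) U.1
  rw [← hyx]
  change (πS α c b ≫ σ ≫ ιS α c a).app U.1 r = (κ α _).app U.1 r
  rw [hσ, ← Category.assoc, πS_ιS, κ_tt]

include hF hG h𝒰 hloc in
/-- (AR) on the sections of the stable images -/
theorem ar_sections (U : X.affineOpens) (hU : U ∈ 𝒰) (n a b : ℕ) (h : a ≤ b) (hna : n + c ≤ a)
    (s : Γ(S α c b, U.1)) (hs : (tt F h).app U.1 ((ιS α c b).app U.1 s) = 0) :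
    s ∈ (((I ^ (n + 1)).map (ρU X U.1)) • ⊤ : Submodule Γ(X, U.1) Γ(S α c b, U.1)) := by
  have h1 : (ιS α c b).app U.1 s ∈ StU α U.1 c b := (range_ιS I hF hG α c b U _).1 ⟨s, rfl⟩
  have h2 := (hloc U hU).2 n a b h hna _ h1 hs
  rw [StU_eq_map I hF hG α c U b, ← Submodule.map_smul''] at h2
  obtain ⟨s', hs', hss'⟩ := h2
  have : s' = s := Groth.Agent.Lib.Helper20.StalkExact.injective_app_of_mono (ιS α c b) U.1 hss'
  rw [← this]
  exact hs'

include hF hG h𝒰 hloc in
/-- (G6') the stable image at a higher level modulo `I ^ (n+1)` -/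
theorem isQuotBy_σ_modPowπ {a b : ℕ} (h : a ≤ b) (σ : S α c b ⟶ S α c a)
    (hσ : σ ≫ ιS α c a = ιS α c b ≫ tt F h) (n : ℕ) (hna : n + c ≤ a) :
    IsQuotBy (I ^ (n + 1)) (σ ≫ Formal.modPowπ I (n + 1) (S α c a)) := by
  haveI := qS I hF hG α c a
  haveI := qS I hF hG α c b
  haveI : (Formal.modPow I (n + 1) (S α c a)).IsQuasicoherent := isQuasicoherent_modPow I (n + 1) _
  haveI := epi_σ I hF hG α c 𝒰 h𝒰 hloc h σ hσ
  have hπ := isQuotBy_modPowπ I (n + 1) (S α c a)
  haveI := hπ.epi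
  refine isQuotBy_of_affine_cover I (n + 1) _ (fun a' ha' => ?_) 𝒰 h𝒰 (fun U hU => ?_) (fun U hU m hm => ?_)
  · rw [← Category.assoc, smulMod_comp, Category.assoc, hπ.kill a' ha', comp_zero]
  · intro y
    obtain ⟨x, rfl⟩ := Groth.Agent.Lib.Helper23.FinType.surjective_app_of_epi
      (Formal.modPowπ I (n + 1) (S α c a)) U.2 y
    obtain ⟨w, rfl⟩ := Groth.Agent.Lib.Helper23.FinType.surjective_app_of_epi σ U.2 x
    exact ⟨w, rfl⟩
  · have h1 : σ.app U.1 m ∈ LinearMap.ker (appL (Formal.modPowπ I (n + 1) (S α c a)) U.1) := hm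
    rw [ker_app_of_isQuotBy (I ^ (n + 1)) _ hπ U] at h1
    have hsurj : Submodule.map (appL σ U.1) ⊤ = ⊤ := by
      rw [Submodule.map_top, LinearMap.range_eq_top]
      exact Groth.Agent.Lib.Helper23.FinType.surjective_app_of_epi σ U.2
    rw [← hsurj, ← Submodule.map_smul''] at h1
    obtain ⟨m', hm', hmm'⟩ := h1
    have h2 : (tt F h).app U.1 ((ιS α c b).app U.1 (m - m')) = 0 := by
      change (ιS α c b ≫ tt F h).app U.1 (m - m') = 0
      rw [← hσ]
      change (ιS α c a).app U.1 (σ.app U.1 (m - m')) = 0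
      have h3 : σ.app U.1 (m - m') = 0 := by
        have h4 : appL σ U.1 (m - m') = appL σ U.1 m - appL σ U.1 m' := map_sub _ _ _
        change appL σ U.1 (m - m') = 0
        rw [h4, hmm']
        exact sub_self _
      rw [h3, map_zero]
    have h5 := ar_sections I hF hG α c 𝒰 h𝒰 hloc U hU n a b h hna (m - m') h2
    have h6 : m = (m - m') + m' := by abel
    rw [h6]
    exact Submodule.add_mem _ h5 hm'

end glob

end Groth.Agent.Lib.T2H9.Ker3
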