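import Mathlib
import Groth.Agent.Lib.T2H9Ker3

/-!
The kernel system of a morphism of coherent formal modules (S0834): KData, nonempty_kData, σ, Kobj, πK, θ, Ksys, isCohFormal_Ksys, ιK, ι, ι_α.
-/

set_option autoImplicit false
set_option linter.style.haveILetI false
set_option linter.unusedSectionVars false
set_option linter.unusedVariables false
universe u
open CategoryTheory CategoryTheory.Limits Opposite AlgebraicGeometry TopologicalSpace

namespace Groth.Agent.Lib.T2H9.Ker4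

open Groth.Agent.Lib.T2H2.AlgzB Groth.Agent.Lib.T2H9.FFGeom Groth.Agent.Lib.T2H9.Alg
  Groth.Agent.Lib.T2H5.IdealMul Groth.Agent.Lib.T2H9.GE1 Groth.Agent.Lib.T2H9.GE2 Groth.Agent.Lib.T2H9.GE3
  Groth.Agent.S9530 Groth.Agent.Lib.T2H9.Ker2 Groth.Agent.Lib.T2H9.Ker3

variable {A : Type u} [CommRing A] {X : Scheme.{u}} [X.Over (Spec (CommRingCat.of A))]

/-- the data of a uniform constant for the kernels of `α` -/
structure KData (I : Ideal A) {F G : ℕᵒᵖ ⥤ X.Modules} (α : F ⟶ G) where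
  hF : Formal.IsCohFormal I F
  hG : Formal.IsCohFormal I G
  c : ℕ
  𝒰 : Set X.affineOpens
  h𝒰 : ∀ x : X, ∃ U ∈ 𝒰, x ∈ U.1
  hloc : ∀ U ∈ 𝒰, LocK I α U.1 c

theorem nonempty_kData [IsNoetherian X] (I : Ideal A) {F G : ℕᵒᵖ ⥤ X.Modules} (α : F ⟶ G)
    (hF : Formal.IsCohFormal I F) (hG : Formal.IsCohFormal I G) : Nonempty (KData I α) := by
  classical
  obtain ⟨t, ht⟩ := isCompact_univ.elim_finite_subcover (fun U : X.affineOpens => (U.1 : Set X))
    (fun U => U.1.2) (by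
      intro x _
      obtain ⟨_, ⟨U, hU, rfl⟩, hxU, -⟩ := X.isBasis_affineOpens.exists_subset_of_mem_open
        (Set.mem_univ x) isOpen_univ
      exact Set.mem_iUnion.2 ⟨⟨U, hU⟩, hxU⟩)
  have hcov : ∀ x : X, ∃ U ∈ (t : Set X.affineOpens), x ∈ U.1 := by
    intro x
    have := ht (Set.mem_univ x)
    simp only [Set.mem_iUnion] at this
    obtain ⟨U, hUt, hxU⟩ := this
    exact ⟨U, hUt, hxU⟩
  have hl : ∀ U : X.affineOpens, ∃ c₀ : ℕ, ∀ c, c₀ ≤ c → LocK I α U.1 c :=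
    fun U => local_claim I hF hG α U
  choose c₀ hc₀ using hl
  exact ⟨⟨hF, hG, t.sup c₀, (t : Set X.affineOpens), hcov,
    fun U hU => hc₀ U _ (Finset.le_sup (f := c₀) hU)⟩⟩

section sys

variable [IsNoetherian X] {I : Ideal A} {F G : ℕᵒᵖ ⥤ X.Modules} {α : F ⟶ G} (D : KData I α)

namespace KData

/-- the transition maps of the stable images -/
noncomputable def σ {a b : ℕ} (h : a ≤ b) : S α D.c b ⟶ S α D.c a :=
  (exists_σ I D.hF D.hG α D.c D.𝒰 D.h𝒰 D.hloc h).choose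

theorem σ_ιS {a b : ℕ} (h : a ≤ b) : D.σ h ≫ ιS α D.c a = ιS α D.c b ≫ tt F h :=
  (exists_σ I D.hF D.hG α D.c D.𝒰 D.h𝒰 D.hloc h).choose_spec

instance epi_σ {a b : ℕ} (h : a ≤ b) : Epi (D.σ h) :=
  Ker3.epi_σ I D.hF D.hG α D.c D.𝒰 D.h𝒰 D.hloc h _ (D.σ_ιS h)

theorem σ_comp {a b d : ℕ} (h : a ≤ b) (h' : b ≤ d) : D.σ h' ≫ D.σ h = D.σ (h.trans h') := by
  rw [← cancel_mono (ιS α D.c a), Category.assoc, σ_ιS, ← Category.assoc, σ_ιS, Category.assoc, tt_comp,
    σ_ιS]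

/-- the terms of the kernel system -/
noncomputable def Kobj (n : ℕ) : X.Modules := Formal.modPow I (n + 1) (S α D.c (D.c + n))

/-- the projection onto the terms of the kernel system -/
noncomputable def πK (n : ℕ) : S α D.c (D.c + n) ⟶ D.Kobj n := Formal.modPowπ I (n + 1) _

theorem isQuotBy_πK (n : ℕ) : IsQuotBy (I ^ (n + 1)) (D.πK n) := isQuotBy_modPowπ I (n + 1) _

instance (n : ℕ) : Epi (D.πK n) := (D.isQuotBy_πK n).epi

theorem le_aux (n : ℕ) : D.c + n ≤ D.c + (n + 1) := by omega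

theorem θ_aux (n : ℕ) : Formal.smulFamily (I ^ (n + 1 + 1)) (S α D.c (D.c + (n + 1))) ≫
    D.σ (D.le_aux n) ≫ D.πK n = 0 := by
  rw [smulFamily_comp_eq_zero_iff]
  intro a ha
  have ha' : a ∈ I ^ (n + 1) := Ideal.pow_le_pow_right (Nat.le_succ _) ha
  rw [← Category.assoc, smulMod_comp, Category.assoc, (D.isQuotBy_πK n).kill a ha', comp_zero]

/-- the transition maps of the kernel system -/
noncomputable def θ (n : ℕ) : D.Kobj (n + 1) ⟶ D.Kobj n :=
  cokernel.desc _ (D.σ (D.le_aux n) ≫ D.πK n) (D.θ_aux n)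

theorem πK_θ (n : ℕ) : D.πK (n + 1) ≫ D.θ n = D.σ (D.le_aux n) ≫ D.πK n :=
  cokernel.π_desc _ _ _

/-- the kernel system -/
noncomputable def Ksys : ℕᵒᵖ ⥤ X.Modules := Functor.ofOpSequence (X := D.Kobj) D.θ

theorem Ksys_obj (n : ℕ) : D.Ksys.obj (op n) = D.Kobj n := rfl

theorem Ksys_map_succ (n : ℕ) : D.Ksys.map (homOfLE (Nat.le_succ n)).op = D.θ n :=
  Functor.ofOpSequence_map_homOfLE_succ _ n

theorem isCohFormal_Ksys : Formal.IsCohFormal I D.Ksys := by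
  rw [isCohFormal_iff]
  refine ⟨fun n => isCoh_modPow I (n + 1) _ (isCoh_S I D.hF D.hG α D.c (D.c + n)),
    fun n => (D.isQuotBy_πK n).killedBy, fun n => ?_⟩
  rw [Ksys_map_succ]
  refine isQuotBy_of_comp (D.isQuotBy_πK (n + 1)) (IsQuotBy.of_eq ?_ (D.πK_θ n).symm)
  exact isQuotBy_σ_modPowπ I D.hF D.hG α D.c D.𝒰 D.h𝒰 D.hloc _ _ (D.σ_ιS _) n (by omega)

theorem ιK_aux (n : ℕ) : Formal.smulFamily (I ^ (n + 1)) (S α D.c (D.c + n)) ≫
    ιS α D.c (D.c + n) ≫ tt F (Nat.le_add_left n D.c) = 0 := by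
  rw [smulFamily_comp_eq_zero_iff]
  intro a ha
  have hk := ((isCohFormal_iff I F).1 D.hF).2.1 n a ha
  rw [← Category.assoc, smulMod_comp, Category.assoc, smulMod_comp, hk, comp_zero, comp_zero]

/-- the components of the map from the kernel system -/
noncomputable def ιK (n : ℕ) : D.Kobj n ⟶ F.obj (op n) :=
  cokernel.desc _ (ιS α D.c (D.c + n) ≫ tt F (Nat.le_add_left n D.c)) (D.ιK_aux n)

theorem πK_ιK (n : ℕ) : D.πK n ≫ D.ιK n = ιS α D.c (D.c + n) ≫ tt F (Nat.le_add_left n D.c) :=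
  cokernel.π_desc _ _ _

/-- the map from the kernel system -/
noncomputable def ι : D.Ksys ⟶ F := NatTrans.ofOpSequence (F := D.Ksys) D.ιK (by
  intro n
  have h1 : D.Ksys.map (homOfLE (Nat.le_add_right n 1)).op = D.θ n := D.Ksys_map_succ n
  rw [h1]
  change D.θ n ≫ D.ιK n = D.ιK (n + 1) ≫ tt F (Nat.le_succ n)
  rw [← cancel_epi (D.πK (n + 1)), ← Category.assoc, πK_θ, Category.assoc, πK_ιK, ← Category.assoc,
    σ_ιS, ← Category.assoc, πK_ιK, Category.assoc, Category.assoc, tt_comp, tt_comp])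

theorem ι_app (n : ℕ) : D.ι.app (op n) = D.ιK n := rfl

theorem ι_α : D.ι ≫ α = 0 := by
  refine NatTrans.ext (funext fun n => ?_)
  obtain ⟨n⟩ := n
  change D.ιK n ≫ α.app (op n) = 0
  rw [← cancel_epi (D.πK n), ← Category.assoc, πK_ιK, Category.assoc, tt_naturality, ← Category.assoc,
    ιS_α, zero_comp, comp_zero]

end KData

end sys

end Groth.Agent.Lib.T2H9.Ker4
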