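import Mathlib
import Groth.Agent.Lib.T2H9Ker4

/-!
Universal property of the kernel system of a morphism of coherent formal modules (S0834): τS, d, lift, lift_ι, eq_zero_of_comp_ι.
-/

set_option autoImplicit false
set_option linter.style.haveILetI false
set_option linter.unusedSectionVars false
set_option linter.unusedVariables false
universe u
open CategoryTheory CategoryTheory.Limits Opposite AlgebraicGeometry TopologicalSpace

namespace Groth.Agent.Lib.T2H9.Ker5

open Groth.Agent.Lib.T2H2.AlgzB Groth.Agent.Lib.T2H9.FFGeom Groth.Agent.Lib.T2H9.Alg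
  Groth.Agent.Lib.T2H5.IdealMul Groth.Agent.Lib.T2H9.GE1 Groth.Agent.Lib.T2H9.GE2 Groth.Agent.Lib.T2H9.GE3
  Groth.Agent.S9530 Groth.Agent.Lib.T2H9.Ker2 Groth.Agent.Lib.T2H9.Ker3 Groth.Agent.Lib.T2H9.Ker4

variable {A : Type u} [CommRing A] {X : Scheme.{u}} [X.Over (Spec (CommRingCat.of A))]

section univ

variable [IsNoetherian X] {I : Ideal A} {F G : ℕᵒᵖ ⥤ X.Modules} {α : F ⟶ G} (D : KData I α)
  {T : ℕᵒᵖ ⥤ X.Modules} (hT : Formal.IsCohFormal I T) (τ : T ⟶ F) (hτ : τ ≫ α = 0)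

include hT hτ in
theorem exists_τS (m : ℕ) : ∃ τS : T.obj (op m) ⟶ S α D.c m, τS ≫ ιS α D.c m = τ.app (op m) := by
  apply exists_lift_S
  haveI := (isQuotBy_tt I hT (Nat.le_add_right m D.c)).epi
  rw [← cancel_epi (tt T (Nat.le_add_right m D.c)), comp_zero, ← Category.assoc, tt_naturality]
  have h0 : τ.app (op (m + D.c)) ≫ α.app (op (m + D.c)) = 0 := by
    have := congrArg (fun t => t.app (op (m + D.c))) hτ
    exact this
  have h1 : τ.app (op (m + D.c)) = kernel.lift _ (τ.app (op (m + D.c))) h0 ≫ kernel.ι _ :=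
    (kernel.lift_ι _ _ _).symm
  rw [h1, Category.assoc, Category.assoc]
  change _ ≫ κ α (Nat.le_add_right m D.c) ≫ _ = 0
  rw [cokernel.condition, comp_zero]

/-- the factorization of `τ` through the stable images -/
noncomputable def τS (m : ℕ) : T.obj (op m) ⟶ S α D.c m := (exists_τS D hT τ hτ m).choose

theorem τS_ιS (m : ℕ) : τS D hT τ hτ m ≫ ιS α D.c m = τ.app (op m) := (exists_τS D hT τ hτ m).choose_spec

theorem τS_σ {a b : ℕ} (h : a ≤ b) : tt T h ≫ τS D hT τ hτ a = τS D hT τ hτ b ≫ D.σ h := by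
  rw [← cancel_mono (ιS α D.c a), Category.assoc, Category.assoc, τS_ιS, D.σ_ιS, ← Category.assoc, τS_ιS,
    tt_naturality]

theorem exists_d (n : ℕ) : ∃ d : T.obj (op n) ⟶ D.Kobj n,
    tt T (Nat.le_add_left n D.c) ≫ d = τS D hT τ hτ (D.c + n) ≫ D.πK n := by
  refine (isQuotBy_tt I hT (Nat.le_add_left n D.c)).fac _ _ fun a ha => ?_
  rw [← Category.assoc, smulMod_comp, Category.assoc, (D.isQuotBy_πK n).kill a ha, comp_zero]

/-- the components of the lift to the kernel system -/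
noncomputable def d (n : ℕ) : T.obj (op n) ⟶ D.Kobj n := (exists_d D hT τ hτ n).choose

theorem tt_d (n : ℕ) : tt T (Nat.le_add_left n D.c) ≫ d D hT τ hτ n = τS D hT τ hτ (D.c + n) ≫ D.πK n :=
  (exists_d D hT τ hτ n).choose_spec

/-- the lift to the kernel system -/
noncomputable def lift : T ⟶ D.Ksys := NatTrans.ofOpSequence (G := D.Ksys) (d D hT τ hτ) (by
  intro n
  have h1 : D.Ksys.map (homOfLE (Nat.le_add_right n 1)).op = D.θ n := D.Ksys_map_succ n
  rw [h1]
  haveI := (isQuotBy_tt I hT (Nat.le_add_left (n + 1) D.c)).epi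
  change tt T (Nat.le_succ n) ≫ d D hT τ hτ n = d D hT τ hτ (n + 1) ≫ D.θ n
  rw [← cancel_epi (tt T (Nat.le_add_left (n + 1) D.c)), ← Category.assoc, tt_comp, ← Category.assoc,
    tt_d, Category.assoc, D.πK_θ, ← Category.assoc, ← τS_σ, Category.assoc, ← tt_d, ← Category.assoc,
    tt_comp])

theorem lift_app (n : ℕ) : (lift D hT τ hτ).app (op n) = d D hT τ hτ n := rfl

theorem lift_ι : lift D hT τ hτ ≫ D.ι = τ := by
  refine NatTrans.ext (funext fun n => ?_)
  obtain ⟨n⟩ := n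
  haveI := (isQuotBy_tt I hT (Nat.le_add_left n D.c)).epi
  change d D hT τ hτ n ≫ D.ιK n = τ.app (op n)
  rw [← cancel_epi (tt T (Nat.le_add_left n D.c)), ← Category.assoc, tt_d, Category.assoc, D.πK_ιK,
    ← Category.assoc, τS_ιS, tt_naturality]

end univ

section uniq

variable [IsNoetherian X] {I : Ideal A} {F G : ℕᵒᵖ ⥤ X.Modules} {α : F ⟶ G} (D : KData I α)
  {T : ℕᵒᵖ ⥤ X.Modules} (hT : Formal.IsCohFormal I T)

include hT in
theorem eq_zero_of_comp_ι (e : T ⟶ D.Ksys) (he : e ≫ D.ι = 0) : e = 0 := by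
  refine NatTrans.ext (funext fun n => ?_)
  obtain ⟨n⟩ := n
  change e.app (op n) = 0
  have hn : n ≤ n + D.c := Nat.le_add_right n D.c
  haveI := (isQuotBy_tt I hT hn).epi
  rw [← cancel_epi (tt T hn), comp_zero, tt_naturality]
  haveI qT := qF I hT (n + D.c)
  have hK := D.isCohFormal_Ksys
  haveI qK := qF I hK n
  haveI : (D.Kobj n).IsQuasicoherent := qK
  haveI qS := qS I D.hF D.hG α D.c (D.c + (n + D.c))
  haveI : (D.Kobj (n + D.c)).IsQuasicoherent := qF I hK (n + D.c)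
  refine Groth.Agent.Lib.T2H5.SubSec.hom_eq_zero_of_affine_cover _ D.𝒰 D.h𝒰 fun U hU t => ?_
  obtain ⟨s, hs⟩ := Groth.Agent.Lib.Helper23.FinType.surjective_app_of_epi (D.πK (n + D.c)) U.2
    ((e.app (op (n + D.c))).app U.1 t)
  have h1 : (tt F (Nat.le_add_left (n + D.c) D.c)).app U.1 ((ιS α D.c (D.c + (n + D.c))).app U.1 s) = 0 := by
    change (ιS α D.c (D.c + (n + D.c)) ≫ tt F (Nat.le_add_left (n + D.c) D.c)).app U.1 s = 0
    rw [← D.πK_ιK]
    change (D.ιK (n + D.c)).app U.1 ((D.πK (n + D.c)).app U.1 s) = 0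
    rw [hs]
    change ((e ≫ D.ι).app (op (n + D.c))).app U.1 t = 0
    rw [he]
    rfl
  have h2 := ar_sections I D.hF D.hG α D.c D.𝒰 D.h𝒰 D.hloc U hU n (n + D.c) (D.c + (n + D.c))
    (Nat.le_add_left (n + D.c) D.c) le_rfl s h1
  change (tt D.Ksys hn).app U.1 ((e.app (op (n + D.c))).app U.1 t) = 0
  rw [← hs]
  have h3 : ∀ s ∈ (((I ^ (n + 1)).map (ρU X U.1)) • ⊤ : Submodule Γ(X, U.1) Γ(S α D.c (D.c + (n + D.c)), U.1)),
      appL (D.πK (n + D.c) ≫ tt D.Ksys hn) U.1 s = 0 := by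
    intro s hs
    refine Submodule.smul_induction_on hs ?_ ?_
    · intro a ha m _
      rw [map_smul]
      exact smul_eq_zero_of_killedBy (I ^ (n + 1)) _ (D.isQuotBy_πK n).killedBy U.1 a ha _
    · intro x y hx hy
      rw [map_add, hx, hy, add_zero]
  exact h3 s h2

end uniq

end Groth.Agent.Lib.T2H9.Ker5
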