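import Mathlib
import Groth.Agent.Lib.T2H9Ker5
import Groth.Agent.Lib.T2H9ConnZ
import Groth.Agent.Lib.Helper18OmLS11

/-!
Ideals with the same zero locus on a Noetherian scheme (S9528): mem_basicOpen_ρU_iff, map_le_radical, exists_killedBy_pow (modules killed by a power of I are killed by a power of J).
-/

set_option autoImplicit false
set_option linter.style.haveILetI false
set_option linter.unusedSectionVars false
set_option linter.unusedVariables false
universe u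
open CategoryTheory CategoryTheory.Limits Opposite AlgebraicGeometry TopologicalSpace

namespace Groth.Agent.Lib.T2H9.EqZ1

open Groth.Agent.Lib.T2H2.AlgzB Groth.Agent.Lib.T2H9.FFGeom Groth.Agent.Lib.T2H9.Alg
  Groth.Agent.Lib.T2H5.IdealMul Groth.Agent.Lib.T2H9.GE1 Groth.Agent.Lib.T2H9.GE2 Groth.Agent.Lib.T2H9.GE3
  Groth.Agent.S9530 Groth.Agent.Lib.Helper6

variable {A : Type u} [CommRing A] (X : Scheme.{u}) [X.Over (Spec (CommRingCat.of A))]

/-- membership in the prime of a point of an affine open -/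
theorem mem_basicOpen_ρU_iff (U : X.Opens) (a : A) (x : X) :
    x ∈ X.basicOpen (ρU X U a) ↔ x ∈ U ∧ a ∉ ((X ↘ Spec (CommRingCat.of A)).base x).asIdeal := by
  change x ∈ X.basicOpen ((X ↘ Spec (CommRingCat.of A)).appLE ⊤ U le_top
      ((Scheme.ΓSpecIso (CommRingCat.of A)).inv a)) ↔ _
  rw [Scheme.basicOpen_appLE, basicOpen_eq_of_affine]
  rfl

variable (I J : Ideal A)

/-- if the zero locus of `I` in `X` lies in that of `J`, then `J Γ(U)` lies in the radical of `I Γ(U)` -/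
theorem map_le_radical (hV : (fun x : X => (X ↘ Spec (CommRingCat.of A)) x) ⁻¹' PrimeSpectrum.zeroLocus (I : Set A) ⊆
      (fun x : X => (X ↘ Spec (CommRingCat.of A)) x) ⁻¹' PrimeSpectrum.zeroLocus (J : Set A))
    (U : X.affineOpens) : J.map (ρU X U.1) ≤ (I.map (ρU X U.1)).radical := by
  rw [Ideal.map_le_iff_le_comap]
  intro b hb
  rw [Ideal.mem_comap, Ideal.radical_eq_sInf, Ideal.mem_sInf]
  rintro p ⟨hIp, hp⟩
  haveI := hp
  by_contra hbp
  let P : PrimeSpectrum Γ(X, U.1) := ⟨p, hp⟩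
  have h1 : P ∈ PrimeSpectrum.basicOpen (ρU X U.1 b) := hbp
  rw [← U.2.fromSpec_preimage_basicOpen] at h1
  set x : X := U.2.fromSpec.base P with hx
  have h2 : x ∈ X.basicOpen (ρU X U.1 b) := h1
  obtain ⟨hxU, hbx⟩ := (mem_basicOpen_ρU_iff X U.1 b x).1 h2
  have h3 : x ∈ (fun x : X => (X ↘ Spec (CommRingCat.of A)) x) ⁻¹' PrimeSpectrum.zeroLocus (I : Set A) := by
    refine (PrimeSpectrum.mem_zeroLocus _ _).2 ?_
    intro a ha
    by_contra hax
    have h4 : x ∈ X.basicOpen (ρU X U.1 a) := (mem_basicOpen_ρU_iff X U.1 a x).2 ⟨hxU, hax⟩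
    have h5 : P ∈ U.2.fromSpec ⁻¹ᵁ X.basicOpen (ρU X U.1 a) := h4
    rw [U.2.fromSpec_preimage_basicOpen] at h5
    exact h5 (hIp (Ideal.mem_map_of_mem _ ha))
  have h6 := (PrimeSpectrum.mem_zeroLocus _ _).1 (hV h3)
  exact hbx (h6 hb)

theorem ρU_comp_res {U W : X.Opens} (h : W ≤ U) :
    (X.presheaf.map (homOfLE h).op).hom.comp (ρU (A := A) X U) = ρU X W := by
  ext a
  exact ρU_res X h a

/-- modules killed by a power of `I` are killed by a power of `J` when `V(I O_X) ⊆ V(J O_X)` -/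
theorem exists_killedBy_pow [IsNoetherian X]
    (hV : (fun x : X => (X ↘ Spec (CommRingCat.of A)) x) ⁻¹' PrimeSpectrum.zeroLocus (I : Set A) ⊆
      (fun x : X => (X ↘ Spec (CommRingCat.of A)) x) ⁻¹' PrimeSpectrum.zeroLocus (J : Set A)) :
    ∃ a : ℕ, 0 < a ∧ ∀ (k : ℕ) (M : X.Modules), Formal.KilledBy (I ^ k) M →
      Formal.KilledBy (J ^ (a * k)) M := by
  classical
  obtain ⟨t, ht⟩ := isCompact_univ.elim_finite_subcover (fun U : X.affineOpens => (U.1 : Set X))
    (fun U => U.1.2) (by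
      intro x _
      obtain ⟨_, ⟨U, hU, rfl⟩, hxU, -⟩ := X.isBasis_affineOpens.exists_subset_of_mem_open
        (Set.mem_univ x) isOpen_univ
      exact Set.mem_iUnion.2 ⟨⟨U, hU⟩, hxU⟩)
  have hcov : ∀ x : X, ∃ U ∈ (t : Set X.affineOpens), x ∈ U.1 := by
    intro x
    have := ht (Set.mem_univ x)
    simp only [Set.mem_iUnion] at this
    obtain ⟨U, hUt, hxU⟩ := this
    exact ⟨U, hUt, hxU⟩
  have hl : ∀ U : X.affineOpens, ∃ a : ℕ, (J.map (ρU X U.1)) ^ a ≤ I.map (ρU X U.1) := by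
    intro U
    haveI : IsNoetherianRing Γ(X, U.1) := IsLocallyNoetherian.component_noetherian U
    exact Ideal.exists_pow_le_of_le_radical_of_fg (map_le_radical X I J hV U)
      (IsNoetherian.noetherian _)
  choose a₀ ha₀ using hl
  refine ⟨t.sup a₀ + 1, Nat.succ_pos _, fun k M hM b hb => ?_⟩
  refine Groth.Agent.Helper18OmLS.hom_ext_basis _ _ {W : X.Opens | ∃ U ∈ t, W ≤ U.1} ?_ ?_
  · rw [Opens.isBasis_iff_nbhd]
    intro O x hx
    obtain ⟨U, hUt, hxU⟩ := hcov x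
    exact ⟨O ⊓ U.1, ⟨U, hUt, inf_le_right⟩, ⟨hx, hxU⟩, inf_le_left⟩
  · rintro W ⟨U, hUt, hWU⟩ s
    change (Formal.smulMod A M b).app W s = 0
    rw [smulMod_app]
    refine smul_eq_zero_of_killedBy (I ^ k) M hM W _ ?_ s
    have h1 : ρU X U.1 b ∈ (I ^ k).map (ρU X U.1) := by
      have h2 : ρU X U.1 b ∈ (J ^ ((t.sup a₀ + 1) * k)).map (ρU X U.1) := Ideal.mem_map_of_mem _ hb
      rw [Ideal.map_pow, pow_mul] at h2
      rw [Ideal.map_pow]
      have h3 : (J.map (ρU X U.1)) ^ (t.sup a₀ + 1) ≤ I.map (ρU X U.1) :=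
        le_trans (Ideal.pow_le_pow_right (le_trans (Finset.le_sup (f := a₀) hUt) (Nat.le_succ _))) (ha₀ U)
      exact Ideal.pow_right_mono h3 k h2
    have h4 := Ideal.mem_map_of_mem (X.presheaf.map (homOfLE hWU).op).hom h1
    rw [Ideal.map_map, ρU_comp_res X hWU] at h4
    have h5 : (X.presheaf.map (homOfLE hWU).op).hom (ρU X U.1 b) = ρU X W b := ρU_res X hWU b
    rw [h5] at h4
    exact h4

end Groth.Agent.Lib.T2H9.EqZ1
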