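import Mathlib
import Groth.Agent.Lib.T2H9EqZ1

/-!
Reindexing coherent formal modules from one ideal to another with the same zero locus (S9528): isQuotBy_comp_of_killImp, reObj, reπ, reθ, reSys, reHom, isCohFormal_reSys, q, e, reIsoHom, isIso_reIsoHom, reIsoHom_naturality.
-/

set_option autoImplicit false
set_option linter.style.haveILetI false
set_option linter.unusedSectionVars false
set_option linter.unusedVariables false
universe u
open CategoryTheory CategoryTheory.Limits Opposite AlgebraicGeometry TopologicalSpace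

namespace Groth.Agent.Lib.T2H9.EqZ2

open Groth.Agent.Lib.T2H2.AlgzB Groth.Agent.Lib.T2H9.FFGeom Groth.Agent.Lib.T2H9.Alg
  Groth.Agent.Lib.T2H5.IdealMul Groth.Agent.Lib.T2H9.GE1 Groth.Agent.Lib.T2H9.GE2 Groth.Agent.Lib.T2H9.GE3
  Groth.Agent.S9530 Groth.Agent.Lib.Helper6

variable {A : Type u} [CommRing A] {X : Scheme.{u}} [X.Over (Spec (CommRingCat.of A))]

/-- a quotient by `L` followed by a quotient by `J'`, when `J'`-killed modules are `L`-killed -/
theorem isQuotBy_comp_of_killImp {L J' : Ideal A}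
    (hLJ : ∀ M : X.Modules, Formal.KilledBy J' M → Formal.KilledBy L M)
    {M M' M'' : X.Modules} {p : M ⟶ M'} {t : M' ⟶ M''} (hp : IsQuotBy L p) (ht : IsQuotBy J' t) :
    IsQuotBy J' (p ≫ t) := by
  have := hp.epi
  have := ht.epi
  refine ⟨inferInstance, fun a ha => ?_, fun T g hg => ?_⟩
  · rw [← Category.assoc, smulMod_comp, Category.assoc, ht.kill a ha, comp_zero]
  · obtain ⟨g₁, hg₁⟩ := (isQuotBy_cokernelπ J' M).fac T g hg
    have hk : Formal.KilledBy L (cokernel (Formal.smulFamily J' M)) :=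
      hLJ _ (isQuotBy_cokernelπ J' M).killedBy
    have hgL : ∀ b ∈ L, Formal.smulMod A M b ≫ g = 0 := by
      intro b hb
      rw [← hg₁, ← Category.assoc, smulMod_comp, Category.assoc, hk b hb, zero_comp, comp_zero]
    obtain ⟨g', hg'⟩ := hp.fac T g hgL
    obtain ⟨g'', hg''⟩ := ht.fac T g' (fun a ha => by
      rw [← cancel_epi p, comp_zero, ← Category.assoc, ← smulMod_comp, Category.assoc, hg', hg a ha])
    exact ⟨g'', by rw [Category.assoc, hg'', hg']⟩

section re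

variable (J : Ideal A) (m : ℕ → ℕ) (hm : Monotone m)

/-- the terms of the reindexed system -/
noncomputable def reObj (F : ℕᵒᵖ ⥤ X.Modules) (n : ℕ) : X.Modules :=
  Formal.modPow J (n + 1) (F.obj (op (m n)))

noncomputable def reπ (F : ℕᵒᵖ ⥤ X.Modules) (n : ℕ) : F.obj (op (m n)) ⟶ reObj J m F n :=
  Formal.modPowπ J (n + 1) _

theorem isQuotBy_reπ (F : ℕᵒᵖ ⥤ X.Modules) (n : ℕ) : IsQuotBy (J ^ (n + 1)) (reπ J m F n) :=
  isQuotBy_modPowπ J (n + 1) _

instance (F : ℕᵒᵖ ⥤ X.Modules) (n : ℕ) : Epi (reπ J m F n) := (isQuotBy_reπ J m F n).epi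

theorem reθ_aux (F : ℕᵒᵖ ⥤ X.Modules) (n : ℕ) :
    Formal.smulFamily (J ^ (n + 1 + 1)) (F.obj (op (m (n + 1)))) ≫
      tt F (hm (Nat.le_succ n)) ≫ reπ J m F n = 0 := by
  rw [smulFamily_comp_eq_zero_iff]
  intro a ha
  have ha' : a ∈ J ^ (n + 1) := Ideal.pow_le_pow_right (Nat.le_succ _) ha
  rw [← Category.assoc, smulMod_comp, Category.assoc, (isQuotBy_reπ J m F n).kill a ha', comp_zero]

/-- the transition maps of the reindexed system -/
noncomputable def reθ (F : ℕᵒᵖ ⥤ X.Modules) (n : ℕ) : reObj J m F (n + 1) ⟶ reObj J m F n :=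
  cokernel.desc _ (tt F (hm (Nat.le_succ n)) ≫ reπ J m F n) (reθ_aux J m hm F n)

theorem reπ_θ (F : ℕᵒᵖ ⥤ X.Modules) (n : ℕ) :
    reπ J m F (n + 1) ≫ reθ J m hm F n = tt F (hm (Nat.le_succ n)) ≫ reπ J m F n :=
  cokernel.π_desc _ _ _

/-- the reindexed system -/
noncomputable def reSys (F : ℕᵒᵖ ⥤ X.Modules) : ℕᵒᵖ ⥤ X.Modules :=
  Functor.ofOpSequence (X := reObj J m F) (reθ J m hm F)

theorem reSys_map_succ (F : ℕᵒᵖ ⥤ X.Modules) (n : ℕ) :
    (reSys J m hm F).map (homOfLE (Nat.le_succ n)).op = reθ J m hm F n :=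
  Functor.ofOpSequence_map_homOfLE_succ _ n

theorem reπ_tt (F : ℕᵒᵖ ⥤ X.Modules) {a b : ℕ} (h : a ≤ b) :
    reπ J m F b ≫ tt (reSys J m hm F) h = tt F (hm h) ≫ reπ J m F a := by
  induction b, h using Nat.le_induction with
  | base =>
    have h1 : tt (reSys J m hm F) (le_refl a) = 𝟙 _ := tt_refl _ a
    have h2 : tt F (hm (le_refl a)) = 𝟙 _ := tt_refl _ _
    rw [h1, h2, Category.id_comp]
    exact Category.comp_id _
  | succ b h ih =>
    have h1 : tt (reSys J m hm F) (Nat.le_succ_of_le h) =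
        tt (reSys J m hm F) (Nat.le_succ b) ≫ tt (reSys J m hm F) h := (tt_comp _ h (Nat.le_succ b)).symm
    have h2 : tt (reSys J m hm F) (Nat.le_succ b) = reθ J m hm F b := reSys_map_succ J m hm F b
    rw [h1, h2]
    calc reπ J m F (b + 1) ≫ reθ J m hm F b ≫ tt (reSys J m hm F) h
        = (reπ J m F (b + 1) ≫ reθ J m hm F b) ≫ tt (reSys J m hm F) h := (Category.assoc _ _ _).symm
      _ = (tt F (hm (Nat.le_succ b)) ≫ reπ J m F b) ≫ tt (reSys J m hm F) h := by rw [reπ_θ]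
      _ = tt F (hm (Nat.le_succ b)) ≫ reπ J m F b ≫ tt (reSys J m hm F) h := Category.assoc _ _ _
      _ = tt F (hm (Nat.le_succ b)) ≫ tt F (hm h) ≫ reπ J m F a :=
        congrArg (fun t => tt F (hm (Nat.le_succ b)) ≫ t) ih
      _ = (tt F (hm (Nat.le_succ b)) ≫ tt F (hm h)) ≫ reπ J m F a := (Category.assoc _ _ _).symm
      _ = tt F (hm (Nat.le_succ_of_le h)) ≫ reπ J m F a := by rw [tt_comp]

variable {J m} in
theorem reMap_aux {F F' : ℕᵒᵖ ⥤ X.Modules} (φ : F ⟶ F') (n : ℕ) :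
    Formal.smulFamily (J ^ (n + 1)) (F.obj (op (m n))) ≫ φ.app (op (m n)) ≫ reπ J m F' n = 0 := by
  rw [smulFamily_comp_eq_zero_iff]
  intro a ha
  rw [← Category.assoc, smulMod_comp, Category.assoc, (isQuotBy_reπ J m F' n).kill a ha, comp_zero]

/-- the reindexed morphism, termwise -/
noncomputable def reMap {F F' : ℕᵒᵖ ⥤ X.Modules} (φ : F ⟶ F') (n : ℕ) : reObj J m F n ⟶ reObj J m F' n :=
  cokernel.desc _ (φ.app (op (m n)) ≫ reπ J m F' n) (reMap_aux φ n)

theorem reπ_map {F F' : ℕᵒᵖ ⥤ X.Modules} (φ : F ⟶ F') (n : ℕ) :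
    reπ J m F n ≫ reMap J m φ n = φ.app (op (m n)) ≫ reπ J m F' n :=
  cokernel.π_desc _ _ _

/-- the reindexed morphism -/
noncomputable def reHom {F F' : ℕᵒᵖ ⥤ X.Modules} (φ : F ⟶ F') : reSys J m hm F ⟶ reSys J m hm F' :=
  NatTrans.ofOpSequence (F := reSys J m hm F) (G := reSys J m hm F') (reMap J m φ) (by
    intro n
    have h1 : (reSys J m hm F).map (homOfLE (Nat.le_add_right n 1)).op = reθ J m hm F n :=
      reSys_map_succ J m hm F n
    have h2 : (reSys J m hm F').map (homOfLE (Nat.le_add_right n 1)).op = reθ J m hm F' n :=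
      reSys_map_succ J m hm F' n
    rw [h1, h2]
    show (reθ J m hm F n ≫ reMap J m φ n : reObj J m F (n + 1) ⟶ reObj J m F' n) =
      reMap J m φ (n + 1) ≫ reθ J m hm F' n
    rw [← cancel_epi (reπ J m F (n + 1))]
    have hL : reπ J m F (n + 1) ≫ reθ J m hm F n ≫ reMap J m φ n =
        tt F (hm (Nat.le_succ n)) ≫ φ.app (op (m n)) ≫ reπ J m F' n := by
      rw [← Category.assoc, reπ_θ, Category.assoc, reπ_map]
    have hR : reπ J m F (n + 1) ≫ reMap J m φ (n + 1) ≫ reθ J m hm F' n =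
        tt F (hm (Nat.le_succ n)) ≫ φ.app (op (m n)) ≫ reπ J m F' n := by
      rw [← Category.assoc, reπ_map, Category.assoc, reπ_θ, ← Category.assoc, ← tt_naturality,
        Category.assoc]
    rw [hL, hR])

theorem reHom_app {F F' : ℕᵒᵖ ⥤ X.Modules} (φ : F ⟶ F') (n : ℕ) :
    (reHom J m hm φ).app (op n) = reMap J m φ n := rfl

theorem reHom_id (F : ℕᵒᵖ ⥤ X.Modules) : reHom J m hm (𝟙 F) = 𝟙 _ := by
  refine NatTrans.ext (funext fun n => ?_)
  obtain ⟨n⟩ := n
  change reMap J m (𝟙 F) n = 𝟙 _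
  rw [← cancel_epi (reπ J m F n), reπ_map, Category.comp_id]
  exact Category.id_comp _

theorem reHom_comp {F F' F'' : ℕᵒᵖ ⥤ X.Modules} (φ : F ⟶ F') (ψ : F' ⟶ F'') :
    reHom J m hm (φ ≫ ψ) = reHom J m hm φ ≫ reHom J m hm ψ := by
  refine NatTrans.ext (funext fun n => ?_)
  obtain ⟨n⟩ := n
  change reMap J m (φ ≫ ψ) n = reMap J m φ n ≫ reMap J m ψ n
  rw [← cancel_epi (reπ J m F n), reπ_map, ← Category.assoc, reπ_map, Category.assoc, reπ_map,
    ← Category.assoc]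
  rfl

/-- `reπ` with target written as a term of the reindexed system -/
noncomputable def reπS (F : ℕᵒᵖ ⥤ X.Modules) (n : ℕ) : F.obj (op (m n)) ⟶ (reSys J m hm F).obj (op n) :=
  reπ J m F n

theorem isQuotBy_reπS (F : ℕᵒᵖ ⥤ X.Modules) (n : ℕ) : IsQuotBy (J ^ (n + 1)) (reπS J m hm F n) :=
  isQuotBy_reπ J m F n

theorem reπS_tt (F : ℕᵒᵖ ⥤ X.Modules) {a b : ℕ} (h : a ≤ b) :
    reπS J m hm F b ≫ tt (reSys J m hm F) h = tt F (hm h) ≫ reπS J m hm F a :=
  reπ_tt J m hm F h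

theorem reπS_hom {F F' : ℕᵒᵖ ⥤ X.Modules} (φ : F ⟶ F') (n : ℕ) :
    reπS J m hm F n ≫ (reHom J m hm φ).app (op n) = φ.app (op (m n)) ≫ reπS J m hm F' n :=
  reπ_map J m φ n

theorem isCohFormal_reSys (I : Ideal A)
    (hKI : ∀ (n : ℕ) (M : X.Modules), Formal.KilledBy (J ^ (n + 1)) M → Formal.KilledBy (I ^ (m n + 1)) M)
    (F : ℕᵒᵖ ⥤ X.Modules) (hF : Formal.IsCohFormal I F) : Formal.IsCohFormal J (reSys J m hm F) := by
  have hF' := (isCohFormal_iff I F).1 hF
  rw [isCohFormal_iff]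
  refine ⟨fun n => isCoh_modPow J (n + 1) _ (hF'.1 (m n)), fun n => (isQuotBy_reπ J m F n).killedBy,
    fun n => ?_⟩
  rw [reSys_map_succ]
  refine isQuotBy_of_comp (isQuotBy_reπ J m F (n + 1)) (IsQuotBy.of_eq ?_ (reπ_θ J m hm F n).symm)
  exact isQuotBy_comp_of_killImp (hKI n) (isQuotBy_tt I hF (hm (Nat.le_succ n))) (isQuotBy_reπ J m F n)

end re

section comp

variable (I J : Ideal A) (m m' : ℕ → ℕ) (hm : Monotone m) (hm' : Monotone m')
  (hKI' : ∀ (n : ℕ) (M : X.Modules), Formal.KilledBy (I ^ (n + 1)) M → Formal.KilledBy (J ^ (m' n + 1)) M)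
  (hN : ∀ n, n ≤ m (m' n))

/-- the projection from `F` to the doubly reindexed system -/
noncomputable def q (F : ℕᵒᵖ ⥤ X.Modules) (n : ℕ) :
    F.obj (op (m (m' n))) ⟶ reObj I m' (reSys J m hm F) n :=
  reπS J m hm F (m' n) ≫ reπ I m' (reSys J m hm F) n

include hKI' in
theorem isQuotBy_q (F : ℕᵒᵖ ⥤ X.Modules) (n : ℕ) : IsQuotBy (I ^ (n + 1)) (q I J m m' hm F n) :=
  isQuotBy_comp_of_killImp (hKI' n) (isQuotBy_reπS J m hm F (m' n)) (isQuotBy_reπ I m' (reSys J m hm F) n)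

theorem q_θ (F : ℕᵒᵖ ⥤ X.Modules) (n : ℕ) :
    q I J m m' hm F (n + 1) ≫ reθ I m' hm' (reSys J m hm F) n =
      tt F (hm (hm' (Nat.le_succ n))) ≫ q I J m m' hm F n := by
  unfold q
  rw [Category.assoc, reπ_θ, ← Category.assoc, reπS_tt, Category.assoc]

theorem q_map {F F' : ℕᵒᵖ ⥤ X.Modules} (φ : F ⟶ F') (n : ℕ) :
    q I J m m' hm F n ≫ reMap I m' (reHom J m hm φ) n = φ.app (op (m (m' n))) ≫ q I J m m' hm F' n := by
  unfold q
  rw [Category.assoc, reπ_map, ← Category.assoc, reπS_hom, Category.assoc]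

variable {F : ℕᵒᵖ ⥤ X.Modules} (hF : Formal.IsCohFormal I F)

include hKI' hN hF in
theorem exists_e (n : ℕ) : ∃ e : reObj I m' (reSys J m hm F) n ≅ F.obj (op n),
    q I J m m' hm F n ≫ e.hom = tt F (hN n) :=
  (isQuotBy_q I J m m' hm hKI' F n).exists_iso (isQuotBy_tt I hF (hN n))

/-- the comparison isomorphism, termwise -/
noncomputable def e (n : ℕ) : reObj I m' (reSys J m hm F) n ≅ F.obj (op n) :=
  (exists_e I J m m' hm hKI' hN hF n).choose

theorem q_e (n : ℕ) : q I J m m' hm F n ≫ (e I J m m' hm hKI' hN hF n).hom = tt F (hN n) :=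
  (exists_e I J m m' hm hKI' hN hF n).choose_spec

/-- the comparison morphism from the doubly reindexed system -/
noncomputable def reIsoHom : reSys I m' hm' (reSys J m hm F) ⟶ F :=
  NatTrans.ofOpSequence (F := reSys I m' hm' (reSys J m hm F)) (fun n => (e I J m m' hm hKI' hN hF n).hom) (by
    intro n
    have h1 : (reSys I m' hm' (reSys J m hm F)).map (homOfLE (Nat.le_add_right n 1)).op =
        reθ I m' hm' (reSys J m hm F) n := reSys_map_succ I m' hm' _ n
    rw [h1]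
    have := (isQuotBy_q I J m m' hm hKI' F (n + 1)).epi
    show (reθ I m' hm' (reSys J m hm F) n ≫ (e I J m m' hm hKI' hN hF n).hom :
      reObj I m' (reSys J m hm F) (n + 1) ⟶ F.obj (op n)) =
      (e I J m m' hm hKI' hN hF (n + 1)).hom ≫ tt F (Nat.le_succ n)
    rw [← cancel_epi (q I J m m' hm F (n + 1))]
    have hL : q I J m m' hm F (n + 1) ≫ reθ I m' hm' (reSys J m hm F) n ≫
        (e I J m m' hm hKI' hN hF n).hom = tt F (le_trans (hN n) (hm (hm' (Nat.le_succ n)))) := by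
      rw [← Category.assoc, q_θ, Category.assoc, q_e, tt_comp]
    have hR : q I J m m' hm F (n + 1) ≫ (e I J m m' hm hKI' hN hF (n + 1)).hom ≫ tt F (Nat.le_succ n) =
        tt F (le_trans (hN n) (hm (hm' (Nat.le_succ n)))) := by
      rw [← Category.assoc, q_e, tt_comp]
    rw [hL, hR])

theorem reIsoHom_app (n : ℕ) :
    (reIsoHom I J m m' hm hm' hKI' hN hF).app (op n) = (e I J m m' hm hKI' hN hF n).hom := rfl

theorem isIso_reIsoHom : IsIso (reIsoHom I J m m' hm hm' hKI' hN hF) := by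
  haveI : ∀ k : ℕᵒᵖ, IsIso ((reIsoHom I J m m' hm hm' hKI' hN hF).app k) := by
    intro k
    obtain ⟨n⟩ := k
    rw [reIsoHom_app]
    infer_instance
  exact NatIso.isIso_of_isIso_app _

theorem reIsoHom_naturality {F' : ℕᵒᵖ ⥤ X.Modules} (hF' : Formal.IsCohFormal I F') (φ : F ⟶ F') :
    reHom I m' hm' (reHom J m hm φ) ≫ reIsoHom I J m m' hm hm' hKI' hN hF' =
      reIsoHom I J m m' hm hm' hKI' hN hF ≫ φ := by
  refine NatTrans.ext (funext fun k => ?_)
  obtain ⟨n⟩ := k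
  have := (isQuotBy_q I J m m' hm hKI' F n).epi
  show (reMap I m' (reHom J m hm φ) n ≫ (e I J m m' hm hKI' hN hF' n).hom :
      reObj I m' (reSys J m hm F) n ⟶ F'.obj (op n)) =
    (e I J m m' hm hKI' hN hF n).hom ≫ φ.app (op n)
  rw [← cancel_epi (q I J m m' hm F n), ← Category.assoc, q_map, Category.assoc, q_e, ← Category.assoc, q_e,
    tt_naturality]

end comp

end Groth.Agent.Lib.T2H9.EqZ2
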