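import Mathlib
import Groth.Agent.Lib.T2H9EqZ2

/-!
Equivalence of the categories of coherent formal modules for two ideals with the same zero locus on a Noetherian scheme (S9528): reFunctor, compIso, main.
-/

set_option autoImplicit false
set_option linter.style.haveILetI false
set_option linter.unusedSectionVars false
set_option linter.unusedVariables false
universe u
open CategoryTheory CategoryTheory.Limits Opposite AlgebraicGeometry TopologicalSpace

namespace Groth.Agent.Lib.T2H9.EqZ3

open Groth.Agent.Lib.T2H2.AlgzB Groth.Agent.Lib.T2H9.GE3 Groth.Agent.Lib.T2H9.EqZ1 Groth.Agent.Lib.T2H9.EqZ2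

variable {A : Type u} [CommRing A] {X : Scheme.{u}} [X.Over (Spec (CommRingCat.of A))]

section functor

variable (I J : Ideal A) (m : ℕ → ℕ) (hm : Monotone m)
  (hKI : ∀ (n : ℕ) (M : X.Modules), Formal.KilledBy (J ^ (n + 1)) M → Formal.KilledBy (I ^ (m n + 1)) M)

/-- the reindexing functor between categories of coherent formal modules -/
noncomputable def reFunctor : Formal2.CohFormalCat I X ⥤ Formal2.CohFormalCat J X where
  obj F := ⟨reSys J m hm F.obj, isCohFormal_reSys J m hm I hKI F.obj F.property⟩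
  map φ := ObjectProperty.homMk (reHom J m hm φ.hom)
  map_id F := by
    apply ObjectProperty.hom_ext
    exact reHom_id J m hm F.obj
  map_comp φ ψ := by
    apply ObjectProperty.hom_ext
    exact reHom_comp J m hm φ.hom ψ.hom

end functor

section iso

variable (I J : Ideal A) (m m' : ℕ → ℕ) (hm : Monotone m) (hm' : Monotone m')
  (hKI : ∀ (n : ℕ) (M : X.Modules), Formal.KilledBy (J ^ (n + 1)) M → Formal.KilledBy (I ^ (m n + 1)) M)
  (hKI' : ∀ (n : ℕ) (M : X.Modules), Formal.KilledBy (I ^ (n + 1)) M → Formal.KilledBy (J ^ (m' n + 1)) M)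
  (hN : ∀ n, n ≤ m (m' n))

/-- reindexing there and back is isomorphic to the identity -/
noncomputable def compIso :
    reFunctor I J m hm hKI ⋙ reFunctor J I m' hm' hKI' ≅ 𝟭 (Formal2.CohFormalCat I X) :=
  NatIso.ofComponents
    (fun F => ObjectProperty.isoMk _
      (@asIso _ _ _ _ (reIsoHom I J m m' hm hm' hKI' hN F.property)
        (isIso_reIsoHom I J m m' hm hm' hKI' hN F.property)))
    (by
      intro F F' φ
      apply ObjectProperty.hom_ext
      exact reIsoHom_naturality I J m m' hm hm' hKI' hN F.property F'.property φ.hom)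

end iso

section main

theorem killedBy_of_le {L L' : Ideal A} (h : L' ≤ L) (M : X.Modules) (hM : Formal.KilledBy L M) :
    Formal.KilledBy L' M := fun a ha => hM a (h ha)

theorem main (I J : Ideal A) [IsNoetherian X]
    (hV : (fun x : X => (X ↘ Spec (CommRingCat.of A)) x) ⁻¹' PrimeSpectrum.zeroLocus (I : Set A) =
      (fun x : X => (X ↘ Spec (CommRingCat.of A)) x) ⁻¹' PrimeSpectrum.zeroLocus (J : Set A)) :
    Nonempty (Formal2.CohFormalCat I X ≌ Formal2.CohFormalCat J X) := by
  obtain ⟨a, ha, hIJ⟩ := exists_killedBy_pow X I J hV.subset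
  obtain ⟨b, hb, hJI⟩ := exists_killedBy_pow X J I hV.symm.subset
  -- `m` reindexes from `I` to `J`, `m'` from `J` to `I`
  let m : ℕ → ℕ := fun n => b * (n + 1)
  let m' : ℕ → ℕ := fun n => a * (n + 1)
  have hm : Monotone m := fun x y h => Nat.mul_le_mul_left b (Nat.succ_le_succ h)
  have hm' : Monotone m' := fun x y h => Nat.mul_le_mul_left a (Nat.succ_le_succ h)
  have hKI : ∀ (n : ℕ) (M : X.Modules), Formal.KilledBy (J ^ (n + 1)) M →
      Formal.KilledBy (I ^ (m n + 1)) M := fun n M hM =>
    killedBy_of_le (Ideal.pow_le_pow_right (Nat.le_succ _)) M (hJI (n + 1) M hM)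
  have hKI' : ∀ (n : ℕ) (M : X.Modules), Formal.KilledBy (I ^ (n + 1)) M →
      Formal.KilledBy (J ^ (m' n + 1)) M := fun n M hM =>
    killedBy_of_le (Ideal.pow_le_pow_right (Nat.le_succ _)) M (hIJ (n + 1) M hM)
  have hN : ∀ n, n ≤ m (m' n) := by
    intro n
    change n ≤ b * (a * (n + 1) + 1)
    have h1 : n + 1 ≤ a * (n + 1) := Nat.le_mul_of_pos_left _ ha
    have h2 : a * (n + 1) + 1 ≤ b * (a * (n + 1) + 1) := Nat.le_mul_of_pos_left _ hb
    omega
  have hN' : ∀ n, n ≤ m' (m n) := by
    intro n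
    change n ≤ a * (b * (n + 1) + 1)
    have h1 : n + 1 ≤ b * (n + 1) := Nat.le_mul_of_pos_left _ hb
    have h2 : b * (n + 1) + 1 ≤ a * (b * (n + 1) + 1) := Nat.le_mul_of_pos_left _ ha
    omega
  exact ⟨CategoryTheory.Equivalence.mk (reFunctor I J m hm hKI) (reFunctor J I m' hm' hKI')
    (compIso I J m m' hm hm' hKI hKI' hN).symm (compIso J I m' m hm' hm hKI' hKI hN')⟩

end main

end Groth.Agent.Lib.T2H9.EqZ3
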