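import Mathlib

set_option autoImplicit false
set_option linter.style.haveILetI false
universe u

namespace Groth.Agent.Lib.T2H9.EtChart
open MvPolynomial KaehlerDifferential TensorProduct

section general

variable (k P C : Type u) [CommRing k] [CommRing P] [CommRing C] [Algebra k P] [Algebra k C]
  [Algebra P C] [IsScalarTower k P C]

/-- Jacobi-Zariski: if `C` is formally smooth over `k` and `C ⊗ Ω[P/k] → Ω[C/k]` is bijective
then `C` is formally etale over `P`. -/
theorem formallyEtale_of_mapBaseChange_bijective [Algebra.FormallySmooth k C]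
    (h : Function.Bijective (mapBaseChange k P C)) : Algebra.FormallyEtale P C := by
  constructor
  · constructor
    intro a b
    obtain ⟨a', rfl⟩ := KaehlerDifferential.map_surjective k P C a
    obtain ⟨b', rfl⟩ := KaehlerDifferential.map_surjective k P C b
    obtain ⟨a'', rfl⟩ := h.2 a'
    obtain ⟨b'', rfl⟩ := h.2 b'
    rw [(exact_mapBaseChange_map k P C _).mpr ⟨a'', rfl⟩,
      (exact_mapBaseChange_map k P C _).mpr ⟨b'', rfl⟩]
  · constructor
    have key : ∀ x : Algebra.H1Cotangent P C, x = 0 := by
      intro x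
      have h1 : Algebra.H1Cotangent.δ k P C x = 0 := by
        apply h.1
        rw [map_zero]
        exact (Algebra.H1Cotangent.exact_δ_mapBaseChange k P C _).mpr ⟨x, rfl⟩
      obtain ⟨z, rfl⟩ := (Algebra.H1Cotangent.exact_map_δ k P C x).mp h1
      rw [Subsingleton.elim z 0, map_zero]
    intro a b
    rw [key a, key b]

end general

section poly

variable {k C : Type u} [CommRing k] [CommRing C] [Algebra k C] {n : ℕ}

/-- the differential map attached to a tuple -/
noncomputable def dMap (k : Type u) [CommRing k] [Algebra k C] (y : Fin n → C) :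
    (Fin n → C) →ₗ[C] Ω[C⁄k] :=
  Fintype.linearCombination C (fun i => D k C (y i))

theorem dMap_single (y : Fin n → C) (i : Fin n) :
    dMap k y (Pi.single i 1) = D k C (y i) := by
  classical
  simp [dMap, Fintype.linearCombination_apply, Pi.single_apply]

variable [Algebra (MvPolynomial (Fin n) k) C] [IsScalarTower k (MvPolynomial (Fin n) k) C]

theorem mapBaseChange_comp_equivFun :
    (mapBaseChange k (MvPolynomial (Fin n) k) C) ∘ₗ
      (((mvPolynomialBasis k (Fin n)).baseChange C).equivFun.symm : (Fin n → C) →ₗ[C] _) =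
    dMap k (fun i => algebraMap (MvPolynomial (Fin n) k) C (X i)) := by
  classical
  apply LinearMap.pi_ext'
  intro i
  ext
  simp only [LinearMap.coe_comp, LinearMap.coe_single, Function.comp_apply, LinearEquiv.coe_coe]
  rw [dMap_single, Module.Basis.equivFun_symm_apply]
  simp [Pi.single_apply]

theorem mapBaseChange_bijective_iff :
    Function.Bijective (mapBaseChange k (MvPolynomial (Fin n) k) C) ↔
      Function.Bijective (dMap k (fun i => algebraMap (MvPolynomial (Fin n) k) C (X i))) := by
  rw [← mapBaseChange_comp_equivFun]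
  rw [LinearMap.coe_comp]
  exact (Function.Bijective.of_comp_iff _ (LinearEquiv.bijective _)).symm

theorem formallyEtale_of_dMap_bijective [Algebra.FormallySmooth k C]
    (h : Function.Bijective (dMap k (fun i => algebraMap (MvPolynomial (Fin n) k) C (X i)))) :
    Algebra.FormallyEtale (MvPolynomial (Fin n) k) C :=
  formallyEtale_of_mapBaseChange_bijective k _ C (mapBaseChange_bijective_iff.mpr h)

end poly

section localpart

variable (k : Type u) {R : Type u} [CommRing k] [CommRing R] [Algebra k R] (m : Ideal R)
  [m.IsMaximal]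

/-- the class of `d r` in the fibre of the differentials at `m` -/
noncomputable def omega0 (r : R) :
    m.ResidueField ⊗[Localization.AtPrime m] Ω[Localization.AtPrime m⁄k] :=
  (1 : m.ResidueField) ⊗ₜ[Localization.AtPrime m]
    D k (Localization.AtPrime m) (algebraMap R (Localization.AtPrime m) r)

theorem omega0_add (r s : R) : omega0 k m (r + s) = omega0 k m r + omega0 k m s := by
  simp [omega0, tmul_add]

theorem omega0_sub (r s : R) : omega0 k m (r - s) = omega0 k m r - omega0 k m s := by
  simp [omega0, tmul_sub]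

theorem omega0_pow {N : ℕ} (hN : (N : R) ∈ m) (r : R) : omega0 k m (r ^ N) = 0 := by
  have h0 : ((N : ℕ) : m.ResidueField) = 0 := by
    have := (Ideal.algebraMap_residueField_eq_zero (I := m) (x := (N : R))).mpr hN
    simpa using this
  rw [omega0, map_pow, Derivation.leibniz_pow, tmul_smul (R := Localization.AtPrime m),
    ← Nat.cast_smul_eq_nsmul m.ResidueField, h0, zero_smul]

theorem span_range_omega0 :
    Submodule.span m.ResidueField (Set.range (omega0 k m)) = ⊤ := by
  have h1 := span_range_map_derivation_of_isLocalization k R (Localization.AtPrime m) m.primeCompl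
  have h2 := Submodule.baseChange_span (R := Localization.AtPrime m) m.ResidueField
    (Set.range (⇑(KaehlerDifferential.map k k R (Localization.AtPrime m)) ∘ ⇑(D k R)))
  rw [h1, Submodule.baseChange_top] at h2
  rw [h2]
  congr 1
  ext x
  simp [omega0]

theorem span_image_omega0 {N : ℕ} (hN : (N : R) ∈ m) (hpow : ∀ r : R, r - r ^ N ∈ m) :
    Submodule.span m.ResidueField (omega0 k m '' (m : Set R)) = ⊤ := by
  rw [eq_top_iff, ← span_range_omega0 k m, Submodule.span_le]
  rintro _ ⟨r, rfl⟩
  have : omega0 k m r = omega0 k m (r - r ^ N) := by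
    rw [omega0_sub, omega0_pow k m hN, sub_zero]
  rw [this]
  exact Submodule.subset_span ⟨_, hpow r, rfl⟩

theorem exists_basis_omega0
    [Module.Finite (Localization.AtPrime m) Ω[Localization.AtPrime m⁄k]]
    {N : ℕ} (hN : (N : R) ∈ m) (hpow : ∀ r : R, r - r ^ N ∈ m) (d : ℕ)
    (hd : Module.finrank m.ResidueField
      (m.ResidueField ⊗[Localization.AtPrime m] Ω[Localization.AtPrime m⁄k]) = d) :
    ∃ f : Fin d → R, (∀ i, f i ∈ m) ∧
      LinearIndependent m.ResidueField (fun i => omega0 k m (f i)) ∧
      Submodule.span m.ResidueField (Set.range (fun i => omega0 k m (f i))) = ⊤ := by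
  obtain ⟨κ, a, -, hsp, hli⟩ :=
    exists_linearIndependent' m.ResidueField (fun f : m => omega0 k m f.1)
  have hr : Set.range (fun f : m => omega0 k m f.1) = omega0 k m '' (m : Set R) := by
    ext x
    simp
  rw [hr, span_image_omega0 k m hN hpow] at hsp
  let b : Module.Basis κ m.ResidueField
      (m.ResidueField ⊗[Localization.AtPrime m] Ω[Localization.AtPrime m⁄k]) :=
    Module.Basis.mk hli hsp.ge
  haveI : Finite κ := Module.Finite.finite_basis b
  have hc : Nat.card κ = d := by rw [← hd, Module.finrank_eq_nat_card_basis b]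
  let e : κ ≃ Fin d := Finite.equivFinOfCardEq hc
  refine ⟨fun i => (a (e.symm i)).1, fun i => (a (e.symm i)).2, ?_, ?_⟩
  · exact hli.comp e.symm e.symm.injective
  · rw [← hsp]
    congr 1
    ext x
    constructor
    · rintro ⟨i, rfl⟩
      exact ⟨e.symm i, rfl⟩
    · rintro ⟨j, rfl⟩
      exact ⟨e j, by simp⟩

theorem dMap_bijective_of_basis [Algebra.FormallySmooth k (Localization.AtPrime m)]
    [Module.Finite (Localization.AtPrime m) Ω[Localization.AtPrime m⁄k]]
    {d : ℕ} (F : Fin d → R)
    (hli : LinearIndependent m.ResidueField (fun i => omega0 k m (F i)))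
    (hsp : Submodule.span m.ResidueField (Set.range (fun i => omega0 k m (F i))) = ⊤) :
    Function.Bijective (dMap k (fun i => algebraMap R (Localization.AtPrime m) (F i))) := by
  have h1 : Function.Bijective (Finsupp.linearCombination (Localization.AtPrime m)
      (fun i => D k (Localization.AtPrime m) (algebraMap R (Localization.AtPrime m) (F i)))) := by
    apply Module.IsLocalRing.linearCombination_bijective_of_flat
    refine ⟨hli, ?_⟩
    rw [← LinearMap.range_eq_top, Finsupp.range_linearCombination]
    exact hsp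
  rw [dMap, ← Finsupp.linearCombination_eq_fintype_linearCombination, LinearMap.coe_comp]
  exact h1.comp (LinearEquiv.bijective _)

theorem finrank_fibre_eq :
    Module.finrank m.ResidueField
      (m.ResidueField ⊗[Localization.AtPrime m] Ω[Localization.AtPrime m⁄k]) =
    Module.finrank (R ⧸ m) ((R ⧸ m) ⊗[R] Ω[R⁄k]) := by
  haveI : Algebra.FormallyEtale R (Localization.AtPrime m) :=
    Algebra.FormallyEtale.of_isLocalization m.primeCompl
  let e1 : (Localization.AtPrime m) ⊗[R] Ω[R⁄k] ≃ₗ[Localization.AtPrime m]
      Ω[Localization.AtPrime m⁄k] :=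
    tensorKaehlerEquivOfFormallyEtale k R (Localization.AtPrime m)
  let e2 : m.ResidueField ⊗[Localization.AtPrime m] ((Localization.AtPrime m) ⊗[R] Ω[R⁄k])
      ≃ₗ[m.ResidueField] m.ResidueField ⊗[Localization.AtPrime m] Ω[Localization.AtPrime m⁄k] :=
    TensorProduct.AlgebraTensorModule.congr (LinearEquiv.refl _ _) e1
  let e3 : m.ResidueField ⊗[Localization.AtPrime m] ((Localization.AtPrime m) ⊗[R] Ω[R⁄k])
      ≃ₗ[m.ResidueField] m.ResidueField ⊗[R] Ω[R⁄k] :=
    TensorProduct.AlgebraTensorModule.cancelBaseChange R (Localization.AtPrime m) m.ResidueField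
      m.ResidueField Ω[R⁄k]
  let e4 : m.ResidueField ⊗[R ⧸ m] ((R ⧸ m) ⊗[R] Ω[R⁄k])
      ≃ₗ[m.ResidueField] m.ResidueField ⊗[R] Ω[R⁄k] :=
    TensorProduct.AlgebraTensorModule.cancelBaseChange R (R ⧸ m) m.ResidueField
      m.ResidueField Ω[R⁄k]
  haveI : Module.Free (R ⧸ m) ((R ⧸ m) ⊗[R] Ω[R⁄k]) := by
    letI := Ideal.Quotient.field m
    exact Module.Free.of_divisionRing _ _
  rw [← e2.finrank_eq, e3.finrank_eq, ← e4.finrank_eq, Module.finrank_baseChange]

end localpart

end Groth.Agent.Lib.T2H9.EtChart
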