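import Groth.Agent.Lib.T2H9CoreBC
import Groth.Agent.Lib.T2H9FibRank
import Groth.Agent.Lib.T2H9FibRankBC
import Groth.Agent.Lib.Helper3FlatCxBT
import Groth.Agent.Lib.Helper3FlatCxRank
import Groth.Agent.S2381
import Groth.Agent.S2406
import Groth.Agent.S2410

/-!
# T2H9Grauert (helper9): cohomological flatness and the fibre rank over an affine Noetherian base

For `X` proper over a Noetherian ring `A`, `F` coherent and flat over `A`, `T^p(M) = H^p(X, f^*(M~) ⊗ F)`:
* `fiberRank_locallyConstant_of_exact`: `T^p` exact ⇒ `y ↦ dim H^p(X_y, F_y)` locally constant;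
* `exact_of_fiberRank_locallyConstant`: the converse for reduced `A`;
* `flat_finite_fd_of_exact`: `T^p` exact ⇒ `H^p(X, F)` finite flat with fibre dimensions the fibre ranks;
* `nonempty_linearEquiv_of_fiberRank_locallyConstant`: Grauert's theorem over a reduced local ring.
-/

set_option autoImplicit false
set_option linter.style.haveILetI false
set_option linter.unusedSectionVars false
set_option linter.unusedVariables false
universe u
open CategoryTheory AlgebraicGeometry Opposite TopologicalSpace Limits TensorProduct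

namespace Groth.Agent.Lib.T2H9.Grauert

open Groth.Agent.Lib.T2H9.TFunGeo Groth.Agent.Lib.Helper3 Groth.Agent.S2380

variable (A : Type u) [CommRing A] [IsNoetherianRing A] (X : Scheme.{u})
  [X.Over (Spec (CommRingCat.of A))] [IsProper (X ↘ Spec (CommRingCat.of A))] (F : X.Modules)
  (hF : Coh.IsCoh F) (hfl : FlatMod.IsFlatOver (X ↘ Spec (CommRingCat.of A)) F) (p : ℕ)

include hF hfl in
/-- cohomological flatness in degree `p` makes the fibre rank locally constant -/
theorem fiberRank_locallyConstant_of_exact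
    (hm : (CohIII.tensorAFunctor A F ⋙ CohIII.HAb X p).PreservesMonomorphisms)
    (he : (CohIII.tensorAFunctor A F ⋙ CohIII.HAb X p).PreservesEpimorphisms) :
    IsLocallyConstant (CohIII.fiberRank (X ↘ Spec (CommRingCat.of A)) F p) := by
  obtain ⟨P, h1, h2, h3, h4⟩ :=
    Groth.Agent.Lib.T2H9.CoreBC.exists_chain_bridge_bc A X F hF hfl
  have hP : ∀ i, Module.Finite A (P.X i) ∧ Module.Flat A (P.X i) := fun i =>
    ⟨(h1 i).1, haveI := (h1 i).2; inferInstance⟩
  have hfr : CohIII.fiberRank (X ↘ Spec (CommRingCat.of A)) F p = CohIII.dRank P (-(p : ℤ)) := by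
    funext y
    exact Groth.Agent.Lib.T2H9.FibRank.fiberRank_eq_dRank A F P p
      (fun A' _ _ X' _ g' hsq => h4 A' X' g' hsq p) y
  obtain ⟨e⟩ := h3 p
  rw [hfr]
  exact (Groth.Agent.S2381.result P hP (-(p : ℤ))).1
    ⟨(Groth.Agent.Lib.T2H9.Bridge.preservesMono_iff e).1 hm,
      (Groth.Agent.Lib.T2H9.Bridge.preservesEpi_iff e).1 he⟩

include hF hfl in
/-- over a reduced base, a locally constant fibre rank gives cohomological flatness in degree `p` -/
theorem exact_of_fiberRank_locallyConstant [IsReduced A]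
    (hconst : IsLocallyConstant (CohIII.fiberRank (X ↘ Spec (CommRingCat.of A)) F p)) :
    (CohIII.tensorAFunctor A F ⋙ CohIII.HAb X p).PreservesMonomorphisms ∧
      (CohIII.tensorAFunctor A F ⋙ CohIII.HAb X p).PreservesEpimorphisms := by
  obtain ⟨P, h1, h2, h3, h4⟩ :=
    Groth.Agent.Lib.T2H9.CoreBC.exists_chain_bridge_bc A X F hF hfl
  have hP : ∀ i, Module.Finite A (P.X i) ∧ Module.Flat A (P.X i) := fun i =>
    ⟨(h1 i).1, haveI := (h1 i).2; inferInstance⟩
  have hfr : CohIII.fiberRank (X ↘ Spec (CommRingCat.of A)) F p = CohIII.dRank P (-(p : ℤ)) := by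
    funext y
    exact Groth.Agent.Lib.T2H9.FibRank.fiberRank_eq_dRank A F P p
      (fun A' _ _ X' _ g' hsq => h4 A' X' g' hsq p) y
  have hlc : IsLocallyConstant (CohIII.dRank P (-(p : ℤ))) := hfr ▸ hconst
  obtain ⟨hm, he⟩ := (Groth.Agent.S2381.result P hP (-(p : ℤ))).2 inferInstance hlc
  obtain ⟨e⟩ := h3 p
  exact ⟨(Groth.Agent.Lib.T2H9.Bridge.preservesMono_iff e).2 hm,
    (Groth.Agent.Lib.T2H9.Bridge.preservesEpi_iff e).2 he⟩

include hF hfl in
/-- cohomological flatness in degree `p`: `H^p(X, F)` is finite flat, and its fibre dimensions are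
the fibre ranks -/
theorem flat_finite_fd_of_exact
    (hm : (CohIII.tensorAFunctor A F ⋙ CohIII.HAb X p).PreservesMonomorphisms)
    (he : (CohIII.tensorAFunctor A F ⋙ CohIII.HAb X p).PreservesEpimorphisms) :
    Module.Flat A (Coh.HH X F p) ∧ Module.Finite A (Coh.HH X F p) ∧
      ∀ y : PrimeSpectrum A, fd (Coh.HH X F p) y =
        CohIII.fiberRank (X ↘ Spec (CommRingCat.of A)) F p y := by
  obtain ⟨P, h1, h2, h3, h4⟩ :=
    Groth.Agent.Lib.T2H9.CoreBC.exists_chain_bridge_bc A X F hF hfl
  have hP : ∀ i, Module.Finite A (P.X i) ∧ Module.Flat A (P.X i) := fun i =>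
    ⟨(h1 i).1, haveI := (h1 i).2; inferInstance⟩
  have hflat : ∀ i, Module.Flat A (P.X i) := fun i => (hP i).2
  have hfr : ∀ y, CohIII.fiberRank (X ↘ Spec (CommRingCat.of A)) F p y =
      CohIII.dRank P (-(p : ℤ)) y := fun y =>
    Groth.Agent.Lib.T2H9.FibRank.fiberRank_eq_dRank A F P p
      (fun A' _ _ X' _ g' hsq => h4 A' X' g' hsq p) y
  obtain ⟨e⟩ := h3 p
  have hm' := (Groth.Agent.Lib.T2H9.Bridge.preservesMono_iff e).1 hm
  have he' := (Groth.Agent.Lib.T2H9.Bridge.preservesEpi_iff e).1 he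
  set j : ℤ := -(p : ℤ) with hj
  have hrel : (ComplexShape.down ℤ).Rel j (j - 1) := by
    show j - 1 + 1 = j
    ring
  haveI := (hP j).1
  haveI := hflat (j - 1)
  haveI hWq : Module.Flat A (P.opcycles (j - 1)) :=
    (Groth.Agent.S2410.preservesEpi_iff_flat_opcycles P hflat j (j - 1) (by ring)).mp he'
  have hWp : Module.Flat A (P.opcycles j) := (Groth.Agent.S2375.result P hflat j).mp hm'
  have hH : Module.Flat A (P.homology j) :=
    (flat_opcycles_iff_flat_homology P j (j - 1) hrel).mp hWp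
  have hfin : Module.Finite A (CohIII.T P j (ModuleCat.of A A)) :=
    Groth.Agent.S2410.finite_T_unit P j
  -- the linear equivalence `H_j(P) ≃ H^p(X, F)`
  let l1 := Groth.Agent.Lib.T2H9.LenFormula.bridgeLinearEquiv A F P j p e (ModuleCat.of A A)
  let l2 : Coh.HH X ((CohIII.tensorAFunctor A F).obj (ModuleCat.of A A)) p ≃ₗ[A] Coh.HH X F p :=
    Groth.Agent.Lib.T2H5.HilbPoly.hhEquiv (tensorAFunctorUnitIso A F) p
  let l3 := (TUnitIso P j).toLinearEquiv
  let l : P.homology j ≃ₗ[A] Coh.HH X F p := (l3.symm.trans l1).trans l2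
  refine ⟨Module.Flat.of_linearEquiv l.symm, ?_, fun y => ?_⟩
  · haveI : Module.Finite A (P.homology j) := Module.Finite.equiv l3
    exact Module.Finite.equiv l
  · rw [hfr y, dRank_eq_fd_homology P j y]
    exact (LinearEquiv.finrank_eq (LinearEquiv.baseChange _ _ _ _ l)).symm

include hF hfl in
/-- **Grauert's theorem over a reduced Noetherian local ring**: if the fibre rank is locally constant,
`H^p(X, F)` is free of rank the fibre rank at the closed point -/
theorem nonempty_linearEquiv_of_fiberRank_locallyConstant [IsLocalRing A] [IsReduced A]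
    (hconst : IsLocallyConstant (CohIII.fiberRank (X ↘ Spec (CommRingCat.of A)) F p)) :
    Nonempty (Coh.HH X F p ≃ₗ[A]
      (Fin (CohIII.fiberRank (X ↘ Spec (CommRingCat.of A)) F p (IsLocalRing.closedPoint A)) → A)) := by
  obtain ⟨hm, he⟩ := exact_of_fiberRank_locallyConstant A X F hF hfl p hconst
  obtain ⟨h1, h2, h3⟩ := flat_finite_fd_of_exact A X F hF hfl p hm he
  haveI := h1
  haveI := h2
  haveI : Module.Free A (Coh.HH X F p) := Module.free_of_flat_of_isLocalRing
  have hr : Module.finrank A (Coh.HH X F p) =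
      CohIII.fiberRank (X ↘ Spec (CommRingCat.of A)) F p (IsLocalRing.closedPoint A) := by
    rw [← h3 (IsLocalRing.closedPoint A), fd_of_free]
  exact ⟨(Module.finBasis A (Coh.HH X F p)).equivFun.trans (LinearEquiv.funCongrLeft A A
    (finCongr hr)).symm⟩

end Groth.Agent.Lib.T2H9.Grauert
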