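import Mathlib
import Groth.Prelude.Def_CohPull

set_option autoImplicit false
universe u
open CategoryTheory AlgebraicGeometry Limits TopologicalSpace Opposite

namespace Groth.Agent.Lib.T2H9.FFBasis

variable {X : Scheme.{u}}

theorem isBasis_range_affine :
    Opens.IsBasis (Set.range (Subtype.val : X.affineOpens → X.Opens)) := by
  rw [Subtype.range_coe]
  exact X.isBasis_affineOpens

variable (P Q : Sheaf (Opens.grothendieckTopology X) AddCommGrpCat.{u})

/-- a morphism of abelian sheaves from compatible additive maps over the affine opens -/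
noncomputable def homOfAffine
    (φ : ∀ U : X.affineOpens, P.obj.obj (op U.1) →+ Q.obj.obj (op U.1))
    (hφ : ∀ (U V : X.affineOpens) (h : V.1 ≤ U.1) (x : P.obj.obj (op U.1)),
      Q.obj.map (homOfLE h).op (φ U x) = φ V (P.obj.map (homOfLE h).op x)) : P ⟶ Q :=
  ⟨TopCat.Sheaf.restrictHomEquivHom (B := (Subtype.val : X.affineOpens → X.Opens)) P.obj Q
    isBasis_range_affine
    { app := fun U => AddCommGrpCat.ofHom (φ U.unop)
      naturality := by
        intro U V f
        ext x
        exact (hφ U.unop V.unop (leOfHom f.unop.hom) x).symm }⟩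

theorem homOfAffine_app
    (φ : ∀ U : X.affineOpens, P.obj.obj (op U.1) →+ Q.obj.obj (op U.1))
    (hφ : ∀ (U V : X.affineOpens) (h : V.1 ≤ U.1) (x : P.obj.obj (op U.1)),
      Q.obj.map (homOfLE h).op (φ U x) = φ V (P.obj.map (homOfLE h).op x))
    (U : X.affineOpens) (x : P.obj.obj (op U.1)) :
    (homOfAffine P Q φ hφ).hom.app (op U.1) x = φ U x := by
  have := TopCat.Sheaf.extend_hom_app (B := (Subtype.val : X.affineOpens → X.Opens)) P.obj Q
    isBasis_range_affine
    { app := fun U => AddCommGrpCat.ofHom (φ U.unop)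
      naturality := by
        intro U V f
        ext x
        exact (hφ U.unop V.unop (leOfHom f.unop.hom) x).symm } U
  exact congrArg (fun t : P.obj.obj (op U.1) ⟶ Q.obj.obj (op U.1) => t.hom x) this

variable {P Q}

theorem hom_ext_affine {f g : P ⟶ Q}
    (h : ∀ (U : X.affineOpens) (x : P.obj.obj (op U.1)),
      f.hom.app (op U.1) x = g.hom.app (op U.1) x) : f = g := by
  apply Sheaf.hom_ext
  apply TopCat.Sheaf.hom_ext (B := (Subtype.val : X.affineOpens → X.Opens)) P.obj Q
    isBasis_range_affine
  intro U
  ext x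
  exact h U x

end Groth.Agent.Lib.T2H9.FFBasis
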