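import Groth.Agent.Lib.T2H9FFMain

/-!
# Formal functions under a finiteness hypothesis on the Rees module (helper9)

The results of `T2H9FFMain`, with the properness of `X` replaced by the hypothesis that the cohomology
groups `H^p(X_B, G)` of the Rees module are finite over the Rees algebra `B`
(and, for the statement over a complete base, that `H^p(X, M)` is finite over `A`).
-/

set_option autoImplicit false
set_option linter.style.haveILetI false
set_option linter.unusedSectionVars false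
set_option linter.unusedVariables false
universe u
open CategoryTheory AlgebraicGeometry Limits TopologicalSpace Opposite

namespace Groth.Agent.Lib.T2H9.FFGen

open Groth.Agent.Lib.T2H9.FFGeom Groth.Agent.Lib.T2H5.HHLes Groth.Agent.Lib.T2H5.T2Les
  Groth.Agent.Lib.Helper23.QCohLocal

variable {A : Type u} [CommRing A] (I : Ideal A)
variable {X : Scheme.{u}} [X.Over (Spec (CommRingCat.of A))] (M : X.Modules)

/-- the finiteness hypothesis -/
def FinRees : Prop := ∀ p : ℕ, Module.Finite (RB I) (Coh.HH (XB I X) (GB I X M) p)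

section base

variable [IsNoetherianRing A] [hq : M.IsQuasicoherent]

theorem exists_range_cH_succ_le (hfin : FinRees I M) (p : ℕ) :
    ∃ d : ℕ, ∀ n, d ≤ n →
      LinearMap.range (cH I X M p (n + 1)) ≤
        (I • LinearMap.range (cH I X M p n) : Submodule A (Coh.HH X M p)) := by
  haveI : Module.Finite (reesAlgebra I) (Coh.HH (XB I X) (GB I X M) p) := hfin p
  exact FFRees.exists_range_succ_le I (grData I X M p)

theorem exists_θH_eq_zero (hfin : FinRees I M) (p : ℕ) :
    ∃ c₀ : ℕ, ∀ (m m' : ℕ) (h : m + c₀ ≤ m') (z : Coh.HH X (pwJ X M (I ^ m')) p),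
      cH I X M p m' z = 0 → θH I X M p m m' ((Nat.le_add_right m c₀).trans h) z = 0 := by
  haveI : Module.Finite (reesAlgebra I) (Coh.HH (XB I X) (GB I X M) p) := hfin p
  exact FFRees.exists_trans_eq_zero I (grData I X M p) (trData I X M p)

end base

section main

variable [IsNoetherianRing A] [hq : M.IsQuasicoherent] (p : ℕ)

theorem mem_ker_toHHmodPow_iff (n : ℕ) (x : Coh.HH X M p) :
    x ∈ (Formal.toHHmodPow I M p n).ker ↔ x ∈ LinearMap.range (cH I X M p (n + 1)) := by
  have h := exact₂ (A := A) (SJ X M (I ^ (n + 1))) (SJ_shortExact X M (I ^ (n + 1))) p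
  have h' : ∀ x : Coh.HH X M p, Canon.HHlin A (SJ X M (I ^ (n + 1))).g p x = 0 ↔
      x ∈ LinearMap.range (Canon.HHlin A (SJ X M (I ^ (n + 1))).f p) := by
    intro x
    exact LinearMap.mem_ker.symm.trans (Eq.to_iff (congrArg (fun S => x ∈ S) h))
  exact (h' x)

theorem smul_range_cH_le (n : ℕ) :
    (I • LinearMap.range (cH I X M p n) : Submodule A (Coh.HH X M p)) ≤
      LinearMap.range (cH I X M p (n + 1)) := by
  rw [Submodule.smul_le]
  rintro a ha _ ⟨x, rfl⟩
  have ha' : a ∈ I ^ 1 := by rwa [pow_one]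
  exact ⟨μH I X M p n 1 a ha' x, (grData I X M p).cμ n 1 a ha' x⟩

theorem range_cH_le_pow (d : ℕ)
    (hd : ∀ n, d ≤ n → LinearMap.range (cH I X M p (n + 1)) ≤
        (I • LinearMap.range (cH I X M p n) : Submodule A (Coh.HH X M p))) (j : ℕ) :
    LinearMap.range (cH I X M p (d + j)) ≤ (I ^ j • ⊤ : Submodule A (Coh.HH X M p)) := by
  induction j with
  | zero =>
    rw [pow_zero, Ideal.one_eq_top, Submodule.top_smul]
    exact le_top
  | succ j ih =>
    refine (hd (d + j) (Nat.le_add_right d j)).trans ?_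
    rw [pow_succ', Submodule.mul_smul]
    exact Submodule.smul_mono le_rfl ih

/-- the lifting statement behind the Mittag-Leffler property -/
theorem exists_lift_of_le (hfin : FinRees I M) :
    ∃ c₀ : ℕ, ∀ (m m' : ℕ) (h : m + c₀ ≤ m') (y : Coh.HH X (Formal.modPow I m' M) p),
      ∃ x : Coh.HH X M p,
        Sheaf.H.map ((SheafOfModules.toSheaf X.ringCatSheaf).map (Formal.modPowπ I m M)) p x =
          Sheaf.H.map ((SheafOfModules.toSheaf X.ringCatSheaf).map
            (FFMain.modPowLE I M ((Nat.le_add_right m c₀).trans h))) p y := by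
  obtain ⟨c₀, hc₀⟩ := exists_θH_eq_zero I M hfin (p + 1)
  refine ⟨c₀, fun m m' h y => ?_⟩
  have hmm : m ≤ m' := (Nat.le_add_right m c₀).trans h
  let φ : SJ X M (I ^ m') ⟶ SJ X M (I ^ m) :=
    { τ₁ := θmod I X M m m' hmm
      τ₂ := 𝟙 M
      τ₃ := FFMain.modPowLE I M hmm
      comm₁₂ := by
        change θmod I X M m m' hmm ≫ pwJι X M (I ^ m) = pwJι X M (I ^ m') ≫ 𝟙 M
        rw [θmod_ι, Category.comp_id]
      comm₂₃ := by
        change 𝟙 M ≫ Formal.modPowπ I m M = Formal.modPowπ I m' M ≫ FFMain.modPowLE I M hmm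
        rw [FFMain.modPowπ_LE, Category.id_comp] }
  set z := δLin (A := A) (SJ X M (I ^ m')) (SJ_shortExact X M (I ^ m')) p y with hz
  have hz0 : cH I X M (p + 1) m' z = 0 := by
    have : z ∈ LinearMap.ker (Canon.HHlin A (SJ X M (I ^ m')).f (p + 1)) := by
      rw [exact₁ (A := A) (SJ X M (I ^ m')) (SJ_shortExact X M (I ^ m')) p]
      exact ⟨y, rfl⟩
    exact this
  have h1 := hc₀ m m' h z hz0
  have h2 := FFMain.δLin_naturality (A := A) (SJ_shortExact X M (I ^ m')) (SJ_shortExact X M (I ^ m)) φ p y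
  have h3 : Canon.HHlin A φ.τ₃ p y ∈
      LinearMap.ker (δLin (A := A) (SJ X M (I ^ m)) (SJ_shortExact X M (I ^ m)) p) := by
    rw [LinearMap.mem_ker, h2]
    exact h1
  rw [exact₃ (A := A) (SJ X M (I ^ m)) (SJ_shortExact X M (I ^ m)) p] at h3
  obtain ⟨x, hx⟩ := h3
  exact ⟨x, hx⟩

end main

section results

variable [IsNoetherianRing A] [hq : M.IsQuasicoherent]

/-- S4461: the kernel filtration is `I`-good -/
theorem kernel_filtration_good (hfin : FinRees I M) (p : ℕ) :
    ∃ k₀ : ℕ, ∀ k : ℕ, k₀ ≤ k →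
      ((Formal.toHHmodPow I M p (k + 1)).ker : Set (Coh.HH X M p)) =
        ((I • Submodule.span A ((Formal.toHHmodPow I M p k).ker : Set (Coh.HH X M p)) :
          Submodule A (Coh.HH X M p)) : Set (Coh.HH X M p)) := by
  obtain ⟨d, hd⟩ := exists_range_cH_succ_le I M hfin p
  refine ⟨d, fun k hk => ?_⟩
  have e1 : ((Formal.toHHmodPow I M p k).ker : Set (Coh.HH X M p)) =
      (LinearMap.range (cH I X M p (k + 1)) : Set (Coh.HH X M p)) := by
    ext x
    exact mem_ker_toHHmodPow_iff I M p k x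
  have e2 : ((Formal.toHHmodPow I M p (k + 1)).ker : Set (Coh.HH X M p)) =
      (LinearMap.range (cH I X M p (k + 1 + 1)) : Set (Coh.HH X M p)) := by
    ext x
    exact mem_ker_toHHmodPow_iff I M p (k + 1) x
  rw [e1, e2, Submodule.span_eq]
  congr 1
  exact le_antisymm (hd (k + 1) (hk.trans (Nat.le_succ k))) (smul_range_cH_le I M p (k + 1))

/-- S0057: the kernels are adically small -/
theorem kernels_adically_small (hfin : FinRees I M) (p : ℕ) :
    ∃ c : ℕ, ∀ n : ℕ, c ≤ n →
      ((Formal.toHHmodPow I M p n).ker : Set (Coh.HH X M p)) ⊆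
        ((I ^ (n - c) • (⊤ : Submodule A (Coh.HH X M p)) : Submodule A (Coh.HH X M p)) :
          Set (Coh.HH X M p)) := by
  obtain ⟨d, hd⟩ := exists_range_cH_succ_le I M hfin p
  refine ⟨d, fun n hn x hx => ?_⟩
  have hx' := (mem_ker_toHHmodPow_iff I M p n x).1 hx
  obtain ⟨j, rfl⟩ := Nat.exists_eq_add_of_le hn
  have h1 := range_cH_le_pow I M p d hd (j + 1) hx'
  have e : d + j - d = j := by omega
  rw [e]
  exact Submodule.smul_mono (Ideal.pow_le_pow_right (Nat.le_succ j)) le_rfl h1

/-- S0058: the Mittag-Leffler property -/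
theorem mittag_leffler (hfin : FinRees I M) (p : ℕ) :
    ∃ c : ℕ, ∀ (n k : ℕ) (h : n ≤ k), n + c ≤ k →
      Set.range (Sheaf.H.map ((SheafOfModules.toSheaf X.ringCatSheaf).map
        ((Formal.completion I M).map (homOfLE h).op)) p) =
        Set.range (Formal.toHHmodPow I M p n) := by
  obtain ⟨c₀, hc₀⟩ := exists_lift_of_le I M p hfin
  refine ⟨c₀, fun n k h hnk => ?_⟩
  apply Set.Subset.antisymm
  · rintro _ ⟨y, rfl⟩
    obtain ⟨x, hx⟩ := hc₀ (n + 1) (k + 1) (by omega) y
    refine ⟨x, hx.trans ?_⟩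
    exact (HHmap_congr X (FFMain.cmap_eq I M h) p y).symm
  · rintro _ ⟨x, rfl⟩
    refine ⟨Formal.toHHmodPow I M p k x, ?_⟩
    refine (Formal.HHmap_comp (Formal.modPowπ I (k + 1) M) (FFMain.cmap I M h) p x).trans ?_
    exact HHmap_congr X (FFMain.modPowπ_cmap I M h) p x

end results

section limit

variable [IsNoetherianRing A] [hq : M.IsQuasicoherent]

theorem ar_qL (hfin : FinRees I M) (p : ℕ) :
    ∃ c, ∀ n, c ≤ n → ∀ x, FFMain.qL I M p n x = 0 →
      x ∈ (I ^ (n - c) • ⊤ : Submodule A (Coh.HH X M p)) := by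
  obtain ⟨c, hc⟩ := kernels_adically_small I M hfin p
  exact ⟨c, fun n hn x hx => hc n hn ((AddMonoidHom.mem_ker).2 hx)⟩

theorem hsurj_qL (hfin : FinRees I M) (p : ℕ) :
    ∀ y ∈ Formal.HHlim I M p, ∀ n, ∃ x, FFMain.qL I M p n x = y n := by
  obtain ⟨c, hc⟩ := mittag_leffler I M hfin p
  intro y hy n
  have h1 : y n ∈ Set.range (Sheaf.H.map ((SheafOfModules.toSheaf X.ringCatSheaf).map
      ((Formal.completion I M).map (homOfLE (Nat.le_add_right n c)).op)) p) :=
    ⟨y (n + c), FFMain.cmap_HHlim I M p y hy (Nat.le_add_right n c)⟩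
  rw [hc n (n + c) (Nat.le_add_right n c) le_rfl] at h1
  exact h1

/-- S0059: the theorem on formal functions -/
theorem formal_functions (hfin : FinRees I M) (p : ℕ) :
    Nonempty (AdicCompletion I (Coh.HH X M p) ≃+ Formal.HHlim I M p) := by
  obtain ⟨Ψ, -⟩ := FFAlg.exists_addEquiv I (FFMain.qL I M p) (FFMain.tL I M p) (FFMain.tL_qL I M p)
    (FFMain.kill_HHmodPow I M p) (ar_qL I M hfin p) (Formal.HHlim I M p) (FFMain.mem_HHlim_iff I M p)
    (hsurj_qL I M hfin p)
  exact ⟨Ψ⟩

/-- S0003: the theorem on formal functions over a complete base -/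
theorem formal_functions_complete [IsAdicComplete I A] (hfin : FinRees I M) (p : ℕ)
    (hfinA : Module.Finite A (Coh.HH X M p)) :
    Function.Bijective (Formal.toHHlim I M p) := by
  haveI : IsAdicComplete I (Coh.HH X M p) := FFMain.isAdicComplete_of_finite I _
  exact FFAlg.bijective_of_isAdicComplete I (FFMain.qL I M p) (FFMain.tL I M p) (FFMain.tL_qL I M p)
    (FFMain.kill_HHmodPow I M p) (ar_qL I M hfin p) (Formal.HHlim I M p) (FFMain.mem_HHlim_iff I M p)
    (hsurj_qL I M hfin p) (Formal.toHHlim I M p) (fun x n => rfl)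

end limit

end Groth.Agent.Lib.T2H9.FFGen
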