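import Groth.Agent.Lib.T2H5T2Main
import Groth.Agent.Lib.T2H5PushEdge
import Groth.Agent.Lib.Helper13QcqsBC
import Groth.Agent.Lib.T2H5SubobjAR
import Groth.Agent.Lib.T2H9ModPow

set_option autoImplicit false
set_option linter.style.haveILetI false
set_option linter.unusedSectionVars false
set_option linter.unusedVariables false
universe u
open CategoryTheory AlgebraicGeometry Limits TopologicalSpace Opposite Polynomial

namespace Groth.Agent.Lib.T2H9.FFGeom

variable {A : Type u} [CommRing A] (I : Ideal A)
variable (X : Scheme.{u}) [X.Over (Spec (CommRingCat.of A))]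

/-- the Rees algebra as a type -/
abbrev RB : Type u := ↥(reesAlgebra I)

/-- `Spec B → Spec A` -/
noncomputable def qB : Spec (CommRingCat.of (RB I)) ⟶ Spec (CommRingCat.of A) :=
  Spec.map (CommRingCat.ofHom (algebraMap A (RB I)))

/-- `Spec A[t] → Spec B` -/
noncomputable def qT : Spec (CommRingCat.of A[X]) ⟶ Spec (CommRingCat.of (RB I)) :=
  Spec.map (CommRingCat.ofHom (reesAlgebra I).val.toRingHom)

/-- `X_B` -/
noncomputable def XB : Scheme.{u} := pullback (X ↘ Spec (CommRingCat.of A)) (qB I)

noncomputable def pB : XB I X ⟶ X := pullback.fst _ _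
noncomputable def fB : XB I X ⟶ Spec (CommRingCat.of (RB I)) := pullback.snd _ _

noncomputable instance : (XB I X).Over (Spec (CommRingCat.of (RB I))) := ⟨fB I X⟩

theorem isPullback_B : IsPullback (pB I X) (fB I X) (X ↘ Spec (CommRingCat.of A)) (qB I) :=
  IsPullback.of_hasPullback _ _

/-- `X_t` -/
noncomputable def XT : Scheme.{u} := pullback (fB I X) (qT I)

noncomputable def hT : XT I X ⟶ XB I X := pullback.fst _ _
noncomputable def fT : XT I X ⟶ Spec (CommRingCat.of A[X]) := pullback.snd _ _

theorem isPullback_T : IsPullback (hT I X) (fT I X) (fB I X) (qT I) :=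
  IsPullback.of_hasPullback _ _

instance : IsAffineHom (qB I) := by unfold qB; infer_instance
instance : IsAffineHom (qT I) := by unfold qT; infer_instance
instance : IsAffineHom (pB I X) :=
  MorphismProperty.pullback_fst _ _ (inferInstance : IsAffineHom (qB I))
instance : IsAffineHom (hT I X) :=
  MorphismProperty.pullback_fst _ _ (inferInstance : IsAffineHom (qT I))

instance [IsProper (X ↘ Spec (CommRingCat.of A))] :
    IsProper (XB I X ↘ Spec (CommRingCat.of (RB I))) := by
  change IsProper (pullback.snd (X ↘ Spec (CommRingCat.of A)) (qB I))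
  infer_instance

variable (F : X.Modules)

/-- the pullback of `F` to `X_B` -/
noncomputable abbrev EB : (XB I X).Modules := (Scheme.Modules.pullback (pB I X)).obj F

/-- the ambient module `h_* h^* π^* F` on `X_B` -/
noncomputable def amb : (XB I X).Modules :=
  (Scheme.Modules.pushforward (hT I X)).obj ((Scheme.Modules.pullback (hT I X)).obj (EB I X F))

/-- the unit map `π^*F → h_* h^* π^* F` -/
noncomputable def unitT : EB I X F ⟶ amb I X F :=
  (Scheme.Modules.pullbackPushforwardAdjunction (hT I X)).unit.app (EB I X F)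

/-- the Rees module on `X_B` -/
noncomputable def GB : (XB I X).Modules := Abelian.image (unitT I X F)

noncomputable def GBι : GB I X F ⟶ amb I X F := Abelian.image.ι (unitT I X F)

noncomputable def toGB : EB I X F ⟶ GB I X F := Abelian.factorThruImage (unitT I X F)

instance : Mono (GBι I X F) := inferInstanceAs (Mono (kernel.ι _))
instance : Epi (toGB I X F) := by
  unfold toGB
  exact Abelian.instEpiFactorThruImage _

theorem toGB_GBι : toGB I X F ≫ GBι I X F = unitT I X F := Abelian.image.fac _


section coh
variable {F}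

theorem isQuasicoherent_EB (hF : F.IsQuasicoherent) : (EB I X F).IsQuasicoherent :=
  Groth.Agent.Lib.Helper20.PullbackAff.isQuasicoherent_pullback (pB I X) F

theorem isQuasicoherent_amb (hF : F.IsQuasicoherent) : (amb I X F).IsQuasicoherent := by
  haveI := isQuasicoherent_EB I X hF
  haveI : ((Scheme.Modules.pullback (hT I X)).obj (EB I X F)).IsQuasicoherent :=
    Groth.Agent.Lib.Helper20.PullbackAff.isQuasicoherent_pullback (hT I X) (EB I X F)
  exact Groth.Agent.Lib.Helper23.QCohLocal.isQuasicoherent_pushforward (hT I X) _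

theorem isQuasicoherent_GB (hF : F.IsQuasicoherent) : (GB I X F).IsQuasicoherent := by
  haveI := isQuasicoherent_EB I X hF
  haveI := isQuasicoherent_amb I X hF
  haveI : (cokernel (unitT I X F)).IsQuasicoherent :=
    Groth.Agent.Lib.Helper23.QCohLocal.isQuasicoherent_cokernel _
  exact Groth.Agent.Lib.Helper23.QCohLocal.isQuasicoherent_kernel (cokernel.π (unitT I X F))

theorem isCoh_GB (hF : Coh.IsCoh F) : Coh.IsCoh (GB I X F) :=
  Groth.Agent.Lib.T2H5.Devissage.isCoh_of_epi (toGB I X F)
    (Groth.Agent.Lib.T2H5.GenIsoD.isCoh_pullback (pB I X) F hF) (isQuasicoherent_GB I X hF.1)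

theorem finite_HH_GB [IsNoetherianRing A] [IsProper (X ↘ Spec (CommRingCat.of A))]
    (hF : Coh.IsCoh F) (p : ℕ) : Module.Finite (RB I) (Coh.HH (XB I X) (GB I X F) p) :=
  Groth.Agent.Lib.T2H5.T2Main.finite_HH_of_isProper (RB I) (XB I X) (GB I X F) (isCoh_GB I X hF) p

end coh

end Groth.Agent.Lib.T2H9.FFGeom
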