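import Groth.Agent.Lib.T2H9FFGeom1

set_option autoImplicit false
set_option linter.style.haveILetI false
set_option linter.unusedSectionVars false
set_option linter.unusedVariables false
universe u
open CategoryTheory AlgebraicGeometry Limits TopologicalSpace Opposite Polynomial

namespace Groth.Agent.Lib.T2H9.FFGeom

open Groth.Agent.Lib.Helper6 Groth.Agent.Helper13FlatMV Groth.Agent.Helper13PullbackUnit
  Groth.Agent.Helper13QcqsBC

section coeff

variable {A : Type u} [CommRing A] {M M' : Type u} [AddCommGroup M] [Module A M]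
  [AddCommGroup M'] [Module A M']

/-- the coefficient maps `A[t] ⊗ M → M` -/
noncomputable def coeffT (n : ℕ) : TensorProduct A A[X] M →ₗ[A] M :=
  (TensorProduct.lid A M).toLinearMap ∘ₗ (Polynomial.lcoeff A n).rTensor M

theorem coeffT_tmul (n : ℕ) (c : A[X]) (m : M) : coeffT n (c ⊗ₜ[A] m) = c.coeff n • m := by
  simp [coeffT]

theorem coeffT_lTensor (n : ℕ) (φ : M →ₗ[A] M') (x : TensorProduct A A[X] M) :
    coeffT n (φ.lTensor A[X] x) = φ (coeffT n x) := by
  induction x using TensorProduct.induction_on with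
  | zero => simp
  | tmul c m => rw [LinearMap.lTensor_tmul, coeffT_tmul, coeffT_tmul, map_smul]
  | add x y hx hy => simp only [map_add, hx, hy]

end coeff

variable {A : Type u} [CommRing A] (I : Ideal A)
variable (X : Scheme.{u}) [X.Over (Spec (CommRingCat.of A))] (F : X.Modules)

theorem ρU_res {U U' : X.Opens} (h : U' ≤ U) (a : A) : resf h (ρU X U a) = ρU X U' a := by
  unfold ρU
  have e : (X ↘ Spec (CommRingCat.of A)).appLE ⊤ U le_top ≫ X.presheaf.map (homOfLE h).op =
      (X ↘ Spec (CommRingCat.of A)).appLE ⊤ U' le_top := Scheme.Hom.appLE_map _ _ _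
  exact congrArg (fun t : Γ(Spec (CommRingCat.of A), ⊤) ⟶ Γ(X, U') =>
    t.hom ((Scheme.ΓSpecIso (CommRingCat.of A)).inv.hom a)) e

theorem WT_mono {U U' : X.Opens} (h : U' ≤ U) : WT I X U' ≤ WT I X U :=
  (hT I X).preimage_mono ((pB I X).preimage_mono h)

theorem VB_mono {U U' : X.Opens} (h : U' ≤ U) : VB I X U' ≤ VB I X U :=
  (pB I X).preimage_mono h

theorem βT_res {U U' : X.Opens} (h : U' ≤ U) (c : A[X]) :
    resf (WT_mono I X h) (βT I X U c) = βT I X U' c := by
  unfold βT
  have e : (fT I X).appLE ⊤ (WT I X U) le_top ≫ (XT I X).presheaf.map (homOfLE (WT_mono I X h)).op =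
      (fT I X).appLE ⊤ (WT I X U') le_top := Scheme.Hom.appLE_map _ _ _
  exact congrArg (fun t : Γ(Spec (CommRingCat.of A[X]), ⊤) ⟶ Γ(XT I X, WT I X U') =>
    t.hom ((Scheme.ΓSpecIso (CommRingCat.of A[X])).inv.hom c)) e

/-- restriction `Γ(F, U) → Γ(F, U')`, `A`-linearly -/
noncomputable def resM {U U' : X.Opens} (h : U' ≤ U) : MA X F U →ₗ[A] MA X F U' where
  toFun m := res F h m
  map_add' x y := map_add _ _ _
  map_smul' a m := by
    change res F h ((ρU X U a : Γ(X, U)) • (show Γ(F, U) from m)) = _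
    rw [res_smul, ρU_res X h a]
    rfl

/-- restriction `T_U → T_U'`, `A[t]`-linearly -/
noncomputable def resT {U U' : X.Opens} (h : U' ≤ U) : TT I X F U →ₗ[A[X]] TT I X F U' where
  toFun τ := res (ET I X F) (WT_mono I X h) τ
  map_add' x y := map_add _ _ _
  map_smul' c τ := by
    change res (ET I X F) (WT_mono I X h)
      ((βT I X U c : Γ(XT I X, WT I X U)) • (show Γ(ET I X F, WT I X U) from τ)) = _
    rw [res_smul, βT_res I X h c]
    rfl

theorem resT_uU {U U' : X.Opens} (h : U' ≤ U) (m : MA X F U) :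
    resT I X F h (uU I X F U m) = uU I X F U' (resM (A := A) X F h m) := by
  change res (ET I X F) (WT_mono I X h)
    (unitSec (hT I X) (EB I X F) (le_refl (WT I X U)) (unitSec (pB I X) F (le_refl (VB I X U)) m)) =
    unitSec (hT I X) (EB I X F) (le_refl (WT I X U'))
      (unitSec (pB I X) F (le_refl (VB I X U')) (res F h m))
  have h1 := unitSec_res (hT I X) (EB I X F) (le_refl (WT I X U)) (le_refl (WT I X U'))
    (VB_mono I X h) (WT_mono I X h) (unitSec (pB I X) F (le_refl (VB I X U)) m)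
  have h2 := unitSec_res (pB I X) F (le_refl (VB I X U)) (le_refl (VB I X U')) h
    (VB_mono I X h) m
  exact h1.trans (congrArg (unitSec (hT I X) (EB I X F) (le_refl (WT I X U'))) h2)

theorem resT_ΘU {U U' : X.Opens} (h : U' ≤ U) (x : TensorProduct A A[X] (MA X F U)) :
    resT I X F h (ΘU I X F U x) = ΘU I X F U' ((resM (A := A) X F h).lTensor A[X] x) :=
  kap_nat (uU I X F U) (uU_smul I X F U) (uU I X F U') (uU_smul I X F U') (resM (A := A) X F h)
    (resT I X F h) (resT_uU I X F h) x

variable [F.IsQuasicoherent]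

/-- `Θ_U` as an equivalence, for affine `U` -/
noncomputable def ΘUe {U : X.Opens} (hU : IsAffineOpen U) :
    TensorProduct A A[X] (MA X F U) ≃ₗ[A[X]] TT I X F U :=
  LinearEquiv.ofBijective (ΘU I X F U) (ΘU_bijective I X F hU)

/-- the coefficient maps `T_U → Γ(F, U)` for affine `U` -/
noncomputable def coeffU {U : X.Opens} (hU : IsAffineOpen U) (n : ℕ) : TT I X F U →+ MA X F U :=
  (coeffT n).toAddMonoidHom.comp (ΘUe I X F hU).symm.toLinearMap.toAddMonoidHom

theorem coeffU_smul_uU {U : X.Opens} (hU : IsAffineOpen U) (n : ℕ) (c : A[X]) (m : MA X F U) :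
    coeffU I X F hU n (c • uU I X F U m) = c.coeff n • m := by
  have : (ΘUe I X F hU).symm (c • uU I X F U m) = c ⊗ₜ[A] m := by
    rw [LinearEquiv.symm_apply_eq]
    rfl
  change coeffT n ((ΘUe I X F hU).symm (c • uU I X F U m)) = _
  rw [this, coeffT_tmul]

theorem coeffU_res {U U' : X.Opens} (hU : IsAffineOpen U) (hU' : IsAffineOpen U') (h : U' ≤ U)
    (n : ℕ) (τ : TT I X F U) :
    coeffU I X F hU' n (resT I X F h τ) = resM (A := A) X F h (coeffU I X F hU n τ) := by
  obtain ⟨x, rfl⟩ := (ΘUe I X F hU).surjective τ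
  change coeffT n ((ΘUe I X F hU').symm (resT I X F h (ΘU I X F U x))) =
    resM (A := A) X F h (coeffT n ((ΘUe I X F hU).symm (ΘUe I X F hU x)))
  rw [resT_ΘU, LinearEquiv.symm_apply_apply]
  have : (ΘUe I X F hU').symm (ΘU I X F U' ((resM (A := A) X F h).lTensor A[X] x)) =
      (resM (A := A) X F h).lTensor A[X] x := (ΘUe I X F hU').symm_apply_apply _
  rw [this, coeffT_lTensor]

end Groth.Agent.Lib.T2H9.FFGeom
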