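import Groth.Agent.Lib.T2H9FFGeom3
import Groth.Agent.Lib.Helper20StalkExact

set_option autoImplicit false
set_option linter.style.haveILetI false
set_option linter.unusedSectionVars false
set_option linter.unusedVariables false
universe u
open CategoryTheory AlgebraicGeometry Limits TopologicalSpace Opposite Polynomial

namespace Groth.Agent.Lib.T2H9.FFGeom

open Groth.Agent.Lib.Helper6 Groth.Agent.Helper13FlatMV Groth.Agent.Helper13PullbackUnit
  Groth.Agent.Helper13QcqsBC

theorem span_range_eq_top_of_existsUnique {R R' : Type u} [CommRing R] [CommRing R']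
    (a : R →+* R') {M Q : Type u} [AddCommGroup M] [Module R M] [AddCommGroup Q] [Module R' Q]
    (φ : M →+ Q)
    (Uφ : ∀ (N : Type u) [AddCommGroup N] [Module R' N] (l : M →+ N),
      (∀ (r : R) (m : M), l (r • m) = a r • l m) → ∃! l' : Q →ₗ[R'] N, ∀ m, l' (φ m) = l m) :
    Submodule.span R' (Set.range φ) = ⊤ := by
  set P := Submodule.span R' (Set.range φ) with hP
  obtain ⟨l', -, h2⟩ := Uφ (Q ⧸ P) 0 (fun r x => by simp)
  have e1 := h2 P.mkQ (fun x => by
    rw [AddMonoidHom.zero_apply, Submodule.mkQ_apply, Submodule.Quotient.mk_eq_zero]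
    exact Submodule.subset_span ⟨x, rfl⟩)
  have e2 := h2 0 (fun x => rfl)
  have e3 : P.mkQ = 0 := e1.trans e2.symm
  rw [← Submodule.ker_mkQ P, e3, LinearMap.ker_zero]

variable {A : Type u} [CommRing A] (I : Ideal A)
variable (X : Scheme.{u}) [X.Over (Spec (CommRingCat.of A))] (F : X.Modules)

/-- `B → Γ(X_B, π⁻¹U)` -/
noncomputable def βB (U : X.Opens) : RB I →+* Γ(XB I X, VB I X U) :=
  ((fB I X).appLE ⊤ (VB I X U) le_top).hom.comp
    (Scheme.ΓSpecIso (CommRingCat.of (RB I))).inv.hom

theorem hT_βB (U : X.Opens) (b : RB I) :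
    (hT I X).appLE (VB I X U) (WT I X U) le_rfl (βB I X U b) = βT I X U (b : A[X]) := by
  have e : (fB I X).appLE ⊤ (VB I X U) le_top ≫ (hT I X).appLE (VB I X U) (WT I X U) le_rfl =
      (qT I).appLE ⊤ ⊤ le_top ≫ (fT I X).appLE ⊤ (WT I X U) le_top := by
    simp only [Scheme.Hom.appLE_comp_appLE, (isPullback_T I X).w]
  have e2 : Scheme.Hom.appLE (qT I) ⊤ ⊤ le_top = (qT I).appTop := by
    simp [Scheme.Hom.appLE, Scheme.Hom.appTop]
  have e3 : (Scheme.ΓSpecIso (CommRingCat.of (RB I))).inv ≫ (qT I).appTop =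
      CommRingCat.ofHom (reesAlgebra I).val.toRingHom ≫
        (Scheme.ΓSpecIso (CommRingCat.of A[X])).inv := by
    unfold qT
    rw [Scheme.ΓSpecIso_inv_naturality]
  have e4 : (Scheme.ΓSpecIso (CommRingCat.of (RB I))).inv ≫
      (fB I X).appLE ⊤ (VB I X U) le_top ≫ (hT I X).appLE (VB I X U) (WT I X U) le_rfl =
      CommRingCat.ofHom (reesAlgebra I).val.toRingHom ≫
        (Scheme.ΓSpecIso (CommRingCat.of A[X])).inv ≫ (fT I X).appLE ⊤ (WT I X U) le_top := by
    rw [e, e2, ← Category.assoc, e3, Category.assoc]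
  exact congrArg (fun t : CommRingCat.of (RB I) ⟶ Γ(XT I X, WT I X U) => t.hom b) e4

theorem closure_sections_B {U : X.Opens} (hU : IsAffineOpen U) :
    Subring.closure (Set.range ((pB I X).appLE U (VB I X U) le_rfl).hom ∪ Set.range (βB I X U)) =
      ⊤ := by
  have hUY : VB I X U = pB I X ⁻¹ᵁ U ⊓ fB I X ⁻¹ᵁ ⊤ := by
    simp [VB]
  have h1 := (isIso_pushoutSection_iff (isPullback_B I X) (US := ⊤) (UT := ⊤) (UX := U)
    le_top le_top hUY).1
    (isIso_pushoutSection_of_isAffineOpen (isPullback_B I X) le_top le_top hUY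
      (isAffineOpen_top _) (isAffineOpen_top _) hU)
  have h2 := CommRingCat.closure_range_union_range_eq_top_of_isPushout h1
  rw [← h2]
  congr 2
  ext y
  constructor
  · rintro ⟨b, rfl⟩
    exact ⟨(Scheme.ΓSpecIso (CommRingCat.of (RB I))).inv.hom b, rfl⟩
  · rintro ⟨b', rfl⟩
    refine ⟨(Scheme.ΓSpecIso (CommRingCat.of (RB I))).hom.hom b', ?_⟩
    change ((fB I X).appLE ⊤ (VB I X U) le_top).hom
      ((Scheme.ΓSpecIso (CommRingCat.of (RB I))).inv.hom
        ((Scheme.ΓSpecIso (CommRingCat.of (RB I))).hom.hom b')) = _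
    have : (Scheme.ΓSpecIso (CommRingCat.of (RB I))).inv.hom
        ((Scheme.ΓSpecIso (CommRingCat.of (RB I))).hom.hom b') = b' :=
      congrArg (fun t : Γ(Spec (CommRingCat.of (RB I)), ⊤) ⟶ Γ(Spec (CommRingCat.of (RB I)), ⊤) =>
        t.hom b') (Scheme.ΓSpecIso (CommRingCat.of (RB I))).hom_inv_id
    rw [this]

/-- sections of the Rees module over `π⁻¹U`, inside `T_U` -/
noncomputable def gU (U : X.Opens) : Γ(GB I X F, VB I X U) →+ TT I X F U :=
  ((GBι I X F).app (VB I X U)).hom

theorem gU_injective (U : X.Opens) : Function.Injective (gU I X F U) :=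
  Groth.Agent.Lib.Helper20.StalkExact.injective_app_of_mono (GBι I X F) (VB I X U)

/-- the subgroup of `T_U` generated by the `b • u(m)` -/
noncomputable def SU (U : X.Opens) : AddSubgroup (TT I X F U) :=
  AddSubgroup.closure {τ | ∃ (b : RB I) (m : MA X F U), τ = (b : A[X]) • uU I X F U m}


theorem unitT_app (U : X.Opens) (e : Γ(EB I X F, VB I X U)) :
    (unitT I X F).app (VB I X U) e = unitSec (hT I X) (EB I X F) (le_refl (WT I X U)) e := by
  rw [unitSec_apply]
  exact (res_self (ET I X F) _).symm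

theorem gU_toGB (U : X.Opens) (e : Γ(EB I X F, VB I X U)) :
    gU I X F U ((toGB I X F).app (VB I X U) e) =
      unitSec (hT I X) (EB I X F) (le_refl (WT I X U)) e := by
  rw [← unitT_app, ← toGB_GBι]
  rfl

/-- `S_U` is stable under the functions on `π⁻¹U` -/
theorem smul_mem_SU {U : X.Opens} (hU : IsAffineOpen U) (r' : Γ(XB I X, VB I X U))
    (τ : TT I X F U) (hτ : τ ∈ SU I X F U) :
    (((hT I X).appLE (VB I X U) (WT I X U) le_rfl r' : Γ(XT I X, WT I X U)) •
      (show Γ(ET I X F, WT I X U) from τ) : Γ(ET I X F, WT I X U)) ∈ SU I X F U := by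
  have hr' : r' ∈ Subring.closure (Set.range ((pB I X).appLE U (VB I X U) le_rfl).hom ∪
      Set.range (βB I X U)) := by
    rw [closure_sections_B I X hU]
    exact Subring.mem_top _
  revert τ
  induction hr' using Subring.closure_induction with
  | mem x hx =>
    intro τ hτ
    refine AddSubgroup.closure_induction (p := fun τ _ =>
      (((hT I X).appLE (VB I X U) (WT I X U) le_rfl x : Γ(XT I X, WT I X U)) •
        (show Γ(ET I X F, WT I X U) from τ) : Γ(ET I X F, WT I X U)) ∈ SU I X F U) ?_ ?_ ?_ ?_ hτ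
    · rintro _ ⟨b, m, rfl⟩
      rcases hx with ⟨r, rfl⟩ | ⟨b', rfl⟩
      · -- functions from `U`
        have e : (pB I X).appLE U (VB I X U) le_rfl ≫ (hT I X).appLE (VB I X U) (WT I X U) le_rfl =
            (hT I X ≫ pB I X).appLE U (WT I X U) le_rfl := by
          rw [Scheme.Hom.appLE_comp_appLE]
        have e' : (hT I X).appLE (VB I X U) (WT I X U) le_rfl
            ((pB I X).appLE U (VB I X U) le_rfl r) = αT I X U r :=
          congrArg (fun t : Γ(X, U) ⟶ Γ(XT I X, WT I X U) => t.hom r) e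
        refine AddSubgroup.subset_closure ⟨b, (show MA X F U from (r • (show Γ(F, U) from m))), ?_⟩
        change ((hT I X).appLE (VB I X U) (WT I X U) le_rfl
          ((pB I X).appLE U (VB I X U) le_rfl r) : Γ(XT I X, WT I X U)) •
            ((βT I X U (b : A[X]) : Γ(XT I X, WT I X U)) •
              (show Γ(ET I X F, WT I X U) from uU I X F U m)) =
          (βT I X U (b : A[X]) : Γ(XT I X, WT I X U)) •
            (show Γ(ET I X F, WT I X U) from uU I X F U (r • (show Γ(F, U) from m)))
        rw [uU_smul' I X F U r m, e', smul_comm]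
      · -- functions from `B`
        refine AddSubgroup.subset_closure ⟨b' * b, m, ?_⟩
        change ((hT I X).appLE (VB I X U) (WT I X U) le_rfl (βB I X U b') :
            Γ(XT I X, WT I X U)) •
            ((βT I X U (b : A[X]) : Γ(XT I X, WT I X U)) •
              (show Γ(ET I X F, WT I X U) from uU I X F U m)) =
          (βT I X U ((b' * b : RB I) : A[X]) : Γ(XT I X, WT I X U)) •
            (show Γ(ET I X F, WT I X U) from uU I X F U m)
        rw [hT_βB, ← mul_smul, ← map_mul]
        rfl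
    · change ((_ : Γ(XT I X, WT I X U)) • (0 : Γ(ET I X F, WT I X U))) ∈ SU I X F U
      rw [smul_zero]
      exact zero_mem _
    · intro x y _ _ hx hy
      change ((_ : Γ(XT I X, WT I X U)) • ((show Γ(ET I X F, WT I X U) from x) +
        (show Γ(ET I X F, WT I X U) from y))) ∈ SU I X F U
      rw [smul_add]
      exact add_mem hx hy
    · intro x _ hx
      change ((_ : Γ(XT I X, WT I X U)) • (-(show Γ(ET I X F, WT I X U) from x))) ∈ SU I X F U
      rw [smul_neg]
      exact neg_mem hx
  | zero =>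
    intro τ _
    rw [map_zero, zero_smul]
    exact zero_mem _
  | one =>
    intro τ hτ
    rw [map_one, one_smul]
    exact hτ
  | add x y _ _ hx hy =>
    intro τ hτ
    rw [map_add, add_smul]
    exact add_mem (hx τ hτ) (hy τ hτ)
  | neg x _ hx =>
    intro τ hτ
    rw [map_neg, neg_smul]
    exact neg_mem (hx τ hτ)
  | mul x y _ _ hx hy =>
    intro τ hτ
    rw [map_mul, mul_smul]
    exact hx _ (hy τ hτ)


variable [F.IsQuasicoherent]

theorem gU_mem_SU {U : X.Opens} (hU : IsAffineOpen U) (g : Γ(GB I X F, VB I X U)) :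
    gU I X F U g ∈ SU I X F U := by
  haveI : (EB I X F).IsQuasicoherent := isQuasicoherent_EB I X inferInstance
  haveI : (GB I X F).IsQuasicoherent := isQuasicoherent_GB I X inferInstance
  have hV := isAffineOpen_VB I hU
  obtain ⟨e, rfl⟩ := Groth.Agent.Lib.Helper23.FinType.surjective_app_of_epi (toGB I X F) hV g
  rw [gU_toGB]
  have hspan := span_range_eq_top_of_existsUnique ((pB I X).appLE U (VB I X U) le_rfl).hom
    (unitSec (pB I X) F (le_refl (VB I X U)))
    (fun N _ _ l hl => existsUnique_lift (pB I X) F hU hV (le_refl _) N l hl)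
  have he : e ∈ Submodule.span Γ(XB I X, VB I X U)
      (Set.range (unitSec (pB I X) F (le_refl (VB I X U)))) := by
    rw [hspan]
    exact Submodule.mem_top
  induction he using Submodule.span_induction with
  | mem x hx =>
    obtain ⟨m, rfl⟩ := hx
    refine AddSubgroup.subset_closure ⟨1, (show MA X F U from m), ?_⟩
    change uU I X F U m = ((1 : RB I) : A[X]) • uU I X F U m
    rw [OneMemClass.coe_one, one_smul]
  | zero =>
    rw [map_zero]
    exact zero_mem _
  | add x y _ _ hx hy =>
    rw [map_add]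
    exact add_mem hx hy
  | smul r' x _ hx =>
    rw [unitSec_smul]
    exact smul_mem_SU I X F hU r' _ hx

theorem SU_le_range {U : X.Opens} (hU : IsAffineOpen U) :
    SU I X F U ≤ (gU I X F U).range := by
  rw [SU, AddSubgroup.closure_le]
  rintro _ ⟨b, m, rfl⟩
  refine ⟨(toGB I X F).app (VB I X U)
    ((βB I X U b : Γ(XB I X, VB I X U)) •
      unitSec (pB I X) F (le_refl (VB I X U)) (show Γ(F, U) from m)), ?_⟩
  rw [gU_toGB, unitSec_smul, hT_βB]
  rfl

theorem range_gU {U : X.Opens} (hU : IsAffineOpen U) :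
    (gU I X F U).range = SU I X F U := by
  apply le_antisymm
  · rintro _ ⟨g, rfl⟩
    exact gU_mem_SU I X F hU g
  · exact SU_le_range I X F hU

/-- the coefficients of sections of the Rees module lie in `I^n Γ(F, U)` -/
theorem coeffU_gU_mem {U : X.Opens} (hU : IsAffineOpen U) (n : ℕ) (g : Γ(GB I X F, VB I X U)) :
    coeffU I X F hU n (gU I X F U g) ∈ (I ^ n • ⊤ : Submodule A (MA X F U)) := by
  have h := gU_mem_SU I X F hU g
  refine AddSubgroup.closure_induction (p := fun τ _ =>
    coeffU I X F hU n τ ∈ (I ^ n • ⊤ : Submodule A (MA X F U))) ?_ ?_ ?_ ?_ h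
  · rintro _ ⟨b, m, rfl⟩
    rw [coeffU_smul_uU]
    exact Submodule.smul_mem_smul ((mem_reesAlgebra_iff I b.1).1 b.2 n) Submodule.mem_top
  · rw [map_zero]
    exact zero_mem _
  · intro x y _ _ hx hy
    rw [map_add]
    exact add_mem hx hy
  · intro x _ hx
    rw [map_neg]
    exact neg_mem hx

/-- `t^n • u(m)` is a section of the Rees module for `m ∈ I^n Γ(F, U)` -/
theorem exists_gU_eq {U : X.Opens} (hU : IsAffineOpen U) (n : ℕ) (m : MA X F U)
    (hm : m ∈ (I ^ n • ⊤ : Submodule A (MA X F U))) :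
    ∃ g : Γ(GB I X F, VB I X U), gU I X F U g = ((Polynomial.X : A[X]) ^ n) • uU I X F U m := by
  have key : ((Polynomial.X : A[X]) ^ n) • uU I X F U m ∈ (gU I X F U).range := by
    refine Submodule.smul_induction_on hm ?_ ?_
    · intro a ha m' _
      apply SU_le_range I X F hU
      refine AddSubgroup.subset_closure ⟨⟨monomial n a, reesAlgebra.monomial_mem.2 ha⟩, m', ?_⟩
      rw [uU_smul, ← mul_smul]
      congr 1
      rw [Polynomial.algebraMap_apply, Algebra.algebraMap_self_apply, mul_comm,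
        Polynomial.C_mul_X_pow_eq_monomial]
    · intro x y hx hy
      rw [map_add, smul_add]
      exact add_mem hx hy
  exact key

end Groth.Agent.Lib.T2H9.FFGeom
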