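import Groth.Agent.Lib.T2H9FFGeom4
import Groth.Agent.Lib.T2H9FFBasis

set_option autoImplicit false
set_option linter.style.haveILetI false
set_option linter.unusedSectionVars false
set_option linter.unusedVariables false
universe u
open CategoryTheory AlgebraicGeometry Limits TopologicalSpace Opposite Polynomial

namespace Groth.Agent.Lib.T2H9.FFGeom

open Groth.Agent.Lib.Helper6 Groth.Agent.Helper13FlatMV Groth.Agent.Helper13PullbackUnit
  Groth.Agent.Helper13QcqsBC Groth.Agent.Lib.T2H9.FFBasis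

section lift
variable {P Q R : Type u} [AddCommGroup P] [AddCommGroup Q] [AddCommGroup R]

/-- lift an additive map through an injective one -/
noncomputable def liftInj (j : P →+ Q) (hj : Function.Injective j) (f : R →+ Q)
    (h : ∀ r, f r ∈ j.range) : R →+ P :=
  (AddMonoidHom.ofInjective hj).symm.toAddMonoidHom.comp (f.codRestrict j.range h)

theorem liftInj_spec (j : P →+ Q) (hj : Function.Injective j) (f : R →+ Q)
    (h : ∀ r, f r ∈ j.range) (r : R) : j (liftInj j hj f h r) = f r := by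
  change j ((AddMonoidHom.ofInjective hj).symm (f.codRestrict j.range h r)) = f r
  rw [AddMonoidHom.apply_ofInjective_symm]
  rfl
end lift

variable {A : Type u} [CommRing A] (I : Ideal A)
variable (X : Scheme.{u}) [X.Over (Spec (CommRingCat.of A))] (F : X.Modules)

/-- the abelian sheaf `π_* G` on `X` -/
noncomputable def MG : Sheaf (Opens.grothendieckTopology X) AddCommGrpCat.{u} :=
  (CohTop.push (pB I X).base).obj (Coh.toAb (GB I X F))

/-- sections of `J F → F`, additively -/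
noncomputable def jU (J : Ideal A) (U : X.Opens) : Γ(pwJ X F J, U) →+ MA X F U :=
  ((pwJι X F J).app U).hom

theorem jU_injective (J : Ideal A) (U : X.Opens) : Function.Injective (jU X F J U) :=
  Groth.Agent.Lib.Helper20.StalkExact.injective_app_of_mono (pwJι X F J) U

theorem jU_res (J : Ideal A) {U U' : X.Opens} (h : U' ≤ U) (x : Γ(pwJ X F J, U)) :
    jU X F J U' (res (pwJ X F J) h x) = resM (A := A) X F h (jU X F J U x) :=
  (CategoryTheory.congr_fun ((pwJι X F J).mapPresheaf.naturality (homOfLE h).op) x)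

theorem gU_res {U U' : X.Opens} (h : U' ≤ U) (g : Γ(GB I X F, VB I X U)) :
    gU I X F U' (res (GB I X F) (VB_mono I X h) g) = resT I X F h (gU I X F U g) :=
  (CategoryTheory.congr_fun ((GBι I X F).mapPresheaf.naturality (homOfLE (VB_mono I X h)).op) g)

variable [F.IsQuasicoherent]

/-- the degree `n` component `Γ(π⁻¹U, G) → Γ(U, I^n F)` -/
noncomputable def ρnApp (n : ℕ) {U : X.Opens} (hU : IsAffineOpen U) :
    Γ(GB I X F, VB I X U) →+ Γ(pwJ X F (I ^ n), U) :=
  liftInj (jU X F (I ^ n) U) (jU_injective X F (I ^ n) U)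
    ((coeffU I X F hU n).comp (gU I X F U))
    (fun g => mem_range_pwJι_of_mem X F (I ^ n) U _ (coeffU_gU_mem I X F hU n g))

theorem jU_ρnApp (n : ℕ) {U : X.Opens} (hU : IsAffineOpen U) (g : Γ(GB I X F, VB I X U)) :
    jU X F (I ^ n) U (ρnApp I X F n hU g) = coeffU I X F hU n (gU I X F U g) :=
  liftInj_spec _ _ _ _ g

theorem ρnApp_res (n : ℕ) {U U' : X.Opens} (hU : IsAffineOpen U) (hU' : IsAffineOpen U')
    (h : U' ≤ U) (g : Γ(GB I X F, VB I X U)) :
    res (pwJ X F (I ^ n)) h (ρnApp I X F n hU g) =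
      ρnApp I X F n hU' (res (GB I X F) (VB_mono I X h) g) := by
  apply jU_injective X F (I ^ n) U'
  rw [jU_res (h := h), jU_ρnApp, jU_ρnApp, gU_res (h := h), coeffU_res I X F hU hU' h]

theorem ρnApp_res' (n : ℕ) (U V : X.affineOpens) (h : V.1 ≤ U.1)
    (x : (MG I X F).obj.obj (op U.1)) :
    (Coh.toAb (pwJ X F (I ^ n))).obj.map (homOfLE h).op (ρnApp I X F n U.2 x) =
      ρnApp I X F n V.2 ((MG I X F).obj.map (homOfLE h).op x) :=
  ρnApp_res I X F n U.2 V.2 h x

/-- the projection `π_* G → I^n F` -/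
noncomputable def ρn (n : ℕ) : MG I X F ⟶ Coh.toAb (pwJ X F (I ^ n)) :=
  homOfAffine (MG I X F) (Coh.toAb (pwJ X F (I ^ n))) (fun U => ρnApp I X F n U.2)
    (ρnApp_res' I X F n)

theorem ρn_app (n : ℕ) {U : X.Opens} (hU : IsAffineOpen U) (g : Γ(GB I X F, VB I X U)) :
    (ρn I X F n).hom.app (op U) g = ρnApp I X F n hU g :=
  homOfAffine_app (MG I X F) (Coh.toAb (pwJ X F (I ^ n))) (fun U => ρnApp I X F n U.2)
    (ρnApp_res' I X F n) ⟨U, hU⟩ g

section noeth

variable [IsNoetherianRing A]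

theorem jU_mem (J : Ideal A) {U : X.Opens} (hU : IsAffineOpen U) (x : Γ(pwJ X F J, U)) :
    jU X F J U x ∈ (J • ⊤ : Submodule A (MA X F U)) := by
  obtain ⟨r, g, hg⟩ := Submodule.fg_iff_exists_fin_generating_family.1
    (IsNoetherian.noetherian J)
  exact pwJι_app_mem X F g J hg hU x

/-- the inclusion `Γ(U, I^n F) → Γ(π⁻¹U, G)` -/
noncomputable def ιnApp (n : ℕ) {U : X.Opens} (hU : IsAffineOpen U) :
    Γ(pwJ X F (I ^ n), U) →+ Γ(GB I X F, VB I X U) :=
  liftInj (gU I X F U) (gU_injective I X F U)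
    ((DistribSMul.toAddMonoidHom (TT I X F U) ((Polynomial.X : A[X]) ^ n)).comp
      ((uU I X F U).comp (jU X F (I ^ n) U)))
    (fun x => exists_gU_eq I X F hU n _ (jU_mem X F (I ^ n) hU x))

theorem gU_ιnApp (n : ℕ) {U : X.Opens} (hU : IsAffineOpen U) (x : Γ(pwJ X F (I ^ n), U)) :
    gU I X F U (ιnApp I X F n hU x) =
      ((Polynomial.X : A[X]) ^ n) • uU I X F U (jU X F (I ^ n) U x) :=
  liftInj_spec _ _ _ _ x

theorem ιnApp_res (n : ℕ) {U U' : X.Opens} (hU : IsAffineOpen U) (hU' : IsAffineOpen U')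
    (h : U' ≤ U) (x : Γ(pwJ X F (I ^ n), U)) :
    res (GB I X F) (VB_mono I X h) (ιnApp I X F n hU x) =
      ιnApp I X F n hU' (res (pwJ X F (I ^ n)) h x) := by
  apply gU_injective I X F U'
  rw [gU_res (h := h), gU_ιnApp, gU_ιnApp, map_smul, resT_uU, jU_res (h := h)]

theorem ιnApp_res' (n : ℕ) (U V : X.affineOpens) (h : V.1 ≤ U.1)
    (x : (Coh.toAb (pwJ X F (I ^ n))).obj.obj (op U.1)) :
    (MG I X F).obj.map (homOfLE h).op (ιnApp I X F n U.2 x) =
      ιnApp I X F n V.2 ((Coh.toAb (pwJ X F (I ^ n))).obj.map (homOfLE h).op x) :=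
  ιnApp_res I X F n U.2 V.2 h x

/-- the inclusion `I^n F → π_* G` -/
noncomputable def ιn (n : ℕ) : Coh.toAb (pwJ X F (I ^ n)) ⟶ MG I X F :=
  homOfAffine (Coh.toAb (pwJ X F (I ^ n))) (MG I X F) (fun U => ιnApp I X F n U.2)
    (ιnApp_res' I X F n)

theorem ιn_app (n : ℕ) {U : X.Opens} (hU : IsAffineOpen U) (x : Γ(pwJ X F (I ^ n), U)) :
    (ιn I X F n).hom.app (op U) x = ιnApp I X F n hU x :=
  homOfAffine_app (Coh.toAb (pwJ X F (I ^ n))) (MG I X F) (fun U => ιnApp I X F n U.2)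
    (ιnApp_res' I X F n) ⟨U, hU⟩ x

theorem ιn_ρn (n : ℕ) : ιn I X F n ≫ ρn I X F n = 𝟙 _ := by
  apply hom_ext_affine
  intro U x
  change (ρn I X F n).hom.app (op U.1) ((ιn I X F n).hom.app (op U.1) x) = x
  rw [ιn_app I X F n U.2, ρn_app I X F n U.2]
  apply jU_injective X F (I ^ n) U.1
  rw [jU_ρnApp, gU_ιnApp, coeffU_smul_uU, Polynomial.coeff_X_pow, if_pos rfl, one_smul]

theorem ιn_ρn_ne (m n : ℕ) (hmn : m ≠ n) : ιn I X F n ≫ ρn I X F m = 0 := by
  apply hom_ext_affine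
  intro U x
  change (ρn I X F m).hom.app (op U.1) ((ιn I X F n).hom.app (op U.1) x) = 0
  rw [ιn_app I X F n U.2, ρn_app I X F m U.2]
  apply jU_injective X F (I ^ m) U.1
  rw [jU_ρnApp, gU_ιnApp, coeffU_smul_uU, Polynomial.coeff_X_pow, if_neg hmn, zero_smul]
  exact (map_zero (jU X F (I ^ m) U.1)).symm

end noeth

end Groth.Agent.Lib.T2H9.FFGeom
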