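import Groth.Agent.Lib.T2H9FFGeom5

set_option autoImplicit false
set_option linter.style.haveILetI false
set_option linter.unusedSectionVars false
set_option linter.unusedVariables false
universe u
open CategoryTheory AlgebraicGeometry Limits TopologicalSpace Opposite Polynomial

namespace Groth.Agent.Lib.T2H9.FFGeom

open Groth.Agent.Lib.Helper6 Groth.Agent.Helper13FlatMV Groth.Agent.Helper13PullbackUnit
  Groth.Agent.Helper13QcqsBC Groth.Agent.Lib.T2H9.FFBasis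

variable {A : Type u} [CommRing A] (I : Ideal A)
variable (X : Scheme.{u}) [X.Over (Spec (CommRingCat.of A))] (F : X.Modules)

/-- the inclusion `J' F → J F` for `J' ≤ J` -/
noncomputable def pwJle {J J' : Ideal A} (h : J' ≤ J) : pwJ X F J' ⟶ pwJ X F J :=
  kernel.lift _ (pwJι X F J') (by
    rw [← cancel_epi (pwJe X F J'), ← Category.assoc, pwJe_ι, Limits.comp_zero]
    exact Formal.smulFamily_π_of_le h F)

theorem pwJle_ι {J J' : Ideal A} (h : J' ≤ J) : pwJle X F h ≫ pwJι X F J = pwJι X F J' :=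
  kernel.lift_ι _ _ _

theorem pwJle_comp {J J' J'' : Ideal A} (h : J' ≤ J) (h' : J'' ≤ J') :
    pwJle X F h' ≫ pwJle X F h = pwJle X F (h'.trans h) := by
  rw [← cancel_mono (pwJι X F J), Category.assoc, pwJle_ι, pwJle_ι, pwJle_ι]

/-- multiplication by `a ∈ J'` as a map `J F → (J * J') F` -/
noncomputable def pwJmul (J J'' : Ideal A) (a : A) (h : ∀ b ∈ J, a * b ∈ J'') :
    pwJ X F J ⟶ pwJ X F J'' :=
  kernel.lift _ (pwJι X F J ≫ Formal.smulMod A F a) (by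
    rw [← cancel_epi (pwJe X F J), ← Category.assoc, ← Category.assoc, pwJe_ι, Limits.comp_zero,
      Category.assoc, Groth.Agent.S9530.smulFamily_comp_eq_zero_iff]
    intro b hb
    rw [← Category.assoc, ← Groth.Agent.Lib.T2H9.ModPow.smulMod_mul]
    exact smulMod_comp_cokernel X F J'' (a * b) (h b hb))

theorem pwJmul_ι (J J'' : Ideal A) (a : A) (h : ∀ b ∈ J, a * b ∈ J'') :
    pwJmul X F J J'' a h ≫ pwJι X F J'' = pwJι X F J ≫ Formal.smulMod A F a :=
  kernel.lift_ι _ _ _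

theorem pwJmul_le (J J'' : Ideal A) (a : A) (h : ∀ b ∈ J, a * b ∈ J'') (hle : J'' ≤ J) :
    pwJmul X F J J'' a h ≫ pwJle X F hle = Formal.smulMod A (pwJ X F J) a := by
  rw [← cancel_mono (pwJι X F J), Category.assoc, pwJle_ι, pwJmul_ι,
    Groth.Agent.S9530.smulMod_comp]

theorem pwJmul_self (J : Ideal A) (a : A) (h : ∀ b ∈ J, a * b ∈ J) :
    pwJmul X F J J a h = Formal.smulMod A (pwJ X F J) a := by
  rw [← cancel_mono (pwJι X F J), pwJmul_ι, Groth.Agent.S9530.smulMod_comp]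

theorem mul_mem_pow_add {n k : ℕ} {a : A} (ha : a ∈ I ^ k) : ∀ b ∈ I ^ n, a * b ∈ I ^ (n + k) := by
  intro b hb
  rw [pow_add, mul_comm a b]
  exact Ideal.mul_mem_mul hb ha

/-- `μ n k a : I^n F → I^(n+k) F`, multiplication by `a ∈ I^k` -/
noncomputable def μmod (n k : ℕ) (a : A) (ha : a ∈ I ^ k) :
    pwJ X F (I ^ n) ⟶ pwJ X F (I ^ (n + k)) :=
  pwJmul X F (I ^ n) (I ^ (n + k)) a (mul_mem_pow_add I ha)

/-- `θ m m' : I^m' F → I^m F`, the inclusion -/
noncomputable def θmod (m m' : ℕ) (h : m ≤ m') : pwJ X F (I ^ m') ⟶ pwJ X F (I ^ m) :=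
  pwJle X F (Ideal.pow_le_pow_right h)

theorem μmod_ι (n k : ℕ) (a : A) (ha : a ∈ I ^ k) :
    μmod I X F n k a ha ≫ pwJι X F (I ^ (n + k)) = pwJι X F (I ^ n) ≫ Formal.smulMod A F a :=
  pwJmul_ι _ _ _ _ _ _

theorem μmod_θmod (n k : ℕ) (a : A) (ha : a ∈ I ^ k) :
    μmod I X F n k a ha ≫ θmod I X F n (n + k) (Nat.le_add_right n k) =
      Formal.smulMod A (pwJ X F (I ^ n)) a :=
  pwJmul_le _ _ _ _ _ _ _

theorem μmod_zero (n : ℕ) (a : A) (ha : a ∈ I ^ 0) :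
    μmod I X F n 0 a ha = Formal.smulMod A (pwJ X F (I ^ n)) a :=
  pwJmul_self X F (I ^ n) a _

theorem θmod_θmod (m m' m'' : ℕ) (h : m ≤ m') (h' : m' ≤ m'') :
    θmod I X F m' m'' h' ≫ θmod I X F m m' h = θmod I X F m m'' (h.trans h') :=
  pwJle_comp _ _ _ _

theorem θmod_ι (m m' : ℕ) (h : m ≤ m') :
    θmod I X F m m' h ≫ pwJι X F (I ^ m) = pwJι X F (I ^ m') :=
  pwJle_ι _ _ _

end Groth.Agent.Lib.T2H9.FFGeom
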