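import Mathlib

/-!
# Formal functions: graded modules over the Rees algebra (helper9)

`N` a finite module over the Rees algebra `B = ⊕ I^n` of a Noetherian ring, containing "graded pieces"
`Nn n` (inclusions `ι n`, projections `ρ n`), with the multiplication maps
`μ n k a : Nn n → Nn (n+k)` for `a ∈ I^k` realizing the action of the homogeneous elements, and
`A`-linear maps `c n : Nn n → H` compatible with the multiplications.  Then
* `exists_range_succ_le`: the filtration `range (c n)` of `H` is `I`-stable;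
* `exists_trans_eq_zero`: the transition maps kill `ker (c n)` after a uniform shift, if each
  `ker (c n)` is killed by `I^n`.
-/

set_option autoImplicit false
set_option linter.unusedSectionVars false
set_option linter.style.haveILetI false
universe u

namespace Groth.Agent.Lib.T2H9.FFRees

open Polynomial

variable {A : Type u} [CommRing A] (I : Ideal A)

/-- the homogeneous element `a t^k` of the Rees algebra -/
noncomputable def mono (k : ℕ) (a : A) (ha : a ∈ I ^ k) : reesAlgebra I :=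
  ⟨monomial k a, reesAlgebra.monomial_mem.2 ha⟩

theorem coeff_mem (b : reesAlgebra I) (k : ℕ) : (b : A[X]).coeff k ∈ I ^ k :=
  (mem_reesAlgebra_iff I b.1).1 b.2 k

/-- the homogeneous component of degree `k` -/
noncomputable def comp (b : reesAlgebra I) (k : ℕ) : reesAlgebra I :=
  mono I k ((b : A[X]).coeff k) (coeff_mem I b k)

theorem eq_sum_comp (b : reesAlgebra I) :
    b = ∑ k ∈ (b : A[X]).support, comp I b k := by
  apply Subtype.ext
  rw [AddSubmonoidClass.coe_finsetSum]
  exact (b : A[X]).as_sum_support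

theorem mono_mul (k j : ℕ) (a a' : A) (ha : a ∈ I ^ k) (ha' : a' ∈ I ^ j)
    (h : a * a' ∈ I ^ (k + j)) :
    mono I k a ha * mono I j a' ha' = mono I (k + j) (a * a') h := by
  apply Subtype.ext
  change monomial k a * monomial j a' = monomial (k + j) (a * a')
  rw [monomial_mul_monomial]

theorem mono_add (k : ℕ) (a a' : A) (ha : a ∈ I ^ k) (ha' : a' ∈ I ^ k) (h : a + a' ∈ I ^ k) :
    mono I k a ha + mono I k a' ha' = mono I k (a + a') h := by
  apply Subtype.ext
  change monomial k a + monomial k a' = monomial k (a + a')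
  rw [map_add]

variable {N : Type u} [AddCommGroup N] [Module (reesAlgebra I) N]
variable {Nn : ℕ → Type u} [∀ n, AddCommGroup (Nn n)] [∀ n, Module A (Nn n)]
variable {H : Type u} [AddCommGroup H] [Module A H]

/-- the graded data -/
structure GrData (ι : ∀ n, Nn n →+ N) (ρ : ∀ n, N →+ Nn n)
    (μ : ∀ n k (a : A), a ∈ I ^ k → Nn n →+ Nn (n + k)) (c : ∀ n, Nn n →ₗ[A] H) : Prop where
  ρι : ∀ n x, ρ n (ι n x) = x
  ρι_ne : ∀ m n x, m ≠ n → ρ m (ι n x) = 0
  act : ∀ n k a ha x, mono I k a ha • ι n x = ι (n + k) (μ n k a ha x)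
  cμ : ∀ n k a ha x, c (n + k) (μ n k a ha x) = a • c n x

variable {ι : ∀ n, Nn n →+ N} {ρ : ∀ n, N →+ Nn n}
  {μ : ∀ n k (a : A), a ∈ I ^ k → Nn n →+ Nn (n + k)} {c : ∀ n, Nn n →ₗ[A] H}

theorem GrData.ι_injective (D : GrData I ι ρ μ c) (n : ℕ) : Function.Injective (ι n) := by
  intro x y hxy
  rw [← D.ρι n x, ← D.ρι n y, hxy]

theorem GrData.smul_ι (D : GrData I ι ρ μ c) (b : reesAlgebra I) (m : ℕ) (x : Nn m) :
    b • ι m x = ∑ k ∈ (b : A[X]).support,
      ι (m + k) (μ m k ((b : A[X]).coeff k) (coeff_mem I b k) x) := by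
  conv_lhs => rw [eq_sum_comp I b, Finset.sum_smul]
  refine Finset.sum_congr rfl fun k _ => ?_
  exact D.act m k _ _ x

/-- the set of homogeneous elements -/
def homog (ι : ∀ n, Nn n →+ N) : Set N := {v | ∃ n x, ι n x = v}

section K1

variable [IsNoetherianRing A] [Module.Finite (reesAlgebra I) N]

theorem smul_mem_of_le (D : GrData I ι ρ μ c) {m n : ℕ} (hmn : m ≤ n) (x : Nn m) (a : A)
    (ha : a ∈ I ^ (n + 1 - m)) :
    a • c m x ∈ (I • LinearMap.range (c n) : Submodule A H) := by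
  obtain ⟨i, rfl⟩ := Nat.exists_eq_add_of_le hmn
  have e : m + i + 1 - m = i + 1 := by omega
  rw [e, pow_succ] at ha
  refine Submodule.mul_induction_on ha ?_ ?_
  · intro r hr s hs
    rw [mul_comm, mul_smul]
    refine Submodule.smul_mem_smul hs ⟨μ m i r hr x, ?_⟩
    exact D.cμ m i r hr x
  · intro x y hx hy
    rw [add_smul]
    exact add_mem hx hy

theorem term_mem (D : GrData I ι ρ μ c) {m n : ℕ} (hmn : m ≤ n) (x : Nn m) (b : reesAlgebra I) :
    c (n + 1) (ρ (n + 1) (b • ι m x)) ∈ (I • LinearMap.range (c n) : Submodule A H) := by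
  rw [GrData.smul_ι I D b m x, map_sum, map_sum]
  refine Submodule.sum_mem _ fun k _ => ?_
  by_cases hk : m + k = n + 1
  · have hk' : k = n + 1 - m := by omega
    have key : ∀ (j : ℕ) (hj : m + k = j),
        c j (ρ j (ι (m + k) (μ m k ((b : A[X]).coeff k) (coeff_mem I b k) x))) =
          ((b : A[X]).coeff k) • c m x := by
      intro j hj
      subst hj
      rw [D.ρι, D.cμ]
    rw [key (n + 1) hk]
    apply smul_mem_of_le I D hmn
    rw [← hk']
    exact coeff_mem I b k
  · rw [D.ρι_ne (n + 1) (m + k) _ (Ne.symm hk), map_zero]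
    exact zero_mem _

/-- **stability**: `range (c (n+1)) ≤ I • range (c n)` for `n` large. -/
theorem exists_range_succ_le (D : GrData I ι ρ μ c) :
    ∃ d : ℕ, ∀ n, d ≤ n →
      LinearMap.range (c (n + 1)) ≤ (I • LinearMap.range (c n) : Submodule A H) := by
  classical
  haveI : IsNoetherian (reesAlgebra I) N := isNoetherian_of_isNoetherianRing_of_finite _ _
  have hfg : (Submodule.span (reesAlgebra I) (homog ι)).FG := IsNoetherian.noetherian _
  obtain ⟨S', hS', hspan⟩ := (Submodule.fg_span_iff_fg_span_finset_subset _).1 hfg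
  choose deg xg hg using fun g : S' => hS' g.2
  refine ⟨Finset.univ.sup deg, fun n hn => ?_⟩
  rintro _ ⟨y, rfl⟩
  have hy : ι (n + 1) y ∈ Submodule.span (reesAlgebra I) (S' : Set N) := by
    rw [← hspan]
    exact Submodule.subset_span ⟨n + 1, y, rfl⟩
  obtain ⟨f, -, hf⟩ := Submodule.mem_span_finset.1 hy
  have h1 : c (n + 1) y = c (n + 1) (ρ (n + 1) (ι (n + 1) y)) := by rw [D.ρι]
  rw [h1, ← hf, map_sum, map_sum]
  refine Submodule.sum_mem _ fun g hgS => ?_
  have hdeg : deg ⟨g, hgS⟩ ≤ n := (Finset.le_sup (Finset.mem_univ _)).trans hn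
  have := term_mem I D hdeg (xg ⟨g, hgS⟩) (f g)
  rw [hg ⟨g, hgS⟩] at this
  exact this

end K1

section K2

variable [IsNoetherianRing A] [Module.Finite (reesAlgebra I) N]

/-- homogeneous elements in the kernel of `c` -/
def homogKer (ι : ∀ n, Nn n →+ N) (c : ∀ n, Nn n →ₗ[A] H) : Set N :=
  {v | ∃ n x, c n x = 0 ∧ ι n x = v}

variable (θ : ∀ m m' : ℕ, m ≤ m' → Nn m' →+ Nn m)

/-- extra data for the Mittag-Leffler statement -/
structure TrData (μ : ∀ n k (a : A), a ∈ I ^ k → Nn n →+ Nn (n + k)) (c : ∀ n, Nn n →ₗ[A] H)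
    (θ : ∀ m m' : ℕ, m ≤ m' → Nn m' →+ Nn m) : Prop where
  θμ : ∀ m k a ha x, θ m (m + k) (Nat.le_add_right m k) (μ m k a ha x) = a • x
  θθ : ∀ m m' m'' (h : m ≤ m') (h' : m' ≤ m'') z, θ m m' h (θ m' m'' h' z) = θ m m'' (h.trans h') z
  μ0 : ∀ n a ha x, μ n 0 a ha x = a • x
  kill : ∀ n x, c n x = 0 → ∀ a ∈ I ^ n, a • x = 0

variable {θ}

theorem kill_of_le (D : GrData I ι ρ μ c) (T : TrData I μ c θ)
    (S' : Finset N) (hS' : (S' : Set N) ⊆ homogKer ι c)
    (hspan : Submodule.span (reesAlgebra I) (homogKer ι c) = Submodule.span (reesAlgebra I) (S' : Set N))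
    (d : ℕ) (hd : ∀ g ∈ S', ∃ m x, m ≤ d ∧ c m x = 0 ∧ ι m x = g)
    (n : ℕ) (z : Nn n) (hz : c n z = 0) (e : A) (he : e ∈ I ^ d) : e • z = 0 := by
  have hy : ι n z ∈ Submodule.span (reesAlgebra I) (S' : Set N) := by
    rw [← hspan]
    exact Submodule.subset_span ⟨n, z, hz, rfl⟩
  obtain ⟨f, -, hf⟩ := Submodule.mem_span_finset.1 hy
  have he0 : e ∈ I ^ 0 := by rw [pow_zero, Ideal.one_eq_top]; exact Submodule.mem_top
  have h1 : ι n (e • z) = mono I 0 e he0 • ι n z := by
    rw [D.act n 0 e he0 z, T.μ0]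
    rfl
  apply GrData.ι_injective I D n
  rw [h1, ← hf, Finset.smul_sum, map_zero]
  refine Finset.sum_eq_zero fun g hgS => ?_
  obtain ⟨m, x, hmd, hx, rfl⟩ := hd g hgS
  have h0 : mono I 0 e he0 • ι m x = 0 := by
    rw [D.act m 0 e he0 x, T.μ0, T.kill m x hx e (Ideal.pow_le_pow_right hmd he), map_zero]
  rw [smul_comm (mono I 0 e he0) (f (ι m x)) (ι m x), h0, smul_zero]

/-- the subgroup generated by products `μ m k e w` with `w` in the kernel of `c m` -/
def prodSub (μ : ∀ n k (a : A), a ∈ I ^ k → Nn n →+ Nn (n + k)) (c : ∀ n, Nn n →ₗ[A] H)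
    (m k : ℕ) : AddSubgroup (Nn (m + k)) :=
  AddSubgroup.closure {y | ∃ (e : A) (he : e ∈ I ^ k) (w : Nn m), c m w = 0 ∧ y = μ m k e he w}

theorem term_mem_prodSub (D : GrData I ι ρ μ c) (m0 i k : ℕ) (x : Nn m0) (hx : c m0 x = 0)
    (b : reesAlgebra I) :
    ρ (m0 + i + k) (b • ι m0 x) ∈ prodSub I μ c (m0 + i) k := by
  rw [GrData.smul_ι I D b m0 x, map_sum]
  refine AddSubgroup.sum_mem _ fun j _ => ?_
  by_cases hj : m0 + j = m0 + i + k
  · obtain rfl : j = i + k := by omega
    have key : ∀ (a : A) (ha : a ∈ I ^ i * I ^ k) (ha' : a ∈ I ^ (i + k)),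
        ρ (m0 + i + k) (ι (m0 + (i + k)) (μ m0 (i + k) a ha' x)) ∈ prodSub I μ c (m0 + i) k := by
      intro a ha
      refine Submodule.mul_induction_on' (C := fun a _ => ∀ (ha' : a ∈ I ^ (i + k)),
        ρ (m0 + i + k) (ι (m0 + (i + k)) (μ m0 (i + k) a ha' x)) ∈ prodSub I μ c (m0 + i) k)
        ?_ ?_ ha
      · intro r hr s hs ha'
        have e0 : mono I (i + k) (r * s) ha' = mono I k s hs * mono I i r hr := by
          apply Subtype.ext
          change monomial (i + k) (r * s) = monomial k s * monomial i r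
          rw [monomial_mul_monomial, mul_comm s r, add_comm k i]
        have e1 : ι (m0 + (i + k)) (μ m0 (i + k) (r * s) ha' x) =
            ι (m0 + i + k) (μ (m0 + i) k s hs (μ m0 i r hr x)) := by
          rw [← D.act m0 (i + k) (r * s) ha' x, e0, mul_smul, D.act m0 i r hr x,
            D.act (m0 + i) k s hs]
        rw [e1, D.ρι]
        refine AddSubgroup.subset_closure ⟨s, hs, μ m0 i r hr x, ?_, rfl⟩
        rw [D.cμ, hx, smul_zero]
      · intro a1 h1 a2 h2 ih1 ih2 ha'
        have h1' : a1 ∈ I ^ (i + k) := by rw [pow_add]; exact h1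
        have h2' : a2 ∈ I ^ (i + k) := by rw [pow_add]; exact h2
        have e1 : ι (m0 + (i + k)) (μ m0 (i + k) (a1 + a2) ha' x) =
            ι (m0 + (i + k)) (μ m0 (i + k) a1 h1' x) + ι (m0 + (i + k)) (μ m0 (i + k) a2 h2' x) := by
          rw [← D.act, ← D.act, ← D.act, ← add_smul, mono_add]
        rw [e1, map_add]
        exact add_mem (ih1 h1') (ih2 h2')
    exact key _ (by rw [← pow_add]; exact coeff_mem I b (i + k)) _
  · rw [D.ρι_ne (m0 + i + k) (m0 + j) _ (Ne.symm hj)]
    exact zero_mem _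

/-- **Mittag-Leffler**: the transition maps kill the kernels after a uniform shift. -/
theorem exists_trans_eq_zero (D : GrData I ι ρ μ c) (T : TrData I μ c θ) :
    ∃ c₀ : ℕ, ∀ (m m' : ℕ) (h : m + c₀ ≤ m') (z : Nn m'), c m' z = 0 →
      θ m m' ((Nat.le_add_right m c₀).trans h) z = 0 := by
  classical
  haveI : IsNoetherian (reesAlgebra I) N := isNoetherian_of_isNoetherianRing_of_finite _ _
  have hfg : (Submodule.span (reesAlgebra I) (homogKer ι c)).FG := IsNoetherian.noetherian _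
  obtain ⟨S', hS', hspan⟩ := (Submodule.fg_span_iff_fg_span_finset_subset _).1 hfg
  choose deg xg hg using fun g : S' => hS' g.2
  let d := Finset.univ.sup deg
  have hd : ∀ g ∈ S', ∃ m x, m ≤ d ∧ c m x = 0 ∧ ι m x = g := by
    intro g hgS
    exact ⟨deg ⟨g, hgS⟩, xg ⟨g, hgS⟩, Finset.le_sup (Finset.mem_univ _), (hg ⟨g, hgS⟩).1,
      (hg ⟨g, hgS⟩).2⟩
  have claim1 := kill_of_le I D T S' hS' hspan d hd
  -- the case of large `m`
  have claim2 : ∀ (m k : ℕ), d ≤ m → d ≤ k → ∀ z : Nn (m + k), c (m + k) z = 0 →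
      θ m (m + k) (Nat.le_add_right m k) z = 0 := by
    intro m k hm hk z hz
    have hy : ι (m + k) z ∈ Submodule.span (reesAlgebra I) (S' : Set N) := by
      rw [← hspan]
      exact Submodule.subset_span ⟨m + k, z, hz, rfl⟩
    obtain ⟨f, -, hf⟩ := Submodule.mem_span_finset.1 hy
    have hmem : z ∈ prodSub I μ c m k := by
      rw [← D.ρι (m + k) z, ← hf, map_sum]
      refine AddSubgroup.sum_mem _ fun g hgS => ?_
      obtain ⟨m0, x, hm0, hx, rfl⟩ := hd g hgS
      obtain ⟨i, rfl⟩ := Nat.exists_eq_add_of_le (hm0.trans hm)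
      exact term_mem_prodSub I D m0 i k x hx (f _)
    have hker : prodSub I μ c m k ≤ (θ m (m + k) (Nat.le_add_right m k)).ker := by
      rw [prodSub, AddSubgroup.closure_le]
      rintro _ ⟨e, he, w, hw, rfl⟩
      rw [SetLike.mem_coe, AddMonoidHom.mem_ker, T.θμ]
      exact claim1 m w hw e (Ideal.pow_le_pow_right hk he)
    exact hker hmem
  refine ⟨d + d, fun m m' h z hz => ?_⟩
  obtain ⟨k, rfl⟩ := Nat.exists_eq_add_of_le (show m + d ≤ m' by omega)
  have hk : d ≤ k := by omega
  rw [← T.θθ m (m + d) (m + d + k) (Nat.le_add_right m d) (Nat.le_add_right (m + d) k) z,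
    claim2 (m + d) k (Nat.le_add_left d m) hk z hz, map_zero]

end K2

end Groth.Agent.Lib.T2H9.FFRees
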