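import Groth.Agent.Lib.T2H9FFGeom6
import Groth.Agent.Lib.T2H9FFRees

set_option autoImplicit false
set_option linter.style.haveILetI false
set_option linter.unusedSectionVars false
set_option linter.unusedVariables false
universe u
open CategoryTheory AlgebraicGeometry Limits TopologicalSpace Opposite Polynomial

namespace Groth.Agent.Lib.T2H9.FFGeom

open Groth.Agent.Lib.Helper6 Groth.Agent.Helper13FlatMV Groth.Agent.Helper13PullbackUnit
  Groth.Agent.Helper13QcqsBC Groth.Agent.Lib.T2H9.FFBasis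

variable {A : Type u} [CommRing A] (I : Ideal A)
variable (X : Scheme.{u}) [X.Over (Spec (CommRingCat.of A))] (F : X.Modules)

/-- the action of `b ∈ B` on `π_* G` -/
noncomputable def βb (b : RB I) : MG I X F ⟶ MG I X F :=
  (CohTop.push (pB I X).base).map
    (Coh.smulAb (GB I X F) (Coh.toGlobal (XB I X ↘ Spec (CommRingCat.of (RB I))) b))

theorem resTop_toGlobal (U : X.Opens) (b : RB I) :
    Coh.resTop (XB I X) (op (VB I X U))
      (Coh.toGlobal (XB I X ↘ Spec (CommRingCat.of (RB I))) b) = βB I X U b := rfl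

theorem βb_app (b : RB I) (U : X.Opens) (g : Γ(GB I X F, VB I X U)) :
    (βb I X F b).hom.app (op U) g = ((βB I X U b : Γ(XB I X, VB I X U)) • g : Γ(GB I X F, VB I X U)) :=
  rfl

theorem gU_smul (U : X.Opens) (r : Γ(XB I X, VB I X U)) (g : Γ(GB I X F, VB I X U)) :
    gU I X F U (r • g) =
      (((hT I X).appLE (VB I X U) (WT I X U) le_rfl r : Γ(XT I X, WT I X U)) •
        (show Γ(ET I X F, WT I X U) from gU I X F U g) : Γ(ET I X F, WT I X U)) := by
  have h := Scheme.Modules.Hom.app_smul (GBι I X F) r g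
  refine h.trans ?_
  have e : (hT I X).appLE (VB I X U) (WT I X U) le_rfl = (hT I X).app (VB I X U) :=
    (Scheme.Hom.app_eq_appLE (hT I X)).symm
  rw [e]
  rfl

variable [F.IsQuasicoherent] [IsNoetherianRing A]

theorem jU_μmod (n k : ℕ) (a : A) (ha : a ∈ I ^ k) (U : X.Opens) (x : Γ(pwJ X F (I ^ n), U)) :
    jU X F (I ^ (n + k)) U ((μmod I X F n k a ha).app U x) = a • jU X F (I ^ n) U x := by
  have h := μmod_ι I X F n k a ha
  have h2 := congrArg (fun t : pwJ X F (I ^ n) ⟶ F => (t.app U).hom x) h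
  exact h2

/-- the action of the homogeneous elements of `B` on `π_* G` -/
theorem ιn_βb (n k : ℕ) (a : A) (ha : a ∈ I ^ k) :
    ιn I X F n ≫ βb I X F (FFRees.mono I k a ha) =
      (SheafOfModules.toSheaf X.ringCatSheaf).map (μmod I X F n k a ha) ≫ ιn I X F (n + k) := by
  apply hom_ext_affine
  intro U x
  change (βb I X F (FFRees.mono I k a ha)).hom.app (op U.1) ((ιn I X F n).hom.app (op U.1) x) =
    (ιn I X F (n + k)).hom.app (op U.1) ((μmod I X F n k a ha).app U.1 x)
  rw [ιn_app I X F n U.2, ιn_app I X F (n + k) U.2, βb_app]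
  apply gU_injective I X F U.1
  rw [gU_smul, hT_βB, gU_ιnApp, gU_ιnApp, jU_μmod, uU_smul]
  change (monomial k a : A[X]) • (((Polynomial.X : A[X]) ^ n) • uU I X F U.1 (jU X F (I ^ n) U.1 x)) = _
  rw [← mul_smul, ← mul_smul]
  congr 1
  rw [Polynomial.algebraMap_apply, Algebra.algebraMap_self_apply, ← Polynomial.C_mul_X_pow_eq_monomial,
    pow_add]
  ring

end Groth.Agent.Lib.T2H9.FFGeom
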