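import Groth.Agent.Lib.T2H9FFGeom7
import Groth.Agent.Lib.T2H5T2Les

set_option autoImplicit false
set_option linter.style.haveILetI false
set_option linter.unusedSectionVars false
set_option linter.unusedVariables false
universe u
open CategoryTheory AlgebraicGeometry Limits TopologicalSpace Opposite Polynomial

namespace Groth.Agent.Lib.T2H9.FFGeom

open Groth.Agent.Lib.T2H9.FFBasis Groth.Agent.Lib.T2H5.PushEdge Groth.Agent.Lib.T2H5.HHLes
  Groth.Agent.Lib.T2H5.T2Les

variable {A : Type u} [CommRing A] (I : Ideal A)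
variable (X : Scheme.{u}) [X.Over (Spec (CommRingCat.of A))] (F : X.Modules)

section general

theorem toSheaf_smulMod (M : X.Modules) (a : A) :
    (SheafOfModules.toSheaf X.ringCatSheaf).map (Formal.smulMod A M a) =
      Coh.smulAb M (Coh.toGlobal (X ↘ Spec (CommRingCat.of A)) a) := rfl

theorem Hmap_smulMod (M : X.Modules) (a : A) (p : ℕ) (x : Coh.HH X M p) :
    Sheaf.H.map ((SheafOfModules.toSheaf X.ringCatSheaf).map (Formal.smulMod A M a)) p x = a • x :=
  rfl

theorem HHmap_congr {M N : X.Modules} {φ ψ : M ⟶ N} (h : φ = ψ) (p : ℕ) (x : Coh.HH X M p) :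
    Sheaf.H.map ((SheafOfModules.toSheaf X.ringCatSheaf).map φ) p x =
      Sheaf.H.map ((SheafOfModules.toSheaf X.ringCatSheaf).map ψ) p x := by
  subst h
  rfl

theorem Hmap_zero {P Q : Sheaf (Opens.grothendieckTopology X) AddCommGrpCat.{u}} (p : ℕ)
    (x : Sheaf.H P p) : Sheaf.H.map (0 : P ⟶ Q) p x = 0 := by
  rw [Sheaf.H.map_apply, Abelian.Ext.mk₀_zero, Abelian.Ext.comp_zero]

/-- the short exact sequence `0 → J F → F → F / J F → 0` -/
noncomputable def SJ (J : Ideal A) : ShortComplex X.Modules :=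
  ShortComplex.mk (pwJι X F J) (cokernel.π (Formal.smulFamily J F)) (kernel.condition _)

theorem SJ_shortExact (J : Ideal A) : (SJ X F J).ShortExact := by
  haveI : Mono (SJ X F J).f := inferInstanceAs (Mono (pwJι X F J))
  haveI : Epi (SJ X F J).g := inferInstanceAs (Epi (cokernel.π (Formal.smulFamily J F)))
  exact ShortComplex.ShortExact.mk (ShortComplex.exact_of_f_is_kernel _ (kernelIsKernel _))

theorem smulMod_cokernel_eq_zero (J : Ideal A) (a : A) (ha : a ∈ J) :
    Formal.smulMod A (cokernel (Formal.smulFamily J F)) a = 0 := by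
  rw [← cancel_epi (cokernel.π (Formal.smulFamily J F)), ← Groth.Agent.S9530.smulMod_comp,
    smulMod_comp_cokernel X F J a ha, Limits.comp_zero]

/-- `J` kills the cohomology of `F / J F` -/
theorem smul_HH_cokernel (J : Ideal A) (a : A) (ha : a ∈ J) (p : ℕ)
    (y : Coh.HH X (cokernel (Formal.smulFamily J F)) p) : a • y = 0 := by
  rw [← Hmap_smulMod, smulMod_cokernel_eq_zero X F J a ha]
  have e : (SheafOfModules.toSheaf X.ringCatSheaf).map
      (0 : cokernel (Formal.smulFamily J F) ⟶ cokernel (Formal.smulFamily J F)) = 0 :=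
    Functor.map_zero _ _ _
  exact (congrArg (fun t => Sheaf.H.map t p y) e).trans (Hmap_zero X p y)

/-- `J` kills the kernel of `H^p(J F) → H^p(F)` -/
theorem smul_eq_zero_of_HHlin_eq_zero (J : Ideal A) (a : A) (ha : a ∈ J) (p : ℕ)
    (x : Coh.HH X (pwJ X F J) p) (hx : Canon.HHlin A (pwJι X F J) p x = 0) : a • x = 0 := by
  cases p with
  | zero =>
    have := injective_f_zero (A := A) (SJ X F J) (SJ_shortExact X F J)
    have h0 : x = 0 := this (hx.trans (map_zero _).symm)
    rw [h0, smul_zero]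
  | succ i =>
    have hx' : x ∈ LinearMap.ker (Canon.HHlin A (SJ X F J).f (i + 1)) := hx
    rw [exact₁ (A := A) (SJ X F J) (SJ_shortExact X F J) i] at hx'
    obtain ⟨y, rfl⟩ := hx'
    have : a • y = 0 := smul_HH_cokernel X F J a ha i y
    exact ((δLin (A := A) (SJ X F J) (SJ_shortExact X F J) i).map_smul a y).symm.trans
      ((congrArg _ this).trans (map_zero _))

end general

section coh

variable [hF : F.IsQuasicoherent] [IsNoetherianRing A] (p : ℕ)

/-- the edge isomorphism `H^p(X, π_* G) ≃ H^p(X_B, G)` -/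
noncomputable def edgeE : Sheaf.H (MG I X F) p ≃+ Coh.HH (XB I X) (GB I X F) p :=
  AddEquiv.ofBijective (edgeAb (pB I X).base (Coh.toAb (GB I X F)) p) (by
    haveI : (GB I X F).IsQuasicoherent := isQuasicoherent_GB I X hF
    rw [← pushEdge_eq]
    exact pushEdge_bijective_of_isAffineHom (pB I X) (GB I X F) p)

theorem edgeE_nat (b : RB I) (y : Sheaf.H (MG I X F) p) :
    edgeE I X F p (Sheaf.H.map (βb I X F b) p y) = b • edgeE I X F p y :=
  edgeAb_nat (pB I X).base
    (Coh.smulAb (GB I X F) (Coh.toGlobal (XB I X ↘ Spec (CommRingCat.of (RB I))) b)) p y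

/-- `H^p(X, I^n F) → H^p(X_B, G)` -/
noncomputable def ιH (n : ℕ) : Coh.HH X (pwJ X F (I ^ n)) p →+ Coh.HH (XB I X) (GB I X F) p :=
  (edgeE I X F p).toAddMonoidHom.comp (Sheaf.H.map (ιn I X F n) p)

/-- `H^p(X_B, G) → H^p(X, I^n F)` -/
noncomputable def ρH (n : ℕ) : Coh.HH (XB I X) (GB I X F) p →+ Coh.HH X (pwJ X F (I ^ n)) p :=
  (Sheaf.H.map (ρn I X F n) p).comp (edgeE I X F p).symm.toAddMonoidHom

/-- multiplication `H^p(X, I^n F) → H^p(X, I^(n+k) F)` by `a ∈ I^k` -/
noncomputable def μH (n k : ℕ) (a : A) (ha : a ∈ I ^ k) :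
    Coh.HH X (pwJ X F (I ^ n)) p →+ Coh.HH X (pwJ X F (I ^ (n + k))) p :=
  Sheaf.H.map ((SheafOfModules.toSheaf X.ringCatSheaf).map (μmod I X F n k a ha)) p

/-- `H^p(X, I^n F) → H^p(X, F)` -/
noncomputable def cH (n : ℕ) : Coh.HH X (pwJ X F (I ^ n)) p →ₗ[A] Coh.HH X F p :=
  Canon.HHlin A (pwJι X F (I ^ n)) p

/-- `H^p(X, I^m' F) → H^p(X, I^m F)` -/
noncomputable def θH (m m' : ℕ) (h : m ≤ m') :
    Coh.HH X (pwJ X F (I ^ m')) p →+ Coh.HH X (pwJ X F (I ^ m)) p :=
  Sheaf.H.map ((SheafOfModules.toSheaf X.ringCatSheaf).map (θmod I X F m m' h)) p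

theorem grData : FFRees.GrData I (ιH I X F p) (ρH I X F p) (μH I X F p) (cH I X F p) where
  ρι n x := by
    change Sheaf.H.map (ρn I X F n) p ((edgeE I X F p).symm (edgeE I X F p
      (Sheaf.H.map (ιn I X F n) p x))) = x
    rw [AddEquiv.symm_apply_apply, ← Sheaf.H.map_comp_apply, ιn_ρn, Sheaf.H.map_id_apply]
  ρι_ne m n x hmn := by
    change Sheaf.H.map (ρn I X F m) p ((edgeE I X F p).symm (edgeE I X F p
      (Sheaf.H.map (ιn I X F n) p x))) = 0
    rw [AddEquiv.symm_apply_apply, ← Sheaf.H.map_comp_apply, ιn_ρn_ne I X F m n hmn, Hmap_zero]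
  act n k a ha x := by
    change FFRees.mono I k a ha • edgeE I X F p (Sheaf.H.map (ιn I X F n) p x) =
      edgeE I X F p (Sheaf.H.map (ιn I X F (n + k)) p
        (Sheaf.H.map ((SheafOfModules.toSheaf X.ringCatSheaf).map (μmod I X F n k a ha)) p x))
    rw [← edgeE_nat, ← Sheaf.H.map_comp_apply, ← Sheaf.H.map_comp_apply, ιn_βb]
  cμ n k a ha x := by
    change Sheaf.H.map ((SheafOfModules.toSheaf X.ringCatSheaf).map (pwJι X F (I ^ (n + k)))) p
      (Sheaf.H.map ((SheafOfModules.toSheaf X.ringCatSheaf).map (μmod I X F n k a ha)) p x) =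
      a • Sheaf.H.map ((SheafOfModules.toSheaf X.ringCatSheaf).map (pwJι X F (I ^ n))) p x
    refine (Formal.HHmap_comp _ _ p x).trans ?_
    refine (HHmap_congr X (μmod_ι I X F n k a ha) p x).trans ?_
    exact (Formal.HHmap_comp _ _ p x).symm

theorem trData : FFRees.TrData I (μH I X F p) (cH I X F p) (θH I X F p) where
  θμ m k a ha x := by
    change Sheaf.H.map ((SheafOfModules.toSheaf X.ringCatSheaf).map
        (θmod I X F m (m + k) (Nat.le_add_right m k))) p
      (Sheaf.H.map ((SheafOfModules.toSheaf X.ringCatSheaf).map (μmod I X F m k a ha)) p x) = a • x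
    refine (Formal.HHmap_comp _ _ p x).trans ?_
    exact HHmap_congr X (μmod_θmod I X F m k a ha) p x
  θθ m m' m'' h h' z := by
    change Sheaf.H.map ((SheafOfModules.toSheaf X.ringCatSheaf).map (θmod I X F m m' h)) p
      (Sheaf.H.map ((SheafOfModules.toSheaf X.ringCatSheaf).map (θmod I X F m' m'' h')) p z) =
      Sheaf.H.map ((SheafOfModules.toSheaf X.ringCatSheaf).map (θmod I X F m m'' (h.trans h'))) p z
    refine (Formal.HHmap_comp _ _ p z).trans ?_
    exact HHmap_congr X (θmod_θmod I X F m m' m'' h h') p z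
  μ0 n a ha x := by
    change Sheaf.H.map ((SheafOfModules.toSheaf X.ringCatSheaf).map (μmod I X F n 0 a ha)) p x =
      a • x
    exact HHmap_congr X (μmod_zero I X F n a ha) p x
  kill n x hx a ha := smul_eq_zero_of_HHlin_eq_zero X F (I ^ n) a ha p x hx

end coh

section main

variable [IsNoetherianRing A] [IsProper (X ↘ Spec (CommRingCat.of A))]

/-- the filtration `range (H^p(I^n F) → H^p(F))` is `I`-stable -/
theorem exists_range_cH_succ_le (hF : Coh.IsCoh F) (p : ℕ) :
    haveI := hF.1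
    ∃ d : ℕ, ∀ n, d ≤ n →
      LinearMap.range (cH I X F p (n + 1)) ≤
        (I • LinearMap.range (cH I X F p n) : Submodule A (Coh.HH X F p)) := by
  haveI := hF.1
  haveI : Module.Finite (reesAlgebra I) (Coh.HH (XB I X) (GB I X F) p) := finite_HH_GB I X hF p
  exact FFRees.exists_range_succ_le I (grData I X F p)

/-- the inclusions kill `ker (H^p(I^m' F) → H^p(F))` after a uniform shift -/
theorem exists_θH_eq_zero (hF : Coh.IsCoh F) (p : ℕ) :
    haveI := hF.1
    ∃ c₀ : ℕ, ∀ (m m' : ℕ) (h : m + c₀ ≤ m') (z : Coh.HH X (pwJ X F (I ^ m')) p),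
      cH I X F p m' z = 0 → θH I X F p m m' ((Nat.le_add_right m c₀).trans h) z = 0 := by
  haveI := hF.1
  haveI : Module.Finite (reesAlgebra I) (Coh.HH (XB I X) (GB I X F) p) := finite_HH_GB I X hF p
  exact FFRees.exists_trans_eq_zero I (grData I X F p) (trData I X F p)

end main

end Groth.Agent.Lib.T2H9.FFGeom
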