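import Groth.Agent.Lib.T2H9FFRees

/-!
# Formal functions: images of the inclusions `I^(n+m) F → I^n F` on cohomology (helper9)
-/

set_option autoImplicit false
set_option linter.unusedSectionVars false
set_option linter.style.haveILetI false
universe u

namespace Groth.Agent.Lib.T2H9.FFRees

open Polynomial

variable {A : Type u} [CommRing A] (I : Ideal A)
variable {N : Type u} [AddCommGroup N] [Module (reesAlgebra I) N]
variable {Nn : ℕ → Type u} [∀ n, AddCommGroup (Nn n)] [∀ n, Module A (Nn n)]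
variable {H : Type u} [AddCommGroup H] [Module A H]
variable {ι : ∀ n, Nn n →+ N} {ρ : ∀ n, N →+ Nn n}
  {μ : ∀ n k (a : A), a ∈ I ^ k → Nn n →+ Nn (n + k)} {c : ∀ n, Nn n →ₗ[A] H}
  {θ : ∀ m m' : ℕ, m ≤ m' → Nn m' →+ Nn m}

/-- the case `j ≤ n` -/
theorem θ_prod_mem (D : GrData I ι ρ μ c) (T : TrData I μ c θ) (j i m : ℕ) (x : Nn j)
    (a : A) (ha : a ∈ I ^ (i + m)) :
    θ (j + i) (j + i + m) (Nat.le_add_right _ _)
      (ρ (j + i + m) (ι (j + (i + m)) (μ j (i + m) a ha x))) ∈
      (I ^ m • ⊤ : Submodule A (Nn (j + i))) := by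
  have key : ∀ (a : A) (ha : a ∈ I ^ i * I ^ m) (ha' : a ∈ I ^ (i + m)),
      θ (j + i) (j + i + m) (Nat.le_add_right _ _)
        (ρ (j + i + m) (ι (j + (i + m)) (μ j (i + m) a ha' x))) ∈
        (I ^ m • ⊤ : Submodule A (Nn (j + i))) := by
    intro a ha
    refine Submodule.mul_induction_on' (C := fun a _ => ∀ (ha' : a ∈ I ^ (i + m)),
      θ (j + i) (j + i + m) (Nat.le_add_right _ _)
        (ρ (j + i + m) (ι (j + (i + m)) (μ j (i + m) a ha' x))) ∈
        (I ^ m • ⊤ : Submodule A (Nn (j + i)))) ?_ ?_ ha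
    · intro r hr s hs ha'
      have e0 : mono I (i + m) (r * s) ha' = mono I m s hs * mono I i r hr := by
        apply Subtype.ext
        change monomial (i + m) (r * s) = monomial m s * monomial i r
        rw [monomial_mul_monomial, mul_comm s r, add_comm m i]
      have e1 : ι (j + (i + m)) (μ j (i + m) (r * s) ha' x) =
          ι (j + i + m) (μ (j + i) m s hs (μ j i r hr x)) := by
        rw [← D.act j (i + m) (r * s) ha' x, e0, mul_smul, D.act j i r hr x,
          D.act (j + i) m s hs]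
      rw [e1, D.ρι, T.θμ]
      exact Submodule.smul_mem_smul hs Submodule.mem_top
    · intro a1 h1 a2 h2 ih1 ih2 ha'
      have h1' : a1 ∈ I ^ (i + m) := by rw [pow_add]; exact h1
      have h2' : a2 ∈ I ^ (i + m) := by rw [pow_add]; exact h2
      have e1 : ι (j + (i + m)) (μ j (i + m) (a1 + a2) ha' x) =
          ι (j + (i + m)) (μ j (i + m) a1 h1' x) + ι (j + (i + m)) (μ j (i + m) a2 h2' x) := by
        rw [← D.act, ← D.act, ← D.act, ← add_smul, mono_add]
      rw [e1, map_add, map_add]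
      exact add_mem (ih1 h1') (ih2 h2')
  exact key a (by rw [← pow_add]; exact ha) ha

/-- the case `n ≤ j` -/
theorem θ_mu_mem (D : GrData I ι ρ μ c) (T : TrData I μ c θ)
    (hθ : ∀ (m m' : ℕ) (h : m ≤ m') (a : A) (z : Nn m'), θ m m' h (a • z) = a • θ m m' h z)
    (n j k : ℕ) (hnj : n ≤ j) (x : Nn j) (a : A) (ha : a ∈ I ^ k) :
    θ n (j + k) (hnj.trans (Nat.le_add_right _ _)) (ρ (j + k) (ι (j + k) (μ j k a ha x))) ∈
      (I ^ k • ⊤ : Submodule A (Nn n)) := by
  rw [D.ρι, ← T.θθ n j (j + k) hnj (Nat.le_add_right _ _), T.θμ, hθ]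
  exact Submodule.smul_mem_smul ha Submodule.mem_top

theorem θ_term_mem (D : GrData I ι ρ μ c) (T : TrData I μ c θ)
    (hθ : ∀ (m m' : ℕ) (h : m ≤ m') (a : A) (z : Nn m'), θ m m' h (a • z) = a • θ m m' h z)
    (j : ℕ) (x : Nn j) (b : reesAlgebra I) (n t : ℕ) (hnt : n ≤ t) (q : ℕ)
    (hq : q ≤ t - max n j) :
    θ n t hnt (ρ t (b • ι j x)) ∈ (I ^ q • ⊤ : Submodule A (Nn n)) := by
  rw [GrData.smul_ι I D b j x, map_sum, map_sum]
  refine Submodule.sum_mem _ fun k _ => ?_
  by_cases hk : j + k = t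
  · subst hk
    rcases le_total j n with hjn | hnj
    · -- `j ≤ n`
      obtain ⟨i, rfl⟩ := Nat.exists_eq_add_of_le hjn
      obtain ⟨m, rfl⟩ : ∃ m, k = i + m := Nat.exists_eq_add_of_le (by omega)
      have hqm : q ≤ m := by
        have : max (j + i) j = j + i := max_eq_left (Nat.le_add_right _ _)
        rw [this] at hq
        omega
      have h1 := θ_prod_mem I D T j i m x _ (coeff_mem I b (i + m))
      have key : ∀ (t' : ℕ) (ht' : j + (i + m) = t') (hnt' : j + i ≤ t'),
          θ (j + i) t' hnt' (ρ t' (ι (j + (i + m))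
            (μ j (i + m) ((b : A[X]).coeff (i + m)) (coeff_mem I b (i + m)) x))) ∈
          (I ^ m • ⊤ : Submodule A (Nn (j + i))) := by
        intro t' ht' hnt'
        have e : t' = j + i + m := by omega
        subst e
        exact h1
      exact Submodule.smul_mono (Ideal.pow_le_pow_right hqm) le_rfl (key _ rfl hnt)
    · -- `n ≤ j`
      have hqk : q ≤ k := by
        have : max n j = j := max_eq_right hnj
        rw [this] at hq
        omega
      exact Submodule.smul_mono (Ideal.pow_le_pow_right hqk) le_rfl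
        (θ_mu_mem I D T hθ n j k hnj x _ (coeff_mem I b k))
  · rw [D.ρι_ne t (j + k) _ (Ne.symm hk), map_zero]
    exact zero_mem _

section K3

variable [IsNoetherianRing A] [Module.Finite (reesAlgebra I) N]

/-- the image of `θ n (n+m)` is contained in `I^(m - (c - n)) • ⊤` for `n + m ≥ c` -/
theorem exists_range_θ_le (D : GrData I ι ρ μ c) (T : TrData I μ c θ)
    (hθ : ∀ (m m' : ℕ) (h : m ≤ m') (a : A) (z : Nn m'), θ m m' h (a • z) = a • θ m m' h z) :
    ∃ d : ℕ, ∀ (n m : ℕ), d ≤ n + m → ∀ z : Nn (n + m),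
      θ n (n + m) (Nat.le_add_right n m) z ∈ (I ^ (m - (d - n)) • ⊤ : Submodule A (Nn n)) := by
  classical
  haveI : IsNoetherian (reesAlgebra I) N := isNoetherian_of_isNoetherianRing_of_finite _ _
  have hfg : (Submodule.span (reesAlgebra I) (homog ι)).FG := IsNoetherian.noetherian _
  obtain ⟨S', hS', hspan⟩ := (Submodule.fg_span_iff_fg_span_finset_subset _).1 hfg
  choose deg xg hg using fun g : S' => hS' g.2
  refine ⟨Finset.univ.sup deg, fun n m hnm z => ?_⟩
  have hy : ι (n + m) z ∈ Submodule.span (reesAlgebra I) (S' : Set N) := by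
    rw [← hspan]
    exact Submodule.subset_span ⟨n + m, z, rfl⟩
  obtain ⟨f, -, hf⟩ := Submodule.mem_span_finset.1 hy
  rw [← D.ρι (n + m) z, ← hf, map_sum, map_sum]
  refine Submodule.sum_mem _ fun g hgS => ?_
  have hdeg : deg ⟨g, hgS⟩ ≤ Finset.univ.sup deg := Finset.le_sup (Finset.mem_univ _)
  have := θ_term_mem I D T hθ (deg ⟨g, hgS⟩) (xg ⟨g, hgS⟩) (f g) n (n + m) (Nat.le_add_right n m)
    (m - (Finset.univ.sup deg - n)) (by
      rcases le_total n (deg ⟨g, hgS⟩) with h | h
      · rw [max_eq_right h]; omega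
      · rw [max_eq_left h]; omega)
  rw [hg ⟨g, hgS⟩] at this
  exact this

end K3

end Groth.Agent.Lib.T2H9.FFRees
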