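import Groth.Agent.Lib.T2H9FFGeom8
import Groth.Agent.Lib.T2H9FFRees2
import Groth.Prelude.Def_Formal2

/-!
# Images of `H^p(X, I^(n+m)F) → H^p(X, I^n F)` (helper9)
-/

set_option autoImplicit false
set_option linter.style.haveILetI false
set_option linter.unusedSectionVars false
set_option linter.unusedVariables false
universe u
open CategoryTheory AlgebraicGeometry Limits TopologicalSpace Opposite

namespace Groth.Agent.Lib.T2H9.FFPow

open Groth.Agent.Lib.T2H9.FFGeom

variable {A : Type u} [CommRing A] (I : Ideal A)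
variable (X : Scheme.{u}) [X.Over (Spec (CommRingCat.of A))] (F : X.Modules)

theorem θH_smul [F.IsQuasicoherent] [IsNoetherianRing A] (p m m' : ℕ) (h : m ≤ m') (a : A)
    (z : Coh.HH X (pwJ X F (I ^ m')) p) :
    θH I X F p m m' h (a • z) = a • θH I X F p m m' h z :=
  (Canon.HHlin A (θmod I X F m m' h) p).map_smul a z

theorem idealPowIncl_eq {m n : ℕ} (h : m ≤ n) :
    Formal2.idealPowIncl I h F = θmod I X F m n h := rfl

/-- S0853 -/
theorem image_bound [IsNoetherianRing A] [IsProper (X ↘ Spec (CommRingCat.of A))]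
    (hF : Coh.IsCoh F) (p : ℕ) :
    ∃ c : ℕ, ∀ (n m : ℕ), c ≤ n + m →
      Set.range (Sheaf.H.map ((SheafOfModules.toSheaf _).map
        (Formal2.idealPowIncl I (Nat.le_add_right n m) F)) p) ⊆
        SetLike.coe (I ^ (m - (c - n)) •
          (⊤ : Submodule A (Coh.HH X (Formal2.idealPowMod I n F) p))) := by
  haveI := hF.1
  haveI : Module.Finite (reesAlgebra I) (Coh.HH (XB I X) (GB I X F) p) := finite_HH_GB I X hF p
  obtain ⟨d, hd⟩ := FFRees.exists_range_θ_le I (grData I X F p) (trData I X F p)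
    (θH_smul I X F p)
  refine ⟨d, fun n m hnm => ?_⟩
  rintro _ ⟨z, rfl⟩
  exact hd n m hnm z

theorem idealPowModι_eq (n : ℕ) :
    Formal2.idealPowModι I n F = pwJι X F (I ^ n) := rfl

theorem cH_θH [F.IsQuasicoherent] (p m m' : ℕ) (h : m ≤ m')
    (z : Coh.HH X (pwJ X F (I ^ m')) p) :
    cH I X F p m (θH I X F p m m' h z) = cH I X F p m' z := by
  change Sheaf.H.map ((SheafOfModules.toSheaf X.ringCatSheaf).map (pwJι X F (I ^ m))) p
      (Sheaf.H.map ((SheafOfModules.toSheaf X.ringCatSheaf).map (θmod I X F m m' h)) p z) =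
    Sheaf.H.map ((SheafOfModules.toSheaf X.ringCatSheaf).map (pwJι X F (I ^ m'))) p z
  refine (Formal.HHmap_comp _ _ p z).trans ?_
  exact HHmap_congr X (pwJle_ι X F (Ideal.pow_le_pow_right h)) p z

/-- S0837 -/
theorem kernel_stabilizes [IsNoetherianRing A] [IsProper (X ↘ Spec (CommRingCat.of A))]
    (hF : Coh.IsCoh F) (p : ℕ) :
    ∃ c : ℕ, ∀ (n : ℕ) (h : c ≤ n),
      (Sheaf.H.map ((SheafOfModules.toSheaf _).map (Formal2.idealPowModι I n F)) p).ker =
        (Sheaf.H.map ((SheafOfModules.toSheaf _).map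
          (Formal2.idealPowIncl I (Nat.sub_le n c) F)) p).ker := by
  haveI := hF.1
  obtain ⟨c₀, hc₀⟩ := exists_θH_eq_zero I X F hF p
  refine ⟨c₀, fun n h => ?_⟩
  ext z
  constructor
  · intro hz
    have h1 : n - c₀ + c₀ ≤ n := by omega
    exact hc₀ (n - c₀) n h1 z hz
  · intro hz
    have h2 := cH_θH I X F p (n - c₀) n (Nat.sub_le n c₀) z
    have h3 : θH I X F p (n - c₀) n (Nat.sub_le n c₀) z = 0 := hz
    rw [h3, map_zero] at h2
    exact h2.symm

end Groth.Agent.Lib.T2H9.FFPow
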