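import Groth.Agent.Lib.T2H9SteinNormal
import Groth.Agent.Lib.T2H9NormFF

set_option autoImplicit false
set_option linter.style.haveILetI false
set_option linter.unusedSectionVars false
set_option linter.unusedVariables false
universe u
open CategoryTheory AlgebraicGeometry Limits TopologicalSpace Opposite

namespace Groth.Agent.Lib.T2H9.FibAlgCl

variable {X Y : Scheme.{u}} [IsIntegral X] [IsIntegral Y] (f : X ⟶ Y)
  (hdom : f.base (genericPoint X) ⤳ genericPoint Y)

open Groth.Agent.Lib.T2H9.SteinNormal

include hdom in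
/-- for a fibration from a normal integral scheme, `K(Y)` is algebraically closed in `K(X)` -/
theorem mem_range_of_isIntegralElem (hX : Pi1.IsNormalScheme X)
    (hfib : ∀ U : Y.Opens, IsIso (f.app U)) (x : X.functionField)
    (hx : (CohIII.stalkToFunctionField f (genericPoint Y) hdom).IsIntegralElem x) :
    x ∈ (CohIII.stalkToFunctionField f (genericPoint Y) hdom).range := by
  let φ := CohIII.stalkToFunctionField f (genericPoint Y) hdom
  obtain ⟨U, hU, hyU, -⟩ := exists_isAffineOpen_mem_and_subset (x := genericPoint Y) (U := ⊤) trivial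
  haveI hneU : Nonempty U := ⟨⟨genericPoint Y, hyU⟩⟩
  haveI hneV : Nonempty (f ⁻¹ᵁ U) := nonempty_preimage f hdom U
  haveI := functionField_isFractionRing_of_isAffineOpen Y U hU
  haveI : IsDomain Γ(Y, U) := IsIntegral.component_integral U
  letI a1 : Algebra Y.functionField X.functionField := φ.toAlgebra
  letI a2 : Algebra Γ(Y, U) X.functionField :=
    (φ.comp (algebraMap Γ(Y, U) Y.functionField)).toAlgebra
  haveI : IsScalarTower Γ(Y, U) Y.functionField X.functionField :=
    IsScalarTower.of_algebraMap_eq (fun _ => rfl)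
  have hx' : IsIntegral Y.functionField x := hx
  obtain ⟨m, hm⟩ := IsIntegral.exists_multiple_integral_of_isLocalization
    (nonZeroDivisors Γ(Y, U)) x hx'
  -- `m • x` is integral over `Γ(X, f⁻¹U)`
  have hcomp : ∀ r : Γ(Y, U), algebraMap Γ(Y, U) X.functionField r =
      (X.germToFunctionField (f ⁻¹ᵁ U)).hom ((f.app U).hom r) := by
    intro r
    exact (germ_app f hdom U r).symm
  have hint : (X.germToFunctionField (f ⁻¹ᵁ U)).hom.IsIntegralElem (m • x) := by
    obtain ⟨p, hp, hpx⟩ := hm
    refine ⟨p.map (f.app U).hom, hp.map _, ?_⟩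
    rw [Polynomial.eval₂_map]
    have : (X.germToFunctionField (f ⁻¹ᵁ U)).hom.comp (f.app U).hom =
        algebraMap Γ(Y, U) X.functionField := RingHom.ext fun r => (hcomp r).symm
    rw [this]
    exact hpx
  obtain ⟨s, hs⟩ := Groth.Agent.Lib.T2H9.NormFF.exists_section_of_isIntegralElem hX (f ⁻¹ᵁ U)
    (m • x) hint
  haveI := hfib U
  obtain ⟨s₀, rfl⟩ := (ConcreteCategory.bijective_of_isIso (f.app U)).2 s
  have hs' : φ (algebraMap Γ(Y, U) Y.functionField s₀) = m • x := by
    rw [← hs]
    exact (hcomp s₀)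
  have hm0 : algebraMap Γ(Y, U) Y.functionField (m : Γ(Y, U)) ≠ 0 := by
    intro h0
    exact nonZeroDivisors.ne_zero m.2
      (IsFractionRing.injective Γ(Y, U) Y.functionField (h0.trans (map_zero _).symm))
  refine ⟨algebraMap Γ(Y, U) Y.functionField s₀ / algebraMap Γ(Y, U) Y.functionField (m : Γ(Y, U)), ?_⟩
  rw [map_div₀]
  change φ _ / φ _ = x
  rw [hs']
  have hmx : m • x = φ (algebraMap Γ(Y, U) Y.functionField (m : Γ(Y, U))) * x := by
    rw [Submonoid.smul_def, Algebra.smul_def]
    rfl
  rw [hmx, mul_div_cancel_left₀]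
  exact fun h => hm0 (φ.injective (h.trans (map_zero _).symm))

end Groth.Agent.Lib.T2H9.FibAlgCl
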