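import Mathlib
import Groth.Prelude.Def_CInt
import Groth.Agent.Lib.Helper4DimFormulaAO

/-!
# Relative codimension along a surjective morphism (helper9)
-/

set_option autoImplicit false
set_option linter.style.haveILetI false
universe u

open AlgebraicGeometry CategoryTheory TopologicalSpace IsLocalRing

namespace Groth.Agent.Lib.T2H9.FibCodim

open Groth.Agent.Lib.Helper4.DimFormula

section Ring

/-- `dim B/m₀B ≤ dim A/m₀A + dim B/m_A B` for local homomorphisms `A₀ → A → B`. -/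
theorem ringKrullDim_quotient_map_comp_le {A₀ A B : Type*} [CommRing A₀] [CommRing A] [CommRing B]
    [IsLocalRing A₀] [IsLocalRing A] [IsLocalRing B] [IsNoetherianRing A] [IsNoetherianRing B]
    (φ₀ : A₀ →+* A) (φ : A →+* B) [IsLocalHom φ₀] [IsLocalHom φ] :
    ringKrullDim (B ⧸ (maximalIdeal A₀).map (φ.comp φ₀)) ≤
      ringKrullDim (A ⧸ (maximalIdeal A₀).map φ₀) + ringKrullDim (B ⧸ (maximalIdeal A).map φ) := by
  set I₀ : Ideal A := (maximalIdeal A₀).map φ₀ with hI₀
  set J₀ : Ideal B := (maximalIdeal A₀).map (φ.comp φ₀) with hJ₀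
  have hJ₀' : J₀ = I₀.map φ := by rw [hJ₀, hI₀, Ideal.map_map]
  have hI₀le : I₀ ≤ maximalIdeal A := by
    rw [hI₀, Ideal.map_le_iff_le_comap]
    have hc : (maximalIdeal A).comap φ₀ = maximalIdeal A₀ :=
      ((IsLocalRing.local_hom_TFAE φ₀).out 0 4).mp ‹IsLocalHom φ₀›
    exact hc.ge
  have hmA : (maximalIdeal A).map φ ≤ maximalIdeal B := by
    rw [Ideal.map_le_iff_le_comap]
    have hc : (maximalIdeal B).comap φ = maximalIdeal A :=
      ((IsLocalRing.local_hom_TFAE φ).out 0 4).mp ‹IsLocalHom φ›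
    exact hc.ge
  have hJ₀le : J₀ ≤ (maximalIdeal A).map φ := by
    rw [hJ₀']
    exact Ideal.map_mono hI₀le
  have hne : J₀ ≠ ⊤ := fun h =>
    (maximalIdeal.isMaximal B).ne_top (top_le_iff.mp (h ▸ hJ₀le.trans hmA))
  haveI : IsLocalRing (B ⧸ J₀) := Groth.Agent.Lib.Helper5.isLocalRing_quotient hne
  let ψ : A →+* B ⧸ J₀ := (Ideal.Quotient.mk J₀).comp φ
  haveI : IsLocalHom ψ := by
    refine ⟨fun a ha => ?_⟩
    by_contra hnu
    have ha' : a ∈ maximalIdeal A := (IsLocalRing.mem_maximalIdeal a).mpr hnu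
    have h1 : φ a ∈ maximalIdeal B := hmA (Ideal.mem_map_of_mem φ ha')
    have h2 : ψ a ∈ maximalIdeal (B ⧸ J₀) := by
      rw [Groth.Agent.Lib.Helper5.maximalIdeal_quotient_eq_map]
      exact Ideal.mem_map_of_mem _ h1
    exact (IsLocalRing.mem_maximalIdeal _).mp h2 ha
  have hker : I₀ ≤ RingHom.ker ψ := by
    intro a ha
    rw [RingHom.mem_ker]
    change Ideal.Quotient.mk J₀ (φ a) = 0
    rw [Ideal.Quotient.eq_zero_iff_mem, hJ₀']
    exact Ideal.mem_map_of_mem φ ha
  have h := ringKrullDim_le_add_quotient_map_of_le_ker ψ I₀ hker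
  refine h.trans (add_le_add le_rfl (le_of_eq ?_))
  have hmap : (maximalIdeal A).map ψ = ((maximalIdeal A).map φ).map (Ideal.Quotient.mk J₀) := by
    rw [Ideal.map_map]
  rw [hmap]
  have e := DoubleQuot.quotQuotEquivQuotSup J₀ ((maximalIdeal A).map φ)
  rw [ringKrullDim_eq_of_ringEquiv e, sup_eq_right.mpr hJ₀le]

end Ring

section Sch

open Order

/-- A nonempty scheme has a point whose local ring has dimension zero. -/
theorem exists_stalk_dim_zero (Z : Scheme.{u}) [Nonempty Z] :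
    ∃ z : Z, ringKrullDim (Z.presheaf.stalk z) = 0 := by
  obtain ⟨z₀⟩ := ‹Nonempty Z›
  obtain ⟨C, hC, -⟩ := exists_mem_irreducibleComponents_subset_of_isIrreducible
    ({z₀} : Set Z) isIrreducible_singleton
  obtain ⟨ζ, hζ⟩ := QuasiSober.sober hC.1 (isClosed_of_mem_irreducibleComponents C hC)
  refine ⟨ζ, ?_⟩
  rw [ringKrullDim_stalk_eq_coheight]
  have : coheight ζ = 0 := by
    rw [coheight_eq_zero]
    intro b hb
    have hb' : b ⤳ ζ := Scheme.le_iff_specializes.mp hb
    have h1 : C ⊆ closure ({b} : Set Z) := by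
      rw [← hζ.def]
      exact closure_minimal (Set.singleton_subset_iff.mpr (specializes_iff_mem_closure.mp hb'))
        isClosed_closure
    have h2 : closure ({b} : Set Z) ⊆ C := hC.2 isIrreducible_singleton.closure h1
    have h3 : b ∈ C := h2 (subset_closure rfl)
    exact Scheme.le_iff_specializes.mpr (hζ.specializes h3)
  rw [this]
  rfl

variable {X X' S : Scheme.{u}}

theorem fibStalkDim_comp_le_add [IsLocallyNoetherian X] [IsLocallyNoetherian X'] (f : X ⟶ S)
    (g : X' ⟶ X) (y' : X') :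
    fibStalkDim (g ≫ f) y' ≤ fibStalkDim f (g.base y') + fibStalkDim g y' := by
  unfold fibStalkDim
  have hcomp : ((g ≫ f).stalkMap y').hom =
      (g.stalkMap y').hom.comp (f.stalkMap (g.base y')).hom := by
    rw [Scheme.Hom.stalkMap_comp]
    rfl
  have h := ringKrullDim_quotient_map_comp_le (f.stalkMap (g.base y')).hom (g.stalkMap y').hom
  rw [← hcomp] at h
  exact h

/-- If `g` is surjective then over every point there is a point at which the fibre of `g` has
a zero-dimensional local ring. -/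
theorem exists_fibStalkDim_eq_zero (g : X' ⟶ X) [Surjective g] (y : X) :
    ∃ y' : X', g.base y' = y ∧ fibStalkDim g y' = 0 := by
  obtain ⟨y₀, hy₀⟩ := g.surjective y
  haveI : Nonempty ↥(g.fiber y) := ⟨(g.fiberHomeo y).symm ⟨y₀, hy₀⟩⟩
  obtain ⟨w, hw⟩ := exists_stalk_dim_zero (g.fiber y)
  refine ⟨g.fiberι y w, (g.fiberHomeo y w).2, ?_⟩
  rw [← ringKrullDim_stalk_fiber_eq_fibStalkDim g y w, hw]

theorem main [IsLocallyNoetherian X] [IsLocallyNoetherian X'] (f : X ⟶ S) (g : X' ⟶ X)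
    [Surjective g] (Y : Set ↥X) :
    (⨅ y' : (fun x' => g x') ⁻¹' Y, ringKrullDim ↑(CInt.fiberStalk (g ≫ f) y'.1)) ≤
      ⨅ y : Y, ringKrullDim ↑(CInt.fiberStalk f y.1) := by
  refine le_iInf fun y => ?_
  obtain ⟨y', hy', h0⟩ := exists_fibStalkDim_eq_zero g y.1
  have hmem : y' ∈ (fun x' => g x') ⁻¹' Y := by
    change g.base y' ∈ Y
    rw [hy']
    exact y.2
  refine iInf_le_of_le ⟨y', hmem⟩ ?_
  change ringKrullDim (((g ≫ f).fiber ((g ≫ f).base y')).presheaf.stalk ((g ≫ f).asFiber y')) ≤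
    ringKrullDim ((f.fiber (f.base y.1)).presheaf.stalk (f.asFiber y.1))
  rw [ringKrullDim_stalk_asFiber, ringKrullDim_stalk_asFiber]
  have h := fibStalkDim_comp_le_add f g y'
  rw [h0, add_zero, hy'] at h
  exact h

end Sch

end Groth.Agent.Lib.T2H9.FibCodim
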