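import Mathlib
import Groth.Prelude.Def_CInt
import Groth.Agent.Lib.T2H9FibCodim
import Groth.Agent.Lib.Helper28FlatNormal

/-!
# Relative codimension under base change (helper9)
-/

set_option autoImplicit false
set_option linter.style.haveILetI false
universe u

open AlgebraicGeometry CategoryTheory CategoryTheory.Limits TopologicalSpace IsLocalRing

namespace Groth.Agent.Lib.T2H9.FibCodimBC

open Groth.Agent.Lib.Helper4.DimFormula Groth.Agent.Lib.T2H9.FibCodim

variable {X S S' X' : Scheme.{u}} {f : X ⟶ S} {g : S' ⟶ S} {p : X' ⟶ X} {f' : X' ⟶ S'}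

/-- Stalks of fibres of a morphism from a locally Noetherian scheme are Noetherian. -/
theorem isNoetherianRing_stalk_fiber [IsLocallyNoetherian X] (f : X ⟶ S) (s : S) (z : f.fiber s) :
    IsNoetherianRing ((f.fiber s).presheaf.stalk z) :=
  isNoetherianRing_of_surjective _ _ ((f.fiberι s).stalkMap z).hom
    ((f.fiberι s).stalkMap_surjective z)

/-- `dim O_{X'_{s'}, z''} = dim (fibre of h at z'') + dim O_{X_s, h z''}`. -/
theorem exists_fiberMap [IsLocallyNoetherian X] [IsLocallyNoetherian X']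
    (hsq : IsPullback p f' f g) (s' : S') :
    ∃ (h : f'.fiber s' ⟶ f.fiber (g.base s')),
      (∀ w'' : f'.fiber s', f.fiberι (g.base s') (h.base w'') = p.base (f'.fiberι s' w'')) ∧
      ∀ z'' : f'.fiber s', fibStalkDim f' (f'.fiberι s' z'') =
        fibStalkDim h z'' + fibStalkDim f (p.base (f'.fiberι s' z'')) := by
  obtain ⟨h, hpb, hcomm⟩ : ∃ h : f'.fiber s' ⟶ f.fiber (g.base s'),
      IsPullback h (f'.fiberToSpecResidueField s')
        (f.fiberToSpecResidueField (g.base s')) (Spec.map (g.residueFieldMap s')) ∧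
      h ≫ f.fiberι (g.base s') = f'.fiberι s' ≫ p :=
    ⟨_, isPullback_fiberToSpecResidueField_of_isPullback hsq s', pullback.lift_fst _ _ _⟩
  have hpt : ∀ w'' : f'.fiber s', f.fiberι (g.base s') (h.base w'') = p.base (f'.fiberι s' w'') := by
    intro w''
    rw [← Scheme.Hom.comp_apply, hcomm, Scheme.Hom.comp_apply]
  refine ⟨h, hpt, fun z'' => ?_⟩
  have hflatSpec : Flat (Spec.map (g.residueFieldMap s')) := by
    rw [Flat.SpecMap_iff]
    letI := (g.residueFieldMap s').hom.toAlgebra
    exact (inferInstance : Module.Flat (S.residueField (g.base s')) (S'.residueField s'))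
  haveI : Flat h := MorphismProperty.of_isPullback (P := @Flat) hpb.flip hflatSpec
  haveI := isNoetherianRing_stalk_fiber f' s' z''
  haveI := isNoetherianRing_stalk_fiber f (g.base s') (h.base z'')
  letI := (h.stalkMap z'').hom.toAlgebra
  haveI : IsLocalHom (algebraMap ((f.fiber (g.base s')).presheaf.stalk (h.base z''))
      ((f'.fiber s').presheaf.stalk z'')) := inferInstanceAs (IsLocalHom (h.stalkMap z'').hom)
  haveI : Module.Flat ((f.fiber (g.base s')).presheaf.stalk (h.base z''))
      ((f'.fiber s').presheaf.stalk z'') := Flat.stalkMap h z''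
  have key := Helper28.ringKrullDim_eq_add_of_flat
    (R := (f.fiber (g.base s')).presheaf.stalk (h.base z''))
    (S := (f'.fiber s').presheaf.stalk z'') _ rfl
  rw [ringKrullDim_stalk_fiber_eq_fibStalkDim f' s' z'',
    ringKrullDim_stalk_fiber_eq_fibStalkDim f (g.base s') (h.base z''), hpt z''] at key
  exact key

theorem fibStalkDim_nonneg {Z W : Scheme.{u}} (h : Z ⟶ W) (z : Z) : 0 ≤ fibStalkDim h z := by
  rw [← ringKrullDim_stalk_asFiber h z]
  exact ringKrullDim_nonneg_of_nontrivial

theorem main (f : X ⟶ S) (g : S' ⟶ S) [IsLocallyNoetherian X] [IsLocallyNoetherian (pullback f g)]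
    (Y : Set ↥X) :
    ((⨅ y : Y, ringKrullDim ↑(CInt.fiberStalk f y.1)) ≤
      ⨅ y' : (fun x' => (pullback.fst f g) x') ⁻¹' Y,
        ringKrullDim ↑(CInt.fiberStalk (pullback.snd f g) y'.1)) ∧
    (Y ⊆ Set.range (pullback.fst f g).base →
      (⨅ y' : (fun x' => (pullback.fst f g) x') ⁻¹' Y,
        ringKrullDim ↑(CInt.fiberStalk (pullback.snd f g) y'.1)) =
        ⨅ y : Y, ringKrullDim ↑(CInt.fiberStalk f y.1)) := by
  have hsq : IsPullback (pullback.fst f g) (pullback.snd f g) f g := IsPullback.of_hasPullback f g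
  have hfs : ∀ {Z W : Scheme.{u}} (q : Z ⟶ W) (z : Z),
      ringKrullDim ↑(CInt.fiberStalk q z) = fibStalkDim q z := fun q z =>
    ringKrullDim_stalk_asFiber q z
  have key1 : ∀ y' : ↥(pullback f g), fibStalkDim f ((pullback.fst f g).base y') ≤
      fibStalkDim (pullback.snd f g) y' := by
    intro y'
    obtain ⟨h, -, heq⟩ := exists_fiberMap hsq ((pullback.snd f g).base y')
    have h1 := heq ((pullback.snd f g).asFiber y')
    rw [(pullback.snd f g).fiberι_asFiber] at h1
    rw [h1]
    exact le_add_of_nonneg_left (fibStalkDim_nonneg h _)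
  have first : (⨅ y : Y, ringKrullDim ↑(CInt.fiberStalk f y.1)) ≤
      ⨅ y' : (fun x' => (pullback.fst f g) x') ⁻¹' Y,
        ringKrullDim ↑(CInt.fiberStalk (pullback.snd f g) y'.1) := by
    refine le_iInf fun y' => ?_
    refine iInf_le_of_le ⟨(pullback.fst f g).base y'.1, y'.2⟩ ?_
    rw [hfs, hfs]
    exact key1 y'.1
  refine ⟨first, fun hY => le_antisymm (le_iInf fun y => ?_) first⟩
  obtain ⟨y₀', hy₀'⟩ := hY y.2
  obtain ⟨h, hpt, heq⟩ := exists_fiberMap hsq ((pullback.snd f g).base y₀')
  haveI : Nonempty ↥(h.fiber (h.base ((pullback.snd f g).asFiber y₀'))) :=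
    ⟨h.asFiber ((pullback.snd f g).asFiber y₀')⟩
  obtain ⟨w, hw⟩ := exists_stalk_dim_zero (h.fiber (h.base ((pullback.snd f g).asFiber y₀')))
  have hhz : h.base (h.fiberι (h.base ((pullback.snd f g).asFiber y₀')) w) =
      h.base ((pullback.snd f g).asFiber y₀') :=
    (h.fiberHomeo (h.base ((pullback.snd f g).asFiber y₀')) w).2
  have h0 : fibStalkDim h (h.fiberι (h.base ((pullback.snd f g).asFiber y₀')) w) = 0 := by
    rw [← ringKrullDim_stalk_fiber_eq_fibStalkDim h (h.base ((pullback.snd f g).asFiber y₀')) w, hw]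
  have hpy : (pullback.fst f g).base ((pullback.snd f g).fiberι ((pullback.snd f g).base y₀')
      (h.fiberι (h.base ((pullback.snd f g).asFiber y₀')) w)) = y.1 := by
    rw [← hpt, hhz, hpt, (pullback.snd f g).fiberι_asFiber, hy₀']
  have hmem : (pullback.snd f g).fiberι ((pullback.snd f g).base y₀')
      (h.fiberι (h.base ((pullback.snd f g).asFiber y₀')) w) ∈
      (fun x' => (pullback.fst f g) x') ⁻¹' Y := by
    change (pullback.fst f g).base _ ∈ Y
    rw [hpy]
    exact y.2
  refine iInf_le_of_le ⟨_, hmem⟩ ?_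
  rw [hfs, hfs, heq, h0, zero_add, hpy]

end Groth.Agent.Lib.T2H9.FibCodimBC
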