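import Groth.Agent.Lib.T2H3MonoImm
import Groth.Agent.Lib.Helper4NormIsoDense
import Groth.Prelude.Def_ModelsG
import Groth.Agent.S9705

set_option autoImplicit false
set_option linter.style.haveILetI false
set_option linter.unusedSectionVars false
universe u
open CategoryTheory AlgebraicGeometry Limits

namespace Groth.Agent.Lib.T2H9.FibComp

open TopologicalSpace

section Top
variable {T : Type*} [TopologicalSpace T] {F : Set T}

/-- maximal irreducible subsets of a closed set are closed -/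
theorem isClosed_of_maximal (hF : IsClosed F) {Z : Set T}
    (hZ : Maximal (fun S : Set T => IsIrreducible S ∧ S ⊆ F) Z) : IsClosed Z := by
  have h1 : closure Z ≤ Z :=
    hZ.2 ⟨hZ.1.1.closure, closure_minimal hZ.1.2 hF⟩ subset_closure
  exact closure_subset_iff_isClosed.mp h1

theorem maximal_closure_singleton [QuasiSober T] (hF : IsClosed F) {γ : T} (hγ : γ ∈ F)
    (h : ∀ γ' ∈ F, γ' ⤳ γ → γ' = γ) :
    Maximal (fun S : Set T => IsIrreducible S ∧ S ⊆ F) (closure {γ}) := by
  refine ⟨⟨isIrreducible_singleton.closure,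
    closure_minimal (Set.singleton_subset_iff.mpr hγ) hF⟩, ?_⟩
  rintro S ⟨hSi, hSF⟩ hle
  obtain ⟨γ', hγ'⟩ := QuasiSober.sober hSi.closure isClosed_closure
  have hγ'F : γ' ∈ F := closure_minimal hSF hF (hγ'.mem)
  have h1 : γ ∈ closure ({γ'} : Set T) := by
    rw [hγ'.def]
    exact subset_closure (hle (subset_closure rfl))
  have h2 : γ' = γ := h γ' hγ'F (specializes_iff_mem_closure.mpr h1)
  rw [← h2, hγ'.def]
  exact subset_closure

theorem eq_of_specializes_of_maximal [T0Space T] {Δ : Set T}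
    (hΔ : Maximal (fun S : Set T => IsIrreducible S ∧ S ⊆ F) Δ) {δ : T}
    (hδ : IsGenericPoint δ Δ) {z' : T} (hz'F : z' ∈ F) (hF : IsClosed F) (hs : z' ⤳ δ) : z' = δ := by
  have h1 : Δ ≤ closure ({z'} : Set T) := by
    rw [← hδ.def]
    exact closure_minimal (Set.singleton_subset_iff.mpr (specializes_iff_mem_closure.mp hs))
      isClosed_closure
  have h2 : closure ({z'} : Set T) ≤ Δ :=
    hΔ.2 ⟨isIrreducible_singleton.closure,
      closure_minimal (Set.singleton_subset_iff.mpr hz'F) hF⟩ h1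
  have h3 : δ ⤳ z' := by
    rw [specializes_iff_mem_closure, hδ.def]
    exact h2 (subset_closure rfl)
  exact (hs.antisymm h3).eq

theorem finite_setOf_maximal [NoetherianSpace T] (hF : IsClosed F) :
    {Z : Set T | Maximal (fun S : Set T => IsIrreducible S ∧ S ⊆ F) Z}.Finite := by
  obtain ⟨S : Set (Set T), hSf, hSc, hSi, hSU⟩ :=
    NoetherianSpace.exists_finite_set_isClosed_irreducible hF
  refine hSf.subset fun s hs => ?_
  lift S to Finset (Set T) using hSf
  rcases isIrreducible_iff_sUnion_isClosed.1 hs.1.1 S hSc (hSU ▸ hs.1.2) with ⟨t, htS, ht⟩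
  have htF : t ⊆ F := by
    rw [hSU]
    exact Set.subset_sUnion_of_mem htS
  rwa [ht.antisymm (hs.2 ⟨hSi _ htS, htF⟩ ht)]

end Top

/-- going-down for a dominant integral morphism from an integral scheme to a normal integral scheme -/
theorem generalizingMap_of_isIntegralHom {W Z : Scheme.{u}} (ψ : W ⟶ Z) [IsIntegralHom ψ]
    [IsIntegral W] [IsIntegral Z] [IsDominant ψ]
    (hZ : ∀ z : Z, IsIntegrallyClosed (Z.presheaf.stalk z)) :
    GeneralizingMap ψ.base := by
  intro w z' hz'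
  obtain ⟨_, ⟨V, hV, rfl⟩, hwV, -⟩ :=
    Z.isBasis_affineOpens.exists_subset_of_mem_open (Set.mem_univ (ψ w)) isOpen_univ
  replace hV : IsAffineOpen V := hV
  have hU : IsAffineOpen (ψ ⁻¹ᵁ V) := hV.preimage ψ
  have hwU : w ∈ ψ ⁻¹ᵁ V := hwV
  have hz'V : z' ∈ V := hz'.mem_open V.2 hwV
  haveI : Nonempty V := ⟨⟨_, hwV⟩⟩
  haveI : Nonempty (ψ ⁻¹ᵁ V) := ⟨⟨_, hwU⟩⟩
  haveI : IsDomain Γ(Z, V) := IsIntegral.component_integral V
  haveI : IsDomain Γ(W, ψ ⁻¹ᵁ V) := IsIntegral.component_integral (ψ ⁻¹ᵁ V)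
  haveI : IsIntegrallyClosed Γ(Z, V) :=
    Groth.Agent.Lib.Helper4.NormIso.isIntegrallyClosed_sections_of_stalk V hV (fun y _ => hZ y)
  haveI : IsSchemeTheoreticallyDominant ψ := IsSchemeTheoreticallyDominant.of_isDominant ψ
  have hinj : Function.Injective (ψ.app V).hom := ψ.app_injective V
  have hint : (ψ.app V).hom.IsIntegral := IsIntegralHom.isIntegral_app ψ V hV
  obtain ⟨q, rfl⟩ : ∃ q, hU.fromSpec q = w := by
    have : w ∈ Set.range hU.fromSpec := by rw [hU.range_fromSpec]; exact hwU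
    exact this
  obtain ⟨p', rfl⟩ : ∃ p, hV.fromSpec p = z' := by
    have : z' ∈ Set.range hV.fromSpec := by rw [hV.range_fromSpec]; exact hz'V
    exact this
  have hsq : Spec.map (ψ.appLE V (ψ ⁻¹ᵁ V) le_rfl) ≫ hV.fromSpec = hU.fromSpec ≫ ψ :=
    IsAffineOpen.SpecMap_appLE_fromSpec ψ hV hU le_rfl
  rw [Scheme.Hom.appLE_eq_app] at hsq
  algebraize [(ψ.app V).hom]
  haveI : Algebra.IsIntegral Γ(Z, V) Γ(W, ψ ⁻¹ᵁ V) := ⟨hint⟩
  haveI : FaithfulSMul Γ(Z, V) Γ(W, ψ ⁻¹ᵁ V) :=
    (faithfulSMul_iff_algebraMap_injective _ _).mpr hinj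
  have hgd : GeneralizingMap (PrimeSpectrum.comap (algebraMap Γ(Z, V) Γ(W, ψ ⁻¹ᵁ V))) :=
    Algebra.HasGoingDown.iff_generalizingMap_primeSpectrumComap.mp inferInstance
  have hcomp : ∀ t, ψ (hU.fromSpec t) = hV.fromSpec (Spec.map (ψ.app V) t) := by
    intro t
    rw [← Scheme.Hom.comp_apply, ← Scheme.Hom.comp_apply, hsq]
  have h1 : p' ⤳ Spec.map (ψ.app V) q := by
    apply hV.fromSpec.isOpenEmbedding.isInducing.specializes_iff.mp
    rw [← hcomp]
    exact hz'
  obtain ⟨q', hq'q, hq'⟩ := hgd h1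
  refine ⟨hU.fromSpec q', ?_, ?_⟩
  · exact hU.fromSpec.isOpenEmbedding.isInducing.specializes_iff.mpr hq'q
  · rw [hcomp]
    exact congrArg _ hq'


/-- S16551 in general form -/
theorem exists_component_onto (R : Type u) [CommRing R] [IsDomain R] [IsDiscreteValuationRing R]
    (W Z : Over (Spec (CommRingCat.of R))) [IsIntegral W.left] [IsIntegral Z.left]
    (hZn : ∀ z : Z.left, IsIntegrallyClosed (Z.left.presheaf.stalk z))
    (ψ : W ⟶ Z) [IsIntegralHom ψ.left] [Surjective ψ.left]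
    (w : W.left) (Δ : Set Z.left) (hΔ : Δ ∈ Models.fibreComponents R Z)
    (hzΔ : ψ.left.base w ∈ Δ) :
    ∃ Γ ∈ Models.fibreComponents R W, w ∈ Γ ∧ ψ.left.base '' Γ = Δ := by
  have hFZ : IsClosed (Models.specialFibreSet R Z) := Models.isClosed_specialFibreSet R Z
  have hFW : IsClosed (Models.specialFibreSet R W) := Models.isClosed_specialFibreSet R W
  have hΔc : IsClosed Δ := isClosed_of_maximal hFZ hΔ
  obtain ⟨δ, hδ⟩ := QuasiSober.sober hΔ.1.1 hΔc
  have hδΔ : δ ∈ Δ := hδ.mem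
  have hgd := generalizingMap_of_isIntegralHom ψ.left hZn
  have hsp : δ ⤳ ψ.left.base w := by
    rw [specializes_iff_mem_closure, hδ.def]
    exact hzΔ
  obtain ⟨γ, hγw, hγδ⟩ := hgd hsp
  have hmem : ∀ t : W.left, t ∈ Models.specialFibreSet R W ↔
      ψ.left.base t ∈ Models.specialFibreSet R Z := by
    intro t
    unfold Models.specialFibreSet
    rw [Set.mem_preimage, Set.mem_preimage, ← Over.w ψ]
    rfl
  have hγF : γ ∈ Models.specialFibreSet R W := by
    rw [hmem, hγδ]
    exact hΔ.1.2 hδΔ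
  have hγmax : ∀ γ' ∈ Models.specialFibreSet R W, γ' ⤳ γ → γ' = γ := by
    intro γ' hγ'F hs
    have h1 : ψ.left.base γ' ⤳ δ := by
      rw [← hγδ]
      exact hs.map ψ.left.base.hom.continuous
    have h2 : ψ.left.base γ' = δ :=
      eq_of_specializes_of_maximal hΔ hδ ((hmem γ').mp hγ'F) hFZ h1
    exact Groth.Agent.Lib.T2H3.MonoImm.eq_of_specializes_of_isIntegralHom ψ.left hs
      (h2.trans hγδ.symm)
  refine ⟨closure {γ}, maximal_closure_singleton hFW hγF hγmax, ?_, ?_⟩
  · exact specializes_iff_mem_closure.mp hγw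
  · have hcl : IsClosedMap ψ.left.base := ψ.left.isClosedMap
    rw [← hcl.closure_image_eq_of_continuous ψ.left.base.hom.continuous, Set.image_singleton, hγδ,
      hδ.def]


theorem noetherianSpace_of_isProjectiveOver (R : Type u) [CommRing R] [IsDomain R]
    [IsDiscreteValuationRing R] (X : Over (Spec (CommRingCat.of R)))
    (hp : Neron.IsProjectiveOver R X) : NoetherianSpace X.left := by
  obtain ⟨n, i, hi, hif⟩ := hp
  haveI := hi
  haveI : IsProper (CohB1.ProjSpaceOver.toBase n (Spec (CommRingCat.of R))) :=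
    Groth.Agent.S9705.isProper_toBase n _
  haveI : IsProper X.hom := by
    rw [← hif]
    infer_instance
  haveI : IsLocallyNoetherian X.left := LocallyOfFiniteType.isLocallyNoetherian X.hom
  haveI : CompactSpace X.left := QuasiCompact.compactSpace_of_compactSpace X.hom
  haveI : IsNoetherian X.left := ⟨⟩
  infer_instance

/-- S7932 in general form -/
theorem ncard_components_le (R : Type u) [CommRing R] [IsDomain R] [IsDiscreteValuationRing R]
    (X Y : Over (Spec (CommRingCat.of R))) [IsIntegral X.left] [IsIntegral Y.left]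
    [NoetherianSpace X.left]
    (hnor : ∀ q : Y.left, IsIntegrallyClosed (Y.left.presheaf.stalk q))
    (f : X ⟶ Y) [IsIntegralHom f.left] [Surjective f.left] (x : X.left) :
    {Z : Set Y.left | Z ∈ Models.fibreComponents R Y ∧ f.left.base x ∈ Z}.ncard ≤
      {Z : Set X.left | Z ∈ Models.fibreComponents R X ∧ x ∈ Z}.ncard := by
  have hfin : {Z : Set X.left | Z ∈ Models.fibreComponents R X ∧ x ∈ Z}.Finite :=
    (finite_setOf_maximal (Models.isClosed_specialFibreSet R X)).subset (fun Z hZ => hZ.1)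
  have hsub : {Z : Set Y.left | Z ∈ Models.fibreComponents R Y ∧ f.left.base x ∈ Z} ⊆
      (fun Γ : Set X.left => f.left.base '' Γ) ''
        {Z : Set X.left | Z ∈ Models.fibreComponents R X ∧ x ∈ Z} := by
    rintro Δ ⟨hΔ, hxΔ⟩
    obtain ⟨Γ, hΓ, hxΓ, hΓΔ⟩ := exists_component_onto R X Y hnor f x Δ hΔ hxΔ
    exact ⟨Γ, ⟨hΓ, hxΓ⟩, hΓΔ⟩
  exact (Set.ncard_le_ncard hsub (hfin.image _)).trans (Set.ncard_image_le hfin)

end Groth.Agent.Lib.T2H9.FibComp
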