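import Mathlib
import Groth.Agent.Lib.T2H9FibLift4

/-!
# T2H9FibLift5: morphisms on the closed fibre lift (S4476, existence part) (helper9)

Namespace `Groth.Agent.Lib.T2H9.FibLift`.

* `exists_lift_fibre`: `A` Noetherian local, `X` proper flat over `A`, `F`, `G` finite locally free with
  `H^1(X_y, ℋom(F_y, G_y)) = 0`: every `u₀ : F_y ⟶ G_y` is the restriction of some `u : F ⟶ G` (EGA III 7.8.?/7.7.?).
-/

set_option autoImplicit false
set_option linter.style.haveILetI false
set_option linter.unusedVariables false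
universe u

namespace Groth.Agent.Lib.T2H9.FibLift

open CategoryTheory MonoidalCategory Opposite Limits AlgebraicGeometry
open Groth.Agent.Lib.Helper21.ModTensor3 Groth.Agent.Lib.Helper21.Dual Groth.Agent.Lib.Helper1.PT
open Groth.Agent.Lib.T2H9.FibQuot Groth.Agent.Lib.T2H9.FlatFib Groth.Agent.Lib.T2H5.Twist
open Groth.Agent.Lib.T2H9.DualHom Groth.Agent.Lib.T2H9.BridgeH0

attribute [local instance] Groth.Agent.Lib.Helper21.ExtShDelta.hasSheafHom

section main

variable (A : Type u) [CommRing A] [IsNoetherianRing A] [IsLocalRing A]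
variable (X : Scheme.{u}) [X.Over (Spec (CommRingCat.of A))] [IsProper (X ↘ Spec (CommRingCat.of A))]
  [Flat (X ↘ Spec (CommRingCat.of A))]

/-- **S4476, existence part**: morphisms on the closed fibre lift when `H^1(X_y, ℋom(F_y, G_y)) = 0`. -/
theorem exists_lift_fibre (F G : X.Modules) (hF : FlatMod.IsFinLocFree F) (hG : FlatMod.IsFinLocFree G)
    [DCoh.HasSheafHom (CohIII.fiberMod (X ↘ Spec (CommRingCat.of A)) F (IsLocalRing.closedPoint A))]
    (h1 : Subsingleton (Coh.HH ((X ↘ Spec (CommRingCat.of A)).fiber (IsLocalRing.closedPoint A))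
      ((DCoh.sheafHom (CohIII.fiberMod (X ↘ Spec (CommRingCat.of A)) F (IsLocalRing.closedPoint A))).obj
        (CohIII.fiberMod (X ↘ Spec (CommRingCat.of A)) G (IsLocalRing.closedPoint A))) 1))
    (u₀ : CohIII.fiberMod (X ↘ Spec (CommRingCat.of A)) F (IsLocalRing.closedPoint A) ⟶
      CohIII.fiberMod (X ↘ Spec (CommRingCat.of A)) G (IsLocalRing.closedPoint A)) :
    ∃ u : F ⟶ G,
      (Scheme.Modules.pullback ((X ↘ Spec (CommRingCat.of A)).fiberι (IsLocalRing.closedPoint A))).map u = u₀ := by
  let f := X ↘ Spec (CommRingCat.of A)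
  let y := IsLocalRing.closedPoint A
  let i := f.fiberι y
  let q := f.fiberToSpecResidueField y
  let g := (Spec (CommRingCat.of A)).fromSpecResidueField y
  have hpb : IsPullback i q f g := IsPullback.of_hasPullback f g
  haveI : IsClosedImmersion g :=
    isClosed_singleton_iff_isClosedImmersion.mp (IsLocalRing.isClosed_singleton_closedPoint A)
  haveI : IsClosedImmersion i := isClosedImmersion_of_isPullback X i q g hpb
  have h𝔞 : RingHom.ker (φT g) = IsLocalRing.maximalIdeal A := ker_φT_fromSpecResidueField y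
  have hGc : Coh.IsCoh G := Groth.Agent.Lib.T2H5.RegPush.isCoh_of_isFinLocFree G hG
  haveI := hGc.1
  have hGfl : FlatMod.IsFlatOver f G := Groth.Agent.Lib.T2H5.RegPush.isFlatOver_of_isFinLocFree f G hG
  have hvan := subsingleton_HH_cokernel_tensor_dual X i q g hpb (IsLocalRing.maximalIdeal A) h𝔞 F G hF 1 h1
  obtain ⟨c, hc⟩ := exists_iso_pushPull_compat X i q g hpb (IsLocalRing.maximalIdeal A) h𝔞 G
  let adj := Scheme.Modules.pullbackPushforwardAdjunction i
  obtain ⟨u, hu⟩ := exists_lift_hom X (IsLocalRing.maximalIdeal A) F G hF hGc hGfl hvan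
    (adj.homEquiv F _ u₀ ≫ c.inv)
  refine ⟨u, ?_⟩
  apply (adj.homEquiv F _).injective
  rw [Adjunction.homEquiv_unit]
  have hnat : u ≫ adj.unit.app G = adj.unit.app F ≫
      (Scheme.Modules.pushforward i).map ((Scheme.Modules.pullback i).map u) := adj.unit.naturality u
  rw [← hnat]
  have h2 : adj.unit.app G = cokernel.π (Formal.smulFamily (IsLocalRing.maximalIdeal A) G) ≫ c.hom :=
    hc.symm
  rw [h2, ← Category.assoc, hu, Category.assoc, c.inv_hom_id, Category.comp_id]

end main

end Groth.Agent.Lib.T2H9.FibLift
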