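import Mathlib
import Groth.Agent.Lib.T2H9FibLift3
import Groth.Agent.Lib.T2H9FFGeom3
import Groth.Agent.Lib.T2H5IdealMul
import Groth.Agent.Lib.Helper20StalkExact

/-!
# T2H9FibLift6: fibrewise injectivity on sections (helper9)

Namespace `Groth.Agent.Lib.T2H9.FibLift`.

* `mem_smul_top_of_app_mem`: if `F/𝔞F → G/𝔞G` is a monomorphism then on affine opens `u m ∈ 𝔞 Γ(G,W)` implies `m ∈ 𝔞 Γ(F,W)`.
-/

set_option autoImplicit false
set_option linter.style.haveILetI false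
set_option linter.unusedVariables false
universe u

namespace Groth.Agent.Lib.T2H9.FibLift

open CategoryTheory MonoidalCategory Opposite Limits AlgebraicGeometry
open Groth.Agent.Lib.T2H9.FibQuot Groth.Agent.Lib.T2H9.FlatFib Groth.Agent.Lib.T2H9.FFGeom

section fibinj

variable {A : Type u} [CommRing A]
variable (X : Scheme.{u}) [X.Over (Spec (CommRingCat.of A))] (𝔞 : Ideal A)

/-- if `F/𝔞F → G/𝔞G` is a monomorphism then, on affine opens, `u m ∈ 𝔞 Γ(G,W)` implies `m ∈ 𝔞 Γ(F,W)` -/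
theorem mem_smul_top_of_app_mem {r : ℕ} (g : Fin r → A) (hg : Ideal.span (Set.range g) = 𝔞)
    (F G : X.Modules) [F.IsQuasicoherent] [G.IsQuasicoherent] (u : F ⟶ G)
    (ubar : cokernel (Formal.smulFamily 𝔞 F) ⟶ cokernel (Formal.smulFamily 𝔞 G)) [Mono ubar]
    (hu : cokernel.π (Formal.smulFamily 𝔞 F) ≫ ubar = u ≫ cokernel.π (Formal.smulFamily 𝔞 G))
    {W : X.Opens} (hW : IsAffineOpen W) (m : MA X F W)
    (h : (show MA X G W from u.app W m) ∈ (𝔞 • ⊤ : Submodule A (MA X G W))) :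
    m ∈ (𝔞 • ⊤ : Submodule A (MA X F W)) := by
  obtain ⟨t, ht⟩ := mem_range_pwJι_of_mem X G 𝔞 W _ h
  have h1 : (cokernel.π (Formal.smulFamily 𝔞 G)).app W (u.app W m) = 0 := by
    have h0 : (pwJι X G 𝔞 ≫ cokernel.π (Formal.smulFamily 𝔞 G)).app W t = 0 := by
      rw [pwJι_π]; rfl
    have e : u.app W m = (pwJι X G 𝔞).app W t := ht.symm
    rw [e]
    exact h0
  have h2 : ubar.app W ((cokernel.π (Formal.smulFamily 𝔞 F)).app W m) = 0 := by
    have e : (cokernel.π (Formal.smulFamily 𝔞 F) ≫ ubar).app W m =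
        (u ≫ cokernel.π (Formal.smulFamily 𝔞 G)).app W m := by rw [hu]
    exact e.trans h1
  have h3 : (cokernel.π (Formal.smulFamily 𝔞 F)).app W m = 0 :=
    Groth.Agent.Lib.Helper20.StalkExact.injective_app_of_mono ubar W (h2.trans (map_zero _).symm)
  obtain ⟨x, hx⟩ := Groth.Agent.Lib.T2H5.IdealMul.exists_kernel_app_eq
    (cokernel.π (Formal.smulFamily 𝔞 F)) W m h3
  have h4 := pwJι_app_mem X F g 𝔞 hg hW x
  have e : (pwJι X F 𝔞).app W x = m := hx
  rw [e] at h4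
  exact h4

end fibinj

end Groth.Agent.Lib.T2H9.FibLift
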