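import Mathlib
import Groth.Agent.Lib.T2H3InjFibAlg

/-!
# T2H9FibLift7: fibrewise injectivity on a chart gives injectivity after localization (helper9)

Namespace `Groth.Agent.Lib.T2H9.FibLift`.

* `exists_smul_mem_of_mk_mem`, `mk_mem_smul_top`: membership in `p • S⁻¹N` in terms of numerators.
* `injective_localizedModule_map_of_fibre`: from helper3's `chart_iff` (EGA IV 11.3.7).
-/

set_option autoImplicit false
set_option linter.style.haveILetI false
set_option linter.unusedVariables false
universe u

namespace Groth.Agent.Lib.T2H9.FibLift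

open Function

section alg

variable {A B : Type u} [CommRing A] [CommRing B] [Algebra A B]
  (p : Ideal A) (S : Submonoid B)
  {N0 : Type u} [AddCommGroup N0] [Module B N0] [Module A N0] [IsScalarTower A B N0]

/-- `p • ⊤` (over `A`) is stable under `B` -/
theorem smul_mem_smul_top (b : B) (n : N0) (hn : n ∈ (p • ⊤ : Submodule A N0)) :
    b • n ∈ (p • ⊤ : Submodule A N0) := by
  refine Submodule.smul_induction_on hn ?_ ?_
  · intro a ha w _
    have : b • (a • w) = a • (b • w) := smul_comm b a w
    rw [this]
    exact Submodule.smul_mem_smul ha Submodule.mem_top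
  · intro x y hx hy
    rw [smul_add]
    exact Submodule.add_mem _ hx hy

/-- elements of `p • (S⁻¹ N0)` have a numerator in `p • N0` -/
theorem exists_mk_eq_of_mem_smul_top (z : LocalizedModule S N0)
    (hz : z ∈ (p • ⊤ : Submodule A (LocalizedModule S N0))) :
    ∃ (n : N0) (s : S), n ∈ (p • ⊤ : Submodule A N0) ∧ z = LocalizedModule.mk n s := by
  refine Submodule.smul_induction_on hz ?_ ?_
  · intro a ha w _
    induction w using LocalizedModule.induction_on with
    | h m s =>
      refine ⟨a • m, s, Submodule.smul_mem_smul ha Submodule.mem_top, ?_⟩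
      exact LocalizedModule.smul'_mk a m s
  · rintro x y ⟨n, s, hn, rfl⟩ ⟨n', s', hn', rfl⟩
    refine ⟨s' • n + s • n', s * s', ?_, LocalizedModule.mk_add_mk⟩
    exact Submodule.add_mem _ (smul_mem_smul_top p (s' : B) n hn) (smul_mem_smul_top p (s : B) n' hn')

theorem exists_smul_mem_of_mk_mem (n : N0) (s : S)
    (hz : LocalizedModule.mk n s ∈ (p • ⊤ : Submodule A (LocalizedModule S N0))) :
    ∃ t : S, (t : B) • n ∈ (p • ⊤ : Submodule A N0) := by
  obtain ⟨n', s', hn', h⟩ := exists_mk_eq_of_mem_smul_top p S _ hz
  obtain ⟨c, hc⟩ := LocalizedModule.mk_eq.mp h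
  -- hc : c • s' • n = c • s • n'
  refine ⟨c * s', ?_⟩
  have h1 : ((c * s' : S) : B) • n = (c : B) • (s : B) • n' := by
    rw [Submonoid.coe_mul, mul_smul]
    exact hc
  rw [h1]
  exact smul_mem_smul_top p _ _ (smul_mem_smul_top p _ _ hn')

theorem mk_mem_smul_top (n : N0) (s : S) (hn : n ∈ (p • ⊤ : Submodule A N0)) :
    LocalizedModule.mk n s ∈ (p • ⊤ : Submodule A (LocalizedModule S N0)) := by
  refine Submodule.smul_induction_on hn ?_ ?_
  · intro a ha w _
    rw [← LocalizedModule.smul'_mk a w s]
    exact Submodule.smul_mem_smul ha Submodule.mem_top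
  · intro x y hx hy
    have : LocalizedModule.mk (x + y) s = LocalizedModule.mk x s + LocalizedModule.mk y s := by
      rw [LocalizedModule.mk_add_mk, LocalizedModule.mk_eq]
      refine ⟨1, ?_⟩
      simp only [one_smul, Submonoid.smul_def, mul_smul, smul_add]
    rw [this]
    exact Submodule.add_mem _ hx hy

end alg

section chart

variable {A B : Type u} [CommRing A] [CommRing B] [Algebra A B] [Algebra.FinitePresentation A B]
  (p : Ideal A) [p.IsPrime] (q : Ideal B) [q.IsPrime] [q.LiesOver p]
  {M0 N0 : Type u} [AddCommGroup M0] [Module B M0] [Module A M0] [IsScalarTower A B M0]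
  [Module.FinitePresentation B M0]
  [AddCommGroup N0] [Module B N0] [Module A N0] [IsScalarTower A B N0]
  [Module.FinitePresentation B N0]

/-- fibrewise injectivity on the chart gives injectivity of the localized map (`N0` flat over `A` at `q`) -/
theorem injective_localizedModule_map_of_fibre (u0 : M0 →ₗ[B] N0)
    (hflat : Module.Flat A (LocalizedModule q.primeCompl N0))
    (hb : ∀ m : M0, u0 m ∈ (p • ⊤ : Submodule A N0) → m ∈ (p • ⊤ : Submodule A M0)) :
    Injective (LocalizedModule.map q.primeCompl u0) := by
  have key := (Groth.Agent.Lib.T2H3.InjFib.chart_iff p q u0 (LinearMap.range u0).mkQ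
    (Submodule.mkQ_surjective _) (LinearMap.exact_map_mkQ_range u0) hflat).mpr
  refine (key ?_).1
  intro z hz
  induction z using LocalizedModule.induction_on with
  | h m s =>
    rw [LocalizedModule.map_mk] at hz
    obtain ⟨t, ht⟩ := exists_smul_mem_of_mk_mem p q.primeCompl (u0 m) s hz
    have h1 : (t : B) • m ∈ (p • ⊤ : Submodule A M0) := by
      apply hb
      rw [map_smul]
      exact ht
    have h2 : LocalizedModule.mk m s = LocalizedModule.mk ((t : B) • m) (t * s) := by
      rw [LocalizedModule.mk_eq]
      refine ⟨1, ?_⟩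
      simp only [one_smul, Submonoid.smul_def, mul_smul]
      rw [smul_comm]
    rw [h2]
    exact mk_mem_smul_top p q.primeCompl _ _ h1

end chart

end Groth.Agent.Lib.T2H9.FibLift
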