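import Mathlib
import Groth.Agent.Lib.T2H9FibLift6
import Groth.Agent.Lib.T2H9FibLift7
import Groth.Agent.Lib.T2H9ConnZ
import Groth.Agent.Lib.Helper20FittSheaf
import Groth.Agent.Lib.Helper14FtPts
import Groth.Agent.Lib.Helper23FinType2
import Groth.Agent.Lib.Helper2FlatOver

/-!
# T2H9FibLift8: the kernel of `u : F ⟶ G` vanishes along the closed fibre if `u` is fibrewise injective (helper9)

Namespace `Groth.Agent.Lib.T2H9.FibLift`.

* `appL`: a morphism of modules on sections as a linear map; `ρU_mem_primeIdealOf`.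
* `subsingleton_stalk_kernel`: `X` locally of finite type over a Noetherian local ring `A`, `F`, `G` coherent, `G` flat over `A`,
  `F/𝔪F → G/𝔪G` a monomorphism: the stalks of `ker u` vanish at the points over the closed point.
-/

set_option autoImplicit false
set_option linter.style.haveILetI false
set_option linter.unusedVariables false
universe u

namespace Groth.Agent.Lib.T2H9.FibLift

open CategoryTheory MonoidalCategory Opposite Limits AlgebraicGeometry
open Groth.Agent.Lib.T2H9.FibQuot Groth.Agent.Lib.T2H9.FlatFib Groth.Agent.Lib.T2H9.FFGeom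

section monoStalk

variable {A : Type u} [CommRing A] [IsNoetherianRing A] [IsLocalRing A]
variable (X : Scheme.{u}) [X.Over (Spec (CommRingCat.of A))]

/-- a morphism of modules on sections, as a linear map -/
noncomputable def appL {F G : X.Modules} (u : F ⟶ G) (W : X.Opens) : Γ(F, W) →ₗ[Γ(X, W)] Γ(G, W) where
  toFun x := u.app W x
  map_add' x y := map_add _ x y
  map_smul' r x := Scheme.Modules.Hom.app_smul u r x


theorem ρU_mem_primeIdealOf {W : X.Opens} (hW : IsAffineOpen W) (x : X) (hxW : x ∈ W)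
    (hx : (X ↘ Spec (CommRingCat.of A)).base x = IsLocalRing.closedPoint A) (a : A)
    (ha : a ∈ IsLocalRing.maximalIdeal A) :
    ρU X W a ∈ (hW.primeIdealOf ⟨x, hxW⟩).asIdeal := by
  by_contra hn
  have h1 : x ∈ X.basicOpen (ρU X W a) :=
    (Groth.Agent.Lib.Helper14.mem_basicOpen_iff_notMem_primeIdealOf hW x hxW _).2 hn
  have h2 := (Scheme.mem_basicOpen X (ρU X W a) x hxW).1 h1
  have h3 := Groth.Agent.Lib.T2H9.ConnZ.germ_ρU_mem X x hxW hx a ha
  rw [IsLocalRing.mem_maximalIdeal, mem_nonunits_iff] at h3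
  exact h3 h2

/-- if `F/𝔪F → G/𝔪G` is a monomorphism and `G` is flat over `A`, the kernel of `u : F ⟶ G` has vanishing stalks at the
points of the closed fibre -/
theorem subsingleton_stalk_kernel [LocallyOfFiniteType (X ↘ Spec (CommRingCat.of A))]
    (F G : X.Modules) (hF : Coh.IsCoh F) (hG : Coh.IsCoh G)
    (hfl : FlatMod.IsFlatOver (X ↘ Spec (CommRingCat.of A)) G) (u : F ⟶ G)
    (ubar : cokernel (Formal.smulFamily (IsLocalRing.maximalIdeal A) F) ⟶
      cokernel (Formal.smulFamily (IsLocalRing.maximalIdeal A) G)) [Mono ubar]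
    (hu : cokernel.π (Formal.smulFamily (IsLocalRing.maximalIdeal A) F) ≫ ubar =
      u ≫ cokernel.π (Formal.smulFamily (IsLocalRing.maximalIdeal A) G))
    (x : X) (hx : (X ↘ Spec (CommRingCat.of A)).base x = IsLocalRing.closedPoint A) :
    Subsingleton ((kernel u).presheaf.stalk x) := by
  classical
  haveI := hF.1
  haveI := hG.1
  haveI : SheafOfModules.IsFiniteType (R := X.ringCatSheaf) F := hF.2
  haveI : SheafOfModules.IsFiniteType (R := X.ringCatSheaf) G := hG.2
  obtain ⟨W, hW, hxW, -⟩ := exists_isAffineOpen_mem_and_subset (x := x) (U := ⊤) trivial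
  haveI : IsLocallyNoetherian X :=
    LocallyOfFiniteType.isLocallyNoetherian (X ↘ Spec (CommRingCat.of A))
  haveI : IsNoetherianRing Γ(X, W) := IsLocallyNoetherian.component_noetherian ⟨W, hW⟩
  letI aAB : Algebra A Γ(X, W) := (ρU X W).toAlgebra
  letI mF : Module A Γ(F, W) := Module.compHom Γ(F, W) (ρU X W)
  letI mG : Module A Γ(G, W) := Module.compHom Γ(G, W) (ρU X W)
  haveI tF : IsScalarTower A Γ(X, W) Γ(F, W) := IsScalarTower.of_algebraMap_smul (fun _ _ => rfl)
  haveI tG : IsScalarTower A Γ(X, W) Γ(G, W) := IsScalarTower.of_algebraMap_smul (fun _ _ => rfl)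
  haveI : Module.Finite Γ(X, W) Γ(F, W) := Groth.Agent.Lib.Helper23.FinType.finite_of_isFiniteType F hW
  haveI : Module.Finite Γ(X, W) Γ(G, W) := Groth.Agent.Lib.Helper23.FinType.finite_of_isFiniteType G hW
  haveI : Module.FinitePresentation Γ(X, W) Γ(F, W) := Module.finitePresentation_of_finite _ _
  haveI : Module.FinitePresentation Γ(X, W) Γ(G, W) := Module.finitePresentation_of_finite _ _
  haveI fpAB : Algebra.FinitePresentation A Γ(X, W) := by
    have h1 : ((X ↘ Spec (CommRingCat.of A)).appLE ⊤ W le_top).hom.FiniteType :=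
      (X ↘ Spec (CommRingCat.of A)).finiteType_appLE (isAffineOpen_top _) hW le_top
    have h2 : (Scheme.ΓSpecIso (CommRingCat.of A)).inv.hom.FiniteType :=
      RingHom.FiniteType.of_surjective _
        ((ConcreteCategory.isIso_iff_bijective (Scheme.ΓSpecIso (CommRingCat.of A)).inv).1 inferInstance).2
    have h3 : (ρU X W).FiniteType := h1.comp h2
    exact Algebra.FinitePresentation.of_finiteType.mp h3
  set q := (hW.primeIdealOf ⟨x, hxW⟩).asIdeal with hq
  haveI : q.IsPrime := (hW.primeIdealOf ⟨x, hxW⟩).isPrime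
  haveI : q.LiesOver (IsLocalRing.maximalIdeal A) := by
    constructor
    have hle : IsLocalRing.maximalIdeal A ≤ q.comap (algebraMap A Γ(X, W)) := fun a ha =>
      ρU_mem_primeIdealOf X hW x hxW hx a ha
    have hne : q.comap (algebraMap A Γ(X, W)) ≠ ⊤ := (Ideal.IsPrime.comap _).ne_top
    exact (IsLocalRing.maximalIdeal.isMaximal A).eq_of_le hne hle
  have hflat : Module.Flat A (LocalizedModule q.primeCompl Γ(G, W)) := by
    haveI : Module.Flat A Γ(G, W) := flat_MA X G hfl hW
    exact Groth.Agent.Lib.Helper2.FlatOver.flat_of_isLocalizedModule_tower q.primeCompl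
      (LocalizedModule.mkLinearMap q.primeCompl Γ(G, W))
  obtain ⟨r, g, hg⟩ : ∃ (r : ℕ) (g : Fin r → A), Ideal.span (Set.range g) = IsLocalRing.maximalIdeal A := by
    obtain ⟨s, hs⟩ := (isNoetherianRing_iff_ideal_fg A).1 inferInstance (IsLocalRing.maximalIdeal A)
    refine ⟨s.card, fun j => (s.equivFin.symm j : A), ?_⟩
    rw [← hs]
    congr 1
    ext a
    constructor
    · rintro ⟨j, rfl⟩
      exact (s.equivFin.symm j).2
    · intro ha
      exact ⟨s.equivFin ⟨a, ha⟩, by simp⟩
  have hb : ∀ m : Γ(F, W), appL X u W m ∈ (IsLocalRing.maximalIdeal A • ⊤ : Submodule A Γ(G, W)) →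
      m ∈ (IsLocalRing.maximalIdeal A • ⊤ : Submodule A Γ(F, W)) := fun m h =>
    mem_smul_top_of_app_mem X (IsLocalRing.maximalIdeal A) g hg F G u ubar hu hW m h
  have hinj := injective_localizedModule_map_of_fibre (IsLocalRing.maximalIdeal A) q (appL X u W) hflat hb
  haveI : (kernel u).IsQuasicoherent := Groth.Agent.Lib.Helper23.QCohLocal.isQuasicoherent_kernel u
  have hιinj : Function.Injective (appL X (kernel.ι u) W) :=
    Groth.Agent.Lib.Helper20.StalkExact.injective_app_of_mono (kernel.ι u) W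
  haveI : Module.Finite Γ(X, W) Γ(kernel u, W) := Module.Finite.of_injective (appL X (kernel.ι u) W) hιinj
  rw [Groth.Agent.Lib.Helper20.FittSheaf.subsingleton_stalk_iff_notMem_support (kernel u) hW x hxW,
    Module.mem_support_iff_exists_annihilator]
  rintro ⟨k, hk⟩
  have h0 : appL X u W (appL X (kernel.ι u) W k) = 0 := by
    change (kernel.ι u ≫ u).app W k = 0
    rw [kernel.condition]
    rfl
  have h1 : LocalizedModule.mkLinearMap q.primeCompl Γ(F, W) (appL X (kernel.ι u) W k) = 0 := by
    apply hinj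
    rw [LocalizedModule.mkLinearMap_apply, LocalizedModule.map_mk, h0, LocalizedModule.zero_mk, map_zero]
  obtain ⟨t, ht⟩ := (IsLocalizedModule.eq_zero_iff q.primeCompl
    (LocalizedModule.mkLinearMap q.primeCompl Γ(F, W))).mp h1
  have h2 : (t : Γ(X, W)) • k = 0 := by
    apply hιinj
    rw [map_smul, map_zero]
    exact ht
  exact t.2 (hk ((Submodule.mem_annihilator_span_singleton _ _).mpr h2))

end monoStalk

end Groth.Agent.Lib.T2H9.FibLift
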