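import Mathlib
import Groth.Agent.Lib.T2H9FibLift8
import Groth.Agent.Lib.Helper20Thickening
import Groth.Agent.Lib.Helper23ModLocal

/-!
# T2H9FibLift9: modules vanishing along the closed fibre of a proper scheme over a local ring (helper9)

Namespace `Groth.Agent.Lib.T2H9.FibLift`.

* `isZero_of_subsingleton_stalk_closedFibre`: a coherent module on `X` proper over a local ring whose stalks vanish along the
  closed fibre is zero.
* `subsingleton_stalk_of_isZero_pullback_closedImmersion`: Nakayama along an arbitrary closed immersion (helper20's Lemma C).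
-/

set_option autoImplicit false
set_option linter.style.haveILetI false
set_option linter.unusedVariables false
universe u

namespace Groth.Agent.Lib.T2H9.FibLift

open CategoryTheory MonoidalCategory Opposite Limits AlgebraicGeometry
open Groth.Agent.Lib.T2H9.FibQuot Groth.Agent.Lib.T2H9.FlatFib Groth.Agent.Lib.T2H9.FFGeom

section glob

variable {A : Type u} [CommRing A] [IsLocalRing A]
variable (X : Scheme.{u}) [X.Over (Spec (CommRingCat.of A))] [IsProper (X ↘ Spec (CommRingCat.of A))]

/-- on a scheme proper over a local ring, a coherent module whose stalks vanish along the closed fibre is zero -/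
theorem isZero_of_subsingleton_stalk_closedFibre (C : X.Modules) [C.IsQuasicoherent]
    [SheafOfModules.IsFiniteType (R := X.ringCatSheaf) C]
    (h : ∀ x : X, (X ↘ Spec (CommRingCat.of A)).base x = IsLocalRing.closedPoint A →
      Subsingleton (C.presheaf.stalk x)) : IsZero C := by
  obtain ⟨W, hZW, hz⟩ := Groth.Agent.Lib.Helper20.Thickening.exists_opens_isZero_restrict C
    {x : X | (X ↘ Spec (CommRingCat.of A)).base x = IsLocalRing.closedPoint A} h
  have hcl : IsClosed ((X ↘ Spec (CommRingCat.of A)).base '' (W : Set X)ᶜ) :=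
    (X ↘ Spec (CommRingCat.of A)).isClosedMap _ W.isOpen.isClosed_compl
  let U : TopologicalSpace.Opens (PrimeSpectrum A) :=
    ⟨((X ↘ Spec (CommRingCat.of A)).base '' (W : Set X)ᶜ)ᶜ, hcl.isOpen_compl⟩
  have hyU : IsLocalRing.closedPoint A ∈ U := by
    rintro ⟨x, hxW, hx⟩
    exact hxW (hZW hx)
  have hU : U = ⊤ := (IsLocalRing.closedPoint_mem_iff U).1 hyU
  have hW : ∀ x : X, x ∈ W := by
    intro x
    by_contra hx
    have h1 : (X ↘ Spec (CommRingCat.of A)).base x ∈ U := by rw [hU]; trivial
    exact h1 ⟨x, hx, rfl⟩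
  exact Groth.Agent.Lib.Helper23.ModLocal.isZero_of_isZero_restrict (fun _ : Unit => (W : Scheme.{u}))
    (fun _ => W.ι) (fun x => ⟨(), ⟨x, hW x⟩, rfl⟩) (fun _ => hz)

end glob

section closedImm

open Groth.Agent.Lib.Helper20.Thickening Groth.Agent.Lib.Helper23.QCohLocal Groth.Agent.Lib.Helper20.OmegaAff
  Groth.Agent.Lib.Helper20.OmegaUnr Groth.Agent.Lib.Helper23.FinType Groth.Agent.Lib.Helper20.Nakayama
  Groth.Agent.Lib.Helper20.FittSheaf Groth.Agent.Lib.Helper2.QCoh

variable {Z X : Scheme.{u}} (i : Z ⟶ X) [IsClosedImmersion i]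

/-- Nakayama: a quasi-coherent module of finite type whose pullback along a closed immersion vanishes has vanishing
stalks at the points of the closed subscheme (helper20's Lemma C for an arbitrary closed immersion) -/
theorem subsingleton_stalk_of_isZero_pullback_closedImmersion (C : X.Modules) [C.IsQuasicoherent]
    [SheafOfModules.IsFiniteType (R := X.ringCatSheaf) C]
    (h : IsZero ((Scheme.Modules.pullback i).obj C)) (z : Z) :
    Subsingleton (C.presheaf.stalk (i.base z)) := by
  obtain ⟨U, hU, hxU, -⟩ := exists_isAffineOpen_mem_and_subset (x := i.base z) (U := ⊤) trivial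
  haveI : Module.Finite Γ(X, U) Γ(C, U) := finite_of_isFiniteType C hU
  haveI : Module.Finite Γ(X, U) ((ΓUF hU).obj C) := (finite_ΓU_iff C hU).mpr inferInstance
  have hv : (Scheme.Modules.pullback i).map (𝟙 C) = 0 := h.eq_of_src _ _
  have hT := map_mem_smul_top_of_pullback_map_eq_zero i hU (hU.preimage i)
    (i.app_surjective U hU) (𝟙 C) hv
  have hle : (⊤ : Submodule Γ(X, U) ((ΓUF hU).obj C)) ≤ RingHom.ker (i.app U).hom • ⊤ := by
    intro y _
    have := hT y
    rw [(ΓUF hU).map_id] at this
    exact this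
  obtain ⟨r, hr1, hr2⟩ := Submodule.exists_sub_one_mem_and_smul_eq_zero_of_fg_of_le_smul
    (RingHom.ker (i.app U).hom) (⊤ : Submodule Γ(X, U) ((ΓUF hU).obj C)) Module.Finite.fg_top hle
  refine subsingleton_stalk_of_forall_exists_smul_eq_zero hU C (i.base z) hxU
    fun y => ⟨r, ?_, hr2 y trivial⟩
  -- `i z ∈ X.basicOpen r` since `r` restricts to `1` on `Z`
  have h1 : (i.app U).hom r = 1 := by
    have h0 : (i.app U).hom (r - 1) = 0 := hr1
    rw [map_sub, map_one, sub_eq_zero] at h0
    exact h0
  have h2 : z ∈ Z.basicOpen ((i.app U).hom r) := by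
    rw [h1, Scheme.basicOpen_of_isUnit _ isUnit_one]
    exact hxU
  have h3 : i ⁻¹ᵁ (X.basicOpen r) = Z.basicOpen ((i.app U).hom r) := Scheme.preimage_basicOpen i r
  have h4 : z ∈ i ⁻¹ᵁ (X.basicOpen r) := by rw [h3]; exact h2
  exact h4

end closedImm

end Groth.Agent.Lib.T2H9.FibLift
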