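import Mathlib
import Groth.Agent.Lib.T2H9FibLift5
import Groth.Agent.Lib.T2H9FibLift9
import Groth.Agent.Lib.Helper23FinType
import Groth.Agent.Lib.Helper20Nakayama

/-!
# T2H9FibLift10: mono/epi on the closed fibre implies mono/epi (S4476, second part) (helper9)

Namespace `Groth.Agent.Lib.T2H9.FibLift`.

* `mono_epi_of_fibre`: `A` Noetherian local, `X` proper flat over `A`, `u : F ⟶ G` a morphism of finite locally free modules:
  if the restriction of `u` to the closed fibre is a monomorphism (epimorphism) then so is `u`
  (local criterion of flatness / Nakayama, plus properness to spread from the closed fibre to `X`).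
-/

set_option autoImplicit false
set_option linter.style.haveILetI false
set_option linter.unusedVariables false
universe u

namespace Groth.Agent.Lib.T2H9.FibLift

open CategoryTheory MonoidalCategory Opposite Limits AlgebraicGeometry
open Groth.Agent.Lib.T2H9.FibQuot Groth.Agent.Lib.T2H9.FlatFib Groth.Agent.Lib.T2H9.FFGeom

section monoEpi

variable (A : Type u) [CommRing A] [IsNoetherianRing A] [IsLocalRing A]
variable (X : Scheme.{u}) [X.Over (Spec (CommRingCat.of A))] [IsProper (X ↘ Spec (CommRingCat.of A))]
  [Flat (X ↘ Spec (CommRingCat.of A))]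

/-- **S4476, second part**: a morphism of finite locally free modules which is a monomorphism (epimorphism) on the
closed fibre is a monomorphism (epimorphism). -/
theorem mono_epi_of_fibre (F G : X.Modules) (hF : FlatMod.IsFinLocFree F) (hG : FlatMod.IsFinLocFree G)
    (u : F ⟶ G) :
    (Mono ((Scheme.Modules.pullback
        ((X ↘ Spec (CommRingCat.of A)).fiberι (IsLocalRing.closedPoint A))).map u) → Mono u) ∧
    (Epi ((Scheme.Modules.pullback
        ((X ↘ Spec (CommRingCat.of A)).fiberι (IsLocalRing.closedPoint A))).map u) → Epi u) := by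
  let f := X ↘ Spec (CommRingCat.of A)
  let y := IsLocalRing.closedPoint A
  let i := f.fiberι y
  let q := f.fiberToSpecResidueField y
  let g := (Spec (CommRingCat.of A)).fromSpecResidueField y
  have hpb : IsPullback i q f g := IsPullback.of_hasPullback f g
  haveI : IsClosedImmersion g :=
    isClosed_singleton_iff_isClosedImmersion.mp (IsLocalRing.isClosed_singleton_closedPoint A)
  haveI : IsClosedImmersion i := isClosedImmersion_of_isPullback X i q g hpb
  have h𝔞 : RingHom.ker (φT g) = IsLocalRing.maximalIdeal A := ker_φT_fromSpecResidueField y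
  have hFc : Coh.IsCoh F := Groth.Agent.Lib.T2H5.RegPush.isCoh_of_isFinLocFree F hF
  have hGc : Coh.IsCoh G := Groth.Agent.Lib.T2H5.RegPush.isCoh_of_isFinLocFree G hG
  haveI := hFc.1
  haveI := hGc.1
  haveI : SheafOfModules.IsFiniteType (R := X.ringCatSheaf) F := hFc.2
  haveI : SheafOfModules.IsFiniteType (R := X.ringCatSheaf) G := hGc.2
  have hGfl : FlatMod.IsFlatOver f G := Groth.Agent.Lib.T2H5.RegPush.isFlatOver_of_isFinLocFree f G hG
  haveI : IsLocallyNoetherian X := LocallyOfFiniteType.isLocallyNoetherian f
  have hrange : ∀ x : X, f.base x = y → ∃ z, i.base z = x := by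
    intro x hx
    have h1 : x ∈ Set.range i.base := by
      rw [Scheme.Hom.range_fiberι f y]
      exact hx
    exact h1
  constructor
  · intro hM
    obtain ⟨cF, hcF⟩ := exists_iso_pushPull_compat X i q g hpb (IsLocalRing.maximalIdeal A) h𝔞 F
    obtain ⟨cG, hcG⟩ := exists_iso_pushPull_compat X i q g hpb (IsLocalRing.maximalIdeal A) h𝔞 G
    let adj := Scheme.Modules.pullbackPushforwardAdjunction i
    let v := (Scheme.Modules.pushforward i).map ((Scheme.Modules.pullback i).map u)
    haveI : Mono ((Scheme.Modules.pullback i).map u) := hM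
    haveI : Mono v := inferInstance
    let ubar := cF.hom ≫ v ≫ cG.inv
    haveI : Mono ubar := inferInstance
    have hnat : u ≫ adj.unit.app G = adj.unit.app F ≫ v := adj.unit.naturality u
    have hu : cokernel.π (Formal.smulFamily (IsLocalRing.maximalIdeal A) F) ≫ ubar =
        u ≫ cokernel.π (Formal.smulFamily (IsLocalRing.maximalIdeal A) G) := by
      change _ ≫ cF.hom ≫ v ≫ cG.inv = _
      rw [← Category.assoc, hcF]
      change (adj.unit.app F ≫ v) ≫ cG.inv = _
      rw [← hnat, Category.assoc]
      change u ≫ η i G ≫ cG.inv = _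
      rw [← hcG, Category.assoc, cG.hom_inv_id, Category.comp_id]
    haveI : (kernel u).IsQuasicoherent := Groth.Agent.Lib.Helper23.QCohLocal.isQuasicoherent_kernel u
    haveI hmk : Mono (kernel.ι u) := inferInstance
    let K : X.Modules := kernel u
    haveI : SheafOfModules.IsFiniteType (R := X.ringCatSheaf) K :=
      Groth.Agent.Lib.Helper23.FinType.isFiniteType_of_mono (X := X) (N := kernel u) (M := F) (kernel.ι u)
    have hz : IsZero (kernel u) := isZero_of_subsingleton_stalk_closedFibre X K
      (fun x hx => subsingleton_stalk_kernel X F G hFc hGc hGfl u ubar hu x hx)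
    exact Preadditive.mono_of_isZero_kernel u hz
  · intro hE
    haveI : Epi ((Scheme.Modules.pullback i).map u) := hE
    haveI : (cokernel u).IsQuasicoherent := Groth.Agent.Lib.Helper23.QCohLocal.isQuasicoherent_cokernel u
    haveI hek : Epi (cokernel.π u) := inferInstance
    let Cu : X.Modules := cokernel u
    haveI : SheafOfModules.IsFiniteType (R := X.ringCatSheaf) Cu :=
      Groth.Agent.Lib.Helper20.Nakayama.isFiniteType_of_epi (X := X) (G := G) (C := cokernel u) (cokernel.π u)
    have e : (Scheme.Modules.pullback i).obj (cokernel u) ≅ cokernel ((Scheme.Modules.pullback i).map u) :=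
      PreservesCokernel.iso (Scheme.Modules.pullback i) u
    have hz0 : IsZero ((Scheme.Modules.pullback i).obj (cokernel u)) :=
      (isZero_cokernel_of_epi _).of_iso e
    have hz : IsZero (cokernel u) := isZero_of_subsingleton_stalk_closedFibre X Cu
      (fun x hx => by
        obtain ⟨z, rfl⟩ := hrange x hx
        exact subsingleton_stalk_of_isZero_pullback_closedImmersion i Cu hz0 z)
    exact Preadditive.epi_of_isZero_cokernel u hz

end monoEpi

end Groth.Agent.Lib.T2H9.FibLift
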