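import Groth.Agent.Lib.Helper23Coprod
import Groth.Agent.Lib.Helper11SmInt
import Groth.Agent.Lib.T2H9NormFF

set_option autoImplicit false
set_option linter.style.haveILetI false
set_option linter.unusedSectionVars false
universe u
open CategoryTheory AlgebraicGeometry Limits TopologicalSpace

namespace Groth.Agent.Lib.T2H9.FibNormal

variable {W : Scheme.{u}}

/-- for an idempotent global section, `D(1-e)` is the complement of `D(e)` -/
theorem basicOpen_one_sub_of_idem (e : Γ(W, ⊤)) (he : e * e = e) :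
    (W.basicOpen (1 - e) : Set W) = (W.basicOpen e : Set W)ᶜ := by
  ext x
  simp only [SetLike.mem_coe, Set.mem_compl_iff, Scheme.mem_basicOpen_top]
  have h0 : (W.presheaf.germ ⊤ x trivial) e * (W.presheaf.germ ⊤ x trivial) (1 - e) = 0 := by
    rw [← map_mul, mul_sub, mul_one, he, sub_self, map_zero]
  have h1 : (W.presheaf.germ ⊤ x trivial) e + (W.presheaf.germ ⊤ x trivial) (1 - e) = 1 := by
    rw [← map_add, add_sub_cancel, map_one]
  constructor
  · intro h2 h3
    have : IsUnit (0 : W.presheaf.stalk x) := h0 ▸ h3.mul h2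
    exact not_isUnit_zero this
  · intro h3
    exact (IsLocalRing.isUnit_or_isUnit_of_add_one h1).resolve_left h3

theorem exists_idempotent_isPreconnected [IsReduced W] [NoetherianSpace W]
    (p : Ideal Γ(W, ⊤)) [p.IsPrime] :
    ∃ e : Γ(W, ⊤), e * e = e ∧ e ∉ p ∧ _root_.IsPreconnected (W.basicOpen e : Set W) := by
  classical
  let S : Set (Closeds W) :=
    {C | ∃ e : Γ(W, ⊤), e * e = e ∧ e ∉ p ∧ (W.basicOpen e : Set W) = C}
  have hne : S.Nonempty := by
    refine ⟨⊤, 1, mul_one 1, ?_, ?_⟩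
    · exact fun h => (Ideal.IsPrime.ne_top inferInstance) ((Ideal.eq_top_iff_one p).mpr h)
    · rw [Scheme.basicOpen_of_isUnit W isUnit_one]; rfl
  obtain ⟨C₀, ⟨e₀, he₀, he₀p, hC₀⟩, hmin⟩ := wellFounded_lt.has_min S hne
  refine ⟨e₀, he₀, he₀p, ?_⟩
  intro u v hu hv huv hnu hnv
  by_contra hcon
  rw [Set.not_nonempty_iff_eq_empty] at hcon
  let D₁ : W.Opens := W.basicOpen e₀ ⊓ ⟨u, hu⟩
  let D₂ : W.Opens := W.basicOpen e₀ ⊓ ⟨v, hv⟩
  have hcompl := basicOpen_one_sub_of_idem e₀ he₀
  have hcov : D₁ ⊔ (D₂ ⊔ W.basicOpen (1 - e₀)) = ⊤ := by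
    rw [eq_top_iff]
    intro x _
    by_cases hx : x ∈ W.basicOpen e₀
    · rcases huv hx with h | h
      · exact Or.inl ⟨hx, h⟩
      · exact Or.inr (Or.inl ⟨hx, h⟩)
    · refine Or.inr (Or.inr ?_)
      have : x ∈ (W.basicOpen (1 - e₀) : Set W) := by rw [hcompl]; exact hx
      exact this
  have hdisj : D₁ ⊓ (D₂ ⊔ W.basicOpen (1 - e₀)) = ⊥ := by
    rw [eq_bot_iff]
    rintro x ⟨⟨hx0, hxu⟩, hx2⟩
    rcases hx2 with ⟨-, hxv⟩ | hx2
    · have : x ∈ (W.basicOpen e₀ : Set W) ∩ (u ∩ v) := ⟨hx0, hxu, hxv⟩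
      rw [hcon] at this
      exact this
    · have : x ∈ (W.basicOpen (1 - e₀) : Set W) := hx2
      rw [hcompl] at this
      exact this hx0
  obtain ⟨e₁, h1, h2⟩ :=
    Groth.Agent.Lib.Helper23.Coprod.exists_idempotent_of_disjoint_cover D₁ _ hcov hdisj
  have hz : e₁ * (1 - e₁) = 0 := by
    rw [← basicOpen_eq_bot_iff, Scheme.basicOpen_mul, h1, h2, hdisj]
  have he₁ : e₁ * e₁ = e₁ := by
    have := hz
    rw [mul_sub, mul_one, sub_eq_zero] at this
    exact this.symm
  have he₁' : (1 - e₁) * (1 - e₁) = 1 - e₁ := by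
    rw [sub_mul, one_mul, hz, sub_zero]
  have hD₁ne : (D₁ : Set W).Nonempty := hnu
  have hD₂ne : (D₂ : Set W).Nonempty := hnv
  have hD12 : ∀ x, x ∈ D₁ → x ∈ D₂ → False := by
    rintro x ⟨hx0, hxu⟩ ⟨-, hxv⟩
    have : x ∈ (W.basicOpen e₀ : Set W) ∩ (u ∩ v) := ⟨hx0, hxu, hxv⟩
    rw [hcon] at this
    exact this
  have hmem : (e₁ * (1 - e₁)) ∈ p := by rw [hz]; exact p.zero_mem
  rcases (Ideal.IsPrime.mem_or_mem inferInstance hmem) with hin | hin
  · -- `1 - e₁ ∉ p`
    have hnot : 1 - e₁ ∉ p := by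
      intro h'
      have : (1 : Γ(W, ⊤)) ∈ p := by
        have := p.add_mem hin h'
        rwa [add_sub_cancel] at this
      exact (Ideal.IsPrime.ne_top inferInstance) ((Ideal.eq_top_iff_one p).mpr this)
    have hprod : e₀ * (1 - e₁) ∉ p := fun h' =>
      (Ideal.IsPrime.mem_or_mem inferInstance h').elim he₀p hnot
    have hidem : (e₀ * (1 - e₁)) * (e₀ * (1 - e₁)) = e₀ * (1 - e₁) := by
      rw [mul_mul_mul_comm, he₀, he₁']
    have hset : (W.basicOpen (e₀ * (1 - e₁)) : Set W) = D₂ := by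
      rw [Scheme.basicOpen_mul, h2]
      ext x
      constructor
      · rintro ⟨hx0, hx2 | hx2⟩
        · exact hx2
        · exfalso
          have : x ∈ (W.basicOpen (1 - e₀) : Set W) := hx2
          rw [hcompl] at this
          exact this hx0
      · intro hx
        exact ⟨hx.1, Or.inl hx⟩
    have hcl : IsClosed (W.basicOpen (e₀ * (1 - e₁)) : Set W) := by
      have := basicOpen_one_sub_of_idem _ hidem
      rw [← isOpen_compl_iff, ← this]
      exact (W.basicOpen _).2
    have hS : (⟨_, hcl⟩ : Closeds W) ∈ S := ⟨_, hidem, hprod, rfl⟩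
    apply hmin _ hS
    rw [← SetLike.coe_ssubset_coe]
    change (W.basicOpen (e₀ * (1 - e₁)) : Set W) ⊂ C₀
    rw [hset, ← hC₀]
    refine ⟨fun x hx => hx.1, fun hsub => ?_⟩
    obtain ⟨x, hx⟩ := hD₁ne
    exact hD12 x hx (hsub hx.1)
  · -- `e₁ ∉ p`
    have hnot : e₁ ∉ p := by
      intro h'
      have : (1 : Γ(W, ⊤)) ∈ p := by
        have := p.add_mem h' hin
        rwa [add_sub_cancel] at this
      exact (Ideal.IsPrime.ne_top inferInstance) ((Ideal.eq_top_iff_one p).mpr this)
    have hcl : IsClosed (W.basicOpen e₁ : Set W) := by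
      have := basicOpen_one_sub_of_idem _ he₁
      rw [← isOpen_compl_iff, ← this]
      exact (W.basicOpen _).2
    have hS : (⟨_, hcl⟩ : Closeds W) ∈ S := ⟨_, he₁, hnot, rfl⟩
    apply hmin _ hS
    rw [← SetLike.coe_ssubset_coe]
    change (W.basicOpen e₁ : Set W) ⊂ C₀
    rw [h1, ← hC₀]
    refine ⟨fun x hx => hx.1, fun hsub => ?_⟩
    obtain ⟨x, hx⟩ := hD₂ne
    exact hD12 x (hsub hx.1) hx


/-- sections of an integral normal scheme over a nonempty open form an integrally closed domain -/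
theorem isIntegrallyClosed_sections_of_normal {Z : Scheme.{u}} [IsIntegral Z]
    (hZ : Pi1.IsNormalScheme Z) (V : Z.Opens) [Nonempty V] : IsIntegrallyClosed Γ(Z, V) := by
  haveI : FaithfulSMul Γ(Z, V) Z.functionField :=
    (faithfulSMul_iff_algebraMap_injective _ _).mpr (Z.germToFunctionField_injective V)
  haveI : IsIntegrallyClosedIn Γ(Z, V) Z.functionField := by
    rw [isIntegrallyClosedIn_iff]
    refine ⟨Z.germToFunctionField_injective V, fun {x} hx => ?_⟩
    exact Groth.Agent.Lib.T2H9.NormFF.exists_section_of_isIntegralElem hZ V x hx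
  exact IsIntegrallyClosed.of_isIntegrallyClosedIn Γ(Z, V) Z.functionField

theorem isNormalScheme_opens (hW : Pi1.IsNormalScheme W) (U : W.Opens) :
    Pi1.IsNormalScheme (U : Scheme.{u}) := by
  intro x
  let E := (U.stalkIso x).commRingCatIsoToRingEquiv
  haveI := (hW x.1).1
  haveI := (hW x.1).2
  exact ⟨E.toMulEquiv.isDomain _, IsIntegrallyClosed.of_equiv E.symm⟩

theorem atPrime_of_eq {A S : Type*} [CommRing A] [CommRing S] [Algebra A S] {P P' : Ideal A}
    [P.IsPrime] [P'.IsPrime] (h : P = P') [hS : IsLocalization.AtPrime S P] :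
    IsLocalization.AtPrime S P' := by
  subst h
  exact hS

/-- Lemma A: the ring of global sections of a Noetherian normal scheme is a normal ring -/
theorem normal_localization_gammaTop [IsNoetherian W] (hW : Pi1.IsNormalScheme W)
    (p : Ideal Γ(W, ⊤)) [p.IsPrime] :
    IsDomain (Localization.AtPrime p) ∧ IsIntegrallyClosed (Localization.AtPrime p) := by
  haveI : ∀ y : W, _root_.IsReduced (W.presheaf.stalk y) := fun y => by
    have := (hW y).1
    infer_instance
  haveI : IsReduced W := isReduced_of_isReduced_stalk W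
  obtain ⟨e, he, hep, hconn⟩ := exists_idempotent_isPreconnected p
  have hDne : (W.basicOpen e : Set W).Nonempty := by
    rw [Set.nonempty_iff_ne_empty]
    intro h
    have h' : W.basicOpen e = ⊥ := by
      ext x
      simp only [h, Opens.coe_bot]
    rw [basicOpen_eq_bot_iff] at h'
    exact hep (h' ▸ p.zero_mem)
  haveI : Nonempty (W.basicOpen e) := hDne.to_subtype
  haveI : ConnectedSpace (W.basicOpen e) := Subtype.connectedSpace ⟨hDne, hconn⟩
  haveI : CompactSpace (W.basicOpen e) :=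
    isCompact_iff_compactSpace.mp (NoetherianSpace.isCompact _)
  haveI : IsNoetherian (W.basicOpen e : Scheme.{u}) := ⟨⟩
  have hDn : Pi1.IsNormalScheme (W.basicOpen e : Scheme.{u}) := by
    intro x
    let E := ((W.basicOpen e).stalkIso x).commRingCatIsoToRingEquiv
    haveI := (hW x.1).1
    haveI := (hW x.1).2
    exact ⟨E.toMulEquiv.isDomain _, IsIntegrallyClosed.of_equiv E.symm⟩
  haveI : ConnectedSpace ((W.basicOpen e : Scheme.{u}) : Type u) :=
    inferInstanceAs (ConnectedSpace (W.basicOpen e))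
  haveI : IsIntegral (W.basicOpen e : Scheme.{u}) :=
    Groth.Agent.Lib.Helper11SmInt.isIntegral_of_connected_of_isDomain_stalk (fun y => (hDn y).1)
  haveI : Nonempty ((⊤ : (W.basicOpen e : Scheme.{u}).Opens)) := by
    obtain ⟨x, hx⟩ := hDne
    exact ⟨⟨⟨x, hx⟩, trivial⟩⟩
  have hcl : IsIntegrallyClosed Γ((W.basicOpen e : Scheme.{u}), ⊤) :=
    isIntegrallyClosed_sections_of_normal hDn ⊤
  haveI : IsDomain Γ((W.basicOpen e : Scheme.{u}), ⊤) := IsIntegral.component_integral ⊤
  let T := (W.basicOpen e).topIso.commRingCatIsoToRingEquiv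
  haveI hBd : IsDomain Γ(W, W.basicOpen e) := T.symm.toMulEquiv.isDomain _
  haveI hBc : IsIntegrallyClosed Γ(W, W.basicOpen e) := IsIntegrallyClosed.of_equiv T
  haveI hloc : IsLocalization.Away e Γ(W, W.basicOpen e) :=
    isLocalization_basicOpen_of_qcqs (U := ⊤) isCompact_univ isQuasiSeparated_univ e
  have hdisj : Disjoint (Submonoid.powers e : Set Γ(W, ⊤)) (p : Set Γ(W, ⊤)) :=
    (Ideal.disjoint_powers_iff_notMem e (Ideal.IsPrime.isRadical inferInstance)).mpr hep
  haveI hq : (p.map (algebraMap Γ(W, ⊤) Γ(W, W.basicOpen e))).IsPrime :=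
    IsLocalization.isPrime_of_isPrime_disjoint (Submonoid.powers e) _ p inferInstance hdisj
  have hcomap : (p.map (algebraMap Γ(W, ⊤) Γ(W, W.basicOpen e))).comap
      (algebraMap Γ(W, ⊤) Γ(W, W.basicOpen e)) = p :=
    IsLocalization.under_map_of_isPrime_disjoint (Submonoid.powers e) _ inferInstance hdisj
  haveI h1 := IsLocalization.isLocalization_isLocalization_atPrime_isLocalization
    (Submonoid.powers e)
    (Localization.AtPrime (p.map (algebraMap Γ(W, ⊤) Γ(W, W.basicOpen e))))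
    (p.map (algebraMap Γ(W, ⊤) Γ(W, W.basicOpen e)))
  haveI h2 : IsLocalization.AtPrime
      (Localization.AtPrime (p.map (algebraMap Γ(W, ⊤) Γ(W, W.basicOpen e)))) p :=
    atPrime_of_eq hcomap
  let E : Localization.AtPrime p ≃ₐ[Γ(W, ⊤)]
      Localization.AtPrime (p.map (algebraMap Γ(W, ⊤) Γ(W, W.basicOpen e))) :=
    IsLocalization.algEquiv p.primeCompl _ _
  haveI : IsDomain (Localization.AtPrime (p.map (algebraMap Γ(W, ⊤) Γ(W, W.basicOpen e)))) :=
    IsLocalization.isDomain_localization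
      (Ideal.primeCompl_le_nonZeroDivisors (p.map (algebraMap Γ(W, ⊤) Γ(W, W.basicOpen e))))
  haveI : IsIntegrallyClosed
      (Localization.AtPrime (p.map (algebraMap Γ(W, ⊤) Γ(W, W.basicOpen e)))) :=
    isIntegrallyClosed_of_isLocalization _
      (p.map (algebraMap Γ(W, ⊤) Γ(W, W.basicOpen e))).primeCompl
      (Ideal.primeCompl_le_nonZeroDivisors (p.map (algebraMap Γ(W, ⊤) Γ(W, W.basicOpen e))))
  exact ⟨E.toRingEquiv.toMulEquiv.isDomain _, IsIntegrallyClosed.of_equiv E.symm.toRingEquiv⟩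


theorem normal_localization_of_ringEquiv {A B : Type u} [CommRing A] [CommRing B] (φ : A ≃+* B)
    (hB : ∀ (q : Ideal B) [q.IsPrime],
      IsDomain (Localization.AtPrime q) ∧ IsIntegrallyClosed (Localization.AtPrime q))
    (p : Ideal A) [p.IsPrime] :
    IsDomain (Localization.AtPrime p) ∧ IsIntegrallyClosed (Localization.AtPrime p) := by
  haveI : (p.comap (φ.symm : B →+* A)).IsPrime := Ideal.comap_isPrime _ _
  have hIJ : p = (p.comap (φ.symm : B →+* A)).comap (φ : A →+* B) := by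
    rw [Ideal.comap_comap]
    have : (φ.symm : B →+* A).comp (φ : A →+* B) = RingHom.id A := by
      ext a; simp
    rw [this, Ideal.comap_id]
  let E := Localization.localRingEquiv p (p.comap (φ.symm : B →+* A)) φ hIJ
  obtain ⟨h1, h2⟩ := hB (p.comap (φ.symm : B →+* A))
  exact ⟨E.toMulEquiv.isDomain _, IsIntegrallyClosed.of_equiv E.symm⟩

/-- a Noetherian normal scheme: sections over any open form a normal ring -/
theorem normal_localization_gamma [IsNoetherian W] (hW : Pi1.IsNormalScheme W) (U : W.Opens)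
    (p : Ideal Γ(W, U)) [p.IsPrime] :
    IsDomain (Localization.AtPrime p) ∧ IsIntegrallyClosed (Localization.AtPrime p) := by
  haveI : CompactSpace U := isCompact_iff_compactSpace.mp (NoetherianSpace.isCompact _)
  haveI : IsNoetherian (U : Scheme.{u}) := ⟨⟩
  exact normal_localization_of_ringEquiv U.topIso.symm.commRingCatIsoToRingEquiv
    (fun q _ => normal_localization_gammaTop (isNormalScheme_opens hW U) q) p

/-- S19513 in general form: normality descends along `O_Y ≅ f_* O_X` -/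
theorem isNormalScheme_of_fibration {X Y : Scheme.{u}} [IsNoetherian X] (f : X ⟶ Y)
    (hfib : ∀ V : Y.Opens, IsIso (f.app V)) (hX : Pi1.IsNormalScheme X) :
    Pi1.IsNormalScheme Y := by
  intro y
  obtain ⟨_, ⟨V, hV, rfl⟩, hyV, -⟩ :=
    Y.isBasis_affineOpens.exists_subset_of_mem_open (Set.mem_univ y) isOpen_univ
  replace hV : IsAffineOpen V := hV
  haveI := hfib V
  have key := normal_localization_of_ringEquiv (asIso (f.app V)).commRingCatIsoToRingEquiv
    (fun q _ => normal_localization_gamma hX (f ⁻¹ᵁ V) q) (hV.primeIdealOf ⟨y, hyV⟩).asIdeal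
  letI := TopCat.Presheaf.algebra_section_stalk Y.presheaf ⟨y, hyV⟩
  haveI := hV.isLocalization_stalk ⟨y, hyV⟩
  let E : Localization.AtPrime (hV.primeIdealOf ⟨y, hyV⟩).asIdeal ≃ₐ[Γ(Y, V)]
      Y.presheaf.stalk y := IsLocalization.algEquiv (hV.primeIdealOf ⟨y, hyV⟩).asIdeal.primeCompl _ _
  obtain ⟨h1, h2⟩ := key
  exact ⟨E.symm.toRingEquiv.toMulEquiv.isDomain _, IsIntegrallyClosed.of_equiv E.toRingEquiv⟩

end Groth.Agent.Lib.T2H9.FibNormal
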