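import Groth.Agent.Lib.T2H9FibNormal

set_option autoImplicit false
set_option linter.style.haveILetI false
set_option linter.unusedSectionVars false
universe u
open CategoryTheory AlgebraicGeometry Limits TopologicalSpace

namespace Groth.Agent.Lib.T2H9.FibNormalBC

open Groth.Agent.Lib.T2H9.FibNormal

/-- a point with an affine neighbourhood whose ring of sections is a normal ring has a normal local
ring -/
theorem stalk_normal_of_ringEquiv {Y : Scheme.{u}} {V : Y.Opens} (hV : IsAffineOpen V) (y : Y)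
    (hyV : y ∈ V) {B : Type u} [CommRing B] (φ : Γ(Y, V) ≃+* B)
    (hB : ∀ (q : Ideal B) [q.IsPrime],
      IsDomain (Localization.AtPrime q) ∧ IsIntegrallyClosed (Localization.AtPrime q)) :
    IsDomain (Y.presheaf.stalk y) ∧ IsIntegrallyClosed (Y.presheaf.stalk y) := by
  have key := normal_localization_of_ringEquiv φ hB (hV.primeIdealOf ⟨y, hyV⟩).asIdeal
  letI := TopCat.Presheaf.algebra_section_stalk Y.presheaf ⟨y, hyV⟩
  haveI := hV.isLocalization_stalk ⟨y, hyV⟩
  let E : Localization.AtPrime (hV.primeIdealOf ⟨y, hyV⟩).asIdeal ≃ₐ[Γ(Y, V)]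
      Y.presheaf.stalk y := IsLocalization.algEquiv (hV.primeIdealOf ⟨y, hyV⟩).asIdeal.primeCompl _ _
  obtain ⟨h1, h2⟩ := key
  exact ⟨E.symm.toRingEquiv.toMulEquiv.isDomain _, IsIntegrallyClosed.of_equiv E.toRingEquiv⟩

section BC

variable {X Y S T : Scheme.{u}} (pX : X ⟶ S) (pY : Y ⟶ S) (j : T ⟶ S) (f : X ⟶ Y)

/-- sections of base changes along a flat affine `T ⟶ S` of an `S`-morphism `f` with
`O_Y ≅ f_* O_X` -/
theorem nonempty_iso_sections_baseChange [Flat j] [IsAffine S] [IsAffine T]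
    [NoetherianSpace X] [QuasiSeparatedSpace X]
    (hf : f ≫ pY = pX) (V : Y.Opens) (hV : IsAffineOpen V) [IsIso (f.app V)] :
    Nonempty (Γ(pullback pY j, pullback.fst pY j ⁻¹ᵁ V) ≅
      Γ(pullback pX j, pullback.fst pX j ⁻¹ᵁ (f ⁻¹ᵁ V))) := by
  have HY : IsPullback (pullback.fst pY j) (pullback.snd pY j) pY j := IsPullback.of_hasPullback _ _
  have HX : IsPullback (pullback.fst pX j) (pullback.snd pX j) pX j := IsPullback.of_hasPullback _ _
  have hUY : pullback.fst pY j ⁻¹ᵁ V = pullback.fst pY j ⁻¹ᵁ V ⊓ pullback.snd pY j ⁻¹ᵁ ⊤ := by simp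
  have hUX : pullback.fst pX j ⁻¹ᵁ (f ⁻¹ᵁ V) =
      pullback.fst pX j ⁻¹ᵁ (f ⁻¹ᵁ V) ⊓ pullback.snd pX j ⁻¹ᵁ ⊤ := by simp
  have hST : (⊤ : T.Opens) ≤ j ⁻¹ᵁ ⊤ := le_top
  have hSY : V ≤ pY ⁻¹ᵁ ⊤ := le_top
  have hSX : f ⁻¹ᵁ V ≤ pX ⁻¹ᵁ ⊤ := le_top
  have h1 : IsIso (pushoutSection HY hST hSY hUY) :=
    isIso_pushoutSection_of_isAffineOpen HY hST hSY hUY (isAffineOpen_top S) (isAffineOpen_top T) hV
  have h2 : IsIso (pushoutSection HX hST hSX hUX) :=
    isIso_pushoutSection_of_isQuasiSeparated_of_flat_right HX hST hSX hUX (isAffineOpen_top S)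
      (isAffineOpen_top T) (NoetherianSpace.isCompact _)
      (IsQuasiSeparated.of_quasiSeparatedSpace _)
  rw [isIso_pushoutSection_iff] at h1 h2
  have hcomp : pX.appLE ⊤ (f ⁻¹ᵁ V) hSX = pY.appLE ⊤ V hSY ≫ f.app V := by
    subst hf
    rw [Scheme.Hom.app_eq_appLE, Scheme.Hom.appLE_comp_appLE]
  have h2' := h2.of_iso (Iso.refl _) (asIso (f.app V)).symm (Iso.refl _) (Iso.refl _)
    (f' := pY.appLE ⊤ V hSY) (g' := j.appLE ⊤ ⊤ hST)
    (inl' := f.app V ≫ (pullback.fst pX j).appLE (f ⁻¹ᵁ V) _ (by simp))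
    (inr' := (pullback.snd pX j).appLE ⊤ _ (by simp))
    (by simp [hcomp]) (by simp) (by simp) (by simp)
  exact ⟨h1.isoIsPushout _ _ h2'⟩

end BC


/-- S19515 in general form -/
theorem isNormalScheme_baseChange_of_fibration (k K : Type u) [Field k] [Field K] [Algebra k K]
    {X Y : Scheme.{u}} (pX : X ⟶ Spec (CommRingCat.of k)) (pY : Y ⟶ Spec (CommRingCat.of k))
    [IsProper pX] (f : X ⟶ Y) (hf : f ≫ pY = pX) (hfib : ∀ V : Y.Opens, IsIso (f.app V))
    (hXK : Pi1.IsNormalScheme (pullback pX (Spec.map (CommRingCat.ofHom (algebraMap k K))))) :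
    Pi1.IsNormalScheme (pullback pY (Spec.map (CommRingCat.ofHom (algebraMap k K)))) := by
  intro y'
  haveI : Flat (Spec.map (CommRingCat.ofHom (algebraMap k K))) := by
    rw [Flat.SpecMap_iff]
    exact (RingHom.flat_algebraMap_iff (R := k) (S := K)).mpr inferInstance
  haveI : IsLocallyNoetherian X := LocallyOfFiniteType.isLocallyNoetherian pX
  haveI : CompactSpace X := QuasiCompact.compactSpace_of_compactSpace pX
  haveI : IsNoetherian X := ⟨⟩
  haveI : IsLocallyNoetherian (pullback pX (Spec.map (CommRingCat.ofHom (algebraMap k K)))) :=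
    LocallyOfFiniteType.isLocallyNoetherian
      (pullback.snd pX (Spec.map (CommRingCat.ofHom (algebraMap k K))))
  haveI : CompactSpace ↥(pullback pX (Spec.map (CommRingCat.ofHom (algebraMap k K)))) :=
    QuasiCompact.compactSpace_of_compactSpace
      (pullback.snd pX (Spec.map (CommRingCat.ofHom (algebraMap k K))))
  haveI : IsNoetherian (pullback pX (Spec.map (CommRingCat.ofHom (algebraMap k K)))) := ⟨⟩
  obtain ⟨_, ⟨V, hV, rfl⟩, hyV, -⟩ :=
    Y.isBasis_affineOpens.exists_subset_of_mem_open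
      (Set.mem_univ (pullback.fst pY (Spec.map (CommRingCat.ofHom (algebraMap k K))) y'))
      isOpen_univ
  replace hV : IsAffineOpen V := hV
  haveI := hfib V
  haveI : IsAffineHom (pullback.fst pY (Spec.map (CommRingCat.ofHom (algebraMap k K)))) :=
    MorphismProperty.pullback_fst (P := @IsAffineHom) _ _ inferInstance
  obtain ⟨e⟩ := nonempty_iso_sections_baseChange pX pY
    (Spec.map (CommRingCat.ofHom (algebraMap k K))) f hf V hV
  exact stalk_normal_of_ringEquiv
    (hV.preimage (pullback.fst pY (Spec.map (CommRingCat.ofHom (algebraMap k K))))) y' hyV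
    e.commRingCatIsoToRingEquiv (fun q _ => normal_localization_gamma hXK _ q)

end Groth.Agent.Lib.T2H9.FibNormalBC
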