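import Groth.Agent.Lib.Helper27PullGen
import Groth.Agent.Lib.Helper23GenNear
import Groth.Agent.Lib.Helper23PB
import Groth.Agent.Lib.Helper20UFDPic
import Groth.Agent.Lib.Helper13QcqsBC

/-!
# T2H9GenDesc (helper9): generation of an invertible module descends along pullbacks

`isGenNear_of_isGenNear_unitSec`: for `h : X' ⟶ X`, `L` invertible on `X` and a section `m` of `L`, if the pulled back
section generates `h^*L` near `x'` then `m` generates `L` near `h x'`.
-/

set_option autoImplicit false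
set_option linter.style.haveILetI false
set_option linter.unusedSectionVars false
set_option linter.unusedVariables false
universe u
open CategoryTheory AlgebraicGeometry Limits TopologicalSpace Opposite

namespace Groth.Agent.Lib.T2H9.GenDesc

open Groth.Agent.Lib.Helper23.SecTw Groth.Agent.Lib.Helper6 Groth.Agent.Helper13PullbackUnit
  Groth.Agent.Lib.Helper27PullGen Groth.Agent.Lib.Helper23.GenNear Groth.Agent.Helper13QcqsBC
  Groth.Agent.Lib.Helper23.PB

variable {X X' : Scheme.{u}} (h : X' ⟶ X) (L : X.Modules)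

/-- generation descends along a pullback: if the pulled back section generates `h^*L` near `x'`
then the section generates `L` near `h x'`. -/
theorem isGenNear_of_isGenNear_unitSec (hL : PicF.IsInvertible L) {V : X.Opens} {V' : X'.Opens}
    (hV' : V' ≤ h ⁻¹ᵁ V) (m : Γ(L, V)) (x' : X')
    (hgen : IsGenNear ((Scheme.Modules.pullback h).obj L) V' (unitSec h L hV' m) x') :
    IsGenNear L V m (h x') := by
  haveI : L.IsQuasicoherent := isQuasicoherent_of_isInvertible L hL
  obtain ⟨W', hW'V', hx'W', hgW'⟩ := hgen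
  have hxV : h x' ∈ V := hV' (hW'V' hx'W')
  obtain ⟨W₁, e₁, hxW₁, he₁⟩ := exists_gen L hL (h x')
  -- shrink to `W₀ = W₁ ⊓ V`
  set W₀ : X.Opens := W₁ ⊓ V with hW₀
  have hW₀₁ : W₀ ≤ W₁ := inf_le_left
  have hW₀V : W₀ ≤ V := inf_le_right
  have hxW₀ : h x' ∈ W₀ := ⟨hxW₁, hxV⟩
  set e : Γ(L, W₀) := res L hW₀₁ e₁ with he
  have hge : IsGen L W₀ e := he₁.mono hW₀₁
  set c : Γ(X, W₀) := coef hge le_rfl (res L hW₀V m) with hc
  have hcm : c • e = res L hW₀V m := by
    have := coef_spec hge le_rfl (res L hW₀V m)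
    rwa [Groth.Agent.Lib.Helper23.SecTw.res_self] at this
  -- upstairs
  set V'' : X'.Opens := W' ⊓ h ⁻¹ᵁ W₀ with hV''
  have hx'V'' : x' ∈ V'' := ⟨hx'W', hxW₀⟩
  have hV''W' : V'' ≤ W' := inf_le_left
  have hV''W₀ : V'' ≤ h ⁻¹ᵁ W₀ := inf_le_right
  have g1 : IsGen ((Scheme.Modules.pullback h).obj L) V''
      (res _ hV''W' (res _ hW'V' (unitSec h L hV' m))) := hgW'.mono hV''W'
  have g2 : IsGen ((Scheme.Modules.pullback h).obj L) V''
      (res _ hV''W₀ (unitSec h L (le_refl (h ⁻¹ᵁ W₀)) e)) :=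
    (isGen_pullback h L W₀ e hge).mono hV''W₀
  have e1 : res ((Scheme.Modules.pullback h).obj L) hV''W' (res _ hW'V' (unitSec h L hV' m)) =
      unitSec h L hV''W₀ (res L hW₀V m) := by
    rw [res_res]
    exact unitSec_res h L hV' hV''W₀ hW₀V (hV''W'.trans hW'V') m
  have e2 : res ((Scheme.Modules.pullback h).obj L) hV''W₀ (unitSec h L (le_refl (h ⁻¹ᵁ W₀)) e) =
      unitSec h L hV''W₀ e := by
    have := unitSec_res h L (le_refl (h ⁻¹ᵁ W₀)) hV''W₀ (le_refl W₀) hV''W₀ e
    rw [this, Groth.Agent.Lib.Helper23.SecTw.res_self]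
  rw [e1] at g1
  rw [e2] at g2
  have e3 : unitSec h L hV''W₀ (res L hW₀V m) = (h.appLE W₀ V'' hV''W₀ c) • unitSec h L hV''W₀ e := by
    rw [← hcm, unitSec_smul]
  rw [e3] at g1
  have hu : IsUnit (h.appLE W₀ V'' hV''W₀ c) := (isGen_smul_iff g2 _).1 g1
  -- so `h x' ∈ D(c)`
  have hxc : h x' ∈ X.basicOpen c := by
    have h1 : x' ∈ X'.basicOpen (h.appLE W₀ V'' hV''W₀ c) := by
      rw [(X'.basicOpen_of_isUnit hu)]
      exact hx'V''
    rw [Scheme.Hom.appLE, ] at h1
    have h2 : X'.basicOpen ((h.app W₀ ≫ X'.presheaf.map (homOfLE hV''W₀).op) c) =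
        V'' ⊓ X'.basicOpen (h.app W₀ c) := by
      rw [CommRingCat.comp_apply, Scheme.basicOpen_res]
    rw [h2, ← Scheme.preimage_basicOpen] at h1
    exact h1.2
  refine ⟨X.basicOpen c, (X.basicOpen_le c).trans hW₀V, hxc, ?_⟩
  have hcu : IsUnit (resf (X.basicOpen_le c) c) := X.toRingedSpace.isUnit_res_basicOpen c
  have g3 : IsGen L (X.basicOpen c) (res L (X.basicOpen_le c) e) := hge.mono (X.basicOpen_le c)
  have g4 := Groth.Agent.Lib.Helper20.UFDPic.isGen_unit_smul g3 _ hcu
  have e4 : resf (X.basicOpen_le c) c • res L (X.basicOpen_le c) e =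
      res L ((X.basicOpen_le c).trans hW₀V) m := by
    rw [← res_smul, hcm, res_res]
  rw [e4] at g4
  exact g4

end Groth.Agent.Lib.T2H9.GenDesc
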