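import Groth.Agent.Lib.T2H9FlatFib5
import Groth.Agent.Lib.T2H9FBCZero
import Groth.Agent.Lib.Helper27PullGen
import Groth.Agent.Lib.Helper23GenNear
import Groth.Agent.Lib.Helper23PB
import Groth.Agent.Lib.Helper20UFDPic
import Groth.Agent.Lib.Helper13QcqsBC
import Groth.Agent.Lib.T2H6RankAdd
import Groth.Agent.Lib.T2H9GenDesc

/-!
# T2H9FibSec (helper9): sections on the closed fibre lift (cohomology and base change for `H^0`)

`A` Noetherian local, `X` proper over `Spec A`, `F` coherent and flat over `A`, `Z ↪ X` the closed fibre: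
* `surjective_π_app_top`, `surjective_η_app_top`: if `H^1(X, F/𝔪F) = 0` then `Γ(X, F) → Γ(X, F/𝔪F)` and
  `Γ(X, F) → Γ(Z, F|_Z)` are surjective;
* `exists_isGen_top`: an invertible module trivial on `Z` with `H^1(X, N/𝔪N) = 0` has a global generator;
* `eq_univ_of_closedFibre_subset`, `exists_opens_preimage_subset`, `isOpen_setOf_isGenNear`: topology of closed maps;
* `exists_unit_smul_eq`, `exists_frac_fromSpecStalk`: clearing denominators in `R' ⊗_R A → B`.
-/

set_option autoImplicit false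
set_option linter.style.haveILetI false
set_option linter.unusedSectionVars false
set_option linter.unusedVariables false
universe u
open CategoryTheory AlgebraicGeometry Limits TopologicalSpace Opposite

namespace Groth.Agent.Lib.T2H9.FibSec

open Groth.Agent.Lib.T2H9.FibQuot Groth.Agent.Lib.T2H9.FlatFib Groth.Agent.Lib.T2H9.FFGeom
  Groth.Agent.Lib.T2H9.FBCZero
open Groth.Agent.Lib.Helper23.SecTw Groth.Agent.Lib.Helper6 Groth.Agent.Helper13PullbackUnit
  Groth.Agent.Lib.Helper27PullGen Groth.Agent.Lib.Helper23.GenNear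
  Groth.Agent.Lib.Helper23.PB Groth.Agent.Lib.Helper23.GenLocus

section top

/-- over a local base, an open subset containing the closed fibre of a closed map is everything -/
theorem eq_univ_of_closedFibre_subset {A : Type u} [CommRing A] [IsLocalRing A] {X : Scheme.{u}}
    (π : X ⟶ Spec (CommRingCat.of A)) (hπ : IsClosedMap π) (G : Set X) (hG : IsOpen G)
    (h : ∀ x, π x = IsLocalRing.closedPoint A → x ∈ G) : G = Set.univ := by
  by_contra hne
  have hC : (Gᶜ : Set X).Nonempty := by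
    rw [Set.nonempty_compl]; exact hne
  obtain ⟨x, hx⟩ := hC
  have hcl : IsClosed (π '' Gᶜ) := hπ _ hG.isClosed_compl
  have h1 : π x ∈ π '' Gᶜ := ⟨x, hx, rfl⟩
  have h2 : IsLocalRing.closedPoint A ∈ π '' Gᶜ :=
    (IsLocalRing.specializes_closedPoint (π x)).mem_closed hcl h1
  obtain ⟨z, hz, hzc⟩ := h2
  exact hz (h z hzc)

/-- an open neighbourhood of a fibre of a closed map contains the preimage of a neighbourhood -/
theorem exists_opens_preimage_subset {X Y : Scheme.{u}} (f : X ⟶ Y) (hf : IsClosedMap f) (y : Y)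
    (G : Set X) (hG : IsOpen G) (h : ∀ x, f x = y → x ∈ G) :
    ∃ U : Y.Opens, y ∈ U ∧ ∀ x, f x ∈ U → x ∈ G := by
  have hcl : IsClosed (f '' Gᶜ) := hf _ hG.isClosed_compl
  refine ⟨⟨(f '' Gᶜ)ᶜ, hcl.isOpen_compl⟩, ?_, ?_⟩
  · rintro ⟨x, hx, hxy⟩
    exact hx (h x hxy)
  · intro x hx
    by_contra hxG
    exact hx ⟨x, hxG, rfl⟩

theorem isOpen_setOf_isGenNear {X : Scheme.{u}} (M : X.Modules) (B : X.Opens) (m : Γ(M, B)) :
    IsOpen {y : X | IsGenNear M B m y} := by
  rw [isOpen_iff_forall_mem_open]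
  rintro y ⟨W, hWB, hyW, hgen⟩
  exact ⟨W, fun z hz => ⟨W, hWB, hz, hgen⟩, W.isOpen, hyW⟩

end top

section loc

variable {A : Type u} [CommRing A] [IsNoetherianRing A] [IsLocalRing A]
variable (X : Scheme.{u}) [X.Over (Spec (CommRingCat.of A))]
  [IsProper (X ↘ Spec (CommRingCat.of A))] (F : X.Modules)
variable {Z T : Scheme.{u}} (i : Z ⟶ X) (q : Z ⟶ T) (f : T ⟶ Spec (CommRingCat.of A))
  (hpb : IsPullback i q (X ↘ Spec (CommRingCat.of A)) f) [IsClosedImmersion i] [IsClosedImmersion f]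

theorem surjective_π_app_top (hF : Coh.IsCoh F)
    (hfl : FlatMod.IsFlatOver (X ↘ Spec (CommRingCat.of A)) F)
    (hvan : Subsingleton (Coh.HH X (cokernel (Formal.smulFamily (IsLocalRing.maximalIdeal A) F)) 1)) :
    Function.Surjective ((cokernel.π (Formal.smulFamily (IsLocalRing.maximalIdeal A) F)).app ⊤) := by
  haveI := hF.1
  have hs : Function.Surjective (Formal.toHHmodPow (IsLocalRing.maximalIdeal A) F 0 0) :=
    surjective_toHHmodPow X F (IsLocalRing.maximalIdeal A) hF 0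
      (surjective_tL X F hfl (IsLocalRing.maximalIdeal A) 0 hvan) 0
  have aux : ∀ J : Ideal A, J = IsLocalRing.maximalIdeal A →
      Function.Surjective (Sheaf.H.map ((SheafOfModules.toSheaf _).map
        (cokernel.π (Formal.smulFamily J F))) 0) →
      Function.Surjective ((cokernel.π (Formal.smulFamily (IsLocalRing.maximalIdeal A) F)).app ⊤) := by
    intro J hJ h
    subst hJ
    intro t
    obtain ⟨x, hx⟩ := h ((hh0Γ X _).symm t)
    refine ⟨hh0Γ X F x, ?_⟩
    rw [← hh0Γ_map, hx, AddEquiv.apply_symm_apply]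
  exact aux _ (by rw [zero_add, pow_one]) hs

include hpb in
/-- `Γ(X, F) → Γ(Z, i^*F)` is surjective when `H^1(X, F/𝔪F) = 0` (`Z` the closed fibre) -/
theorem surjective_η_app_top (hF : Coh.IsCoh F)
    (hfl : FlatMod.IsFlatOver (X ↘ Spec (CommRingCat.of A)) F)
    (h𝔪 : RingHom.ker (φT f) = IsLocalRing.maximalIdeal A)
    (hvan : Subsingleton (Coh.HH X (cokernel (Formal.smulFamily (IsLocalRing.maximalIdeal A) F)) 1)) :
    Function.Surjective ((η i F).app ⊤) := by
  haveI := hF.1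
  haveI := epi_lamG_η X F i q f hpb _ h𝔪
  set ε := cokIso X F (IsLocalRing.maximalIdeal A) (η i F)
    (smulFamily_η X F i q f hpb _ h𝔪.ge) with hε
  have hπ : cokernel.π (Formal.smulFamily (IsLocalRing.maximalIdeal A) F) ≫ ε.hom = η i F :=
    π_cokIso_hom X F _ (η i F) _
  intro t
  obtain ⟨s, hs⟩ := surjective_π_app_top X F hF hfl hvan (ε.inv.app ⊤ t)
  refine ⟨s, ?_⟩
  have h1 : (η i F).app ⊤ s = ε.hom.app ⊤
      ((cokernel.π (Formal.smulFamily (IsLocalRing.maximalIdeal A) F)).app ⊤ s) := by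
    rw [← hπ]; rfl
  rw [h1, hs]
  have h2 : ε.inv.app ⊤ ≫ ε.hom.app ⊤ = 𝟙 _ := by
    rw [← Scheme.Modules.Hom.comp_app, ε.inv_hom_id]; rfl
  exact congrArg (fun φ => φ t) h2

include hpb in
/-- over a Noetherian local base: an invertible module which is trivial on the closed fibre `Z`,
with `H^1(X, N/𝔪N) = 0`, is trivial. -/
theorem exists_isGen_top (N : X.Modules) (hN : PicF.IsInvertible N)
    (hfl : FlatMod.IsFlatOver (X ↘ Spec (CommRingCat.of A)) N)
    (h𝔪 : RingHom.ker (φT f) = IsLocalRing.maximalIdeal A)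
    (hrange : ∀ x : X, (X ↘ Spec (CommRingCat.of A)) x = IsLocalRing.closedPoint A → x ∈ Set.range i)
    (ψ : (Scheme.Modules.pullback i).obj N ≅ Coh.structureModule Z)
    (hvan : Subsingleton (Coh.HH X (cokernel (Formal.smulFamily (IsLocalRing.maximalIdeal A) N)) 1)) :
    ∃ t : Γ(N, ⊤), IsGen N ⊤ t := by
  have hcoh : Coh.IsCoh N := Groth.Agent.Lib.T2H6.RankAdd.isCoh_of_isFinLocFreeOfRank N 1
    (isFinLocFreeOfRank_one_of_isInvertible N hN)
  -- the generator on the fibre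
  have he₀ : IsGen ((Scheme.Modules.pullback i).obj N) ⊤ (ψ.inv.app ⊤ (toS ⊤ 1)) :=
    isGen_of_iso ψ.symm (isGen_one ⊤)
  obtain ⟨t, ht⟩ := surjective_η_app_top X N i q f hpb hcoh hfl h𝔪 hvan (ψ.inv.app ⊤ (toS ⊤ 1))
  refine ⟨t, ?_⟩
  have hle : i ⁻¹ᵁ ⊤ ≤ i ⁻¹ᵁ ⊤ := le_rfl
  have hus : unitSec i N hle t = ψ.inv.app ⊤ (toS ⊤ 1) := by
    rw [unitSec_apply]
    have : (homOfLE hle).op = 𝟙 (op (i ⁻¹ᵁ ⊤)) := rfl
    rw [this, CategoryTheory.Functor.map_id]
    exact ht
  have hG : {y : X | IsGenNear N ⊤ t y} = Set.univ := by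
    refine eq_univ_of_closedFibre_subset (X ↘ Spec (CommRingCat.of A))
      (X ↘ Spec (CommRingCat.of A)).isClosedMap _ (isOpen_setOf_isGenNear N ⊤ t) ?_
    intro x hx
    obtain ⟨z, rfl⟩ := hrange x hx
    refine Groth.Agent.Lib.T2H9.GenDesc.isGenNear_of_isGenNear_unitSec i N hN hle t z ?_
    refine ⟨i ⁻¹ᵁ ⊤, le_rfl, trivial, ?_⟩
    rw [Groth.Agent.Lib.Helper23.SecTw.res_self, hus]
    exact he₀
  refine Groth.Agent.Lib.Helper20.UFDPic.isGen_of_local N ⊤ t ?_
  intro x _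
  have : x ∈ {y : X | IsGenNear N ⊤ t y} := by rw [hG]; trivial
  obtain ⟨W, hW, hxW, hgen⟩ := this
  exact ⟨W, hW, hxW, hgen⟩

end loc

section alg
open TensorProduct Groth.Agent.Helper13FlatMV
variable {R R' : Type u} [CommRing R] [CommRing R'] [Algebra R R']
variable {A B : Type u} [AddCommGroup A] [Module R A] [AddCommGroup B] [Module R' B]

/-- if `R' ⊗ A → B` is surjective and every element of `R'` is a fraction with unit denominator from
`R`, then every element of `B` is, up to a unit from `R`, in the image of `A`. -/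
theorem exists_unit_smul_eq (u : A →+ B)
    (hu : ∀ (r : R) (a : A), u (r • a) = algebraMap R R' r • u a)
    (hs : Function.Surjective (kap u hu))
    (H : ∀ r' : R', ∃ s a : R, IsUnit (algebraMap R R' s) ∧ r' * algebraMap R R' s = algebraMap R R' a)
    (b : B) : ∃ (s : R) (m : A), IsUnit (algebraMap R R' s) ∧ algebraMap R R' s • b = u m := by
  obtain ⟨z, rfl⟩ := hs b
  induction z using TensorProduct.induction_on with
  | zero => exact ⟨1, 0, by rw [map_one]; exact isUnit_one, by rw [map_zero, smul_zero, map_zero]⟩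
  | tmul r' a₀ =>
    obtain ⟨s, a, hsu, hsa⟩ := H r'
    refine ⟨s, a • a₀, hsu, ?_⟩
    rw [kap_tmul, hu, ← mul_smul, mul_comm, hsa]
  | add z₁ z₂ h₁ h₂ =>
    obtain ⟨s₁, m₁, hu₁, e₁⟩ := h₁
    obtain ⟨s₂, m₂, hu₂, e₂⟩ := h₂
    refine ⟨s₁ * s₂, s₂ • m₁ + s₁ • m₂, by rw [map_mul]; exact hu₁.mul hu₂, ?_⟩
    rw [map_add, smul_add, map_add, hu, hu, ← e₁, ← e₂, map_mul, mul_smul, mul_smul,
      smul_comm (algebraMap R R' s₁) (algebraMap R R' s₂)]

end alg

section stalk
variable {Y : Scheme.{u}}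

/-- every global function on `Spec O_{Y,y}` is a fraction of functions on an affine neighbourhood
of `y` with unit denominator. -/
theorem exists_frac_fromSpecStalk {V : Y.Opens} (hV : IsAffineOpen V) (y : Y) (hy : y ∈ V)
    (hle : (⊤ : (Spec (Y.presheaf.stalk y)).Opens) ≤ (Y.fromSpecStalk y) ⁻¹ᵁ V)
    (r' : Γ(Spec (Y.presheaf.stalk y), ⊤)) :
    ∃ s a : Γ(Y, V), IsUnit (((Y.fromSpecStalk y).appLE V ⊤ hle).hom s) ∧
      r' * ((Y.fromSpecStalk y).appLE V ⊤ hle).hom s = ((Y.fromSpecStalk y).appLE V ⊤ hle).hom a := by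
  letI : Algebra Γ(Y, V) (Y.presheaf.stalk y) := (Y.presheaf.germ V y hy).hom.toAlgebra
  haveI : IsLocalization.AtPrime (Y.presheaf.stalk y) (hV.primeIdealOf ⟨y, hy⟩).asIdeal :=
    hV.isLocalization_stalk ⟨y, hy⟩
  have hφ : ∀ c : Γ(Y, V), ((Y.fromSpecStalk y).appLE V ⊤ hle).hom c =
      (Scheme.ΓSpecIso (Y.presheaf.stalk y)).inv.hom ((Y.presheaf.germ V y hy).hom c) := by
    intro c
    rw [Scheme.Hom.appLE, Scheme.fromSpecStalk_app hy]
    simp only [CommRingCat.hom_comp, RingHom.coe_comp, Function.comp_apply, Category.assoc]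
    rw [← CommRingCat.comp_apply, ← Functor.map_comp]
    have : ((homOfLE (le_top : (Y.fromSpecStalk y) ⁻¹ᵁ V ≤ ⊤)).op ≫ (homOfLE hle).op) = 𝟙 _ := rfl
    rw [this, CategoryTheory.Functor.map_id]
    rfl
  set r'' := (Scheme.ΓSpecIso (Y.presheaf.stalk y)).hom.hom r' with hr''
  obtain ⟨⟨a, s⟩, hsa⟩ := IsLocalization.surj (hV.primeIdealOf ⟨y, hy⟩).asIdeal.primeCompl r''
  have hsu : IsUnit ((Y.presheaf.germ V y hy).hom (s : Γ(Y, V))) :=
    IsLocalization.map_units (Y.presheaf.stalk y) s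
  refine ⟨s, a, ?_, ?_⟩
  · rw [hφ]
    exact hsu.map _
  · rw [hφ, hφ]
    have h1 : r'' * (Y.presheaf.germ V y hy).hom (s : Γ(Y, V)) = (Y.presheaf.germ V y hy).hom a := hsa
    rw [← h1, map_mul, hr'']
    congr 1
    exact (congrArg (fun t => t.hom r') (Scheme.ΓSpecIso (Y.presheaf.stalk y)).hom_inv_id).symm

end stalk


end Groth.Agent.Lib.T2H9.FibSec
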