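import Groth.Agent.Lib.Helper6SmNorm
import Groth.Agent.Lib.T2H9NormFF
import Groth.Agent.Lib.Helper5FlatPreimm
import Groth.Agent.Lib.Helper4FEtNormal2
import Groth.Agent.Lib.Helper4NormIso

/-!
helper9: normal schemes and smooth morphisms; the generic fibre of a flat morphism of integral
schemes; normalization commutes with smooth base change for integral schemes (for S9791).
-/

set_option autoImplicit false
set_option linter.style.haveILetI false
set_option linter.unusedSectionVars false
universe u

open AlgebraicGeometry CategoryTheory CategoryTheory.Limits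
open Groth.Agent.Lib.Helper5.FlatPreimm Groth.Agent.Lib.Helper4.NormCurve

namespace Groth.Agent.Lib.T2H9.NormSm


/-- Sections over an affine open of a scheme with normal local rings form a normal ring. -/
theorem isNormalRing_sections {Y : Scheme.{u}} (hY : Pi1.IsNormalScheme Y) (V : Y.Opens)
    (hV : IsAffineOpen V) : EGA4.IsNormalRing Γ(Y, V) := by
  intro p _
  let y : PrimeSpectrum Γ(Y, V) := ⟨p, inferInstance⟩
  have hy : hV.fromSpec y ∈ (V : Set Y) := by
    rw [← hV.range_fromSpec]; exact ⟨y, rfl⟩
  letI := TopCat.Presheaf.algebra_section_stalk Y.presheaf ⟨hV.fromSpec y, hy⟩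
  haveI : IsLocalization p.primeCompl (Y.presheaf.stalk (hV.fromSpec y)) :=
    hV.isLocalization_stalk' y hy
  let e : Localization.AtPrime p ≃ₐ[Γ(Y, V)] Y.presheaf.stalk (hV.fromSpec y) :=
    IsLocalization.algEquiv p.primeCompl _ _
  obtain ⟨hd, hic⟩ := hY (hV.fromSpec y)
  exact ⟨e.toRingEquiv.toMulEquiv.isDomain_iff.mpr hd, IsIntegrallyClosed.of_equiv e.symm.toRingEquiv⟩

/-- A scheme smooth over a scheme with normal local rings has normal local rings. -/
theorem isNormalScheme_of_smooth {T X : Scheme.{u}} (hX : Pi1.IsNormalScheme X)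
    (f : T ⟶ X) [Smooth f] : Pi1.IsNormalScheme T := by
  intro t
  obtain ⟨_, ⟨V, hV, rfl⟩, htV, -⟩ := X.isBasis_affineOpens.exists_subset_of_mem_open
    (Set.mem_univ (f t)) isOpen_univ
  obtain ⟨_, ⟨U, hU, rfl⟩, htU, hUV⟩ := T.isBasis_affineOpens.exists_subset_of_mem_open
    (show t ∈ (f ⁻¹ᵁ V : Set T) from htV) (f ⁻¹ᵁ V).isOpen
  have hsm : (f.appLE V U hUV).hom.Smooth := f.smooth_appLE hV hU hUV
  letI := (f.appLE V U hUV).hom.toAlgebra
  haveI : Algebra.Smooth Γ(X, V) Γ(T, U) := hsm
  have hN := Groth.Agent.Lib.Helper6.SmNorm.isNormalRing_of_smooth Γ(X, V) Γ(T, U)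
    (isNormalRing_sections hX V hV)
  letI := TopCat.Presheaf.algebra_section_stalk T.presheaf ⟨t, htU⟩
  haveI hloc := hU.isLocalization_stalk ⟨t, htU⟩
  haveI := (hU.primeIdealOf ⟨t, htU⟩).isPrime
  obtain ⟨hd, hic⟩ := hN (hU.primeIdealOf ⟨t, htU⟩).asIdeal
  let e : Localization.AtPrime (hU.primeIdealOf ⟨t, htU⟩).asIdeal ≃ₐ[Γ(T, U)] T.presheaf.stalk t :=
    IsLocalization.algEquiv (hU.primeIdealOf ⟨t, htU⟩).asIdeal.primeCompl _ _
  have hd' : IsDomain (T.presheaf.stalk t) := e.toRingEquiv.toMulEquiv.isDomain_iff.mp hd
  exact ⟨hd', IsIntegrallyClosed.of_equiv e.toRingEquiv⟩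


section GenericFibre

variable {X Y : Scheme.{u}} [IsIntegral X] [IsIntegral Y] (f : X ⟶ Y) [Flat f]

/-- A flat morphism of integral schemes maps the generic point to the generic point. -/
theorem apply_genericPoint_of_flat : f (genericPoint X) = genericPoint Y := by
  have hgen : GeneralizingMap f := Flat.generalizingMap f
  have h1 : genericPoint Y ⤳ f (genericPoint X) := (genericPoint_spec Y).specializes trivial
  obtain ⟨a, ha, hfa⟩ := hgen h1
  have h2 : genericPoint X ⤳ a := (genericPoint_spec X).specializes trivial
  have : a = genericPoint X := (ha.antisymm h2).eq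
  rw [← hfa, this]

theorem genericPoint_mem_range_snd :
    genericPoint X ∈ Set.range (pullback.snd (Y.fromSpecStalk (genericPoint Y)) f) := by
  rw [Scheme.Pullback.range_snd, Set.mem_preimage, Scheme.range_fromSpecStalk,
    apply_genericPoint_of_flat]
  exact specializes_rfl

theorem irreducibleSpace_genericFibre :
    IrreducibleSpace ↥(pullback (Y.fromSpecStalk (genericPoint Y)) f) := by
  obtain ⟨p₀, hp₀⟩ := genericPoint_mem_range_snd f
  set g₀ := pullback.snd (Y.fromSpecStalk (genericPoint Y)) f with hg₀
  have key : ∀ u : Set ↥(pullback (Y.fromSpecStalk (genericPoint Y)) f), IsOpen u → u.Nonempty →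
      p₀ ∈ u := by
    intro u hu hne
    obtain ⟨u', hu', rfl⟩ := (g₀.isEmbedding.isInducing.isOpen_iff).mp hu
    obtain ⟨z, hz⟩ := hne
    have : genericPoint X ∈ u' :=
      ((genericPoint_spec X).mem_open_set_iff hu').mpr ⟨g₀ z, trivial, hz⟩
    show g₀ p₀ ∈ u'
    rw [hp₀]; exact this
  rw [irreducibleSpace_def]
  refine ⟨⟨p₀, trivial⟩, ?_⟩
  intro u v hu hv hnu hnv
  have h1 := key u hu (by simpa using hnu)
  have h2 := key v hv (by simpa using hnv)
  exact ⟨p₀, trivial, h1, h2⟩

theorem isReduced_genericFibre :
    IsReduced (pullback (Y.fromSpecStalk (genericPoint Y)) f) := by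
  haveI : ∀ z : ↥(pullback (Y.fromSpecStalk (genericPoint Y)) f),
      _root_.IsReduced ((pullback (Y.fromSpecStalk (genericPoint Y)) f).presheaf.stalk z) := by
    intro z
    exact isReduced_of_injective
      (stalkEquiv (pullback.snd (Y.fromSpecStalk (genericPoint Y)) f) z).symm.toRingHom
      (stalkEquiv (pullback.snd (Y.fromSpecStalk (genericPoint Y)) f) z).symm.injective
  exact isReduced_of_isReduced_stalk _

instance isIntegral_genericFibre :
    IsIntegral (pullback (Y.fromSpecStalk (genericPoint Y)) f) := by
  haveI := irreducibleSpace_genericFibre f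
  haveI := isReduced_genericFibre f
  exact isIntegral_of_irreducibleSpace_of_isReduced _

theorem snd_genericPoint :
    (pullback.snd (Y.fromSpecStalk (genericPoint Y)) f)
      (genericPoint ↥(pullback (Y.fromSpecStalk (genericPoint Y)) f)) = genericPoint X := by
  obtain ⟨p₀, hp₀⟩ := genericPoint_mem_range_snd f
  set g₀ := pullback.snd (Y.fromSpecStalk (genericPoint Y)) f with hg₀
  have h1 : genericPoint ↥(pullback (Y.fromSpecStalk (genericPoint Y)) f) ⤳ p₀ :=
    (genericPoint_spec _).specializes trivial
  have h2 : g₀ (genericPoint ↥(pullback (Y.fromSpecStalk (genericPoint Y)) f)) ⤳ g₀ p₀ :=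
    h1.map g₀.continuous
  rw [hp₀] at h2
  have h3 : genericPoint X ⤳ g₀ (genericPoint ↥(pullback (Y.fromSpecStalk (genericPoint Y)) f)) :=
    (genericPoint_spec X).specializes trivial
  exact (h2.antisymm h3).eq

theorem isIso_stalkMap_snd (z : ↥(pullback (Y.fromSpecStalk (genericPoint Y)) f)) :
    IsIso ((pullback.snd (Y.fromSpecStalk (genericPoint Y)) f).stalkMap z) := by
  rw [ConcreteCategory.isIso_iff_bijective]
  exact stalkMap_bijective_of_flat_of_isPreimmersion _ z

end GenericFibre

theorem injective_of_isField {R S : Type*} [CommRing R] [CommRing S] [Nontrivial S]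
    (hR : IsField R) (φ : R →+* S) : Function.Injective φ := by
  rw [injective_iff_map_eq_zero]
  intro r hr
  by_contra hne
  obtain ⟨r', hr'⟩ := hR.mul_inv_cancel hne
  have h1 := congrArg φ hr'
  rw [map_mul, hr, zero_mul, map_one] at h1
  exact zero_ne_one h1

theorem isIso_stalkMap_of_eq {P X : Scheme.{u}} (h g : P ⟶ X) (hg : h = g) (z : P)
    (H : IsIso (g.stalkMap z)) : IsIso (h.stalkMap z) := by
  subst hg; exact H

section Main

variable {X Y : Scheme.{u}} [IsIntegral X] [IsIntegral Y] (f : X ⟶ Y) [Flat f]
  [QuasiCompact (Y.fromSpecStalk (genericPoint Y))]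
  [QuasiSeparated (Y.fromSpecStalk (genericPoint Y))]

/-- The normalization of `X` in the generic fibre of `f` is birational to `X`. -/
theorem fromNormalization_genericPoint :
    (pullback.snd (Y.fromSpecStalk (genericPoint Y)) f).fromNormalization
      (genericPoint ↥(pullback.snd (Y.fromSpecStalk (genericPoint Y)) f).normalization) =
      genericPoint X := by
  set g₀ := pullback.snd (Y.fromSpecStalk (genericPoint Y)) f with hg₀
  have hτ : g₀.toNormalization (genericPoint ↥(pullback (Y.fromSpecStalk (genericPoint Y)) f)) =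
      genericPoint ↥g₀.normalization := apply_genericPoint_of_isDominant g₀.toNormalization
  rw [← hτ, ← Scheme.Hom.comp_apply, Scheme.Hom.toNormalization_fromNormalization]
  exact snd_genericPoint f

theorem isIso_stalkMap_fromNormalization :
    IsIso ((pullback.snd (Y.fromSpecStalk (genericPoint Y)) f).fromNormalization.stalkMap
      (genericPoint ↥(pullback.snd (Y.fromSpecStalk (genericPoint Y)) f).normalization)) := by
  set g₀ := pullback.snd (Y.fromSpecStalk (genericPoint Y)) f with hg₀
  set ξP := genericPoint ↥(pullback (Y.fromSpecStalk (genericPoint Y)) f) with hξP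
  have hτ : g₀.toNormalization ξP = genericPoint ↥g₀.normalization :=
    apply_genericPoint_of_isDominant g₀.toNormalization
  rw [← hτ]
  have hcomp : (g₀.toNormalization ≫ g₀.fromNormalization).stalkMap ξP =
      g₀.fromNormalization.stalkMap (g₀.toNormalization ξP) ≫ g₀.toNormalization.stalkMap ξP :=
    Scheme.Hom.stalkMap_comp _ _ _
  have hiso : IsIso ((g₀.toNormalization ≫ g₀.fromNormalization).stalkMap ξP) :=
    isIso_stalkMap_of_eq _ g₀ g₀.toNormalization_fromNormalization ξP (isIso_stalkMap_snd f ξP)
  rw [hcomp] at hiso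
  have hfield : IsField (g₀.normalization.presheaf.stalk (g₀.toNormalization ξP)) := by
    rw [hτ]; exact Field.toIsField g₀.normalization.functionField
  have hinj : Function.Injective (g₀.toNormalization.stalkMap ξP).hom :=
    injective_of_isField hfield _
  have hbij := (ConcreteCategory.isIso_iff_bijective _).mp hiso
  have hsurj : Function.Surjective (g₀.toNormalization.stalkMap ξP).hom := by
    intro z
    obtain ⟨w, hw⟩ := hbij.2 z
    exact ⟨(g₀.fromNormalization.stalkMap (g₀.toNormalization ξP)).hom w, hw⟩
  haveI : IsIso (g₀.toNormalization.stalkMap ξP) :=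
    (ConcreteCategory.isIso_iff_bijective _).mpr ⟨hinj, hsurj⟩
  exact (isIso_comp_right_iff _ (g₀.toNormalization.stalkMap ξP)).mp hiso

end Main

section Unique

variable {Y : Scheme.{u}} [IsIntegral Y]

theorem mono_snd_genericFibre_normalization (g : Spec (CommRingCat.of Y.functionField) ⟶ Y)
    (hg : g = gen Y Y.functionField (RingHom.id _)) [QuasiCompact g] [QuasiSeparated g] :
    Mono (pullback.snd g.fromNormalization (Y.fromSpecStalk (genericPoint Y))) := by
  subst hg
  have halg : (RingHom.id Y.functionField).IsIntegral := fun x =>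
    RingHom.isIntegralElem_map (f := RingHom.id Y.functionField) (x := x)
  haveI := Groth.Agent.Lib.Helper4.FEtNormal.isIso_toGenericFibre Y.functionField
    (RingHom.id Y.functionField) halg
  have h1 : Groth.Agent.Lib.Helper4.FEtNormal.toGenericFibre Y.functionField
      (RingHom.id Y.functionField) ≫
      pullback.snd (gen Y Y.functionField (RingHom.id _)).fromNormalization
        (Y.fromSpecStalk (genericPoint Y)) = 𝟙 _ := by
    rw [Groth.Agent.Lib.Helper4.FEtNormal.toGenericFibre, pullback.lift_snd]
    exact Spec.map_id _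
  have h2 : pullback.snd (gen Y Y.functionField (RingHom.id _)).fromNormalization
        (Y.fromSpecStalk (genericPoint Y)) =
      inv (Groth.Agent.Lib.Helper4.FEtNormal.toGenericFibre Y.functionField
        (RingHom.id Y.functionField)) := by
    rw [← cancel_epi (Groth.Agent.Lib.Helper4.FEtNormal.toGenericFibre Y.functionField
        (RingHom.id Y.functionField)), h1, IsIso.hom_inv_id]
  rw [h2]
  infer_instance

variable [QuasiCompact (Y.fromSpecStalk (genericPoint Y))]
  [QuasiSeparated (Y.fromSpecStalk (genericPoint Y))]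

theorem eq_of_comp_fromNormalization_eq {T : Scheme.{u}}
    (a a' : T ⟶ (Y.fromSpecStalk (genericPoint Y)).normalization)
    (b : T ⟶ Spec (CommRingCat.of Y.functionField))
    (ha : a ≫ (Y.fromSpecStalk (genericPoint Y)).fromNormalization =
      b ≫ Y.fromSpecStalk (genericPoint Y))
    (ha' : a' ≫ (Y.fromSpecStalk (genericPoint Y)).fromNormalization =
      b ≫ Y.fromSpecStalk (genericPoint Y)) : a = a' := by
  haveI := mono_snd_genericFibre_normalization (Y.fromSpecStalk (genericPoint Y))
    fromSpecStalk_eq_gen
  have h1 : pullback.lift a b ha = pullback.lift a' b ha' := by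
    rw [← cancel_mono (pullback.snd (Y.fromSpecStalk (genericPoint Y)).fromNormalization
      (Y.fromSpecStalk (genericPoint Y))), pullback.lift_snd, pullback.lift_snd]
  have h2 := congrArg (· ≫ pullback.fst _ _) h1
  simp only [pullback.lift_fst] at h2
  exact h2

end Unique

section Final

variable {X Y : Scheme.{u}} [IsIntegral X] [IsIntegral Y] (f : X ⟶ Y) [Smooth f]
  [QuasiCompact (X.fromSpecStalk (genericPoint X))]
  [QuasiSeparated (X.fromSpecStalk (genericPoint X))]
  [QuasiCompact (Y.fromSpecStalk (genericPoint Y))]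
  [QuasiSeparated (Y.fromSpecStalk (genericPoint Y))]

theorem exists_iso_normalization_pullback :
    ∃ e : (X.fromSpecStalk (genericPoint X)).normalization ≅
        pullback f (Y.fromSpecStalk (genericPoint Y)).fromNormalization,
      e.hom ≫ pullback.fst f (Y.fromSpecStalk (genericPoint Y)).fromNormalization =
        (X.fromSpecStalk (genericPoint X)).fromNormalization := by
  haveI : Flat f := inferInstance
  haveI : IsIso ((Y.fromSpecStalk (genericPoint Y)).normalizationPullback f) := inferInstance
  have hYν : Pi1.IsNormalScheme (Y.fromSpecStalk (genericPoint Y)).normalization :=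
    isNormalScheme_normalization_of_eq Y.functionField (RingHom.id _)
      (Y.fromSpecStalk (genericPoint Y)) fromSpecStalk_eq_gen
  have hN : Pi1.IsNormalScheme
      (pullback.snd (Y.fromSpecStalk (genericPoint Y)) f).normalization :=
    isNormalScheme_of_smooth hYν ((Y.fromSpecStalk (genericPoint Y)).normalizationPullback f ≫
      pullback.fst (Y.fromSpecStalk (genericPoint Y)).fromNormalization f)
  obtain ⟨e₁, he₁⟩ := Groth.Agent.Lib.Helper4.NormIso.exists_iso_of_birational
    (pullback.snd (Y.fromSpecStalk (genericPoint Y)) f).fromNormalization hN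
    (fromNormalization_genericPoint f) (isIso_stalkMap_fromNormalization f)
  refine ⟨e₁.symm ≪≫ asIso ((Y.fromSpecStalk (genericPoint Y)).normalizationPullback f) ≪≫
    pullbackSymmetry _ _, ?_⟩
  rw [Iso.trans_hom, Iso.trans_hom, Iso.symm_hom, asIso_hom, Category.assoc, Category.assoc,
    pullbackSymmetry_hom_comp_fst, Scheme.Hom.normalizationPullback_snd, Iso.inv_comp_eq, he₁]

theorem iso_unique
    (e e' : (X.fromSpecStalk (genericPoint X)).normalization ≅
        pullback f (Y.fromSpecStalk (genericPoint Y)).fromNormalization)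
    (he : e.hom ≫ pullback.fst f (Y.fromSpecStalk (genericPoint Y)).fromNormalization =
        (X.fromSpecStalk (genericPoint X)).fromNormalization)
    (he' : e'.hom ≫ pullback.fst f (Y.fromSpecStalk (genericPoint Y)).fromNormalization =
        (X.fromSpecStalk (genericPoint X)).fromNormalization) : e = e' := by
  set ηX := X.fromSpecStalk (genericPoint X) with hηX
  set ηY := Y.fromSpecStalk (genericPoint Y) with hηY
  haveI : Flat f := inferInstance
  have hfξ : f (genericPoint X) = genericPoint Y := apply_genericPoint_of_flat f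
  have hsp : f (genericPoint X) ⤳ genericPoint Y := (Inseparable.of_eq hfξ).specializes
  let b : Spec (CommRingCat.of X.functionField) ⟶ Spec (CommRingCat.of Y.functionField) :=
    Spec.map (f.stalkMap (genericPoint X)) ≫ Spec.map (Y.presheaf.stalkSpecializes hsp)
  have hb : ηX ≫ f = b ≫ ηY := by
    rw [Category.assoc, Scheme.SpecMap_stalkSpecializes_fromSpecStalk hsp,
      Scheme.SpecMap_stalkMap_fromSpecStalk]
  apply Iso.ext
  refine Scheme.Hom.normalization.hom_ext ηX e.hom e'.hom (pullback.fst f ηY.fromNormalization)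
    ?_ he he'
  apply pullback.hom_ext
  · rw [Category.assoc, Category.assoc, he, he']
  · apply eq_of_comp_fromNormalization_eq _ _ b
    · rw [Category.assoc, Category.assoc, ← pullback.condition, reassoc_of% he,
        Scheme.Hom.toNormalization_fromNormalization_assoc, hb]
    · rw [Category.assoc, Category.assoc, ← pullback.condition, reassoc_of% he',
        Scheme.Hom.toNormalization_fromNormalization_assoc, hb]

end Final

end Groth.Agent.Lib.T2H9.NormSm
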