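import Mathlib

/-!
# Chains of specializations and the topological Krull dimension (helper9, S7919)
-/

set_option autoImplicit false
set_option linter.style.haveILetI false
set_option linter.unusedSectionVars false
universe u
open TopologicalSpace

namespace Groth.Agent.Lib.T2H9.SpecChain

variable {T : Type*} [TopologicalSpace T] [T0Space T]

/-- the closure of a point as an irreducible closed set -/
def ptClosure (t : T) : IrreducibleCloseds T :=
  ⟨closure {t}, isIrreducible_singleton.closure, isClosed_closure⟩

lemma ptClosure_lt {a b : T} (h : b ⤳ a) (hne : a ≠ b) : ptClosure a < ptClosure b := by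
  refine lt_of_le_of_ne ?_ ?_
  · change closure {a} ⊆ closure {b}
    exact closure_minimal (Set.singleton_subset_iff.mpr (specializes_iff_mem_closure.mp h))
      isClosed_closure
  · intro heq
    have h1 : closure ({a} : Set T) = closure {b} := congrArg (fun Z : IrreducibleCloseds T =>
      (Z : Set T)) heq
    have h2 : a ⤳ b := by
      rw [specializes_iff_mem_closure, h1]
      exact subset_closure rfl
    exact hne ((h2.antisymm h).eq)

/-- a strict chain of `n + 1` points under specialization bounds the dimension from below -/
theorem le_topologicalKrullDim_of_chain (n : ℕ) (b : Fin (n + 1) → T)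
    (h : ∀ i : Fin n, b i.succ ⤳ b i.castSucc) (hne : ∀ i : Fin n, b i.castSucc ≠ b i.succ) :
    (n : WithBot ℕ∞) ≤ topologicalKrullDim T := by
  let l : LTSeries (IrreducibleCloseds T) :=
    LTSeries.mk n (fun i => ptClosure (b i))
      (Fin.strictMono_iff_lt_succ.mpr fun i => ptClosure_lt (h i) (hne i))
  exact Order.LTSeries.length_le_krullDim l

/-- three points -/
theorem two_le_topologicalKrullDim {a b c : T} (hab : a ⤳ b) (hbc : b ⤳ c) (h1 : a ≠ b)
    (h2 : b ≠ c) : (2 : WithBot ℕ∞) ≤ topologicalKrullDim T := by
  have := le_topologicalKrullDim_of_chain 2 ![c, b, a]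
    (by
      intro i
      fin_cases i
      · exact hbc
      · exact hab)
    (by
      intro i
      fin_cases i
      · exact h2.symm
      · exact h1.symm)
  exact_mod_cast this

/-- four points -/
theorem three_le_topologicalKrullDim {a b c d : T} (hab : a ⤳ b) (hbc : b ⤳ c) (hcd : c ⤳ d)
    (h1 : a ≠ b) (h2 : b ≠ c) (h3 : c ≠ d) : (3 : WithBot ℕ∞) ≤ topologicalKrullDim T := by
  have := le_topologicalKrullDim_of_chain 3 ![d, c, b, a]
    (by
      intro i
      fin_cases i
      · exact hcd
      · exact hbc
      · exact hab)
    (by
      intro i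
      fin_cases i
      · exact h3.symm
      · exact h2.symm
      · exact h1.symm)
  exact_mod_cast this

end Groth.Agent.Lib.T2H9.SpecChain
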