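import Mathlib
import Groth.Agent.Lib.T2H9SpecChain
import Groth.Agent.Lib.T2H9NormSm

/-!
# One-dimensional closed irreducible subsets of a fibered surface are vertical or horizontal
(helper9, S7919)
-/

set_option autoImplicit false
set_option linter.style.haveILetI false
set_option linter.unusedSectionVars false
universe u
open CategoryTheory CategoryTheory.Limits AlgebraicGeometry TopologicalSpace

namespace Groth.Agent.Lib.T2H9.FibSurfCurve

open Groth.Agent.Lib.T2H9.SpecChain

theorem vertical_or_horizontal {R : Type u} [CommRing R] [IsDedekindDomain R] (hR : ¬ IsField R)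
    {X : Scheme.{u}} [IsIntegral X] (f : X ⟶ Spec (CommRingCat.of R)) [IsProper f] [Flat f]
    (hdim : topologicalKrullDim X = 2)
    (D : Set X) (hD : IsClosed D) (hirr : IsIrreducible D) (hD1 : topologicalKrullDim D = 1) :
    (∃ s : (Spec (CommRingCat.of R) : Scheme.{u}), s.asIdeal.IsMaximal ∧ D ⊆ f.base ⁻¹' {s} ∧
        ∀ D' : Set X, IsIrreducible D' → D' ⊆ f.base ⁻¹' {s} → D ⊆ D' → D' = D) ∨
      (∃ x : X, (f.base x).asIdeal = ⊥ ∧
        (∀ z : X, (f.base z).asIdeal = ⊥ → x ⤳ z → z = x) ∧ D = closure {x}) := by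
  obtain ⟨ξ, hξ⟩ := QuasiSober.sober hirr hD
  have hξD : closure {ξ} = D := hξ.def
  have hξmem : ξ ∈ D := hξD ▸ subset_closure rfl
  by_cases h0 : (f.base ξ).asIdeal = ⊥
  · right
    refine ⟨ξ, h0, ?_, hξD.symm⟩
    intro z hz hxz
    by_contra hne
    have hzD : z ∈ D := hξD ▸ specializes_iff_mem_closure.mp hxz
    have hzcl : IsClosed ({z} : Set X) := by
      rw [← closure_eq_iff_isClosed]
      refine Set.Subset.antisymm ?_ subset_closure
      intro w hw
      by_contra hwz
      have hzw : z ⤳ w := specializes_iff_mem_closure.mpr hw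
      have hwD : w ∈ D :=
        (hD.closure_subset_iff.mpr (Set.singleton_subset_iff.mpr hzD)) hw
      have h2 := two_le_topologicalKrullDim (T := ↥D) (a := ⟨ξ, hξmem⟩) (b := ⟨z, hzD⟩)
        (c := ⟨w, hwD⟩) ((subtype_specializes_iff _ _).mpr hxz) ((subtype_specializes_iff _ _).mpr hzw)
        (fun h => hne (congrArg Subtype.val h).symm)
        (fun h => hwz (congrArg Subtype.val h).symm)
      rw [hD1] at h2
      exact absurd h2 (by decide)
    have hcl := f.isClosedMap _ hzcl
    rw [Set.image_singleton] at hcl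
    have hmax := (PrimeSpectrum.isClosed_singleton_iff_isMaximal _).mp hcl
    rw [hz] at hmax
    exact hR (Ring.isField_iff_maximal_bot.mpr hmax)
  · left
    have hsmax : (f.base ξ).asIdeal.IsMaximal :=
      Ring.DimensionLEOne.maximalOfPrime h0 (f.base ξ).isPrime
    have hscl : IsClosed ({f.base ξ} : Set ↥(Spec (CommRingCat.of R))) :=
      (PrimeSpectrum.isClosed_singleton_iff_isMaximal _).mpr hsmax
    have hpre : IsClosed (f.base ⁻¹' {f.base ξ}) := hscl.preimage f.continuous
    have hDs : D ⊆ f.base ⁻¹' {f.base ξ} := by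
      rw [← hξD]
      exact hpre.closure_subset_iff.mpr (Set.singleton_subset_iff.mpr rfl)
    refine ⟨f.base ξ, hsmax, hDs, ?_⟩
    intro D' hD'irr hD's hDD'
    by_contra hne
    obtain ⟨y, hyD', hyD⟩ : ∃ y ∈ D', y ∉ D := by
      by_contra hcon
      push Not at hcon
      exact hne (Set.Subset.antisymm hcon hDD')
    obtain ⟨ξ', hξ'⟩ := QuasiSober.sober hD'irr.closure isClosed_closure
    have hcl's : closure D' ⊆ f.base ⁻¹' {f.base ξ} := hpre.closure_subset_iff.mpr hD's
    have hξ'mem : ξ' ∈ closure D' := hξ'.def ▸ subset_closure rfl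
    have h1 : ξ' ⤳ ξ := by
      rw [specializes_iff_mem_closure, hξ'.def]
      exact subset_closure (hDD' hξmem)
    have h1ne : ξ' ≠ ξ := by
      rintro rfl
      apply hyD
      rw [← hξD, hξ'.def]
      exact subset_closure hyD'
    have h2ne : genericPoint X ≠ ξ' := by
      intro heq
      have h3 : f.base (genericPoint X) = genericPoint ↥(Spec (CommRingCat.of R)) :=
        Groth.Agent.Lib.T2H9.NormSm.apply_genericPoint_of_flat f
      have h4 : f.base ξ' = f.base ξ := hcl's hξ'mem
      rw [heq, h4, genericPoint_eq_bot_of_affine] at h3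
      exact h0 (congrArg PrimeSpectrum.asIdeal h3)
    obtain ⟨w, hwD, hwne⟩ : ∃ w ∈ D, w ≠ ξ := by
      by_contra hcon
      push Not at hcon
      haveI : Subsingleton ↥D :=
        ⟨fun a b => Subtype.ext ((hcon a a.2).trans (hcon b b.2).symm)⟩
      have := topologicalKrullDim_zero_of_discreteTopology ↥D
      rw [hD1] at this
      exact absurd this (by decide)
    have h3 : ξ ⤳ w := by
      rw [specializes_iff_mem_closure, hξD]
      exact hwD
    have := three_le_topologicalKrullDim (genericPoint_specializes ξ') h1 h3 h2ne h1ne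
      (Ne.symm hwne)
    rw [hdim] at this
    exact absurd this (by decide)

end Groth.Agent.Lib.T2H9.FibSurfCurve
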