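import Mathlib
import Groth.Agent.S2082
import Groth.Agent.Lib.Helper5RLR3
import Groth.Agent.Lib.Helper4DimFormulaAE
import Groth.Agent.Lib.Helper4RectDepthC
import Groth.Agent.Lib.Helper6QFAffB
import Groth.Agent.Lib.T2H3Birat

/-!
# Finite morphisms of regular schemes dominating componentwise are flat (helper9)
-/

set_option autoImplicit false
set_option linter.style.haveILetI false
universe u

open AlgebraicGeometry CategoryTheory IsLocalRing

namespace Groth.Agent.Lib.T2H9.FinRegFlat

open Groth.Agent.Lib.Helper4.DimFormula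

variable {X Y : Scheme.{u}}

/-- the fibre of a locally quasi-finite morphism has zero-dimensional local rings. -/
theorem fibStalkDim_eq_zero_of_locallyQuasiFinite (f : X ⟶ Y) [LocallyOfFiniteType f]
    [LocallyQuasiFinite f] (x : X) : fibStalkDim f x = 0 := by
  have h1 := fibreDimAt_eq_stalk_add_ptTrdeg f x
  have h2 := (Groth.Agent.Lib.Helper3.GrpHomQF.locallyQuasiFinite_iff_forall_fibreDimAt_le_zero f).mp
    inferInstance x
  rw [ringKrullDim_stalk_asFiber] at h1
  have h3 : (0 : WithBot ℕ∞) ≤ fibStalkDim f x := by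
    rw [← ringKrullDim_stalk_asFiber]
    exact ringKrullDim_nonneg_of_nontrivial
  refine le_antisymm ?_ h3
  calc fibStalkDim f x ≤ fibStalkDim f x + (ptTrdeg f x : WithBot ℕ∞) :=
        le_add_of_nonneg_right (by exact_mod_cast Nat.zero_le _)
    _ = FlatMor.fibreDimAt f x := h1.symm
    _ ≤ 0 := h2

theorem main (f : X ⟶ Y) [IsFinite f]
    [IsLocallyNoetherian X] [IsLocallyNoetherian Y]
    (hX : ∀ x : X, IsRegularLocalRing (X.presheaf.stalk x))
    (hY : ∀ y : Y, IsRegularLocalRing (Y.presheaf.stalk y))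
    (hdom : ∀ Z ∈ irreducibleComponents (X : Type u),
      closure (f.base '' Z) ∈ irreducibleComponents (Y : Type u)) :
    Flat f := by
  rw [Flat.iff_flat_stalkMap]
  intro x
  haveI := hX x
  haveI := hY (f.base x)
  haveI : IsDomain (X.presheaf.stalk x) :=
    Groth.Agent.Lib.Helper5.isDomain_of_isRegularLocalRing _
  haveI : IsDomain (Y.presheaf.stalk (f.base x)) :=
    Groth.Agent.Lib.Helper5.isDomain_of_isRegularLocalRing _
  haveI : LocCoh.IsCohenMacaulayLocalRing (X.presheaf.stalk x) :=
    Groth.Agent.Lib.Helper5.isCohenMacaulayLocalRing_of_isRegularLocalRing _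
  -- the generic point of the component through x
  haveI hbot : (⊥ : Ideal (X.presheaf.stalk x)).IsPrime := Ideal.isPrime_bot
  have hminX : (⊥ : Ideal (X.presheaf.stalk x)) ∈ minimalPrimes (X.presheaf.stalk x) := by
    rw [IsDomain.minimalPrimes_eq_singleton_bot]; rfl
  have hξmax := (mem_minimalPrimes_iff_fromSpecStalk_maximal x ⊥).mp hminX
  have hξgen : X.fromSpecStalk x ⟨⊥, hbot⟩ ∈ genericPoints X :=
    (Groth.Agent.Lib.T2H3.Birat.mem_genericPoints_iff _).mpr hξmax
  have hfξ : f.base (X.fromSpecStalk x ⟨⊥, hbot⟩) ∈ genericPoints Y := by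
    have h1 := hdom _ hξgen
    change closure {f.base (X.fromSpecStalk x ⟨⊥, hbot⟩)} ∈ irreducibleComponents Y
    rw [← Set.image_singleton, ← closure_image_closure f.continuous]
    exact h1
  have hfξmax := (Groth.Agent.Lib.T2H3.Birat.mem_genericPoints_iff _).mp hfξ
  rw [← fromSpecStalk_comap_stalkMap f x ⊥] at hfξmax
  have hminY := (mem_minimalPrimes_iff_fromSpecStalk_maximal (f.base x)
    ((⊥ : Ideal (X.presheaf.stalk x)).comap (f.stalkMap x).hom)).mpr hfξmax
  have hker : (⊥ : Ideal (X.presheaf.stalk x)).comap (f.stalkMap x).hom = ⊥ := by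
    rw [IsDomain.minimalPrimes_eq_singleton_bot] at hminY
    exact hminY
  -- dimension formula
  have hcat := Groth.Agent.Lib.Helper4.RectDepth.isUniversallyCatenary_of_isRegularLocalRing
    (Y.presheaf.stalk (f.base x))
  have hform := ringKrullDim_quotient_add_ptTrdeg_eq f x hcat ⊥
  rw [Groth.Agent.Lib.Helper6.QFAff.ptTrdeg_eq_zero_of_locallyQuasiFinite f x,
    Groth.Agent.Lib.Helper6.QFAff.ptTrdeg_eq_zero_of_locallyQuasiFinite f, hker, Nat.cast_zero,
    add_zero, add_zero,
    ringKrullDim_eq_of_ringEquiv (RingEquiv.quotientBot (X.presheaf.stalk x)),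
    ringKrullDim_eq_of_ringEquiv (RingEquiv.quotientBot (Y.presheaf.stalk (f.base x)))] at hform
  have h0 := fibStalkDim_eq_zero_of_locallyQuasiFinite f x
  letI := (f.stalkMap x).hom.toAlgebra
  haveI : IsLocalHom (algebraMap (Y.presheaf.stalk (f.base x)) (X.presheaf.stalk x)) :=
    inferInstanceAs (IsLocalHom (f.stalkMap x).hom)
  have hdim : ringKrullDim (X.presheaf.stalk x) = ringKrullDim (Y.presheaf.stalk (f.base x)) +
      ringKrullDim (X.presheaf.stalk x ⧸ (maximalIdeal (Y.presheaf.stalk (f.base x))).map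
        (algebraMap (Y.presheaf.stalk (f.base x)) (X.presheaf.stalk x))) := by
    have : ringKrullDim (X.presheaf.stalk x ⧸ (maximalIdeal (Y.presheaf.stalk (f.base x))).map
        (algebraMap (Y.presheaf.stalk (f.base x)) (X.presheaf.stalk x))) = 0 := h0
    rw [this, add_zero, hform]
  exact Groth.Agent.S2082.result hdim

end Groth.Agent.Lib.T2H9.FinRegFlat
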