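import Groth.Agent.Lib.T2H9FlatFib2

/-!
# T2H9FlatFib4 (helper9): freeness of `H^p(X, F)` from vanishing on the closed fibre

`X` proper over a Noetherian local ring `A`, `F` coherent and flat over `A`.  If
`H^{p+1}(X, F/𝔪F) = 0` and the maps `H^p(J'F/JF) → H^p(F/JF)` are injective for `𝔪`-primary `J`,
then `H^p(X, F)` is free of rank `dim H^p(X, F/𝔪F)` (`exists_free`); the proof shows
`(A/J)^h ≅ H^p(X, F/JF)` for `J = 𝔪^{k+1}` by induction along a composition series
(`chain_induction'`, `good_step`) and then uses Krull, Nakayama and the adic smallness of the kernels.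
Also: `subsingleton_Q_of_primary`, `injective_εJ_zero`, `injective_εJ_succ`,
`exists_basis_mod_maximalIdeal`.
-/

set_option autoImplicit false
set_option linter.style.haveILetI false
set_option linter.unusedSectionVars false
set_option linter.unusedVariables false
universe u
open CategoryTheory AlgebraicGeometry Limits TopologicalSpace Opposite

namespace Groth.Agent.Lib.T2H9.FlatFib

open Groth.Agent.Lib.T2H9.FFGeom

variable {A : Type u} [CommRing A]
variable (X : Scheme.{u}) [X.Over (Spec (CommRingCat.of A))] (F : X.Modules)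

section chain'

variable [IsNoetherianRing A] [F.IsQuasicoherent]
  (hfl : FlatMod.IsFlatOver (X ↘ Spec (CommRingCat.of A)) F) (𝔪 : Ideal A) [h𝔪 : 𝔪.IsMaximal]

include hfl h𝔪 in
/-- the one-step isomorphism `F/𝔪F ≅ J'F/JF`, together with its compatibility with
multiplication by `a` -/
theorem exists_iso_GJ_of_notMem (J J' : Ideal A) (a : A) (hle : J ≤ J') (ha : a ∈ J')
    (hJ' : J' = J ⊔ Ideal.span {a}) (h1 : ∀ b ∈ 𝔪, b * a ∈ J) (hna : a ∉ J) :
    ∃ e : cokernel (Formal.smulFamily 𝔪 F) ≅ GJ X F J J' hle,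
      cokernel.π (Formal.smulFamily 𝔪 F) ≫ e.hom = μbar X F J J' a hle ha := by
  obtain ⟨r, g, hg⟩ := (Submodule.fg_iff_exists_fin_generating_family).1
    ((isNoetherianRing_iff_ideal_fg A).1 inferInstance J)
  have h2 : ∀ b, b * a ∈ J → b ∈ 𝔪 := by
    intro b hb
    by_contra hb𝔪
    obtain ⟨y, i, hi, hyi⟩ := h𝔪.exists_inv hb𝔪
    apply hna
    have : a = y * (b * a) + i * a := by
      rw [← mul_assoc, ← add_mul, hyi, one_mul]
    rw [this]
    exact J.add_mem (J.mul_mem_left _ hb) (h1 i hi)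
  haveI : Epi (μbar X F J J' a hle ha) := epi_μbar X F J J' a hle ha hJ'
  haveI : Epi (lamG X F 𝔪 (μbar X F J J' a hle ha) (smulFamily_μbar X F J J' a hle ha 𝔪 h1)) :=
    epi_lam X F J J' a hle ha 𝔪 h1 g hg (fun U hU s hs => by
      haveI := flat_MA X F hfl hU
      exact mem_smul_top_of_flat J 𝔪 a h1 h2 s hs)
  exact ⟨cokIso X F 𝔪 (μbar X F J J' a hle ha) (smulFamily_μbar X F J J' a hle ha 𝔪 h1),
    π_cokIso_hom X F 𝔪 _ _⟩

include hfl h𝔪 in
theorem chain_induction' (P : ∀ J J' : Ideal A, J ≤ J' → Prop)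
    (hrefl : ∀ J, P J J le_rfl)
    (hcomp : ∀ (J J₁ J' : Ideal A) (h : J ≤ J₁) (h' : J₁ ≤ J'),
      P J J₁ h → P J₁ J' h' → P J J' (h.trans h'))
    (hstep : ∀ (J J' : Ideal A) (hle : J ≤ J') (a : A) (ha : a ∈ J')
      (hJ' : J' = J ⊔ Ideal.span {a}) (h1 : ∀ b ∈ 𝔪, b * a ∈ J)
      (e : cokernel (Formal.smulFamily 𝔪 F) ≅ GJ X F J J' hle)
      (he : cokernel.π (Formal.smulFamily 𝔪 F) ≫ e.hom = μbar X F J J' a hle ha), P J J' hle)
    (J J' : Ideal A) (hle : J ≤ J') (hm : 𝔪 * J' ≤ J) : P J J' hle := by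
  classical
  have key : ∀ s : Finset A, (∀ x ∈ s, ∀ b ∈ 𝔪, b * x ∈ J) →
      ∀ (J' : Ideal A) (hle : J ≤ J'), J' = J ⊔ Ideal.span (s : Set A) → P J J' hle := by
    intro s
    induction s using Finset.induction_on with
    | empty =>
      intro _ J' hle hJ'
      have : J' = J := by rw [hJ']; simp
      subst this
      exact hrefl _
    | insert a s has ih =>
      intro hs J' hle hJ'
      have hs' : ∀ x ∈ s, ∀ b ∈ 𝔪, b * x ∈ J := fun x hx => hs x (Finset.mem_insert_of_mem hx)
      have hle₁ : J ≤ J ⊔ Ideal.span (s : Set A) := le_sup_left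
      have h01 := ih hs' (J ⊔ Ideal.span (s : Set A)) hle₁ rfl
      have hJ'' : J' = (J ⊔ Ideal.span (s : Set A)) ⊔ Ideal.span {a} := by
        rw [hJ', Finset.coe_insert, Ideal.span_insert, sup_assoc, sup_comm (Ideal.span {a})]
      by_cases haJ : a ∈ J ⊔ Ideal.span (s : Set A)
      · have : J' = J ⊔ Ideal.span (s : Set A) := by
          rw [hJ'']
          apply le_antisymm
          · exact sup_le le_rfl ((Ideal.span_singleton_le_iff_mem _).2 haJ)
          · exact le_sup_left
        subst this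
        exact h01
      · have hle₂ : J ⊔ Ideal.span (s : Set A) ≤ J' := by rw [hJ'']; exact le_sup_left
        have ha' : a ∈ J' := by
          rw [hJ'']
          exact Ideal.mem_sup_right (Ideal.subset_span rfl)
        have h1' : ∀ b ∈ 𝔪, b * a ∈ J ⊔ Ideal.span (s : Set A) :=
          fun b hb => hle₁ (hs a (Finset.mem_insert_self a s) b hb)
        obtain ⟨e, he⟩ := exists_iso_GJ_of_notMem X F hfl 𝔪 _ J' a hle₂ ha' hJ'' h1' haJ
        have h12 : P (J ⊔ Ideal.span (s : Set A)) J' hle₂ :=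
          hstep _ J' hle₂ a ha' hJ'' h1' e he
        exact hcomp _ _ _ hle₁ hle₂ h01 h12
  obtain ⟨s, hs⟩ := (isNoetherianRing_iff_ideal_fg A).1 inferInstance J'
  refine key s (fun x hx b hb => hm (Ideal.mul_mem_mul hb ?_)) J' hle ?_
  · rw [← hs]; exact Ideal.subset_span hx
  · rw [hs]; exact (sup_eq_right.2 hle).symm

end chain'

section KL

variable [IsNoetherianRing A] [F.IsQuasicoherent]
  (hfl : FlatMod.IsFlatOver (X ↘ Spec (CommRingCat.of A)) F) (𝔪 : Ideal A) [h𝔪 : 𝔪.IsMaximal]
  (p : ℕ) {h : ℕ} (t : Fin h → Coh.HH X F p)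

/-- `H^p(X, F) → H^p(X, F/JF)` -/
noncomputable def qJ (J : Ideal A) : Coh.HH X F p →ₗ[A] Coh.HH X (cokernel (Formal.smulFamily J F)) p :=
  Canon.HHlin A (cokernel.π (Formal.smulFamily J F)) p

/-- `A^h → H^p(X, F/JF)`, `c ↦ Σ c_i t_i mod J` -/
noncomputable def φJ (J : Ideal A) :
    (Fin h → A) →ₗ[A] Coh.HH X (cokernel (Formal.smulFamily J F)) p :=
  (qJ X F p J).comp (Fintype.linearCombination A t)

/-- `φ_J` induces an isomorphism `(A/J)^h ≅ H^p(X, F/JF)` -/
def Good (J : Ideal A) : Prop :=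
  Function.Surjective (φJ X F p t J) ∧ ∀ c : Fin h → A, φJ X F p t J c = 0 → ∀ i, c i ∈ J

theorem tJ_qJ (J J' : Ideal A) (hle : J ≤ J') (x : Coh.HH X F p) :
    Canon.HHlin A (tJ X F J J' hle) p (qJ X F p J x) = qJ X F p J' x := by
  unfold qJ
  rw [← HHlin_comp, π_tJ]

theorem tJ_φJ (J J' : Ideal A) (hle : J ≤ J') (c : Fin h → A) :
    Canon.HHlin A (tJ X F J J' hle) p (φJ X F p t J c) = φJ X F p t J' c :=
  tJ_qJ X F p J J' hle _

theorem φJ_of_mem (J : Ideal A) (c : Fin h → A) (hc : ∀ i, c i ∈ J) : φJ X F p t J c = 0 := by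
  unfold φJ
  rw [LinearMap.comp_apply, Fintype.linearCombination_apply, map_sum]
  refine Finset.sum_eq_zero (fun i _ => ?_)
  rw [map_smul]
  exact smul_HH_cokernel X F J (c i) (hc i) p _

theorem ε_e_φ (J J' : Ideal A) (a : A) (hle : J ≤ J') (ha : a ∈ J')
    (e : cokernel (Formal.smulFamily 𝔪 F) ≅ GJ X F J J' hle)
    (he : cokernel.π (Formal.smulFamily 𝔪 F) ≫ e.hom = μbar X F J J' a hle ha)
    (d : Fin h → A) :
    Canon.HHlin A (εJ X F J J' hle) p (Canon.HHlin A e.hom p (φJ X F p t 𝔪 d)) =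
      φJ X F p t J (a • d) := by
  unfold φJ qJ
  have e1 : cokernel.π (Formal.smulFamily 𝔪 F) ≫ e.hom ≫ εJ X F J J' hle =
      Formal.smulMod A F a ≫ cokernel.π (Formal.smulFamily J F) := by
    rw [← Category.assoc, he, μbar_εJ]
  rw [LinearMap.comp_apply, LinearMap.comp_apply, ← HHlin_comp, ← HHlin_comp, e1, HHlin_comp]
  have e2 : Canon.HHlin A (Formal.smulMod A F a) p (Fintype.linearCombination A t d) =
      Fintype.linearCombination A t (a • d) := by
    rw [map_smul]
    rfl
  rw [e2]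

include hfl h𝔪 in
theorem good_step (hG𝔪 : Good X F p t 𝔪)
    (H1 : Subsingleton (Coh.HH X (cokernel (Formal.smulFamily 𝔪 F)) (p + 1)))
    (H2 : ∀ (J J' : Ideal A) (hle : J ≤ J'), (∃ n : ℕ, 𝔪 ^ n ≤ J) →
      Function.Injective (Canon.HHlin A (εJ X F J J' hle) p))
    (J J' : Ideal A) (hle : J ≤ J') (hm : 𝔪 * J' ≤ J) (hprim : ∃ n : ℕ, 𝔪 ^ n ≤ J)
    (hG : Good X F p t J') :
    Good X F p t J := by
  refine chain_induction' X F hfl 𝔪
    (fun J J' hle => (∃ n : ℕ, 𝔪 ^ n ≤ J) → Good X F p t J' → Good X F p t J) ?_ ?_ ?_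
    J J' hle hm hprim hG
  · intro J _ hJ
    exact hJ
  · intro J J₁ J' h1 h2 s1 s2 hpr hJ'
    obtain ⟨n, hn⟩ := hpr
    exact s1 ⟨n, hn⟩ (s2 ⟨n, hn.trans h1⟩ hJ')
  · intro J J' hle a ha hJ' h1 e he hpr hGJ'
    obtain ⟨_, w, hS⟩ := shortExact_GJ X F J J' hle
    have hsurjt : Function.Surjective (Canon.HHlin A (tJ X F J J' hle) p) :=
      surjective_tJ_of_subsingleton X F J J' hle p
        (Groth.Agent.Lib.T2H5.PnStruct.subsingleton_HH_of_iso e (p + 1) H1)
    have hex := Groth.Agent.Lib.T2H5.T2Les.exact₂ (A := A) _ hS p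
    change LinearMap.ker (Canon.HHlin A (tJ X F J J' hle) p) =
      LinearMap.range (Canon.HHlin A (εJ X F J J' hle) p) at hex
    have hesurj : Function.Surjective (Canon.HHlin A e.hom p) := by
      intro z
      refine ⟨Canon.HHlin A e.inv p z, ?_⟩
      rw [← HHlin_comp, e.inv_hom_id]
      exact HHlin_id X _ p z
    have heinj : Function.Injective (Canon.HHlin A e.hom p) := by
      intro z z' hz
      have := congrArg (Canon.HHlin A e.inv p) hz
      rw [← HHlin_comp, ← HHlin_comp, e.hom_inv_id, HHlin_id, HHlin_id] at this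
      exact this
    constructor
    · -- surjectivity
      intro y
      obtain ⟨c, hc⟩ := hGJ'.1 (Canon.HHlin A (tJ X F J J' hle) p y)
      have h3 : y - φJ X F p t J c ∈ LinearMap.ker (Canon.HHlin A (tJ X F J J' hle) p) := by
        rw [LinearMap.mem_ker, map_sub, tJ_φJ, hc, sub_self]
      rw [hex] at h3
      obtain ⟨z, hz⟩ := h3
      obtain ⟨w', rfl⟩ := hesurj z
      obtain ⟨d, rfl⟩ := hG𝔪.1 w'
      rw [ε_e_φ X F 𝔪 p t J J' a hle ha e he d] at hz
      refine ⟨c + a • d, ?_⟩
      rw [map_add, hz]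
      abel
    · -- injectivity
      intro c hc i
      have h3 : φJ X F p t J' c = 0 := by
        rw [← tJ_φJ X F p t J J' hle c, hc, map_zero]
      have h4 := hGJ'.2 c h3
      -- write `c_i = j_i + a d_i`
      have h5 : ∀ i, ∃ j ∈ J, ∃ d : A, c i = j + a * d := by
        intro i
        have hi : c i ∈ J ⊔ Ideal.span {a} := hJ' ▸ h4 i
        obtain ⟨j, hj, z, hz, hjz⟩ := Submodule.mem_sup.mp hi
        obtain ⟨d, rfl⟩ := Ideal.mem_span_singleton'.mp hz
        exact ⟨j, hj, d, by rw [← hjz, mul_comm]⟩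
      choose j hj d hd using h5
      have h6 : c = j + a • d := by
        funext i
        rw [hd i]
        rfl
      have h7 : φJ X F p t J (a • d) = 0 := by
        have := hc
        rw [h6, map_add, φJ_of_mem X F p t J j hj, zero_add] at this
        exact this
      rw [← ε_e_φ X F 𝔪 p t J J' a hle ha e he d] at h7
      have h8 : φJ X F p t 𝔪 d = 0 :=
        heinj ((H2 J J' hle hpr (h7.trans (map_zero _).symm)).trans (map_zero _).symm)
      have h9 := hG𝔪.2 d h8
      rw [hd i]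
      exact J.add_mem (hj i) (by rw [mul_comm]; exact h1 _ (h9 i))

end KL

section primary

variable [IsNoetherianRing A] [F.IsQuasicoherent]
  (hfl : FlatMod.IsFlatOver (X ↘ Spec (CommRingCat.of A)) F) (𝔪 : Ideal A) [h𝔪 : 𝔪.IsMaximal]

theorem isZero_Q_top : IsZero (cokernel (Formal.smulFamily (⊤ : Ideal A) F)) := by
  rw [IsZero.iff_id_eq_zero, ← cancel_epi (cokernel.π (Formal.smulFamily (⊤ : Ideal A) F)),
    Category.comp_id, Limits.comp_zero]
  have h1 := smulMod_comp_cokernel X F (⊤ : Ideal A) 1 Submodule.mem_top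
  have h2 : Formal.smulMod A F 1 = 𝟙 F := by
    apply Scheme.Modules.hom_ext
    intro U
    ext m
    change (ρU X U 1 : Γ(X, U)) • m = m
    rw [map_one, one_smul]
  rw [h2, Category.id_comp] at h1
  exact h1

include hfl h𝔪 in
/-- if `H^n(X, F/𝔪F) = 0` then `H^n(X, F/JF) = 0` for every `𝔪`-primary ideal `J` -/
theorem subsingleton_Q_of_primary (n : ℕ)
    (hvan : Subsingleton (Coh.HH X (cokernel (Formal.smulFamily 𝔪 F)) n))
    (J : Ideal A) (hJ : ∃ k : ℕ, 𝔪 ^ k ≤ J) :
    Subsingleton (Coh.HH X (cokernel (Formal.smulFamily J F)) n) := by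
  obtain ⟨k, hk⟩ := hJ
  have key : ∀ i : ℕ, Subsingleton (Coh.HH X (cokernel (Formal.smulFamily (J ⊔ 𝔪 ^ i) F)) n) := by
    intro i
    induction i with
    | zero =>
      have aux : ∀ J' : Ideal A, J' = ⊤ →
          Subsingleton (Coh.HH X (cokernel (Formal.smulFamily J' F)) n) := by
        intro J' hJ'
        subst hJ'
        exact Groth.Agent.Lib.T2H5.Chevalley.subsingleton_HH_of_isZero (isZero_Q_top X F) n
      exact aux _ (by rw [pow_zero, Ideal.one_eq_top, sup_top_eq])
    | succ i ih =>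
      refine subsingleton_Q X F hfl 𝔪 n hvan (J ⊔ 𝔪 ^ (i + 1)) (J ⊔ 𝔪 ^ i)
        (sup_le_sup_left (Ideal.pow_le_pow_right (Nat.le_succ i)) J) ?_ ih
      rw [Ideal.mul_sup]
      refine sup_le (Ideal.mul_le_right.trans le_sup_left) ?_
      rw [← pow_succ']
      exact le_sup_right
  have aux : ∀ J' : Ideal A, J' = J →
      Subsingleton (Coh.HH X (cokernel (Formal.smulFamily J' F)) n) →
      Subsingleton (Coh.HH X (cokernel (Formal.smulFamily J F)) n) := by
    intro J' hJ' h
    subst hJ'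
    exact h
  exact aux _ (sup_eq_left.2 hk) (key k)

/-- left exactness: `H^0(J'F/JF) → H^0(F/JF)` is injective -/
theorem injective_εJ_zero (J J' : Ideal A) (hle : J ≤ J') :
    Function.Injective (Canon.HHlin A (εJ X F J J' hle) 0) := by
  obtain ⟨_, w, hS⟩ := shortExact_GJ X F J J' hle
  exact Groth.Agent.Lib.T2H5.T2Les.injective_f_zero (A := A)
    (ShortComplex.mk (εJ X F J J' hle) (tJ X F J J' hle) w) hS

/-- if `H^k(X, F/J'F) = 0` then `H^{k+1}(J'F/JF) → H^{k+1}(F/JF)` is injective -/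
theorem injective_εJ_succ (J J' : Ideal A) (hle : J ≤ J') (k : ℕ)
    (h : Subsingleton (Coh.HH X (cokernel (Formal.smulFamily J' F)) k)) :
    Function.Injective (Canon.HHlin A (εJ X F J J' hle) (k + 1)) := by
  obtain ⟨_, w, hS⟩ := shortExact_GJ X F J J' hle
  refine Groth.Agent.Lib.T2H5.HHLes.injective_f_succ_of_surjective_g A
    (ShortComplex.mk (εJ X F J J' hle) (tJ X F J J' hle) w) hS k ?_
  intro y
  exact ⟨0, Subsingleton.elim _ _⟩

end primary

section KLalg

/-- a finite module over a local ring killed by the maximal ideal has a "basis mod 𝔪" -/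
theorem exists_basis_mod_maximalIdeal {A : Type*} [CommRing A] [IsLocalRing A] (V : Type*)
    [AddCommGroup V] [Module A V] [Module.Finite A V]
    (hV : ∀ a ∈ IsLocalRing.maximalIdeal A, ∀ v : V, a • v = 0) :
    ∃ (h : ℕ) (v : Fin h → V), Function.Surjective (Fintype.linearCombination A v) ∧
      ∀ c : Fin h → A, Fintype.linearCombination A v c = 0 →
        ∀ i, c i ∈ IsLocalRing.maximalIdeal A := by
  have htors : Module.IsTorsionBySet A V (IsLocalRing.maximalIdeal A : Set A) := by
    intro v a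
    exact hV a.1 a.2 v
  letI : Module (A ⧸ IsLocalRing.maximalIdeal A) V := htors.module
  haveI : IsScalarTower A (A ⧸ IsLocalRing.maximalIdeal A) V := htors.isScalarTower
  letI : Field (A ⧸ IsLocalRing.maximalIdeal A) := Ideal.Quotient.field _
  haveI : Module.Finite (A ⧸ IsLocalRing.maximalIdeal A) V :=
    Module.Finite.of_restrictScalars_finite A _ V
  let b := Module.finBasis (A ⧸ IsLocalRing.maximalIdeal A) V
  refine ⟨_, b, ?_, ?_⟩
  · intro x
    choose c hc using fun i => Ideal.Quotient.mk_surjective (b.repr x i)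
    refine ⟨c, ?_⟩
    rw [Fintype.linearCombination_apply]
    conv_rhs => rw [← b.sum_repr x]
    refine Finset.sum_congr rfl (fun i _ => ?_)
    rw [← hc i]
    rw [← algebraMap_smul (A ⧸ IsLocalRing.maximalIdeal A) (c i) (b i)]
    rfl
  · intro c hc i
    rw [Fintype.linearCombination_apply] at hc
    have h1 : ∑ i, (Ideal.Quotient.mk (IsLocalRing.maximalIdeal A) (c i)) • b i = 0 := by
      rw [← hc]
      refine Finset.sum_congr rfl (fun i _ => ?_)
      rw [← algebraMap_smul (A ⧸ IsLocalRing.maximalIdeal A) (c i) (b i)]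
      rfl
    have h2 := Fintype.linearIndependent_iff.1 b.linearIndependent _ h1 i
    exact Ideal.Quotient.eq_zero_iff_mem.1 h2

end KLalg

section KLmain

variable [IsNoetherianRing A] [IsLocalRing A] [IsProper (X ↘ Spec (CommRingCat.of A))]
  (hF : Coh.IsCoh F) (hfl : FlatMod.IsFlatOver (X ↘ Spec (CommRingCat.of A)) F) (p : ℕ)

include hF in
theorem isCoh_Q (J : Ideal A) : Coh.IsCoh (cokernel (Formal.smulFamily J F)) := by
  haveI := hF.1
  haveI := isQuasicoherent_sigmaJ X F J
  exact Groth.Agent.Lib.T2H5.Devissage.isCoh_of_epi (cokernel.π (Formal.smulFamily J F)) hF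
    (Groth.Agent.Lib.Helper23.QCohLocal.isQuasicoherent_cokernel _)

include hF hfl in
/-- **Key lemma**: if `H^{p+1}(X, F/𝔪F) = 0` and the maps `H^p(J'F/JF) → H^p(F/JF)` are
injective, then `H^p(X, F)` is free of rank `dim H^p(X, F/𝔪F)`. -/
theorem exists_free
    (H1 : Subsingleton (Coh.HH X (cokernel (Formal.smulFamily (IsLocalRing.maximalIdeal A) F))
      (p + 1)))
    (H2 : ∀ (J J' : Ideal A) (hle : J ≤ J'), (∃ n : ℕ, IsLocalRing.maximalIdeal A ^ n ≤ J) →
      Function.Injective (Canon.HHlin A (εJ X F J J' hle) p)) :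
    ∃ h : ℕ, Nonempty (Coh.HH X F p ≃ₗ[A] (Fin h → A)) ∧
      Nonempty (Coh.HH X (cokernel (Formal.smulFamily (IsLocalRing.maximalIdeal A) F)) p ≃ₗ[A]
        (Fin h → A ⧸ IsLocalRing.maximalIdeal A)) := by
  haveI := hF.1
  haveI : Module.Finite A (Coh.HH X F p) :=
    Groth.Agent.Lib.T2H5.T2Main.finite_HH_of_isProper A X F hF p
  haveI : Module.Finite A
      (Coh.HH X (cokernel (Formal.smulFamily (IsLocalRing.maximalIdeal A) F)) p) :=
    Groth.Agent.Lib.T2H5.T2Main.finite_HH_of_isProper A X _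
      (isCoh_Q X F hF (IsLocalRing.maximalIdeal A)) p
  obtain ⟨h, v, hv1, hv2⟩ := exists_basis_mod_maximalIdeal
    (Coh.HH X (cokernel (Formal.smulFamily (IsLocalRing.maximalIdeal A) F)) p)
    (fun a ha y => smul_HH_cokernel X F (IsLocalRing.maximalIdeal A) a ha p y)
  -- surjectivity of `H^p(F) → H^p(F/𝔪F)`
  have hs0 := surjective_toHHmodPow X F (IsLocalRing.maximalIdeal A) hF p
    (surjective_tL X F hfl (IsLocalRing.maximalIdeal A) p H1) 0
  have aux : ∀ J J' : Ideal A, J = J' → Function.Surjective (qJ X F p J) →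
      Function.Surjective (qJ X F p J') := by
    intro J J' hJ hs
    subst hJ
    exact hs
  have hs : Function.Surjective (qJ X F p (IsLocalRing.maximalIdeal A)) :=
    aux (IsLocalRing.maximalIdeal A ^ (0 + 1)) _ (by rw [zero_add, pow_one]) hs0
  choose t ht using fun i => hs (v i)
  have hφ𝔪 : ∀ c, φJ X F p t (IsLocalRing.maximalIdeal A) c = Fintype.linearCombination A v c := by
    intro c
    unfold φJ
    rw [LinearMap.comp_apply, Fintype.linearCombination_apply, Fintype.linearCombination_apply,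
      map_sum]
    refine Finset.sum_congr rfl (fun i _ => ?_)
    rw [map_smul, ht]
  have hG𝔪 : Good X F p t (IsLocalRing.maximalIdeal A) := by
    constructor
    · intro y
      obtain ⟨c, hc⟩ := hv1 y
      exact ⟨c, (hφ𝔪 c).trans hc⟩
    · intro c hc
      exact hv2 c ((hφ𝔪 c).symm.trans hc)
  have hGk : ∀ k : ℕ, Good X F p t (IsLocalRing.maximalIdeal A ^ (k + 1)) := by
    intro k
    induction k with
    | zero =>
      rw [zero_add, pow_one]
      exact hG𝔪
    | succ k ih =>
      exact good_step X F hfl (IsLocalRing.maximalIdeal A) p t hG𝔪 H1 H2 _ _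
        (Ideal.pow_le_pow_right (Nat.le_succ _)) (by rw [← pow_succ']) ⟨_, le_rfl⟩ ih
  -- the map `A^h → H^p(X, F)`
  have hq : ∀ (J : Ideal A) (c : Fin h → A),
      qJ X F p J (Fintype.linearCombination A t c) = φJ X F p t J c := fun J c => rfl
  have hinj : Function.Injective (Fintype.linearCombination A t) := by
    rw [← LinearMap.ker_eq_bot, LinearMap.ker_eq_bot']
    intro c hc
    funext i
    have h1 : ∀ k : ℕ, c i ∈ IsLocalRing.maximalIdeal A ^ k := by
      intro k
      have h2 := (hGk k).2 c (by rw [← hq, hc, map_zero]) i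
      exact Ideal.pow_le_pow_right (Nat.le_succ k) h2
    have h3 : c i ∈ (⨅ k : ℕ, IsLocalRing.maximalIdeal A ^ k : Ideal A) :=
      (Ideal.mem_iInf).2 h1
    rw [Ideal.iInf_pow_eq_bot_of_isLocalRing _ Ideal.IsPrime.ne_top'] at h3
    exact h3
  have hsurj : Function.Surjective (Fintype.linearCombination A t) := by
    obtain ⟨c₀, hc₀⟩ := Groth.Agent.Lib.T2H9.FFMain.kernels_adically_small
      (IsLocalRing.maximalIdeal A) F hF p
    have hker := hc₀ (c₀ + 1) (Nat.le_succ c₀)
    rw [Nat.add_sub_cancel_left, pow_one] at hker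
    have hle : (⊤ : Submodule A (Coh.HH X F p)) ≤
        LinearMap.range (Fintype.linearCombination A t) ⊔
          IsLocalRing.maximalIdeal A • (⊤ : Submodule A (Coh.HH X F p)) := by
      intro x _
      obtain ⟨c, hc⟩ := (hGk (c₀ + 1)).1
        (qJ X F p (IsLocalRing.maximalIdeal A ^ (c₀ + 1 + 1)) x)
      have h1 : x - Fintype.linearCombination A t c ∈
          ((Formal.toHHmodPow (IsLocalRing.maximalIdeal A) F p (c₀ + 1)).ker :
            Set (Coh.HH X F p)) := by
        change qJ X F p (IsLocalRing.maximalIdeal A ^ (c₀ + 1 + 1))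
          (x - Fintype.linearCombination A t c) = 0
        rw [map_sub, hq, hc, sub_self]
      have h2 := hker h1
      have h3 : x = Fintype.linearCombination A t c + (x - Fintype.linearCombination A t c) := by
        abel
      rw [h3]
      exact Submodule.add_mem_sup ⟨c, rfl⟩ h2
    have h4 := Submodule.le_of_le_smul_of_le_jacobson_bot (Module.Finite.fg_top)
      (IsLocalRing.maximalIdeal_le_jacobson ⊥) hle
    rw [← LinearMap.range_eq_top]
    exact top_le_iff.1 h4
  refine ⟨h, ⟨(LinearEquiv.ofBijective _ ⟨hinj, hsurj⟩).symm⟩, ?_⟩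
  -- `H^p(F/𝔪F) ≅ (A/𝔪)^h`
  let ψ : (Fin h → A) →ₗ[A] (Fin h → A ⧸ IsLocalRing.maximalIdeal A) :=
    LinearMap.pi (fun i => (Submodule.mkQ (IsLocalRing.maximalIdeal A)).comp (LinearMap.proj i))
  have hψs : Function.Surjective ψ := by
    intro y
    choose c hc using fun i => Submodule.mkQ_surjective (IsLocalRing.maximalIdeal A) (y i)
    exact ⟨c, funext hc⟩
  have hker : LinearMap.ker ψ = LinearMap.ker (Fintype.linearCombination A v) := by
    ext c
    rw [LinearMap.mem_ker, LinearMap.mem_ker]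
    constructor
    · intro hc
      have h1 : ∀ i, c i ∈ IsLocalRing.maximalIdeal A := by
        intro i
        have := congrFun hc i
        exact (Submodule.Quotient.mk_eq_zero _).1 this
      rw [← hφ𝔪]
      exact φJ_of_mem X F p t _ c h1
    · intro hc
      funext i
      exact (Submodule.Quotient.mk_eq_zero _).2 (hv2 c hc i)
  exact ⟨((LinearMap.quotKerEquivOfSurjective _ hv1).symm.trans
    (Submodule.quotEquivOfEq _ _ hker.symm)).trans (LinearMap.quotKerEquivOfSurjective _ hψs)⟩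

end KLmain

end Groth.Agent.Lib.T2H9.FlatFib
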