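import Groth.Agent.Lib.T2H9FlatFib4

/-!
# T2H9FlatFib6 (helper9): the key lemma of `T2H9FlatFib4` with an explicit "basis mod 𝔪"

`X` proper over a Noetherian local ring `A`, `F` coherent and flat over `A`.  If `t : Fin h → H^p(X, F)` induces an
isomorphism `(A/𝔪)^h ≅ H^p(X, F/𝔪F)` (`Good X F p t 𝔪`) and the maps `H^p(J'F/JF) → H^p(F/JF)` are injective for
`𝔪`-primary `J`, then `t` is a basis of `H^p(X, F)` (`bijective_linearCombination_of_good`).  This is the variant of
`FlatFib.exists_free` in which the surjectivity of `H^p(F) → H^p(F/𝔪F)` is an hypothesis (no `H^{p+1}` vanishing is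
needed); `good_step'` is `good_step` without its unused vanishing hypothesis.
-/

set_option autoImplicit false
set_option linter.style.haveILetI false
set_option linter.unusedSectionVars false
set_option linter.unusedVariables false
universe u
open CategoryTheory AlgebraicGeometry Limits TopologicalSpace Opposite

namespace Groth.Agent.Lib.T2H9.FlatFib

open Groth.Agent.Lib.T2H9.FFGeom

variable {A : Type u} [CommRing A]
variable (X : Scheme.{u}) [X.Over (Spec (CommRingCat.of A))] (F : X.Modules)

section KL'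

variable [IsNoetherianRing A] [F.IsQuasicoherent]
  (hfl : FlatMod.IsFlatOver (X ↘ Spec (CommRingCat.of A)) F) (𝔪 : Ideal A) [h𝔪 : 𝔪.IsMaximal]
  (p : ℕ) {h : ℕ} (t : Fin h → Coh.HH X F p)

include hfl h𝔪 in
theorem good_step' (hG𝔪 : Good X F p t 𝔪)
    (H2 : ∀ (J J' : Ideal A) (hle : J ≤ J'), (∃ n : ℕ, 𝔪 ^ n ≤ J) →
      Function.Injective (Canon.HHlin A (εJ X F J J' hle) p))
    (J J' : Ideal A) (hle : J ≤ J') (hm : 𝔪 * J' ≤ J) (hprim : ∃ n : ℕ, 𝔪 ^ n ≤ J)
    (hG : Good X F p t J') :
    Good X F p t J := by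
  refine chain_induction' X F hfl 𝔪
    (fun J J' hle => (∃ n : ℕ, 𝔪 ^ n ≤ J) → Good X F p t J' → Good X F p t J) ?_ ?_ ?_
    J J' hle hm hprim hG
  · intro J _ hJ
    exact hJ
  · intro J J₁ J' h1 h2 s1 s2 hpr hJ'
    obtain ⟨n, hn⟩ := hpr
    exact s1 ⟨n, hn⟩ (s2 ⟨n, hn.trans h1⟩ hJ')
  · intro J J' hle a ha hJ' h1 e he hpr hGJ'
    obtain ⟨_, w, hS⟩ := shortExact_GJ X F J J' hle
    have hex := Groth.Agent.Lib.T2H5.T2Les.exact₂ (A := A) _ hS p
    change LinearMap.ker (Canon.HHlin A (tJ X F J J' hle) p) =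
      LinearMap.range (Canon.HHlin A (εJ X F J J' hle) p) at hex
    have hesurj : Function.Surjective (Canon.HHlin A e.hom p) := by
      intro z
      refine ⟨Canon.HHlin A e.inv p z, ?_⟩
      rw [← HHlin_comp, e.inv_hom_id]
      exact HHlin_id X _ p z
    have heinj : Function.Injective (Canon.HHlin A e.hom p) := by
      intro z z' hz
      have := congrArg (Canon.HHlin A e.inv p) hz
      rw [← HHlin_comp, ← HHlin_comp, e.hom_inv_id, HHlin_id, HHlin_id] at this
      exact this
    constructor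
    · -- surjectivity
      intro y
      obtain ⟨c, hc⟩ := hGJ'.1 (Canon.HHlin A (tJ X F J J' hle) p y)
      have h3 : y - φJ X F p t J c ∈ LinearMap.ker (Canon.HHlin A (tJ X F J J' hle) p) := by
        rw [LinearMap.mem_ker, map_sub, tJ_φJ, hc, sub_self]
      rw [hex] at h3
      obtain ⟨z, hz⟩ := h3
      obtain ⟨w', rfl⟩ := hesurj z
      obtain ⟨d, rfl⟩ := hG𝔪.1 w'
      rw [ε_e_φ X F 𝔪 p t J J' a hle ha e he d] at hz
      refine ⟨c + a • d, ?_⟩
      rw [map_add, hz]
      abel
    · -- injectivity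
      intro c hc i
      have h3 : φJ X F p t J' c = 0 := by
        rw [← tJ_φJ X F p t J J' hle c, hc, map_zero]
      have h4 := hGJ'.2 c h3
      -- write `c_i = j_i + a d_i`
      have h5 : ∀ i, ∃ j ∈ J, ∃ d : A, c i = j + a * d := by
        intro i
        have hi : c i ∈ J ⊔ Ideal.span {a} := hJ' ▸ h4 i
        obtain ⟨j, hj, z, hz, hjz⟩ := Submodule.mem_sup.mp hi
        obtain ⟨d, rfl⟩ := Ideal.mem_span_singleton'.mp hz
        exact ⟨j, hj, d, by rw [← hjz, mul_comm]⟩
      choose j hj d hd using h5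
      have h6 : c = j + a • d := by
        funext i
        rw [hd i]
        rfl
      have h7 : φJ X F p t J (a • d) = 0 := by
        have := hc
        rw [h6, map_add, φJ_of_mem X F p t J j hj, zero_add] at this
        exact this
      rw [← ε_e_φ X F 𝔪 p t J J' a hle ha e he d] at h7
      have h8 : φJ X F p t 𝔪 d = 0 :=
        heinj ((H2 J J' hle hpr (h7.trans (map_zero _).symm)).trans (map_zero _).symm)
      have h9 := hG𝔪.2 d h8
      rw [hd i]
      exact J.add_mem (hj i) (by rw [mul_comm]; exact h1 _ (h9 i))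

end KL'

section KLmain'

variable [IsNoetherianRing A] [IsLocalRing A] [IsProper (X ↘ Spec (CommRingCat.of A))]
  (hF : Coh.IsCoh F) (hfl : FlatMod.IsFlatOver (X ↘ Spec (CommRingCat.of A)) F) (p : ℕ)

include hF hfl in
/-- **Key lemma, explicit form**: if `t` is a "basis mod `𝔪`" of `H^p(X, F/𝔪F)` and the maps
`H^p(J'F/JF) → H^p(F/JF)` are injective, then `t` is a basis of `H^p(X, F)`. -/
theorem bijective_linearCombination_of_good {h : ℕ} (t : Fin h → Coh.HH X F p)
    (hG𝔪 : Good X F p t (IsLocalRing.maximalIdeal A))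
    (H2 : ∀ (J J' : Ideal A) (hle : J ≤ J'), (∃ n : ℕ, IsLocalRing.maximalIdeal A ^ n ≤ J) →
      Function.Injective (Canon.HHlin A (εJ X F J J' hle) p)) :
    Function.Bijective (Fintype.linearCombination A t) := by
  haveI := hF.1
  haveI : Module.Finite A (Coh.HH X F p) :=
    Groth.Agent.Lib.T2H5.T2Main.finite_HH_of_isProper A X F hF p
  have hGk : ∀ k : ℕ, Good X F p t (IsLocalRing.maximalIdeal A ^ (k + 1)) := by
    intro k
    induction k with
    | zero =>
      rw [zero_add, pow_one]
      exact hG𝔪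
    | succ k ih =>
      exact good_step' X F hfl (IsLocalRing.maximalIdeal A) p t hG𝔪 H2 _ _
        (Ideal.pow_le_pow_right (Nat.le_succ _)) (by rw [← pow_succ']) ⟨_, le_rfl⟩ ih
  have hq : ∀ (J : Ideal A) (c : Fin h → A),
      qJ X F p J (Fintype.linearCombination A t c) = φJ X F p t J c := fun J c => rfl
  have hinj : Function.Injective (Fintype.linearCombination A t) := by
    rw [← LinearMap.ker_eq_bot, LinearMap.ker_eq_bot']
    intro c hc
    funext i
    have h1 : ∀ k : ℕ, c i ∈ IsLocalRing.maximalIdeal A ^ k := by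
      intro k
      have h2 := (hGk k).2 c (by rw [← hq, hc, map_zero]) i
      exact Ideal.pow_le_pow_right (Nat.le_succ k) h2
    have h3 : c i ∈ (⨅ k : ℕ, IsLocalRing.maximalIdeal A ^ k : Ideal A) :=
      (Ideal.mem_iInf).2 h1
    rw [Ideal.iInf_pow_eq_bot_of_isLocalRing _ Ideal.IsPrime.ne_top'] at h3
    exact h3
  have hsurj : Function.Surjective (Fintype.linearCombination A t) := by
    obtain ⟨c₀, hc₀⟩ := Groth.Agent.Lib.T2H9.FFMain.kernels_adically_small
      (IsLocalRing.maximalIdeal A) F hF p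
    have hker := hc₀ (c₀ + 1) (Nat.le_succ c₀)
    rw [Nat.add_sub_cancel_left, pow_one] at hker
    have hle : (⊤ : Submodule A (Coh.HH X F p)) ≤
        LinearMap.range (Fintype.linearCombination A t) ⊔
          IsLocalRing.maximalIdeal A • (⊤ : Submodule A (Coh.HH X F p)) := by
      intro x _
      obtain ⟨c, hc⟩ := (hGk (c₀ + 1)).1
        (qJ X F p (IsLocalRing.maximalIdeal A ^ (c₀ + 1 + 1)) x)
      have h1 : x - Fintype.linearCombination A t c ∈
          ((Formal.toHHmodPow (IsLocalRing.maximalIdeal A) F p (c₀ + 1)).ker :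
            Set (Coh.HH X F p)) := by
        change qJ X F p (IsLocalRing.maximalIdeal A ^ (c₀ + 1 + 1))
          (x - Fintype.linearCombination A t c) = 0
        rw [map_sub, hq, hc, sub_self]
      have h2 := hker h1
      have h3 : x = Fintype.linearCombination A t c + (x - Fintype.linearCombination A t c) := by
        abel
      rw [h3]
      exact Submodule.add_mem_sup ⟨c, rfl⟩ h2
    have h4 := Submodule.le_of_le_smul_of_le_jacobson_bot (Module.Finite.fg_top)
      (IsLocalRing.maximalIdeal_le_jacobson ⊥) hle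
    rw [← LinearMap.range_eq_top]
    exact top_le_iff.1 h4
  exact ⟨hinj, hsurj⟩

end KLmain'

end Groth.Agent.Lib.T2H9.FlatFib
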