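import Mathlib
import Groth.Agent.Lib.Helper10DVRFibre3
import Groth.Agent.Lib.T2H9RatPt

/-!
# helper9: a proper map to a flat `R`-scheme with flat source, iso over the generic fibre,
is an iso near every normal codimension-one point (S19198)
-/

set_option autoImplicit false
universe u
open CategoryTheory AlgebraicGeometry TopologicalSpace Opposite

namespace Groth.Agent.Lib.T2H9.FlatNbhdA

open Groth.Agent.Lib.Helper10.DVRFibre

/-- Restriction of an isomorphism-over-`U` to a smaller open is an isomorphism. -/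
theorem isIso_restrict_of_le {X Y : Scheme.{u}} (f : X ⟶ Y) {U V : Y.Opens} (hVU : V ≤ U)
    (h : IsIso (f ∣_ U)) : IsIso (f ∣_ V) := by
  have h1 : IsIso ((f ∣_ U) ∣_ (U.ι ⁻¹ᵁ V)) := inferInstance
  have h2 := (MorphismProperty.isomorphisms Scheme).arrow_mk_iso_iff
    (morphismRestrictRestrict f U (U.ι ⁻¹ᵁ V))
  have h3 : U.ι ''ᵁ (U.ι ⁻¹ᵁ V) = V := by
    rw [Scheme.Hom.image_preimage_eq_opensRange_inf, Scheme.Opens.opensRange_ι]
    exact inf_eq_right.mpr hVU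
  have h4 : IsIso (f ∣_ (U.ι ''ᵁ (U.ι ⁻¹ᵁ V))) := h2.mp h1
  exact ((MorphismProperty.isomorphisms Scheme).arrow_mk_iso_iff (morphismRestrictEq f h3)).mp h4

variable {R : Type u} [CommRing R] [IsDomain R] [IsDiscreteValuationRing R]

theorem basicOpen_gOf {W : Scheme.{u}} (q : W ⟶ Spec (CommRingCat.of R)) (ϖ : R) :
    W.basicOpen (gOf q ϖ) = q ⁻¹ᵁ (PrimeSpectrum.basicOpen ϖ) := by
  have h1 : W.basicOpen (gOf q ϖ) = q ⁻¹ᵁ ((Spec (CommRingCat.of R)).basicOpen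
      ((Scheme.ΓSpecIso (CommRingCat.of R)).inv ϖ)) :=
    (Scheme.preimage_basicOpen q _).symm
  have h2 : (Spec (CommRingCat.of R)).basicOpen ((Scheme.ΓSpecIso (CommRingCat.of R)).inv ϖ)
      = PrimeSpectrum.basicOpen ϖ := basicOpen_eq_of_affine (R := CommRingCat.of R) ϖ
  rw [h1, h2]

theorem basicOpen_phi_le {W : Scheme.{u}} (q : W ⟶ Spec (CommRingCat.of R)) (ϖ : R) (U : W.Opens) :
    W.basicOpen (phi q U ϖ) ≤ q ⁻¹ᵁ (PrimeSpectrum.basicOpen ϖ) := by
  rw [← basicOpen_gOf, ← map_gOf, Scheme.basicOpen_res]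
  exact inf_le_right

/-- A closed immersion into a scheme flat over `R` which is an isomorphism over `D(ϖ)`, `ϖ ≠ 0`,
is an isomorphism. -/
theorem isIso_of_isClosedImmersion_of_flat {V W : Scheme.{u}} (s : V ⟶ W) [IsClosedImmersion s]
    (q : W ⟶ Spec (CommRingCat.of R)) [Flat q] (ϖ : R) (hϖ : ϖ ≠ 0)
    (h : IsIso (s ∣_ (q ⁻¹ᵁ (PrimeSpectrum.basicOpen ϖ)))) : IsIso s := by
  rw [IsClosedImmersion.isIso_iff_ker_eq_bot]
  refine Scheme.IdealSheafData.ext ?_
  funext U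
  rw [Scheme.Hom.ker_apply]
  show _ = (⊥ : Ideal _)
  rw [eq_bot_iff]
  intro a ha
  rw [RingHom.mem_ker] at ha
  rw [Ideal.mem_bot]
  set g : Γ(W, U.1) := phi q U.1 ϖ with hg
  have hgnzd : g ∈ nonZeroDivisors Γ(W, U.1) := phi_mem_nonZeroDivisors q U.2 hϖ
  have hU' : IsAffineOpen (W.basicOpen g) := U.2.basicOpen g
  have hiso : IsIso (s ∣_ (W.basicOpen g)) := isIso_restrict_of_le s (basicOpen_phi_le q ϖ U.1) h
  have hiso2 : IsIso (s.app (W.basicOpen g)) :=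
    (isIso_morphismRestrict_iff_isIso_app s hU').mp hiso
  have hinj : Function.Injective (s.app (W.basicOpen g)).hom :=
    (ConcreteCategory.bijective_of_isIso (s.app (W.basicOpen g))).1
  have hres : a |_ (W.basicOpen g) = 0 := by
    apply hinj
    rw [map_zero]
    have hn := s.naturality (homOfLE (W.basicOpen_le g)).op
    have := congr($(hn) a)
    simp only [CommRingCat.comp_apply] at this
    show (s.app (W.basicOpen g)).hom ((W.presheaf.map (homOfLE (W.basicOpen_le g)).op).hom a) = 0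
    erw [this]
    erw [ha]
    exact map_zero _
  obtain ⟨n, hn⟩ := exists_pow_mul_eq_zero_of_res_basicOpen_eq_zero_of_isAffineOpen W U.2 a g hres
  exact (mem_nonZeroDivisors_iff_left.mp (pow_mem hgnzd n)) a hn

/-- A proper-type map which has a section over `V` and is an isomorphism over the generic fibre, with flat source,
is an isomorphism over `V`. -/
theorem isIso_restrict_of_section {Z C : Scheme.{u}} (h : Z ⟶ C) [IsSeparated h]
    (πC : C ⟶ Spec (CommRingCat.of R)) [Flat (h ≫ πC)] (ϖ : R) (hϖ : ϖ ≠ 0)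
    (hgen : IsIso (h ∣_ (πC ⁻¹ᵁ (PrimeSpectrum.basicOpen ϖ))))
    (V : C.Opens) (s : V.toScheme ⟶ Z) (hs : s ≫ h = V.ι) : IsIso (h ∣_ V) := by
  have hrange : Set.range s ⊆ Set.range (h ⁻¹ᵁ V).ι := by
    rintro _ ⟨v, rfl⟩
    rw [Scheme.Opens.range_ι]
    show h (s v) ∈ V
    have : h (s v) = V.ι v := by rw [← Scheme.Hom.comp_apply, hs]
    rw [this]
    exact v.2
  set s' : V.toScheme ⟶ (h ⁻¹ᵁ V).toScheme := IsOpenImmersion.lift (h ⁻¹ᵁ V).ι s hrange with hs'def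
  have hs' : s' ≫ (h ∣_ V) = 𝟙 _ := by
    rw [← cancel_mono V.ι, Category.assoc, morphismRestrict_ι, ← Category.assoc,
      IsOpenImmersion.lift_fac, hs, Category.id_comp]
  haveI : IsClosedImmersion (s' ≫ (h ∣_ V)) := by rw [hs']; infer_instance
  haveI : IsClosedImmersion s' := IsClosedImmersion.of_comp s' (h ∣_ V)
  set q : (h ⁻¹ᵁ V).toScheme ⟶ Spec (CommRingCat.of R) := (h ⁻¹ᵁ V).ι ≫ h ≫ πC with hq
  haveI : Flat q := by rw [hq]; infer_instance
  set G : C.Opens := πC ⁻¹ᵁ (PrimeSpectrum.basicOpen ϖ) with hG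
  have hO : q ⁻¹ᵁ (PrimeSpectrum.basicOpen ϖ) = (h ∣_ V) ⁻¹ᵁ (V.ι ⁻¹ᵁ G) := by
    rw [← Scheme.Hom.comp_preimage, morphismRestrict_ι, hG, ← Scheme.Hom.comp_preimage, hq]
    simp only [Category.assoc]
  have hiso1 : IsIso ((h ∣_ V) ∣_ (V.ι ⁻¹ᵁ G)) := by
    have h2 := (MorphismProperty.isomorphisms Scheme).arrow_mk_iso_iff
      (morphismRestrictRestrict h V (V.ι ⁻¹ᵁ G))
    refine h2.mpr ?_
    refine isIso_restrict_of_le h ?_ hgen
    rw [Scheme.Hom.image_preimage_eq_opensRange_inf, Scheme.Opens.opensRange_ι]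
    exact inf_le_right
  have hiso2 : IsIso (s' ∣_ ((h ∣_ V) ⁻¹ᵁ (V.ι ⁻¹ᵁ G))) := by
    have hc := morphismRestrict_comp s' (h ∣_ V) (V.ι ⁻¹ᵁ G)
    have h5 : IsIso ((s' ≫ (h ∣_ V)) ∣_ (V.ι ⁻¹ᵁ G)) := by
      have : IsIso (s' ≫ (h ∣_ V)) := by rw [hs']; infer_instance
      infer_instance
    rw [hc] at h5
    exact @IsIso.of_isIso_comp_right _ _ _ _ _ _ _ hiso1 h5
  have hiso3 : IsIso (s' ∣_ (q ⁻¹ᵁ (PrimeSpectrum.basicOpen ϖ))) :=
    ((MorphismProperty.isomorphisms Scheme).arrow_mk_iso_iff (morphismRestrictEq s' hO)).mpr hiso2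
  haveI : IsIso s' := isIso_of_isClosedImmersion_of_flat s' q ϖ hϖ hiso3
  have : IsIso (s' ≫ (h ∣_ V)) := by rw [hs']; infer_instance
  exact IsIso.of_isIso_comp_left s' (h ∣_ V)

theorem germ_gOf_ne_zero {C : Scheme.{u}} (πC : C ⟶ Spec (CommRingCat.of R)) [Flat πC] (ϖ : R)
    (hϖ : ϖ ≠ 0) (c : C) :
    C.presheaf.germ ⊤ c trivial (gOf πC ϖ) ≠ 0 := by
  obtain ⟨U, hU, hcU⟩ := exists_affineOpen_mem c
  have h1 := phi_mem_nonZeroDivisors πC hU hϖ
  letI := TopCat.Presheaf.algebra_section_stalk C.presheaf (⟨c, hcU⟩ : U)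
  haveI := hU.isLocalization_stalk ⟨c, hcU⟩
  have h2 : C.presheaf.germ U c hcU (phi πC U ϖ) ∈ nonZeroDivisors (C.presheaf.stalk c) :=
    IsLocalization.map_nonZeroDivisors_le (hU.primeIdealOf ⟨c, hcU⟩).asIdeal.primeCompl _
      ⟨_, h1, rfl⟩
  have h3 : C.presheaf.germ ⊤ c trivial (gOf πC ϖ) = C.presheaf.germ U c hcU (phi πC U ϖ) :=
    (C.presheaf.germ_res_apply (homOfLE le_top) c hcU _).symm
  rw [h3]
  exact nonZeroDivisors.ne_zero h2

theorem exists_nhds_isIso {C Z : Scheme.{u}} (πC : C ⟶ Spec (CommRingCat.of R)) [Flat πC]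
    [LocallyOfFiniteType πC]
    (h : Z ⟶ C) [IsProper h] [Flat (h ≫ πC)] (ϖ : R) (hϖ : Irreducible ϖ)
    (hgen : IsIso (h ∣_ (πC ⁻¹ᵁ (PrimeSpectrum.basicOpen ϖ))))
    (c : C) (hdom : IsDomain (C.presheaf.stalk c)) (hnorm : IsIntegrallyClosed (C.presheaf.stalk c))
    (hdim : ringKrullDim (C.presheaf.stalk c) = 1) :
    ∃ V : C.Opens, c ∈ V ∧ IsIso (h ∣_ V) := by
  haveI : IsLocallyNoetherian C := LocallyOfFiniteType.isLocallyNoetherian πC
  haveI : IsDiscreteValuationRing (C.presheaf.stalk c) :=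
    Groth.Agent.Lib.T2H9.RatPt.isDVR_of_normal_dim_one _ hdim
  set A := C.presheaf.stalk c with hA
  haveI : IsDomain A := hdom
  set G : C.Opens := πC ⁻¹ᵁ (PrimeSpectrum.basicOpen ϖ) with hG
  set j : Spec (CommRingCat.of (FractionRing A)) ⟶ C :=
    Spec.map (CommRingCat.ofHom (algebraMap A (FractionRing A))) ≫ C.fromSpecStalk c with hj
  have hjG : j ⁻¹ᵁ G = ⊤ := by
    rw [hG, ← basicOpen_gOf, Scheme.preimage_basicOpen]
    apply Scheme.basicOpen_of_isUnit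
    have ha : C.presheaf.germ ⊤ c trivial (gOf πC ϖ) ≠ 0 := germ_gOf_ne_zero πC ϖ hϖ.ne_zero c
    have hu : IsUnit (algebraMap A (FractionRing A) (C.presheaf.germ ⊤ c trivial (gOf πC ϖ))) :=
      isUnit_iff_ne_zero.mpr (by rwa [Ne, IsFractionRing.to_map_eq_zero_iff])
    have key : j.appTop (gOf πC ϖ) = (Scheme.ΓSpecIso (CommRingCat.of (FractionRing A))).inv
        (algebraMap A (FractionRing A) (C.presheaf.germ ⊤ c trivial (gOf πC ϖ))) := by
      have h1 := Scheme.ΓSpecIso_inv_naturality (CommRingCat.ofHom (algebraMap A (FractionRing A)))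
      have h2 := congr($(h1) (C.presheaf.germ ⊤ c trivial (gOf πC ϖ)))
      rw [hj, Scheme.Hom.comp_appTop, Scheme.fromSpecStalk_appTop]
      simp only [CommRingCat.comp_apply] at h2 ⊢
      erw [← h2]
      rfl
    show IsUnit (j.appTop (gOf πC ϖ))
    rw [key]
    exact hu.map _
  have hrange : Set.range j ⊆ Set.range G.ι := by
    rw [Scheme.Opens.range_ι]
    rintro _ ⟨y, rfl⟩
    have : y ∈ j ⁻¹ᵁ G := by rw [hjG]; trivial
    exact this
  set j' := IsOpenImmersion.lift G.ι j hrange with hj'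
  set i₁ : Spec (CommRingCat.of (FractionRing A)) ⟶ Z := j' ≫ inv (h ∣_ G) ≫ (h ⁻¹ᵁ G).ι with hi₁
  have hi₁h : i₁ ≫ h = j := by
    rw [hi₁, Category.assoc, Category.assoc, ← morphismRestrict_ι, IsIso.inv_hom_id_assoc,
      IsOpenImmersion.lift_fac]
  have hsq : CommSq i₁ (Spec.map (CommRingCat.ofHom (algebraMap A (FractionRing A)))) h
      (C.fromSpecStalk c) := ⟨hi₁h⟩
  have hex : ValuativeCriterion.Existence h := by
    have h1 : UniversallyClosed h := inferInstance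
    rw [UniversallyClosed.eq_valuativeCriterion] at h1
    exact h1.1
  obtain ⟨⟨l, hl1, hl2⟩⟩ := (hex (ValuativeCommSq.mk (R := A) (domain := hdom) (K := FractionRing A) i₁
    (C.fromSpecStalk c) hsq)).exists_lift
  have hl2' : (show Spec (C.presheaf.stalk c) ⟶ Z from l) ≫ h = C.fromSpecStalk c := hl2
  obtain ⟨V, hcV, s, hs1, hs2⟩ := spread_out_of_isGermInjective' (𝟙 C) h
    (show Spec (C.presheaf.stalk c) ⟶ Z from l) (by rw [hl2', Category.comp_id])
  exact ⟨V, hcV, isIso_restrict_of_section h πC ϖ hϖ.ne_zero hgen V s (by rw [hs2, Category.comp_id])⟩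

end Groth.Agent.Lib.T2H9.FlatNbhdA
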