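import Mathlib
import Groth.Agent.Lib.Helper28WeakKrull3

/-!
# Principal radical ideals in two-dimensional Noetherian normal local domains (helper9)

For a Noetherian normal local domain `R` of dimension two and finitely many height one primes
`p_1, …, p_r` there is a nonzero `f ∈ p_1 ∩ ⋯ ∩ p_r` with `(f)` radical.

The proof: fix `f₀ ≠ 0` in the intersection and a parameter `x` with `(f₀, x)` primary to the
maximal ideal; among all `f` in the intersection with `(f, x) = (f₀, x)` choose one for which
`rad (f) + (x)` is minimal (the quotient by `(f₀, x)` is Artinian).  If `(f)` is not radical, some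
minimal prime `q` of `(f)` has `f ∈ q^{(2)}`; then `f' = f + e·y` (`d·f = π·y`, `π` a uniformizer at
`q`, `e` a high power of an element outside `q` but in all other minimal primes of `f`) still lies in
the family and has strictly more minimal primes.
-/

set_option autoImplicit false
set_option linter.unusedSectionVars false
set_option linter.style.haveILetI false
universe u

namespace Groth.Agent.Lib.T2H9.PrincRad

open IsLocalRing

section Normal

variable {R : Type u} [CommRing R] [IsDomain R] [IsNoetherianRing R]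

/-- Minimal primes over a nonzero principal ideal of a Noetherian domain have height one. -/
theorem height_eq_one_of_mem_minimalPrimes {f : R} (hf : f ≠ 0) {P : Ideal R}
    (hP : P ∈ (Ideal.span {f}).minimalPrimes) : P.height = 1 := by
  haveI := hP.1.1
  refine le_antisymm (Ideal.height_le_one_of_isPrincipal_of_mem_minimalPrimes _ P hP) ?_
  rw [Order.one_le_iff_pos, pos_iff_ne_zero, Ne, Ideal.height_eq_zero_iff_eq_bot]
  intro h
  have : f ∈ P := hP.1.2 (Ideal.mem_span_singleton_self f)
  rw [h] at this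
  exact hf this

/-- A height one prime containing `f ≠ 0` is minimal over `(f)`. -/
theorem mem_minimalPrimes_of_height_eq_one {f : R} (hf : f ≠ 0) {P : Ideal R} [P.IsPrime]
    (hP : P.height = 1) (hfP : f ∈ P) : P ∈ (Ideal.span {f}).minimalPrimes := by
  have hle : Ideal.span {f} ≤ P := (Ideal.span_singleton_le_iff_mem P).mpr hfP
  haveI : P.FiniteHeight := ⟨Or.inr (by rw [hP]; exact ENat.one_ne_top)⟩
  refine Ideal.mem_minimalPrimes_of_height_le hle ?_
  rw [hP]
  exact Ideal.one_le_height_span_singleton_of_mem_nonZeroDivisors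
    (mem_nonZeroDivisors_of_ne_zero hf)

variable [IsIntegrallyClosed R]

/-- Divisibility by `f ≠ 0` can be tested at the minimal primes of `(f)` (no embedded primes). -/
theorem dvd_of_forall_minimalPrimes {f a : R} (hf : f ≠ 0)
    (h : ∀ P ∈ (Ideal.span {f}).minimalPrimes, ∃ d, d ∉ P ∧ f ∣ d * a) : f ∣ a := by
  by_contra hfa
  have hz : (Ideal.Quotient.mk (Ideal.span {f}) a) ≠ 0 := by
    rw [Ne, Ideal.Quotient.eq_zero_iff_mem, Ideal.mem_span_singleton]; exact hfa
  obtain ⟨Q, hQ, hle⟩ := exists_le_isAssociatedPrime_of_isNoetherianRing R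
    (Ideal.Quotient.mk (Ideal.span {f}) a) hz
  haveI : Q.IsPrime := hQ.isPrime
  have hht := Groth.Agent.Lib.Helper22.AssHeightOne.height_eq_one_of_mem_associatedPrimes f hf Q hQ
  have hfQ : f ∈ Q := by
    apply hle
    rw [Submodule.mem_colon_singleton, Submodule.mem_bot]
    change Ideal.Quotient.mk (Ideal.span {f}) (f * a) = 0
    rw [Ideal.Quotient.eq_zero_iff_mem, Ideal.mem_span_singleton]
    exact Dvd.intro _ rfl
  obtain ⟨d, hd, hdvd⟩ := h Q (mem_minimalPrimes_of_height_eq_one hf hht hfQ)
  apply hd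
  apply hle
  rw [Submodule.mem_colon_singleton, Submodule.mem_bot]
  change Ideal.Quotient.mk (Ideal.span {f}) (d * a) = 0
  rw [Ideal.Quotient.eq_zero_iff_mem, Ideal.mem_span_singleton]
  exact hdvd

/-- A uniformizer at a height one prime `q`, chosen outside finitely many other primes. -/
theorem exists_uniformizer (q : Ideal R) [q.IsPrime] (hq : q.height = 1) (T : Finset (Ideal R))
    (hT : ∀ P ∈ T, P.IsPrime ∧ ¬ q ≤ P) :
    ∃ π ∈ q, (∀ P ∈ T, π ∉ P) ∧ ∀ a ∈ q, ∃ d, d ∉ q ∧ π ∣ d * a := by
  classical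
  haveI : IsDiscreteValuationRing (Localization.AtPrime q) :=
    Groth.Agent.Lib.Helper28.WeakKrull.isDiscreteValuationRing_localization_of_height_one R q hq
  obtain ⟨ϖ, hϖ⟩ := IsDiscreteValuationRing.exists_irreducible (Localization.AtPrime q)
  have hm : maximalIdeal (Localization.AtPrime q) = Ideal.span {ϖ} := hϖ.maximalIdeal_eq
  have hinj : Function.Injective (algebraMap R (Localization.AtPrime q)) :=
    IsLocalization.injective (Localization.AtPrime q) q.primeCompl_le_nonZeroDivisors
  -- `ϖ ∉ m²`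
  have hϖ2 : ϖ ∉ maximalIdeal (Localization.AtPrime q) ^ 2 := by
    intro h
    rw [hm, Ideal.span_singleton_pow, Ideal.mem_span_singleton] at h
    obtain ⟨c, hc⟩ := h
    have h1 : ϖ * (1 - ϖ * c) = 0 := by
      calc ϖ * (1 - ϖ * c) = ϖ - ϖ ^ 2 * c := by ring
        _ = 0 := by rw [← hc, sub_self]
    rcases mul_eq_zero.mp h1 with h2 | h2
    · exact hϖ.ne_zero h2
    · exact hϖ.not_isUnit (IsUnit.of_mul_eq_one c (sub_eq_zero.mp h2).symm)
  set q2 : Ideal R :=
    Ideal.comap (algebraMap R (Localization.AtPrime q)) (maximalIdeal (Localization.AtPrime q) ^ 2)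
    with hq2def
  have hq2 : ¬ q ≤ q2 := by
    intro hle
    obtain ⟨x, s, hxs⟩ := IsLocalization.exists_mk'_eq q.primeCompl ϖ
    have hxq : x ∈ q := by
      have h1 : IsLocalization.mk' (Localization.AtPrime q) x s ∈
          maximalIdeal (Localization.AtPrime q) := by
        rw [hxs, hm]; exact Ideal.mem_span_singleton_self ϖ
      exact (IsLocalization.AtPrime.mk'_mem_maximal_iff (Localization.AtPrime q) q x s).mp h1
    have h2 : algebraMap R (Localization.AtPrime q) x ∈
        maximalIdeal (Localization.AtPrime q) ^ 2 := hle hxq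
    apply hϖ2
    rw [← hxs, IsLocalization.mk'_mem_iff]
    exact h2
  -- prime avoidance
  have havoid : ¬ ((q : Set R) ⊆ ⋃ i ∈ ((insert q2 T : Finset (Ideal R)) : Set (Ideal R)), (i : Set R)) := by
    rw [Ideal.subset_union_prime (f := fun i : Ideal R => i) q2 q2]
    · rintro ⟨i, hi, hqi⟩
      rcases Finset.mem_insert.mp hi with rfl | hi
      · exact hq2 hqi
      · exact (hT i hi).2 hqi
    · intro i hi h1 _
      rcases Finset.mem_insert.mp hi with rfl | hi
      · exact absurd rfl h1
      · exact (hT i hi).1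
  obtain ⟨π, hπq, hπ⟩ := Set.not_subset.mp havoid
  have hπ2 : π ∉ q2 := fun h => hπ (Set.mem_biUnion (Finset.mem_coe.mpr (Finset.mem_insert_self _ _)) h)
  have hπT : ∀ P ∈ T, π ∉ P := fun P hP h =>
    hπ (Set.mem_biUnion (Finset.mem_coe.mpr (Finset.mem_insert_of_mem hP)) h)
  refine ⟨π, hπq, hπT, ?_⟩
  -- `π` is a uniformizer
  have hπm : algebraMap R (Localization.AtPrime q) π ∈ maximalIdeal (Localization.AtPrime q) :=
    (IsLocalization.AtPrime.to_map_mem_maximal_iff (Localization.AtPrime q) q π).mpr hπq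
  have hπ2' : algebraMap R (Localization.AtPrime q) π ∉ maximalIdeal (Localization.AtPrime q) ^ 2 :=
    fun h => hπ2 h
  have hπ0 : algebraMap R (Localization.AtPrime q) π ≠ 0 := by
    intro h; apply hπ2'; rw [h]; exact Ideal.zero_mem _
  obtain ⟨n, u, hnu⟩ := IsDiscreteValuationRing.eq_unit_mul_pow_irreducible hπ0 hϖ
  have hn1 : n = 1 := by
    rcases Nat.lt_trichotomy n 1 with h | h | h
    · exfalso
      have : n = 0 := by omega
      subst this
      rw [pow_zero, mul_one] at hnu
      rw [hnu, mem_maximalIdeal, mem_nonunits_iff] at hπm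
      exact hπm u.isUnit
    · exact h
    · exfalso
      apply hπ2'
      rw [hnu, hm, Ideal.span_singleton_pow, Ideal.mem_span_singleton]
      exact Dvd.dvd.mul_left (pow_dvd_pow ϖ h) _
  subst hn1
  rw [pow_one] at hnu
  intro a ha
  have ham : algebraMap R (Localization.AtPrime q) a ∈ maximalIdeal (Localization.AtPrime q) :=
    (IsLocalization.AtPrime.to_map_mem_maximal_iff (Localization.AtPrime q) q a).mpr ha
  rw [hm, Ideal.mem_span_singleton] at ham
  obtain ⟨c, hc⟩ := ham
  obtain ⟨b, t, hbt⟩ := IsLocalization.exists_mk'_eq q.primeCompl (↑u⁻¹ * c)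
  refine ⟨t, t.2, b, ?_⟩
  apply hinj
  have h3 : algebraMap R (Localization.AtPrime q) b =
      ↑u⁻¹ * c * algebraMap R (Localization.AtPrime q) t := by
    rw [← hbt, IsLocalization.mk'_spec]
  rw [map_mul, map_mul, hc, hnu, h3]
  have : (↑u : Localization.AtPrime q) * ↑u⁻¹ = 1 := u.mul_inv
  calc algebraMap R (Localization.AtPrime q) ↑t * (ϖ * c)
      = (↑u * ↑u⁻¹) * (algebraMap R (Localization.AtPrime q) ↑t * (ϖ * c)) := by rw [this, one_mul]
    _ = ↑u * ϖ * (↑u⁻¹ * c * algebraMap R (Localization.AtPrime q) ↑t) := by ring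

end Normal

section Local

variable {R : Type u} [CommRing R] [IsDomain R] [IsNoetherianRing R] [IsLocalRing R]

theorem height_maximalIdeal (hdim : ringKrullDim R = 2) : (maximalIdeal R).height = 2 := by
  have h := IsLocalRing.maximalIdeal_height_eq_ringKrullDim (R := R)
  rw [hdim] at h
  have h' : ((maximalIdeal R).height : WithBot ℕ∞) = ((2 : ℕ∞) : WithBot ℕ∞) := h
  exact WithBot.coe_injective h'

theorem not_maximalIdeal_le (hdim : ringKrullDim R = 2) {P : Ideal R}
    (hP : P.height ≤ 1) : ¬ maximalIdeal R ≤ P := by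
  intro h
  have h1 := Ideal.height_mono h
  rw [height_maximalIdeal hdim] at h1
  exact absurd (h1.trans hP) (by norm_num)

/-- A prime strictly containing a height one prime is the maximal ideal. -/
theorem eq_maximalIdeal_of_lt (hdim : ringKrullDim R = 2) {P J : Ideal R} [P.IsPrime] [J.IsPrime]
    (hP : P.height = 1) (h : P < J) : J = maximalIdeal R := by
  have h2 : P.height + 1 ≤ J.height := Ideal.height_add_one_le_of_lt_of_isPrime h
  by_contra hne
  have hlt : J < maximalIdeal R :=
    lt_of_le_of_ne (IsLocalRing.le_maximalIdeal Ideal.IsPrime.ne_top') hne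
  have h3 : J.height + 1 ≤ (maximalIdeal R).height := Ideal.height_add_one_le_of_lt_of_isPrime hlt
  rw [height_maximalIdeal hdim] at h3
  rw [hP] at h2
  have h4 : (1 : ℕ∞) + 1 + 1 ≤ 2 := (add_le_add_left h2 1).trans h3
  exact absurd h4 (by norm_num)

theorem radical_span_pair (hdim : ringKrullDim R = 2) {f x : R} (hf : f ≠ 0)
    (hfm : f ∈ maximalIdeal R) (hxm : x ∈ maximalIdeal R)
    (hx : ∀ P ∈ (Ideal.span {f}).minimalPrimes, x ∉ P) :
    (Ideal.span {f, x}).radical = maximalIdeal R := by
  have hle : Ideal.span {f, x} ≤ maximalIdeal R := by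
    rw [Ideal.span_le]
    rintro y (rfl | rfl)
    exacts [hfm, hxm]
  apply le_antisymm
  · exact (Ideal.IsPrime.radical_le_iff inferInstance).mpr hle
  · rw [Ideal.radical_eq_sInf]
    apply le_sInf
    rintro J ⟨hJ, hJp⟩
    haveI := hJp
    have hfJ : Ideal.span {f} ≤ J := (Ideal.span_mono (by simp)).trans hJ
    obtain ⟨P, hP, hPJ⟩ := Ideal.exists_minimalPrimes_le hfJ
    haveI := hP.1.1
    have hxJ : x ∈ J := hJ (Ideal.subset_span (by simp))
    have hlt : P < J := lt_of_le_of_ne hPJ (fun h => hx P hP (h ▸ hxJ))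
    rw [eq_maximalIdeal_of_lt hdim (height_eq_one_of_mem_minimalPrimes hf hP) hlt]

theorem radical_span_singleton_ne (hdim : ringKrullDim R = 2) (x : R) :
    (Ideal.span {x}).radical ≠ maximalIdeal R := by
  intro h
  have hmem : maximalIdeal R ∈ (Ideal.span {x}).minimalPrimes := by
    rw [← Ideal.radical_minimalPrimes, h, Ideal.minimalPrimes_eq_subsingleton_self]
    rfl
  have := Ideal.height_le_one_of_isPrincipal_of_mem_minimalPrimes _ _ hmem
  rw [height_maximalIdeal hdim] at this
  exact absurd this (by norm_num)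

/-- Nakayama: perturbing `f` by an element of `m • (f, x)` does not change the ideal `(f, x)`. -/
theorem span_pair_add_eq {f x g : R} {c : Ideal R} (hc : Ideal.span {f, x} = c)
    (hg : g ∈ maximalIdeal R • c) : Ideal.span {f + g, x} = c := by
  have hfc : f ∈ c := hc ▸ Ideal.subset_span (by simp)
  have hxc : x ∈ c := hc ▸ Ideal.subset_span (by simp)
  have hgc : g ∈ c := (Submodule.smul_le_right : maximalIdeal R • c ≤ c) hg
  apply le_antisymm
  · rw [Ideal.span_le]
    rintro y (rfl | rfl)
    exacts [c.add_mem hfc hgc, hxc]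
  · apply Submodule.le_of_le_smul_of_le_jacobson_bot (IsNoetherian.noetherian c)
      (IsLocalRing.maximalIdeal_le_jacobson ⊥)
    conv_lhs => rw [← hc]
    rw [Ideal.span_le]
    rintro y (rfl | rfl)
    · have : y = (y + g) + (-g) := by ring
      rw [this]
      exact Submodule.add_mem_sup (Ideal.subset_span (by simp)) (Submodule.neg_mem _ hg)
    · exact Submodule.mem_sup_left (Ideal.subset_span (by simp))

end Local

section Main

variable {R : Type u} [CommRing R] [IsDomain R] [IsNoetherianRing R] [IsLocalRing R]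
  [IsIntegrallyClosed R]

/-- **Principal radical ideals**: in a two-dimensional Noetherian normal local domain, finitely many
height one primes contain a common nonzero element generating a radical ideal. -/
theorem exists_isRadical_span_singleton (hdim : ringKrullDim R = 2)
    (s : Finset (Ideal R)) (hs : ∀ p ∈ s, p.IsPrime ∧ p.height = 1) :
    ∃ f : R, f ≠ 0 ∧ (∀ p ∈ s, f ∈ p) ∧ (Ideal.span {f}).IsRadical := by
  classical
  have hm2 := height_maximalIdeal hdim
  have hmbot : maximalIdeal R ≠ ⊥ := by
    intro h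
    rw [h, Ideal.height_bot] at hm2
    exact absurd hm2 (by norm_num)
  obtain ⟨a₀, ha₀m, ha₀⟩ := Submodule.exists_mem_ne_zero_of_ne_bot hmbot
  have hex : ∀ p ∈ s, ∃ a ∈ p, a ≠ (0 : R) := fun p hp =>
    Submodule.exists_mem_ne_zero_of_ne_bot (Ideal.ne_bot_of_height_eq_one (hs p hp).2)
  choose! α hαp hα0 using hex
  set f₀ : R := a₀ * ∏ p ∈ s, α p with hf₀def
  have hf₀ : f₀ ≠ 0 := mul_ne_zero ha₀ (Finset.prod_ne_zero_iff.mpr hα0)
  have hf₀m : f₀ ∈ maximalIdeal R := Ideal.mul_mem_right _ _ ha₀m
  have hf₀s : ∀ p ∈ s, f₀ ∈ p := by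
    intro p hp
    obtain ⟨c, hc⟩ := Finset.dvd_prod_of_mem α hp
    rw [hf₀def, hc]
    exact p.mul_mem_left _ (p.mul_mem_right _ (hαp p hp))
  -- the parameter `x`
  have hfin := (Ideal.span {f₀}).finite_minimalPrimes_of_isNoetherianRing
  have havoid : ¬ ((maximalIdeal R : Set R) ⊆
      ⋃ i ∈ (hfin.toFinset : Set (Ideal R)), (i : Set R)) := by
    rw [Ideal.subset_union_prime (f := fun i : Ideal R => i) ⊥ ⊥]
    · rintro ⟨P, hP, hmP⟩
      have hP' := hfin.mem_toFinset.mp hP
      exact not_maximalIdeal_le hdim (height_eq_one_of_mem_minimalPrimes hf₀ hP').le hmP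
    · intro P hP _ _
      exact (hfin.mem_toFinset.mp hP).1.1
  obtain ⟨x, hxm, hx⟩ := Set.not_subset.mp havoid
  have hxP : ∀ P ∈ (Ideal.span {f₀}).minimalPrimes, x ∉ P := fun P hP h =>
    hx (Set.mem_biUnion (Finset.mem_coe.mpr (hfin.mem_toFinset.mpr hP)) h)
  set c : Ideal R := Ideal.span {f₀, x} with hcdef
  have hrad : c.radical = maximalIdeal R := radical_span_pair hdim hf₀ hf₀m hxm hxP
  obtain ⟨k, hk⟩ := Ideal.exists_radical_pow_le_of_fg c (IsNoetherian.noetherian _)
  rw [hrad] at hk
  -- the family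
  let Φ : Set R := {f | Ideal.span {f, x} = c ∧ ∀ p ∈ s, f ∈ p}
  have hΦ₀ : f₀ ∈ Φ := ⟨rfl, hf₀s⟩
  have hΦne : ∀ f ∈ Φ, f ≠ 0 := by
    rintro f ⟨hf, -⟩ rfl
    apply radical_span_singleton_ne hdim x
    rw [← hrad, ← hf, Ideal.span_insert, Ideal.span_singleton_eq_bot.mpr rfl, bot_sup_eq]
  have hΦx : ∀ f ∈ Φ, ∀ P ∈ (Ideal.span {f}).minimalPrimes, x ∉ P := by
    intro f hfΦ P hP hxP'
    haveI := hP.1.1
    have hcP : c ≤ P := by
      rw [← hfΦ.1, Ideal.span_le]
      rintro y (rfl | rfl)
      · exact hP.1.2 (Ideal.mem_span_singleton_self _)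
      · exact hxP'
    have : maximalIdeal R ≤ P := by
      rw [← hrad]; exact (Ideal.IsPrime.radical_le_iff inferInstance).mpr hcP
    exact not_maximalIdeal_le hdim
      (height_eq_one_of_mem_minimalPrimes (hΦne f hfΦ) hP).le this
  haveI : IsArtinianRing (R ⧸ c) := by
    apply IsLocalRing.quotient_artinian_of_mem_minimalPrimes_of_isLocalRing
    rw [← Ideal.radical_minimalPrimes, hrad, Ideal.minimalPrimes_eq_subsingleton_self]
    rfl
  let μ : R → Ideal (R ⧸ c) := fun f =>
    Ideal.map (Ideal.Quotient.mk c) ((Ideal.span {f}).radical ⊔ Ideal.span {x})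
  obtain ⟨_, ⟨f, hfΦ, rfl⟩, hmin⟩ :=
    (wellFounded_lt : WellFounded ((· < ·) : Ideal (R ⧸ c) → Ideal (R ⧸ c) → Prop)).has_min
      (μ '' Φ) ⟨_, f₀, hΦ₀, rfl⟩
  have hf0 := hΦne f hfΦ
  have hgood : ∀ q ∈ (Ideal.span {f}).minimalPrimes, ∀ a ∈ q, ∃ d, d ∉ q ∧ f ∣ d * a := by
    intro q hq
    by_contra hbad
    haveI hqprime : q.IsPrime := hq.1.1
    have hqh := height_eq_one_of_mem_minimalPrimes hf0 hq
    have hfinf := (Ideal.span {f}).finite_minimalPrimes_of_isNoetherianRing
    set T : Finset (Ideal R) := hfinf.toFinset.erase q with hTdef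
    have hTmem : ∀ P ∈ T, P ∈ (Ideal.span {f}).minimalPrimes := fun P hP =>
      hfinf.mem_toFinset.mp (Finset.mem_of_mem_erase hP)
    have hT : ∀ P ∈ T, P.IsPrime ∧ ¬ q ≤ P := by
      intro P hP
      have hP' := hTmem P hP
      exact ⟨hP'.1.1, fun hqP => Finset.ne_of_mem_erase hP (le_antisymm (hP'.2 hq.1 hqP) hqP)⟩
    obtain ⟨π, hπq, hπT, hπ⟩ := exists_uniformizer q hqh T hT
    have hfq : f ∈ q := hq.1.2 (Ideal.mem_span_singleton_self f)
    obtain ⟨d, hdq, y, hy⟩ := hπ f hfq
    have hyq : y ∈ q := by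
      by_contra hyq
      apply hbad
      intro a ha
      obtain ⟨d', hd'q, c', hc'⟩ := hπ a ha
      refine ⟨y * d', fun h => (hqprime.mem_or_mem h).elim hyq hd'q, d * c', ?_⟩
      calc y * d' * a = y * (d' * a) := by ring
        _ = y * (π * c') := by rw [hc']
        _ = (π * y) * c' := by ring
        _ = (d * f) * c' := by rw [hy]
        _ = f * (d * c') := by ring
    -- an element of `m` and of all other minimal primes, outside `q`
    have hnotle : ∀ P ∈ T, ∃ b ∈ P, b ∉ q := by
      intro P hP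
      have hP' := hTmem P hP
      have : ¬ P ≤ q := fun hPq =>
        Finset.ne_of_mem_erase hP (le_antisymm hPq (hq.2 hP'.1 hPq))
      exact Set.not_subset.mp this
    choose! β hβP hβq using hnotle
    obtain ⟨z, hzm, hzq⟩ : ∃ z ∈ maximalIdeal R, z ∉ q :=
      Set.not_subset.mp (not_maximalIdeal_le hdim hqh.le)
    set e₀ : R := z * ∏ P ∈ T, β P with he₀def
    have he₀m : e₀ ∈ maximalIdeal R := Ideal.mul_mem_right _ _ hzm
    have he₀T : ∀ P ∈ T, e₀ ∈ P := by
      intro P hP
      obtain ⟨c', hc'⟩ := Finset.dvd_prod_of_mem β hP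
      rw [he₀def, hc']
      exact P.mul_mem_left _ (P.mul_mem_right _ (hβP P hP))
    have he₀q : e₀ ∉ q := by
      intro h
      rcases hqprime.mem_or_mem h with h | h
      · exact hzq h
      · obtain ⟨P, hP, hPq⟩ := (hqprime.prod_mem_iff).mp h
        exact hβq P hP hPq
    set e : R := e₀ ^ (k + 1) with hedef
    have heq : e ∉ q := fun h => he₀q (hqprime.mem_of_pow_mem _ h)
    have heT : ∀ P ∈ T, e ∈ P := fun P hP =>
      Ideal.pow_mem_of_mem _ (he₀T P hP) _ (Nat.succ_pos k)
    have hemc : e ∈ maximalIdeal R • c := by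
      have h1 : e ∈ maximalIdeal R ^ (k + 1) := Ideal.pow_mem_pow he₀m _
      rw [pow_succ'] at h1
      exact Ideal.mul_mono_right hk h1
    set f' : R := f + e * y with hf'def
    have hf'c : Ideal.span {f', x} = c :=
      span_pair_add_eq hfΦ.1 (Ideal.mul_mem_right _ _ hemc)
    have hf'P : ∀ P ∈ (Ideal.span {f}).minimalPrimes, f' ∈ P := by
      intro P hP
      have hfP : f ∈ P := hP.1.2 (Ideal.mem_span_singleton_self f)
      by_cases hPq : P = q
      · subst hPq; exact P.add_mem hfP (P.mul_mem_left _ hyq)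
      · exact P.add_mem hfP (P.mul_mem_right _
          (heT P (Finset.mem_erase.mpr ⟨hPq, hfinf.mem_toFinset.mpr hP⟩)))
    have hf'Φ : f' ∈ Φ := ⟨hf'c, fun p hp => hf'P p (by
      haveI := (hs p hp).1
      exact mem_minimalPrimes_of_height_eq_one hf0 (hs p hp).2 (hfΦ.2 p hp))⟩
    have hf'0 := hΦne f' hf'Φ
    have hradle : (Ideal.span {f'}).radical ≤ (Ideal.span {f}).radical := by
      rw [Ideal.radical_le_radical_iff, Ideal.span_singleton_le_iff_mem,
        ← Ideal.sInf_minimalPrimes, Submodule.mem_sInf]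
      exact hf'P
    have hkey : π * f' = f * (π + e * d) := by
      calc π * f' = π * f + e * (π * y) := by rw [hf'def]; ring
        _ = π * f + e * (d * f) := by rw [hy]
        _ = f * (π + e * d) := by ring
    have hsumP : ∀ P ∈ (Ideal.span {f}).minimalPrimes, π + e * d ∉ P := by
      intro P hP hsum
      by_cases hPq : P = q
      · subst hPq
        have : e * d ∈ P := by
          have := P.sub_mem hsum hπq
          simpa using this
        exact (hqprime.mem_or_mem this).elim heq hdq
      · have hPT : P ∈ T := Finset.mem_erase.mpr ⟨hPq, hfinf.mem_toFinset.mpr hP⟩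
        have : π ∈ P := by
          have := P.sub_mem hsum (P.mul_mem_right d (heT P hPT))
          simpa using this
        exact hπT P hPT this
    have hradne : (Ideal.span {f'}).radical ≠ (Ideal.span {f}).radical := by
      intro heq'
      have hmin' : (Ideal.span {f'}).minimalPrimes = (Ideal.span {f}).minimalPrimes := by
        rw [← Ideal.radical_minimalPrimes, heq', Ideal.radical_minimalPrimes]
      have hdvd : f' ∣ f := by
        apply dvd_of_forall_minimalPrimes hf'0
        rw [hmin']
        intro P hP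
        exact ⟨π + e * d, hsumP P hP, π, by rw [mul_comm, ← hkey, mul_comm]⟩
      obtain ⟨w, hw⟩ := hdvd
      have hπw : π = w * (π + e * d) := by
        apply mul_left_cancel₀ hf'0
        calc f' * π = π * f' := mul_comm _ _
          _ = f * (π + e * d) := hkey
          _ = f' * (w * (π + e * d)) := by rw [hw]; ring
      have hwq : w ∈ q := by
        have h1 : w * (π + e * d) ∈ q := hπw ▸ hπq
        exact (hqprime.mem_or_mem h1).resolve_right (hsumP q hq)
      have hwm : w ∈ maximalIdeal R := IsLocalRing.le_maximalIdeal hqprime.ne_top hwq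
      have hf'c' : f' ∈ c := hf'c ▸ Ideal.subset_span (by simp)
      have hcx : c ≤ Ideal.span {x} := by
        apply Submodule.le_of_le_smul_of_le_jacobson_bot (IsNoetherian.noetherian c)
          (IsLocalRing.maximalIdeal_le_jacobson ⊥)
        conv_lhs => rw [← hfΦ.1]
        rw [Ideal.span_le]
        rintro y' (rfl | rfl)
        · apply Submodule.mem_sup_right
          rw [hw, mul_comm]
          exact Ideal.mul_mem_mul hwm hf'c'
        · exact Submodule.mem_sup_left (Ideal.mem_span_singleton_self _)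
      apply radical_span_singleton_ne hdim x
      apply le_antisymm
      · exact (Ideal.IsPrime.radical_le_iff inferInstance).mpr
          ((Ideal.span_singleton_le_iff_mem _).mpr hxm)
      · rw [← hrad]; exact Ideal.radical_mono hcx
    -- the measure decreases strictly
    apply hmin (μ f') ⟨f', hf'Φ, rfl⟩
    refine lt_of_le_of_ne (Ideal.map_mono (sup_le_sup_right hradle _)) ?_
    intro hμ
    apply hradne
    apply le_antisymm hradle
    have hker : Ideal.comap (Ideal.Quotient.mk c) ⊥ = c := by
      rw [← RingHom.ker_eq_comap_bot, Ideal.mk_ker]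
    have hcle : c ≤ (Ideal.span {f'}).radical ⊔ Ideal.span {x} := by
      rw [← hf'c, Ideal.span_le]
      rintro y' (rfl | rfl)
      · exact Submodule.mem_sup_left (Ideal.le_radical (Ideal.mem_span_singleton_self _))
      · exact Submodule.mem_sup_right (Ideal.mem_span_singleton_self _)
    have h1 : (Ideal.span {f}).radical ⊔ Ideal.span {x} ≤
        (Ideal.span {f'}).radical ⊔ Ideal.span {x} := by
      have h2 := congrArg (Ideal.comap (Ideal.Quotient.mk c)) hμ
      simp only [μ] at h2
      rw [Ideal.comap_map_of_surjective _ Ideal.Quotient.mk_surjective,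
        Ideal.comap_map_of_surjective _ Ideal.Quotient.mk_surjective, hker,
        sup_eq_left.mpr hcle] at h2
      rw [h2]
      exact le_sup_left
    apply Submodule.le_of_le_smul_of_le_jacobson_bot (IsNoetherian.noetherian _)
      (IsLocalRing.maximalIdeal_le_jacobson ⊥)
    intro a ha
    have ha' : a ∈ (Ideal.span {f'}).radical ⊔ Ideal.span {x} := h1 (Submodule.mem_sup_left ha)
    obtain ⟨b, hb, z', hz', rfl⟩ := Submodule.mem_sup.mp ha'
    obtain ⟨c', rfl⟩ := Ideal.mem_span_singleton'.mp hz'
    have hcx : c' * x ∈ (Ideal.span {f}).radical := by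
      have := Ideal.sub_mem _ ha (hradle hb)
      simpa using this
    have hc' : c' ∈ (Ideal.span {f}).radical := by
      rw [← Ideal.sInf_minimalPrimes, Submodule.mem_sInf] at hcx ⊢
      intro P hP
      haveI := hP.1.1
      exact (Ideal.IsPrime.mem_or_mem inferInstance (hcx P hP)).resolve_right (hΦx f hfΦ P hP)
    refine Submodule.add_mem_sup hb ?_
    rw [mul_comm]
    exact Ideal.mul_mem_mul hxm hc'
  refine ⟨f, hf0, hfΦ.2, ?_⟩
  intro a ha
  rw [Ideal.mem_span_singleton]
  apply dvd_of_forall_minimalPrimes hf0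
  intro P hP
  have haP : a ∈ P := by
    have : (Ideal.span {f}).radical ≤ P := (hP.1.1.radical_le_iff).mpr hP.1.2
    exact this ha
  exact hgood P hP a haP

end Main

end Groth.Agent.Lib.T2H9.PrincRad
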