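import Mathlib
import Groth.Agent.Lib.T2H9PrincRad

/-!
# n-th roots descend along flat local maps of Noetherian normal local domains (helper9)

`f = w h ^ n` in `B` with `A → B` flat local, weakly unramified in codimension one, implies
`f = u g ^ n` in `A`.  Proof: `n ∣ v_P(f)` for all minimal primes `P` of `(f)`; the divisorial ideal
`I = ⋂ (π_P^{v_P(f)/n} A_P ∩ A)` satisfies `I B = h B` (flat base change of a kernel + normality of
`B`), so a generator of `I B` can be chosen in `I`, and divisibility descends by faithful flatness.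
-/

set_option autoImplicit false
set_option linter.unusedSectionVars false
set_option linter.style.haveILetI false
universe u

namespace Groth.Agent.Lib.T2H9.FlatRoot

open IsLocalRing TensorProduct Groth.Agent.Lib.T2H9.PrincRad

section Normal

/-- In a normal domain, `y ^ n = h ^ n * c` forces `h ∣ y`. -/
theorem dvd_of_pow_eq_pow_mul {B : Type u} [CommRing B] [IsDomain B] [IsIntegrallyClosed B]
    {y h c : B} {n : ℕ} (hn : 0 < n) (hh : h ≠ 0) (e : y ^ n = h ^ n * c) : h ∣ y := by
  have hinj := IsFractionRing.injective B (FractionRing B)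
  have hh' : algebraMap B (FractionRing B) h ≠ 0 := (map_ne_zero_iff _ hinj).mpr hh
  have hz : (algebraMap B (FractionRing B) y / algebraMap B (FractionRing B) h) ^ n =
      algebraMap B (FractionRing B) c := by
    rw [div_pow, ← map_pow, ← map_pow, e, map_mul, mul_comm, mul_div_assoc, map_pow,
      div_self (pow_ne_zero n hh'), mul_one]
  have hint : IsIntegral B (algebraMap B (FractionRing B) y / algebraMap B (FractionRing B) h) := by
    refine ⟨Polynomial.X ^ n - Polynomial.C c, Polynomial.monic_X_pow_sub_C c hn.ne', ?_⟩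
    rw [Polynomial.eval₂_sub, Polynomial.eval₂_pow, Polynomial.eval₂_X, Polynomial.eval₂_C, hz,
      sub_self]
  obtain ⟨b, hb⟩ := IsIntegrallyClosed.algebraMap_eq_of_integral hint
  refine ⟨b, hinj ?_⟩
  rw [map_mul, hb, mul_div_cancel₀ _ hh']

variable {A : Type u} [CommRing A] [IsDomain A] [IsNoetherianRing A] [IsIntegrallyClosed A]

/-- `π ∈ P` with the uniformizer property generates the maximal ideal of `A_P`. -/
theorem maximalIdeal_eq_span_of_unif (P : Ideal A) [P.IsPrime] {π : A} (hπP : π ∈ P)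
    (hunif : ∀ y ∈ P, ∃ d, d ∉ P ∧ π ∣ d * y) :
    maximalIdeal (Localization.AtPrime P) =
      Ideal.span {algebraMap A (Localization.AtPrime P) π} := by
  apply le_antisymm
  · intro x hx
    obtain ⟨y, s, rfl⟩ := IsLocalization.exists_mk'_eq P.primeCompl x
    have hy : y ∈ P :=
      (IsLocalization.AtPrime.mk'_mem_maximal_iff (Localization.AtPrime P) P y s).mp hx
    obtain ⟨d, hd, z, hz⟩ := hunif y hy
    have hd' : d ∈ P.primeCompl := hd
    rw [Ideal.mem_span_singleton]
    refine ⟨IsLocalization.mk' (Localization.AtPrime P) z ((⟨d, hd'⟩ : P.primeCompl) * s), ?_⟩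
    rw [IsLocalization.mul_mk'_eq_mk'_of_mul, ← hz]
    have : IsLocalization.mk' (Localization.AtPrime P) (d * y) ((⟨d, hd'⟩ : P.primeCompl) * s) =
        IsLocalization.mk' (Localization.AtPrime P) y s := by
      rw [IsLocalization.mk'_eq_iff_eq]
      simp only [Submonoid.coe_mul]
      ring_nf
    exact this.symm
  · rw [Ideal.span_singleton_le_iff_mem]
    exact (IsLocalization.AtPrime.to_map_mem_maximal_iff (Localization.AtPrime P) P π).mpr hπP

/-- representation of a nonzero `f` at a height one prime: `d f = c π ^ a` with `π` a uniformizer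
and `c, d ∉ P`. -/
theorem exists_rep (P : Ideal A) [P.IsPrime] (hP : P.height = 1) {f : A} (hf : f ≠ 0) :
    ∃ π ∈ P, (∀ y ∈ P, ∃ d, d ∉ P ∧ π ∣ d * y) ∧
      ∃ (a : ℕ) (c d : A), c ∉ P ∧ d ∉ P ∧ d * f = c * π ^ a := by
  classical
  obtain ⟨π, hπP, -, hunif⟩ := exists_uniformizer P hP ∅ (by simp)
  refine ⟨π, hπP, hunif, ?_⟩
  haveI : IsDiscreteValuationRing (Localization.AtPrime P) :=
    Groth.Agent.Lib.Helper28.WeakKrull.isDiscreteValuationRing_localization_of_height_one A P hP
  have hinj : Function.Injective (algebraMap A (Localization.AtPrime P)) :=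
    IsLocalization.injective (Localization.AtPrime P) P.primeCompl_le_nonZeroDivisors
  have hm := maximalIdeal_eq_span_of_unif P hπP hunif
  have hirr : Irreducible (algebraMap A (Localization.AtPrime P) π) :=
    (IsDiscreteValuationRing.irreducible_iff_uniformizer _).mpr hm
  have hf' : algebraMap A (Localization.AtPrime P) f ≠ 0 := (map_ne_zero_iff _ hinj).mpr hf
  obtain ⟨a, u, hu⟩ := IsDiscreteValuationRing.eq_unit_mul_pow_irreducible hf' hirr
  obtain ⟨c, d, hcd⟩ := IsLocalization.exists_mk'_eq P.primeCompl (u : Localization.AtPrime P)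
  have hc : c ∉ P := by
    intro hcP
    have : IsLocalization.mk' (Localization.AtPrime P) c d ∈
        maximalIdeal (Localization.AtPrime P) :=
      (IsLocalization.AtPrime.mk'_mem_maximal_iff (Localization.AtPrime P) P c d).mpr hcP
    rw [hcd] at this
    exact (IsLocalRing.mem_maximalIdeal _).mp this u.isUnit
  refine ⟨a, c, d, hc, d.2, hinj ?_⟩
  rw [map_mul, hu, ← hcd, map_mul, map_pow, ← mul_assoc, mul_comm (algebraMap A _ (d : A)),
    IsLocalization.mk'_spec]

end Normal

section Ram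

variable {A : Type u} [CommRing A]
variable {B : Type u} [CommRing B] [IsDomain B] [IsNoetherianRing B] [IsIntegrallyClosed B]
  [Algebra A B]

/-- the ramification lemma: if `q` over `P` is weakly unramified and `d f = c π ^ a` with `π` a
uniformizer at `P`, `c, d ∉ P`, and `f = w h ^ n` in `B`, then `n ∣ a`. -/
theorem ram_dvd (P : Ideal A) [P.IsPrime] (q : Ideal B) [q.IsPrime] (hq : q.height = 1)
    (hqP : q.comap (algebraMap A B) = P)
    (hram : Ideal.map (algebraMap B (Localization.AtPrime q)) (Ideal.map (algebraMap A B) P) =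
      maximalIdeal (Localization.AtPrime q))
    {π : A} (hπP : π ∈ P) (hunif : ∀ y ∈ P, ∃ d, d ∉ P ∧ π ∣ d * y)
    {f c d : A} {a n : ℕ} {w h : B} (hw : IsUnit w) (hh : h ≠ 0) (hc : c ∉ P) (hd : d ∉ P)
    (e : d * f = c * π ^ a) (hf : algebraMap A B f = w * h ^ n) : n ∣ a := by
  classical
  haveI : IsDiscreteValuationRing (Localization.AtPrime q) :=
    Groth.Agent.Lib.Helper28.WeakKrull.isDiscreteValuationRing_localization_of_height_one B q hq
  have hinj : Function.Injective (algebraMap B (Localization.AtPrime q)) :=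
    IsLocalization.injective (Localization.AtPrime q) q.primeCompl_le_nonZeroDivisors
  set ψ := algebraMap B (Localization.AtPrime q) with hψ
  set φ := algebraMap A B with hφ
  have hunit : ∀ x : A, x ∉ P → IsUnit (ψ (φ x)) := by
    intro x hx
    apply IsLocalization.map_units (Localization.AtPrime q) (⟨φ x, ?_⟩ : q.primeCompl)
    show φ x ∉ q
    intro hxq
    apply hx
    rw [← hqP]
    exact hxq
  have hm : maximalIdeal (Localization.AtPrime q) = Ideal.span {ψ (φ π)} := by
    apply le_antisymm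
    · rw [← hram, Ideal.map_map, Ideal.map_le_iff_le_comap]
      intro y hy
      obtain ⟨d', hd', z, hz⟩ := hunif y hy
      rw [Ideal.mem_comap, Ideal.mem_span_singleton]
      obtain ⟨v, hv⟩ := hunit d' hd'
      refine ⟨↑v⁻¹ * ψ (φ z), ?_⟩
      have h1 : ψ (φ d') * ψ (φ y) = ψ (φ π) * ψ (φ z) := by
        rw [← map_mul, ← map_mul, hz, map_mul, map_mul]
      rw [RingHom.comp_apply]
      calc ψ (φ y) = ↑v⁻¹ * (ψ (φ d') * ψ (φ y)) := by
            rw [← hv, ← mul_assoc, Units.inv_mul, one_mul]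
        _ = ψ (φ π) * (↑v⁻¹ * ψ (φ z)) := by rw [h1]; ring
    · rw [Ideal.span_singleton_le_iff_mem]
      apply (IsLocalization.AtPrime.to_map_mem_maximal_iff (Localization.AtPrime q) q (φ π)).mpr
      show π ∈ q.comap φ
      rw [hqP]; exact hπP
  have hirr : Irreducible (ψ (φ π)) :=
    (IsDiscreteValuationRing.irreducible_iff_uniformizer _).mpr hm
  have hh' : ψ h ≠ 0 := (map_ne_zero_iff _ hinj).mpr hh
  obtain ⟨b, u, hu⟩ := IsDiscreteValuationRing.eq_unit_mul_pow_irreducible hh' hirr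
  obtain ⟨vd, hvd⟩ := hunit d hd
  obtain ⟨vc, hvc⟩ := hunit c hc
  obtain ⟨vw, hvw⟩ := hw.map ψ
  have key : ((vd * vw * u ^ n : (Localization.AtPrime q)ˣ) : Localization.AtPrime q) *
      ψ (φ π) ^ (n * b) = vc * ψ (φ π) ^ a := by
    have h1 : ψ (φ d) * ψ (φ f) = ψ (φ c) * ψ (φ π) ^ a := by
      rw [← map_mul, ← map_mul, e, map_mul, map_mul, map_pow, map_pow]
    rw [hvc, ← h1, hf, map_mul, map_pow, hu, ← hvd, ← hvw]
    push_cast
    ring
  have := IsDiscreteValuationRing.unit_mul_pow_congr_pow hirr hirr _ _ _ _ key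
  exact ⟨b, this.symm⟩

end Ram

section Flat

variable {A : Type u} [CommRing A] {B : Type u} [CommRing B] [Algebra A B]
variable {ι : Type*} [Fintype ι] [DecidableEq ι] (P : ι → Ideal A) [∀ i, (P i).IsPrime] (t : ι → A)

/-- the module `A_{P i}/(t i)` -/
abbrev Mq (i : ι) : Type u :=
  Localization.AtPrime (P i) ⧸ Ideal.span {algebraMap A (Localization.AtPrime (P i)) (t i)}

/-- the map `A → Π i, A_{P i}/(t i)` -/
noncomputable def psi : A →ₗ[A] (Π i, Mq P t i) :=
  LinearMap.pi fun i => ((Ideal.Quotient.mkₐ A _).toLinearMap ∘ₗ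
    (Algebra.linearMap A (Localization.AtPrime (P i))))

theorem psi_apply (x : A) (i : ι) :
    psi P t x i = Ideal.Quotient.mk _ (algebraMap A (Localization.AtPrime (P i)) x) := rfl

theorem exists_of_mem_ker {x : A} (hx : x ∈ LinearMap.ker (psi P t)) (i : ι) :
    ∃ e, e ∉ P i ∧ t i ∣ e * x := by
  have h1 : psi P t x i = 0 := by rw [LinearMap.mem_ker.mp hx]; rfl
  rw [psi_apply, Ideal.Quotient.eq_zero_iff_mem, Ideal.mem_span_singleton] at h1
  obtain ⟨y, hy⟩ := h1
  obtain ⟨z, s, rfl⟩ := IsLocalization.exists_mk'_eq (P i).primeCompl y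
  rw [IsLocalization.mul_mk'_eq_mk'_of_mul, IsLocalization.eq_mk'_iff_mul_eq, ← map_mul,
    IsLocalization.eq_iff_exists (P i).primeCompl] at hy
  obtain ⟨c, hc⟩ := hy
  refine ⟨c * s, (c * s).2, c * z, ?_⟩
  calc ((c * s : (P i).primeCompl) : A) * x = c * (x * s) := by push_cast; ring
    _ = c * (t i * z) := hc
    _ = t i * (c * z) := by ring

variable [Module.Flat A B]

theorem mem_map_ker {h : B}
    (H : ∀ i, ∃ s, s ∉ P i ∧ algebraMap A B (t i) ∣ algebraMap A B s * h) :
    h ∈ Ideal.map (algebraMap A B) (LinearMap.ker (psi P t)) := by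
  have hex : Function.Exact (LinearMap.ker (psi P t)).subtype (psi P t) :=
    LinearMap.exact_subtype_ker_map (psi P t)
  have hex' := Module.Flat.lTensor_exact B hex
  have hz : (LinearMap.lTensor B (psi P t)) (h ⊗ₜ[A] (1 : A)) = 0 := by
    rw [LinearMap.lTensor_tmul, ← Finset.univ_sum_single (psi P t 1), TensorProduct.tmul_sum]
    apply Finset.sum_eq_zero
    intro i _
    obtain ⟨s, hs, b', hb'⟩ := H i
    have hs' : s ∈ (P i).primeCompl := hs
    set m0 : Mq P t i := Ideal.Quotient.mk _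
      (IsLocalization.mk' (Localization.AtPrime (P i)) (1 : A) (⟨s, hs'⟩ : (P i).primeCompl))
      with hm0
    have e1 : psi P t 1 i = s • m0 := by
      rw [psi_apply, hm0, ← Ideal.Quotient.mkₐ_eq_mk A, ← map_smul, Algebra.smul_def,
        IsLocalization.mul_mk'_eq_mk'_of_mul, mul_one]
      congr 1
      rw [map_one]
      exact (IsLocalization.mk'_self' (Localization.AtPrime (P i))
        (x := (⟨s, hs'⟩ : (P i).primeCompl))).symm
    have e2 : t i • m0 = 0 := by
      rw [hm0, ← Ideal.Quotient.mkₐ_eq_mk A, ← map_smul, Ideal.Quotient.mkₐ_eq_mk,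
        Ideal.Quotient.eq_zero_iff_mem, Algebra.smul_def]
      exact Ideal.mul_mem_right _ _ (Ideal.mem_span_singleton_self _)
    have e3 : (Pi.single i (s • m0) : Π j, Mq P t j) = s • Pi.single i m0 :=
      Pi.single_smul (f := fun j => Mq P t j) i s m0
    have e4 : (t i • Pi.single i m0 : Π j, Mq P t j) = 0 := by
      rw [← Pi.single_smul (f := fun j => Mq P t j) i (t i) m0, e2, Pi.single_zero]
    rw [e1, e3]
    calc h ⊗ₜ[A] (s • (Pi.single i m0 : Π j, Mq P t j))
        = (s • h) ⊗ₜ[A] (Pi.single i m0 : Π j, Mq P t j) := (TensorProduct.smul_tmul s h _).symm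
      _ = (t i • b') ⊗ₜ[A] (Pi.single i m0 : Π j, Mq P t j) := by
          rw [Algebra.smul_def, hb', ← Algebra.smul_def]
      _ = b' ⊗ₜ[A] (t i • (Pi.single i m0 : Π j, Mq P t j)) := TensorProduct.smul_tmul _ _ _
      _ = 0 := by rw [e4, TensorProduct.tmul_zero]
  obtain ⟨z, hz'⟩ := (hex' _).mp hz
  have h2 : h = TensorProduct.rid A B (h ⊗ₜ[A] (1 : A)) := by simp
  rw [h2, ← hz']
  clear hz' h2 hz
  induction z using TensorProduct.induction_on with
  | zero => simp
  | tmul b x =>
    rw [LinearMap.lTensor_tmul, TensorProduct.rid_tmul, Submodule.subtype_apply, Algebra.smul_def]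
    exact Ideal.mul_mem_right _ _ (Ideal.mem_map_of_mem _ x.2)
  | add z1 z2 h1 h2 =>
    rw [map_add, map_add]
    exact add_mem h1 h2

end Flat


section Main

variable {A B : Type u} [CommRing A] [IsDomain A] [IsNoetherianRing A] [IsLocalRing A]
  [IsIntegrallyClosed A] [CommRing B] [IsDomain B] [IsNoetherianRing B] [IsLocalRing B]
  [IsIntegrallyClosed B] [Algebra A B] [IsLocalHom (algebraMap A B)] [Module.Flat A B]

/-- divisibility descends along a flat local homomorphism. -/
theorem dvd_of_map_dvd {x y : A} (hxy : algebraMap A B x ∣ algebraMap A B y) : x ∣ y := by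
  haveI : Module.FaithfullyFlat A B := Module.FaithfullyFlat.of_flat_of_isLocalHom
  have h1 : y ∈ (Ideal.map (algebraMap A B) (Ideal.span {x})).comap (algebraMap A B) := by
    rw [Ideal.mem_comap, Ideal.map_span, Set.image_singleton, Ideal.mem_span_singleton]
    exact hxy
  rw [Ideal.comap_map_eq_self_of_faithfullyFlat, Ideal.mem_span_singleton] at h1
  exact h1

theorem main (f : A) (h : B) (n : ℕ) (hn : 1 < n) (w : Bˣ)
    (hf : algebraMap A B f = (w : B) * h ^ n)
    (hram : ∀ (p : Ideal A) [p.IsPrime], p.height = 1 →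
      ∃ (q : Ideal B) (_ : q.IsPrime), q.height = 1 ∧ q.comap (algebraMap A B) = p ∧
        Ideal.map (algebraMap B (Localization.AtPrime q)) (Ideal.map (algebraMap A B) p) =
          IsLocalRing.maximalIdeal (Localization.AtPrime q)) :
    ∃ (g : A) (u : Aˣ), f = (u : A) * g ^ n := by
  classical
  by_cases hf0 : f = 0
  · exact ⟨0, 1, by rw [hf0, zero_pow (by omega), mul_zero]⟩
  have hn0 : 0 < n := by omega
  haveI : Module.FaithfullyFlat A B := Module.FaithfullyFlat.of_flat_of_isLocalHom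
  have hinj : Function.Injective (algebraMap A B) := FaithfulSMul.algebraMap_injective A B
  set φ := algebraMap A B with hφ
  have hh0 : h ≠ 0 := by
    intro hh
    apply hf0
    apply hinj
    rw [hf, hh, zero_pow hn0.ne', mul_zero, map_zero]
  -- the finite set of minimal primes of `(f)`
  have hfin : (Ideal.span {f}).minimalPrimes.Finite :=
    Ideal.finite_minimalPrimes_of_isNoetherianRing A _
  haveI : Fintype ↥(Ideal.span {f}).minimalPrimes := hfin.fintype
  haveI hprime : ∀ P : ↥(Ideal.span {f}).minimalPrimes, (P.1).IsPrime := fun P => P.2.1.1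
  have hdata : ∀ P : ↥(Ideal.span {f}).minimalPrimes,
      ∃ (t c d : A), c ∉ P.1 ∧ d ∉ P.1 ∧ d * f = c * t ^ n := by
    intro P
    have hP1 : P.1.height = 1 := height_eq_one_of_mem_minimalPrimes hf0 P.2
    obtain ⟨π, hπP, hunif, a, c, d, hc, hd, e⟩ := exists_rep P.1 hP1 hf0
    obtain ⟨q, hq, hq1, hqP, hqram⟩ := hram P.1 hP1
    obtain ⟨m, hm⟩ := ram_dvd P.1 q hq1 hqP hqram hπP hunif w.isUnit hh0 hc hd e hf
    exact ⟨π ^ m, c, d, hc, hd, by rw [e, hm, ← pow_mul, mul_comm m n]⟩
  choose t c d hc hd he using hdata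
  have ht0 : ∀ P, t P ≠ 0 := by
    intro P ht
    have h1 : d P * f = 0 := by rw [he P, ht, zero_pow hn0.ne', mul_zero]
    rcases mul_eq_zero.mp h1 with h2 | h2
    · exact hd P (h2 ▸ Ideal.zero_mem _)
    · exact hf0 h2
  -- Step B
  have hB : h ∈ Ideal.map φ (LinearMap.ker (psi (fun P : ↥(Ideal.span {f}).minimalPrimes => P.1) t)) := by
    apply mem_map_ker
    intro P
    refine ⟨d P, hd P, ?_⟩
    have e1 : (φ (d P) * h) ^ n =
        φ (t P) ^ n * (((w⁻¹ : Bˣ) : B) * φ (d P) ^ (n - 1) * φ (c P)) := by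
      have e2 : φ (d P) * φ f = φ (c P) * φ (t P) ^ n := by
        rw [← map_mul, he P, map_mul, map_pow]
      have e3 : h ^ n = ((w⁻¹ : Bˣ) : B) * φ f := by
        rw [hf, ← mul_assoc, Units.inv_mul, one_mul]
      have e4 : φ (d P) ^ n = φ (d P) ^ (n - 1) * φ (d P) := by
        rw [← pow_succ]; congr 1; omega
      calc (φ (d P) * h) ^ n = φ (d P) ^ n * h ^ n := mul_pow _ _ _
        _ = ((w⁻¹ : Bˣ) : B) * φ (d P) ^ (n - 1) * (φ (d P) * φ f) := by rw [e3, e4]; ring
        _ = _ := by rw [e2]; ring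
    exact dvd_of_pow_eq_pow_mul hn0 ((map_ne_zero_iff _ hinj).mpr (ht0 P)) e1
  -- Step A
  have hA : ∀ x ∈ LinearMap.ker (psi (fun P : ↥(Ideal.span {f}).minimalPrimes => P.1) t),
      h ∣ φ x := by
    intro x hx
    have h1 : f ∣ x ^ n := by
      apply dvd_of_forall_minimalPrimes hf0
      intro P hP
      obtain ⟨e, heP, z, hz⟩ := exists_of_mem_ker _ t hx ⟨P, hP⟩
      haveI : P.IsPrime := hP.1.1
      refine ⟨c ⟨P, hP⟩ * e ^ n, ?_, d ⟨P, hP⟩ * z ^ n, ?_⟩
      · intro hmem
        rcases Ideal.IsPrime.mem_or_mem ‹P.IsPrime› hmem with h2 | h2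
        · exact hc ⟨P, hP⟩ h2
        · exact heP (Ideal.IsPrime.mem_of_pow_mem ‹P.IsPrime› n h2)
      · calc c ⟨P, hP⟩ * e ^ n * x ^ n = c ⟨P, hP⟩ * (e * x) ^ n := by ring
          _ = c ⟨P, hP⟩ * t ⟨P, hP⟩ ^ n * z ^ n := by rw [hz]; ring
          _ = f * (d ⟨P, hP⟩ * z ^ n) := by rw [← he ⟨P, hP⟩]; ring
    obtain ⟨y, hy⟩ := h1
    have e1 : φ x ^ n = h ^ n * ((w : B) * φ y) := by
      rw [← map_pow, hy, map_mul, hf]; ring
    exact dvd_of_pow_eq_pow_mul hn0 hh0 e1
  -- Step C
  have hC : ∃ g ∈ LinearMap.ker (psi (fun P : ↥(Ideal.span {f}).minimalPrimes => P.1) t),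
      ∃ v : Bˣ, φ g = h * v := by
    by_contra hcon
    push Not at hcon
    have hle : Ideal.map φ (LinearMap.ker (psi (fun P : ↥(Ideal.span {f}).minimalPrimes => P.1) t))
        ≤ Ideal.span {h} * maximalIdeal B := by
      rw [Ideal.map_le_iff_le_comap]
      intro x hx
      obtain ⟨y, hy⟩ := hA x hx
      rw [Ideal.mem_comap, Ideal.mem_span_singleton_mul]
      refine ⟨y, ?_, hy.symm⟩
      rw [IsLocalRing.mem_maximalIdeal, mem_nonunits_iff]
      intro hyu
      exact hcon x hx hyu.unit hy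
    have h1 := hle hB
    rw [Ideal.mem_span_singleton_mul] at h1
    obtain ⟨z, hz, hz'⟩ := h1
    have h2 : z = 1 := by
      apply mul_left_cancel₀ hh0
      rw [hz', mul_one]
    rw [h2] at hz
    exact (IsLocalRing.mem_maximalIdeal _).mp hz isUnit_one
  obtain ⟨g, -, v, hv⟩ := hC
  -- Step D
  have e1 : φ (g ^ n) = φ f * (((w⁻¹ : Bˣ) : B) * (v : B) ^ n) := by
    rw [map_pow, hv, hf, mul_pow]
    calc h ^ n * (v : B) ^ n = ((w : B) * ((w⁻¹ : Bˣ) : B)) * (h ^ n * (v : B) ^ n) := by
          rw [Units.mul_inv, one_mul]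
      _ = _ := by ring
  have e2 : φ f = φ (g ^ n) * ((w : B) * (((v⁻¹ : Bˣ) : B)) ^ n) := by
    rw [map_pow, hv, hf, mul_pow]
    calc (w : B) * h ^ n = (w : B) * h ^ n * ((v : B) * ((v⁻¹ : Bˣ) : B)) ^ n := by
          rw [Units.mul_inv, one_pow, mul_one]
      _ = _ := by ring
  have d1 : f ∣ g ^ n := dvd_of_map_dvd (B := B) ⟨_, e1⟩
  have d2 : g ^ n ∣ f := dvd_of_map_dvd (B := B) ⟨_, e2⟩
  obtain ⟨u, hu⟩ := associated_of_dvd_dvd d2 d1
  exact ⟨g, u, by rw [← hu, mul_comm]⟩

end Main

end Groth.Agent.Lib.T2H9.FlatRoot
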