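import Groth.Prelude.Def_Frob
import Groth.Prelude.Def_W4c3convisocdirimgFrobIter
import Mathlib

set_option autoImplicit false
open CategoryTheory CategoryTheory.Limits AlgebraicGeometry
universe u
open FrobSch

namespace Groth.Agent.Lib.T2H9.Frob

/-- In a reduced ring in which `p = 0` (`p` prime), `a ^ p = b ^ p` implies `a = b`. -/
lemma eq_of_pow_eq {R : Type u} [CommRing R] [IsReduced R] (p : ℕ) [Fact p.Prime]
    (hp : (p : R) = 0) {a b : R} (h : a ^ p = b ^ p) : a = b := by
  have h1 : powHom p R hp (a - b) = 0 := by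
    rw [map_sub, powHom_apply, powHom_apply, h, sub_self]
  rw [powHom_apply] at h1
  have h2 : IsNilpotent (a - b) := ⟨p, h1⟩
  exact sub_eq_zero.mp (h2.eq_zero)

lemma res_eq_of_pow_eq (p : ℕ) [Fact p.Prime] (Y : Scheme.{u}) [IsCharP Y p] [IsReduced Y]
    {V W : Y.Opens} (e : V = W) (a : Γ(Y, V)) (b : Γ(Y, W))
    (h : a ^ p = (Y.presheaf.map (eqToHom e).op).hom (b ^ p)) :
    (Y.presheaf.map (eqToHom e.symm).op).hom a = b := by
  subst e
  simp only [eqToHom_refl, op_id, CategoryTheory.Functor.map_id, CommRingCat.hom_id,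
    RingHom.id_apply] at h ⊢
  exact eq_of_pow_eq p (natCast_eq_zero_app Y p V) h

/-- The absolute Frobenius of a reduced scheme of characteristic `p` is an epimorphism
(in the category of schemes). -/
theorem eq_of_frob_comp_eq (p : ℕ) [Fact p.Prime] {Y Z : Scheme.{u}} [IsCharP Y p] [IsReduced Y]
    (g₁ g₂ : Y ⟶ Z) (h : frob Y p ≫ g₁ = frob Y p ≫ g₂) : g₁ = g₂ := by
  have hb : g₁.base = g₂.base := by
    have := congrArg (fun f => f.base) h
    simpa using this
  refine Scheme.Hom.ext hb (fun U => ?_)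
  ext s
  have h1 := Scheme.Hom.congr_app h U
  have e1 : (frob Y p ≫ g₁).app U = g₁.app U ≫ (frob Y p).app (g₁ ⁻¹ᵁ U) :=
    Scheme.Hom.comp_app _ _ _
  have e2 : (frob Y p ≫ g₂).app U = g₂.app U ≫ (frob Y p).app (g₂ ⁻¹ᵁ U) :=
    Scheme.Hom.comp_app _ _ _
  rw [e1, e2] at h1
  have h2 := congrArg (fun φ => φ.hom s) h1
  simp only [CommRingCat.hom_comp, RingHom.comp_apply] at h2
  exact res_eq_of_pow_eq p Y (congrArg (fun f => (TopologicalSpace.Opens.map f).obj U) hb) _ _ h2

instance quasiCompact_frob (p : ℕ) [Fact p.Prime] (Y : Scheme.{u}) [IsCharP Y p] :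
    QuasiCompact (frob Y p) :=
  ⟨fun _ _ hU => hU⟩

lemma frob_comm (p : ℕ) [Fact p.Prime] (Y : Scheme.{u}) [IsCharP Y p] (n : ℕ) :
    frobIter Y p (n + 1) = frobIter Y p n ≫ frob Y p := by
  rw [frobIter_succ]
  exact frob_comp p (frobIter Y p n)

instance quasiCompact_frobIter (p : ℕ) [Fact p.Prime] (Y : Scheme.{u}) [IsCharP Y p] (n : ℕ) :
    QuasiCompact (frobIter Y p n) := by
  induction n with
  | zero => rw [frobIter_zero]; infer_instance
  | succ n ih => rw [frobIter_succ]; infer_instance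

lemma ker_comp_frob_le (p : ℕ) [Fact p.Prime] {X Y : Scheme.{u}} [IsCharP Y p]
    (f : X ⟶ Y) [QuasiCompact f] :
    (f ≫ frob Y p).ker ≤ (f.imageι ≫ frob Y p).ker := by
  rw [Scheme.IdealSheafData.le_def]
  intro U s hs
  rw [Scheme.Hom.ker_apply, RingHom.mem_ker] at hs ⊢
  have hinj : Function.Injective (f.toImage.app ((f.imageι ≫ frob Y p) ⁻¹ᵁ U)).hom :=
    f.toImage_app_injective U
  apply hinj
  rw [map_zero]
  have e : f.toImage ≫ f.imageι ≫ frob Y p = f ≫ frob Y p := by
    rw [← Category.assoc, Scheme.Hom.toImage_imageι]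
  have h1 := Scheme.Hom.congr_app e U
  have h2 : (f.toImage ≫ f.imageι ≫ frob Y p).app U =
      (f.imageι ≫ frob Y p).app U ≫ f.toImage.app ((f.imageι ≫ frob Y p) ⁻¹ᵁ U) :=
    Scheme.Hom.comp_app _ _ _
  rw [h2] at h1
  have h3 := congrArg (fun φ => φ.hom s) h1
  simp only [CommRingCat.hom_comp, RingHom.comp_apply] at h3
  rw [hs, map_zero] at h3
  exact h3

theorem exists_frobTwist_lift (p : ℕ) [Fact p.Prime] (n : ℕ) {T X B : Scheme.{u}}
    [IsCharP T p] [IsCharP B p] (t : T ⟶ B) (x : X ⟶ B)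
    (i : T.nilradical.subscheme ⟶ (frobIter T p (n + 1)).ker.subscheme)
    (hi : i ≫ (frobIter T p (n + 1)).ker.subschemeι = T.nilradical.subschemeι)
    (j : T.nilradical.subscheme ⟶ (frobIter T p n).ker.subscheme)
    (hj : j ≫ (frobIter T p n).ker.subschemeι = T.nilradical.subschemeι)
    (w : (frobIter T p (n + 1)).ker.subscheme ⟶ X)
    (hw : w ≫ x = (frobIter T p (n + 1)).ker.subschemeι ≫ t) :
    ∃ v : (frobIter T p n).ker.subscheme ⟶ frobTwist x p,
      v ≫ pullback.snd x (frob B p) = (frobIter T p n).ker.subschemeι ≫ t ∧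
        j ≫ v = i ≫ w ≫ relFrob x p := by
  have : IsCharP X p := IsCharP.of_hom x p
  have : IsCharP (frobIter T p (n + 1)).ker.subscheme p :=
    IsCharP.of_hom (frobIter T p (n + 1)).ker.subschemeι p
  have : IsCharP (frobIter T p n).ker.subscheme p :=
    IsCharP.of_hom (frobIter T p n).ker.subschemeι p
  have : IsCharP T.nilradical.subscheme p := IsCharP.of_hom T.nilradical.subschemeι p
  have H : (frobIter T p (n + 1)).ker.subschemeι.ker ≤
      ((frobIter T p n).ker.subschemeι ≫ frob T p).ker := by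
    rw [Scheme.IdealSheafData.ker_subschemeι, frob_comm]
    exact ker_comp_frob_le p (frobIter T p n)
  have hφ := IsClosedImmersion.lift_fac (frobIter T p (n + 1)).ker.subschemeι
    ((frobIter T p n).ker.subschemeι ≫ frob T p) H
  have hjφ : j ≫ IsClosedImmersion.lift (frobIter T p (n + 1)).ker.subschemeι
      ((frobIter T p n).ker.subschemeι ≫ frob T p) H = frob T.nilradical.subscheme p ≫ i := by
    rw [← cancel_mono (frobIter T p (n + 1)).ker.subschemeι, Category.assoc, hφ,
      Category.assoc, hi, ← Category.assoc, hj]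
    exact (frob_comp p T.nilradical.subschemeι).symm
  have cond : (IsClosedImmersion.lift (frobIter T p (n + 1)).ker.subschemeι
      ((frobIter T p n).ker.subschemeι ≫ frob T p) H ≫ w) ≫ x =
      ((frobIter T p n).ker.subschemeι ≫ t) ≫ frob B p := by
    rw [Category.assoc, hw, ← Category.assoc, hφ, Category.assoc, Category.assoc, frob_comp p t]
  refine ⟨pullback.lift _ _ cond, pullback.lift_snd _ _ _, ?_⟩
  apply pullback.hom_ext
  · rw [Category.assoc, pullback.lift_fst, ← Category.assoc, hjφ, Category.assoc, Category.assoc,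
      Category.assoc, relFrob_fst, ← frob_comp p w, ← Category.assoc, ← Category.assoc,
      frob_comp p i]
  · rw [Category.assoc, pullback.lift_snd, ← Category.assoc, hj, Category.assoc, Category.assoc,
      relFrob_snd, hw, ← Category.assoc, hi]

end Groth.Agent.Lib.T2H9.Frob
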