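import Mathlib
import Groth.Agent.Lib.T2H9GE7
import Groth.Agent.Lib.T2H9ModPow
import Groth.Agent.Lib.T2H5GenIsoA

/-!
# Twisted inverses, double biproducts, killing by generators (helper9)

Namespace `Groth.Agent.Lib.T2H9.GE8`.  `twist α₀ a b`: for `α₀ : G₀ ⟶ F₀` with cokernel killed by `a` and kernel killed by
`b`, the map `F₀ ⟶ G₀`, `x ↦ b g` where `α₀ g = a x` (`twist_comp`, `comp_twist`, `twist_naturality`).  `DD r M`: the
double biproduct `M^(r × r)` with `ddLift`, `ddMap`, `isQuotBy_ddMap`, `isCoh_DD`; `isQuotBy_biproductMap`.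
`killedBy_sq_of_gens`: a quasi-coherent module killed by all products `a i * a j` of generators of `J` on an affine cover
is killed by `J ^ 2`.
-/

set_option autoImplicit false
set_option linter.style.haveILetI false
set_option linter.unusedSectionVars false
set_option linter.unusedVariables false
universe u
open CategoryTheory CategoryTheory.Limits Opposite AlgebraicGeometry TopologicalSpace

namespace Groth.Agent.Lib.T2H9.GE8

open Groth.Agent.Lib.T2H2.AlgzB Groth.Agent.Lib.T2H9.FFGeom Groth.Agent.Lib.T2H9.Alg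
  Groth.Agent.Lib.T2H5.IdealMul Groth.Agent.Lib.T2H9.GE1 Groth.Agent.Lib.T2H9.GE2 Groth.Agent.Lib.T2H9.GE3
  Groth.Agent.S9530 Groth.Agent.Lib.Helper23.QCohLocal Groth.Agent.Lib.T2H9.GE4 Groth.Agent.Lib.T2H9.GE6
  Groth.Agent.Lib.T2H9.GE7

variable {A : Type u} [CommRing A] {X : Scheme.{u}} [X.Over (Spec (CommRingCat.of A))]

section twist

variable {G₀ F₀ : X.Modules} (α₀ : G₀ ⟶ F₀) (a b : A)
  (ha : Formal.smulMod A (cokernel α₀) a = 0) (hb : Formal.smulMod A (kernel α₀) b = 0)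

include ha in
theorem twist_aux1 : Formal.smulMod A F₀ a ≫ cokernel.π α₀ = 0 := by
  rw [smulMod_comp, ha, comp_zero]

include hb in
theorem twist_aux2 : kernel.ι (Abelian.factorThruImage α₀) ≫ Formal.smulMod A G₀ b = 0 := by
  have h2 : kernel.ι (Abelian.factorThruImage α₀) ≫ α₀ = 0 := by
    have h3 := Abelian.image.fac α₀
    calc kernel.ι (Abelian.factorThruImage α₀) ≫ α₀
        = kernel.ι (Abelian.factorThruImage α₀) ≫ Abelian.factorThruImage α₀ ≫ Abelian.image.ι α₀ := by
          rw [h3]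
      _ = 0 := by rw [kernel.condition_assoc, zero_comp]
  rw [← kernel.lift_ι α₀ _ h2, Category.assoc, ← smulMod_comp, hb, zero_comp, comp_zero]

/-- `x ↦ a x` as a map to the image of `α₀` -/
noncomputable def twistL : F₀ ⟶ Abelian.image α₀ :=
  kernel.lift (cokernel.π α₀) (Formal.smulMod A F₀ a) (twist_aux1 α₀ a ha)

/-- `α₀ g ↦ b g` as a map from the image of `α₀` -/
noncomputable def twistN : Abelian.image α₀ ⟶ G₀ :=
  Classical.choose (exists_desc_of_epi (Abelian.factorThruImage α₀) (Formal.smulMod A G₀ b)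
    (twist_aux2 α₀ b hb))

theorem twistL_ι : twistL α₀ a ha ≫ Abelian.image.ι α₀ = Formal.smulMod A F₀ a :=
  kernel.lift_ι _ _ _

theorem factor_twistN : Abelian.factorThruImage α₀ ≫ twistN α₀ b hb = Formal.smulMod A G₀ b :=
  Classical.choose_spec (exists_desc_of_epi (Abelian.factorThruImage α₀) (Formal.smulMod A G₀ b)
    (twist_aux2 α₀ b hb))

/-- the map `x ↦ b g` where `α₀ g = a x` -/
noncomputable def twist : F₀ ⟶ G₀ := twistL α₀ a ha ≫ twistN α₀ b hb

theorem twist_comp : twist α₀ a b ha hb ≫ α₀ = Formal.smulMod A F₀ a ≫ Formal.smulMod A F₀ b := by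
  have h1 : twistN α₀ b hb ≫ α₀ = Abelian.image.ι α₀ ≫ Formal.smulMod A F₀ b := by
    rw [← cancel_epi (Abelian.factorThruImage α₀), ← Category.assoc, factor_twistN, ← Category.assoc,
      Abelian.image.fac, smulMod_comp]
  unfold twist
  rw [Category.assoc, h1, ← Category.assoc, twistL_ι]

theorem comp_twist : α₀ ≫ twist α₀ a b ha hb = Formal.smulMod A G₀ a ≫ Formal.smulMod A G₀ b := by
  have h1 : α₀ ≫ twistL α₀ a ha = Formal.smulMod A G₀ a ≫ Abelian.factorThruImage α₀ := by
    rw [← cancel_mono (Abelian.image.ι α₀), Category.assoc, twistL_ι, Category.assoc, Abelian.image.fac,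
      smulMod_comp]
  unfold twist
  rw [← Category.assoc, h1, Category.assoc, factor_twistN]

end twist

section twistnat

variable {G₀ F₀ G₁ F₁ : X.Modules} (α₀ : G₀ ⟶ F₀) (α₁ : G₁ ⟶ F₁) (tG : G₁ ⟶ G₀) (tF : F₁ ⟶ F₀)
  (w : α₁ ≫ tF = tG ≫ α₀) (a b : A)
  (ha₀ : Formal.smulMod A (cokernel α₀) a = 0) (hb₀ : Formal.smulMod A (kernel α₀) b = 0)
  (ha₁ : Formal.smulMod A (cokernel α₁) a = 0) (hb₁ : Formal.smulMod A (kernel α₁) b = 0)

include w in
theorem twist_naturality : twist α₁ a b ha₁ hb₁ ≫ tG = tF ≫ twist α₀ a b ha₀ hb₀ := by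
  have hc : (Abelian.image.ι α₁ ≫ tF) ≫ cokernel.π α₀ = 0 := by
    rw [← cancel_epi (Abelian.factorThruImage α₁), comp_zero, ← Category.assoc, ← Category.assoc,
      Abelian.image.fac, w, Category.assoc, cokernel.condition, comp_zero]
  let ι' : Abelian.image α₁ ⟶ Abelian.image α₀ := kernel.lift (cokernel.π α₀) (Abelian.image.ι α₁ ≫ tF) hc
  have hι' : ι' ≫ Abelian.image.ι α₀ = Abelian.image.ι α₁ ≫ tF := kernel.lift_ι _ _ _
  have h1 : Abelian.factorThruImage α₁ ≫ ι' = tG ≫ Abelian.factorThruImage α₀ := by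
    rw [← cancel_mono (Abelian.image.ι α₀), Category.assoc, hι', ← Category.assoc, Abelian.image.fac,
      Category.assoc, Abelian.image.fac, w]
  have h2 : twistL α₁ a ha₁ ≫ ι' = tF ≫ twistL α₀ a ha₀ := by
    rw [← cancel_mono (Abelian.image.ι α₀), Category.assoc, hι', ← Category.assoc, twistL_ι, Category.assoc,
      twistL_ι, smulMod_comp]
  have h3 : twistN α₁ b hb₁ ≫ tG = ι' ≫ twistN α₀ b hb₀ := by
    rw [← cancel_epi (Abelian.factorThruImage α₁), ← Category.assoc, factor_twistN, ← Category.assoc, h1,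
      Category.assoc, factor_twistN, smulMod_comp]
  unfold twist
  rw [Category.assoc, h3, ← Category.assoc, h2, Category.assoc]

end twistnat


section dd

variable {r : ℕ}

/-- `M^(r × r)` -/
noncomputable abbrev DD (r : ℕ) (M : X.Modules) : X.Modules := ⨁ fun _ : Fin r => ⨁ fun _ : Fin r => M

noncomputable abbrev ddπ (M : X.Modules) (i j : Fin r) : DD r M ⟶ M :=
  biproduct.π (fun _ : Fin r => ⨁ fun _ : Fin r => M) i ≫ biproduct.π (fun _ : Fin r => M) j

noncomputable abbrev ddLift {T M : X.Modules} (f : Fin r → Fin r → (T ⟶ M)) : T ⟶ DD r M :=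
  biproduct.lift fun i => biproduct.lift fun j => f i j

noncomputable abbrev ddMap {M M' : X.Modules} (t : M ⟶ M') : DD r M ⟶ DD r M' :=
  biproduct.map fun _ => biproduct.map fun _ => t

theorem dd_hom_ext {T M : X.Modules} (g g' : T ⟶ DD r M) (h : ∀ i j, g ≫ ddπ M i j = g' ≫ ddπ M i j) :
    g = g' := by
  apply biproduct.hom_ext
  intro i
  apply biproduct.hom_ext
  intro j
  simpa only [Category.assoc] using h i j

theorem ddLift_π {T M : X.Modules} (f : Fin r → Fin r → (T ⟶ M)) (i j : Fin r) :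
    ddLift f ≫ ddπ M i j = f i j := by
  rw [← Category.assoc, biproduct.lift_π, biproduct.lift_π]

theorem ddMap_π {M M' : X.Modules} (t : M ⟶ M') (i j : Fin r) :
    ddMap (r := r) t ≫ ddπ M' i j = ddπ M i j ≫ t := by
  rw [← Category.assoc, biproduct.map_π, Category.assoc, biproduct.map_π, Category.assoc]

theorem ddLift_map {T M M' : X.Modules} (f : Fin r → Fin r → (T ⟶ M)) (t : M ⟶ M') :
    ddLift f ≫ ddMap t = ddLift fun i j => f i j ≫ t := by
  apply dd_hom_ext
  intro i j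
  rw [Category.assoc, ddMap_π, ← Category.assoc, ddLift_π, ddLift_π]

theorem comp_ddLift {S T M : X.Modules} (s : S ⟶ T) (f : Fin r → Fin r → (T ⟶ M)) :
    s ≫ ddLift f = ddLift fun i j => s ≫ f i j := by
  apply dd_hom_ext
  intro i j
  rw [Category.assoc, ddLift_π, ddLift_π]

theorem ddMap_comp {M M' M'' : X.Modules} (t : M ⟶ M') (t' : M' ⟶ M'') :
    ddMap (r := r) t ≫ ddMap t' = ddMap (t ≫ t') := by
  apply dd_hom_ext
  intro i j
  rw [Category.assoc, ddMap_π, ← Category.assoc, ddMap_π, Category.assoc, ddMap_π]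

theorem isQuotBy_biproductMap {ι : Type} [Fintype ι] {J : Ideal A} {M M' : ι → X.Modules} (t : ∀ i, M i ⟶ M' i)
    (h : ∀ i, IsQuotBy J (t i)) : IsQuotBy J (biproduct.map t) := by
  classical
  haveI : ∀ i, Epi (t i) := fun i => (h i).epi
  refine ⟨inferInstance, fun a ha => ?_, fun T g hg => ?_⟩
  · apply biproduct.hom_ext'
    intro i
    rw [← Category.assoc, ← smulMod_comp, Category.assoc, biproduct.ι_map, ← Category.assoc, (h i).kill a ha,
      zero_comp, comp_zero]
  · have h1 : ∀ i, ∃ g' : M' i ⟶ T, t i ≫ g' = biproduct.ι M i ≫ g := fun i =>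
      (h i).fac T (biproduct.ι M i ≫ g) (fun a ha => by
        rw [← Category.assoc, smulMod_comp, Category.assoc, hg a ha, comp_zero])
    choose g' hg' using h1
    refine ⟨biproduct.desc g', ?_⟩
    apply biproduct.hom_ext'
    intro i
    rw [← Category.assoc, biproduct.ι_map, Category.assoc, biproduct.ι_desc, hg']

theorem isQuotBy_ddMap {J : Ideal A} {M M' : X.Modules} (t : M ⟶ M') (h : IsQuotBy J t) :
    IsQuotBy J (ddMap (r := r) t) :=
  isQuotBy_biproductMap _ fun _ => isQuotBy_biproductMap _ fun _ => h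

theorem isCoh_DD {M : X.Modules} (hM : Coh.IsCoh M) : Coh.IsCoh (DD r M) :=
  Groth.Agent.Lib.T2H5.GenIsoA.isCoh_biproduct _ fun _ =>
    Groth.Agent.Lib.T2H5.GenIsoA.isCoh_biproduct _ fun _ => hM

end dd


section gensq

theorem killedBy_sq_of_gens (J : Ideal A) (t₀ : Set X.affineOpens) (hcov : ∀ x : X, ∃ U ∈ t₀, x ∈ U.1)
    {r : ℕ} (a : Fin r → A)
    (hspan : ∀ U ∈ t₀, Ideal.span (Set.range fun i => ρU X U.1 (a i)) = J.map (ρU X U.1))
    (M : X.Modules) [M.IsQuasicoherent]
    (h : ∀ i j, Formal.smulMod A M (a i) ≫ Formal.smulMod A M (a j) = 0) :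
    Formal.KilledBy (J ^ 2) M := by
  intro b hb
  refine Groth.Agent.Lib.T2H5.SubSec.hom_eq_zero_of_affine_cover _ t₀ hcov fun U hU m => ?_
  rw [smulMod_app]
  have hb' : ρU X U.1 b ∈ (J.map (ρU X U.1)) * (J.map (ρU X U.1)) := by
    rw [← pow_two, ← Ideal.map_pow]
    exact Ideal.mem_map_of_mem _ hb
  rw [← hspan U hU] at hb'
  have key1 : ∀ i, ∀ z ∈ Ideal.span (Set.range fun i => ρU X U.1 (a i)),
      ((ρU X U.1 (a i) : Γ(X, U.1)) * z) • m = 0 := by
    intro i z hz
    refine Submodule.span_induction (p := fun z _ => ((ρU X U.1 (a i) : Γ(X, U.1)) * z) • m = 0)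
      ?_ ?_ ?_ ?_ hz
    · rintro _ ⟨j, rfl⟩
      have h1 : (Formal.smulMod A M (a j) ≫ Formal.smulMod A M (a i)).app U.1 m = 0 := by
        rw [h j i]; rfl
      change (ρU X U.1 (a i) : Γ(X, U.1)) • ((ρU X U.1 (a j) : Γ(X, U.1)) • m) = 0 at h1
      rw [mul_smul]
      exact h1
    · rw [mul_zero, zero_smul]
    · intro z₁ z₂ _ _ h₁ h₂
      rw [mul_add, add_smul, h₁, h₂, add_zero]
    · intro s z₁ _ h₁
      rw [smul_eq_mul, mul_left_comm, mul_smul, h₁, smul_zero]
  have key2 : ∀ y ∈ Ideal.span (Set.range fun i => ρU X U.1 (a i)),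
      ∀ z ∈ Ideal.span (Set.range fun i => ρU X U.1 (a i)), (y * z) • m = 0 := by
    intro y hy z hz
    refine Submodule.span_induction (p := fun y _ => (y * z) • m = 0) ?_ ?_ ?_ ?_ hy
    · rintro _ ⟨i, rfl⟩
      exact key1 i z hz
    · rw [zero_mul, zero_smul]
    · intro y₁ y₂ _ _ h₁ h₂
      rw [add_mul, add_smul, h₁, h₂, add_zero]
    · intro s y₁ _ h₁
      rw [smul_eq_mul, mul_assoc, mul_smul, h₁, smul_zero]
  refine Submodule.mul_induction_on hb' (fun y hy z hz => key2 y hy z hz) (fun x₁ x₂ h₁ h₂ => ?_)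
  rw [add_smul, h₁, h₂, add_zero]

end gensq

end Groth.Agent.Lib.T2H9.GE8
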