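import Mathlib
import Groth.Agent.Lib.T2H9GE8

/-!
Grothendieck existence, easy right-hand step (S0851): given a coherent G and a map of systems α : G^ → (F_n) whose components have kernel and cokernel killed by one fixed power of I, builds (abstract lemma exists_Q, then s0851) a coherent F' with a : G → F' having I-power-torsion kernel and cokernel and an isomorphism F'^ ≅ (F_n) compatible with α. Uses the double-twist object DD from T2H9GE8 and main' from T2H9GE7.
-/

set_option autoImplicit false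
set_option linter.style.haveILetI false
set_option linter.unusedSectionVars false
set_option linter.unusedVariables false
universe u
open CategoryTheory CategoryTheory.Limits Opposite AlgebraicGeometry TopologicalSpace

namespace Groth.Agent.Lib.T2H9.GE9

open Groth.Agent.Lib.T2H2.AlgzB Groth.Agent.Lib.T2H9.FFGeom Groth.Agent.Lib.T2H9.Alg
  Groth.Agent.Lib.T2H5.IdealMul Groth.Agent.Lib.T2H9.GE1 Groth.Agent.Lib.T2H9.GE2 Groth.Agent.Lib.T2H9.GE3
  Groth.Agent.S9530 Groth.Agent.Lib.Helper23.QCohLocal Groth.Agent.Lib.T2H9.GE4 Groth.Agent.Lib.T2H9.GE6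
  Groth.Agent.Lib.T2H9.GE7 Groth.Agent.Lib.T2H9.GE8 Groth.Agent.Lib.T2H9.GE5

variable {A : Type u} [CommRing A] {X : Scheme.{u}} [X.Over (Spec (CommRingCat.of A))]

section cokQ

variable (I : Ideal A) [IsNoetherian X] {G E : X.Modules} (hG : Coh.IsCoh G) (hE : Coh.IsCoh E) (δ : G ⟶ E)
  {Gsys F : ℕᵒᵖ ⥤ X.Modules} [hGq : ∀ n, (Gsys.obj (op n)).IsQuasicoherent]
  (π : ∀ n, E ⟶ Gsys.obj (op n)) (hπ : ∀ n, IsQuotBy (I ^ (n + 1)) (π n))
  (hπc : ∀ n, π (n + 1) ≫ Gsys.map (homOfLE (Nat.le_succ n)).op = π n)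
  (hF : Formal.IsCohFormal I F) {Gc : ℕᵒᵖ ⥤ X.Modules} [hGcq : ∀ n, (Gc.obj (op n)).IsQuasicoherent]
  (πc : ∀ n, G ⟶ Gc.obj (op n)) [eG : ∀ n, Epi (πc n)]
  [eGc : ∀ n, Epi (Gc.map (homOfLE (Nat.le_succ n)).op)] (α : Gc ⟶ F) (γ : F ⟶ Gsys)
  (hD1 : ∀ n, δ ≫ π n = πc n ≫ α.app (op n) ≫ γ.app (op n))
  (c : ℕ) (hc : ∀ n, Formal.KilledBy (I ^ c) (cokernel (α.app (op n))))

include hG hE hπ hπc hF hD1 hc in
/-- algebraizing the cokernels of `γ` -/
theorem exists_Q : ∃ (Q : X.Modules) (q' : E ⟶ Q) (q : ∀ n, Q ⟶ cokernel (γ.app (op n))), Coh.IsCoh Q ∧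
    δ ≫ q' = 0 ∧ (∀ n, IsQuotBy (I ^ (n + 1)) (q n)) ∧
    (∀ n, q' ≫ q n = π n ≫ cokernel.π (γ.app (op n))) ∧
    (∀ (U : X.affineOpens) (y : Γ(E, U.1)), q'.app U.1 y = 0 → ∀ b ∈ I ^ c,
      ∃ g : Γ(G, U.1), δ.app U.1 g = (ρU X U.1 b : Γ(X, U.1)) • y) := by
  have hF' := (isCohFormal_iff I F).1 hF
  haveI qF : ∀ n, (F.obj (op n)).IsQuasicoherent := fun n => (hF'.1 n).1
  haveI := hG.1
  haveI := hE.1
  haveI eπ : ∀ n, Epi (π n) := fun n => (hπ n).epi
  haveI eC : ∀ n, Epi (cokernel.π (α.app (op n))) := fun n => coequalizer.π_epi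
  haveI eD : ∀ n, Epi (cokernel.π (δ ≫ π n)) := fun n => coequalizer.π_epi
  haveI eγ : ∀ n, Epi (cokernel.π (γ.app (op n))) := fun n => coequalizer.π_epi
  haveI qC : ∀ n, (cokernel (α.app (op n))).IsQuasicoherent := fun n => isQuasicoherent_cokernel _
  haveI qD : ∀ n, (cokernel (δ ≫ π n)).IsQuasicoherent := fun n => isQuasicoherent_cokernel _
  -- transition maps of the cokernel systems
  obtain ⟨tC, htC, qtC⟩ : ∃ tC : ∀ n, cokernel (α.app (op (n + 1))) ⟶ cokernel (α.app (op n)),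
      (∀ n, cokernel.π (α.app (op (n + 1))) ≫ tC n =
        F.map (homOfLE (Nat.le_succ n)).op ≫ cokernel.π (α.app (op n))) ∧
      ∀ n, IsQuotBy (I ^ (n + 1)) (tC n) :=
    ⟨fun n => cokernel.map (α.app (op (n + 1))) (α.app (op n))
      (Gc.map (homOfLE (Nat.le_succ n)).op) (F.map (homOfLE (Nat.le_succ n)).op) (α.naturality _).symm,
      fun n => cokernel.π_desc _ _ _, fun n => isQuotBy_cokernelMap _ _ _ _ (hF'.2.2 n) _⟩
  obtain ⟨tD, htD⟩ : ∃ tD : ∀ n, cokernel (δ ≫ π (n + 1)) ⟶ cokernel (δ ≫ π n),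
      ∀ n, cokernel.π (δ ≫ π (n + 1)) ≫ tD n =
        Gsys.map (homOfLE (Nat.le_succ n)).op ≫ cokernel.π (δ ≫ π n) :=
    ⟨fun n => cokernel.map (δ ≫ π (n + 1)) (δ ≫ π n) (𝟙 G) (Gsys.map (homOfLE (Nat.le_succ n)).op) (by
      rw [Category.assoc, hπc, Category.id_comp]), fun n => cokernel.π_desc _ _ _⟩
  let Csys : ℕᵒᵖ ⥤ X.Modules := Functor.ofOpSequence (X := fun n => cokernel (α.app (op n))) tC
  have hCmap : ∀ n, Csys.map (homOfLE (Nat.le_succ n)).op = tC n := fun n =>
    Functor.ofOpSequence_map_homOfLE_succ _ n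
  let GC : ℕᵒᵖ ⥤ X.Modules := Functor.ofOpSequence (X := fun n => cokernel (δ ≫ π n)) tD
  have hGCmap : ∀ n, GC.map (homOfLE (Nat.le_succ n)).op = tD n := fun n =>
    Functor.ofOpSequence_map_homOfLE_succ _ n
  have hCsys : Formal.IsCohFormal I Csys := by
    rw [isCohFormal_iff]
    refine ⟨fun n => ?_, fun n => ?_, fun n => ?_⟩
    · exact @Groth.Agent.Lib.T2H5.Devissage.isCoh_of_epi _ _ _ (cokernel.π (α.app (op n))) (eC n) (hF'.1 n) (qC n)
    · exact @killedBy_of_epi _ _ _ _ _ _ _ (cokernel.π (α.app (op n))) (eC n) (hF'.2.1 n)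
    · rw [hCmap]
      exact qtC n
  obtain ⟨θC, -⟩ := exists_iso_of_killed I hCsys c (fun n => killedBy_mono I (Nat.le_succ c) (hc n))
  have hC : Coh.IsCoh (cokernel (α.app (op c))) := ((isCohFormal_iff I Csys).1 hCsys).1 c
  have hCk : Formal.KilledBy (I ^ c) (cokernel (α.app (op c))) := hc c
  obtain ⟨ρC, eρC, hρCc⟩ : ∃ ρC : ∀ n, cokernel (α.app (op c)) ⟶ cokernel (α.app (op n)),
      (∀ n, Epi (ρC n)) ∧ ∀ n, ρC (n + 1) ≫ tC n = ρC n := by
    refine ⟨fun n => Formal.modPowπ I (n + 1) (cokernel (α.app (op c))) ≫ θC.hom.app (op n), fun n => ?_,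
      fun n => ?_⟩
    · exact ((isQuotBy_modPowπ I (n + 1) _).comp_iso (θC.app (op n))).epi
    · have h1 := θC.hom.naturality (homOfLE (Nat.le_succ n)).op
      have h2 := hCmap n
      calc (Formal.modPowπ I (n + 1 + 1) (cokernel (α.app (op c))) ≫ θC.hom.app (op (n + 1))) ≫ tC n
          = Formal.modPowπ I (n + 1 + 1) (cokernel (α.app (op c))) ≫
              (θC.hom.app (op (n + 1)) ≫ Csys.map (homOfLE (Nat.le_succ n)).op) := by
            rw [Category.assoc]
            exact congrArg (fun t => Formal.modPowπ I (n + 1 + 1) (cokernel (α.app (op c))) ≫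
              θC.hom.app (op (n + 1)) ≫ t) h2.symm
        _ = Formal.modPowπ I (n + 1 + 1) (cokernel (α.app (op c))) ≫
              ((Formal.completion I (cokernel (α.app (op c)))).map (homOfLE (Nat.le_succ n)).op ≫
              θC.hom.app (op n)) :=
            congrArg (fun t => Formal.modPowπ I (n + 1 + 1) (cokernel (α.app (op c))) ≫ t) h1.symm
        _ = (Formal.modPowπ I (n + 1 + 1) (cokernel (α.app (op c))) ≫
              (Formal.completion I (cokernel (α.app (op c)))).map (homOfLE (Nat.le_succ n)).op) ≫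
              θC.hom.app (op n) := (Category.assoc _ _ _).symm
        _ = Formal.modPowπ I (n + 1) (cokernel (α.app (op c))) ≫ θC.hom.app (op n) :=
            congrArg (fun t => t ≫ θC.hom.app (op n)) (modPowπ_succ I (cokernel (α.app (op c))) n)
  -- the maps from `coker δ`
  obtain ⟨πG, hπGπ, hπG⟩ : ∃ πG : ∀ n, cokernel δ ⟶ cokernel (δ ≫ π n),
      (∀ n, cokernel.π δ ≫ πG n = π n ≫ cokernel.π (δ ≫ π n)) ∧ ∀ n, IsQuotBy (I ^ (n + 1)) (πG n) :=
    ⟨fun n => cokernel.map δ (δ ≫ π n) (𝟙 G) (π n) (by rw [Category.id_comp]),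
      fun n => cokernel.π_desc _ _ _, fun n => isQuotBy_cokernelMap _ _ _ _ (hπ n) _⟩
  have hπGc : ∀ n, πG (n + 1) ≫ tD n = πG n := by
    intro n
    rw [← cancel_epi (cokernel.π δ), ← Category.assoc, hπGπ, Category.assoc, htD, ← Category.assoc, hπc, hπGπ]
  -- ε
  have hε0 : ∀ n, α.app (op n) ≫ γ.app (op n) ≫ cokernel.π (δ ≫ π n) = 0 := by
    intro n
    rw [← cancel_epi (πc n), comp_zero]
    have h1 := hD1 n
    calc πc n ≫ α.app (op n) ≫ γ.app (op n) ≫ cokernel.π (δ ≫ π n)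
        = (πc n ≫ α.app (op n) ≫ γ.app (op n)) ≫ cokernel.π (δ ≫ π n) := by
          simp only [Category.assoc]
      _ = (δ ≫ π n) ≫ cokernel.π (δ ≫ π n) := congrArg (fun t => t ≫ cokernel.π (δ ≫ π n)) h1.symm
      _ = 0 := cokernel.condition _
  obtain ⟨ε, hεπ⟩ : ∃ ε : ∀ n, cokernel (α.app (op n)) ⟶ cokernel (δ ≫ π n),
      ∀ n, cokernel.π (α.app (op n)) ≫ ε n = γ.app (op n) ≫ cokernel.π (δ ≫ π n) :=
    ⟨fun n => cokernel.desc (α.app (op n)) (γ.app (op n) ≫ cokernel.π (δ ≫ π n)) (hε0 n),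
      fun n => cokernel.π_desc _ _ _⟩
  have hεnat : ∀ n, ε (n + 1) ≫ tD n = tC n ≫ ε n := by
    intro n
    rw [← cancel_epi (cokernel.π (α.app (op (n + 1)))), ← Category.assoc, hεπ, Category.assoc, htD,
      ← Category.assoc, ← γ.naturality, ← Category.assoc, htC, Category.assoc, Category.assoc, hεπ]
  have hg : ∀ n, (ρC (n + 1) ≫ ε (n + 1)) ≫ tD n = ρC n ≫ ε n := by
    intro n
    rw [Category.assoc, hεnat, ← Category.assoc, hρCc]
  have hQ₁ : Coh.IsCoh (cokernel δ) :=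
    Groth.Agent.Lib.T2H5.Devissage.isCoh_of_epi (cokernel.π δ) hE (isQuasicoherent_cokernel δ)
  haveI qGC : ∀ n, (GC.obj (op n)).IsQuasicoherent := fun n => qD n
  obtain ⟨ε₀, hε₀, -⟩ := ff_source_aux I hC hQ₁ c hCk GC πG hπG
    (fun n => (congrArg (fun t => πG (n + 1) ≫ t) (hGCmap n)).trans (hπGc n))
    (fun n => ρC n ≫ ε n)
    (fun n => (congrArg (fun t => (ρC (n + 1) ≫ ε (n + 1)) ≫ t) (hGCmap n)).trans (hg n))
  have hε₀' : ∀ n, ε₀ ≫ πG n = ρC n ≫ ε n := hε₀
  -- Q
  haveI := hQ₁.1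
  haveI := hC.1
  have hQ : Coh.IsCoh (cokernel ε₀) :=
    Groth.Agent.Lib.T2H5.Devissage.isCoh_of_epi (cokernel.π ε₀) hQ₁ (isQuasicoherent_cokernel ε₀)
  have hd0 : ∀ n, (δ ≫ π n) ≫ cokernel.π (γ.app (op n)) = 0 := by
    intro n
    rw [hD1 n]
    simp only [Category.assoc, cokernel.condition, comp_zero]
  obtain ⟨d, hdπ⟩ : ∃ d : ∀ n, cokernel (δ ≫ π n) ⟶ cokernel (γ.app (op n)),
      ∀ n, cokernel.π (δ ≫ π n) ≫ d n = cokernel.π (γ.app (op n)) :=
    ⟨fun n => cokernel.desc (δ ≫ π n) (cokernel.π (γ.app (op n))) (hd0 n), fun n => cokernel.π_desc _ _ _⟩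
  have hεd : ∀ n, ε n ≫ d n = 0 := by
    intro n
    rw [← cancel_epi (cokernel.π (α.app (op n))), ← Category.assoc, hεπ, Category.assoc, hdπ,
      cokernel.condition, comp_zero]
  have hq0 : ∀ n, ε₀ ≫ πG n ≫ d n = 0 := by
    intro n
    rw [← Category.assoc, hε₀' n, Category.assoc, hεd, comp_zero]
  obtain ⟨q, hqπ⟩ : ∃ q : ∀ n, cokernel ε₀ ⟶ cokernel (γ.app (op n)),
      ∀ n, cokernel.π ε₀ ≫ q n = πG n ≫ d n :=
    ⟨fun n => cokernel.desc ε₀ (πG n ≫ d n) (hq0 n), fun n => cokernel.π_desc _ _ _⟩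
  have hsq : ∀ n, (cokernel.π δ ≫ cokernel.π ε₀) ≫ q n = π n ≫ cokernel.π (γ.app (op n)) := by
    intro n
    rw [Category.assoc, hqπ, ← Category.assoc, hπGπ, Category.assoc, hdπ]
  refine ⟨cokernel ε₀, cokernel.π δ ≫ cokernel.π ε₀, q, hQ, ?_, ?_, hsq, ?_⟩
  · rw [← Category.assoc, cokernel.condition, zero_comp]
  · intro n
    have hepi : Epi ((cokernel.π δ ≫ cokernel.π ε₀) ≫ q n) := by
      rw [hsq n]
      infer_instance
    haveI : Epi (q n) := epi_of_epi (cokernel.π δ ≫ cokernel.π ε₀) (q n)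
    have hkill : Formal.KilledBy (I ^ (n + 1)) (cokernel (γ.app (op n))) :=
      @killedBy_of_epi _ _ _ _ _ _ _ (cokernel.π (γ.app (op n))) (eγ n) (hπ n).killedBy
    refine ⟨inferInstance, fun a ha => by rw [smulMod_comp, hkill a ha, comp_zero], fun T g₀ hg₀ => ?_⟩
    obtain ⟨g₁, hg₁⟩ := (hπ n).fac T ((cokernel.π δ ≫ cokernel.π ε₀) ≫ g₀) (fun a ha => by
      rw [← Category.assoc, smulMod_comp, Category.assoc, hg₀ a ha, comp_zero])
    have h1 : (δ ≫ π n) ≫ g₁ = 0 := by
      rw [Category.assoc, hg₁, ← Category.assoc, ← Category.assoc, cokernel.condition, zero_comp, zero_comp]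
    obtain ⟨g₂, hg₂⟩ : ∃ g₂ : cokernel (δ ≫ π n) ⟶ T, cokernel.π (δ ≫ π n) ≫ g₂ = g₁ :=
      ⟨cokernel.desc (δ ≫ π n) g₁ h1, cokernel.π_desc _ _ _⟩
    have h2 : πG n ≫ g₂ = cokernel.π ε₀ ≫ g₀ := by
      rw [← cancel_epi (cokernel.π δ), ← Category.assoc, hπGπ, Category.assoc, hg₂, hg₁, Category.assoc]
    have h3 : ε n ≫ g₂ = 0 := by
      rw [← cancel_epi (ρC n), comp_zero, ← Category.assoc, ← hε₀' n, Category.assoc, h2,
        cokernel.condition_assoc, zero_comp]
    have h4 : γ.app (op n) ≫ g₁ = 0 := by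
      rw [← hg₂, ← Category.assoc, ← hεπ, Category.assoc, h3, comp_zero]
    refine ⟨cokernel.desc (γ.app (op n)) g₁ h4, ?_⟩
    rw [← cancel_epi (cokernel.π δ ≫ cokernel.π ε₀), ← Category.assoc, hsq n, Category.assoc, cokernel.π_desc,
      hg₁]
  · intro U y hy b hb
    haveI : (cokernel ε₀).IsQuasicoherent := isQuasicoherent_cokernel ε₀
    have h1 : (cokernel.π ε₀).app U.1 ((cokernel.π δ).app U.1 y) = 0 := hy
    obtain ⟨c₀, hc₀⟩ := exists_app_eq_of_exact ε₀ (cokernel.π ε₀) (cokernel.condition ε₀)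
      (ShortComplex.exact_cokernel ε₀) U _ h1
    have h2 : (cokernel.π δ).app U.1 ((ρU X U.1 b : Γ(X, U.1)) • y) = 0 := by
      rw [Scheme.Modules.Hom.app_smul, ← hc₀, ← Scheme.Modules.Hom.app_smul, ← smulMod_app, hCk b hb]
      exact map_zero _
    exact exists_app_eq_of_exact δ (cokernel.π δ) (cokernel.condition δ) (ShortComplex.exact_cokernel δ) U _ h2

end cokQ


section right

theorem smul2_comp {M N : X.Modules} (φ : M ⟶ N) (a b : A) :
    (Formal.smulMod A M a ≫ Formal.smulMod A M b) ≫ φ = φ ≫ (Formal.smulMod A N a ≫ Formal.smulMod A N b) := by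
  rw [Category.assoc, smulMod_comp φ b, ← Category.assoc, smulMod_comp φ a, Category.assoc]

variable (I : Ideal A) [IsNoetherian X]

theorem s0851 (G : X.Modules) (hG : Coh.IsCoh G)
    (F : ℕᵒᵖ ⥤ X.Modules) (hF : Formal.IsCohFormal I F) (α : Formal.completion I G ⟶ F)
    (hα : Formal2.KerCokerKilledByIPow I α) :
    ∃ (F' : X.Modules) (a : G ⟶ F') (β : Formal.completion I F' ≅ F), Coh.IsCoh F' ∧
      Formal2.KerCokerKilledByIPowHom I a ∧
      ∀ n : ℕ, Formal.modPowπ I (n + 1) G ≫ α.app (op n) = a ≫ Formal.modPowπ I (n + 1) F' ≫ β.hom.app (op n) := by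
  classical
  obtain ⟨t, ht⟩ := hα
  have hF' := (isCohFormal_iff I F).1 hF
  haveI qF : ∀ n, (F.obj (op n)).IsQuasicoherent := fun n => (hF'.1 n).1
  haveI := hG.1
  have hGc := isCohFormal_completion I G hG
  have hGc' := (isCohFormal_iff I _).1 hGc
  haveI qGc : ∀ n, ((Formal.completion I G).obj (op n)).IsQuasicoherent := fun n => (hGc'.1 n).1
  haveI eG : ∀ n, Epi (Formal.modPowπ I (n + 1) G) := fun n => (isQuotBy_modPowπ I (n + 1) G).epi
  haveI eGc : ∀ n, Epi ((Formal.completion I G).map (homOfLE (Nat.le_succ n)).op) := fun n => (hGc'.2.2 n).epi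
  -- cover and generators
  obtain ⟨t₀, ht₀⟩ := isCompact_univ.elim_finite_subcover (fun U : X.affineOpens => (U.1 : Set X))
    (fun U => U.1.2) (by
      intro x _
      obtain ⟨_, ⟨U, hU, rfl⟩, hxU, -⟩ := X.isBasis_affineOpens.exists_subset_of_mem_open
        (Set.mem_univ x) isOpen_univ
      exact Set.mem_iUnion.2 ⟨⟨U, hU⟩, hxU⟩)
  have hcov : ∀ x : X, ∃ U ∈ (t₀ : Set X.affineOpens), x ∈ U.1 := by
    intro x
    have := ht₀ (Set.mem_univ x)
    simp only [Set.mem_iUnion] at this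
    obtain ⟨U, hUt, hxU⟩ := this
    exact ⟨U, hUt, hxU⟩
  obtain ⟨r, a, ha, hspan⟩ := exists_gens (I ^ (t + 1)) t₀
  have hcok : ∀ n i, Formal.smulMod A (cokernel (α.app (op n))) (a i) = 0 := fun n i => (ht n).2 (a i) (ha i)
  have hkr : ∀ n j, Formal.smulMod A (kernel (α.app (op n))) (a j) = 0 := fun n j => (ht n).1 (a j) (ha j)
  let μc : ∀ n, Fin r → Fin r → (F.obj (op n) ⟶ (Formal.completion I G).obj (op n)) := fun n i j =>
    twist (α.app (op n)) (a i) (a j) (hcok n i) (hkr n j)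
  have hμnat : ∀ n i j, F.map (homOfLE (Nat.le_succ n)).op ≫ μc n i j =
      μc (n + 1) i j ≫ (Formal.completion I G).map (homOfLE (Nat.le_succ n)).op := fun n i j =>
    (twist_naturality (α.app (op n)) (α.app (op (n + 1)))
      ((Formal.completion I G).map (homOfLE (Nat.le_succ n)).op) (F.map (homOfLE (Nat.le_succ n)).op)
      (α.naturality _).symm (a i) (a j) (hcok n i) (hkr n j) (hcok (n + 1) i) (hkr (n + 1) j)).symm
  -- the system W
  let Wsys : ℕᵒᵖ ⥤ X.Modules := Functor.ofOpSequence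
    (X := fun n => DD r ((Formal.completion I G).obj (op n)))
    (fun n => ddMap ((Formal.completion I G).map (homOfLE (Nat.le_succ n)).op))
  have hWmap : ∀ n, Wsys.map (homOfLE (Nat.le_succ n)).op =
      ddMap ((Formal.completion I G).map (homOfLE (Nat.le_succ n)).op) := fun n =>
    Functor.ofOpSequence_map_homOfLE_succ _ n
  let πW : ∀ n, DD r G ⟶ Wsys.obj (op n) := fun n => ddMap (Formal.modPowπ I (n + 1) G)
  have hπW : ∀ n, IsQuotBy (I ^ (n + 1)) (πW n) := fun n => isQuotBy_ddMap _ (isQuotBy_modPowπ I (n + 1) G)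
  have hπWc : ∀ n, πW (n + 1) ≫ Wsys.map (homOfLE (Nat.le_succ n)).op = πW n := fun n =>
    (congrArg (fun t => πW (n + 1) ≫ t) (hWmap n)).trans
      ((ddMap_comp _ _).trans (congrArg (fun t => ddMap (r := r) t) (modPowπ_succ I G n)))
  have hWsys : Formal.IsCohFormal I Wsys := by
    rw [isCohFormal_iff]
    refine ⟨fun n => isCoh_DD (hGc'.1 n), fun n => (hπW n).killedBy, fun n => ?_⟩
    rw [hWmap]
    exact isQuotBy_ddMap _ (hGc'.2.2 n)
  have hWsys' := (isCohFormal_iff I Wsys).1 hWsys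
  haveI qW : ∀ n, (Wsys.obj (op n)).IsQuasicoherent := fun n => (hWsys'.1 n).1
  let μ : F ⟶ Wsys := NatTrans.ofOpSequence (fun n => ddLift (μc n)) (fun n => by
    refine Eq.trans ?_ (congrArg (fun t => ddLift (μc (n + 1)) ≫ t) (hWmap n).symm)
    refine (comp_ddLift _ _).trans (Eq.trans ?_ (ddLift_map _ _).symm)
    congr 1
    funext i j
    exact hμnat n i j)
  have hμπ : ∀ n i j, μ.app (op n) ≫ ddπ _ i j = μc n i j := fun n i j => ddLift_π _ i j
  have hμker : ∀ n, Formal.KilledBy (I ^ (2 * (t + 1))) (kernel (μ.app (op n))) := by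
    intro n
    haveI : (kernel (μ.app (op n))).IsQuasicoherent := isQuasicoherent_kernel _
    have h1 := killedBy_sq_of_gens (I ^ (t + 1)) (t₀ : Set X.affineOpens) hcov a hspan (kernel (μ.app (op n)))
      (fun i j => by
        have e1 : kernel.ι (μ.app (op n)) ≫ μc n i j = 0 := by
          rw [← hμπ n i j, kernel.condition_assoc, zero_comp]
        rw [← cancel_mono (kernel.ι (μ.app (op n))), zero_comp]
        calc (Formal.smulMod A (kernel (μ.app (op n))) (a i) ≫ Formal.smulMod A (kernel (μ.app (op n))) (a j)) ≫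
              kernel.ι (μ.app (op n))
            = kernel.ι (μ.app (op n)) ≫ (Formal.smulMod A (F.obj (op n)) (a i) ≫
                Formal.smulMod A (F.obj (op n)) (a j)) := smul2_comp _ _ _
          _ = kernel.ι (μ.app (op n)) ≫ (μc n i j ≫ α.app (op n)) := by
              exact congrArg (fun t => kernel.ι (μ.app (op n)) ≫ t)
                (twist_comp (α.app (op n)) (a i) (a j) (hcok n i) (hkr n j)).symm
          _ = (kernel.ι (μ.app (op n)) ≫ μc n i j) ≫ α.app (op n) := (Category.assoc _ _ _).symm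
          _ = 0 := by rw [e1, zero_comp])
    rwa [← pow_mul, mul_comm] at h1
  obtain ⟨e, he⟩ := ar_claim I (idealSheaf X I) hF hWsys μ (2 * (t + 1))
    (fun n => killedByIdeal_of_killedBy I _ _ (hμker n))
  -- the truncation
  have h𝒫 := isCohFormal_Φ I ((idealSheaf X I) ^ e) hF
  have h𝒫' := (isCohFormal_iff I _).1 h𝒫
  haveI q𝒫 : ∀ n, ((F ⋙ Φ ((idealSheaf X I) ^ e)).obj (op n)).IsQuasicoherent := fun n => (h𝒫'.1 n).1
  have k𝒫 : ∀ n, Formal.KilledBy (I ^ (e + 1)) ((F ⋙ Φ ((idealSheaf X I) ^ e)).obj (op n)) := fun n =>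
    killedBy_mono I (Nat.le_succ e) (killedBy_of_killedByIdeal I e _ (killed_pushPull _ _))
  obtain ⟨θ, -⟩ := exists_iso_of_killed I h𝒫 e k𝒫
  have hP : Coh.IsCoh ((F ⋙ Φ ((idealSheaf X I) ^ e)).obj (op e)) := h𝒫'.1 e
  have hPk := k𝒫 e
  have hE : Coh.IsCoh (DD r G ⊞ (F ⋙ Φ ((idealSheaf X I) ^ e)).obj (op e) : X.Modules) :=
    isCoh_biprod (isCoh_DD hG) hP
  let Gsys : ℕᵒᵖ ⥤ X.Modules := Functor.ofOpSequence
    (X := fun n => (Wsys.obj (op n) ⊞ (F ⋙ Φ ((idealSheaf X I) ^ e)).obj (op n) : X.Modules))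
    (fun n => biprod.map (Wsys.map (homOfLE (Nat.le_succ n)).op)
      ((F ⋙ Φ ((idealSheaf X I) ^ e)).map (homOfLE (Nat.le_succ n)).op))
  have hGmap : ∀ n, Gsys.map (homOfLE (Nat.le_succ n)).op =
      biprod.map (Wsys.map (homOfLE (Nat.le_succ n)).op)
        ((F ⋙ Φ ((idealSheaf X I) ^ e)).map (homOfLE (Nat.le_succ n)).op) := fun n =>
    Functor.ofOpSequence_map_homOfLE_succ _ n
  haveI qG : ∀ n, (Gsys.obj (op n)).IsQuasicoherent := fun n => isQuasicoherent_biprod _ _
  let π : ∀ n, (DD r G ⊞ (F ⋙ Φ ((idealSheaf X I) ^ e)).obj (op e) : X.Modules) ⟶ Gsys.obj (op n) := fun n =>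
    biprod.map (πW n) (Formal.modPowπ I (n + 1) _ ≫ θ.hom.app (op n))
  have hπ : ∀ n, IsQuotBy (I ^ (n + 1)) (π n) := fun n =>
    isQuotBy_biprodMap (hπW n) ((isQuotBy_modPowπ I (n + 1) _).comp_iso (θ.app (op n)))
  have hπc : ∀ n, π (n + 1) ≫ Gsys.map (homOfLE (Nat.le_succ n)).op = π n := by
    intro n
    have a2 : (Formal.modPowπ I (n + 1 + 1) ((F ⋙ Φ ((idealSheaf X I) ^ e)).obj (op e)) ≫
        θ.hom.app (op (n + 1))) ≫ (F ⋙ Φ ((idealSheaf X I) ^ e)).map (homOfLE (Nat.le_succ n)).op =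
        Formal.modPowπ I (n + 1) ((F ⋙ Φ ((idealSheaf X I) ^ e)).obj (op e)) ≫ θ.hom.app (op n) := by
      have a4 := θ.hom.naturality (homOfLE (Nat.le_succ n)).op
      calc (Formal.modPowπ I (n + 1 + 1) ((F ⋙ Φ ((idealSheaf X I) ^ e)).obj (op e)) ≫
            θ.hom.app (op (n + 1))) ≫ (F ⋙ Φ ((idealSheaf X I) ^ e)).map (homOfLE (Nat.le_succ n)).op
          = Formal.modPowπ I (n + 1 + 1) ((F ⋙ Φ ((idealSheaf X I) ^ e)).obj (op e)) ≫
            (θ.hom.app (op (n + 1)) ≫ (F ⋙ Φ ((idealSheaf X I) ^ e)).map (homOfLE (Nat.le_succ n)).op) :=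
            Category.assoc _ _ _
        _ = Formal.modPowπ I (n + 1 + 1) ((F ⋙ Φ ((idealSheaf X I) ^ e)).obj (op e)) ≫
            ((Formal.completion I ((F ⋙ Φ ((idealSheaf X I) ^ e)).obj (op e))).map
              (homOfLE (Nat.le_succ n)).op ≫ θ.hom.app (op n)) :=
            congrArg (fun t => Formal.modPowπ I (n + 1 + 1) ((F ⋙ Φ ((idealSheaf X I) ^ e)).obj (op e)) ≫ t)
              a4.symm
        _ = (Formal.modPowπ I (n + 1 + 1) ((F ⋙ Φ ((idealSheaf X I) ^ e)).obj (op e)) ≫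
            (Formal.completion I ((F ⋙ Φ ((idealSheaf X I) ^ e)).obj (op e))).map
              (homOfLE (Nat.le_succ n)).op) ≫ θ.hom.app (op n) := (Category.assoc _ _ _).symm
        _ = Formal.modPowπ I (n + 1) ((F ⋙ Φ ((idealSheaf X I) ^ e)).obj (op e)) ≫ θ.hom.app (op n) :=
            congrArg (fun t => t ≫ θ.hom.app (op n)) (modPowπ_succ I _ n)
    refine (congrArg (fun t => π (n + 1) ≫ t) (hGmap n)).trans ?_
    refine (bm_comp _ _ _ _).trans ?_
    exact congrArg₂ biprod.map (hπWc n) a2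
  let γ : F ⟶ Gsys := NatTrans.ofOpSequence
    (fun n => biprod.lift (μ.app (op n)) (unit ((idealSheaf X I) ^ e) (F.obj (op n)))) (by
      intro n
      have hG1 := hGmap n
      refine Eq.trans ?_ (congrArg (fun t => biprod.lift (μ.app (op (n + 1)))
        (unit ((idealSheaf X I) ^ e) (F.obj (op (n + 1)))) ≫ t) hG1.symm)
      refine (comp_lift _ _ _).trans ((congrArg₂ biprod.lift ?_ ?_).trans (lift_bm _ _ _ _).symm)
      · exact μ.naturality _
      · exact unit_naturality ((idealSheaf X I) ^ e) _)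
  have hγfst : ∀ n, γ.app (op n) ≫ biprod.fst = μ.app (op n) := fun n => biprod.lift_fst _ _
  have hγsnd : ∀ n, γ.app (op n) ≫ biprod.snd = unit ((idealSheaf X I) ^ e) (F.obj (op n)) := fun n =>
    biprod.lift_snd _ _
  have hpro : ∀ n, ∃ j, kernel.ι (γ.app (op (n + j))) ≫ trF F n j = 0 := by
    intro n
    obtain ⟨j, hj⟩ := he n
    haveI : (kernel (γ.app (op (n + j)))).IsQuasicoherent := isQuasicoherent_kernel _
    refine ⟨j, hj _ (kernel.ι (γ.app (op (n + j)))) ?_ ?_⟩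
    · rw [← hγfst, kernel.condition_assoc, zero_comp]
    · rw [← hγsnd, kernel.condition_assoc, zero_comp]
  -- δ
  let u : F ⟶ F ⋙ Φ ((idealSheaf X I) ^ e) :=
    { app := fun n => unit ((idealSheaf X I) ^ e) (F.obj n)
      naturality := fun _ _ f => unit_naturality ((idealSheaf X I) ^ e) (F.map f) }
  obtain ⟨δP, hδP, -⟩ := ff_of_killed_target I G _ (e + 1) hPk (α ≫ u ≫ θ.inv)
  let δW : G ⟶ DD r G := ddLift fun i j => Formal.smulMod A G (a i) ≫ Formal.smulMod A G (a j)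
  let δ : G ⟶ (DD r G ⊞ (F ⋙ Φ ((idealSheaf X I) ^ e)).obj (op e) : X.Modules) := biprod.lift δW δP
  have hD1 : ∀ n, δ ≫ π n = Formal.modPowπ I (n + 1) G ≫ α.app (op n) ≫ γ.app (op n) := by
    intro n
    have c1 : δW ≫ πW n = Formal.modPowπ I (n + 1) G ≫ α.app (op n) ≫ μ.app (op n) := by
      refine (ddLift_map _ _).trans ?_
      have e1 : Formal.modPowπ I (n + 1) G ≫ α.app (op n) ≫ μ.app (op n) =
          ddLift fun i j => Formal.modPowπ I (n + 1) G ≫ α.app (op n) ≫ μc n i j :=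
        (congrArg (fun t => Formal.modPowπ I (n + 1) G ≫ t) (comp_ddLift _ _)).trans (comp_ddLift _ _)
      rw [e1]
      congr 1
      funext i j
      have e2 : α.app (op n) ≫ μc n i j = Formal.smulMod A _ (a i) ≫ Formal.smulMod A _ (a j) :=
        comp_twist (α.app (op n)) (a i) (a j) (hcok n i) (hkr n j)
      calc (Formal.smulMod A G (a i) ≫ Formal.smulMod A G (a j)) ≫ Formal.modPowπ I (n + 1) G
          = Formal.modPowπ I (n + 1) G ≫ (Formal.smulMod A _ (a i) ≫ Formal.smulMod A _ (a j)) :=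
            smul2_comp _ _ _
        _ = _ := congrArg (fun t => Formal.modPowπ I (n + 1) G ≫ t) e2.symm
    have c2 : δP ≫ Formal.modPowπ I (n + 1) _ ≫ θ.hom.app (op n) =
        Formal.modPowπ I (n + 1) G ≫ α.app (op n) ≫ unit ((idealSheaf X I) ^ e) (F.obj (op n)) := by
      have e1 := hδP n
      have e2 : (α ≫ u ≫ θ.inv).app (op n) ≫ θ.hom.app (op n) =
          α.app (op n) ≫ unit ((idealSheaf X I) ^ e) (F.obj (op n)) := by
        change (α.app (op n) ≫ u.app (op n) ≫ θ.inv.app (op n)) ≫ θ.hom.app (op n) = _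
        rw [Category.assoc, Category.assoc, ← NatTrans.comp_app, θ.inv_hom_id, NatTrans.id_app,
          Category.comp_id]
      calc δP ≫ Formal.modPowπ I (n + 1) _ ≫ θ.hom.app (op n)
          = (δP ≫ Formal.modPowπ I (n + 1) _) ≫ θ.hom.app (op n) := (Category.assoc _ _ _).symm
        _ = (Formal.modPowπ I (n + 1) G ≫ (α ≫ u ≫ θ.inv).app (op n)) ≫ θ.hom.app (op n) :=
            congrArg (fun t => t ≫ θ.hom.app (op n)) e1.symm
        _ = Formal.modPowπ I (n + 1) G ≫ ((α ≫ u ≫ θ.inv).app (op n) ≫ θ.hom.app (op n)) :=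
            Category.assoc _ _ _
        _ = _ := congrArg (fun t => Formal.modPowπ I (n + 1) G ≫ t) e2
    have c3 : Formal.modPowπ I (n + 1) G ≫ α.app (op n) ≫ γ.app (op n) =
        biprod.lift (Formal.modPowπ I (n + 1) G ≫ α.app (op n) ≫ μ.app (op n))
          (Formal.modPowπ I (n + 1) G ≫ α.app (op n) ≫ unit ((idealSheaf X I) ^ e) (F.obj (op n))) :=
      (congrArg (fun t => Formal.modPowπ I (n + 1) G ≫ t) (comp_lift _ _ _)).trans (comp_lift _ _ _)
    exact (lift_bm _ _ _ _).trans ((congrArg₂ biprod.lift c1 c2).trans c3.symm)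
  -- the cokernel
  obtain ⟨Q, q', q, hQ, hδq, hq, hsq, hex⟩ := exists_Q (hGq := qG) (hGcq := qGc) (eG := eG) (eGc := eGc)
    I hG hE δ π hπ hπc hF (fun n => Formal.modPowπ I (n + 1) G) α γ hD1 (t + 1) (fun n => (ht n).2)
  haveI q𝒬 : ∀ n, (cokernel (γ.app (op n))).IsQuasicoherent := fun n => isQuasicoherent_cokernel _
  obtain ⟨β, hβ⟩ := main' I hF (fun n => cokernel (γ.app (op n))) hE hQ π hπ hπc γ
    (fun n => cokernel.π (γ.app (op n))) (fun n => cokernel.condition _)
    (fun n => ShortComplex.exact_cokernel _) q' q hq hsq hpro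
  haveI := hE.1
  haveI := hQ.1
  haveI qK : (kernel q').IsQuasicoherent := isQuasicoherent_kernel q'
  have hK : Coh.IsCoh (kernel q') := Groth.Agent.Lib.T2H5.Devissage.isCoh_of_mono (kernel.ι q') hE qK
  let a' : G ⟶ kernel q' := kernel.lift q' δ hδq
  have ha'ι : a' ≫ kernel.ι q' = δ := kernel.lift_ι _ _ _
  refine ⟨kernel q', a', β, hK, ⟨2 * (t + 1), ?_, ?_⟩, fun n => ?_⟩
  · -- kernel
    haveI : (kernel a').IsQuasicoherent := isQuasicoherent_kernel a'
    have h1 := killedBy_sq_of_gens (I ^ (t + 1)) (t₀ : Set X.affineOpens) hcov a hspan (kernel a')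
      (fun i j => by
        have e1 : kernel.ι a' ≫ δW = 0 := by
          have : δ ≫ biprod.fst = δW := biprod.lift_fst _ _
          rw [← this, ← ha'ι, ← Category.assoc, ← Category.assoc, kernel.condition, zero_comp, zero_comp]
        have e2 : δW ≫ ddπ G i j = Formal.smulMod A G (a i) ≫ Formal.smulMod A G (a j) := ddLift_π _ i j
        rw [← cancel_mono (kernel.ι a'), zero_comp]
        calc (Formal.smulMod A (kernel a') (a i) ≫ Formal.smulMod A (kernel a') (a j)) ≫ kernel.ι a'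
            = kernel.ι a' ≫ (Formal.smulMod A G (a i) ≫ Formal.smulMod A G (a j)) := smul2_comp _ _ _
          _ = kernel.ι a' ≫ (δW ≫ ddπ G i j) := congrArg (fun t => kernel.ι a' ≫ t) e2.symm
          _ = (kernel.ι a' ≫ δW) ≫ ddπ G i j := (Category.assoc _ _ _).symm
          _ = 0 := by rw [e1, zero_comp])
    rw [← pow_mul, mul_comm] at h1
    exact killedBy_mono I (Nat.le_succ _) h1
  · -- cokernel
    haveI : (cokernel a').IsQuasicoherent := isQuasicoherent_cokernel a'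
    have h1 : Formal.KilledBy (I ^ (t + 1)) (cokernel a') := by
      intro b hb
      rw [← cancel_epi (cokernel.π a'), comp_zero, ← smulMod_comp]
      refine Groth.Agent.Lib.T2H5.SubSec.hom_eq_zero_of_affine_cover _ Set.univ (fun x => ?_) (fun U _ x => ?_)
      · obtain ⟨_, ⟨U, hU, rfl⟩, hxU, -⟩ := X.isBasis_affineOpens.exists_subset_of_mem_open
          (Set.mem_univ x) isOpen_univ
        exact ⟨⟨U, hU⟩, Set.mem_univ _, hxU⟩
      · have h2 : q'.app U.1 ((kernel.ι q').app U.1 x) = 0 := by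
          change (kernel.ι q' ≫ q').app U.1 x = 0
          rw [kernel.condition]
          rfl
        obtain ⟨g, hg⟩ := hex U _ h2 b hb
        have h3 : a'.app U.1 g = (ρU X U.1 b : Γ(X, U.1)) • x := by
          apply Groth.Agent.Lib.Helper20.StalkExact.injective_app_of_mono (kernel.ι q') U.1
          rw [Scheme.Modules.Hom.app_smul, ← hg]
          change (a' ≫ kernel.ι q').app U.1 g = _
          rw [ha'ι]
        change (cokernel.π a').app U.1 ((Formal.smulMod A (kernel q') b).app U.1 x) = 0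
        rw [smulMod_app, ← h3]
        change (a' ≫ cokernel.π a').app U.1 g = 0
        rw [cokernel.condition]
        rfl
    exact killedBy_mono I (by omega) h1
  · -- compatibility
    have hX : ∀ m, (Formal.modPowπ I (m + 1) G ≫ α.app (op m)) ≫ γ.app (op m) =
        (a' ≫ Formal.modPowπ I (m + 1) (kernel q') ≫ β.hom.app (op m)) ≫ γ.app (op m) := by
      intro m
      have e1 := hβ m
      calc (Formal.modPowπ I (m + 1) G ≫ α.app (op m)) ≫ γ.app (op m)
          = δ ≫ π m := by rw [Category.assoc]; exact (hD1 m).symm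
        _ = a' ≫ (kernel.ι q' ≫ π m) := by rw [← Category.assoc, ha'ι]
        _ = a' ≫ (Formal.modPowπ I (m + 1) (kernel q') ≫ β.hom.app (op m) ≫ γ.app (op m)) :=
            congrArg (fun t => a' ≫ t) e1.symm
        _ = _ := by simp only [Category.assoc]
    obtain ⟨j, hj⟩ := hpro n
    have hX1 : (Formal.modPowπ I (n + j + 1) G ≫ α.app (op (n + j))) ≫ trF F n j =
        Formal.modPowπ I (n + 1) G ≫ α.app (op n) := by
      have e1 : α.app (op (n + j)) ≫ trF F n j = trF (Formal.completion I G) n j ≫ α.app (op n) :=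
        (trF_naturality α n j).symm
      have e2 : Formal.modPowπ I (n + j + 1) G ≫ trF (Formal.completion I G) n j =
          Formal.modPowπ I (n + 1) G :=
        π_tt' (G := Formal.completion I G) (fun n => Formal.modPowπ I (n + 1) G) (modPowπ_succ I G)
          (Nat.le_add_right n j)
      calc (Formal.modPowπ I (n + j + 1) G ≫ α.app (op (n + j))) ≫ trF F n j
          = Formal.modPowπ I (n + j + 1) G ≫ (α.app (op (n + j)) ≫ trF F n j) := Category.assoc _ _ _
        _ = Formal.modPowπ I (n + j + 1) G ≫ (trF (Formal.completion I G) n j ≫ α.app (op n)) :=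
            congrArg (fun t => Formal.modPowπ I (n + j + 1) G ≫ t) e1
        _ = (Formal.modPowπ I (n + j + 1) G ≫ trF (Formal.completion I G) n j) ≫ α.app (op n) :=
            (Category.assoc _ _ _).symm
        _ = _ := congrArg (fun t => t ≫ α.app (op n)) e2
    have hX2 : (a' ≫ Formal.modPowπ I (n + j + 1) (kernel q') ≫ β.hom.app (op (n + j))) ≫ trF F n j =
        a' ≫ Formal.modPowπ I (n + 1) (kernel q') ≫ β.hom.app (op n) := by
      have e1 : β.hom.app (op (n + j)) ≫ trF F n j =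
          trF (Formal.completion I (kernel q')) n j ≫ β.hom.app (op n) :=
        (trF_naturality β.hom n j).symm
      have e2 : Formal.modPowπ I (n + j + 1) (kernel q') ≫ trF (Formal.completion I (kernel q')) n j =
          Formal.modPowπ I (n + 1) (kernel q') :=
        π_tt' (G := Formal.completion I (kernel q')) (fun n => Formal.modPowπ I (n + 1) (kernel q'))
          (modPowπ_succ I (kernel q')) (Nat.le_add_right n j)
      calc (a' ≫ Formal.modPowπ I (n + j + 1) (kernel q') ≫ β.hom.app (op (n + j))) ≫ trF F n j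
          = a' ≫ Formal.modPowπ I (n + j + 1) (kernel q') ≫ (β.hom.app (op (n + j)) ≫ trF F n j) := by
            simp only [Category.assoc]
        _ = a' ≫ Formal.modPowπ I (n + j + 1) (kernel q') ≫
              (trF (Formal.completion I (kernel q')) n j ≫ β.hom.app (op n)) :=
            congrArg (fun t => a' ≫ Formal.modPowπ I (n + j + 1) (kernel q') ≫ t) e1
        _ = a' ≫ (Formal.modPowπ I (n + j + 1) (kernel q') ≫ trF (Formal.completion I (kernel q')) n j) ≫
              β.hom.app (op n) := by simp only [Category.assoc]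
        _ = _ := congrArg (fun t => a' ≫ t ≫ β.hom.app (op n)) e2
    have hD : ((Formal.modPowπ I (n + j + 1) G ≫ α.app (op (n + j))) -
        (a' ≫ Formal.modPowπ I (n + j + 1) (kernel q') ≫ β.hom.app (op (n + j)))) ≫ γ.app (op (n + j)) = 0 := by
      rw [Preadditive.sub_comp, hX (n + j), sub_self]
    have hD2 : ((Formal.modPowπ I (n + j + 1) G ≫ α.app (op (n + j))) -
        (a' ≫ Formal.modPowπ I (n + j + 1) (kernel q') ≫ β.hom.app (op (n + j)))) ≫ trF F n j = 0 := by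
      rw [← kernel.lift_ι (γ.app (op (n + j))) _ hD, Category.assoc, hj, comp_zero]
    rw [Preadditive.sub_comp, hX1, hX2, sub_eq_zero] at hD2
    exact hD2

end right

end Groth.Agent.Lib.T2H9.GE9
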