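import Mathlib
import Groth.Prelude
import Groth.Agent.Lib.Helper7GScheme
import Groth.Agent.Lib.Helper7GRingMax
import Groth.Agent.Lib.Helper7ExcDim1
import Groth.Agent.Lib.T2H9ClosedPt

set_option autoImplicit false
universe u
open CategoryTheory AlgebraicGeometry

namespace Groth.Agent.Lib.T2H9.GSch

/-- On a locally Noetherian scheme whose closed points have regular completion maps, every point
has a regular completion map. -/
theorem isRegularHom_cpl_stalk_of_closedPoints (X : Scheme.{u}) [IsLocallyNoetherian X]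
    (hcl : ∀ x : X, IsClosed ({x} : Set X) →
      CAlg.IsRegularHom (X.presheaf.stalk x) (EGA4.Cpl (X.presheaf.stalk x))) (u : X) :
    CAlg.IsRegularHom (X.presheaf.stalk u) (EGA4.Cpl (X.presheaf.stalk u)) := by
  obtain ⟨z, hz, huz⟩ := Groth.Agent.Lib.T2H9.ClosedPt.exists_isClosed_singleton_specializes X u
  have hG : CAlg.IsGRing (X.presheaf.stalk z) :=
    Groth.Agent.Lib.Helper7.GRingMax.isGRing_of_isRegularHom_cpl _ (hcl z hz)
  obtain ⟨p, hp, ⟨e⟩⟩ := Groth.Agent.Lib.T2H9.ClosedPt.exists_ringEquiv_atPrime_of_specializes X huz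
  have hG' : CAlg.IsGRing (Localization.AtPrime p) :=
    Groth.Agent.Lib.Helper7.ExcLoc.isGRing_localization _ hG p.primeCompl
  have := hG'.1
  have h1 := Groth.Agent.Lib.Helper7.ExcDim1.isRegularHom_cpl_of_isGRing (Localization.AtPrime p) hG'
  exact Groth.Agent.Lib.Helper7.ExcLoc.isRegularHom_cpl_of_ringEquiv _ _ e h1

theorem gScheme_iff (X : Scheme.{u}) :
    (∀ x : X, ∃ U : X.Opens, x ∈ U ∧ IsAffineOpen U ∧ CAlg.IsGRing Γ(X, U)) ↔
      IsLocallyNoetherian X ∧ ∀ x : X, IsClosed ({x} : Set X) →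
        CAlg.IsRegularHom (X.presheaf.stalk x)
          (AdicCompletion (IsLocalRing.maximalIdeal (X.presheaf.stalk x)) (X.presheaf.stalk x)) := by
  constructor
  · intro h
    refine ⟨?_, fun x _ => ?_⟩
    · choose V hxV hV hG using h
      apply isLocallyNoetherian_of_affine_cover (S := fun x : X => (⟨V x, hV x⟩ : X.affineOpens))
      · rw [eq_top_iff]
        intro x _
        exact TopologicalSpace.Opens.mem_iSup.mpr ⟨x, hxV x⟩
      · intro x
        exact (hG x).1
    · obtain ⟨U, hxU, hU, hG⟩ := h x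
      exact Groth.Agent.Lib.Helper7.GScheme.isRegularHom_cpl_stalk hU hG x hxU
  · rintro ⟨hN, hcl⟩ x
    obtain ⟨U, hU, hxU, -⟩ := exists_isAffineOpen_mem_and_subset (x := x) (U := ⊤) trivial
    refine ⟨U, hxU, hU, ?_⟩
    have hNU : IsNoetherianRing Γ(X, U) :=
      IsLocallyNoetherian.component_noetherian (⟨U, hU⟩ : X.affineOpens)
    refine ⟨hNU, fun P hP => ?_⟩
    have hyU : hU.fromSpec (⟨P, hP⟩ : PrimeSpectrum Γ(X, U)) ∈ U :=
      (hU.isoSpec.inv (⟨P, hP⟩ : PrimeSpectrum Γ(X, U))).2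
    let _ : Algebra Γ(X, U) (X.presheaf.stalk (hU.fromSpec (⟨P, hP⟩ : PrimeSpectrum Γ(X, U)))) :=
      TopCat.Presheaf.algebra_section_stalk X.presheaf
        (⟨hU.fromSpec (⟨P, hP⟩ : PrimeSpectrum Γ(X, U)), hyU⟩ : U)
    have hloc : IsLocalization.AtPrime
        (X.presheaf.stalk (hU.fromSpec (⟨P, hP⟩ : PrimeSpectrum Γ(X, U)))) P :=
      hU.isLocalization_stalk' (⟨P, hP⟩ : PrimeSpectrum Γ(X, U)) hyU
    have h1 := isRegularHom_cpl_stalk_of_closedPoints X hcl
      (hU.fromSpec (⟨P, hP⟩ : PrimeSpectrum Γ(X, U)))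
    have : IsNoetherianRing (Localization.AtPrime P) :=
      IsLocalization.isNoetherianRing P.primeCompl _ inferInstance
    have : IsNoetherianRing (X.presheaf.stalk (hU.fromSpec (⟨P, hP⟩ : PrimeSpectrum Γ(X, U)))) :=
      isNoetherianRing_of_ringEquiv _ (IsLocalization.algEquiv P.primeCompl
        (Localization.AtPrime P)
        (X.presheaf.stalk (hU.fromSpec (⟨P, hP⟩ : PrimeSpectrum Γ(X, U))))).toRingEquiv
    exact Groth.Agent.Lib.Helper7.ExcLoc.isRegularHom_cpl_of_ringEquiv _ _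
      (IsLocalization.algEquiv P.primeCompl (Localization.AtPrime P)
        (X.presheaf.stalk (hU.fromSpec (⟨P, hP⟩ : PrimeSpectrum Γ(X, U))))).toRingEquiv h1

end Groth.Agent.Lib.T2H9.GSch
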