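import Mathlib
import Groth.Agent.Lib.Helper14PerfArtB
import Groth.Agent.Lib.Helper7Cartier2

/-!
# Field extensions detected after base change to an algebraically closed field (helper9, S7615)
-/

set_option autoImplicit false
set_option linter.style.haveILetI false
set_option linter.unusedSectionVars false
universe u
open TensorProduct Polynomial

namespace Groth.Agent.Lib.T2H9.GammaBCAlg

/-- a finite field extension which stays reduced after base change to an algebraically closed
field is separable -/
theorem isSeparable_of_isReduced_tensor {R A K' : Type u} [Field R] [Field A] [Algebra R A]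
    [Module.Finite R A] [Field K'] [IsAlgClosed K'] [Algebra R K'] (h : IsReduced (K' ⊗[R] A)) :
    Algebra.IsSeparable R A := by
  haveI : Algebra.IsGeometricallyReduced R A :=
    Groth.Agent.Lib.Helper14.PerfArt.isGeometricallyReduced_of_isReduced_tensor_perfectField
      (P := K') h
  haveI : Algebra.IsAlgebraic R A := Algebra.IsAlgebraic.of_finite R A
  exact Groth.Agent.Lib.Helper7.ExalLib.isSeparable_of_isGeometricallyReduced_of_isAlgebraic

/-- a finite field extension whose base change to an algebraically closed field has irreducible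
spectrum is purely inseparable -/
theorem isPurelyInseparable_of_isPrime_nilradical_tensor {R A K' : Type u} [Field R] [Field A]
    [Algebra R A] [Module.Finite R A] [Field K'] [IsAlgClosed K'] [Algebra R K']
    (h : (nilradical (K' ⊗[R] A)).IsPrime) : IsPurelyInseparable R A := by
  haveI : Algebra.IsAlgebraic R A := Algebra.IsAlgebraic.of_finite R A
  haveI : Algebra.IsIntegral R A := Algebra.IsIntegral.of_finite R A
  rw [isPurelyInseparable_iff]
  intro x
  refine ⟨Algebra.IsIntegral.isIntegral x, fun hsep => ?_⟩
  by_contra hx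
  -- two distinct roots of the minimal polynomial in `K'`
  set g := minpoly R x with hg
  have hgsep : g.Separable := hsep
  have hdeg : 2 ≤ g.natDegree := by
    by_contra hlt
    apply hx
    have h1 : g.natDegree = 1 := by
      have hpos : 0 < g.natDegree :=
        minpoly.natDegree_pos (Algebra.IsIntegral.isIntegral (R := R) x)
      omega
    have h2 : g.degree = 1 := by
      rw [Polynomial.degree_eq_natDegree (minpoly.ne_zero (Algebra.IsIntegral.isIntegral x)), h1]
      rfl
    exact (minpoly.degree_eq_one_iff.mp h2)
  have hsplit : (g.map (algebraMap R K')).Splits := IsAlgClosed.splits _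
  have hcard : Fintype.card (g.rootSet K') = g.natDegree :=
    Polynomial.card_rootSet_eq_natDegree hgsep hsplit
  have hcard2 : 1 < Fintype.card (g.rootSet K') := by omega
  obtain ⟨⟨α, hα⟩, ⟨β, hβ⟩, hne⟩ := Fintype.exists_pair_of_one_lt_card hcard2
  have hαβ : α ≠ β := fun h' => hne (Subtype.ext h')
  have hα' : aeval α g = 0 := (Polynomial.mem_rootSet.mp hα).2
  have hβ' : aeval β g = 0 := (Polynomial.mem_rootSet.mp hβ).2
  have hK : ∀ s : A, IsIntegral R s ∧ ((minpoly R s).map (algebraMap R K')).Splits :=
    fun s => ⟨Algebra.IsIntegral.isIntegral s, IsAlgClosed.splits _⟩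
  obtain ⟨σ, hσ⟩ := IntermediateField.exists_algHom_of_splits_of_aeval hK hα'
  obtain ⟨τ, hτ⟩ := IntermediateField.exists_algHom_of_splits_of_aeval hK hβ'
  let σ' : K' ⊗[R] A →ₐ[R] K' := Algebra.TensorProduct.productMap (AlgHom.id R K') σ
  let τ' : K' ⊗[R] A →ₐ[R] K' := Algebra.TensorProduct.productMap (AlgHom.id R K') τ
  haveI : IsArtinianRing (K' ⊗[R] A) := IsArtinianRing.of_finite K' _
  haveI hmax : (nilradical (K' ⊗[R] A)).IsMaximal := IsArtinianRing.isMaximal_of_isPrime _
  haveI : (RingHom.ker σ').IsPrime := RingHom.ker_isPrime σ'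
  haveI : (RingHom.ker τ').IsPrime := RingHom.ker_isPrime τ'
  have h1 : nilradical (K' ⊗[R] A) = RingHom.ker σ' :=
    hmax.eq_of_le (Ideal.IsPrime.ne_top inferInstance) (nilradical_le_prime _)
  have h2 : nilradical (K' ⊗[R] A) = RingHom.ker τ' :=
    hmax.eq_of_le (Ideal.IsPrime.ne_top inferInstance) (nilradical_le_prime _)
  have hz : ((1 : K') ⊗ₜ[R] x - α ⊗ₜ[R] (1 : A)) ∈ RingHom.ker σ' := by
    rw [RingHom.mem_ker, map_sub, Algebra.TensorProduct.productMap_apply_tmul,
      Algebra.TensorProduct.productMap_apply_tmul, hσ]
    simp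
  rw [← h1, h2, RingHom.mem_ker, map_sub, Algebra.TensorProduct.productMap_apply_tmul,
    Algebra.TensorProduct.productMap_apply_tmul, hτ] at hz
  simp only [AlgHom.coe_id, id_eq, one_mul, map_one, mul_one] at hz
  exact hαβ (sub_eq_zero.mp hz).symm

end Groth.Agent.Lib.T2H9.GammaBCAlg
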