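import Mathlib
import Groth.Prelude.Def_Coh
import Groth.Agent.Lib.T2H9GammaBC
import Groth.Agent.Lib.Helper6SepCl

/-!
# Global functions of a proper integral scheme over an integrally closed domain whose generic
fibre has only constant functions (helper9, S7915)
-/

set_option autoImplicit false
set_option linter.style.haveILetI false
set_option linter.unusedSectionVars false
universe u
open CategoryTheory CategoryTheory.Limits AlgebraicGeometry TopologicalSpace

namespace Groth.Agent.Lib.T2H9.GammaDed

/-- pure algebra core -/
theorem bijective_of_integral_of_fraction {R K A B : Type*} [CommRing R] [IsDomain R]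
    [IsIntegrallyClosed R] [Field K] [Algebra R K] [IsFractionRing R K] [CommRing A] [CommRing B]
    (α : R →+* A) (hα : α.IsIntegral) (β : K →+* B) (hβs : Function.Surjective β)
    (hβi : Function.Injective β) (ψ : A →+* B) (hψ : Function.Injective ψ)
    (hcomm : ψ.comp α = β.comp (algebraMap R K)) : Function.Bijective α := by
  constructor
  · have h1 : Function.Injective (ψ.comp α) := by
      rw [hcomm]
      exact hβi.comp (IsFractionRing.injective R K)
    exact Function.Injective.of_comp (f := ψ) h1
  · intro a
    obtain ⟨c, hc⟩ := hβs (ψ a)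
    obtain ⟨P, hP, hPa⟩ := hα a
    have h1 : Polynomial.eval₂ (β.comp (algebraMap R K)) (β c) P = 0 := by
      rw [← hcomm, hc, ← Polynomial.hom_eval₂, hPa, map_zero]
    have h2 : Polynomial.eval₂ (algebraMap R K) c P = 0 := by
      apply hβi
      rw [Polynomial.hom_eval₂, h1, map_zero]
    have h3 : IsIntegral R c := ⟨P, hP, h2⟩
    obtain ⟨r, hr⟩ := IsIntegrallyClosed.isIntegral_iff.mp h3
    refine ⟨r, hψ ?_⟩
    have := congrArg (fun φ => φ r) hcomm
    simp only [RingHom.comp_apply] at this
    rw [this, hr, hc]

/-- pulling back a nonzero function on an integral scheme along a flat morphism from a nonempty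
scheme gives a nonzero function -/
theorem appTop_injective_of_flat {X Y : Scheme.{u}} [IsIntegral X] [Nonempty Y] (g : Y ⟶ X)
    [Flat g] : Function.Injective g.appTop.hom := by
  rw [injective_iff_map_eq_zero]
  intro a ha
  by_contra hne
  have h1 : X.basicOpen a ≠ ⊥ := by
    rw [Ne, basicOpen_eq_bot_iff]
    exact hne
  obtain ⟨x, hx⟩ : ∃ x, x ∈ X.basicOpen a := by
    by_contra hcon
    push Not at hcon
    exact h1 (by ext x; simpa using hcon x)
  have hη : genericPoint X ∈ X.basicOpen a :=
    (genericPoint_specializes x).mem_open (X.basicOpen a).isOpen hx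
  obtain ⟨y⟩ := ‹Nonempty Y›
  obtain ⟨y', -, hy'⟩ := (Flat.generalizingMap g) (genericPoint_specializes (g y))
  have h2 : y' ∈ g ⁻¹ᵁ X.basicOpen a := by
    change g y' ∈ X.basicOpen a
    rw [hy']
    exact hη
  rw [Scheme.preimage_basicOpen_top, ha, Scheme.basicOpen_zero] at h2
  exact h2

/-- **global functions are the constants**: `X` integral and proper over an integrally closed
domain `R`, with generic fibre geometrically reduced and geometrically irreducible. -/
theorem toGlobal_bijective (R : Type u) [CommRing R] [IsDomain R] [IsIntegrallyClosed R]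
    {X : Scheme.{u}} [IsIntegral X] (p : X ⟶ Spec (CommRingCat.of R)) [IsProper p]
    [GeometricallyReduced
      (pullback.snd p (Spec.map (CommRingCat.ofHom (algebraMap R (FractionRing R)))))]
    [GeometricallyIrreducible
      (pullback.snd p (Spec.map (CommRingCat.ofHom (algebraMap R (FractionRing R)))))] :
    Function.Bijective (p.appTop.hom.comp (Scheme.ΓSpecIso (CommRingCat.of R)).inv.hom) := by
  haveI : Flat (Spec.map (CommRingCat.ofHom (algebraMap R (FractionRing R)))) := by
    rw [Flat.SpecMap_iff]
    exact (RingHom.flat_algebraMap_iff (R := R) (S := FractionRing R)).mpr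
      (IsLocalization.flat (FractionRing R) (nonZeroDivisors R))
  haveI : IrreducibleSpace
      ↥(pullback p (Spec.map (CommRingCat.ofHom (algebraMap R (FractionRing R))))) :=
    GeometricallyIrreducible.irreducibleSpace_of_subsingleton
      (pullback.snd p (Spec.map (CommRingCat.ofHom (algebraMap R (FractionRing R)))))
  haveI : GeometricallyConnected
      (pullback.snd p (Spec.map (CommRingCat.ofHom (algebraMap R (FractionRing R))))) :=
    Groth.Agent.Lib.Helper6.SepCl.geometricallyConnected_of_geometricallyIrreducible _
  have hsurj := Groth.Agent.Lib.T2H9.GammaBC.appTop_surjective (FractionRing R) _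
    (pullback.snd p (Spec.map (CommRingCat.ofHom (algebraMap R (FractionRing R)))))
  haveI : Nonempty ↥(⊤ : (pullback p (Spec.map (CommRingCat.ofHom
      (algebraMap R (FractionRing R))))).Opens) := ⟨⟨Classical.arbitrary _, trivial⟩⟩
  haveI : Nontrivial Γ(pullback p (Spec.map (CommRingCat.ofHom
      (algebraMap R (FractionRing R)))), ⊤) := inferInstance
  refine bijective_of_integral_of_fraction (K := FractionRing R)
    (p.appTop.hom.comp (Scheme.ΓSpecIso (CommRingCat.of R)).inv.hom) ?_
    ((pullback.snd p (Spec.map (CommRingCat.ofHom
      (algebraMap R (FractionRing R))))).appTop.hom.comp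
      (Scheme.ΓSpecIso (CommRingCat.of (FractionRing R))).inv.hom) ?_ (RingHom.injective _)
    (pullback.fst p (Spec.map (CommRingCat.ofHom (algebraMap R (FractionRing R))))).appTop.hom
    (appTop_injective_of_flat _) ?_
  · have h1 := isIntegral_appTop_of_universallyClosed p
    have h2 : (Scheme.ΓSpecIso (CommRingCat.of R)).inv.hom.IsIntegral :=
      RingHom.isIntegral_of_surjective _
        (Scheme.ΓSpecIso (CommRingCat.of R)).symm.commRingCatIsoToRingEquiv.surjective
    exact RingHom.IsIntegral.trans _ _ h2 h1
  · exact hsurj.comp
      (Scheme.ΓSpecIso (CommRingCat.of (FractionRing R))).symm.commRingCatIsoToRingEquiv.surjective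
  · have key : (Scheme.ΓSpecIso (CommRingCat.of R)).inv ≫ p.appTop ≫
        (pullback.fst p (Spec.map (CommRingCat.ofHom (algebraMap R (FractionRing R))))).appTop =
        CommRingCat.ofHom (algebraMap R (FractionRing R)) ≫
          (Scheme.ΓSpecIso (CommRingCat.of (FractionRing R))).inv ≫
          (pullback.snd p (Spec.map (CommRingCat.ofHom
            (algebraMap R (FractionRing R))))).appTop := by
      rw [← Scheme.Hom.comp_appTop, pullback.condition, Scheme.Hom.comp_appTop,
        ← Category.assoc, ← Category.assoc, Scheme.ΓSpecIso_inv_naturality]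
    exact congrArg CommRingCat.Hom.hom key

end Groth.Agent.Lib.T2H9.GammaDed
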