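import Mathlib
import Groth.Agent.Lib.T2H9GammaBC
import Groth.Agent.Lib.T2H9GammaBCAlg2
import Groth.Agent.Lib.Helper14GeomIrr

/-!
# Global sections of a proper variety (helper9, S7615)
-/

set_option autoImplicit false
set_option linter.style.haveILetI false
set_option linter.unusedSectionVars false
universe u
open TensorProduct CategoryTheory CategoryTheory.Limits AlgebraicGeometry

namespace Groth.Agent.Lib.T2H9.GammaVar

open Groth.Agent.Lib.T2H9.GammaBC Groth.Agent.Lib.T2H9.GammaBCAlg

/-- on an irreducible quasi-compact scheme the nilradical of the ring of global sections is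
prime -/
theorem isPrime_nilradical_Γ (Y : Scheme.{u}) [IrreducibleSpace Y] [CompactSpace Y] :
    (nilradical Γ(Y, ⊤)).IsPrime := by
  rw [Groth.Agent.Lib.Helper14.GeomIrr.isPrime_nilradical_iff]
  haveI : Nonempty Y := inferInstance
  haveI : Nonempty ↥(⊤ : Y.Opens) := ⟨⟨Classical.arbitrary _, trivial⟩⟩
  refine ⟨inferInstance, fun a b hab => ?_⟩
  rw [Scheme.isNilpotent_iff_basicOpen_eq_bot] at hab ⊢
  rw [Scheme.isNilpotent_iff_basicOpen_eq_bot]
  rw [Scheme.basicOpen_mul] at hab
  by_contra hcon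
  push Not at hcon
  obtain ⟨ha, hb⟩ := hcon
  have ha' : (Y.basicOpen a : Set Y).Nonempty := by
    rw [Set.nonempty_iff_ne_empty]
    intro h
    exact ha (TopologicalSpace.Opens.ext h)
  have hb' : (Y.basicOpen b : Set Y).Nonempty := by
    rw [Set.nonempty_iff_ne_empty]
    intro h
    exact hb (TopologicalSpace.Opens.ext h)
  obtain ⟨x, hxa, hxb⟩ := nonempty_preirreducible_inter (Y.basicOpen a).isOpen
    (Y.basicOpen b).isOpen ha' hb'
  have : x ∈ (⊥ : Y.Opens) := hab ▸ (⟨hxa, hxb⟩ : x ∈ Y.basicOpen a ⊓ Y.basicOpen b)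
  exact this

/-- **Global sections of a proper variety over a field**: the ring of global functions is a
field, finite over the base field; separable if the variety is geometrically reduced, purely
inseparable if it is geometrically irreducible. -/
theorem globalSections_proper_variety (k : Type u) [Field k] (X : Scheme.{u})
    (p : X ⟶ Spec (CommRingCat.of k)) [IsIntegral X] [IsProper p] :
    letI := (p.appTop.hom.comp (Scheme.ΓSpecIso (CommRingCat.of k)).inv.hom :
      k →+* Γ(X, ⊤)).toAlgebra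
    IsField ↑Γ(X, ⊤) ∧ Module.Finite k ↑Γ(X, ⊤) ∧
      (GeometricallyReduced p → Algebra.IsSeparable k ↑Γ(X, ⊤)) ∧
      (GeometricallyIrreducible p → IsPurelyInseparable k ↑Γ(X, ⊤)) := by
  letI algk : Algebra k Γ(X, ⊤) := (p.appTop.hom.comp (Scheme.ΓSpecIso (CommRingCat.of k)).inv.hom :
      k →+* Γ(X, ⊤)).toAlgebra
  have hfield : IsField Γ(X, ⊤) := isField_of_universallyClosed k p
  have hfin0 : p.appTop.hom.Finite := finite_appTop_of_universallyClosed k p
  have hfin : (p.appTop.hom.comp (Scheme.ΓSpecIso (CommRingCat.of k)).inv.hom).Finite :=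
    RingHom.Finite.comp hfin0 (RingHom.Finite.of_surjective _
      (ConcreteCategory.bijective_of_isIso (Scheme.ΓSpecIso (CommRingCat.of k)).inv).2)
  have hmodfin : Module.Finite k Γ(X, ⊤) := hfin
  -- common set-up for the base change to the algebraic closure
  let K := AlgebraicClosure k
  let q : Spec (CommRingCat.of K) ⟶ Spec (CommRingCat.of k) :=
    Spec.map (CommRingCat.ofHom (algebraMap k K))
  have H : IsPullback (pullback.fst p q) (pullback.snd p q) p q := IsPullback.of_hasPullback p q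
  haveI : Flat q := by
    rw [Flat.SpecMap_iff]
    exact (RingHom.flat_algebraMap_iff (R := k) (S := K)).mpr inferInstance
  haveI : CompactSpace X := QuasiCompact.compactSpace_of_compactSpace p
  haveI : CompactSpace ↥(pullback p q) :=
    QuasiCompact.compactSpace_of_compactSpace (pullback.snd p q)
  have hR : IsField Γ(Spec (CommRingCat.of k), ⊤) := isField_Γ_Spec k
  have hK' : IsField Γ(Spec (CommRingCat.of K), ⊤) := isField_Γ_Spec K
  letI : Field Γ(Spec (CommRingCat.of k), ⊤) := hR.toField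
  letI : Field Γ(Spec (CommRingCat.of K), ⊤) := hK'.toField
  haveI : IsAlgClosed Γ(Spec (CommRingCat.of K), ⊤) :=
    IsAlgClosed.of_ringEquiv K _
      (Scheme.ΓSpecIso (CommRingCat.of K)).commRingCatIsoToRingEquiv.symm
  letI : Field Γ(X, ⊤) := hfield.toField
  letI algA : Algebra Γ(Spec (CommRingCat.of k), ⊤) Γ(X, ⊤) := p.appTop.hom.toAlgebra
  letI algK : Algebra Γ(Spec (CommRingCat.of k), ⊤) Γ(Spec (CommRingCat.of K), ⊤) :=
    q.appTop.hom.toAlgebra
  letI algB : Algebra Γ(Spec (CommRingCat.of k), ⊤) Γ(pullback p q, ⊤) :=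
    ((pullback.fst p q).appTop.hom.comp p.appTop.hom).toAlgebra
  let φ : Γ(X, ⊤) →ₐ[Γ(Spec (CommRingCat.of k), ⊤)] Γ(pullback p q, ⊤) :=
    { (pullback.fst p q).appTop.hom with commutes' := fun r => rfl }
  let ι : Γ(Spec (CommRingCat.of K), ⊤) →ₐ[Γ(Spec (CommRingCat.of k), ⊤)] Γ(pullback p q, ⊤) :=
    { (pullback.snd p q).appTop.hom with
      commutes' := fun r => by
        have h1 : q.appTop ≫ (pullback.snd p q).appTop = p.appTop ≫ (pullback.fst p q).appTop := by
          rw [← Scheme.Hom.comp_appTop, ← Scheme.Hom.comp_appTop, H.w]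
        exact congrArg (fun t => t.hom r) h1 }
  have hinj : Function.Injective (Algebra.TensorProduct.productMap φ ι) :=
    injective_productMap H φ ι rfl rfl
  haveI hfinA : Module.Finite Γ(Spec (CommRingCat.of k), ⊤) Γ(X, ⊤) := hfin0
  -- the comparison between `k` and `Γ(Spec k, ⊤)`
  let e₁ : Γ(Spec (CommRingCat.of k), ⊤) ≃+* k :=
    (Scheme.ΓSpecIso (CommRingCat.of k)).commRingCatIsoToRingEquiv
  have he : ∀ r : Γ(Spec (CommRingCat.of k), ⊤),
      algebraMap k Γ(X, ⊤) (e₁ r) = algebraMap Γ(Spec (CommRingCat.of k), ⊤) Γ(X, ⊤) r := by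
    intro r
    change p.appTop.hom ((Scheme.ΓSpecIso (CommRingCat.of k)).inv.hom
      ((Scheme.ΓSpecIso (CommRingCat.of k)).hom.hom r)) = p.appTop.hom r
    congr 1
    exact (Scheme.ΓSpecIso (CommRingCat.of k)).commRingCatIsoToRingEquiv.symm_apply_apply r
  refine ⟨hfield, hmodfin, fun hgr => ?_, fun hgi => ?_⟩
  · haveI hred : AlgebraicGeometry.IsReduced (pullback p q) :=
      pullback_of_geometrically (GeometricallyReduced.geometrically_isReduced) K q
    haveI : _root_.IsReduced Γ(pullback p q, ⊤) := inferInstance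
    have h1 : _root_.IsReduced (Γ(X, ⊤) ⊗[Γ(Spec (CommRingCat.of k), ⊤)]
        Γ(Spec (CommRingCat.of K), ⊤)) :=
      isReduced_of_injective (Algebra.TensorProduct.productMap φ ι) hinj
    have h2 : _root_.IsReduced (Γ(Spec (CommRingCat.of K), ⊤) ⊗[Γ(Spec (CommRingCat.of k), ⊤)]
        Γ(X, ⊤)) :=
      isReduced_of_injective (Algebra.TensorProduct.comm Γ(Spec (CommRingCat.of k), ⊤)
        Γ(Spec (CommRingCat.of K), ⊤) Γ(X, ⊤)) (AlgEquiv.injective _)
    have h3 : Algebra.IsSeparable Γ(Spec (CommRingCat.of k), ⊤) Γ(X, ⊤) :=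
      isSeparable_of_isReduced_tensor h2
    exact Algebra.IsSeparable.of_equiv_equiv e₁ (RingEquiv.refl _) (by
      ext r
      exact he r)
  · haveI hirr : IrreducibleSpace ↥(pullback p q) :=
      pullback_of_geometrically (GeometricallyIrreducible.geometrically_irreducibleSpace) K q
    have h0 : (nilradical Γ(pullback p q, ⊤)).IsPrime := isPrime_nilradical_Γ (pullback p q)
    have h1 : (nilradical (Γ(X, ⊤) ⊗[Γ(Spec (CommRingCat.of k), ⊤)]
        Γ(Spec (CommRingCat.of K), ⊤))).IsPrime :=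
      Groth.Agent.Lib.Helper14.GeomIrr.isPrime_nilradical_of_injective
        (Algebra.TensorProduct.productMap φ ι).toRingHom hinj h0
    have h2 : (nilradical (Γ(Spec (CommRingCat.of K), ⊤) ⊗[Γ(Spec (CommRingCat.of k), ⊤)]
        Γ(X, ⊤))).IsPrime :=
      Groth.Agent.Lib.Helper14.GeomIrr.isPrime_nilradical_of_ringEquiv
        (Algebra.TensorProduct.comm Γ(Spec (CommRingCat.of k), ⊤)
          Γ(Spec (CommRingCat.of K), ⊤) Γ(X, ⊤)).toRingEquiv h1
    have h3 : IsPurelyInseparable Γ(Spec (CommRingCat.of k), ⊤) Γ(X, ⊤) :=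
      isPurelyInseparable_of_isPrime_nilradical_tensor h2
    rw [isPurelyInseparable_iff] at h3 ⊢
    intro x
    obtain ⟨hint, hx⟩ := h3 x
    haveI : Algebra.IsIntegral k Γ(X, ⊤) := Algebra.IsIntegral.of_finite k Γ(X, ⊤)
    refine ⟨Algebra.IsIntegral.isIntegral x, fun hsep => ?_⟩
    have hsepR : IsSeparable Γ(Spec (CommRingCat.of k), ⊤) x := by
      have := IsSeparable.of_equiv_equiv e₁.symm (RingEquiv.refl Γ(X, ⊤)) (by
        ext r
        have := he (e₁.symm r)
        rw [RingEquiv.apply_symm_apply] at this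
        exact this.symm) hsep
      exact this
    obtain ⟨r, hr⟩ := hx hsepR
    exact ⟨e₁ r, (he r).trans hr⟩

end Groth.Agent.Lib.T2H9.GammaVar
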