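import Mathlib
import Groth.Agent.Lib.T2H9GenSmooth
import Groth.Agent.Lib.Helper6ConsNhd

/-!
# Generic smoothness on the target for a regular source (helper9, S7776)
-/

set_option autoImplicit false
set_option linter.style.haveILetI false
set_option linter.unusedSectionVars false

universe u

open CategoryTheory CategoryTheory.Limits AlgebraicGeometry TopologicalSpace Topology

namespace Groth.Agent.Lib.T2H9.GenSmooth

/-- A locally constructible subset of an irreducible scheme which does not contain the generic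
point is disjoint from an open neighbourhood of the generic point. -/
theorem exists_open_disjoint_of_isLocallyConstructible {Y : Scheme.{u}} [IrreducibleSpace Y]
    {T : Set Y} (hT : IsLocallyConstructible T) (hη : genericPoint Y ∉ T) :
    ∃ V : Y.Opens, genericPoint Y ∈ V ∧ Disjoint (V : Set Y) T := by
  obtain ⟨W, hW, hηW, -⟩ := exists_isAffineOpen_mem_and_subset (X := Y) (x := genericPoint Y)
    (U := ⊤) trivial
  haveI : CompactSpace ((W : Set Y) : Type u) := isCompact_iff_compactSpace.mp hW.isCompact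
  haveI : QuasiSeparatedSpace ((W : Set Y) : Type u) :=
    (quasiSeparatedSpace_congr (hW.isoSpec.hom.homeomorph)).mpr inferInstance
  haveI : PrespectralSpace ((W : Set Y) : Type u) :=
    W.2.isOpenEmbedding_subtypeVal.prespectralSpace
  have h1 : IsLocallyConstructible ((Subtype.val : ((W : Set Y) : Type u) → Y) ⁻¹' T) :=
    hT.preimage_of_isOpenEmbedding W.2.isOpenEmbedding_subtypeVal
  have h2 := h1.isConstructible
  obtain ⟨U', hU'o, hηU', hU'⟩ :=
    Groth.Agent.Lib.Helper6.GenFib.exists_open_subset_or_of_isConstructible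
      (⟨genericPoint Y, hηW⟩ : ((W : Set Y) : Type u)) (fun U hU hne => by
        obtain ⟨y, hy⟩ := hne
        have hopen : IsOpen (Subtype.val '' U : Set Y) :=
          W.2.isOpenEmbedding_subtypeVal.isOpenMap U hU
        have := (genericPoint_spec Y).mem_open_set_iff hopen |>.mpr ⟨_, trivial, ⟨y, hy, rfl⟩⟩
        obtain ⟨z, hz, hzη⟩ := this
        have : z = ⟨genericPoint Y, hηW⟩ := Subtype.ext hzη
        rwa [← this]) h2
  rcases hU' with hU' | hU'
  · exact absurd (hU' hηU') hη
  · refine ⟨⟨Subtype.val '' U', W.2.isOpenEmbedding_subtypeVal.isOpenMap U' hU'o⟩,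
      ⟨_, hηU', rfl⟩, ?_⟩
    rw [Set.disjoint_left]
    rintro _ ⟨z, hz, rfl⟩ hzT
    exact hU' hz hzT

/-- **Generic smoothness on the target** for a regular source. -/
theorem main_S7776 (X Y : Scheme.{u}) [IsIntegral X] [IsIntegral Y]
    [IsLocallyNoetherian X] (hreg : ∀ x : X, IsRegularLocalRing (X.presheaf.stalk x))
    (f : X ⟶ Y) [LocallyOfFinitePresentation f] [QuasiCompact f]
    [PerfectField Y.functionField] :
    ∃ V : Y.Opens, Dense (V : Set Y) ∧ Smooth (f ∣_ V) := by
  have hZ : IsClosed ((f.smoothLocus : Set X)ᶜ) := f.smoothLocus.2.isClosed_compl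
  have hT : IsLocallyConstructible (f '' ((f.smoothLocus : Set X)ᶜ)) :=
    f.isLocallyConstructible_image
      (Groth.Agent.Lib.Helper6.ConsNhd.isLocallyConstructible_of_isClosed hZ)
  have hη : genericPoint Y ∉ f '' ((f.smoothLocus : Set X)ᶜ) := by
    rintro ⟨x, hx, hxη⟩
    haveI := hreg x
    exact hx (mem_smoothLocus_of_isRegularLocalRing f x hxη)
  obtain ⟨V, hηV, hdisj⟩ := exists_open_disjoint_of_isLocallyConstructible hT hη
  refine ⟨V, ?_, ?_⟩
  · exact V.2.dense ⟨_, hηV⟩
  · have hle : f ⁻¹ᵁ V ≤ f.smoothLocus := by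
      intro x hx
      by_contra hxs
      exact Set.disjoint_left.mp hdisj hx ⟨x, hxs, rfl⟩
    have h1 : Smooth (f.smoothLocus.ι ≫ f) := smooth_smoothLocus_ι_comp f
    have h2 : Smooth ((f ∣_ V) ≫ V.ι) := by
      have : (f ∣_ V) ≫ V.ι = X.homOfLE hle ≫ f.smoothLocus.ι ≫ f := by
        rw [morphismRestrict_ι, ← Category.assoc, Scheme.homOfLE_ι]
      rw [this]
      infer_instance
    exact MorphismProperty.of_postcomp (W := @Smooth) (W' := @IsOpenImmersion) (f ∣_ V) V.ι
      inferInstance h2

end Groth.Agent.Lib.T2H9.GenSmooth
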