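import Mathlib
import Groth.Prelude.Def_Curv2
import Groth.Agent.Lib.T2H9IdealProd
import Groth.Agent.Lib.T2H9GenusOne
import Groth.Agent.Lib.T2H9Tower
import Groth.Agent.Lib.T2H6PtTwistF
import Groth.Agent.Lib.Helper23LocGen

/-!
# T2H9GenusOneTw (helper9): the twists `O(np)` on a genus-one curve with a smooth rational point
-/

set_option autoImplicit false
set_option linter.style.haveILetI false
set_option linter.unusedSectionVars false
universe u

open AlgebraicGeometry CategoryTheory Limits TopologicalSpace Opposite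

namespace Groth.Agent.Lib.T2H9.GenusOneTw

open Groth.Agent.Lib.T2H6.PtTwistA Groth.Agent.Lib.T2H5.Twist Groth.Agent.Lib.T2H9.TensorInv
  Groth.Agent.Lib.T2H6.TensorPows Groth.Agent.Lib.T2H9.RatPt Groth.Agent.Lib.T2H9.IdealProd
  Groth.Agent.Lib.T2H9.GenusOne

attribute [local instance] Curv2.resAlgebra

variable (k : Type u) [Field k] {X : Scheme.{u}} [X.Over (Spec (CommRingCat.of k))]
  [IsProper (X ↘ Spec (CommRingCat.of k))] [IsIntegral X]

/-- a rational point forces `h⁰(O) = 1` -/
theorem finrank_hh0_eq_one_of_rational (p : X) (hp : IsClosed ({p} : Set X))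
    (hrat : Function.Surjective (Curv2.resMap k X p)) :
    Module.finrank k (Coh.HH X (Coh.structureModule X) 0) = 1 := by
  apply Nat.dvd_one.1
  rw [← finrank_HH_zero_quotMod_ptIdeal k p hp hrat]
  exact Groth.Agent.Lib.T2H9.Tower.finrank_hh0_dvd k X _ 0

/-- on a genus-one curve, `h⁰ = deg` and `h¹ = 0` in positive degree -/
theorem h0_h1_of_deg_pos (hdim : topologicalKrullDim X = 1)
    (h0 : Module.finrank k (Coh.HH X (Coh.structureModule X) 0) = 1)
    (hg : Curv2.genus k X = 1) (M : X.Modules) (hM : PicF.IsInvertible M) (d : ℕ) (hd : 1 ≤ d)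
    (hdeg : Curv2.deg k X M 1 = d) :
    Module.finrank k (Coh.HH X M 0) = d ∧ Module.finrank k (Coh.HH X M 1) = 0 := by
  have hO := Groth.Agent.Lib.Helper23.TensorUnit.isInvertible_structureModule X
  haveI := Groth.Agent.Lib.T2H6.CurveRR.isQuasicoherent_of_isInvertible _ hO
  haveI := Groth.Agent.Lib.T2H6.CurveRR.isQuasicoherent_of_isInvertible _ hM
  have eO := Groth.Agent.Lib.T2H6.CurveRR.euler_eq_sub k hdim (Coh.structureModule X)
  have eM := Groth.Agent.Lib.T2H6.CurveRR.euler_eq_sub k hdim M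
  have hg' : Module.finrank k (Coh.HH X (Coh.structureModule X) 1) = 1 := hg
  have hrr : (Module.finrank k (Coh.HH X M 0) : ℤ) - (Module.finrank k (Coh.HH X M 1) : ℤ) = d := by
    have hd' := hdeg
    unfold Curv2.deg at hd'
    rw [eO, eM, h0, hg'] at hd'
    push_cast at hd'
    linarith
  have h1nn : (0 : ℤ) ≤ (Module.finrank k (Coh.HH X M 1) : ℤ) := Int.natCast_nonneg _
  have hge : 1 ≤ Module.finrank k (Coh.HH X M 0) := by
    have : (1 : ℤ) ≤ (Module.finrank k (Coh.HH X M 0) : ℤ) := by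
      have : (1 : ℤ) ≤ (d : ℤ) := by exact_mod_cast hd
      linarith
    exact_mod_cast this
  have hnt : Nontrivial (Coh.HH X M 0) :=
    Module.nontrivial_of_finrank_pos (R := k) (by omega)
  obtain ⟨s, hs⟩ := Groth.Agent.Lib.T2H6.CurveRR.exists_section_ne_zero _ hnt
  obtain ⟨hle, heq⟩ := Groth.Agent.Lib.T2H6.CurveLinSer.h0_le k hdim h0 M hM s hs
  rw [hdeg] at hle heq
  have hne : (Module.finrank k (Coh.HH X M 0) : ℤ) ≠ d + 1 := by
    intro h3
    have := Groth.Agent.Lib.T2H6.CurveLinSer2.genus_eq_zero k hdim M hM s hs (heq h3)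
      (by rw [hdeg]; exact_mod_cast hd)
    rw [hg] at this
    exact one_ne_zero this
  have h4 : (Module.finrank k (Coh.HH X M 0) : ℤ) = d := by
    rcases lt_or_eq_of_le hle with h5 | h5
    · linarith [Int.lt_add_one_iff.1 h5]
    · exact absurd h5 hne
  constructor
  · exact_mod_cast h4
  · have : (Module.finrank k (Coh.HH X M 1) : ℤ) = 0 := by linarith
    exact_mod_cast this

/-- the degree of the ideal module of a power -/
theorem deg_idealMod_pow (hdim : topologicalKrullDim X = 1) (I : X.IdealSheafData)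
    (hI : PicF.IsInvertible (ClSub.idealMod I)) (n : ℕ) :
    Curv2.deg k X (ClSub.idealMod (I ^ n)) 1 = n * Curv2.deg k X (ClSub.idealMod I) 1 := by
  induction n with
  | zero =>
    rw [Groth.Agent.Lib.T2H6.PtTwistD.deg_eq_of_iso k (idealModPowZeroIso I) 1,
      Groth.Agent.Lib.T2H6.CurveDeg.deg_structureModule]
    simp
  | succ n ih =>
    rw [← Groth.Agent.Lib.T2H6.PtTwistD.deg_eq_of_iso k (powSuccIso I hI n) 1,
      Groth.Agent.Lib.T2H6.PtTwistD.deg_tensor1 k hdim _ _ (isInvertible_idealMod_pow I hI n) hI, ih]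
    push_cast
    ring

/-- **S7933** (proper integral form) -/
theorem main (hdim : topologicalKrullDim X = 1)
    (hpa : Curv2.euler k X (Coh.structureModule X) = 0)
    (p : X) (hp : IsClosed ({p} : Set X)) (hrat : Function.Surjective (Curv2.resMap k X p))
    (hdvr : IsDiscreteValuationRing (X.presheaf.stalk p))
    (n : ℕ) (L : X.Modules)
    (hL : ClSub.IsInverseOf L (ClSub.idealMod ((ptIdeal p hp) ^ n))) :
    Module.finrank k (Coh.HH X (Coh.structureModule X) 0) = 1 ∧
      Module.finrank k (Coh.HH X (Coh.structureModule X) 1) = 1 ∧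
      (n = 1 → Module.finrank k (Coh.HH X L 0) = 1) ∧
      (2 ≤ n → Module.finrank k (Coh.HH X L 0) = n) ∧
      (1 ≤ n → Subsingleton (Coh.HH X L 1)) ∧
      (2 ≤ n → Curv2.IsGloballyGenerated L) := by
  haveI := Groth.Agent.Lib.T2H6.CurveDeg.isLocallyNoetherian (X := X) k
  have hO := Groth.Agent.Lib.Helper23.TensorUnit.isInvertible_structureModule X
  haveI := Groth.Agent.Lib.T2H6.CurveRR.isQuasicoherent_of_isInvertible _ hO
  have h0 := finrank_hh0_eq_one_of_rational k p hp hrat
  have eO := Groth.Agent.Lib.T2H6.CurveRR.euler_eq_sub k hdim (Coh.structureModule X)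
  have h1 : Module.finrank k (Coh.HH X (Coh.structureModule X) 1) = 1 := by
    rw [hpa, h0] at eO
    have : (Module.finrank k (Coh.HH X (Coh.structureModule X) 1) : ℤ) = 1 := by
      push_cast at eO; linarith
    exact_mod_cast this
  have hg : Curv2.genus k X = 1 := h1
  -- the ideal of `p` and its powers
  have hN : PicF.IsInvertible (ClSub.idealMod (ptIdeal p hp)) :=
    Groth.Agent.Lib.T2H6.PtTwistD.isInvertible_idealMod_ptIdeal X hdim p hp hdvr
  have hdegN : Curv2.deg k X (ClSub.idealMod (ptIdeal p hp)) 1 = -1 :=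
    Groth.Agent.Lib.T2H6.PtTwistD.deg_idealMod_ptIdeal k p hp hrat
  set P := ClSub.idealMod ((ptIdeal p hp) ^ n) with hPdef
  have hP : PicF.IsInvertible P := isInvertible_idealMod_pow _ hN n
  have hdegP : Curv2.deg k X P 1 = -(n : ℤ) := by
    rw [hPdef, deg_idealMod_pow k hdim _ hN n, hdegN]; ring
  -- `L ≅ P^∨`
  obtain ⟨e⟩ := hL
  obtain ⟨eL⟩ : Nonempty (L ≅ inv P) :=
    nonempty_iso_of_tensor_iso hP (e ≪≫ (invTensorIso P hP).symm)
  have hL' : PicF.IsInvertible (inv P) := isInvertible_inv P hP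
  have hdegL' : Curv2.deg k X (inv P) 1 = n := by
    rw [Groth.Agent.Lib.T2H6.PtTwistD.deg_inv k hdim P hP, hdegP, neg_neg]
  have hcoh : ∀ i, Module.finrank k (Coh.HH X L i) = Module.finrank k (Coh.HH X (inv P) i) :=
    fun i => Groth.Agent.Lib.T2H6.FieldBC.finrank_HH_eq_of_iso k X eL i
  have hLinv : PicF.IsInvertible L :=
    Groth.Agent.Lib.Helper23.AmpleIso.isInvertible_of_iso eL.symm hL'
  refine ⟨h0, h1, ?_, ?_, ?_, ?_⟩
  · intro hn
    rw [hcoh, (h0_h1_of_deg_pos k hdim h0 hg (inv P) hL' n (by omega) hdegL').1, hn]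
  · intro hn
    rw [hcoh, (h0_h1_of_deg_pos k hdim h0 hg (inv P) hL' n (by omega) hdegL').1]
  · intro hn
    haveI : Module.Finite k (Coh.HH X L 1) :=
      Groth.Agent.Lib.T2H6.EulerField.finite_HH k X L
        (Groth.Agent.Lib.T2H6.CurveDeg.isCoh_of_isInvertible L hLinv) 1
    apply (Module.finrank_zero_iff (R := k)).1
    rw [hcoh, (h0_h1_of_deg_pos k hdim h0 hg (inv P) hL' n hn hdegL').2]
  · intro hn
    suffices hgg : Curv2.IsGloballyGenerated (inv P) by
      obtain ⟨ι, q, hq⟩ := hgg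
      exact ⟨ι, q ≫ eL.inv, epi_comp _ _⟩
    apply Groth.Agent.Lib.Helper23.LocGen.isGloballyGenerated_of_locGen
    intro x
    by_cases hx : x = p
    · -- at `p`: `h⁰` drops
      have hMN : PicF.IsInvertible (CohB1.tensorMod (inv P) (ClSub.idealMod (ptIdeal p hp))) :=
        Groth.Agent.Lib.Helper23.SecTw.isInvertible_tensorMod hL' hN
      have hdegMN : Curv2.deg k X (CohB1.tensorMod (inv P) (ClSub.idealMod (ptIdeal p hp))) 1 =
          ((n - 1 : ℕ) : ℤ) := by
        rw [Groth.Agent.Lib.T2H6.PtTwistD.deg_tensor1 k hdim _ _ hL' hN, hdegL', hdegN]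
        push_cast [Nat.cast_sub (by omega : 1 ≤ n)]
        ring
      have ha := (h0_h1_of_deg_pos k hdim h0 hg _ hMN (n - 1) (by omega) hdegMN).1
      have hb := (h0_h1_of_deg_pos k hdim h0 hg (inv P) hL' n (by omega) hdegL').1
      obtain ⟨s, hs⟩ := (Groth.Agent.Lib.T2H6.PtTwistF.exists_mem_genLocus_iff' k hdim p hp hrat
        (inv P) hL').2 (by rw [ha, hb]; omega)
      exact ⟨_, hx ▸ hs, Groth.Agent.Lib.Helper23.LocGen.locGen_genLocus _ s⟩
    · haveI : Mono (ClSub.idealModι ((ptIdeal p hp) ^ n)) := inferInstanceAs (Mono (kernel.ι _))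
      refine ⟨_, ?_, Groth.Agent.Lib.Helper23.LocGen.locGen_genLocus _
        (dualSec hP (ClSub.idealModι ((ptIdeal p hp) ^ n)))⟩
      apply mem_genLocus_dualSec
      intro hza
      have h2 := support_cokernel_idealModι_subset ((ptIdeal p hp) ^ n) hza
      rw [Scheme.IdealSheafData.support_pow _ n (by omega), coe_support_ptIdeal] at h2
      exact hx h2

end Groth.Agent.Lib.T2H9.GenusOneTw
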