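import Mathlib
import Groth.Prelude.Def_Curv2
import Groth.Agent.Lib.T2H9GenusOneTw
import Groth.Agent.Lib.T2H9DegMorD

/-!
# T2H9GenusOneGG (helper9): base points of invertible modules of degree ≥ 2 on genus-one curves are singular
-/

set_option autoImplicit false
set_option linter.style.haveILetI false
set_option linter.unusedSectionVars false
universe u

open AlgebraicGeometry CategoryTheory Limits TopologicalSpace Opposite

namespace Groth.Agent.Lib.T2H9.GenusOneGG

open Groth.Agent.Lib.T2H6.PtTwistA Groth.Agent.Lib.T2H5.Twist Groth.Agent.Lib.T2H9.TensorInv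
  Groth.Agent.Lib.T2H6.TensorPows Groth.Agent.Lib.T2H9.RatPt Groth.Agent.Lib.T2H9.IdealProd
  Groth.Agent.Lib.T2H9.GenusOne Groth.Agent.Lib.T2H9.GenusOneTw

attribute [local instance] Curv2.resAlgebra

variable (k : Type u) [Field k] {X : Scheme.{u}} [X.Over (Spec (CommRingCat.of k))]
  [IsProper (X ↘ Spec (CommRingCat.of k))] [IsIntegral X]

/-- `h⁰(M) ≤ h⁰(O)` in degree `≤ 0` -/
theorem h0_le_of_deg_nonpos (hdim : topologicalKrullDim X = 1) (M : X.Modules) (hM : PicF.IsInvertible M)
    (hdeg : Curv2.deg k X M 1 ≤ 0) :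
    Module.finrank k (Coh.HH X M 0) ≤ Module.finrank k (Coh.HH X (Coh.structureModule X) 0) := by
  by_cases hnt : Nontrivial (Coh.HH X M 0)
  · obtain ⟨s, hs⟩ := Groth.Agent.Lib.T2H6.CurveRR.exists_section_ne_zero _ hnt
    haveI := Groth.Agent.Lib.T2H6.CurveDeg.isIso_of_deg_nonpos k hdim M hM s hs hdeg
    rw [Groth.Agent.Lib.T2H6.FieldBC.finrank_HH_eq_of_iso k X (asIso s) 0]
  · rw [not_nontrivial_iff_subsingleton] at hnt
    rw [Module.finrank_zero_of_subsingleton]
    exact Nat.zero_le _

/-- genus one forces `h⁰(O) = 1` -/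
theorem finrank_hh0_eq_one_of_genus_one (hg : Curv2.genus k X = 1) :
    Module.finrank k (Coh.HH X (Coh.structureModule X) 0) = 1 := by
  apply Nat.dvd_one.1
  have hg' : Module.finrank k (Coh.HH X (Coh.structureModule X) 1) = 1 := hg
  rw [← hg']
  exact Groth.Agent.Lib.T2H9.Tower.finrank_hh0_dvd k X _ 1

/-- **S16299** -/
theorem exists_section_mem_genLocus (hdim : topologicalKrullDim X = 1) (hg : Curv2.genus k X = 1)
    (L : X.Modules) (hL : PicF.IsInvertible L) (hdeg : 2 ≤ Curv2.deg k X L 1)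
    (x : X) (hx : IsRegularLocalRing (X.presheaf.stalk x)) :
    ∃ s : Coh.structureModule X ⟶ L, x ∈ CohB1.genLocus L s := by
  haveI := Groth.Agent.Lib.T2H6.CurveDeg.isLocallyNoetherian (X := X) k
  have hO := Groth.Agent.Lib.Helper23.TensorUnit.isInvertible_structureModule X
  have h0 := finrank_hh0_eq_one_of_genus_one k hg
  -- `h⁰(L) = deg L`
  obtain ⟨d, hd⟩ : ∃ d : ℕ, Curv2.deg k X L 1 = d := ⟨(Curv2.deg k X L 1).toNat, by
    rw [Int.toNat_of_nonneg (by linarith)]⟩
  have hd2 : 2 ≤ d := by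
    have : (2 : ℤ) ≤ (d : ℤ) := by rw [← hd]; exact hdeg
    exact_mod_cast this
  have hL0 := (h0_h1_of_deg_pos k hdim h0 hg L hL d (by omega) hd).1
  rcases Groth.Agent.Lib.T2H9.DegMor.isClosed_or_eq_genericPoint hdim.le x with hxc | hxg
  · -- closed regular point
    have hd1 := Groth.Agent.Lib.T2H9.DVRSmooth.ringKrullDim_stalk_eq_one_of_isClosed X hdim x hxc
    have hdvr : IsDiscreteValuationRing (X.presheaf.stalk x) :=
      ((Groth.Agent.Lib.Helper19.isDiscreteValuationRing_iff_regular_dim_one _).2 ⟨hx, hd1⟩).2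
    have hN : PicF.IsInvertible (ClSub.idealMod (ptIdeal x hxc)) :=
      Groth.Agent.Lib.T2H6.PtTwistD.isInvertible_idealMod_ptIdeal X hdim x hxc hdvr
    have hdegN := Groth.Agent.Lib.T2H9.PtDeg.deg_idealMod_ptIdeal k x hxc
    haveI := Groth.Agent.Lib.T2H6.ResFinite.finite_residueField k X x hxc
    have hpos : 0 < Module.finrank k (X.residueField x) := Module.finrank_pos
    set M := CohB1.tensorMod (ClSub.idealMod (ptIdeal x hxc)) L with hMdef
    have hM : PicF.IsInvertible M := Groth.Agent.Lib.Helper23.SecTw.isInvertible_tensorMod hN hL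
    have hdegM : Curv2.deg k X M 1 = (d : ℤ) - (Module.finrank k (X.residueField x) : ℤ) := by
      rw [hMdef, Groth.Agent.Lib.T2H6.PtTwistD.deg_tensor1 k hdim _ _ hN hL, hdegN, hd]; ring
    have hlt : Module.finrank k (Coh.HH X M 0) < d := by
      by_cases hc : Module.finrank k (X.residueField x) < d
      · have hdegM' : Curv2.deg k X M 1 = ((d - Module.finrank k (X.residueField x) : ℕ) : ℤ) := by
          rw [hdegM, Nat.cast_sub hc.le]
        rw [(h0_h1_of_deg_pos k hdim h0 hg M hM _ (by omega) hdegM').1]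
        omega
      · have hle : Curv2.deg k X M 1 ≤ 0 := by
          rw [hdegM]
          have : (d : ℤ) ≤ (Module.finrank k (X.residueField x) : ℤ) := by exact_mod_cast not_lt.1 hc
          linarith
        have := h0_le_of_deg_nonpos k hdim M hM hle
        rw [h0] at this
        omega
    by_contra hcon
    push Not at hcon
    have e : CohB1.tensorMod (Coh.structureModule X) L ≅ L :=
      Groth.Agent.Lib.Helper23.TensorUnit.unitTensorIso L
    have hall : ∀ s₀ : Coh.structureModule X ⟶ CohB1.tensorMod (Coh.structureModule X) L,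
        x ∉ CohB1.genLocus _ s₀ := by
      intro s₀ hs₀
      apply hcon (s₀ ≫ e.hom)
      rw [Groth.Agent.Lib.Helper23.AmpleIso.genLocus_comp_iso e s₀]
      exact hs₀
    have hst := Groth.Agent.Lib.T2H6.PtTwistF.stay_all k x hxc L hL hall
    rw [Groth.Agent.Lib.T2H6.FieldBC.finrank_HH_eq_of_iso k X e 0, hL0] at hst
    have hlt' : Module.finrank k (Coh.HH X (CohB1.tensorMod (ClSub.idealMod (ptIdeal x hxc)) L) 0) < d := hlt
    omega
  · -- the generic point
    have hnt : Nontrivial (Coh.HH X L 0) :=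
      Module.nontrivial_of_finrank_pos (R := k) (by omega)
    obtain ⟨s, hs⟩ := Groth.Agent.Lib.T2H6.CurveRR.exists_section_ne_zero _ hnt
    haveI : Mono s := Groth.Agent.Lib.T2H6.InvMono.mono_of_ne_zero hO hL s hs
    refine ⟨s, Groth.Agent.Lib.T2H9.P1Iso.mem_genLocus_of_notMem_support L hL s x ?_⟩
    rw [hxg]
    exact Groth.Agent.Lib.T2H6.CurveDeg.generic_notMem_support hO hL s hs

end Groth.Agent.Lib.T2H9.GenusOneGG
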