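import Mathlib
import Groth.Prelude.Def_Curv2
import Groth.Agent.Lib.T2H9RatPt
import Groth.Agent.Lib.T2H9VarSmRat
import Groth.Agent.Lib.Helper11SepPts
import Groth.Agent.Lib.Helper19ComplDVR

/-!
# T2H9RatPtB (helper9): over a separably closed field a geometrically integral proper curve of genus zero is `P^1`
-/

set_option autoImplicit false
set_option linter.style.haveILetI false
set_option linter.unusedSectionVars false
universe u

open AlgebraicGeometry CategoryTheory Limits TopologicalSpace Opposite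

namespace Groth.Agent.Lib.T2H9.RatPt

variable (k : Type u) [Field k] {X : Scheme.{u}} [X.Over (Spec (CommRingCat.of k))]

/-- over a separably closed field, a geometrically reduced scheme locally of finite type has a section through its
smooth locus -/
theorem exists_section_smoothLocus [IsSepClosed k] [Nonempty X]
    [LocallyOfFiniteType (X ↘ Spec (CommRingCat.of k))]
    [GeometricallyReduced (X ↘ Spec (CommRingCat.of k))] :
    ∃ s : Spec (CommRingCat.of k) ⟶ X, s ≫ (X ↘ Spec (CommRingCat.of k)) = 𝟙 _ ∧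
      pt k s ∈ (X ↘ Spec (CommRingCat.of k)).smoothLocus := by
  haveI : LocallyOfFinitePresentation (X ↘ Spec (CommRingCat.of k)) := inferInstance
  set V := (X ↘ Spec (CommRingCat.of k)).smoothLocus with hV
  have hd := Groth.Agent.Lib.T2H9.GeomRedSmooth.dense_smoothLocus k X
  obtain ⟨x, hx⟩ := hd.nonempty
  haveI : Smooth (V.ι ≫ (X ↘ Spec (CommRingCat.of k))) :=
    Groth.Agent.Lib.T2H9.GenSmooth.smooth_smoothLocus_ι_comp _
  let X' : Over (Spec (CommRingCat.of k)) := Over.mk (V.ι ≫ (X ↘ Spec (CommRingCat.of k)))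
  haveI : Smooth X'.hom := inferInstanceAs (Smooth (V.ι ≫ (X ↘ Spec (CommRingCat.of k))))
  obtain ⟨p, -⟩ := Groth.Agent.Lib.Helper11SepPts.exists_point_mem_open k k (X := X') ⊤ ⟨x, hx⟩ trivial
  have hw := Over.w p
  refine ⟨p.left ≫ V.ι, ?_, ?_⟩
  · rw [Category.assoc]
    refine hw.trans ?_
    change Spec.map (CommRingCat.ofHom (algebraMap k k)) = 𝟙 _
    rw [Algebra.algebraMap_self]
    exact Spec.map_id _
  · exact (p.left (IsLocalRing.closedPoint k)).2

end Groth.Agent.Lib.T2H9.RatPt

namespace Groth.Agent.Lib.T2H9.RatPt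

variable (k : Type u) [Field k] {X : Scheme.{u}} [X.Over (Spec (CommRingCat.of k))]

/-- **S7834**: over a separably closed field a geometrically integral proper curve of genus zero is `P^1` -/
theorem exists_iso_of_sepClosed [IsSepClosed k] [IsProper (X ↘ Spec (CommRingCat.of k))]
    [GeometricallyIntegral (X ↘ Spec (CommRingCat.of k))]
    (hdim : topologicalKrullDim X = 1) (hg : Curv2.genus k X = 0) :
    ∃ e : X ≅ CohB1.ProjSpace 1 k,
      e.hom ≫ CohB1.ProjSpace.toSpec 1 k = X ↘ (Spec (CommRingCat.of k)) := by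
  haveI : IsIntegral X :=
    GeometricallyIntegral.isIntegral_of_subsingleton (X ↘ Spec (CommRingCat.of k))
  haveI : GeometricallyReduced (X ↘ Spec (CommRingCat.of k)) := inferInstance
  haveI : LocallyOfFiniteType (X ↘ Spec (CommRingCat.of k)) := inferInstance
  obtain ⟨s, hs, hsm⟩ := exists_section_smoothLocus k (X := X)
  have hreg := Groth.Agent.Lib.T2H9.VarSmRat.isRegularLocalRing_stalk_of_mem_smoothLocus k X _ hsm
  have hd1 := Groth.Agent.Lib.T2H9.DVRSmooth.ringKrullDim_stalk_eq_one_of_isClosed X hdim _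
    (isClosed_pt k s hs)
  haveI := Groth.Agent.Lib.T2H6.CurveDeg.isLocallyNoetherian (X := X) k
  obtain ⟨_, hdvr⟩ := (Groth.Agent.Lib.Helper19.isDiscreteValuationRing_iff_regular_dim_one _).2
    ⟨hreg, hd1⟩
  have hOc : Coh.IsCoh (Coh.structureModule X) :=
    Groth.Agent.Lib.T2H5.GenIsoF.isCoh_structureModule
  haveI := Groth.Agent.Lib.T2H6.EulerField.finite_HH k X _ hOc 1
  have h1 : Subsingleton (Coh.HH X (Coh.structureModule X) 1) := Module.finrank_zero_iff.mp hg
  exact exists_iso_of_section k s hs hdim h1 hdvr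

end Groth.Agent.Lib.T2H9.RatPt
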