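import Mathlib
import Groth.Prelude.Def_Curv2
import Groth.Agent.Lib.T2H9RatPtB
import Groth.Agent.Lib.T2H6FieldBC2
import Groth.Agent.Lib.T2H6PosI
import Groth.Agent.Lib.Helper3FibDimBC
import Groth.Agent.Lib.Helper6SmRegSch3
import Groth.Agent.Lib.Helper20SmoothDescSch
import Groth.Agent.Lib.Helper6SepCl3
import Groth.Agent.Lib.T2H6GrothA
import Groth.Agent.Lib.T2H6VAmpleC

/-!
# T2H9GenusZeroA (helper9): a geometrically integral projective curve of arithmetic genus `≤ 0` is smooth,
and is `P^1` iff it has a rational point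
-/

set_option autoImplicit false
set_option linter.style.haveILetI false
set_option linter.unusedSectionVars false
universe u

open AlgebraicGeometry CategoryTheory Limits TopologicalSpace Opposite

namespace Groth.Agent.Lib.T2H9.GenusZero

variable (k : Type u) [Field k] (X : Scheme.{u}) [X.Over (Spec (CommRingCat.of k))]
  (K : Type u) [Field K] [Algebra k K]

/-- cohomology of the structure sheaf under field base change -/
theorem finrank_HH_structure_bc [QuasiCompact (X ↘ Spec (CommRingCat.of k))]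
    [IsSeparated (X ↘ Spec (CommRingCat.of k))] (i : ℕ) :
    letI : (Curv2.bc k X K).Over (Spec (CommRingCat.of K)) := ⟨Curv2.bcSnd k X K⟩
    Module.finrank K (Coh.HH (Curv2.bc k X K) (Coh.structureModule (Curv2.bc k X K)) i) =
      Module.finrank k (Coh.HH X (Coh.structureModule X) i) := by
  letI : (Curv2.bc k X K).Over (Spec (CommRingCat.of K)) := ⟨Curv2.bcSnd k X K⟩
  haveI : (Coh.structureModule X).IsQuasicoherent :=
    Groth.Agent.Lib.Helper23.Serre.isQuasicoherent_structureModule' X
  rw [← Groth.Agent.Lib.T2H6.FieldBC.finrank_HH_bc k X K (Coh.structureModule X) i]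
  exact (Groth.Agent.Lib.T2H6.FieldBC.finrank_HH_eq_of_iso K (Curv2.bc k X K)
    (Groth.Agent.Lib.Helper23.PB.pullbackUnitIso (Curv2.bcFst k X K)) i).symm

/-- geometrically integral proper schemes have only constant global functions -/
theorem finrank_hh0_eq_one [IsProper (X ↘ Spec (CommRingCat.of k))]
    [GeometricallyIntegral (X ↘ Spec (CommRingCat.of k))] :
    Module.finrank k (Coh.HH X (Coh.structureModule X) 0) = 1 := by
  letI : (Curv2.bc k X (AlgebraicClosure k)).Over (Spec (CommRingCat.of (AlgebraicClosure k))) :=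
    ⟨Curv2.bcSnd k X (AlgebraicClosure k)⟩
  haveI : GeometricallyIntegral (Curv2.bc k X (AlgebraicClosure k) ↘
      Spec (CommRingCat.of (AlgebraicClosure k))) :=
    inferInstanceAs (GeometricallyIntegral (pullback.snd _ _))
  haveI : IsIntegral (Curv2.bc k X (AlgebraicClosure k)) :=
    GeometricallyIntegral.isIntegral_of_subsingleton
      (Curv2.bc k X (AlgebraicClosure k) ↘ Spec (CommRingCat.of (AlgebraicClosure k)))
  haveI : IsProper (Curv2.bc k X (AlgebraicClosure k) ↘
      Spec (CommRingCat.of (AlgebraicClosure k))) :=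
    inferInstanceAs (IsProper (pullback.snd _ _))
  rw [← finrank_HH_structure_bc k X (AlgebraicClosure k) 0]
  exact Groth.Agent.Lib.T2H6.PosI.finrank_HH_zero_structureModule (AlgebraicClosure k) _

/-- a scheme over a perfect field isomorphic to `P^1` is smooth -/
theorem smooth_of_iso_P1 [PerfectField k] [LocallyOfFinitePresentation (X ↘ Spec (CommRingCat.of k))]
    (e : X ≅ CohB1.ProjSpace 1 k) : Smooth (X ↘ Spec (CommRingCat.of k)) := by
  rw [← Scheme.Hom.smoothLocus_eq_top_iff]
  ext x
  simp only [Opens.coe_top, Set.mem_univ, iff_true, SetLike.mem_coe]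
  rw [Groth.Agent.Lib.Helper6.SmRegSch3.mem_smoothLocus_iff_isRegularLocalRing k X _ x]
  haveI := Groth.Agent.Lib.T2H6.GSplit.hreg1 k (e.hom x)
  exact IsRegularLocalRing.of_ringEquiv (asIso (e.hom.stalkMap x)).commRingCatIsoToRingEquiv

/-- smoothness descends along a field extension -/
theorem smooth_of_smooth_bc [LocallyOfFinitePresentation (X ↘ Spec (CommRingCat.of k))]
    (h : Smooth (Curv2.bcSnd k X K)) : Smooth (X ↘ Spec (CommRingCat.of k)) := by
  rw [← Scheme.Hom.smoothLocus_eq_top_iff]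
  ext x
  simp only [Opens.coe_top, Set.mem_univ, iff_true, SetLike.mem_coe]
  obtain ⟨w, rfl⟩ := Groth.Agent.Lib.Helper6.SepCl.bcFst_surjective k X K x
  have hw : w ∈ (Curv2.bcSnd k X K).smoothLocus := by
    rw [Scheme.Hom.smoothLocus_eq_top]
    trivial
  exact Groth.Agent.Lib.Helper20.FlatDesc.formallySmooth_stalkMap_of_flat_baseChange
    (X ↘ Spec (CommRingCat.of k)) _ w hw

open Groth.Agent.Lib.Helper23.SecTw Groth.Agent.Lib.Helper6 in
/-- projective space over a ring has a section -/
theorem exists_section_Pn (R : Type u) [CommRing R] (n : ℕ) :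
    ∃ r : Spec (CommRingCat.of R) ⟶ CohB1.ProjSpace n R,
      r ≫ CohB1.ProjSpace.toSpec n R = 𝟙 _ := by
  have hO := Groth.Agent.Lib.Helper23.TensorUnit.isInvertible_structureModule
    (Spec (CommRingCat.of R))
  let sec : Fin (n + 1) → ProjUP.Γm (Coh.structureModule (Spec (CommRingCat.of R))) :=
    fun _ => sv (𝟙 (Coh.structureModule (Spec (CommRingCat.of R)))) ⊤
  have hgen : ProjUP.GeneratedBy _ sec := by
    refine Groth.Agent.Lib.T2H6.VAmple.generatedBy_of_cover _ sec (fun x => ⟨0, ?_⟩)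
    change x ∈ CohB1.genLocus _ (secHom _ (sv (𝟙 _) ⊤))
    rw [Groth.Agent.Lib.T2H6.VAmpleB.secHom_sv]
    exact Groth.Agent.Lib.T2H6.CurveDeg.mem_genLocus_of_isIso _ _ x
  obtain ⟨r, hr, -, -⟩ := Groth.Agent.Lib.T2H6.VAmpleC.exists_mor_Pn n (𝟙 (Spec (CommRingCat.of R)))
    _ hO sec hgen
  exact ⟨r, hr⟩

variable {X}

/-- **S11575** -/
theorem main [IsProper (X ↘ Spec (CommRingCat.of k))]
    [GeometricallyIntegral (X ↘ (Spec (CommRingCat.of k)))] (hdim : topologicalKrullDim X = 1)
    (hpa : 1 - Curv2.euler k X (Coh.structureModule X) ≤ 0) :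
    Smooth (X ↘ (Spec (CommRingCat.of k))) ∧
      ((∃ e : X ≅ CohB1.ProjSpace 1 k,
          e.hom ≫ CohB1.ProjSpace.toSpec 1 k = X ↘ (Spec (CommRingCat.of k))) ↔
        ∃ s : Spec (CommRingCat.of k) ⟶ X, s ≫ (X ↘ (Spec (CommRingCat.of k))) = 𝟙 _) := by
  haveI : IsIntegral X :=
    GeometricallyIntegral.isIntegral_of_subsingleton (X ↘ Spec (CommRingCat.of k))
  haveI : LocallyOfFiniteType (X ↘ Spec (CommRingCat.of k)) := inferInstance
  haveI : LocallyOfFinitePresentation (X ↘ Spec (CommRingCat.of k)) := inferInstance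
  have h0 := finrank_hh0_eq_one k X
  have hO := Groth.Agent.Lib.Helper23.TensorUnit.isInvertible_structureModule X
  haveI := Groth.Agent.Lib.T2H6.CurveRR.isQuasicoherent_of_isInvertible _ hO
  have hOe := Groth.Agent.Lib.T2H6.CurveRR.euler_eq_sub k hdim (Coh.structureModule X)
  rw [hOe, h0] at hpa
  have hg : Curv2.genus k X = 0 := by
    unfold Curv2.genus
    have : (Module.finrank k (Coh.HH X (Coh.structureModule X) 1) : ℤ) ≤ 0 := by
      push_cast at hpa
      linarith
    exact_mod_cast le_antisymm this (Int.natCast_nonneg _)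
  have hOc : Coh.IsCoh (Coh.structureModule X) :=
    Groth.Agent.Lib.T2H5.GenIsoF.isCoh_structureModule
  haveI := Groth.Agent.Lib.T2H6.EulerField.finite_HH k X _ hOc 1
  have h1 : Subsingleton (Coh.HH X (Coh.structureModule X) 1) := Module.finrank_zero_iff.mp hg
  -- base change to the algebraic closure
  let K := AlgebraicClosure k
  letI : (Curv2.bc k X K).Over (Spec (CommRingCat.of K)) := ⟨Curv2.bcSnd k X K⟩
  haveI : GeometricallyIntegral (Curv2.bc k X K ↘ Spec (CommRingCat.of K)) :=
    inferInstanceAs (GeometricallyIntegral (pullback.snd _ _))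
  haveI : IsProper (Curv2.bc k X K ↘ Spec (CommRingCat.of K)) :=
    inferInstanceAs (IsProper (pullback.snd _ _))
  have hdimK : topologicalKrullDim (Curv2.bc k X K) = 1 := by
    rw [← hdim]
    exact Groth.Agent.Lib.Helper3.FibDimBC.topologicalKrullDim_pullback_field k K
      (X ↘ Spec (CommRingCat.of k))
  have hgK : Curv2.genus K (Curv2.bc k X K) = 0 := by
    unfold Curv2.genus
    rw [finrank_HH_structure_bc k X K 1]
    exact hg
  obtain ⟨eK, -⟩ := Groth.Agent.Lib.T2H9.RatPt.exists_iso_of_sepClosed K hdimK hgK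
  haveI : LocallyOfFinitePresentation (Curv2.bc k X K ↘ Spec (CommRingCat.of K)) := inferInstance
  have hsmK : Smooth (Curv2.bc k X K ↘ Spec (CommRingCat.of K)) :=
    smooth_of_iso_P1 K (Curv2.bc k X K) eK
  have hsm : Smooth (X ↘ Spec (CommRingCat.of k)) := smooth_of_smooth_bc k X K hsmK
  refine ⟨hsm, ?_, ?_⟩
  · rintro ⟨e, he⟩
    obtain ⟨r, hr⟩ := exists_section_Pn k 1
    refine ⟨r ≫ e.inv, ?_⟩
    rw [Category.assoc, ← he, Iso.inv_hom_id_assoc]
    exact hr
  · rintro ⟨s, hs⟩
    have hsmp : Groth.Agent.Lib.T2H9.RatPt.pt k s ∈ (X ↘ Spec (CommRingCat.of k)).smoothLocus := by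
      rw [Scheme.Hom.smoothLocus_eq_top]
      trivial
    have hreg := Groth.Agent.Lib.T2H9.VarSmRat.isRegularLocalRing_stalk_of_mem_smoothLocus k X _ hsmp
    have hd1 := Groth.Agent.Lib.T2H9.DVRSmooth.ringKrullDim_stalk_eq_one_of_isClosed X hdim _
      (Groth.Agent.Lib.T2H9.RatPt.isClosed_pt k s hs)
    haveI := Groth.Agent.Lib.T2H6.CurveDeg.isLocallyNoetherian (X := X) k
    obtain ⟨_, hdvr⟩ := (Groth.Agent.Lib.Helper19.isDiscreteValuationRing_iff_regular_dim_one _).2
      ⟨hreg, hd1⟩
    exact Groth.Agent.Lib.T2H9.RatPt.exists_iso_of_section k s hs hdim h1 hdvr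

end Groth.Agent.Lib.T2H9.GenusZero
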