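import Mathlib
import Groth.Prelude.Def_Curv2
import Groth.Agent.Lib.Helper6BcRed5
import Groth.Agent.Lib.Helper6GeomComp3
import Groth.Agent.Lib.Helper4VarDim7

/-!
# Geometric integrality descends along dominant morphisms (helper9, S19514)
-/

set_option autoImplicit false
set_option linter.style.haveILetI false
set_option linter.unusedSectionVars false
universe u
open CategoryTheory CategoryTheory.Limits AlgebraicGeometry TensorProduct

namespace Groth.Agent.Lib.T2H9.GeomIntDom

variable (k : Type u) [Field k] (X Y : Scheme.{u}) [X.Over (Spec (CommRingCat.of k))]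
  [Y.Over (Spec (CommRingCat.of k))]

attribute [local instance] Curv2.resAlgebra Curv2.stalkAlgebra

/-- the stalk map of a `k`-morphism is compatible with the structure maps from `k` -/
theorem stalkMap_stalkMap (f : X ⟶ Y)
    (hf : f ≫ (Y ↘ Spec (CommRingCat.of k)) = X ↘ Spec (CommRingCat.of k)) (x : X) (c : k) :
    (f.stalkMap x).hom (Curv2.stalkMap k Y (f x) c) = Curv2.stalkMap k X x c := by
  change (f.stalkMap x).hom ((Y.presheaf.germ ⊤ (f x) trivial).hom
    ((Y ↘ Spec (CommRingCat.of k)).appTop.hom ((Scheme.ΓSpecIso (CommRingCat.of k)).inv.hom c))) =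
    (X.presheaf.germ ⊤ x trivial).hom
      ((X ↘ Spec (CommRingCat.of k)).appTop.hom ((Scheme.ΓSpecIso (CommRingCat.of k)).inv.hom c))
  rw [Scheme.Hom.germ_stalkMap_apply, ← hf, Scheme.Hom.comp_appTop]
  rfl

/-- geometric reducedness at a point passes to the image point, if the local ring there is a
field -/
theorem isGeomReducedAt_image (f : X ⟶ Y)
    (hf : f ≫ (Y ↘ Spec (CommRingCat.of k)) = X ↘ Spec (CommRingCat.of k)) (x : X)
    (hfield : IsField (Y.presheaf.stalk (f x))) (h : Curv2.IsGeomReducedAt k X x) :
    Curv2.IsGeomReducedAt k Y (f x) := by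
  haveI := (Groth.Agent.Lib.Helper6.BcRed.isGeomReducedAt_iff k X x).mp h
  letI : Field (Y.presheaf.stalk (f x)) := hfield.toField
  let φ : Y.presheaf.stalk (f x) →ₐ[k] X.presheaf.stalk x :=
    { (f.stalkMap x).hom with commutes' := fun c => stalkMap_stalkMap k X Y f hf x c }
  have hinj : Function.Injective φ := RingHom.injective φ.toRingHom
  haveI : Algebra.IsGeometricallyReduced k (Y.presheaf.stalk (f x)) :=
    Algebra.IsGeometricallyReduced.of_injective φ hinj
  exact Groth.Agent.Lib.Helper6.BcRed.isGeomReducedAt_of_isGeometricallyReduced_stalk k Y (f x)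

/-- separable closedness of `k` in the residue field passes to the image point -/
theorem sepClosed_image (f : X ⟶ Y)
    (hf : f ≫ (Y ↘ Spec (CommRingCat.of k)) = X ↘ Spec (CommRingCat.of k)) (x : X)
    (h : ∀ a : X.residueField x, IsSeparable k a →
      a ∈ Set.range (algebraMap k (X.residueField x))) :
    ∀ b : Y.residueField (f x), IsSeparable k b →
      b ∈ Set.range (algebraMap k (Y.residueField (f x))) := by
  intro b hb
  let φ : Y.residueField (f x) →ₐ[k] X.residueField x :=
    Groth.Agent.Lib.Helper4.VarDim.residueFieldAlgHom k f hf x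
  have hinj : Function.Injective φ := RingHom.injective φ.toRingHom
  obtain ⟨c, hc⟩ := h (φ b) (hb.map φ hinj)
  refine ⟨c, hinj ?_⟩
  rw [φ.commutes]
  exact hc

/-- **geometric integrality descends along a dominant `k`-morphism to an integral scheme** -/
theorem geometricallyIntegral_of_dominant [IsIntegral X] [IsIntegral Y] (f : X ⟶ Y)
    (hf : f ≫ (Y ↘ Spec (CommRingCat.of k)) = X ↘ Spec (CommRingCat.of k))
    (hdom : f (genericPoint X) = genericPoint Y)
    [GeometricallyIntegral (X ↘ Spec (CommRingCat.of k))] :
    GeometricallyIntegral (Y ↘ Spec (CommRingCat.of k)) := by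
  -- geometric irreducibility
  haveI hirr : GeometricallyIrreducible (Y ↘ Spec (CommRingCat.of k)) := by
    rw [Groth.Agent.Lib.Helper6.GeomComp.geometricallyIrreducible_iff_sepClosed_generic k Y]
    have h1 := (Groth.Agent.Lib.Helper6.GeomComp.geometricallyIrreducible_iff_sepClosed_generic
      k X).mp inferInstance
    have h2 := sepClosed_image k X Y f hf (genericPoint X) h1
    rw [hdom] at h2
    exact h2
  -- geometric reducedness
  haveI hred : GeometricallyReduced (Y ↘ Spec (CommRingCat.of k)) := by
    apply Groth.Agent.Lib.Helper6.BcRed5.geometricallyReduced_of_generic k Y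
    intro Z hZ η hη
    have hZuniv : Z = Set.univ := by
      have := irreducibleComponents_eq_singleton (X := Y)
      rw [this] at hZ
      exact hZ
    have hη' : η = genericPoint Y := by
      rw [hZuniv] at hη
      exact ((genericPoint_spec Y).eq hη).symm
    have hX : Curv2.IsGeomReducedAt k X (genericPoint X) := by
      intro k' _ _ x' _
      haveI : AlgebraicGeometry.IsReduced (Curv2.bc k X k') :=
        pullback_of_geometrically (GeometricallyReduced.geometrically_isReduced) k' _
      infer_instance
    have hfield : IsField (Y.presheaf.stalk (f (genericPoint X))) := by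
      rw [hdom]
      exact Field.toIsField Y.functionField
    have h3 := isGeomReducedAt_image k X Y f hf (genericPoint X) hfield hX
    rw [hdom, ← hη'] at h3
    exact h3
  exact GeometricallyIntegral.of_geometricallyReduced_of_geometricallyIrreducible _

end Groth.Agent.Lib.T2H9.GeomIntDom
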