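import Mathlib
import Groth.Prelude
import Groth.Agent.S7606
import Groth.Agent.Lib.Helper28RegDescent
import Groth.Agent.Lib.Helper19DiagDescent

set_option autoImplicit false
universe u
open CategoryTheory CategoryTheory.Limits AlgebraicGeometry TensorProduct

namespace Groth.Agent.Lib.T2H9.GeomRegDesc

section RingSide

variable (k A B : Type u) [Field k] [CommRing A] [CommRing B] [Algebra k A] [Algebra k B]
  [Algebra A B] [IsScalarTower k A B]

theorem isGeometricallyRegular_of_faithfullyFlat [Module.FaithfullyFlat A B]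
    (h : CAlg.IsGeometricallyRegular k B) : CAlg.IsGeometricallyRegular k A := by
  intro k' _ _ hfin
  have hB : IsRegularRing (k' ⊗[k] B) := h k' hfin
  have hB' : IsRegularRing (B ⊗[k] k') :=
    IsRegularRing.of_ringEquiv (Algebra.TensorProduct.comm k k' B).toRingEquiv
  let alg : Algebra (A ⊗[k] k') (B ⊗[k] k') :=
    (Algebra.TensorProduct.map (IsScalarTower.toAlgHom k A B) (AlgHom.id k k')).toRingHom.toAlgebra
  have tower : IsScalarTower A (A ⊗[k] k') (B ⊗[k] k') := by
    apply IsScalarTower.of_algebraMap_eq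
    intro a
    rw [RingHom.algebraMap_toAlgebra, Algebra.TensorProduct.algebraMap_apply,
      Algebra.TensorProduct.algebraMap_apply]
    simp
  have hpo : Algebra.IsPushout A B (A ⊗[k] k') (B ⊗[k] k') :=
    Algebra.IsPushout.tensorProduct_tensorProduct k k' A B (by
      ext x
      simp [RingHom.algebraMap_toAlgebra])
  have hpo' : Algebra.IsPushout A (A ⊗[k] k') B (B ⊗[k] k') := hpo.symm
  have hff : Module.FaithfullyFlat (A ⊗[k] k') (B ⊗[k] k') :=
    Groth.Agent.Lib.Helper19.DiagDescent.faithfullyFlat_of_isPushout (A := A) (B := A ⊗[k] k')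
      (A' := B) (B' := B ⊗[k] k')
  have hA' : IsRegularRing (A ⊗[k] k') :=
    Groth.Agent.Lib.Helper28.isRegularRing_of_faithfullyFlat (R := A ⊗[k] k') (S := B ⊗[k] k')
  exact IsRegularRing.of_ringEquiv (Algebra.TensorProduct.comm k A k').toRingEquiv

end RingSide

section SchemeSide

attribute [local instance] Curv2.stalkAlgebra

variable (k : Type u) [Field k] (X Y : Scheme.{u}) [X.Over (Spec (CommRingCat.of k))]
  [Y.Over (Spec (CommRingCat.of k))]

theorem stalkMap_comp (f : X ⟶ Y)
    (hf : f ≫ (Y ↘ (Spec (CommRingCat.of k))) = X ↘ (Spec (CommRingCat.of k))) (x : X) :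
    (f.stalkMap x).hom.comp (Curv2.stalkMap k Y (f.base x)) = Curv2.stalkMap k X x := by
  unfold Curv2.stalkMap Coh.toGlobal
  rw [← hf]
  rw [← RingHom.comp_assoc, ← RingHom.comp_assoc, ← CommRingCat.hom_comp,
    Scheme.Hom.germ_stalkMap]
  rfl

theorem isGeomRegularAt_of_flat [IsLocallyNoetherian X] [IsLocallyNoetherian Y] (f : X ⟶ Y)
    (hf : f ≫ (Y ↘ (Spec (CommRingCat.of k))) = X ↘ (Spec (CommRingCat.of k)))
    (x : X) (hflat : (f.stalkMap x).hom.Flat) (hx : Curv2.IsGeomRegularAt k X x) :
    Curv2.IsGeomRegularAt k Y (f.base x) := by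
  obtain ⟨hX1, hX2⟩ := Groth.Agent.S7606.result k X x
  obtain ⟨hY1, hY2⟩ := Groth.Agent.S7606.result k Y (f.base x)
  have hB : CAlg.IsGeometricallyRegular k (X.presheaf.stalk x) := hX2.mp (hX1.mp hx)
  refine hY1.mpr (hY2.mpr ?_)
  let alg : Algebra (Y.presheaf.stalk (f.base x)) (X.presheaf.stalk x) :=
    (f.stalkMap x).hom.toAlgebra
  have tower : IsScalarTower k (Y.presheaf.stalk (f.base x)) (X.presheaf.stalk x) := by
    apply IsScalarTower.of_algebraMap_eq
    intro a
    rw [RingHom.algebraMap_toAlgebra, RingHom.algebraMap_toAlgebra, RingHom.algebraMap_toAlgebra,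
      ← stalkMap_comp k X Y f hf x]
    rfl
  have hfl : Module.Flat (Y.presheaf.stalk (f.base x)) (X.presheaf.stalk x) := hflat
  have hloc : IsLocalHom (algebraMap (Y.presheaf.stalk (f.base x)) (X.presheaf.stalk x)) := by
    rw [RingHom.algebraMap_toAlgebra]
    infer_instance
  have hff : Module.FaithfullyFlat (Y.presheaf.stalk (f.base x)) (X.presheaf.stalk x) :=
    Module.FaithfullyFlat.of_flat_of_isLocalHom
  exact isGeometricallyRegular_of_faithfullyFlat k (Y.presheaf.stalk (f.base x))
    (X.presheaf.stalk x) hB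

end SchemeSide

end Groth.Agent.Lib.T2H9.GeomRegDesc
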