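import Mathlib
import Groth.Prelude.Def_Curv2
import Groth.Agent.Lib.Helper28RegLoc
import Groth.Agent.Lib.Helper2NoethDesc

/-!
# Geometric regularity descends along base field extensions (helper9, S7607)

Variant of helper6's `BcTrans.descend_of_bc` where only finitely generated field extensions are
allowed: the auxiliary field is the residue field of a prime of `k' ⊗ K`, which is finitely
generated over `k'` as soon as `K` is finitely generated over `k`.
-/

set_option autoImplicit false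
set_option linter.style.haveILetI false
set_option linter.unusedSectionVars false
universe u
open CategoryTheory CategoryTheory.Limits AlgebraicGeometry TensorProduct

namespace Groth.Agent.Lib.T2H9.GeomRegFG

/-- regularity descends along flat local homomorphisms (no Noetherian hypothesis on the source) -/
theorem isRegularLocalRing_of_flat (A B : Type u) [CommRing A] [CommRing B] [IsLocalRing A]
    [IsLocalRing B] (f : A →+* B) [IsLocalHom f] (hf : f.Flat) (hB : IsRegularLocalRing B) :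
    IsRegularLocalRing A := by
  algebraize [f]
  haveI : IsLocalHom (algebraMap A B) := by rwa [RingHom.algebraMap_toAlgebra]
  haveI : Module.FaithfullyFlat A B := Module.FaithfullyFlat.of_flat_of_isLocalHom
  haveI : IsNoetherianRing A :=
    Groth.Agent.Lib.Helper2.NoethDesc.isNoetherianRing_of_faithfullyFlat (R := A) (S := B)
  exact Groth.Agent.Lib.Helper28.isRegularLocalRing_of_flat_of_isLocalHom A B

variable (k : Type u) [Field k] (X : Scheme.{u}) [X.Over (Spec (CommRingCat.of k))]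
  (k' : Type u) [Field k'] [Algebra k k'] (x' : Curv2.bc k X k')

theorem descend_fg
    (h : @Curv2.IsGeomRegularAt k' _ (Curv2.bc k X k') ⟨Curv2.bcSnd k X k'⟩ x') :
    Curv2.IsGeomRegularAt k X (Curv2.bcFst k X k' x') := by
  letI : (Curv2.bc k X k').Over (Spec (CommRingCat.of k')) := ⟨Curv2.bcSnd k X k'⟩
  intro K _ _ hK y hxy
  obtain ⟨w, hw1, hw2⟩ := Scheme.Pullback.exists_preimage_pullback
    (f := Curv2.bcFst k X K) (g := Curv2.bcFst k X k') y x' hxy
  -- squares
  have hY2 : Curv2.bcFst k X k' ≫ (X ↘ Spec (CommRingCat.of k)) =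
      Curv2.bcSnd k X k' ≫ Spec.map (CommRingCat.ofHom (algebraMap k k')) := pullback.condition
  have hY1 : Curv2.bcFst k X K ≫ (X ↘ Spec (CommRingCat.of k)) =
      Curv2.bcSnd k X K ≫ Spec.map (CommRingCat.ofHom (algebraMap k K)) := pullback.condition
  have hWc : pullback.fst (Curv2.bcFst k X K) (Curv2.bcFst k X k') ≫ Curv2.bcFst k X K =
      pullback.snd (Curv2.bcFst k X K) (Curv2.bcFst k X k') ≫ Curv2.bcFst k X k' :=
    pullback.condition
  -- the map to `Spec (k' ⊗ K)`
  have hcond : (pullback.snd (Curv2.bcFst k X K) (Curv2.bcFst k X k') ≫ Curv2.bcSnd k X k') ≫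
      Spec.map (CommRingCat.ofHom (algebraMap k k')) =
      (pullback.fst (Curv2.bcFst k X K) (Curv2.bcFst k X k') ≫ Curv2.bcSnd k X K) ≫
      Spec.map (CommRingCat.ofHom (algebraMap k K)) := by
    rw [Category.assoc, Category.assoc, ← hY2, ← hY1, reassoc_of% hWc]
  let τ : pullback (Curv2.bcFst k X K) (Curv2.bcFst k X k') ⟶
      Spec (CommRingCat.of (k' ⊗[k] K)) :=
    pullback.lift _ _ hcond ≫ (pullbackSpecIso k k' K).hom
  have hτ1 : τ ≫ Spec.map (CommRingCat.ofHom
      (Algebra.TensorProduct.includeLeftRingHom : k' →+* k' ⊗[k] K)) =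
      pullback.snd (Curv2.bcFst k X K) (Curv2.bcFst k X k') ≫ Curv2.bcSnd k X k' := by
    simp only [τ, Category.assoc, pullbackSpecIso_hom_fst, pullback.lift_fst]
  have hτ2 : τ ≫ Spec.map (CommRingCat.ofHom
      (Algebra.TensorProduct.includeRight : K →ₐ[k] k' ⊗[k] K).toRingHom) =
      pullback.fst (Curv2.bcFst k X K) (Curv2.bcFst k X k') ≫ Curv2.bcSnd k X K := by
    simp only [τ, Category.assoc]
    erw [pullbackSpecIso_hom_snd]
    rw [pullback.lift_snd]
  -- the prime and its residue field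
  let 𝔮 : PrimeSpectrum (k' ⊗[k] K) := τ w
  let Ω : Type u := 𝔮.asIdeal.ResidueField
  letI : Algebra k' Ω := ((algebraMap (k' ⊗[k] K) Ω).comp
    (Algebra.TensorProduct.includeLeftRingHom : k' →+* k' ⊗[k] K)).toAlgebra
  letI : Algebra K Ω := ((algebraMap (k' ⊗[k] K) Ω).comp
    (Algebra.TensorProduct.includeRight : K →ₐ[k] k' ⊗[k] K).toRingHom).toAlgebra
  haveI : IsScalarTower k' (k' ⊗[k] K) Ω := IsScalarTower.of_algebraMap_eq fun _ => rfl
  -- `Ω` is finitely generated over `k'`
  have hΩ : (⊤ : IntermediateField k' Ω).FG := by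
    haveI : Algebra.EssFiniteType k K := IntermediateField.fg_top_iff.mp hK
    haveI : Algebra.EssFiniteType k' (k' ⊗[k] K) := inferInstance
    haveI : Algebra.EssFiniteType k' Ω := Algebra.EssFiniteType.comp k' (k' ⊗[k] K) Ω
    exact IntermediateField.fg_top k' Ω
  let ρ : Spec (CommRingCat.of Ω) ⟶ Spec (CommRingCat.of (k' ⊗[k] K)) :=
    Spec.map (CommRingCat.ofHom (algebraMap (k' ⊗[k] K) Ω))
  let pt : Spec (CommRingCat.of Ω) := IsLocalRing.closedPoint Ω
  have hρ : ρ pt = τ w := by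
    refine PrimeSpectrum.ext ?_
    show Ideal.comap (algebraMap (k' ⊗[k] K) Ω) (IsLocalRing.maximalIdeal Ω) = 𝔮.asIdeal
    rw [IsLocalRing.maximalIdeal_eq_bot, ← RingHom.ker_eq_comap_bot,
      Ideal.ker_algebraMap_residueField]
  let a' : Spec (CommRingCat.of Ω) ⟶ Spec (CommRingCat.of k') :=
    Spec.map (CommRingCat.ofHom (algebraMap k' Ω))
  let a : Spec (CommRingCat.of Ω) ⟶ Spec (CommRingCat.of K) :=
    Spec.map (CommRingCat.ofHom (algebraMap K Ω))
  have ha' : a' = ρ ≫ Spec.map (CommRingCat.ofHom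
      (Algebra.TensorProduct.includeLeftRingHom : k' →+* k' ⊗[k] K)) := by
    rw [← Spec.map_comp, ← CommRingCat.ofHom_comp]
  have ha : a = ρ ≫ Spec.map (CommRingCat.ofHom
      (Algebra.TensorProduct.includeRight : K →ₐ[k] k' ⊗[k] K).toRingHom) := by
    rw [← Spec.map_comp, ← CommRingCat.ofHom_comp]
  have hcomp : a' ≫ Spec.map (CommRingCat.ofHom (algebraMap k k')) =
      a ≫ Spec.map (CommRingCat.ofHom (algebraMap k K)) := by
    rw [← Spec.map_comp, ← Spec.map_comp, ← CommRingCat.ofHom_comp, ← CommRingCat.ofHom_comp]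
    congr 2
    ext c
    show algebraMap (k' ⊗[k] K) Ω ((algebraMap k k' c) ⊗ₜ[k] (1 : K)) =
      algebraMap (k' ⊗[k] K) Ω ((1 : k') ⊗ₜ[k] (algebraMap k K c))
    congr 1
    rw [Algebra.algebraMap_eq_smul_one, Algebra.algebraMap_eq_smul_one, TensorProduct.smul_tmul]
  -- a point of `W ×_{Spec (k' ⊗ K)} Spec Ω`
  obtain ⟨z', hz'1, hz'2⟩ := Scheme.Pullback.exists_preimage_pullback (f := τ) (g := ρ) w pt
    hρ.symm
  -- the second base change
  let Z := Curv2.bc k' (Curv2.bc k X k') Ω
  have hZ : Curv2.bcFst k' (Curv2.bc k X k') Ω ≫ Curv2.bcSnd k X k' =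
      Curv2.bcSnd k' (Curv2.bc k X k') Ω ≫ Spec.map (CommRingCat.ofHom (algebraMap k' Ω)) :=
    pullback.condition
  let m : pullback τ ρ ⟶ Z :=
    pullback.lift (pullback.fst τ ρ ≫ pullback.snd (Curv2.bcFst k X K) (Curv2.bcFst k X k'))
      (pullback.snd τ ρ) (by
        show _ = pullback.snd τ ρ ≫ a'
        rw [ha', ← pullback.condition_assoc, hτ1, Category.assoc]
        rfl)
  have hm1 : m ≫ Curv2.bcFst k' (Curv2.bc k X k') Ω =
      pullback.fst τ ρ ≫ pullback.snd (Curv2.bcFst k X K) (Curv2.bcFst k X k') :=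
    pullback.lift_fst _ _ _
  have hm2 : m ≫ Curv2.bcSnd k' (Curv2.bc k X k') Ω = pullback.snd τ ρ := pullback.lift_snd _ _ _
  let g : Z ⟶ Curv2.bc k X K :=
    pullback.lift (Curv2.bcFst k' (Curv2.bc k X k') Ω ≫ Curv2.bcFst k X k')
      (Curv2.bcSnd k' (Curv2.bc k X k') Ω ≫ a) (by
        rw [Category.assoc, Category.assoc, ← hcomp, hY2, reassoc_of% hZ])
  have hg1 : g ≫ Curv2.bcFst k X K =
      Curv2.bcFst k' (Curv2.bc k X k') Ω ≫ Curv2.bcFst k X k' := pullback.lift_fst _ _ _
  have hg2 : g ≫ Curv2.bcSnd k X K = Curv2.bcSnd k' (Curv2.bc k X k') Ω ≫ a :=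
    pullback.lift_snd _ _ _
  have hmg : m ≫ g = pullback.fst τ ρ ≫ pullback.fst (Curv2.bcFst k X K) (Curv2.bcFst k X k') := by
    apply pullback.hom_ext
    · rw [Category.assoc, hg1, reassoc_of% hm1, ← hWc]
      rfl
    · rw [Category.assoc, hg2, reassoc_of% hm2, ha, ← pullback.condition_assoc, hτ2]
      rfl
  -- `g` is flat
  have hA : IsPullback (Curv2.bcFst k' (Curv2.bc k X k') Ω) (Curv2.bcSnd k' (Curv2.bc k X k') Ω)
      (Curv2.bcSnd k X k') (Spec.map (CommRingCat.ofHom (algebraMap k' Ω))) :=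
    IsPullback.of_hasPullback _ _
  have hB : IsPullback (Curv2.bcFst k X k') (Curv2.bcSnd k X k') (X ↘ Spec (CommRingCat.of k))
      (Spec.map (CommRingCat.ofHom (algebraMap k k'))) := IsPullback.of_hasPullback _ _
  have hC : IsPullback (Curv2.bcFst k X K) (Curv2.bcSnd k X K) (X ↘ Spec (CommRingCat.of k))
      (Spec.map (CommRingCat.ofHom (algebraMap k K))) := IsPullback.of_hasPullback _ _
  have hAB := hA.paste_horiz hB
  have hbig : IsPullback (g ≫ Curv2.bcFst k X K) (Curv2.bcSnd k' (Curv2.bc k X k') Ω)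
      (X ↘ Spec (CommRingCat.of k)) (a ≫ Spec.map (CommRingCat.ofHom (algebraMap k K))) := by
    rw [hg1, ← hcomp]
    exact hAB
  have hG : IsPullback g (Curv2.bcSnd k' (Curv2.bc k X k') Ω) (Curv2.bcSnd k X K) a :=
    IsPullback.of_right hbig hg2 hC
  have hflat_a : Flat a := by
    rw [HasRingHomProperty.Spec_iff (P := @Flat), CommRingCat.hom_ofHom,
      RingHom.flat_algebraMap_iff]
    infer_instance
  have hflat_g : Flat g := MorphismProperty.of_isPullback (P := @Flat) hG.flip hflat_a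
  -- the point
  have hx''1 : Curv2.bcFst k' (Curv2.bc k X k') Ω (m z') = x' := by
    rw [← Scheme.Hom.comp_apply, hm1, Scheme.Hom.comp_apply, hz'1, hw2]
  have hx''2 : g (m z') = y := by
    rw [← Scheme.Hom.comp_apply, hmg, Scheme.Hom.comp_apply, hz'1, hw1]
  have hP := h Ω hΩ (m z') hx''1
  subst hx''2
  exact isRegularLocalRing_of_flat _ _ (g.stalkMap (m z')).hom (Flat.stalkMap g (m z')) hP

end Groth.Agent.Lib.T2H9.GeomRegFG
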