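import Groth.Agent.Lib.T2H9GluePair
import Mathlib.RingTheory.FiniteStability
import Mathlib.RingTheory.Localization.BaseChange
import Mathlib.RingTheory.RingHom.FinitePresentation
import Mathlib.RingTheory.RingHom.Etale
import Mathlib.RingTheory.Kaehler.TensorProduct

/-!
# Glueing pairs: finite presentation of a flat ring map

helper9 (team 2).
-/

set_option autoImplicit false
set_option linter.style.haveILetI false
set_option linter.unusedSectionVars false
universe u

namespace Groth.Agent.Lib.T2H9.GlueFP

open TensorProduct Groth.Agent.Lib.Helper16 Groth.Agent.Lib.T2H9.GluePair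

section KerFinite

variable {A S P PS B BS : Type u} [CommRing A] [CommRing S] [CommRing P] [CommRing PS]
  [CommRing B] [CommRing BS]
  [Algebra A S] [Algebra A P] [Algebra P PS] [Algebra S PS] [Algebra A PS]
  [IsScalarTower A P PS] [IsScalarTower A S PS] [Algebra.IsPushout A S P PS]
  [Algebra A B] [Algebra B BS] [Algebra S BS] [Algebra A BS]
  [IsScalarTower A B BS] [IsScalarTower A S BS] [Algebra.IsPushout A S B BS]

/-- If `B` is flat over `A`, `π : P → B` is a surjection from a finitely presented `A`-algebra
and the base change `B_S` is finitely presented over `S`, then the base change of the kernel of `π`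
to `P_S` is a finite `P_S`-module. -/
theorem finite_baseChange_ker_alg [Module.Flat A B] [Algebra.FinitePresentation A P]
    [Algebra.FinitePresentation S BS] (π : P →ₐ[A] B) (hπ : Function.Surjective π) :
    Module.Finite PS (PS ⊗[P] (RingHom.ker π.toRingHom : Ideal P)) := by
  set J : Ideal P := RingHom.ker π.toRingHom with hJ
  let ι : J →ₗ[P] P := Submodule.subtype J
  let ψ : PS ⊗[P] J →ₗ[PS] PS :=
    (TensorProduct.AlgebraTensorModule.rid P PS PS).toLinearMap ∘ₗ (ι.baseChange PS)
  have hψ_tmul : ∀ (x : PS) (j : J), ψ (x ⊗ₜ j) = algebraMap P PS j * x := by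
    intro x j
    simp [ψ, ι, Algebra.smul_def]
  -- injectivity
  let cJ := Algebra.IsPushout.cancelBaseChange A S P PS J
  let cP := Algebra.IsPushout.cancelBaseChange A S P PS P
  have hex : Function.Exact (ι.restrictScalars A) π.toLinearMap := by
    intro p
    constructor
    · intro h
      exact ⟨⟨p, h⟩, rfl⟩
    · rintro ⟨j, rfl⟩
      exact j.2
  have hfl : Function.Injective ((ι.restrictScalars A).lTensor S) :=
    LinearMap.lTensor_injective_of_exact_of_flat π.toLinearMap hπ (ι.restrictScalars A)
      Subtype.val_injective hex S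
  have hnat : ∀ w : S ⊗[A] J,
      ι.baseChange PS (cJ.symm w) = cP.symm ((ι.restrictScalars A).lTensor S w) := by
    intro w
    induction w using TensorProduct.induction_on with
    | zero => simp
    | tmul s j => simp [cJ, cP]
    | add x y hx hy => simp only [map_add, hx, hy]
  have hinj : Function.Injective ψ := by
    rw [injective_iff_map_eq_zero]
    intro z hz
    have h1 : ι.baseChange PS z = 0 := by
      have : (TensorProduct.AlgebraTensorModule.rid P PS PS) (ι.baseChange PS z) = 0 := hz
      exact (LinearEquiv.map_eq_zero_iff _).mp this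
    have h2 : z = cJ.symm (cJ z) := (cJ.symm_apply_apply z).symm
    rw [h2, hnat, LinearEquiv.map_eq_zero_iff] at h1
    have h3 : cJ z = 0 := hfl (by rw [h1, map_zero])
    exact (LinearEquiv.map_eq_zero_iff _).mp h3
  -- range
  have hrange : LinearMap.range ψ = J.map (algebraMap P PS) := by
    apply le_antisymm
    · rintro _ ⟨z, rfl⟩
      induction z using TensorProduct.induction_on with
      | zero => simp
      | tmul x j =>
        rw [hψ_tmul]
        exact Ideal.mul_mem_right _ _ (Ideal.mem_map_of_mem _ j.2)
      | add x y hx hy =>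
        rw [map_add]
        exact Ideal.add_mem _ hx hy
    · rw [Ideal.map, Ideal.span_le]
      rintro _ ⟨j, hj, rfl⟩
      exact ⟨(1 : PS) ⊗ₜ[P] (⟨j, hj⟩ : J), by rw [hψ_tmul, mul_one]⟩
  -- finite generation
  have hFG : (J.map (algebraMap P PS)).FG := by
    let e := Algebra.IsPushout.equiv A S P PS
    let eB := Algebra.IsPushout.equiv A S B BS
    haveI : Algebra.FinitePresentation S (S ⊗[A] B) := Algebra.FinitePresentation.equiv eB.symm
    let πS : S ⊗[A] P →ₐ[S] S ⊗[A] B := Algebra.TensorProduct.map (AlgHom.id S S) π
    have hsurj : Function.Surjective πS :=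
      Algebra.TensorProduct.map_surjective _ _ Function.surjective_id hπ
    have hK : (RingHom.ker πS.toRingHom).FG :=
      Algebra.FinitePresentation.ker_fG_of_surjective πS hsurj
    have hK' : RingHom.ker πS.toRingHom =
        J.map (Algebra.TensorProduct.includeRight : P →ₐ[A] S ⊗[A] P) := by
      have h := Algebra.TensorProduct.lTensor_ker (A := S) π hπ
      rw [hJ]
      exact h
    rw [hK'] at hK
    have hmap : J.map (algebraMap P PS) =
        (J.map (Algebra.TensorProduct.includeRight : P →ₐ[A] S ⊗[A] P)).map e.toRingEquiv.toRingHom := by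
      change _ = Ideal.map e.toRingEquiv.toRingHom
        (Ideal.map (Algebra.TensorProduct.includeRight : P →ₐ[A] S ⊗[A] P).toRingHom J)
      rw [Ideal.map_map]
      congr 1
      ext p
      simp [e, Algebra.IsPushout.equiv_tmul]
    rw [hmap]
    exact hK.map _
  haveI : Module.Finite PS (LinearMap.range ψ) := by
    rw [Module.Finite.iff_fg, hrange]
    exact hFG
  exact Module.Finite.equiv (LinearEquiv.ofInjective ψ hinj).symm

end KerFinite

section Main

attribute [local instance] Algebra.TensorProduct.rightAlgebra

variable {R R' : Type u} [CommRing R] [CommRing R'] [Algebra R R'] {f : R}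
variable {A B : Type u} [CommRing A] [Algebra R A] [CommRing B] [Algebra R B]

/-- the localization `P_g` as an algebra over `A_g` is a pushout -/
theorem isPushout_away {A P : Type u} [CommRing A] [CommRing P] [Algebra A P] (g : A) :
    letI : Algebra (Localization.Away g) (Localization.Away (algebraMap A P g)) :=
      (Localization.awayMap (algebraMap A P) g).toAlgebra
    ∃ (_ : IsScalarTower A (Localization.Away g) (Localization.Away (algebraMap A P g))),
      Algebra.IsPushout A (Localization.Away g) P (Localization.Away (algebraMap A P g)) := by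
  letI : Algebra (Localization.Away g) (Localization.Away (algebraMap A P g)) :=
    (Localization.awayMap (algebraMap A P) g).toAlgebra
  haveI t1 : IsScalarTower A (Localization.Away g) (Localization.Away (algebraMap A P g)) :=
    IsScalarTower.of_algebraMap_eq (fun a => by
      change _ = Localization.awayMap (algebraMap A P) g (algebraMap A (Localization.Away g) a)
      rw [Localization.awayMap, IsLocalization.Away.map, IsLocalization.map_eq]
      rfl)
  haveI hloc : IsLocalization (Algebra.algebraMapSubmonoid P (Submonoid.powers g))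
      (Localization.Away (algebraMap A P g)) := by
    rw [Algebra.algebraMapSubmonoid_powers]
    exact (inferInstance : IsLocalization.Away (algebraMap A P g)
      (Localization.Away (algebraMap A P g)))
  exact ⟨t1, (Algebra.isPushout_of_isLocalization (Submonoid.powers g) (Localization.Away g) P
    (Localization.Away (algebraMap A P g))).symm⟩

/-- **Finite presentation of a flat ring map along a glueing pair.** -/
theorem finitePresentation_of_loc_of_tensor (hq : EtGlue.QuotPowBijective R R' f) (φ : A →ₐ[R] B)
    (hflat : φ.toRingHom.Flat)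
    (h1 : (Localization.awayMap φ.toRingHom (algebraMap R A f)).FinitePresentation)
    (h2 : (Algebra.TensorProduct.map (AlgHom.id R R') φ).toRingHom.FinitePresentation) :
    φ.toRingHom.FinitePresentation := by
  classical
  have hft : φ.toRingHom.FiniteType := ringHom_finiteType_of_loc_of_tensor hq φ
    (RingHom.FiniteType.of_finitePresentation h1) (RingHom.FiniteType.of_finitePresentation h2)
  letI algAB : Algebra A B := φ.toRingHom.toAlgebra
  haveI hflat' : Module.Flat A B := hflat
  haveI hft' : Algebra.FiniteType A B := hft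
  obtain ⟨n, π, hπ⟩ := Algebra.FiniteType.iff_quotient_mvPolynomial''.mp hft'
  set g : A := algebraMap R A f with hg
  -- tensor side
  letI algA'T : Algebra (R' ⊗[R] A) (R' ⊗[R] B) :=
    (Algebra.TensorProduct.map (AlgHom.id R R') φ).toRingHom.toAlgebra
  letI algAT : Algebra A (R' ⊗[R] B) :=
    ((algebraMap B (R' ⊗[R] B)).comp φ.toRingHom).toAlgebra
  obtain ⟨t2, t3, hbc⟩ := isBaseChange_tensorMap (R' := R') φ
  haveI : Algebra.IsPushout A (R' ⊗[R] A) B (R' ⊗[R] B) := ⟨hbc⟩
  haveI : Algebra.FinitePresentation (R' ⊗[R] A) (R' ⊗[R] B) := h2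
  haveI fin2 : Module.Finite ((R' ⊗[R] A) ⊗[A] MvPolynomial (Fin n) A)
      (((R' ⊗[R] A) ⊗[A] MvPolynomial (Fin n) A) ⊗[MvPolynomial (Fin n) A]
        (RingHom.ker π.toRingHom : Ideal (MvPolynomial (Fin n) A))) :=
    finite_baseChange_ker_alg (S := R' ⊗[R] A) (PS := (R' ⊗[R] A) ⊗[A] MvPolynomial (Fin n) A)
      (BS := R' ⊗[R] B) π hπ
  -- localization side
  letI algLocB : Algebra (Localization.Away g) (Localization.Away (algebraMap A B g)) :=
    (Localization.awayMap (algebraMap A B) g).toAlgebra
  obtain ⟨tB, hpB⟩ := isPushout_away (A := A) (P := B) g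
  haveI := hpB
  haveI : Algebra.FinitePresentation (Localization.Away g) (Localization.Away (algebraMap A B g)) :=
    h1
  letI algLocP : Algebra (Localization.Away g)
      (Localization.Away (algebraMap A (MvPolynomial (Fin n) A) g)) :=
    (Localization.awayMap (algebraMap A (MvPolynomial (Fin n) A)) g).toAlgebra
  obtain ⟨tP, hpP⟩ := isPushout_away (A := A) (P := MvPolynomial (Fin n) A) g
  haveI := hpP
  haveI fin1' : Module.Finite (Localization.Away (algebraMap A (MvPolynomial (Fin n) A) g))
      ((Localization.Away (algebraMap A (MvPolynomial (Fin n) A) g)) ⊗[MvPolynomial (Fin n) A]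
        (RingHom.ker π.toRingHom : Ideal (MvPolynomial (Fin n) A))) :=
    finite_baseChange_ker_alg (S := Localization.Away g)
      (PS := Localization.Away (algebraMap A (MvPolynomial (Fin n) A) g))
      (BS := Localization.Away (algebraMap A B g)) π hπ
  haveI fin1 : Module.Finite (Localization.Away (algebraMap A (MvPolynomial (Fin n) A) g))
      (LocalizedModule (Submonoid.powers (algebraMap A (MvPolynomial (Fin n) A) g))
        (RingHom.ker π.toRingHom : Ideal (MvPolynomial (Fin n) A))) :=
    Module.Finite.equiv (LocalizedModule.equivTensorProduct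
      (Submonoid.powers (algebraMap A (MvPolynomial (Fin n) A) g))
      (RingHom.ker π.toRingHom : Ideal (MvPolynomial (Fin n) A))).symm
  -- glue
  have hqP : EtGlue.QuotPowBijective (MvPolynomial (Fin n) A)
      ((R' ⊗[R] A) ⊗[A] MvPolynomial (Fin n) A) (algebraMap A (MvPolynomial (Fin n) A) g) :=
    quotPow_tensor (MvPolynomial (Fin n) A) (quotPow_tensor A hq)
  have hfin : Module.Finite (MvPolynomial (Fin n) A)
      (RingHom.ker π.toRingHom : Ideal (MvPolynomial (Fin n) A)) :=
    module_finite_of_loc_of_tensor hqP _
  have hJ : (RingHom.ker π.toRingHom).FG := Module.Finite.iff_fg.mp hfin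
  exact Algebra.FinitePresentation.of_surjective hπ hJ

/-- **Formal unramifiedness of a ring map along a glueing pair.** -/
theorem formallyUnramified_of_loc_of_tensor (hq : EtGlue.QuotPowBijective R R' f) (φ : A →ₐ[R] B)
    (h1 : (Localization.awayMap φ.toRingHom (algebraMap R A f)).FormallyUnramified)
    (h2 : (Algebra.TensorProduct.map (AlgHom.id R R') φ).toRingHom.FormallyUnramified) :
    φ.toRingHom.FormallyUnramified := by
  letI algAB : Algebra A B := φ.toRingHom.toAlgebra
  set g : A := algebraMap R A f with hg
  -- tensor side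
  letI algA'T : Algebra (R' ⊗[R] A) (R' ⊗[R] B) :=
    (Algebra.TensorProduct.map (AlgHom.id R R') φ).toRingHom.toAlgebra
  letI algAT : Algebra A (R' ⊗[R] B) :=
    ((algebraMap B (R' ⊗[R] B)).comp φ.toRingHom).toAlgebra
  obtain ⟨t2, t3, hbc⟩ := isBaseChange_tensorMap (R' := R') φ
  haveI : Algebra.IsPushout A (R' ⊗[R] A) B (R' ⊗[R] B) := ⟨hbc⟩
  haveI hu2 : Algebra.FormallyUnramified (R' ⊗[R] A) (R' ⊗[R] B) := h2
  have hbcΩ := KaehlerDifferential.isBaseChange A (R' ⊗[R] A) B (R' ⊗[R] B)
  haveI : Subsingleton ((R' ⊗[R] A) ⊗[A] Ω[B⁄A]) := hbcΩ.equiv.toEquiv.subsingleton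
  -- localization side
  letI algLocB : Algebra (Localization.Away g) (Localization.Away (algebraMap A B g)) :=
    (Localization.awayMap (algebraMap A B) g).toAlgebra
  obtain ⟨tB, hpB⟩ := isPushout_away (A := A) (P := B) g
  haveI := hpB
  haveI hu1 : Algebra.FormallyUnramified (Localization.Away g)
      (Localization.Away (algebraMap A B g)) := h1
  have hbcΩ1 := KaehlerDifferential.isBaseChange A (Localization.Away g) B
    (Localization.Away (algebraMap A B g))
  haveI hlm : IsLocalizedModule (Submonoid.powers g)
      ((KaehlerDifferential.map A (Localization.Away g) B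
        (Localization.Away (algebraMap A B g))).restrictScalars A) :=
    (isLocalizedModule_iff_isBaseChange (Submonoid.powers g) (Localization.Away g) _).mpr hbcΩ1
  have hM : ∀ m : Ω[B⁄A], ∃ n : ℕ, g ^ n • m = 0 := by
    intro m
    have h0 : ((KaehlerDifferential.map A (Localization.Away g) B
        (Localization.Away (algebraMap A B g))).restrictScalars A) m =
        ((KaehlerDifferential.map A (Localization.Away g) B
        (Localization.Away (algebraMap A B g))).restrictScalars A) 0 := Subsingleton.elim _ _
    obtain ⟨⟨_, n, rfl⟩, hc⟩ := IsLocalizedModule.exists_of_eq (S := Submonoid.powers g) h0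
    refine ⟨n, ?_⟩
    rw [smul_zero] at hc
    exact hc
  have hqA := quotPow_tensor A hq
  haveI := subsingleton_of_torsion_of_tensor hqA hM
  exact ⟨this⟩

/-- **Etaleness of a ring map along a glueing pair.** -/
theorem etale_of_loc_of_tensor (hgp : EtGlue.IsGlueingPair R R' f)
    (hA : EtGlue.IsGlueable R R' f A) (φ : A →ₐ[R] B)
    (h1 : (Localization.awayMap φ.toRingHom (algebraMap R A f)).Etale)
    (h2 : (Algebra.TensorProduct.map (AlgHom.id R R') φ).toRingHom.Etale) :
    φ.toRingHom.Etale := by
  rw [RingHom.Etale.iff_flat_and_formallyUnramified] at h1 h2 ⊢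
  have hflat : φ.toRingHom.Flat :=
    flat_of_loc_of_tensor (isGlueingPair_tensor A hgp.1 hA) φ h1.1 h2.1
  exact ⟨hflat, formallyUnramified_of_loc_of_tensor hgp.1 φ h1.2.1 h2.2.1,
    finitePresentation_of_loc_of_tensor hgp.1 φ hflat h1.2.2 h2.2.2⟩

end Main

end Groth.Agent.Lib.T2H9.GlueFP
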