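import Groth.Agent.Lib.Helper16Flat
import Groth.Agent.Lib.Helper16FP
import Groth.Agent.S2004
import Groth.Agent.S2005
import Mathlib.RingTheory.RingHom.Flat

/-!
# Glueing pairs: base change to a glueable algebra

helper9 (team 2).  For a glueing pair `(R → R', f)` and a glueable `R`-algebra `A`, the pair
`(A → R' ⊗ A, f)` is again a glueing pair.
-/

set_option autoImplicit false
set_option linter.style.haveILetI false
set_option linter.unusedSectionVars false
universe u

namespace Groth.Agent.Lib.T2H9.GluePair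

open TensorProduct Groth.Agent.Lib.Helper16

attribute [local instance] Algebra.TensorProduct.rightAlgebra

section QuotPow

variable {R R' : Type u} [CommRing R] [CommRing R'] [Algebra R R'] {f : R}
variable (A : Type u) [CommRing A] [Algebra R A]

theorem includeRight_pow_mul (n : ℕ) (y : R' ⊗[R] A) :
    (algebraMap A (R' ⊗[R] A) (algebraMap R A f)) ^ n * y = f ^ n • y := by
  rw [← map_pow, ← map_pow, ← IsScalarTower.algebraMap_apply, ← Algebra.smul_def]

theorem quotPow_tensor (hq : EtGlue.QuotPowBijective R R' f) :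
    EtGlue.QuotPowBijective A (R' ⊗[R] A) (algebraMap R A f) := by
  intro n hn
  constructor
  · rw [injective_iff_map_eq_zero]
    intro x hx
    obtain ⟨a, rfl⟩ := Ideal.Quotient.mk_surjective x
    rw [Ideal.quotientMap_mk, Ideal.Quotient.eq_zero_iff_mem, Ideal.map_span, Set.image_singleton,
      Ideal.mem_span_singleton'] at hx
    obtain ⟨y, hy⟩ := hx
    rw [map_pow, mul_comm, includeRight_pow_mul] at hy
    rw [Ideal.Quotient.eq_zero_iff_mem]
    -- pass to the quotient module
    let I : Ideal A := Ideal.span {algebraMap R A f ^ n}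
    let π : A →ₗ[R] (A ⧸ I) := (Ideal.Quotient.mkₐ R I).toLinearMap
    have hM : ∀ m : A ⧸ I, ∃ k : ℕ, f ^ k • m = 0 := by
      intro m
      obtain ⟨a', rfl⟩ := Ideal.Quotient.mk_surjective m
      refine ⟨n, ?_⟩
      rw [← Ideal.Quotient.mkₐ_eq_mk R, ← map_smul, Ideal.Quotient.mkₐ_eq_mk,
        Ideal.Quotient.eq_zero_iff_mem, Algebra.smul_def, map_pow]
      exact Ideal.mul_mem_right _ _ (Ideal.mem_span_singleton_self _)
    have hkill : ∀ z : R' ⊗[R] (A ⧸ I), f ^ n • z = 0 := by
      intro z
      induction z using TensorProduct.induction_on with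
      | zero => simp
      | tmul r' m =>
        obtain ⟨a', rfl⟩ := Ideal.Quotient.mk_surjective m
        rw [TensorProduct.smul_tmul', TensorProduct.smul_tmul]
        have : f ^ n • (Ideal.Quotient.mk I a') = 0 := by
          rw [← Ideal.Quotient.mkₐ_eq_mk R, ← map_smul, Ideal.Quotient.mkₐ_eq_mk,
            Ideal.Quotient.eq_zero_iff_mem, Algebra.smul_def, map_pow]
          exact Ideal.mul_mem_right _ _ (Ideal.mem_span_singleton_self _)
        rw [this, TensorProduct.tmul_zero]
      | add x y hx hy => rw [smul_add, hx, hy, add_zero]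
    have h1 : (1 : R') ⊗ₜ[R] (π a) = 0 := by
      have := congrArg (π.lTensor R') hy
      rw [map_smul, hkill, Algebra.TensorProduct.right_algebraMap_apply,
        LinearMap.lTensor_tmul] at this
      exact this.symm
    have h2 := mk_one_injective_of_torsion hq hM (a₁ := π a) (a₂ := 0)
      (by rw [TensorProduct.mk_apply, h1, map_zero])
    exact Ideal.Quotient.eq_zero_iff_mem.mp h2
  · intro x
    obtain ⟨y, rfl⟩ := Ideal.Quotient.mk_surjective x
    induction y using TensorProduct.induction_on with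
    | zero => exact ⟨0, by simp⟩
    | tmul r' a =>
      obtain ⟨r, s', e⟩ := quotPow_surj hq hn r'
      refine ⟨Ideal.Quotient.mk _ (r • a), ?_⟩
      rw [Ideal.quotientMap_mk, Ideal.Quotient.eq, Ideal.map_span, Set.image_singleton,
        Ideal.mem_span_singleton']
      refine ⟨-(s' ⊗ₜ[R] a), ?_⟩
      rw [map_pow, mul_comm, includeRight_pow_mul, e, TensorProduct.add_tmul,
        Algebra.TensorProduct.right_algebraMap_apply, smul_neg, TensorProduct.smul_tmul',
        TensorProduct.tmul_smul, TensorProduct.smul_tmul', Algebra.smul_def]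
      rw [Algebra.smul_def, mul_one, map_pow]
      abel
    | add x y hx hy =>
      obtain ⟨a, ha⟩ := hx
      obtain ⟨b, hb⟩ := hy
      exact ⟨a + b, by rw [map_add, ha, hb, map_add]⟩

/-- A glueable algebra over a glueing pair gives a glueing pair. -/
theorem isGlueingPair_tensor (hq : EtGlue.QuotPowBijective R R' f)
    (hA : EtGlue.IsGlueable R R' f A) :
    EtGlue.IsGlueingPair A (R' ⊗[R] A) (algebraMap R A f) := by
  rw [Groth.Agent.S2004.result A (R' ⊗[R] A) (algebraMap R A f) (quotPow_tensor A hq)]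
  obtain ⟨h1, h2⟩ := (Groth.Agent.S2005.result R R' f hq A).1.mp hA
  constructor
  · rintro x ⟨n, hn⟩ hx
    refine h1 x ⟨n, ?_⟩ hx
    rw [Algebra.smul_def, map_pow]
    exact hn
  · rintro x' ⟨n, hn⟩
    rw [includeRight_pow_mul] at hn
    obtain ⟨m, ⟨k, hk⟩, hm⟩ := h2 x' ⟨n, hn⟩
    refine ⟨m, ⟨k, ?_⟩, hm⟩
    rw [← map_pow, ← Algebra.smul_def]
    exact hk

end QuotPow

section Pushout

variable {R R' : Type u} [CommRing R] [CommRing R'] [Algebra R R']
variable {A B : Type u} [CommRing A] [Algebra R A] [CommRing B] [Algebra R B]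

/-- For `φ : A → B` over `R`, `R' ⊗ B` is the base change of `B` along `A → R' ⊗ A`. -/
theorem isBaseChange_tensorMap (φ : A →ₐ[R] B) :
    letI : Algebra A B := φ.toRingHom.toAlgebra
    letI : Algebra (R' ⊗[R] A) (R' ⊗[R] B) :=
      (Algebra.TensorProduct.map (AlgHom.id R R') φ).toRingHom.toAlgebra
    letI : Algebra A (R' ⊗[R] B) :=
      ((algebraMap B (R' ⊗[R] B)).comp φ.toRingHom).toAlgebra
    ∃ (_ : IsScalarTower A B (R' ⊗[R] B)) (_ : IsScalarTower A (R' ⊗[R] A) (R' ⊗[R] B)),
      IsBaseChange (R' ⊗[R] A) (IsScalarTower.toAlgHom A B (R' ⊗[R] B)).toLinearMap := by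
  letI algAB : Algebra A B := φ.toRingHom.toAlgebra
  letI algA'T : Algebra (R' ⊗[R] A) (R' ⊗[R] B) :=
    (Algebra.TensorProduct.map (AlgHom.id R R') φ).toRingHom.toAlgebra
  letI algAT : Algebra A (R' ⊗[R] B) :=
    ((algebraMap B (R' ⊗[R] B)).comp φ.toRingHom).toAlgebra
  haveI t1 : IsScalarTower R A B := IsScalarTower.of_algebraMap_eq (fun r => (φ.commutes r).symm)
  haveI t2 : IsScalarTower A B (R' ⊗[R] B) := IsScalarTower.of_algebraMap_eq (fun _ => rfl)
  haveI t3 : IsScalarTower A (R' ⊗[R] A) (R' ⊗[R] B) := IsScalarTower.of_algebraMap_eq (fun a => by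
    change (1 : R') ⊗ₜ[R] φ a = Algebra.TensorProduct.map (AlgHom.id R R') φ ((1 : R') ⊗ₜ[R] a)
    simp)
  haveI t4 : IsScalarTower R (R' ⊗[R] A) (R' ⊗[R] B) := IsScalarTower.of_algebraMap_eq (fun r => by
    change algebraMap R (R' ⊗[R] B) r =
      Algebra.TensorProduct.map (AlgHom.id R R') φ (algebraMap R (R' ⊗[R] A) r)
    rw [AlgHom.commutes])
  haveI t5 : IsScalarTower R' (R' ⊗[R] A) (R' ⊗[R] B) := IsScalarTower.of_algebraMap_eq (fun r => by
    change r ⊗ₜ[R] (1 : B) = Algebra.TensorProduct.map (AlgHom.id R R') φ (r ⊗ₜ[R] (1 : A))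
    simp)
  refine ⟨t2, t3, ?_⟩
  have h : Algebra.IsPushout R B R' (R' ⊗[R] B) := TensorProduct.isPushout'
  have h' : Algebra.IsPushout A B (R' ⊗[R] A) (R' ⊗[R] B) :=
    (Algebra.IsPushout.comp_iff R A R' (R' ⊗[R] A)).mp h
  exact h'.symm.out

/-- The `A`-module `B_{φ g}` is flat over `A` when `A_g → B_{φ g}` is flat. -/
theorem flat_localizedModule_of_awayMap_flat (φ : A →ₐ[R] B) (g : A)
    (h1 : (Localization.awayMap φ.toRingHom g).Flat) :
    letI : Algebra A B := φ.toRingHom.toAlgebra
    Module.Flat A (LocalizedModule (Submonoid.powers g) B) := by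
  letI algAB : Algebra A B := φ.toRingHom.toAlgebra
  letI algLoc : Algebra (Localization.Away g) (Localization.Away (φ.toRingHom g)) :=
    (Localization.awayMap φ.toRingHom g).toAlgebra
  haveI hfl : Module.Flat (Localization.Away g) (Localization.Away (φ.toRingHom g)) := h1
  haveI t1 : IsScalarTower A (Localization.Away g) (Localization.Away (φ.toRingHom g)) :=
    IsScalarTower.of_algebraMap_eq (fun a => by
      change _ = Localization.awayMap φ.toRingHom g (algebraMap A (Localization.Away g) a)
      rw [Localization.awayMap, IsLocalization.Away.map, IsLocalization.map_eq]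
      rfl)
  haveI hflA : Module.Flat A (Localization.Away (φ.toRingHom g)) :=
    Module.Flat.trans A (Localization.Away g) (Localization.Away (φ.toRingHom g))
  haveI hloc : IsLocalization (Algebra.algebraMapSubmonoid B (Submonoid.powers g))
      (Localization.Away (φ.toRingHom g)) := by
    rw [Algebra.algebraMapSubmonoid_powers]
    exact (inferInstance : IsLocalization.Away (φ.toRingHom g) (Localization.Away (φ.toRingHom g)))
  haveI hlm : IsLocalizedModule (Submonoid.powers g)
      (IsScalarTower.toAlgHom A B (Localization.Away (φ.toRingHom g))).toLinearMap :=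
    isLocalizedModule_iff_isLocalization.mpr hloc
  exact Module.Flat.of_linearEquiv (IsLocalizedModule.iso (Submonoid.powers g)
    (IsScalarTower.toAlgHom A B (Localization.Away (φ.toRingHom g))).toLinearMap)

/-- **Flatness of a ring map along a glueing pair.** -/
theorem flat_of_loc_of_tensor {f : R}
    (hgp : EtGlue.IsGlueingPair A (R' ⊗[R] A) (algebraMap R A f)) (φ : A →ₐ[R] B)
    (h1 : (Localization.awayMap φ.toRingHom (algebraMap R A f)).Flat)
    (h2 : (Algebra.TensorProduct.map (AlgHom.id R R') φ).toRingHom.Flat) :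
    φ.toRingHom.Flat := by
  letI algAB : Algebra A B := φ.toRingHom.toAlgebra
  letI algA'T : Algebra (R' ⊗[R] A) (R' ⊗[R] B) :=
    (Algebra.TensorProduct.map (AlgHom.id R R') φ).toRingHom.toAlgebra
  letI algAT : Algebra A (R' ⊗[R] B) :=
    ((algebraMap B (R' ⊗[R] B)).comp φ.toRingHom).toAlgebra
  obtain ⟨t2, t3, hbc⟩ := isBaseChange_tensorMap (R' := R') φ
  haveI hfl2 : Module.Flat (R' ⊗[R] A) (R' ⊗[R] B) := h2
  haveI : Module.Flat (R' ⊗[R] A) ((R' ⊗[R] A) ⊗[A] B) := Module.Flat.of_linearEquiv hbc.equiv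
  have hloc := flat_localizedModule_of_awayMap_flat φ (algebraMap R A f) h1
  exact flat_of_glueingPair' hgp hloc

end Pushout

end Groth.Agent.Lib.T2H9.GluePair
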