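import Mathlib
import Groth.Prelude.Def_AssocGrMod
import Groth.Agent.Lib.Helper5NilFlat
import Groth.Agent.Lib.Helper5OpenFlat

/-!
# Flatness from injectivity of `gr_0(M) ⊗ gr(A) → gr(M)` for a nilpotent ideal (helper9)
-/

set_option autoImplicit false
universe u

namespace Groth.Agent.Lib.T2H9.GrFlat

open TensorProduct LinearMap

section

variable {A : Type u} [CommRing A]

theorem exists_fin_sum_tmul {P Q : Type u} [AddCommGroup P] [Module A P] [AddCommGroup Q]
    [Module A Q] (z : P ⊗[A] Q) :
    ∃ (k : ℕ) (a : Fin k → P) (x : Fin k → Q), z = ∑ i, a i ⊗ₜ[A] x i := by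
  induction z with
  | zero => exact ⟨0, Fin.elim0, Fin.elim0, by simp⟩
  | tmul p q => exact ⟨1, fun _ => p, fun _ => q, by simp⟩
  | add z w hz hw =>
    obtain ⟨k, a, x, rfl⟩ := hz
    obtain ⟨l, b, y, rfl⟩ := hw
    refine ⟨k + l, Fin.append a b, Fin.append x y, ?_⟩
    rw [Fin.sum_univ_add]
    simp only [Fin.append_left, Fin.append_right]

variable (I : Ideal A) (M : Type u) [AddCommGroup M] [Module A M]

/-- One step of the descending induction. -/
theorem step (J J' : Ideal A) (hJ : J' ≤ J) (hIJ : I * J ≤ J')
    {G : Type u} [AddCommGroup G] [Module A G] (q : ↥J →ₗ[A] G)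
    (hq : Function.Surjective q) (hker : ∀ a : ↥J, q a = 0 ↔ (a : A) ∈ J')
    (H : ∀ z : ↥J ⊗[A] M, (J.subtype.rTensor M) z = 0 →
      TensorProduct.map q (I • (⊤ : Submodule A M)).mkQ z = 0)
    (hJ' : Function.Injective (J'.subtype.rTensor M)) :
    Function.Injective (J.subtype.rTensor M) := by
  rw [injective_iff_map_eq_zero]
  intro z hz
  have h1 := H z hz
  have hex : Function.Exact (Submodule.inclusion hJ) q := by
    intro a
    rw [hker]
    constructor
    · intro ha
      exact ⟨⟨a, ha⟩, rfl⟩
    · rintro ⟨b, rfl⟩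
      exact b.2
  have hex' : Function.Exact (I • (⊤ : Submodule A M)).subtype (I • (⊤ : Submodule A M)).mkQ :=
    LinearMap.exact_subtype_mkQ _
  have hk := TensorProduct.map_ker hex hq hex' (Submodule.mkQ_surjective _)
  have hz' : z ∈ LinearMap.ker (TensorProduct.map q (I • (⊤ : Submodule A M)).mkQ) := h1
  rw [hk] at hz'
  have hle : LinearMap.range (lTensor (↥J) (I • (⊤ : Submodule A M)).subtype) ≤
      LinearMap.range (rTensor M (Submodule.inclusion hJ)) := by
    rintro _ ⟨w, rfl⟩
    induction w with
    | zero => simp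
    | add w w' hw hw' => rw [map_add]; exact Submodule.add_mem _ hw hw'
    | tmul a y =>
      obtain ⟨y, hy⟩ := y
      rw [lTensor_tmul, Submodule.subtype_apply]
      induction hy using Submodule.smul_induction_on' with
      | smul r hr m hm =>
        have hra : r * (a : A) ∈ J' := hIJ (Ideal.mul_mem_mul hr a.2)
        refine ⟨(⟨r * a, hra⟩ : ↥J') ⊗ₜ[A] m, ?_⟩
        rw [rTensor_tmul]
        have : Submodule.inclusion hJ ⟨r * a, hra⟩ = r • a := Subtype.ext rfl
        rw [this, TensorProduct.smul_tmul]
      | add x hx y hy hx' hy' =>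
        rw [TensorProduct.tmul_add]
        exact Submodule.add_mem _ hx' hy'
  rw [sup_eq_right.mpr hle] at hz'
  obtain ⟨w, rfl⟩ := hz'
  have hw : (J'.subtype.rTensor M) w = 0 := by
    rw [← hz, ← LinearMap.comp_apply, ← LinearMap.rTensor_comp]
    rfl
  rw [hJ' (hw.trans (map_zero _).symm), map_zero]

end

end Groth.Agent.Lib.T2H9.GrFlat

namespace Groth.Agent.Lib.T2H9.GrFlat

open TensorProduct LinearMap

theorem main {A : Type u} [CommRing A] (I : Ideal A)
    (hI : IsNilpotent I) (M : Type u) [AddCommGroup M] [Module A M]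
    (hflat : Module.Flat (A ⧸ I) (M ⧸ (I • (⊤ : Submodule A M))))
    (hinj : ∀ (n k : ℕ) (a : Fin k → ↥((FiltBl.IdealFiltration.adic I).F n))
      (x : Fin k → ↥((Rees.powFilt I M).N 0)),
      (∑ i, (AssocGr.inDeg (FiltBl.IdealFiltration.adic I) n (a i) :
          AssocGr.GrRing (FiltBl.IdealFiltration.adic I)) •
        (AssocGr.inDegM (Rees.powFilt I M) 0 (x i) : AssocGr.GrMod (Rees.powFilt I M))) = 0 →
      (∑ i, (AssocGr.inDeg (FiltBl.IdealFiltration.adic I) n (a i)) ⊗ₜ[A]
          (Submodule.Quotient.mk (x i : M)) :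
        ↥(AssocGr.gr (FiltBl.IdealFiltration.adic I) n) ⊗[A] (M ⧸ (I • (⊤ : Submodule A M)))) = 0) :
    Module.Flat A M := by
  obtain ⟨N, hN⟩ := hI
  have key : ∀ d n : ℕ, N ≤ n + d →
      Function.Injective (((FiltBl.IdealFiltration.adic I).F n).subtype.rTensor M) := by
    intro d
    induction d with
    | zero =>
      intro n hn
      have hz : (FiltBl.IdealFiltration.adic I).F n = ⊥ := by
        change I ^ n = ⊥
        rw [eq_bot_iff]
        calc I ^ n ≤ I ^ N := Ideal.pow_le_pow_right hn
          _ = ⊥ := hN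
      have hsub : Subsingleton (↥((FiltBl.IdealFiltration.adic I).F n)) := by
        rw [hz]
        infer_instance
      have : Subsingleton (↥((FiltBl.IdealFiltration.adic I).F n) ⊗[A] M) := inferInstance
      exact Function.injective_of_subsingleton _
    | succ d ih =>
      intro n hn
      refine step I M ((FiltBl.IdealFiltration.adic I).F n)
        ((FiltBl.IdealFiltration.adic I).F (n + 1))
        ((FiltBl.IdealFiltration.adic I).antitone (Nat.le_succ n)) ?_
        (AssocGr.inDeg (FiltBl.IdealFiltration.adic I) n)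
        (AssocGr.inDeg_surjective _ n) (AssocGr.inDeg_eq_zero_iff _ n) ?_ (ih (n + 1) (by omega))
      · change I * I ^ n ≤ I ^ (n + 1)
        rw [pow_succ']
      · intro z hz
        obtain ⟨k, a, x, rfl⟩ := exists_fin_sum_tmul z
        have hx0 : ∀ y : M, y ∈ (Rees.powFilt I M).N 0 := by
          intro y
          change y ∈ I ^ 0 • (⊤ : Submodule A M)
          rw [pow_zero, Ideal.one_eq_top, Submodule.top_smul]
          trivial
        have hsum : (∑ i, ((a i : A) • x i : M)) = 0 := by
          have := congrArg (TensorProduct.lid A M) hz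
          rw [map_zero, map_sum, map_sum] at this
          simpa [rTensor_tmul] using this
        have h := hinj n k a (fun i => ⟨x i, hx0 (x i)⟩) ?_
        · rw [map_sum]
          simpa [TensorProduct.map_tmul] using h
        · simp only [AssocGr.inDeg_smul_inDegM]
          rw [← AddSubmonoidClass.coe_finsetSum, ← map_sum]
          rw [ZeroMemClass.coe_eq_zero, AssocGr.inDegM_eq_zero_iff]
          have : ((∑ i, (⟨(a i : A) • x i, (Rees.powFilt I M).pow_smul_le n 0
              (Submodule.smul_mem_smul (show (a i : A) ∈ I ^ n from (a i).2) (hx0 (x i)))⟩ :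
              ↥((Rees.powFilt I M).N (n + 0))) :
              ↥((Rees.powFilt I M).N (n + 0))) : M) = 0 := by
            rw [Submodule.coe_sum]
            exact hsum
          rw [this]
          exact Submodule.zero_mem _
  have h1 := key N 1 (by omega)
  have h2 : Function.Injective (I.subtype.rTensor M) := by
    have : ∀ J : Ideal A, J = I → Function.Injective (J.subtype.rTensor M) →
        Function.Injective (I.subtype.rTensor M) := by
      rintro _ rfl h
      exact h
    exact this _ (pow_one I) h1
  exact Helper5.flat_of_isNilpotent I ⟨N, hN⟩ ((LinearMap.lTensor_inj_iff_rTensor_inj M I.subtype).mpr h2)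
    ((Helper5.flat_quotient_smul_top_iff M I).mp hflat)

end Groth.Agent.Lib.T2H9.GrFlat
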