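import Mathlib

/-!
# Wild and tame inertia for a group acting on a ring (helper9, second team)

Elementary facts on the filtration of the inertia group by the subgroups acting trivially on
`B ⧸ m ^ k`, used for `S1999`.
-/

set_option autoImplicit false
open scoped Pointwise

namespace Groth.Agent.Lib.T2H9.Inertia

variable {B : Type*} [CommRing B] {G : Type*} [Group G] [MulSemiringAction G B]

/-- An element of the inertia group of `m` maps `m ^ k` into itself. -/
theorem smul_mem_pow_of_mem_inertia (m : Ideal B) {σ : G} (hσ : σ ∈ m.inertia G) (k : ℕ)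
    {y : B} (hy : y ∈ m ^ k) : σ • y ∈ m ^ k := by
  induction k generalizing y with
  | zero => simp
  | succ k ih =>
    rw [pow_succ] at hy ⊢
    refine Submodule.mul_induction_on hy (fun a ha b hb => ?_) (fun a b ha hb => ?_)
    · rw [smul_mul']
      refine Ideal.mul_mem_mul (ih ha) ?_
      have : σ • b = b + (σ • b - b) := by ring
      rw [this]
      exact m.add_mem hb (hσ b)
    · rw [smul_add]
      exact Ideal.add_mem _ ha hb

/-- If `σ` acts trivially on `B ⧸ m ^ 2` then it acts trivially on `m ^ k ⧸ m ^ (k + 1)`, `k ≥ 1`. -/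
theorem smul_sub_mem_pow_succ (m : Ideal B) {σ : G} (hσ : σ ∈ (m ^ 2).inertia G) (k : ℕ)
    (hk : 1 ≤ k) {y : B} (hy : y ∈ m ^ k) : σ • y - y ∈ m ^ (k + 1) := by
  have hσ1 : σ ∈ m.inertia G := fun x => Ideal.pow_le_self two_ne_zero (hσ x)
  induction k, hk using Nat.le_induction generalizing y with
  | base => simpa using hσ y
  | succ k hk ih =>
    rw [pow_succ] at hy
    refine Submodule.mul_induction_on hy (fun a ha b hb => ?_) (fun a b ha hb => ?_)
    · have e : σ • (a * b) - a * b = σ • a * (σ • b - b) + (σ • a - a) * b := by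
        rw [smul_mul']; ring
      rw [e]
      refine Ideal.add_mem _ ?_ ?_
      · have h1 : σ • a * (σ • b - b) ∈ m ^ k * m ^ 2 :=
          Ideal.mul_mem_mul (smul_mem_pow_of_mem_inertia m hσ1 k ha) (hσ b)
        rwa [← pow_add] at h1
      · have h2 : (σ • a - a) * b ∈ m ^ (k + 1) * m := Ideal.mul_mem_mul (ih ha) hb
        rwa [← pow_succ] at h2
    · have e : σ • (a + b) - (a + b) = (σ • a - a) + (σ • b - b) := by
        rw [smul_add]; ring
      rw [e]
      exact Ideal.add_mem _ ha hb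


/-- If `σ` acts trivially on `B ⧸ m ^ 2` and on `B ⧸ m ^ (i + 1)` with `i ≥ 1`, then
`σ ^ n • x - x ≡ n • (σ • x - x)` modulo `m ^ (i + 2)`. -/
theorem pow_smul_sub_sub_nsmul_mem (m : Ideal B) {σ : G} (hσ : σ ∈ (m ^ 2).inertia G) (i : ℕ)
    (hi : 1 ≤ i) (h : ∀ x : B, σ • x - x ∈ m ^ (i + 1)) (n : ℕ) (x : B) :
    σ ^ n • x - x - n • (σ • x - x) ∈ m ^ (i + 2) := by
  induction n with
  | zero => simp
  | succ n ih =>
    have hn : σ ^ n ∈ (m ^ 2).inertia G := Subgroup.pow_mem _ hσ n
    have e : σ ^ (n + 1) • x - x - (n + 1) • (σ • x - x) =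
        (σ ^ n • x - x - n • (σ • x - x)) + (σ ^ n • (σ • x - x) - (σ • x - x)) := by
      simp only [pow_succ, mul_smul, smul_sub, succ_nsmul]; ring
    rw [e]
    exact Ideal.add_mem _ ih (smul_sub_mem_pow_succ m hn (i + 1) (by omega) (h x))

/-- Main step: if `σ` acts trivially on `B ⧸ m ^ 2`, `σ ^ n = 1` and `n` is invertible modulo the
maximal ideal `m`, then `σ` acts trivially on `B ⧸ m ^ j` for all `j`. -/
theorem smul_sub_mem_pow_of_pow_eq_one (m : Ideal B) [m.IsMaximal] {σ : G}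
    (hσ : σ ∈ (m ^ 2).inertia G) {n : ℕ} (hn : σ ^ n = 1) (hnm : (n : B) ∉ m) (j : ℕ) (x : B) :
    σ • x - x ∈ m ^ j := by
  suffices H : ∀ j : ℕ, 2 ≤ j → ∀ x : B, σ • x - x ∈ m ^ j by
    rcases le_or_gt 2 j with hj | hj
    · exact H j hj x
    · exact Ideal.pow_le_pow_right hj.le (H 2 le_rfl x)
  intro j hj
  induction j, hj using Nat.le_induction with
  | base => exact fun x => hσ x
  | succ j hj ih =>
    intro x
    obtain ⟨i, rfl⟩ : ∃ i, j = i + 1 := ⟨j - 1, by omega⟩
    have key := pow_smul_sub_sub_nsmul_mem m hσ i (by omega) ih n x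
    rw [hn, one_smul, sub_self, zero_sub, neg_mem_iff, nsmul_eq_mul] at key
    -- `n * y ∈ m ^ (i + 2)` with `n ∉ m` and `y ∈ m ^ (i + 1)`
    obtain ⟨c, a, ha, hab⟩ := Ideal.IsMaximal.exists_inv (inferInstance : m.IsMaximal) hnm
    have e : σ • x - x = a * (σ • x - x) + c * ((n : B) * (σ • x - x)) := by
      have : (σ • x - x) = (c * (n : B) + a) * (σ • x - x) := by rw [hab, one_mul]
      conv_lhs => rw [this]
      ring
    rw [e]
    refine Ideal.add_mem _ ?_ (Ideal.mul_mem_left _ _ key)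
    have : a * (σ • x - x) ∈ m * m ^ (i + 1) := Ideal.mul_mem_mul ha (ih x)
    rwa [← pow_succ'] at this


/-- In a noetherian domain with faithful action, an element acting trivially on `B ⧸ m ^ 2` of
order invertible modulo `m` is trivial. -/
theorem eq_one_of_pow_eq_one [IsDomain B] [IsNoetherianRing B] [FaithfulSMul G B]
    (m : Ideal B) [m.IsMaximal] {σ : G}
    (hσ : σ ∈ (m ^ 2).inertia G) {n : ℕ} (hn : σ ^ n = 1) (hnm : (n : B) ∉ m) : σ = 1 := by
  apply FaithfulSMul.eq_of_smul_eq_smul (α := B)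
  intro x
  rw [one_smul, ← sub_eq_zero, ← Ideal.mem_bot,
    ← Ideal.iInf_pow_eq_bot_of_isDomain m (Ideal.IsMaximal.ne_top inferInstance)]
  exact Ideal.mem_iInf.mpr fun j => smul_sub_mem_pow_of_pow_eq_one m hσ hn hnm j x

/-- The wild inertia group is a `p`-group when the residue characteristic is `p`. -/
theorem isPGroup_inertia_sq [IsDomain B] [IsNoetherianRing B] [FaithfulSMul G B] [Finite G]
    (m : Ideal B) [m.IsMaximal] (p : ℕ) [hp : Fact p.Prime] [CharP (B ⧸ m) p] :
    IsPGroup p ((m ^ 2).inertia G) := by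
  intro ⟨σ, hσ⟩
  obtain ⟨a, b, hb, hab⟩ := Nat.exists_eq_pow_mul_and_not_dvd (orderOf_pos σ).ne' p hp.out.ne_one
  refine ⟨a, Subtype.ext ?_⟩
  show σ ^ p ^ a = 1
  have h1 : (σ ^ p ^ a) ^ b = 1 := by rw [← pow_mul, ← hab, pow_orderOf_eq_one]
  refine eq_one_of_pow_eq_one m (Subgroup.pow_mem _ hσ _) h1 ?_
  rw [← Ideal.Quotient.eq_zero_iff_mem, map_natCast, CharP.cast_eq_zero_iff (B ⧸ m) p]
  exact hb

/-- The wild inertia group is trivial in residue characteristic zero. -/
theorem inertia_sq_eq_bot [IsDomain B] [IsNoetherianRing B] [FaithfulSMul G B] [Finite G]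
    (m : Ideal B) [m.IsMaximal] [CharZero (B ⧸ m)] :
    (m ^ 2).inertia G = ⊥ := by
  rw [eq_bot_iff]
  intro σ hσ
  rw [Subgroup.mem_bot]
  refine eq_one_of_pow_eq_one m hσ (pow_orderOf_eq_one σ) ?_
  rw [← Ideal.Quotient.eq_zero_iff_mem, map_natCast, Nat.cast_eq_zero]
  exact (orderOf_pos σ).ne'


section Separable

variable {A : Type*} [CommRing A] [Algebra A B] [SMulCommClass G A B]

/-- If `a ∉ m` and `a * d ∈ m ^ 2` with `d ∈ m`, then `d ∈ m ^ 2`. -/
theorem mem_sq_of_mul_mem_sq (m : Ideal B) [m.IsMaximal] {a d : B} (ha : a ∉ m) (hd : d ∈ m)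
    (had : a * d ∈ m ^ 2) : d ∈ m ^ 2 := by
  obtain ⟨c, t, ht, hct⟩ := Ideal.IsMaximal.exists_inv (inferInstance : m.IsMaximal) ha
  have e : d = c * (a * d) + t * d := by
    have : d = (c * a + t) * d := by rw [hct, one_mul]
    conv_lhs => rw [this]
    ring
  rw [e]
  refine Ideal.add_mem _ (Ideal.mul_mem_left _ _ had) ?_
  rw [pow_two]
  exact Ideal.mul_mem_mul ht hd

/-- With separable residue field extension, an element of the inertia group acting trivially on
`m ⧸ m ^ 2` acts trivially on `B ⧸ m ^ 2`. -/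
theorem mem_inertia_sq_of_forall_mem (m : Ideal B) [m.IsMaximal]
    [Algebra.IsSeparable (A ⧸ m.comap (algebraMap A B)) (B ⧸ m)] {σ : G}
    (hσ : σ ∈ m.inertia G) (h : ∀ y ∈ m, σ • y - y ∈ m ^ 2) : σ ∈ (m ^ 2).inertia G := by
  intro x
  set p : Ideal A := m.comap (algebraMap A B) with hp
  set d : B := σ • x - x with hd
  have hdm : d ∈ m := hσ x
  -- the minimal polynomial of the residue class of `x`, lifted to `A`
  have hsep : (minpoly (A ⧸ p) (Ideal.Quotient.mk m x)).Separable :=
    Algebra.IsSeparable.isSeparable (A ⧸ p) (Ideal.Quotient.mk m x)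
  obtain ⟨f, hf⟩ := Polynomial.map_surjective (Ideal.Quotient.mk p) Ideal.Quotient.mk_surjective
    (minpoly (A ⧸ p) (Ideal.Quotient.mk m x))
  have hmk : ∀ q : Polynomial A, Ideal.Quotient.mk m (Polynomial.aeval x q) =
      Polynomial.aeval (Ideal.Quotient.mk m x) (q.map (Ideal.Quotient.mk p)) := by
    intro q
    have h1 : Ideal.Quotient.mk m (Polynomial.aeval x q) =
        Polynomial.aeval (Ideal.Quotient.mk m x) q :=
      (Polynomial.aeval_algHom_apply (Ideal.Quotient.mkₐ A m) x q).symm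
    rw [h1]
    exact (Polynomial.aeval_map_algebraMap (A ⧸ p) (Ideal.Quotient.mk m x) q).symm
  -- `f(x) ∈ m`
  have hfx : Polynomial.aeval x f ∈ m := by
    rw [← Ideal.Quotient.eq_zero_iff_mem, hmk, hf, minpoly.aeval]
  -- `f'(x) ∉ m`
  have hf'x : Polynomial.aeval x (Polynomial.derivative f) ∉ m := by
    rw [← Ideal.Quotient.eq_zero_iff_mem, hmk, ← Polynomial.derivative_map, hf]
    exact hsep.aeval_derivative_ne_zero (minpoly.aeval _ _)
  -- `σ • f(x) = f(σ • x)`
  have hσf : σ • Polynomial.aeval x f = Polynomial.aeval (σ • x) f :=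
    (Polynomial.aeval_algHom_apply (MulSemiringAction.toAlgHom A B σ) x f).symm
  -- Taylor expansion modulo `m ^ 2`
  have hd2 : (Ideal.Quotient.mk (m ^ 2) d) ^ 2 = 0 := by
    rw [← map_pow, Ideal.Quotient.eq_zero_iff_mem]
    exact Ideal.pow_mem_pow hdm 2
  have hT := Polynomial.aeval_add_of_sq_eq_zero f (Ideal.Quotient.mk (m ^ 2) x)
    (Ideal.Quotient.mk (m ^ 2) d) hd2
  have hq : ∀ (y : B) (q : Polynomial A), Polynomial.aeval (Ideal.Quotient.mk (m ^ 2) y) q =
      Ideal.Quotient.mk (m ^ 2) (Polynomial.aeval y q) := fun y q =>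
    Polynomial.aeval_algHom_apply (Ideal.Quotient.mkₐ A (m ^ 2)) y q
  have hxd : x + d = σ • x := by rw [hd]; ring
  rw [← map_add, hxd, hq, hq, hq, ← hσf, ← map_mul, ← map_add, Ideal.Quotient.eq] at hT
  have h3 := h _ hfx
  have h4 : Polynomial.aeval x (Polynomial.derivative f) * d ∈ m ^ 2 := by
    have := Ideal.sub_mem _ h3 hT
    convert this using 1
    ring
  exact mem_sq_of_mul_mem_sq m hf'x hdm h4

end Separable


section Theta

variable [IsDedekindDomain B] (m : Ideal B) [m.IsMaximal] (hm : m ≠ ⊥)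
  (π : B) (hπ : π ∈ m) (hπ2 : π ∉ m ^ 2)

include hm hπ hπ2

theorem exists_coeff (σ : m.inertia G) : ∃ u : B, (σ : G) • π - π * u ∈ m ^ 2 := by
  have h1 : (σ : G) • π ∈ m ^ 1 := smul_mem_pow_of_mem_inertia m σ.2 1 (by simpa using hπ)
  obtain ⟨u, e, he, hue⟩ := Ideal.exists_mul_add_mem_pow_succ hm π ((σ : G) • π)
    (by simpa using hπ) hπ2 h1
  exact ⟨u, by rw [← hue]; simpa using he⟩

/-- The residue class of `σ π / π`. -/
noncomputable def thetaFun (σ : m.inertia G) : B ⧸ m :=
  Ideal.Quotient.mk m (exists_coeff m hm π hπ hπ2 σ).choose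

theorem thetaFun_eq (σ : m.inertia G) (v : B) (hv : (σ : G) • π - π * v ∈ m ^ 2) :
    thetaFun m hm π hπ hπ2 σ = Ideal.Quotient.mk m v := by
  have hu := (exists_coeff m hm π hπ hπ2 σ).choose_spec
  unfold thetaFun
  rw [Ideal.Quotient.eq]
  have h2 : π * (v - (exists_coeff m hm π hπ hπ2 σ).choose) ∈ m ^ (1 + 1) := by
    have := Ideal.sub_mem _ hu hv
    convert this using 1
    ring
  have := Ideal.mem_prime_of_mul_mem_pow hm (i := 1) hπ2 h2
  rw [← neg_mem_iff]
  convert this using 1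
  ring

theorem thetaFun_spec (σ : m.inertia G) :
    ∃ u : B, (σ : G) • π - π * u ∈ m ^ 2 ∧ thetaFun m hm π hπ hπ2 σ = Ideal.Quotient.mk m u :=
  ⟨_, (exists_coeff m hm π hπ hπ2 σ).choose_spec, rfl⟩

/-- The tame character `σ ↦ σ π / π mod m` on the inertia group. -/
noncomputable def theta : m.inertia G →* B ⧸ m where
  toFun := thetaFun m hm π hπ hπ2
  map_one' := by
    rw [thetaFun_eq m hm π hπ hπ2 1 1 (by simp), map_one]
  map_mul' σ τ := by
    obtain ⟨u, hu, hu'⟩ := thetaFun_spec m hm π hπ hπ2 σ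
    obtain ⟨v, hv, hv'⟩ := thetaFun_spec m hm π hπ hπ2 τ
    rw [hu', hv', ← map_mul]
    apply thetaFun_eq
    -- `(σ τ) π - π u v = σ • (τ π - π v) + (σ π - π u) * σ v + π u (σ v - v)`
    have e : ((σ * τ : m.inertia G) : G) • π - π * (u * v) =
        (σ : G) • ((τ : G) • π - π * v) + ((σ : G) • π - π * u) * ((σ : G) • v)
          + π * (u * ((σ : G) • v - v)) := by
      rw [Subgroup.coe_mul, mul_smul, smul_sub, smul_mul']; ring
    rw [e]
    refine Ideal.add_mem _ (Ideal.add_mem _ ?_ ?_) ?_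
    · exact smul_mem_pow_of_mem_inertia m σ.2 2 hv
    · exact Ideal.mul_mem_right _ _ hu
    · rw [pow_two]
      exact Ideal.mul_mem_mul hπ (Ideal.mul_mem_left _ _ (σ.2 v))

theorem theta_eq_one_iff (σ : m.inertia G) :
    theta m hm π hπ hπ2 σ = 1 ↔ (σ : G) • π - π ∈ m ^ 2 := by
  constructor
  · intro h
    obtain ⟨u, hu, hu'⟩ := thetaFun_spec m hm π hπ hπ2 σ
    have h1 : Ideal.Quotient.mk m u = 1 := by rw [← hu']; exact h
    rw [← map_one (Ideal.Quotient.mk m), Ideal.Quotient.eq] at h1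
    have e : (σ : G) • π - π = ((σ : G) • π - π * u) + π * (u - 1) := by ring
    rw [e]
    refine Ideal.add_mem _ hu ?_
    rw [pow_two]
    exact Ideal.mul_mem_mul hπ h1
  · intro h
    show thetaFun m hm π hπ hπ2 σ = 1
    rw [thetaFun_eq m hm π hπ hπ2 σ 1 (by simpa using h), map_one]

/-- If `σ π ≡ π` modulo `m ^ 2` then `σ` acts trivially on `m ⧸ m ^ 2`. -/
theorem smul_sub_mem_sq_of_uniformizer (σ : m.inertia G) (h : (σ : G) • π - π ∈ m ^ 2)
    (y : B) (hy : y ∈ m) : (σ : G) • y - y ∈ m ^ 2 := by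
  obtain ⟨v, z, hz, hvz⟩ := Ideal.exists_mul_add_mem_pow_succ hm π y
    (by simpa using hπ) hπ2 (by simpa using hy)
  simp only [Nat.reduceAdd] at hz
  have e : (σ : G) • y - y = ((σ : G) • π - π) * ((σ : G) • v) + π * ((σ : G) • v - v)
      + ((σ : G) • z - z) := by
    rw [← hvz, smul_add, smul_mul']; ring
  rw [e]
  refine Ideal.add_mem _ (Ideal.add_mem _ (Ideal.mul_mem_right _ _ h) ?_)
    (Ideal.sub_mem _ (smul_mem_pow_of_mem_inertia m σ.2 2 hz) hz)
  rw [pow_two]
  exact Ideal.mul_mem_mul hπ (σ.2 v)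

end Theta


section CyclicQuot

variable {Q : Type*} [Group Q] [Finite Q] {F : Type*} [Field F] (ψ : Q →* Fˣ)
  (hψ : Function.Injective ψ)

include hψ

theorem isCyclic_of_injective_units : IsCyclic Q :=
  isCyclic_of_injective_ringHom ((Units.coeHom F).comp ψ) (Units.val_injective.comp hψ)

theorem not_dvd_card_of_charP (p : ℕ) [hp : Fact p.Prime] [CharP F p] : ¬ p ∣ Nat.card Q := by
  intro h
  obtain ⟨g, hg⟩ := exists_prime_orderOf_dvd_card' p h
  have h1 : ψ g ^ (p ^ 1 * 1) = 1 := by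
    rw [pow_one, mul_one, ← map_pow, ← hg, pow_orderOf_eq_one, map_one]
  have : ExpChar F p := ExpChar.prime hp.out
  rw [mem_rootsOfUnity_prime_pow_mul_iff' F p 1 1, rootsOfUnity_one, Subgroup.mem_bot] at h1
  have h2 : g = 1 := hψ (by rw [h1, map_one])
  rw [h2, orderOf_one] at hg
  exact hp.out.one_lt.ne hg

omit [Finite Q] in
theorem nonempty_mulEquiv_rootsOfUnity (e : ℕ) (he0 : e ≠ 0) (he : Nat.card Q ∣ e)
    (hcard : Nat.card (rootsOfUnity e F) ≤ Nat.card Q) : Nonempty (Q ≃* rootsOfUnity e F) := by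
  have : NeZero e := ⟨he0⟩
  have hmem : ∀ q : Q, ψ q ∈ rootsOfUnity e F := fun q => by
    rw [mem_rootsOfUnity, ← map_pow]
    obtain ⟨c, rfl⟩ := he
    rw [pow_mul, pow_card_eq_one', one_pow, map_one]
  let ψ' : Q →* rootsOfUnity e F := ψ.codRestrict (rootsOfUnity e F) hmem
  have hinj : Function.Injective ψ' := fun a b hab => hψ (congrArg Subtype.val hab)
  have hbij : Function.Bijective ψ' := by
    rw [Nat.bijective_iff_injective_and_card]
    exact ⟨hinj, le_antisymm (Nat.card_le_card_of_injective _ hinj) hcard⟩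
  exact ⟨MulEquiv.ofBijective ψ' hbij⟩

end CyclicQuot


section CardInertia

variable {R S H : Type*} [CommRing R] [CommRing S] [Algebra R S] [Group H]
  [MulSemiringAction H S] [IsGaloisGroup H R S] [Finite H]

open Ideal

attribute [local instance] Ideal.Quotient.field in
/-- Variant of `Ideal.card_stabilizer_eq_card_inertia_mul_finrank` assuming only that the residue
field extension is separable. -/
theorem card_stabilizer_eq_card_inertia_mul_finrank_of_isSeparable (p : Ideal R) [p.IsMaximal]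
    (P : Ideal S) [P.LiesOver p] [P.IsMaximal] [Algebra.IsSeparable (R ⧸ p) (S ⧸ P)] :
    Nat.card (MulAction.stabilizer H P) =
      Nat.card (P.inertia H) * Module.finrank (R ⧸ p) (S ⧸ P) := by
  have : Normal (R ⧸ p) (S ⧸ P) := Ideal.Quotient.normal H p P
  have : IsGalois (R ⧸ p) (S ⧸ P) := { }
  have : Module.Finite (R ⧸ p) (S ⧸ P) := Ideal.Quotient.finite_of_isInvariant H p P
  have hidx : Subgroup.index _ = _ := Nat.card_congr
    (Ideal.Quotient.stabilizerQuotientInertiaEquiv H p P).toEquiv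
  rw [← IsGalois.card_aut_eq_finrank (R ⧸ p) (S ⧸ P), ← hidx,
    ← ((P.inertia H).subgroupOf (MulAction.stabilizer H P)).card_mul_index,
    Nat.card_congr (Subgroup.subgroupOfEquivOfLe (inertia_le_stabilizer (M := H) P)).toEquiv,
    AddSubgroup.subgroupOf_inertia]

/-- With separable residue field extension the inertia group has order the ramification index. -/
theorem card_inertia_eq_ramificationIdx_of_isSeparable [IsDomain R] [IsDomain S] [Module.Finite R S]
    [Module.Flat R S] (p : Ideal R) [p.IsMaximal] (P : Ideal S) [P.LiesOver p] [P.IsMaximal]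
    [Algebra.IsSeparable (R ⧸ p) (S ⧸ P)] :
    Nat.card (P.inertia H) = P.ramificationIdx R := by
  have h1 := card_stabilizer_eq_card_inertia_mul_finrank_of_isSeparable (H := H) p P
  rw [← Ideal.inertiaDeg_eq_of_isMaximal p P, ← Ideal.inertiaDegIn_eq_inertiaDeg p P H] at h1
  have h2 : (p.primesOver S).ncard * Nat.card (MulAction.stabilizer H P) = Nat.card H := by
    rw [← Algebra.IsInvariant.orbit_eq_primesOver R S H p P]
    simpa using Nat.card_congr (MulAction.orbitProdStabilizerEquivGroup H P)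
  have h3 := Ideal.ncard_primesOver_mul_ramificationIdxIn_mul_inertiaDegIn p S H
  rw [← Ideal.ramificationIdxIn_eq_ramificationIdx p P H]
  have hn : (p.primesOver S).ncard ≠ 0 := by
    intro h0
    rw [h0, zero_mul] at h2
    exact (Nat.card_pos (α := H)).ne h2
  have hf : p.inertiaDegIn S ≠ 0 := by
    intro h0
    rw [h0, mul_zero, mul_zero] at h3
    exact (Nat.card_pos (α := H)).ne h3
  rw [h1, ← h3] at h2
  have := Nat.eq_of_mul_eq_mul_left (Nat.pos_of_ne_zero hn) h2
  exact Nat.eq_of_mul_eq_mul_right (Nat.pos_of_ne_zero hf) this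

end CardInertia


section Main

variable {A : Type*} [CommRing A] [IsDomain A] [IsDedekindDomain B] [Algebra A B]
  [Finite G] [IsGaloisGroup G A B] [Module.Finite A B] [Module.Flat A B]

attribute [local instance] Ideal.Quotient.field in
/-- Structure of the wild and tame inertia groups: abstract form. -/
theorem wild_tame_structure (m : Ideal B) [m.IsMaximal] (hm : m ≠ ⊥)
    [hpmax : (m.comap (algebraMap A B)).IsMaximal]
    [Algebra.IsSeparable (A ⧸ m.comap (algebraMap A B)) (B ⧸ m)] (e : ℕ)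
    (he : e = m.ramificationIdx A) :
    let D : Subgroup G := MulAction.stabilizer G m
    let I : Subgroup G := m.inertia G
    let P : Subgroup G := D ⊓ (m ^ 2).inertia G
    P ≤ I ∧ I ≤ D ∧ (P.subgroupOf D).Normal ∧
    (∀ p : ℕ, p.Prime → CharP (A ⧸ m.comap (algebraMap A B)) p → IsPGroup p P) ∧
    (CharZero (A ⧸ m.comap (algebraMap A B)) → P = ⊥) ∧
    (∀ [(P.subgroupOf I).Normal],
      IsCyclic (I ⧸ P.subgroupOf I) ∧
      (∀ p : ℕ, p.Prime → CharP (A ⧸ m.comap (algebraMap A B)) p →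
        Nat.card (I ⧸ P.subgroupOf I) = e / p ^ e.factorization p) ∧
      (CharZero (A ⧸ m.comap (algebraMap A B)) → Nat.card (I ⧸ P.subgroupOf I) = e) ∧
      Nonempty (I ⧸ P.subgroupOf I ≃* ↥(rootsOfUnity e (B ⧸ m)))) := by
  intro D I P
  have hFaith : FaithfulSMul G B := IsGaloisGroup.faithful A
  have hComm : SMulCommClass G A B := IsGaloisGroup.commutes
  have hWI : (m ^ 2).inertia G ≤ I := fun σ hσ x => Ideal.pow_le_self two_ne_zero (hσ x)
  have hID : I ≤ D := Ideal.inertia_le_stabilizer m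
  have hPW : P = (m ^ 2).inertia G := inf_eq_right.mpr (hWI.trans hID)
  have hinj : Function.Injective (algebraMap (A ⧸ m.comap (algebraMap A B)) (B ⧸ m)) :=
    Ideal.algebraMap_quotient_injective
  refine ⟨hPW ▸ hWI, hID, ?_, ?_, ?_, ?_⟩
  · -- normality
    refine (Subgroup.normal_subgroupOf_iff inf_le_left).mpr fun s g hs hg => ?_
    refine ⟨D.mul_mem (D.mul_mem hg hs.1) (D.inv_mem hg), ?_⟩
    intro x
    have hgm : g • m = m := hg
    have h1 : g • (s • (g⁻¹ • x) - g⁻¹ • x) ∈ g • (m ^ 2) :=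
      Ideal.smul_mem_pointwise_smul g _ _ (hs.2 (g⁻¹ • x))
    rw [smul_pow', hgm] at h1
    have e2 : (g * s * g⁻¹) • x - x = g • (s • (g⁻¹ • x) - g⁻¹ • x) := by
      rw [smul_sub, smul_inv_smul, mul_smul, mul_smul]
    show (g * s * g⁻¹) • x - x ∈ m ^ 2
    rw [e2]
    exact h1
  · intro p hp hchar
    have : Fact p.Prime := ⟨hp⟩
    have : CharP (B ⧸ m) p := charP_of_injective_algebraMap hinj p
    rw [hPW]
    exact isPGroup_inertia_sq m p
  · intro hchar
    have : CharZero (B ⧸ m) := charZero_of_injective_algebraMap hinj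
    rw [hPW]
    exact inertia_sq_eq_bot m
  · intro hN
    obtain ⟨π, hπ1, hπ2⟩ := Ideal.exists_mem_pow_notMem_pow_succ m hm
      (Ideal.IsMaximal.ne_top inferInstance) 1
    have hπ : π ∈ m := by simpa using hπ1
    let θ : I →* B ⧸ m := theta m hm π hπ hπ2
    let θU : I →* (B ⧸ m)ˣ := θ.toHomUnits
    have hker : ∀ σ : I, θU σ = 1 ↔ σ ∈ P.subgroupOf I := by
      intro σ
      rw [Subgroup.mem_subgroupOf, hPW, Units.ext_iff, MonoidHom.coe_toHomUnits, Units.val_one]
      show theta m hm π hπ hπ2 σ = 1 ↔ _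
      rw [theta_eq_one_iff]
      exact ⟨fun h => mem_inertia_sq_of_forall_mem (A := A) m σ.2
        (smul_sub_mem_sq_of_uniformizer m hm π hπ hπ2 σ h), fun h => h π⟩
    let ψ : I ⧸ P.subgroupOf I →* (B ⧸ m)ˣ :=
      QuotientGroup.lift (P.subgroupOf I) θU (fun σ hσ => (hker σ).mpr hσ)
    have hψ : Function.Injective ψ := by
      rw [injective_iff_map_eq_one]
      intro q hq
      obtain ⟨σ, rfl⟩ := QuotientGroup.mk_surjective q
      rw [QuotientGroup.eq_one_iff]
      exact (hker σ).mp hq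
    -- cardinalities
    have hcardI : Nat.card I = e := by
      rw [he]
      exact card_inertia_eq_ramificationIdx_of_isSeparable (H := G) (m.comap (algebraMap A B)) m
    have hmul : Nat.card I = Nat.card (I ⧸ P.subgroupOf I) * Nat.card P := by
      rw [Subgroup.card_eq_card_quotient_mul_card_subgroup (P.subgroupOf I)]
      congr 1
      exact Nat.card_congr (Subgroup.subgroupOfEquivOfLe (hPW ▸ hWI)).toEquiv
    have he0 : e ≠ 0 := by rw [← hcardI]; exact Nat.card_pos.ne'
    -- positive characteristic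
    have hcharp : ∀ p : ℕ, p.Prime → CharP (B ⧸ m) p →
        ∃ a : ℕ, e = Nat.card (I ⧸ P.subgroupOf I) * p ^ a ∧
          ¬ p ∣ Nat.card (I ⧸ P.subgroupOf I) := by
      intro p hp hchar
      have : Fact p.Prime := ⟨hp⟩
      have hPp : IsPGroup p P := by rw [hPW]; exact isPGroup_inertia_sq m p
      obtain ⟨a, ha⟩ := IsPGroup.iff_card.mp hPp
      exact ⟨a, by rw [← hcardI, hmul, ha], not_dvd_card_of_charP ψ hψ p⟩
    have hchar0 : CharZero (B ⧸ m) → Nat.card (I ⧸ P.subgroupOf I) = e := by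
      intro hchar
      have hP : P = ⊥ := by rw [hPW]; exact inertia_sq_eq_bot m
      rw [← hcardI, hmul, hP]
      simp
    have hfact : ∀ p : ℕ, p.Prime → CharP (B ⧸ m) p →
        Nat.card (I ⧸ P.subgroupOf I) = e / p ^ e.factorization p := by
      intro p hp hchar
      obtain ⟨a, hea, hnd⟩ := hcharp p hp hchar
      have hc0 : Nat.card (I ⧸ P.subgroupOf I) ≠ 0 := Nat.card_pos.ne'
      have hfa : e.factorization p = a := by
        rw [hea, Nat.factorization_mul hc0 (pow_ne_zero _ hp.ne_zero), Finsupp.add_apply,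
          Nat.factorization_eq_zero_of_not_dvd hnd, hp.factorization_pow, Finsupp.single_eq_same,
          zero_add]
      rw [hfa]
      conv_rhs => rw [hea]
      exact (Nat.mul_div_cancel _ (pow_pos hp.pos a)).symm
    refine ⟨isCyclic_of_injective_units ψ hψ, ?_, ?_, ?_⟩
    · intro p hp hchar
      have : CharP (B ⧸ m) p := charP_of_injective_algebraMap hinj p
      exact hfact p hp this
    · intro hchar
      have : CharZero (B ⧸ m) := charZero_of_injective_algebraMap hinj
      exact hchar0 this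
    · obtain ⟨p, hchar⟩ := CharP.exists (B ⧸ m)
      rcases CharP.char_is_prime_or_zero (B ⧸ m) p with hp | hp0
      · obtain ⟨a, hea, hnd⟩ := hcharp p hp hchar
        refine nonempty_mulEquiv_rootsOfUnity ψ hψ e he0 ⟨p ^ a, hea⟩ ?_
        have : ExpChar (B ⧸ m) p := ExpChar.prime hp
        have hc0 : Nat.card (I ⧸ P.subgroupOf I) ≠ 0 := Nat.card_pos.ne'
        have : NeZero (Nat.card (I ⧸ P.subgroupOf I)) := ⟨hc0⟩
        have hsub : rootsOfUnity e (B ⧸ m) = rootsOfUnity (Nat.card (I ⧸ P.subgroupOf I)) (B ⧸ m) := by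
          ext ζ
          rw [hea, mul_comm, mem_rootsOfUnity_prime_pow_mul_iff]
        rw [hsub]
        exact card_rootsOfUnity _ _
      · subst hp0
        have : CharZero (B ⧸ m) := CharP.charP_to_charZero _
        have hc := hchar0 this
        have : NeZero e := ⟨he0⟩
        refine nonempty_mulEquiv_rootsOfUnity ψ hψ e he0 (by rw [hc]) ?_
        rw [hc]
        exact card_rootsOfUnity _ _

end Main

end Groth.Agent.Lib.T2H9.Inertia
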