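import Mathlib

/-! Hilbert theory with arbitrary residue fields: the prime below in the inertia ring is
unramified over the base with separable residue field extension. -/

set_option autoImplicit false
set_option linter.style.haveILetI false
set_option linter.unusedSectionVars false

namespace Groth.Agent.Lib.T2H9.InertiaField

open Ideal

open scoped Pointwise

/-- for a normal extension the number of automorphisms is the separable degree -/
theorem card_aut_eq_finSepDegree (F E : Type*) [Field F] [Field E] [Algebra F E] [Normal F E] :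
    Nat.card (E ≃ₐ[F] E) = Field.finSepDegree F E :=
  (Nat.card_congr (Normal.algHomEquivAut F (AlgebraicClosure E) E)).symm

section card

variable {R S H : Type*} [CommRing R] [CommRing S] [Algebra R S] [Group H]
  [MulSemiringAction H S] [IsGaloisGroup H R S] [Finite H]

attribute [local instance] Ideal.Quotient.field in
/-- the decomposition group modulo the inertia group is the automorphism group of the residue
extension -/
theorem card_stabilizer_eq_card_inertia_mul_card_aut (p : Ideal R) [p.IsMaximal]
    (P : Ideal S) [P.LiesOver p] [P.IsMaximal] :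
    Nat.card (MulAction.stabilizer H P) =
      Nat.card (P.inertia H) * Nat.card ((S ⧸ P) ≃ₐ[R ⧸ p] (S ⧸ P)) := by
  have hidx : Subgroup.index _ = _ := Nat.card_congr
    (Ideal.Quotient.stabilizerQuotientInertiaEquiv H p P).toEquiv
  rw [← hidx,
    ← ((P.inertia H).subgroupOf (MulAction.stabilizer H P)).card_mul_index,
    Nat.card_congr (Subgroup.subgroupOfEquivOfLe (inertia_le_stabilizer (M := H) P)).toEquiv,
    AddSubgroup.subgroupOf_inertia]

/-- the order of the decomposition group -/
theorem card_stabilizer_eq [IsDomain R] [IsDomain S] [Module.Finite R S]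
    [Module.Flat R S] (p : Ideal R) [p.IsMaximal] (P : Ideal S) [P.LiesOver p] [P.IsMaximal] :
    Nat.card (MulAction.stabilizer H P) = P.ramificationIdx R * P.inertiaDeg R := by
  have h2 : (p.primesOver S).ncard * Nat.card (MulAction.stabilizer H P) = Nat.card H := by
    rw [← Algebra.IsInvariant.orbit_eq_primesOver R S H p P]
    simpa using Nat.card_congr (MulAction.orbitProdStabilizerEquivGroup H P)
  have h3 := Ideal.ncard_primesOver_mul_ramificationIdxIn_mul_inertiaDegIn p S H
  rw [Ideal.ramificationIdxIn_eq_ramificationIdx p P H, Ideal.inertiaDegIn_eq_inertiaDeg p P H]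
    at h3
  have hn : (p.primesOver S).ncard ≠ 0 := by
    intro h0
    rw [h0, zero_mul] at h2
    exact (Nat.card_pos (α := H)).ne h2
  rw [← h3] at h2
  exact Nat.eq_of_mul_eq_mul_left (Nat.pos_of_ne_zero hn) h2

/-- the case where the whole group is the decomposition group -/
theorem card_eq_of_forall_smul_eq [IsDomain R] [IsDomain S] [Module.Finite R S]
    [Module.Flat R S] (p : Ideal R) [p.IsMaximal] (P : Ideal S) [P.LiesOver p] [P.IsMaximal]
    (hst : ∀ σ : H, σ • P = P) :
    Nat.card H = P.ramificationIdx R * P.inertiaDeg R := by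
  have h1 := card_stabilizer_eq (H := H) p P
  have h2 : MulAction.stabilizer H P = ⊤ := eq_top_iff.mpr (fun σ _ => hst σ)
  rwa [h2, Subgroup.card_top] at h1

attribute [local instance] Ideal.Quotient.field in
/-- the case where the whole group is the inertia group -/
theorem card_aut_eq_one_of_forall_mem (p : Ideal R) [p.IsMaximal]
    (P : Ideal S) [P.LiesOver p] [P.IsMaximal] (hin : ∀ (σ : H) (x : S), σ • x - x ∈ P) :
    Nat.card ((S ⧸ P) ≃ₐ[R ⧸ p] (S ⧸ P)) = 1 := by
  have h1 := card_stabilizer_eq_card_inertia_mul_card_aut (H := H) p P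
  have h3 : P.inertia H = ⊤ := eq_top_iff.mpr (fun σ _ => hin σ)
  have h2 : MulAction.stabilizer H P = ⊤ := by
    rw [eq_top_iff, ← h3]
    exact inertia_le_stabilizer P
  rw [h2, h3, Subgroup.card_top] at h1
  have hpos : 0 < Nat.card H := Nat.card_pos
  have : Nat.card H * 1 = Nat.card H * Nat.card ((S ⧸ P) ≃ₐ[R ⧸ p] (S ⧸ P)) := by
    rw [mul_one]
    exact h1
  exact (Nat.eq_of_mul_eq_mul_left hpos this).symm

end card

section main

variable {R S' S G : Type*} [CommRing R] [CommRing S'] [CommRing S] [IsDomain R] [IsDomain S']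
  [IsDomain S] [Algebra R S'] [Algebra S' S] [Algebra R S] [IsScalarTower R S' S]
  [Module.Finite R S] [Module.Flat R S] [Module.Finite S' S] [Module.Flat S' S]
  [Module.Finite R S'] [Group G] [Finite G] [MulSemiringAction G S] [IsGaloisGroup G R S]

attribute [local instance] Ideal.Quotient.field in
/-- the prime of the inertia ring below `P` is unramified over the base, with separable residue
field extension -/
theorem unramified_of_inertia (p : Ideal R) [p.IsMaximal] (P' : Ideal S') [P'.IsMaximal]
    [P'.LiesOver p] (P : Ideal S) [P.IsMaximal] [P.LiesOver P'] [P.LiesOver p]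
    [IsGaloisGroup (P.inertia G) S' S] :
    P'.ramificationIdx R = 1 ∧ Algebra.IsSeparable (R ⧸ p) (S' ⧸ P') := by
  -- level `G`
  have hD := card_stabilizer_eq (H := G) p P
  have hDI := card_stabilizer_eq_card_inertia_mul_card_aut (H := G) p P
  -- level `I`
  have hD' := card_eq_of_forall_smul_eq (H := P.inertia G) P' P (by
    intro σ
    exact inertia_le_stabilizer P σ.2)
  have haut' := card_aut_eq_one_of_forall_mem (H := P.inertia G) P' P (by
    intro σ x
    exact σ.2 x)
  -- separable degrees
  have : IsScalarTower (R ⧸ p) (S' ⧸ P') (S ⧸ P) := IsScalarTower.of_algebraMap_eq <| by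
    rintro ⟨x⟩
    simp [Submodule.Quotient.quot_mk_eq_mk, IsScalarTower.algebraMap_apply R (S' ⧸ P') (S ⧸ P)]
  have hN : Normal (R ⧸ p) (S ⧸ P) := Ideal.Quotient.normal G p P
  have hN' : Normal (S' ⧸ P') (S ⧸ P) := Ideal.Quotient.normal (P.inertia G) P' P
  rw [card_aut_eq_finSepDegree] at hDI haut'
  have hmul := Field.finSepDegree_mul_finSepDegree_of_isAlgebraic (R ⧸ p) (S' ⧸ P') (S ⧸ P)
  rw [haut', mul_one] at hmul
  rw [← hmul] at hDI
  -- towers
  have he := Ideal.ramificationIdx_tower (R := R) P' P
  have hf := Ideal.inertiaDeg_tower (R := R) P' P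
  have hle := Field.finSepDegree_le_finrank (R ⧸ p) (S' ⧸ P')
  rw [← Ideal.inertiaDeg_eq_of_isMaximal p P'] at hle
  have he0 : 0 < P'.ramificationIdx R := Ideal.ramificationIdx_pos P' R
  have hf0 : 0 < P'.inertiaDeg R := Ideal.inertiaDeg_pos P' R
  have heI : 0 < P.ramificationIdx S' := Ideal.ramificationIdx_pos P S'
  have hfI : 0 < P.inertiaDeg S' := Ideal.inertiaDeg_pos P S'
  -- arithmetic
  have key : P'.ramificationIdx R * P'.inertiaDeg R =
      Field.finSepDegree (R ⧸ p) (S' ⧸ P') := by
    have h1 : P'.ramificationIdx R * P'.inertiaDeg R * (P.ramificationIdx S' * P.inertiaDeg S') =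
        Field.finSepDegree (R ⧸ p) (S' ⧸ P') * (P.ramificationIdx S' * P.inertiaDeg S') := by
      calc P'.ramificationIdx R * P'.inertiaDeg R * (P.ramificationIdx S' * P.inertiaDeg S')
          = P.ramificationIdx R * P.inertiaDeg R := by rw [he, hf]; ring
        _ = Nat.card (P.inertia G) * Field.finSepDegree (R ⧸ p) (S' ⧸ P') := by rw [← hD, hDI]
        _ = _ := by rw [hD', mul_comm]
    exact Nat.eq_of_mul_eq_mul_right (Nat.mul_pos heI hfI) h1
  have he1 : P'.ramificationIdx R = 1 := by
    by_contra hne
    have h2 : 2 ≤ P'.ramificationIdx R := by omega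
    have : 2 * P'.inertiaDeg R ≤ P'.ramificationIdx R * P'.inertiaDeg R :=
      Nat.mul_le_mul_right _ h2
    omega
  refine ⟨he1, ?_⟩
  rw [he1, one_mul, Ideal.inertiaDeg_eq_of_isMaximal p P'] at key
  exact (Field.finSepDegree_eq_finrank_iff (R ⧸ p) (S' ⧸ P')).mp key.symm

end main

end Groth.Agent.Lib.T2H9.InertiaField
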