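import Mathlib
import Groth.Agent.Lib.Helper7GeomInt
import Groth.Agent.Lib.Helper28GeomRed1
import Groth.Agent.Lib.T2H9InertiaField

/-! Inertia groups over a complete normal local domain: the inertia group at the closed point is
trivial iff the extension is unramified there. -/

set_option autoImplicit false
set_option linter.style.haveILetI false
set_option linter.unusedSectionVars false
universe u

namespace Groth.Agent.Lib.T2H9.InertiaComplete

open Polynomial IsLocalRing IntermediateField

section lagrange

variable {R S G : Type*} [CommRing R] [CommRing S] [IsDomain S] [Algebra R S] [Group G]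
  [Fintype G] [DecidableEq G] [MulSemiringAction G S] [SMulCommClass G R S]
  [Algebra.IsInvariant R S G]

/-- the differences of the conjugates are units -/
theorem isUnit_smul_sub_smul (y : S) (hy : ∀ σ : G, σ ≠ 1 → IsUnit (σ • y - y)) (σ τ : G)
    (h : σ ≠ τ) : IsUnit (σ • y - τ • y) := by
  have h1 : σ • y - τ • y = τ • ((τ⁻¹ * σ) • y - y) := by
    rw [smul_sub, smul_smul, mul_inv_cancel_left]
  rw [h1]
  have h2 : τ⁻¹ * σ ≠ 1 := by
    intro h3
    apply h
    have := congrArg (fun g => τ * g) h3
    simpa using this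
  exact (hy _ h2).map (MulSemiringAction.toRingHom G S τ)

/-- the Lagrange basis polynomials -/
noncomputable def ell (y : S) (σ : G) : S[X] :=
  ∏ τ ∈ Finset.univ.erase σ, (C (Ring.inverse (σ • y - τ • y)) * (X - C (τ • y)))

theorem eval_ell_self (y : S) (hy : ∀ σ : G, σ ≠ 1 → IsUnit (σ • y - y)) (σ : G) :
    (ell y σ).eval (σ • y) = 1 := by
  rw [ell, eval_prod]
  apply Finset.prod_eq_one
  intro τ hτ
  have hne : σ ≠ τ := (Finset.ne_of_mem_erase hτ).symm
  simp only [eval_mul, eval_C, eval_sub, eval_X]
  exact Ring.inverse_mul_cancel _ (isUnit_smul_sub_smul y hy σ τ hne)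

theorem eval_ell_of_ne (y : S) (σ σ' : G) (h : σ' ≠ σ) :
    (ell y σ).eval (σ' • y) = 0 := by
  rw [ell, eval_prod]
  apply Finset.prod_eq_zero (i := σ') (Finset.mem_erase.mpr ⟨h, Finset.mem_univ _⟩)
  simp

theorem ell_mem_degreeLT (y : S) (σ : G) : ell y σ ∈ degreeLT S (Fintype.card G) := by
  rw [mem_degreeLT]
  have h1 : (ell y σ).natDegree ≤ Fintype.card G - 1 := by
    rw [ell]
    refine (natDegree_prod_le _ _).trans ?_
    have h2 : ∀ τ ∈ Finset.univ.erase σ,
        (C (Ring.inverse (σ • y - τ • y)) * (X - C (τ • y))).natDegree ≤ 1 := by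
      intro τ _
      refine (natDegree_C_mul_le _ _).trans ?_
      exact natDegree_X_sub_C_le _
    refine (Finset.sum_le_card_nsmul _ _ 1 h2).trans ?_
    rw [Finset.card_erase_of_mem (Finset.mem_univ σ), Finset.card_univ, smul_eq_mul, mul_one]
  have hpos : 0 < Fintype.card G := Fintype.card_pos
  refine lt_of_le_of_lt degree_le_natDegree ?_
  exact_mod_cast (by omega : (ell y σ).natDegree < Fintype.card G)

/-- the interpolation polynomial -/
noncomputable def interp (y z : S) : S[X] := ∑ σ : G, C (σ • z) * ell y σ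

theorem eval_interp (y : S) (hy : ∀ σ : G, σ ≠ 1 → IsUnit (σ • y - y)) (z : S) (σ : G) :
    (interp (G := G) y z).eval (σ • y) = σ • z := by
  rw [interp, eval_finsetSum, Finset.sum_eq_single σ]
  · rw [eval_mul, eval_C, eval_ell_self y hy, mul_one]
  · intro τ _ hτ
    rw [eval_mul, eval_ell_of_ne y τ σ (Ne.symm hτ), mul_zero]
  · intro h
    exact absurd (Finset.mem_univ σ) h

theorem interp_mem_degreeLT (y z : S) : interp (G := G) y z ∈ degreeLT S (Fintype.card G) := by
  rw [interp]
  refine Submodule.sum_mem _ (fun σ _ => ?_)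
  rw [C_mul']
  exact Submodule.smul_mem _ _ (ell_mem_degreeLT y σ)

theorem smul_interp (y : S) (hy : ∀ σ : G, σ ≠ 1 → IsUnit (σ • y - y)) (z : S) (ρ : G) :
    ρ • interp (G := G) y z = interp (G := G) y z := by
  classical
  have hinj : Function.Injective (fun σ : G => σ • y) := by
    intro σ τ hστ
    by_contra hne
    have := isUnit_smul_sub_smul y hy σ τ hne
    simp only at hστ
    rw [hστ, sub_self] at this
    exact not_isUnit_zero this
  have hcard : (Finset.univ.image (fun σ : G => σ • y)).card = Fintype.card G := by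
    rw [Finset.card_image_of_injective _ hinj, Finset.card_univ]
  apply eq_of_degrees_lt_of_eval_finset_eq (Finset.univ.image (fun σ : G => σ • y))
  · rw [hcard, ← mem_degreeLT, smul_eq_map]
    have := interp_mem_degreeLT (G := G) y z
    rw [mem_degreeLT] at this ⊢
    exact lt_of_le_of_lt (degree_map_le) this
  · rw [hcard, ← mem_degreeLT]
    exact interp_mem_degreeLT y z
  · intro x hx
    obtain ⟨σ, -, rfl⟩ := Finset.mem_image.mp hx
    rw [eval_interp y hy, smul_eval, smul_smul, eval_interp y hy, smul_smul, mul_inv_cancel_left]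

/-- Lagrange interpolation with invariant coefficients: `S = R[y]` -/
theorem exists_poly (y : S) (hy : ∀ σ : G, σ ≠ 1 → IsUnit (σ • y - y)) (z : S) :
    ∃ P : R[X], P.degree < Fintype.card G ∧ aeval y P = z := by
  have hlift : interp (G := G) y z ∈ lifts (algebraMap R S) := by
    rw [lifts_iff_coeff_lifts]
    intro k
    apply Algebra.IsInvariant.isInvariant (A := R) (G := G)
    intro ρ
    rw [← Polynomial.coeff_smul, smul_interp y hy]
  obtain ⟨P, hP, hdeg⟩ := exists_degree_eq_of_mem_lifts hlift
  refine ⟨P, ?_, ?_⟩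
  · rw [hdeg, ← mem_degreeLT]
    exact interp_mem_degreeLT y z
  · rw [aeval_def, eval₂_eq_eval_map, hP]
    have := eval_interp y hy z (1 : G)
    rwa [one_smul, one_smul] at this

end lagrange

section fieldlemma

/-- a finite group acting faithfully on a field has an element with trivial stabiliser -/
theorem exists_trivial_stabilizer (E A : Type*) [Field E] [Group A] [Finite A]
    [MulSemiringAction A E] [FaithfulSMul A E] : ∃ y : E, ∀ σ : A, σ • y = y → σ = 1 := by
  cases nonempty_fintype A
  obtain ⟨α, hα⟩ := Field.exists_primitive_element (FixedPoints.subfield A E) E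
  refine ⟨α, fun σ hσ => ?_⟩
  apply FaithfulSMul.eq_of_smul_eq_smul (α := E)
  intro x
  rw [one_smul]
  have hx : x ∈ (FixedPoints.subfield A E)⟮α⟯ := by
    rw [hα]
    trivial
  induction hx using IntermediateField.adjoin_induction with
  | mem x hx =>
    rw [Set.mem_singleton_iff] at hx
    rw [hx]
    exact hσ
  | algebraMap x => exact x.2 σ
  | add x y _ _ hx hy => rw [smul_add, hx, hy]
  | inv x _ hx => rw [smul_inv'', hx]
  | mul x y _ _ hx hy => rw [smul_mul', hx, hy]

end fieldlemma

section core

open scoped Pointwise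

variable {R S G : Type*} [CommRing R] [CommRing S] [IsDomain S] [Algebra R S] [Group G]
  [Finite G] [MulSemiringAction G S] [SMulCommClass G R S] [Algebra.IsInvariant R S G]
  (m : Ideal R) [m.IsMaximal] (n : Ideal S) [n.IsMaximal] [n.LiesOver m]

attribute [local instance] Ideal.Quotient.field

/-- trivial inertia gives an element whose conjugates are pairwise distinct modulo `n` -/
theorem exists_isUnit_smul_sub [Module.Finite (R ⧸ m) (S ⧸ n)]
    (hunit : ∀ x : S, x ∉ n → IsUnit x) (hstab : ∀ σ : G, σ • n = n)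
    (hin : ∀ σ : G, (∀ x : S, σ • x - x ∈ n) → σ = 1) :
    ∃ y : S, ∀ σ : G, σ ≠ 1 → IsUnit (σ • y - y) := by
  classical
  obtain ⟨ybar, hybar⟩ := exists_trivial_stabilizer (S ⧸ n) ((S ⧸ n) ≃ₐ[R ⧸ m] (S ⧸ n))
  obtain ⟨y, rfl⟩ := Ideal.Quotient.mk_surjective ybar
  refine ⟨y, fun σ hσ => hunit _ (fun hmem => hσ (hin σ ?_))⟩
  have hσn : σ ∈ MulAction.stabilizer G n := hstab σ
  have h1 : Ideal.Quotient.stabilizerHom n m G ⟨σ, hσn⟩ = 1 := by
    apply hybar
    rw [AlgEquiv.smul_def, Ideal.Quotient.stabilizerHom_apply]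
    exact Ideal.Quotient.eq.mpr hmem
  intro x
  have h2 := congrArg (fun a => a (Ideal.Quotient.mk n x)) h1
  simp only [Ideal.Quotient.stabilizerHom_apply, AlgEquiv.one_apply] at h2
  exact Ideal.Quotient.eq.mp h2

/-- the conjugates of `y` are pairwise distinct modulo `n` -/
theorem mk_smul_injective (y : S) (hy : ∀ σ : G, σ ≠ 1 → IsUnit (σ • y - y)) :
    Function.Injective (fun σ : G => Ideal.Quotient.mk n (σ • y)) := by
  classical
  cases nonempty_fintype G
  intro σ τ hστ
  by_contra hne
  have h1 := isUnit_smul_sub_smul y hy σ τ hne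
  have h2 : σ • y - τ • y ∈ n := Ideal.Quotient.eq.mp hστ
  exact (Ideal.IsMaximal.isPrime inferInstance : n.IsPrime).ne_top
    (Ideal.eq_top_of_isUnit_mem _ h2 h1)

/-- a polynomial of small degree whose value at `y` lies in `n` has coefficients in `m` -/
theorem coeff_mem_of_aeval_mem (y : S) (hy : ∀ σ : G, σ ≠ 1 → IsUnit (σ • y - y))
    (hstab : ∀ σ : G, σ • n = n) (Q : R[X]) (hdeg : Q.degree < Nat.card G)
    (hQ : aeval y Q ∈ n) (i : ℕ) : Q.coeff i ∈ m := by
  classical
  cases nonempty_fintype G
  have hinj := mk_smul_injective n y hy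
  have hcard : (Finset.univ.image (fun σ : G => Ideal.Quotient.mk n (σ • y))).card =
      Nat.card G := by
    rw [Finset.card_image_of_injective _ hinj, Finset.card_univ, Nat.card_eq_fintype_card]
  have hzero : Q.map (algebraMap R (S ⧸ n)) = 0 := by
    apply eq_zero_of_degree_lt_of_eval_finset_eq_zero
      (Finset.univ.image (fun σ : G => Ideal.Quotient.mk n (σ • y)))
    · rw [hcard]
      exact lt_of_le_of_lt degree_map_le hdeg
    · intro x hx
      obtain ⟨σ, -, rfl⟩ := Finset.mem_image.mp hx
      rw [eval_map, ← aeval_def]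
      have h1 : aeval (Ideal.Quotient.mk n (σ • y)) Q =
          Ideal.Quotient.mkₐ R n (aeval (σ • y) Q) := by
        rw [← aeval_algHom_apply]
        rfl
      have h2 : aeval (σ • y) Q = σ • aeval y Q := by
        have := aeval_algHom_apply (MulSemiringAction.toAlgHom R S σ) y Q
        simpa using this
      rw [h1, h2, Ideal.Quotient.mkₐ_eq_mk, Ideal.Quotient.eq_zero_iff_mem]
      have h3 : σ • aeval y Q ∈ σ • n := Ideal.smul_mem_pointwise_smul_iff.mpr hQ
      rwa [hstab σ] at h3
  have h4 : (Q.map (algebraMap R (S ⧸ n))).coeff i = 0 := by rw [hzero, coeff_zero]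
  rw [coeff_map, IsScalarTower.algebraMap_apply R S (S ⧸ n), Ideal.Quotient.algebraMap_eq,
    Ideal.Quotient.eq_zero_iff_mem] at h4
  rw [(Ideal.LiesOver.over : m = n.under R), Ideal.under_def, Ideal.mem_comap]
  exact h4

/-- the maximal ideal is generated by `m` -/
theorem map_eq_of_isUnit (y : S) (hy : ∀ σ : G, σ ≠ 1 → IsUnit (σ • y - y))
    (hstab : ∀ σ : G, σ • n = n) : m.map (algebraMap R S) = n := by
  classical
  cases nonempty_fintype G
  apply le_antisymm
  · rw [Ideal.map_le_iff_le_comap, (Ideal.LiesOver.over : m = n.under R)]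
  · intro z hz
    obtain ⟨P, hdeg, hP⟩ := exists_poly (R := R) (G := G) y hy z
    rw [← Nat.card_eq_fintype_card] at hdeg
    have hcoeff := coeff_mem_of_aeval_mem m n y hy hstab P hdeg (by rwa [hP])
    rw [← hP, aeval_eq_sum_range]
    refine Ideal.sum_mem _ (fun i _ => ?_)
    rw [Algebra.smul_def]
    exact Ideal.mul_mem_right _ _ (Ideal.mem_map_of_mem _ (hcoeff i))

/-- the residue field extension is separable -/
theorem isSeparable_of_isUnit (y : S) (hy : ∀ σ : G, σ ≠ 1 → IsUnit (σ • y - y)) :
    Algebra.IsSeparable (R ⧸ m) (S ⧸ n) := by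
  classical
  cases nonempty_fintype G
  have hinj := mk_smul_injective n y hy
  -- the characteristic polynomial of `y`
  obtain ⟨F, hF⟩ := (mem_lifts _).mp (Algebra.IsInvariant.charpoly_mem_lifts R S G y)
  set ybar : S ⧸ n := Ideal.Quotient.mk n y with hybar
  set Fbar : (R ⧸ m)[X] := F.map (algebraMap R (R ⧸ m)) with hFbar
  have hmap : Fbar.map (algebraMap (R ⧸ m) (S ⧸ n)) =
      ∏ σ : G, (X - C (Ideal.Quotient.mk n (σ • y))) := by
    rw [hFbar, Polynomial.map_map, ← IsScalarTower.algebraMap_eq,
      IsScalarTower.algebraMap_eq R S (S ⧸ n), ← Polynomial.map_map, hF,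
      MulSemiringAction.charpoly_eq, Polynomial.map_prod]
    refine Finset.prod_congr rfl (fun σ _ => ?_)
    rw [Polynomial.map_sub, map_X, map_C, Ideal.Quotient.algebraMap_eq]
  have hsep : Fbar.Separable := by
    rw [← separable_map (algebraMap (R ⧸ m) (S ⧸ n)), hmap]
    exact (separable_prod_X_sub_C_iff).mpr hinj
  have hroot : aeval ybar Fbar = 0 := by
    rw [aeval_def, eval₂_eq_eval_map, hmap, eval_prod]
    apply Finset.prod_eq_zero (Finset.mem_univ (1 : G))
    rw [one_smul, eval_sub, eval_X, eval_C, sub_self]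
  have hysep : IsSeparable (R ⧸ m) ybar := hsep.of_dvd (minpoly.dvd _ _ hroot)
  rw [← separableClosure.eq_top_iff, eq_top_iff]
  intro x _
  obtain ⟨z, rfl⟩ := Ideal.Quotient.mk_surjective x
  obtain ⟨P, -, hP⟩ := exists_poly (R := R) (G := G) y hy z
  have h1 : Ideal.Quotient.mk n z = aeval ybar (P.map (algebraMap R (R ⧸ m))) := by
    rw [aeval_map_algebraMap, ← hP, hybar, ← Ideal.Quotient.mkₐ_eq_mk R,
      ← aeval_algHom_apply]
  rw [h1]
  have h2 : ybar ∈ (separableClosure (R ⧸ m) (S ⧸ n)).toSubalgebra :=
    mem_separableClosure_iff.mpr hysep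
  have h3 := Subalgebra.aeval_coe (separableClosure (R ⧸ m) (S ⧸ n)).toSubalgebra ⟨ybar, h2⟩
    (P.map (algebraMap R (R ⧸ m)))
  simp only at h3
  rw [h3]
  exact SetLike.coe_mem _

end core

section nakayama

variable {R S : Type*} [CommRing R] [CommRing S] [Algebra R S] [IsLocalRing R] [Module.Finite R S]
  (n : Ideal S) [n.IsMaximal] [n.LiesOver (maximalIdeal R)]

attribute [local instance] Ideal.Quotient.field

/-- if `mS = n`, then `S` is generated by `[κ(n) : κ(m)]` elements -/
theorem finrank_le_of_map_eq (h : (maximalIdeal R).map (algebraMap R S) = n)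
    [Module.Finite (R ⧸ maximalIdeal R) (S ⧸ n)] :
    Module.finrank R S ≤ Module.finrank (R ⧸ maximalIdeal R) (S ⧸ n) := by
  let b := Module.finBasis (R ⧸ maximalIdeal R) (S ⧸ n)
  choose b' hb' using fun i => Ideal.Quotient.mk_surjective (b i)
  have hspan : Submodule.span R (Set.range b') = ⊤ := by
    rw [← top_le_iff]
    apply Submodule.le_of_le_smul_of_le_jacobson_bot (I := maximalIdeal R)
    · exact Module.finite_def.mp inferInstance
    · exact (jacobson_eq_maximalIdeal ⊥ bot_ne_top).ge
    · intro x _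
      -- expand the class of `x` in the basis
      have hx := b.sum_repr (Ideal.Quotient.mk n x)
      choose c hc using fun i => Ideal.Quotient.mk_surjective (b.repr (Ideal.Quotient.mk n x) i)
      have h1 : Ideal.Quotient.mk n (∑ i, c i • b' i) = Ideal.Quotient.mk n x := by
        rw [map_sum, ← hx]
        refine Finset.sum_congr rfl (fun i _ => ?_)
        rw [Algebra.smul_def, map_mul, hb', ← hc i, Algebra.smul_def,
          Ideal.Quotient.algebraMap_mk_of_liesOver n (maximalIdeal R)]
      have h2 : x - ∑ i, c i • b' i ∈ n := Ideal.Quotient.eq.mp h1.symm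
      have h3 : x = ∑ i, c i • b' i + (x - ∑ i, c i • b' i) := by ring
      rw [h3]
      refine Submodule.add_mem_sup ?_ ?_
      · exact Submodule.sum_mem _ (fun i _ => Submodule.smul_mem _ _
          (Submodule.subset_span (Set.mem_range_self i)))
      · rw [Ideal.smul_top_eq_map, h]
        exact h2
  have := finrank_le_of_span_eq_top hspan
  rwa [Fintype.card_fin] at this

end nakayama

section main

open scoped Pointwise

attribute [local instance] FractionRing.liftAlgebra in
/-- `S` is a finite `R`-module -/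
theorem finite_of_isGaloisGroup (R S G : Type u) [CommRing R] [CommRing S] [IsDomain R]
    [IsDomain S] [IsNoetherianRing R] [IsIntegrallyClosed R]
    [Algebra R S] [FaithfulSMul R S] [IsIntegrallyClosed S]
    [Group G] [Finite G] [MulSemiringAction G S] [SMulCommClass G R S] [IsGaloisGroup G R S] :
    Module.Finite R S := by
  have hint : Algebra.IsIntegral R S := (IsGaloisGroup.isInvariant (G := G)).isIntegral
  let _ := IsFractionRing.mulSemiringAction G S (FractionRing S)
  have hgal : IsGaloisGroup G (FractionRing R) (FractionRing S) := inferInstance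
  have : IsGalois (FractionRing R) (FractionRing S) := hgal.isGalois
  have : FiniteDimensional (FractionRing R) (FractionRing S) := hgal.finiteDimensional
  have : IsIntegralClosure S R (FractionRing S) :=
    IsIntegralClosure.of_isIntegrallyClosed S R (FractionRing S)
  exact IsIntegralClosure.finite R (FractionRing R) (FractionRing S) S

attribute [local instance] Ideal.Quotient.field in
/-- unramified at `n` implies trivial inertia -/
theorem inertia_eq_bot_of_map_eq (R S G : Type u) [CommRing R] [CommRing S] [IsDomain R]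
    [IsDomain S] [IsNoetherianRing R] [IsLocalRing R] [IsIntegrallyClosed R]
    [Algebra R S] [FaithfulSMul R S] [IsIntegrallyClosed S]
    [Group G] [Finite G] [MulSemiringAction G S] [SMulCommClass G R S] [IsGaloisGroup G R S]
    (n : Ideal S) [n.IsMaximal] [n.LiesOver (maximalIdeal R)]
    (h : (maximalIdeal R).map (algebraMap R S) = n)
    [Module.Finite (R ⧸ maximalIdeal R) (S ⧸ n)]
    [Algebra.IsSeparable (R ⧸ maximalIdeal R) (S ⧸ n)] :
    n.toAddSubgroup.inertia G = ⊥ := by
  have hfin : Module.Finite R S := finite_of_isGaloisGroup R S G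
  have h1 := Groth.Agent.Lib.T2H9.InertiaField.card_stabilizer_eq_card_inertia_mul_card_aut
    (H := G) (maximalIdeal R) n
  have h2 : Nat.card (MulAction.stabilizer G n) ≤ Nat.card G := Subgroup.card_le_card_group _
  have h3 : Nat.card G = Module.finrank R S := IsGaloisGroup.card_eq_finrank' G R S
  have h4 := finrank_le_of_map_eq n h
  have hinv : Algebra.IsInvariant R S G := IsGaloisGroup.isInvariant
  have hnormal : Normal (R ⧸ maximalIdeal R) (S ⧸ n) :=
    Ideal.Quotient.normal G (maximalIdeal R) n
  have hgal : IsGalois (R ⧸ maximalIdeal R) (S ⧸ n) := { }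
  have h5 : Nat.card ((S ⧸ n) ≃ₐ[R ⧸ maximalIdeal R] (S ⧸ n)) =
      Module.finrank (R ⧸ maximalIdeal R) (S ⧸ n) := IsGalois.card_aut_eq_finrank _ _
  have hpos : 0 < Module.finrank (R ⧸ maximalIdeal R) (S ⧸ n) := Module.finrank_pos
  apply Subgroup.eq_bot_of_card_le
  have h6 : Nat.card (n.inertia G) * Module.finrank (R ⧸ maximalIdeal R) (S ⧸ n) ≤
      1 * Module.finrank (R ⧸ maximalIdeal R) (S ⧸ n) := by
    rw [one_mul, ← h5, ← h1]
    exact h2.trans (h3.le.trans (h4.trans h5.ge))
  exact Nat.le_of_mul_le_mul_right h6 hpos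

attribute [local instance] Ideal.Quotient.field in
/-- trivial inertia implies unramified at `n` -/
theorem map_eq_of_inertia_eq_bot (R S G : Type u) [CommRing R] [CommRing S] [IsDomain R]
    [IsDomain S] [IsNoetherianRing R] [IsLocalRing R] [IsIntegrallyClosed R]
    [IsAdicComplete (maximalIdeal R) R]
    [Algebra R S] [FaithfulSMul R S] [IsIntegrallyClosed S]
    [Group G] [Finite G] [MulSemiringAction G S] [SMulCommClass G R S] [IsGaloisGroup G R S]
    (n : Ideal S) [n.IsMaximal] [n.LiesOver (maximalIdeal R)]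
    (h : n.toAddSubgroup.inertia G = ⊥) :
    (maximalIdeal R).map (algebraMap R S) = n ∧
      Module.Finite (R ⧸ maximalIdeal R) (S ⧸ n) ∧
      Algebra.IsSeparable (R ⧸ maximalIdeal R) (S ⧸ n) := by
  have hfin : Module.Finite R S := finite_of_isGaloisGroup R S G
  have hinv : Algebra.IsInvariant R S G := IsGaloisGroup.isInvariant
  have hint : Algebra.IsIntegral R S := hinv.isIntegral
  have hens : HenselianLocalRing R :=
    Groth.Agent.Lib.Helper28.GeomRed.henselianLocalRing_of_isAdicComplete R
  have hloc : IsLocalRing S :=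
    Groth.Agent.Lib.Helper7.GeomInt.isLocalRing_of_isIntegral_of_isDomain R S
  have hn : n = maximalIdeal S := IsLocalRing.eq_maximalIdeal inferInstance
  have hunit : ∀ x : S, x ∉ n → IsUnit x := by
    intro x hx
    rw [hn] at hx
    exact IsLocalRing.notMem_maximalIdeal.mp hx
  have hle : ∀ σ : G, σ • n ≤ n := by
    intro σ x hx
    rw [Ideal.mem_pointwise_smul_iff_inv_smul_mem] at hx
    by_contra hxn
    have hu : IsUnit x := hunit x hxn
    have hu' : IsUnit (σ⁻¹ • x) := hu.map (MulSemiringAction.toRingHom G S σ⁻¹)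
    exact (Ideal.IsMaximal.isPrime inferInstance : n.IsPrime).ne_top
      (Ideal.eq_top_of_isUnit_mem _ hx hu')
  have hstab : ∀ σ : G, σ • n = n := by
    intro σ
    apply le_antisymm (hle σ)
    have := hle σ⁻¹
    intro x hx
    have h1 : σ⁻¹ • x ∈ σ⁻¹ • n := Ideal.smul_mem_pointwise_smul_iff.mpr hx
    have h2 := this h1
    have h3 : σ • σ⁻¹ • x ∈ σ • n := Ideal.smul_mem_pointwise_smul_iff.mpr h2
    rwa [smul_inv_smul] at h3
  have hfinres : Module.Finite (R ⧸ maximalIdeal R) (S ⧸ n) :=
    Module.Finite.of_restrictScalars_finite R _ _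
  have hin : ∀ σ : G, (∀ x : S, σ • x - x ∈ n) → σ = 1 := by
    intro σ hσ
    have : σ ∈ n.toAddSubgroup.inertia G := hσ
    rw [h] at this
    exact Subgroup.mem_bot.mp this
  obtain ⟨y, hy⟩ := exists_isUnit_smul_sub (maximalIdeal R) n hunit hstab hin
  exact ⟨map_eq_of_isUnit (maximalIdeal R) n y hy hstab, hfinres,
    isSeparable_of_isUnit (maximalIdeal R) n y hy⟩

end main

end Groth.Agent.Lib.T2H9.InertiaComplete
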