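import Mathlib
import Groth.Agent.Lib.T2H9InertiaField

/-! The inertia field of a Galois extension of the fraction field of a discrete valuation ring:
the localization of its ring of integers at the prime below is etale over the base. -/

set_option autoImplicit false
set_option linter.style.haveILetI false
set_option linter.unusedSectionVars false
universe u

namespace Groth.Agent.Lib.T2H9.InertiaEtale

open IsLocalRing

section part1

theorem invariants_iff (A K L B : Type u) [CommRing A] [IsDomain A]
    [IsDiscreteValuationRing A] [Field K] [Field L] [Algebra A K] [IsFractionRing A K] [Algebra K L]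
    [Algebra A L] [IsScalarTower A K L] [FiniteDimensional K L] [IsGalois K L]
    [CommRing B] [Algebra A B] [Algebra B L] [IsScalarTower A B L] [IsIntegralClosure B A L]
    [MulSemiringAction (L ≃ₐ[K] L) B]
    (hact : ∀ (σ : L ≃ₐ[K] L) (b : B), algebraMap B L (σ • b) = σ (algebraMap B L b))
    (H : Subgroup (L ≃ₐ[K] L))
    (B' : Type u) [CommRing B'] [Algebra A B'] [Algebra B' B] [IsScalarTower A B' B] [Algebra B' L]
    [IsScalarTower B' B L]
    [Algebra B' (IntermediateField.fixedField H)]
    [IsScalarTower B' (IntermediateField.fixedField H) L]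
    [IsIntegralClosure B' A (IntermediateField.fixedField H)] (b : B) :
    (∀ σ ∈ H, σ • b = b) ↔ b ∈ Set.range (algebraMap B' B) := by
  have hinj : Function.Injective (algebraMap B L) := IsIntegralClosure.algebraMap_injective B A L
  have : IsScalarTower A (IntermediateField.fixedField H) L :=
    IsScalarTower.of_algebraMap_eq (fun _ => rfl)
  constructor
  · intro hb
    have hx : algebraMap B L b ∈ IntermediateField.fixedField H := by
      rw [IntermediateField.mem_fixedField_iff]
      intro σ hσ
      rw [← hact, hb σ hσ]
    have hint : IsIntegral A (algebraMap B L b) := (IsIntegralClosure.isIntegral A L b).algebraMap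
    have hint' : IsIntegral A (⟨algebraMap B L b, hx⟩ : IntermediateField.fixedField H) := by
      rw [← isIntegral_algebraMap_iff (algebraMap (IntermediateField.fixedField H) L).injective]
      exact hint
    obtain ⟨b', hb'⟩ := (IsIntegralClosure.isIntegral_iff (A := B')).mp hint'
    refine ⟨b', hinj ?_⟩
    rw [← IsScalarTower.algebraMap_apply,
      IsScalarTower.algebraMap_apply B' (IntermediateField.fixedField H) L, hb']
    rfl
  · rintro ⟨b', rfl⟩ σ hσ
    apply hinj
    rw [hact, ← IsScalarTower.algebraMap_apply,
      IsScalarTower.algebraMap_apply B' (IntermediateField.fixedField H) L]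
    exact (IntermediateField.mem_fixedField_iff H _).mp (algebraMap B' (IntermediateField.fixedField H) b').2 σ hσ

end part1

section fp

/-- the localization of a finite extension of a discrete valuation ring at a maximal ideal is a
principal localization, hence finitely presented -/
theorem finitePresentation_atPrime (A B' : Type u) [CommRing A] [IsDomain A]
    [IsDiscreteValuationRing A] [CommRing B'] [IsDomain B'] [Algebra A B'] [Module.Finite A B']
    (q : Ideal B') [q.IsMaximal] :
    Algebra.FinitePresentation A (Localization.AtPrime q) := by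
  classical
  haveI : Algebra.IsIntegral A B' := Algebra.IsIntegral.of_finite A B'
  have hfin : ((maximalIdeal A).primesOver B').Finite :=
    Algebra.QuasiFinite.finite_primesOver (maximalIdeal A)
  set T : Finset (Ideal B') := hfin.toFinset.erase q with hT
  have hTmax : ∀ Q ∈ T, Q.IsMaximal := by
    intro Q hQ
    rw [hT, Finset.mem_erase, Set.Finite.mem_toFinset] at hQ
    obtain ⟨_, hQp, hQo⟩ := hQ
    haveI := hQp
    apply Ideal.isMaximal_of_isIntegral_of_isMaximal_comap (R := A) Q
    have : Q.comap (algebraMap A B') = maximalIdeal A := hQo.over.symm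
    rw [this]
    infer_instance
  have h1 : ¬ T.inf id ≤ q := by
    intro hle
    obtain ⟨Q, hQ, hQq⟩ := (Ideal.IsPrime.inf_le' inferInstance).mp hle
    have hQmax := hTmax Q hQ
    have : Q = q := hQmax.eq_of_le (Ideal.IsMaximal.ne_top inferInstance) hQq
    rw [hT, Finset.mem_erase] at hQ
    exact hQ.1 this
  obtain ⟨s, hsJ, hsq⟩ := SetLike.not_le_iff_exists.mp h1
  have hdvd : ∀ t ∈ q.primeCompl, ∃ x ∈ Submonoid.powers s, t ∣ x := by
    intro t ht
    have ht0 : t ≠ 0 := fun h0 => ht (h0 ▸ q.zero_mem)
    have hrad : s ∈ (Ideal.span {t}).radical := by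
      rw [Ideal.radical_eq_sInf, Ideal.mem_sInf]
      rintro Q ⟨hQt, hQp⟩
      haveI := hQp
      have htQ : t ∈ Q := hQt (Ideal.mem_span_singleton_self t)
      have hQA : Q.comap (algebraMap A B') ≠ ⊥ :=
        Ideal.comap_ne_bot_of_integral_mem ht0 htQ (Algebra.IsIntegral.isIntegral t)
      have hQAmax : (Q.comap (algebraMap A B')).IsMaximal :=
        Ideal.IsPrime.isMaximal (Ideal.comap_isPrime _ _) hQA
      have hQo : Q ∈ (maximalIdeal A).primesOver B' :=
        ⟨hQp, ⟨(eq_maximalIdeal hQAmax).symm⟩⟩
      have hQq : Q ≠ q := fun h => ht (h ▸ htQ)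
      have hQT : Q ∈ T := by
        rw [hT, Finset.mem_erase, Set.Finite.mem_toFinset]
        exact ⟨hQq, hQo⟩
      exact (Finset.inf_le hQT : T.inf id ≤ id Q) hsJ
    obtain ⟨n, hn⟩ := hrad
    exact ⟨s ^ n, ⟨n, rfl⟩, Ideal.mem_span_singleton.mp hn⟩
  haveI : IsLocalization q.primeCompl (Localization.Away s) :=
    IsLocalization.of_le_of_exists_dvd (Submonoid.powers s) q.primeCompl
      (Submonoid.powers_le.mpr hsq) hdvd
  let e : Localization.Away s ≃ₐ[B'] Localization.AtPrime q :=
    IsLocalization.algEquiv q.primeCompl _ _
  haveI : Algebra.FinitePresentation B' (Localization.Away s) :=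
    IsLocalization.Away.finitePresentation s
  haveI : Algebra.FinitePresentation B' (Localization.AtPrime q) :=
    Algebra.FinitePresentation.equiv e
  haveI : Algebra.FinitePresentation A B' :=
    Algebra.FinitePresentation.of_finiteType.mp inferInstance
  exact Algebra.FinitePresentation.trans A B' (Localization.AtPrime q)

end fp

section part2

open scoped Pointwise

theorem etale_aux (A K L B : Type u) [CommRing A] [IsDomain A]
    [IsDiscreteValuationRing A] [Field K] [Field L] [Algebra A K] [IsFractionRing A K] [Algebra K L]
    [Algebra A L] [IsScalarTower A K L] [FiniteDimensional K L] [IsGalois K L]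
    [CommRing B] [Algebra A B] [Algebra B L] [IsScalarTower A B L] [IsIntegralClosure B A L]
    [MulSemiringAction (L ≃ₐ[K] L) B]
    (hact : ∀ (σ : L ≃ₐ[K] L) (b : B), algebraMap B L (σ • b) = σ (algebraMap B L b))
    (m : Ideal B) [m.IsMaximal]
    (B' : Type u) [CommRing B'] [Algebra A B'] [Algebra B' B] [IsScalarTower A B' B] [Algebra B' L]
    [IsScalarTower B' B L]
    [Algebra B' (IntermediateField.fixedField (m.inertia (L ≃ₐ[K] L)))]
    [IsScalarTower B' (IntermediateField.fixedField (m.inertia (L ≃ₐ[K] L))) L]
    [IsIntegralClosure B' A (IntermediateField.fixedField (m.inertia (L ≃ₐ[K] L)))] :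
    Algebra.Etale A (Localization.AtPrime (m.comap (algebraMap B' B))) := by
  have hinjB : Function.Injective (algebraMap B L) := IsIntegralClosure.algebraMap_injective B A L
  have hinjB' : Function.Injective
      (algebraMap B' (IntermediateField.fixedField (m.inertia (L ≃ₐ[K] L)))) :=
    IsIntegralClosure.algebraMap_injective B' A _
  haveI : IsDomain B := hinjB.isDomain _
  haveI : IsDomain B' := hinjB'.isDomain _
  haveI : IsScalarTower A (IntermediateField.fixedField (m.inertia (L ≃ₐ[K] L))) L :=
    IsScalarTower.of_algebraMap_eq (fun _ => rfl)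
  haveI : IsScalarTower A B' (IntermediateField.fixedField (m.inertia (L ≃ₐ[K] L))) := by
    refine IsScalarTower.of_algebraMap_eq (fun a => Subtype.ext ?_)
    have h1 : ((algebraMap B' (IntermediateField.fixedField (m.inertia (L ≃ₐ[K] L)))
        (algebraMap A B' a) : IntermediateField.fixedField (m.inertia (L ≃ₐ[K] L))) : L) =
        algebraMap B' L (algebraMap A B' a) :=
      (IsScalarTower.algebraMap_apply B' (IntermediateField.fixedField (m.inertia (L ≃ₐ[K] L)))
        L _).symm
    rw [h1, IsScalarTower.algebraMap_apply B' B L, ← IsScalarTower.algebraMap_apply A B' B,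
      ← IsScalarTower.algebraMap_apply A B L]
    rfl
  haveI : IsFractionRing B L := IsIntegralClosure.isFractionRing_of_finite_extension A K L B
  haveI : IsFractionRing B' (IntermediateField.fixedField (m.inertia (L ≃ₐ[K] L))) :=
    IsIntegralClosure.isFractionRing_of_finite_extension A K
      (IntermediateField.fixedField (m.inertia (L ≃ₐ[K] L))) B'
  haveI : Module.Finite A B := IsIntegralClosure.finite A K L B
  haveI : Module.Finite A B' := IsIntegralClosure.finite A K
      (IntermediateField.fixedField (m.inertia (L ≃ₐ[K] L))) B'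
  haveI : IsDedekindDomain B := IsIntegralClosure.isDedekindDomain A K L B
  haveI : IsDedekindDomain B' := IsIntegralClosure.isDedekindDomain A K
      (IntermediateField.fixedField (m.inertia (L ≃ₐ[K] L))) B'
  haveI : Algebra.IsIntegral A B := IsIntegralClosure.isIntegral_algebra A L
  haveI : Algebra.IsIntegral A B' :=
    IsIntegralClosure.isIntegral_algebra A (IntermediateField.fixedField (m.inertia (L ≃ₐ[K] L)))
  haveI : Algebra.IsIntegral B' B := Algebra.IsIntegral.tower_top A
  haveI : Module.Finite B' B := Module.Finite.of_restrictScalars_finite A B' B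
  have hinjAB : Function.Injective (algebraMap A B) := by
    intro a b hab
    have := congrArg (algebraMap B L) hab
    rw [← IsScalarTower.algebraMap_apply, ← IsScalarTower.algebraMap_apply,
      IsScalarTower.algebraMap_apply A K L, IsScalarTower.algebraMap_apply A K L] at this
    exact IsFractionRing.injective A K ((algebraMap K L).injective this)
  have hinjB'B : Function.Injective (algebraMap B' B) := by
    intro a b hab
    have := congrArg (algebraMap B L) hab
    rw [← IsScalarTower.algebraMap_apply, ← IsScalarTower.algebraMap_apply,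
      IsScalarTower.algebraMap_apply B' (IntermediateField.fixedField (m.inertia (L ≃ₐ[K] L))) L,
      IsScalarTower.algebraMap_apply B' (IntermediateField.fixedField (m.inertia (L ≃ₐ[K] L))) L]
      at this
    exact hinjB' ((algebraMap _ L).injective this)
  have hinjAB' : Function.Injective (algebraMap A B') := by
    intro a b hab
    apply hinjAB
    rw [IsScalarTower.algebraMap_apply A B' B, hab, ← IsScalarTower.algebraMap_apply A B' B]
  haveI : FaithfulSMul A B := (faithfulSMul_iff_algebraMap_injective A B).mpr hinjAB
  haveI : FaithfulSMul A B' := (faithfulSMul_iff_algebraMap_injective A B').mpr hinjAB'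
  haveI : FaithfulSMul B' B := (faithfulSMul_iff_algebraMap_injective B' B).mpr hinjB'B
  haveI : Module.Flat A B := inferInstance
  haveI : Module.Flat A B' := inferInstance
  haveI : Module.Flat B' B := inferInstance
  -- the group actions
  haveI : SMulDistribClass (L ≃ₐ[K] L) B L := ⟨fun g b x => by
    rw [Algebra.smul_def, Algebra.smul_def, AlgEquiv.smul_def, AlgEquiv.smul_def, map_mul, hact]⟩
  haveI : IsGaloisGroup (L ≃ₐ[K] L) A B := IsGaloisGroup.of_isFractionRing (L ≃ₐ[K] L) A B K L
  haveI : IsGaloisGroup (m.inertia (L ≃ₐ[K] L))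
      (IntermediateField.fixedField (m.inertia (L ≃ₐ[K] L))) L :=
    IsGaloisGroup.of_fixedPoints_eq (L ≃ₐ[K] L) K L _ _ rfl
  haveI : SMulDistribClass (m.inertia (L ≃ₐ[K] L)) B L := ⟨fun g b x => by
    rw [Subgroup.smul_def, Subgroup.smul_def, Subgroup.smul_def, smul_distrib_smul]⟩
  haveI : IsGaloisGroup (m.inertia (L ≃ₐ[K] L)) B' B :=
    IsGaloisGroup.of_isFractionRing (m.inertia (L ≃ₐ[K] L)) B' B
      (IntermediateField.fixedField (m.inertia (L ≃ₐ[K] L))) L
  -- the primes
  haveI hm' : (m.comap (algebraMap B' B)).IsMaximal :=
    Ideal.isMaximal_comap_of_isIntegral_of_isMaximal m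
  haveI : m.LiesOver (m.comap (algebraMap B' B)) := ⟨rfl⟩
  haveI : (m.comap (algebraMap B' B)).LiesOver (maximalIdeal A) := ⟨by
    have : ((m.comap (algebraMap B' B)).under A).IsMaximal :=
      Ideal.isMaximal_comap_of_isIntegral_of_isMaximal _
    exact (eq_maximalIdeal this).symm⟩
  haveI : m.LiesOver (maximalIdeal A) := Ideal.LiesOver.trans m (m.comap (algebraMap B' B)) _
  obtain ⟨he, hsep⟩ := Groth.Agent.Lib.T2H9.InertiaField.unramified_of_inertia
    (R := A) (S' := B') (S := B) (G := (L ≃ₐ[K] L)) (maximalIdeal A)
    (m.comap (algebraMap B' B)) m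
  -- unramified
  letI := Localization.AtPrime.algebraOfLiesOver (maximalIdeal A) (m.comap (algebraMap B' B))
  have hunr : Algebra.IsUnramifiedAt A (m.comap (algebraMap B' B)) := by
    rw [Algebra.isUnramifiedAt_iff_map_eq A (maximalIdeal A) (m.comap (algebraMap B' B))]
    refine ⟨Algebra.isSeparable_residueField_iff.mpr hsep, ?_⟩
    rw [Ideal.ramificationIdx_def, ENat.toNat_eq_iff_eq_natCast, Nat.cast_one,
      Module.length_eq_one_iff, isSimpleModule_iff_isCoatom, ← Ideal.isMaximal_def,
      IsLocalRing.isMaximal_iff] at he
    rwa [← Ideal.over_def (m.comap (algebraMap B' B)) (maximalIdeal A)] at he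
  haveI : Algebra.FormallyUnramified A (Localization.AtPrime (m.comap (algebraMap B' B))) := hunr
  haveI : Module.Flat B' (Localization.AtPrime (m.comap (algebraMap B' B))) := inferInstance
  haveI : Module.Flat A (Localization.AtPrime (m.comap (algebraMap B' B))) :=
    Module.Flat.trans A B' _
  haveI : Algebra.FinitePresentation A (Localization.AtPrime (m.comap (algebraMap B' B))) :=
    finitePresentation_atPrime A B' _
  exact Algebra.Etale.of_formallyUnramified_of_flat

end part2

end Groth.Agent.Lib.T2H9.InertiaEtale
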