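import Groth.Agent.Lib.T2H9IntMultRing
import Groth.Agent.Lib.Helper4DimFormulaAV
import Groth.Agent.Lib.Helper13AB
import Groth.Agent.Lib.Helper13ABLocal
import Groth.Agent.Lib.Helper13TorNat
import Groth.Agent.Lib.Helper28DepthCM

/-!
# Tor vanishing for Cohen–Macaulay quotients of a regular local ring meeting properly (T2H9)
-/

set_option autoImplicit false
set_option linter.style.haveILetI false
set_option linter.unusedSectionVars false
set_option linter.unusedVariables false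
universe u
open CategoryTheory MonoidalCategory

namespace Groth.Agent.Lib.T2H9.IntMultRing

open Groth.Agent.Helper13Tor Groth.Agent.Helper13Kz RingTheory.Sequence IsLocalRing

variable {A : Type u} [CommRing A]

/-- a Cohen–Macaulay quotient ring is a Cohen–Macaulay module -/
theorem isCohenMacaulayModule_quot [IsLocalRing A] [IsNoetherianRing A] (Q : Ideal A)
    (hCM : LocCoh.IsCohenMacaulayLocalRing (A ⧸ Q)) : LocCoh.IsCohenMacaulayModule A (A ⧸ Q) := by
  haveI := hCM.toIsLocalRing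
  have h := hCM.supportDim_eq_depth
  unfold LocCoh.IsCohenMacaulayModule
  rw [Module.supportDim_self_eq_ringKrullDim,
    Groth.Agent.Lib.Helper28.depth_quotient_self_eq Q] at h
  rw [Module.supportDim_quotient_eq_ringKrullDim]
  exact h

/-- `χ` is the length of `Tor_0` when the higher `Tor` vanish -/
theorem chi_eq_of_isZero_tor (M N : Type u) [AddCommGroup M] [Module A M] [AddCommGroup N]
    [Module A N]
    (h : ∀ i : ℕ, 0 < i → Limits.IsZero (((Tor (ModuleCat.{u} A) i).obj (ModuleCat.of A M)).obj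
      (ModuleCat.of A N))) :
    IntMult.chi A M N = ((Module.length A (TensorProduct A M N)).toNat : ℤ) := by
  unfold IntMult.chi
  rw [finsum_eq_single _ 0]
  · have e := (Groth.Agent.Helper13Tor.torZeroIso.app (ModuleCat.of A M)).app (ModuleCat.of A N)
    have : Module.length A (DRing.Tor A 0 M N) = Module.length A (TensorProduct A M N) :=
      e.toLinearEquiv.length_eq
    rw [this]
    simp
  · intro i hi
    have hz := h i (Nat.pos_of_ne_zero hi)
    have : Subsingleton (DRing.Tor A i M N) := ModuleCat.subsingleton_of_isZero hz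
    rw [Module.length_eq_zero_iff.mpr this]
    simp

section CMCM

variable [IsRegularLocalRing A] (P Q : Ideal A)

/-- both quotients Cohen–Macaulay: the higher `Tor` vanish -/
theorem isZero_tor_of_CM_CM (hPne : P ≠ ⊤) (hQne : Q ≠ ⊤)
    (hCMP : LocCoh.IsCohenMacaulayLocalRing (A ⧸ P))
    (hCMQ : LocCoh.IsCohenMacaulayLocalRing (A ⧸ Q))
    (hmax : ∀ 𝔭 : Ideal A, 𝔭.IsPrime → P ⊔ Q ≤ 𝔭 → 𝔭.IsMaximal)
    (hdim : ringKrullDim A ≤ ringKrullDim (A ⧸ P) + ringKrullDim (A ⧸ Q)) (i : ℕ) (hi : 0 < i) :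
    Limits.IsZero (((Tor (ModuleCat.{u} A) i).obj (ModuleCat.of A (A ⧸ P))).obj
      (ModuleCat.of A (A ⧸ Q))) := by
  have hMP := isCohenMacaulayModule_quot P hCMP
  have hMQ := isCohenMacaulayModule_quot Q hCMQ
  obtain ⟨p, hp⟩ := exists_nat_dim_quot P hPne
  obtain ⟨q, hq⟩ := exists_nat_dim_quot Q hQne
  obtain ⟨d, hd⟩ := Groth.Agent.Lib.Helper5.exists_nat_ringKrullDim_eq A
  rw [hp, hq, hd] at hdim
  have hdim' : d ≤ p + q := by exact_mod_cast hdim
  haveI : Nontrivial (A ⧸ P) := Ideal.Quotient.nontrivial_iff.mpr hPne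
  -- projective dimension of `A/P`
  obtain ⟨e, he⟩ := Groth.Agent.Lib.Helper4.DimFormula.exists_nat_projectiveDimension_eq A (A ⧸ P)
  have hAB := Groth.Agent.Lib.Helper4.DimFormula.depth_add_projectiveDimension_eq_ringKrullDim A
    (A ⧸ P)
  unfold LocCoh.IsCohenMacaulayModule at hMP
  rw [Module.supportDim_quotient_eq_ringKrullDim, hp] at hMP
  rw [← hMP, he, hd] at hAB
  have hAB' : p + e = d := by exact_mod_cast hAB
  have hpd : HasProjectiveDimensionLT (ModuleCat.of A (A ⧸ P)) (e + 1) := by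
    rw [← projectiveDimension_lt_iff, he]
    exact_mod_cast Nat.lt_succ_self e
  -- a regular sequence on `A/Q` inside `P`
  have h0 := supportDim_quot_eq_zero P Q hPne hQne hmax
  have hdepth := Groth.Agent.Lib.Helper28.supportDim_eq_add_idealDepth_of_isCohenMacaulayModule P hPne
    hMQ
  rw [h0, zero_add, Module.supportDim_quotient_eq_ringKrullDim, hq] at hdepth
  have hPM : P • (⊤ : Submodule A (A ⧸ Q)) ≠ ⊤ := by
    intro htop
    have : Subsingleton ((A ⧸ Q) ⧸ (P • ⊤ : Submodule A (A ⧸ Q))) := by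
      rw [htop]
      infer_instance
    have hb := (Module.supportDim_eq_bot_iff_subsingleton (R := A)
      (M := (A ⧸ Q) ⧸ (P • ⊤ : Submodule A (A ⧸ Q)))).mpr this
    rw [h0] at hb
    simp at hb
  have hq' : (q : ℕ∞) ≤ LocCoh.idealDepth P (A ⧸ Q) := by
    have : ((q : ℕ∞) : WithBot ℕ∞) = ((LocCoh.idealDepth P (A ⧸ Q) : ℕ∞) : WithBot ℕ∞) := hdepth
    exact le_of_eq (WithBot.coe_injective this)
  obtain ⟨rs, hlen, hmem, hreg⟩ :=
    (Groth.Agent.Lib.Helper28.natCast_le_idealDepth_iff hPM q).mp hq'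
  by_contra hnz
  have hX : ∀ r ∈ rs, ∀ x : (ModuleCat.of A (A ⧸ P)), r • x = 0 := by
    intro r hr x
    obtain ⟨a, rfl⟩ := Ideal.Quotient.mk_surjective (x : A ⧸ P)
    show r • (Ideal.Quotient.mk P a) = 0
    rw [← Ideal.Quotient.mk_eq_mk, ← Submodule.Quotient.mk_smul, Ideal.Quotient.mk_eq_mk]
    exact Ideal.Quotient.eq_zero_iff_mem.mpr (P.mul_mem_right a (hmem r hr))
  have h1 := Groth.Agent.Helper13AB.not_isZero_tor_add_length (X := ModuleCat.of A (A ⧸ P))
    hreg.toIsWeaklyRegular hX i hnz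
  exact h1 (Groth.Agent.Helper13ABLocal.isZero_tor_of_pdLT₁ _ e _ hpd (i + rs.length) (by omega))

theorem chi_of_CM_CM (hPne : P ≠ ⊤) (hQne : Q ≠ ⊤)
    (hCMP : LocCoh.IsCohenMacaulayLocalRing (A ⧸ P))
    (hCMQ : LocCoh.IsCohenMacaulayLocalRing (A ⧸ Q))
    (hmax : ∀ 𝔭 : Ideal A, 𝔭.IsPrime → P ⊔ Q ≤ 𝔭 → 𝔭.IsMaximal)
    (hdim : ringKrullDim A ≤ ringKrullDim (A ⧸ P) + ringKrullDim (A ⧸ Q)) :
    IntMult.chi A (A ⧸ Q) (A ⧸ P) = ((Module.length A (A ⧸ (P ⊔ Q))).toNat : ℤ) := by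
  rw [chi_symm, chi_eq_of_isZero_tor (A ⧸ P) (A ⧸ Q)
    (isZero_tor_of_CM_CM P Q hPne hQne hCMP hCMQ hmax hdim)]
  have e1 : TensorProduct A (A ⧸ P) (A ⧸ Q) ≃ₗ[A] ((A ⧸ Q) ⧸ (P • ⊤ : Submodule A (A ⧸ Q))) :=
    TensorProduct.quotTensorEquivQuotSMul (A ⧸ Q) P
  rw [e1.length_eq, (quotQuotEquiv Q P).length_eq, sup_comm]

end CMCM

end Groth.Agent.Lib.T2H9.IntMultRing
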