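import Groth.Agent.Lib.T2H9RegImmBC
import Groth.Agent.Lib.T2H2QRegStalk
import Groth.Agent.Lib.Helper13KzDim
import Groth.Agent.Lib.Helper14IrrComp
import Groth.Agent.Lib.T2H9IntMultSetup

/-!
# Dimension of components of preimages under immersions cut out by `c` equations (T2H9)
-/

set_option autoImplicit false
set_option linter.style.haveILetI false
set_option linter.unusedSectionVars false
set_option linter.unusedVariables false
universe u
open CategoryTheory AlgebraicGeometry Limits

namespace Groth.Agent.Lib.T2H9.IntMultDim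

open Groth.Agent.Helper13Kz Groth.Agent.Lib.Helper4.VarDim

/-- at a maximal point all primes of the local ring are maximal -/
theorem isMaximal_of_maximal_point {W : Scheme.{u}} (τ : W) (hτ : ∀ w' : W, w' ⤳ τ → w' = τ)
    (𝔮 : Ideal (W.presheaf.stalk τ)) (h𝔮 : 𝔮.IsPrime) : 𝔮.IsMaximal := by
  let p : PrimeSpectrum (W.presheaf.stalk τ) := ⟨𝔮, h𝔮⟩
  have h3 : W.fromSpecStalk τ p ⤳ τ := Groth.Agent.Lib.Helper14.fromSpecStalk_specializes W τ p
  have h4 := hτ _ h3
  have h5 : W.fromSpecStalk τ p = W.fromSpecStalk τ (IsLocalRing.closedPoint _) := by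
    rw [h4, Scheme.fromSpecStalk_closedPoint]
  have hinj : Function.Injective (W.fromSpecStalk τ) :=
    (W.fromSpecStalk τ).isEmbedding.injective
  have h6 : p = IsLocalRing.closedPoint _ := hinj h5
  have h7 : 𝔮 = IsLocalRing.maximalIdeal _ := congrArg PrimeSpectrum.asIdeal h6
  rw [h7]
  infer_instance

/-- Krull's height theorem at a maximal point of the preimage of a closed subscheme under an
immersion locally cut out by `c` equations -/
theorem ringKrullDim_stalk_le {X Y Z : Scheme.{u}} (f : X ⟶ Y) [IsImmersion f] (ι : Z ⟶ Y) [IsClosedImmersion ι]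
    [IsLocallyNoetherian Z] (τ : ↥(pullback f ι))
    (hτ : ∀ w' : ↥(pullback f ι), w' ⤳ τ → w' = τ) (U : Y.affineOpens)
    (hU : f (pullback.fst f ι τ) ∈ U.1) [IsClosedImmersion (f ∣_ U.1)] (rs : List Γ(Y, U.1))
    (hker : RingHom.ker (f.app U.1).hom = Ideal.ofList rs) :
    ringKrullDim (Z.presheaf.stalk (pullback.snd f ι τ)) ≤ (rs.length : WithBot ℕ∞) := by
  have sq : IsPullback (pullback.snd f ι) (pullback.fst f ι) ι f :=
    (IsPullback.of_hasPullback f ι).flip
  have hV : IsAffineOpen (ι ⁻¹ᵁ U.1) := U.2.preimage ι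
  have hzV : pullback.snd f ι τ ∈ ι ⁻¹ᵁ U.1 := by
    show ι (pullback.snd f ι τ) ∈ U.1
    rw [← Scheme.Hom.comp_apply, ← pullback.condition, Scheme.Hom.comp_apply]
    exact hU
  haveI : IsClosedImmersion (pullback.snd f ι ∣_ ι ⁻¹ᵁ U.1) :=
    Groth.Agent.Lib.T2H9.RegImmBC.isClosedImmersion_morphismRestrict_of_isPullback sq U.1
      (ι ⁻¹ᵁ U.1) le_rfl
  have hk1 := Groth.Agent.Lib.T2H2.QRegStalk.ker_stalkMap_eq_map_ker_app (pullback.snd f ι) τ
    (ι ⁻¹ᵁ U.1) hV hzV
  have hk2 := Groth.Agent.Lib.T2H9.RegImmBC.ker_app_eq sq U.2 hV le_rfl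
  rw [hk2, hker, Ideal.map_ofList, Ideal.map_ofList] at hk1
  set l := List.map (⇑(Z.presheaf.germ (ι ⁻¹ᵁ U.1) (pullback.snd f ι τ) hzV).hom)
    (List.map (⇑(ι.appLE U.1 (ι ⁻¹ᵁ U.1) le_rfl).hom) rs) with hl
  haveI : IsNoetherianRing (Z.presheaf.stalk (pullback.snd f ι τ)) := inferInstance
  have hsurj : Function.Surjective ((pullback.snd f ι).stalkMap τ).hom :=
    (pullback.snd f ι).stalkMap_surjective τ
  have hne : RingHom.ker ((pullback.snd f ι).stalkMap τ).hom ≠ ⊤ := RingHom.ker_ne_top _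
  have hmem : ∀ a ∈ l, a ∈ IsLocalRing.maximalIdeal (Z.presheaf.stalk (pullback.snd f ι τ)) := by
    intro a ha
    apply IsLocalRing.le_maximalIdeal hne
    rw [hk1]
    exact Ideal.subset_span ha
  have hFLI : FLI (Ideal.span {a | a ∈ l}) (Z.presheaf.stalk (pullback.snd f ι τ)) := by
    intro p _ hp
    have hle : RingHom.ker ((pullback.snd f ι).stalkMap τ).hom ≤ p.asIdeal := by
      rw [hk1]; exact hp
    haveI : (p.asIdeal.map ((pullback.snd f ι).stalkMap τ).hom).IsPrime :=
      Ideal.map_isPrime_of_surjective hsurj hle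
    have hmx := isMaximal_of_maximal_point τ hτ
      (p.asIdeal.map ((pullback.snd f ι).stalkMap τ).hom) inferInstance
    have hcomap : Ideal.comap ((pullback.snd f ι).stalkMap τ).hom
        (p.asIdeal.map ((pullback.snd f ι).stalkMap τ).hom) = p.asIdeal := by
      rw [Ideal.comap_map_of_surjective _ hsurj]
      refine le_antisymm (sup_le le_rfl ?_) le_sup_left
      rw [← RingHom.ker_eq_comap_bot]
      exact hle
    rw [← hcomap]
    exact Ideal.comap_isMaximal_of_surjective _ hsurj
  have h1 := supportDim_le_length_of_FLI (Z.presheaf.stalk (pullback.snd f ι τ)) l hmem hFLI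
  rw [Module.supportDim_self_eq_ringKrullDim] at h1
  rw [hl, List.length_map, List.length_map] at h1
  exact h1

section Field

variable (k : Type u) [Field k] (X Y : Scheme.{u}) [X.Over (Spec (CommRingCat.of k))]
  [Y.Over (Spec (CommRingCat.of k))]

attribute [local instance] sectionsAlgebra Curv2.resAlgebra

/-- residue fields do not change along a preimmersion -/
theorem trdegNat_eq_of_isPreimmersion (g : Y ⟶ X) [IsPreimmersion g]
    (hg : g ≫ (X ↘ Spec (CommRingCat.of k)) = (Y ↘ Spec (CommRingCat.of k))) (y : Y) :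
    trdegNat k Y y = trdegNat k X (g y) := by
  have hb := residueFieldMap_bijective_of_isPreimmersion g y
  let a := residueFieldAlgHom k g hg y
  have hb' : Function.Bijective a := hb
  have := (AlgEquiv.ofBijective a hb').trdeg_eq
  unfold trdegNat
  rw [← this]

end Field

/-- components of the preimage of a `d`-dimensional closed subvariety under an immersion locally cut
out by `c` equations have dimension at least `d - c` -/
theorem le_dim_component (K : Type u) [Field K] (X Y Z : Scheme.{u})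
    (gY : Y ⟶ Spec (CommRingCat.of K)) [LocallyOfFiniteType gY] (f : X ⟶ Y) [IsImmersion f] (c : ℕ)
    (hloc : ∀ x : X, ∃ U : Y.affineOpens, f x ∈ U.1 ∧ IsClosedImmersion (f ∣_ U.1) ∧
      ∃ rs : List Γ(Y, U.1), rs.length = c ∧ RingHom.ker (f.app U.1).hom = Ideal.ofList rs)
    (ι : Z ⟶ Y) [IsClosedImmersion ι] [IsIntegral Z] (d : ℕ) (hd : topologicalKrullDim Z = d)
    (T : Set ↥(pullback f ι)) (hT : T ∈ irreducibleComponents ↥(pullback f ι)) :
    ((d : ℕ) : WithBot ℕ∞) ≤ topologicalKrullDim ↥T + c := by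
  letI : Z.Over (Spec (CommRingCat.of K)) := ⟨ι ≫ gY⟩
  haveI : LocallyOfFiniteType (Z ↘ Spec (CommRingCat.of K)) :=
    (inferInstance : LocallyOfFiniteType (ι ≫ gY))
  letI : (pullback f ι).Over (Spec (CommRingCat.of K)) := ⟨pullback.snd f ι ≫ ι ≫ gY⟩
  haveI : LocallyOfFiniteType ((pullback f ι) ↘ Spec (CommRingCat.of K)) :=
    (inferInstance : LocallyOfFiniteType (pullback.snd f ι ≫ ι ≫ gY))
  haveI : IsLocallyNoetherian Z := LocallyOfFiniteType.isLocallyNoetherian (ι ≫ gY)
  obtain ⟨τ, hτ⟩ := Groth.Agent.Lib.Helper14.exists_closure_eq_of_mem_irreducibleComponents hT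
  have hτmax : ∀ w' : ↥(pullback f ι), w' ⤳ τ → w' = τ :=
    (Groth.Agent.Lib.Helper14.closure_mem_irreducibleComponents_iff τ).mp (hτ ▸ hT)
  obtain ⟨U, hU, hcl, rs, hlen, hker⟩ := hloc (pullback.fst f ι τ)
  haveI := hcl
  have hA := ringKrullDim_stalk_le f ι τ hτmax U hU rs hker
  rw [hlen] at hA
  have hB := Groth.Agent.Lib.T2H9.IntMultSetup.ringKrullDim_stalk_add_trdegNat K Z
    (pullback.snd f ι τ)
  rw [hd] at hB
  have hC := trdegNat_eq_of_isPreimmersion K Z (pullback f ι) (pullback.snd f ι) rfl τ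
  have hTcl : IsClosed T := isClosed_of_mem_irreducibleComponents T hT
  have hτT : τ ∈ T := hτ ▸ subset_closure (Set.mem_singleton τ)
  have hD := trdegNat_le_topologicalKrullDim_of_isLocallyClosed K (pullback f ι) T
    hTcl.isLocallyClosed τ hτT
  rw [hC] at hD
  rw [← hB, add_comm]
  exact add_le_add hD hA

end Groth.Agent.Lib.T2H9.IntMultDim
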