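import Mathlib

/-! Finite intersections of valuation rings of a field, cut down by a subfield: the intersection
is a semilocal Prüfer domain whose fraction field is the subfield. -/

set_option autoImplicit false
set_option linter.style.haveILetI false
set_option linter.unusedSectionVars false
universe u

namespace Groth.Agent.Lib.T2H9.IntVal

open IsLocalRing

section field

/-- geometric sums of length `t ≡ 1` modulo a suitable modulus do not vanish -/
theorem exists_modulus {κ : Type*} [Field κ] (ξ : κ) :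
    ∃ n : ℕ, 0 < n ∧ ∀ t : ℕ, 0 < t → t ≡ 1 [MOD n] → ∑ k ∈ Finset.range t, ξ ^ k ≠ 0 := by
  by_cases hξ : ξ = 1
  · subst hξ
    by_cases hp : ringChar κ = 0
    · refine ⟨1, one_pos, fun t ht _ hsum => ?_⟩
      simp only [one_pow, Finset.sum_const, Finset.card_range, nsmul_eq_mul, mul_one] at hsum
      rw [ringChar.spec, hp, zero_dvd_iff] at hsum
      omega
    · refine ⟨ringChar κ, Nat.pos_of_ne_zero hp, fun t ht hmod hsum => ?_⟩
      simp only [one_pow, Finset.sum_const, Finset.card_range, nsmul_eq_mul, mul_one] at hsum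
      rw [ringChar.spec] at hsum
      have h1 : ringChar κ ∣ 1 := (hmod.dvd_iff (dvd_refl _)).mp hsum
      exact CharP.ringChar_ne_one (Nat.dvd_one.mp h1)
  · by_cases ho : orderOf ξ = 0
    · refine ⟨1, one_pos, fun t ht _ hsum => ?_⟩
      have h := geom_sum_mul ξ t
      rw [hsum, zero_mul] at h
      have h1 : orderOf ξ ∣ t := orderOf_dvd_of_pow_eq_one (sub_eq_zero.mp h.symm)
      rw [ho, zero_dvd_iff] at h1
      omega
    · refine ⟨orderOf ξ, Nat.pos_of_ne_zero ho, fun t ht hmod hsum => ?_⟩
      have h := geom_sum_mul ξ t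
      rw [hsum, zero_mul] at h
      have h1 : orderOf ξ ∣ t := orderOf_dvd_of_pow_eq_one (sub_eq_zero.mp h.symm)
      have h2 : orderOf ξ ∣ 1 := (hmod.dvd_iff (dvd_refl _)).mp h1
      exact hξ (orderOf_eq_one_iff.mp (Nat.dvd_one.mp h2))

end field

section key

variable {L : Type u} [Field L] {ι : Type u} [Finite ι] (V : ι → ValuationSubring L)

/-- a modulus for one valuation ring -/
theorem exists_modulus_val (W : ValuationSubring L) (x : L) :
    ∃ n : ℕ, 0 < n ∧ (x ∈ W → ∀ t : ℕ, 0 < t → t ≡ 1 [MOD n] →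
      W.valuation (∑ k ∈ Finset.range t, x ^ k) = 1) := by
  by_cases hx : x ∈ W
  · obtain ⟨n, hn, h⟩ := exists_modulus (residue W ⟨x, hx⟩)
    refine ⟨n, hn, fun _ t ht hmod => ?_⟩
    have hmem : ∑ k ∈ Finset.range t, x ^ k ∈ W := sum_mem (fun k _ => pow_mem hx k)
    have h1 : residue W ⟨∑ k ∈ Finset.range t, x ^ k, hmem⟩ =
        ∑ k ∈ Finset.range t, (residue W ⟨x, hx⟩) ^ k := by
      have h0 : (⟨∑ k ∈ Finset.range t, x ^ k, hmem⟩ : W) =
          ∑ k ∈ Finset.range t, (⟨x, hx⟩ : W) ^ k := by
        apply Subtype.ext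
        simp
      rw [h0, map_sum]
      simp only [map_pow]
    have h2 : IsUnit (⟨∑ k ∈ Finset.range t, x ^ k, hmem⟩ : W) := by
      rw [← not_not (a := IsUnit _), ← mem_nonunits_iff, ← mem_maximalIdeal,
        ← residue_eq_zero_iff, h1]
      exact h t ht hmod
    exact (W.valuation_eq_one_iff _).mp h2
  · exact ⟨1, one_pos, fun h => absurd h hx⟩

/-- a common length for all the valuation rings -/
theorem exists_length (x : L) : ∃ t : ℕ, 2 ≤ t ∧
    ∀ i, x ∈ V i → (V i).valuation (∑ k ∈ Finset.range t, x ^ k) = 1 := by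
  cases nonempty_fintype ι
  choose n hn h using fun i => exists_modulus_val (V i) x
  have hN : 0 < ∏ i, n i := Finset.prod_pos (fun i _ => hn i)
  refine ⟨∏ i, n i + 1, by omega, fun i hx => h i hx _ (by omega) ?_⟩
  have h1 : ∏ i, n i ≡ 0 [MOD n i] :=
    (Nat.modEq_zero_iff_dvd).mpr (Finset.dvd_prod_of_mem n (Finset.mem_univ i))
  exact h1.add_right 1

/-- the value of a geometric sum at a pole -/
theorem val_gsum_of_lt (W : ValuationSubring L) (x : L) (hx : 1 < W.valuation x) (s : ℕ) :
    W.valuation (∑ k ∈ Finset.range (s + 1), x ^ k) = W.valuation x ^ s := by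
  rw [Finset.sum_range_succ, ← map_pow]
  apply Valuation.map_add_eq_of_lt_right
  rw [map_pow]
  rcases Nat.eq_zero_or_pos s with h0 | h0
  · subst h0
    simp
  apply Valuation.map_sum_lt
  · exact pow_ne_zero _ (ne_of_gt (zero_lt_one.trans hx))
  · intro k hk
    rw [Finset.mem_range] at hk
    rw [map_pow]
    exact pow_lt_pow_right₀ hx hk

/-- the key lemma: every element of the subfield is a quotient of elements of the intersection,
with a denominator that is a unit in every valuation ring containing the element -/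
theorem exists_frac [Nonempty ι] (K : Subfield L) (x : L) (hx : x ∈ K) :
    ∃ a b : L, a ∈ K ∧ b ∈ K ∧ (∀ i, a ∈ V i) ∧ (∀ i, b ∈ V i) ∧ b ≠ 0 ∧ x = a / b ∧
      ∀ i, x ∈ V i → (V i).valuation b = 1 := by
  obtain ⟨t, ht, h⟩ := exists_length V x
  set y := ∑ k ∈ Finset.range t, x ^ k with hy
  have hyK : y ∈ K := sum_mem (fun k _ => pow_mem hx k)
  obtain ⟨s, rfl⟩ : ∃ s, t = s + 1 := ⟨t - 1, by omega⟩
  have hval : ∀ i, x ∉ V i → (V i).valuation y = (V i).valuation x ^ s := fun i hi =>
    val_gsum_of_lt (V i) x (by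
      rw [← not_le, (V i).valuation_le_one_iff]
      exact hi) s
  have hxlt : ∀ i, x ∉ V i → 1 < (V i).valuation x := fun i hi => by
    rw [← not_le, (V i).valuation_le_one_iff]
    exact hi
  have hy0 : y ≠ 0 := by
    obtain ⟨i⟩ := ‹Nonempty ι›
    intro h0
    by_cases hi : x ∈ V i
    · have := h i hi
      rw [h0, map_zero] at this
      exact zero_ne_one this
    · have := hval i hi
      rw [h0, map_zero] at this
      exact (pow_ne_zero s (ne_of_gt (zero_lt_one.trans (hxlt i hi)))) this.symm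
  refine ⟨x * y⁻¹, y⁻¹, mul_mem hx (inv_mem hyK), inv_mem hyK, ?_, ?_, inv_ne_zero hy0, ?_, ?_⟩
  · intro i
    by_cases hi : x ∈ V i
    · refine mul_mem hi ?_
      rw [← (V i).valuation_le_one_iff, map_inv₀, h i hi, inv_one]
    · rw [← (V i).valuation_le_one_iff, map_mul, map_inv₀, hval i hi]
      have h1 := hxlt i hi
      have hs : 1 ≤ s := by omega
      obtain ⟨r, rfl⟩ : ∃ r, s = r + 1 := ⟨s - 1, by omega⟩
      rw [pow_succ', mul_inv, mul_inv_cancel_left₀ (ne_of_gt (zero_lt_one.trans h1))]
      exact inv_le_one_of_one_le₀ (one_le_pow₀ h1.le)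
  · intro i
    by_cases hi : x ∈ V i
    · rw [← (V i).valuation_le_one_iff, map_inv₀, h i hi, inv_one]
    · rw [← (V i).valuation_le_one_iff, map_inv₀, hval i hi]
      exact inv_le_one_of_one_le₀ (one_le_pow₀ (hxlt i hi).le)
  · rw [div_eq_mul_inv, inv_inv, mul_assoc, inv_mul_cancel₀ hy0, mul_one]
  · intro i hi
    rw [map_inv₀, h i hi, inv_one]

end key

section main

variable {L : Type u} [Field L] {ι : Type u} [Finite ι] [Nonempty ι] (V : ι → ValuationSubring L)
  (K : Subfield L) (T : Subring L) (hT : ∀ z, z ∈ T ↔ (∀ i, z ∈ V i) ∧ z ∈ K)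

include hT

theorem val_le_one (i : ι) (z : T) : (V i).valuation (z : L) ≤ 1 :=
  ((V i).valuation_le_one_iff _).mpr (((hT _).mp z.2).1 i)

/-- the centre of `V i` on `T` -/
def center (i : ι) : Ideal T where
  carrier := {z | (V i).valuation (z : L) < 1}
  add_mem' := by
    intro a b ha hb
    have ha' : (V i).valuation (a : L) < 1 := ha
    have hb' : (V i).valuation (b : L) < 1 := hb
    show (V i).valuation ((a : L) + (b : L)) < 1
    exact lt_of_le_of_lt (Valuation.map_add _ _ _) (max_lt ha' hb')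
  zero_mem' := by
    show (V i).valuation ((0 : T) : L) < 1
    simp
  smul_mem' := by
    intro c x hx
    have hx' : (V i).valuation (x : L) < 1 := hx
    show (V i).valuation ((c : L) * (x : L)) < 1
    rw [map_mul]
    have hc := val_le_one V K T hT i c
    calc (V i).valuation (c : L) * (V i).valuation (x : L)
        ≤ 1 * (V i).valuation (x : L) := mul_le_mul' hc le_rfl
      _ = (V i).valuation (x : L) := one_mul _
      _ < 1 := hx'

theorem mem_center (i : ι) (z : T) : z ∈ center V K T hT i ↔ (V i).valuation (z : L) < 1 :=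
  Iff.rfl

theorem center_isPrime (i : ι) : (center V K T hT i).IsPrime := by
  refine ⟨?_, ?_⟩
  · rw [Ideal.ne_top_iff_one, mem_center]
    simp
  · intro a b hab
    rw [mem_center, Subring.coe_mul, map_mul] at hab
    by_contra hcon
    push Not at hcon
    obtain ⟨ha, hb⟩ := hcon
    rw [mem_center, not_lt] at ha hb
    have ha1 := le_antisymm (val_le_one V K T hT i a) ha
    have hb1 := le_antisymm (val_le_one V K T hT i b) hb
    rw [ha1, hb1, one_mul] at hab
    exact lt_irrefl _ hab

theorem isUnit_of_forall (z : T) (hz : ∀ i, (V i).valuation (z : L) = 1) : IsUnit z := by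
  have hz0 : (z : L) ≠ 0 := by
    obtain ⟨i⟩ := ‹Nonempty ι›
    intro h0
    have := hz i
    rw [h0, map_zero] at this
    exact zero_ne_one this
  have hinv : (z : L)⁻¹ ∈ T := by
    rw [hT]
    refine ⟨fun i => ?_, inv_mem ((hT _).mp z.2).2⟩
    rw [← (V i).valuation_le_one_iff, map_inv₀, hz i, inv_one]
  refine IsUnit.of_mul_eq_one ⟨(z : L)⁻¹, hinv⟩ ?_
  apply Subtype.ext
  simp [mul_inv_cancel₀ hz0]

theorem exists_le_center (p : Ideal T) [hp : p.IsPrime] : ∃ i, p ≤ center V K T hT i := by
  cases nonempty_fintype ι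
  obtain ⟨i0⟩ := ‹Nonempty ι›
  have h := (Ideal.subset_union_prime (s := Finset.univ) (f := center V K T hT) i0 i0
    (fun i _ _ _ => center_isPrime V K T hT i) (I := p)).mp ?_
  · obtain ⟨i, _, hi⟩ := h
    exact ⟨i, hi⟩
  · intro z hz
    have hnu : ¬ IsUnit z := fun hu => hp.ne_top (Ideal.eq_top_of_isUnit_mem _ hz hu)
    have : ∃ i, (V i).valuation (z : L) ≠ 1 := by
      by_contra hcon
      push Not at hcon
      exact hnu (isUnit_of_forall V K T hT z hcon)
    obtain ⟨i, hi⟩ := this
    simp only [Finset.coe_univ, Set.mem_univ, Set.iUnion_true, Set.mem_iUnion, SetLike.mem_coe]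
    exact ⟨i, lt_of_le_of_ne (val_le_one V K T hT i z) hi⟩

/-- (iii) the subfield is the fraction field -/
theorem exists_frac_mem (x : L) (hx : x ∈ K) :
    ∃ a b : L, a ∈ T ∧ b ∈ T ∧ b ≠ 0 ∧ x = a / b := by
  obtain ⟨a, b, haK, hbK, ha, hb, hb0, hxab, _⟩ := exists_frac V K x hx
  exact ⟨a, b, (hT a).mpr ⟨ha, haK⟩, (hT b).mpr ⟨hb, hbK⟩, hb0, hxab⟩

/-- (ii) finitely many maximal ideals -/
theorem finite_maximalSpectrum : Finite (MaximalSpectrum T) := by
  have h : ∀ M : MaximalSpectrum T, ∃ i, M.asIdeal = center V K T hT i := by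
    intro M
    have : M.asIdeal.IsPrime := M.isMaximal.isPrime
    obtain ⟨i, hi⟩ := exists_le_center V K T hT M.asIdeal
    exact ⟨i, M.isMaximal.eq_of_le (center_isPrime V K T hT i).ne_top hi⟩
  choose f hf using h
  refine Finite.of_injective f (fun M M' hMM' => ?_)
  apply MaximalSpectrum.ext
  rw [hf M, hf M', hMM']

/-- (i) the localisations at primes are valuation rings -/
theorem valuationRing_atPrime (p : Ideal T) [hp : p.IsPrime] :
    ValuationRing (Localization.AtPrime p) := by
  obtain ⟨i, hi⟩ := exists_le_center V K T hT p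
  -- the key step: comparing two elements of `T`
  have key : ∀ a b : T, b ≠ 0 → (a : L) / (b : L) ∈ V i →
      ∃ c : T, ∃ d : T, d ∉ p ∧ a * d = b * c := by
    intro a b hb0 hxV
    have hb0' : (b : L) ≠ 0 := fun h => hb0 (Subtype.ext h)
    have hxK : (a : L) / (b : L) ∈ K := div_mem ((hT _).mp a.2).2 ((hT _).mp b.2).2
    obtain ⟨c, d, hcK, hdK, hc, hd, hd0, hxcd, hunit⟩ := exists_frac V K _ hxK
    refine ⟨⟨c, (hT c).mpr ⟨hc, hcK⟩⟩, ⟨d, (hT d).mpr ⟨hd, hdK⟩⟩, ?_, ?_⟩
    · intro hdp
      have := hi hdp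
      rw [mem_center, hunit i hxV] at this
      exact lt_irrefl _ this
    · apply Subtype.ext
      simp only [Subring.coe_mul]
      rw [div_eq_div_iff hb0' hd0] at hxcd
      rw [hxcd]
      ring
  suffices h : ∀ x y : Localization.AtPrime p, ∃ c, x * c = y ∨ y * c = x by
    have : PreValuationRing (Localization.AtPrime p) := ⟨h⟩
    exact ValuationRing.mk
  intro x y
  obtain ⟨⟨a, s⟩, rfl⟩ := IsLocalization.mk'_surjective p.primeCompl x
  obtain ⟨⟨b, s'⟩, rfl⟩ := IsLocalization.mk'_surjective p.primeCompl y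
  simp only
  by_cases ha0 : a = 0
  · refine ⟨0, Or.inr ?_⟩
    rw [ha0, IsLocalization.mk'_zero, mul_zero]
  by_cases hb0 : b = 0
  · refine ⟨0, Or.inl ?_⟩
    rw [hb0, IsLocalization.mk'_zero, mul_zero]
  have hmem := (V i).mem_or_inv_mem ((a : L) / (b : L))
  rcases hmem with hmem | hmem
  · -- a / b ∈ V i : a d = b c, so x = y * (s' c / (s d))
    obtain ⟨c, d, hd, hadbc⟩ := key a b hb0 hmem
    refine ⟨IsLocalization.mk' _ (s' * c) (s * ⟨d, hd⟩), Or.inr ?_⟩
    rw [← IsLocalization.mk'_mul]
    apply IsLocalization.mk'_eq_of_eq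
    simp only [Submonoid.coe_mul]
    linear_combination ((s : T) * (s' : T)) * hadbc
  · rw [inv_div] at hmem
    obtain ⟨c, d, hd, hbdac⟩ := key b a ha0 hmem
    refine ⟨IsLocalization.mk' _ (s * c) (s' * ⟨d, hd⟩), Or.inl ?_⟩
    rw [← IsLocalization.mk'_mul]
    apply IsLocalization.mk'_eq_of_eq
    simp only [Submonoid.coe_mul]
    linear_combination ((s : T) * (s' : T)) * hbdac

end main

section prufer

variable (R L : Type u) [CommRing R] [IsDomain R] [Field L] [Algebra R L] [IsFractionRing R L]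

theorem mem_or_inv_mem_ofField (M : Ideal R) [M.IsPrime]
    (hM : ValuationRing (Localization.AtPrime M)) (x : L) :
    x ∈ Localization.subalgebra.ofField L M.primeCompl M.primeCompl_le_nonZeroDivisors ∨
      x⁻¹ ∈ Localization.subalgebra.ofField L M.primeCompl M.primeCompl_le_nonZeroDivisors := by
  have hinj : Function.Injective (algebraMap R (Localization.AtPrime M)) :=
    IsLocalization.injective _ M.primeCompl_le_nonZeroDivisors
  have hinjL : Function.Injective (algebraMap R L) := IsFractionRing.injective R L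
  -- the comparison of two elements of `R` in the localisation
  have key : ∀ a b : R, b ≠ 0 → (∃ c, algebraMap R (Localization.AtPrime M) b * c =
      algebraMap R (Localization.AtPrime M) a) →
      algebraMap R L a / algebraMap R L b ∈
        Localization.subalgebra.ofField L M.primeCompl M.primeCompl_le_nonZeroDivisors := by
    rintro a b hb0 ⟨c, hc⟩
    obtain ⟨⟨c', s⟩, rfl⟩ := IsLocalization.mk'_surjective M.primeCompl c
    simp only at hc
    rw [IsLocalization.mul_mk'_eq_mk'_of_mul, IsLocalization.mk'_eq_iff_eq_mul, ← map_mul] at hc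
    have hc' : b * c' = a * (s : R) := hinj hc
    have hs0 : algebraMap R L (s : R) ≠ 0 := by
      rw [map_ne_zero_iff _ hinjL]
      exact nonZeroDivisors.ne_zero (M.primeCompl_le_nonZeroDivisors s.2)
    have hb0' : algebraMap R L b ≠ 0 := by
      rwa [map_ne_zero_iff _ hinjL]
    refine ⟨c', s, s.2, ?_⟩
    rw [← div_eq_mul_inv, div_eq_div_iff hb0' hs0, ← map_mul, ← map_mul, ← hc', mul_comm]
  obtain ⟨a, b, hb, rfl⟩ := IsFractionRing.div_surjective R x
  have hb0 : b ≠ 0 := nonZeroDivisors.ne_zero hb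
  by_cases ha0 : a = 0
  · left
    rw [ha0, map_zero, zero_div]
    exact zero_mem _
  obtain ⟨c, hc | hc⟩ := ValuationRing.cond (algebraMap R (Localization.AtPrime M) a)
    (algebraMap R (Localization.AtPrime M) b)
  · right
    rw [inv_div]
    exact key b a ha0 ⟨c, hc⟩
  · left
    exact key a b hb0 ⟨c, hc⟩

/-- localisation at a maximal ideal, as a valuation subring of the fraction field -/
noncomputable def locVal
    (hR : ∀ (p : Ideal R) [p.IsPrime], ValuationRing (Localization.AtPrime p))
    (M : MaximalSpectrum R) : ValuationSubring L :=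
  { (Localization.subalgebra.ofField L M.asIdeal.primeCompl
      M.asIdeal.primeCompl_le_nonZeroDivisors).toSubring with
    mem_or_inv_mem' := fun x => by
      have : M.asIdeal.IsPrime := M.isMaximal.isPrime
      exact mem_or_inv_mem_ofField R L M.asIdeal (hR M.asIdeal) x }

theorem mem_locVal (hR : ∀ (p : Ideal R) [p.IsPrime], ValuationRing (Localization.AtPrime p))
    (M : MaximalSpectrum R) (x : L) :
    x ∈ locVal R L hR M ↔ x ∈ Localization.subalgebra.ofField L M.asIdeal.primeCompl
      M.asIdeal.primeCompl_le_nonZeroDivisors := Iff.rfl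

theorem mem_range_iff (hR : ∀ (p : Ideal R) [p.IsPrime], ValuationRing (Localization.AtPrime p))
    (x : L) : x ∈ (algebraMap R L).range ↔ ∀ M : MaximalSpectrum R, x ∈ locVal R L hR M := by
  have h := MaximalSpectrum.iInf_localization_eq_bot R L
  constructor
  · rintro ⟨r, rfl⟩ M
    rw [mem_locVal]
    exact Subalgebra.algebraMap_mem _ r
  · intro hx
    have hx' : x ∈ (⊥ : Subalgebra R L) := by
      rw [← h, Algebra.mem_iInf]
      exact fun M => (mem_locVal R L hR M x).mp (hx M)
    rw [Algebra.mem_bot] at hx'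
    exact hx'

/-- the statement on semilocal Prüfer domains -/
theorem semilocal_prufer
    (hR : ∀ (p : Ideal R) [p.IsPrime], ValuationRing (Localization.AtPrime p))
    (hfin : Finite (MaximalSpectrum R)) (K : Subfield L) :
    (∀ (p : Ideal ↥((algebraMap R L).range ⊓ K.toSubring)) [p.IsPrime],
        ValuationRing (Localization.AtPrime p)) ∧
      Finite (MaximalSpectrum ↥((algebraMap R L).range ⊓ K.toSubring)) ∧
      ∀ x : L, x ∈ K → ∃ a b : L, a ∈ (algebraMap R L).range ⊓ K.toSubring ∧
        b ∈ (algebraMap R L).range ⊓ K.toSubring ∧ b ≠ 0 ∧ x = a / b := by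
  have hne : Nonempty (MaximalSpectrum R) := by
    obtain ⟨M, hM⟩ := Ideal.exists_maximal R
    exact ⟨⟨M, hM⟩⟩
  have hT : ∀ z, z ∈ (algebraMap R L).range ⊓ K.toSubring ↔
      (∀ M, z ∈ locVal R L hR M) ∧ z ∈ K := by
    intro z
    rw [Subring.mem_inf, mem_range_iff R L hR]
    exact Iff.rfl
  refine ⟨fun p _ => valuationRing_atPrime (locVal R L hR) K _ hT p,
    finite_maximalSpectrum (locVal R L hR) K _ hT, fun x hx =>
      exists_frac_mem (locVal R L hR) K _ hT x hx⟩

end prufer

end Groth.Agent.Lib.T2H9.IntVal
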