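import Mathlib

/-! Invariants of a finite group acting on a domain: if some element has conjugates that are
pairwise distinct modulo a prime, the ring is étale over the invariants at that prime. -/

set_option autoImplicit false
set_option linter.style.haveILetI false
set_option linter.unusedSectionVars false
universe u

namespace Groth.Agent.Lib.T2H9.InvEtale

open Polynomial

section lagrange

variable {B R G : Type*} [CommRing B] [CommRing R] [IsDomain R] [Algebra B R] [Group G]
  [Fintype G] [DecidableEq G] [MulSemiringAction G R] [SMulCommClass G B R]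
  [Algebra.IsInvariant B R G]

/-- the product of the differences `σ y - τ y`, `τ ≠ σ` -/
noncomputable def dOne (y : R) (σ : G) : R := ∏ τ ∈ Finset.univ.erase σ, (σ • y - τ • y)

variable (G) in
/-- the product of all the differences -/
noncomputable def dTot (y : R) : R := ∏ σ : G, dOne y σ

theorem smul_dOne (y : R) (ρ σ : G) : ρ • dOne y σ = dOne y (ρ * σ) := by
  rw [dOne, dOne, Finset.smul_prod']
  refine Finset.prod_bij (fun τ _ => ρ * τ) ?_ ?_ ?_ ?_
  · intro τ hτ
    rw [Finset.mem_erase] at hτ ⊢
    exact ⟨fun h => hτ.1 (mul_left_cancel h), Finset.mem_univ _⟩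
  · intro τ _ τ' _ h
    exact mul_left_cancel h
  · intro τ hτ
    rw [Finset.mem_erase] at hτ
    refine ⟨ρ⁻¹ * τ, ?_, by rw [mul_inv_cancel_left]⟩
    rw [Finset.mem_erase]
    refine ⟨fun h => hτ.1 ?_, Finset.mem_univ _⟩
    rw [← h, mul_inv_cancel_left]
  · intro τ _
    rw [smul_sub, smul_smul, smul_smul]

theorem smul_dTot (y : R) (ρ : G) : ρ • dTot G y = dTot G y := by
  rw [dTot, Finset.smul_prod']
  simp_rw [smul_dOne]
  exact Fintype.prod_equiv (Equiv.mulLeft ρ) _ _ (fun _ => rfl)

/-- the Lagrange basis polynomials, with the denominators cleared -/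
noncomputable def ell (y : R) (σ : G) : R[X] :=
  C (∏ σ' ∈ Finset.univ.erase σ, dOne y σ') * ∏ τ ∈ Finset.univ.erase σ, (X - C (τ • y))

theorem eval_ell_self (y : R) (σ : G) : (ell y σ).eval (σ • y) = dTot G y := by
  rw [ell, eval_mul, eval_C, eval_prod, dTot, ← Finset.mul_prod_erase _ _ (Finset.mem_univ σ),
    mul_comm]
  congr 1
  rw [dOne]
  refine Finset.prod_congr rfl (fun τ _ => ?_)
  simp

theorem eval_ell_of_ne (y : R) (σ σ' : G) (h : σ' ≠ σ) : (ell y σ).eval (σ' • y) = 0 := by
  rw [ell, eval_mul, eval_prod]
  apply mul_eq_zero_of_right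
  apply Finset.prod_eq_zero (i := σ') (Finset.mem_erase.mpr ⟨h, Finset.mem_univ _⟩)
  simp

theorem ell_mem_degreeLT (y : R) (σ : G) : ell y σ ∈ degreeLT R (Fintype.card G) := by
  rw [mem_degreeLT]
  have h1 : (ell y σ).natDegree ≤ Fintype.card G - 1 := by
    rw [ell]
    refine (natDegree_C_mul_le _ _).trans ?_
    refine (natDegree_prod_le _ _).trans ?_
    have h2 : ∀ τ ∈ Finset.univ.erase σ, (X - C (τ • y)).natDegree ≤ 1 :=
      fun τ _ => natDegree_X_sub_C_le _
    refine (Finset.sum_le_card_nsmul _ _ 1 h2).trans ?_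
    rw [Finset.card_erase_of_mem (Finset.mem_univ σ), Finset.card_univ, smul_eq_mul, mul_one]
  have hpos : 0 < Fintype.card G := Fintype.card_pos
  refine lt_of_le_of_lt degree_le_natDegree ?_
  exact_mod_cast (by omega : (ell y σ).natDegree < Fintype.card G)

/-- the interpolation polynomial, with the denominators cleared -/
noncomputable def interp (y z : R) : R[X] := ∑ σ : G, C (σ • z) * ell y σ

theorem eval_interp (y z : R) (σ : G) :
    (interp (G := G) y z).eval (σ • y) = σ • z * dTot G y := by
  rw [interp, eval_finsetSum, Finset.sum_eq_single σ]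
  · rw [eval_mul, eval_C, eval_ell_self y]
  · intro τ _ hτ
    rw [eval_mul, eval_ell_of_ne y τ σ (Ne.symm hτ), mul_zero]
  · intro h
    exact absurd (Finset.mem_univ σ) h

theorem interp_mem_degreeLT (y z : R) : interp (G := G) y z ∈ degreeLT R (Fintype.card G) := by
  rw [interp]
  refine Submodule.sum_mem _ (fun σ _ => ?_)
  rw [C_mul']
  exact Submodule.smul_mem _ _ (ell_mem_degreeLT y σ)

theorem smul_interp (y : R) (hy : Function.Injective (fun σ : G => σ • y)) (z : R) (ρ : G) :
    ρ • interp (G := G) y z = interp (G := G) y z := by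
  classical
  have hcard : (Finset.univ.image (fun σ : G => σ • y)).card = Fintype.card G := by
    rw [Finset.card_image_of_injective _ hy, Finset.card_univ]
  apply eq_of_degrees_lt_of_eval_finset_eq (Finset.univ.image (fun σ : G => σ • y))
  · rw [hcard, smul_eq_map]
    have := interp_mem_degreeLT (G := G) y z
    rw [mem_degreeLT] at this
    exact lt_of_le_of_lt (degree_map_le) this
  · rw [hcard, ← mem_degreeLT]
    exact interp_mem_degreeLT y z
  · intro x hx
    obtain ⟨σ, -, rfl⟩ := Finset.mem_image.mp hx
    rw [eval_interp y, smul_eval, smul_smul, eval_interp y, smul_mul', smul_smul,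
      mul_inv_cancel_left, smul_dTot]

/-- Lagrange interpolation with invariant coefficients, up to the denominator `dTot G y` -/
theorem exists_poly (y : R) (hy : Function.Injective (fun σ : G => σ • y)) (z : R) :
    ∃ P : B[X], aeval y P = z * dTot G y := by
  have hlift : interp (G := G) y z ∈ lifts (algebraMap B R) := by
    rw [lifts_iff_coeff_lifts]
    intro k
    apply Algebra.IsInvariant.isInvariant (A := B) (G := G)
    intro ρ
    rw [← Polynomial.coeff_smul, smul_interp y hy]
  obtain ⟨P, hP⟩ := (mem_lifts _).mp hlift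
  refine ⟨P, ?_⟩
  rw [aeval_def, eval₂_eq_eval_map, hP]
  have := eval_interp (G := G) y z (1 : G)
  rwa [one_smul, one_smul] at this

end lagrange

section etale

variable {B R G : Type*} [CommRing B] [CommRing R] [IsDomain R] [Algebra B R] [FaithfulSMul B R]
  [Group G] [Fintype G] [DecidableEq G] [MulSemiringAction G R] [SMulCommClass G B R]
  [Algebra.IsInvariant B R G]

theorem aeval_smul_eq (y : R) (Q : B[X]) (σ : G) : aeval (σ • y) Q = σ • aeval y Q := by
  have := aeval_algHom_apply (MulSemiringAction.toAlgHom B R σ) y Q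
  simpa using this

/-- a polynomial over the invariants vanishing at `y` is divisible by the characteristic
polynomial of `y` -/
theorem dvd_of_aeval_eq_zero (y : R) (hinj : Function.Injective (fun σ : G => σ • y))
    (F₀ : B[X]) (hmonic : F₀.Monic)
    (hF₀ : F₀.map (algebraMap B R) = MulSemiringAction.charpoly G y)
    (Q : B[X]) (hQ : aeval y Q = 0) : F₀ ∣ Q := by
  classical
  have hF₀y : aeval y F₀ = 0 := by
    rw [aeval_def, eval₂_eq_eval_map, hF₀, MulSemiringAction.eval_charpoly]
  have hdiv := modByMonic_add_div Q F₀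
  have hr : aeval y (Q %ₘ F₀) = 0 := by
    have := congrArg (aeval y) hdiv
    rwa [map_add, map_mul, hQ, hF₀y, zero_mul, add_zero] at this
  have hBR : Function.Injective (algebraMap B R) := FaithfulSMul.algebraMap_injective B R
  have : Nontrivial B := (algebraMap B R).domain_nontrivial
  have hdegF : F₀.degree = Fintype.card G := by
    rw [← degree_map_eq_of_injective hBR, hF₀,
      degree_eq_natDegree (MulSemiringAction.monic_charpoly G y).ne_zero,
      MulSemiringAction.charpoly_eq, natDegree_finsetProd_X_sub_C_eq_card, Finset.card_univ]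
  have hdeg : (Q %ₘ F₀).degree < Fintype.card G := by
    rw [← hdegF]
    exact degree_modByMonic_lt Q hmonic
  have hcard : (Finset.univ.image (fun σ : G => σ • y)).card = Fintype.card G := by
    rw [Finset.card_image_of_injective _ hinj, Finset.card_univ]
  have hzero : (Q %ₘ F₀).map (algebraMap B R) = 0 := by
    apply eq_zero_of_degree_lt_of_eval_finset_eq_zero (Finset.univ.image (fun σ : G => σ • y))
    · rw [hcard]
      exact lt_of_le_of_lt degree_map_le hdeg
    · intro x hx
      obtain ⟨σ, -, rfl⟩ := Finset.mem_image.mp hx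
      rw [eval_map, ← aeval_def, aeval_smul_eq, hr, smul_zero]
  have h0 : Q %ₘ F₀ = 0 := map_injective _ hBR (by rw [hzero, Polynomial.map_zero])
  exact (modByMonic_eq_zero_iff_dvd hmonic).mp h0

/-- the derivative of the characteristic polynomial at `y` -/
theorem eval_derivative_charpoly (y : R) :
    (derivative (MulSemiringAction.charpoly G y)).eval y =
      ∏ τ ∈ Finset.univ.erase (1 : G), (y - τ • y) := by
  rw [MulSemiringAction.charpoly_eq, derivative_prod_finset, eval_finsetSum,
    Finset.sum_eq_single (1 : G)]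
  · rw [derivative_X_sub_C, mul_one, eval_prod]
    refine Finset.prod_congr rfl (fun τ _ => ?_)
    simp
  · intro σ _ hσ
    rw [eval_mul, eval_prod]
    apply mul_eq_zero_of_left
    apply Finset.prod_eq_zero (i := (1 : G)) (Finset.mem_erase.mpr ⟨Ne.symm hσ, Finset.mem_univ _⟩)
    simp
  · intro h
    exact absurd (Finset.mem_univ _) h

/-- if the conjugates of `y` are pairwise distinct modulo the prime `m`, then `R` is étale over
the invariants at `m` -/
theorem isEtaleAt_of_forall_notMem (m : Ideal R) [m.IsPrime] (y : R)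
    (hy : ∀ σ τ : G, σ ≠ τ → σ • y - τ • y ∉ m) : Algebra.IsEtaleAt B m := by
  classical
  have hBR : Function.Injective (algebraMap B R) := FaithfulSMul.algebraMap_injective B R
  have : Nontrivial B := (algebraMap B R).domain_nontrivial
  have hinj : Function.Injective (fun σ : G => σ • y) := by
    intro σ τ h
    by_contra hne
    apply hy σ τ hne
    simp only at h
    rw [h, sub_self]
    exact m.zero_mem
  obtain ⟨F₀, hF₀, -, hmonic⟩ := lifts_and_degree_eq_and_monic
    (Algebra.IsInvariant.charpoly_mem_lifts B R G y) (MulSemiringAction.monic_charpoly G y)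
  -- the standard étale pair
  let P : StandardEtalePair B := ⟨F₀, hmonic, derivative F₀, ⟨1, 0, 1, by simp⟩⟩
  have hRRm : Function.Injective (algebraMap R (Localization.AtPrime m)) :=
    IsLocalization.injective _ m.primeCompl_le_nonZeroDivisors
  have hF₀y : aeval y F₀ = 0 := by
    rw [aeval_def, eval₂_eq_eval_map, hF₀, MulSemiringAction.eval_charpoly]
  have hder : aeval y (derivative F₀) ∉ m := by
    rw [aeval_def, eval₂_eq_eval_map, ← derivative_map, hF₀, eval_derivative_charpoly]
    intro hmem
    obtain ⟨τ, hτ, hτm⟩ := (Ideal.IsPrime.prod_mem_iff).mp hmem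
    exact hy 1 τ (Finset.ne_of_mem_erase hτ).symm (by rwa [one_smul])
  have hdtot : dTot G y ∉ m := by
    intro hmem
    rw [dTot] at hmem
    obtain ⟨σ, -, hσm⟩ := (Ideal.IsPrime.prod_mem_iff).mp hmem
    rw [dOne] at hσm
    obtain ⟨τ, hτ, hτm⟩ := (Ideal.IsPrime.prod_mem_iff).mp hσm
    exact hy σ τ (Finset.ne_of_mem_erase hτ).symm hτm
  have hmap : P.HasMap (algebraMap R (Localization.AtPrime m) y) := by
    refine ⟨?_, ?_⟩
    · show aeval (algebraMap R (Localization.AtPrime m) y) F₀ = 0
      rw [aeval_algebraMap_apply, hF₀y, map_zero]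
    · show IsUnit (aeval (algebraMap R (Localization.AtPrime m) y) (derivative F₀))
      rw [aeval_algebraMap_apply]
      exact IsLocalization.map_units (M := m.primeCompl) _ ⟨_, hder⟩
  let φ : P.Ring →ₐ[B] Localization.AtPrime m := P.lift _ hmap
  have hφ : ∀ Q : B[X], φ (aeval P.X Q) = algebraMap R (Localization.AtPrime m) (aeval y Q) := by
    intro Q
    rw [← aeval_algHom_apply, P.lift_X, aeval_algebraMap_apply]
  -- injectivity
  let Pres : StandardEtalePresentation B P.Ring :=
    ⟨P, P.X, P.hasMap_X, by simpa [StandardEtalePair.lift_X_left] using Function.bijective_id⟩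
  have hφinj : Function.Injective φ := by
    rw [injective_iff_map_eq_zero]
    intro e he
    obtain ⟨p, n, hpn⟩ := Pres.exists_mul_aeval_x_g_pow_eq_aeval_x e
    change e * aeval P.X (derivative F₀) ^ n = aeval P.X p at hpn
    have h1 : aeval y p = 0 := by
      apply hRRm
      rw [← hφ, ← hpn, map_mul, he, zero_mul, map_zero]
    obtain ⟨q, rfl⟩ := dvd_of_aeval_eq_zero y hinj F₀ hmonic hF₀ p h1
    have h2 : aeval P.X F₀ = 0 := P.hasMap_X.1
    rw [map_mul, h2, zero_mul] at hpn
    have hu : IsUnit (aeval P.X (derivative F₀) ^ n) := (P.hasMap_X.2).pow n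
    exact (hu.mul_left_eq_zero).mp hpn
  -- `Rm` is a localisation of the standard étale algebra
  letI : Algebra P.Ring (Localization.AtPrime m) := φ.toRingHom.toAlgebra
  have htower : IsScalarTower B P.Ring (Localization.AtPrime m) :=
    IsScalarTower.of_algebraMap_eq (fun b => (φ.commutes b).symm)
  have hloc : IsLocalization ((IsUnit.submonoid (Localization.AtPrime m)).comap φ.toRingHom)
      (Localization.AtPrime m) := by
    rw [isLocalization_iff]
    refine ⟨fun s => s.2, fun z => ?_, fun {a b} hab => ⟨1, by rw [hφinj hab]⟩⟩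
    obtain ⟨⟨r, s⟩, rfl⟩ := IsLocalization.mk'_surjective m.primeCompl z
    obtain ⟨Pr, hPr⟩ := exists_poly (B := B) y hinj r
    obtain ⟨Ps, hPs⟩ := exists_poly (B := B) y hinj (s : R)
    have hs : (s : R) * dTot G y ∉ m := by
      intro hmem
      rcases (Ideal.IsPrime.mem_or_mem inferInstance hmem) with h | h
      · exact s.2 h
      · exact hdtot h
    refine ⟨⟨aeval P.X Pr, ⟨aeval P.X Ps, ?_⟩⟩, ?_⟩
    · show IsUnit (φ (aeval P.X Ps))
      rw [hφ, hPs]
      exact IsLocalization.map_units (M := m.primeCompl) _ ⟨_, hs⟩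
    · show IsLocalization.mk' _ r s * φ (aeval P.X Ps) = φ (aeval P.X Pr)
      rw [hφ, hφ, hPr, hPs, map_mul, map_mul, ← mul_assoc, IsLocalization.mk'_spec]
  have h1 : Algebra.FormallyEtale P.Ring (Localization.AtPrime m) :=
    Algebra.FormallyEtale.of_isLocalization
      ((IsUnit.submonoid (Localization.AtPrime m)).comap φ.toRingHom)
  exact Algebra.FormallyEtale.comp B P.Ring (Localization.AtPrime m)

end etale

section closedpoint

open scoped Pointwise

variable {k B R G : Type*} [Field k] [CommRing B] [CommRing R] [IsDomain R]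
  [Algebra k R] [Algebra B R] [FaithfulSMul B R] [Group G] [Finite G] [MulSemiringAction G R]
  [SMulCommClass G k R] [SMulCommClass G B R] [Algebra.IsInvariant B R G]

/-- a maximal ideal with trivial stabiliser is an étale point of the quotient map -/
theorem isEtaleAt_of_stabilizer_eq_bot [Infinite k] (m : Ideal R) [m.IsMaximal]
    (h : MulAction.stabilizer G m = ⊥) : Algebra.IsEtaleAt B m := by
  classical
  cases nonempty_fintype G
  -- distinct constants
  let c : G → k := fun σ => Infinite.natEmbedding k (Fintype.equivFin G σ : ℕ)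
  have hc : Function.Injective c := by
    intro σ τ hστ
    have h1 := (Infinite.natEmbedding k).injective hστ
    exact (Fintype.equivFin G).injective (Fin.val_injective h1)
  have hmax : ∀ σ : G, (σ • m).IsMaximal := by
    intro σ
    rw [Ideal.pointwise_smul_eq_comap]
    infer_instance
  have hcop : Pairwise (Function.onFun IsCoprime fun σ : G => σ • m) := by
    intro σ τ hne
    have := hmax σ
    have := hmax τ
    apply Ideal.isCoprime_of_isMaximal
    intro heq
    apply hne
    have heq' : σ • m = τ • m := heq
    have h1 : (τ⁻¹ * σ) • m = m := by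
      rw [mul_smul, heq', inv_smul_smul]
    have h2 : τ⁻¹ * σ ∈ MulAction.stabilizer G m := h1
    rw [h, Subgroup.mem_bot] at h2
    have := congrArg (fun g => τ * g) h2
    simpa using this
  obtain ⟨y, hy⟩ := Ideal.exists_forall_sub_mem_ideal hcop (fun σ => algebraMap k R (c σ))
  apply isEtaleAt_of_forall_notMem (G := G) m y
  intro σ τ hne hmem
  have key : ∀ ρ : G, ρ • y - algebraMap k R (c ρ⁻¹) ∈ m := by
    intro ρ
    have h1 := hy ρ⁻¹
    rw [Ideal.mem_inv_pointwise_smul_iff, smul_sub, smul_algebraMap] at h1
    exact h1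
  have h1 : algebraMap k R (c σ⁻¹ - c τ⁻¹) ∈ m := by
    have h2 := sub_mem (sub_mem (key τ) (key σ)) (m.neg_mem hmem)
    have h3 : τ • y - algebraMap k R (c τ⁻¹) - (σ • y - algebraMap k R (c σ⁻¹)) -
        -(σ • y - τ • y) = algebraMap k R (c σ⁻¹ - c τ⁻¹) := by
      rw [map_sub]
      ring
    rwa [h3] at h2
  have h4 : c σ⁻¹ - c τ⁻¹ ≠ 0 := by
    rw [sub_ne_zero]
    intro h5
    exact hne (inv_injective (hc h5))
  have h5 : IsUnit (algebraMap k R (c σ⁻¹ - c τ⁻¹)) := (IsUnit.mk0 _ h4).map _
  exact (Ideal.IsMaximal.isPrime inferInstance : m.IsPrime).ne_top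
    (Ideal.eq_top_of_isUnit_mem _ h1 h5)

/-- an étale point of the quotient map with trivial residue field extension has trivial
stabiliser -/
theorem stabilizer_eq_bot_of_isEtaleAt [IsNoetherianRing R] [FaithfulSMul G R]
    (m : Ideal R) [m.IsMaximal]
    (hres : ∀ r : R, ∃ c : k, r - algebraMap k R c ∈ m)
    (h : Algebra.IsEtaleAt B m) : MulAction.stabilizer G m = ⊥ := by
  rw [eq_bot_iff]
  intro σ hσ
  rw [Subgroup.mem_bot]
  have hσm : σ • m = m := hσ
  -- `σ` acts trivially on the residue field
  have hin : ∀ r : R, σ • r - r ∈ m := by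
    intro r
    obtain ⟨c, hc⟩ := hres r
    have h1 : σ • (r - algebraMap k R c) ∈ σ • m := Ideal.smul_mem_pointwise_smul_iff.mpr hc
    rw [hσm, smul_sub, smul_algebraMap] at h1
    have h2 := sub_mem h1 hc
    have h3 : σ • r - algebraMap k R c - (r - algebraMap k R c) = σ • r - r := by ring
    rwa [h3] at h2
  -- the induced automorphism of the local ring
  have hle : m.primeCompl ≤ m.primeCompl.comap (MulSemiringAction.toRingHom G R σ) := by
    intro r hr hmem
    apply hr
    have h1 : σ • r ∈ m := hmem
    rw [← hσm] at h1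
    exact Ideal.smul_mem_pointwise_smul_iff.mp h1
  let f : Localization.AtPrime m →+* Localization.AtPrime m :=
    IsLocalization.map (Localization.AtPrime m) (MulSemiringAction.toRingHom G R σ) hle
  have hf : ∀ r : R, f (algebraMap R _ r) = algebraMap R _ (σ • r) := by
    intro r
    exact IsLocalization.map_eq hle r
  let g₁ : Localization.AtPrime m →ₐ[B] Localization.AtPrime m :=
    { f with
      commutes' := fun b => by
        show f (algebraMap B (Localization.AtPrime m) b) = algebraMap B (Localization.AtPrime m) b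
        rw [IsScalarTower.algebraMap_apply B R (Localization.AtPrime m), hf, smul_algebraMap] }
  have hunr : Algebra.FormallyUnramified B (Localization.AtPrime m) := by
    have : Algebra.FormallyEtale B (Localization.AtPrime m) := h
    infer_instance
  have hkrull : ⨅ i, IsLocalRing.maximalIdeal (Localization.AtPrime m) ^ i = ⊥ :=
    Ideal.iInf_pow_eq_bot_of_isLocalRing _ (IsLocalRing.maximalIdeal.isMaximal _).ne_top
  have heq : g₁ = AlgHom.id B _ := by
    apply Algebra.FormallyUnramified.ext_of_iInf _ hkrull
    intro x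
    have h1 : (Ideal.Quotient.mk (IsLocalRing.maximalIdeal (Localization.AtPrime m))).comp f =
        Ideal.Quotient.mk (IsLocalRing.maximalIdeal (Localization.AtPrime m)) := by
      apply IsLocalization.ringHom_ext m.primeCompl
      ext r
      simp only [RingHom.comp_apply]
      rw [hf, Ideal.Quotient.eq, ← map_sub]
      exact (IsLocalization.AtPrime.to_map_mem_maximal_iff _ m _).mpr (hin r)
    exact RingHom.congr_fun h1 x
  apply FaithfulSMul.eq_of_smul_eq_smul (α := R)
  intro r
  rw [one_smul]
  have h2 := hf r
  have h3 : f (algebraMap R _ r) = algebraMap R _ r := by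
    have := AlgHom.congr_fun heq (algebraMap R _ r)
    exact this
  rw [h3] at h2
  exact (IsLocalization.injective (Localization.AtPrime m) m.primeCompl_le_nonZeroDivisors h2).symm

end closedpoint

end Groth.Agent.Lib.T2H9.InvEtale
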