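import Mathlib
import Groth.Prelude


set_option autoImplicit false
universe u
open CategoryTheory AlgebraicGeometry

namespace Groth.Agent.Lib.T2H9.J2Sch

/-- For an affine open `W` of `Y` and a prime `p` of `Γ(Y, W)`: the stalk of `Y` at the
corresponding point is regular iff `p` lies in the regular locus of `Γ(Y, W)`. -/
theorem isRegularLocalRing_stalk_fromSpec_iff {Y : Scheme.{u}} {W : Y.Opens} (hW : IsAffineOpen W)
    (p : PrimeSpectrum Γ(Y, W)) :
    IsRegularLocalRing (Y.presheaf.stalk (hW.fromSpec p)) ↔ p ∈ EGA4.regLocus Γ(Y, W) := by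
  have hpW : hW.fromSpec p ∈ W := (hW.isoSpec.inv p).2
  let _ : Algebra Γ(Y, W) (Y.presheaf.stalk (hW.fromSpec p)) :=
    TopCat.Presheaf.algebra_section_stalk Y.presheaf (⟨hW.fromSpec p, hpW⟩ : W)
  have hloc : IsLocalization.AtPrime (Y.presheaf.stalk (hW.fromSpec p)) p.asIdeal :=
    hW.isLocalization_stalk' p hpW
  have e := (IsLocalization.algEquiv p.asIdeal.primeCompl
    (Y.presheaf.stalk (hW.fromSpec p)) (Localization.AtPrime p.asIdeal)).toRingEquiv
  constructor
  · intro h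
    exact IsRegularLocalRing.of_ringEquiv e
  · intro h
    have : IsRegularLocalRing (Localization.AtPrime p.asIdeal) := h
    exact IsRegularLocalRing.of_ringEquiv e.symm

/-- The regular locus of `Y` meets an affine open `W` in the image of the regular locus of
`Γ(Y, W)`. -/
theorem regular_inter_eq_image {Y : Scheme.{u}} {W : Y.Opens} (hW : IsAffineOpen W) :
    {y : Y | IsRegularLocalRing (Y.presheaf.stalk y)} ∩ (W : Set Y) =
      hW.fromSpec '' (EGA4.regLocus Γ(Y, W)) := by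
  ext y
  constructor
  · rintro ⟨hy, hyW⟩
    have hfp : hW.fromSpec (hW.primeIdealOf ⟨y, hyW⟩) = y := hW.fromSpec_primeIdealOf ⟨y, hyW⟩
    refine ⟨hW.primeIdealOf ⟨y, hyW⟩,
      (isRegularLocalRing_stalk_fromSpec_iff hW (hW.primeIdealOf ⟨y, hyW⟩)).mp ?_, hfp⟩
    rw [hfp]
    exact hy
  · rintro ⟨p, hp, rfl⟩
    exact ⟨(isRegularLocalRing_stalk_fromSpec_iff hW p).mpr hp, (hW.isoSpec.inv p).2⟩

theorem regLocus_eq_setOf_stalk (B : Type u) [CommRing B] :
    EGA4.regLocus B =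
      {p : PrimeSpectrum B | IsRegularLocalRing ((Spec (CommRingCat.of B)).presheaf.stalk p)} := by
  ext p
  have e := (IsLocalization.algEquiv p.asIdeal.primeCompl
    ((Spec.structureSheaf B).presheaf.stalk p) (Localization.AtPrime p.asIdeal)).toRingEquiv
  constructor
  · intro h
    have : IsRegularLocalRing (Localization.AtPrime p.asIdeal) := h
    exact IsRegularLocalRing.of_ringEquiv (R' := (Spec.structureSheaf B).presheaf.stalk p) e.symm
  · intro h
    have : IsRegularLocalRing ((Spec.structureSheaf B).presheaf.stalk p) := h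
    exact IsRegularLocalRing.of_ringEquiv (R := (Spec.structureSheaf B).presheaf.stalk p) e

theorem j2_iff (X : Scheme.{u}) [IsLocallyNoetherian X] :
    ((∀ (Y : Scheme.{u}) (g : Y ⟶ X), LocallyOfFiniteType g →
        IsOpen {y : Y | IsRegularLocalRing (Y.presheaf.stalk y)}) ↔
      ∀ U : X.affineOpens, EGA4.IsJ2 Γ(X, U)) ∧
    ((∀ (Y : Scheme.{u}) (g : Y ⟶ X), LocallyOfFiniteType g →
        IsOpen {y : Y | IsRegularLocalRing (Y.presheaf.stalk y)}) ↔
      ∀ x : X, ∃ U : X.affineOpens, x ∈ (U : X.Opens) ∧ EGA4.IsJ2 Γ(X, U)) := by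
  have h13 : (∀ (Y : Scheme.{u}) (g : Y ⟶ X), LocallyOfFiniteType g →
        IsOpen {y : Y | IsRegularLocalRing (Y.presheaf.stalk y)}) →
      ∀ U : X.affineOpens, EGA4.IsJ2 Γ(X, U) := by
    intro h U B _ _ hB
    have hft : LocallyOfFiniteType
        (Spec.map (CommRingCat.ofHom (algebraMap Γ(X, U) B)) ≫ U.2.fromSpec) := by
      have h1 : LocallyOfFiniteType (Spec.map (CommRingCat.ofHom (algebraMap Γ(X, U) B))) := by
        rw [HasRingHomProperty.Spec_iff (P := @LocallyOfFiniteType)]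
        exact RingHom.finiteType_algebraMap.mpr hB
      infer_instance
    have := h _ _ hft
    rw [regLocus_eq_setOf_stalk]
    exact this
  have h34 : (∀ U : X.affineOpens, EGA4.IsJ2 Γ(X, U)) →
      ∀ x : X, ∃ U : X.affineOpens, x ∈ (U : X.Opens) ∧ EGA4.IsJ2 Γ(X, U) := by
    intro h x
    obtain ⟨U, hU, hxU, -⟩ := exists_isAffineOpen_mem_and_subset (x := x) (U := ⊤) trivial
    exact ⟨⟨U, hU⟩, hxU, h ⟨U, hU⟩⟩
  have h41 : (∀ x : X, ∃ U : X.affineOpens, x ∈ (U : X.Opens) ∧ EGA4.IsJ2 Γ(X, U)) →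
      ∀ (Y : Scheme.{u}) (g : Y ⟶ X), LocallyOfFiniteType g →
        IsOpen {y : Y | IsRegularLocalRing (Y.presheaf.stalk y)} := by
    intro h Y g hg
    rw [isOpen_iff_forall_mem_open]
    intro y hy
    obtain ⟨U, hgyU, hJ⟩ := h (g y)
    obtain ⟨W, hW, hyW, hWU⟩ := exists_isAffineOpen_mem_and_subset (x := y) (U := g ⁻¹ᵁ U) hgyU
    let _ : Algebra Γ(X, U) Γ(Y, W) := (g.appLE U W hWU).hom.toAlgebra
    have hft : Algebra.FiniteType Γ(X, U) Γ(Y, W) :=
      RingHom.finiteType_algebraMap.mp (LocallyOfFiniteType.finiteType_appLE (f := g) U.2 hW hWU)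
    have hopen : IsOpen (EGA4.regLocus Γ(Y, W)) := hJ _ hft
    refine ⟨hW.fromSpec '' (EGA4.regLocus Γ(Y, W)), ?_, ?_, ?_⟩
    · rw [← regular_inter_eq_image hW]
      exact Set.inter_subset_left
    · exact hW.fromSpec.isOpenEmbedding.isOpenMap _ hopen
    · rw [← regular_inter_eq_image hW]
      exact ⟨hy, hyW⟩
  exact ⟨⟨h13, fun h => h41 (h34 h)⟩, ⟨fun h => h34 (h13 h), h41⟩⟩

end Groth.Agent.Lib.T2H9.J2Sch
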