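import Mathlib
import Groth.Prelude.Def_Koszul
import Groth.Agent.Lib.Helper13Kz

set_option autoImplicit false

namespace Groth.Agent.Lib.T2H9.KoszulScale
open CategoryTheory CochainComplex CochainComplex.HomComplex

universe u
variable {A : Type u} [CommRing A]

/-- the complex with differential scaled by `x` -/
noncomputable abbrev scaleCx (x : A) (K : CochainComplex (ModuleCat.{u} A) ℤ) :
    CochainComplex (ModuleCat.{u} A) ℤ where
  X := K.X
  d i j := x • K.d i j
  shape i j h := by rw [K.shape i j h, smul_zero]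
  d_comp_d' i j k _ _ := by
    rw [Linear.smul_comp, Linear.comp_smul, K.d_comp_d, smul_zero, smul_zero]

@[simp] lemma scaleCx_d (x : A) (K : CochainComplex (ModuleCat.{u} A) ℤ) (i j : ℤ) :
    (scaleCx x K).d i j = x • K.d i j := rfl

lemma scaleCx_X (x : A) (K : CochainComplex (ModuleCat.{u} A) ℤ) (i : ℤ) :
    (scaleCx x K).X i = K.X i := rfl

/-- scaling is functorial for isomorphisms -/
noncomputable def scaleIso (x : A) {K L : CochainComplex (ModuleCat.{u} A) ℤ} (e : K ≅ L) :
    scaleCx x K ≅ scaleCx x L :=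
  HomologicalComplex.Hom.isoOfComponents (fun i => HomologicalComplex.Hom.isoApp e i)
    (fun i j _ => by
      show e.hom.f i ≫ (x • L.d i j) = (x • K.d i j) ≫ e.hom.f j
      rw [Linear.comp_smul, Linear.smul_comp, e.hom.comm])

variable (x f : A) (K : CochainComplex (ModuleCat.{u} A) ℤ)

/-- the comparison map of graded objects -/
noncomputable def coneScaleHom (n : ℤ) :
    (mappingCone ((x * f) • 𝟙 (scaleCx x K))).X n ⟶ (scaleCx x (mappingCone (f • 𝟙 K))).X n :=
  (mappingCone.fst ((x * f) • 𝟙 (scaleCx x K))).1.v n (n + 1) rfl ≫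
      (mappingCone.inl (f • 𝟙 K)).v (n + 1) n (by omega) +
    (mappingCone.snd ((x * f) • 𝟙 (scaleCx x K))).v n n (add_zero n) ≫
      (mappingCone.inr (f • 𝟙 K)).f n

noncomputable def coneScaleInv (n : ℤ) :
    (scaleCx x (mappingCone (f • 𝟙 K))).X n ⟶ (mappingCone ((x * f) • 𝟙 (scaleCx x K))).X n :=
  (mappingCone.fst (f • 𝟙 K)).1.v n (n + 1) rfl ≫
      (mappingCone.inl ((x * f) • 𝟙 (scaleCx x K))).v (n + 1) n (by omega) +
    (mappingCone.snd (f • 𝟙 K)).v n n (add_zero n) ≫
      (mappingCone.inr ((x * f) • 𝟙 (scaleCx x K))).f n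

lemma coneScale_hom_inv (n : ℤ) : coneScaleHom x f K n ≫ coneScaleInv x f K n = 𝟙 _ := by
  unfold coneScaleHom coneScaleInv
  simp only [Preadditive.add_comp, Preadditive.comp_add, Category.assoc,
    mappingCone.inl_v_fst_v_assoc, mappingCone.inl_v_snd_v_assoc, mappingCone.inr_f_fst_v_assoc,
    mappingCone.inr_f_snd_v_assoc, Limits.zero_comp, Limits.comp_zero, add_zero, zero_add]
  exact mappingCone.id_X ((x * f) • 𝟙 (scaleCx x K)) n (n + 1) rfl

lemma coneScale_inv_hom (n : ℤ) : coneScaleInv x f K n ≫ coneScaleHom x f K n = 𝟙 _ := by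
  unfold coneScaleHom coneScaleInv
  simp only [Preadditive.add_comp, Preadditive.comp_add, Category.assoc,
    mappingCone.inl_v_fst_v_assoc, mappingCone.inl_v_snd_v_assoc, mappingCone.inr_f_fst_v_assoc,
    mappingCone.inr_f_snd_v_assoc, Limits.zero_comp, Limits.comp_zero, add_zero, zero_add]
  exact mappingCone.id_X (f • 𝟙 K) n (n + 1) rfl

@[reassoc]
lemma coneScaleHom_fst (n : ℤ) :
    coneScaleHom x f K n ≫ (mappingCone.fst (f • 𝟙 K)).1.v n (n + 1) rfl =
      (mappingCone.fst ((x * f) • 𝟙 (scaleCx x K))).1.v n (n + 1) rfl := by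
  unfold coneScaleHom
  simp only [Preadditive.add_comp, Category.assoc, mappingCone.inl_v_fst_v,
    mappingCone.inr_f_fst_v, Limits.comp_zero, add_zero, Category.comp_id]

@[reassoc]
lemma coneScaleHom_snd (n : ℤ) :
    coneScaleHom x f K n ≫ (mappingCone.snd (f • 𝟙 K)).v n n (add_zero n) =
      (mappingCone.snd ((x * f) • 𝟙 (scaleCx x K))).v n n (add_zero n) := by
  unfold coneScaleHom
  simp only [Preadditive.add_comp, Category.assoc, mappingCone.inl_v_snd_v,
    mappingCone.inr_f_snd_v, Limits.comp_zero, zero_add, Category.comp_id]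

lemma coneScale_comm (i : ℤ) :
    coneScaleHom x f K i ≫ (scaleCx x (mappingCone (f • 𝟙 K))).d i (i + 1) =
      (mappingCone ((x * f) • 𝟙 (scaleCx x K))).d i (i + 1) ≫ coneScaleHom x f K (i + 1) := by
  apply mappingCone.ext_to (f • 𝟙 K) (i + 1) (i + 1 + 1) rfl
  · rw [Category.assoc, Category.assoc, coneScaleHom_fst, scaleCx_d, Linear.smul_comp,
      mappingCone.d_fst_v (f • 𝟙 K) i (i + 1) (i + 1 + 1) rfl rfl,
      mappingCone.d_fst_v ((x * f) • 𝟙 (scaleCx x K)) i (i + 1) (i + 1 + 1) rfl rfl, scaleCx_d]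
    simp only [Linear.comp_smul, Preadditive.comp_neg, smul_neg, coneScaleHom_fst_assoc]
  · rw [Category.assoc, Category.assoc, coneScaleHom_snd, scaleCx_d, Linear.smul_comp,
      mappingCone.d_snd_v (f • 𝟙 K) i (i + 1) rfl,
      mappingCone.d_snd_v ((x * f) • 𝟙 (scaleCx x K)) i (i + 1) rfl, scaleCx_d]
    simp only [Linear.comp_smul, Preadditive.comp_add, smul_add,
      coneScaleHom_snd_assoc, HomologicalComplex.smul_f_apply, HomologicalComplex.id_f,
      Category.comp_id, mul_smul]
    rw [coneScaleHom_fst]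

/-- the cone of `(x f) • 𝟙` on a scaled complex is the scaled cone of `f • 𝟙`. -/
noncomputable def coneScaleIso :
    mappingCone ((x * f) • 𝟙 (scaleCx x K)) ≅ scaleCx x (mappingCone (f • 𝟙 K)) :=
  HomologicalComplex.Hom.isoOfComponents
    (fun n => ⟨coneScaleHom x f K n, coneScaleInv x f K n, coneScale_hom_inv x f K n,
      coneScale_inv_hom x f K n⟩)
    (fun i j hij => by
      obtain rfl : i + 1 = j := hij
      exact coneScale_comm x f K i)

/-- the Koszul complex of `x • l` is the scaled Koszul complex of `l`. -/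
noncomputable def koszulScaleIso (x : A) : ∀ l : List A,
    Koszul.koszul A (l.map (fun f => x * f)) ≅ scaleCx x (Koszul.koszul A l)
  | [] => HomologicalComplex.Hom.isoOfComponents (fun n => Iso.refl _) (fun i j _ => by
      show 𝟙 _ ≫ (x • (Koszul.koszul A []).d i j) = (Koszul.koszul A []).d i j ≫ 𝟙 _
      have : (Koszul.koszul A ([] : List A)).d i j = 0 := by
        show ((CochainComplex.singleFunctor (ModuleCat.{u} A) 0).obj (ModuleCat.of A A)).d i j = 0
        simp
      rw [this, smul_zero, Limits.comp_zero, Limits.zero_comp])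
  | f :: l =>
      Groth.Agent.Helper13Kz.coneIso (koszulScaleIso x l) (x * f) ≪≫
        coneScaleIso x f (Koszul.koszul A l)

section homology

variable {X₁ X₂ X₃ : Type u} [AddCommGroup X₁] [Module A X₁] [AddCommGroup X₂] [Module A X₂]
  [AddCommGroup X₃] [Module A X₃]

/-- linear algebra: for `x` regular on `X₃`, the homology of `(x • a, x • b)` is
`ker b / x • range a`. -/
noncomputable def kerQuotEquiv (x : A) (a : X₁ →ₗ[A] X₂) (b : X₂ →ₗ[A] X₃) (hab : b ∘ₗ a = 0)
    (hreg : IsSMulRegular X₃ x) :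
    (↥(LinearMap.ker (x • b)) ⧸ LinearMap.range
      ((x • a).codRestrict (LinearMap.ker (x • b)) (fun y => by
        rw [LinearMap.mem_ker, LinearMap.smul_apply, LinearMap.smul_apply, map_smul,
          ← LinearMap.comp_apply, hab, LinearMap.zero_apply, smul_zero, smul_zero]))) ≃ₗ[A]
    (↥(LinearMap.ker b) ⧸ Submodule.comap (LinearMap.ker b).subtype
      (Ideal.span {x} • LinearMap.range a)) := by
  have hker : LinearMap.ker (x • b) = LinearMap.ker b := by
    ext y
    rw [LinearMap.mem_ker, LinearMap.mem_ker, LinearMap.smul_apply]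
    constructor
    · intro h
      apply hreg
      show x • b y = x • 0
      rw [h, smul_zero]
    · intro h
      rw [h, smul_zero]
  refine Submodule.Quotient.equiv _ _ (LinearEquiv.ofEq _ _ hker) ?_
  ext ⟨y, hy⟩
  simp only [Submodule.mem_map, LinearMap.mem_range, Submodule.mem_comap, Submodule.subtype_apply]
  constructor
  · rintro ⟨⟨z, hz⟩, ⟨w, hw⟩, hzy⟩
    have h1 : z = y := congrArg Subtype.val hzy
    have h2 : (x • a) w = z := congrArg Subtype.val hw
    rw [← h1, ← h2, LinearMap.smul_apply]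
    exact Submodule.smul_mem_smul (Ideal.mem_span_singleton_self x) ⟨w, rfl⟩
  · intro h
    rw [Submodule.ideal_span_singleton_smul] at h
    obtain ⟨_, ⟨w, rfl⟩, hw⟩ := h
    have hw' : x • a w = y := hw
    refine ⟨⟨y, by rw [hker]; exact hy⟩, ⟨w, Subtype.ext ?_⟩, rfl⟩
    exact hw'

end homology

theorem nonempty_homology_scaleCx_iso (x : A) (K : CochainComplex (ModuleCat.{u} A) ℤ) (q : ℤ)
    (hreg : IsSMulRegular (K.X (q + 1)) x) :
    Nonempty ((scaleCx x K).homology q ≅ ModuleCat.of A
      (↥(LinearMap.ker (K.d q (q + 1)).hom) ⧸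
        Submodule.comap (LinearMap.ker (K.d q (q + 1)).hom).subtype
          (Ideal.span {x} • LinearMap.range (K.d (q - 1) q).hom))) := by
  have e1 := (scaleCx x K).homologyIsoSc' (q - 1) q (q + 1) (by simp) (by simp)
  have e2 := ((scaleCx x K).sc' (q - 1) q (q + 1)).moduleCatHomologyIso
  have hab : (K.d q (q + 1)).hom ∘ₗ (K.d (q - 1) q).hom = 0 := by
    rw [← ModuleCat.hom_comp, K.d_comp_d]
    rfl
  have e3 := kerQuotEquiv x (K.d (q - 1) q).hom (K.d q (q + 1)).hom hab hreg
  exact ⟨e1 ≪≫ e2 ≪≫ e3.toModuleIso⟩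

lemma isSMulRegular_cone (x : A) {K L : CochainComplex (ModuleCat.{u} A) ℤ} (φ : K ⟶ L)
    (hK : ∀ i, IsSMulRegular (K.X i) x) (hL : ∀ i, IsSMulRegular (L.X i) x) (i : ℤ) :
    IsSMulRegular ((mappingCone φ).X i) x := by
  intro m m' h
  have h0 : x • m = x • m' := h
  have hid := mappingCone.id_X φ i (i + 1) rfl
  have h1 : (mappingCone.fst φ).1.v i (i + 1) rfl m = (mappingCone.fst φ).1.v i (i + 1) rfl m' := by
    apply hK (i + 1)
    show x • _ = x • _
    rw [← map_smul, ← map_smul, h0]
  have h2 : (mappingCone.snd φ).v i i (add_zero i) m = (mappingCone.snd φ).v i i (add_zero i) m' := by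
    apply hL i
    show x • _ = x • _
    rw [← map_smul, ← map_smul, h0]
  have e1 := congrArg (fun g => g.hom m) hid
  have e2 := congrArg (fun g => g.hom m') hid
  simp only [ModuleCat.hom_add, ModuleCat.hom_comp, LinearMap.add_apply, LinearMap.comp_apply,
    ModuleCat.hom_id, LinearMap.id_apply] at e1 e2
  rw [← e1, ← e2]
  erw [h1, h2]

lemma isSMulRegular_single_X (x : A) (hx : x ∈ nonZeroDivisors A) (i : ℤ) :
    IsSMulRegular (((CochainComplex.singleFunctor (ModuleCat.{u} A) 0).obj
      (ModuleCat.of A A)).X i) x := by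
  by_cases hi : i = 0
  · subst hi
    have e : ((CochainComplex.singleFunctor (ModuleCat.{u} A) 0).obj (ModuleCat.of A A)).X 0 ≅
        ModuleCat.of A A := HomologicalComplex.singleObjXSelf (ComplexShape.up ℤ) 0 _
    intro m m' h
    have h0 : x • m = x • m' := h
    apply (ConcreteCategory.injective_of_mono_of_preservesPullback e.hom)
    have hreg : IsSMulRegular A x := (isRegular_iff_mem_nonZeroDivisors.mpr hx).left.isSMulRegular
    apply hreg
    show x • e.hom m = x • e.hom m'
    rw [← map_smul, ← map_smul, h0]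
  · have hz : Limits.IsZero (((CochainComplex.singleFunctor (ModuleCat.{u} A) 0).obj
        (ModuleCat.of A A)).X i) :=
      HomologicalComplex.isZero_single_obj_X (ComplexShape.up ℤ) 0 _ i hi
    have := ModuleCat.subsingleton_of_isZero hz
    intro m m' _
    exact Subsingleton.elim _ _

lemma isSMulRegular_koszul_X (x : A) (hx : x ∈ nonZeroDivisors A) :
    ∀ (l : List A) (i : ℤ), IsSMulRegular ((Koszul.koszul A l).X i) x
  | [], i => isSMulRegular_single_X x hx i
  | _ :: l, i =>
    isSMulRegular_cone x _ (isSMulRegular_koszul_X x hx l) (isSMulRegular_koszul_X x hx l) i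

/-- **S15815**. -/
theorem nonempty_homology_koszul_mul_iso (l : List A) (x : A) (hx : x ∈ nonZeroDivisors A)
    (q : ℤ) :
    Nonempty ((Koszul.koszul A (l.map (fun f => x * f))).homology q ≅
      ModuleCat.of A (↥(LinearMap.ker ((Koszul.koszul A l).d q (q + 1)).hom) ⧸
        Submodule.comap (LinearMap.ker ((Koszul.koszul A l).d q (q + 1)).hom).subtype
          (Ideal.span {x} • LinearMap.range ((Koszul.koszul A l).d (q - 1) q).hom))) := by
  obtain ⟨e⟩ := nonempty_homology_scaleCx_iso x (Koszul.koszul A l) q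
    (isSMulRegular_koszul_X x hx l (q + 1))
  exact ⟨(HomologicalComplex.homologyFunctor _ _ q).mapIso (koszulScaleIso x l) ≪≫ e⟩

end Groth.Agent.Lib.T2H9.KoszulScale
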