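import Groth.Agent.Lib.T2H9KoszulScale
import Groth.Agent.Lib.Helper13KzTor
import Groth.Agent.Lib.Helper13KzLiftB

set_option autoImplicit false

namespace Groth.Agent.Lib.T2H9.KoszulScale
open CategoryTheory CochainComplex CochainComplex.HomComplex
open scoped TensorProduct

universe u
variable {A : Type u} [CommRing A]

/-- exactness of the Koszul complex of a weakly regular sequence in negative degrees,
as an equality of submodules. -/
lemma range_eq_ker_of_weaklyRegular (l : List A) (hl : RingTheory.Sequence.IsWeaklyRegular A l)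
    (q : ℤ) (hq : q ≠ 0) :
    LinearMap.range ((Koszul.koszul A l).d (q - 1) q).hom =
      LinearMap.ker ((Koszul.koszul A l).d q (q + 1)).hom := by
  have h0 : Limits.IsZero ((Koszul.koszul A l).homology q) := by
    rw [Groth.Agent.Helper13KzLift.isZero_congr (Groth.Agent.Helper13KzLift.koszul_eq A l) q]
    exact Groth.Agent.Helper13Kz.isZero_KH_of_weaklyRegular l (ModuleCat.of A A) hl q hq
  rw [← HomologicalComplex.exactAt_iff_isZero_homology,
    HomologicalComplex.exactAt_iff' _ (q - 1) q (q + 1) (by simp) (by simp),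
    ShortComplex.moduleCat_exact_iff_range_eq_ker] at h0
  exact h0

/-- **S15816**. -/
theorem nonempty_homology_koszul_mul_iso_tensor (l : List A)
    (hl : RingTheory.Sequence.IsWeaklyRegular A l) (x : A) (hx : x ∈ nonZeroDivisors A) (q : ℤ)
    (hq : q < 0) :
    Nonempty ((Koszul.koszul A (l.map (fun f => x * f))).homology q ≅
      ModuleCat.of A (↥(LinearMap.ker ((Koszul.koszul A l).d q (q + 1)).hom) ⊗[A]
        (A ⧸ Ideal.span {x}))) := by
  obtain ⟨e⟩ := nonempty_homology_koszul_mul_iso l x hx q
  have hr := range_eq_ker_of_weaklyRegular l hl q hq.ne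
  have hsub : Submodule.comap (LinearMap.ker ((Koszul.koszul A l).d q (q + 1)).hom).subtype
      (Ideal.span {x} • LinearMap.range ((Koszul.koszul A l).d (q - 1) q).hom) =
      (Ideal.span {x} • (⊤ : Submodule A ↥(LinearMap.ker ((Koszul.koszul A l).d q (q + 1)).hom))) := by
    rw [hr]
    ext ⟨y, hy⟩
    rw [Submodule.mem_comap, Submodule.subtype_apply, Submodule.ideal_span_singleton_smul,
      Submodule.ideal_span_singleton_smul]
    constructor
    · rintro ⟨z, hz, hzy⟩
      exact ⟨⟨z, hz⟩, Submodule.mem_top, Subtype.ext hzy⟩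
    · rintro ⟨⟨z, hz⟩, _, hzy⟩
      exact ⟨z, hz, congrArg Subtype.val hzy⟩
  have e2 := (Submodule.quotEquivOfEq _ _ hsub).trans
    (TensorProduct.tensorQuotEquivQuotSMul
      (↥(LinearMap.ker ((Koszul.koszul A l).d q (q + 1)).hom)) (Ideal.span {x})).symm
  exact ⟨e ≪≫ e2.toModuleIso⟩

end Groth.Agent.Lib.T2H9.KoszulScale
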