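import Mathlib
import Groth.Prelude.Def_EtRam
import Groth.Agent.Lib.T2H9DvrData
import Groth.Agent.Lib.T2H9ASCases
import Groth.Agent.Lib.T2H9FinDVR

/-! Extensions `K(z)` with `P(z) = ξ` for a monic `P ∈ A[X]` of prime degree `p` over a discrete
valuation ring with residue characteristic `p`: the totally ramified case and the purely
inseparable residue case. -/

set_option autoImplicit false
set_option linter.style.haveILetI false
set_option linter.unusedSectionVars false
universe u

namespace Groth.Agent.Lib.T2H9.MonicCases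

open IsLocalRing Polynomial Groth.Agent.Lib.T2H9.RamTower Groth.Agent.Lib.T2H9.TotRam
  Groth.Agent.Lib.T2H9.ValDom Groth.Agent.Lib.T2H9.TotRamDeg Groth.Agent.Lib.T2H9.EFUnique
  Groth.Agent.Lib.T2H9.DvrData Groth.Agent.Lib.T2H9.ASCases

section basic

variable (p : ℕ) (A K L : Type u) [CommRing A] [IsDomain A]
  [Field K] [Algebra A K] [Field L] [Algebra K L]
  [Algebra A L] [IsScalarTower A K L]
  (P : A[X]) (hPm : P.Monic) (hPd : P.natDegree = p) (hp : 0 < p)
  (ξ : K) (z : L) (hz : aeval z P = algebraMap K L ξ)

/-- the polynomial over `K` with root `z` -/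
noncomputable def polyK : K[X] := P.map (algebraMap A K) - C ξ

include hPm hPd hp in
theorem polyK_degree_lt : (C ξ : K[X]).degree < (P.map (algebraMap A K)).degree := by
  rw [hPm.degree_map, degree_eq_natDegree hPm.ne_zero, hPd]
  exact degree_C_le.trans_lt (by exact_mod_cast hp)

include hPm hPd hp in
theorem polyK_monic : (polyK A K P ξ).Monic :=
  (hPm.map _).sub_of_left (polyK_degree_lt p A K P hPm hPd hp ξ)

include hPm hPd hp in
theorem polyK_natDegree : (polyK A K P ξ).natDegree = p := by
  unfold polyK
  rw [natDegree_sub_eq_left_of_natDegree_lt, hPm.natDegree_map, hPd]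
  rw [hPm.natDegree_map, hPd, natDegree_C]
  exact hp

include hz in
theorem aeval_polyK : aeval z (polyK A K P ξ) = 0 := by
  unfold polyK
  rw [map_sub, aeval_C, aeval_map_algebraMap, hz, sub_self]

include hPm hPd hp hz in
theorem isIntegral_z : IsIntegral K z :=
  ⟨polyK A K P ξ, polyK_monic p A K P hPm hPd hp ξ, by
    rw [← aeval_def]; exact aeval_polyK A K L P ξ z hz⟩

include hPm hPd hp hz in
theorem finrank_le (hgen : IntermediateField.adjoin K {z} = ⊤) : Module.finrank K L ≤ p := by
  have hint := isIntegral_z p A K L P hPm hPd hp ξ z hz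
  have h1 : Module.finrank K L = (minpoly K z).natDegree := by
    rw [← IntermediateField.adjoin.finrank hint, hgen, IntermediateField.finrank_top']
  rw [h1, ← polyK_natDegree p A K P hPm hPd hp ξ]
  apply natDegree_le_of_dvd
  · exact minpoly.dvd _ _ (aeval_polyK A K L P ξ z hz)
  · exact (polyK_monic p A K P hPm hPd hp ξ).ne_zero

include hPm hPd hp hz in
theorem finiteDimensional (hgen : IntermediateField.adjoin K {z} = ⊤) :
    FiniteDimensional K L := by
  have hint := isIntegral_z p A K L P hPm hPd hp ξ z hz
  haveI : FiniteDimensional K (IntermediateField.adjoin K {z}) :=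
    IntermediateField.adjoin.finiteDimensional hint
  haveI : FiniteDimensional K (⊤ : IntermediateField K L) := hgen ▸ inferInstance
  exact (IntermediateField.topEquiv :
    (⊤ : IntermediateField K L) ≃ₐ[K] L).toLinearEquiv.finiteDimensional

include hPm hPd hp hz in
theorem adjoin_top (hgen : IntermediateField.adjoin K {z} = ⊤) : Algebra.adjoin K {z} = ⊤ := by
  have hint := isIntegral_z p A K L P hPm hPd hp ξ z hz
  rw [← IntermediateField.adjoin_simple_toSubalgebra_of_isAlgebraic hint.isAlgebraic, hgen]
  rfl

include hPm hPd in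
/-- expansion of a monic polynomial at a point -/
theorem aeval_eq_sum : aeval z P = z ^ p + ∑ i ∈ Finset.range p, algebraMap A L (P.coeff i) * z ^ i := by
  conv_lhs => rw [hPm.as_sum]
  rw [hPd, map_add, map_pow, aeval_X, map_sum]
  congr 1
  apply Finset.sum_congr rfl
  intro i _
  rw [map_mul, aeval_C, map_pow, aeval_X]

end basic


section val

variable (p : ℕ) (A K L : Type u) [CommRing A] [IsDomain A]
  [Field K] [Algebra A K] [Field L] [Algebra K L]
  [Algebra A L] [IsScalarTower A K L]
  (P : A[X]) (hPm : P.Monic) (hPd : P.natDegree = p) (z : L)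

include hPm hPd in
/-- at a pole the leading term dominates -/
theorem val_aeval_eq (V : ValuationSubring L) (hA : ∀ a : A, algebraMap A L a ∈ V)
    (hz1 : 1 < V.valuation z) : V.valuation (aeval z P) = V.valuation z ^ p := by
  rw [aeval_eq_sum p A L P hPm hPd z, ← map_pow]
  apply Valuation.map_add_eq_of_lt_left
  rw [map_pow]
  apply Valuation.map_sum_lt
  · exact pow_ne_zero _ (ne_of_gt (zero_lt_one.trans hz1))
  · intro i hi
    rw [Finset.mem_range] at hi
    rw [map_mul, map_pow]
    calc V.valuation (algebraMap A L (P.coeff i)) * V.valuation z ^ i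
        ≤ 1 * V.valuation z ^ i :=
          mul_le_mul' ((V.valuation_le_one_iff _).mpr (hA _)) le_rfl
      _ = V.valuation z ^ i := one_mul _
      _ < V.valuation z ^ p := pow_lt_pow_right₀ hz1 hi

include hPm hPd in
theorem aeval_mem (V : ValuationSubring L) (hA : ∀ a : A, algebraMap A L a ∈ V)
    (hzV : z ∈ V) : aeval z P ∈ V := by
  rw [aeval_eq_sum p A L P hPm hPd z]
  apply add_mem (pow_mem hzV p)
  apply sum_mem
  intro i _
  exact mul_mem (hA _) (pow_mem hzV i)

end val

section cases

variable (p : ℕ) [hp : Fact p.Prime] (A K L : Type u) [CommRing A] [IsDomain A]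
  [IsDiscreteValuationRing A] [Field K] [Algebra A K] [IsFractionRing A K] [Field L] [Algebra K L]
  [Algebra A L] [IsScalarTower A K L] [CharP (ResidueField A) p]
  (π : A) (hπ : Irreducible π) (P : A[X]) (hPm : P.Monic) (hPd : P.natDegree = p)
  (ξ : K) (z : L) (hz : aeval z P = algebraMap K L ξ)
  (hgen : IntermediateField.adjoin K {z} = ⊤)

include hπ hPm hPd hz hgen

/-- the local analysis in case (B) -/
theorem genB_local (n : ℕ) (hn : 0 < n) (hpn : ¬ p ∣ n) (a : Aˣ)
    (hξ : ξ * algebraMap A K π ^ n = algebraMap A K a)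
    (V : ValuationSubring L) (h : EtRam.Dominates A (algebraMap A L) V) :
    letI : Algebra A V := (RingHom.codRestrict (algebraMap A L) V h.1).toAlgebra
    ∀ [IsLocalHom (algebraMap A V)] [IsDiscreteValuationRing V],
      ∃ (ω : V) (u : Vˣ), Irreducible ω ∧ algebraMap A V π = ↑u * ω ^ p ∧
        Module.finrank (ResidueField A) (ResidueField V) = 1 ∧ Module.finrank K L = p := by
  letI : Algebra A V := (RingHom.codRestrict (algebraMap A L) V h.1).toAlgebra
  intro _ _
  have h2 : 2 ≤ p := hp.out.two_le
  have hp0 : 0 < p := by omega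
  haveI : FiniteDimensional K L := finiteDimensional p A K L P hPm hPd hp0 ξ z hz hgen
  obtain ⟨ω, u, e, hω, hu, he, hfin, hfpos, hef⟩ := ef_data A K L π hπ V h
  haveI := hfin
  have hN := finrank_le p A K L P hPm hPd hp0 ξ z hz hgen
  have hξL : algebraMap K L ξ * algebraMap A L π ^ n = algebraMap A L a := by
    have := congrArg (algebraMap K L) hξ
    rwa [map_mul, map_pow, ← IsScalarTower.algebraMap_apply, ← IsScalarTower.algebraMap_apply]
      at this
  set πL := algebraMap A L π with hπL
  have hπV : V.valuation πL < 1 := h.2 π (by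
    rw [hπ.maximalIdeal_eq]; exact Ideal.mem_span_singleton_self π)
  have hπ0 : V.valuation πL ≠ 0 := by
    rw [Valuation.ne_zero_iff]
    intro h0
    exact hπ.ne_zero (algebraMap_injective A K L (h0.trans (map_zero _).symm))
  have haV : V.valuation (algebraMap A L a) = 1 := by
    have h3 : V.valuation (algebraMap A L a) ≤ 1 := (V.valuation_le_one_iff _).mpr (h.1 a)
    have h4 : V.valuation (algebraMap A L ((a⁻¹ : Aˣ) : A)) ≤ 1 :=
      (V.valuation_le_one_iff _).mpr (h.1 _)
    have h5 : V.valuation (algebraMap A L a) * V.valuation (algebraMap A L ((a⁻¹ : Aˣ) : A)) = 1 := by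
      rw [← map_mul, ← map_mul, Units.mul_inv, map_one, map_one]
    apply le_antisymm h3
    calc (1 : _) = V.valuation (algebraMap A L a) *
          V.valuation (algebraMap A L ((a⁻¹ : Aˣ) : A)) := h5.symm
      _ ≤ V.valuation (algebraMap A L a) * 1 := mul_le_mul' le_rfl h4
      _ = _ := mul_one _
  have hval1 : V.valuation (algebraMap K L ξ) * V.valuation πL ^ n = 1 := by
    rw [← map_pow, ← map_mul, hξL, haV]
  have hzV : 1 < V.valuation z := by
    by_contra hle
    push Not at hle
    have hzmem : z ∈ V := (V.valuation_le_one_iff z).mp hle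
    have hξmem : algebraMap K L ξ ∈ V := by
      rw [← hz]
      exact aeval_mem p A L P hPm hPd z V h.1 hzmem
    have h3 : V.valuation (algebraMap K L ξ) ≤ 1 := (V.valuation_le_one_iff _).mpr hξmem
    have h4 : V.valuation πL ^ n < 1 := pow_lt_one₀ zero_le hπV hn.ne'
    have h5 : V.valuation (algebraMap K L ξ) * V.valuation πL ^ n < 1 := by
      calc V.valuation (algebraMap K L ξ) * V.valuation πL ^ n ≤ 1 * V.valuation πL ^ n :=
            mul_le_mul' h3 le_rfl
        _ = V.valuation πL ^ n := one_mul _
        _ < 1 := h4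
    rw [hval1] at h5
    exact lt_irrefl _ h5
  have hzp : V.valuation (algebraMap K L ξ) = V.valuation z ^ p := by
    rw [← hz]
    exact val_aeval_eq p A L P hPm hPd z V h.1 hzV
  rw [hzp] at hval1
  -- pass to the uniformizer
  have hω1 : V.valuation (ω : L) < 1 := by
    rw [← V.valuation_lt_one_iff, mem_maximalIdeal, mem_nonunits_iff]
    exact hω.not_isUnit
  have hω0 : V.valuation (ω : L) ≠ 0 := by
    rw [Valuation.ne_zero_iff]
    exact fun h0 => hω.ne_zero (Subtype.ext h0)
  have hz0 : z ≠ 0 := by
    intro h0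
    rw [h0, map_zero] at hzV
    exact not_lt.mpr zero_le hzV
  have hzinv : z⁻¹ ∈ V := by
    rw [← V.valuation_le_one_iff, map_inv₀]
    exact inv_le_one_of_one_le₀ hzV.le
  have hzinv0 : (⟨z⁻¹, hzinv⟩ : V) ≠ 0 := fun h0 => inv_ne_zero hz0 (congrArg Subtype.val h0)
  obtain ⟨k, u', hu'⟩ := IsDiscreteValuationRing.eq_unit_mul_pow_irreducible hzinv0 hω
  have hvzinv : (V.valuation z)⁻¹ = V.valuation (ω : L) ^ k := by
    have h3 : z⁻¹ = ((u' : V) : L) * (ω : L) ^ k := by
      have := congrArg Subtype.val hu'
      simpa using this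
    rw [← map_inv₀, h3, map_mul, map_pow, V.valuation_unit, one_mul]
  have hvπ : V.valuation πL = V.valuation (ω : L) ^ e := by
    have h3 : πL = ((u : V) : L) * (ω : L) ^ e := by
      have h4 := congrArg Subtype.val hu
      rw [MulMemClass.coe_mul, SubmonoidClass.coe_pow] at h4
      exact h4
    rw [h3, map_mul, map_pow, V.valuation_unit, one_mul]
  have hen : e * n = k * p := by
    have h3 : V.valuation (ω : L) ^ (e * n) = V.valuation (ω : L) ^ (k * p) := by
      rw [pow_mul, pow_mul, ← hvπ, ← hvzinv, inv_pow]
      exact eq_inv_of_mul_eq_one_right hval1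
    exact (pow_right_inj₀ (zero_lt_iff.mpr hω0) hω1.ne).mp h3
  have hpe : p ∣ e := by
    have : p ∣ e * n := ⟨k, by rw [hen, mul_comm]⟩
    rcases (Nat.Prime.dvd_mul hp.out).mp this with h3 | h3
    · exact h3
    · exact absurd h3 hpn
  have hpe' : p ≤ e := Nat.le_of_dvd he hpe
  have hf : Module.finrank (ResidueField A) (ResidueField V) = 1 := by
    by_contra hne
    have hf2 : 2 ≤ Module.finrank (ResidueField A) (ResidueField V) := by omega
    have : p * 2 ≤ e * Module.finrank (ResidueField A) (ResidueField V) :=
      Nat.mul_le_mul hpe' hf2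
    omega
  rw [hf, mul_one] at hef
  have hep : e = p := le_antisymm (hef.trans hN) hpe'
  subst hep
  exact ⟨ω, u, hω, hu, hf, le_antisymm hN hef⟩

theorem genB (n : ℕ) (hn : 0 < n) (hpn : ¬ p ∣ n) (a : Aˣ)
    (hξ : ξ * algebraMap A K π ^ n = algebraMap A K a) : Case3 p A K L := by
  have hp0 : 0 < p := hp.out.pos
  haveI : FiniteDimensional K L := finiteDimensional p A K L P hPm hPd hp0 ξ z hz hgen
  obtain ⟨V₀, hV₀⟩ := exists_dominates A K L
  have hdeg : Module.finrank K L = p := by
    haveI : IsDiscreteValuationRing V₀ := Groth.Agent.Lib.T2H9.FinDVR.isDiscreteValuationRing_of_dominates A K L V₀ hV₀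
    letI : Algebra A V₀ := (RingHom.codRestrict (algebraMap A L) V₀ hV₀.1).toAlgebra
    haveI : IsLocalHom (algebraMap A V₀) := isLocalHom_of_dominates _ V₀ hV₀
    obtain ⟨ω, u, hω, hu, hf, hNp⟩ :=
      genB_local p A K L π hπ P hPm hPd ξ z hz hgen n hn hpn a hξ V₀ hV₀
    exact hNp
  refine ⟨⟨⟨V₀, hV₀⟩, ?_, ?_⟩, hdeg⟩
  · intro V V' hV hV'
    haveI : IsDiscreteValuationRing V' := Groth.Agent.Lib.T2H9.FinDVR.isDiscreteValuationRing_of_dominates A K L V' hV'
    letI : Algebra A V' := (RingHom.codRestrict (algebraMap A L) V' hV'.1).toAlgebra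
    haveI : IsLocalHom (algebraMap A V') := isLocalHom_of_dominates _ V' hV'
    obtain ⟨ω, u, hω, hu, hf, hNp⟩ :=
      genB_local p A K L π hπ P hPm hPd ξ z hz hgen n hn hpn a hξ V' hV'
    exact unique_of_ef A K L π hπ V' hV' ω u p hω hu (by rw [hf, mul_one, hNp]) V hV
  · intro V h
    haveI : IsDiscreteValuationRing V := Groth.Agent.Lib.T2H9.FinDVR.isDiscreteValuationRing_of_dominates A K L V h
    letI : Algebra A V := (RingHom.codRestrict (algebraMap A L) V h.1).toAlgebra
    haveI : IsLocalHom (algebraMap A V) := isLocalHom_of_dominates _ V h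
    obtain ⟨ω, u, hω, hu, hf, hNp⟩ :=
      genB_local p A K L π hπ P hPm hPd ξ z hz hgen n hn hpn a hξ V h
    exact residue_surjective_of_f_eq_one A L V h hf

end cases

section insep

variable (p : ℕ) [hp : Fact p.Prime] (A K L : Type u) [CommRing A] [IsDomain A]
  [IsDiscreteValuationRing A] [Field K] [Algebra A K] [IsFractionRing A K] [Field L] [Algebra K L]
  [Algebra A L] [IsScalarTower A K L] [CharP (ResidueField A) p] [FiniteDimensional K L]
  (π : A) (hπ : Irreducible π) (hN : Module.finrank K L ≤ p)
  (a : A) (ha : ∀ r : A, residue A a ≠ residue A r ^ p)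

include hπ hN ha

/-- the local analysis when some element of the valuation ring has residue a `p`-th root of a
non-`p`-th power -/
theorem insep_local (V : ValuationSubring L) (h : EtRam.Dominates A (algebraMap A L) V) :
    letI : Algebra A V := (RingHom.codRestrict (algebraMap A L) V h.1).toAlgebra
    ∀ [IsLocalHom (algebraMap A V)] [IsDiscreteValuationRing V],
      (∃ wV : V, (residue V wV) ^ p =
        algebraMap (ResidueField A) (ResidueField V) (residue A a)) →
      ∃ (ω : V) (u : Vˣ), Irreducible ω ∧ algebraMap A V π = ↑u * ω ^ 1 ∧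
        Module.finrank (ResidueField A) (ResidueField V) = p ∧ Module.finrank K L = p ∧
        IsPurelyInseparable (ResidueField A) (ResidueField V) := by
  letI : Algebra A V := (RingHom.codRestrict (algebraMap A L) V h.1).toAlgebra
  intro _ _ ⟨wV, hresw⟩
  have h2 : 2 ≤ p := hp.out.two_le
  obtain ⟨ω, u, e, hω, hu, he, hfin, hfpos, hef⟩ := ef_data A K L π hπ V h
  haveI := hfin
  have hirr : Irreducible (X ^ p - C (residue A a) : (ResidueField A)[X]) := by
    apply X_pow_sub_C_irreducible_of_prime hp.out
    intro b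
    obtain ⟨r, rfl⟩ := residue_surjective b
    exact fun hb => ha r hb.symm
  have hmin : (X ^ p - C (residue A a) : (ResidueField A)[X]) =
      minpoly (ResidueField A) (residue V wV) := by
    apply minpoly.eq_of_irreducible_of_monic hirr
    · rw [map_sub, map_pow, aeval_X, aeval_C, hresw, sub_self]
    · exact monic_X_pow_sub_C _ (by omega)
  have hdeg : (minpoly (ResidueField A) (residue V wV)).natDegree = p := by
    rw [← hmin, natDegree_X_pow_sub_C]
  have hpf : p ≤ Module.finrank (ResidueField A) (ResidueField V) := by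
    rw [← hdeg]
    exact minpoly.natDegree_le _
  -- numerics
  have hf : Module.finrank (ResidueField A) (ResidueField V) = p := by
    apply le_antisymm _ hpf
    calc Module.finrank (ResidueField A) (ResidueField V)
        = 1 * Module.finrank (ResidueField A) (ResidueField V) := (one_mul _).symm
      _ ≤ e * Module.finrank (ResidueField A) (ResidueField V) := Nat.mul_le_mul_right _ he
      _ ≤ p := hef.trans hN
  have he1 : e = 1 := by
    rw [hf] at hef
    have h3 : e * p ≤ p := hef.trans hN
    have hp0 : 0 < p := by omega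
    have : e ≤ 1 := by
      by_contra hne
      push Not at hne
      have : 2 * p ≤ e * p := Nat.mul_le_mul_right p hne
      omega
    omega
  have hNp : Module.finrank K L = p := by
    apply le_antisymm hN
    rw [hf, he1, one_mul] at hef
    exact hef
  subst he1
  refine ⟨ω, u, hω, hu, hf, hNp, ?_⟩
  -- pure inseparability
  haveI : CharP (ResidueField V) p :=
    charP_of_injective_algebraMap (algebraMap (ResidueField A) (ResidueField V)).injective p
  haveI : ExpChar (ResidueField A) p := ExpChar.prime hp.out
  rw [isPurelyInseparable_iff_pow_mem (ResidueField A) p]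
  have htop : IntermediateField.adjoin (ResidueField A) {residue V wV} = ⊤ := by
    rw [Field.primitive_element_iff_minpoly_natDegree_eq, hdeg, hf]
  have halg : IsAlgebraic (ResidueField A) (residue V wV) :=
    (Algebra.IsIntegral.isIntegral (R := ResidueField A) _).isAlgebraic
  have htop' : Algebra.adjoin (ResidueField A) {residue V wV} = ⊤ := by
    rw [← IntermediateField.adjoin_simple_toSubalgebra_of_isAlgebraic halg, htop]
    rfl
  intro x
  refine ⟨1, ?_⟩
  rw [pow_one]
  have hx : x ∈ Algebra.adjoin (ResidueField A) {residue V wV} := htop' ▸ Algebra.mem_top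
  induction hx using Algebra.adjoin_induction with
  | mem y hy =>
    rw [Set.mem_singleton_iff] at hy
    rw [hy, hresw]
    exact ⟨_, rfl⟩
  | algebraMap c => exact ⟨c ^ p, by rw [map_pow]⟩
  | add y y' _ _ hy hy' =>
    rw [add_pow_char]
    exact add_mem hy hy'
  | mul y y' _ _ hy hy' =>
    rw [mul_pow]
    exact mul_mem hy hy'

/-- case (4) from witnesses in every dominating valuation ring -/
theorem insep
    (hw : ∀ (V : ValuationSubring L) (h : EtRam.Dominates A (algebraMap A L) V),
      letI : Algebra A V := (RingHom.codRestrict (algebraMap A L) V h.1).toAlgebra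
      ∀ [IsLocalHom (algebraMap A V)], ∃ wV : V, (residue V wV) ^ p =
        algebraMap (ResidueField A) (ResidueField V) (residue A a)) : Case4 p A L := by
  refine ⟨exists_dominates A K L, ?_, ?_⟩
  · intro V V' hV hV'
    haveI : IsDiscreteValuationRing V' :=
      Groth.Agent.Lib.T2H9.FinDVR.isDiscreteValuationRing_of_dominates A K L V' hV'
    letI : Algebra A V' := (RingHom.codRestrict (algebraMap A L) V' hV'.1).toAlgebra
    haveI : IsLocalHom (algebraMap A V') := isLocalHom_of_dominates _ V' hV'
    obtain ⟨ω, u, hω, hu, hf, hNp, _⟩ := insep_local p A K L π hπ hN a ha V' hV' (hw V' hV')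
    exact unique_of_ef A K L π hπ V' hV' ω u 1 hω hu (by rw [one_mul, hf, hNp]) V hV
  · intro V h
    letI : Algebra A V := (RingHom.codRestrict (algebraMap A L) V h.1).toAlgebra
    intro _
    haveI : IsDiscreteValuationRing V :=
      Groth.Agent.Lib.T2H9.FinDVR.isDiscreteValuationRing_of_dominates A K L V h
    obtain ⟨ω, u, hω, hu, hf, hNp, hpi⟩ := insep_local p A K L π hπ hN a ha V h (hw V h)
    exact ⟨weaklyUnramified_of_e_eq_one A L π hπ V h ω u hω hu, hpi, hf⟩

end insep

section genC

variable (p : ℕ) [hp : Fact p.Prime] (A K L : Type u) [CommRing A] [IsDomain A]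
  [IsDiscreteValuationRing A] [Field K] [Algebra A K] [IsFractionRing A K] [Field L] [Algebra K L]
  [Algebra A L] [IsScalarTower A K L] [CharP (ResidueField A) p]
  (π : A) (hπ : Irreducible π) (P : A[X]) (hPm : P.Monic) (hPd : P.natDegree = p)
  (ξ : K) (z : L) (hz : aeval z P = algebraMap K L ξ)
  (hgen : IntermediateField.adjoin K {z} = ⊤)

include hπ hPm hPd hz hgen

/-- the witness in case (C) -/
theorem genC_witness (m : ℕ) (hm : 0 < m) (a : A)
    (hξ : ξ * algebraMap A K π ^ (p * m) = algebraMap A K a)
    (V : ValuationSubring L) (h : EtRam.Dominates A (algebraMap A L) V) :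
    letI : Algebra A V := (RingHom.codRestrict (algebraMap A L) V h.1).toAlgebra
    ∀ [IsLocalHom (algebraMap A V)], ∃ wV : V, (residue V wV) ^ p =
      algebraMap (ResidueField A) (ResidueField V) (residue A a) := by
  letI : Algebra A V := (RingHom.codRestrict (algebraMap A L) V h.1).toAlgebra
  intro _
  have h2 : 2 ≤ p := hp.out.two_le
  have hξL : algebraMap K L ξ * algebraMap A L π ^ (p * m) = algebraMap A L a := by
    have := congrArg (algebraMap K L) hξ
    rwa [map_mul, map_pow, ← IsScalarTower.algebraMap_apply, ← IsScalarTower.algebraMap_apply]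
      at this
  set πL := algebraMap A L π with hπL
  set t := πL ^ m * z with ht
  -- the equation of `t`
  have htp : t ^ p + ∑ i ∈ Finset.range p,
      algebraMap A L (P.coeff i) * πL ^ ((p - i) * m) * t ^ i = algebraMap A L a := by
    rw [← hξL, ← hz, aeval_eq_sum p A L P hPm hPd z, add_mul, Finset.sum_mul, ht, mul_pow,
      ← pow_mul, mul_comm m p, mul_comm (z ^ p)]
    congr 1
    apply Finset.sum_congr rfl
    intro i hi
    rw [Finset.mem_range] at hi
    have h3 : p * m = (p - i) * m + m * i := by
      have : p = (p - i) + i := by omega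
      nth_rewrite 1 [this]
      ring
    rw [mul_pow, ← pow_mul, h3, pow_add]
    ring
  have hπV : V.valuation πL < 1 := h.2 π (by
    rw [hπ.maximalIdeal_eq]; exact Ideal.mem_span_singleton_self π)
  have htV : t ∈ V := by
    rw [← V.valuation_le_one_iff]
    by_contra hgt
    push Not at hgt
    have h3 : V.valuation (∑ i ∈ Finset.range p,
        algebraMap A L (P.coeff i) * πL ^ ((p - i) * m) * t ^ i) < V.valuation t ^ p := by
      apply Valuation.map_sum_lt
      · exact pow_ne_zero _ (ne_of_gt (zero_lt_one.trans hgt))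
      · intro i hi
        rw [Finset.mem_range] at hi
        rw [map_mul, map_mul, map_pow, map_pow]
        calc V.valuation (algebraMap A L (P.coeff i)) * V.valuation πL ^ ((p - i) * m) *
              V.valuation t ^ i ≤ 1 * 1 * V.valuation t ^ i :=
              mul_le_mul' (mul_le_mul' ((V.valuation_le_one_iff _).mpr (h.1 _))
                (pow_le_one₀ zero_le hπV.le)) le_rfl
          _ = V.valuation t ^ i := by rw [one_mul, one_mul]
          _ < V.valuation t ^ p := pow_lt_pow_right₀ hgt hi
    have h4 : V.valuation (algebraMap A L a) < V.valuation t ^ p :=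
      ((V.valuation_le_one_iff _).mpr (h.1 a)).trans_lt (one_lt_pow₀ hgt (by omega))
    have h5 : V.valuation (t ^ p + ∑ i ∈ Finset.range p,
        algebraMap A L (P.coeff i) * πL ^ ((p - i) * m) * t ^ i) = V.valuation t ^ p := by
      rw [← map_pow]
      apply Valuation.map_add_eq_of_lt_left
      rw [map_pow]
      exact h3
    rw [htp] at h5
    exact absurd h5 h4.ne
  refine ⟨⟨t, htV⟩, ?_⟩
  have hresπ : residue V (algebraMap A V π) = 0 := by
    rw [residue_eq_zero_iff]
    exact (V.valuation_lt_one_iff _).mpr hπV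
  have hV : (⟨t, htV⟩ : V) ^ p + ∑ i ∈ Finset.range p,
      algebraMap A V (P.coeff i) * algebraMap A V π ^ ((p - i) * m) * (⟨t, htV⟩ : V) ^ i =
      algebraMap A V a := by
    apply Subtype.ext
    have h8 : ((algebraMap A V a : V) : L) = algebraMap A L a := rfl
    rw [h8, ← htp]
    push_cast
    rfl
  have h6 := congrArg (residue V) hV
  rw [map_add, map_pow, map_sum] at h6
  have h9 : algebraMap (ResidueField A) (ResidueField V) (residue A a) =
      residue V (algebraMap A V a) := rfl
  rw [h9, ← h6, left_eq_add]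
  apply Finset.sum_eq_zero
  intro i hi
  rw [Finset.mem_range] at hi
  have h7 : (p - i) * m ≠ 0 := by
    have : 0 < p - i := by omega
    exact (Nat.mul_pos this hm).ne'
  rw [map_mul, map_mul, map_pow, hresπ, zero_pow h7, mul_zero, zero_mul]

theorem genC (m : ℕ) (hm : 0 < m) (a : A) (ha : ∀ r : A, residue A a ≠ residue A r ^ p)
    (hξ : ξ * algebraMap A K π ^ (p * m) = algebraMap A K a) : Case4 p A L := by
  have hp0 : 0 < p := hp.out.pos
  haveI : FiniteDimensional K L := finiteDimensional p A K L P hPm hPd hp0 ξ z hz hgen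
  have hN := finrank_le p A K L P hPm hPd hp0 ξ z hz hgen
  exact insep p A K L π hπ hN a ha
    (fun V h => genC_witness p A K L π hπ P hPm hPd ξ z hz hgen m hm a hξ V h)

end genC

end Groth.Agent.Lib.T2H9.MonicCases
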