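import Mathlib
import Groth.Prelude.Def_EtRam
import Groth.Agent.Lib.T2H9MonicCases
import Groth.Agent.Lib.T2H9UnramLocal

/-! Kummer-type extensions of prime degree `p` over a discrete valuation ring of mixed
characteristic `(0, p)` containing a primitive `p`-th root of unity. -/

set_option autoImplicit false
set_option linter.style.haveILetI false
set_option linter.unusedSectionVars false
universe u

namespace Groth.Agent.Lib.T2H9.KummerCases

open IsLocalRing Polynomial Groth.Agent.Lib.T2H9.RamTower Groth.Agent.Lib.T2H9.TotRam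
  Groth.Agent.Lib.T2H9.ValDom Groth.Agent.Lib.T2H9.TotRamDeg Groth.Agent.Lib.T2H9.EFUnique
  Groth.Agent.Lib.T2H9.DvrData Groth.Agent.Lib.T2H9.ASCases Groth.Agent.Lib.T2H9.MonicCases

section root

variable (p : ℕ) [hp : Fact p.Prime] (A : Type u) [CommRing A] [IsDomain A] [IsLocalRing A]
  [CharZero A] [CharP (ResidueField A) p] (ζ : A) (hζ : aeval ζ (cyclotomic p ℤ) = 0)

include hζ

theorem geom_zero : ∑ i ∈ Finset.range p, ζ ^ i = 0 := by
  rw [cyclotomic_prime ℤ p] at hζ
  simpa using hζ

theorem zeta_pow : ζ ^ p = 1 := by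
  have h := geom_sum_mul ζ p
  rw [geom_zero p A ζ hζ, zero_mul] at h
  exact (sub_eq_zero.mp h.symm)

theorem zeta_ne_one : ζ ≠ 1 := by
  intro h1
  have h := geom_zero p A ζ hζ
  rw [h1] at h
  simp only [one_pow, Finset.sum_const, Finset.card_range, nsmul_eq_mul, mul_one] at h
  exact hp.out.ne_zero (Nat.cast_eq_zero.mp h)

theorem w_ne_zero : (1 - ζ) ≠ 0 := by
  intro h
  exact zeta_ne_one p A ζ hζ (sub_eq_zero.mp h).symm

theorem isPrimitiveRoot : IsPrimitiveRoot ζ p := by
  rw [← isRoot_cyclotomic_iff_charZero hp.out.pos, IsRoot.def, ← map_cyclotomic_int,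
    eval_map]
  exact hζ

theorem residue_w : residue A (1 - ζ) = 0 := by
  have h1 : (residue A ζ) ^ p = 1 := by rw [← map_pow, zeta_pow p A ζ hζ, map_one]
  have h2 : (residue A ζ - 1) ^ p = 0 := by rw [sub_pow_char, h1, one_pow, sub_self]
  have h3 := pow_eq_zero_iff hp.out.ne_zero |>.mp h2
  rw [map_sub, map_one, ← neg_sub, h3, neg_zero]

theorem w_mem : (1 - ζ) ∈ maximalIdeal A := by
  rw [← residue_eq_zero_iff]
  exact residue_w p A ζ hζ

/-- `p` is a unit multiple of `(1 - ζ) ^ (p - 1)` -/
theorem natCast_eq : ∃ ε : Aˣ, (p : A) = ε * (1 - ζ) ^ (p - 1) := by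
  set w := 1 - ζ with hw
  have hw0 : w ≠ 0 := w_ne_zero p A ζ hζ
  have h2 : 2 ≤ p := hp.out.two_le
  have h1 : (-w + 1) ^ p = 1 := by
    have : -w + 1 = ζ := by rw [hw]; ring
    rw [this, zeta_pow p A ζ hζ]
  rw [add_pow, Finset.sum_range_succ'] at h1
  simp only [pow_zero, Nat.sub_zero, one_pow, mul_one, Nat.choose_zero_right, Nat.cast_one,
    add_eq_right] at h1
  have h3 : (-w) * ∑ m ∈ Finset.range p, (-w) ^ m * (p.choose (m + 1) : A) = 0 := by
    rw [← h1, Finset.mul_sum]
    apply Finset.sum_congr rfl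
    intro m _
    rw [pow_succ]
    ring
  have h4 : ∑ m ∈ Finset.range p, (-w) ^ m * (p.choose (m + 1) : A) = 0 := by
    rcases mul_eq_zero.mp h3 with h | h
    · exact absurd (neg_eq_zero.mp h) hw0
    · exact h
  obtain ⟨q, hq⟩ : ∃ q, p = q + 1 := ⟨p - 1, by omega⟩
  have hq' : p - 1 = q := by omega
  rw [hq'] 
  have h5 : (-w) ^ q + (p : A) * ∑ m ∈ Finset.range q, (-w) ^ m * ((p.choose (m + 1) / p : ℕ) : A)
      = 0 := by
    rw [← h4]
    conv_rhs => rw [hq, Finset.sum_range_succ, ← hq]
    rw [add_comm]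
    congr 1
    · rw [Finset.mul_sum]
      apply Finset.sum_congr rfl
      intro m hm
      rw [Finset.mem_range] at hm
      have hdvd : p ∣ p.choose (m + 1) :=
        hp.out.dvd_choose_self (Nat.succ_ne_zero m) (by omega)
      have : (p.choose (m + 1) : A) = (p : A) * ((p.choose (m + 1) / p : ℕ) : A) := by
        rw [← Nat.cast_mul, Nat.mul_div_cancel' hdvd]
      rw [this]
      ring
    · rw [Nat.choose_self p, Nat.cast_one, mul_one]
  set E := ∑ m ∈ Finset.range q, (-w) ^ m * ((p.choose (m + 1) / p : ℕ) : A) with hE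
  have hEres : residue A E = 1 := by
    have hq0 : q = (q - 1) + 1 := by omega
    rw [hE, hq0, Finset.sum_range_succ', map_add, map_sum]
    have hz : ∀ m ∈ Finset.range (q - 1),
        residue A ((-w) ^ (m + 1) * ((p.choose (m + 1 + 1) / p : ℕ) : A)) = 0 := by
      intro m _
      rw [map_mul, map_pow, map_neg, hw, residue_w p A ζ hζ, neg_zero, zero_pow (Nat.succ_ne_zero m),
        zero_mul]
    rw [Finset.sum_eq_zero hz, zero_add, pow_zero, one_mul, zero_add, Nat.choose_one_right,
      Nat.div_self hp.out.pos, Nat.cast_one, map_one]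
  have hEu : IsUnit E := by
    rw [← not_not (a := IsUnit E), ← mem_nonunits_iff, ← mem_maximalIdeal, ← residue_eq_zero_iff, hEres]
    exact one_ne_zero
  obtain ⟨Eu, hEu'⟩ := hEu
  refine ⟨-((-1) ^ q * Eu⁻¹), ?_⟩
  have h6 : (p : A) * E = -((-w) ^ q) := by
    rw [eq_neg_iff_add_eq_zero, add_comm]
    exact h5
  have h7 : (p : A) = -((-w) ^ q) * ((Eu⁻¹ : Aˣ) : A) := by
    rw [← h6, ← hEu', mul_assoc, Units.mul_inv, mul_one]
  rw [h7, neg_pow w q]
  push_cast
  ring

end root

section poly

variable (p : ℕ) [hp : Fact p.Prime] (A : Type u) [CommRing A] [IsDomain A]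
  (w : A) (hw0 : w ≠ 0) (P : A[X]) (hP : C (w ^ p) * P = (1 + C w * X) ^ p - 1)

include hw0 hP

theorem lin_eq : (1 + C w * X : A[X]) = C w * X + C 1 := by
  rw [map_one, add_comm]

theorem P_natDegree : P.natDegree = p := by
  have h1 := congrArg natDegree hP
  rw [natDegree_C_mul (pow_ne_zero p hw0), lin_eq p A w hw0 P hP, ← map_one (C : A →+* A[X]),
    natDegree_sub_C, natDegree_pow, natDegree_linear hw0, mul_one] at h1
  exact h1

theorem P_monic : P.Monic := by
  have h1 := congrArg leadingCoeff hP
  have hdeg : (C (1 : A)).degree < ((C w * X + C 1 : A[X]) ^ p).degree := by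
    rw [degree_pow, degree_linear hw0]
    refine degree_C_le.trans_lt ?_
    rw [nsmul_eq_mul, mul_one]
    exact_mod_cast hp.out.pos
  rw [leadingCoeff_mul, leadingCoeff_C, lin_eq p A w hw0 P hP, ← map_one (C : A →+* A[X]),
    leadingCoeff_sub_of_degree_lt hdeg, leadingCoeff_pow, leadingCoeff_linear hw0] at h1
  exact mul_left_cancel₀ (pow_ne_zero p hw0) (h1.trans (mul_one _).symm)

theorem P_derivative (ε : A) (hε : (p : A) = ε * w ^ (p - 1)) :
    derivative P = C ε * (1 + C w * X) ^ (p - 1) := by
  have hC : (C (w ^ p) : A[X]) ≠ 0 := by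
    rw [Ne, C_eq_zero]
    exact pow_ne_zero p hw0
  apply mul_left_cancel₀ hC
  rw [← derivative_C_mul, hP]
  have h1 : derivative ((1 + C w * X : A[X]) ^ p - 1) =
      C (p : A) * (1 + C w * X) ^ (p - 1) * C w := by
    simp [derivative_pow]
  have h2 : w ^ p = w ^ (p - 1) * w := by
    rw [← pow_succ]
    congr 1
    have := hp.out.pos
    omega
  rw [h1, hε, h2]
  simp only [map_mul, map_pow]
  ring

theorem P_sep [IsLocalRing A] (ε : Aˣ) (hε : (p : A) = ε * w ^ (p - 1)) (hwm : residue A w = 0)
    (a : A) : ((P - C a).map (residue A)).Separable := by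
  rw [separable_def, derivative_map, derivative_sub, derivative_C, sub_zero,
    P_derivative p A w hw0 P hP ε hε]
  have h1 : (C (ε : A) * (1 + C w * X) ^ (p - 1) : A[X]).map (residue A) =
      C (residue A ε) := by
    simp [hwm]
  rw [h1]
  have hu : IsUnit (C (residue A (ε : A)) : (ResidueField A)[X]) :=
    (ε.isUnit.map (residue A)).map C
  obtain ⟨b, hb⟩ := isUnit_iff_exists_inv'.1 hu
  exact ⟨0, b, by rw [zero_mul, zero_add, hb]⟩

omit hw0 hp in
/-- the basic relation evaluated at a point -/
theorem aeval_rel {S : Type u} [CommRing S] [Algebra A S] (x : S) :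
    algebraMap A S w ^ p * aeval x P = (1 + algebraMap A S w * x) ^ p - 1 := by
  have := congrArg (aeval x) hP
  simpa using this

end poly

section field

variable (p : ℕ) [hp : Fact p.Prime] (K L : Type u) [Field K] [Field L] [Algebra K L]

theorem adjoin_top_of_mem (z y : L) (hgen : IntermediateField.adjoin K {z} = ⊤)
    (h : z ∈ IntermediateField.adjoin K {y}) : IntermediateField.adjoin K {y} = ⊤ := by
  rw [eq_top_iff, ← hgen, IntermediateField.adjoin_simple_le_iff]
  exact h

theorem finrank_eq_one_of_mem_range (y : L) (hgen : IntermediateField.adjoin K {y} = ⊤)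
    (h : y ∈ Set.range (algebraMap K L)) : Module.finrank K L = 1 := by
  have h1 : IntermediateField.adjoin K {y} = ⊥ := by
    rw [IntermediateField.adjoin_simple_eq_bot_iff, IntermediateField.mem_bot]
    exact h
  rw [← IntermediateField.finrank_top', ← hgen, h1, IntermediateField.finrank_bot]

variable [CharZero K] (ζ : K) (hζ : IsPrimitiveRoot ζ p) (c : K) (y : L)
  (hy : y ^ p = algebraMap K L c) (hgen : IntermediateField.adjoin K {y} = ⊤)

include hy in
theorem kummer_aeval : aeval y (X ^ p : K[X]) = algebraMap K L c := by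
  rw [map_pow, aeval_X, hy]

include hy hgen in
theorem kummer_finiteDimensional : FiniteDimensional K L :=
  MonicCases.finiteDimensional p K K L (X ^ p) (monic_X_pow p) (natDegree_X_pow p) hp.out.pos c y
    (kummer_aeval p K L c y hy) hgen

include hy hgen in
theorem kummer_finrank_le : Module.finrank K L ≤ p :=
  MonicCases.finrank_le p K K L (X ^ p) (monic_X_pow p) (natDegree_X_pow p) hp.out.pos c y
    (kummer_aeval p K L c y hy) hgen

include hζ hy hgen in
theorem kummer_isGalois : IsGalois K L := by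
  haveI : FiniteDimensional K L := kummer_finiteDimensional p K L c y hy hgen
  have hint : IsIntegral K y := MonicCases.isIntegral_z p K K L (X ^ p) (monic_X_pow p)
    (natDegree_X_pow p) hp.out.pos c y (kummer_aeval p K L c y hy)
  haveI : (X ^ p - C c : K[X]).IsSplittingField K L := by
    constructor
    · rw [Polynomial.map_sub, Polynomial.map_pow, Polynomial.map_C, Polynomial.map_X]
      exact X_pow_sub_C_splits_of_isPrimitiveRoot
        (hζ.map_of_injective (algebraMap K L).injective) hy
    · rw [eq_top_iff, ← IntermediateField.top_toSubalgebra, ← hgen,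
        IntermediateField.adjoin_simple_toSubalgebra_of_isAlgebraic hint.isAlgebraic]
      apply Algebra.adjoin_mono
      rw [Set.singleton_subset_iff, mem_rootSet_of_ne (X_pow_sub_C_ne_zero hp.out.pos c)]
      rw [map_sub, map_pow, aeval_X, aeval_C, hy, sub_self]
  haveI : Normal K L := Normal.of_isSplittingField (X ^ p - C c)
  exact ⟨⟩

include hζ hy hgen in
theorem kummer_finrank : Module.finrank K L = 1 ∨ Module.finrank K L = p := by
  have hp0 : p ≠ 0 := hp.out.ne_zero
  haveI : NeZero p := ⟨hp0⟩
  by_cases hy0 : y = 0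
  · left
    exact finrank_eq_one_of_mem_range K L y hgen ⟨0, by rw [map_zero, hy0]⟩
  have hc0 : c ≠ 0 := by
    intro h0
    rw [h0, map_zero] at hy
    exact hy0 (pow_eq_zero_iff hp0 |>.mp hy)
  by_cases h : ∃ b : K, b ^ p = c
  · left
    obtain ⟨b, hb⟩ := h
    have hb0 : b ≠ 0 := by
      intro h0
      rw [h0, zero_pow hp0] at hb
      exact hc0 hb.symm
    have hbL : algebraMap K L b ≠ 0 := by
      rw [Ne, map_eq_zero]
      exact hb0
    have h1 : (y / algebraMap K L b) ^ p = 1 := by
      rw [div_pow, hy, ← map_pow, hb, div_self]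
      rw [Ne, map_eq_zero]
      exact hc0
    obtain ⟨i, _, hi⟩ := (hζ.map_of_injective (algebraMap K L).injective).eq_pow_of_pow_eq_one h1
    apply finrank_eq_one_of_mem_range K L y hgen
    refine ⟨ζ ^ i * b, ?_⟩
    rw [map_mul, map_pow, hi, div_mul_cancel₀ _ hbL]
  · right
    push Not at h
    have hirr : Irreducible (X ^ p - C c : K[X]) := X_pow_sub_C_irreducible_of_prime hp.out h
    have hint : IsIntegral K y := MonicCases.isIntegral_z p K K L (X ^ p) (monic_X_pow p)
      (natDegree_X_pow p) hp.out.pos c y (kummer_aeval p K L c y hy)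
    have hmin : (X ^ p - C c : K[X]) = minpoly K y := by
      apply minpoly.eq_of_irreducible_of_monic hirr
      · rw [map_sub, map_pow, aeval_X, aeval_C, hy, sub_self]
      · exact monic_X_pow_sub_C _ hp0
    rw [← IntermediateField.finrank_top', ← hgen, IntermediateField.adjoin.finrank hint, ← hmin,
      natDegree_X_pow_sub_C]

end field

section shift

variable (p : ℕ) [hp : Fact p.Prime] (A K : Type u) [CommRing A] [IsDomain A]
  [IsDiscreteValuationRing A] [Field K] [Algebra A K] [IsFractionRing A K]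
  (w : A) (hw0 : w ≠ 0) (P : A[X]) (hP : C (w ^ p) * P = (1 + C w * X) ^ p - 1)
  (π : A) (hπ : Irreducible π)

include hw0 hP hπ in
/-- the step lowering the pole order -/
theorem shift_step (s : ℕ) (uw : Aˣ) (hws : w = uw * π ^ s) (N m : ℕ) (hm : 0 < m)
    (hNm : N + 1 = p * m) (hms : m < s) (ξ : K) (a r b0 : A)
    (ha : ξ * algebraMap A K π ^ (N + 1) = algebraMap A K a) (hb0 : a - r ^ p = π * b0) :
    ∃ (β : Aˣ) (a' : A),
      ((1 + algebraMap A K w ^ p * ξ) / algebraMap A K β ^ p - 1) / algebraMap A K w ^ p *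
        algebraMap A K π ^ N = algebraMap A K a' := by
  have h2 : 2 ≤ p := hp.out.two_le
  have hPm := P_monic p A w hw0 P hP
  have hPd := P_natDegree p A w hw0 P hP
  have hinj := IsFractionRing.injective A K
  set ϖ := algebraMap A K π with hϖ
  have hϖ0 : ϖ ≠ 0 := fun h0 => hπ.ne_zero (hinj (h0.trans (map_zero _).symm))
  set wK := algebraMap A K w with hwK
  have hwK0 : wK ≠ 0 := fun h0 => hw0 (hinj (h0.trans (map_zero _).symm))
  -- the unit `β`
  set β0 : A := 1 + uw * π ^ (s - m) * r with hβ0
  have hresπ : residue A π = 0 := by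
    rw [residue_eq_zero_iff, mem_maximalIdeal, mem_nonunits_iff]
    exact hπ.not_isUnit
  have hβu : IsUnit β0 := by
    rw [← not_not (a := IsUnit β0), ← mem_nonunits_iff, ← mem_maximalIdeal, ← residue_eq_zero_iff,
      hβ0, map_add, map_mul, map_mul, map_pow, hresπ, zero_pow (by omega), mul_zero, zero_mul,
      add_zero, map_one]
    exact one_ne_zero
  obtain ⟨β, hβ⟩ := hβu
  set η : K := algebraMap A K r / ϖ ^ m with hη
  have h1 : 1 + wK * η = algebraMap A K β := by
    have hsm : π ^ s = π ^ (s - m) * π ^ m := by rw [← pow_add, Nat.sub_add_cancel hms.le]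
    rw [hβ, hβ0, hwK, hws, hsm, hη]
    simp only [map_add, map_mul, map_pow, map_one]
    rw [← hϖ]
    field_simp
  have h3 : wK ^ p * aeval η P = algebraMap A K β ^ p - 1 := by
    rw [← h1]
    exact aeval_rel p A w P hP η
  have h4 := aeval_eq_sum p A K P hPm hPd η
  have hβK0 : algebraMap A K (β : A) ≠ 0 := fun h0 =>
    β.ne_zero (hinj (h0.trans (map_zero _).symm))
  -- the pole order drops
  have hηp : η ^ p * ϖ ^ (N + 1) = algebraMap A K (r ^ p) := by
    rw [hη, div_pow, ← pow_mul, mul_comm m p, ← hNm, map_pow,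
      div_mul_cancel₀ _ (pow_ne_zero _ hϖ0)]
  have h5 : (ξ - η ^ p) * ϖ ^ N = algebraMap A K b0 := by
    have h6 : (ξ - η ^ p) * ϖ ^ (N + 1) = ϖ * algebraMap A K b0 := by
      rw [sub_mul, ha, hηp, ← map_sub, hb0, map_mul]
    rw [pow_succ, ← mul_assoc, mul_comm _ ϖ] at h6
    exact mul_left_cancel₀ hϖ0 h6
  have hpm : (p - 1) * m + m = N + 1 := by
    rw [hNm]
    have : (p - 1 + 1) * m = p * m := by rw [Nat.sub_add_cancel (by omega)]
    rw [← this]
    ring
  have h7 : ∀ i ∈ Finset.range p, algebraMap A K (P.coeff i) * η ^ i * ϖ ^ N =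
      algebraMap A K (P.coeff i * r ^ i * π ^ (N - i * m)) := by
    intro i hi
    rw [Finset.mem_range] at hi
    have him : i * m ≤ (p - 1) * m := Nat.mul_le_mul_right m (by omega)
    have him' : i * m ≤ N := by omega
    have h8 : ϖ ^ N = ϖ ^ (N - i * m) * ϖ ^ (i * m) := by
      rw [← pow_add, Nat.sub_add_cancel him']
    rw [h8, hη, div_pow, ← pow_mul, mul_comm m i]
    simp only [map_mul, map_pow]
    rw [← hϖ]
    field_simp
  have h9 : (ξ - aeval η P) * ϖ ^ N = algebraMap A K
      (b0 - ∑ i ∈ Finset.range p, P.coeff i * r ^ i * π ^ (N - i * m)) := by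
    rw [h4, map_sub, map_sum, ← h5, ← Finset.sum_congr rfl h7, ← Finset.sum_mul]
    ring
  refine ⟨β, (b0 - ∑ i ∈ Finset.range p, P.coeff i * r ^ i * π ^ (N - i * m)) *
    ((β⁻¹ : Aˣ) : A) ^ p, ?_⟩
  have h10 : (1 + wK ^ p * ξ) / algebraMap A K β ^ p - 1 =
      wK ^ p * (ξ - aeval η P) / algebraMap A K β ^ p := by
    rw [div_sub_one (pow_ne_zero p hβK0)]
    congr 1
    rw [mul_sub, h3]
    ring
  have h11 : algebraMap A K ((β⁻¹ : Aˣ) : A) = (algebraMap A K β)⁻¹ := by
    apply eq_inv_of_mul_eq_one_left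
    rw [← map_mul, Units.inv_mul, map_one]
  rw [h10, map_mul, ← h9, map_pow, h11, inv_pow, mul_div_assoc,
    mul_div_cancel_left₀ _ (pow_ne_zero p hwK0), div_eq_mul_inv]
  ring

end shift

section yz

variable (p : ℕ) (A K L : Type u) [CommRing A] [IsDomain A]
  [Field K] [Algebra A K] [IsFractionRing A K] [Field L] [Algebra K L]
  [Algebra A L] [IsScalarTower A K L]
  (w : A) (hw0 : w ≠ 0) (P : A[X]) (hP : C (w ^ p) * P = (1 + C w * X) ^ p - 1)

include K hw0 in
theorem wL_ne_zero : algebraMap A L w ≠ 0 := by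
  rw [IsScalarTower.algebraMap_apply A K L]
  intro h0
  have h1 := (algebraMap K L).injective (h0.trans (map_zero _).symm)
  exact hw0 (IsFractionRing.injective A K (h1.trans (map_zero _).symm))

include hP in
theorem y_pow (ξ : K) (z : L) (hz : aeval z P = algebraMap K L ξ) :
    (1 + algebraMap A L w * z) ^ p =
      algebraMap K L (1 + algebraMap A K w ^ p * ξ) := by
  have h1 := aeval_rel p A w P hP z
  rw [map_add, map_one, map_mul, map_pow, ← IsScalarTower.algebraMap_apply, ← hz, h1]
  ring

include hw0 hP in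
theorem z_of_y (c : K) (y : L) (hy : y ^ p = algebraMap K L c) :
    aeval ((y - 1) / algebraMap A L w) P =
      algebraMap K L ((c - 1) / algebraMap A K w ^ p) := by
  have hwL := wL_ne_zero A K L w hw0
  have h1 := aeval_rel p A w P hP ((y - 1) / algebraMap A L w)
  rw [mul_div_cancel₀ _ hwL, add_sub_cancel, hy] at h1
  rw [map_div₀, map_sub, map_one, map_pow, ← IsScalarTower.algebraMap_apply,
    eq_div_iff (pow_ne_zero p hwL), mul_comm]
  exact h1

include hw0 in
theorem adjoin_y (z : L) (hgen : IntermediateField.adjoin K {z} = ⊤) :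
    IntermediateField.adjoin K {1 + algebraMap A L w * z} = ⊤ := by
  have hwL := wL_ne_zero A K L w hw0
  apply adjoin_top_of_mem K L z _ hgen
  have h1 : z = ((1 + algebraMap A L w * z) - 1) / algebraMap A L w := by
    rw [add_sub_cancel_left, mul_div_cancel_left₀ _ hwL]
  have h2 : ((1 + algebraMap A L w * z) - 1) / algebraMap A L w ∈
      IntermediateField.adjoin K {1 + algebraMap A L w * z} := by
    refine div_mem (sub_mem (IntermediateField.mem_adjoin_simple_self K _) (one_mem _)) ?_
    rw [IsScalarTower.algebraMap_apply A K L]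
    exact IntermediateField.algebraMap_mem _ _
  rwa [← h1] at h2

include hw0 in
theorem adjoin_z (y : L) (hgen : IntermediateField.adjoin K {y} = ⊤) :
    IntermediateField.adjoin K {(y - 1) / algebraMap A L w} = ⊤ := by
  have hwL := wL_ne_zero A K L w hw0
  apply adjoin_top_of_mem K L y _ hgen
  have h1 : y = 1 + algebraMap A L w * ((y - 1) / algebraMap A L w) := by
    rw [mul_div_cancel₀ _ hwL, add_sub_cancel]
  have h2 : 1 + algebraMap A L w * ((y - 1) / algebraMap A L w) ∈
      IntermediateField.adjoin K {(y - 1) / algebraMap A L w} := by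
    refine add_mem (one_mem _) (mul_mem ?_ (IntermediateField.mem_adjoin_simple_self K _))
    rw [IsScalarTower.algebraMap_apply A K L]
    exact IntermediateField.algebraMap_mem _ _
  rwa [← h1] at h2

end yz

section dvr

variable (p : ℕ) [hp : Fact p.Prime] (A K L : Type u) [CommRing A] [IsDomain A]
  [IsDiscreteValuationRing A] [Field K] [Algebra A K] [IsFractionRing A K] [Field L] [Algebra K L]
  [Algebra A L] [IsScalarTower A K L] [CharZero K] [CharP (ResidueField A) p]
  (ζ : A) (hζ : aeval ζ (cyclotomic p ℤ) = 0) (P : A[X])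
  (hP : C ((1 - ζ) ^ p) * P = (1 + C (1 - ζ) * X) ^ p - 1)
  (π : A) (hπ : Irreducible π)

include K in
theorem charZero_base : CharZero A := (algebraMap A K).charZero

include hζ in
theorem isPrimitiveRoot_K : IsPrimitiveRoot (algebraMap A K ζ) p := by
  haveI : CharZero A := charZero_base A K
  exact (isPrimitiveRoot p A ζ hζ).map_of_injective (IsFractionRing.injective A K)

include hζ hP in
theorem isGalois (ξ : K) (z : L) (hz : aeval z P = algebraMap K L ξ)
    (hgen : IntermediateField.adjoin K {z} = ⊤) : IsGalois K L := by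
  haveI : CharZero A := charZero_base A K
  have hw0 := w_ne_zero p A ζ hζ
  exact kummer_isGalois p K L _ (isPrimitiveRoot_K p A K ζ hζ) _ _
    (y_pow p A K L (1 - ζ) P hP ξ z hz) (adjoin_y A K L (1 - ζ) hw0 z hgen)

include hζ hP in
theorem finrank_eq (ξ : K) (z : L) (hz : aeval z P = algebraMap K L ξ)
    (hgen : IntermediateField.adjoin K {z} = ⊤) :
    Module.finrank K L = 1 ∨ Module.finrank K L = p := by
  haveI : CharZero A := charZero_base A K
  have hw0 := w_ne_zero p A ζ hζ
  exact kummer_finrank p K L _ (isPrimitiveRoot_K p A K ζ hζ) _ _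
    (y_pow p A K L (1 - ζ) P hP ξ z hz) (adjoin_y A K L (1 - ζ) hw0 z hgen)

include hζ hP hπ in
theorem caseA (ξ : K) (z : L) (hz : aeval z P = algebraMap K L ξ)
    (hgen : IntermediateField.adjoin K {z} = ⊤) (a : A) (hξ : algebraMap A K a = ξ) :
    Case1 K L ∨ Case2 p A K L := by
  haveI : CharZero A := charZero_base A K
  have hw0 := w_ne_zero p A ζ hζ
  have hPm := P_monic p A (1 - ζ) hw0 P hP
  have hPd := P_natDegree p A (1 - ζ) hw0 P hP
  have hp0 : 0 < p := hp.out.pos
  haveI : FiniteDimensional K L := MonicCases.finiteDimensional p A K L P hPm hPd hp0 ξ z hz hgen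
  rcases finrank_eq p A K L ζ hζ P hP ξ z hz hgen with h1 | hp'
  · left
    exact h1
  · right
    refine ⟨?_, hp'⟩
    intro V h
    letI : Algebra A V := (RingHom.codRestrict (algebraMap A L) V h.1).toAlgebra
    intro _
    haveI : IsDiscreteValuationRing V :=
      Groth.Agent.Lib.T2H9.FinDVR.isDiscreteValuationRing_of_dominates A K L V h
    obtain ⟨ε, hε⟩ := natCast_eq p A ζ hζ
    have hdeg : (C a : A[X]).degree < P.degree := by
      rw [degree_eq_natDegree hPm.ne_zero, hPd]
      exact degree_C_le.trans_lt (by exact_mod_cast hp0)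
    refine Groth.Agent.Lib.T2H9.UnramLocal.unramified_local A K L π hπ z
      (MonicCases.adjoin_top p A K L P hPm hPd hp0 ξ z hz hgen) (P - C a)
      (hPm.sub_of_left hdeg) ?_ ?_ V h
    · rw [map_sub, aeval_C, hz, ← hξ, ← IsScalarTower.algebraMap_apply, sub_self]
    · exact P_sep p A (1 - ζ) hw0 P hP ε hε (residue_w p A ζ hζ) a

include hζ hP hπ in
theorem kummer_tri (s : ℕ) (uw : Aˣ) (hws : 1 - ζ = uw * π ^ s) :
    ∀ (N : ℕ), N < p * s → ∀ (ξ : K) (z : L), aeval z P = algebraMap K L ξ →
    IntermediateField.adjoin K {z} = ⊤ →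
    (∃ a : A, ξ * algebraMap A K π ^ N = algebraMap A K a) →
    Case1 K L ∨ Case2 p A K L ∨ Case3 p A K L ∨ Case4 p A L := by
  haveI : CharZero A := charZero_base A K
  have hw0 := w_ne_zero p A ζ hζ
  have hPm := P_monic p A (1 - ζ) hw0 P hP
  have hPd := P_natDegree p A (1 - ζ) hw0 P hP
  have h2 : 2 ≤ p := hp.out.two_le
  have hϖ0 : algebraMap A K π ≠ 0 := by
    intro h0
    exact hπ.ne_zero (IsFractionRing.injective A K (h0.trans (map_zero _).symm))
  have hwL := wL_ne_zero A K L (1 - ζ) hw0
  intro N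
  induction N with
  | zero =>
    intro _ ξ z hz hgen ⟨a, ha⟩
    rw [pow_zero, mul_one] at ha
    rcases caseA p A K L ζ hζ P hP π hπ ξ z hz hgen a ha.symm with h | h
    · exact Or.inl h
    · exact Or.inr (Or.inl h)
  | succ N ih =>
    intro hN ξ z hz hgen ⟨a, ha⟩
    have hN' : N < p * s := Nat.lt_of_succ_lt hN
    by_cases hau : IsUnit a
    · by_cases hpN : p ∣ N + 1
      · obtain ⟨m, hm⟩ := hpN
        have hm0 : 0 < m := by
          rcases Nat.eq_zero_or_pos m with h0 | h0
          · rw [h0, mul_zero] at hm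
            omega
          · exact h0
        by_cases hres : ∀ r : A, residue A a ≠ residue A r ^ p
        · rw [hm] at ha
          exact Or.inr (Or.inr (Or.inr
            (genC p A K L π hπ P hPm hPd ξ z hz hgen m hm0 a hres ha)))
        · push Not at hres
          obtain ⟨r, hr⟩ := hres
          have hmem : a - r ^ p ∈ maximalIdeal A := by
            rw [← residue_eq_zero_iff, map_sub, map_pow, hr, sub_self]
          rw [hπ.maximalIdeal_eq, Ideal.mem_span_singleton] at hmem
          obtain ⟨b0, hb0⟩ := hmem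
          have hms : m < s := by
            rw [hm] at hN
            exact Nat.lt_of_mul_lt_mul_left hN
          obtain ⟨β, a', hβ⟩ := shift_step p A K (1 - ζ) hw0 P hP π hπ s uw hws N m hm0 hm hms
            ξ a r b0 ha hb0
          -- the new generator
          set y := 1 + algebraMap A L (1 - ζ) * z with hy
          have hyp := y_pow p A K L (1 - ζ) P hP ξ z hz
          have hygen := adjoin_y A K L (1 - ζ) hw0 z hgen
          have hβL : algebraMap A L (β : A) ≠ 0 := by
            rw [IsScalarTower.algebraMap_apply A K L]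
            intro h0
            have h1 := (algebraMap K L).injective (h0.trans (map_zero _).symm)
            exact β.ne_zero (IsFractionRing.injective A K (h1.trans (map_zero _).symm))
          set y' := y / algebraMap A L (β : A) with hy'
          have hy'p : y' ^ p = algebraMap K L
              ((1 + algebraMap A K (1 - ζ) ^ p * ξ) / algebraMap A K β ^ p) := by
            rw [hy', div_pow, hyp, map_div₀, map_pow, ← IsScalarTower.algebraMap_apply]
          have hy'gen : IntermediateField.adjoin K {y'} = ⊤ := by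
            apply adjoin_top_of_mem K L y _ hygen
            have h1 : y = y' * algebraMap A L (β : A) := by
              rw [hy', div_mul_cancel₀ _ hβL]
            rw [h1]
            refine mul_mem (IntermediateField.mem_adjoin_simple_self K _) ?_
            rw [IsScalarTower.algebraMap_apply A K L]
            exact IntermediateField.algebraMap_mem _ _
          exact ih hN' _ _ (z_of_y p A K L (1 - ζ) hw0 P hP _ y' hy'p)
            (adjoin_z A K L (1 - ζ) hw0 y' hy'gen) ⟨a', hβ⟩
      · exact Or.inr (Or.inr (Or.inl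
          (genB p A K L π hπ P hPm hPd ξ z hz hgen (N + 1) (Nat.succ_pos N) hpN hau.unit ha)))
    · have hmem : a ∈ maximalIdeal A := by
        rw [mem_maximalIdeal, mem_nonunits_iff]
        exact hau
      rw [hπ.maximalIdeal_eq, Ideal.mem_span_singleton] at hmem
      obtain ⟨a', rfl⟩ := hmem
      refine ih hN' ξ z hz hgen ⟨a', ?_⟩
      rw [pow_succ, ← mul_assoc, map_mul, mul_comm (algebraMap A K π)] at ha
      exact mul_right_cancel₀ hϖ0 ha

include hζ hP hπ in
/-- the case where `y ^ p` is a unit of `A` -/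
theorem reduce_unit (u : Aˣ) (y : L) (hy : y ^ p = algebraMap A L u)
    (hgen : IntermediateField.adjoin K {y} = ⊤) :
    Case1 K L ∨ Case2 p A K L ∨ Case3 p A K L ∨ Case4 p A L := by
  haveI : CharZero A := charZero_base A K
  have hw0 := w_ne_zero p A ζ hζ
  have h2 : 2 ≤ p := hp.out.two_le
  have hp0 : p ≠ 0 := hp.out.ne_zero
  have hinj := IsFractionRing.injective A K
  have hϖ0 : algebraMap A K π ≠ 0 := fun h0 => hπ.ne_zero (hinj (h0.trans (map_zero _).symm))
  have hyK : y ^ p = algebraMap K L (algebraMap A K u) := by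
    rw [hy, ← IsScalarTower.algebraMap_apply]
  by_cases hres : ∀ r : A, residue A (u : A) ≠ residue A r ^ p
  · right; right; right
    haveI : FiniteDimensional K L := kummer_finiteDimensional p K L _ y hyK hgen
    have hN := kummer_finrank_le p K L _ y hyK hgen
    refine insep p A K L π hπ hN (u : A) hres ?_
    intro V h
    letI : Algebra A V := (RingHom.codRestrict (algebraMap A L) V h.1).toAlgebra
    intro _
    have hyV : y ∈ V := by
      apply mem_of_isIntegralElem (algebraMap A L) V h.1 y
      refine ⟨X ^ p - C (u : A), monic_X_pow_sub_C _ hp0, ?_⟩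
      rw [eval₂_sub, eval₂_pow, eval₂_X, eval₂_C, hy, sub_self]
    refine ⟨⟨y, hyV⟩, ?_⟩
    rw [← map_pow]
    have h1 : (⟨y, hyV⟩ : V) ^ p = algebraMap A V (u : A) := Subtype.ext hy
    rw [h1]
    rfl
  · push Not at hres
    obtain ⟨r, hr⟩ := hres
    have hru : IsUnit r := by
      rw [← not_not (a := IsUnit r), ← mem_nonunits_iff, ← mem_maximalIdeal, ← residue_eq_zero_iff]
      intro h0
      rw [h0, zero_pow hp0] at hr
      have : (u : A) ∈ maximalIdeal A := (residue_eq_zero_iff _).mp hr
      exact this u.isUnit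
    obtain ⟨ru, hru'⟩ := hru
    have hmem : (u : A) - r ^ p ∈ maximalIdeal A := by
      rw [← residue_eq_zero_iff, map_sub, map_pow, hr, sub_self]
    rw [hπ.maximalIdeal_eq, Ideal.mem_span_singleton] at hmem
    obtain ⟨a4, ha4⟩ := hmem
    -- the order of `w`
    obtain ⟨s, uw, hws⟩ := IsDiscreteValuationRing.eq_unit_mul_pow_irreducible hw0 hπ
    have hs : 0 < s := by
      rcases Nat.eq_zero_or_pos s with h0 | h0
      · exfalso
        rw [h0, pow_zero, mul_one] at hws
        have : (1 - ζ) ∈ maximalIdeal A := w_mem p A ζ hζ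
        rw [hws] at this
        exact this uw.isUnit
      · exact h0
    have hrL : algebraMap A L r ≠ 0 := by
      rw [IsScalarTower.algebraMap_apply A K L, ← hru']
      intro h0
      have h1 := (algebraMap K L).injective (h0.trans (map_zero _).symm)
      exact ru.ne_zero (hinj (h1.trans (map_zero _).symm))
    have hrK : algebraMap A K r ≠ 0 := by
      rw [← hru']
      exact fun h0 => ru.ne_zero (hinj (h0.trans (map_zero _).symm))
    have huwK : algebraMap A K (uw : A) ≠ 0 :=
      fun h0 => uw.ne_zero (hinj (h0.trans (map_zero _).symm))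
    set y4 := y / algebraMap A L r with hy4
    have hy4p : y4 ^ p = algebraMap K L (algebraMap A K u / algebraMap A K r ^ p) := by
      rw [hy4, div_pow, hyK, map_div₀, map_pow, ← IsScalarTower.algebraMap_apply A K L r]
    have hy4gen : IntermediateField.adjoin K {y4} = ⊤ := by
      apply adjoin_top_of_mem K L y _ hgen
      have h1 : y = y4 * algebraMap A L r := by
        rw [hy4, div_mul_cancel₀ _ hrL]
      rw [h1]
      refine mul_mem (IntermediateField.mem_adjoin_simple_self K _) ?_
      rw [IsScalarTower.algebraMap_apply A K L]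
      exact IntermediateField.algebraMap_mem _ _
    have hps : 0 < p * s := Nat.mul_pos hp.out.pos hs
    refine kummer_tri p A K L ζ hζ P hP π hπ s uw hws (p * s - 1) (by omega) _ _
      (z_of_y p A K L (1 - ζ) hw0 P hP _ y4 hy4p) (adjoin_z A K L (1 - ζ) hw0 y4 hy4gen)
      ⟨a4 * ((ru⁻¹ : Aˣ) : A) ^ p * ((uw⁻¹ : Aˣ) : A) ^ p, ?_⟩
    have h11 : algebraMap A K ((ru⁻¹ : Aˣ) : A) = (algebraMap A K r)⁻¹ := by
      apply eq_inv_of_mul_eq_one_left
      rw [← hru', ← map_mul, Units.inv_mul, map_one]
    have h12 : algebraMap A K ((uw⁻¹ : Aˣ) : A) = (algebraMap A K uw)⁻¹ := by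
      apply eq_inv_of_mul_eq_one_left
      rw [← map_mul, Units.inv_mul, map_one]
    have h13 : algebraMap A K (u : A) = algebraMap A K r ^ p + algebraMap A K π * algebraMap A K a4 := by
      rw [← map_pow, ← map_mul, ← map_add, ← ha4]
      congr 1
      ring
    have h14 : algebraMap A K π ^ (p * s) = algebraMap A K π ^ (p * s - 1) * algebraMap A K π := by
      rw [← pow_succ]
      congr 1
      omega
    rw [hws, h13]
    simp only [map_mul, map_pow, h11, h12, mul_pow, ← pow_mul, inv_pow]
    rw [mul_comm s p, h14]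
    field_simp
    ring

include hζ hP hπ in
/-- the case where `y ^ p` lies in `A` -/
theorem reduce_int (a1 : A) (ha1 : a1 ≠ 0) (y : L) (hy : y ^ p = algebraMap A L a1)
    (hgen : IntermediateField.adjoin K {y} = ⊤) :
    Case1 K L ∨ Case2 p A K L ∨ Case3 p A K L ∨ Case4 p A L := by
  have hp0 : p ≠ 0 := hp.out.ne_zero
  have hinj := IsFractionRing.injective A K
  have hϖ0 : algebraMap A K π ≠ 0 := fun h0 => hπ.ne_zero (hinj (h0.trans (map_zero _).symm))
  have hπL : algebraMap A L π ≠ 0 := by
    rw [IsScalarTower.algebraMap_apply A K L]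
    intro h0
    exact hϖ0 ((algebraMap K L).injective (h0.trans (map_zero _).symm))
  obtain ⟨i, u, hu⟩ := IsDiscreteValuationRing.eq_unit_mul_pow_irreducible ha1 hπ
  by_cases hpi : p ∣ i
  · obtain ⟨l, hl⟩ := hpi
    set y3 := y / algebraMap A L π ^ l with hy3
    have hy3p : y3 ^ p = algebraMap A L u := by
      rw [hy3, div_pow, hy, hu, hl, map_mul, map_pow, ← pow_mul, mul_comm l p,
        mul_div_cancel_right₀ _ (pow_ne_zero _ hπL)]
    have hy3gen : IntermediateField.adjoin K {y3} = ⊤ := by
      apply adjoin_top_of_mem K L y _ hgen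
      have h1 : y = y3 * algebraMap A L π ^ l := by
        rw [hy3, div_mul_cancel₀ _ (pow_ne_zero _ hπL)]
      rw [h1]
      refine mul_mem (IntermediateField.mem_adjoin_simple_self K _) (pow_mem ?_ l)
      rw [IsScalarTower.algebraMap_apply A K L]
      exact IntermediateField.algebraMap_mem _ _
    exact reduce_unit p A K L ζ hζ P hP π hπ u y3 hy3p hy3gen
  · right; right; left
    have hi0 : 0 < i := by
      rcases Nat.eq_zero_or_pos i with h0 | h0
      · exact absurd (h0 ▸ dvd_zero p) hpi
      · exact h0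
    have ha1K : algebraMap A K a1 ≠ 0 := fun h0 => ha1 (hinj (h0.trans (map_zero _).symm))
    have hy2p : aeval y⁻¹ (X ^ p : A[X]) = algebraMap K L (algebraMap A K a1)⁻¹ := by
      rw [map_pow, aeval_X, inv_pow, hy, map_inv₀, ← IsScalarTower.algebraMap_apply]
    have hy2gen : IntermediateField.adjoin K {y⁻¹} = ⊤ := by
      apply adjoin_top_of_mem K L y _ hgen
      have h1 : (y⁻¹)⁻¹ ∈ IntermediateField.adjoin K {y⁻¹} :=
        inv_mem (IntermediateField.mem_adjoin_simple_self K _)
      rwa [inv_inv] at h1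
    refine genB p A K L π hπ (X ^ p) (monic_X_pow p) (natDegree_X_pow p) _ y⁻¹ hy2p hy2gen
      i hi0 hpi u⁻¹ ?_
    have h12 : algebraMap A K ((u⁻¹ : Aˣ) : A) = (algebraMap A K u)⁻¹ := by
      apply eq_inv_of_mul_eq_one_left
      rw [← map_mul, Units.inv_mul, map_one]
    have huK : algebraMap A K (u : A) ≠ 0 :=
      fun h0 => u.ne_zero (hinj (h0.trans (map_zero _).symm))
    rw [h12, hu, map_mul, map_pow, mul_inv, mul_assoc,
      inv_mul_cancel₀ (pow_ne_zero _ hϖ0), mul_one]

include hζ hP hπ in
/-- the general Kummer extension -/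
theorem reduce (c : K) (y : L) (hy0 : y ≠ 0) (hy : y ^ p = algebraMap K L c)
    (hgen : IntermediateField.adjoin K {y} = ⊤) :
    Case1 K L ∨ Case2 p A K L ∨ Case3 p A K L ∨ Case4 p A L := by
  have hp0 : p ≠ 0 := hp.out.ne_zero
  have hinj := IsFractionRing.injective A K
  have hc0 : c ≠ 0 := by
    intro h0
    rw [h0, map_zero] at hy
    exact hy0 (pow_eq_zero_iff hp0 |>.mp hy)
  obtain ⟨x, d, hd, rfl⟩ := IsFractionRing.div_surjective (A := A) c
  have hd0 : d ≠ 0 := nonZeroDivisors.ne_zero hd
  have hdK : algebraMap A K d ≠ 0 := fun h0 => hd0 (hinj (h0.trans (map_zero _).symm))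
  have hx0 : x ≠ 0 := by
    intro h0
    rw [h0, map_zero, zero_div] at hc0
    exact hc0 rfl
  have hdL : algebraMap A L d ≠ 0 := by
    rw [IsScalarTower.algebraMap_apply A K L]
    intro h0
    exact hdK ((algebraMap K L).injective (h0.trans (map_zero _).symm))
  set y1 := y * algebraMap A L d with hy1
  have hy1p : y1 ^ p = algebraMap A L (x * d ^ (p - 1)) := by
    have h1 : d ^ p = d ^ (p - 1) * d := by
      rw [← pow_succ]
      congr 1
      have := hp.out.pos
      omega
    rw [hy1, mul_pow, hy, map_div₀, ← IsScalarTower.algebraMap_apply,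
      ← IsScalarTower.algebraMap_apply, ← map_pow, h1, map_mul, map_mul]
    field_simp
  have hy1gen : IntermediateField.adjoin K {y1} = ⊤ := by
    apply adjoin_top_of_mem K L y _ hgen
    have h1 : y = y1 / algebraMap A L d := by
      rw [hy1, mul_div_cancel_right₀ _ hdL]
    rw [h1]
    refine div_mem (IntermediateField.mem_adjoin_simple_self K _) ?_
    rw [IsScalarTower.algebraMap_apply A K L]
    exact IntermediateField.algebraMap_mem _ _
  exact reduce_int p A K L ζ hζ P hP π hπ (x * d ^ (p - 1))
    (mul_ne_zero hx0 (pow_ne_zero _ hd0)) y1 hy1p hy1gen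

include hζ hP hπ in
/-- the general case -/
theorem main (ξ : K) (z : L) (hz : aeval z P = algebraMap K L ξ)
    (hgen : IntermediateField.adjoin K {z} = ⊤) :
    Case1 K L ∨ Case2 p A K L ∨ Case3 p A K L ∨ Case4 p A L := by
  haveI : CharZero A := charZero_base A K
  have hw0 := w_ne_zero p A ζ hζ
  have hyp := y_pow p A K L (1 - ζ) P hP ξ z hz
  have hygen := adjoin_y A K L (1 - ζ) hw0 z hgen
  by_cases hy0 : 1 + algebraMap A L (1 - ζ) * z = 0
  · left
    exact finrank_eq_one_of_mem_range K L _ hygen ⟨0, by rw [map_zero, hy0]⟩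
  · exact reduce p A K L ζ hζ P hP π hπ _ _ hy0 hyp hygen

end dvr

end Groth.Agent.Lib.T2H9.KummerCases
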