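import Mathlib
import Groth.Prelude
import Groth.Agent.Lib.T2H9CIOverStalk
import Groth.Agent.Lib.T2H9CIFieldBC
import Groth.Agent.Lib.T2H9SyntMor

set_option autoImplicit false
set_option linter.unusedSectionVars false
set_option linter.style.haveILetI false
universe u

namespace Groth.Agent.Lib.T2H9.LCIField

open IsLocalRing TensorProduct AlgebraicGeometry CategoryTheory Limits
  Groth.Agent.Lib.T2H9.CILocus Groth.Agent.Lib.T2H9.CIBaseChange Groth.Agent.Lib.T2H9.SyntCI

variable {k : Type u} [Field k] {X : Scheme.{u}} (p : X ⟶ Spec (CommRingCat.of k))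

/-- a point in an affine open whose coordinate ring is a global complete intersection has a
complete-intersection local ring -/
theorem isCI_stalk_of_isGlobalCI {U : X.Opens} (hU : IsAffineOpen U) (x : X) (hx : x ∈ U)
    (h : letI := ((Scheme.ΓSpecIso (CommRingCat.of k)).inv ≫ p.appLE ⊤ U le_top).hom.toAlgebra
      Synt.IsGlobalCI k Γ(X, U)) :
    Pi1.IsCompleteIntersection (X.presheaf.stalk x) := by
  letI := ((Scheme.ΓSpecIso (CommRingCat.of k)).inv ≫ p.appLE ⊤ U le_top).hom.toAlgebra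
  haveI : Algebra.FiniteType k Γ(X, U) := finiteType_of_isGlobalCI h
  haveI : IsNoetherianRing Γ(X, U) := Algebra.FiniteType.isNoetherianRing k _
  letI algB : Algebra Γ(X, U) (X.presheaf.stalk x) := X.presheaf.algebra_section_stalk ⟨x, hx⟩
  haveI locB := hU.isLocalization_stalk ⟨x, hx⟩
  have h1 : Pi1.IsCompleteIntersection
      (Localization.AtPrime (hU.primeIdealOf ⟨x, hx⟩).asIdeal) :=
    isCI_of_isCIOver (isCIOver_localization_of_isGlobalCI _ h _)
  exact isCI_of_ringEquiv (IsLocalization.algEquiv (hU.primeIdealOf ⟨x, hx⟩).asIdeal.primeCompl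
    (Localization.AtPrime (hU.primeIdealOf ⟨x, hx⟩).asIdeal) (X.presheaf.stalk x)).toRingEquiv h1

/-- a point with a complete-intersection local ring has an affine open neighbourhood whose
coordinate ring is a global complete intersection -/
theorem exists_affineOpen_isGlobalCI [LocallyOfFiniteType p] (x : X)
    (h : Pi1.IsCompleteIntersection (X.presheaf.stalk x)) :
    ∃ U : X.affineOpens, x ∈ U.1 ∧
      letI := ((Scheme.ΓSpecIso (CommRingCat.of k)).inv ≫ p.appLE ⊤ U.1 le_top).hom.toAlgebra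
      Synt.IsGlobalCI k Γ(X, U.1) := by
  obtain ⟨U₀, hU₀, hx, -⟩ := TopologicalSpace.Opens.isBasis_iff_nbhd.mp X.isBasis_affineOpens
    (TopologicalSpace.Opens.mem_top x)
  letI alg₀ : Algebra k Γ(X, U₀) :=
    ((Scheme.ΓSpecIso (CommRingCat.of k)).inv ≫ p.appLE ⊤ U₀ le_top).hom.toAlgebra
  haveI hft : Algebra.FiniteType k Γ(X, U₀) := by
    have h1 : (p.appLE ⊤ U₀ le_top).hom.FiniteType :=
      p.finiteType_appLE (isAffineOpen_top _) hU₀ le_top
    have h2 : ((Scheme.ΓSpecIso (CommRingCat.of k)).inv).hom.FiniteType :=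
      RingHom.FiniteType.of_surjective _
        (ConcreteCategory.bijective_of_isIso (Scheme.ΓSpecIso (CommRingCat.of k)).inv).2
    have h3 := h1.comp h2
    rw [← CommRingCat.hom_comp] at h3
    exact h3
  haveI : IsNoetherianRing Γ(X, U₀) := Algebra.FiniteType.isNoetherianRing k _
  letI algB : Algebra Γ(X, U₀) (X.presheaf.stalk x) := X.presheaf.algebra_section_stalk ⟨x, hx⟩
  haveI locB := hU₀.isLocalization_stalk ⟨x, hx⟩
  haveI : IsNoetherianRing (X.presheaf.stalk x) :=
    IsLocalization.isNoetherianRing (hU₀.primeIdealOf ⟨x, hx⟩).asIdeal.primeCompl _ inferInstance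
  have h1 : Pi1.IsCompleteIntersection
      (Localization.AtPrime (hU₀.primeIdealOf ⟨x, hx⟩).asIdeal) :=
    isCI_of_ringEquiv (IsLocalization.algEquiv (hU₀.primeIdealOf ⟨x, hx⟩).asIdeal.primeCompl
      (Localization.AtPrime (hU₀.primeIdealOf ⟨x, hx⟩).asIdeal)
      (X.presheaf.stalk x)).toRingEquiv.symm h
  obtain ⟨n, π, hπ⟩ := Algebra.FiniteType.iff_quotient_mvPolynomial''.mp hft
  obtain ⟨g, hg, hG⟩ := exists_away_isGlobalCI_of_isCI π hπ _ h1
  have hxg : x ∈ X.basicOpen g := by
    rw [Scheme.mem_basicOpen _ _ x hx]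
    exact (IsLocalization.AtPrime.isUnit_to_map_iff (X.presheaf.stalk x)
      (hU₀.primeIdealOf ⟨x, hx⟩).asIdeal g).mpr hg
  refine ⟨⟨X.basicOpen g, hU₀.basicOpen g⟩, hxg, ?_⟩
  letI alg₁ : Algebra k Γ(X, X.basicOpen g) :=
    ((Scheme.ΓSpecIso (CommRingCat.of k)).inv ≫ p.appLE ⊤ (X.basicOpen g) le_top).hom.toAlgebra
  haveI hloc : IsLocalization.Away g Γ(X, X.basicOpen g) := hU₀.isLocalization_basicOpen g
  haveI : IsScalarTower k Γ(X, U₀) Γ(X, X.basicOpen g) := by
    refine IsScalarTower.of_algebraMap_eq fun a => ?_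
    have := Scheme.Hom.appLE_map p (U := ⊤) (V := U₀) le_top (homOfLE (X.basicOpen_le g)).op
    change (((Scheme.ΓSpecIso (CommRingCat.of k)).inv ≫
      p.appLE ⊤ (X.basicOpen g) le_top).hom a) = (X.presheaf.map (homOfLE (X.basicOpen_le g)).op).hom
      (((Scheme.ΓSpecIso (CommRingCat.of k)).inv ≫ p.appLE ⊤ U₀ le_top).hom a)
    rw [← this]
    rfl
  exact isGlobalCI_of_algEquiv ((IsLocalization.algEquiv (Submonoid.powers g)
    (Localization.Away g) Γ(X, X.basicOpen g)).restrictScalars k) hG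

end Groth.Agent.Lib.T2H9.LCIField
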