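import Mathlib

/-! Transporting a finite extension `A' ⊆ A` with `f^c A ⊆ A'` along an isomorphism
`A'/f^n ≅ B'/g^n`: the homomorphism `A/f → B/g`. -/

namespace Groth.Agent.Lib.T2H9.LiftQuot

section Hom

variable {A' A B' B : Type*} [CommRing A'] [CommRing A] [CommRing B'] [CommRing B]

/-- the hypotheses under which a ring map `A/f → B/g` is induced -/
structure Data (ι : A' →+* A) (κ : B' →+* B) (f : A') (g : B') (c n : ℕ)
    (ψ : A' ⧸ Ideal.span {f ^ n} →+* B' ⧸ Ideal.span {g ^ n}) : Prop where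
  hι : Function.Injective ι
  hn : 2 * c + 1 ≤ n
  hA : ∀ a : A, ∃ x : A', ι x = ι f ^ c * a
  hg : κ g ∈ nonZeroDivisors B
  hψ : ψ (Ideal.Quotient.mk _ f) = Ideal.Quotient.mk _ g
  hI : ∀ (x : A') (a : A) (y : B'), ι x = ι f ^ c * a →
    ψ (Ideal.Quotient.mk _ x) = Ideal.Quotient.mk _ y → ∃ b : B, κ y = κ g ^ c * b

variable {ι : A' →+* A} {κ : B' →+* B} {f : A'} {g : B'} {c n : ℕ}
  {ψ : A' ⧸ Ideal.span {f ^ n} →+* B' ⧸ Ideal.span {g ^ n}}

/-- the graph of the induced map -/
def Rel (ι : A' →+* A) (κ : B' →+* B) (f : A') (g : B') (c n : ℕ)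
    (ψ : A' ⧸ Ideal.span {f ^ n} →+* B' ⧸ Ideal.span {g ^ n})
    (a : A) (β : B ⧸ Ideal.span {κ g}) : Prop :=
  ∃ (x : A') (y : B') (b : B), ι x = ι f ^ c * a ∧
    ψ (Ideal.Quotient.mk _ x) = Ideal.Quotient.mk _ y ∧ κ y = κ g ^ c * b ∧
    β = Ideal.Quotient.mk _ b

theorem exists_add_of_mk_eq {R : Type*} [CommRing R] {r : R} {y y' : R}
    (h : Ideal.Quotient.mk (Ideal.span {r}) y = Ideal.Quotient.mk (Ideal.span {r}) y') :
    ∃ t, y = y' + r * t := by
  rw [Ideal.Quotient.eq, Ideal.mem_span_singleton'] at h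
  obtain ⟨t, ht⟩ := h
  exact ⟨t, by rw [mul_comm, ht]; ring⟩

theorem Data.rel_exists (D : Data ι κ f g c n ψ) (a : A) : ∃ β, Rel ι κ f g c n ψ a β := by
  obtain ⟨x, hx⟩ := D.hA a
  obtain ⟨y, hy⟩ := Ideal.Quotient.mk_surjective (ψ (Ideal.Quotient.mk _ x))
  obtain ⟨b, hb⟩ := D.hI x a y hx hy.symm
  exact ⟨_, x, y, b, hx, hy.symm, hb, rfl⟩

theorem rel_add {a a' : A} {β β' : B ⧸ Ideal.span {κ g}}
    (h : Rel ι κ f g c n ψ a β) (h' : Rel ι κ f g c n ψ a' β') :
    Rel ι κ f g c n ψ (a + a') (β + β') := by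
  obtain ⟨x, y, b, h1, h2, h3, rfl⟩ := h
  obtain ⟨x', y', b', h1', h2', h3', rfl⟩ := h'
  refine ⟨x + x', y + y', b + b', ?_, ?_, ?_, ?_⟩
  · rw [map_add, h1, h1', mul_add]
  · rw [map_add, map_add, h2, h2', map_add]
  · rw [map_add, h3, h3', mul_add]
  · rw [map_add]

theorem rel_neg {a : A} {β : B ⧸ Ideal.span {κ g}}
    (h : Rel ι κ f g c n ψ a β) : Rel ι κ f g c n ψ (-a) (-β) := by
  obtain ⟨x, y, b, h1, h2, h3, rfl⟩ := h
  refine ⟨-x, -y, -b, ?_, ?_, ?_, ?_⟩
  · rw [map_neg, h1, mul_neg]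
  · rw [map_neg, map_neg, h2, map_neg]
  · rw [map_neg, h3, mul_neg]
  · rw [map_neg]

theorem Data.rel_one (D : Data ι κ f g c n ψ) : Rel ι κ f g c n ψ 1 1 := by
  refine ⟨f ^ c, g ^ c, 1, ?_, ?_, ?_, ?_⟩
  · rw [map_pow, mul_one]
  · rw [map_pow, map_pow, D.hψ, map_pow]
  · rw [map_pow, mul_one]
  · rw [map_one]

theorem Data.rel_ker (D : Data ι κ f g c n ψ) {a : A} {β : B ⧸ Ideal.span {κ g}}
    (h : Rel ι κ f g c n ψ a β) (ha : a ∈ Ideal.span {ι f}) : β = 0 := by
  obtain ⟨x, y, b, h1, h2, h3, rfl⟩ := h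
  rw [Ideal.mem_span_singleton'] at ha
  obtain ⟨a₀, rfl⟩ := ha
  obtain ⟨x₀, hx₀⟩ := D.hA a₀
  obtain ⟨y₀, hy₀⟩ := Ideal.Quotient.mk_surjective (ψ (Ideal.Quotient.mk _ x₀))
  obtain ⟨b₀, hb₀⟩ := D.hI x₀ a₀ y₀ hx₀ hy₀.symm
  have hx : x = x₀ * f := by
    apply D.hι
    rw [h1, map_mul, hx₀]
    ring
  have hy : Ideal.Quotient.mk (Ideal.span {g ^ n}) y = Ideal.Quotient.mk _ (y₀ * g) := by
    rw [← h2, hx, map_mul, map_mul, D.hψ, map_mul, hy₀]
  obtain ⟨t, ht⟩ := exists_add_of_mk_eq hy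
  have hn : n = c + (n - c - 1) + 1 := by have := D.hn; omega
  have hcancel : κ g ^ c * b = κ g ^ c * (b₀ * κ g + κ g ^ (n - c - 1) * κ t * κ g) := by
    rw [← h3, ht, map_add, map_mul, map_mul, hb₀, map_pow]
    conv_lhs => rw [hn]
    ring
  have hb : b = b₀ * κ g + κ g ^ (n - c - 1) * κ t * κ g :=
    (mul_cancel_left_mem_nonZeroDivisors (pow_mem D.hg c)).mp hcancel
  rw [Ideal.Quotient.eq_zero_iff_mem, hb, Ideal.mem_span_singleton']
  exact ⟨b₀ + κ g ^ (n - c - 1) * κ t, by ring⟩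

theorem Data.rel_unique (D : Data ι κ f g c n ψ) {a : A} {β β' : B ⧸ Ideal.span {κ g}}
    (h : Rel ι κ f g c n ψ a β) (h' : Rel ι κ f g c n ψ a β') : β = β' := by
  have h1 := rel_add h (rel_neg h')
  rw [add_neg_cancel] at h1
  have h2 := D.rel_ker h1 (Ideal.zero_mem _)
  rwa [← sub_eq_add_neg, sub_eq_zero] at h2

theorem Data.rel_mul (D : Data ι κ f g c n ψ) {a a' : A} {β β' : B ⧸ Ideal.span {κ g}}
    (h : Rel ι κ f g c n ψ a β) (h' : Rel ι κ f g c n ψ a' β') :
    Rel ι κ f g c n ψ (a * a') (β * β') := by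
  obtain ⟨x, y, b, h1, h2, h3, rfl⟩ := h
  obtain ⟨x', y', b', h1', h2', h3', rfl⟩ := h'
  obtain ⟨x'', hx''⟩ := D.hA (a * a')
  obtain ⟨y'', hy''⟩ := Ideal.Quotient.mk_surjective (ψ (Ideal.Quotient.mk _ x''))
  obtain ⟨b'', hb''⟩ := D.hI x'' (a * a') y'' hx'' hy''.symm
  refine ⟨x'', y'', b'', hx'', hy''.symm, hb'', ?_⟩
  have hx : x * x' = f ^ c * x'' := by
    apply D.hι
    rw [map_mul, map_mul, h1, h1', hx'', map_pow]
    ring
  have hy : Ideal.Quotient.mk (Ideal.span {g ^ n}) (y * y') =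
      Ideal.Quotient.mk _ (g ^ c * y'') := by
    have e := congrArg (fun z => ψ (Ideal.Quotient.mk (Ideal.span {f ^ n}) z)) hx
    simp only [map_mul, map_pow, h2, h2', D.hψ, ← hy''] at e
    rw [map_mul, map_mul, map_pow]
    exact e
  obtain ⟨t, ht⟩ := exists_add_of_mk_eq hy
  have hn : n = c + c + (n - 2 * c - 1) + 1 := by have := D.hn; omega
  have hcancel : κ g ^ (c + c) * (b * b') =
      κ g ^ (c + c) * (b'' + κ g ^ (n - 2 * c - 1) * κ t * κ g) := by
    have e1 : κ g ^ (c + c) * (b * b') = κ y * κ y' := by rw [h3, h3']; ring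
    rw [e1, ← map_mul, ht, map_add, map_mul, map_mul, hb'', map_pow, map_pow]
    conv_lhs => rw [hn]
    ring
  have hb : b * b' = b'' + κ g ^ (n - 2 * c - 1) * κ t * κ g :=
    (mul_cancel_left_mem_nonZeroDivisors (pow_mem D.hg (c + c))).mp hcancel
  rw [← map_mul, Ideal.Quotient.eq, hb, Ideal.mem_span_singleton']
  exact ⟨κ g ^ (n - 2 * c - 1) * κ t, by ring⟩

/-- the induced map on `A` -/
noncomputable def Data.hom₀ (D : Data ι κ f g c n ψ) : A →+* B ⧸ Ideal.span {κ g} where
  toFun a := Classical.choose (D.rel_exists a)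
  map_one' := D.rel_unique (Classical.choose_spec (D.rel_exists 1)) D.rel_one
  map_mul' a a' := D.rel_unique (Classical.choose_spec (D.rel_exists (a * a')))
    (D.rel_mul (Classical.choose_spec (D.rel_exists a)) (Classical.choose_spec (D.rel_exists a')))
  map_zero' := D.rel_ker (Classical.choose_spec (D.rel_exists 0)) (Ideal.zero_mem _)
  map_add' a a' := D.rel_unique (Classical.choose_spec (D.rel_exists (a + a')))
    (rel_add (Classical.choose_spec (D.rel_exists a)) (Classical.choose_spec (D.rel_exists a')))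

theorem Data.hom₀_spec (D : Data ι κ f g c n ψ) (a : A) : Rel ι κ f g c n ψ a (D.hom₀ a) :=
  Classical.choose_spec (D.rel_exists a)

/-- the induced map `A/f → B/g` -/
noncomputable def Data.hom (D : Data ι κ f g c n ψ) :
    A ⧸ Ideal.span {ι f} →+* B ⧸ Ideal.span {κ g} :=
  Ideal.Quotient.lift _ D.hom₀ (fun a ha => D.rel_ker (D.hom₀_spec a) ha)

theorem Data.hom_mk (D : Data ι κ f g c n ψ) (a : A) :
    D.hom (Ideal.Quotient.mk _ a) = D.hom₀ a := rfl

/-- characterisation of the induced map -/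
theorem Data.hom_eq (D : Data ι κ f g c n ψ) (a : A) (x : A') (y : B') (b : B)
    (h1 : ι x = ι f ^ c * a)
    (h2 : ψ (Ideal.Quotient.mk _ x) = Ideal.Quotient.mk _ y) (h3 : κ y = κ g ^ c * b) :
    D.hom (Ideal.Quotient.mk _ a) = Ideal.Quotient.mk _ b :=
  D.rel_unique (D.hom₀_spec a) ⟨x, y, b, h1, h2, h3, rfl⟩

theorem Data.exists_of_hom (D : Data ι κ f g c n ψ) (a : A) :
    ∃ (x : A') (y : B') (b : B), ι x = ι f ^ c * a ∧
      ψ (Ideal.Quotient.mk _ x) = Ideal.Quotient.mk _ y ∧ κ y = κ g ^ c * b ∧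
      D.hom (Ideal.Quotient.mk _ a) = Ideal.Quotient.mk _ b :=
  D.hom₀_spec a

end Hom


section Construct

variable {A' A B' : Type*} [CommRing A'] [CommRing A] [CommRing B'] [Algebra A' A]

/-- the elements of `A'` lying in `f^c A` -/
def idealI (A : Type*) [CommRing A] [Algebra A' A] (f : A') (c : ℕ) : Ideal A' :=
  Ideal.comap (algebraMap A' A) (Ideal.span {algebraMap A' A f ^ c})

theorem mem_idealI {f : A'} {c : ℕ} {x : A'} :
    x ∈ idealI A f c ↔ ∃ a : A, algebraMap A' A x = algebraMap A' A f ^ c * a := by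
  rw [idealI, Ideal.mem_comap, Ideal.mem_span_singleton']
  constructor
  · rintro ⟨a, ha⟩
    exact ⟨a, by rw [← ha, mul_comm]⟩
  · rintro ⟨a, ha⟩
    exact ⟨a, by rw [ha, mul_comm]⟩

variable (f : A') (g : B') (c n : ℕ)
  (φ' : (A' ⧸ Ideal.span {f ^ n}) ≃+* (B' ⧸ Ideal.span {g ^ n}))

/-- the corresponding ideal of `B'` -/
def idealI' (A : Type*) [CommRing A] [Algebra A' A] (f : A') (g : B') (c n : ℕ)
    (φ' : (A' ⧸ Ideal.span {f ^ n}) ≃+* (B' ⧸ Ideal.span {g ^ n})) : Ideal B' :=
  Ideal.comap (Ideal.Quotient.mk (Ideal.span {g ^ n}))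
    (Ideal.map (φ'.toRingHom.comp (Ideal.Quotient.mk (Ideal.span {f ^ n}))) (idealI A f c))

theorem comp_surjective :
    Function.Surjective (φ'.toRingHom.comp (Ideal.Quotient.mk (Ideal.span {f ^ n}))) :=
  φ'.surjective.comp Ideal.Quotient.mk_surjective

theorem mem_idealI' {y : B'} :
    y ∈ idealI' A f g c n φ' ↔
      ∃ x ∈ idealI A f c, φ' (Ideal.Quotient.mk _ x) = Ideal.Quotient.mk _ y := by
  rw [idealI', Ideal.mem_comap, Ideal.mem_map_iff_of_surjective _ (comp_surjective f g n φ')]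
  rfl

variable {f g c n φ'}

theorem pow_mem_idealI' (hφ : φ' (Ideal.Quotient.mk _ f) = Ideal.Quotient.mk _ g) :
    g ^ c ∈ idealI' A f g c n φ' := by
  rw [mem_idealI']
  refine ⟨f ^ c, mem_idealI.mpr ⟨1, by rw [map_pow, mul_one]⟩, ?_⟩
  rw [map_pow, map_pow, hφ, map_pow]

theorem span_le_idealI' : Ideal.span {g ^ n} ≤ idealI' A f g c n φ' := by
  intro y hy
  rw [mem_idealI']
  refine ⟨0, Ideal.zero_mem _, ?_⟩
  rw [map_zero, map_zero]
  exact (Ideal.Quotient.eq_zero_iff_mem.mpr hy).symm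

theorem mul_mem_idealI' (hinj : Function.Injective (algebraMap A' A)) (hn : 2 * c ≤ n)
    (hA : ∀ a : A, ∃ x : A', algebraMap A' A x = algebraMap A' A f ^ c * a)
    (hφ : φ' (Ideal.Quotient.mk _ f) = Ideal.Quotient.mk _ g)
    {y y' : B'} (hy : y ∈ idealI' A f g c n φ') (hy' : y' ∈ idealI' A f g c n φ') :
    ∃ y'' ∈ idealI' A f g c n φ', y * y' = g ^ c * y'' := by
  obtain ⟨x, hx, hxy⟩ := (mem_idealI' f g c n φ').mp hy
  obtain ⟨x', hx', hxy'⟩ := (mem_idealI' f g c n φ').mp hy'
  obtain ⟨a, ha⟩ := mem_idealI.mp hx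
  obtain ⟨a', ha'⟩ := mem_idealI.mp hx'
  obtain ⟨x'', hx''⟩ := hA (a * a')
  have hxx : x * x' = f ^ c * x'' := by
    apply hinj
    rw [map_mul, map_mul, ha, ha', hx'', map_pow]
    ring
  obtain ⟨y₀, hy₀⟩ := Ideal.Quotient.mk_surjective (φ' (Ideal.Quotient.mk _ x''))
  have hy₀mem : y₀ ∈ idealI' A f g c n φ' :=
    (mem_idealI' f g c n φ').mpr ⟨x'', mem_idealI.mpr ⟨_, hx''⟩, hy₀.symm⟩
  have hyy : Ideal.Quotient.mk (Ideal.span {g ^ n}) (y * y') =
      Ideal.Quotient.mk _ (g ^ c * y₀) := by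
    have e := congrArg (fun z => φ' (Ideal.Quotient.mk (Ideal.span {f ^ n}) z)) hxx
    simp only [map_mul, map_pow, hxy, hxy', hφ, ← hy₀] at e
    rw [map_mul, map_mul, map_pow]
    exact e
  obtain ⟨t, ht⟩ := exists_add_of_mk_eq hyy
  have hn' : n = c + (c + (n - 2 * c)) := by omega
  refine ⟨y₀ + g ^ c * (g ^ (n - 2 * c) * t), ?_, ?_⟩
  · exact Ideal.add_mem _ hy₀mem (Ideal.mul_mem_right _ _ (pow_mem_idealI' hφ))
  · rw [ht]
    conv_lhs => rw [hn']
    ring


/-- standing hypotheses of the construction -/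
structure Setup (A : Type*) [CommRing A] [Algebra A' A] (f : A') (g : B') (c n : ℕ)
    (φ' : (A' ⧸ Ideal.span {f ^ n}) ≃+* (B' ⧸ Ideal.span {g ^ n})) : Prop where
  hinj : Function.Injective (algebraMap A' A)
  hf : algebraMap A' A f ∈ nonZeroDivisors A
  hg : g ∈ nonZeroDivisors B'
  hn : 2 * c + 1 ≤ n
  hA : ∀ a : A, ∃ x : A', algebraMap A' A x = algebraMap A' A f ^ c * a
  hφ : φ' (Ideal.Quotient.mk _ f) = Ideal.Quotient.mk _ g

theorem isUnit_pow (g : B') (c : ℕ) :
    IsUnit (algebraMap B' (Localization.Away g) g ^ c) :=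
  (IsLocalization.Away.algebraMap_isUnit g).pow c

/-- the transported extension, inside the localization -/
def Bsub (S : Setup A f g c n φ') : Subalgebra B' (Localization.Away g) where
  carrier := {z | ∃ y ∈ idealI' A f g c n φ',
    z * algebraMap B' (Localization.Away g) g ^ c = algebraMap B' (Localization.Away g) y}
  mul_mem' := by
    rintro z z' ⟨y, hy, hz⟩ ⟨y', hy', hz'⟩
    obtain ⟨y'', hy'', h⟩ := mul_mem_idealI' S.hinj (by have := S.hn; omega) S.hA S.hφ hy hy'
    refine ⟨y'', hy'', ?_⟩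
    apply (isUnit_pow g c).mul_left_injective
    change z * z' * algebraMap B' (Localization.Away g) g ^ c *
      algebraMap B' (Localization.Away g) g ^ c =
      algebraMap B' (Localization.Away g) y'' * algebraMap B' (Localization.Away g) g ^ c
    calc z * z' * algebraMap B' (Localization.Away g) g ^ c *
          algebraMap B' (Localization.Away g) g ^ c
        = (z * algebraMap B' (Localization.Away g) g ^ c) *
          (z' * algebraMap B' (Localization.Away g) g ^ c) := by ring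
      _ = algebraMap B' (Localization.Away g) (y * y') := by rw [hz, hz', map_mul]
      _ = algebraMap B' (Localization.Away g) y'' *
          algebraMap B' (Localization.Away g) g ^ c := by
        rw [h, map_mul, map_pow, mul_comm]
  one_mem' := ⟨g ^ c, pow_mem_idealI' S.hφ, by rw [one_mul, map_pow]⟩
  add_mem' := by
    rintro z z' ⟨y, hy, hz⟩ ⟨y', hy', hz'⟩
    exact ⟨y + y', Ideal.add_mem _ hy hy', by rw [add_mul, hz, hz', map_add]⟩
  zero_mem' := ⟨0, Ideal.zero_mem _, by rw [zero_mul, map_zero]⟩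
  algebraMap_mem' b := ⟨b * g ^ c, Ideal.mul_mem_left _ _ (pow_mem_idealI' S.hφ), by
    rw [map_mul, map_pow]⟩

theorem mem_Bsub (S : Setup A f g c n φ') {z : Localization.Away g} :
    z ∈ Bsub S ↔ ∃ y ∈ idealI' A f g c n φ',
      z * algebraMap B' (Localization.Away g) g ^ c = algebraMap B' (Localization.Away g) y :=
  Iff.rfl

theorem algebraMap_loc_injective (S : Setup A f g c n φ') :
    Function.Injective (algebraMap B' (Localization.Away g)) := by
  apply IsLocalization.injective (Localization.Away g) (M := Submonoid.powers g)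
  intro x hx
  obtain ⟨k, rfl⟩ := hx
  exact pow_mem S.hg k

theorem algebraMap_Bsub_injective (S : Setup A f g c n φ') :
    Function.Injective (algebraMap B' (Bsub S)) := by
  intro b b' h
  apply algebraMap_loc_injective S
  exact congrArg Subtype.val h

theorem algebraMap_Bsub_mem_nonZeroDivisors (S : Setup A f g c n φ') :
    algebraMap B' (Bsub S) g ∈ nonZeroDivisors (Bsub S) := by
  rw [mem_nonZeroDivisors_iff_right]
  intro z hz
  have h1 : (z : Localization.Away g) * algebraMap B' (Localization.Away g) g = 0 :=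
    congrArg Subtype.val hz
  apply Subtype.ext
  exact (IsLocalization.Away.algebraMap_isUnit g).mul_left_injective
    (by change (z : Localization.Away g) * _ = ((0 : Bsub S) : Localization.Away g) * _
        rw [h1]; exact (zero_mul _).symm)

/-- the element `y / g^c` of the extension -/
noncomputable def divPow (S : Setup A f g c n φ') (y : B') (hy : y ∈ idealI' A f g c n φ') :
    Bsub S :=
  ⟨algebraMap B' (Localization.Away g) y * IsLocalization.Away.invSelf g ^ c, y, hy, by
    rw [mul_assoc, ← mul_pow, mul_comm (IsLocalization.Away.invSelf g),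
      IsLocalization.Away.mul_invSelf, one_pow, mul_one]⟩

theorem divPow_spec (S : Setup A f g c n φ') (y : B') (hy : y ∈ idealI' A f g c n φ') :
    algebraMap B' (Bsub S) y = algebraMap B' (Bsub S) g ^ c * divPow S y hy := by
  apply Subtype.ext
  change algebraMap B' (Localization.Away g) y = algebraMap B' (Localization.Away g) g ^ c *
    (algebraMap B' (Localization.Away g) y * IsLocalization.Away.invSelf g ^ c)
  rw [mul_comm, mul_assoc, ← mul_pow, mul_comm (IsLocalization.Away.invSelf g),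
    IsLocalization.Away.mul_invSelf, one_pow, mul_one]

theorem exists_of_mem_Bsub (S : Setup A f g c n φ') (b : Bsub S) :
    ∃ y ∈ idealI' A f g c n φ', algebraMap B' (Bsub S) y = algebraMap B' (Bsub S) g ^ c * b := by
  obtain ⟨y, hy, hz⟩ := b.2
  refine ⟨y, hy, ?_⟩
  apply Subtype.ext
  change algebraMap B' (Localization.Away g) y = algebraMap B' (Localization.Away g) g ^ c * b.1
  rw [← hz, mul_comm]


theorem dataFwd (S : Setup A f g c n φ') :
    Data (algebraMap A' A) (algebraMap B' (Bsub S)) f g c n φ'.toRingHom where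
  hι := S.hinj
  hn := S.hn
  hA := S.hA
  hg := algebraMap_Bsub_mem_nonZeroDivisors S
  hψ := S.hφ
  hI := fun x a y hx hxy =>
    ⟨divPow S y ((mem_idealI' f g c n φ').mpr ⟨x, mem_idealI.mpr ⟨a, hx⟩, hxy⟩),
      divPow_spec S y _⟩

theorem dataBwd (S : Setup A f g c n φ') :
    Data (algebraMap B' (Bsub S)) (algebraMap A' A) g f c n φ'.symm.toRingHom where
  hι := algebraMap_Bsub_injective S
  hn := S.hn
  hA := fun b => by
    obtain ⟨y, _, h⟩ := exists_of_mem_Bsub S b
    exact ⟨y, h⟩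
  hg := S.hf
  hψ := by
    rw [← S.hφ]
    exact φ'.symm_apply_apply _
  hI := fun y b x hy hyx => by
    obtain ⟨y₁, hy₁mem, hy₁⟩ := exists_of_mem_Bsub S b
    have hyy : y = y₁ := algebraMap_Bsub_injective S (hy.trans hy₁.symm)
    subst hyy
    obtain ⟨x₁, hx₁, hx₁y⟩ := (mem_idealI' f g c n φ').mp hy₁mem
    obtain ⟨a₁, ha₁⟩ := mem_idealI.mp hx₁
    have hxx : Ideal.Quotient.mk (Ideal.span {f ^ n}) x = Ideal.Quotient.mk _ x₁ := by
      have h1 : φ'.symm (Ideal.Quotient.mk _ y) = Ideal.Quotient.mk _ x := hyx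
      rw [← h1, ← hx₁y]
      exact φ'.symm_apply_apply _
    obtain ⟨t, ht⟩ := exists_add_of_mk_eq hxx
    have hn' : n = c + (n - c) := by have := S.hn; omega
    refine ⟨a₁ + algebraMap A' A f ^ (n - c) * algebraMap A' A t, ?_⟩
    rw [ht, map_add, map_mul, map_pow, ha₁]
    conv_lhs => rw [hn']
    ring

/-- the isomorphism `A/f ≅ B/g` -/
noncomputable def equiv (S : Setup A f g c n φ') :
    (A ⧸ Ideal.span {algebraMap A' A f}) ≃+*
      (Bsub S ⧸ Ideal.span {algebraMap B' (Bsub S) g}) :=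
  RingEquiv.ofRingHom (dataFwd S).hom (dataBwd S).hom
    (by
      apply Ideal.Quotient.ringHom_ext
      apply RingHom.ext
      intro b
      obtain ⟨y, x, a, h1, h2, h3, h4⟩ := (dataBwd S).exists_of_hom b
      change (dataFwd S).hom ((dataBwd S).hom (Ideal.Quotient.mk _ b)) = Ideal.Quotient.mk _ b
      rw [h4]
      refine (dataFwd S).hom_eq a x y b h3 ?_ h1
      have h2' : φ'.symm (Ideal.Quotient.mk _ y) = Ideal.Quotient.mk _ x := h2
      change φ' (Ideal.Quotient.mk _ x) = Ideal.Quotient.mk _ y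
      rw [← h2']
      exact φ'.apply_symm_apply _)
    (by
      apply Ideal.Quotient.ringHom_ext
      apply RingHom.ext
      intro a
      obtain ⟨x, y, b, h1, h2, h3, h4⟩ := (dataFwd S).exists_of_hom a
      change (dataBwd S).hom ((dataFwd S).hom (Ideal.Quotient.mk _ a)) = Ideal.Quotient.mk _ a
      rw [h4]
      refine (dataBwd S).hom_eq b y x a h3 ?_ h1
      have h2' : φ' (Ideal.Quotient.mk _ x) = Ideal.Quotient.mk _ y := h2
      change φ'.symm (Ideal.Quotient.mk _ y) = Ideal.Quotient.mk _ x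
      rw [← h2']
      exact φ'.symm_apply_apply _)

theorem equiv_compat (S : Setup A f g c n φ') (a' : A') (b' : B')
    (h : φ' (Ideal.Quotient.mk _ a') = Ideal.Quotient.mk _ b') :
    equiv S (Ideal.Quotient.mk _ (algebraMap A' A a')) =
      Ideal.Quotient.mk _ (algebraMap B' (Bsub S) b') := by
  change (dataFwd S).hom (Ideal.Quotient.mk _ (algebraMap A' A a')) = _
  refine (dataFwd S).hom_eq (algebraMap A' A a') (f ^ c * a') (g ^ c * b')
    (algebraMap B' (Bsub S) b') ?_ ?_ ?_
  · rw [map_mul, map_pow]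
  · change φ' (Ideal.Quotient.mk _ (f ^ c * a')) = Ideal.Quotient.mk _ (g ^ c * b')
    rw [map_mul, map_mul, map_pow, map_pow, S.hφ, h, map_mul, map_pow]
  · rw [map_mul, map_pow]

/-- division by `f^c` as a linear map -/
noncomputable def theta (S : Setup A f g c n φ') : A →ₗ[A'] A' where
  toFun a := Classical.choose (S.hA a)
  map_add' a a' := S.hinj (by
    rw [map_add, Classical.choose_spec (S.hA a), Classical.choose_spec (S.hA a'),
      Classical.choose_spec (S.hA (a + a')), mul_add])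
  map_smul' α a := S.hinj (by
    rw [Classical.choose_spec (S.hA (α • a)), RingHom.id_apply, smul_eq_mul, map_mul,
      Classical.choose_spec (S.hA a), Algebra.smul_def]
    ring)

theorem theta_spec (S : Setup A f g c n φ') (a : A) :
    algebraMap A' A (theta S a) = algebraMap A' A f ^ c * a :=
  Classical.choose_spec (S.hA a)

theorem idealI_fg (S : Setup A f g c n φ') [Module.Finite A' A] : (idealI A f c).FG := by
  have hrange : LinearMap.range (theta S) = idealI A f c := by
    ext x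
    rw [LinearMap.mem_range, mem_idealI]
    constructor
    · rintro ⟨a, rfl⟩
      exact ⟨a, theta_spec S a⟩
    · rintro ⟨a, ha⟩
      exact ⟨a, S.hinj ((theta_spec S a).trans ha.symm)⟩
  rw [← hrange, LinearMap.range_eq_map]
  exact (Module.Finite.fg_top).map (theta S)

theorem idealI'_fg (S : Setup A f g c n φ') [Module.Finite A' A] :
    (idealI' A f g c n φ').FG := by
  apply Ideal.fg_of_fg_map_of_fg_inf_ker_of_surjective (f := Ideal.Quotient.mk (Ideal.span {g ^ n}))
    _ _ Ideal.Quotient.mk_surjective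
  · rw [idealI', Ideal.map_comap_of_surjective _ Ideal.Quotient.mk_surjective]
    exact (idealI_fg S).map _
  · rw [Ideal.mk_ker, inf_eq_right.mpr span_le_idealI']
    exact Submodule.fg_span_singleton _

/-- division by `g^c` as a linear map onto the extension -/
noncomputable def divLin (S : Setup A f g c n φ') : idealI' A f g c n φ' →ₗ[B'] Bsub S where
  toFun y := divPow S y.1 y.2
  map_add' y y' := Subtype.ext (by
    change algebraMap B' (Localization.Away g) (y.1 + y'.1) * _ =
      algebraMap B' (Localization.Away g) y.1 * _ + algebraMap B' (Localization.Away g) y'.1 * _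
    rw [map_add, add_mul])
  map_smul' r y := Subtype.ext (by
    change algebraMap B' (Localization.Away g) (r * y.1) * _ =
      r • (algebraMap B' (Localization.Away g) y.1 * _)
    rw [map_mul, Algebra.smul_def, mul_assoc])

theorem divLin_surjective (S : Setup A f g c n φ') : Function.Surjective (divLin S) := by
  intro b
  obtain ⟨y, hy, hz⟩ := b.2
  refine ⟨⟨y, hy⟩, Subtype.ext ?_⟩
  change algebraMap B' (Localization.Away g) y * IsLocalization.Away.invSelf g ^ c = b.1
  rw [← hz, mul_assoc, ← mul_pow, IsLocalization.Away.mul_invSelf, one_pow, mul_one]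

theorem finite_Bsub (S : Setup A f g c n φ') [Module.Finite A' A] : Module.Finite B' (Bsub S) := by
  have : Module.Finite B' (idealI' A f g c n φ') := Module.Finite.iff_fg.mpr (idealI'_fg S)
  exact Module.Finite.of_surjective (divLin S) (divLin_surjective S)

end Construct


section Conductor

variable {A' A : Type*} [CommRing A'] [CommRing A] [Algebra A' A]

/-- elements whose `f^m`-multiple comes from `A'` -/
def condSub (A : Type*) [CommRing A] [Algebra A' A] (f : A') (m : ℕ) : Submodule A' A where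
  carrier := {a | ∃ x : A', algebraMap A' A x = algebraMap A' A f ^ m * a}
  add_mem' := by
    rintro a a' ⟨x, hx⟩ ⟨x', hx'⟩
    exact ⟨x + x', by rw [map_add, hx, hx', mul_add]⟩
  zero_mem' := ⟨0, by rw [map_zero, mul_zero]⟩
  smul_mem' := by
    rintro α a ⟨x, hx⟩
    exact ⟨α * x, by rw [map_mul, hx, Algebra.smul_def]; ring⟩

theorem condSub_mono (f : A') {m m' : ℕ} (h : m ≤ m') : condSub A f m ≤ condSub A f m' := by
  rintro a ⟨x, hx⟩
  refine ⟨f ^ (m' - m) * x, ?_⟩
  rw [map_mul, hx, map_pow, ← mul_assoc, ← pow_add, Nat.sub_add_cancel h]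

theorem exists_mem_condSub (f : A') (hf : algebraMap A' A f ∈ nonZeroDivisors A)
    (hloc : Function.Surjective (IsLocalization.Away.map (Localization.Away f)
      (Localization.Away (algebraMap A' A f)) (algebraMap A' A) f)) (a : A) :
    ∃ m, a ∈ condSub A f m := by
  obtain ⟨w, hw⟩ := hloc (algebraMap A (Localization.Away (algebraMap A' A f)) a)
  obtain ⟨m, x, hx⟩ := IsLocalization.Away.surj f w
  refine ⟨m, x, ?_⟩
  have h1 := congrArg (IsLocalization.Away.map (Localization.Away f)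
      (Localization.Away (algebraMap A' A f)) (algebraMap A' A) f) hx
  rw [map_mul, map_pow, hw, IsLocalization.Away.map, IsLocalization.map_eq,
    IsLocalization.map_eq, ← map_pow, ← map_mul] at h1
  obtain ⟨s, hs⟩ := (IsLocalization.eq_iff_exists
    (Submonoid.powers (algebraMap A' A f)) _).mp h1
  obtain ⟨k, hk⟩ := s.2
  have hnz : (s : A) ∈ nonZeroDivisors A := by rw [← hk]; exact pow_mem hf k
  have := (mul_cancel_left_mem_nonZeroDivisors hnz).mp hs
  rw [← this, mul_comm]

theorem exists_pow [Module.Finite A' A] (f : A') (hf : algebraMap A' A f ∈ nonZeroDivisors A)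
    (hloc : Function.Surjective (IsLocalization.Away.map (Localization.Away f)
      (Localization.Away (algebraMap A' A f)) (algebraMap A' A) f)) :
    ∃ c : ℕ, ∀ a : A, ∃ x : A', algebraMap A' A x = algebraMap A' A f ^ c * a := by
  obtain ⟨S, hS⟩ := (Module.Finite.fg_top : (⊤ : Submodule A' A).FG)
  choose m hm using exists_mem_condSub f hf hloc
  refine ⟨S.sup m, fun a => ?_⟩
  have hle : Submodule.span A' (S : Set A) ≤ condSub A f (S.sup m) := by
    rw [Submodule.span_le]
    intro s hs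
    exact condSub_mono f (Finset.le_sup hs) (hm s)
  rw [hS] at hle
  exact hle (Submodule.mem_top : a ∈ ⊤)

end Conductor

end Groth.Agent.Lib.T2H9.LiftQuot
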