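import Mathlib
import Groth.Agent.Lib.T2H9GE7
import Groth.Agent.Lib.Helper14InvLim
import Groth.Agent.Lib.Helper18OmLS15
import Groth.Agent.Lib.Helper23Serre

/-!
Limits of towers of O_X-modules: sections of limit G over an open are the compatible families (limit_sec_ext, limit_sec_exists); a morphism of modules is a quotient by J as soon as it is so on sections over all affine opens, without quasi-coherence of the source (isQuotBy_of_affine_basis); for a quasi-coherent formal system and a finitely generated ideal, the projection from the limit module to the n-th term is the quotient by I^(n+1) (isQuotBy_limitπ, S0852).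
-/

set_option autoImplicit false
set_option linter.style.haveILetI false
set_option linter.unusedSectionVars false
set_option linter.unusedVariables false
universe u
open CategoryTheory CategoryTheory.Limits Opposite AlgebraicGeometry TopologicalSpace

namespace Groth.Agent.Lib.T2H9.Lim1

variable {X : Scheme.{u}}

section sections

variable (G : ℕᵒᵖ ⥤ X.Modules) (U : X.Opens)

/-- the cone of sections over `U` of the limit cone, in types, is a limit cone -/
noncomputable def secIsLimit :
    IsLimit (((SheafOfModules.evaluation X.ringCatSheaf (op U)) ⋙ forget _).mapCone (limit.cone G)) :=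
  isLimitOfPreserves _ (limit.isLimit G)

theorem limit_sec_ext (x y : Γ(limit G, U))
    (h : ∀ n, (limit.π G (op n)).app U x = (limit.π G (op n)).app U y) : x = y := by
  refine Concrete.isLimit_ext _ (secIsLimit G U) x y ?_
  intro j
  exact h j.unop

theorem map_le_app (y : ∀ n, Γ(G.obj (op n), U))
    (hy : ∀ n, (G.map (homOfLE (Nat.le_succ n)).op).app U (y (n + 1)) = y n) (n m : ℕ) (h : n ≤ m) :
    (G.map (homOfLE h).op).app U (y m) = y n := by
  induction m, h using Nat.le_induction with
  | base =>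
    have : (homOfLE (le_refl n)).op = 𝟙 (op n) := rfl
    rw [this, G.map_id]
    rfl
  | succ m h ih =>
    have : (homOfLE (h.trans (Nat.le_succ m))).op =
        (homOfLE (Nat.le_succ m)).op ≫ (homOfLE h).op := rfl
    rw [this, G.map_comp]
    change (G.map (homOfLE h).op).app U ((G.map (homOfLE (Nat.le_succ m)).op).app U (y (m + 1))) = _
    rw [hy, ih]

theorem limit_sec_exists (y : ∀ n, Γ(G.obj (op n), U))
    (hy : ∀ n, (G.map (homOfLE (Nat.le_succ n)).op).app U (y (n + 1)) = y n) :
    ∃ x : Γ(limit G, U), ∀ n, (limit.π G (op n)).app U x = y n := by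
  let s : ((G ⋙ (SheafOfModules.evaluation X.ringCatSheaf (op U)) ⋙ forget _)).sections :=
    ⟨fun j => y j.unop, by
      intro j j' f
      have h : j'.unop ≤ j.unop := leOfHom f.unop
      have : f = (homOfLE h).op := rfl
      rw [this]
      exact map_le_app G U y hy _ _ h⟩
  refine ⟨(Types.isLimitEquivSections (secIsLimit G U)).symm s, fun n => ?_⟩
  exact Types.isLimitEquivSections_symm_apply (secIsLimit G U) s (op n)

end sections

section QB

open Groth.Agent.Lib.T2H2.AlgzB Groth.Agent.Lib.T2H9.FFGeom Groth.Agent.Lib.T2H9.GE2 Groth.Agent.S9530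

variable {A : Type u} [CommRing A] [X.Over (Spec (CommRingCat.of A))]

/-- a map killing `J • M` kills the sections in `(J Γ(X,U)) • Γ(M,U)` -/
theorem app_eq_zero_of_mem_smul (J : Ideal A) {M T : X.Modules} (g : M ⟶ T)
    (hg : ∀ a ∈ J, Formal.smulMod A M a ≫ g = 0) (U : X.Opens) (m : Γ(M, U))
    (hm : m ∈ ((J.map (ρU X U)) • ⊤ : Submodule Γ(X, U) Γ(M, U))) : g.app U m = 0 := by
  have key : ∀ a ∈ J.map (ρU X U), ∀ m : Γ(M, U), g.app U (a • m) = 0 := by
    intro a ha
    refine Submodule.span_induction (p := fun a _ => ∀ m : Γ(M, U), g.app U (a • m) = 0) ?_ ?_ ?_ ?_ ha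
    · rintro _ ⟨b, hb, rfl⟩ m
      have h1 : (Formal.smulMod A M b ≫ g).app U m = 0 := by rw [hg b hb]; rfl
      exact h1
    · intro m
      rw [zero_smul, map_zero]
    · intro a₁ a₂ _ _ h₁ h₂ m
      rw [add_smul, map_add, h₁ m, h₂ m, add_zero]
    · intro r a₁ _ h₁ m
      rw [smul_eq_mul, mul_comm, mul_smul, h₁]
  refine Submodule.smul_induction_on hm (fun a ha m _ => key a ha m) (fun x y hx hy => ?_)
  rw [map_add, hx, hy, add_zero]

/-- a morphism of modules (no quasi-coherence assumed) is a quotient by `J` as soon as it is so on the sections over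
all affine opens -/
theorem isQuotBy_of_affine_basis (J : Ideal A) {M N : X.Modules} (t : M ⟶ N)
    (hkill : ∀ a ∈ J, Formal.smulMod A M a ≫ t = 0)
    (hsurj : ∀ U : X.affineOpens, Function.Surjective (t.app U.1))
    (hker : ∀ U : X.affineOpens, ∀ m : Γ(M, U.1), t.app U.1 m = 0 →
      m ∈ ((J.map (ρU X U.1)) • ⊤ : Submodule Γ(X, U.1) Γ(M, U.1))) :
    IsQuotBy J t := by
  have hepi : Epi t := by
    apply Groth.Agent.Lib.Helper23.Serre.epi_of_locally_surjective
    intro V s x hx
    obtain ⟨_, ⟨V', hV', rfl⟩, hxV', hle⟩ :=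
      X.isBasis_affineOpens.exists_subset_of_mem_open hx V.isOpen
    obtain ⟨s', hs'⟩ := hsurj ⟨V', hV'⟩ (N.presheaf.map (homOfLE hle).op s)
    exact ⟨V', hle, hxV', s', hs'⟩
  refine ⟨hepi, hkill, fun T g hg => ?_⟩
  have hz : kernel.ι t ≫ g = 0 := by
    refine Groth.Agent.Helper18OmLS.hom_ext_basis _ 0 _ X.isBasis_affineOpens ?_
    intro U hU k
    have h1 : t.app U ((kernel.ι t).app U k) = 0 := by
      change (kernel.ι t ≫ t).app U k = 0
      rw [kernel.condition]
      rfl
    exact app_eq_zero_of_mem_smul J g hg U _ (hker ⟨U, hU⟩ _ h1)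
  have hc := Abelian.epiIsCokernelOfKernel _ (kernelIsKernel t)
  exact ⟨hc.desc (CokernelCofork.ofπ g hz), hc.fac _ WalkingParallelPair.one⟩

end QB

section formal

open Groth.Agent.Lib.T2H2.AlgzB Groth.Agent.Lib.T2H9.FFGeom Groth.Agent.Lib.T2H9.GE2 Groth.Agent.S9530

variable {A : Type u} [CommRing A] [X.Over (Spec (CommRingCat.of A))] (I : Ideal A) (G : ℕᵒᵖ ⥤ X.Modules)

theorem isQCohFormal_iff : Formal2.IsQCohFormal I G ↔ (∀ n, (G.obj (op n)).IsQuasicoherent) ∧
      (∀ n, Formal.KilledBy (I ^ (n + 1)) (G.obj (op n))) ∧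
      ∀ n, IsQuotBy (I ^ (n + 1)) (G.map (homOfLE (Nat.le_succ n)).op) := by
  unfold Formal2.IsQCohFormal
  refine and_congr Iff.rfl (and_congr Iff.rfl (forall_congr' fun n => ?_))
  exact (isQuotBy_iff _ _).symm

variable (hG : Formal2.IsQCohFormal I G) (U : X.affineOpens)

/-- transition maps on sections, as linear maps -/
noncomputable abbrev fU (n : ℕ) : Γ(G.obj (op (n + 1)), U.1) →ₗ[Γ(X, U.1)] Γ(G.obj (op n), U.1) :=
  appL (G.map (homOfLE (Nat.le_succ n)).op) U.1

/-- projections on sections, as linear maps -/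
noncomputable abbrev πU (n : ℕ) : Γ(limit G, U.1) →ₗ[Γ(X, U.1)] Γ(G.obj (op n), U.1) :=
  appL (limit.π G (op n)) U.1

include hG in
theorem fU_surjective (n : ℕ) : Function.Surjective (fU G U n) := by
  obtain ⟨h1, h2, h3⟩ := (isQCohFormal_iff I G).1 hG
  haveI := h1 n
  haveI := h1 (n + 1)
  haveI := (h3 n).epi
  exact Groth.Agent.Lib.Helper23.FinType.surjective_app_of_epi _ U.2

include hG in
theorem fU_ker (n : ℕ) : LinearMap.ker (fU G U n) =
    ((I.map (ρU X U.1)) ^ (n + 1) • ⊤ : Submodule Γ(X, U.1) Γ(G.obj (op (n + 1)), U.1)) := by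
  obtain ⟨h1, h2, h3⟩ := (isQCohFormal_iff I G).1 hG
  haveI := h1 (n + 1)
  rw [← Ideal.map_pow]
  exact ker_app_of_isQuotBy (I ^ (n + 1)) _ (h3 n) U

theorem fU_comp_πU (n : ℕ) : fU G U n ∘ₗ πU G U (n + 1) = πU G U n := by
  ext x
  change (limit.π G (op (n + 1)) ≫ G.map (homOfLE (Nat.le_succ n)).op).app U.1 x = _
  rw [limit.w]
  rfl

theorem πU_inj (x : Γ(limit G, U.1)) (h : ∀ n, πU G U n x = 0) : x = 0 := by
  refine limit_sec_ext G U.1 x 0 fun n => ?_
  rw [map_zero]
  exact h n

theorem πU_lift (y : ∀ n, Γ(G.obj (op n), U.1)) (hy : ∀ n, fU G U n (y (n + 1)) = y n) :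
    ∃ x : Γ(limit G, U.1), ∀ n, πU G U n x = y n :=
  limit_sec_exists G U.1 y hy

include hG in
theorem πU_surjective (n : ℕ) : Function.Surjective (πU G U n) :=
  Groth.Agent.Lib.Helper14.proj_surjective (fU G U) (πU G U) (fU_surjective I G hG U) (πU_lift G U) n

include hG in
theorem πU_ker (hI : I.FG) (n : ℕ) : LinearMap.ker (πU G U n) =
    ((I.map (ρU X U.1)) ^ (n + 1) • ⊤ : Submodule Γ(X, U.1) Γ(limit G, U.1)) :=
  Groth.Agent.Lib.Helper14.ker_eq_pow_smul_top (I.map (ρU X U.1)) (fU G U) (πU G U) (hI.map _)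
    (fU_surjective I G hG U) (fU_ker I G hG U) (fU_comp_πU G U) (πU_inj G U) (πU_lift G U) n

include hG in
/-- **S0852**: the projection from the limit is the quotient by `I ^ (n + 1)` -/
theorem isQuotBy_limitπ (hI : I.FG) (n : ℕ) : IsQuotBy (I ^ (n + 1)) (limit.π G (op n)) := by
  obtain ⟨h1, h2, h3⟩ := (isQCohFormal_iff I G).1 hG
  refine isQuotBy_of_affine_basis (I ^ (n + 1)) _ (fun a ha => ?_) (fun U => πU_surjective I G hG U n)
    (fun U m hm => ?_)
  · rw [smulMod_comp, h2 n a ha, comp_zero]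
  · rw [Ideal.map_pow, ← πU_ker I G hG U hI n]
    exact hm

end formal

end Groth.Agent.Lib.T2H9.Lim1
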