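import Mathlib
import Groth.Agent.Lib.T2H9Lim1

/-!
The f-torsion-free limit of a tower (S8830): algebra of towers M_n with inclusions i_n : M_n → M_{n+1}, i_n τ_n = f, and 0 → M_n → M_{n+1} → M_0 → 0 exact (τ_surjective, ker_τ, smul_injective); for a tower of quasi-coherent modules with these properties the limit module F has f injective and F/f^(n+1)F = G_n (isQuotBy_limitπ', mono_smulMod_limit, s8830).
-/

set_option autoImplicit false
set_option linter.style.haveILetI false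
set_option linter.unusedSectionVars false
set_option linter.unusedVariables false
universe u v
open CategoryTheory CategoryTheory.Limits Opposite AlgebraicGeometry TopologicalSpace

namespace Groth.Agent.Lib.T2H9.Lim2

section alg

variable {R : Type u} [CommRing R] (f : R) {M : ℕ → Type v} [∀ n, AddCommGroup (M n)] [∀ n, Module R (M n)]
  (τ : ∀ n, M (n + 1) →ₗ[R] M n) (i : ∀ n, M n →ₗ[R] M (n + 1)) (σ : ∀ n, M (n + 1) →ₗ[R] M 0)
  (hi : ∀ n, Function.Injective (i n)) (hiτ : ∀ n (x : M (n + 1)), i n (τ n x) = f • x)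
  (hσ0 : σ 0 = τ 0) (hσs : ∀ n (x : M (n + 2)), σ (n + 1) x = σ n (τ (n + 1) x))
  (hex : ∀ n (x : M (n + 1)), σ n x = 0 ↔ ∃ y, i n y = x) (hσ : ∀ n, Function.Surjective (σ n))

include hi hiτ in
theorem τi (n : ℕ) (x : M n) : τ n (i n x) = f • x := by
  apply hi n
  rw [hiτ, map_smul]

include hi hiτ hσ0 hex in
theorem pow_kill : ∀ (n : ℕ) (x : M n), f ^ (n + 1) • x = 0 := by
  intro n
  induction n with
  | zero =>
    intro x
    rw [zero_add, pow_one, ← τi f τ i hi hiτ 0 x, ← hσ0]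
    exact (hex 0 _).2 ⟨x, rfl⟩
  | succ n ih =>
    intro x
    rw [pow_succ, mul_smul, ← hiτ, ← map_smul, ih, map_zero]

include hi hiτ hσ0 hσs hex hσ in
theorem τ_surjective : ∀ n, Function.Surjective (τ n) := by
  intro n
  induction n with
  | zero =>
    rw [← hσ0]
    exact hσ 0
  | succ n ih =>
    have step : ∀ y : M (n + 1), ∃ (z : M (n + 2)) (w : M (n + 1)), y = τ (n + 1) z + f • w := by
      intro y
      obtain ⟨z, hz⟩ := hσ (n + 1) (σ n y)
      have h0 : σ n (y - τ (n + 1) z) = 0 := by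
        rw [map_sub, ← hσs, hz, sub_self]
      obtain ⟨v, hv⟩ := (hex n _).1 h0
      obtain ⟨w, rfl⟩ := ih v
      refine ⟨z, w, ?_⟩
      rw [← hiτ, hv]
      abel
    have P : ∀ (k : ℕ) (y : M (n + 1)), ∃ (z : M (n + 2)) (w : M (n + 1)), y = τ (n + 1) z + f ^ k • w := by
      intro k
      induction k with
      | zero => exact fun y => ⟨0, y, by simp⟩
      | succ k ihk =>
        intro y
        obtain ⟨z, w, rfl⟩ := ihk y
        obtain ⟨z', w', rfl⟩ := step w
        refine ⟨z + f ^ k • z', w', ?_⟩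
        rw [map_add, map_smul, smul_add, pow_succ, mul_smul]
        abel
    intro y
    obtain ⟨z, w, rfl⟩ := P (n + 2) y
    exact ⟨z, by rw [pow_kill f τ i σ hi hiτ hσ0 hex (n + 1) w, add_zero]⟩

/-- the iterated inclusion `M 0 → M (n + 1)` -/
def jj : ∀ n, M 0 →ₗ[R] M (n + 1)
  | 0 => i 0
  | n + 1 => (i (n + 1)).comp (jj n)

include hiτ hσ0 hσs in
theorem jj_σ : ∀ (n : ℕ) (y : M (n + 1)), jj i n (σ n y) = f ^ (n + 1) • y := by
  intro n
  induction n with
  | zero =>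
    intro y
    rw [hσ0]
    have : f ^ (0 + 1) • y = f • y := by rw [pow_one]
    rw [this]
    exact hiτ 0 y
  | succ n ih =>
    intro y
    change i (n + 1) (jj i n (σ (n + 1) y)) = _
    rw [hσs, ih, map_smul, hiτ, pow_succ (n := n + 1), mul_smul]

include hi hiτ hσ0 hσs hex in
theorem ker_τ_le : ∀ (n : ℕ) (x : M (n + 1)), τ n x = 0 → ∃ z, jj i n z = x := by
  intro n
  induction n with
  | zero =>
    intro x hx
    rw [← hσ0] at hx
    exact (hex 0 x).1 hx
  | succ n ih =>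
    intro x hx
    have h0 : σ (n + 1) x = 0 := by rw [hσs, hx, map_zero]
    obtain ⟨y, rfl⟩ := (hex (n + 1) x).1 h0
    rw [τi f τ i hi hiτ] at hx
    have h1 : τ n y = 0 := by
      apply hi n
      rw [hiτ, hx, map_zero]
    obtain ⟨z, rfl⟩ := ih y h1
    exact ⟨z, rfl⟩

include hi hiτ hσ0 hσs hex hσ in
theorem ker_τ (n : ℕ) : LinearMap.ker (τ n) = (Ideal.span {f}) ^ (n + 1) • (⊤ : Submodule R (M (n + 1))) := by
  rw [Ideal.span_singleton_pow, Submodule.ideal_span_singleton_smul]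
  ext x
  rw [LinearMap.mem_ker, Submodule.mem_smul_pointwise_iff_exists]
  constructor
  · intro hx
    obtain ⟨z, rfl⟩ := ker_τ_le f τ i σ hi hiτ hσ0 hσs hex n x hx
    obtain ⟨y, rfl⟩ := hσ n z
    exact ⟨y, trivial, (jj_σ f τ i σ hiτ hσ0 hσs n y).symm⟩
  · rintro ⟨y, -, rfl⟩
    rw [map_smul, pow_kill f τ i σ hi hiτ hσ0 hex n]

variable {L : Type v} [AddCommGroup L] [Module R L] (π : ∀ n, L →ₗ[R] M n)
  (hπ : ∀ n (x : L), τ n (π (n + 1) x) = π n x) (hinj : ∀ x : L, (∀ n, π n x = 0) → x = 0)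

include hi hiτ hπ hinj in
theorem smul_injective (x : L) (hx : f • x = 0) : x = 0 := by
  refine hinj x fun n => ?_
  rw [← hπ]
  apply hi n
  rw [hiτ, ← map_smul, hx, map_zero, map_zero]

end alg

section geom

open Groth.Agent.Lib.T2H2.AlgzB Groth.Agent.Lib.T2H9.FFGeom Groth.Agent.Lib.T2H9.GE2 Groth.Agent.S9530
  Groth.Agent.Lib.T2H9.Lim1 Groth.Agent.Lib.T2H9.GE7

variable {A : Type u} [CommRing A] {X : Scheme.{u}} [X.Over (Spec (CommRingCat.of A))] (f : A)
  (G : ℕᵒᵖ ⥤ X.Modules) (hqc : ∀ n : ℕ, (G.obj (op n)).IsQuasicoherent)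
  (ι : ∀ n : ℕ, G.obj (op n) ⟶ G.obj (op (n + 1))) (hι : ∀ n, Mono (ι n))
  (hιf : ∀ n, G.map (homOfLE (Nat.le_succ n)).op ≫ ι n = Formal.smulMod A (G.obj (op (n + 1))) f)
  (w : ∀ n, ι n ≫ G.map (homOfLE (Nat.zero_le (n + 1))).op = 0)
  (hS : ∀ n, (ShortComplex.mk (ι n) (G.map (homOfLE (Nat.zero_le (n + 1))).op) (w n)).ShortExact)

include hι hιf in
theorem ι_trans (n : ℕ) : ι n ≫ G.map (homOfLE (Nat.le_succ n)).op = Formal.smulMod A (G.obj (op n)) f := by
  haveI := hι n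
  rw [← cancel_mono (ι n), Category.assoc, hιf, smulMod_comp]

include hι hιf w in
theorem smulMod_pow_eq_zero : ∀ n : ℕ, Formal.smulMod A (G.obj (op n)) (f ^ (n + 1)) = 0 := by
  intro n
  induction n with
  | zero =>
    rw [zero_add, pow_one, ← ι_trans f G ι hι hιf 0]
    exact w 0
  | succ n ih =>
    rw [pow_succ, Groth.Agent.Lib.T2H9.ModPow.smulMod_mul, ← hιf, Category.assoc, ← smulMod_comp, ih,
      zero_comp, comp_zero]

include hι hιf w in
theorem killedBy_obj (n : ℕ) : Formal.KilledBy ((Ideal.span {f}) ^ (n + 1)) (G.obj (op n)) := by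
  intro a ha
  rw [Ideal.span_singleton_pow, Ideal.mem_span_singleton'] at ha
  obtain ⟨r, rfl⟩ := ha
  rw [Groth.Agent.Lib.T2H9.ModPow.smulMod_mul, smulMod_pow_eq_zero f G ι hι hιf w n, zero_comp]

variable (U : X.affineOpens)

/-- the inclusions on sections -/
noncomputable abbrev iU (n : ℕ) : Γ(G.obj (op n), U.1) →ₗ[Γ(X, U.1)] Γ(G.obj (op (n + 1)), U.1) :=
  appL (ι n) U.1

/-- the projections to the first term on sections -/
noncomputable abbrev σU (n : ℕ) : Γ(G.obj (op (n + 1)), U.1) →ₗ[Γ(X, U.1)] Γ(G.obj (op 0), U.1) :=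
  appL (G.map (homOfLE (Nat.zero_le (n + 1))).op) U.1

include hι in
theorem iU_injective (n : ℕ) : Function.Injective (iU G ι U n) := by
  haveI := hι n
  exact Groth.Agent.Lib.Helper20.StalkExact.injective_app_of_mono (ι n) U.1

include hιf in
theorem iU_fU (n : ℕ) (x : Γ(G.obj (op (n + 1)), U.1)) :
    iU G ι U n (fU G U n x) = (ρU X U.1 f : Γ(X, U.1)) • x := by
  change (G.map (homOfLE (Nat.le_succ n)).op ≫ ι n).app U.1 x = _
  rw [hιf]
  rfl

theorem σU_zero : σU G U 0 = fU G U 0 := rfl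

theorem σU_succ (n : ℕ) (x : Γ(G.obj (op (n + 2)), U.1)) :
    σU G U (n + 1) x = σU G U n (fU G U (n + 1) x) := by
  change (G.map (homOfLE (Nat.zero_le (n + 1 + 1))).op).app U.1 x =
    (G.map (homOfLE (Nat.le_succ (n + 1))).op ≫ G.map (homOfLE (Nat.zero_le (n + 1))).op).app U.1 x
  rw [← G.map_comp]
  rfl

include hS in
theorem σU_exact (n : ℕ) (x : Γ(G.obj (op (n + 1)), U.1)) :
    σU G U n x = 0 ↔ ∃ y, iU G ι U n y = x := by
  constructor
  · intro hx
    exact Groth.Agent.Lib.Helper20.StalkExact.exists_app_eq_of_exact _ (hS n) U.1 x hx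
  · rintro ⟨y, rfl⟩
    change (ι n ≫ G.map (homOfLE (Nat.zero_le (n + 1))).op).app U.1 y = 0
    rw [w n]
    rfl

include hqc hS in
theorem σU_surjective (n : ℕ) : Function.Surjective (σU G U n) := by
  haveI := hqc (n + 1)
  haveI := hqc 0
  haveI : Epi (G.map (homOfLE (Nat.zero_le (n + 1))).op) := (hS n).epi_g
  exact Groth.Agent.Lib.Helper23.FinType.surjective_app_of_epi _ U.2

include hqc hι hιf hS in
theorem fU_surjective' (n : ℕ) : Function.Surjective (fU G U n) :=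
  τ_surjective (ρU X U.1 f) (fU G U) (iU G ι U) (σU G U) (iU_injective G ι hι U) (iU_fU f G ι hιf U)
    (σU_zero G U) (σU_succ G U) (σU_exact G ι w hS U) (σU_surjective G hqc ι w hS U) n

include hqc hι hιf hS in
theorem fU_ker' (n : ℕ) : LinearMap.ker (fU G U n) =
    (((Ideal.span {f}).map (ρU X U.1)) ^ (n + 1) • ⊤ : Submodule Γ(X, U.1) Γ(G.obj (op (n + 1)), U.1)) := by
  rw [Ideal.map_span, Set.image_singleton]
  exact ker_τ (ρU X U.1 f) (fU G U) (iU G ι U) (σU G U) (iU_injective G ι hι U) (iU_fU f G ι hιf U)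
    (σU_zero G U) (σU_succ G U) (σU_exact G ι w hS U) (σU_surjective G hqc ι w hS U) n

include hqc hι hιf hS in
theorem isQuotBy_limitπ' (n : ℕ) : IsQuotBy ((Ideal.span {f}) ^ (n + 1)) (limit.π G (op n)) := by
  refine isQuotBy_of_affine_basis ((Ideal.span {f}) ^ (n + 1)) _ (fun a ha => ?_) (fun U => ?_)
    (fun U m hm => ?_)
  · rw [smulMod_comp, killedBy_obj f G ι hι hιf w n a ha, comp_zero]
  · exact Groth.Agent.Lib.Helper14.proj_surjective (fU G U) (πU G U) (fU_surjective' f G hqc ι hι hιf w hS U)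
      (πU_lift G U) n
  · rw [Ideal.map_pow, ← Groth.Agent.Lib.Helper14.ker_eq_pow_smul_top ((Ideal.span {f}).map (ρU X U.1))
      (fU G U) (πU G U) (Ideal.FG.map (⟨{f}, by simp⟩ : (Ideal.span ({f} : Set A)).FG) _) (fU_surjective' f G hqc ι hι hιf w hS U)
      (fU_ker' f G hqc ι hι hιf w hS U) (fU_comp_πU G U) (πU_inj G U) (πU_lift G U) n]
    exact hm

include hι hιf in
theorem mono_smulMod_limit : Mono (Formal.smulMod A (limit G) f) := by
  refine Groth.Agent.Helper18OmLS.mono_of_injective_app_basis _ X.affineOpens X.isBasis_affineOpens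
    (fun U hU => ?_)
  refine (injective_iff_map_eq_zero _).2 fun x hx => ?_
  exact smul_injective (ρU X U f) (fU G ⟨U, hU⟩) (iU G ι ⟨U, hU⟩) (iU_injective G ι hι ⟨U, hU⟩)
    (iU_fU f G ι hιf ⟨U, hU⟩) (πU G ⟨U, hU⟩) (fun n x => LinearMap.congr_fun (fU_comp_πU G ⟨U, hU⟩ n) x)
    (πU_inj G ⟨U, hU⟩) x hx

include hqc hι hιf hS in
theorem s8830 : ∃ F : X.Modules, Mono (Formal.smulMod A F f) ∧
    Nonempty (Formal.completion (Ideal.span ({f} : Set A)) F ≅ G) := by
  obtain ⟨e, -⟩ := exists_completion_iso (Ideal.span ({f} : Set A)) (limit G) G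
    (fun n => limit.π G (op n)) (isQuotBy_limitπ' f G hqc ι hι hιf w hS) (fun n => limit.w G _)
  exact ⟨limit G, mono_smulMod_limit f G ι hι hιf, ⟨e⟩⟩

end geom

end Groth.Agent.Lib.T2H9.Lim2
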