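import Mathlib
import Groth.Agent.Lib.T2H9Lim1
import Groth.Agent.Lib.T2H2MilnorGlob
import Groth.Agent.Lib.Helper23AffOpen2
import Groth.Agent.Lib.Helper23FinTypeLocal
import Groth.Agent.Lib.Helper23QCohExt
import Groth.Agent.Lib.Helper16Restr

/-!
Cohomology of the limit of a tower of quasi-coherent modules with epimorphic transition maps (S0827, S0826): the underlying abelian sheaf of the limit module is the limit of the underlying sheaves (limIso); Milnor short exact sequence 0 → R^1 lim H^p(X,G_n) → H^(p+1)(X, lim G_n) → lim H^(p+1)(X,G_n) → 0 (milnor_mod, ses, s0827) from helper2's site_milnor_ext; vanishing of the higher cohomology of the limit over affine opens (subsingleton_HU_limit, subsingleton_HHon_limit, s0826).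
-/

set_option autoImplicit false
set_option linter.style.haveILetI false
set_option linter.unusedSectionVars false
set_option linter.unusedVariables false
universe u v
open CategoryTheory CategoryTheory.Limits Opposite AlgebraicGeometry TopologicalSpace

namespace Groth.Agent.Lib.T2H9.Lim3

section grp

/-- assembling a short exact sequence `0 → L → H → lim K → 0` from the two halves of a Milnor statement -/
theorem exists_ses {H L : Type u} [AddCommGroup H] [AddCommGroup L] {K : ℕ → Type u}
    [∀ n, AddCommGroup (K n)] (t : ∀ n, K (n + 1) →+ K n) (q : ∀ n, H →+ K n)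
    (hq : ∀ n x, t n (q (n + 1) x) = q n x)
    (hlift : ∀ ξ : ∀ n, K n, (∀ n, t n (ξ (n + 1)) = ξ n) → ∃ η : H, ∀ n, q n η = ξ n)
    (E : (AddMonoidHom.pi q).ker ≃+ L) :
    ∃ (α : L →+ H) (β : H →+ Formal2.limZero K t), Function.Injective α ∧ Function.Surjective β ∧
      α.range = β.ker ∧ ∀ (x : H) (n : ℕ), (β x : ∀ n, K n) n = q n x := by
  have hmem : ∀ x : H, AddMonoidHom.pi q x ∈ Formal2.limZero K t := by
    intro x
    rw [AddMonoidHom.mem_ker]
    funext n
    change q n x - t n (q (n + 1) x) = 0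
    rw [hq, sub_self]
  let β : H →+ Formal2.limZero K t := (AddMonoidHom.pi q).codRestrict _ hmem
  let α : L →+ H := (AddMonoidHom.pi q).ker.subtype.comp E.symm.toAddMonoidHom
  refine ⟨α, β, ?_, ?_, ?_, fun x n => rfl⟩
  · intro a b hab
    have := Subtype.ext (a1 := E.symm a) (a2 := E.symm b) hab
    exact E.symm.injective this
  · rintro ⟨ξ, hξ⟩
    rw [AddMonoidHom.mem_ker] at hξ
    obtain ⟨η, hη⟩ := hlift ξ (fun n => by
      have := congrFun hξ n
      change ξ n - t n (ξ (n + 1)) = 0 at this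
      rw [sub_eq_zero] at this
      exact this.symm)
    refine ⟨η, Subtype.ext ?_⟩
    funext n
    exact hη n
  · ext x
    constructor
    · rintro ⟨a, rfl⟩
      rw [AddMonoidHom.mem_ker]
      apply Subtype.ext
      exact (E.symm a).2
    · intro hx
      rw [AddMonoidHom.mem_ker] at hx
      have hx' : x ∈ (AddMonoidHom.pi q).ker := congrArg Subtype.val hx
      exact ⟨E ⟨x, hx'⟩, by simp [α]⟩

end grp

section pres
variable {C : Type u} [SmallCategory C] {J : GrothendieckTopology C} (R : Sheaf J RingCat.{u})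

noncomputable instance toSheaf_preservesLimitsOfShape (K : Type v) [SmallCategory K] [Small.{u} K] :
    PreservesLimitsOfShape K (SheafOfModules.toSheaf.{u} R) := by
  have : PreservesLimitsOfShape K (SheafOfModules.toSheaf.{u} R ⋙ sheafToPresheaf _ _) :=
    inferInstanceAs (PreservesLimitsOfShape K
      (SheafOfModules.forget.{u} R ⋙ PresheafOfModules.toPresheaf R.obj))
  exact preservesLimitsOfShape_of_reflects_of_preserves _ (sheafToPresheaf _ _)

end pres

section geom

variable {X : Scheme.{u}} (G : ℕᵒᵖ ⥤ X.Modules)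

/-- the tower of underlying abelian sheaves -/
noncomputable abbrev Fsh : ℕᵒᵖ ⥤ Sheaf (Opens.grothendieckTopology X) AddCommGrpCat.{u} :=
  G ⋙ SheafOfModules.toSheaf X.ringCatSheaf

/-- the underlying abelian sheaf of the limit is the limit of the underlying abelian sheaves -/
noncomputable def limIso : Coh.toAb (limit G) ≅ limit (Fsh G) :=
  preservesLimitIso (SheafOfModules.toSheaf X.ringCatSheaf) G

theorem limIso_hom_π (n : ℕ) : (limIso G).hom ≫ limit.π (Fsh G) (op n) =
    (SheafOfModules.toSheaf X.ringCatSheaf).map (limit.π G (op n)) :=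
  preservesLimitIso_hom_π _ _ _

variable (hq : ∀ n, (G.obj (op n)).IsQuasicoherent) (hepi : ∀ n, Epi (G.map (homOfLE (Nat.le_succ n)).op))

theorem basis_cond : ∀ V : X.Opens, ∃ (ι : Type u) (Y : ι → X.Opens) (f : ∀ i, Y i ⟶ V),
    Sieve.ofArrows Y f ∈ Opens.grothendieckTopology X V ∧ ∀ i, Y i ∈ (X.affineOpens : Set X.Opens) := by
  intro V
  refine ⟨{W : X.Opens // W ∈ (X.affineOpens : Set X.Opens) ∧ W ≤ V}, fun W => W.1, fun W => homOfLE W.2.2, ?_,
    fun W => W.2.1⟩
  intro x hx
  obtain ⟨W, hW, hxW, hWV⟩ := Opens.isBasis_iff_nbhd.1 X.isBasis_affineOpens hx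
  exact ⟨W, homOfLE hWV,
    Sieve.ofArrows_mk _ _ (⟨W, hW, hWV⟩ : {W : X.Opens // W ∈ (X.affineOpens : Set X.Opens) ∧ W ≤ V}), hxW⟩

include hq hepi in
theorem milnor_sh (i j : ℕ) (hij : j + 1 = i) :
    (∀ ξ : ∀ n : ℕ, Sheaf.H ((Fsh G).obj (op n)) i,
      (∀ n, Sheaf.H.map ((Fsh G).map (homOfLE (Nat.le_succ n)).op) i (ξ (n + 1)) = ξ n) →
        ∃ η : Sheaf.H (limit (Fsh G)) i, ∀ n, Sheaf.H.map (limit.π (Fsh G) (op n)) i η = ξ n) ∧
    Nonempty ((AddMonoidHom.pi fun n : ℕ => Sheaf.H.map (limit.π (Fsh G) (op n)) i).ker ≃+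
      Formal2.limOne (fun n : ℕ => Sheaf.H ((Fsh G).obj (op n)) j)
        (fun n : ℕ => Sheaf.H.map ((Fsh G).map (homOfLE (Nat.le_succ n)).op) j)) := by
  refine Groth.Agent.Lib.T2H2.MilnorGlob.site_milnor_ext
    ((constantSheaf (Opens.grothendieckTopology X) AddCommGrpCat.{u}).obj
      (AddCommGrpCat.of (ULift ℤ))) (Fsh G) (X.affineOpens : Set X.Opens) (basis_cond) ?_ ?_ i j hij
  · intro V hV n
    haveI := hq n
    haveI := hq (n + 1)
    haveI := hepi n
    exact Groth.Agent.Lib.Helper23.FinType.surjective_app_of_epi (G.map (homOfLE (Nat.le_succ n)).op) hV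
  · intro V hV n i hi
    haveI := hq n
    obtain ⟨r, rfl⟩ : ∃ r, i = r + 1 := ⟨i - 1, by omega⟩
    exact Groth.Agent.Lib.Helper23.AffVanish.subsingleton_HE_of_isAffineOpen hV (G.obj (op n)) r

/-- the map on cohomology induced by an isomorphism of sheaves -/
noncomputable def HmapEquiv {F F' : Sheaf (Opens.grothendieckTopology X) AddCommGrpCat.{u}} (e : F ≅ F') (i : ℕ) :
    Sheaf.H F i ≃+ Sheaf.H F' i where
  toFun := Sheaf.H.map e.hom i
  invFun := Sheaf.H.map e.inv i
  left_inv x := by rw [← Sheaf.H.map_comp_apply, e.hom_inv_id, Sheaf.H.map_id_apply]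
  right_inv x := by rw [← Sheaf.H.map_comp_apply, e.inv_hom_id, Sheaf.H.map_id_apply]
  map_add' x y := map_add _ x y

include hq hepi in
theorem milnor_mod (i j : ℕ) (hij : j + 1 = i) :
    (∀ ξ : ∀ n : ℕ, Coh.HH X (G.obj (op n)) i,
      (∀ n, Formal2.HHsysMap G i n (ξ (n + 1)) = ξ n) →
        ∃ η : Coh.HH X (limit G) i,
          ∀ n, Sheaf.H.map ((SheafOfModules.toSheaf _).map (limit.π G (op n))) i η = ξ n) ∧
    Nonempty ((AddMonoidHom.pi fun n : ℕ =>
        Sheaf.H.map ((SheafOfModules.toSheaf X.ringCatSheaf).map (limit.π G (op n))) i).ker ≃+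
      Formal2.limOne (fun n : ℕ => Coh.HH X (G.obj (op n)) j) (Formal2.HHsysMap G j)) := by
  obtain ⟨h1, ⟨E⟩⟩ := milnor_sh G hq hepi i j hij
  have key : ∀ (n : ℕ) (x : Coh.HH X (limit G) i),
      Sheaf.H.map ((SheafOfModules.toSheaf X.ringCatSheaf).map (limit.π G (op n))) i x =
        Sheaf.H.map (limit.π (Fsh G) (op n)) i (HmapEquiv (limIso G) i x) := by
    intro n x
    rw [← limIso_hom_π, Sheaf.H.map_comp_apply]
    rfl
  constructor
  · intro ξ hξ
    obtain ⟨η', hη'⟩ := h1 ξ hξ
    refine ⟨(HmapEquiv (limIso G) i).symm η', fun n => ?_⟩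
    rw [key, AddEquiv.apply_symm_apply]
    exact hη' n
  · refine ⟨(Groth.Agent.Lib.T2H2.MilnorSh.kerEquiv _ _ (HmapEquiv (limIso G) i) (AddEquiv.refl _) ?_).trans E⟩
    intro x
    funext n
    exact key n x

include hq hepi in
theorem ses (p : ℕ) :
    ∃ (α : Formal2.limOne (fun n => Coh.HH X (G.obj (op n)) p) (Formal2.HHsysMap G p) →+
        Coh.HH X (limit G) (p + 1))
      (β : Coh.HH X (limit G) (p + 1) →+
        Formal2.limZero (fun n => Coh.HH X (G.obj (op n)) (p + 1)) (Formal2.HHsysMap G (p + 1))),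
      Function.Injective α ∧ Function.Surjective β ∧ α.range = β.ker ∧
      ∀ (x : Coh.HH X (limit G) (p + 1)) (n : ℕ),
        (β x : ∀ n, Coh.HH X (G.obj (op n)) (p + 1)) n =
          Sheaf.H.map ((SheafOfModules.toSheaf _).map (limit.π G (op n))) (p + 1) x := by
  obtain ⟨h1, ⟨E⟩⟩ := milnor_mod G hq hepi (p + 1) p rfl
  have hc : ∀ (n : ℕ) (x : Coh.HH X (limit G) (p + 1)),
      Formal2.HHsysMap G (p + 1) n
        (Sheaf.H.map ((SheafOfModules.toSheaf X.ringCatSheaf).map (limit.π G (op (n + 1)))) (p + 1) x) =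
      Sheaf.H.map ((SheafOfModules.toSheaf X.ringCatSheaf).map (limit.π G (op n))) (p + 1) x := by
    intro n x
    have h := limit.w G (homOfLE (Nat.le_succ n)).op
    have h2 : (SheafOfModules.toSheaf X.ringCatSheaf).map (limit.π G (op (n + 1))) ≫
        (SheafOfModules.toSheaf X.ringCatSheaf).map (G.map (homOfLE (Nat.le_succ n)).op) =
        (SheafOfModules.toSheaf X.ringCatSheaf).map (limit.π G (op n)) :=
      ((SheafOfModules.toSheaf X.ringCatSheaf).map_comp _ _).symm.trans
        (congrArg (SheafOfModules.toSheaf X.ringCatSheaf).map h)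
    rw [← h2]
    exact (Sheaf.H.map_comp_apply _ _ x).symm
  exact exists_ses (H := Coh.HH X (limit G) (p + 1))
    (L := Formal2.limOne (fun n => Coh.HH X (G.obj (op n)) p) (Formal2.HHsysMap G p))
    (K := fun n => Coh.HH X (G.obj (op n)) (p + 1)) (Formal2.HHsysMap G (p + 1))
    (fun n => Sheaf.H.map ((SheafOfModules.toSheaf X.ringCatSheaf).map (limit.π G (op n))) (p + 1))
    hc h1 E

open Groth.Agent.Lib.T2H2.MilnorSh in
include hq hepi in
theorem HUm_surjective (U : X.Opens) (hU : IsAffineOpen U) (n : ℕ) :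
    Function.Surjective (HUm ((Fsh G).map (homOfLE (Nat.le_succ n)).op) 0 U) := by
  haveI := hq n
  haveI := hq (n + 1)
  haveI := hepi n
  let g := G.map (homOfLE (Nat.le_succ n)).op
  let S : ShortComplex X.Modules := ShortComplex.mk (kernel.ι g) g (kernel.condition g)
  have hS : S.ShortExact :=
    { exact := ShortComplex.exact_kernel g
      mono_f := inferInstanceAs (Mono (kernel.ι g))
      epi_g := inferInstanceAs (Epi g) }
  haveI : (kernel g).IsQuasicoherent := Groth.Agent.Lib.Helper23.QCohLocal.isQuasicoherent_kernel g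
  have hS' := Groth.Agent.Lib.Helper23.QCohLocal.shortExact_toAbF S hS
  have h : Subsingleton (Groth.Agent.Lib.Helper23.AffVanish.HE
      (Groth.Agent.Lib.Helper23.AffVanish.ab' (kernel g)) 1 U) :=
    Groth.Agent.Lib.Helper23.AffVanish.subsingleton_HE_of_isAffineOpen hU (kernel g) 0
  intro x₃
  obtain ⟨x₂, hx₂⟩ := Abelian.Ext.covariant_sequence_exact₃ (Groth.Agent.Lib.Helper23.AffVanish.ZU U) hS'
    x₃ (zero_add 1) (@Subsingleton.elim _ h _ _)
  exact ⟨x₂, hx₂⟩

open Groth.Agent.Lib.T2H2.MilnorSh in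
include hq hepi in
theorem subsingleton_HU_limit (U : X.Opens) (hU : IsAffineOpen U) (i : ℕ) (hi : 0 < i) :
    Subsingleton (CohSite.HU (limit (Fsh G)) i U) := by
  obtain ⟨j, rfl⟩ : ∃ j, i = j + 1 := ⟨i - 1, by omega⟩
  have hvan : ∀ (n r : ℕ), Subsingleton (CohSite.HU ((Fsh G).obj (op n)) (r + 1) U) := by
    intro n r
    haveI := hq n
    exact Groth.Agent.Lib.Helper23.AffVanish.subsingleton_HE_of_isAffineOpen hU (G.obj (op n)) r
  obtain ⟨-, ⟨E⟩⟩ := site_milnor (Fsh G) (X.affineOpens : Set X.Opens) basis_cond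
    (by
      intro V hV n
      haveI := hq n
      haveI := hq (n + 1)
      haveI := hepi n
      exact Groth.Agent.Lib.Helper23.FinType.surjective_app_of_epi (G.map (homOfLE (Nat.le_succ n)).op) hV)
    (by
      intro V hV n i hi
      haveI := hq n
      obtain ⟨r, rfl⟩ : ∃ r, i = r + 1 := ⟨i - 1, by omega⟩
      exact Groth.Agent.Lib.Helper23.AffVanish.subsingleton_HE_of_isAffineOpen hV (G.obj (op n)) r)
    U (j + 1) j rfl
  have hL : Subsingleton (Formal2.limOne (fun n : ℕ => CohSite.HU ((Fsh G).obj (op n)) j U)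
      (fun n : ℕ => HUm ((Fsh G).map (homOfLE (Nat.le_succ n)).op) j U)) := by
    cases j with
    | zero =>
      have hz := limOneIsZero_of_surjective (fun n : ℕ => CohSite.HU ((Fsh G).obj (op n)) 0 U)
        (fun n : ℕ => HUm ((Fsh G).map (homOfLE (Nat.le_succ n)).op) 0 U)
        (HUm_surjective G hq hepi U hU)
      refine ⟨fun a b => ?_⟩
      induction a using QuotientAddGroup.induction_on with | _ a => ?_
      induction b using QuotientAddGroup.induction_on with | _ b => ?_
      rw [QuotientAddGroup.eq]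
      exact hz _
    | succ j =>
      haveI := hvan
      haveI : Subsingleton (∀ n : ℕ, CohSite.HU ((Fsh G).obj (op n)) (j + 1) U) := inferInstance
      refine ⟨fun a b => ?_⟩
      induction a using QuotientAddGroup.induction_on with | _ a => ?_
      induction b using QuotientAddGroup.induction_on with | _ b => ?_
      rw [Subsingleton.elim a b]
  refine ⟨fun a b => ?_⟩
  have hmem : ∀ a : CohSite.HU (limit (Fsh G)) (j + 1) U,
      a ∈ (AddMonoidHom.pi fun n : ℕ => HUm (limit.π (Fsh G) (op n)) (j + 1) U).ker := by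
    intro a
    rw [AddMonoidHom.mem_ker]
    funext n
    exact @Subsingleton.elim _ (hvan n j) _ _
  have := E.injective (a₁ := ⟨a, hmem a⟩) (a₂ := ⟨b, hmem b⟩) (Subsingleton.elim _ _)
  exact congrArg Subtype.val this

include hq hepi in
/-- the limit module has no higher cohomology over affine opens -/
theorem subsingleton_HHon_limit (U : X.Opens) (hU : IsAffineOpen U) (p : ℕ) (hp : 0 < p) :
    Subsingleton (Coh.HHon X (limit G) U p) := by
  have h1 := subsingleton_HU_limit G hq hepi U hU p hp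
  let e1 := ((Sheaf.cohomologyPresheafFunctor (Opens.grothendieckTopology X) p).mapIso (limIso G)).app (op U)
  have h2 : Subsingleton (CohTop.HU (X := X.carrier) (Coh.toAb (limit G)) p U) :=
    e1.addCommGroupIsoToAddEquiv.toEquiv.subsingleton
  obtain ⟨e2⟩ := Groth.Agent.Lib.Helper16.Restr.nonempty_HU_equiv (X := X.carrier) U (Coh.toAb (limit G)) p
  have e2' : CohTop.HU (X := X.carrier) (Coh.toAb (limit G)) p U ≃+ Coh.HHon X (limit G) U p := e2
  exact e2'.symm.toEquiv.subsingleton

end geom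

section formal

variable {A : Type u} [CommRing A] {X : Scheme.{u}} [X.Over (Spec (CommRingCat.of A))] (I : Ideal A)
  (G : ℕᵒᵖ ⥤ X.Modules) (hG : Formal2.IsQCohFormal I G)

include hG in
theorem s0827 (p : ℕ) :
    ∃ (α : Formal2.limOne (fun n => Coh.HH X (G.obj (op n)) p) (Formal2.HHsysMap G p) →+
        Coh.HH X (limit G) (p + 1))
      (β : Coh.HH X (limit G) (p + 1) →+
        Formal2.limZero (fun n => Coh.HH X (G.obj (op n)) (p + 1)) (Formal2.HHsysMap G (p + 1))),
      Function.Injective α ∧ Function.Surjective β ∧ α.range = β.ker ∧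
      ∀ (x : Coh.HH X (limit G) (p + 1)) (n : ℕ),
        (β x : ∀ n, Coh.HH X (G.obj (op n)) (p + 1)) n =
          Sheaf.H.map ((SheafOfModules.toSheaf _).map (limit.π G (op n))) (p + 1) x := by
  obtain ⟨h1, h2, h3⟩ := (Groth.Agent.Lib.T2H9.Lim1.isQCohFormal_iff I G).1 hG
  exact ses G h1 (fun n => (h3 n).epi) p

include hG in
theorem s0826 (U : X.Opens) (hU : IsAffineOpen U) (p : ℕ) (hp : 0 < p) :
    Subsingleton (Coh.HHon X (limit G) U p) := by
  obtain ⟨h1, h2, h3⟩ := (Groth.Agent.Lib.T2H9.Lim1.isQCohFormal_iff I G).1 hG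
  exact subsingleton_HHon_limit G h1 (fun n => (h3 n).epi) U hU p hp

end formal

end Groth.Agent.Lib.T2H9.Lim3
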