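import Mathlib
import Groth.Prelude
import Groth.Agent.Lib.Helper4DimFormulaAE
import Groth.Agent.Lib.Helper4Pur21
import Groth.Agent.Lib.Helper5StalkSpec

set_option autoImplicit false
universe u
open CategoryTheory AlgebraicGeometry

namespace Groth.Agent.Lib.T2H9.LocFact

section Ring

variable {B : Type u} [CommRing B]

/-- A Noetherian local ring having a prime ideal generated by a nonzerodivisor is a domain. -/
theorem isDomain_of_isPrime_span_singleton [IsNoetherianRing B] [IsLocalRing B] (t : B)
    (ht : t ∈ nonZeroDivisors B) (hP : (Ideal.span {t}).IsPrime) : IsDomain B := by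
  obtain ⟨Q, hQmin, hQP⟩ := Ideal.exists_minimalPrimes_le (bot_le : (⊥ : Ideal B) ≤ Ideal.span {t})
  have hQprime : Q.IsPrime := hQmin.1.1
  have htQ : t ∉ Q := fun h =>
    Set.disjoint_left.mp (Ideal.disjoint_nonZeroDivisors_of_mem_minimalPrimes hQmin) h ht
  have hle : Q ≤ Ideal.span {t} • Q := by
    intro x hx
    obtain ⟨y, rfl⟩ := Ideal.mem_span_singleton'.mp (hQP hx)
    have hy : y ∈ Q := (hQprime.mem_or_mem hx).resolve_right htQ
    rw [mul_comm]
    exact Ideal.mul_mem_mul (Ideal.mem_span_singleton_self t) hy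
  have htm : Ideal.span {t} ≤ Ideal.jacobson ⊥ := by
    rw [IsLocalRing.jacobson_eq_maximalIdeal ⊥ bot_ne_top]
    exact IsLocalRing.le_maximalIdeal hP.ne_top
  have hQbot : Q = ⊥ :=
    Submodule.eq_bot_of_le_smul_of_le_jacobson_bot (Ideal.span {t}) Q (IsNoetherian.noetherian Q)
      hle htm
  have : (⊥ : Ideal B).IsPrime := hQbot ▸ hQprime
  exact IsDomain.of_bot_isPrime B

/-- A Noetherian domain in which every height-one prime is principal is a UFD. -/
theorem ufm_of_forall_height_one_principal [IsDomain B] [IsNoetherianRing B]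
    (H : ∀ P : Ideal B, P.IsPrime → P.height = 1 → ∃ t : B, P = Ideal.span {t}) :
    UniqueFactorizationMonoid B := by
  refine UniqueFactorizationMonoid.iff_exists_prime_mem_of_isPrime.mpr fun Q hQ0 hQ => ?_
  obtain ⟨a, haQ, ha0⟩ := Submodule.exists_mem_ne_zero_of_ne_bot hQ0
  obtain ⟨P, hPmin, hPQ⟩ := Ideal.exists_minimalPrimes_le
    (show Ideal.span {a} ≤ Q from (Ideal.span_singleton_le_iff_mem _).mpr haQ)
  have hPprime : P.IsPrime := hPmin.1.1
  have haP : a ∈ P := hPmin.1.2 (Ideal.mem_span_singleton_self a)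
  have h1 : P.height ≤ 1 := Ideal.height_le_one_of_isPrincipal_of_mem_minimalPrimes _ P hPmin
  have h0 : P.height ≠ 0 := by
    intro h
    rw [Ideal.height_eq_zero_iff] at h
    have : P = ⊥ := le_antisymm (h.2 ⟨Ideal.isPrime_bot, bot_le⟩ bot_le) bot_le
    rw [this] at haP
    exact ha0 ((Submodule.mem_bot B).mp haP)
  have hh : P.height = 1 := le_antisymm h1 (Order.one_le_iff_pos.mpr (pos_iff_ne_zero.mpr h0))
  obtain ⟨t, rfl⟩ := H P hPprime hh
  have ht0 : t ≠ 0 := by
    rintro rfl
    rw [Ideal.span_singleton_eq_bot.mpr rfl] at haP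
    exact ha0 ((Submodule.mem_bot B).mp haP)
  exact ⟨t, hPQ (Ideal.mem_span_singleton_self t),
    (Ideal.span_singleton_prime ht0).mp hPprime⟩

/-- In a UFD a height-one prime is generated by a (nonzero) element. -/
theorem exists_eq_span_singleton_of_height_eq_one [IsDomain B] [UniqueFactorizationMonoid B]
    (P : Ideal B) [hP : P.IsPrime] (h : P.height = 1) :
    ∃ t : B, t ≠ 0 ∧ P = Ideal.span {t} := by
  have hP0 : P ≠ ⊥ := by
    rintro rfl
    have : (⊥ : Ideal B).height = 0 := by
      rw [Ideal.height_eq_zero_iff]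
      exact ⟨⟨Ideal.isPrime_bot, le_rfl⟩, fun _ _ _ => bot_le⟩
    rw [this] at h
    exact zero_ne_one h
  obtain ⟨t, htP, ht⟩ := hP.exists_mem_prime_of_ne_bot hP0
  have htprime : (Ideal.span {t}).IsPrime := (Ideal.span_singleton_prime ht.ne_zero).mpr ht
  have hle : Ideal.span {t} ≤ P := (Ideal.span_singleton_le_iff_mem _).mpr htP
  refine ⟨t, ht.ne_zero, ?_⟩
  by_contra hne
  have hlt : Ideal.span {t} < P := lt_of_le_of_ne hle (Ne.symm hne)
  have hfin : P.FiniteHeight := P.finiteHeight_iff.mpr (Or.inr (by rw [h]; exact ENat.one_ne_top))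
  have h2 := Ideal.height_strict_mono_of_isPrime_of_isPrime hlt
  rw [h] at h2
  have h3 : (Ideal.span {t}).height = 0 := Order.lt_one_iff.mp h2
  rw [Ideal.height_eq_zero_iff] at h3
  have : Ideal.span {t} = ⊥ := le_antisymm (h3.2 ⟨Ideal.isPrime_bot, bot_le⟩ bot_le) bot_le
  exact ht.ne_zero (Ideal.span_singleton_eq_bot.mp this)

/-- A Noetherian local ring of nonzero dimension has a prime of height one. -/
theorem exists_isPrime_height_eq_one [IsNoetherianRing B] [IsLocalRing B]
    (h : ringKrullDim B ≠ 0) : ∃ P : Ideal B, P.IsPrime ∧ P.height = 1 := by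
  have hne : (IsLocalRing.maximalIdeal B).height ≠ 0 := by
    intro h0
    apply h
    rw [← IsLocalRing.maximalIdeal_height_eq_ringKrullDim, h0]
    rfl
  by_cases h1 : (IsLocalRing.maximalIdeal B).height = 1
  · exact ⟨_, inferInstance, h1⟩
  · have hm := PrimeSpectrum.height_eq_orderHeight (IsLocalRing.closedPoint B)
    have hfin : Order.height (IsLocalRing.closedPoint B) < ⊤ := by
      rw [← hm]
      exact Ideal.height_lt_top_of_isPrime
    have hlt : ((1 : ℕ) : ℕ∞) < Order.height (IsLocalRing.closedPoint B) := by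
      rw [← hm]
      change (1 : ℕ∞) < (IsLocalRing.maximalIdeal B).height
      rcases lt_trichotomy (1 : ℕ∞) (IsLocalRing.maximalIdeal B).height with h2 | h2 | h2
      · exact h2
      · exact absurd h2.symm h1
      · exact absurd (Order.lt_one_iff.mp h2) hne
    obtain ⟨y, -, hy1⟩ := (Order.coe_lt_height_iff hfin).mp hlt
    refine ⟨y.asIdeal, y.2, ?_⟩
    rw [PrimeSpectrum.height_eq_orderHeight, hy1]
    rfl

end Ring

section Scheme

open Groth.Agent.Lib.Helper4.DimFormula Groth.Agent.Lib.Helper4.Pur21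
  Groth.Agent.Lib.Helper5.StalkSpec

/-- A closed point of a locally Noetherian scheme whose local ring is zero-dimensional is open. -/
theorem isOpen_singleton_of_isClosed_of_dim_zero (X : Scheme.{u}) [IsLocallyNoetherian X] (x : X)
    (hcl : IsClosed ({x} : Set X)) (hdim : ringKrullDim (X.presheaf.stalk x) = 0) :
    IsOpen ({x} : Set X) := by
  obtain ⟨U, hU, hxU, -⟩ := exists_isAffineOpen_mem_and_subset (x := x) (U := ⊤) trivial
  have hN : IsNoetherianRing Γ(X, U) := IsLocallyNoetherian.component_noetherian ⟨U, hU⟩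
  have hpx : hU.fromSpec (hU.primeIdealOf ⟨x, hxU⟩) = x := hU.fromSpec_primeIdealOf ⟨x, hxU⟩
  have key : ∀ (p : PrimeSpectrum Γ(X, U)) (_ : Algebra Γ(X, U) (X.presheaf.stalk x)),
      hU.fromSpec p = x →
      IsLocalization.AtPrime (X.presheaf.stalk x) p.asIdeal → IsOpen ({x} : Set X) := by
    intro p _ hpx hloc
    have hpcl : IsClosed ({p} : Set (PrimeSpectrum Γ(X, U))) := by
      have : ({p} : Set (PrimeSpectrum Γ(X, U))) = hU.fromSpec ⁻¹' {x} := by
        ext q
        simp only [Set.mem_singleton_iff]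
        constructor
        · rintro rfl
          exact hpx
        · intro h
          exact hU.fromSpec.isOpenEmbedding.injective (h.trans hpx.symm)
      rw [this]
      exact hcl.preimage hU.fromSpec.continuous
    have hpmax : p.asIdeal.IsMaximal := (PrimeSpectrum.isClosed_singleton_iff_isMaximal p).mp hpcl
    have hht : p.asIdeal.height = 0 := by
      have := IsLocalization.AtPrime.ringKrullDim_eq_height p.asIdeal (X.presheaf.stalk x)
      rw [hdim] at this
      exact_mod_cast this.symm
    have hpmin : p.asIdeal ∈ minimalPrimes Γ(X, U) := Ideal.height_eq_zero_iff.mp hht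
    have hopen : IsOpen ({p} : Set (PrimeSpectrum Γ(X, U))) := by
      have hfin : (minimalPrimes Γ(X, U)).Finite := minimalPrimes.finite_of_isNoetherianRing _
      have hS : IsClosed (⋃ q ∈ (minimalPrimes Γ(X, U) \ {p.asIdeal}),
          PrimeSpectrum.zeroLocus (q : Set Γ(X, U))) :=
        (hfin.subset Set.sdiff_subset).isClosed_biUnion
          (fun q _ => PrimeSpectrum.isClosed_zeroLocus _)
      have : ({p} : Set (PrimeSpectrum Γ(X, U))) = (⋃ q ∈ (minimalPrimes Γ(X, U) \ {p.asIdeal}),
          PrimeSpectrum.zeroLocus (q : Set Γ(X, U)))ᶜ := by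
        ext r
        simp only [Set.mem_singleton_iff, Set.mem_compl_iff, Set.mem_iUnion, not_exists]
        constructor
        · rintro rfl q ⟨hq, hqp⟩ hmem
          rw [PrimeSpectrum.mem_zeroLocus, SetLike.coe_subset_coe] at hmem
          exact hqp (le_antisymm hmem (hpmin.2 ⟨hq.1.1, bot_le⟩ hmem))
        · intro h
          by_contra hne
          obtain ⟨q, hqmin, hqr⟩ := Ideal.exists_minimalPrimes_le (bot_le : (⊥ : Ideal Γ(X, U)) ≤ r.asIdeal)
          have hqp : q ≠ p.asIdeal := by
            rintro rfl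
            exact hne (PrimeSpectrum.ext (hpmax.eq_of_le r.2.ne_top hqr).symm)
          exact h q ⟨hqmin, hqp⟩ (by rw [PrimeSpectrum.mem_zeroLocus, SetLike.coe_subset_coe]; exact hqr)
      rw [this]
      exact hS.isOpen_compl
    have himg := hU.fromSpec.isOpenEmbedding.isOpenMap _ hopen
    have : ({x} : Set X) = hU.fromSpec '' ({p} : Set (PrimeSpectrum Γ(X, U))) := by
      ext y
      simp only [Set.mem_singleton_iff, Set.mem_image]
      constructor
      · rintro rfl
        exact ⟨p, rfl, hpx⟩
      · rintro ⟨q, rfl, rfl⟩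
        exact hpx
    rw [this]
    exact himg
  exact key _ (TopCat.Presheaf.algebra_section_stalk X.presheaf (⟨x, hxU⟩ : U)) hpx
    (hU.isLocalization_stalk ⟨x, hxU⟩)

/-- the hypothesis (a''): closures of codimension-one points are regularly immersed -/
def CodimOnePrincipal (X : Scheme.{u}) : Prop :=
  ∀ ζ : ↥X, ringKrullDim ↑(X.presheaf.stalk ζ) = 1 → ∀ (x : ↥X) (h : ζ ⤳ x),
    ∃ t : ↑(X.presheaf.stalk x), t ∈ nonZeroDivisors ↑(X.presheaf.stalk x) ∧
      (IsLocalRing.maximalIdeal ↑(X.presheaf.stalk ζ)).comap (X.presheaf.stalkSpecializes h).hom =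
        Ideal.span {t}

/-- under (a''), every height-one prime of a stalk is generated by a nonzerodivisor -/
theorem exists_nzd_span_of_height_eq_one {X : Scheme.{u}} (H : CodimOnePrincipal X) (x : X)
    (P : Ideal (X.presheaf.stalk x)) [hP : P.IsPrime] (h1 : P.height = 1) :
    ∃ t : X.presheaf.stalk x, t ∈ nonZeroDivisors (X.presheaf.stalk x) ∧ P = Ideal.span {t} := by
  have hdim := height_eq_ringKrullDim_stalk_fromSpecStalk x P
  rw [h1] at hdim
  have hsp := Groth.Agent.Lib.Helper4.Pur21.fromSpecStalk_specializes X x ⟨P, hP⟩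
  obtain ⟨t, ht, hcomap⟩ := H _ hdim.symm x hsp
  refine ⟨t, ht, ?_⟩
  rw [← hcomap]
  exact (comap_stalkSpecializes_maximalIdeal X x ⟨P, hP⟩ hsp).symm

theorem isDomain_stalk_of_dim_ne_zero {X : Scheme.{u}} [IsLocallyNoetherian X]
    (H : CodimOnePrincipal X) (x : X) (hd : ringKrullDim (X.presheaf.stalk x) ≠ 0) :
    IsDomain (X.presheaf.stalk x) := by
  obtain ⟨P, hP, h1⟩ := exists_isPrime_height_eq_one hd
  obtain ⟨t, ht, rfl⟩ := exists_nzd_span_of_height_eq_one H x P h1
  exact isDomain_of_isPrime_span_singleton t ht hP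

theorem isDomain_stalk {X : Scheme.{u}} [IsLocallyNoetherian X]
    (hred : ∀ x : ↥X, IsOpen ({x} : Set ↥X) → IsReduced ↑(X.presheaf.stalk x))
    (H : CodimOnePrincipal X) (x : X) : IsDomain (X.presheaf.stalk x) := by
  by_cases hd : ringKrullDim (X.presheaf.stalk x) = 0
  · by_cases hcl : IsClosed ({x} : Set X)
    · have hopen := isOpen_singleton_of_isClosed_of_dim_zero X x hcl hd
      have hr := hred x hopen
      have hdim0 : Ring.KrullDimLE 0 (X.presheaf.stalk x) := by
        rw [Ring.KrullDimLE, Order.krullDimLE_iff]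
        exact hd.le
      have hA : IsArtinianRing (X.presheaf.stalk x) := IsNoetherianRing.isArtinianRing_of_krullDimLE_zero
      have hf : IsField (X.presheaf.stalk x) := IsArtinianRing.isField_of_isReduced_of_isLocalRing _
      exact hf.isDomain
    · -- there is a proper specialization
      have hex : ∃ y : X, x ⤳ y ∧ y ≠ x := by
        by_contra hcon
        push Not at hcon
        apply hcl
        have : ({x} : Set X) = closure {x} := by
          ext y
          simp only [Set.mem_singleton_iff]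
          constructor
          · rintro rfl
            exact subset_closure rfl
          · intro hy
            exact hcon y (specializes_iff_mem_closure.mpr hy)
        rw [this]
        exact isClosed_closure
      obtain ⟨y, hxy, hne⟩ := hex
      obtain ⟨P, hP, hPx⟩ := exists_prime_fromSpecStalk_eq hxy
      have hdy : ringKrullDim (X.presheaf.stalk y) ≠ 0 := by
        intro h0
        have hdim0 : Ring.KrullDimLE 0 (X.presheaf.stalk y) := by
          rw [Ring.KrullDimLE, Order.krullDimLE_iff]
          exact h0.le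
        have hPmax : P.IsMaximal := Ideal.IsPrime.isMaximal' hP
        have : P = IsLocalRing.maximalIdeal (X.presheaf.stalk y) := IsLocalRing.eq_maximalIdeal hPmax
        have := (fromSpecStalk_eq_iff X y ⟨P, hP⟩).mpr this
        exact hne (this.symm.trans hPx)
      have hDy := isDomain_stalk_of_dim_ne_zero H y hdy
      let _ := (X.presheaf.stalkSpecializes hxy).hom.toAlgebra
      obtain ⟨M, hM⟩ := exists_isLocalization_stalkSpecializes X hxy
      have hM0 : M ≤ nonZeroDivisors (X.presheaf.stalk y) := by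
        intro m hm
        rw [mem_nonZeroDivisors_iff_ne_zero]
        rintro rfl
        have h1 := IsLocalization.map_units (X.presheaf.stalk x) (⟨0, hm⟩ : M)
        rw [map_zero] at h1
        exact not_isUnit_zero h1
      exact IsLocalization.isDomain_of_le_nonZeroDivisors (X.presheaf.stalk x) hM0
  · exact isDomain_stalk_of_dim_ne_zero H x hd

theorem main (X : Scheme.{u}) [IsLocallyNoetherian X]
    (hred : ∀ x : ↥X, IsOpen ({x} : Set ↥X) → IsReduced ↑(X.presheaf.stalk x)) :
    CodimOnePrincipal X ↔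
      ∀ x : ↥X, ∃ _ : IsDomain ↑(X.presheaf.stalk x),
        UniqueFactorizationMonoid ↑(X.presheaf.stalk x) := by
  constructor
  · intro H x
    have hD := isDomain_stalk hred H x
    refine ⟨hD, ufm_of_forall_height_one_principal fun P hP h1 => ?_⟩
    obtain ⟨t, -, rfl⟩ := exists_nzd_span_of_height_eq_one H x P h1
    exact ⟨t, rfl⟩
  · intro H ζ hζ x h
    obtain ⟨hD, hU⟩ := H x
    obtain ⟨P, hP, rfl⟩ := exists_prime_fromSpecStalk_eq h
    have hdim := height_eq_ringKrullDim_stalk_fromSpecStalk x P
    rw [hζ] at hdim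
    have h1 : P.height = 1 := by exact_mod_cast hdim
    obtain ⟨t, ht0, htP⟩ := exists_eq_span_singleton_of_height_eq_one P h1
    refine ⟨t, mem_nonZeroDivisors_of_ne_zero ht0, ?_⟩
    rw [← htP]
    exact comap_stalkSpecializes_maximalIdeal X x ⟨P, hP⟩ h

end Scheme

end Groth.Agent.Lib.T2H9.LocFact
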