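import Mathlib

/-!
# `B ⊗_R R'` is a DVR for an unramified DVR extension `B/R` with trivial residue extension (helper9)

Pure algebra used for S17019/S17020.
-/

set_option autoImplicit false
set_option linter.style.haveILetI false
set_option linter.unusedSectionVars false
set_option linter.unusedVariables false
universe u
open scoped TensorProduct Polynomial

namespace Groth.Agent.Lib.T2H9.ModelDVR

section residue

variable (R : Type u) [CommRing R] [IsDomain R] [IsDiscreteValuationRing R]
  (R' : Type u) [CommRing R'] [IsDomain R'] [IsDiscreteValuationRing R'] [Algebra R R']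

/-- a generically finite extension of DVRs: elements of `R'` are algebraic over `R` -/
theorem isAlgebraic_of_finite (hinj : Function.Injective (algebraMap R R'))
    [Module.Finite (FractionRing R) (FractionRing R ⊗[R] R')] (a : R') : IsAlgebraic R a := by
  haveI : Module.IsTorsionFree R R' := Module.isTorsionFree_iff_algebraMap_injective.mpr hinj
  haveI : Module.Flat R R' := inferInstance
  have hincl : Function.Injective
      (Algebra.TensorProduct.includeRight : R' →ₐ[R] FractionRing R ⊗[R] R') :=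
    Algebra.TensorProduct.includeRight_injective (IsFractionRing.injective R (FractionRing R))
  have h1 : IsIntegral (FractionRing R) ((1 : FractionRing R) ⊗ₜ[R] a) :=
    Algebra.IsIntegral.isIntegral _
  have h2 : IsAlgebraic R ((1 : FractionRing R) ⊗ₜ[R] a) :=
    (IsFractionRing.isAlgebraic_iff R (FractionRing R) _).mpr h1.isAlgebraic
  exact (isAlgebraic_algHom_iff _ hincl).mp h2

/-- the residue field extension is trivial when the residue field of `R` is algebraically closed -/
theorem exists_sub_mem_maximalIdeal [IsAlgClosed (IsLocalRing.ResidueField R)]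
    (hinj : Function.Injective (algebraMap R R')) [IsLocalHom (algebraMap R R')]
    [Module.Finite (FractionRing R) (FractionRing R ⊗[R] R')] (a : R') :
    ∃ r : R, a - algebraMap R R' r ∈ IsLocalRing.maximalIdeal R' := by
  obtain ⟨ϖ, hϖ⟩ := IsDiscreteValuationRing.exists_irreducible R
  let σ := IsLocalRing.ResidueField.map (algebraMap R R')
  have hσ : σ.IsIntegral := by
    intro y
    obtain ⟨a, rfl⟩ := IsLocalRing.residue_surjective y
    obtain ⟨q, hq0, hq⟩ := isAlgebraic_of_finite R R' hinj a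
    have hCϖ : ¬ IsUnit (Polynomial.C ϖ) := by
      rw [Polynomial.isUnit_C]; exact hϖ.not_isUnit
    obtain ⟨q', hq', hndvd⟩ :=
      (FiniteMultiplicity.of_not_isUnit hCϖ hq0).exists_eq_pow_mul_and_not_dvd
    have hq'0 : Polynomial.aeval a q' = 0 := by
      rw [hq', map_mul, map_pow, Polynomial.aeval_C] at hq
      rcases mul_eq_zero.mp hq with h | h
      · exfalso
        have := eq_zero_of_pow_eq_zero h
        exact hϖ.ne_zero (hinj (this.trans (map_zero _).symm))
      · exact h
    -- the reduction of `q'` is nonzero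
    have hred : q'.map (IsLocalRing.residue R) ≠ 0 := by
      intro h0
      apply hndvd
      rw [Polynomial.C_dvd_iff_dvd_coeff]
      intro i
      have : IsLocalRing.residue R (q'.coeff i) = 0 := by
        rw [← Polynomial.coeff_map, h0, Polynomial.coeff_zero]
      rw [IsLocalRing.residue_eq_zero_iff, hϖ.maximalIdeal_eq, Ideal.mem_span_singleton] at this
      exact this
    have hroot : Polynomial.eval₂ σ (IsLocalRing.residue R' a) (q'.map (IsLocalRing.residue R)) = 0 := by
      rw [Polynomial.eval₂_map, IsLocalRing.ResidueField.map_comp_residue, ← Polynomial.hom_eval₂]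
      have : Polynomial.eval₂ (algebraMap R R') a q' = 0 := hq'0
      rw [this, map_zero]
    refine ⟨q'.map (IsLocalRing.residue R) *
      Polynomial.C (q'.map (IsLocalRing.residue R)).leadingCoeff⁻¹,
      Polynomial.monic_mul_leadingCoeff_inv hred, ?_⟩
    rw [Polynomial.eval₂_mul, hroot, zero_mul]
  obtain ⟨c, hc⟩ := (IsAlgClosed.ringHom_bijective_of_isIntegral σ hσ).2 (IsLocalRing.residue R' a)
  obtain ⟨r, rfl⟩ := IsLocalRing.residue_surjective c
  refine ⟨r, ?_⟩
  rw [← IsLocalRing.residue_eq_zero_iff, map_sub, ← hc, IsLocalRing.ResidueField.map_residue,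
    sub_self]

end residue

section tensor

variable (R : Type u) [CommRing R] [IsDomain R] [IsDiscreteValuationRing R]
  [IsAlgClosed (IsLocalRing.ResidueField R)]
  (B : Type u) [CommRing B] [IsDomain B] [IsDiscreteValuationRing B] [Algebra R B]
  (hB : IsLocalRing.maximalIdeal B = Ideal.map (algebraMap R B) (IsLocalRing.maximalIdeal R))
  (R' : Type u) [CommRing R'] [IsDomain R'] [IsDiscreteValuationRing R'] [Algebra R R']
  (hinj : Function.Injective (algebraMap R R')) [IsLocalHom (algebraMap R R')]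
  [Module.Finite (FractionRing R) (FractionRing R ⊗[R] R')]

include hinj in
theorem exists_decomp (ϖ' : R') (hϖ' : Irreducible ϖ') (z : B ⊗[R] R') :
    ∃ (b : B) (c : B ⊗[R] R'), z = b ⊗ₜ[R] (1 : R') + ((1 : B) ⊗ₜ[R] ϖ') * c := by
  induction z using TensorProduct.induction_on with
  | zero => exact ⟨0, 0, by simp⟩
  | tmul b a =>
    obtain ⟨r, hr⟩ := exists_sub_mem_maximalIdeal R R' hinj a
    rw [hϖ'.maximalIdeal_eq, Ideal.mem_span_singleton] at hr
    obtain ⟨s, hs⟩ := hr
    refine ⟨r • b, b ⊗ₜ[R] s, ?_⟩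
    have ha : a = algebraMap R R' r + ϖ' * s := by rw [← hs]; ring
    rw [ha, TensorProduct.tmul_add, Algebra.TensorProduct.tmul_mul_tmul, one_mul,
      TensorProduct.smul_tmul, Algebra.smul_def, mul_one]
  | add x y hx hy =>
    obtain ⟨b₁, c₁, h₁⟩ := hx
    obtain ⟨b₂, c₂, h₂⟩ := hy
    refine ⟨b₁ + b₂, c₁ + c₂, ?_⟩
    rw [h₁, h₂, TensorProduct.add_tmul]
    ring

include hB in
theorem isLocalHom_algebraMap : IsLocalHom (algebraMap R B) := by
  constructor
  intro r hr
  by_contra hnu
  have h1 : r ∈ IsLocalRing.maximalIdeal R := (IsLocalRing.mem_maximalIdeal r).mpr hnu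
  have h2 : algebraMap R B r ∈ IsLocalRing.maximalIdeal B := by
    rw [hB]; exact Ideal.mem_map_of_mem _ h1
  exact (IsLocalRing.mem_maximalIdeal _).mp h2 hr

include hB in
theorem tmul_one_mem (ϖ' : R') (hϖ' : Irreducible ϖ') (b : B)
    (hb : b ∈ IsLocalRing.maximalIdeal B) :
    ∃ c : B ⊗[R] R', b ⊗ₜ[R] (1 : R') = ((1 : B) ⊗ₜ[R] ϖ') * c := by
  obtain ⟨ϖ, hϖ⟩ := IsDiscreteValuationRing.exists_irreducible R
  rw [hB, hϖ.maximalIdeal_eq, Ideal.map_span, Set.image_singleton, Ideal.mem_span_singleton] at hb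
  obtain ⟨β, hβ⟩ := hb
  have h1 : algebraMap R R' ϖ ∈ IsLocalRing.maximalIdeal R' := by
    rw [IsLocalRing.mem_maximalIdeal]
    intro hu
    exact hϖ.not_isUnit (isUnit_of_map_unit (algebraMap R R') ϖ hu)
  rw [hϖ'.maximalIdeal_eq, Ideal.mem_span_singleton] at h1
  obtain ⟨s, hs⟩ := h1
  refine ⟨β ⊗ₜ[R] s, ?_⟩
  rw [Algebra.TensorProduct.tmul_mul_tmul, one_mul, ← hs, hβ, ← Algebra.smul_def,
    TensorProduct.smul_tmul, Algebra.smul_def, mul_one]

include hB hinj in
theorem exists_rho (ϖ' : R') (hϖ' : Irreducible ϖ') :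
    ∃ ρ : B ⊗[R] R' →+* IsLocalRing.ResidueField B,
      (∀ b : B, ρ (b ⊗ₜ[R] (1 : R')) = IsLocalRing.residue B b) ∧
        ρ ((1 : B) ⊗ₜ[R] ϖ') = 0 := by
  haveI := isLocalHom_algebraMap R B hB
  let σ := IsLocalRing.ResidueField.map (algebraMap R R')
  have hσ : Function.Bijective σ := by
    refine ⟨RingHom.injective _, fun y => ?_⟩
    obtain ⟨a, rfl⟩ := IsLocalRing.residue_surjective y
    obtain ⟨r, hr⟩ := exists_sub_mem_maximalIdeal R R' hinj a
    refine ⟨IsLocalRing.residue R r, ?_⟩
    rw [IsLocalRing.ResidueField.map_residue]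
    rw [← IsLocalRing.residue_eq_zero_iff, map_sub, sub_eq_zero] at hr
    exact hr.symm
  let τ : IsLocalRing.ResidueField R' ≃+* IsLocalRing.ResidueField R :=
    (RingEquiv.ofBijective σ hσ).symm
  have hτ : ∀ r : R, τ (IsLocalRing.residue R' (algebraMap R R' r)) = IsLocalRing.residue R r := by
    intro r
    rw [RingEquiv.symm_apply_eq]
    rfl
  let ψ : R' →+* IsLocalRing.ResidueField B :=
    (IsLocalRing.ResidueField.map (algebraMap R B)).comp
      (τ.toRingHom.comp (IsLocalRing.residue R'))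
  letI : Algebra R (IsLocalRing.ResidueField B) :=
    ((IsLocalRing.residue B).comp (algebraMap R B)).toAlgebra
  let fB : B →ₐ[R] IsLocalRing.ResidueField B :=
    { IsLocalRing.residue B with commutes' := fun r => rfl }
  let gR : R' →ₐ[R] IsLocalRing.ResidueField B :=
    { ψ with
      commutes' := fun r => by
        change (IsLocalRing.ResidueField.map (algebraMap R B))
          (τ (IsLocalRing.residue R' (algebraMap R R' r))) = _
        rw [hτ, IsLocalRing.ResidueField.map_residue]
        rfl }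
  refine ⟨(Algebra.TensorProduct.productMap fB gR).toRingHom, fun b => ?_, ?_⟩
  · change Algebra.TensorProduct.productMap fB gR (b ⊗ₜ[R] (1 : R')) = _
    rw [Algebra.TensorProduct.productMap_apply_tmul, map_one, mul_one]
    rfl
  · change Algebra.TensorProduct.productMap fB gR ((1 : B) ⊗ₜ[R] ϖ') = _
    rw [Algebra.TensorProduct.productMap_apply_tmul, map_one, one_mul]
    change (IsLocalRing.ResidueField.map (algebraMap R B)) (τ (IsLocalRing.residue R' ϖ')) = 0
    have : IsLocalRing.residue R' ϖ' = 0 := by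
      rw [IsLocalRing.residue_eq_zero_iff, hϖ'.maximalIdeal_eq]
      exact Ideal.mem_span_singleton_self ϖ'
    rw [this, map_zero, map_zero]

include hB hinj in
theorem span_isMaximal (ϖ' : R') (hϖ' : Irreducible ϖ') :
    (Ideal.span {(1 : B) ⊗ₜ[R] ϖ'} : Ideal (B ⊗[R] R')).IsMaximal := by
  obtain ⟨ρ, hρ1, hρ2⟩ := exists_rho R B hB R' hinj ϖ' hϖ'
  have hsurj : Function.Surjective ρ := by
    intro y
    obtain ⟨b, rfl⟩ := IsLocalRing.residue_surjective y
    exact ⟨b ⊗ₜ[R] 1, hρ1 b⟩
  have hker : RingHom.ker ρ = Ideal.span {(1 : B) ⊗ₜ[R] ϖ'} := by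
    apply le_antisymm
    · intro z hz
      rw [RingHom.mem_ker] at hz
      obtain ⟨b, c, rfl⟩ := exists_decomp R B R' hinj ϖ' hϖ' z
      rw [map_add, map_mul, hρ2, zero_mul, add_zero, hρ1, IsLocalRing.residue_eq_zero_iff] at hz
      obtain ⟨c', hc'⟩ := tmul_one_mem R B hB R' ϖ' hϖ' b hz
      rw [hc', ← mul_add]
      exact Ideal.mul_mem_right _ _ (Ideal.mem_span_singleton_self _)
    · rw [Ideal.span_le, Set.singleton_subset_iff]
      exact hρ2
  rw [← hker]
  exact RingHom.ker_isMaximal_of_surjective ρ hsurj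

end tensor

section field

variable (R : Type u) [CommRing R] [IsDomain R] [IsDiscreteValuationRing R]
  (B : Type u) [CommRing B] [IsDomain B] [IsDiscreteValuationRing B] [Algebra R B]
  (hB : IsLocalRing.maximalIdeal B = Ideal.map (algebraMap R B) (IsLocalRing.maximalIdeal R))

include hB in
theorem algebraMap_injective : Function.Injective (algebraMap R B) := by
  obtain ⟨ϖ, hϖ⟩ := IsDiscreteValuationRing.exists_irreducible R
  rw [injective_iff_map_eq_zero]
  intro r hr
  by_contra hr0
  obtain ⟨n, u, hu⟩ := IsDiscreteValuationRing.associated_pow_irreducible hr0 hϖ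
  have h1 : algebraMap R B ϖ ^ n = 0 := by
    rw [← map_pow]
    rw [← hu, map_mul, hr, zero_mul]
  have h2 : algebraMap R B ϖ = 0 := eq_zero_of_pow_eq_zero h1
  apply IsDiscreteValuationRing.not_a_field B
  rw [hB, hϖ.maximalIdeal_eq, Ideal.map_span, Set.image_singleton, h2]
  simp

include hB in
theorem isUnit_algebraMap_tensor (K' : Type u) [Field K'] [Algebra R K']
    (hinjK : Function.Injective (algebraMap R K')) (b : B) (hb : b ≠ 0) :
    IsUnit (b ⊗ₜ[R] (1 : K') : B ⊗[R] K') := by
  obtain ⟨ϖ, hϖ⟩ := IsDiscreteValuationRing.exists_irreducible R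
  have hϖB0 : algebraMap R B ϖ ≠ 0 := fun h =>
    hϖ.ne_zero (algebraMap_injective R B hB (h.trans (map_zero _).symm))
  have hϖB : Irreducible (algebraMap R B ϖ) := by
    apply IsDiscreteValuationRing.irreducible_of_span_eq_maximalIdeal _ hϖB0
    rw [hB, hϖ.maximalIdeal_eq, Ideal.map_span, Set.image_singleton]
  obtain ⟨n, u, hu⟩ := IsDiscreteValuationRing.associated_pow_irreducible hb hϖB
  -- `b * u = ϖ^n`
  have h1 : IsUnit ((algebraMap R B ϖ) ⊗ₜ[R] (1 : K') : B ⊗[R] K') := by
    have hne : algebraMap R K' ϖ ≠ 0 := fun h =>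
      hϖ.ne_zero (hinjK (h.trans (map_zero _).symm))
    have e : ((algebraMap R B ϖ) ⊗ₜ[R] (1 : K') : B ⊗[R] K') = (1 : B) ⊗ₜ[R] (algebraMap R K' ϖ) := by
      rw [Algebra.algebraMap_eq_smul_one, Algebra.algebraMap_eq_smul_one, TensorProduct.smul_tmul]
    rw [e]
    refine IsUnit.of_mul_eq_one ((1 : B) ⊗ₜ[R] (algebraMap R K' ϖ)⁻¹) ?_
    rw [Algebra.TensorProduct.tmul_mul_tmul, one_mul, mul_inv_cancel₀ hne]
    rfl
  have h2 : (b ⊗ₜ[R] (1 : K') : B ⊗[R] K') * ((u : B) ⊗ₜ[R] (1 : K')) =
      ((algebraMap R B ϖ) ⊗ₜ[R] (1 : K')) ^ n := by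
    rw [Algebra.TensorProduct.tmul_mul_tmul, hu, mul_one, Algebra.TensorProduct.tmul_pow, one_pow]
  exact isUnit_of_mul_isUnit_left (h2 ▸ h1.pow n)

include hB in
theorem isField_tensor_of_isAlgebraic (K' : Type u) [Field K'] [Algebra R K']
    (hinjK : Function.Injective (algebraMap R K')) (halg : ∀ x : K', IsAlgebraic R x)
    [IsDomain (B ⊗[R] K')] : IsField (B ⊗[R] K') := by
  haveI : FaithfulSMul R B := (faithfulSMul_iff_algebraMap_injective R B).mpr
    (algebraMap_injective R B hB)
  have hz : ∀ z : B ⊗[R] K', IsAlgebraic B z := by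
    intro z
    induction z using TensorProduct.induction_on with
    | zero => exact isAlgebraic_zero
    | tmul b x => exact (halg x).tmul b
    | add x y hx hy => exact hx.add hy
  refine ⟨exists_pair_ne _, mul_comm, fun {z} hz0 => ?_⟩
  obtain ⟨r, hr0, hdvd⟩ := (hz z).exists_nonzero_dvd (mem_nonZeroDivisors_of_ne_zero hz0)
  have hu : IsUnit (algebraMap B (B ⊗[R] K') r) := isUnit_algebraMap_tensor R B hB K' hinjK r hr0
  exact (isUnit_of_dvd_unit hdvd hu).exists_right_inv

end field

section crit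

/-- a domain with a maximal principal ideal `(t)` in which every nonzero element divides a power
of `t` is a DVR -/
theorem isDVR_of_dvd_pow (C : Type u) [CommRing C] [IsDomain C] (t : C) (ht0 : t ≠ 0)
    (hmax : (Ideal.span {t} : Ideal C).IsMaximal)
    (H : ∀ c : C, c ≠ 0 → ∃ (n : ℕ) (d : C), c * d = t ^ n) :
    IsDiscreteValuationRing C := by
  have hprime : Prime t := (Ideal.span_singleton_prime ht0).mp hmax.isPrime
  have key : ∀ (N : ℕ) (c d : C), c * d = t ^ N → ∃ n : ℕ, Associated (t ^ n) c := by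
    intro N
    induction N with
    | zero =>
      intro c d h
      rw [pow_zero] at h
      exact ⟨0, by
        rw [pow_zero]
        exact (associated_one_iff_isUnit.mpr (IsUnit.of_mul_eq_one d h)).symm⟩
    | succ N ih =>
      intro c d h
      have hdvd : t ∣ c * d := ⟨t ^ N, by rw [h, pow_succ, mul_comm]⟩
      rcases hprime.dvd_or_dvd hdvd with ⟨c', rfl⟩ | ⟨d', rfl⟩
      · have h' : c' * d = t ^ N := by
          apply mul_left_cancel₀ ht0
          rw [← mul_assoc, h, pow_succ, mul_comm]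
        obtain ⟨n, hn⟩ := ih c' d h'
        refine ⟨n + 1, ?_⟩
        rw [pow_succ, mul_comm]
        exact hn.mul_left t
      · have h' : c * d' = t ^ N := by
          apply mul_left_cancel₀ ht0
          have : t * t ^ N = t ^ (N + 1) := by rw [pow_succ, mul_comm]
          rw [this, ← h]
          ring
        exact ih c d' h'
  apply IsDiscreteValuationRing.ofHasUnitMulPowIrreducibleFactorization
  refine ⟨t, hprime.irreducible, fun {x} hx => ?_⟩
  obtain ⟨N, d, h⟩ := H x hx
  exact key N x d h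

end crit

section main

variable (R : Type u) [CommRing R] [IsDomain R] [IsDiscreteValuationRing R]
  [IsAlgClosed (IsLocalRing.ResidueField R)]
  (B : Type u) [CommRing B] [IsDomain B] [IsDiscreteValuationRing B] [Algebra R B]
  (hB : IsLocalRing.maximalIdeal B = Ideal.map (algebraMap R B) (IsLocalRing.maximalIdeal R))
  (R' : Type u) [CommRing R'] [IsDomain R'] [IsDiscreteValuationRing R'] [Algebra R R']
  (hinj : Function.Injective (algebraMap R R')) [IsLocalHom (algebraMap R R')]
  [Module.Finite (FractionRing R) (FractionRing R ⊗[R] R')]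

include hinj in
theorem isAlgebraic_fractionRing (x : FractionRing R') : IsAlgebraic R x := by
  obtain ⟨a, s, hs, rfl⟩ := IsFractionRing.div_surjective (A := R') x
  have ha : IsAlgebraic R (algebraMap R' (FractionRing R') a) :=
    (isAlgebraic_of_finite R R' hinj a).algHom (IsScalarTower.toAlgHom R R' (FractionRing R'))
  have hs' : IsAlgebraic R (algebraMap R' (FractionRing R') s) :=
    (isAlgebraic_of_finite R R' hinj s).algHom (IsScalarTower.toAlgHom R R' (FractionRing R'))
  rw [div_eq_mul_inv]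
  exact ha.mul hs'.inv

include hB hinj in
theorem isDVR_tensor (hdom : IsDomain (B ⊗[R] FractionRing R')) :
    ∃ _ : IsDomain (B ⊗[R] R'), IsDiscreteValuationRing (B ⊗[R] R') := by
  have hinjB := algebraMap_injective R B hB
  haveI : Module.IsTorsionFree R B := Module.isTorsionFree_iff_algebraMap_injective.mpr hinjB
  haveI : Module.Flat R B := inferInstance
  have hinjK : Function.Injective (algebraMap R (FractionRing R')) := by
    rw [IsScalarTower.algebraMap_eq R R' (FractionRing R')]
    exact (IsFractionRing.injective R' (FractionRing R')).comp hinj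
  have hfield : IsField (B ⊗[R] FractionRing R') :=
    isField_tensor_of_isAlgebraic R B hB (FractionRing R') hinjK
      (isAlgebraic_fractionRing R R' hinj)
  let g : R' →ₐ[R] FractionRing R' := IsScalarTower.toAlgHom R R' (FractionRing R')
  let ι : B ⊗[R] R' →ₐ[R] B ⊗[R] FractionRing R' :=
    Algebra.TensorProduct.map (AlgHom.id R B) g
  have hι : Function.Injective ι := by
    have h1 : Function.Injective (LinearMap.lTensor B g.toLinearMap) :=
      Module.Flat.lTensor_preserves_injective_linearMap g.toLinearMap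
        (IsFractionRing.injective R' (FractionRing R'))
    intro x y hxy
    apply h1
    exact hxy
  have hιtmul : ∀ (b : B) (a : R'), ι (b ⊗ₜ[R] a) = b ⊗ₜ[R] algebraMap R' (FractionRing R') a :=
    fun b a => rfl
  haveI hC : IsDomain (B ⊗[R] R') := hι.isDomain ι.toRingHom
  refine ⟨hC, ?_⟩
  obtain ⟨ϖ', hϖ'⟩ := IsDiscreteValuationRing.exists_irreducible R'
  have hϖ'0 : algebraMap R' (FractionRing R') ϖ' ≠ 0 := fun h =>
    hϖ'.ne_zero (IsFractionRing.injective R' (FractionRing R') (h.trans (map_zero _).symm))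
  have htunit : IsUnit (ι ((1 : B) ⊗ₜ[R] ϖ')) := by
    rw [hιtmul]
    refine IsUnit.of_mul_eq_one ((1 : B) ⊗ₜ[R] (algebraMap R' (FractionRing R') ϖ')⁻¹) ?_
    rw [Algebra.TensorProduct.tmul_mul_tmul, one_mul, mul_inv_cancel₀ hϖ'0]
    rfl
  have ht0 : ((1 : B) ⊗ₜ[R] ϖ' : B ⊗[R] R') ≠ 0 := by
    intro h
    rw [h, map_zero] at htunit
    exact not_isUnit_zero htunit
  have hmax := span_isMaximal R B hB R' hinj ϖ' hϖ'
  -- every element of `E` times a power of `t` lies in `C`
  have hstar : ∀ e : B ⊗[R] FractionRing R', ∃ (n : ℕ) (d : B ⊗[R] R'),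
      e * (ι ((1 : B) ⊗ₜ[R] ϖ')) ^ n = ι d := by
    intro e
    induction e using TensorProduct.induction_on with
    | zero => exact ⟨0, 0, by simp⟩
    | tmul b x =>
      obtain ⟨a, s, hs, rfl⟩ := IsFractionRing.div_surjective (A := R') x
      have hs0 : s ≠ 0 := nonZeroDivisors.ne_zero hs
      obtain ⟨n, u, hu⟩ := IsDiscreteValuationRing.associated_pow_irreducible hs0 hϖ'
      refine ⟨n, b ⊗ₜ[R] (a * u), ?_⟩
      rw [hιtmul, hιtmul, Algebra.TensorProduct.tmul_pow, one_pow,
        Algebra.TensorProduct.tmul_mul_tmul, mul_one, ← map_pow, ← hu, map_mul, map_mul]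
      congr 1
      have : algebraMap R' (FractionRing R') s ≠ 0 := fun h =>
        hs0 (IsFractionRing.injective R' (FractionRing R') (h.trans (map_zero _).symm))
      field_simp
    | add x y hx hy =>
      obtain ⟨n₁, d₁, h₁⟩ := hx
      obtain ⟨n₂, d₂, h₂⟩ := hy
      refine ⟨n₁ + n₂, d₁ * ((1 : B) ⊗ₜ[R] ϖ') ^ n₂ + d₂ * ((1 : B) ⊗ₜ[R] ϖ') ^ n₁, ?_⟩
      rw [map_add, map_mul, map_mul, map_pow, map_pow, ← h₁, ← h₂, pow_add]
      ring
  apply isDVR_of_dvd_pow (B ⊗[R] R') ((1 : B) ⊗ₜ[R] ϖ') ht0 hmax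
  intro c hc
  have hιc : ι c ≠ 0 := fun h => hc (hι (h.trans (map_zero _).symm))
  obtain ⟨e, he⟩ := hfield.mul_inv_cancel hιc
  obtain ⟨n, d, hd⟩ := hstar e
  refine ⟨n, d, ?_⟩
  apply hι
  rw [map_mul, ← hd, ← mul_assoc, he, one_mul, map_pow]

end main

end Groth.Agent.Lib.T2H9.ModelDVR
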