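import Groth.Agent.Lib.T2H9DiagGeom
import Groth.Agent.Lib.T2H2GenFlat
import Groth.Prelude.Def_Coh

set_option autoImplicit false
set_option linter.style.haveILetI false
set_option linter.unusedSectionVars false
universe u
open CategoryTheory AlgebraicGeometry Limits

namespace Groth.Agent.Lib.T2H9.UnifFibre

open Groth.Agent.Lib.T2H9.DiagGeom Groth.Agent.Lib.T2H9.IntMultSetup

/-- the kernel of `Γ(Spec R) → Γ(Spec κ)` is the extension of the maximal ideal -/
theorem ker_appTop_residue (R : Type u) [CommRing R] [IsLocalRing R] :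
    RingHom.ker (Spec.map (CommRingCat.ofHom (IsLocalRing.residue R))).appTop.hom =
      (IsLocalRing.maximalIdeal R).map (Scheme.ΓSpecIso (CommRingCat.of R)).inv.hom := by
  have hnat := Scheme.ΓSpecIso_naturality (CommRingCat.ofHom (IsLocalRing.residue R))
  have hbij : Function.Bijective (Scheme.ΓSpecIso (CommRingCat.of R)).inv.hom :=
    ConcreteCategory.bijective_of_isIso (Scheme.ΓSpecIso (CommRingCat.of R)).inv
  have hinj2 : Function.Injective
      (Scheme.ΓSpecIso (CommRingCat.of (IsLocalRing.ResidueField R))).hom.hom :=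
    (ConcreteCategory.bijective_of_isIso
      (Scheme.ΓSpecIso (CommRingCat.of (IsLocalRing.ResidueField R))).hom).1
  apply le_antisymm
  · intro a ha
    rw [RingHom.mem_ker] at ha
    have h1 : (IsLocalRing.residue R) ((Scheme.ΓSpecIso (CommRingCat.of R)).hom.hom a) = 0 := by
      have := congrArg (fun φ => φ.hom a) hnat
      simp only [CommRingCat.hom_comp, RingHom.comp_apply, CommRingCat.hom_ofHom] at this
      rw [← this, ha, map_zero]
    have h2 : (Scheme.ΓSpecIso (CommRingCat.of R)).hom.hom a ∈ IsLocalRing.maximalIdeal R := by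
      rwa [← IsLocalRing.residue_eq_zero_iff]
    have h3 := Ideal.mem_map_of_mem (Scheme.ΓSpecIso (CommRingCat.of R)).inv.hom h2
    have h4 : (Scheme.ΓSpecIso (CommRingCat.of R)).inv.hom
        ((Scheme.ΓSpecIso (CommRingCat.of R)).hom.hom a) = a := by
      rw [← RingHom.comp_apply, ← CommRingCat.hom_comp, Iso.hom_inv_id]; rfl
    rwa [h4] at h3
  · rw [Ideal.map_le_iff_le_comap]
    intro r hr
    rw [Ideal.mem_comap, RingHom.mem_ker]
    apply hinj2
    rw [map_zero]
    have := congrArg (fun φ => φ.hom ((Scheme.ΓSpecIso (CommRingCat.of R)).inv.hom r)) hnat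
    simp only [CommRingCat.hom_comp, RingHom.comp_apply, CommRingCat.hom_ofHom] at this
    rw [this]
    have h4 : (Scheme.ΓSpecIso (CommRingCat.of R)).hom.hom
        ((Scheme.ΓSpecIso (CommRingCat.of R)).inv.hom r) = r := by
      rw [← RingHom.comp_apply, ← CommRingCat.hom_comp, Iso.inv_hom_id]; rfl
    rw [h4]
    rwa [IsLocalRing.residue_eq_zero_iff]

theorem main (R : Type u) [CommRing R] [IsLocalRing R]
    (X : Scheme.{u}) (f : X ⟶ Spec (CommRingCat.of R))
    (Xs : Scheme.{u}) (gs : Xs ⟶ X) (fs : Xs ⟶ Spec (CommRingCat.of (IsLocalRing.ResidueField R)))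
    (hs : IsPullback gs fs f (Spec.map (CommRingCat.ofHom (IsLocalRing.residue R))))
    [IsReduced Xs]
    (ξ : Xs) (hξ : closure ({ξ} : Set Xs) ∈ irreducibleComponents Xs) :
    IsLocalRing.maximalIdeal (X.presheaf.stalk (gs ξ)) =
      Ideal.map ((X.presheaf.germ ⊤ (gs ξ) trivial).hom.comp (Coh.toGlobal f))
        (IsLocalRing.maximalIdeal R) := by
  haveI hi : IsClosedImmersion (Spec.map (CommRingCat.ofHom (IsLocalRing.residue R))) :=
    IsClosedImmersion.spec_of_surjective _ IsLocalRing.residue_surjective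
  haveI : IsClosedImmersion gs := MorphismProperty.of_isPullback hs.flip inferInstance
  have hfield : IsField (Xs.presheaf.stalk ξ) := by
    refine Groth.Agent.Lib.T2H2.GenFlat.isField_stalk_of_maximal ξ (fun y' hy' => ?_)
    have h1 : closure ({ξ} : Set Xs) ≤ closure ({y'} : Set Xs) :=
      closure_minimal (Set.singleton_subset_iff.mpr (specializes_iff_mem_closure.mp hy'))
        isClosed_closure
    have h2 := hξ.2 isIrreducible_singleton.closure h1
    have h3 : ξ ⤳ y' := specializes_iff_mem_closure.mpr (h2 (subset_closure rfl))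
    exact (hy'.antisymm h3).eq
  have hsurj : Function.Surjective (gs.stalkMap ξ).hom := gs.stalkMap_surjective ξ
  have hmax : RingHom.ker (gs.stalkMap ξ).hom = IsLocalRing.maximalIdeal _ := by
    letI := hfield.toField
    haveI : (RingHom.ker (gs.stalkMap ξ).hom).IsMaximal :=
      RingHom.ker_isMaximal_of_surjective _ hsurj
    exact IsLocalRing.eq_maximalIdeal this
  have hgx : f (gs ξ) ∈ (Spec.map (CommRingCat.ofHom (IsLocalRing.residue R))).ker.support := by
    apply (Spec.map (CommRingCat.ofHom (IsLocalRing.residue R))).range_subset_ker_support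
    refine ⟨fs ξ, ?_⟩
    rw [← Scheme.Hom.comp_apply, ← hs.w, Scheme.Hom.comp_apply]
  rw [← hmax, ker_stalkMap_eq_stalkIdeal, stalkIdeal_ker_of_isPullback hs ξ,
    stalkIdeal_eq_map_germ _ _ hgx ⟨⊤, isAffineOpen_top _⟩ trivial, Scheme.Hom.ker_apply]
  erw [ker_appTop_residue]
  rw [Ideal.map_map, Ideal.map_map]
  congr 1
  have hg : (Spec (CommRingCat.of R)).presheaf.germ ⊤ (f (gs ξ)) trivial ≫ f.stalkMap (gs ξ) =
      f.appTop ≫ X.presheaf.germ ⊤ (gs ξ) trivial :=
    Scheme.Hom.germ_stalkMap f ⊤ (gs ξ) trivial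
  unfold Coh.toGlobal
  rw [← RingHom.comp_assoc]
  change (CommRingCat.Hom.hom ((Spec (CommRingCat.of R)).presheaf.germ ⊤ (f (gs ξ)) trivial ≫
    f.stalkMap (gs ξ))).comp _ = _
  rw [hg]
  rfl

end Groth.Agent.Lib.T2H9.UnifFibre
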