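import Groth.Agent.Lib.T2H9ModelConn
import Groth.Agent.Lib.T2H9UnifFibre
import Groth.Agent.Lib.T2H7MumF
import Groth.Agent.Lib.T2H7NormalPush
import Groth.Agent.Lib.T2H6CurveSmooth

/-!
# Global functions of a flat proper model with reduced connected special fibre (helper9)

* `exists_eq_mul_of_forall_affine`: divisibility by a regular global section is local;
* `exists_eq_mul_of_appTop_eq_zero`: a global function vanishing on the special fibre is divisible
  by the uniformizer;
* `appTop_bijective`: `R ≅ Γ(X, O_X)`;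
* `isIntegral_PK`: every base change `X_K ×_K K'` of the (smooth) generic fibre is integral;
* `isDomain_stalk_tensor`: `O_{X,x} ⊗_R K'` is a domain for every `x ∈ X` and every field `K' ⊇ K`.
-/

set_option autoImplicit false
set_option linter.style.haveILetI false
set_option linter.unusedSectionVars false
set_option linter.unusedVariables false
universe u
open CategoryTheory AlgebraicGeometry Limits TopologicalSpace Opposite
open scoped TensorProduct

namespace Groth.Agent.Lib.T2H9.ModelGamma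

section glue
variable {X : Scheme.{u}}

theorem res_res {U V W : X.Opens} (i : W ⟶ V) (j : V ⟶ U) (t : Γ(X, U)) :
    X.presheaf.map i.op (X.presheaf.map j.op t) = X.presheaf.map (i ≫ j).op t := by
  rw [← ConcreteCategory.comp_apply, ← Functor.map_comp]
  rfl

/-- divisibility of a global section by a regular global section can be checked on affine opens -/
theorem exists_eq_mul_of_forall_affine (s a : Γ(X, ⊤))
    (hreg : ∀ U : X.affineOpens,
      X.presheaf.map (homOfLE (le_top : U.1 ≤ ⊤)).op s ∈ nonZeroDivisors Γ(X, U.1))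
    (h : ∀ U : X.affineOpens, ∃ b : Γ(X, U.1),
      X.presheaf.map (homOfLE (le_top : U.1 ≤ ⊤)).op a =
        X.presheaf.map (homOfLE (le_top : U.1 ≤ ⊤)).op s * b) :
    ∃ b : Γ(X, ⊤), a = s * b := by
  choose b hb using h
  have key : ∀ (U W : X.affineOpens) (hWU : W.1 ≤ U.1),
      X.presheaf.map (homOfLE hWU).op (b U) = b W := by
    intro U W hWU
    have h1 := congrArg (X.presheaf.map (homOfLE hWU).op) (hb U)
    rw [map_mul, res_res, res_res] at h1
    have h2 : X.presheaf.map (homOfLE (le_top : W.1 ≤ ⊤)).op s *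
        X.presheaf.map (homOfLE hWU).op (b U) =
        X.presheaf.map (homOfLE (le_top : W.1 ≤ ⊤)).op s * b W := by
      rw [← hb W]; exact h1.symm
    exact (mul_cancel_left_mem_nonZeroDivisors (hreg W)).mp h2
  have hcompat : TopCat.Presheaf.IsCompatible X.presheaf (fun U : X.affineOpens => U.1) b := by
    intro U V
    refine X.sheaf.eq_of_locally_eq' (fun W : {W : X.affineOpens // W.1 ≤ U.1 ⊓ V.1} => W.1.1)
      (U.1 ⊓ V.1) (fun W => homOfLE W.2) ?_ _ _ ?_
    · intro x hx
      obtain ⟨W, hW, hxW, hWle⟩ := Opens.isBasis_iff_nbhd.mp X.isBasis_affineOpens hx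
      exact Opens.mem_iSup.mpr ⟨⟨⟨W, hW⟩, hWle⟩, hxW⟩
    · intro W
      change X.presheaf.map _ (X.presheaf.map _ (b U)) = X.presheaf.map _ (X.presheaf.map _ (b V))
      rw [res_res, res_res]
      exact (key U W.1 (W.2.trans inf_le_left)).trans (key V W.1 (W.2.trans inf_le_right)).symm
  obtain ⟨g, hg, -⟩ := X.sheaf.existsUnique_gluing' (fun U : X.affineOpens => U.1) ⊤
    (fun U => homOfLE le_top) (by rw [iSup_affineOpens_eq_top]) b hcompat
  obtain ⟨g', hg'⟩ : ∃ g' : Γ(X, ⊤), g' = g := ⟨g, rfl⟩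
  refine ⟨g', ?_⟩
  refine X.sheaf.eq_of_locally_eq' (fun U : X.affineOpens => U.1) ⊤
    (fun U => homOfLE le_top) (by rw [iSup_affineOpens_eq_top]) _ _ ?_
  intro U
  change X.presheaf.map _ a = X.presheaf.map _ (s * g')
  rw [map_mul]
  have := hg U
  rw [← hg'] at this
  change X.presheaf.map _ g' = b U at this
  rw [this]
  exact hb U

end glue

section model

variable (R : Type u) [CommRing R] [IsDomain R] [IsDiscreteValuationRing R]
variable {X Xs : Scheme.{u}} (f : X ⟶ Spec (CommRingCat.of R))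
  (gs : Xs ⟶ X) (fs : Xs ⟶ Spec (CommRingCat.of (IsLocalRing.ResidueField R)))
  (hs : IsPullback gs fs f (Spec.map (CommRingCat.ofHom (IsLocalRing.residue R))))

theorem appLE_mem_nonZeroDivisors [Flat f] (U : X.affineOpens) (c : Γ(Spec (CommRingCat.of R), ⊤))
    (hc : c ≠ 0) : (f.appLE ⊤ U.1 le_top).hom c ∈ nonZeroDivisors Γ(X, U.1) := by
  have hflat : (f.appLE ⊤ U.1 le_top).hom.Flat :=
    HasRingHomProperty.appLE @Flat f inferInstance ⟨⊤, isAffineOpen_top _⟩ U le_top
  haveI : IsDomain Γ(Spec (CommRingCat.of R), ⊤) :=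
    (Scheme.ΓSpecIso (CommRingCat.of R)).commRingCatIsoToRingEquiv.toMulEquiv.isDomain_iff.mpr
      inferInstance
  letI : Algebra Γ(Spec (CommRingCat.of R), ⊤) Γ(X, U.1) := (f.appLE ⊤ U.1 le_top).hom.toAlgebra
  haveI : Module.Flat Γ(Spec (CommRingCat.of R), ⊤) Γ(X, U.1) := hflat
  have hreg : IsSMulRegular Γ(Spec (CommRingCat.of R), ⊤) c := fun x y hxy =>
    mul_left_cancel₀ hc hxy
  have h2 : IsSMulRegular Γ(X, U.1) (algebraMap Γ(Spec (CommRingCat.of R), ⊤) Γ(X, U.1) c) :=
    hreg.of_flat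
  have h3 : ∀ y : Γ(X, U.1), (f.appLE ⊤ U.1 le_top).hom c * y = 0 → y = 0 := by
    intro y hy
    apply h2
    change algebraMap Γ(Spec (CommRingCat.of R), ⊤) Γ(X, U.1) c * y =
      algebraMap Γ(Spec (CommRingCat.of R), ⊤) Γ(X, U.1) c * 0
    rw [mul_zero]
    exact hy
  rw [mem_nonZeroDivisors_iff]
  exact ⟨h3, fun y hy => h3 y (by rw [mul_comm]; exact hy)⟩

theorem res_appTop (U : X.Opens) (c : Γ(Spec (CommRingCat.of R), ⊤)) :
    X.presheaf.map (homOfLE (le_top : U ≤ ⊤)).op (f.appTop.hom c) =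
      (f.appLE ⊤ U le_top).hom c := by
  rw [Scheme.Hom.appLE]
  rfl

include hs in
/-- a global function vanishing on the special fibre is divisible by the uniformizer -/
theorem exists_eq_mul_of_appTop_eq_zero [Flat f] (ϖ : R) (hϖ : Irreducible ϖ) (a : Γ(X, ⊤))
    (ha : gs.appTop.hom a = 0) :
    ∃ b : Γ(X, ⊤), a = f.appTop.hom ((Scheme.ΓSpecIso (CommRingCat.of R)).inv.hom ϖ) * b := by
  haveI hi : IsClosedImmersion (Spec.map (CommRingCat.ofHom (IsLocalRing.residue R))) :=
    IsClosedImmersion.spec_of_surjective _ IsLocalRing.residue_surjective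
  have hϖ' : (Scheme.ΓSpecIso (CommRingCat.of R)).inv.hom ϖ ≠ 0 := by
    intro h0
    apply hϖ.ne_zero
    have := congrArg (Scheme.ΓSpecIso (CommRingCat.of R)).hom.hom h0
    rw [map_zero] at this
    rw [← this]
    exact (Iso.inv_hom_id_apply (Scheme.ΓSpecIso (CommRingCat.of R)) ϖ).symm
  apply exists_eq_mul_of_forall_affine
  · intro U
    rw [res_appTop]
    exact appLE_mem_nonZeroDivisors R f U _ hϖ'
  · intro U
    rw [res_appTop]
    have hker := Groth.Agent.Lib.T2H9.RegImmBC.ker_app_eq hs (isAffineOpen_top _) U.2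
      (le_top : U.1 ≤ f ⁻¹ᵁ ⊤)
    have hmem : X.presheaf.map (homOfLE (le_top : U.1 ≤ ⊤)).op a ∈
        RingHom.ker (gs.app U.1).hom := by
      rw [RingHom.mem_ker]
      have hnat := gs.naturality (homOfLE (le_top : U.1 ≤ ⊤)).op
      have := congrArg (fun φ => φ.hom a) hnat
      simp only [CommRingCat.hom_comp, RingHom.comp_apply] at this
      refine this.trans ?_
      have ha' : (gs.app ⊤).hom a = 0 := ha
      rw [ha', map_zero]
    rw [hker] at hmem
    have h2 : RingHom.ker ((Spec.map (CommRingCat.ofHom (IsLocalRing.residue R))).app ⊤).hom =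
        (IsLocalRing.maximalIdeal R).map (Scheme.ΓSpecIso (CommRingCat.of R)).inv.hom :=
      Groth.Agent.Lib.T2H9.UnifFibre.ker_appTop_residue R
    rw [h2, Ideal.map_map, hϖ.maximalIdeal_eq, Ideal.map_span, Set.image_singleton,
      Ideal.mem_span_singleton'] at hmem
    obtain ⟨b, hb⟩ := hmem
    refine ⟨b, ?_⟩
    rw [← hb, mul_comm]
    rfl

include hs in
/-- `R ≅ Γ(X, O_X)` for a flat proper model with reduced connected special fibre over an
algebraically closed residue field -/
theorem appTop_bijective [IsProper f] [Flat f] [IsAlgClosed (IsLocalRing.ResidueField R)]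
    [ConnectedSpace Xs] [IsReduced Xs] : Function.Bijective f.appTop.hom := by
  obtain ⟨ϖ, hϖ⟩ := IsDiscreteValuationRing.exists_irreducible R
  haveI : IsProper fs := MorphismProperty.of_isPullback hs ‹IsProper f›
  have hfs := Groth.Agent.Lib.T2H7.MumF.appTop_bijective_of_isAlgClosed_of_connected fs
  let α := (Scheme.ΓSpecIso (CommRingCat.of R))
  have hαinv : Function.Bijective α.inv.hom := ConcreteCategory.bijective_of_isIso α.inv
  have hαhom : Function.Bijective α.hom.hom := ConcreteCategory.bijective_of_isIso α.hom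
  let ι := Spec.map (CommRingCat.ofHom (IsLocalRing.residue R))
  have hιsurj : Function.Surjective ι.appTop.hom := by
    have hnat := Scheme.ΓSpecIso_naturality (CommRingCat.ofHom (IsLocalRing.residue R))
    intro cb
    obtain ⟨r, hr⟩ := IsLocalRing.residue_surjective
      ((Scheme.ΓSpecIso (CommRingCat.of (IsLocalRing.ResidueField R))).hom.hom cb)
    refine ⟨α.inv.hom r, ?_⟩
    apply (ConcreteCategory.bijective_of_isIso
      (Scheme.ΓSpecIso (CommRingCat.of (IsLocalRing.ResidueField R))).hom).1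
    have := congrArg (fun φ => φ.hom (α.inv.hom r)) hnat
    simp only [CommRingCat.hom_comp, RingHom.comp_apply, CommRingCat.hom_ofHom] at this
    refine this.trans ?_
    rw [← hr]
    congr 1
    exact Iso.inv_hom_id_apply α r
  have hw : ∀ c, gs.appTop.hom (f.appTop.hom c) = fs.appTop.hom (ι.appTop.hom c) := by
    intro c
    have := congrArg (fun t => Scheme.Hom.appTop t) hs.w
    simp only [Scheme.Hom.comp_appTop] at this
    exact ConcreteCategory.congr_hom this c
  have hϖ' : α.inv.hom ϖ ≠ 0 := by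
    intro h0
    apply hϖ.ne_zero
    have := congrArg α.hom.hom h0
    rw [map_zero] at this
    rw [← this]
    exact (Iso.inv_hom_id_apply α ϖ).symm
  haveI : Nonempty X := ⟨gs (Classical.arbitrary Xs)⟩
  have hne : Nonempty (⊤ : X.Opens) := ⟨⟨Classical.arbitrary X, trivial⟩⟩
  have hnt : Nontrivial Γ(X, ⊤) := Scheme.component_nontrivial X ⊤
  constructor
  · -- injectivity
    rw [injective_iff_map_eq_zero]
    intro c hc
    by_contra hc0
    have hc0' : α.hom.hom c ≠ 0 := fun h => hc0 (hαhom.1 (h.trans (map_zero _).symm))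
    obtain ⟨n, hn⟩ := IsDiscreteValuationRing.associated_pow_irreducible hc0' hϖ
    obtain ⟨v, hv⟩ := hn
    have h1 : c * α.inv.hom (v : R) = (α.inv.hom ϖ) ^ n := by
      rw [← map_pow, ← hv, map_mul]
      congr 1
      exact (Iso.hom_inv_id_apply α c).symm
    have h2 : (f.appTop (α.inv.hom ϖ)) ^ n * 1 = 0 := by
      rw [mul_one]
      change (f.appTop.hom (α.inv.hom ϖ)) ^ n = 0
      rw [← map_pow, ← h1, map_mul, hc, zero_mul]
    have := Groth.Agent.Lib.T2H9.ModelConn.eq_zero_of_pow_mul_eq_zero f _ hϖ' n 1 h2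
    exact one_ne_zero this
  · -- surjectivity
    let φ : R →+* Γ(X, ⊤) := f.appTop.hom.comp α.inv.hom
    letI : Algebra R Γ(X, ⊤) := φ.toAlgebra
    haveI hfin : Module.Finite R Γ(X, ⊤) := by
      letI alg1 : Algebra Γ(Spec (CommRingCat.of R), ⊤) Γ(X, ⊤) := f.appTop.hom.toAlgebra
      haveI h1 : Module.Finite Γ(Spec (CommRingCat.of R), ⊤) Γ(X, ⊤) :=
        Groth.Agent.Lib.T2H9.SteinFinite.finite_sections_of_isProper f ⊤ (isAffineOpen_top _)
      letI alg2 : Algebra R Γ(Spec (CommRingCat.of R), ⊤) := α.inv.hom.toAlgebra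
      haveI : IsScalarTower R Γ(Spec (CommRingCat.of R), ⊤) Γ(X, ⊤) :=
        IsScalarTower.of_algebraMap_eq (fun r => rfl)
      haveI h2 : Module.Finite R Γ(Spec (CommRingCat.of R), ⊤) :=
        Module.Finite.of_surjective (Algebra.linearMap R Γ(Spec (CommRingCat.of R), ⊤)) hαinv.2
      exact Module.Finite.trans Γ(Spec (CommRingCat.of R), ⊤) Γ(X, ⊤)
    have key : (⊤ : Submodule R Γ(X, ⊤)) ≤ LinearMap.range (Algebra.linearMap R Γ(X, ⊤)) := by
      apply Submodule.le_of_le_smul_of_le_jacobson_bot (I := IsLocalRing.maximalIdeal R)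
        Module.Finite.fg_top (IsLocalRing.maximalIdeal_le_jacobson ⊥)
      intro a _
      obtain ⟨cb, hcb⟩ := hfs.2 (gs.appTop.hom a)
      obtain ⟨c, rfl⟩ := hιsurj cb
      have h0 : gs.appTop.hom (a - f.appTop.hom c) = 0 := by
        rw [map_sub, hw, hcb, sub_self]
      obtain ⟨b, hb⟩ := exists_eq_mul_of_appTop_eq_zero R f gs fs hs ϖ hϖ _ h0
      have ha : a = algebraMap R Γ(X, ⊤) (α.hom.hom c) + ϖ • b := by
        rw [Algebra.smul_def]
        change a = f.appTop.hom (α.inv.hom (α.hom.hom c)) + f.appTop.hom (α.inv.hom ϖ) * b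
        rw [← hb, Iso.hom_inv_id_apply]
        ring
      rw [ha]
      refine Submodule.add_mem_sup ⟨α.hom.hom c, rfl⟩ ?_
      exact Submodule.smul_mem_smul (hϖ.maximalIdeal_eq ▸ Ideal.mem_span_singleton_self ϖ)
        Submodule.mem_top
    intro a
    obtain ⟨r, hr⟩ := key (Submodule.mem_top : a ∈ ⊤)
    exact ⟨α.inv.hom r, hr⟩

end model

section alg

/-- a localization of a domain `A ⊗ S` along `A → B` -/
theorem isDomain_tensor_of_isLocalization (R S A B : Type u) [CommRing R] [CommRing S] [CommRing A]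
    [CommRing B] [Algebra R S] [Algebra R A] [Algebra R B] [Algebra A B] [IsScalarTower R A B]
    (M : Submonoid A) [IsLocalization M B] [IsDomain (A ⊗[R] S)] [Nontrivial (B ⊗[R] S)]
    : IsDomain (B ⊗[R] S) := by
  letI alg : Algebra (A ⊗[R] S) (B ⊗[R] S) :=
    (Algebra.TensorProduct.map (IsScalarTower.toAlgHom R A B) (AlgHom.id R S)).toRingHom.toAlgebra
  haveI : IsScalarTower A (A ⊗[R] S) (B ⊗[R] S) := IsScalarTower.of_algebraMap_eq (fun a => by
    change (algebraMap A B a) ⊗ₜ[R] (1 : S) = Algebra.TensorProduct.map (IsScalarTower.toAlgHom R A B)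
      (AlgHom.id R S) (a ⊗ₜ[R] (1 : S))
    simp)
  have H : (algebraMap (A ⊗[R] S) (B ⊗[R] S)).comp
      (Algebra.TensorProduct.includeRight (R := R) (A := A) (B := S)).toRingHom =
      (Algebra.TensorProduct.includeRight (R := R) (A := B) (B := S)).toRingHom := by
    ext s
    change Algebra.TensorProduct.map (IsScalarTower.toAlgHom R A B)
      (AlgHom.id R S) ((1 : A) ⊗ₜ[R] s) = (1 : B) ⊗ₜ[R] s
    simp
  haveI := IsLocalization.tensorProduct_tensorProduct R S M B H
  have hle : Algebra.algebraMapSubmonoid (A ⊗[R] S) M ≤ nonZeroDivisors (A ⊗[R] S) := by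
    rintro _ ⟨m, hm, rfl⟩
    apply mem_nonZeroDivisors_of_ne_zero
    intro h0
    -- then `1 = 0` in `B ⊗ S`
    have hu : IsUnit (algebraMap (A ⊗[R] S) (B ⊗[R] S) (algebraMap A (A ⊗[R] S) m)) :=
      IsLocalization.map_units (B ⊗[R] S) (⟨_, ⟨m, hm, rfl⟩⟩ :
        Algebra.algebraMapSubmonoid (A ⊗[R] S) M)
    rw [h0, map_zero] at hu
    exact not_isUnit_zero hu
  exact IsLocalization.isDomain_of_le_nonZeroDivisors (B ⊗[R] S) hle

end alg

section generic

variable (R : Type u) [CommRing R] [IsDomain R] [IsDiscreteValuationRing R]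
variable {X XK : Scheme.{u}} (f : X ⟶ Spec (CommRingCat.of R))
  (gK : XK ⟶ X) (fK : XK ⟶ Spec (CommRingCat.of (FractionRing R)))
  (hK : IsPullback gK fK f (Spec.map (CommRingCat.ofHom (algebraMap R (FractionRing R)))))
variable (K' : Type u) [Field K'] [Algebra R K'] [Algebra (FractionRing R) K']
  [IsScalarTower R (FractionRing R) K']

/-- the base change of the generic fibre to `K'` -/
noncomputable abbrev PK : Scheme.{u} :=
  pullback fK (Spec.map (CommRingCat.ofHom (algebraMap (FractionRing R) K')))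

noncomputable abbrev qK : PK R fK K' ⟶ X :=
  pullback.fst fK (Spec.map (CommRingCat.ofHom (algebraMap (FractionRing R) K'))) ≫ gK

noncomputable abbrev pK : PK R fK K' ⟶ Spec (CommRingCat.of K') :=
  pullback.snd fK (Spec.map (CommRingCat.ofHom (algebraMap (FractionRing R) K')))

include hK in
theorem isPullback_PK :
    IsPullback (qK R gK fK K') (pK R fK K') f
      (Spec.map (CommRingCat.ofHom (algebraMap R K'))) := by
  have h1 := (IsPullback.of_hasPullback fK
    (Spec.map (CommRingCat.ofHom (algebraMap (FractionRing R) K')))).paste_horiz hK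
  have h2 : Spec.map (CommRingCat.ofHom (algebraMap (FractionRing R) K')) ≫
      Spec.map (CommRingCat.ofHom (algebraMap R (FractionRing R))) =
      Spec.map (CommRingCat.ofHom (algebraMap R K')) := by
    rw [← Spec.map_comp, ← CommRingCat.ofHom_comp, ← IsScalarTower.algebraMap_eq]
  rw [h2] at h1
  exact h1

theorem flat_specMap : Flat (Spec.map (CommRingCat.ofHom (algebraMap R K'))) := by
  rw [Flat.SpecMap_iff]
  change (algebraMap R K').Flat
  rw [RingHom.flat_algebraMap_iff]
  haveI : Module.Flat R (FractionRing R) := IsLocalization.flat (FractionRing R) (nonZeroDivisors R)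
  exact Module.Flat.trans R (FractionRing R) K'

include hK in
theorem appTop_pK_bijective [IsProper f] (hΓ : Function.Bijective f.appTop.hom) :
    Function.Bijective (pK R fK K').appTop.hom := by
  haveI := flat_specMap R K'
  exact Groth.Agent.Lib.T2H7.MumD.appTop_bijective_of_flat_baseChange
    (isPullback_PK R f gK fK hK K') hΓ

include hK in
theorem isIntegral_PK [IsProper f] [SmoothOfRelativeDimension 1 fK]
    (hΓ : Function.Bijective f.appTop.hom) : IsIntegral (PK R fK K') := by
  haveI : IsProper fK := MorphismProperty.of_isPullback hK ‹IsProper f›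
  haveI : Smooth fK := SmoothOfRelativeDimension.smooth 1 fK
  have hb := appTop_pK_bijective R f gK fK hK K' hΓ
  let e : Γ(Spec (CommRingCat.of K'), ⊤) ≃+* Γ(PK R fK K', ⊤) := RingEquiv.ofBijective _ hb
  haveI : IsDomain Γ(Spec (CommRingCat.of K'), ⊤) :=
    (Scheme.ΓSpecIso (CommRingCat.of K')).commRingCatIsoToRingEquiv.toMulEquiv.isDomain_iff.mpr
      inferInstance
  haveI : IsDomain Γ(PK R fK K', ⊤) := e.toMulEquiv.isDomain_iff.mp inferInstance
  haveI : ConnectedSpace (PK R fK K') :=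
    Groth.Agent.Lib.T2H7.NormalPush.connectedSpace_of_isDomain _
  letI : (PK R fK K').Over (Spec (CommRingCat.of K')) := ⟨pK R fK K'⟩
  haveI : IsProper (PK R fK K' ↘ Spec (CommRingCat.of K')) :=
    inferInstanceAs (IsProper (pullback.snd fK _))
  haveI : Smooth (PK R fK K' ↘ Spec (CommRingCat.of K')) :=
    inferInstanceAs (Smooth (pullback.snd fK _))
  exact Groth.Agent.Lib.T2H6.CurveSmooth.isIntegral_of_connected K' (PK R fK K')

/-- `R`-algebra structure on sections -/
noncomputable abbrev secHom (V : X.Opens) : R →+* Γ(X, V) :=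
  (f.appLE ⊤ V le_top).hom.comp (Scheme.ΓSpecIso (CommRingCat.of R)).inv.hom

theorem secHom_flat [Flat f] (V : X.Opens) (hV : IsAffineOpen V) : (secHom R f V).Flat := by
  refine RingHom.Flat.comp (RingHom.Flat.of_bijective
    (ConcreteCategory.bijective_of_isIso (Scheme.ΓSpecIso (CommRingCat.of R)).inv)) ?_
  exact HasRingHomProperty.appLE @Flat f inferInstance ⟨⊤, isAffineOpen_top _⟩ ⟨V, hV⟩ le_top

theorem injective_algebraMap_K' : Function.Injective (algebraMap R K') := by
  rw [IsScalarTower.algebraMap_eq R (FractionRing R) K']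
  exact (algebraMap (FractionRing R) K').injective.comp (IsFractionRing.injective R (FractionRing R))

include hK in
theorem isDomain_sections_tensor [IsProper f] [Flat f] [SmoothOfRelativeDimension 1 fK]
    (hΓ : Function.Bijective f.appTop.hom) (V : X.Opens) (hV : IsAffineOpen V) (hne : Nonempty V) :
    letI := (secHom R f V).toAlgebra
    IsDomain (Γ(X, V) ⊗[R] K') := by
  letI aRA : Algebra R Γ(X, V) := (secHom R f V).toAlgebra
  haveI hint := isIntegral_PK R f gK fK hK K' hΓ
  have H := isPullback_PK R f gK fK hK K'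
  have hUY : qK R gK fK K' ⁻¹ᵁ V = qK R gK fK K' ⁻¹ᵁ V ⊓ pK R fK K' ⁻¹ᵁ ⊤ := by simp
  have hST : (⊤ : (Spec (CommRingCat.of K')).Opens) ≤
      (Spec.map (CommRingCat.ofHom (algebraMap R K'))) ⁻¹ᵁ ⊤ := le_top
  have hSX : V ≤ f ⁻¹ᵁ ⊤ := le_top
  have h1 : IsIso (pushoutSection H hST hSX hUY) :=
    isIso_pushoutSection_of_isAffineOpen H hST hSX hUY (isAffineOpen_top _) (isAffineOpen_top _) hV
  rw [isIso_pushoutSection_iff] at h1
  let αR := Scheme.ΓSpecIso (CommRingCat.of R)
  let αK := Scheme.ΓSpecIso (CommRingCat.of K')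
  letI aAD : Algebra Γ(X, V) Γ(PK R fK K', qK R gK fK K' ⁻¹ᵁ V) :=
    ((qK R gK fK K').appLE V (qK R gK fK K' ⁻¹ᵁ V) le_rfl).hom.toAlgebra
  letI aKD : Algebra K' Γ(PK R fK K', qK R gK fK K' ⁻¹ᵁ V) :=
    (((pK R fK K').appLE ⊤ (qK R gK fK K' ⁻¹ᵁ V) le_top).hom.comp αK.inv.hom).toAlgebra
  letI aRD : Algebra R Γ(PK R fK K', qK R gK fK K' ⁻¹ᵁ V) :=
    ((algebraMap Γ(X, V) Γ(PK R fK K', qK R gK fK K' ⁻¹ᵁ V)).comp
      (algebraMap R Γ(X, V))).toAlgebra
  haveI t1 : IsScalarTower R Γ(X, V) Γ(PK R fK K', qK R gK fK K' ⁻¹ᵁ V) :=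
    IsScalarTower.of_algebraMap_eq (fun _ => rfl)
  have hnat : (Spec.map (CommRingCat.ofHom (algebraMap R K'))).appLE ⊤ ⊤ hST ≫ αK.hom =
      αR.hom ≫ CommRingCat.ofHom (algebraMap R K') := by
    rw [Groth.Agent.Lib.T2H9.GammaBC.appLE_top_top]
    exact Scheme.ΓSpecIso_naturality (CommRingCat.ofHom (algebraMap R K'))
  have h2 : IsPushout (CommRingCat.ofHom (algebraMap R Γ(X, V)))
      (CommRingCat.ofHom (algebraMap R K'))
      (CommRingCat.ofHom (algebraMap Γ(X, V) Γ(PK R fK K', qK R gK fK K' ⁻¹ᵁ V)))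
      (CommRingCat.ofHom (algebraMap K' Γ(PK R fK K', qK R gK fK K' ⁻¹ᵁ V))) := by
    refine h1.of_iso αR (Iso.refl _) αK (Iso.refl _) ?_ hnat ?_ ?_
    · rw [Iso.refl_hom, Category.comp_id]
      change _ = αR.hom ≫ (αR.inv ≫ f.appLE ⊤ V le_top)
      rw [Iso.hom_inv_id_assoc]
    · rw [Iso.refl_hom, Iso.refl_hom, Category.comp_id, Category.id_comp]
      rfl
    · rw [Iso.refl_hom, Category.comp_id]
      change _ = αK.hom ≫ (αK.inv ≫ (pK R fK K').appLE ⊤ (qK R gK fK K' ⁻¹ᵁ V) le_top)
      rw [Iso.hom_inv_id_assoc]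
  haveI t2 : IsScalarTower R K' Γ(PK R fK K', qK R gK fK K' ⁻¹ᵁ V) :=
    IsScalarTower.of_algebraMap_eq (fun r => by
      have := congrArg (fun φ => φ.hom r) h2.w
      exact this)
  have h3 : Algebra.IsPushout R Γ(X, V) K' Γ(PK R fK K', qK R gK fK K' ⁻¹ᵁ V) :=
    CommRingCat.isPushout_iff_isPushout.mp h2
  let e := Algebra.IsPushout.equiv R Γ(X, V) K' Γ(PK R fK K', qK R gK fK K' ⁻¹ᵁ V)
  -- nontriviality
  haveI : Module.Flat R Γ(X, V) := secHom_flat R f V hV
  have hinj : Function.Injective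
      (Algebra.TensorProduct.includeLeft : Γ(X, V) →ₐ[R] Γ(X, V) ⊗[R] K') :=
    Algebra.TensorProduct.includeLeft_injective (injective_algebraMap_K' R K')
  haveI : Nontrivial Γ(X, V) := Scheme.component_nontrivial X V
  haveI : Nontrivial (Γ(X, V) ⊗[R] K') := hinj.nontrivial
  haveI : Nontrivial Γ(PK R fK K', qK R gK fK K' ⁻¹ᵁ V) := e.toRingEquiv.injective.nontrivial
  have hne2 : Nonempty ↥(qK R gK fK K' ⁻¹ᵁ V) := by
    by_contra hemp
    rw [not_nonempty_iff] at hemp
    have hbot : qK R gK fK K' ⁻¹ᵁ V = ⊥ := by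
      ext y
      simp only [Opens.coe_bot, Set.mem_empty_iff_false, iff_false]
      exact fun hy => hemp.false ⟨y, hy⟩
    have : Subsingleton Γ(PK R fK K', qK R gK fK K' ⁻¹ᵁ V) := by
      rw [hbot]
      infer_instance
    exact not_subsingleton _ this
  haveI : IsDomain Γ(PK R fK K', qK R gK fK K' ⁻¹ᵁ V) := by
    apply +allowSynthFailures IsIntegral.component_integral
    exact hne2
  exact e.toRingEquiv.toMulEquiv.isDomain_iff.mpr inferInstance

theorem res_appTop' (U : X.Opens) (c : Γ(Spec (CommRingCat.of R), ⊤)) :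
    X.presheaf.map (homOfLE (le_top : U ≤ ⊤)).op (f.appTop.hom c) =
      (f.appLE ⊤ U le_top).hom c := by
  rw [Scheme.Hom.appLE]
  rfl

include hK in
theorem isDomain_stalk_tensor [IsProper f] [Flat f] [SmoothOfRelativeDimension 1 fK]
    (hΓ : Function.Bijective f.appTop.hom) (x : X) :
    letI := ((X.presheaf.germ ⊤ x trivial).hom.comp (Coh.toGlobal f)).toAlgebra
    IsDomain (X.presheaf.stalk x ⊗[R] K') := by
  letI aRB : Algebra R (X.presheaf.stalk x) :=
    ((X.presheaf.germ ⊤ x trivial).hom.comp (Coh.toGlobal f)).toAlgebra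
  obtain ⟨V, hV, hxV, -⟩ := exists_isAffineOpen_mem_and_subset (x := x) (U := ⊤) trivial
  letI aRA : Algebra R Γ(X, V) := (secHom R f V).toAlgebra
  letI aAB : Algebra Γ(X, V) (X.presheaf.stalk x) :=
    TopCat.Presheaf.algebra_section_stalk X.presheaf ⟨x, hxV⟩
  haveI : IsScalarTower R Γ(X, V) (X.presheaf.stalk x) := IsScalarTower.of_algebraMap_eq (fun r => by
    change (X.presheaf.germ ⊤ x trivial).hom (f.appTop.hom _) =
      (X.presheaf.germ V x hxV).hom ((f.appLE ⊤ V le_top).hom _)
    rw [← res_appTop']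
    exact (ConcreteCategory.congr_hom (X.presheaf.germ_res (homOfLE (le_top : V ≤ ⊤)) x hxV) _).symm)
  haveI hloc := hV.isLocalization_stalk ⟨x, hxV⟩
  haveI := isDomain_sections_tensor R f gK fK hK K' hΓ V hV ⟨⟨x, hxV⟩⟩
  haveI : Module.Flat R Γ(X, V) := secHom_flat R f V hV
  haveI : Module.Flat Γ(X, V) (X.presheaf.stalk x) :=
    IsLocalization.flat (X.presheaf.stalk x) (hV.primeIdealOf ⟨x, hxV⟩).asIdeal.primeCompl
  haveI : Module.Flat R (X.presheaf.stalk x) := Module.Flat.trans R Γ(X, V) (X.presheaf.stalk x)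
  have hinj : Function.Injective
      (Algebra.TensorProduct.includeLeft : X.presheaf.stalk x →ₐ[R] X.presheaf.stalk x ⊗[R] K') :=
    Algebra.TensorProduct.includeLeft_injective (injective_algebraMap_K' R K')
  haveI : Nontrivial (X.presheaf.stalk x ⊗[R] K') := hinj.nontrivial
  exact isDomain_tensor_of_isLocalization R K' Γ(X, V) (X.presheaf.stalk x)
    (hV.primeIdealOf ⟨x, hxV⟩).asIdeal.primeCompl

end generic

end Groth.Agent.Lib.T2H9.ModelGamma
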