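import Groth.Agent.Lib.T2H9ModelGamma
import Groth.Agent.Lib.T2H9ModelDVR

/-!
# Base changes of the local ring at a generic point of the special fibre (helper9)

Assembly for S17019/S17020: for a proper flat model `X/R` with smooth connected generic fibre and
reduced connected special fibre (residue field algebraically closed), and `B ≅ O_{X,ξ}` the local
ring at a generic point of the special fibre, `B ⊗_R K'` is a domain for every field `K' ⊇ Frac R`;
it is a field when `K'` is algebraic, and `B ⊗_R R'` is a DVR for generically finite DVR extensions.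
-/

set_option autoImplicit false
set_option linter.style.haveILetI false
set_option linter.unusedSectionVars false
set_option linter.unusedVariables false
universe u
open CategoryTheory CategoryTheory.Limits AlgebraicGeometry
open scoped TensorProduct

namespace Groth.Agent.Lib.T2H9.ModelTensor

variable (R : Type u) [CommRing R] [IsDomain R] [IsDiscreteValuationRing R]
    (X : Scheme.{u}) (f : X ⟶ Spec (CommRingCat.of R))
    (Xs : Scheme.{u}) (gs : Xs ⟶ X) (fs : Xs ⟶ Spec (CommRingCat.of (IsLocalRing.ResidueField R)))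
    (hs : IsPullback gs fs f (Spec.map (CommRingCat.ofHom (IsLocalRing.residue R))))
    (ξ : Xs)
    (B : Type u) [CommRing B] [IsDomain B] [IsDiscreteValuationRing B] [Algebra R B]
    (e : X.presheaf.stalk (gs.base ξ) ≅ CommRingCat.of B)
    (he : e.hom.hom.comp ((X.presheaf.germ ⊤ (gs.base ξ) trivial).hom.comp (Coh.toGlobal f)) =
      algebraMap R B)

include hs he in
/-- S17018 in library form -/
theorem maximalIdeal_eq [IsReduced Xs]
    (hξ : closure ({ξ} : Set Xs) ∈ irreducibleComponents Xs) :
    IsLocalRing.maximalIdeal B = Ideal.map (algebraMap R B) (IsLocalRing.maximalIdeal R) := by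
  have h := Groth.Agent.Lib.T2H9.UnifFibre.main R X f Xs gs fs hs ξ hξ
  have he' : IsLocalRing.maximalIdeal B =
      (IsLocalRing.maximalIdeal (X.presheaf.stalk (gs.base ξ))).map e.hom.hom := by
    have hbij : Function.Bijective e.hom.hom := ConcreteCategory.bijective_of_isIso e.hom
    have hloc : IsLocalHom e.hom.hom := isLocalHom_of_isIso e.hom
    apply le_antisymm
    · intro b hb
      obtain ⟨a, rfl⟩ := hbij.2 b
      refine Ideal.mem_map_of_mem _ ?_
      rw [IsLocalRing.mem_maximalIdeal, mem_nonunits_iff] at hb ⊢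
      exact fun ha => hb (ha.map e.hom.hom)
    · rw [Ideal.map_le_iff_le_comap]
      intro a ha
      rw [Ideal.mem_comap, IsLocalRing.mem_maximalIdeal, mem_nonunits_iff]
      rw [IsLocalRing.mem_maximalIdeal, mem_nonunits_iff] at ha
      exact fun hu => ha (hloc.map_nonunit a hu)
  rw [he']
  erw [h]
  rw [Ideal.map_map, ← he]

variable [IsAlgClosed (IsLocalRing.ResidueField R)] [IsProper f] [Flat f]
    (XK : Scheme.{u}) (gK : XK ⟶ X) (fK : XK ⟶ Spec (CommRingCat.of (FractionRing R)))
    (hK : IsPullback gK fK f (Spec.map (CommRingCat.ofHom (algebraMap R (FractionRing R)))))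
    [SmoothOfRelativeDimension 1 fK] [ConnectedSpace Xs] [IsReduced Xs]

include hs hK he in
theorem isDomain_tensor_field (K' : Type u) [Field K'] [Algebra R K']
    [Algebra (FractionRing R) K'] [IsScalarTower R (FractionRing R) K'] :
    IsDomain (B ⊗[R] K') := by
  have hΓ := Groth.Agent.Lib.T2H9.ModelGamma.appTop_bijective R f gs fs hs
  letI aRS : Algebra R (X.presheaf.stalk (gs.base ξ)) :=
    ((X.presheaf.germ ⊤ (gs.base ξ) trivial).hom.comp (Coh.toGlobal f)).toAlgebra
  haveI hdom : IsDomain (X.presheaf.stalk (gs.base ξ) ⊗[R] K') :=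
    Groth.Agent.Lib.T2H9.ModelGamma.isDomain_stalk_tensor R f gK fK hK K' hΓ (gs.base ξ)
  let eB : X.presheaf.stalk (gs.base ξ) ≃ₐ[R] B :=
    AlgEquiv.ofRingEquiv (f := e.commRingCatIsoToRingEquiv) (fun r => by
      have := congrArg (fun φ => φ r) he
      exact this)
  let E : X.presheaf.stalk (gs.base ξ) ⊗[R] K' ≃ₐ[R] B ⊗[R] K' :=
    Algebra.TensorProduct.congr eB AlgEquiv.refl
  exact E.toRingEquiv.toMulEquiv.isDomain_iff.mp hdom

end Groth.Agent.Lib.T2H9.ModelTensor
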