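import Mathlib
import Groth.Agent.Lib.T2H9FibLift10

/-!
# T2H9NearFib1: lifting morphisms and isomorphisms from a closed fibre given by an arbitrary pullback square (helper9)

Namespace `Groth.Agent.Lib.T2H9.NearFib`.  Generalisation of `T2H9FibLift5`/`T2H9FibLift10` from the canonical closed fibre to
any `i : Z → X`, `q : Z → T`, `g : T → Spec A` with `IsPullback i q (X ↘ Spec A) g`, `ker (φT g) = 𝔪_A`.

* `subsingleton_HH_cokernel_tensor_dual'`: version of `FibLift.subsingleton_HH_cokernel_tensor_dual` with `ModSite.sheafHom`.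
* `exists_lift_gen`: `H^1(Z, ℋom(i^*F, i^*G)) = 0 ⟹` every `i^*F ⟶ i^*G` lifts to `F ⟶ G`.
* `mono_epi_gen`: mono/epi on the closed fibre implies mono/epi.
* `exists_iso_lift_gen`: isomorphisms on the closed fibre lift to isomorphisms.
-/

set_option autoImplicit false
set_option linter.style.haveILetI false
set_option linter.unusedVariables false
universe u

namespace Groth.Agent.Lib.T2H9.NearFib

open CategoryTheory MonoidalCategory Opposite Limits AlgebraicGeometry
open Groth.Agent.Lib.Helper21.ModTensor3 Groth.Agent.Lib.Helper21.Dual Groth.Agent.Lib.Helper1.PT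
open Groth.Agent.Lib.T2H9.FibQuot Groth.Agent.Lib.T2H9.FlatFib Groth.Agent.Lib.T2H5.Twist
open Groth.Agent.Lib.T2H9.DualHom Groth.Agent.Lib.T2H9.BridgeH0 Groth.Agent.Lib.T2H9.FibLift
open Groth.Agent.Lib.T2H9.FFGeom

attribute [local instance] Groth.Agent.Lib.Helper21.ExtShDelta.hasSheafHom

section chain

variable {A : Type u} [CommRing A]
variable (X : Scheme.{u}) [X.Over (Spec (CommRingCat.of A))]
variable {Z T : Scheme.{u}} (i : Z ⟶ X) (q : Z ⟶ T) (f : T ⟶ Spec (CommRingCat.of A))
  (hpb : IsPullback i q (X ↘ Spec (CommRingCat.of A)) f)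
variable [IsClosedImmersion i] [IsClosedImmersion f] (𝔞 : Ideal A) (h𝔞 : RingHom.ker (φT f) = 𝔞)

include hpb h𝔞 in
/-- vanishing of `H^p(Z, ℋom(i^*F, i^*G))` (site-theoretic internal Hom) gives vanishing of
`H^p(X, (G ⊗ F^∨)/𝔞(G ⊗ F^∨))` -/
theorem subsingleton_HH_cokernel_tensor_dual' (F G : X.Modules) (hF : FlatMod.IsFinLocFree F)
    [G.IsQuasicoherent] (p : ℕ)
    (h1 : Subsingleton (Coh.HH Z ((ModSite.sheafHom (O := Z.sheaf) ((Scheme.Modules.pullback i).obj F)).obj
      ((Scheme.Modules.pullback i).obj G)) p)) :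
    Subsingleton (Coh.HH X
      (cokernel (Formal.smulFamily 𝔞 ((tr (dual (O := X.sheaf) F)).obj G))) p) := by
  obtain ⟨ε⟩ := nonempty_iso_push_sheafHom X i q f hpb 𝔞 h𝔞 F G hF
  set Fz := (Scheme.Modules.pullback i).obj F with hFz
  set Gz := (Scheme.Modules.pullback i).obj G with hGz
  have hFzf : FlatMod.IsFinLocFree Fz := Groth.Agent.Lib.Helper1.Sky.isFinLocFree_pullback i F hF
  have hLz : IsLocFF (O := Z.sheaf) Fz := isLocFF_of_isFinLocFree Fz hFzf
  let ℋ : Z.Modules := (ModSite.sheafHom (O := Z.sheaf) Fz).obj Gz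
  haveI : Gz.IsQuasicoherent := Groth.Agent.Lib.Helper2.PullbackSec.isQuasicoherent_pullback i G
  haveI : (dual (O := Z.sheaf) Fz : Z.Modules).IsQuasicoherent :=
    Groth.Agent.Lib.T2H5.ResPropAff.isQuasicoherent_of_isFinLocFree _
      (Groth.Agent.Lib.T2H9.LocFF.isFinLocFree_dual Fz hFzf)
  haveI : (CohB1.tensorMod Gz (dual (O := Z.sheaf) Fz)).IsQuasicoherent :=
    Groth.Agent.Lib.Helper23.TensorQCoh.isQuasicoherent_tensorMod Gz (dual (O := Z.sheaf) Fz)
  have e' : CohB1.tensorMod Gz (dual (O := Z.sheaf) Fz) ≅ ℋ := (cIso (O := Z.sheaf) Fz hLz).app Gz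
  haveI : Coh.IsQCoh ℋ := Groth.Agent.Lib.Helper23.TensorQCoh.isQuasicoherent_of_iso e'
  obtain ⟨θ⟩ := Groth.Agent.S0012.result i ℋ p
  haveI := h1
  have h2 : Subsingleton (Coh.HH X ((Coh.push i).obj ℋ) p) := θ.symm.subsingleton
  exact Groth.Agent.Lib.T2H5.PnStruct.subsingleton_HH_of_iso ε.symm p h2

end chain

section main

variable (A : Type u) [CommRing A] [IsNoetherianRing A] [IsLocalRing A]
variable (X : Scheme.{u}) [X.Over (Spec (CommRingCat.of A))] [IsProper (X ↘ Spec (CommRingCat.of A))]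
  [Flat (X ↘ Spec (CommRingCat.of A))]
variable {Z T : Scheme.{u}} (i : Z ⟶ X) (q : Z ⟶ T) (g : T ⟶ Spec (CommRingCat.of A))
  (hpb : IsPullback i q (X ↘ Spec (CommRingCat.of A)) g)
variable [IsClosedImmersion i] [IsClosedImmersion g]
  (h𝔞 : RingHom.ker (φT g) = IsLocalRing.maximalIdeal A)

include hpb h𝔞 in
/-- morphisms on the closed fibre (given by any pullback square) lift when `H^1(Z, ℋom(i^*F, i^*G)) = 0` -/
theorem exists_lift_gen (F G : X.Modules) (hF : FlatMod.IsFinLocFree F) (hG : FlatMod.IsFinLocFree G)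
    (h1 : Subsingleton (Coh.HH Z ((ModSite.sheafHom (O := Z.sheaf) ((Scheme.Modules.pullback i).obj F)).obj
      ((Scheme.Modules.pullback i).obj G)) 1))
    (u₀ : (Scheme.Modules.pullback i).obj F ⟶ (Scheme.Modules.pullback i).obj G) :
    ∃ u : F ⟶ G, (Scheme.Modules.pullback i).map u = u₀ := by
  let f := X ↘ Spec (CommRingCat.of A)
  have hGc : Coh.IsCoh G := Groth.Agent.Lib.T2H5.RegPush.isCoh_of_isFinLocFree G hG
  haveI := hGc.1
  have hGfl : FlatMod.IsFlatOver f G := Groth.Agent.Lib.T2H5.RegPush.isFlatOver_of_isFinLocFree f G hG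
  have hvan := subsingleton_HH_cokernel_tensor_dual' X i q g hpb (IsLocalRing.maximalIdeal A) h𝔞 F G hF 1 h1
  obtain ⟨c, hc⟩ := exists_iso_pushPull_compat X i q g hpb (IsLocalRing.maximalIdeal A) h𝔞 G
  let adj := Scheme.Modules.pullbackPushforwardAdjunction i
  obtain ⟨u, hu⟩ := exists_lift_hom X (IsLocalRing.maximalIdeal A) F G hF hGc hGfl hvan
    (adj.homEquiv F _ u₀ ≫ c.inv)
  refine ⟨u, ?_⟩
  apply (adj.homEquiv F _).injective
  rw [Adjunction.homEquiv_unit]
  have hnat : u ≫ adj.unit.app G = adj.unit.app F ≫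
      (Scheme.Modules.pushforward i).map ((Scheme.Modules.pullback i).map u) := adj.unit.naturality u
  rw [← hnat]
  have h2 : adj.unit.app G = cokernel.π (Formal.smulFamily (IsLocalRing.maximalIdeal A) G) ≫ c.hom :=
    hc.symm
  rw [h2, ← Category.assoc, hu, Category.assoc, c.inv_hom_id, Category.comp_id]

include hpb h𝔞 in
/-- mono/epi on the closed fibre (given by any pullback square covering the closed fibre) implies mono/epi -/
theorem mono_epi_gen (hrange : ∀ x : X, (X ↘ Spec (CommRingCat.of A)).base x = IsLocalRing.closedPoint A →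
      ∃ z, i.base z = x)
    (F G : X.Modules) (hF : FlatMod.IsFinLocFree F) (hG : FlatMod.IsFinLocFree G)
    (u : F ⟶ G) :
    (Mono ((Scheme.Modules.pullback i).map u) → Mono u) ∧
    (Epi ((Scheme.Modules.pullback i).map u) → Epi u) := by
  let f := X ↘ Spec (CommRingCat.of A)
  have hFc : Coh.IsCoh F := Groth.Agent.Lib.T2H5.RegPush.isCoh_of_isFinLocFree F hF
  have hGc : Coh.IsCoh G := Groth.Agent.Lib.T2H5.RegPush.isCoh_of_isFinLocFree G hG
  haveI := hFc.1
  haveI := hGc.1
  haveI : SheafOfModules.IsFiniteType (R := X.ringCatSheaf) F := hFc.2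
  haveI : SheafOfModules.IsFiniteType (R := X.ringCatSheaf) G := hGc.2
  have hGfl : FlatMod.IsFlatOver f G := Groth.Agent.Lib.T2H5.RegPush.isFlatOver_of_isFinLocFree f G hG
  haveI : IsLocallyNoetherian X := LocallyOfFiniteType.isLocallyNoetherian f
  constructor
  · intro hM
    obtain ⟨cF, hcF⟩ := exists_iso_pushPull_compat X i q g hpb (IsLocalRing.maximalIdeal A) h𝔞 F
    obtain ⟨cG, hcG⟩ := exists_iso_pushPull_compat X i q g hpb (IsLocalRing.maximalIdeal A) h𝔞 G
    let adj := Scheme.Modules.pullbackPushforwardAdjunction i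
    let v := (Scheme.Modules.pushforward i).map ((Scheme.Modules.pullback i).map u)
    haveI : Mono ((Scheme.Modules.pullback i).map u) := hM
    haveI : Mono v := inferInstance
    let ubar := cF.hom ≫ v ≫ cG.inv
    haveI : Mono ubar := inferInstance
    have hnat : u ≫ adj.unit.app G = adj.unit.app F ≫ v := adj.unit.naturality u
    have hu : cokernel.π (Formal.smulFamily (IsLocalRing.maximalIdeal A) F) ≫ ubar =
        u ≫ cokernel.π (Formal.smulFamily (IsLocalRing.maximalIdeal A) G) := by
      change _ ≫ cF.hom ≫ v ≫ cG.inv = _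
      rw [← Category.assoc, hcF]
      change (adj.unit.app F ≫ v) ≫ cG.inv = _
      rw [← hnat, Category.assoc]
      change u ≫ η i G ≫ cG.inv = _
      rw [← hcG, Category.assoc, cG.hom_inv_id, Category.comp_id]
    haveI : (kernel u).IsQuasicoherent := Groth.Agent.Lib.Helper23.QCohLocal.isQuasicoherent_kernel u
    haveI hmk : Mono (kernel.ι u) := inferInstance
    let K : X.Modules := kernel u
    haveI : SheafOfModules.IsFiniteType (R := X.ringCatSheaf) K :=
      Groth.Agent.Lib.Helper23.FinType.isFiniteType_of_mono (X := X) (N := kernel u) (M := F) (kernel.ι u)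
    have hz : IsZero (kernel u) := isZero_of_subsingleton_stalk_closedFibre X K
      (fun x hx => subsingleton_stalk_kernel X F G hFc hGc hGfl u ubar hu x hx)
    exact Preadditive.mono_of_isZero_kernel u hz
  · intro hE
    haveI : Epi ((Scheme.Modules.pullback i).map u) := hE
    haveI : (cokernel u).IsQuasicoherent := Groth.Agent.Lib.Helper23.QCohLocal.isQuasicoherent_cokernel u
    haveI hek : Epi (cokernel.π u) := inferInstance
    let Cu : X.Modules := cokernel u
    haveI : SheafOfModules.IsFiniteType (R := X.ringCatSheaf) Cu :=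
      Groth.Agent.Lib.Helper20.Nakayama.isFiniteType_of_epi (X := X) (G := G) (C := cokernel u) (cokernel.π u)
    have e : (Scheme.Modules.pullback i).obj (cokernel u) ≅ cokernel ((Scheme.Modules.pullback i).map u) :=
      PreservesCokernel.iso (Scheme.Modules.pullback i) u
    have hz0 : IsZero ((Scheme.Modules.pullback i).obj (cokernel u)) :=
      (isZero_cokernel_of_epi _).of_iso e
    have hz : IsZero (cokernel u) := isZero_of_subsingleton_stalk_closedFibre X Cu
      (fun x hx => by
        obtain ⟨z, rfl⟩ := hrange x hx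
        exact subsingleton_stalk_of_isZero_pullback_closedImmersion i Cu hz0 z)
    exact Preadditive.epi_of_isZero_cokernel u hz

include hpb h𝔞 in
/-- isomorphisms on the closed fibre lift to isomorphisms when `H^1(Z, ℋom(i^*F, i^*G)) = 0` -/
theorem exists_iso_lift_gen (hrange : ∀ x : X, (X ↘ Spec (CommRingCat.of A)).base x = IsLocalRing.closedPoint A →
      ∃ z, i.base z = x)
    (F G : X.Modules) (hF : FlatMod.IsFinLocFree F) (hG : FlatMod.IsFinLocFree G)
    (h1 : Subsingleton (Coh.HH Z ((ModSite.sheafHom (O := Z.sheaf) ((Scheme.Modules.pullback i).obj F)).obj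
      ((Scheme.Modules.pullback i).obj G)) 1))
    (u₀ : (Scheme.Modules.pullback i).obj F ≅ (Scheme.Modules.pullback i).obj G) :
    ∃ u : F ≅ G, (Scheme.Modules.pullback i).map u.hom = u₀.hom := by
  obtain ⟨u, hu⟩ := exists_lift_gen A X i q g hpb h𝔞 F G hF hG h1 u₀.hom
  have h := mono_epi_gen A X i q g hpb h𝔞 hrange F G hF hG u
  rw [hu] at h
  haveI : Mono u := h.1 inferInstance
  haveI : Epi u := h.2 inferInstance
  haveI : IsIso u := isIso_of_mono_of_epi u
  exact ⟨asIso u, hu⟩

end main

end Groth.Agent.Lib.T2H9.NearFib
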