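import Mathlib
import Groth.Agent.Lib.T2H9NearFib1
import Groth.Agent.Lib.T2H9FibSec2

/-!
# T2H9NearFib2: the local form of S4477 over `Spec O_{Y,y}` (helper9)

Namespace `Groth.Agent.Lib.T2H9.NearFib`.

* `sheafHomCongr`: `ℋom(M, -) ≅ ℋom(M', -)` for `M' ≅ M` (conjugate of `- ⊗ M' ≅ - ⊗ M`).
* `nonempty_iso_pullback_stalk`: `f : X ⟶ Y` proper flat, `Y` locally Noetherian, `F`, `G` finite locally free with `F_y ≅ G_y` and
  `H^1(X_y, ℋom(F_y, F_y)) = 0`: the pullbacks of `F` and `G` to `X ×_Y Spec O_{Y,y}` are isomorphic.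
-/

set_option autoImplicit false
set_option linter.style.haveILetI false
set_option linter.unusedVariables false
set_option linter.unusedSectionVars false
universe u

namespace Groth.Agent.Lib.T2H9.NearFib

open CategoryTheory MonoidalCategory Opposite Limits AlgebraicGeometry
open Groth.Agent.Lib.Helper21.ModTensor3 Groth.Agent.Lib.Helper21.Dual Groth.Agent.Lib.Helper1.PT
open Groth.Agent.Lib.T2H9.FibQuot Groth.Agent.Lib.T2H9.FlatFib Groth.Agent.Lib.T2H5.Twist
open Groth.Agent.Lib.T2H9.FFGeom Groth.Agent.Lib.T2H9.FibFree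

attribute [local instance] Groth.Agent.Lib.Helper21.ExtShDelta.hasSheafHom

section site
variable {C : Type u} [SmallCategory C] {J : GrothendieckTopology C} {O : Sheaf J CommRingCat.{u}}

/-- the internal Hom is invariant under isomorphisms of the first variable -/
noncomputable def sheafHomCongr {M M' : ModSite.Mod O} (e : M' ≅ M) :
    ModSite.sheafHom M ≅ ModSite.sheafHom M' :=
  conjugateIsoEquiv (ModSite.sheafHomAdj M) (ModSite.sheafHomAdj M') ((ModSite.tensorBi O).flip.mapIso e)

end site

section glob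

variable {X Y : Scheme.{u}} (f : X ⟶ Y) [IsProper f] [Flat f] [IsLocallyNoetherian Y] (y : Y)

/-- **Local form of S4477**: over `Spec O_{Y,y}`, two finite locally free modules which are isomorphic on the fibre `X_y`
with `H^1(X_y, ℋom(F_y, F_y)) = 0` become isomorphic on `X ×_Y Spec O_{Y,y}`. -/
theorem nonempty_iso_pullback_stalk (F G : X.Modules) (hF : FlatMod.IsFinLocFree F) (hG : FlatMod.IsFinLocFree G)
    [DCoh.HasSheafHom (CohIII.fiberMod f F y)]
    (h1 : Subsingleton (Coh.HH (f.fiber y)
      ((DCoh.sheafHom (CohIII.fiberMod f F y)).obj (CohIII.fiberMod f F y)) 1))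
    (hy : Nonempty (CohIII.fiberMod f F y ≅ CohIII.fiberMod f G y)) :
    Nonempty ((Scheme.Modules.pullback (pullback.fst f (Y.fromSpecStalk y))).obj F ≅
      (Scheme.Modules.pullback (pullback.fst f (Y.fromSpecStalk y))).obj G) := by
  obtain ⟨ψ₀⟩ := hy
  have hLN : IsLocallyNoetherian Y := inferInstance
  have hNoeth : IsNoetherianRing (Y.presheaf.stalk y) := inferInstance
  letI hO : (pullback f (Y.fromSpecStalk y)).Over (Spec (CommRingCat.of (Y.presheaf.stalk y))) :=
    ⟨pullback.snd f (Y.fromSpecStalk y)⟩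
  have hsq : IsPullback (pullback.fst f (Y.fromSpecStalk y))
      ((pullback f (Y.fromSpecStalk y)) ↘ Spec (CommRingCat.of (Y.presheaf.stalk y)))
      f (Y.fromSpecStalk y) := IsPullback.of_hasPullback f (Y.fromSpecStalk y)
  haveI : IsProper ((pullback f (Y.fromSpecStalk y)) ↘ Spec (CommRingCat.of (Y.presheaf.stalk y))) :=
    MorphismProperty.of_isPullback hsq inferInstance
  haveI : Flat ((pullback f (Y.fromSpecStalk y)) ↘ Spec (CommRingCat.of (Y.presheaf.stalk y))) :=
    MorphismProperty.of_isPullback hsq inferInstance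
  set g' := pullback.fst f (Y.fromSpecStalk y) with hg'
  have hF₁ : FlatMod.IsFinLocFree ((Scheme.Modules.pullback g').obj F) :=
    Groth.Agent.Lib.Helper1.Sky.isFinLocFree_pullback g' F hF
  have hG₁ : FlatMod.IsFinLocFree ((Scheme.Modules.pullback g').obj G) :=
    Groth.Agent.Lib.Helper1.Sky.isFinLocFree_pullback g' G hG
  obtain ⟨j, hj1, hj2, hpb⟩ := exists_fibre_square f y _ _ hsq
  haveI : IsClosedImmersion (Spec.map (Y.residue y)) := inferInstance
  haveI : IsClosedImmersion j := isClosedImmersion_of_isPullback _ _ _ _ hpb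
  have hk : RingHom.ker (φT (A := Y.presheaf.stalk y) (Spec.map (Y.residue y))) =
      IsLocalRing.maximalIdeal (Y.presheaf.stalk y) := by
    rw [Groth.Agent.Lib.T2H9.FibVan.ker_φT_SpecMap]
    exact IsLocalRing.ker_residue
  have eF : CohIII.fiberMod f F y ≅
      (Scheme.Modules.pullback j).obj ((Scheme.Modules.pullback g').obj F) :=
    ((Scheme.Modules.pullbackComp j _).app F ≪≫ (Scheme.Modules.pullbackCongr hj1).app F).symm
  have eG : CohIII.fiberMod f G y ≅
      (Scheme.Modules.pullback j).obj ((Scheme.Modules.pullback g').obj G) :=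
    ((Scheme.Modules.pullbackComp j _).app G ≪≫ (Scheme.Modules.pullbackCongr hj1).app G).symm
  have hrange : ∀ x : ↥(pullback f (Y.fromSpecStalk y)),
      ((pullback f (Y.fromSpecStalk y)) ↘ Spec (CommRingCat.of (Y.presheaf.stalk y))).base x =
        IsLocalRing.closedPoint (Y.presheaf.stalk y) → ∃ z, j.base z = x := by
    intro x hx
    have hz : ∃ s : ↥(Spec (Y.residueField y)), True := by
      haveI : Nonempty ↥(Spec (Y.residueField y)) := inferInstance
      exact ⟨Classical.arbitrary _, trivial⟩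
    obtain ⟨s, -⟩ := hz
    have hs : ((pullback f (Y.fromSpecStalk y)) ↘ Spec (CommRingCat.of (Y.presheaf.stalk y))) x =
        (Spec.map (Y.residue y)) s := by
      rw [hx]; exact (Scheme.SpecMap_residue_apply y s).symm
    obtain ⟨z, hz1, -⟩ := Scheme.Pullback.exists_preimage_pullback x s hs
    refine ⟨hpb.isoPullback.inv z, ?_⟩
    rw [← hz1, ← Scheme.Hom.comp_apply, hpb.isoPullback_inv_fst]
  -- the vanishing hypothesis, transported
  have φ1 : (DCoh.sheafHom (CohIII.fiberMod f F y)).obj (CohIII.fiberMod f F y) ≅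
      (ModSite.sheafHom (O := (f.fiber y).sheaf) (CohIII.fiberMod f F y)).obj (CohIII.fiberMod f F y) :=
    (Groth.Agent.S12483.sheafHomIso (CohIII.fiberMod f F y)).app _
  have φ2 : (ModSite.sheafHom (O := (f.fiber y).sheaf) (CohIII.fiberMod f F y)).obj (CohIII.fiberMod f F y) ≅
      (ModSite.sheafHom (O := (f.fiber y).sheaf) (CohIII.fiberMod f F y)).obj
        ((Scheme.Modules.pullback j).obj ((Scheme.Modules.pullback g').obj G)) :=
    (ModSite.sheafHom (O := (f.fiber y).sheaf) (CohIII.fiberMod f F y)).mapIso (ψ₀ ≪≫ eG)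
  have φ3 : (ModSite.sheafHom (O := (f.fiber y).sheaf) (CohIII.fiberMod f F y)).obj
        ((Scheme.Modules.pullback j).obj ((Scheme.Modules.pullback g').obj G)) ≅
      (ModSite.sheafHom (O := (f.fiber y).sheaf)
        ((Scheme.Modules.pullback j).obj ((Scheme.Modules.pullback g').obj F))).obj
        ((Scheme.Modules.pullback j).obj ((Scheme.Modules.pullback g').obj G)) :=
    (sheafHomCongr (O := (f.fiber y).sheaf) eF.symm).app _
  have h1' := Groth.Agent.Lib.T2H5.PnStruct.subsingleton_HH_of_iso (φ1 ≪≫ φ2 ≪≫ φ3) 1 h1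
  obtain ⟨u, -⟩ := @exists_iso_lift_gen (Y.presheaf.stalk y) _ inferInstance inferInstance
    (pullback f (Y.fromSpecStalk y)) hO inferInstance inferInstance _ _ j (f.fiberToSpecResidueField y)
    (Spec.map (Y.residue y)) hpb inferInstance inferInstance hk hrange _ _ hF₁ hG₁ h1'
    (eF.symm ≪≫ ψ₀ ≪≫ eG)
  exact ⟨u⟩

end glob

end Groth.Agent.Lib.T2H9.NearFib
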