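import Mathlib
import Groth.Agent.Lib.T2H9NearFib6
import Groth.Agent.Lib.T2H9NearFib2
import Groth.Agent.Lib.Helper26ModLim
import Groth.Agent.Lib.Helper6StalkIso

/-!
# T2H9NearFib7: spreading out an isomorphism from `X ×_Y Spec O_{Y,y}` to a neighbourhood of the fibre (helper9)

Namespace `Groth.Agent.Lib.T2H9.NearFib`.

* `flat_fromSpecStalkOfMem`, `appLE_fromSpecStalkOfMem`, `exists_frac_fromSpecStalkOfMem`: `Spec O_{Y,y} → V` (for `V` affine open) is a
  flat "localisation".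
* `exists_restrict_iso_of_iso_pullback_stalk`: `f : X ⟶ Y` proper, `Y` locally Noetherian, `F`, `G` finite locally free on `X` whose
  pullbacks to `X ×_Y Spec O_{Y,y}` are isomorphic: then `F|_{f⁻¹U} ≅ G|_{f⁻¹U}` for an open neighbourhood `U` of `y`.
-/

set_option autoImplicit false
set_option linter.style.haveILetI false
set_option linter.unusedVariables false
set_option linter.unusedSectionVars false
universe u

namespace Groth.Agent.Lib.T2H9.NearFib

open CategoryTheory AlgebraicGeometry Limits TopologicalSpace Opposite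
open Groth.Agent.Lib.T2H9.FibSec

section aff
variable {Y : Scheme.{u}} {V : Y.Opens} (hV : IsAffineOpen V) (y : Y) (hy : y ∈ V)

instance flat_fromSpecStalkOfMem : Flat (V.fromSpecStalkOfMem y hy) := by
  unfold Scheme.Opens.fromSpecStalkOfMem
  haveI := Groth.Agent.Lib.Helper6.flat_fromSpecStalk (V : Scheme.{u}) ⟨y, hy⟩
  infer_instance

theorem appLE_fromSpecStalkOfMem
    (hle : (⊤ : (Spec (Y.presheaf.stalk y)).Opens) ≤ (Y.fromSpecStalk y) ⁻¹ᵁ V) (c : Γ(Y, V)) :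
    ((V.fromSpecStalkOfMem y hy).appLE ⊤ ⊤ le_top).hom
        ((V.ι.appLE V ⊤ (by rw [Scheme.Opens.ι_preimage_self])).hom c) =
      ((Y.fromSpecStalk y).appLE V ⊤ hle).hom c := by
  have e := Groth.Agent.Lib.Helper26.ModLim.appLE_comp_of_eq (V.fromSpecStalkOfMem y hy) V.ι
    (Y.fromSpecStalk y) (V.fromSpecStalkOfMem_ι y hy) V ⊤ ⊤
    (by rw [Scheme.Opens.ι_preimage_self]) le_top hle
  exact congrArg (fun φ => φ.hom c) e

include hV in
theorem exists_frac_fromSpecStalkOfMem (r' : Γ(Spec (Y.presheaf.stalk y), ⊤)) :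
    ∃ s a : Γ((V : Scheme.{u}), ⊤), IsUnit (((V.fromSpecStalkOfMem y hy).appLE ⊤ ⊤ le_top).hom s) ∧
      r' * ((V.fromSpecStalkOfMem y hy).appLE ⊤ ⊤ le_top).hom s =
        ((V.fromSpecStalkOfMem y hy).appLE ⊤ ⊤ le_top).hom a := by
  have hle := top_le_preimage_fromSpecStalk y hy
  obtain ⟨s, a, hs, hsa⟩ := exists_frac_fromSpecStalk hV y hy hle r'
  refine ⟨(V.ι.appLE V ⊤ (by rw [Scheme.Opens.ι_preimage_self])).hom s,
    (V.ι.appLE V ⊤ (by rw [Scheme.Opens.ι_preimage_self])).hom a, ?_, ?_⟩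
  · rw [appLE_fromSpecStalkOfMem y hy hle]; exact hs
  · rw [appLE_fromSpecStalkOfMem y hy hle, appLE_fromSpecStalkOfMem y hy hle]; exact hsa

end aff

section glob
variable {X Y : Scheme.{u}} (f : X ⟶ Y) [IsProper f] [IsLocallyNoetherian Y] (y : Y)

/-- **spreading out an isomorphism from `X ×_Y Spec O_{Y,y}` to the preimage of a neighbourhood of `y`** -/
theorem exists_restrict_iso_of_iso_pullback_stalk (F G : X.Modules) (hF : FlatMod.IsFinLocFree F)
    (hG : FlatMod.IsFinLocFree G)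
    (u₁ : (Scheme.Modules.pullback (pullback.fst f (Y.fromSpecStalk y))).obj F ≅
      (Scheme.Modules.pullback (pullback.fst f (Y.fromSpecStalk y))).obj G) :
    ∃ U : Y.Opens, y ∈ U ∧ Nonempty (F.restrict (f ⁻¹ᵁ U).ι ≅ G.restrict (f ⁻¹ᵁ U).ι) := by
  obtain ⟨V, hV, hyV, -⟩ := exists_isAffineOpen_mem_and_subset (x := y) (U := ⊤) trivial
  haveI : IsAffine (V : Scheme.{u}) := hV
  -- the restricted situation
  let ιV := (f ⁻¹ᵁ V).ι
  let fV := f ∣_ V
  let gV := V.fromSpecStalkOfMem y hyV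
  let g₁ := pullback.fst f (Y.fromSpecStalk y)
  let f₁ := pullback.snd f (Y.fromSpecStalk y)
  have hres : IsPullback ιV fV f V.ι := (isPullback_morphismRestrict f V).flip
  have hw : g₁ ≫ f = (f₁ ≫ gV) ≫ V.ι := by
    rw [Category.assoc, Scheme.Opens.fromSpecStalkOfMem_ι]
    exact pullback.condition
  let g'V := hres.lift g₁ (f₁ ≫ gV) hw
  have hg1 : g'V ≫ ιV = g₁ := hres.lift_fst _ _ _
  have hg2 : g'V ≫ fV = f₁ ≫ gV := hres.lift_snd _ _ _
  have hbig : IsPullback (g'V ≫ ιV) f₁ f (gV ≫ V.ι) := by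
    rw [hg1, Scheme.Opens.fromSpecStalkOfMem_ι]
    exact IsPullback.of_hasPullback f (Y.fromSpecStalk y)
  have hsqV : IsPullback g'V f₁ fV gV := IsPullback.of_right hbig hg2 hres
  haveI : IsProper fV := MorphismProperty.of_isPullback hres inferInstance
  haveI : Flat g'V := MorphismProperty.of_isPullback hsqV.flip inferInstance
  have hflat : (gV.appLE ⊤ ⊤ le_top).hom.Flat := by
    have a2 : gV.appLE ⊤ ⊤ le_top = gV.appTop := Scheme.Hom.appLE_eq_app (f := gV) (U := ⊤)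
    rw [a2]
    exact Scheme.Hom.flat_appTop gV
  have H := exists_frac_fromSpecStalkOfMem hV y hyV
  -- the modules
  let F' := (Scheme.Modules.pullback ιV).obj F
  let G' := (Scheme.Modules.pullback ιV).obj G
  have hF' : FlatMod.IsFinLocFree F' := Groth.Agent.Lib.Helper1.Sky.isFinLocFree_pullback ιV F hF
  have hG' : FlatMod.IsFinLocFree G' := Groth.Agent.Lib.Helper1.Sky.isFinLocFree_pullback ιV G hG
  have hF'c : Coh.IsCoh F' := Groth.Agent.Lib.T2H5.RegPush.isCoh_of_isFinLocFree F' hF'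
  have hG'c : Coh.IsCoh G' := Groth.Agent.Lib.T2H5.RegPush.isCoh_of_isFinLocFree G' hG'
  haveI := hF'c.1
  haveI := hG'c.1
  haveI : SheafOfModules.IsFiniteType (R := (↑(f ⁻¹ᵁ V) : Scheme.{u}).ringCatSheaf) F' := hF'c.2
  haveI : SheafOfModules.IsFiniteType (R := (↑(f ⁻¹ᵁ V) : Scheme.{u}).ringCatSheaf) G' := hG'c.2
  let eF : (Scheme.Modules.pullback g'V).obj F' ≅ (Scheme.Modules.pullback g₁).obj F :=
    (Scheme.Modules.pullbackComp g'V ιV).app F ≪≫ (Scheme.Modules.pullbackCongr hg1).app F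
  let eG : (Scheme.Modules.pullback g'V).obj G' ≅ (Scheme.Modules.pullback g₁).obj G :=
    (Scheme.Modules.pullbackComp g'V ιV).app G ≪≫ (Scheme.Modules.pullbackCongr hg1).app G
  let u₁' : (Scheme.Modules.pullback g'V).obj F' ≅ (Scheme.Modules.pullback g'V).obj G' :=
    eF ≪≫ u₁ ≪≫ eG.symm
  obtain ⟨s, u', hsu, hu'⟩ := exists_hom_pullback_eq_smul fV gV g'V f₁ hsqV hflat H F' G' hF' u₁'.hom
  have hunit : IsUnit (g'V.appTop.hom (fV.appTop.hom s)) := by
    have e : fV.appTop ≫ g'V.appTop = gV.appTop ≫ f₁.appTop := by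
      rw [← Scheme.Hom.comp_appTop, ← Scheme.Hom.comp_appTop, hsqV.w]
    have e2 := congrArg (fun φ => φ.hom s) e
    simp only [CommRingCat.hom_comp, RingHom.coe_comp, Function.comp_apply] at e2
    rw [e2]
    have a2 : gV.appLE ⊤ ⊤ le_top = gV.appTop := Scheme.Hom.appLE_eq_app (f := gV) (U := ⊤)
    rw [a2] at hsu
    exact hsu.map _
  have hiso : IsIso ((Scheme.Modules.pullback g'V).map u') := by
    rw [hu']
    haveI := isIso_smulModΓ_of_isUnit ((Scheme.Modules.pullback g'V).obj G') _ hunit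
    infer_instance
  -- kernel and cokernel
  haveI : IsLocallyNoetherian (V : Scheme.{u}) := inferInstance
  haveI : IsLocallyNoetherian (↑(f ⁻¹ᵁ V) : Scheme.{u}) := LocallyOfFiniteType.isLocallyNoetherian fV
  let K : (↑(f ⁻¹ᵁ V) : Scheme.{u}).Modules := kernel u'
  let C : (↑(f ⁻¹ᵁ V) : Scheme.{u}).Modules := cokernel u'
  haveI : K.IsQuasicoherent := Groth.Agent.Lib.Helper23.QCohLocal.isQuasicoherent_kernel u'
  haveI : C.IsQuasicoherent := Groth.Agent.Lib.Helper23.QCohLocal.isQuasicoherent_cokernel u'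
  haveI hmk : Mono (kernel.ι u') := inferInstance
  haveI hek : Epi (cokernel.π u') := inferInstance
  haveI : SheafOfModules.IsFiniteType (R := (↑(f ⁻¹ᵁ V) : Scheme.{u}).ringCatSheaf) K :=
    Groth.Agent.Lib.Helper23.FinType.isFiniteType_of_mono (N := kernel u') (M := F') (kernel.ι u')
  haveI : SheafOfModules.IsFiniteType (R := (↑(f ⁻¹ᵁ V) : Scheme.{u}).ringCatSheaf) C :=
    Groth.Agent.Lib.Helper20.Nakayama.isFiniteType_of_epi (G := G') (C := cokernel u') (cokernel.π u')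
  have hst := subsingleton_stalks_of_isIso_pullback_map g'V u' K C (Iso.refl _) (Iso.refl _) hiso
  let 𝒢 : Set (↑(f ⁻¹ᵁ V) : Scheme.{u}) :=
    {x | Subsingleton (K.presheaf.stalk x)} ∩ {x | Subsingleton (C.presheaf.stalk x)}
  have h𝒢 : IsOpen 𝒢 := (isOpen_setOf_subsingleton_stalk K).inter (isOpen_setOf_subsingleton_stalk C)
  let y' : (V : Scheme.{u}) := ⟨y, hyV⟩
  have hcp : gV (IsLocalRing.closedPoint (Y.presheaf.stalk y)) = y' := by
    apply Subtype.ext
    change (gV ≫ V.ι) (IsLocalRing.closedPoint (Y.presheaf.stalk y)) = y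
    rw [Scheme.Opens.fromSpecStalkOfMem_ι]
    exact Scheme.fromSpecStalk_closedPoint
  have hfib : ∀ x : (↑(f ⁻¹ᵁ V) : Scheme.{u}), fV x = y' → x ∈ 𝒢 := by
    intro x hx
    have hx' : fV x = gV (IsLocalRing.closedPoint (Y.presheaf.stalk y)) := hx.trans hcp.symm
    obtain ⟨z₁, hz₁, -⟩ := Scheme.Pullback.exists_preimage_pullback x _ hx'
    have hx₁ : g'V (hsqV.isoPullback.inv z₁) = x := by
      rw [← hz₁, ← Scheme.Hom.comp_apply, hsqV.isoPullback_inv_fst]
    have := hst (hsqV.isoPullback.inv z₁)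
    rw [hx₁] at this
    exact this
  obtain ⟨U', hyU', hU'⟩ := exists_opens_preimage_subset fV fV.isClosedMap y' 𝒢 h𝒢 hfib
  let U : Y.Opens := V.ι ''ᵁ U'
  have hyU : y ∈ U := ⟨y', hyU', rfl⟩
  have hUV : U ≤ V := by
    rintro _ ⟨v, -, rfl⟩
    exact v.2
  have hle : f ⁻¹ᵁ U ≤ f ⁻¹ᵁ V := f.preimage_mono hUV
  refine ⟨U, hyU, ?_⟩
  let j := X.homOfLE hle
  have hjι : j ≫ ιV = (f ⁻¹ᵁ U).ι := X.homOfLE_ι hle
  have hjz : ∀ z : (↑(f ⁻¹ᵁ U) : Scheme.{u}), j z ∈ 𝒢 := by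
    intro z
    apply hU'
    have hz : f ((f ⁻¹ᵁ U).ι z) ∈ U := z.2
    obtain ⟨v, hvU', hv⟩ := hz
    have h1 : V.ι (fV (j z)) = f ((f ⁻¹ᵁ U).ι z) := by
      have e : fV ≫ V.ι = ιV ≫ f := morphismRestrict_ι f V
      have e' : j ≫ fV ≫ V.ι = (f ⁻¹ᵁ U).ι ≫ f := by rw [e, ← Category.assoc, hjι]
      have := congrArg (fun φ : (↑(f ⁻¹ᵁ U) : Scheme.{u}) ⟶ Y => φ z) e'
      exact this
    have h2 : fV (j z) = v := by
      apply V.ι.injective
      rw [h1]; exact hv.symm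
    rw [h2]; exact hvU'
  haveI : Flat j := inferInstance
  have hjiso : IsIso ((Scheme.Modules.pullback j).map u') :=
    isIso_pullback_map_of_stalks j u' K C (Iso.refl _) (Iso.refl _) (fun z => (hjz z).1) (fun z => (hjz z).2)
  let cmp : ∀ M : X.Modules, M.restrict (f ⁻¹ᵁ U).ι ≅ (Scheme.Modules.pullback j).obj
      ((Scheme.Modules.pullback ιV).obj M) := fun M =>
    (Scheme.Modules.restrictFunctorIsoPullback (f ⁻¹ᵁ U).ι).app M ≪≫
      (Scheme.Modules.pullbackCongr hjι.symm).app M ≪≫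
      ((Scheme.Modules.pullbackComp j ιV).app M).symm
  exact ⟨cmp F ≪≫ asIso ((Scheme.Modules.pullback j).map u') ≪≫ (cmp G).symm⟩

end glob

end Groth.Agent.Lib.T2H9.NearFib
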