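import Mathlib
import Groth.Agent.Lib.T2H9NearFib7
import Groth.Agent.Lib.T2H3GGDescent
import Groth.Agent.Lib.T2H5QCohSub
import Groth.Agent.Lib.Helper20ZClos20

/-!
# T2H9NearFib8: spreading out global generation from `X ×_Y Spec O_{Y,y}` (helper9)

Namespace `Groth.Agent.Lib.T2H9.NearFib`.

* `exists_affine_setup`: an affine neighbourhood `V` of `y` and the cartesian factorisation `X ×_Y Spec O_{Y,y} → f⁻¹V` over
  `Spec O_{Y,y} → V`.
* `exists_opens_subsingleton_stalk`: a quasi-coherent module of finite type on `f⁻¹V` whose pullback to `X ×_Y Spec O_{Y,y}` is zero has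
  vanishing stalks over a neighbourhood of `y` (`f` closed).
* `exists_isGloballyGenerated_restrict` (S12489): `f` proper, `L` quasi-coherent of finite type with globally generated pullback to
  `X ×_Y Spec O_{Y,y}`: `L|_{f⁻¹U}` is globally generated for some open `U ∋ y` (helper3's `epi_pullback_ev`).
-/

set_option autoImplicit false
set_option linter.style.haveILetI false
set_option linter.unusedVariables false
set_option linter.unusedSectionVars false
universe u

namespace Groth.Agent.Lib.T2H9.NearFib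

open CategoryTheory AlgebraicGeometry Limits TopologicalSpace Opposite
open Groth.Agent.Lib.T2H9.FibSec

section glob
variable {X Y : Scheme.{u}} (f : X ⟶ Y) (y : Y)

/-- the standard set-up: an affine neighbourhood `V` of `y` and the factorisation of `X ×_Y Spec O_{Y,y} → X` through `f⁻¹V`,
cartesian over `Spec O_{Y,y} → V`. -/
theorem exists_affine_setup :
    ∃ (V : Y.Opens) (_ : IsAffineOpen V) (hyV : y ∈ V)
      (g'V : pullback f (Y.fromSpecStalk y) ⟶ (↑(f ⁻¹ᵁ V) : Scheme.{u})),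
      g'V ≫ (f ⁻¹ᵁ V).ι = pullback.fst f (Y.fromSpecStalk y) ∧
      IsPullback g'V (pullback.snd f (Y.fromSpecStalk y)) (f ∣_ V) (V.fromSpecStalkOfMem y hyV) := by
  obtain ⟨V, hV, hyV, -⟩ := exists_isAffineOpen_mem_and_subset (x := y) (U := ⊤) trivial
  let ιV := (f ⁻¹ᵁ V).ι
  let fV := f ∣_ V
  let gV := V.fromSpecStalkOfMem y hyV
  let g₁ := pullback.fst f (Y.fromSpecStalk y)
  let f₁ := pullback.snd f (Y.fromSpecStalk y)
  have hres : IsPullback ιV fV f V.ι := (isPullback_morphismRestrict f V).flip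
  have hw : g₁ ≫ f = (f₁ ≫ gV) ≫ V.ι := by
    rw [Category.assoc, Scheme.Opens.fromSpecStalkOfMem_ι]
    exact pullback.condition
  let g'V := hres.lift g₁ (f₁ ≫ gV) hw
  have hg1 : g'V ≫ ιV = g₁ := hres.lift_fst _ _ _
  have hg2 : g'V ≫ fV = f₁ ≫ gV := hres.lift_snd _ _ _
  have hbig : IsPullback (g'V ≫ ιV) f₁ f (gV ≫ V.ι) := by
    rw [hg1, Scheme.Opens.fromSpecStalkOfMem_ι]
    exact IsPullback.of_hasPullback f (Y.fromSpecStalk y)
  exact ⟨V, hV, hyV, g'V, hg1, IsPullback.of_right hbig hg2 hres⟩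

/-- a quasi-coherent module of finite type on `f⁻¹V` whose pullback to `X ×_Y Spec O_{Y,y}` vanishes has vanishing stalks over a
neighbourhood of `y` (`f` a closed map). -/
theorem exists_opens_subsingleton_stalk (hcl : IsClosedMap f) {V : Y.Opens} (hyV : y ∈ V)
    (g'V : pullback f (Y.fromSpecStalk y) ⟶ (↑(f ⁻¹ᵁ V) : Scheme.{u}))
    (hsqV : IsPullback g'V (pullback.snd f (Y.fromSpecStalk y)) (f ∣_ V) (V.fromSpecStalkOfMem y hyV))
    (C : (↑(f ⁻¹ᵁ V) : Scheme.{u}).Modules) [C.IsQuasicoherent]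
    [SheafOfModules.IsFiniteType (R := (↑(f ⁻¹ᵁ V) : Scheme.{u}).ringCatSheaf) C]
    (hz : IsZero ((Scheme.Modules.pullback g'V).obj C)) :
    ∃ (U : Y.Opens) (hUV : U ≤ V), y ∈ U ∧ ∀ z : (↑(f ⁻¹ᵁ U) : Scheme.{u}),
      Subsingleton (C.presheaf.stalk (X.homOfLE (f.preimage_mono hUV) z)) := by
  let ιV := (f ⁻¹ᵁ V).ι
  let fV := f ∣_ V
  let gV := V.fromSpecStalkOfMem y hyV
  have hst : ∀ x₁, Subsingleton (C.presheaf.stalk (g'V x₁)) := fun x₁ =>
    (Groth.Agent.Lib.Helper20.PullbackAff.subsingleton_stalk_pullback_iff g'V C x₁).1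
      (Groth.Agent.Helper18Epi.subsingleton_stalk_of_isZero hz x₁)
  let 𝒢 : Set (↑(f ⁻¹ᵁ V) : Scheme.{u}) := {x | Subsingleton (C.presheaf.stalk x)}
  have h𝒢 : IsOpen 𝒢 := isOpen_setOf_subsingleton_stalk C
  let y' : (V : Scheme.{u}) := ⟨y, hyV⟩
  have hcp : gV (IsLocalRing.closedPoint (Y.presheaf.stalk y)) = y' := by
    apply Subtype.ext
    change (gV ≫ V.ι) (IsLocalRing.closedPoint (Y.presheaf.stalk y)) = y
    rw [Scheme.Opens.fromSpecStalkOfMem_ι]
    exact Scheme.fromSpecStalk_closedPoint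
  have hfib : ∀ x : (↑(f ⁻¹ᵁ V) : Scheme.{u}), fV x = y' → x ∈ 𝒢 := by
    intro x hx
    have hx' : fV x = gV (IsLocalRing.closedPoint (Y.presheaf.stalk y)) := hx.trans hcp.symm
    obtain ⟨z₁, hz₁, -⟩ := Scheme.Pullback.exists_preimage_pullback x _ hx'
    have hx₁ : g'V (hsqV.isoPullback.inv z₁) = x := by
      rw [← hz₁, ← Scheme.Hom.comp_apply, hsqV.isoPullback_inv_fst]
    have := hst (hsqV.isoPullback.inv z₁)
    rw [hx₁] at this
    exact this
  have hclV : IsClosedMap fV := by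
    have h1 := hcl.restrictPreimage (V.1 : Set Y)
    rw [← morphismRestrict_base f V] at h1
    exact h1
  obtain ⟨U', hyU', hU'⟩ := exists_opens_preimage_subset fV hclV y' 𝒢 h𝒢 hfib
  let U : Y.Opens := V.ι ''ᵁ U'
  have hyU : y ∈ U := ⟨y', hyU', rfl⟩
  have hUV : U ≤ V := by
    rintro _ ⟨v, -, rfl⟩
    exact v.2
  refine ⟨U, hUV, hyU, ?_⟩
  intro z
  apply hU'
  have hle : f ⁻¹ᵁ U ≤ f ⁻¹ᵁ V := f.preimage_mono hUV
  let j := X.homOfLE hle
  have hjι : j ≫ ιV = (f ⁻¹ᵁ U).ι := X.homOfLE_ι hle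
  have hz : f ((f ⁻¹ᵁ U).ι z) ∈ U := z.2
  obtain ⟨v, hvU', hv⟩ := hz
  have h1 : V.ι (fV (j z)) = f ((f ⁻¹ᵁ U).ι z) := by
    have e : fV ≫ V.ι = ιV ≫ f := morphismRestrict_ι f V
    have e' : j ≫ fV ≫ V.ι = (f ⁻¹ᵁ U).ι ≫ f := by rw [e, ← Category.assoc, hjι]
    have := congrArg (fun φ : (↑(f ⁻¹ᵁ U) : Scheme.{u}) ⟶ Y => φ z) e'
    exact this
  have h2 : fV (j z) = v := by
    apply V.ι.injective
    rw [h1]; exact hv.symm
  rw [h2]; exact hvU'

end glob

section gg
open Groth.Agent.Lib.T2H3.GGDescent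

theorem isGloballyGenerated_of_iso' {X : Scheme.{u}} {F G : X.Modules} (e : F ≅ G)
    (h : Curv2.IsGloballyGenerated F) : Curv2.IsGloballyGenerated G := by
  obtain ⟨ι, p, hp⟩ := h
  exact ⟨ι, p ≫ e.hom, epi_comp _ _⟩

variable {X Y : Scheme.{u}} (f : X ⟶ Y) [IsProper f] (y : Y)

/-- **spreading out global generation**: `f` proper, `L` quasi-coherent of finite type on `X` whose pullback to
`X ×_Y Spec O_{Y,y}` is globally generated: then `L|_{f⁻¹U}` is globally generated for a neighbourhood `U` of `y`. -/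
theorem exists_isGloballyGenerated_restrict (L : X.Modules) [L.IsQuasicoherent]
    [SheafOfModules.IsFiniteType (R := X.ringCatSheaf) L]
    (h : Curv2.IsGloballyGenerated
      ((Scheme.Modules.pullback (pullback.fst f (Y.fromSpecStalk y))).obj L)) :
    ∃ U : Y.Opens, y ∈ U ∧ Curv2.IsGloballyGenerated (L.restrict (f ⁻¹ᵁ U).ι) := by
  obtain ⟨V, hV, hyV, g'V, hg1, hsqV⟩ := exists_affine_setup f y
  haveI : IsAffine (V : Scheme.{u}) := hV
  let ιV := (f ⁻¹ᵁ V).ι
  let fV := f ∣_ V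
  let gV := V.fromSpecStalkOfMem y hyV
  let g₁ := pullback.fst f (Y.fromSpecStalk y)
  let f₁ := pullback.snd f (Y.fromSpecStalk y)
  have hres : IsPullback ιV fV f V.ι := (isPullback_morphismRestrict f V).flip
  haveI : IsProper fV := MorphismProperty.of_isPullback hres inferInstance
  haveI : Flat g'V := MorphismProperty.of_isPullback hsqV.flip inferInstance
  have hflat : (gV.appLE ⊤ ⊤ le_top).hom.Flat := by
    have a2 : gV.appLE ⊤ ⊤ le_top = gV.appTop := Scheme.Hom.appLE_eq_app (f := gV) (U := ⊤)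
    rw [a2]
    exact Scheme.Hom.flat_appTop gV
  let L' := (Scheme.Modules.pullback ιV).obj L
  haveI : L'.IsQuasicoherent := Groth.Agent.Lib.Helper2.PullbackSec.isQuasicoherent_pullback ιV L
  haveI : SheafOfModules.IsFiniteType (R := (↑(f ⁻¹ᵁ V) : Scheme.{u}).ringCatSheaf) L' :=
    Groth.Agent.Lib.Helper20.FormalPull.isFiniteType_pullback ιV L
  let eL : (Scheme.Modules.pullback g'V).obj L' ≅ (Scheme.Modules.pullback g₁).obj L :=
    (Scheme.Modules.pullbackComp g'V ιV).app L ≪≫ (Scheme.Modules.pullbackCongr hg1).app L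
  have hN : Curv2.IsGloballyGenerated ((Scheme.Modules.pullback g'V).obj L') :=
    isGloballyGenerated_of_iso' eL.symm h
  have hepi : Epi ((Scheme.Modules.pullback g'V).map (ev L')) :=
    epi_pullback_ev fV gV g'V f₁ hsqV L' (isAffineOpen_top _) (isAffineOpen_top _) hflat hN
  -- the cokernel of the evaluation morphism
  haveI : (SheafOfModules.free (Coh.structureModule (↑(f ⁻¹ᵁ V) : Scheme.{u}) ⟶ L') :
      (↑(f ⁻¹ᵁ V) : Scheme.{u}).Modules).IsQuasicoherent :=
    Groth.Agent.Lib.T2H5.QCohSub.isQCoh_sigma _ (fun _ => inferInstance)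
  let C : (↑(f ⁻¹ᵁ V) : Scheme.{u}).Modules := cokernel (ev L')
  haveI : C.IsQuasicoherent := Groth.Agent.Lib.Helper23.QCohLocal.isQuasicoherent_cokernel (ev L')
  haveI hek : Epi (cokernel.π (ev L')) := coequalizer.π_epi
  haveI : SheafOfModules.IsFiniteType (R := (↑(f ⁻¹ᵁ V) : Scheme.{u}).ringCatSheaf) C :=
    @Groth.Agent.Lib.Helper20.Nakayama.isFiniteType_of_epi _ L' (cokernel (ev L')) (cokernel.π (ev L')) hek _
  have hz : IsZero ((Scheme.Modules.pullback g'V).obj C) :=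
    (isZero_cokernel_of_epi _).of_iso (PreservesCokernel.iso (Scheme.Modules.pullback g'V) (ev L'))
  obtain ⟨U, hUV, hyU, hst⟩ := exists_opens_subsingleton_stalk f y f.isClosedMap hyV g'V hsqV C hz
  refine ⟨U, hyU, ?_⟩
  have hle : f ⁻¹ᵁ U ≤ f ⁻¹ᵁ V := f.preimage_mono hUV
  let j := X.homOfLE hle
  have hjι : j ≫ ιV = (f ⁻¹ᵁ U).ι := X.homOfLE_ι hle
  have hzj : IsZero ((Scheme.Modules.pullback j).obj C) :=
    Groth.Agent.Helper18Epi.isZero_of_subsingleton_stalk _ (fun z =>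
      (Groth.Agent.Lib.Helper20.PullbackAff.subsingleton_stalk_pullback_iff j C z).2 (hst z))
  have hepij : Epi ((Scheme.Modules.pullback j).map (ev L')) :=
    Preadditive.epi_of_isZero_cokernel _
      (hzj.of_iso (PreservesCokernel.iso (Scheme.Modules.pullback j) (ev L')).symm)
  have hgg : Curv2.IsGloballyGenerated ((Scheme.Modules.pullback j).obj L') :=
    ⟨_, (Groth.Agent.Lib.T2H5.ClosedTransfer.pullbackFreeIso j _).inv ≫
      (Scheme.Modules.pullback j).map (ev L'), @epi_comp _ _ _ _ _ _ inferInstance _ hepij⟩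
  let cmp : L.restrict (f ⁻¹ᵁ U).ι ≅ (Scheme.Modules.pullback j).obj
      ((Scheme.Modules.pullback ιV).obj L) :=
    (Scheme.Modules.restrictFunctorIsoPullback (f ⁻¹ᵁ U).ι).app L ≪≫
      (Scheme.Modules.pullbackCongr hjι.symm).app L ≪≫
      ((Scheme.Modules.pullbackComp j ιV).app L).symm
  exact isGloballyGenerated_of_iso' cmp.symm hgg

end gg

end Groth.Agent.Lib.T2H9.NearFib
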