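import Mathlib
import Groth.Prelude
import Groth.Agent.Lib.Helper23UnitStalk
import Groth.Agent.Lib.T2H9SpecChain
import Groth.Agent.Lib.Helper4DimFormulaAE

/-!
# No embedded points when the ring of global sections is reduced (helper9, S7835)
-/

set_option autoImplicit false
set_option linter.style.haveILetI false
set_option linter.unusedSectionVars false
universe u
open CategoryTheory CategoryTheory.Limits AlgebraicGeometry TopologicalSpace

namespace Groth.Agent.Lib.T2H9.NoEmb

/-- An element of the localization at `𝔭` killed by the maximal ideal is, up to a unit, the image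
of an element of `A` killed by `𝔭` (Noetherian case). -/
theorem exists_killed_by_prime {A L : Type*} [CommRing A] [IsNoetherianRing A] [CommRing L]
    [Algebra A L] (𝔭 : Ideal A) [𝔭.IsPrime] [IsLocalization.AtPrime L 𝔭] (s : L)
    (hs : ∀ r ∈ 𝔭, algebraMap A L r * s = 0) :
    ∃ (a : A) (w : A), w ∉ 𝔭 ∧ algebraMap A L a = algebraMap A L w * s ∧ ∀ r ∈ 𝔭, r * a = 0 := by
  obtain ⟨b, ⟨v, hv⟩, hb⟩ := IsLocalization.exists_mk'_eq 𝔭.primeCompl s
  have hbs : algebraMap A L b = algebraMap A L v * s := by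
    rw [← hb, mul_comm]
    exact (IsLocalization.mk'_spec L b ⟨v, hv⟩).symm
  -- for each `r ∈ 𝔭`, some `u ∉ 𝔭` kills `r * b`
  have h1 : ∀ r ∈ 𝔭, ∃ u : A, u ∉ 𝔭 ∧ u * (r * b) = 0 := by
    intro r hr
    have h0 : algebraMap A L (r * b) = 0 := by
      rw [map_mul, hbs, ← mul_assoc, mul_comm (algebraMap A L r), mul_assoc, hs r hr, mul_zero]
    obtain ⟨⟨u, hu⟩, hu0⟩ := (IsLocalization.map_eq_zero_iff 𝔭.primeCompl L (r * b)).mp h0
    exact ⟨u, hu, hu0⟩
  obtain ⟨S, hS⟩ := (isNoetherianRing_iff_ideal_fg A).mp inferInstance 𝔭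
  classical
  choose! u hu hu0 using h1
  have hSp : ∀ r ∈ S, r ∈ 𝔭 := fun r hr => hS ▸ Ideal.subset_span hr
  refine ⟨(∏ r ∈ S, u r) * b, (∏ r ∈ S, u r) * v, ?_, ?_, ?_⟩
  · intro h
    rcases (Ideal.IsPrime.mem_or_mem inferInstance h) with h | h
    · obtain ⟨r, hr, hur⟩ := (Ideal.IsPrime.prod_mem_iff).mp h
      exact hu r (hSp r hr) hur
    · exact hv h
  · rw [map_mul, map_mul, hbs, mul_assoc]
  · have key : ∀ r ∈ S, r * ((∏ r ∈ S, u r) * b) = 0 := by
      intro r hr
      rw [← Finset.prod_erase_mul S u hr]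
      calc r * ((∏ x ∈ S.erase r, u x) * u r * b)
          = (∏ x ∈ S.erase r, u x) * (u r * (r * b)) := by ring
        _ = 0 := by rw [hu0 r (hSp r hr), mul_zero]
    intro r hr
    rw [← hS] at hr
    refine Submodule.span_induction (p := fun r _ => r * ((∏ r ∈ S, u r) * b) = 0) ?_ ?_ ?_ ?_ hr
    · intro r hr; exact key r hr
    · rw [zero_mul]
    · intro x y _ _ hx hy; rw [add_mul, hx, hy, add_zero]
    · intro c x _ hx; rw [smul_eq_mul, mul_assoc, hx, mul_zero]


open IsLocalRing in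
/-- a closed, non-generic associated point of a locally Noetherian scheme produces a nonzero global
section of square zero -/
theorem exists_nilpotent_section (C : Scheme.{u}) [IsLocallyNoetherian C] (x : C)
    (hx : IsClosed ({x} : Set C))
    (hass : IsAssociatedPrime (maximalIdeal (C.presheaf.stalk x)) (C.presheaf.stalk x))
    (hm : maximalIdeal (C.presheaf.stalk x) ≠ ⊥) :
    ∃ t : Γ(C, ⊤), t ≠ 0 ∧ t * t = 0 := by
  obtain ⟨-, s, hs⟩ := isAssociatedPrime_iff.mp hass
  have hs' : ∀ r : C.presheaf.stalk x, r ∈ maximalIdeal (C.presheaf.stalk x) ↔ r * s = 0 := by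
    intro r
    rw [hs, Submodule.mem_colon_singleton, Submodule.mem_bot, smul_eq_mul]
  have hs0 : s ≠ 0 := by
    rintro rfl
    have : (1 : C.presheaf.stalk x) ∈ maximalIdeal (C.presheaf.stalk x) :=
      (hs' 1).mpr (mul_zero _)
    exact (maximalIdeal.isMaximal _).ne_top ((Ideal.eq_top_iff_one _).mpr this)
  obtain ⟨U, hU, hxU, -⟩ := exists_isAffineOpen_mem_and_subset (x := x) (U := ⊤) trivial
  haveI : IsNoetherianRing Γ(C, U) := IsLocallyNoetherian.component_noetherian ⟨U, hU⟩
  set 𝔭 : Ideal Γ(C, U) := (hU.primeIdealOf ⟨x, hxU⟩).asIdeal with h𝔭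
  letI := C.presheaf.algebra_section_stalk (U := U) ⟨x, hxU⟩
  haveI := hU.isLocalization_stalk ⟨x, hxU⟩
  have halg : ∀ r : Γ(C, U), algebraMap Γ(C, U) (C.presheaf.stalk x) r =
      C.presheaf.germ U x hxU r := fun r => rfl
  obtain ⟨a, w, hw, haw, hpa⟩ := exists_killed_by_prime (L := C.presheaf.stalk x) 𝔭 s
    (fun r hr => (hs' _).mp ((IsLocalization.AtPrime.to_map_mem_maximal_iff _ 𝔭 r).mpr hr))
  have hwu : IsUnit (algebraMap Γ(C, U) (C.presheaf.stalk x) w) :=
    IsLocalization.map_units (C.presheaf.stalk x) (⟨w, hw⟩ : 𝔭.primeCompl)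
  have hagerm : C.presheaf.germ U x hxU a ≠ 0 := by
    rw [← halg, haw]
    intro h0
    exact hs0 ((hwu.mul_right_eq_zero).mp h0)
  have ha𝔭 : a ∈ 𝔭 := by
    by_contra hna
    have hau : IsUnit (algebraMap Γ(C, U) (C.presheaf.stalk x) a) :=
      IsLocalization.map_units (C.presheaf.stalk x) (⟨a, hna⟩ : 𝔭.primeCompl)
    apply hm
    rw [eq_bot_iff]
    intro r hr
    have h1 : r * (algebraMap Γ(C, U) (C.presheaf.stalk x) a) = 0 := by
      rw [haw, ← mul_assoc, mul_comm r, mul_assoc, (hs' r).mp hr, mul_zero]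
    exact (hau.mul_left_eq_zero).mp h1
  have haa : a * a = 0 := hpa a ha𝔭
  -- `a` vanishes away from `x`
  set W : C.Opens := ⟨({x} : Set C)ᶜ, hx.isOpen_compl⟩ with hW
  have hmax : 𝔭.IsMaximal := by
    have hxU' : IsClosed ({(⟨x, hxU⟩ : U)} : Set U) := by
      have : ({(⟨x, hxU⟩ : U)} : Set U) = Subtype.val ⁻¹' ({x} : Set C) := by
        ext z
        constructor
        · rintro rfl
          rfl
        · intro h
          exact Subtype.ext h
      rw [this]
      exact hx.preimage continuous_subtype_val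
    have h1 : IsClosed ({hU.primeIdealOf ⟨x, hxU⟩} : Set (PrimeSpectrum Γ(C, U))) := by
      have := (hU.isoSpec.hom.homeomorph).isClosedMap _ hxU'
      have e : (hU.isoSpec.hom.homeomorph) '' ({(⟨x, hxU⟩ : U)} : Set U) =
          ({hU.primeIdealOf ⟨x, hxU⟩} : Set (PrimeSpectrum Γ(C, U))) := Set.image_singleton
      rw [e] at this
      exact this
    exact (PrimeSpectrum.isClosed_singleton_iff_isMaximal _).mp h1
  have hvan : C.presheaf.map (homOfLE (inf_le_left : U ⊓ W ≤ U)).op a = 0 := by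
    apply TopCat.Presheaf.section_ext C.sheaf (U ⊓ W)
    intro z hz
    refine Eq.trans ?_ (map_zero _).symm
    change C.presheaf.germ (U ⊓ W) z hz (C.presheaf.map (homOfLE inf_le_left).op a) = 0
    rw [TopCat.Presheaf.germ_res_apply]
    have hzx : z ≠ x := hz.2
    -- some `r ∈ 𝔭` is invertible at `z`
    have hne : (hU.primeIdealOf ⟨z, hz.1⟩).asIdeal ≠ 𝔭 := by
      intro h
      have h2 : hU.primeIdealOf ⟨z, hz.1⟩ = hU.primeIdealOf ⟨x, hxU⟩ := PrimeSpectrum.ext h
      have h3 := hU.isoSpec.hom.homeomorph.injective h2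
      exact hzx (congrArg Subtype.val h3)
    have hnle : ¬ 𝔭 ≤ (hU.primeIdealOf ⟨z, hz.1⟩).asIdeal := fun hle =>
      hne (hmax.eq_of_le (hU.primeIdealOf ⟨z, hz.1⟩).isPrime.ne_top hle).symm
    obtain ⟨r, hr𝔭, hrz⟩ := Set.not_subset.mp hnle
    have hru : IsUnit (C.presheaf.germ U z hz.1 r) := by
      letI := C.presheaf.algebra_section_stalk (U := U) ⟨z, hz.1⟩
      haveI := hU.isLocalization_stalk ⟨z, hz.1⟩
      exact IsLocalization.map_units (C.presheaf.stalk z)
        (⟨r, hrz⟩ : (hU.primeIdealOf ⟨z, hz.1⟩).asIdeal.primeCompl)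
    have h0 : C.presheaf.germ U z hz.1 r * C.presheaf.germ U z hz.1 a = 0 := by
      rw [← map_mul, hpa r hr𝔭, map_zero]
    exact (hru.mul_right_eq_zero).mp h0
  have hvan' : ∀ (V : C.Opens) (hVU : V ≤ U) (hVW : V ≤ W),
      C.presheaf.map (homOfLE hVU).op a = 0 := by
    intro V hVU hVW
    have h1 : C.presheaf.map (homOfLE hVU).op a =
        C.presheaf.map (homOfLE (le_inf hVU hVW)).op
          (C.presheaf.map (homOfLE (inf_le_left : U ⊓ W ≤ U)).op a) := by
      rw [← ConcreteCategory.comp_apply, ← C.presheaf.map_comp]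
      rfl
    rw [h1, hvan, map_zero]
  -- glue `a` on `U` with `0` on `W`
  let Uf : Bool → C.Opens := fun b => bif b then U else W
  let sf : ∀ b, Γ(C, Uf b) := fun b => match b with
    | true => a
    | false => 0
  have hcompat : TopCat.Presheaf.IsCompatible C.presheaf Uf sf := by
    rintro (_ | _) (_ | _)
    · change C.presheaf.map _ (0 : Γ(C, W)) = C.presheaf.map _ (0 : Γ(C, W))
      rw [map_zero, map_zero]
    · change C.presheaf.map _ (0 : Γ(C, W)) = C.presheaf.map _ a
      rw [map_zero]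
      exact (hvan' (W ⊓ U) inf_le_right inf_le_left).symm
    · change C.presheaf.map _ a = C.presheaf.map _ (0 : Γ(C, W))
      rw [map_zero]
      exact hvan' (U ⊓ W) inf_le_left inf_le_right
    · change C.presheaf.map (Opens.infLELeft U U).op a = C.presheaf.map (Opens.infLERight U U).op a
      rw [Subsingleton.elim (Opens.infLELeft U U) (Opens.infLERight U U)]
  have hcover : (⊤ : C.Opens) ≤ iSup Uf := by
    intro z _
    by_cases hz : z = x
    · exact Opens.mem_iSup.mpr ⟨true, hz ▸ hxU⟩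
    · exact Opens.mem_iSup.mpr ⟨false, hz⟩
  obtain ⟨t, ht, -⟩ : ∃! t : Γ(C, ⊤), ∀ b, C.presheaf.map (homOfLE (le_top : Uf b ≤ ⊤)).op t = sf b :=
    C.sheaf.existsUnique_gluing' Uf ⊤ (fun b => homOfLE le_top) hcover sf hcompat
  have htU : C.presheaf.map (homOfLE (le_top : U ≤ ⊤)).op t = a := ht true
  have htW : C.presheaf.map (homOfLE (le_top : W ≤ ⊤)).op t = 0 := ht false
  have key : ∀ t' : Γ(C, ⊤), C.presheaf.map (homOfLE (le_top : U ≤ ⊤)).op t' = 0 →
      C.presheaf.map (homOfLE (le_top : W ≤ ⊤)).op t' = 0 → t' = 0 := by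
    intro t' h1 h2
    refine C.sheaf.eq_of_locally_eq₂ (homOfLE (le_top : U ≤ ⊤)) (homOfLE (le_top : W ≤ ⊤))
      (by
        intro z _
        by_cases hz : z = x
        · exact Or.inl (hz ▸ hxU)
        · exact Or.inr hz) t' 0 ?_ ?_
    · exact h1.trans (map_zero (C.presheaf.map (homOfLE (le_top : U ≤ ⊤)).op).hom).symm
    · exact h2.trans (map_zero (C.presheaf.map (homOfLE (le_top : W ≤ ⊤)).op).hom).symm
  refine ⟨t, ?_, ?_⟩
  · rintro rfl
    rw [map_zero] at htU
    apply hagerm
    rw [← htU, map_zero]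
  · apply key
    · rw [map_mul, htU, haa]
    · rw [map_mul, htW, mul_zero]


open Groth.Agent.Lib.Helper4.DimFormula in
/-- **no embedded points** on a Noetherian scheme of dimension one with reduced ring of global
sections -/
theorem main (C : Scheme.{u}) [IsNoetherian C]
    (hdim : topologicalKrullDim C = 1) (hred : _root_.IsReduced Γ(C, ⊤)) :
    AssSch.NoEmbedded (Coh.structureModule C) := by
  intro x hx y _ hyx
  by_contra hne
  -- `x` is a closed point
  have hxcl : IsClosed ({x} : Set C) := by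
    obtain ⟨z, hz1, hz2⟩ := IsClosed.exists_closed_singleton
      (isClosed_closure (s := ({x} : Set C))) ⟨x, subset_closure rfl⟩
    have hxz : x ⤳ z := specializes_iff_mem_closure.mpr hz1
    by_cases hzx : x = z
    · rw [hzx]; exact hz2
    · exfalso
      have := Groth.Agent.Lib.T2H9.SpecChain.two_le_topologicalKrullDim hyx hxz (Ne.symm hne) hzx
      rw [hdim] at this
      exact absurd this (by decide)
  have hass := (Groth.Agent.Lib.Helper23.UnitStalk.isAssPoint_structureModule_iff x).mp hx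
  have hm : IsLocalRing.maximalIdeal (C.presheaf.stalk x) ≠ ⊥ := by
    intro hbot
    obtain ⟨𝔭, h𝔭, hpt⟩ := exists_prime_fromSpecStalk_eq hyx
    have h1 : 𝔭 = IsLocalRing.maximalIdeal (C.presheaf.stalk x) := by
      rw [hbot, eq_bot_iff, ← hbot]
      exact IsLocalRing.le_maximalIdeal h𝔭.ne_top
    apply hne
    rw [← hpt]
    have h2 : (⟨𝔭, h𝔭⟩ : PrimeSpectrum (C.presheaf.stalk x)) =
        IsLocalRing.closedPoint (C.presheaf.stalk x) := PrimeSpectrum.ext h1
    rw [h2]
    exact Scheme.fromSpecStalk_closedPoint.symm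
  obtain ⟨t, ht0, htt⟩ := exists_nilpotent_section C x hxcl hass hm
  exact ht0 (hred.eq_zero t ⟨2, by rw [pow_two]; exact htt⟩)

end Groth.Agent.Lib.T2H9.NoEmb
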