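import Mathlib
import Groth.Prelude
import Groth.Agent.Lib.Helper6GeomComp3
import Groth.Agent.Lib.T2H9GenSmooth
import Groth.Agent.Lib.Helper4NormCurve
import Groth.Agent.Lib.Helper4NormIso
import Groth.Agent.Lib.Helper6Reduced
import Groth.Agent.Lib.Helper3Isog
import Groth.Agent.Lib.Helper6SepCl
import Groth.Agent.Lib.Helper4VarDim10
import Groth.Agent.S1536

/-!
# `H^0` of a smooth normalization of the reduction of a base change (helper9, S12235)
-/

set_option autoImplicit false
set_option linter.style.haveILetI false
set_option linter.unusedSectionVars false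
universe u
open CategoryTheory CategoryTheory.Limits AlgebraicGeometry TopologicalSpace

namespace Groth.Agent.Lib.T2H9.NormH0

section Transfer

attribute [local instance] Curv2.resAlgebra

variable (K : Type u) [Field K] {Y T : Scheme.{u}} [Y.Over (Spec (CommRingCat.of K))]
  [T.Over (Spec (CommRingCat.of K))]

/-- compatibility of `Curv2.resMap` with a morphism over `Spec K` -/
theorem resMap_comp (g : Y ⟶ T)
    (hg : g ≫ (T ↘ Spec (CommRingCat.of K)) = (Y ↘ Spec (CommRingCat.of K))) (y : Y) :
    (g.residueFieldMap y).hom.comp (Curv2.resMap K T (g y)) = Curv2.resMap K Y y := by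
  have h1 := Groth.Agent.Lib.Helper6.GeomComp.specMap_resMap K Y y
  have h2 := Groth.Agent.Lib.Helper6.GeomComp.specMap_resMap K T (g y)
  have h3 : Spec.map (CommRingCat.ofHom ((g.residueFieldMap y).hom.comp (Curv2.resMap K T (g y)))) =
      Spec.map (CommRingCat.ofHom (Curv2.resMap K Y y)) := by
    rw [h1, ← hg, CommRingCat.ofHom_comp, Spec.map_comp, h2, CommRingCat.ofHom_hom,
      ← Category.assoc, Scheme.Hom.SpecMap_residueFieldMap_fromSpecResidueField, Category.assoc]
  have h4 := Spec.map_injective h3
  exact congrArg CommRingCat.Hom.hom h4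

/-- Geometric irreducibility passes along a morphism over `Spec K` inducing a surjection on the
residue fields of the generic points. -/
theorem geometricallyIrreducible_of_residueFieldMap_surjective [IrreducibleSpace Y]
    [IrreducibleSpace T] (g : Y ⟶ T)
    (hg : g ≫ (T ↘ Spec (CommRingCat.of K)) = (Y ↘ Spec (CommRingCat.of K)))
    (hgen : g (genericPoint Y) = genericPoint T)
    (hsurj : Function.Surjective (g.residueFieldMap (genericPoint Y)).hom)
    [GeometricallyIrreducible (T ↘ Spec (CommRingCat.of K))] :
    GeometricallyIrreducible (Y ↘ Spec (CommRingCat.of K)) := by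
  rw [Groth.Agent.Lib.Helper6.GeomComp.geometricallyIrreducible_iff_sepClosed_generic K Y]
  have hT := (Groth.Agent.Lib.Helper6.GeomComp.geometricallyIrreducible_iff_sepClosed_generic K T).mp
    inferInstance
  have key : ∀ t : T, t = genericPoint T → ∀ b : T.residueField t, IsSeparable K b →
      b ∈ Set.range (algebraMap K (T.residueField t)) := by
    rintro t rfl
    exact hT
  intro a ha
  obtain ⟨b, rfl⟩ := hsurj a
  have hcomp := resMap_comp K g hg (genericPoint Y)
  let φ : T.residueField (g (genericPoint Y)) →ₐ[K] Y.residueField (genericPoint Y) :=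
    { (g.residueFieldMap (genericPoint Y)).hom with
      commutes' := fun c => by
        have := congrArg (fun ψ : K →+* Y.residueField (genericPoint Y) => ψ c) hcomp
        exact this }
  have hb : IsSeparable K b := by
    have h1 : minpoly K (φ b) = minpoly K b :=
      minpoly.algHom_eq φ (g.residueFieldMap (genericPoint Y)).hom.injective b
    have h2 : (minpoly K (φ b)).Separable := ha
    rw [h1] at h2
    exact h2
  obtain ⟨c, hc⟩ := key _ hgen b hb
  refine ⟨c, ?_⟩
  rw [← hc]
  exact (φ.commutes c).symm

end Transfer

section Norm

open Groth.Agent.Lib.Helper4.NormCurve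

/-- the residue field map of the normalization at the generic point is surjective -/
theorem residueFieldMap_normalizationι_surjective (W : Scheme.{u}) [IsIntegral W]
    [QuasiCompact (W.fromSpecStalk (genericPoint W))]
    [QuasiSeparated (W.fromSpecStalk (genericPoint W))] :
    Function.Surjective ((Curv2.normalizationι W).residueFieldMap
      (genericPoint (W.fromSpecStalk (genericPoint W)).normalization)).hom := by
  haveI := Groth.Agent.Lib.Helper4.NormIso.isIso_stalkMap_fromNormalization_of_eq
    (W.fromSpecStalk (genericPoint W)) fromSpecStalk_eq_gen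
  have h1 : Function.Surjective ((W.residue _ ≫ (Curv2.normalizationι W).residueFieldMap
      (genericPoint (W.fromSpecStalk (genericPoint W)).normalization)).hom) := by
    rw [Scheme.residue_residueFieldMap]
    exact (IsLocalRing.residue_surjective (R := _)).comp
      (ConcreteCategory.bijective_of_isIso ((W.fromSpecStalk (genericPoint W)).fromNormalization.stalkMap
        (genericPoint (W.fromSpecStalk (genericPoint W)).normalization))).2
  have h2 : Function.Surjective (((Curv2.normalizationι W).residueFieldMap
      (genericPoint (W.fromSpecStalk (genericPoint W)).normalization)).hom ∘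
      (W.residue _).hom) := h1
  exact Function.Surjective.of_comp h2

end Norm


section Main

open Groth.Agent.Lib.Helper4.NormCurve

/-- `H^0` of a smooth normalization of the reduction of a proper geometrically irreducible scheme
over a field is one-dimensional. -/
theorem finrank_hh0_normalization (K : Type u) [Field K] {T : Scheme.{u}}
    (t : T ⟶ Spec (CommRingCat.of K)) [IsProper t] [GeometricallyIrreducible t]
    (W : Scheme.{u}) [IsIntegral W]
    [QuasiCompact (W.fromSpecStalk (genericPoint W))]
    [QuasiSeparated (W.fromSpecStalk (genericPoint W))]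
    (ι : W ⟶ T) [IsClosedImmersion ι] (hι : Set.range ι = Set.univ)
    (hsm : Smooth (Curv2.normalizationι W ≫ ι ≫ t)) :
    letI : (Curv2.normalization W).Over (Spec (CommRingCat.of K)) :=
      ⟨Curv2.normalizationι W ≫ ι ≫ t⟩
    Module.finrank K (Coh.HH (Curv2.normalization W)
      (Coh.structureModule (Curv2.normalization W)) 0) = 1 := by
  haveI : IsIntegral (Curv2.normalization W) :=
    inferInstanceAs (IsIntegral (W.fromSpecStalk (genericPoint W)).normalization)
  haveI hlft : LocallyOfFiniteType (ι ≫ t) := inferInstance
  letI oW : W.Over (Spec (CommRingCat.of K)) := ⟨ι ≫ t⟩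
  haveI hlftW : LocallyOfFiniteType (W ↘ Spec (CommRingCat.of K)) := hlft
  haveI hfin : IsFinite (Curv2.normalizationι W) :=
    isFinite_fromNormalization_of_eq W.functionField (RingHom.id _)
      (W.fromSpecStalk (genericPoint W)) fromSpecStalk_eq_gen
      (RingHom.Finite.id _)
      (fun U hU hne => @isN2_sections_of_locallyOfFiniteType_field K _ W _ _ _ U hU hne)
  haveI hprop : IsProper (Curv2.normalizationι W ≫ ι ≫ t) := inferInstance
  haveI hgr : GeometricallyReduced (Curv2.normalizationι W ≫ ι ≫ t) :=
    Groth.Agent.Lib.Helper3.Isog.geometricallyReduced_of_smooth _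
  haveI : IrreducibleSpace T := GeometricallyIrreducible.irreducibleSpace_of_subsingleton t
  haveI : IsDominant (Curv2.normalizationι W) :=
    isDominant_fromNormalization_of_eq W.functionField (RingHom.id _)
      (W.fromSpecStalk (genericPoint W)) fromSpecStalk_eq_gen
  have hgen1 : (Curv2.normalizationι W) (genericPoint (Curv2.normalization W)) = genericPoint W :=
    Groth.Agent.Lib.T2H9.GenSmooth.map_genericPoint_of_denseRange _
      (IsDominant.denseRange (f := Curv2.normalizationι W))
  have hgen2 : ι (genericPoint W) = genericPoint T :=
    Groth.Agent.Lib.T2H9.GenSmooth.map_genericPoint_of_denseRange _ (by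
      rw [DenseRange, hι]
      exact dense_univ)
  have hgen : (Curv2.normalizationι W ≫ ι) (genericPoint (Curv2.normalization W)) =
      genericPoint T := by
    rw [Scheme.Hom.comp_apply, hgen1, hgen2]
  have hsurj : Function.Surjective ((Curv2.normalizationι W ≫ ι).residueFieldMap
      (genericPoint (Curv2.normalization W))).hom := by
    rw [Scheme.residueFieldMap_comp]
    intro a
    obtain ⟨b, rfl⟩ := residueFieldMap_normalizationι_surjective W a
    obtain ⟨c, rfl⟩ :=
      (Groth.Agent.Lib.Helper4.VarDim.residueFieldMap_bijective_of_isPreimmersion ι _).2 b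
    exact ⟨c, rfl⟩
  letI oY : (Curv2.normalization W).Over (Spec (CommRingCat.of K)) :=
    ⟨Curv2.normalizationι W ≫ ι ≫ t⟩
  letI oT : T.Over (Spec (CommRingCat.of K)) := ⟨t⟩
  haveI : GeometricallyIrreducible (T ↘ Spec (CommRingCat.of K)) := ‹GeometricallyIrreducible t›
  haveI : IsProper (Curv2.normalization W ↘ Spec (CommRingCat.of K)) := hprop
  haveI : GeometricallyReduced (Curv2.normalization W ↘ Spec (CommRingCat.of K)) := hgr
  haveI : GeometricallyIrreducible (Curv2.normalization W ↘ Spec (CommRingCat.of K)) :=
    geometricallyIrreducible_of_residueFieldMap_surjective K (Curv2.normalizationι W ≫ ι)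
      (Category.assoc _ _ _) hgen hsurj
  haveI : GeometricallyConnected (Curv2.normalization W ↘ Spec (CommRingCat.of K)) :=
    Groth.Agent.Lib.Helper6.SepCl.geometricallyConnected_of_geometricallyIrreducible _
  exact Groth.Agent.S1536.result K (Curv2.normalization W)

end Main

end Groth.Agent.Lib.T2H9.NormH0
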