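import Mathlib
import Groth.Prelude
import Groth.Agent.Lib.T2H9NormH0
import Groth.Agent.Lib.T2H9NormSm
import Groth.Agent.Lib.Helper20ResMap

/-!
# A smooth normalization commutes with extension of the base field (helper9, S12240)
-/

set_option autoImplicit false
set_option linter.style.haveILetI false
set_option linter.unusedSectionVars false
universe u
open CategoryTheory CategoryTheory.Limits AlgebraicGeometry TopologicalSpace

namespace Groth.Agent.Lib.T2H9.NormBC

/-- the spectrum of a field is a normal scheme -/
theorem isNormalScheme_Spec_field (Ω : Type u) [Field Ω] :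
    Pi1.IsNormalScheme (Spec (CommRingCat.of Ω)) := by
  intro x
  letI : Algebra Ω ((Spec (CommRingCat.of Ω)).presheaf.stalk x) :=
    StructureSheaf.stalkAlgebra (R := Ω) x
  haveI : IsLocalization.AtPrime ((Spec (CommRingCat.of Ω)).presheaf.stalk x) x.asIdeal :=
    StructureSheaf.IsLocalization.to_stalk (R := Ω) x
  haveI : IsDomain ((Spec (CommRingCat.of Ω)).presheaf.stalk x) :=
    IsLocalization.isDomain_of_atPrime _ x.asIdeal
  exact ⟨inferInstance, isIntegrallyClosed_of_isLocalization _ x.asIdeal.primeCompl
    x.asIdeal.primeCompl_le_nonZeroDivisors⟩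

/-- a morphism of integral schemes mapping the generic point to the generic point and surjective
on the residue fields there induces an isomorphism of function fields -/
theorem isIso_stalkMap_genericPoint {P W : Scheme.{u}} [IsIntegral P] [IsIntegral W] (g : P ⟶ W)
    (hgen : g (genericPoint P) = genericPoint W)
    (hs : Function.Surjective (g.residueFieldMap (genericPoint P)).hom) :
    IsIso (g.stalkMap (genericPoint P)) := by
  have hfield : IsField (W.presheaf.stalk (g (genericPoint P))) := by
    rw [hgen]; exact Field.toIsField W.functionField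
  have hinj : Function.Injective (g.stalkMap (genericPoint P)).hom :=
    Groth.Agent.Lib.T2H9.NormSm.injective_of_isField hfield _
  have hresinj : Function.Injective (P.residue (genericPoint P)).hom := by
    rw [RingHom.injective_iff_ker_eq_bot]
    change RingHom.ker (IsLocalRing.residue (P.presheaf.stalk (genericPoint P))) = ⊥
    rw [IsLocalRing.ker_residue]
    exact IsLocalRing.isField_iff_maximalIdeal_eq.mp (Field.toIsField P.functionField)
  rw [ConcreteCategory.isIso_iff_bijective]
  refine ⟨hinj, fun z => ?_⟩
  obtain ⟨b, hb⟩ := hs ((P.residue (genericPoint P)).hom z)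
  obtain ⟨b', rfl⟩ := W.residue_surjective _ b
  refine ⟨b', hresinj ?_⟩
  rw [← hb]
  have := congrArg (fun ψ => ψ.hom b') (Scheme.residue_residueFieldMap g (genericPoint P))
  exact this.symm


/-- if `q = g ≫ c` then the residue field map of `q` at `w` takes values in the range of that
of `g` -/
theorem residueFieldMap_mem_range_of_eq {P W Z : Scheme.{u}} (g : P ⟶ W) (c : W ⟶ Z) (q : P ⟶ Z)
    (hq : q = g ≫ c) (w : P) (a : Z.residueField (q w)) :
    (q.residueFieldMap w).hom a ∈ (g.residueFieldMap w).hom.fieldRange := by
  subst hq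
  rw [Scheme.residueFieldMap_comp]
  exact ⟨(c.residueFieldMap (g w)).hom a, rfl⟩

/-- a morphism out of a fibre product through which both projections factor (the first one up
to a morphism surjective on the residue field) is surjective on residue fields -/
theorem residueFieldMap_surjective_of_pullback {Y S S' W X : Scheme.{u}} (a : Y ⟶ S) (b : S' ⟶ S)
    (w : ↑(pullback a b)) (g : pullback a b ⟶ W) (c₁ : W ⟶ X) (ν : Y ⟶ X) (c₂ : W ⟶ S')
    (h₁ : pullback.fst a b ≫ ν = g ≫ c₁) (h₂ : pullback.snd a b = g ≫ c₂)
    (hν : Function.Surjective (ν.residueFieldMap (pullback.fst a b w)).hom) :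
    Function.Surjective (g.residueFieldMap w).hom := by
  have key := Groth.Agent.Lib.Helper20.ResFld.subfield_eq_top w (g.residueFieldMap w).hom.fieldRange
    (fun a' => by
      obtain ⟨a'', rfl⟩ := hν a'
      have h := residueFieldMap_mem_range_of_eq g c₁ (pullback.fst a b ≫ ν) h₁ w a''
      rw [Scheme.residueFieldMap_comp] at h
      exact h)
    (fun b' => residueFieldMap_mem_range_of_eq g c₂ (pullback.snd a b) h₂ w b')
  intro z
  have : z ∈ (g.residueFieldMap w).hom.fieldRange := by rw [key]; trivial
  exact this


section Main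

open Groth.Agent.Lib.Helper4.NormCurve Groth.Agent.Lib.T2H9.NormH0

variable (K : Type u) [Field K] (X : Scheme.{u}) [X.Over (Spec (CommRingCat.of K))] [IsIntegral X]
  [IsProper (X ↘ (Spec (CommRingCat.of K)))]
  [GeometricallyIrreducible (X ↘ (Spec (CommRingCat.of K)))]
  [QuasiCompact (X.fromSpecStalk (genericPoint X))]
  [QuasiSeparated (X.fromSpecStalk (genericPoint X))]
  (Ω : Type u) [Field Ω] [Algebra K Ω]
  [IsIntegral ((Curv2.bc K X Ω).nilradical).subscheme]
  [QuasiCompact ((((Curv2.bc K X Ω).nilradical).subscheme).fromSpecStalk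
    (genericPoint ((Curv2.bc K X Ω).nilradical).subscheme))]
  [QuasiSeparated ((((Curv2.bc K X Ω).nilradical).subscheme).fromSpecStalk
    (genericPoint ((Curv2.bc K X Ω).nilradical).subscheme))]

local notation "sX" => (X ↘ (Spec (CommRingCat.of K)))
local notation "νX" => Curv2.normalizationι X
local notation "φΩ" => Spec.map (CommRingCat.ofHom (algebraMap K Ω))
set_option quotPrecheck false in
local notation "WΩ" => Scheme.IdealSheafData.subscheme (Scheme.nilradical (Curv2.bc K X Ω))
set_option quotPrecheck false in
local notation "ιW" => Scheme.IdealSheafData.subschemeι (Scheme.nilradical (Curv2.bc K X Ω))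

instance surjective_specMap_field : Surjective φΩ := by
  constructor
  intro y
  refine ⟨IsLocalRing.closedPoint Ω, ?_⟩
  exact Subsingleton.elim (α := PrimeSpectrum K) _ _

theorem main (hsm : Smooth (νX ≫ sX)) :
    ∃ e : Limits.pullback (νX ≫ sX) φΩ ≅ Curv2.normalization WΩ,
      e.hom ≫ Curv2.normalizationι WΩ ≫ ιW =
        Limits.pullback.map (νX ≫ sX) φΩ sX φΩ νX (𝟙 _) (𝟙 _)
          (Category.comp_id _) ((Category.comp_id _).trans (Category.id_comp _).symm) := by
  -- the normalization of `X` is geometrically irreducible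
  haveI : IsIntegral (Curv2.normalization X) :=
    inferInstanceAs (IsIntegral (X.fromSpecStalk (genericPoint X)).normalization)
  haveI : IsDominant νX :=
    isDominant_fromNormalization_of_eq X.functionField (RingHom.id _)
      (X.fromSpecStalk (genericPoint X)) fromSpecStalk_eq_gen
  have hgenY : νX (genericPoint (Curv2.normalization X)) = genericPoint X :=
    Groth.Agent.Lib.T2H9.GenSmooth.map_genericPoint_of_denseRange _
      (IsDominant.denseRange (f := νX))
  haveI giY : GeometricallyIrreducible (νX ≫ sX) := by
    letI oY : (Curv2.normalization X).Over (Spec (CommRingCat.of K)) := ⟨νX ≫ sX⟩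
    exact geometricallyIrreducible_of_residueFieldMap_surjective K νX rfl hgenY
      (residueFieldMap_normalizationι_surjective X)
  -- the base change
  haveI : Smooth (pullback.snd (νX ≫ sX) φΩ) := inferInstance
  haveI : GeometricallyIrreducible (pullback.snd (νX ≫ sX) φΩ) := inferInstance
  haveI : IrreducibleSpace ↥(pullback (νX ≫ sX) φΩ) :=
    GeometricallyIrreducible.irreducibleSpace_of_subsingleton (pullback.snd (νX ≫ sX) φΩ)
  have hPn : Pi1.IsNormalScheme (pullback (νX ≫ sX) φΩ) :=
    Groth.Agent.Lib.T2H9.NormSm.isNormalScheme_of_smooth (isNormalScheme_Spec_field Ω)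
      (pullback.snd (νX ≫ sX) φΩ)
  haveI : IsReduced (pullback (νX ≫ sX) φΩ) := by
    haveI : ∀ x : ↥(pullback (νX ≫ sX) φΩ),
        _root_.IsReduced ((pullback (νX ≫ sX) φΩ).presheaf.stalk x) := fun x => by
      haveI := (hPn x).1
      infer_instance
    exact isReduced_of_isReduced_stalk _
  haveI : IsIntegral (pullback (νX ≫ sX) φΩ) := isIntegral_of_irreducibleSpace_of_isReduced _
  -- the morphism to the reduction
  set h := Limits.pullback.map (νX ≫ sX) φΩ sX φΩ νX (𝟙 _) (𝟙 _)
    (Category.comp_id _) ((Category.comp_id _).trans (Category.id_comp _).symm) with hh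
  have hfst : h ≫ pullback.fst sX φΩ = pullback.fst (νX ≫ sX) φΩ ≫ νX := by
    rw [hh]; exact pullback.lift_fst _ _ _
  have hsnd : h ≫ pullback.snd sX φΩ = pullback.snd (νX ≫ sX) φΩ := by
    rw [hh]; exact (pullback.lift_snd _ _ _).trans (Category.comp_id _)
  obtain ⟨g, hg⟩ := Groth.Agent.Lib.Helper6.exists_lift_of_isReduced_of_range_subset h ιW (by
    rw [Groth.Agent.Lib.Helper6.range_nilradical_subschemeι]; exact Set.subset_univ _)
  -- `h` is a base change of the normalization
  have hpb : IsPullback h (pullback.fst (νX ≫ sX) φΩ) (pullback.fst sX φΩ) νX := by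
    refine IsPullback.of_right ?_ hfst (IsPullback.of_hasPullback sX φΩ).flip
    rw [hsnd]
    exact (IsPullback.of_hasPullback (νX ≫ sX) φΩ).flip
  haveI : IsIntegralHom νX :=
    inferInstanceAs (IsIntegralHom (X.fromSpecStalk (genericPoint X)).fromNormalization)
  haveI : Surjective νX :=
    surjective_fromNormalization_of_eq X.functionField (RingHom.id _)
      (X.fromSpecStalk (genericPoint X)) fromSpecStalk_eq_gen
  haveI hhint : IsIntegralHom h := MorphismProperty.of_isPullback hpb.flip inferInstance
  haveI hhsurj : Surjective h := MorphismProperty.of_isPullback hpb.flip inferInstance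
  haveI : IsIntegralHom (g ≫ ιW) := by rw [hg]; exact hhint
  haveI : IsIntegralHom g := IsIntegralHom.of_comp g ιW
  have hgsurj : Function.Surjective g := by
    intro w
    obtain ⟨p, hp⟩ := hhsurj.surj (ιW w)
    refine ⟨p, ?_⟩
    apply (ιW).isClosedEmbedding.injective
    rw [← hp, ← hg, Scheme.Hom.comp_apply]
  have hgen : g (genericPoint ↥(pullback (νX ≫ sX) φΩ)) = genericPoint WΩ :=
    Groth.Agent.Lib.T2H9.GenSmooth.map_genericPoint_of_denseRange g hgsurj.denseRange
  -- residue fields
  have hfstgen : pullback.fst (νX ≫ sX) φΩ (genericPoint ↥(pullback (νX ≫ sX) φΩ)) =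
      genericPoint (Curv2.normalization X) := by
    haveI : Surjective (pullback.fst (νX ≫ sX) φΩ) := inferInstance
    exact Groth.Agent.Lib.T2H9.GenSmooth.map_genericPoint_of_denseRange _
      (Surjective.surj (f := pullback.fst (νX ≫ sX) φΩ)).denseRange
  have hν : ∀ y : ↥(Curv2.normalization X), y = genericPoint (Curv2.normalization X) →
      Function.Surjective (Scheme.Hom.residueFieldMap νX y).hom := by
    rintro y rfl
    exact residueFieldMap_normalizationι_surjective X
  have hsurj := residueFieldMap_surjective_of_pullback (νX ≫ sX) φΩ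
    (genericPoint ↥(pullback (νX ≫ sX) φΩ)) g (ιW ≫ pullback.fst sX φΩ) νX
    (ιW ≫ pullback.snd sX φΩ)
    (by rw [← Category.assoc, hg, hfst]) (by rw [← Category.assoc, hg, hsnd])
    (hν _ hfstgen)
  have hiso := isIso_stalkMap_genericPoint g hgen hsurj
  obtain ⟨e, he⟩ := Groth.Agent.Lib.Helper4.NormIso.exists_iso_of_birational g hPn hgen hiso
  refine ⟨e, ?_⟩
  have he' : e.hom ≫ Curv2.normalizationι WΩ = g := he
  calc e.hom ≫ Curv2.normalizationι WΩ ≫ ιW
      = (e.hom ≫ Curv2.normalizationι WΩ) ≫ ιW := (Category.assoc _ _ _).symm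
    _ = g ≫ ιW := congrArg (· ≫ ιW) he'
    _ = h := hg

end Main

end Groth.Agent.Lib.T2H9.NormBC
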