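import Groth.Agent.Lib.T2H9NormSm
import Groth.Agent.Lib.Helper4BirLocalIso

set_option autoImplicit false
set_option linter.style.haveILetI false
set_option linter.unusedSectionVars false
universe u

open AlgebraicGeometry CategoryTheory CategoryTheory.Limits
open Groth.Agent.Lib.Helper4.NormCurve Groth.Agent.Lib.T2H9.NormFF Groth.Agent.Lib.T2H9.NormSm

namespace Groth.Agent.Lib.T2H9.NormQF

instance quasiCompact_of_field {K : Type u} [Field K] {X : Scheme.{u}}
    (g : Spec (CommRingCat.of K) ⟶ X) : QuasiCompact g := by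
  exact ⟨fun U _ _ => (Set.toFinite _).isCompact⟩

theorem quasiSeparated_of_field {K : Type u} [Field K] {X : Scheme.{u}}
    (g : Spec (CommRingCat.of K) ⟶ X) : QuasiSeparated g := inferInstance

section Birational

variable {X Y : Scheme.{u}} [IsIntegral X] [IsIntegral Y] (f : X ⟶ Y) [IsDominant f]
  [LocallyQuasiFinite f] [QuasiCompact f] [QuasiSeparated f]

theorem isIso_stalkMap_toNormalization (hX : Pi1.IsNormalScheme X) :
    IsIso (f.toNormalization.stalkMap (genericPoint X)) := by
  set f' := f.toNormalization with hf'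
  set ν := f.fromNormalization with hν
  set ξ := genericPoint X with hξ
  have hf'ξ : f' ξ = genericPoint ↥f.normalization := apply_genericPoint_of_isDominant f'
  have hfξ : f ξ = genericPoint Y := apply_genericPoint_of_isDominant f
  have hfield : IsField (f.normalization.presheaf.stalk (f' ξ)) := by
    rw [hf'ξ]; exact Field.toIsField f.normalization.functionField
  rw [ConcreteCategory.isIso_iff_bijective]
  refine ⟨injective_of_isField hfield _, fun x => ?_⟩
  -- an affine open of `Y`
  obtain ⟨_, ⟨U, hU, rfl⟩, hξU, -⟩ := Y.isBasis_affineOpens.exists_subset_of_mem_open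
    (Set.mem_univ (f ξ)) isOpen_univ
  have hξV : ξ ∈ f ⁻¹ᵁ U := hξU
  haveI : Nonempty (f ⁻¹ᵁ U : X.Opens) := ⟨⟨ξ, hξV⟩⟩
  -- the algebra structures
  letI algRF : Algebra Γ(Y, U) (Y.presheaf.stalk (f ξ)) :=
    TopCat.Presheaf.algebra_section_stalk Y.presheaf ⟨f ξ, hξU⟩
  letI algFS : Algebra (Y.presheaf.stalk (f ξ)) (X.presheaf.stalk ξ) :=
    (f.stalkMap ξ).hom.toAlgebra
  letI algRS : Algebra Γ(Y, U) (X.presheaf.stalk ξ) :=
    ((f.stalkMap ξ).hom.comp (algebraMap Γ(Y, U) (Y.presheaf.stalk (f ξ)))).toAlgebra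
  haveI : IsScalarTower Γ(Y, U) (Y.presheaf.stalk (f ξ)) (X.presheaf.stalk ξ) :=
    IsScalarTower.of_algebraMap_eq' rfl
  haveI hloc := hU.isLocalization_stalk ⟨f ξ, hξU⟩
  haveI : IsArtinianRing (Y.presheaf.stalk (f ξ)) := by
    rw [hfξ]; exact inferInstanceAs (IsArtinianRing Y.functionField)
  haveI : Algebra.QuasiFinite (Y.presheaf.stalk (f ξ)) (X.presheaf.stalk ξ) :=
    f.quasiFiniteAt ξ
  haveI : Module.Finite (Y.presheaf.stalk (f ξ)) (X.presheaf.stalk ξ) :=
    Module.Finite.of_quasiFinite
  have hx : IsIntegral (Y.presheaf.stalk (f ξ)) x := Algebra.IsIntegral.isIntegral x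
  obtain ⟨m, hm⟩ := IsIntegral.exists_multiple_integral_of_isLocalization
    (hU.primeIdealOf ⟨f ξ, hξU⟩).asIdeal.primeCompl x hx
  -- the structure map of `S` over `R` through `Γ(X, f⁻¹U)`
  have halg : algebraMap Γ(Y, U) (X.presheaf.stalk ξ) =
      (X.presheaf.germ (f ⁻¹ᵁ U) ξ hξV).hom.comp (f.app U).hom := by
    have := Scheme.Hom.germ_stalkMap f U ξ hξU
    change ((Y.presheaf.germ U (f ξ) hξU) ≫ f.stalkMap ξ).hom = _
    rw [this]; rfl
  have hm' : ((X.presheaf.germ (f ⁻¹ᵁ U) ξ hξV).hom.comp (f.app U).hom).IsIntegralElem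
      (m • x) := by
    rw [← halg]; exact hm
  obtain ⟨s, hs⟩ := exists_section_of_isIntegralElem hX (f ⁻¹ᵁ U) (m • x)
    (isIntegralElem_of_comp _ _ _ hm')
  have hginj : Function.Injective (X.presheaf.germ (f ⁻¹ᵁ U) ξ hξV).hom :=
    X.germToFunctionField_injective (f ⁻¹ᵁ U)
  have hsint : (f.app U).hom.IsIntegralElem s := by
    apply isIntegralElem_of_injective _ _ hginj
    change ((X.presheaf.germ (f ⁻¹ᵁ U) ξ hξV).hom.comp (f.app U).hom).IsIntegralElem
      ((X.germToFunctionField (f ⁻¹ᵁ U)).hom s)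
    rw [hs]; exact hm'
  obtain ⟨t, ht⟩ := mem_range_toNormalization_appLE f U hU s hsint
  have hf'ξW : f' ξ ∈ ν ⁻¹ᵁ U := by
    show ν (f' ξ) ∈ U
    rw [← Scheme.Hom.comp_apply, Scheme.Hom.toNormalization_fromNormalization]; exact hξU
  -- compatibility of the stalk map with `τa`
  have hstalk : ∀ c : Γ(f.normalization, ν ⁻¹ᵁ U),
      (f'.stalkMap ξ).hom ((f.normalization.presheaf.germ (ν ⁻¹ᵁ U) (f' ξ) hf'ξW).hom c) =
      (X.presheaf.germ (f ⁻¹ᵁ U) ξ hξV).hom ((f'.appLE (ν ⁻¹ᵁ U) (f ⁻¹ᵁ U)
        (toNormalization_preimage f U).ge).hom c) := by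
    intro c
    have h1 := Scheme.Hom.germ_stalkMap_apply f' (ν ⁻¹ᵁ U) ξ hf'ξW c
    refine h1.trans ?_
    rw [Scheme.Hom.appLE]
    exact (X.presheaf.germ_res_apply (homOfLE (toNormalization_preimage f U).ge) ξ hξV _).symm
  set u := (f.normalization.presheaf.germ (ν ⁻¹ᵁ U) (f' ξ) hf'ξW).hom ((ν.app U).hom m.1) with hu
  set v := (f.normalization.presheaf.germ (ν ⁻¹ᵁ U) (f' ξ) hf'ξW).hom t with hv
  have hv' : (f'.stalkMap ξ).hom v = algebraMap Γ(Y, U) (X.presheaf.stalk ξ) m.1 * x := by
    rw [hv, hstalk, ht]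
    change (X.germToFunctionField (f ⁻¹ᵁ U)).hom s = _
    rw [hs, Submonoid.smul_def, Algebra.smul_def]
  have hu' : (f'.stalkMap ξ).hom u = algebraMap Γ(Y, U) (X.presheaf.stalk ξ) m.1 := by
    rw [hu, hstalk, halg]
    have := congrArg (fun φ => φ.hom m.1) (toNormalization_appLE_comp f U)
    simp only [CommRingCat.hom_comp, RingHom.coe_comp, Function.comp_apply] at this
    rw [this]; rfl
  have hunit : IsUnit (algebraMap Γ(Y, U) (X.presheaf.stalk ξ) m.1) := by
    rw [IsScalarTower.algebraMap_apply Γ(Y, U) (Y.presheaf.stalk (f ξ)) (X.presheaf.stalk ξ)]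
    exact (IsLocalization.map_units (Y.presheaf.stalk (f ξ)) m).map _
  have hu0 : u ≠ 0 := by
    intro h0
    rw [h0, map_zero] at hu'
    exact hunit.ne_zero hu'.symm
  obtain ⟨u', hu'u⟩ := hfield.mul_inv_cancel hu0
  refine ⟨u' * v, ?_⟩
  change (f'.stalkMap ξ).hom (u' * v) = x
  rw [map_mul, hv', ← hu', ← mul_assoc, ← map_mul, mul_comm u' u, hu'u, map_one, one_mul]

end Birational

section Normal

variable {X Y : Scheme.{u}} [IsIntegral X] [IsIntegral Y] (f : X ⟶ Y) [IsDominant f]
  [QuasiCompact f] [QuasiSeparated f]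

/-- The normalization of `Y` in a normal integral scheme dominating it is normal. -/
theorem isNormalScheme_normalization (hX : Pi1.IsNormalScheme X) :
    Pi1.IsNormalScheme f.normalization := by
  obtain ⟨e, -, -⟩ := exists_iso_normalization_functionField f hX
  have hfξ : f (genericPoint X) = genericPoint Y := apply_genericPoint_of_isDominant f
  have hsp : f (genericPoint X) ⤳ genericPoint Y := (Inseparable.of_eq hfξ).specializes
  let ψ : Y.functionField →+* X.functionField :=
    (Y.presheaf.stalkSpecializes hsp ≫ f.stalkMap (genericPoint X)).hom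
  have hg : X.fromSpecStalk (genericPoint X) ≫ f = gen Y X.functionField ψ := by
    have h1 : CommRingCat.ofHom ψ =
        Y.presheaf.stalkSpecializes hsp ≫ f.stalkMap (genericPoint X) := rfl
    rw [gen, h1, Spec.map_comp, Category.assoc,
      Scheme.SpecMap_stalkSpecializes_fromSpecStalk hsp, Scheme.SpecMap_stalkMap_fromSpecStalk]
  have hM : Pi1.IsNormalScheme (X.fromSpecStalk (genericPoint X) ≫ f).normalization :=
    isNormalScheme_normalization_of_eq X.functionField ψ _ hg
  exact isNormalScheme_of_smooth hM e.inv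

end Normal

section Main

variable {X Y : Scheme.{u}} [IsIntegral X] [IsIntegral Y] (f : X ⟶ Y) [IsDominant f]
  [LocallyQuasiFinite f] [LocallyOfFiniteType f] [QuasiCompact f] [QuasiSeparated f]

theorem isLocalIso_toNormalization (hX : Pi1.IsNormalScheme X) :
    IsLocalIso f.toNormalization := by
  have hY' := isNormalScheme_normalization f hX
  haveI : LocallyQuasiFinite (f.toNormalization ≫ f.fromNormalization) := by
    rw [Scheme.Hom.toNormalization_fromNormalization]; infer_instance
  haveI : LocallyOfFiniteType (f.toNormalization ≫ f.fromNormalization) := by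
    rw [Scheme.Hom.toNormalization_fromNormalization]; infer_instance
  haveI : LocallyQuasiFinite f.toNormalization :=
    LocallyQuasiFinite.of_comp f.toNormalization f.fromNormalization
  haveI : LocallyOfFiniteType f.toNormalization :=
    locallyOfFiniteType_of_comp f.toNormalization f.fromNormalization
  exact Groth.Agent.Lib.Helper4.BirLocalIso.isLocalIso_of_birational (fun y => (hY' y).2)
    f.toNormalization (isIso_stalkMap_toNormalization f hX)

theorem isOpenImmersion_toNormalization_iff :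
    IsOpenImmersion f.toNormalization ↔ IsSeparated f := by
  constructor
  · intro h
    rw [← Scheme.Hom.toNormalization_fromNormalization f]
    infer_instance
  · intro h
    infer_instance

end Main

end Groth.Agent.Lib.T2H9.NormQF
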