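import Mathlib
import Groth.Prelude

open AlgebraicGeometry CategoryTheory Order TopologicalSpace

universe u

namespace Groth.Agent.Lib.T2H9.OrdOpen

section RingSide

variable {R R' : Type*} [CommRing R] [CommRing R']

theorem ring_ord_ringEquiv (e : R ≃+* R') (x : R) : Ring.ord R' (e x) = Ring.ord R x := by
  unfold Ring.ord
  rw [Module.length_quotient, Module.length_quotient]
  have h : (Ideal.span {x} : Ideal R) = e.idealComapOrderIso (Ideal.span {e x}) := by
    rw [RingEquiv.idealComapOrderIso_apply]
    have : (Ideal.span {e x} : Ideal R') = (Ideal.span {x}).map (e : R →+* R') := by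
      rw [Ideal.map_span, Set.image_singleton]; rfl
    rw [this]
    exact (Ideal.comap_map_of_bijective _ e.bijective).symm
  rw [h]
  exact (Order.coheight_orderIso e.idealComapOrderIso _).symm

theorem mem_nonZeroDivisors_ringEquiv (e : R ≃+* R') (x : R) :
    e x ∈ nonZeroDivisors R' ↔ x ∈ nonZeroDivisors R := by
  constructor
  · intro h
    exact mem_nonZeroDivisors_of_injective (f := (e : R →+* R')) e.injective h
  · intro h
    have h2 : e.symm (e x) ∈ nonZeroDivisors R := by simpa using h
    exact mem_nonZeroDivisors_of_injective (f := (e.symm : R' →+* R)) e.symm.injective h2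

theorem ordMonoidWithZeroHom_ringEquiv [Nontrivial R] [Nontrivial R'] (e : R ≃+* R') (x : R) :
    Ring.ordMonoidWithZeroHom R' (e x) = Ring.ordMonoidWithZeroHom R x := by
  by_cases hx : x ∈ nonZeroDivisors R
  · rw [Ring.ordMonoidWithZeroHom_eq_ord hx,
      Ring.ordMonoidWithZeroHom_eq_ord ((mem_nonZeroDivisors_ringEquiv e x).mpr hx),
      ring_ord_ringEquiv]
  · rw [Ring.ordMonoidWithZeroHom_eq_zero hx,
      Ring.ordMonoidWithZeroHom_eq_zero (fun h => hx ((mem_nonZeroDivisors_ringEquiv e x).mp h))]

variable [IsNoetherianRing R] [Ring.KrullDimLE 1 R] [IsNoetherianRing R'] [Ring.KrullDimLE 1 R']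
variable {K K' : Type*} [Field K] [Algebra R K] [IsFractionRing R K]
  [Field K'] [Algebra R' K'] [IsFractionRing R' K'] [Nontrivial R] [Nontrivial R']

theorem ordFrac_ringEquiv (e : R ≃+* R') (ψ : K →+* K')
    (h : ∀ r, ψ (algebraMap R K r) = algebraMap R' K' (e r)) (x : K) :
    Ring.ordFrac R' (ψ x) = Ring.ordFrac R x := by
  have hdom : IsDomain R := (FaithfulSMul.algebraMap_injective R K).isDomain
  have hdom' : IsDomain R' := (FaithfulSMul.algebraMap_injective R' K').isDomain
  have key : ∀ r : R, Ring.ordFrac R' (ψ (algebraMap R K r)) = Ring.ordFrac R (algebraMap R K r) := by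
    intro r
    by_cases hr : r = 0
    · subst hr; simp
    · rw [h, Ring.ordFrac_eq_ord R hr, Ring.ordFrac_eq_ord R' (by simpa using hr),
        ordMonoidWithZeroHom_ringEquiv]
  obtain ⟨a, b, hb, rfl⟩ := IsFractionRing.div_surjective (A := R) x
  rw [map_div₀, map_div₀, map_div₀, key, key]

end RingSide

section SchemeSide

variable {V X : Scheme.{u}} [IsIntegral V] [IsIntegral X] (j : V ⟶ X) [IsOpenImmersion j]

/-- The map of function fields induced by an open immersion of integral schemes. -/
noncomputable def ffMap : X.functionField ⟶ V.functionField :=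
  X.presheaf.stalkSpecializes (specializes_of_eq (genericPoint_eq_of_isOpenImmersion j)) ≫
    j.stalkMap (genericPoint V)

instance : IsIso (ffMap j) := by
  unfold ffMap
  have : IsIso (X.presheaf.stalkSpecializes
      (specializes_of_eq (genericPoint_eq_of_isOpenImmersion j))) :=
    ⟨⟨X.presheaf.stalkSpecializes
      (specializes_of_eq (genericPoint_eq_of_isOpenImmersion j).symm), by simp, by simp⟩⟩
  infer_instance

theorem ffMap_algebraMap (v : V) (r : X.presheaf.stalk (j v)) :
    (ffMap j).hom (algebraMap (X.presheaf.stalk (j v)) X.functionField r) =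
      algebraMap (V.presheaf.stalk v) V.functionField ((j.stalkMap v).hom r) := by
  simp only [RingHom.algebraMap_toAlgebra, ffMap]
  rw [← CommRingCat.comp_apply, ← CommRingCat.comp_apply]
  congr 2
  rw [← Category.assoc, TopCat.Presheaf.stalkSpecializes_comp]
  exact Scheme.Hom.stalkSpecializes_stalkMap j (genericPoint V) v
    ((genericPoint_spec V).specializes trivial)

theorem ffMap_ne_zero {f : X.functionField} (hf : f ≠ 0) : (ffMap j).hom f ≠ 0 := by
  rwa [Ne, map_eq_zero_iff _ (RingHom.injective _)]

theorem ffMap_surjective : Function.Surjective (ffMap j).hom :=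
  ((ConcreteCategory.isIso_iff_bijective (ffMap j)).mp inferInstance).2

variable [IsLocallyNoetherian V] [IsLocallyNoetherian X]

theorem ordHom_ffMap (v : V) (hv : coheight v = 1) (hv' : coheight (j v) = 1)
    (f : X.functionField) :
    V.ordHom v hv ((ffMap j).hom f) = X.ordHom (j v) hv' f := by
  have : Ring.KrullDimLE 1 (X.presheaf.stalk (j v)) := krullDimLE_of_coheight_le hv'.le
  have : Ring.KrullDimLE 1 (V.presheaf.stalk v) := krullDimLE_of_coheight_le hv.le
  exact ordFrac_ringEquiv (asIso (j.stalkMap v)).commRingCatIsoToRingEquiv (ffMap j).hom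
    (fun r => ffMap_algebraMap j v r) f

theorem ord_ffMap (v : V) (f : X.functionField) :
    Scheme.ord ((ffMap j).hom f) v = Scheme.ord f (j v) := by
  have hc : coheight (j v) = coheight v := coheight_eq_of_isOpenImmersion j
  by_cases hv : coheight v = 1
  · have hv' : coheight (j v) = 1 := hc.trans hv
    rw [Scheme.ord_eq_ordHom_of_coheight_eq_one hv, Scheme.ord_eq_ordHom_of_coheight_eq_one hv',
      ordHom_ffMap j v hv hv']
  · rw [Scheme.ord_eq_zero_of_coheight_neq_one hv,
      Scheme.ord_eq_zero_of_coheight_neq_one (fun h => hv (hc.symm.trans h))]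

end SchemeSide

end Groth.Agent.Lib.T2H9.OrdOpen
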