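import Mathlib
import Groth.Agent.Lib.Helper14PerfArtB
import Groth.Agent.Lib.Helper6GeomRedGen1

/-!
# Finite purely inseparable extensions making reductions geometrically reduced (helper9, S1629)
algebra part
-/

set_option autoImplicit false
set_option linter.style.haveILetI false
set_option linter.unusedSectionVars false
universe u
open TensorProduct

namespace Groth.Agent.Lib.T2H9.PIRedGR

open Groth.Agent.Lib.Helper14.GeomIrr Groth.Agent.Lib.Helper14.GeomRed
  Groth.Agent.Lib.Helper14.PerfArt

/-- If the nilradical of `P ⊗ A` (with `P` perfect) is generated by elements coming from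
`k' ⊗ A`, then `(k' ⊗ A)_red` is geometrically reduced over `k'`. -/
theorem isGeometricallyReduced_quot_of_range (k A : Type u) [Field k] [CommRing A] [Algebra k A]
    (P : Type u) [Field P] [Algebra k P] [PerfectField P]
    (s : Set (P ⊗[k] A)) (hs : Ideal.span s = nilradical (P ⊗[k] A))
    (k' : Type u) [Field k'] [Algebra k k'] [Algebra k' P] [IsScalarTower k k' P]
    (hsE : ∀ x ∈ s, x ∈ Set.range (Algebra.TensorProduct.map (IsScalarTower.toAlgHom k k' P)
        (AlgHom.id k A))) :
    Algebra.IsGeometricallyReduced k' ((k' ⊗[k] A) ⧸ nilradical (k' ⊗[k] A)) := by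
  apply isGeometricallyReduced_of_isReduced_tensor_perfectField (P := P)
  rw [isReduced_quot_iff]
  let e := Algebra.TensorProduct.cancelBaseChange k k' k' P A
  have he : ∀ y : k' ⊗[k] A, e (1 ⊗ₜ y) =
      Algebra.TensorProduct.map (IsScalarTower.toAlgHom k k' P) (AlgHom.id k A) y := by
    intro y
    induction y using TensorProduct.induction_on with
    | zero => simp
    | tmul a c =>
      simp only [e, Algebra.TensorProduct.cancelBaseChange_tmul, Algebra.TensorProduct.map_tmul,
        AlgHom.coe_id, id_eq]
      congr 1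
      rw [Algebra.smul_def, mul_one]
      rfl
    | add y z hy hz => rw [tmul_add, map_add, map_add, hy, hz]
  have hinj : Function.Injective (Algebra.TensorProduct.map (IsScalarTower.toAlgHom k k' P)
      (AlgHom.id k A)) :=
    map_left_injective (S := A) (IsScalarTower.toAlgHom k k' P)
      (IsScalarTower.toAlgHom k k' P).toRingHom.injective
  have key : ∀ x ∈ Ideal.span (s : Set (P ⊗[k] A)), e.symm x ∈
      (nilradical (k' ⊗[k] A)).map
        (Algebra.TensorProduct.includeRight : k' ⊗[k] A →ₐ[k'] P ⊗[k'] (k' ⊗[k] A)) := by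
    intro x hx
    induction hx using Submodule.span_induction with
    | mem x hx =>
      obtain ⟨y, rfl⟩ := hsE x hx
      rw [← he, AlgEquiv.symm_apply_apply]
      apply Ideal.mem_map_of_mem
      rw [mem_nilradical]
      have hnil : IsNilpotent (Algebra.TensorProduct.map (IsScalarTower.toAlgHom k k' P)
          (AlgHom.id k A) y) := by
        rw [← mem_nilradical, ← hs]; exact Ideal.subset_span hx
      exact (IsNilpotent.map_iff hinj).mp hnil
    | zero => simp
    | add x y _ _ hx hy => rw [map_add]; exact Ideal.add_mem _ hx hy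
    | smul a x _ hx => rw [smul_eq_mul, map_mul]; exact Ideal.mul_mem_left _ _ hx
  intro w hw
  have hw' : e w ∈ nilradical (P ⊗[k] A) := by
    rw [mem_nilradical] at hw ⊢; exact hw.map e
  rw [← hs] at hw'
  have := key _ hw'
  rwa [AlgEquiv.symm_apply_apply] at this

/-- For finitely many finitely generated `k`-algebras there is a common finite purely
inseparable extension `k'/k` such that every `(k' ⊗ A i)_red` is geometrically reduced over
`k'`. -/
theorem exists_field_forall_aux (k : Type u) [Field k] (P : Type u) [Field P]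
    [Algebra k P] [PerfectField P] [IsPurelyInseparable k P] {ι : Type*} [Finite ι]
    (A : ι → Type u) [∀ i, CommRing (A i)] [∀ i, Algebra k (A i)]
    [∀ i, Algebra.FiniteType k (A i)] :
    ∃ (k' : Type u) (_ : Field k') (_ : Algebra k k'),
      FiniteDimensional k k' ∧ IsPurelyInseparable k k' ∧
      ∀ i, Algebra.IsGeometricallyReduced k' ((k' ⊗[k] A i) ⧸ nilradical (k' ⊗[k] A i)) := by
  classical
  haveI : Algebra.IsAlgebraic k P := inferInstance
  have h1 : ∀ i, ∃ (s : Finset (P ⊗[k] A i)) (E : IntermediateField k P),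
      Ideal.span (s : Set (P ⊗[k] A i)) = nilradical (P ⊗[k] A i) ∧ FiniteDimensional k E ∧
      ∀ x ∈ s, x ∈ Set.range (Algebra.TensorProduct.map E.val (AlgHom.id k (A i))) := by
    intro i
    haveI : IsNoetherianRing (P ⊗[k] A i) := Algebra.FiniteType.isNoetherianRing P (P ⊗[k] A i)
    obtain ⟨s, hs⟩ := (isNoetherianRing_iff_ideal_fg _).mp inferInstance
      (nilradical (P ⊗[k] A i))
    obtain ⟨E, hE, hsE⟩ := exists_finite_intermediateField_finset (k := k) (L := P) s
    exact ⟨s, E, hs, hE, hsE⟩
  choose s E hs hE hsE using h1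
  haveI : ∀ i, FiniteDimensional k (E i) := hE
  refine ⟨↥(⨆ i, E i), inferInstance, inferInstance,
    IntermediateField.finiteDimensional_iSup_of_finite,
    IsPurelyInseparable.tower_bot k _ P, fun i => ?_⟩
  refine isGeometricallyReduced_quot_of_range k (A i) P (s i : Set (P ⊗[k] A i)) (hs i)
    (↥(⨆ i, E i)) ?_
  intro x hx
  exact range_map_val_mono' (le_iSup E i) (hsE i x hx)

/-- abstract-field version -/
theorem exists_field_forall (k : Type u) [Field k] {ι : Type*} [Finite ι]
    (A : ι → Type u) [∀ i, CommRing (A i)] [∀ i, Algebra k (A i)]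
    [∀ i, Algebra.FiniteType k (A i)] :
    ∃ (k' : Type u) (_ : Field k') (_ : Algebra k k'),
      FiniteDimensional k k' ∧ IsPurelyInseparable k k' ∧
      ∀ i, Algebra.IsGeometricallyReduced k' ((k' ⊗[k] A i) ⧸ nilradical (k' ⊗[k] A i)) := by
  obtain ⟨P, _, _, hP, hpi⟩ := exists_perfectField_purelyInseparable k
  exact exists_field_forall_aux k P A

/-- a residue field quotient of the localization of `B` at a minimal prime is geometrically
reduced as soon as `B_red` is -/
theorem isGeometricallyReduced_of_surjective_of_minimalPrimes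
    (K B S : Type u) [Field K] [CommRing B] [Algebra K B] [CommRing S] [IsDomain S] [Algebra K S]
    (hB : Algebra.IsGeometricallyReduced K (B ⧸ nilradical B))
    (Q : Ideal B) [Q.IsPrime] (hQ : Q ∈ minimalPrimes B)
    (φ : Localization.AtPrime Q →ₐ[K] S) (hφ : Function.Surjective φ) :
    Algebra.IsGeometricallyReduced K S := by
  set L := Localization.AtPrime Q
  haveI : Ring.KrullDimLE 0 L := Ring.KrullDimLE.of_isLocalization Q hQ L
  have hI : (nilradical B).map (algebraMap B L) = IsLocalRing.maximalIdeal L := by
    rw [← Ring.KrullDimLE.nilradical_eq_maximalIdeal L]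
    have := IsLocalization.map_radical Q.primeCompl L (⊥ : Ideal B)
    rw [Ideal.map_bot] at this
    exact this
  haveI : (RingHom.ker φ).IsPrime := RingHom.ker_isPrime φ
  have hker : RingHom.ker φ = IsLocalRing.maximalIdeal L :=
    Ring.KrullDimLE.eq_maximalIdeal_of_isPrime _
  haveI : IsScalarTower K (B ⧸ nilradical B) (L ⧸ (nilradical B).map (algebraMap B L)) := by
    apply IsScalarTower.of_algebraMap_eq
    intro x
    rw [IsScalarTower.algebraMap_apply K B (B ⧸ nilradical B),
      IsScalarTower.algebraMap_apply K L (L ⧸ (nilradical B).map (algebraMap B L)),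
      IsScalarTower.algebraMap_apply K B L]
    rfl
  haveI : Algebra.IsGeometricallyReduced K (L ⧸ (nilradical B).map (algebraMap B L)) :=
    Groth.Agent.Lib.Helper6.GeomRedGen.isGeometricallyReduced_of_isLocalization K
      (B ⧸ nilradical B) (Algebra.algebraMapSubmonoid (B ⧸ nilradical B) Q.primeCompl)
      (L ⧸ (nilradical B).map (algebraMap B L))
  let e1 : (L ⧸ (nilradical B).map (algebraMap B L)) ≃ₐ[K] (L ⧸ RingHom.ker φ) :=
    Ideal.quotientEquivAlgOfEq K (hI.trans hker.symm)
  let e2 : (L ⧸ RingHom.ker φ) ≃ₐ[K] S := Ideal.quotientKerAlgEquivOfSurjective hφ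
  exact Algebra.IsGeometricallyReduced.of_injective (e1.trans e2).symm.toAlgHom
    (e1.trans e2).symm.injective

end Groth.Agent.Lib.T2H9.PIRedGR
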