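import Mathlib
import Groth.Prelude.Def_Curv2
import Groth.Agent.Lib.T2H9PIRedGR
import Groth.Agent.Lib.T2H9GeomRedSmooth
import Groth.Agent.Lib.Helper6BcRed5
import Groth.Agent.Lib.Helper6BcRed
import Groth.Agent.Lib.Helper6BcBridge
import Groth.Agent.Lib.Helper6FinLevel
import Groth.Agent.Lib.Helper6Reduced
import Groth.Agent.Lib.Helper6EquiDim2
import Groth.Agent.Lib.T2H9GeomRegDesc

/-!
# Finite purely inseparable extensions making reductions geometrically reduced (helper9, S1629)
scheme part
-/

set_option autoImplicit false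
set_option linter.style.haveILetI false
set_option linter.unusedSectionVars false
universe u
open CategoryTheory CategoryTheory.Limits AlgebraicGeometry TensorProduct

namespace Groth.Agent.Lib.T2H9.PIRedGRSch

open Groth.Agent.Lib.T2H9.PIRedGR Groth.Agent.Lib.T2H9.GeomRedSmooth
  Groth.Agent.Lib.Helper6.BcBridge

section Top

/-- a point without proper generizations in a quasi-sober space is the generic point of its
irreducible component -/
theorem isGenericPoint_irreducibleComponent {T : Type*} [TopologicalSpace T] [QuasiSober T]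
    (x : T) (hx : ∀ y : T, y ⤳ x → y = x) : IsGenericPoint x (irreducibleComponent x) := by
  obtain ⟨g, hg⟩ := QuasiSober.sober (isIrreducible_irreducibleComponent (x := x))
    isClosed_irreducibleComponent
  have h1 : g ⤳ x := by
    rw [specializes_iff_mem_closure, hg.def]
    exact mem_irreducibleComponent
  have h2 := hx g h1
  subst h2
  exact hg

theorem forall_specializes_eq_of_isEmbedding {S T : Type*} [TopologicalSpace S]
    [TopologicalSpace T] [T0Space S] (i : S → T) (hi : Topology.IsEmbedding i)
    (hs : Function.Surjective i) {Z : Set S} (hZ : Z ∈ irreducibleComponents S) {y : S}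
    (hy : IsGenericPoint y Z) : ∀ w' : T, w' ⤳ i y → w' = i y := by
  intro w' hw'
  obtain ⟨y', rfl⟩ := hs w'
  rw [hi.isInducing.specializes_iff] at hw'
  rw [eq_of_specializes_of_isGenericPoint hZ hy hw']

theorem forall_specializes_eq_of_generalizingMap {S T : Type*} [TopologicalSpace S]
    [TopologicalSpace T] (f : S → T) (hf : GeneralizingMap f) (w : S)
    (hw : ∀ w' : S, w' ⤳ w → w' = w) : ∀ x' : T, x' ⤳ f w → x' = f w := by
  intro x' hx'
  obtain ⟨w', hw', rfl⟩ := hf hx'
  rw [hw w' hw']

end Top

attribute [local instance] Curv2.stalkAlgebra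

section Chart

variable (K : Type u) [Field K] (W : Scheme.{u}) [W.Over (Spec (CommRingCat.of K))]
  {B : Type u} [CommRing B] [Algebra K B] (j : Spec (CommRingCat.of B) ⟶ W) [IsOpenImmersion j]
  (hj : j ≫ (W ↘ Spec (CommRingCat.of K)) = Spec.map (CommRingCat.ofHom (algebraMap K B)))

include hj in
theorem exists_stalkAlgEquiv_of_mem_range (w : W) (hw : w ∈ Set.range j) :
    ∃ Q : PrimeSpectrum B, j Q = w ∧
      Nonempty (W.presheaf.stalk w ≃ₐ[K] Localization.AtPrime Q.asIdeal) := by
  obtain ⟨Q, rfl⟩ := hw
  exact ⟨Q, rfl, ⟨stalkAlgEquiv K W j hj Q⟩⟩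

include hj in
/-- the local ring of a reduced closed subscheme `Y ⊆ W` at a maximal point lying in a chart
`Spec B ⊆ W` with `B_red` geometrically reduced is geometrically reduced -/
theorem isGeometricallyReduced_stalk_of_chart (Y : Scheme.{u})
    [Y.Over (Spec (CommRingCat.of K))] [AlgebraicGeometry.IsReduced Y]
    (i : Y ⟶ W) [IsPreimmersion i]
    (hi : i ≫ (W ↘ Spec (CommRingCat.of K)) = Y ↘ Spec (CommRingCat.of K))
    (hB : Algebra.IsGeometricallyReduced K (B ⧸ nilradical B))
    (y : Y) (hy : closure {y} ∈ irreducibleComponents Y)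
    (hmax : ∀ w' : W, w' ⤳ i y → w' = i y) (hmem : i y ∈ Set.range j) :
    Algebra.IsGeometricallyReduced K (Y.presheaf.stalk y) := by
  obtain ⟨Q, hQ, ⟨e⟩⟩ := exists_stalkAlgEquiv_of_mem_range K W j hj (i y) hmem
  have hmin : Q.asIdeal ∈ minimalPrimes B := by
    refine ⟨⟨Q.2, bot_le⟩, ?_⟩
    rintro q ⟨hq, -⟩ hqQ
    have hsp : (⟨q, hq⟩ : PrimeSpectrum B) ⤳ Q := (PrimeSpectrum.le_iff_specializes _ _).mp hqQ
    have h1 : j (⟨q, hq⟩ : PrimeSpectrum B) = i y := hmax _ (hQ ▸ hsp.map j.continuous)
    have h2 : (⟨q, hq⟩ : PrimeSpectrum B) = Q := j.isOpenEmbedding.injective (h1.trans hQ.symm)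
    exact le_of_eq (congrArg PrimeSpectrum.asIdeal h2).symm
  haveI : IsDomain (Y.presheaf.stalk y) :=
    (isField_stalk_of_closure_mem_irreducibleComponents Y y hy).isDomain
  let ψ : W.presheaf.stalk (i y) →ₐ[K] Y.presheaf.stalk y :=
    { (i.stalkMap y).hom with
      commutes' := fun c => by
        have := congrArg (fun f => f c)
          (Groth.Agent.Lib.T2H9.GeomRegDesc.stalkMap_comp K Y W i hi y)
        exact this }
  have hψ : Function.Surjective ψ := i.stalkMap_surjective y
  exact isGeometricallyReduced_of_surjective_of_minimalPrimes K B _ hB Q.asIdeal hmin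
    (ψ.comp e.symm.toAlgHom) (hψ.comp e.symm.surjective)

end Chart

section Main

variable (k : Type u) [Field k] (X : Scheme.{u}) [X.Over (Spec (CommRingCat.of k))]

/-- **Stacks 04KM/035X-type statement**: for `X` locally of finite type over `k` with finitely
many irreducible components there is a finite purely inseparable extension `k'/k` such that
`(X_{k'})_red` is geometrically reduced over `k'`. -/
theorem exists_purelyInseparable_red_geometricallyReduced
    [LocallyOfFiniteType (X ↘ (Spec (CommRingCat.of k)))]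
    (hirr : (irreducibleComponents (X : Type u)).Finite) :
    ∃ (k' : Type u) (_ : Field k') (_ : Algebra k k'), FiniteDimensional k k' ∧
      IsPurelyInseparable k k' ∧
      GeometricallyReduced ((Curv2.bc k X k').nilradical.subschemeι ≫ Curv2.bcSnd k X k') := by
  classical
  haveI : Finite ↥(irreducibleComponents (X : Type u)) := hirr.to_subtype
  have h0 : ∀ Z : ↥(irreducibleComponents (X : Type u)), ∃ η : X, IsGenericPoint η Z.1 :=
    fun Z => QuasiSober.sober Z.2.1 (isClosed_of_mem_irreducibleComponents _ Z.2)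
  choose η hη using h0
  choose R instR instA ι hopen hι z hz using
    fun Z : ↥(irreducibleComponents (X : Type u)) => exists_chart k X (η Z)
  letI : ∀ Z, CommRing (R Z) := instR
  letI : ∀ Z, Algebra k (R Z) := instA
  haveI : ∀ Z, IsOpenImmersion (ι Z) := hopen
  haveI : ∀ Z, Algebra.FiniteType k (R Z) := fun Z =>
    Groth.Agent.Lib.Helper6.EquiDim.finiteType_chart k X (ι Z) (hι Z)
  obtain ⟨k', _, _, hfin, hpi, hGR⟩ := exists_field_forall k R
  refine ⟨k', inferInstance, inferInstance, hfin, hpi, ?_⟩
  letI : (Curv2.bc k X k').Over (Spec (CommRingCat.of k')) := ⟨Curv2.bcSnd k X k'⟩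
  letI : (Curv2.bc k X k').nilradical.subscheme.Over (Spec (CommRingCat.of k')) :=
    ⟨(Curv2.bc k X k').nilradical.subschemeι ≫ Curv2.bcSnd k X k'⟩
  haveI : AlgebraicGeometry.IsReduced (Curv2.bc k X k').nilradical.subscheme :=
    Groth.Agent.Lib.Helper6.isReduced_nilradical_subscheme _
  have key := Groth.Agent.Lib.Helper6.BcRed5.geometricallyReduced_of_generic k'
    (Curv2.bc k X k').nilradical.subscheme ?_
  · exact key
  intro Z' hZ' y hy
  have hsurj : Function.Surjective (Curv2.bc k X k').nilradical.subschemeι := by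
    rw [← Set.range_eq_univ]
    exact Groth.Agent.Lib.Helper6.range_nilradical_subschemeι _
  have hmaxW := forall_specializes_eq_of_isEmbedding
    (Curv2.bc k X k').nilradical.subschemeι
    (Curv2.bc k X k').nilradical.subschemeι.isEmbedding hsurj hZ' hy
  haveI : Flat (Spec.map (CommRingCat.ofHom (algebraMap k k'))) := by
    rw [Flat.SpecMap_iff]
    exact (RingHom.flat_algebraMap_iff (R := k) (S := k')).mpr inferInstance
  haveI : Flat (Curv2.bcFst k X k') :=
    MorphismProperty.pullback_fst (P := @Flat) _ _ inferInstance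
  have hmaxX := forall_specializes_eq_of_generalizingMap (Curv2.bcFst k X k')
    (Flat.generalizingMap (Curv2.bcFst k X k')) _ hmaxW
  have hgen := isGenericPoint_irreducibleComponent _ hmaxX
  set Z : ↥(irreducibleComponents (X : Type u)) :=
    ⟨irreducibleComponent (Curv2.bcFst k X k' ((Curv2.bc k X k').nilradical.subschemeι y)),
      irreducibleComponent_mem_irreducibleComponents _⟩ with hZdef
  have hηZ : η Z = Curv2.bcFst k X k' ((Curv2.bc k X k').nilradical.subschemeι y) :=
    (hη Z).eq hgen
  have hmem : (Curv2.bc k X k').nilradical.subschemeι y ∈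
      Set.range (chartMap' k X k' (ι Z) (hι Z)) := by
    rw [range_chartMap']
    exact ⟨z Z, (hz Z).trans hηZ⟩
  haveI := isGeometricallyReduced_stalk_of_chart k' (Curv2.bc k X k')
    (chartMap' k X k' (ι Z) (hι Z))
    (Groth.Agent.Lib.Helper6.FinLevel.chartMap'_snd k X k' (ι Z) (hι Z))
    (Curv2.bc k X k').nilradical.subscheme (Curv2.bc k X k').nilradical.subschemeι rfl (hGR Z) y
    (hy.def ▸ hZ') hmaxW hmem
  exact Groth.Agent.Lib.Helper6.BcRed.isGeomReducedAt_of_isGeometricallyReduced_stalk k' _ y

end Main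

end Groth.Agent.Lib.T2H9.PIRedGRSch
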