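import Mathlib
import Groth.Prelude.Def_EtRam
import Groth.Prelude.Def_Found
import Groth.Agent.Lib.T2H9PIStepBasic
import Groth.Agent.Lib.Helper28AUNormal
import Groth.Agent.Lib.Helper14Japanese
import Groth.Agent.Lib.Helper24DvrEF

set_option autoImplicit false
set_option linter.style.haveILetI false
set_option linter.unusedSectionVars false
universe u

/-!
# A purely inseparable step over a Nagata discrete valuation ring: the case of a `p`-th root
-/

namespace Groth.Agent.Lib.T2H9.PIStepNag

open IsLocalRing Polynomial Groth.Agent.Lib.T2H9.TotRamDeg Groth.Agent.Lib.T2H9.PIStepBasic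

section rep

variable (p : ℕ) {B : Type u} [CommRing B] [IsLocalRing B]

theorem exists_rep (πB : B) (hmB : maximalIdeal B = Ideal.span {πB}) (u : B)
    (hno : ∀ (m : ℕ) (c : ℕ → B) (b : B),
      u = ∑ i ∈ Finset.range m, c i ^ p * πB ^ i + b * πB ^ m →
      ∃ r : B, residue B b = residue B r ^ p) (m : ℕ) :
    ∃ (c : ℕ → B) (b : B), u = ∑ i ∈ Finset.range m, c i ^ p * πB ^ i + b * πB ^ m := by
  induction m with
  | zero => exact ⟨fun _ => 0, u, by simp⟩
  | succ m ih =>
    obtain ⟨c, b, hcb⟩ := ih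
    obtain ⟨r, hr⟩ := hno m c b hcb
    have h1 : b - r ^ p ∈ maximalIdeal B := by
      rw [← residue_eq_zero_iff, map_sub, map_pow, hr, sub_self]
    rw [hmB, Ideal.mem_span_singleton'] at h1
    obtain ⟨b', hb'⟩ := h1
    refine ⟨Function.update c m r, b', ?_⟩
    rw [Finset.sum_range_succ, Function.update_self]
    have h2 : ∑ i ∈ Finset.range m, Function.update c m r i ^ p * πB ^ i =
        ∑ i ∈ Finset.range m, c i ^ p * πB ^ i := by
      refine Finset.sum_congr rfl (fun i hi => ?_)
      rw [Function.update_of_ne (Finset.mem_range.mp hi).ne]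
    rw [h2, hcb]
    have h3 : b = r ^ p + b' * πB := by rw [hb']; ring
    rw [h3]
    ring

end rep

section krull

theorem mem_of_forall_exists_sub_mem {B R : Type u} [CommRing B] [IsNoetherianRing B]
    [IsLocalRing B] [CommRing R] [Algebra B R] [Module.Finite B R] (S : Subalgebra B R) (πB : B)
    (hπB : πB ∈ maximalIdeal B) (ν : R)
    (h : ∀ k : ℕ, ∃ t ∈ S, ∃ d : R, ν - t = πB ^ k • d) : ν ∈ S := by
  have hI : Ideal.span {πB} ≠ ⊤ := by
    intro htop
    have h1 : Ideal.span {πB} ≤ maximalIdeal B := by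
      rw [Ideal.span_le, Set.singleton_subset_iff]
      exact hπB
    rw [htop] at h1
    exact (maximalIdeal.isMaximal B).ne_top (top_le_iff.mp h1)
  have hK := Ideal.iInf_pow_smul_eq_bot_of_isLocalRing (Ideal.span {πB})
    (M := R ⧸ Subalgebra.toSubmodule S) hI
  have hmem : (Subalgebra.toSubmodule S).mkQ ν ∈
      ⨅ i : ℕ, Ideal.span {πB} ^ i • (⊤ : Submodule B (R ⧸ Subalgebra.toSubmodule S)) := by
    rw [Submodule.mem_iInf]
    intro k
    obtain ⟨t, ht, d, hd⟩ := h k
    have h1 : ν = t + πB ^ k • d := by rw [← hd]; ring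
    have h2 : (Subalgebra.toSubmodule S).mkQ t = 0 := by
      rw [Submodule.mkQ_apply, Submodule.Quotient.mk_eq_zero]
      exact ht
    rw [h1, map_add, h2, zero_add, map_smul]
    exact Submodule.smul_mem_smul
      (Ideal.pow_mem_pow (Ideal.mem_span_singleton_self πB) k) Submodule.mem_top
  rw [hK, Submodule.mem_bot, Submodule.mkQ_apply, Submodule.Quotient.mk_eq_zero] at hmem
  exact hmem

end krull

section aux

variable (p : ℕ) {B F' : Type u} [CommRing B] [IsNoetherianRing B] [IsLocalRing B]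
  [Field F'] [Algebra B F'] [CharP F' p]

theorem isIntegral_of_pow_eq (hp : p.Prime) (y : F') (a : B) (hy : y ^ p = algebraMap B F' a) :
    IsIntegral B y := by
  refine ⟨X ^ p - C a, monic_X_pow_sub_C a hp.ne_zero, ?_⟩
  rw [eval₂_sub, eval₂_pow, eval₂_X, eval₂_C, hy, sub_self]

theorem adjoin_mem_aux (hp : p.Prime) [Module.Finite B (integralClosure B F')] (πB : B)
    (hπBm : πB ∈ maximalIdeal B) (hπF0 : algebraMap B F' πB ≠ 0) (u : B)
    (hrep : ∀ m : ℕ, ∃ (c : ℕ → B) (b : B),
      u = ∑ i ∈ Finset.range m, c i ^ p * πB ^ i + b * πB ^ m)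
    (ϖF νF : F') (hϖFp : ϖF ^ p = algebraMap B F' πB) (hνFp : νF ^ p = algebraMap B F' u) :
    νF ∈ Algebra.adjoin B {ϖF} := by
  classical
  haveI : Fact p.Prime := ⟨hp⟩
  have hϖint : IsIntegral B ϖF := isIntegral_of_pow_eq p hp _ _ hϖFp
  have hνint : IsIntegral B νF := isIntegral_of_pow_eq p hp _ _ hνFp
  have hmain : (⟨νF, hνint⟩ : integralClosure B F') ∈
      Algebra.adjoin B {(⟨ϖF, hϖint⟩ : integralClosure B F')} := by
    apply mem_of_forall_exists_sub_mem _ πB hπBm
    intro k
    obtain ⟨c, b, hcb⟩ := hrep (k * p)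
    have htFp : (∑ i ∈ Finset.range (k * p), algebraMap B F' (c i) * ϖF ^ i) ^ p =
        ∑ i ∈ Finset.range (k * p), algebraMap B F' (c i ^ p * πB ^ i) := by
      rw [sum_pow_char]
      refine Finset.sum_congr rfl (fun i _ => ?_)
      rw [mul_pow, ← pow_mul, mul_comm i p, pow_mul, hϖFp, map_mul, map_pow, map_pow]
    have hdiff : (νF - ∑ i ∈ Finset.range (k * p), algebraMap B F' (c i) * ϖF ^ i) ^ p =
        algebraMap B F' b * algebraMap B F' πB ^ (k * p) := by
      rw [sub_pow_char, hνFp, htFp, hcb, map_add, map_sum, map_mul, map_pow]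
      ring
    have hdFp : ((νF - ∑ i ∈ Finset.range (k * p), algebraMap B F' (c i) * ϖF ^ i) /
        algebraMap B F' πB ^ k) ^ p = algebraMap B F' b := by
      rw [div_pow, hdiff, ← pow_mul, mul_div_assoc, div_self (pow_ne_zero _ hπF0), mul_one]
    refine ⟨∑ i ∈ Finset.range (k * p), c i • (⟨ϖF, hϖint⟩ : integralClosure B F') ^ i, ?_,
      ⟨_, isIntegral_of_pow_eq p hp _ _ hdFp⟩, ?_⟩
    · exact Subalgebra.sum_mem _ (fun i _ => Subalgebra.smul_mem _
        (Subalgebra.pow_mem _ (Algebra.subset_adjoin (Set.mem_singleton _)) i) (c i))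
    · apply Subtype.ext
      have h1 : ((∑ i ∈ Finset.range (k * p),
          c i • (⟨ϖF, hϖint⟩ : integralClosure B F') ^ i : integralClosure B F') : F') =
          ∑ i ∈ Finset.range (k * p), algebraMap B F' (c i) * ϖF ^ i := by
        rw [AddSubmonoidClass.coe_finsetSum]
        refine Finset.sum_congr rfl (fun i _ => ?_)
        rw [Algebra.smul_def]
        rfl
      have h2 : ∀ (r : B) (y : integralClosure B F'),
          ((r • y : integralClosure B F') : F') = algebraMap B F' r * (y : F') := by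
        intro r y
        rw [Algebra.smul_def]
        rfl
      rw [h2, AddSubgroupClass.coe_sub, h1, map_pow, mul_div_cancel₀ _ (pow_ne_zero _ hπF0)]
  have h1 : (integralClosure B F').val ⟨νF, hνint⟩ ∈
      (Algebra.adjoin B {(⟨ϖF, hϖint⟩ : integralClosure B F')}).map (integralClosure B F').val :=
    ⟨_, hmain, rfl⟩
  rw [AlgHom.map_adjoin, Set.image_singleton] at h1
  exact h1

end aux

section root

open Groth.Agent.Lib.Helper14 Groth.Agent.Lib.Helper28

variable (p : ℕ) (B L Ω : Type u) [CommRing B] [IsDomain B] [IsDiscreteValuationRing B]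
  [Field L] [Algebra B L] [IsFractionRing B L] [Field Ω] [Algebra L Ω] [Algebra B Ω]
  [IsScalarTower B L Ω] [CharP L p]

include L in
theorem root_mem_adjoin (hp : p.Prime) (hB : CAlg.IsNagata B) (πB : B)
    (hmB : maximalIdeal B = Ideal.span {πB}) (u : B)
    (hrep : ∀ m : ℕ, ∃ (c : ℕ → B) (b : B),
      u = ∑ i ∈ Finset.range m, c i ^ p * πB ^ i + b * πB ^ m)
    (ϖ ν : Ω) (hϖ : ϖ ^ p = algebraMap B Ω πB) (hν : ν ^ p = algebraMap B Ω u) :
    ν ∈ Algebra.adjoin B {ϖ} := by
  classical
  have hintL : ∀ (y : Ω) (a : B), y ^ p = algebraMap B Ω a → IsIntegral L y := by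
    intro y a hy
    have h1 : IsIntegral B y := by
      refine ⟨X ^ p - C a, monic_X_pow_sub_C a hp.ne_zero, ?_⟩
      rw [eval₂_sub, eval₂_pow, eval₂_X, eval₂_C, hy, sub_self]
    exact h1.tower_top
  haveI : FiniteDimensional L (IntermediateField.adjoin L ({ϖ, ν} : Set Ω)) := by
    apply IntermediateField.finiteDimensional_adjoin
    intro y hy
    rcases hy with rfl | hy
    · exact hintL _ _ hϖ
    · rw [Set.mem_singleton_iff] at hy
      rw [hy]
      exact hintL _ _ hν
  have hN2 : CAlg.IsN2 B := isN2_of_isNagata_of_isDomain B hB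
  haveI hfin : Module.Finite B (integralClosure B (IntermediateField.adjoin L ({ϖ, ν} : Set Ω))) :=
    Groth.Agent.Lib.Helper14.IsN2.finite hN2 L _
  haveI : CharP (IntermediateField.adjoin L ({ϖ, ν} : Set Ω)) p :=
    charP_of_injective_algebraMap
      (algebraMap L (IntermediateField.adjoin L ({ϖ, ν} : Set Ω))).injective p
  have hϖmem : ϖ ∈ IntermediateField.adjoin L ({ϖ, ν} : Set Ω) :=
    IntermediateField.subset_adjoin L _ (Set.mem_insert _ _)
  have hνmem : ν ∈ IntermediateField.adjoin L ({ϖ, ν} : Set Ω) :=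
    IntermediateField.subset_adjoin L _ (Set.mem_insert_of_mem _ (Set.mem_singleton _))
  have hπBm : πB ∈ maximalIdeal B := by
    rw [hmB]
    exact Ideal.mem_span_singleton_self πB
  have hπB0 : πB ≠ 0 := by
    intro h0
    rw [h0, Ideal.span_singleton_eq_bot.mpr rfl] at hmB
    exact IsDiscreteValuationRing.not_a_field B hmB
  have hπF0 : algebraMap B (IntermediateField.adjoin L ({ϖ, ν} : Set Ω)) πB ≠ 0 := by
    intro h0
    apply hπB0
    have hinj : Function.Injective
        (algebraMap B (IntermediateField.adjoin L ({ϖ, ν} : Set Ω))) := by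
      rw [IsScalarTower.algebraMap_eq B L (IntermediateField.adjoin L ({ϖ, ν} : Set Ω))]
      exact (algebraMap L _).injective.comp (IsFractionRing.injective B L)
    exact hinj (h0.trans (map_zero _).symm)
  have hmain := adjoin_mem_aux p hp πB hπBm hπF0 u hrep
    (⟨ϖ, hϖmem⟩ : IntermediateField.adjoin L ({ϖ, ν} : Set Ω)) ⟨ν, hνmem⟩
    (Subtype.ext hϖ) (Subtype.ext hν)
  have h1 : ((IntermediateField.val (IntermediateField.adjoin L ({ϖ, ν} : Set Ω))).restrictScalars B)
      ⟨ν, hνmem⟩ ∈
      (Algebra.adjoin B {(⟨ϖ, hϖmem⟩ : IntermediateField.adjoin L ({ϖ, ν} : Set Ω))}).map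
        ((IntermediateField.val (IntermediateField.adjoin L ({ϖ, ν} : Set Ω))).restrictScalars B) :=
    ⟨_, hmain, rfl⟩
  rw [AlgHom.map_adjoin, Set.image_singleton] at h1
  exact h1

end root

section top

open IntermediateField

variable (p : ℕ) (B L M Ω : Type u) [CommRing B] [Field L] [Field M] [Field Ω] [Algebra B L]
  [Algebra L M] [Algebra M Ω] [Algebra L Ω] [IsScalarTower L M Ω] [Algebra B Ω]
  [IsScalarTower B L Ω]

theorem exists_root_in_top (hp : p.Prime) (hdeg : Module.finrank L M = p)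
    (πL : L) (ϖ ν : Ω) (hϖ : ϖ ^ p = algebraMap L Ω πL) (hν : ν ∈ Algebra.adjoin B {ϖ})
    (πCM : M) (hπCM : ∀ l : L, algebraMap L M l ≠ πCM) (hprod : algebraMap M Ω πCM = ν * ϖ) :
    ∃ c₀ : M, algebraMap M Ω c₀ = ϖ := by
  classical
  haveI : FiniteDimensional L M := Module.finite_of_finrank_pos (hdeg ▸ hp.pos)
  have hroot : aeval ϖ (X ^ p - C πL : L[X]) = 0 := by
    rw [map_sub, map_pow, aeval_X, aeval_C, hϖ, sub_self]
  have hϖint : IsIntegral L ϖ := ⟨X ^ p - C πL, monic_X_pow_sub_C πL hp.ne_zero, hroot⟩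
  have hϖE : ϖ ∈ L⟮ϖ⟯ := mem_adjoin_simple_self L ϖ
  have hνE : ν ∈ L⟮ϖ⟯ := by
    have h1 : Algebra.adjoin B {ϖ} ≤ (L⟮ϖ⟯).toSubalgebra.restrictScalars B := by
      apply Algebra.adjoin_le
      rintro _ rfl
      exact hϖE
    exact h1 hν
  have hE : Module.finrank L L⟮ϖ⟯ ≤ p := by
    rw [adjoin.finrank hϖint]
    have hdvd : minpoly L ϖ ∣ X ^ p - C πL := minpoly.dvd L ϖ hroot
    have h2 := natDegree_le_of_dvd hdvd (X_pow_sub_C_ne_zero hp.pos πL)
    rwa [natDegree_X_pow_sub_C] at h2
  haveI : FiniteDimensional L L⟮ϖ⟯ := adjoin.finiteDimensional hϖint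
  haveI hsimple : IsSimpleOrder (IntermediateField L M) :=
    isSimpleOrder_of_finrank_prime L M (hdeg ▸ hp)
  have hcomap : (L⟮ϖ⟯).comap (IsScalarTower.toAlgHom L M Ω) = ⊤ := by
    rcases eq_bot_or_eq_top ((L⟮ϖ⟯).comap (IsScalarTower.toAlgHom L M Ω)) with h | h
    · exfalso
      have h1 : πCM ∈ (L⟮ϖ⟯).comap (IsScalarTower.toAlgHom L M Ω) := by
        change algebraMap M Ω πCM ∈ L⟮ϖ⟯
        rw [hprod]
        exact (L⟮ϖ⟯).mul_mem hνE hϖE
      rw [h, mem_bot] at h1
      obtain ⟨l, hl⟩ := h1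
      exact hπCM l hl
    · exact h
  have hle : (IsScalarTower.toAlgHom L M Ω).fieldRange ≤ L⟮ϖ⟯ := by
    rintro _ ⟨x, rfl⟩
    have h1 : x ∈ (L⟮ϖ⟯).comap (IsScalarTower.toAlgHom L M Ω) := by
      rw [hcomap]
      trivial
    exact h1
  have hfr : Module.finrank L (IsScalarTower.toAlgHom L M Ω).fieldRange = p := by
    rw [← hdeg]
    exact ((IsScalarTower.toAlgHom L M Ω).equivFieldRange.toLinearEquiv.finrank_eq).symm
  have heq : (IsScalarTower.toAlgHom L M Ω).fieldRange = L⟮ϖ⟯ :=
    eq_of_le_of_finrank_le hle (by rw [hfr]; exact hE)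
  have h2 : ϖ ∈ (IsScalarTower.toAlgHom L M Ω).fieldRange := heq ▸ hϖE
  obtain ⟨c₀, hc₀⟩ := h2
  exact ⟨c₀, hc₀⟩

end top

section nak

variable (B C : Type u) [CommRing B] [IsLocalRing B] [CommRing C] [IsLocalRing C] [Algebra B C]
  [IsLocalHom (algebraMap B C)] [Module.Finite B C]

theorem adjoin_eq_top (p : ℕ) (πB : B) (hmB : maximalIdeal B = Ideal.span {πB}) (c : C)
    (hmC : maximalIdeal C = Ideal.span {c}) (hcp : c ^ p = algebraMap B C πB)
    (hsurj : Function.Surjective (algebraMap (ResidueField B) (ResidueField C))) :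
    Algebra.adjoin B {c} = ⊤ := by
  have hstep : ∀ (j : ℕ) (y : C), ∃ s ∈ Algebra.adjoin B {c}, ∃ y' : C, y = s + c ^ j * y' := by
    intro j
    induction j with
    | zero => exact fun y => ⟨0, Subalgebra.zero_mem _, y, by rw [pow_zero, one_mul, zero_add]⟩
    | succ j ih =>
      intro y
      obtain ⟨s, hs, y', hy'⟩ := ih y
      obtain ⟨β, hβ⟩ := hsurj (residue C y')
      obtain ⟨b', rfl⟩ := residue_surjective β
      have h1 : y' - algebraMap B C b' ∈ maximalIdeal C := by
        rw [← residue_eq_zero_iff, map_sub, ← hβ, sub_eq_zero]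
        rfl
      rw [hmC, Ideal.mem_span_singleton'] at h1
      obtain ⟨y'', hy''⟩ := h1
      refine ⟨s + c ^ j * algebraMap B C b', ?_, y'', ?_⟩
      · exact Subalgebra.add_mem _ hs (Subalgebra.mul_mem _
          (Subalgebra.pow_mem _ (Algebra.subset_adjoin (Set.mem_singleton _)) j)
          (Subalgebra.algebraMap_mem _ b'))
      · have h2 : y' = algebraMap B C b' + y'' * c := by rw [hy'']; ring
        rw [hy', h2]
        ring
  have hπBm : πB ∈ maximalIdeal B := by
    rw [hmB]
    exact Ideal.mem_span_singleton_self πB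
  have hNN : (⊤ : Submodule B C) ≤ Subalgebra.toSubmodule (Algebra.adjoin B {c}) ⊔
      maximalIdeal B • (⊤ : Submodule B C) := by
    intro y _
    obtain ⟨s, hs, y', hy'⟩ := hstep p y
    rw [hy', hcp, ← Algebra.smul_def]
    exact Submodule.add_mem_sup hs (Submodule.smul_mem_smul hπBm Submodule.mem_top)
  have hfg : (⊤ : Submodule B C).FG := Module.Finite.fg_top
  have hle := Submodule.le_of_le_smul_of_le_jacobson_bot hfg (maximalIdeal_le_jacobson ⊥) hNN
  rw [eq_top_iff]
  intro y _
  exact hle Submodule.mem_top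

end nak

section case2

variable (p : ℕ) (A B C L M : Type u)
  [CommRing A] [IsDomain A] [IsDiscreteValuationRing A]
  [CommRing B] [IsDomain B] [IsDiscreteValuationRing B]
  [CommRing C] [IsDomain C] [IsDiscreteValuationRing C]
  [Algebra A B] [Algebra B C] [Algebra A C] [IsScalarTower A B C]
  [IsLocalHom (algebraMap A B)] [IsLocalHom (algebraMap B C)]
  [Field L] [Field M] [Algebra B L] [IsFractionRing B L]
  [Algebra C M] [IsFractionRing C M] [Algebra L M] [Algebra B M] [IsScalarTower B L M]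
  [IsScalarTower B C M] [IsPurelyInseparable L M]

theorem case2 (hp : p.Prime) (hBC : Function.Injective (algebraMap B C)) (π : A)
    (hπ : maximalIdeal A = Ideal.span {π}) (hB : CAlg.IsNagata B)
    (hw : EtRam.IsWeaklyUnramified A B) (hdeg : Module.finrank L M = p)
    (πC : C) (u : Bˣ) (hπCirr : Irreducible πC)
    (hπC : πC ^ p = algebraMap B C ((u : B) * algebraMap A B π))
    (hno : ∀ (m : ℕ) (c : ℕ → B) (b : B),
      (u : B) = ∑ i ∈ Finset.range m, c i ^ p * algebraMap A B π ^ i +
        b * algebraMap A B π ^ m → ∃ r : B, residue B b = residue B r ^ p) :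
    ∃ c : C, c ^ p = algebraMap A C π ∧ Algebra.adjoin B {c} = ⊤ := by
  classical
  haveI : Fact p.Prime := ⟨hp⟩
  haveI : FiniteDimensional L M := finiteDimensional_of_finrank p L M hp hdeg
  haveI : CharP L p := charP_of_finrank p L M hp hdeg
  set πB : B := algebraMap A B π with hπB
  have hmB : maximalIdeal B = Ideal.span {πB} :=
    maximalIdeal_eq_of_weaklyUnramified A B π hπ hw
  have hπBirr : Irreducible πB :=
    (IsDiscreteValuationRing.irreducible_iff_uniformizer _).mpr hmB
  have hrep := exists_rep p πB hmB (u : B) hno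
  -- an algebraic closure
  haveI : CharP (AlgebraicClosure M) p :=
    charP_of_injective_algebraMap (algebraMap L (AlgebraicClosure M)).injective p
  obtain ⟨ϖ, hϖ⟩ := IsAlgClosed.exists_pow_nat_eq (algebraMap B (AlgebraicClosure M) πB) hp.pos
  obtain ⟨ν, hν⟩ := IsAlgClosed.exists_pow_nat_eq (algebraMap B (AlgebraicClosure M) (u : B))
    hp.pos
  have hνadj := root_mem_adjoin p B L (AlgebraicClosure M) hp hB πB hmB (u : B) hrep ϖ ν hϖ hν
  have hinjCM : Function.Injective (algebraMap C M) := IsFractionRing.injective C M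
  have hBCM : ∀ b : B, algebraMap C M (algebraMap B C b) = algebraMap L M (algebraMap B L b) := by
    intro b
    rw [← IsScalarTower.algebraMap_apply B C M, IsScalarTower.algebraMap_apply B L M]
  have hBΩ : ∀ b : B, algebraMap M (AlgebraicClosure M) (algebraMap C M (algebraMap B C b)) =
      algebraMap B (AlgebraicClosure M) b := by
    intro b
    rw [hBCM, ← IsScalarTower.algebraMap_apply L M (AlgebraicClosure M),
      ← IsScalarTower.algebraMap_apply B L (AlgebraicClosure M)]
  have hprod : algebraMap M (AlgebraicClosure M) (algebraMap C M πC) = ν * ϖ := by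
    apply frobenius_inj (AlgebraicClosure M) p
    rw [frobenius_def, frobenius_def, ← map_pow, ← map_pow, hπC, hBΩ, map_mul, mul_pow, hν, hϖ]
  have hπCM : ∀ l : L, algebraMap L M l ≠ algebraMap C M πC := by
    intro l hl
    obtain ⟨b, hb⟩ := mem_of_mem B C L M l πC hl
    have hbC : algebraMap B C b = πC := by
      apply hinjCM
      rw [hBCM, hb, hl]
    have hb0 : b ≠ 0 := by
      rintro rfl
      rw [map_zero] at hbC
      exact hπCirr.ne_zero hbC.symm
    obtain ⟨k, w, hw'⟩ := IsDiscreteValuationRing.eq_unit_mul_pow_irreducible hb0 hπBirr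
    have h1 : algebraMap B C (b ^ p) = algebraMap B C ((u : B) * πB) := by
      rw [map_pow, hbC, hπC]
    have h2 := hBC h1
    rw [hw', mul_pow, ← pow_mul] at h2
    have h3 : ((w ^ p : Bˣ) : B) * πB ^ (k * p) = (u : B) * πB ^ 1 := by
      rw [Units.val_pow_eq_pow_val, pow_one]
      exact h2
    have h4 : k * p = 1 := IsDiscreteValuationRing.unit_mul_pow_congr_pow hπBirr hπBirr _ _ _ _ h3
    have h5 : p ∣ 1 := ⟨k, by rw [mul_comm]; exact h4.symm⟩
    exact hp.one_lt.ne' (Nat.dvd_one.mp h5)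
  have hϖ' : ϖ ^ p = algebraMap L (AlgebraicClosure M) (algebraMap B L πB) := by
    rw [hϖ, ← IsScalarTower.algebraMap_apply B L (AlgebraicClosure M)]
  obtain ⟨c₀, hc₀⟩ := exists_root_in_top p B L M (AlgebraicClosure M) hp hdeg
    (algebraMap B L πB) ϖ ν hϖ' hνadj (algebraMap C M πC) hπCM hprod
  have hc₀p : c₀ ^ p = algebraMap C M (algebraMap B C πB) := by
    apply (algebraMap M (AlgebraicClosure M)).injective
    rw [map_pow, hc₀, hϖ, hBΩ]
  have hc₀int : IsIntegral C c₀ := by
    refine ⟨(X ^ p - Polynomial.C (algebraMap B C πB) : Polynomial C),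
      monic_X_pow_sub_C _ hp.ne_zero, ?_⟩
    rw [eval₂_sub, eval₂_pow, eval₂_X, eval₂_C, hc₀p, sub_self]
  obtain ⟨c, hc⟩ := IsIntegrallyClosed.isIntegral_iff.mp hc₀int
  have hcp : c ^ p = algebraMap B C πB := by
    apply hinjCM
    rw [map_pow, hc, hc₀p]
  refine ⟨c, ?_, ?_⟩
  · rw [hcp, hπB, ← IsScalarTower.algebraMap_apply A B C]
  -- `c` is a uniformizer of `C`
  have hπBC0 : algebraMap B C πB ≠ 0 := fun h0 =>
    hπBirr.ne_zero (hBC (h0.trans (map_zero _).symm))
  have hc0 : c ≠ 0 := by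
    rintro rfl
    rw [zero_pow hp.ne_zero] at hcp
    exact hπBC0 hcp.symm
  have hπBC : algebraMap B C πB =
      ((Units.map (algebraMap B C : B →* C) u⁻¹ : Cˣ) : C) * πC ^ p := by
    rw [hπC, map_mul, ← mul_assoc, Units.coe_map]
    simp only [MonoidHom.coe_coe]
    rw [← map_mul, Units.inv_mul, map_one, one_mul]
  obtain ⟨k, w, hw'⟩ := IsDiscreteValuationRing.eq_unit_mul_pow_irreducible hc0 hπCirr
  have hk : k = 1 := by
    have h1 : ((w ^ p : Cˣ) : C) * πC ^ (k * p) =
        ((Units.map (algebraMap B C : B →* C) u⁻¹ : Cˣ) : C) * πC ^ p := by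
      rw [← hπBC, ← hcp, hw', mul_pow, ← pow_mul, Units.val_pow_eq_pow_val]
    have h2 : k * p = p :=
      IsDiscreteValuationRing.unit_mul_pow_congr_pow hπCirr hπCirr _ _ _ _ h1
    have h3 : k * p = 1 * p := by rw [one_mul]; exact h2
    exact Nat.eq_of_mul_eq_mul_right hp.pos h3
  rw [hk, pow_one] at hw'
  have hmC : maximalIdeal C = Ideal.span {c} := by
    rw [hπCirr.maximalIdeal_eq, hw']
    exact (Ideal.span_singleton_eq_span_singleton.mpr
      (associated_unit_mul_left _ _ w.isUnit)).symm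
  -- `C` is a finite `B`-module
  haveI : IsNoetherianRing B := inferInstance
  have hN2 : CAlg.IsN2 B := Groth.Agent.Lib.Helper28.isN2_of_isNagata_of_isDomain B hB
  haveI hfin : Module.Finite B (integralClosure B M) :=
    Groth.Agent.Lib.Helper14.IsN2.finite hN2 L M
  haveI : IsNoetherian B (integralClosure B M) := isNoetherian_of_isNoetherianRing_of_finite B _
  have hint : ∀ y : C, IsIntegral B (algebraMap C M y) := by
    intro y
    obtain ⟨l, hl⟩ := pow_mem_range p L M hp hdeg (algebraMap C M y)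
    obtain ⟨b, hb⟩ := mem_of_mem B C L M l (y ^ p) (by rw [hl, map_pow])
    refine ⟨X ^ p - Polynomial.C b, monic_X_pow_sub_C _ hp.ne_zero, ?_⟩
    rw [eval₂_sub, eval₂_pow, eval₂_X, eval₂_C, ← hl, ← hb,
      ← IsScalarTower.algebraMap_apply B L M, sub_self]
  let g : C →ₗ[B] integralClosure B M :=
    LinearMap.codRestrict (Subalgebra.toSubmodule (integralClosure B M))
      (IsScalarTower.toAlgHom B C M).toLinearMap hint
  have hg : Function.Injective g := by
    intro y y' hyy'
    apply hinjCM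
    exact congrArg Subtype.val hyy'
  haveI : Module.Finite B C := Module.Finite.of_injective g hg
  -- the residue fields agree
  have hmapC : (maximalIdeal B).map (algebraMap B C) = Ideal.span {algebraMap B C πB} := by
    rw [hmB, Ideal.map_span, Set.image_singleton]
  have hram : Ideal.ramificationIdx' (maximalIdeal B) (maximalIdeal C) = p :=
    ramificationIdx'_eq_of_span _ hmapC πC hπCirr _ p hπBC
  obtain ⟨hresfin, hef⟩ := Groth.Agent.Lib.Helper24DvrEF.s7132 B C L M hBC
  haveI := hresfin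
  rw [hram, hdeg] at hef
  have hfpos : 0 < Module.finrank (ResidueField B) (ResidueField C) := Module.finrank_pos
  have hf1 : Module.finrank (ResidueField B) (ResidueField C) = 1 := by
    have h1 : p * Module.finrank (ResidueField B) (ResidueField C) ≤ p * 1 := by
      rw [mul_one]; exact hef
    have h2 := Nat.le_of_mul_le_mul_left h1 hp.pos
    omega
  have hsurj : Function.Surjective (algebraMap (ResidueField B) (ResidueField C)) := by
    intro r
    have h1 := Subalgebra.bot_eq_top_of_finrank_eq_one hf1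
    have h2 : r ∈ (⊥ : Subalgebra (ResidueField B) (ResidueField C)) := by
      rw [h1]
      exact Algebra.mem_top
    obtain ⟨c', rfl⟩ := Algebra.mem_bot.mp h2
    exact ⟨c', rfl⟩
  exact adjoin_eq_top B C p πB hmB c hmC hcp hsurj

end case2

end Groth.Agent.Lib.T2H9.PIStepNag
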