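import Groth.Prelude.Def_Twist2
import Mathlib

set_option autoImplicit false
universe u
open CategoryTheory AlgebraicGeometry TopologicalSpace Opposite

namespace Groth.Agent.Lib.T2H9.PNormGlob

variable {R A : Type u} [CommRing R] [CommRing A] [Algebra R A] (𝒜 : ℕ → Submodule R A) [GradedAlgebra 𝒜]

theorem mem_of_mul_mem [IsDomain A] {c f : A} {j d : ℕ} (hf : f ∈ 𝒜 j) (hf0 : f ≠ 0)
    (h : c * f ∈ 𝒜 (j + d)) : c ∈ 𝒜 d := by
  classical
  rw [← DirectSum.sum_support_decompose 𝒜 c]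
  refine Submodule.sum_mem _ fun i hi => ?_
  by_cases hid : i = d
  · subst hid; exact Submodule.coe_mem _
  · exfalso
    have h1 : ((DirectSum.decompose 𝒜 (c * f)) (i + j) : A) = (DirectSum.decompose 𝒜 c i : A) * f :=
      DirectSum.coe_decompose_mul_add_of_right_mem 𝒜 (i := i) hf
    have h2 : ((DirectSum.decompose 𝒜 (c * f)) (i + j) : A) = 0 := by
      rw [DirectSum.decompose_of_mem 𝒜 h]
      rw [DirectSum.of_eq_of_ne]
      · rfl
      · omega
    rw [h2] at h1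
    have h3 : (DirectSum.decompose 𝒜 c i : A) = 0 := by
      rcases mul_eq_zero.mp h1.symm with h | h
      · exact h
      · exact absurd h hf0
    rw [DFinsupp.mem_support_toFun] at hi
    exact hi (Subtype.ext h3)

theorem mem_irrelevant_of_mem {i : ℕ} (hi : 0 < i) {g : A} (hg : g ∈ 𝒜 i) :
    g ∈ (HomogeneousIdeal.irrelevant 𝒜) := by
  rw [HomogeneousIdeal.mem_irrelevant_iff]
  rw [GradedRing.proj_apply, DirectSum.decompose_of_mem_ne 𝒜 hg (by omega)]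

/-- the generic point of `Proj` of a graded domain with `𝒜 1 ≠ ⊥`. -/
def eta [IsDomain A] (h1 : 𝒜 1 ≠ ⊥) : ProjectiveSpectrum 𝒜 :=
  ⟨⊥, by rw [HomogeneousIdeal.toIdeal_bot]; exact Ideal.isPrime_bot, by
    intro hle
    obtain ⟨g, hg, hg0⟩ := Submodule.exists_mem_ne_zero_of_ne_bot h1
    have h2 : g ∈ (⊥ : HomogeneousIdeal 𝒜) := hle (mem_irrelevant_of_mem 𝒜 Nat.one_pos hg)
    rw [← HomogeneousIdeal.mem_iff, HomogeneousIdeal.toIdeal_bot, Ideal.mem_bot] at h2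
    exact hg0 h2⟩

theorem eta_mem [IsDomain A] (h1 : 𝒜 1 ≠ ⊥) (V : Opens (ProjectiveSpectrum.top 𝒜))
    (x : ProjectiveSpectrum.top 𝒜) (hx : x ∈ V) : eta 𝒜 h1 ∈ V := by
  have h : (eta 𝒜 h1 : ProjectiveSpectrum 𝒜) ⤳ x := by
    rw [specializes_iff_mem_closure]
    rw [← ProjectiveSpectrum.le_iff_mem_closure]
    rw [← ProjectiveSpectrum.as_ideal_le_as_ideal]
    exact bot_le
  exact h.mem_open V.isOpen hx

theorem not_mem_eta [IsDomain A] (h1 : 𝒜 1 ≠ ⊥) {c : A}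
    (hc : c ∉ (eta 𝒜 h1).asHomogeneousIdeal) : c ≠ 0 := fun h =>
  hc (by rw [h]; exact zero_mem _)

theorem mem_pow_irrelevant (hgen : ∀ i : ℕ, 𝒜 1 * 𝒜 i = 𝒜 (i + 1)) (i : ℕ) {b : A} (hb : b ∈ 𝒜 i) :
    b ∈ (HomogeneousIdeal.irrelevant 𝒜).toIdeal ^ i := by
  induction i generalizing b with
  | zero => simp
  | succ i ih =>
    rw [← hgen i] at hb
    refine Submodule.mul_induction_on hb ?_ ?_
    · intro m hm n hn
      rw [pow_succ']
      exact Ideal.mul_mem_mul (mem_irrelevant_of_mem 𝒜 Nat.one_pos hm) (ih hn)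
    · intro x y hx hy
      exact add_mem hx hy


theorem injective [IsDomain A] (h1 : 𝒜 1 ≠ ⊥) (d : ℕ) :
    Function.Injective (fun a : ↥(𝒜 d) => Twist.globalOf 𝒜 a) := by
  intro a b hab
  have h := congrArg (fun s : Twist.sectN (𝒜 := 𝒜) (d : ℤ) (op ⊤) => (s.1 ⟨eta 𝒜 h1, trivial⟩).1) hab
  simp only [Twist.globalOf] at h
  rw [Localization.mk_eq_mk_iff, Localization.r_iff_exists] at h
  obtain ⟨c, hc⟩ := h
  have hc0 : (c : A) ≠ 0 := not_mem_eta 𝒜 h1 c.2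
  simp only [one_mul] at hc
  exact Subtype.ext (mul_left_cancel₀ hc0 hc)


theorem surjective [IsDomain A] [IsNoetherianRing A] (hgen : ∀ i : ℕ, 𝒜 1 * 𝒜 i = 𝒜 (i + 1))
    (h1 : 𝒜 1 ≠ ⊥) (hint : IsIntegrallyClosed A) (d : ℕ) :
    Function.Surjective (fun a : ↥(𝒜 d) => Twist.globalOf 𝒜 a) := by
  classical
  intro s
  have hs : ∀ x : ((unop (op (⊤ : Opens (ProjectiveSpectrum.top 𝒜)))) : Opens _),
      ∃ (V : Opens (ProjectiveSpectrum.top 𝒜)) (_ : x.1 ∈ V) (i : V ⟶ unop (op ⊤)),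
        Twist.IsFracN (𝒜 := 𝒜) (d : ℤ) (fun y : V => s.1 (i y)) := s.2
  choose V hxV iV i j a f hnin hdeg hval using hs
  set η := eta 𝒜 h1 with hη
  -- the values at the generic point
  have hηV : ∀ x, η ∈ V x := fun x => eta_mem 𝒜 h1 (V x) x.1 (hxV x)
  have hvalη : ∀ x, (s.1 ⟨η, trivial⟩).1 =
      Localization.mk (a x).1 ⟨(f x).1, hnin x ⟨η, hηV x⟩⟩ := fun x => hval x ⟨η, hηV x⟩
  have hcross : ∀ x y, (a x).1 * (f y).1 = (a y).1 * (f x).1 := by
    intro x y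
    have h := (hvalη x).symm.trans (hvalη y)
    rw [Localization.mk_eq_mk_iff, Localization.r_iff_exists] at h
    obtain ⟨c, hc⟩ := h
    have hc0 : (c : A) ≠ 0 := not_mem_eta 𝒜 h1 c.2
    have := mul_left_cancel₀ hc0 hc
    simp only at this
    linear_combination this
  have hf0 : ∀ x, (f x).1 ≠ 0 := fun x => not_mem_eta 𝒜 h1 (hnin x ⟨η, hηV x⟩)
  obtain ⟨x₀, hx₀⟩ : ∃ x₀ : ((unop (op (⊤ : Opens (ProjectiveSpectrum.top 𝒜)))) : Opens _), x₀ = ⟨η, trivial⟩ :=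
    ⟨_, rfl⟩
  -- the ideal generated by the denominators
  obtain ⟨I', hI'⟩ : ∃ I' : Ideal A, I' = Ideal.span (Set.range fun x => ((f x).1 : A)) := ⟨_, rfl⟩
  have hI'hom : I'.IsHomogeneous 𝒜 := by
    rw [hI']
    refine Ideal.homogeneous_span 𝒜 _ ?_
    rintro _ ⟨x, rfl⟩
    exact ⟨j x, (f x).2⟩
  have hrad : (HomogeneousIdeal.irrelevant 𝒜).toIdeal ≤ I'.radical := by
    rw [hI'hom.radical_eq]
    refine le_sInf ?_
    rintro J ⟨hJh, hIJ, hJp⟩
    by_contra hle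
    let y : ProjectiveSpectrum 𝒜 := ⟨⟨J, hJh⟩, hJp, fun h => hle h⟩
    have h3 : (f ⟨y, trivial⟩).1 ∈ I' := by
      rw [hI']
      exact Ideal.subset_span ⟨_, rfl⟩
    have h2 : (f ⟨y, trivial⟩).1 ∈ J := hIJ h3
    exact hnin ⟨y, trivial⟩ ⟨y, hxV _⟩ h2
  obtain ⟨M, hM⟩ := Ideal.exists_pow_le_of_le_radical_of_fg hrad (IsNoetherian.noetherian _)
  have hdiv : ∀ b ∈ I', (f x₀).1 ∣ b * (a x₀).1 := by
    intro b hb
    rw [hI'] at hb
    refine Submodule.span_induction ?_ ?_ ?_ ?_ hb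
    · rintro _ ⟨x, rfl⟩
      exact ⟨(a x).1, by linear_combination (hcross x₀ x)⟩
    · simp
    · intro u v _ _ hu hv; rw [add_mul]; exact dvd_add hu hv
    · intro r u _ hu; rw [smul_eq_mul, mul_assoc]; exact Dvd.dvd.mul_left hu r
  have hdivM : ∀ (i : ℕ), M ≤ i → ∀ b ∈ 𝒜 i, (f x₀).1 ∣ b * (a x₀).1 := fun i hi b hb =>
    hdiv b (hM (Ideal.pow_le_pow_right hi (mem_pow_irrelevant 𝒜 hgen i hb)))
  -- quotient `b * a₀ / f₀` is homogeneous of degree `i + d`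
  have hquot : ∀ (i : ℕ) (b c : A), b ∈ 𝒜 i → b * (a x₀).1 = (f x₀).1 * c → c ∈ 𝒜 (i + d) := by
    intro i' b c hb hbc
    rcases hdeg x₀ with h | h
    · have h4 : i x₀ = j x₀ + d := by exact_mod_cast h
      refine mem_of_mul_mem 𝒜 (f x₀).2 (hf0 x₀) (c := c) (j := j x₀) (d := i' + d) ?_
      rw [mul_comm, ← hbc]
      have h5 : j x₀ + (i' + d) = i' + i x₀ := by omega
      rw [h5]
      exact SetLike.mul_mem_graded hb (a x₀).2
    · rw [h, mul_zero] at hbc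
      rcases mul_eq_zero.mp hbc.symm with h6 | h6
      · exact absurd h6 (hf0 x₀)
      · rw [h6]; exact zero_mem _
  -- integrality
  let K := FractionRing A
  obtain ⟨q, hq⟩ : ∃ q : K, q = algebraMap A K (a x₀).1 / algebraMap A K (f x₀).1 := ⟨_, rfl⟩
  have hfK : algebraMap A K (f x₀).1 ≠ 0 := by
    rw [Ne, IsFractionRing.to_map_eq_zero_iff]; exact hf0 x₀
  obtain ⟨Jd, hJd⟩ : ∃ Jd : Ideal A, Jd = Ideal.span (⋃ i ∈ {i : ℕ | M ≤ i}, (𝒜 i : Set A)) := ⟨_, rfl⟩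
  have hmemJd : ∀ (i : ℕ), M ≤ i → ∀ b ∈ 𝒜 i, b ∈ Jd := by
    intro i' hi b hb
    rw [hJd]
    exact Ideal.subset_span (Set.mem_biUnion (show i' ∈ {i : ℕ | M ≤ i} from hi) hb)
  obtain ⟨J, hJ⟩ : ∃ J : Submodule A K, J = Submodule.map (Algebra.linearMap A K) Jd := ⟨_, rfl⟩
  have hJfg : J.FG := by
    rw [hJ]; exact Submodule.FG.map _ (IsNoetherian.noetherian _)
  have hJne : J ≠ ⊥ := by
    obtain ⟨g, hg, hg0⟩ := Submodule.exists_mem_ne_zero_of_ne_bot h1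
    have hgM : g ^ M ∈ 𝒜 (M • 1) := SetLike.pow_mem_graded M hg
    have hgM' : g ^ M ∈ Jd := hmemJd (M • 1) (by simp) _ hgM
    intro hbot
    have h7 : algebraMap A K (g ^ M) ∈ J := by
      rw [hJ]; exact Submodule.mem_map_of_mem hgM'
    rw [hbot, Submodule.mem_bot, IsFractionRing.to_map_eq_zero_iff] at h7
    exact hg0 (pow_eq_zero_iff (n := M) (by
      rintro rfl
      simp at h7) |>.mp h7)
  have hJq : ∀ n ∈ J, q • n ∈ J := by
    intro n hn
    rw [hJ] at hn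
    obtain ⟨b, hb, rfl⟩ := hn
    have hb' : b ∈ Ideal.span (⋃ i ∈ {i : ℕ | M ≤ i}, (𝒜 i : Set A)) := hJd ▸ hb
    refine Submodule.span_induction ?_ ?_ ?_ ?_ hb'
    · intro b hb
      obtain ⟨i', hi', hbi⟩ := Set.mem_iUnion₂.mp hb
      obtain ⟨c, hc⟩ := hdivM i' hi' b hbi
      have hcmem : c ∈ Jd := hmemJd (i' + d) (le_trans hi' (Nat.le_add_right _ _)) c (hquot i' b c hbi hc)
      have : q • (Algebra.linearMap A K) b = algebraMap A K c := by
        rw [hq, smul_eq_mul, Algebra.linearMap_apply]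
        rw [div_mul_eq_mul_div, div_eq_iff hfK, ← map_mul, ← map_mul]
        congr 1
        linear_combination hc
      rw [this, hJ]
      exact Submodule.mem_map_of_mem hcmem
    · simp
    · intro u v _ _ hu hv
      rw [map_add, smul_add]; exact add_mem hu hv
    · intro r u _ hu
      rw [map_smul, smul_comm]
      exact Submodule.smul_mem _ r hu
  have hqint : IsIntegral A q := isIntegral_of_smul_mem_submodule J hJne hJfg q hJq
  obtain ⟨a', ha'⟩ := IsIntegrallyClosed.algebraMap_eq_of_integral hqint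
  have ha'f : a' * (f x₀).1 = (a x₀).1 := by
    apply IsFractionRing.injective A K
    rw [map_mul, ha', hq, div_mul_cancel₀ _ hfK]
  have ha'd : a' ∈ 𝒜 d := by
    have := hquot 0 1 a' SetLike.GradedOne.one_mem (by rw [one_mul, ← ha'f, mul_comm])
    simpa using this
  refine ⟨⟨a', ha'd⟩, ?_⟩
  apply Subtype.ext
  funext x
  apply Subtype.ext
  have hx := hval x ⟨x.1, hxV x⟩
  simp only [Twist.globalOf]
  refine Eq.trans ?_ hx.symm
  rw [Localization.mk_eq_mk_iff, Localization.r_iff_exists]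
  refine ⟨1, ?_⟩
  simp only [OneMemClass.coe_one, one_mul]
  -- f x * a' = a x
  apply mul_right_cancel₀ (hf0 x₀)
  have := hcross x₀ x
  linear_combination (f x).1 * ha'f + this

end Groth.Agent.Lib.T2H9.PNormGlob
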