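import Groth.Agent.Lib.T2H6NegVanE
import Groth.Agent.Lib.Helper6QCohQcqs
import Groth.Agent.Lib.Helper23PB
import Groth.Agent.Lib.Helper18OmLS15
set_option backward.isDefEq.respectTransparency.types false

/-!
# T2H9PicModelA (helper9): a module trivial on `X_f` is `O(D)` for an effective Cartier divisor `D` inside `V(f)`

`X` quasi-compact quasi-separated, `f` a global function which is a non-zero-divisor on every affine open, `M` an
invertible module with a generator over `X_f`.  Then there is a regular section `s : O_X ⟶ M` whose zero scheme is an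
effective Cartier divisor disjoint from `X_f`.
-/

set_option autoImplicit false
set_option linter.style.haveILetI false
set_option linter.unusedSectionVars false
universe u

open AlgebraicGeometry CategoryTheory Limits TopologicalSpace Opposite

namespace Groth.Agent.Lib.T2H9.PicModelA

open Groth.Agent.Lib.Helper23.SecTw Groth.Agent.Lib.Helper23.GenLocus Groth.Agent.Lib.Helper6
  Groth.Agent.Lib.T2H3.ZeroScheme Groth.Agent.Lib.Helper23.Extend Groth.Agent.Lib.Helper23.PB

variable {X : Scheme.{u}}

/-- a function on an affine open whose restriction to `D(f)` is a unit is regular, when `f` is -/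
theorem mem_nonZeroDivisors_of_isUnit_res {W : X.Opens} (hW : IsAffineOpen W) (f c : Γ(X, W))
    (hf : f ∈ nonZeroDivisors Γ(X, W)) (hc : IsUnit (resf (X.basicOpen_le f) c)) :
    c ∈ nonZeroDivisors Γ(X, W) := by
  haveI := hW.isLocalization_basicOpen f
  have key : ∀ r : Γ(X, W), c * r = 0 → r = 0 := by
    intro r hr
    have h1 : resf (X.basicOpen_le f) c * resf (X.basicOpen_le f) r = 0 := by
      rw [← map_mul, hr, map_zero]
    have h2 : resf (X.basicOpen_le f) r = 0 := (hc.mul_right_eq_zero).1 h1
    have h3 : algebraMap Γ(X, W) Γ(X, X.basicOpen f) r = 0 := h2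
    rw [IsLocalization.map_eq_zero_iff (Submonoid.powers f)] at h3
    obtain ⟨⟨_, n, rfl⟩, hn⟩ := h3
    exact (mem_nonZeroDivisors_iff.1 (pow_mem hf n)).1 r hn
  rw [mem_nonZeroDivisors_iff]
  exact ⟨fun r hr => key r hr, fun r hr => key r (by rw [mul_comm]; exact hr)⟩

variable [CompactSpace X] [QuasiSeparatedSpace X]

/-- **extension of a trivialisation over `X_f` to a regular global section** -/
theorem exists_section_of_isGen_basicOpen (M : X.Modules) (hM : PicF.IsInvertible M) (f : Γ(X, ⊤))
    (hreg : ∀ V : X.affineOpens, resf (le_top : V.1 ≤ ⊤) f ∈ nonZeroDivisors Γ(X, V.1))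
    (t : Γ(M, X.basicOpen f)) (ht : IsGen M (X.basicOpen f) t) :
    ∃ s : Coh.structureModule X ⟶ M, Mono s ∧ BlowUp.IsEffCartierIdeal (PicF2.zeroScheme M s) ∧
      ∀ x ∈ X.basicOpen f, x ∉ (PicF2.zeroScheme M s).support := by
  haveI : M.IsQuasicoherent := isQuasicoherent_of_isInvertible M hM
  obtain ⟨n, -, σ, hσ⟩ := exists_extension_top_of_qcqs X f M t
  let s : Coh.structureModule X ⟶ M := secHom M σ
  have hsv : ∀ W : X.Opens, sv s W = res M le_top σ := fun W => sv_secHom M σ W
  -- local analysis on an affine open with a generator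
  have hloc : ∀ (W : X.Opens) (hW : IsAffineOpen W) (e : Γ(M, W)) (he : IsGen M W e),
      ∃ c : Γ(X, W), sv s W = c • e ∧ c ∈ nonZeroDivisors Γ(X, W) ∧
        IsUnit (resf (X.basicOpen_le (resf (le_top : W ≤ ⊤) f)) c) := by
    intro W hW e he
    refine ⟨coef he le_rfl (sv s W), sv_eq_coef_smul s he, ?_⟩
    set c := coef he le_rfl (sv s W) with hc
    set fW := resf (le_top : W ≤ ⊤) f with hfW
    have hW'1 : X.basicOpen fW ≤ W := X.basicOpen_le fW
    have hW'2 : X.basicOpen fW ≤ X.basicOpen f := by
      rw [hfW, Scheme.basicOpen_res]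
      exact inf_le_right
    -- on `W' = W ∩ X_f` both `e` and `t` generate
    have he' : IsGen M (X.basicOpen fW) (res M hW'1 e) := he.mono hW'1
    have ht' : IsGen M (X.basicOpen fW) (res M hW'2 t) := ht.mono hW'2
    have hu := isUnit_coef_of_isGen he' ht'
    have hspec := coef_spec he' le_rfl (res M hW'2 t)
    rw [res_self] at hspec
    -- the coefficient of `s` on `W'`
    have h1 : res M hW'1 (sv s W) = resf hW'1 c • res M hW'1 e := by
      rw [sv_eq_coef_smul s he, res_smul]
    have h2 : res M hW'1 (sv s W) =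
        (resf (le_top : X.basicOpen fW ≤ ⊤) f ^ n * coef he' le_rfl (res M hW'2 t)) • res M hW'1 e := by
      rw [hsv, res_res, mul_smul, hspec]
      have h3 : res M (le_top : X.basicOpen fW ≤ ⊤) σ = res M hW'2 (res M le_top σ) := (res_res M _ _ σ).symm
      rw [h3, hσ, res_smul, resf_pow, resf_resf]
    have h4 : resf hW'1 c = resf (le_top : X.basicOpen fW ≤ ⊤) f ^ n * coef he' le_rfl (res M hW'2 t) := by
      apply (he' _ le_rfl).1
      simp only [res_self]
      rw [← h1, h2]
    have hfu : IsUnit (resf (le_top : X.basicOpen fW ≤ ⊤) f) := by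
      have h5 : resf (le_top : X.basicOpen fW ≤ ⊤) f = resf hW'1 fW := (resf_resf _ _ f).symm
      rw [h5]
      exact RingedSpace.isUnit_res_basicOpen _ fW
    have hcu : IsUnit (resf hW'1 c) := by
      rw [h4]
      exact (hfu.pow n).mul hu
    exact ⟨mem_nonZeroDivisors_of_isUnit_res hW fW c (hreg ⟨W, hW⟩) hcu, hcu⟩
  refine ⟨s, ?_, ?_, ?_⟩
  · apply Groth.Agent.Helper18OmLS.mono_of_injective_app_basis s _
      (Groth.Agent.Lib.T2H6.NegVan.isBasis_gen M hM)
    rintro W ⟨hW, e, he⟩ x y hxy
    obtain ⟨c, hc, hcreg, -⟩ := hloc W hW e he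
    have hx : s.app W (toS W (ofS W x)) = s.app W (toS W (ofS W y)) := hxy
    rw [app_toS, app_toS, hc, smul_smul, smul_smul] at hx
    have h1 : ofS W x * c = ofS W y * c := by
      apply (he W le_rfl).1
      simp only [res_self]
      exact hx
    exact congrArg (toS W) ((mul_cancel_right_mem_nonZeroDivisors hcreg).1 h1)
  · intro x
    obtain ⟨W, e, hxW, hW, he⟩ := exists_affine_gen M hM x
    obtain ⟨c, hc, hcreg, -⟩ := hloc W hW e he
    refine ⟨⟨W, hW⟩, hxW, c, hcreg, ?_⟩
    rw [zeroScheme_ideal M s hM ⟨W, hW⟩]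
    exact zI_eq_span M s he hc
  · intro x hx
    obtain ⟨W, e, hxW, hW, he⟩ := exists_affine_gen M hM x
    obtain ⟨c, hc, -, hcu⟩ := hloc W hW e he
    rw [Groth.Agent.Lib.T2H6.NegVan.mem_support_zeroScheme_iff M hM s he hc x hxW, not_not]
    have hx' : x ∈ X.basicOpen (resf (le_top : W ≤ ⊤) f) := by
      rw [Scheme.basicOpen_res]
      exact ⟨hxW, hx⟩
    have h1 : x ∈ X.basicOpen (resf (X.basicOpen_le (resf (le_top : W ≤ ⊤) f)) c) := by
      rw [Scheme.basicOpen_of_isUnit _ hcu]
      exact hx'
    rw [Scheme.basicOpen_res] at h1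
    exact h1.2

end Groth.Agent.Lib.T2H9.PicModelA
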