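import Groth.Agent.Lib.T2H9PicModelA
import Groth.Agent.Lib.T2H9ClMonoid
import Groth.Agent.Lib.T2H9ArInterJ
import Groth.Agent.Lib.Helper18PBUnit3
set_option backward.isDefEq.respectTransparency.types false

/-!
# T2H9PicModelB (helper9): an invertible module on a regular proper model that is trivial on the generic fibre is a
twist by vertical divisors
-/

set_option autoImplicit false
set_option linter.style.haveILetI false
set_option linter.unusedSectionVars false
universe u

open AlgebraicGeometry CategoryTheory Limits TopologicalSpace Opposite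

namespace Groth.Agent.Lib.T2H9.PicModelB

open Groth.Agent.Lib.Helper23.SecTw Groth.Agent.Lib.T2H4.FibreComp Groth.Agent.Lib.T2H9.ClMonoid Groth.Agent.Lib.Helper6

attribute [local instance] clMonoid

/-- a trivialisation of the pullback along an open immersion gives a generator over its range -/
theorem exists_isGen_opensRange {C X : Scheme.{u}} (g : C ⟶ X) [IsOpenImmersion g] (M : X.Modules)
    (e : Nonempty ((Scheme.Modules.pullback g).obj M ≅ Coh.structureModule C)) :
    ∃ t : Γ(M, g.opensRange), IsGen M g.opensRange t := by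
  obtain ⟨e⟩ := e
  apply Groth.Agent.Helper18PBUnit.exists_isGen_of_iso
  let h : (g.opensRange : Scheme.{u}) ⟶ C := g.isoOpensRange.inv
  have hh : h ≫ g = g.opensRange.ι := g.isoOpensRange_inv_comp
  let e1 : (Scheme.Modules.pullback g.opensRange.ι).obj M ≅ (Scheme.Modules.pullback (h ≫ g)).obj M :=
    (Scheme.Modules.pullbackCongr hh.symm).app M
  let e2 : (Scheme.Modules.pullback (h ≫ g)).obj M ≅
      (Scheme.Modules.pullback h).obj ((Scheme.Modules.pullback g).obj M) :=
    ((Scheme.Modules.pullbackComp h g).app M).symm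
  exact ⟨e1 ≪≫ e2 ≪≫ (Scheme.Modules.pullback h).mapIso e ≪≫
    Groth.Agent.Lib.Helper23.PB.pullbackUnitIso h⟩

variable {R : Type u} [CommRing R] [IsDomain R] [IsDiscreteValuationRing R]

/-- a prime of a DVR containing a uniformizer is the closed point -/
theorem eq_closedPoint_of_mem {ϖ : R} (hϖ : Irreducible ϖ) (q : PrimeSpectrum R) (h : ϖ ∈ q.asIdeal) :
    q = IsLocalRing.closedPoint R := by
  apply PrimeSpectrum.ext
  have hle : IsLocalRing.maximalIdeal R ≤ q.asIdeal := by
    rw [hϖ.maximalIdeal_eq, Ideal.span_singleton_le_iff_mem]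
    exact h
  exact ((IsLocalRing.maximalIdeal.isMaximal R).eq_of_le q.isPrime.ne_top hle).symm

variable {X : Over (Spec (CommRingCat.of R))}

theorem secHom_top_eq (ϖ : R) : Groth.Agent.Lib.T2H4.FibreComp.secHom R X ⊤ ϖ =
    X.hom.app ⊤ ((Scheme.ΓSpecIso (CommRingCat.of R)).inv ϖ) := by
  unfold Groth.Agent.Lib.T2H4.FibreComp.secHom
  simp only [RingHom.comp_apply]
  change (X.hom.appLE ⊤ ⊤ le_top).hom _ = _
  rw [Scheme.Hom.appLE]
  change (X.left.presheaf.map (𝟙 _)).hom _ = _
  rw [X.left.presheaf.map_id]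
  rfl

/-- the complement of `X_ϖ` is the closed fibre -/
theorem mem_specialFibreSet_of_notMem_basicOpen {ϖ : R} (hϖ : Irreducible ϖ) (x : X.left)
    (hx : x ∉ X.left.basicOpen (Groth.Agent.Lib.T2H4.FibreComp.secHom R X ⊤ ϖ)) : x ∈ Models.specialFibreSet R X := by
  unfold Models.specialFibreSet
  change X.hom.base x = IsLocalRing.closedPoint R
  apply eq_closedPoint_of_mem hϖ
  by_contra hmem
  apply hx
  have h1 : X.hom.base x ∈ (Spec (CommRingCat.of R)).basicOpen
      ((Scheme.ΓSpecIso (CommRingCat.of R)).inv ϖ) := by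
    rw [basicOpen_eq_of_affine]
    exact hmem
  have h2 : x ∈ X.hom ⁻¹ᵁ (Spec (CommRingCat.of R)).basicOpen
      ((Scheme.ΓSpecIso (CommRingCat.of R)).inv ϖ) := h1
  rw [Scheme.preimage_basicOpen] at h2
  rw [secHom_top_eq]
  exact h2

variable [IsProper X.hom] [Flat X.hom] [IsLocallyNoetherian X.left]

/-- **an invertible module with a generator over `X_ϖ` is a twist by vertical divisors** -/
theorem exists_multiTwist_iso (hreg : Models.IsRegularScheme X.left)
    {n : ℕ} (Γ : Fin n → ArSurf.VertComp R X) (hΓ : Models.IsComponentList R X Γ)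
    (L : Fin n → X.left.Modules) (hL : ∀ j, ClSub.IsInverseOf (L j) (ClSub.idealMod (Γ j).ι.ker))
    (M : X.left.Modules) (hM : PicF.IsInvertible M) {ϖ : R} (hϖ : Irreducible ϖ)
    (t : Γ(M, X.left.basicOpen (Groth.Agent.Lib.T2H4.FibreComp.secHom R X ⊤ ϖ)))
    (ht : IsGen M (X.left.basicOpen (Groth.Agent.Lib.T2H4.FibreComp.secHom R X ⊤ ϖ)) t) :
    ∃ b : Fin n → ℕ, Nonempty (M ≅ FGA.multiTwist L b) := by
  classical
  haveI : CompactSpace X.left := (quasiCompact_iff_compactSpace X.hom).mp inferInstance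
  haveI : QuasiSeparatedSpace X.left := quasiSeparatedSpace_of_quasiSeparated X.hom
  haveI : IsNoetherian X.left := { }
  have hfreg : ∀ V : X.left.affineOpens,
      resf (le_top : V.1 ≤ ⊤) (Groth.Agent.Lib.T2H4.FibreComp.secHom R X ⊤ ϖ) ∈
        nonZeroDivisors Γ(X.left, V.1) := by
    intro V
    rw [Groth.Agent.Lib.T2H9.ArInterB.resf_secHom]
    exact secHom_mem_nonZeroDivisors R X V ϖ hϖ.ne_zero
  obtain ⟨s, hmono, hcart, hsupp⟩ :=
    Groth.Agent.Lib.T2H9.PicModelA.exists_section_of_isGen_basicOpen M hM _ hfreg t ht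
  haveI := hmono
  have hsub : ((PicF2.zeroScheme M s).support : Set X.left) ⊆ ⋃ i, (((Γ i).ι.ker).support : Set X.left) := by
    intro x hx
    have h1 : x ∈ Models.specialFibreSet R X :=
      mem_specialFibreSet_of_notMem_basicOpen hϖ x (fun h => hsupp x h hx)
    rw [Groth.Agent.Lib.T2H9.ArInterJ.specialFibreSet_eq_iUnion Γ hΓ] at h1
    obtain ⟨i, hi⟩ := Set.mem_iUnion.1 h1
    refine Set.mem_iUnion.2 ⟨i, ?_⟩
    rw [coe_support_ker]
    exact hi
  obtain ⟨b, hb⟩ := Groth.Agent.Lib.T2H4.EffCartProd.exists_exponents_fin (PicF2.zeroScheme M s) hcart n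
    (fun i => (Γ i).ι.ker)
    (fun i => isEffCartierIdeal_ker hreg (Γ i) (range_mem_fibreComponents Γ hΓ i))
    (fun i => isIntegral_ker_subscheme (Γ i)) hsub
  refine ⟨b, nonempty_iso_of_cl_eq ?_⟩
  obtain ⟨e⟩ := Groth.Agent.Lib.T2H6.NegVan.nonempty_tensor_idealMod_zeroScheme_iso M hM s
  have h1 : PicF.cl (ClSub.idealMod (PicF2.zeroScheme M s)) * PicF.cl M = 1 := cl_eq_of_iso e
  have hI : ∀ i, PicF.IsInvertible (ClSub.idealMod (Γ i).ι.ker) := fun i =>
    Groth.Agent.Lib.T2H9.ArInterF.isInvertible_idealMod_ker hreg Γ hΓ i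
  have h2 := (isInvertible_and_cl_idealMod_prod_pow Finset.univ (fun i => (Γ i).ι.ker) hI b).2
  rw [← hb] at h2
  have h3 : (∏ j, PicF.cl (L j) ^ b j) * (∏ j, PicF.cl (ClSub.idealMod (Γ j).ι.ker) ^ b j) = 1 :=
    prod_pow_mul_prod_pow_eq_one Finset.univ _ _ (fun j => (isInverseOf_iff _ _).1 (hL j)) b
  rw [cl_multiTwist]
  refine eq_of_mul_eq_one_of_mul_eq_one (z := PicF.cl (ClSub.idealMod (PicF2.zeroScheme M s))) ?_ ?_
  · rw [mul_comm]; exact h1
  · rw [h2]; exact h3

omit [IsProper X.hom] [Flat X.hom] [IsLocallyNoetherian X.left] in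
/-- `X_ϖ` is contained in the generic fibre -/
theorem basicOpen_le_opensRange {C : Scheme.{u}} (f : C ⟶ Spec (CommRingCat.of (FractionRing R))) (g : C ⟶ X.left)
    (hg : IsPullback g f X.hom (Spec.map (CommRingCat.ofHom (algebraMap R (FractionRing R)))))
    [IsOpenImmersion g] {ϖ : R} (hϖ : Irreducible ϖ) :
    X.left.basicOpen (Groth.Agent.Lib.T2H4.FibreComp.secHom R X ⊤ ϖ) ≤ g.opensRange := by
  haveI := Groth.Agent.Lib.T2H9.ModelConn.isLocalization_away R hϖ (FractionRing R)
  intro z hz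
  rw [secHom_top_eq] at hz
  have hz' : z ∈ X.hom ⁻¹ᵁ (Spec (CommRingCat.of R)).basicOpen
      ((Scheme.ΓSpecIso (CommRingCat.of R)).inv ϖ) := by
    rw [Scheme.preimage_basicOpen]; exact hz
  have hz2 : X.hom.base z ∈ (Spec (CommRingCat.of R)).basicOpen
      ((Scheme.ΓSpecIso (CommRingCat.of R)).inv ϖ) := hz'
  rw [basicOpen_eq_of_affine] at hz2
  have hr : X.hom.base z ∈ Set.range
      (Spec.map (CommRingCat.ofHom (algebraMap R (FractionRing R)))).base := by
    have := PrimeSpectrum.localization_away_comap_range (FractionRing R) ϖ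
    change X.hom.base z ∈ Set.range (PrimeSpectrum.comap (algebraMap R (FractionRing R)))
    rw [this]
    exact hz2
  have : z ∈ Set.range g.base := by
    rw [Groth.Agent.Lib.T2H9.ModelConn.range_eq_preimage R X.hom f g hg]; exact hr
  exact this

omit [IsProper X.hom] [Flat X.hom] [IsLocallyNoetherian X.left] in
theorem isOpenImmersion_of_isPullback {C : Scheme.{u}} (f : C ⟶ Spec (CommRingCat.of (FractionRing R)))
    (g : C ⟶ X.left)
    (hg : IsPullback g f X.hom (Spec.map (CommRingCat.ofHom (algebraMap R (FractionRing R))))) :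
    IsOpenImmersion g := by
  obtain ⟨ϖ, hϖ⟩ := IsDiscreteValuationRing.exists_irreducible R
  haveI := Groth.Agent.Lib.T2H9.ModelConn.isLocalization_away R hϖ (FractionRing R)
  haveI : IsOpenImmersion (Spec.map (CommRingCat.ofHom (algebraMap R (FractionRing R)))) :=
    IsOpenImmersion.of_isLocalization ϖ
  exact MorphismProperty.of_isPullback hg.flip inferInstance

/-- **an invertible module on a regular proper model, trivial on the generic fibre, is a vertical twist** -/
theorem exists_multiTwist_of_trivial (hreg : Models.IsRegularScheme X.left)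
    {n : ℕ} (Γ : Fin n → ArSurf.VertComp R X) (hΓ : Models.IsComponentList R X Γ)
    (L : Fin n → X.left.Modules) (hL : ∀ j, ClSub.IsInverseOf (L j) (ClSub.idealMod (Γ j).ι.ker))
    (M : X.left.Modules) (hM : PicF.IsInvertible M)
    {C : Scheme.{u}} (f : C ⟶ Spec (CommRingCat.of (FractionRing R))) (g : C ⟶ X.left)
    (hg : IsPullback g f X.hom (Spec.map (CommRingCat.ofHom (algebraMap R (FractionRing R)))))
    (htriv : Nonempty ((Scheme.Modules.pullback g).obj M ≅ Coh.structureModule C)) :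
    ∃ b : Fin n → ℕ, Nonempty (M ≅ FGA.multiTwist L b) := by
  obtain ⟨ϖ, hϖ⟩ := IsDiscreteValuationRing.exists_irreducible R
  haveI := isOpenImmersion_of_isPullback f g hg
  obtain ⟨t, ht⟩ := exists_isGen_opensRange g M htriv
  have hle := basicOpen_le_opensRange f g hg hϖ
  exact exists_multiTwist_iso hreg Γ hΓ L hL M hM hϖ _ (ht.mono hle)

end Groth.Agent.Lib.T2H9.PicModelB
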