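import Groth.Agent.Lib.T2H9PicModelB
import Groth.Agent.Lib.T2H9ArInterM
set_option backward.isDefEq.respectTransparency.types false

/-!
# T2H9PicModelC (helper9): the subgroup of `Pic X` generated by the components of the closed fibre of a regular proper
model: degrees of `multiTwist`, the fibre is trivial, and `M^{⊗ d} ≅ O` for `M` vertical of degree zero
-/

set_option autoImplicit false
set_option linter.style.haveILetI false
set_option linter.unusedSectionVars false
universe u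

open AlgebraicGeometry CategoryTheory Limits TopologicalSpace Opposite

namespace Groth.Agent.Lib.T2H9.PicModelC

open Groth.Agent.Lib.T2H4.FibreComp Groth.Agent.Lib.T2H9.ClMonoid Groth.Agent.Lib.T2H9.ArInterA

attribute [local instance] clMonoid

theorem exists_nat_mul_eq {n : ℕ} (b m : Fin n → ℕ) (hm : ∀ i, 0 < m i) (c : ℚ)
    (h : ∀ i, (b i : ℚ) = c * m i) :
    ∃ k : ℕ, ∀ i, (Finset.univ.gcd m) * b i = k * m i := by
  rcases Nat.eq_zero_or_pos n with hn | hn
  · subst hn
    exact ⟨0, fun i => i.elim0⟩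
  have hc : 0 ≤ c := by
    have h0 := h ⟨0, hn⟩
    have hm0 : (0 : ℚ) < m ⟨0, hn⟩ := by exact_mod_cast hm ⟨0, hn⟩
    have : c = b ⟨0, hn⟩ / m ⟨0, hn⟩ := by
      rw [h0, mul_div_assoc, div_self hm0.ne', mul_one]
    rw [this]
    positivity
  have hnum : 0 ≤ c.num := Rat.num_nonneg.2 hc
  obtain ⟨r, hr⟩ := Int.eq_ofNat_of_zero_le hnum
  have key : ∀ i, b i * c.den = r * m i := by
    intro i
    have h1 : (b i : ℚ) * c.den = c.num * m i := by
      rw [h i, mul_right_comm, Rat.mul_den_eq_num]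
    rw [hr] at h1
    exact_mod_cast h1
  have hcop : Nat.Coprime r c.den := by
    have := c.reduced
    rw [hr] at this
    simpa using this
  have hdvd : ∀ i, c.den ∣ m i := by
    intro i
    have h1 : c.den ∣ r * m i := ⟨b i, by rw [← key i, mul_comm]⟩
    exact hcop.symm.dvd_of_dvd_mul_left h1
  obtain ⟨d', hd'⟩ : c.den ∣ Finset.univ.gcd m := Finset.dvd_gcd fun i _ => hdvd i
  refine ⟨r * d', fun i => ?_⟩
  rw [hd']
  calc c.den * d' * b i = d' * (b i * c.den) := by ring
    _ = d' * (r * m i) := by rw [key i]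
    _ = r * d' * m i := by ring

/-- `⊗ L_j^{a_j}` is inverse to the ideal module of `∏ I_j^{a_j}` -/
theorem isInverseOf_multiTwist {Y : Scheme.{u}} {n : ℕ} (L : Fin n → Y.Modules) (I : Fin n → Y.IdealSheafData)
    (hI : ∀ j, PicF.IsInvertible (ClSub.idealMod (I j)))
    (hL : ∀ j, ClSub.IsInverseOf (L j) (ClSub.idealMod (I j))) (a : Fin n → ℕ) :
    PicF.IsInvertible (ClSub.idealMod (∏ j, I j ^ a j)) ∧
      ClSub.IsInverseOf (FGA.multiTwist L a) (ClSub.idealMod (∏ j, I j ^ a j)) := by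
  classical
  obtain ⟨h1, h2⟩ := isInvertible_and_cl_idealMod_prod_pow Finset.univ I hI a
  refine ⟨h1, ?_⟩
  rw [isInverseOf_iff, cl_multiTwist, h2]
  exact prod_pow_mul_prod_pow_eq_one Finset.univ _ _ (fun j => (isInverseOf_iff _ _).1 (hL j)) a

variable {R : Type u} [CommRing R] [IsDomain R] [IsDiscreteValuationRing R]
  {X : Over (Spec (CommRingCat.of R))} [IsProper X.hom]

/-- the degree of a vertical twist on a vertical curve -/
theorem inter_multiTwist {n : ℕ} (L : Fin n → X.left.Modules) (I : Fin n → X.left.IdealSheafData)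
    (hI : ∀ j, PicF.IsInvertible (ClSub.idealMod (I j)))
    (hL : ∀ j, ClSub.IsInverseOf (L j) (ClSub.idealMod (I j))) (a : Fin n → ℕ) (Γ' : ArSurf.VertComp R X) :
    ArSurf.inter R X (FGA.multiTwist L a) Γ' = ∑ j, (a j : ℤ) * ArSurf.inter R X (L j) Γ' := by
  classical
  obtain ⟨h1, h2⟩ := isInverseOf_multiTwist L I hI hL a
  rw [inter_of_isInverseOf Γ' h2 h1,
    (isInvertible_and_inter_idealMod_prod_pow Γ' Finset.univ I hI a).2, ← Finset.sum_neg_distrib]
  refine Finset.sum_congr rfl fun j _ => ?_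
  rw [inter_of_isInverseOf Γ' (hL j) (hI j)]
  ring

variable [Flat X.hom] [IsLocallyNoetherian X.left]

/-- the closed fibre is trivial in `Pic X` -/
theorem prod_cl_pow_mult (hreg : Models.IsRegularScheme X.left)
    {n : ℕ} (Γ : Fin n → ArSurf.VertComp R X) (hΓ : Models.IsComponentList R X Γ)
    (L : Fin n → X.left.Modules) (hL : ∀ j, ClSub.IsInverseOf (L j) (ClSub.idealMod (Γ j).ι.ker)) :
    ∏ j, PicF.cl (L j) ^ Models.mult R X (Γ j) = 1 := by
  classical
  haveI : CompactSpace X.left := QuasiCompact.compactSpace_of_compactSpace X.hom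
  obtain ⟨-, hprod⟩ := Groth.Agent.Lib.T2H4.FibreComp.specialFibreIdeal_eq_prod hreg Γ hΓ
  have hI : ∀ i, PicF.IsInvertible (ClSub.idealMod (Γ i).ι.ker) := fun i =>
    Groth.Agent.Lib.T2H9.ArInterF.isInvertible_idealMod_ker hreg Γ hΓ i
  obtain ⟨e⟩ := Groth.Agent.Lib.T2H9.ArInterB.nonempty_idealMod_specialFibreIdeal_iso (R := R) (X := X)
  have h1 : PicF.cl (ClSub.idealMod (∏ i, (Γ i).ι.ker ^ Models.mult R X (Γ i))) = 1 := by
    rw [← hprod]
    exact cl_eq_of_iso e
  have h2 := (isInverseOf_multiTwist L (fun j => (Γ j).ι.ker) hI hL (fun j => Models.mult R X (Γ j))).2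
  rw [isInverseOf_iff, h1, mul_one, cl_multiTwist] at h2
  exact h2

/-- the kernel of the intersection matrix, for a regular proper model with connected closed fibre -/
theorem ker_inter_form (hconn : _root_.IsConnected (Models.specialFibreSet R X))
    (hreg : Models.IsRegularScheme X.left)
    {n : ℕ} (Γ : Fin n → ArSurf.VertComp R X) (hΓ : Models.IsComponentList R X Γ)
    (L : Fin n → X.left.Modules) (hL : ∀ j, ClSub.IsInverseOf (L j) (ClSub.idealMod (Γ j).ι.ker))
    (a : Fin n → ℤ) :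
    (∀ i, ∑ j, a j * ArSurf.inter R X (L j) (Γ i) = 0) ↔
      ∃ c : ℚ, ∀ i, (a i : ℚ) = c * (Models.mult R X (Γ i) : ℚ) := by
  have hm : ∀ i, 0 < Models.mult R X (Γ i) := Groth.Agent.Lib.T2H9.ArInterL.mult_pos hreg Γ hΓ
  have hsymm : ∀ i j, ArSurf.inter R X (L j) (Γ i) = ArSurf.inter R X (L i) (Γ j) :=
    Groth.Agent.Lib.T2H9.ArInterH.inter_symm hreg Γ hΓ L hL
  have hoff : ∀ i j, i ≠ j → 0 ≤ ArSurf.inter R X (L j) (Γ i) := fun i j hij =>
    (Groth.Agent.Lib.T2H9.ArInterF.inter_offDiag hreg Γ hΓ L hL hij).1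
  have hker : ∀ i, ∑ j, (Models.mult R X (Γ j) : ℤ) * ArSurf.inter R X (L j) (Γ i) = 0 := fun i =>
    Groth.Agent.Lib.T2H9.ArInterB.sum_mult_mul_inter hreg Γ hΓ L hL (Γ i)
  have hcn := Groth.Agent.Lib.T2H9.ArInterJ.exists_inter_ne_zero hconn hreg Γ hΓ L hL
  exact Groth.Agent.Lib.T2H9.ArInterM.ker_iff (A := fun i j => ArSurf.inter R X (L j) (Γ i))
    hm hsymm hoff hker hcn a

/-- the ideal module of a component of the closed fibre has an inverse -/
theorem exists_isInverseOf_idealMod_ker (hreg : Models.IsRegularScheme X.left)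
    {n : ℕ} (Γ : Fin n → ArSurf.VertComp R X) (hΓ : Models.IsComponentList R X Γ) (j : Fin n) :
    ∃ L : X.left.Modules, ClSub.IsInverseOf L (ClSub.idealMod (Γ j).ι.ker) := by
  classical
  haveI : CompactSpace X.left := QuasiCompact.compactSpace_of_compactSpace X.hom
  obtain ⟨-, hprod⟩ := Groth.Agent.Lib.T2H4.FibreComp.specialFibreIdeal_eq_prod hreg Γ hΓ
  have hI : ∀ i, PicF.IsInvertible (ClSub.idealMod (Γ i).ι.ker) := fun i =>
    Groth.Agent.Lib.T2H9.ArInterF.isInvertible_idealMod_ker hreg Γ hΓ i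
  have hm : 0 < Models.mult R X (Γ j) := Groth.Agent.Lib.T2H9.ArInterL.mult_pos hreg Γ hΓ j
  obtain ⟨e⟩ := Groth.Agent.Lib.T2H9.ArInterB.nonempty_idealMod_specialFibreIdeal_iso (R := R) (X := X)
  set m : Fin n → ℕ := fun i => Models.mult R X (Γ i) with hmdef
  have h1 : PicF.cl (ClSub.idealMod (∏ i, (Γ i).ι.ker ^ m i)) = 1 := by
    rw [← hprod]
    exact cl_eq_of_iso e
  refine ⟨ClSub.idealMod (∏ i, (Γ i).ι.ker ^ (Function.update m j (m j - 1)) i), ?_⟩
  rw [isInverseOf_iff,
    (isInvertible_and_cl_idealMod_prod_pow Finset.univ (fun i => (Γ i).ι.ker) hI _).2]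
  rw [(isInvertible_and_cl_idealMod_prod_pow Finset.univ (fun i => (Γ i).ι.ker) hI m).2] at h1
  rw [← h1, ← Finset.mul_prod_erase Finset.univ _ (Finset.mem_univ j),
    ← Finset.mul_prod_erase Finset.univ (fun i => PicF.cl (ClSub.idealMod (Γ i).ι.ker) ^ m i)
      (Finset.mem_univ j), Function.update_self]
  have h2 : ∏ i ∈ Finset.univ.erase j,
      PicF.cl (ClSub.idealMod (Γ i).ι.ker) ^ (Function.update m j (m j - 1)) i =
      ∏ i ∈ Finset.univ.erase j, PicF.cl (ClSub.idealMod (Γ i).ι.ker) ^ m i := by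
    refine Finset.prod_congr rfl fun i hi => ?_
    rw [Function.update_of_ne (Finset.ne_of_mem_erase hi)]
  rw [h2, mul_right_comm, ← pow_succ, Nat.sub_add_cancel hm]

/-- **a vertical invertible module of degree zero on every component is killed by the gcd of the multiplicities** -/
theorem nonempty_tensorPow_multGcd_iso (hconn : _root_.IsConnected (Models.specialFibreSet R X))
    (hreg : Models.IsRegularScheme X.left)
    {n : ℕ} (Γ : Fin n → ArSurf.VertComp R X) (hΓ : Models.IsComponentList R X Γ)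
    (M : X.left.Modules) (hM : PicF.IsInvertible M)
    {C : Scheme.{u}} (f : C ⟶ Spec (CommRingCat.of (FractionRing R))) (g : C ⟶ X.left)
    (hg : IsPullback g f X.hom (Spec.map (CommRingCat.ofHom (algebraMap R (FractionRing R)))))
    (htriv : Nonempty ((Scheme.Modules.pullback g).obj M ≅ Coh.structureModule C))
    (hdeg : ∀ i, ArSurf.inter R X M (Γ i) = 0) :
    Nonempty (CohB1.tensorPow M (Models.multGcd R X Γ) ≅ Coh.structureModule X.left) := by
  choose L hL using exists_isInverseOf_idealMod_ker hreg Γ hΓ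
  have hI : ∀ i, PicF.IsInvertible (ClSub.idealMod (Γ i).ι.ker) := fun i =>
    Groth.Agent.Lib.T2H9.ArInterF.isInvertible_idealMod_ker hreg Γ hΓ i
  have hm : ∀ i, 0 < Models.mult R X (Γ i) := Groth.Agent.Lib.T2H9.ArInterL.mult_pos hreg Γ hΓ
  obtain ⟨b, ⟨e⟩⟩ := Groth.Agent.Lib.T2H9.PicModelB.exists_multiTwist_of_trivial hreg Γ hΓ L hL M hM f g hg htriv
  have hb : ∀ i, ∑ j, ((b j : ℕ) : ℤ) * ArSurf.inter R X (L j) (Γ i) = 0 := by
    intro i
    rw [← inter_multiTwist L (fun j => (Γ j).ι.ker) hI hL b (Γ i), ← inter_eq_of_iso (Γ i) e]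
    exact hdeg i
  obtain ⟨c, hc⟩ := (ker_inter_form hconn hreg Γ hΓ L hL (fun j => ((b j : ℕ) : ℤ))).1 hb
  obtain ⟨k, hk⟩ := exists_nat_mul_eq b (fun i => Models.mult R X (Γ i)) hm c (fun i => by
    have := hc i
    push_cast at this
    exact this)
  apply nonempty_iso_of_cl_eq
  rw [cl_tensorPow, cl_eq_of_iso e, cl_multiTwist, cl_structureModule, ← Finset.prod_pow]
  have h1 : ∀ j, (PicF.cl (L j) ^ b j) ^ Models.multGcd R X Γ =
      (PicF.cl (L j) ^ Models.mult R X (Γ j)) ^ k := by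
    intro j
    rw [← pow_mul, ← pow_mul, mul_comm (b j), mul_comm _ k]
    exact congrArg _ (hk j)
  rw [Finset.prod_congr rfl fun j _ => h1 j, Finset.prod_pow, prod_cl_pow_mult hreg Γ hΓ L hL, one_pow]

end Groth.Agent.Lib.T2H9.PicModelC
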