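import Groth.Agent.Lib.T2H9PicModelC
import Groth.Agent.Lib.Helper23RestrTensor
set_option backward.isDefEq.respectTransparency.types false

/-!
# T2H9PicModelD (helper9): pullback of classes as a monoid homomorphism; torsion classes trivial on the generic fibre
-/

set_option autoImplicit false
set_option linter.style.haveILetI false
set_option linter.unusedSectionVars false
universe u

open AlgebraicGeometry CategoryTheory Limits TopologicalSpace Opposite

namespace Groth.Agent.Lib.T2H9.PicModelD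

open Groth.Agent.Lib.T2H4.FibreComp Groth.Agent.Lib.T2H9.ClMonoid Groth.Agent.Lib.T2H9.ArInterA
  Groth.Agent.Lib.T2H9.PicModelC

attribute [local instance] clMonoid

/-- pullback of isomorphism classes, as a monoid homomorphism -/
noncomputable def pullClHom {Y Y' : Scheme.{u}} (g : Y' ⟶ Y) : PicF.Cl Y →* PicF.Cl Y' where
  toFun := PicF.pullCl g
  map_one' := Quot.sound ⟨Groth.Agent.Lib.Helper23.PB.pullbackUnitIso g⟩
  map_mul' := by
    rintro ⟨A⟩ ⟨B⟩
    exact Quot.sound ⟨Groth.Agent.Lib.Helper23.RestrTensor.pullbackTensorIso A B g⟩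

theorem pullClHom_cl {Y Y' : Scheme.{u}} (g : Y' ⟶ Y) (M : Y.Modules) :
    pullClHom g (PicF.cl M) = PicF.cl ((Scheme.Modules.pullback g).obj M) := rfl

variable {R : Type u} [CommRing R] [IsDomain R] [IsDiscreteValuationRing R]
  {X : Over (Spec (CommRingCat.of R))} [IsProper X.hom]

theorem inter_tensorPow (M : X.left.Modules) (hM : PicF.IsInvertible M) (k : ℕ) (Γ' : ArSurf.VertComp R X) :
    ArSurf.inter R X (CohB1.tensorPow M k) Γ' = k * ArSurf.inter R X M Γ' := by
  induction k with
  | zero =>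
    rw [Nat.cast_zero, zero_mul]
    exact inter_structureModule Γ'
  | succ k ih =>
    change ArSurf.inter R X (CohB1.tensorMod (CohB1.tensorPow M k) M) Γ' = _
    rw [inter_tensorMod Γ' _ _ (Groth.Agent.Lib.Helper23.SecTw.isInvertible_tensorPow hM k) hM, ih]
    push_cast
    ring

variable [Flat X.hom] [IsLocallyNoetherian X.left]

/-- **`Pic(X)[h] → Pic(C)[h]` is injective for `h` prime to the gcd of the multiplicities** -/
theorem nonempty_iso_of_tensorPow_of_coprime (hconn : _root_.IsConnected (Models.specialFibreSet R X))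
    (hreg : Models.IsRegularScheme X.left)
    {n : ℕ} (Γ : Fin n → ArSurf.VertComp R X) (hΓ : Models.IsComponentList R X Γ)
    (M : X.left.Modules) (hM : PicF.IsInvertible M)
    {C : Scheme.{u}} (f : C ⟶ Spec (CommRingCat.of (FractionRing R))) (g : C ⟶ X.left)
    (hg : IsPullback g f X.hom (Spec.map (CommRingCat.ofHom (algebraMap R (FractionRing R)))))
    (htriv : Nonempty ((Scheme.Modules.pullback g).obj M ≅ Coh.structureModule C))
    (h : ℕ) (hh : 0 < h) (hcop : Nat.Coprime h (Models.multGcd R X Γ))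
    (htors : Nonempty (CohB1.tensorPow M h ≅ Coh.structureModule X.left)) :
    Nonempty (M ≅ Coh.structureModule X.left) := by
  obtain ⟨e⟩ := htors
  have hdeg : ∀ i, ArSurf.inter R X M (Γ i) = 0 := by
    intro i
    have h1 := inter_tensorPow M hM h (Γ i)
    rw [inter_eq_of_iso (Γ i) e, inter_structureModule] at h1
    have hh' : (h : ℤ) ≠ 0 := by exact_mod_cast hh.ne'
    exact (mul_eq_zero.1 h1.symm).resolve_left hh'
  obtain ⟨e'⟩ := nonempty_tensorPow_multGcd_iso hconn hreg Γ hΓ M hM f g hg htriv hdeg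
  apply nonempty_iso_of_cl_eq
  have h1 : PicF.cl M ^ h = 1 := by rw [← cl_tensorPow]; exact cl_eq_of_iso e
  have h2 : PicF.cl M ^ Models.multGcd R X Γ = 1 := by rw [← cl_tensorPow]; exact cl_eq_of_iso e'
  have h3 := pow_gcd_eq_one.2 ⟨h1, h2⟩
  rw [Nat.Coprime.gcd_eq_one hcop, pow_one] at h3
  exact h3

/-- the closed fibre is trivial in `Pic X` (ideal form) -/
theorem prod_cl_idealMod_pow_mult (hreg : Models.IsRegularScheme X.left)
    {n : ℕ} (Γ : Fin n → ArSurf.VertComp R X) (hΓ : Models.IsComponentList R X Γ) :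
    ∏ j, PicF.cl (ClSub.idealMod (Γ j).ι.ker) ^ Models.mult R X (Γ j) = 1 := by
  classical
  haveI : CompactSpace X.left := QuasiCompact.compactSpace_of_compactSpace X.hom
  obtain ⟨-, hprod⟩ := Groth.Agent.Lib.T2H4.FibreComp.specialFibreIdeal_eq_prod hreg Γ hΓ
  have hI : ∀ i, PicF.IsInvertible (ClSub.idealMod (Γ i).ι.ker) := fun i =>
    Groth.Agent.Lib.T2H9.ArInterF.isInvertible_idealMod_ker hreg Γ hΓ i
  obtain ⟨e⟩ := Groth.Agent.Lib.T2H9.ArInterB.nonempty_idealMod_specialFibreIdeal_iso (R := R) (X := X)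
  rw [← (isInvertible_and_cl_idealMod_prod_pow Finset.univ (fun i => (Γ i).ι.ker) hI
    (fun j => Models.mult R X (Γ j))).2, ← hprod]
  exact cl_eq_of_iso e

/-- **`O_X(D)` and the conormal sheaf of `D = (1/d)·X_s` have order dividing `d`** -/
theorem order_dvd_multGcd (hreg : Models.IsRegularScheme X.left)
    {n : ℕ} (Γ : Fin n → ArSurf.VertComp R X) (hΓ : Models.IsComponentList R X Γ)
    (L : X.left.Modules)
    (hL : ClSub.IsInverseOf L (ClSub.idealMod
      (∏ i, (Γ i).ι.ker ^ (Models.mult R X (Γ i) / Models.multGcd R X Γ)))) :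
    Nonempty (CohB1.tensorPow L (Models.multGcd R X Γ) ≅ Coh.structureModule X.left) ∧
      Nonempty (CohB1.tensorPow ((Scheme.Modules.pullback
          (∏ i, (Γ i).ι.ker ^ (Models.mult R X (Γ i) / Models.multGcd R X Γ)).subschemeι).obj
          (ClSub.idealMod (∏ i, (Γ i).ι.ker ^ (Models.mult R X (Γ i) / Models.multGcd R X Γ))))
          (Models.multGcd R X Γ) ≅
        Coh.structureModule (∏ i, (Γ i).ι.ker ^ (Models.mult R X (Γ i) / Models.multGcd R X Γ)).subscheme) := by
  classical
  have hI : ∀ i, PicF.IsInvertible (ClSub.idealMod (Γ i).ι.ker) := fun i =>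
    Groth.Agent.Lib.T2H9.ArInterF.isInvertible_idealMod_ker hreg Γ hΓ i
  set J := ∏ i, (Γ i).ι.ker ^ (Models.mult R X (Γ i) / Models.multGcd R X Γ) with hJ
  have h1 : PicF.cl (ClSub.idealMod J) ^ Models.multGcd R X Γ = 1 := by
    rw [hJ, (isInvertible_and_cl_idealMod_prod_pow Finset.univ (fun i => (Γ i).ι.ker) hI _).2,
      ← Finset.prod_pow, ← prod_cl_idealMod_pow_mult hreg Γ hΓ]
    refine Finset.prod_congr rfl fun i _ => ?_
    rw [← pow_mul]
    congr 1
    exact Nat.div_mul_cancel (Finset.gcd_dvd (Finset.mem_univ i))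
  constructor
  · apply nonempty_iso_of_cl_eq
    rw [cl_tensorPow, cl_structureModule]
    have h2 := (isInverseOf_iff _ _).1 hL
    calc PicF.cl L ^ Models.multGcd R X Γ
        = PicF.cl L ^ Models.multGcd R X Γ * PicF.cl (ClSub.idealMod J) ^ Models.multGcd R X Γ := by
          rw [h1, mul_one]
      _ = 1 := by rw [← mul_pow, h2, one_pow]
  · apply nonempty_iso_of_cl_eq
    rw [cl_tensorPow, cl_structureModule, ← pullClHom_cl, ← map_pow, h1, map_one]

end Groth.Agent.Lib.T2H9.PicModelD
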