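import Groth.Agent.Lib.T2H9PicModelD
import Groth.Agent.Lib.Helper23SecTw6
set_option backward.isDefEq.respectTransparency.types false

/-!
# T2H9PicModelE (helper9): the ideal module of a closed subscheme is trivial on an open subscheme missing it; the
modules `O_X(Γ_j)` are trivial on the generic fibre
-/

set_option autoImplicit false
set_option linter.style.haveILetI false
set_option linter.unusedSectionVars false
universe u

open AlgebraicGeometry CategoryTheory Limits TopologicalSpace Opposite

namespace Groth.Agent.Lib.T2H9.PicModelE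

open Groth.Agent.Lib.Helper23.SecTw Groth.Agent.Lib.Helper23.GenLocus Groth.Agent.Lib.Helper6 Groth.Agent.Lib.T2H4.AmpleCartier
  Groth.Agent.Lib.T2H9.IdealProd Groth.Agent.Lib.T2H9.ClMonoid Groth.Agent.Lib.T2H9.PicModelD

attribute [local instance] clMonoid

section general

variable {X : Scheme.{u}}

/-- on an open set missing the support, the ideal module has a generator mapping to `1` -/
theorem exists_isGen_of_disjoint (I : X.IdealSheafData) (U : X.Opens)
    (hU : ∀ x ∈ U, x ∉ I.support) : ∃ a : Γ(ClSub.idealMod I, U), IsGen (ClSub.idealMod I) U a := by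
  have h0 : (ClSub.toSubscheme I).app U (toS U 1) = 0 := by
    refine toSubscheme_app_eq_zero_of_forall I U 1 fun V hV => ?_
    have h1 : I.ideal V = ⊤ := by
      by_contra hne
      obtain ⟨y, hyV, hy⟩ := (Groth.Agent.Lib.T2H4.EffCartProd.ideal_ne_top_iff I V).1 hne
      exact hU y (hV hyV) hy
    rw [h1]
    exact Submodule.mem_top
  obtain ⟨a, ha⟩ : ∃ a : Γ(ClSub.idealMod I, U), ιf I U a = 1 :=
    ⟨OmegaSh.kerLift (ClSub.toSubscheme I) U (toS U 1) h0,
      congrArg (ofS U) (OmegaSh.ι_kerLift (ClSub.toSubscheme I) U (toS U 1) h0)⟩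
  refine ⟨a, fun W hW => ⟨?_, ?_⟩⟩
  · intro r r' hrr
    have h1 := congrArg (ιf I W) hrr
    simp only [ιf_smul, ιf_res, ha, map_one, mul_one] at h1
    exact h1
  · intro b
    refine ⟨ιf I W b, ιf_injective I W ?_⟩
    simp only [ιf_smul, ιf_res, ha, map_one, mul_one]

/-- a generator over the range of an open immersion trivialises the pullback -/
theorem nonempty_pullback_iso_of_isGen {C : Scheme.{u}} (g : C ⟶ X) [IsOpenImmersion g] (M : X.Modules)
    (t : Γ(M, g.opensRange)) (ht : IsGen M g.opensRange t) :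
    Nonempty ((Scheme.Modules.pullback g).obj M ≅ Coh.structureModule C) := by
  obtain ⟨ε⟩ := nonempty_restrict_iso_of_isGen M g.opensRange t ht
  let h : C ⟶ (g.opensRange : Scheme.{u}) := g.isoOpensRange.hom
  have hh : h ≫ g.opensRange.ι = g := g.isoOpensRange_hom_ι
  let e1 : (Scheme.Modules.pullback g).obj M ≅ (Scheme.Modules.pullback (h ≫ g.opensRange.ι)).obj M :=
    (Scheme.Modules.pullbackCongr hh.symm).app M
  let e2 : (Scheme.Modules.pullback (h ≫ g.opensRange.ι)).obj M ≅
      (Scheme.Modules.pullback h).obj ((Scheme.Modules.pullback g.opensRange.ι).obj M) :=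
    ((Scheme.Modules.pullbackComp h g.opensRange.ι).app M).symm
  let e3 : (Scheme.Modules.pullback g.opensRange.ι).obj M ≅ Coh.structureModule (g.opensRange : Scheme.{u}) :=
    ((Scheme.Modules.restrictFunctorIsoPullback g.opensRange.ι).app M).symm ≪≫ ε
  exact ⟨e1 ≪≫ e2 ≪≫ (Scheme.Modules.pullback h).mapIso e3 ≪≫
    Groth.Agent.Lib.Helper23.PB.pullbackUnitIso h⟩

/-- the ideal module of `I` pulls back to the trivial module along an open immersion missing `V(I)` -/
theorem nonempty_pullback_idealMod_iso {C : Scheme.{u}} (g : C ⟶ X) [IsOpenImmersion g] (I : X.IdealSheafData)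
    (hg : ∀ c : C, g.base c ∉ I.support) :
    Nonempty ((Scheme.Modules.pullback g).obj (ClSub.idealMod I) ≅ Coh.structureModule C) := by
  obtain ⟨a, ha⟩ := exists_isGen_of_disjoint I g.opensRange (by
    rintro x ⟨c, rfl⟩
    exact hg c)
  exact nonempty_pullback_iso_of_isGen g _ a ha

end general

section model

variable {R : Type u} [CommRing R] [IsDomain R] [IsDiscreteValuationRing R]
  {X : Over (Spec (CommRingCat.of R))}

/-- the generic fibre misses the closed fibre -/
theorem notMem_specialFibreSet {C : Scheme.{u}} (f : C ⟶ Spec (CommRingCat.of (FractionRing R))) (g : C ⟶ X.left)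
    (hg : IsPullback g f X.hom (Spec.map (CommRingCat.ofHom (algebraMap R (FractionRing R))))) (c : C) :
    g.base c ∉ Models.specialFibreSet R X := by
  intro hmem
  have h1 : X.hom.base (g.base c) = IsLocalRing.closedPoint R := hmem
  have h2 : X.hom.base (g.base c) =
      (Spec.map (CommRingCat.ofHom (algebraMap R (FractionRing R)))).base (f.base c) := by
    change (g ≫ X.hom).base c = (f ≫ Spec.map _).base c
    rw [hg.w]
  rw [h2] at h1
  have h3 := congrArg PrimeSpectrum.asIdeal h1
  change Ideal.comap (algebraMap R (FractionRing R)) (f.base c).asIdeal = IsLocalRing.maximalIdeal R at h3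
  have h4 : (f.base c).asIdeal = ⊥ :=
    ((Ideal.eq_bot_or_top _).resolve_right (f.base c).isPrime.ne_top)
  rw [h4, ← RingHom.ker_eq_comap_bot,
    (RingHom.injective_iff_ker_eq_bot _).1 (IsFractionRing.injective R (FractionRing R))] at h3
  exact IsDiscreteValuationRing.not_a_field R h3.symm

/-- `O_X(Γ)` is trivial on the generic fibre, for a vertical prime divisor `Γ` -/
theorem nonempty_pullback_iso_of_isInverseOf {C : Scheme.{u}} (f : C ⟶ Spec (CommRingCat.of (FractionRing R)))
    (g : C ⟶ X.left)
    (hg : IsPullback g f X.hom (Spec.map (CommRingCat.ofHom (algebraMap R (FractionRing R)))))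
    (Γ' : ArSurf.VertComp R X) (L : X.left.Modules) (hL : ClSub.IsInverseOf L (ClSub.idealMod Γ'.ι.ker)) :
    Nonempty ((Scheme.Modules.pullback g).obj L ≅ Coh.structureModule C) := by
  haveI := Groth.Agent.Lib.T2H9.PicModelB.isOpenImmersion_of_isPullback f g hg
  have hmiss : ∀ c : C, g.base c ∉ Γ'.ι.ker.support := by
    intro c hc
    have h1 : g.base c ∈ (Γ'.ι.ker.support : Set X.left) := hc
    rw [Groth.Agent.Lib.T2H4.FibreComp.coe_support_ker] at h1
    exact notMem_specialFibreSet f g hg c
      (Groth.Agent.Lib.T2H9.ArInterI.range_subset_specialFibreSet Γ' h1)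
  obtain ⟨e⟩ := nonempty_pullback_idealMod_iso g Γ'.ι.ker hmiss
  apply nonempty_iso_of_cl_eq
  have h1 := congrArg (pullClHom g) ((isInverseOf_iff _ _).1 hL)
  rw [map_mul, map_one, pullClHom_cl, pullClHom_cl, cl_eq_of_iso e, cl_structureModule, mul_one] at h1
  exact h1

/-- vertical twists are trivial on the generic fibre -/
theorem pullClHom_multiTwist {C : Scheme.{u}} (f : C ⟶ Spec (CommRingCat.of (FractionRing R)))
    (g : C ⟶ X.left)
    (hg : IsPullback g f X.hom (Spec.map (CommRingCat.ofHom (algebraMap R (FractionRing R)))))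
    {n : ℕ} (Γ : Fin n → ArSurf.VertComp R X)
    (L : Fin n → X.left.Modules) (hL : ∀ j, ClSub.IsInverseOf (L j) (ClSub.idealMod (Γ j).ι.ker))
    (a : Fin n → ℕ) : pullClHom g (PicF.cl (FGA.multiTwist L a)) = 1 := by
  rw [cl_multiTwist, map_prod]
  refine Finset.prod_eq_one fun j _ => ?_
  obtain ⟨e⟩ := nonempty_pullback_iso_of_isInverseOf f g hg (Γ j) (L j) (hL j)
  rw [map_pow, pullClHom_cl, cl_eq_of_iso e, cl_structureModule, one_pow]

end model

end Groth.Agent.Lib.T2H9.PicModelE
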