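import Groth.Agent.Lib.T2H9PicModelE
import Groth.Agent.Lib.T2H9TensorInv
set_option backward.isDefEq.respectTransparency.types false

/-!
# T2H9PicModelF (helper9): the degree vector of an extension of `N` lies in the image of the intersection matrix iff `N`
extends to a module of degree zero on every component
-/

set_option autoImplicit false
set_option linter.style.haveILetI false
set_option linter.unusedSectionVars false
universe u

open AlgebraicGeometry CategoryTheory Limits TopologicalSpace Opposite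

namespace Groth.Agent.Lib.T2H9.PicModelF

open Groth.Agent.Lib.T2H9.ClMonoid Groth.Agent.Lib.T2H9.PicModelD Groth.Agent.Lib.T2H9.PicModelC
  Groth.Agent.Lib.T2H9.PicModelE Groth.Agent.Lib.T2H9.ArInterA

attribute [local instance] clMonoid

variable {R : Type u} [CommRing R] [IsDomain R] [IsDiscreteValuationRing R]
  {X : Over (Spec (CommRingCat.of R))} [IsProper X.hom] [Flat X.hom] [IsLocallyNoetherian X.left]

theorem degree_vector_iff (hreg : Models.IsRegularScheme X.left)
    {n : ℕ} (Γ : Fin n → ArSurf.VertComp R X) (hΓ : Models.IsComponentList R X Γ)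
    (L : Fin n → X.left.Modules) (hL : ∀ j, ClSub.IsInverseOf (L j) (ClSub.idealMod (Γ j).ι.ker))
    {C : Scheme.{u}} (f : C ⟶ Spec (CommRingCat.of (FractionRing R))) (g : C ⟶ X.left)
    (hg : IsPullback g f X.hom (Spec.map (CommRingCat.ofHom (algebraMap R (FractionRing R)))))
    (N : C.Modules) (M : X.left.Modules) (hM : PicF.IsInvertible M)
    (hMN : Nonempty ((Scheme.Modules.pullback g).obj M ≅ N)) :
    (∃ v : Fin n → ℤ, ∀ i, ArSurf.inter R X M (Γ i) = ∑ j, ArSurf.inter R X (L j) (Γ i) * v j) ↔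
      ∃ M' : X.left.Modules, PicF.IsInvertible M' ∧ Nonempty ((Scheme.Modules.pullback g).obj M' ≅ N) ∧
        ∀ i, ArSurf.inter R X M' (Γ i) = 0 := by
  have hI : ∀ i, PicF.IsInvertible (ClSub.idealMod (Γ i).ι.ker) := fun i =>
    Groth.Agent.Lib.T2H9.ArInterF.isInvertible_idealMod_ker hreg Γ hΓ i
  have hm : ∀ i, 0 < Models.mult R X (Γ i) := Groth.Agent.Lib.T2H9.ArInterL.mult_pos hreg Γ hΓ
  obtain ⟨eMN⟩ := hMN
  constructor
  · rintro ⟨v, hv⟩
    -- shift `v` by a multiple of the fibre to make it non-positive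
    let T : ℕ := ∑ j, (v j).natAbs
    let w : Fin n → ℕ := fun j => (T * Models.mult R X (Γ j) - v j).toNat
    have hw : ∀ j, (w j : ℤ) = T * Models.mult R X (Γ j) - v j := by
      intro j
      apply Int.toNat_of_nonneg
      have h1 : v j ≤ (v j).natAbs := Int.le_natAbs
      have h2 : ((v j).natAbs : ℤ) ≤ T := by
        exact_mod_cast Finset.single_le_sum (f := fun j => (v j).natAbs) (fun _ _ => Nat.zero_le _)
          (Finset.mem_univ j)
      have h3 : (T : ℤ) ≤ T * Models.mult R X (Γ j) := by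
        have : (1 : ℤ) ≤ Models.mult R X (Γ j) := by exact_mod_cast hm j
        nlinarith [Int.natCast_nonneg T]
      linarith
    have hinvT := (isInverseOf_multiTwist L (fun j => (Γ j).ι.ker) hI hL w).2
    have hTinv : PicF.IsInvertible (FGA.multiTwist L w) := isInvertible_of_isInverseOf hinvT
    refine ⟨CohB1.tensorMod M (FGA.multiTwist L w),
      Groth.Agent.Lib.Helper23.SecTw.isInvertible_tensorMod hM hTinv, ?_, fun i => ?_⟩
    · apply nonempty_iso_of_cl_eq
      rw [← pullClHom_cl, cl_tensorMod, map_mul, pullClHom_multiTwist f g hg Γ L hL w, mul_one, pullClHom_cl]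
      exact cl_eq_of_iso eMN
    · rw [inter_tensorMod (Γ i) _ _ hM hTinv, inter_multiTwist L (fun j => (Γ j).ι.ker) hI hL w (Γ i), hv i]
      have hker := Groth.Agent.Lib.T2H9.ArInterB.sum_mult_mul_inter hreg Γ hΓ L hL (Γ i)
      have h1 : ∑ j, (w j : ℤ) * ArSurf.inter R X (L j) (Γ i) =
          T * ∑ j, (Models.mult R X (Γ j) : ℤ) * ArSurf.inter R X (L j) (Γ i) -
            ∑ j, ArSurf.inter R X (L j) (Γ i) * v j := by
        rw [Finset.mul_sum, ← Finset.sum_sub_distrib]
        refine Finset.sum_congr rfl fun j _ => ?_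
        rw [hw j]
        ring
      rw [h1, hker]
      ring
  · rintro ⟨M', hM', ⟨eM'N⟩, hdeg⟩
    have hP : PicF.IsInvertible (CohB1.tensorMod M (Groth.Agent.Lib.T2H9.TensorInv.inv M')) :=
      Groth.Agent.Lib.Helper23.SecTw.isInvertible_tensorMod hM
        (Groth.Agent.Lib.T2H9.TensorInv.isInvertible_inv M' hM')
    have hinv : PicF.cl (Groth.Agent.Lib.T2H9.TensorInv.inv M') * PicF.cl M' = 1 :=
      cl_eq_of_iso (Groth.Agent.Lib.T2H9.TensorInv.invTensorIso M' hM')
    have htriv : Nonempty ((Scheme.Modules.pullback g).obj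
        (CohB1.tensorMod M (Groth.Agent.Lib.T2H9.TensorInv.inv M')) ≅ Coh.structureModule C) := by
      apply nonempty_iso_of_cl_eq
      rw [← pullClHom_cl, cl_tensorMod, map_mul, pullClHom_cl, cl_eq_of_iso eMN, ← cl_eq_of_iso eM'N,
        ← pullClHom_cl, ← map_mul, mul_comm, hinv, map_one]
      rfl
    obtain ⟨b, ⟨e⟩⟩ := Groth.Agent.Lib.T2H9.PicModelB.exists_multiTwist_of_trivial hreg Γ hΓ L hL _ hP f g hg htriv
    refine ⟨fun j => (b j : ℤ), fun i => ?_⟩
    have h1 := inter_eq_of_iso (Γ i) e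
    rw [inter_tensorMod (Γ i) _ _ hM (Groth.Agent.Lib.T2H9.TensorInv.isInvertible_inv M' hM'),
      inter_multiTwist L (fun j => (Γ j).ι.ker) hI hL b (Γ i)] at h1
    have h2 : ArSurf.inter R X (Groth.Agent.Lib.T2H9.TensorInv.inv M') (Γ i) = 0 := by
      have h3 := inter_tensorMod (Γ i) _ _ (Groth.Agent.Lib.T2H9.TensorInv.isInvertible_inv M' hM') hM'
      rw [inter_eq_of_iso (Γ i) (Groth.Agent.Lib.T2H9.TensorInv.invTensorIso M' hM'),
        inter_structureModule, hdeg i, add_zero] at h3
      exact h3.symm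
    rw [h2, add_zero] at h1
    rw [h1]
    exact Finset.sum_congr rfl fun j _ => mul_comm _ _

end Groth.Agent.Lib.T2H9.PicModelF
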