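import Groth.Agent.Lib.T2H9PicModelF
set_option backward.isDefEq.respectTransparency.types false

/-!
# T2H9PicModelG (helper9): the kernel of `ℤⁿ → Pic X`, `e_i ↦ O_X(Γ_i)`, is generated by the closed fibre
-/

set_option autoImplicit false
set_option linter.style.haveILetI false
set_option linter.unusedSectionVars false
universe u

open AlgebraicGeometry CategoryTheory Limits TopologicalSpace Opposite

namespace Groth.Agent.Lib.T2H9.PicModelG

open Groth.Agent.Lib.Helper23.SecTw Groth.Agent.Lib.Helper23.GenLocus Groth.Agent.Lib.Helper6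
  Groth.Agent.Lib.T2H4.AmpleCartier Groth.Agent.Lib.T2H9.ClMonoid Groth.Agent.Lib.T2H9.PicModelD
  Groth.Agent.Lib.T2H9.PicModelC Groth.Agent.Lib.T2H9.ArInterA

attribute [local instance] clMonoid

/-- powers of a principal ideal generated by a regular non-unit are distinct -/
theorem eq_of_span_pow_eq {A : Type*} [CommRing A] (t : A) (ht : t ∈ nonZeroDivisors A) (hu : ¬ IsUnit t)
    {x y : ℕ} (h : Ideal.span {t} ^ x = Ideal.span {t} ^ y) : x = y := by
  have key : ∀ {x y : ℕ}, x ≤ y → Ideal.span {t} ^ x = Ideal.span {t} ^ y → x = y := by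
    intro x y hxy h
    by_contra hne
    have hlt : x < y := lt_of_le_of_ne hxy hne
    rw [Ideal.span_singleton_pow, Ideal.span_singleton_pow] at h
    have h1 : t ^ x ∈ Ideal.span {t ^ y} := by rw [← h]; exact Ideal.mem_span_singleton_self _
    obtain ⟨c, hc⟩ := Ideal.mem_span_singleton'.1 h1
    obtain ⟨d, rfl⟩ := Nat.exists_eq_add_of_lt hlt
    have h2 : (c * t ^ (d + 1)) * t ^ x = 1 * t ^ x := by
      calc (c * t ^ (d + 1)) * t ^ x = c * t ^ (x + d + 1) := by ring
        _ = t ^ x := hc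
        _ = 1 * t ^ x := (one_mul _).symm
    have h3 := (mul_cancel_right_mem_nonZeroDivisors (pow_mem ht x)).1 h2
    apply hu
    rw [pow_succ, ← mul_assoc] at h3
    exact IsUnit.of_mul_eq_one _ (by rw [mul_comm]; exact h3)
  rcases le_total x y with hxy | hxy
  · exact key hxy h
  · exact (key hxy h.symm).symm

section general

variable {X : Scheme.{u}}

/-- an ideal sheaf whose ideal module is trivial is generated by a global function, regular on every affine open -/
theorem exists_generator_of_iso (J : X.IdealSheafData) (ε : ClSub.idealMod J ≅ Coh.structureModule X) :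
    ∃ t : Γ(X, ⊤), (∀ V : X.affineOpens, J.ideal V = Ideal.span {resf (le_top : V.1 ≤ ⊤) t}) ∧
      ∀ V : X.affineOpens, resf (le_top : V.1 ≤ ⊤) t ∈ nonZeroDivisors Γ(X, V.1) := by
  have ha : IsGen (ClSub.idealMod J) ⊤ (ε.symm.hom.app ⊤ (toS ⊤ 1)) :=
    Groth.Agent.Lib.Helper23.PB.isGen_of_iso ε.symm (isGen_one ⊤)
  set a := ε.symm.hom.app ⊤ (toS ⊤ 1) with hadef
  refine ⟨ιf J ⊤ a, fun V => ideal_eq_span J ⊤ a ha V le_top, fun V => ?_⟩
  have hinj : Function.Injective fun r : Γ(X, V.1) => r * resf (le_top : V.1 ≤ ⊤) (ιf J ⊤ a) := by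
    intro r r' hrr
    apply (ha V.1 le_top).1
    apply ιf_injective J V.1
    simp only [ιf_smul, ιf_res]
    exact hrr
  rw [mem_nonZeroDivisors_iff]
  have key : ∀ r : Γ(X, V.1), r * resf (le_top : V.1 ≤ ⊤) (ιf J ⊤ a) = 0 → r = 0 := by
    intro r hr
    apply hinj
    simp only [hr, zero_mul]
  exact ⟨fun r hr => key r (by rw [mul_comm]; exact hr), fun r hr => key r hr⟩

end general

variable {R : Type u} [CommRing R] [IsDomain R] [IsDiscreteValuationRing R]
  {X : Over (Spec (CommRingCat.of R))}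

theorem secHom_top_bijective (hbij : Function.Bijective X.hom.appTop.hom) :
    Function.Bijective (Groth.Agent.Lib.T2H4.FibreComp.secHom R X ⊤) := by
  have h1 : ⇑(Groth.Agent.Lib.T2H4.FibreComp.secHom R X ⊤) =
      ⇑X.hom.appTop.hom ∘ ⇑(Scheme.ΓSpecIso (CommRingCat.of R)).inv.hom := by
    funext r
    exact Groth.Agent.Lib.T2H9.PicModelB.secHom_top_eq r
  rw [h1]
  exact hbij.comp (ConcreteCategory.bijective_of_isIso (Scheme.ΓSpecIso (CommRingCat.of R)).inv)

/-- an ideal sheaf with trivial ideal module on a model with `Γ(X, O_X) = R` is a power of the closed fibre -/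
theorem exists_eq_pow_specialFibreIdeal [Flat X.hom] [Nonempty X.left]
    (hbij : Function.Bijective X.hom.appTop.hom) (J : X.left.IdealSheafData)
    (ε : ClSub.idealMod J ≅ Coh.structureModule X.left) :
    ∃ k : ℕ, J = Models.specialFibreIdeal R X ^ k := by
  obtain ⟨ϖ, hϖ⟩ := IsDiscreteValuationRing.exists_irreducible R
  obtain ⟨t, hspan, hreg⟩ := exists_generator_of_iso J ε
  obtain ⟨r, rfl⟩ := (secHom_top_bijective hbij).2 t
  have hr : r ≠ 0 := by
    rintro rfl
    obtain ⟨x⟩ := ‹Nonempty X.left›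
    obtain ⟨V, hV, hxV, -⟩ := exists_isAffineOpen_mem_and_subset (x := x) (U := ⊤) trivial
    have h0 := hreg ⟨V, hV⟩
    rw [map_zero] at h0
    have h00 : resf (le_top : V ≤ ⊤) (0 : Γ(X.left, ⊤)) = 0 := map_zero _
    rw [h00] at h0
    haveI : Nontrivial Γ(X.left, V) := by
      haveI : Nonempty (V : Scheme.{u}) := ⟨⟨x, hxV⟩⟩
      exact (Scheme.component_nontrivial X.left V)
    exact zero_notMem_nonZeroDivisors h0
  obtain ⟨k, u, hu⟩ := IsDiscreteValuationRing.eq_unit_mul_pow_irreducible hr hϖ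
  refine ⟨k, Scheme.IdealSheafData.ext (funext fun V => ?_)⟩
  rw [hspan V, Scheme.IdealSheafData.ideal_pow, Pi.pow_apply,
    Groth.Agent.Lib.T2H4.FibreComp.specialFibreIdeal_ideal_eq_span R X ϖ hϖ V, Ideal.span_singleton_pow,
    Groth.Agent.Lib.T2H9.ArInterB.resf_secHom, hu, map_mul, map_pow]
  exact Ideal.span_singleton_mul_left_unit ((u.isUnit).map _) _

/-- the powers of the ideal of a non-empty closed fibre are distinct -/
theorem eq_of_pow_specialFibreIdeal_eq [Flat X.hom] (x0 : X.left) (hx0 : x0 ∈ Models.specialFibreSet R X)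
    {x y : ℕ} (h : Models.specialFibreIdeal R X ^ x = Models.specialFibreIdeal R X ^ y) : x = y := by
  obtain ⟨ϖ, hϖ⟩ := IsDiscreteValuationRing.exists_irreducible R
  obtain ⟨V, hV, hxV, -⟩ := exists_isAffineOpen_mem_and_subset (x := x0) (U := ⊤) trivial
  have h1 := congrArg (fun I : X.left.IdealSheafData => I.ideal ⟨V, hV⟩) h
  simp only [Scheme.IdealSheafData.ideal_pow, Pi.pow_apply] at h1
  rw [Groth.Agent.Lib.T2H4.FibreComp.specialFibreIdeal_ideal_eq_span R X ϖ hϖ ⟨V, hV⟩] at h1
  refine eq_of_span_pow_eq _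
    (Groth.Agent.Lib.T2H4.FibreComp.secHom_mem_nonZeroDivisors R X ⟨V, hV⟩ ϖ hϖ.ne_zero) ?_ h1
  intro hu
  have h2 : (Models.specialFibreIdeal R X).ideal ⟨V, hV⟩ = ⊤ := by
    rw [Groth.Agent.Lib.T2H4.FibreComp.specialFibreIdeal_ideal_eq_span R X ϖ hϖ ⟨V, hV⟩]
    exact Ideal.span_singleton_eq_top.2 hu
  refine (Groth.Agent.Lib.T2H4.EffCartProd.ideal_ne_top_iff (Models.specialFibreIdeal R X) ⟨V, hV⟩).2
    ⟨x0, hxV, ?_⟩ h2
  have h3 : x0 ∈ ((Models.specialFibreIdeal R X).support : Set X.left) := by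
    rw [Groth.Agent.Lib.T2H4.FibreComp.support_specialFibreIdeal]
    exact hx0
  exact h3

variable [IsProper X.hom] [Flat X.hom] [IsLocallyNoetherian X.left]

theorem cl_multiTwist_add {Y : Scheme.{u}} {n : ℕ} (L : Fin n → Y.Modules) (a b : Fin n → ℕ) :
    PicF.cl (FGA.multiTwist L (fun i => a i + b i)) =
      PicF.cl (FGA.multiTwist L a) * PicF.cl (FGA.multiTwist L b) := by
  rw [cl_multiTwist, cl_multiTwist, cl_multiTwist, ← Finset.prod_mul_distrib]
  exact Finset.prod_congr rfl fun j _ => pow_add _ _ _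

/-- twisting by a multiple of the closed fibre does not change the class -/
theorem cl_multiTwist_add_mul_mult (hreg : Models.IsRegularScheme X.left)
    {n : ℕ} (Γ : Fin n → ArSurf.VertComp R X) (hΓ : Models.IsComponentList R X Γ)
    (L : Fin n → X.left.Modules) (hL : ∀ j, ClSub.IsInverseOf (L j) (ClSub.idealMod (Γ j).ι.ker))
    (b : Fin n → ℕ) (k : ℕ) :
    PicF.cl (FGA.multiTwist L (fun i => b i + k * Models.mult R X (Γ i))) = PicF.cl (FGA.multiTwist L b) := by
  rw [cl_multiTwist_add, cl_multiTwist L (fun i => k * Models.mult R X (Γ i))]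
  have h1 : ∏ j, PicF.cl (L j) ^ (k * Models.mult R X (Γ j)) =
      (∏ j, PicF.cl (L j) ^ Models.mult R X (Γ j)) ^ k := by
    rw [← Finset.prod_pow]
    exact Finset.prod_congr rfl fun j _ => by rw [← pow_mul, mul_comm]
  rw [h1, prod_cl_pow_mult hreg Γ hΓ L hL, one_pow, mul_one]

/-- **the relations among the `O_X(Γ_i)` in `Pic X` are generated by the closed fibre** -/
theorem multiTwist_iso_iff (hbij : Function.Bijective X.hom.appTop.hom)
    (hconn : _root_.IsConnected (Models.specialFibreSet R X))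
    (hreg : Models.IsRegularScheme X.left)
    {n : ℕ} (Γ : Fin n → ArSurf.VertComp R X) (hΓ : Models.IsComponentList R X Γ)
    (L : Fin n → X.left.Modules) (hL : ∀ j, ClSub.IsInverseOf (L j) (ClSub.idealMod (Γ j).ι.ker))
    (a b : Fin n → ℕ) :
    Nonempty (FGA.multiTwist L a ≅ FGA.multiTwist L b) ↔
      ∃ c : ℤ, ∀ i, (a i : ℤ) - (b i : ℤ) = c * (Models.mult R X (Γ i) : ℤ) := by
  classical
  have hI : ∀ i, PicF.IsInvertible (ClSub.idealMod (Γ i).ι.ker) := fun i =>
    Groth.Agent.Lib.T2H9.ArInterF.isInvertible_idealMod_ker hreg Γ hΓ i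
  have hm : ∀ i, 0 < Models.mult R X (Γ i) := Groth.Agent.Lib.T2H9.ArInterL.mult_pos hreg Γ hΓ
  constructor
  · rintro ⟨ε⟩
    rcases Nat.eq_zero_or_pos n with hn | hn
    · subst hn
      exact ⟨0, fun i => i.elim0⟩
    set i0 : Fin n := ⟨0, hn⟩ with hi0
    -- shift to make the difference effective
    set N : ℕ := ∑ j, b j with hN
    have hbN : ∀ j, b j ≤ a j + N * Models.mult R X (Γ j) := by
      intro j
      have h1 : b j ≤ N := Finset.single_le_sum (f := b) (fun _ _ => Nat.zero_le _) (Finset.mem_univ j)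
      have h2 : N ≤ N * Models.mult R X (Γ j) := Nat.le_mul_of_pos_right _ (hm j)
      omega
    set e : Fin n → ℕ := fun j => a j + N * Models.mult R X (Γ j) - b j with he
    have heb : ∀ j, e j + b j = a j + N * Models.mult R X (Γ j) := fun j => Nat.sub_add_cancel (hbN j)
    have h1 : PicF.cl (FGA.multiTwist L e) * PicF.cl (FGA.multiTwist L b) =
        1 * PicF.cl (FGA.multiTwist L b) := by
      rw [one_mul, ← cl_multiTwist_add, funext heb, cl_multiTwist_add_mul_mult hreg Γ hΓ L hL a N]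
      exact cl_eq_of_iso ε
    have hinvb := (isInverseOf_multiTwist L (fun j => (Γ j).ι.ker) hI hL b).2
    have h2 : PicF.cl (FGA.multiTwist L e) = 1 :=
      eq_of_mul_eq_mul_of_mul_eq_one ((isInverseOf_iff _ _).1 hinvb) h1
    have hinve := (isInverseOf_multiTwist L (fun j => (Γ j).ι.ker) hI hL e).2
    have h3 : PicF.cl (ClSub.idealMod (∏ j, (Γ j).ι.ker ^ e j)) = 1 := by
      have := (isInverseOf_iff _ _).1 hinve
      rw [h2, one_mul] at this
      exact this
    obtain ⟨ε'⟩ := nonempty_iso_of_cl_eq h3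
    -- a point of the closed fibre
    have hx0 : Models.genPtOf R X (Γ i0) ∈ Models.specialFibreSet R X :=
      Groth.Agent.Lib.T2H9.ArInterI.range_subset_specialFibreSet (Γ i0) ⟨_, rfl⟩
    haveI : Nonempty X.left := ⟨Models.genPtOf R X (Γ i0)⟩
    obtain ⟨k, hk⟩ := exists_eq_pow_specialFibreIdeal hbij _ ε'
    -- proportionality from the intersection form
    have hdeg : ∀ i, ∑ j, ((e j : ℕ) : ℤ) * ArSurf.inter R X (L j) (Γ i) = 0 := by
      intro i
      rw [← inter_multiTwist L (fun j => (Γ j).ι.ker) hI hL e (Γ i),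
        inter_eq_of_iso (Γ i) (nonempty_iso_of_cl_eq h2).some]
      exact inter_structureModule (Γ i)
    obtain ⟨q, hq⟩ := (ker_inter_form hconn hreg Γ hΓ L hL (fun j => ((e j : ℕ) : ℤ))).1 hdeg
    have hprop : ∀ j, e j * Models.mult R X (Γ i0) = Models.mult R X (Γ j) * e i0 := by
      intro j
      have h4 := hq j
      have h5 := hq i0
      push_cast at h4 h5
      have : ((e j * Models.mult R X (Γ i0) : ℕ) : ℚ) = ((Models.mult R X (Γ j) * e i0 : ℕ) : ℚ) := by
        push_cast
        rw [h4, h5]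
        ring
      exact_mod_cast this
    haveI : CompactSpace X.left := QuasiCompact.compactSpace_of_compactSpace X.hom
    obtain ⟨-, hprod⟩ := Groth.Agent.Lib.T2H4.FibreComp.specialFibreIdeal_eq_prod hreg Γ hΓ
    have h6 : Models.specialFibreIdeal R X ^ (k * Models.mult R X (Γ i0)) =
        Models.specialFibreIdeal R X ^ e i0 := by
      rw [pow_mul, ← hk]
      conv_rhs => rw [hprod]
      rw [← Finset.prod_pow, ← Finset.prod_pow]
      refine Finset.prod_congr rfl fun j _ => ?_
      rw [← pow_mul, ← pow_mul, hprop j]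
    have h7 : k * Models.mult R X (Γ i0) = e i0 := eq_of_pow_specialFibreIdeal_eq _ hx0 h6
    have h8 : ∀ j, e j = k * Models.mult R X (Γ j) := by
      intro j
      have := hprop j
      rw [← h7] at this
      have h9 : e j * Models.mult R X (Γ i0) = (k * Models.mult R X (Γ j)) * Models.mult R X (Γ i0) := by
        rw [this]; ring
      exact Nat.eq_of_mul_eq_mul_right (hm i0) h9
    refine ⟨(k : ℤ) - N, fun j => ?_⟩
    have h10 : ((e j + b j : ℕ) : ℤ) = ((a j + N * Models.mult R X (Γ j) : ℕ) : ℤ) := by rw [heb j]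
    rw [h8 j] at h10
    push_cast at h10
    linarith
  · rintro ⟨c, hc⟩
    apply nonempty_iso_of_cl_eq
    rcases le_total 0 c with h0 | h0
    · obtain ⟨k, rfl⟩ := Int.eq_ofNat_of_zero_le h0
      have h1 : a = fun i => b i + k * Models.mult R X (Γ i) := by
        funext i
        have := hc i
        zify
        linarith
      rw [h1]
      exact cl_multiTwist_add_mul_mult hreg Γ hΓ L hL b k
    · obtain ⟨k, hk⟩ := Int.eq_ofNat_of_zero_le (neg_nonneg.2 h0)
      have h1 : b = fun i => a i + k * Models.mult R X (Γ i) := by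
        funext i
        have := hc i
        zify
        rw [← hk]
        linarith
      rw [h1]
      exact (cl_multiTwist_add_mul_mult hreg Γ hΓ L hL a k).symm

end Groth.Agent.Lib.T2H9.PicModelG
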