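import Groth.Agent.Lib.T2H9PicModelG
set_option backward.isDefEq.respectTransparency.types false

/-!
# T2H9PicModelH (helper9): the kernel of `Pic(X)[h] → Pic(C)[h]` is cyclic of order `gcd(h, d)`
-/

set_option autoImplicit false
set_option linter.style.haveILetI false
set_option linter.unusedSectionVars false
universe u

open AlgebraicGeometry CategoryTheory Limits TopologicalSpace Opposite

namespace Groth.Agent.Lib.T2H9.PicModelH

open Groth.Agent.Lib.T2H9.ClMonoid Groth.Agent.Lib.T2H9.PicModelD Groth.Agent.Lib.T2H9.PicModelC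
  Groth.Agent.Lib.T2H9.PicModelG Groth.Agent.Lib.T2H9.ArInterA

attribute [local instance] clMonoid

theorem exists_mul_div_eq {n : ℕ} (hn : 0 < n) (b m : Fin n → ℕ) (hm : ∀ i, 0 < m i) (h : ℕ) (hh : 0 < h)
    (c : ℤ) (hc : ∀ i, (h : ℤ) * b i = c * m i) :
    ∃ K : ℕ, ∀ i, b i = K * (m i / Nat.gcd h (Finset.univ.gcd m)) := by
  set d := Finset.univ.gcd m with hd
  set E := Nat.gcd h d with hE
  have hEpos : 0 < E := Nat.gcd_pos_of_pos_left _ hh
  have hEd : E ∣ d := Nat.gcd_dvd_right _ _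
  have hEm : ∀ i, E ∣ m i := fun i => hEd.trans (Finset.gcd_dvd (Finset.mem_univ i))
  set ν : Fin n → ℕ := fun i => m i / E with hν
  have hmν : ∀ i, m i = E * ν i := fun i => (Nat.mul_div_cancel' (hEm i)).symm
  -- `c` is a natural number
  have hc0 : 0 ≤ c := by
    have h1 := hc ⟨0, hn⟩
    have h2 : (0 : ℤ) < m ⟨0, hn⟩ := by exact_mod_cast hm ⟨0, hn⟩
    have h3 : (0 : ℤ) ≤ (h : ℤ) * b ⟨0, hn⟩ := by positivity
    rw [h1] at h3
    exact nonneg_of_mul_nonneg_left h3 h2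
  obtain ⟨c, rfl⟩ := Int.eq_ofNat_of_zero_le hc0
  have hc' : ∀ i, h * b i = c * m i := fun i => by exact_mod_cast hc i
  obtain ⟨h', hh'⟩ : E ∣ h := Nat.gcd_dvd_left _ _
  have hh'pos : 0 < h' := by
    rcases Nat.eq_zero_or_pos h' with h0 | h0
    · rw [h0, mul_zero] at hh'; omega
    · exact h0
  have hdD : d = E * Finset.univ.gcd ν := by
    rw [hd, ← Nat.cast_id E, ← normalize_eq (E : ℕ)]
    rw [Nat.cast_id, ← Finset.gcd_mul_left]
    exact Finset.gcd_congr rfl fun i _ => hmν i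
  have hcop : Nat.Coprime h' (Finset.univ.gcd ν) := by
    have h1 : E = E * Nat.gcd h' (Finset.univ.gcd ν) := by
      conv_lhs => rw [hE, hh', hdD, Nat.gcd_mul_left]
    have h2 : E * 1 = E * Nat.gcd h' (Finset.univ.gcd ν) := by rw [mul_one]; exact h1
    exact (Nat.eq_of_mul_eq_mul_left hEpos h2).symm
  have key : ∀ i, h' * b i = c * ν i := by
    intro i
    have h1 := hc' i
    rw [hh', hmν i] at h1
    have h2 : E * (h' * b i) = E * (c * ν i) := by rw [← mul_assoc, h1]; ring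
    exact Nat.eq_of_mul_eq_mul_left hEpos h2
  have hdvd : h' ∣ c := by
    have h1 : h' ∣ Finset.univ.gcd fun i => c * ν i :=
      Finset.dvd_gcd fun i _ => ⟨b i, (key i).symm⟩
    rw [Finset.gcd_mul_left, normalize_eq] at h1
    exact hcop.dvd_of_dvd_mul_right h1
  obtain ⟨K, rfl⟩ := hdvd
  refine ⟨K, fun i => ?_⟩
  have h1 := key i
  rw [mul_assoc] at h1
  exact Nat.eq_of_mul_eq_mul_left hh'pos h1

theorem unique_of_mul_div {n : ℕ} (hn : 0 < n) (m : Fin n → ℕ) (hm : ∀ i, 0 < m i) (E : ℕ) (hE : ∀ i, E ∣ m i)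
    (k k' : ℕ) (hk : k < E) (hk' : k' < E) (c : ℤ)
    (hc : ∀ i, ((k * (m i / E) : ℕ) : ℤ) - ((k' * (m i / E) : ℕ) : ℤ) = c * m i) : k = k' := by
  have h0 := hc ⟨0, hn⟩
  have hEpos : 0 < E := by omega
  set ν := m ⟨0, hn⟩ / E with hν
  have hmν : m ⟨0, hn⟩ = E * ν := (Nat.mul_div_cancel' (hE ⟨0, hn⟩)).symm
  have hνpos : 0 < ν := by
    rcases Nat.eq_zero_or_pos ν with h1 | h1
    · have := hm ⟨0, hn⟩
      rw [hmν, h1, mul_zero] at this
      omega
    · exact h1
  rw [hmν] at h0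
  push_cast at h0
  have h1 : ((k : ℤ) - k') * ν = (c * E) * ν := by linarith
  have h2 : (k : ℤ) - k' = c * E := by
    have hν' : (ν : ℤ) ≠ 0 := by exact_mod_cast hνpos.ne'
    exact mul_right_cancel₀ hν' h1
  have h3 : |(k : ℤ) - k'| < E := by
    rw [abs_lt]
    constructor <;> omega
  have h4 : c = 0 := by
    by_contra hne
    have : (E : ℤ) ≤ |c * E| := by
      rw [abs_mul, abs_of_nonneg (Int.natCast_nonneg E)]
      have : 1 ≤ |c| := Int.one_le_abs hne
      nlinarith [Int.natCast_nonneg E]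
    rw [← h2] at this
    omega
  rw [h4, zero_mul] at h2
  omega

variable {R : Type u} [CommRing R] [IsDomain R] [IsDiscreteValuationRing R]
  {X : Over (Spec (CommRingCat.of R))}

/-- a model with non-empty closed fibre has at least one component -/
theorem pos_of_nonempty (hne : (Models.specialFibreSet R X).Nonempty)
    {n : ℕ} (Γ : Fin n → ArSurf.VertComp R X) (hΓ : Models.IsComponentList R X Γ) : 0 < n := by
  obtain ⟨x, hx⟩ := hne
  rw [Groth.Agent.Lib.T2H9.ArInterJ.specialFibreSet_eq_iUnion Γ hΓ] at hx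
  obtain ⟨i, -⟩ := Set.mem_iUnion.1 hx
  exact i.pos

variable [IsProper X.hom] [Flat X.hom] [IsLocallyNoetherian X.left]

theorem cl_multiTwist_mul {Y : Scheme.{u}} {n : ℕ} (L : Fin n → Y.Modules) (b : Fin n → ℕ) (h : ℕ) :
    PicF.cl (FGA.multiTwist L (fun i => h * b i)) = PicF.cl (FGA.multiTwist L b) ^ h := by
  rw [cl_multiTwist, cl_multiTwist, ← Finset.prod_pow]
  exact Finset.prod_congr rfl fun j _ => by rw [← pow_mul, mul_comm]

theorem cl_multiTwist_zero {Y : Scheme.{u}} {n : ℕ} (L : Fin n → Y.Modules) :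
    PicF.cl (FGA.multiTwist L (fun _ => 0)) = 1 := by
  rw [cl_multiTwist]
  exact Finset.prod_eq_one fun j _ => pow_zero _

/-- **the kernel of `Pic(X)[h] → Pic(C)[h]` is generated by `O_X((1/e)·X_s)`, `e = gcd(h, d)`** -/
theorem existsUnique_twist (hbij : Function.Bijective X.hom.appTop.hom)
    (hconn : _root_.IsConnected (Models.specialFibreSet R X))
    (hreg : Models.IsRegularScheme X.left)
    {n : ℕ} (Γ : Fin n → ArSurf.VertComp R X) (hΓ : Models.IsComponentList R X Γ)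
    (L : Fin n → X.left.Modules) (hL : ∀ j, ClSub.IsInverseOf (L j) (ClSub.idealMod (Γ j).ι.ker))
    {C : Scheme.{u}} (f : C ⟶ Spec (CommRingCat.of (FractionRing R))) (g : C ⟶ X.left)
    (hg : IsPullback g f X.hom (Spec.map (CommRingCat.ofHom (algebraMap R (FractionRing R)))))
    (h : ℕ) (hh : 0 < h) (M : X.left.Modules) (hM : PicF.IsInvertible M)
    (htors : Nonempty (CohB1.tensorPow M h ≅ Coh.structureModule X.left))
    (htriv : Nonempty ((Scheme.Modules.pullback g).obj M ≅ Coh.structureModule C)) :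
    ∃! k : ℕ, k < Nat.gcd h (Models.multGcd R X Γ) ∧
      Nonempty (M ≅ FGA.multiTwist L
        (fun i => k * (Models.mult R X (Γ i) / Nat.gcd h (Models.multGcd R X Γ)))) := by
  have hn : 0 < n := pos_of_nonempty hconn.nonempty Γ hΓ
  have hm : ∀ i, 0 < Models.mult R X (Γ i) := Groth.Agent.Lib.T2H9.ArInterL.mult_pos hreg Γ hΓ
  obtain ⟨b, ⟨e⟩⟩ := Groth.Agent.Lib.T2H9.PicModelB.exists_multiTwist_of_trivial hreg Γ hΓ L hL M hM f g hg htriv
  obtain ⟨e'⟩ := htors
  have h1 : PicF.cl (FGA.multiTwist L (fun i => h * b i)) = PicF.cl (FGA.multiTwist L (fun _ => 0)) := by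
    rw [cl_multiTwist_mul, cl_multiTwist_zero, ← cl_eq_of_iso e, ← cl_tensorPow]
    exact cl_eq_of_iso e'
  obtain ⟨c, hc⟩ := (multiTwist_iso_iff hbij hconn hreg Γ hΓ L hL _ _).1 (nonempty_iso_of_cl_eq h1)
  obtain ⟨K, hK⟩ := exists_mul_div_eq hn b (fun i => Models.mult R X (Γ i)) hm h hh c (fun i => by
    have := hc i
    push_cast at this
    linarith)
  set E := Nat.gcd h (Models.multGcd R X Γ) with hE
  have hEpos : 0 < E := Nat.gcd_pos_of_pos_left _ hh
  have hEm : ∀ i, E ∣ Models.mult R X (Γ i) := fun i =>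
    (Nat.gcd_dvd_right _ _).trans (Finset.gcd_dvd (Finset.mem_univ i))
  refine ⟨K % E, ⟨Nat.mod_lt _ hEpos, ?_⟩, ?_⟩
  · obtain ⟨φ⟩ := (multiTwist_iso_iff hbij hconn hreg Γ hΓ L hL b
      (fun i => K % E * (Models.mult R X (Γ i) / E))).2 ⟨((K / E : ℕ) : ℤ), fun i => by
        have h2 : K * (Models.mult R X (Γ i) / E) =
            K % E * (Models.mult R X (Γ i) / E) + K / E * Models.mult R X (Γ i) := by
          conv_lhs => rw [← Nat.mod_add_div K E]
          conv_rhs => rw [← Nat.mul_div_cancel' (hEm i)]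
          rw [Nat.mul_div_cancel_left _ hEpos]
          ring
        rw [hK i]
        exact_mod_cast (by rw [h2]; push_cast; ring : ((K * (Models.mult R X (Γ i) / E) : ℕ) : ℤ) -
          ((K % E * (Models.mult R X (Γ i) / E) : ℕ) : ℤ) = ((K / E : ℕ) : ℤ) * (Models.mult R X (Γ i) : ℤ))⟩
    exact ⟨e ≪≫ φ⟩
  · rintro k' ⟨hk', ⟨φ'⟩⟩
    obtain ⟨φ⟩ := (multiTwist_iso_iff hbij hconn hreg Γ hΓ L hL b
      (fun i => K % E * (Models.mult R X (Γ i) / E))).2 ⟨((K / E : ℕ) : ℤ), fun i => by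
        have h2 : K * (Models.mult R X (Γ i) / E) =
            K % E * (Models.mult R X (Γ i) / E) + K / E * Models.mult R X (Γ i) := by
          conv_lhs => rw [← Nat.mod_add_div K E]
          conv_rhs => rw [← Nat.mul_div_cancel' (hEm i)]
          rw [Nat.mul_div_cancel_left _ hEpos]
          ring
        rw [hK i]
        exact_mod_cast (by rw [h2]; push_cast; ring : ((K * (Models.mult R X (Γ i) / E) : ℕ) : ℤ) -
          ((K % E * (Models.mult R X (Γ i) / E) : ℕ) : ℤ) = ((K / E : ℕ) : ℤ) * (Models.mult R X (Γ i) : ℤ))⟩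
    obtain ⟨c', hc'⟩ := (multiTwist_iso_iff hbij hconn hreg Γ hΓ L hL _ _).1 ⟨φ'.symm ≪≫ e ≪≫ φ⟩
    exact unique_of_mul_div hn (fun i => Models.mult R X (Γ i)) hm E hEm k' (K % E) hk'
      (Nat.mod_lt _ hEpos) c' hc'

end Groth.Agent.Lib.T2H9.PicModelH
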