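import Groth.Agent.Lib.T2H9PicModelH
set_option backward.isDefEq.respectTransparency.types false

/-!
# T2H9PicModelI (helper9): the obstruction to lifting an `h`-torsion class of `Pic C` to an `h`-torsion class of `Pic X`
-/

set_option autoImplicit false
set_option linter.style.haveILetI false
set_option linter.unusedSectionVars false
universe u

open AlgebraicGeometry CategoryTheory Limits TopologicalSpace Opposite

namespace Groth.Agent.Lib.T2H9.PicModelI

open Groth.Agent.Lib.T2H9.ClMonoid Groth.Agent.Lib.T2H9.PicModelD Groth.Agent.Lib.T2H9.PicModelC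
  Groth.Agent.Lib.T2H9.PicModelE Groth.Agent.Lib.T2H9.PicModelG Groth.Agent.Lib.T2H9.PicModelH
  Groth.Agent.Lib.T2H9.ArInterA

attribute [local instance] clMonoid

variable {R : Type u} [CommRing R] [IsDomain R] [IsDiscreteValuationRing R]
  {X : Over (Spec (CommRingCat.of R))} [IsProper X.hom] [Flat X.hom] [IsLocallyNoetherian X.left]

theorem exists_torsion_lift_iff (hbij : Function.Bijective X.hom.appTop.hom)
    (hconn : _root_.IsConnected (Models.specialFibreSet R X))
    (hreg : Models.IsRegularScheme X.left)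
    {n : ℕ} (Γ : Fin n → ArSurf.VertComp R X) (hΓ : Models.IsComponentList R X Γ)
    (L : Fin n → X.left.Modules) (hL : ∀ j, ClSub.IsInverseOf (L j) (ClSub.idealMod (Γ j).ι.ker))
    {C : Scheme.{u}} (f : C ⟶ Spec (CommRingCat.of (FractionRing R))) (g : C ⟶ X.left)
    (hg : IsPullback g f X.hom (Spec.map (CommRingCat.ofHom (algebraMap R (FractionRing R)))))
    (h : ℕ) (hh : 0 < h) (N : C.Modules)
    (M : X.left.Modules) (hM : PicF.IsInvertible M)
    (hMN : Nonempty ((Scheme.Modules.pullback g).obj M ≅ N)) (a b : Fin n → ℕ)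
    (hab : Nonempty (CohB1.tensorMod (CohB1.tensorPow M h) (FGA.multiTwist L a) ≅ FGA.multiTwist L b)) :
    (∃ M' : X.left.Modules, PicF.IsInvertible M' ∧
        Nonempty (CohB1.tensorPow M' h ≅ Coh.structureModule X.left) ∧
        Nonempty ((Scheme.Modules.pullback g).obj M' ≅ N)) ↔
      ∃ (c : Fin n → ℤ) (e : ℤ), ∀ i,
        ((b i : ℤ) - (a i : ℤ)) = (h : ℤ) * c i + e * (Models.mult R X (Γ i) : ℤ) := by
  have hI : ∀ i, PicF.IsInvertible (ClSub.idealMod (Γ i).ι.ker) := fun i =>
    Groth.Agent.Lib.T2H9.ArInterF.isInvertible_idealMod_ker hreg Γ hΓ i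
  have hm : ∀ i, 0 < Models.mult R X (Γ i) := Groth.Agent.Lib.T2H9.ArInterL.mult_pos hreg Γ hΓ
  obtain ⟨eMN⟩ := hMN
  obtain ⟨eab⟩ := hab
  have hab' : PicF.cl M ^ h * PicF.cl (FGA.multiTwist L a) = PicF.cl (FGA.multiTwist L b) := by
    rw [← cl_tensorPow, ← cl_tensorMod]
    exact cl_eq_of_iso eab
  have hinva := (isInverseOf_iff _ _).1 (isInverseOf_multiTwist L (fun j => (Γ j).ι.ker) hI hL a).2
  constructor
  · rintro ⟨M', hM', ⟨eM't⟩, ⟨eM'N⟩⟩
    have hinvM' : PicF.cl (Groth.Agent.Lib.T2H9.TensorInv.inv M') * PicF.cl M' = 1 :=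
      cl_eq_of_iso (Groth.Agent.Lib.T2H9.TensorInv.invTensorIso M' hM')
    have hM't : PicF.cl M' ^ h = 1 := by rw [← cl_tensorPow]; exact cl_eq_of_iso eM't
    have hinvt : PicF.cl (Groth.Agent.Lib.T2H9.TensorInv.inv M') ^ h = 1 := by
      have := congrArg (· ^ h) hinvM'
      simp only [mul_pow, hM't, mul_one, one_pow] at this
      exact this
    have hP : PicF.IsInvertible (CohB1.tensorMod M (Groth.Agent.Lib.T2H9.TensorInv.inv M')) :=
      Groth.Agent.Lib.Helper23.SecTw.isInvertible_tensorMod hM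
        (Groth.Agent.Lib.T2H9.TensorInv.isInvertible_inv M' hM')
    have htriv : Nonempty ((Scheme.Modules.pullback g).obj
        (CohB1.tensorMod M (Groth.Agent.Lib.T2H9.TensorInv.inv M')) ≅ Coh.structureModule C) := by
      apply nonempty_iso_of_cl_eq
      rw [← pullClHom_cl, cl_tensorMod, map_mul, pullClHom_cl, cl_eq_of_iso eMN, ← cl_eq_of_iso eM'N,
        ← pullClHom_cl, ← map_mul, mul_comm, hinvM', map_one]
      rfl
    obtain ⟨w, ⟨eP⟩⟩ := Groth.Agent.Lib.T2H9.PicModelB.exists_multiTwist_of_trivial hreg Γ hΓ L hL _ hP f g hg htriv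
    have h1 : PicF.cl (FGA.multiTwist L (fun i => h * w i + a i)) = PicF.cl (FGA.multiTwist L b) := by
      rw [cl_multiTwist_add, cl_multiTwist_mul, ← cl_eq_of_iso eP, cl_tensorMod, mul_pow, hinvt, mul_one]
      exact hab'
    obtain ⟨c', hc'⟩ := (multiTwist_iso_iff hbij hconn hreg Γ hΓ L hL _ _).1 (nonempty_iso_of_cl_eq h1)
    refine ⟨fun i => (w i : ℤ), -c', fun i => ?_⟩
    have := hc' i
    push_cast at this
    linarith
  · rintro ⟨c, e, hce⟩
    let T : ℕ := (∑ j, (c j).natAbs) + e.natAbs
    let w : Fin n → ℕ := fun j => (T * Models.mult R X (Γ j) - c j).toNat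
    have hw : ∀ j, (w j : ℤ) = T * Models.mult R X (Γ j) - c j := by
      intro j
      apply Int.toNat_of_nonneg
      have h1 : c j ≤ (c j).natAbs := Int.le_natAbs
      have h2 : ((c j).natAbs : ℤ) ≤ T := by
        have : (c j).natAbs ≤ ∑ j, (c j).natAbs :=
          Finset.single_le_sum (f := fun j => (c j).natAbs) (fun _ _ => Nat.zero_le _) (Finset.mem_univ j)
        have h3 : (c j).natAbs ≤ T := this.trans (Nat.le_add_right _ _)
        exact_mod_cast h3
      have h3 : (T : ℤ) ≤ T * Models.mult R X (Γ j) := by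
        have : (1 : ℤ) ≤ Models.mult R X (Γ j) := by exact_mod_cast hm j
        nlinarith [Int.natCast_nonneg T]
      linarith
    have hk0 : 0 ≤ e + h * T := by
      have h1 : -e ≤ (e.natAbs : ℤ) := by
        have := Int.le_natAbs (a := -e)
        rwa [Int.natAbs_neg] at this
      have h2 : (e.natAbs : ℤ) ≤ T := by
        have : e.natAbs ≤ T := Nat.le_add_left _ _
        exact_mod_cast this
      have h3 : (T : ℤ) ≤ h * T := by
        have : (1 : ℤ) ≤ h := by exact_mod_cast hh
        nlinarith [Int.natCast_nonneg T]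
      linarith
    obtain ⟨k, hk⟩ := Int.eq_ofNat_of_zero_le hk0
    have hinvT := (isInverseOf_multiTwist L (fun j => (Γ j).ι.ker) hI hL w).2
    have hTinv : PicF.IsInvertible (FGA.multiTwist L w) := isInvertible_of_isInverseOf hinvT
    refine ⟨CohB1.tensorMod M (FGA.multiTwist L w),
      Groth.Agent.Lib.Helper23.SecTw.isInvertible_tensorMod hM hTinv, ?_, ?_⟩
    · apply nonempty_iso_of_cl_eq
      rw [cl_tensorPow, cl_tensorMod, cl_structureModule]
      have h1 : (fun i => b i + h * w i) = fun i => a i + k * Models.mult R X (Γ i) := by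
        funext i
        have h2 := hce i
        have h3 := hw i
        zify
        rw [h3, ← hk]
        linarith
      have h2 : (PicF.cl M * PicF.cl (FGA.multiTwist L w)) ^ h * PicF.cl (FGA.multiTwist L a) =
          1 * PicF.cl (FGA.multiTwist L a) := by
        calc (PicF.cl M * PicF.cl (FGA.multiTwist L w)) ^ h * PicF.cl (FGA.multiTwist L a)
            = (PicF.cl M ^ h * PicF.cl (FGA.multiTwist L a)) * PicF.cl (FGA.multiTwist L w) ^ h := by
              rw [mul_pow, mul_right_comm]
          _ = PicF.cl (FGA.multiTwist L (fun i => b i + h * w i)) := by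
              rw [hab', ← cl_multiTwist_mul, ← cl_multiTwist_add]
          _ = PicF.cl (FGA.multiTwist L a) := by
              rw [h1]
              exact cl_multiTwist_add_mul_mult hreg Γ hΓ L hL a k
          _ = 1 * PicF.cl (FGA.multiTwist L a) := (one_mul _).symm
      exact eq_of_mul_eq_mul_of_mul_eq_one hinva h2
    · apply nonempty_iso_of_cl_eq
      rw [← pullClHom_cl, cl_tensorMod, map_mul, pullClHom_multiTwist f g hg Γ L hL w, mul_one, pullClHom_cl]
      exact cl_eq_of_iso eMN

end Groth.Agent.Lib.T2H9.PicModelI
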