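import Groth.Agent.Lib.T2H9PicModelI
set_option backward.isDefEq.respectTransparency.types false

/-!
# T2H9PicModelJ (helper9): lifting `h`-torsion classes of `Pic C` with trivial image in the Picard group of the
numerical type, `h` prime to the gcd of the multiplicities
-/

set_option autoImplicit false
set_option linter.style.haveILetI false
set_option linter.unusedSectionVars false
universe u

open AlgebraicGeometry CategoryTheory Limits TopologicalSpace Opposite

namespace Groth.Agent.Lib.T2H9.PicModelJ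

open Groth.Agent.Lib.T2H9.ClMonoid Groth.Agent.Lib.T2H9.PicModelD Groth.Agent.Lib.T2H9.PicModelC
  Groth.Agent.Lib.T2H9.PicModelE Groth.Agent.Lib.T2H9.PicModelG Groth.Agent.Lib.T2H9.PicModelH
  Groth.Agent.Lib.T2H9.ArInterA

attribute [local instance] clMonoid

theorem exists_one_add_mul_eq {h d : ℕ} (hcop : Nat.Coprime h d) (hd : 0 < d) :
    ∃ x y : ℕ, 1 + x * h = y * d := by
  haveI : NeZero d := ⟨hd.ne'⟩
  refine ⟨(-((h : ZMod d)⁻¹)).val, ?_⟩
  have h1 : ((1 + (-((h : ZMod d)⁻¹)).val * h : ℕ) : ZMod d) = 0 := by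
    push_cast
    rw [ZMod.natCast_val, ZMod.cast_id', id, neg_mul, mul_comm, ZMod.coe_mul_inv_eq_one h hcop]
    ring
  obtain ⟨y, hy⟩ := (ZMod.natCast_eq_zero_iff _ _).1 h1
  exact ⟨y, by rw [hy, mul_comm]⟩

variable {R : Type u} [CommRing R] [IsDomain R] [IsDiscreteValuationRing R]
  {X : Over (Spec (CommRingCat.of R))} [IsProper X.hom] [Flat X.hom] [IsLocallyNoetherian X.left]

theorem exists_torsion_lift (hconn : _root_.IsConnected (Models.specialFibreSet R X))
    (hreg : Models.IsRegularScheme X.left)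
    {n : ℕ} (Γ : Fin n → ArSurf.VertComp R X) (hΓ : Models.IsComponentList R X Γ)
    (L : Fin n → X.left.Modules) (hL : ∀ j, ClSub.IsInverseOf (L j) (ClSub.idealMod (Γ j).ι.ker))
    {C : Scheme.{u}} (f : C ⟶ Spec (CommRingCat.of (FractionRing R))) (g : C ⟶ X.left)
    (hg : IsPullback g f X.hom (Spec.map (CommRingCat.ofHom (algebraMap R (FractionRing R)))))
    (h : ℕ) (hcop : Nat.Coprime h (Models.multGcd R X Γ)) (N : C.Modules)
    (hNt : Nonempty (CohB1.tensorPow N h ≅ Coh.structureModule C))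
    (M : X.left.Modules) (hM : PicF.IsInvertible M)
    (hMN : Nonempty ((Scheme.Modules.pullback g).obj M ≅ N)) (v : Fin n → ℤ)
    (hv : ∀ i, ArSurf.inter R X M (Γ i) = ∑ j, ArSurf.inter R X (L j) (Γ i) * v j) :
    ∃ M' : X.left.Modules, PicF.IsInvertible M' ∧
      Nonempty (CohB1.tensorPow M' h ≅ Coh.structureModule X.left) ∧
      Nonempty ((Scheme.Modules.pullback g).obj M' ≅ N) := by
  have hn : 0 < n := pos_of_nonempty hconn.nonempty Γ hΓ
  have hm : ∀ i, 0 < Models.mult R X (Γ i) := Groth.Agent.Lib.T2H9.ArInterL.mult_pos hreg Γ hΓ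
  have hd : 0 < Models.multGcd R X Γ :=
    Nat.pos_of_dvd_of_pos (Finset.gcd_dvd (Finset.mem_univ (⟨0, hn⟩ : Fin n))) (hm ⟨0, hn⟩)
  obtain ⟨M₀, hM₀, ⟨e₀⟩, hdeg₀⟩ :=
    (Groth.Agent.Lib.T2H9.PicModelF.degree_vector_iff hreg Γ hΓ L hL f g hg N M hM hMN).1 ⟨v, hv⟩
  obtain ⟨eN⟩ := hNt
  have hT : PicF.IsInvertible (CohB1.tensorPow M₀ h) :=
    Groth.Agent.Lib.Helper23.SecTw.isInvertible_tensorPow hM₀ h
  have hpullT : pullClHom g (PicF.cl (CohB1.tensorPow M₀ h)) = 1 := by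
    rw [cl_tensorPow, map_pow, pullClHom_cl, cl_eq_of_iso e₀, ← cl_tensorPow]
    exact cl_eq_of_iso eN
  have htrivT : Nonempty ((Scheme.Modules.pullback g).obj (CohB1.tensorPow M₀ h) ≅ Coh.structureModule C) :=
    nonempty_iso_of_cl_eq hpullT
  have hdegT : ∀ i, ArSurf.inter R X (CohB1.tensorPow M₀ h) (Γ i) = 0 := by
    intro i
    rw [inter_tensorPow M₀ hM₀ h (Γ i), hdeg₀ i, mul_zero]
  obtain ⟨ed⟩ := nonempty_tensorPow_multGcd_iso hconn hreg Γ hΓ _ hT f g hg htrivT hdegT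
  have hTd : (PicF.cl M₀ ^ h) ^ Models.multGcd R X Γ = 1 := by
    rw [← cl_tensorPow, ← cl_tensorPow]
    exact cl_eq_of_iso ed
  obtain ⟨x, y, hxy⟩ := exists_one_add_mul_eq hcop hd
  refine ⟨CohB1.tensorMod M₀ (CohB1.tensorPow (CohB1.tensorPow M₀ h) x),
    Groth.Agent.Lib.Helper23.SecTw.isInvertible_tensorMod hM₀
      (Groth.Agent.Lib.Helper23.SecTw.isInvertible_tensorPow hT x), ?_, ?_⟩
  · apply nonempty_iso_of_cl_eq
    rw [cl_tensorPow, cl_tensorMod, cl_tensorPow, cl_tensorPow, cl_structureModule, mul_pow, ← pow_mul,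
      ← pow_mul, ← pow_add]
    have h1 : h + h * (x * h) = h * (Models.multGcd R X Γ * y) := by
      rw [mul_comm _ y, ← hxy]; ring
    rw [h1, pow_mul, pow_mul, hTd, one_pow]
  · apply nonempty_iso_of_cl_eq
    rw [← pullClHom_cl, cl_tensorMod, map_mul, cl_tensorPow, map_pow, hpullT, one_pow, mul_one, pullClHom_cl]
    exact cl_eq_of_iso e₀

end Groth.Agent.Lib.T2H9.PicModelJ
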