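import Mathlib

/-!
# T2H9PnSec1 (helper9): invertible modules are locally generated by one of a set of generators
-/

set_option autoImplicit false
universe u

namespace Groth.Agent.Lib.T2H9.PnSec

open IsLocalRing

/-- For a finite projective module `Q` of rank one at the prime `p` and generators `e i` of `Q`,
one of the maps `R → Q, r ↦ r • e i` becomes bijective after inverting some `f ∉ p`. -/
theorem exists_bijective_localized_toSpanSingleton {R : Type u} [CommRing R] {Q : Type u}
    [AddCommGroup Q] [Module R Q] [Module.Finite R Q] [Module.Projective R Q]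
    (p : Ideal R) [p.IsPrime]
    (hrk : Module.finrank (Localization.AtPrime p) (LocalizedModule p.primeCompl Q) = 1)
    {ι : Type*} [Fintype ι] (e : ι → Q) (he : Submodule.span R (Set.range e) = ⊤) :
    ∃ i, ∃ f, f ∉ p ∧ Function.Bijective
      (LocalizedModule.map (Submonoid.powers f) (LinearMap.toSpanSingleton R Q (e i))) := by
  classical
  set S := p.primeCompl with hS
  set Rp := Localization.AtPrime p with hRp
  set Qp := LocalizedModule S Q with hQp
  have : Module.Free Rp Qp := Module.free_of_flat_of_isLocalRing
  let b : Module.Basis (Fin 1) Rp Qp := Module.finBasisOfFinrankEq Rp Qp hrk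
  let a : ι → Rp := fun i => b.repr (LocalizedModule.mk (e i) 1) 0
  have ha : ∀ i, (LocalizedModule.mk (e i) 1 : Qp) = a i • b 0 := by
    intro i
    have h := b.sum_repr (LocalizedModule.mk (e i) 1)
    rw [Fin.sum_univ_one] at h
    exact h.symm
  -- one of the `a i` is a unit
  have hunit : ∃ i, IsUnit (a i) := by
    by_contra hcon
    push Not at hcon
    have hmem : ∀ i, a i ∈ maximalIdeal Rp := fun i => (mem_maximalIdeal _).2 (hcon i)
    obtain ⟨q, s, hqs⟩ : ∃ (q : Q) (s : S), b 0 = LocalizedModule.mk q s := by
      induction' hb : b 0 using LocalizedModule.induction_on with q s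
      exact ⟨q, s, rfl⟩
    have hq : q ∈ Submodule.span R (Set.range e) := by rw [he]; trivial
    obtain ⟨c, hc⟩ := (Submodule.mem_span_range_iff_exists_fun R).1 hq
    have h1 : (LocalizedModule.mk q 1 : Qp) = (∑ i, algebraMap R Rp (c i) * a i) • b 0 := by
      rw [← hc, Finset.sum_smul]
      have : (LocalizedModule.mk (∑ i, c i • e i) 1 : Qp) =
          ∑ i, c i • (LocalizedModule.mk (e i) 1 : Qp) := by
        rw [← LocalizedModule.mkLinearMap_apply, map_sum]
        simp [LocalizedModule.mkLinearMap_apply, LocalizedModule.smul'_mk]
      rw [this]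
      refine Finset.sum_congr rfl (fun i _ => ?_)
      rw [ha i, mul_smul, algebraMap_smul]
    have h2 : (LocalizedModule.mk q 1 : Qp) = algebraMap R Rp (s : R) • b 0 := by
      rw [hqs, algebraMap_smul, LocalizedModule.smul'_mk]
      exact (LocalizedModule.mk_cancel s q).symm
    have h3 : (∑ i, algebraMap R Rp (c i) * a i) = algebraMap R Rp (s : R) := by
      have h4 := h1.symm.trans h2
      have h5 := congrArg (fun z => b.repr z 0) h4
      simp only [map_smul, Module.Basis.repr_self, Finsupp.smul_apply, Finsupp.single_eq_same,
        smul_eq_mul, mul_one] at h5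
      exact h5
    have h6 : algebraMap R Rp (s : R) ∈ maximalIdeal Rp := by
      rw [← h3]
      exact Ideal.sum_mem _ (fun i _ => Ideal.mul_mem_left _ _ (hmem i))
    exact (mem_maximalIdeal _).1 h6 (IsLocalization.map_units Rp s)
  obtain ⟨i, hi⟩ := hunit
  refine ⟨i, ?_⟩
  set l : R →ₗ[R] Q := LinearMap.toSpanSingleton R Q (e i) with hl
  have hbij : Function.Bijective (IsLocalizedModule.map S (Algebra.linearMap R Rp)
      (LocalizedModule.mkLinearMap S Q) l) := by
    have heq : ∀ x : Rp, IsLocalizedModule.map S (Algebra.linearMap R Rp)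
        (LocalizedModule.mkLinearMap S Q) l x = (x * a i) • b 0 := by
      intro x
      have h7 := (IsLocalizedModule.mapExtendScalars S (Algebra.linearMap R Rp)
        (LocalizedModule.mkLinearMap S Q) Rp l).map_smul x 1
      rw [smul_eq_mul, mul_one] at h7
      rw [IsLocalizedModule.mapExtendScalars_apply_apply,
        IsLocalizedModule.mapExtendScalars_apply_apply] at h7
      rw [h7]
      have h8 : IsLocalizedModule.map S (Algebra.linearMap R Rp)
          (LocalizedModule.mkLinearMap S Q) l 1 = LocalizedModule.mk (e i) 1 := by
        have := IsLocalizedModule.map_apply S (Algebra.linearMap R Rp)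
          (LocalizedModule.mkLinearMap S Q) l 1
        rw [Algebra.linearMap_apply, map_one] at this
        rw [this, LocalizedModule.mkLinearMap_apply, hl, LinearMap.toSpanSingleton_apply, one_smul]
      rw [h8, ha i, mul_smul]
    obtain ⟨u, hu⟩ := hi
    constructor
    · intro x y hxy
      rw [heq, heq] at hxy
      have h9 := congrArg (fun z => b.repr z 0) hxy
      simp only [map_smul, Module.Basis.repr_self, Finsupp.smul_apply, Finsupp.single_eq_same,
        smul_eq_mul, mul_one] at h9
      rw [← hu] at h9
      exact u.isUnit.mul_left_injective h9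
    · intro z
      refine ⟨b.repr z 0 * ↑u⁻¹, ?_⟩
      rw [heq, ← hu, mul_assoc, Units.inv_mul, mul_one]
      have h := b.sum_repr z
      rw [Fin.sum_univ_one] at h
      exact h
  have : Module.FinitePresentation R Q := Module.finitePresentation_of_projective R Q
  obtain ⟨r, hr, hr'⟩ := exists_bijective_map_powers S
    (Algebra.linearMap R Rp) (LocalizedModule.mkLinearMap S Q) l hbij
  exact ⟨r, hr, hr' r dvd_rfl⟩

end Groth.Agent.Lib.T2H9.PnSec
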