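import Mathlib
import Groth.Prelude.Def_ProjUP
import Groth.Agent.Lib.T2H9PnSec1
import Groth.Agent.Lib.Helper20LocFree
import Groth.Agent.Lib.T2H6CurveExt
import Groth.Agent.Lib.Helper2QCoh

/-!
# T2H9PnSec2 (helper9): the module associated with an invertible module over a ring is invertible
-/

set_option autoImplicit false
set_option linter.style.haveILetI false
universe u

open AlgebraicGeometry CategoryTheory TopologicalSpace Opposite

namespace Groth.Agent.Lib.T2H9.PnSec

variable {R : CommRingCat.{u}} (Q : ModuleCat.{u} R)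

/-- the section of `Q~` over `U` attached to `q` -/
noncomputable def sec (U : (Spec R).Opens) (q : Q) : Γ(tilde Q, U) := (tilde.toOpen Q U).hom q

set_option backward.isDefEq.respectTransparency false in
theorem bijective_smul_sec_iff (f : R) (q : Q) :
    Function.Bijective (fun a : Γ(Spec R, PrimeSpectrum.basicOpen f) =>
      a • sec Q (PrimeSpectrum.basicOpen f) q) ↔
    Function.Bijective (LocalizedModule.map (Submonoid.powers f)
      (LinearMap.toSpanSingleton R Q q)) := by
  set U : (Spec R).Opens := PrimeSpectrum.basicOpen f with hU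
  set S := Submonoid.powers f with hS
  let g : Q →ₗ[R] Γ(tilde Q, U) := (tilde.toOpen Q U).hom
  haveI : IsLocalizedModule S g :=
    inferInstanceAs (IsLocalizedModule.Away f (tilde.toOpen Q (PrimeSpectrum.basicOpen f)).hom)
  haveI : IsLocalization S Γ(Spec R, U) :=
    inferInstanceAs (IsLocalization.Away f Γ(Spec R, PrimeSpectrum.basicOpen f))
  let l : R →ₗ[R] Q := LinearMap.toSpanSingleton R Q q
  let iA : LocalizedModule S R ≃ₗ[R] Γ(Spec R, U) :=
    IsLocalizedModule.iso S (Algebra.linearMap R Γ(Spec R, U))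
  let iN : LocalizedModule S Q ≃ₗ[R] Γ(tilde Q, U) := IsLocalizedModule.iso S g
  let θ : Γ(Spec R, U) →ₗ[R] Γ(tilde Q, U) :=
    { toFun := fun a => a • sec Q U q
      map_add' := fun a b => add_smul a b _
      map_smul' := fun r a => by
        simp only [RingHom.id_apply]
        rw [smul_assoc] }
  let ψ : Γ(Spec R, U) →ₗ[R] Γ(tilde Q, U) :=
    iN.toLinearMap ∘ₗ ((LocalizedModule.map S l).restrictScalars R) ∘ₗ iA.symm.toLinearMap
  have hψ : Function.Bijective ψ ↔ Function.Bijective (LocalizedModule.map S l) := by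
    change Function.Bijective (iN ∘ (LocalizedModule.map S l) ∘ iA.symm) ↔ _
    rw [Function.Bijective.of_comp_iff' iN.bijective, Function.Bijective.of_comp_iff _ iA.symm.bijective]
  have hθψ : θ = ψ := by
    apply IsLocalizedModule.linearMap_ext S (Algebra.linearMap R Γ(Spec R, U)) g
    ext
    simp only [LinearMap.coe_comp, Function.comp_apply, Algebra.linearMap_apply, map_one,
      LinearEquiv.coe_coe, LinearMap.coe_restrictScalars, ψ, iA, iN, θ, LinearMap.coe_mk,
      AddHom.coe_mk]
    have h1 : (IsLocalizedModule.iso S (Algebra.linearMap R Γ(Spec R, U))).symm 1 =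
        LocalizedModule.mk (1 : R) 1 := by
      have := IsLocalizedModule.iso_symm_apply S (Algebra.linearMap R Γ(Spec R, U)) (1 : R)
      rwa [Algebra.linearMap_apply, map_one] at this
    rw [h1, LocalizedModule.map_mk, IsLocalizedModule.iso_mk_one, one_smul]
    change _ = g (LinearMap.toSpanSingleton R Q q 1)
    rw [LinearMap.toSpanSingleton_apply, one_smul]
    rfl
  have : (fun a : Γ(Spec R, U) => a • sec Q U q) = θ := rfl
  rw [this, hθψ]
  exact hψ

theorem bijective_smul_sec (f : R) (q : Q)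
    (h : Function.Bijective (LocalizedModule.map (Submonoid.powers f)
      (LinearMap.toSpanSingleton R Q q))) :
    Function.Bijective (fun a : Γ(Spec R, PrimeSpectrum.basicOpen f) =>
      a • sec Q (PrimeSpectrum.basicOpen f) q) :=
  (bijective_smul_sec_iff Q f q).2 h

open Groth.Agent.Lib.Helper20.LocFree in
theorem isInvertible_tilde [Module.Finite R Q] [Module.Projective R Q]
    (hrk : ∀ p : PrimeSpectrum R, Module.finrank (Localization.AtPrime p.asIdeal)
      (LocalizedModule p.asIdeal.primeCompl Q) = 1)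
    {ι : Type*} [Fintype ι] (e : ι → Q) (he : Submodule.span R (Set.range e) = ⊤) :
    PicF.IsInvertible (tilde Q) := by
  apply Groth.Agent.Lib.T2H6.CurveExt.isInvertible_of_rank_one
  intro x
  obtain ⟨i, f, hf, hbij⟩ :=
    exists_bijective_localized_toSpanSingleton (PrimeSpectrum.asIdeal x) (hrk x) e he
  have hb := bijective_smul_sec Q f (e i) hbij
  have hU : IsAffineOpen (X := Spec R) (PrimeSpectrum.basicOpen f) := IsAffineOpen.Spec_basicOpen f
  let E : Γ(Spec R, PrimeSpectrum.basicOpen f) ≃ₗ[Γ(Spec R, PrimeSpectrum.basicOpen f)]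
      Γ(tilde Q, PrimeSpectrum.basicOpen f) :=
    LinearEquiv.ofBijective (LinearMap.toSpanSingleton _ _ (sec Q (PrimeSpectrum.basicOpen f) (e i)))
      hb
  let b : Module.Basis (Fin 1) Γ(Spec R, PrimeSpectrum.basicOpen f)
      Γ(tilde Q, PrimeSpectrum.basicOpen f) :=
    Module.Basis.ofEquivFun (E.symm ≪≫ₗ (LinearEquiv.funUnique (Fin 1) _ _).symm)
  exact ⟨PrimeSpectrum.basicOpen f, hf, ⟨restrictIsoFreeMod (tilde Q) hU b⟩⟩

theorem sec_top_surjective : Function.Surjective (sec Q ⊤) := by
  haveI : IsIso (tilde.toOpen Q ⊤) := tilde.isIso_toOpen_top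
  exact (ConcreteCategory.bijective_of_isIso (tilde.toOpen Q ⊤)).2

theorem sec_top_injective : Function.Injective (sec Q ⊤) := by
  haveI : IsIso (tilde.toOpen Q ⊤) := tilde.isIso_toOpen_top
  exact (ConcreteCategory.bijective_of_isIso (tilde.toOpen Q ⊤)).1

theorem sec_smul (U : (Spec R).Opens) (r : R) (q : Q) : sec Q U (r • q) = r • sec Q U q :=
  (tilde.toOpen Q U).hom.map_smul r q

theorem sec_add (U : (Spec R).Opens) (q q' : Q) : sec Q U (q + q') = sec Q U q + sec Q U q' :=
  (tilde.toOpen Q U).hom.map_add q q'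

theorem sec_sum (U : (Spec R).Opens) {ι : Type*} (t : Finset ι) (q : ι → Q) :
    sec Q U (∑ i ∈ t, q i) = ∑ i ∈ t, sec Q U (q i) :=
  map_sum (tilde.toOpen Q U).hom q t

theorem generatedBy_tilde {ι : Type*} [Fintype ι] (e : ι → Q)
    (he : Submodule.span R (Set.range e) = ⊤) :
    ProjUP.GeneratedBy (tilde Q) (fun i => sec Q ⊤ (e i)) := by
  intro x
  rw [eq_top_iff]
  intro y _
  obtain ⟨s, m, hxs, hsm⟩ := Groth.Agent.Lib.Helper2.QCoh.exists_smul_eq_germ
    (isAffineOpen_top (Spec R)) (tilde Q) x trivial y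
  have hu : IsUnit ((Spec R).presheaf.germ ⊤ x trivial s) :=
    ((Spec R).mem_basicOpen s x trivial).1 hxs
  obtain ⟨q, rfl⟩ := sec_top_surjective Q m
  have hq : q ∈ Submodule.span R (Set.range e) := by rw [he]; trivial
  obtain ⟨c, rfl⟩ := (Submodule.mem_span_range_iff_exists_fun R).1 hq
  have h1 : (tilde Q).presheaf.germ ⊤ x trivial (sec Q ⊤ (∑ i, c i • e i)) ∈
      Submodule.span ((Spec R).presheaf.stalk x)
        (Set.range fun i => ((tilde Q).presheaf.germ ⊤ x trivial).hom (sec Q ⊤ (e i))) := by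
    rw [sec_sum, map_sum]
    refine Submodule.sum_mem _ (fun i _ => ?_)
    rw [sec_smul, Scheme.Modules.smul_Spec_def, Groth.Agent.Lib.Helper2.QCoh.germ_smul]
    exact Submodule.smul_mem _ _ (Submodule.subset_span ⟨i, rfl⟩)
  rw [← hsm] at h1
  obtain ⟨u, hu'⟩ := hu
  have h2 : y = (u⁻¹ : ((Spec R).presheaf.stalk x)ˣ).1 •
      ((Spec R).presheaf.germ ⊤ x trivial s • y) := by
    rw [← hu', smul_smul, Units.inv_mul, one_smul]
  rw [h2]
  exact Submodule.smul_mem _ _ h1

end Groth.Agent.Lib.T2H9.PnSec
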