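import Mathlib
import Groth.Prelude.Def_ProjUP
import Groth.Agent.Lib.T2H9PnSec2
import Groth.Agent.Lib.T2H6VAmpleC

/-!
# T2H9PnSec3 (helper9): sections of `P^n_R` from invertible quotients of `R^{n+1}`
-/

set_option autoImplicit false
set_option linter.style.haveILetI false
universe u

open AlgebraicGeometry CategoryTheory TopologicalSpace Opposite

namespace Groth.Agent.Lib.T2H9.PnSec

/-- the two `R`-module structures on global sections over `Spec R` agree -/
theorem smul_top_eq {R : CommRingCat.{u}} (M : (Spec R).Modules) (r : R) (x : Γ(M, ⊤)) :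
    r • x = ((Scheme.ΓSpecIso R).inv r : Γ(Spec R, ⊤)) • x := by
  rw [Scheme.Modules.smul_Spec_def]
  have h : (⊤ : (Spec R).Opens).leTop.op = 𝟙 _ := rfl
  rw [h, (Spec R).presheaf.map_id]
  rfl

/-- membership in the kernel of a section, in terms of the `Γ(Spec R, O)`-module structure -/
theorem mem_secKernel_iff {R : Type u} [CommRing R] (n : ℕ)
    (s : Spec (CommRingCat.of R) ⟶ CohB1.ProjSpace n R) (c : Fin (n + 1) → R) :
    c ∈ ProjUP.secKernel n R s ↔
      ∑ i, ((Scheme.ΓSpecIso (CommRingCat.of R)).inv (c i) : Γ(Spec (CommRingCat.of R), ⊤)) •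
        (ProjUP.pullSec s (Twist.twistProjSpace n R 1) (ProjUP.coord n R i) :
          Γ((Scheme.Modules.pullback s).obj (Twist.twistProjSpace n R 1), ⊤)) = 0 := by
  letI : Module R (ProjUP.Γm ((Scheme.Modules.pullback s).obj (Twist.twistProjSpace n R 1))) :=
    Module.compHom _ (Scheme.ΓSpecIso (CommRingCat.of R)).inv.hom
  change Fintype.linearCombination R
    (fun i => ProjUP.pullSec s (Twist.twistProjSpace n R 1) (ProjUP.coord n R i)) c = 0 ↔ _
  rw [Fintype.linearCombination_apply]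
  rfl

theorem exists_section_of_invertible_quotient {R : Type u} [CommRing R] (n : ℕ)
    (F : Submodule R (Fin (n + 1) → R))
    (hproj : Module.Projective R ((Fin (n + 1) → R) ⧸ F))
    (hrk : ∀ p : PrimeSpectrum R, Module.finrank (Localization.AtPrime p.asIdeal)
      (LocalizedModule p.asIdeal.primeCompl ((Fin (n + 1) → R) ⧸ F)) = 1) :
    ∃ s : Spec (CommRingCat.of R) ⟶ CohB1.ProjSpace n R,
      s ≫ CohB1.ProjSpace.toSpec n R = 𝟙 _ ∧ ProjUP.secKernel n R s = F := by
  classical
  let Q : ModuleCat.{u} (CommRingCat.of R) := ModuleCat.of R ((Fin (n + 1) → R) ⧸ F)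
  let e : Fin (n + 1) → Q := fun i => Submodule.Quotient.mk (Pi.single i (1 : R))
  have hmk : ∀ c : Fin (n + 1) → R, ∑ i, c i • e i = (Submodule.Quotient.mk c : Q) := by
    intro c
    have h1 : c = ∑ i, c i • (Pi.single i (1 : R) : Fin (n + 1) → R) := by
      ext j
      simp [Finset.sum_apply, Pi.single_apply]
    conv_rhs => rw [h1]
    rw [← Submodule.mkQ_apply, map_sum]
    rfl
  have he : Submodule.span (CommRingCat.of R) (Set.range e) = ⊤ := by
    rw [eq_top_iff]
    intro q _
    obtain ⟨c, rfl⟩ := Submodule.Quotient.mk_surjective F q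
    rw [← hmk c]
    exact Submodule.sum_mem _ (fun i _ => Submodule.smul_mem _ _ (Submodule.subset_span ⟨i, rfl⟩))
  haveI : Module.Finite (CommRingCat.of R) Q :=
    inferInstanceAs (Module.Finite R ((Fin (n + 1) → R) ⧸ F))
  haveI : Module.Projective (CommRingCat.of R) Q := hproj
  have hL : PicF.IsInvertible (tilde Q) := isInvertible_tilde Q hrk e he
  have hgen := generatedBy_tilde Q e he
  obtain ⟨r, hr, -, τ, hτ⟩ := Groth.Agent.Lib.T2H6.VAmpleC.exists_mor_Pn n
    (𝟙 (Spec (CommRingCat.of R))) (tilde Q) hL (fun i => sec Q ⊤ (e i)) hgen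
  refine ⟨r, hr, ?_⟩
  ext c
  rw [mem_secKernel_iff]
  have hinj : Function.Injective (τ.hom.app ⊤) := by
    haveI : IsIso (τ.hom.app ⊤) := Scheme.Modules.Hom.isIso_iff_isIso_app.1 inferInstance _
    exact (ConcreteCategory.bijective_of_isIso (τ.hom.app ⊤)).1
  rw [← (map_eq_zero_iff _ hinj), map_sum]
  have h2 : ∀ i, τ.hom.app ⊤ (((Scheme.ΓSpecIso (CommRingCat.of R)).inv (c i) :
      Γ(Spec (CommRingCat.of R), ⊤)) •
        (ProjUP.pullSec r (Twist.twistProjSpace n R 1) (ProjUP.coord n R i) :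
          Γ((Scheme.Modules.pullback r).obj (Twist.twistProjSpace n R 1), ⊤))) =
      sec Q ⊤ (c i • e i) := by
    intro i
    rw [sec_smul, smul_top_eq (R := CommRingCat.of R) (tilde Q) (c i) (sec Q ⊤ (e i)), ← hτ i]
    exact Scheme.Modules.Hom.app_smul τ.hom _ _
  rw [Finset.sum_congr rfl (fun i _ => h2 i), ← sec_sum, hmk]
  have h0 : sec Q ⊤ 0 = 0 := (tilde.toOpen Q ⊤).hom.map_zero
  rw [← h0, (sec_top_injective Q).eq_iff]
  exact Submodule.Quotient.mk_eq_zero F

end Groth.Agent.Lib.T2H9.PnSec
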