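import Mathlib

/-!
# T2H9PnSec4 (helper9): modules locally generated freely by one of finitely many elements
-/

set_option autoImplicit false
universe u

namespace Groth.Agent.Lib.T2H9.PnSec

variable {R : Type u} [CommRing R] {M : Type u} [AddCommGroup M] [Module R M]

/-- consequences of bijectivity of `R_f → M_f, 1 ↦ t` -/
theorem exists_pow_smul_eq_of_bijective {f : R} {t : M}
    (h : Function.Bijective (LocalizedModule.map (Submonoid.powers f)
      (LinearMap.toSpanSingleton R M t))) (m : M) :
    ∃ (N : ℕ) (a : R), f ^ N • m = a • t := by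
  obtain ⟨x, hx⟩ := h.2 (LocalizedModule.mk m 1)
  induction' x using LocalizedModule.induction_on with a s
  rw [LocalizedModule.map_mk, LocalizedModule.mk_eq] at hx
  obtain ⟨u, hu⟩ := hx
  obtain ⟨k, hk⟩ := s.2
  obtain ⟨k', hk'⟩ := u.2
  refine ⟨k' + k, f ^ k' * a, ?_⟩
  have h1 : (u : R) • (1 : Submonoid.powers f) • LinearMap.toSpanSingleton R M t a =
      (u : R) • (s : R) • m := hu
  rw [LinearMap.toSpanSingleton_apply] at h1
  rw [pow_add, mul_smul, mul_smul]
  have h2 : ((1 : Submonoid.powers f) : R) • a • t = a • t := one_smul _ _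
  rw [show ((1 : Submonoid.powers f) • (a • t) : M) = a • t from one_smul _ _] at h1
  rw [← hk, ← hk'] at h1
  exact h1.symm

theorem exists_pow_mul_eq_zero_of_bijective {f : R} {t : M}
    (h : Function.Bijective (LocalizedModule.map (Submonoid.powers f)
      (LinearMap.toSpanSingleton R M t))) (a : R) (ha : a • t = 0) :
    ∃ N : ℕ, f ^ N * a = 0 := by
  have h1 : LocalizedModule.map (Submonoid.powers f) (LinearMap.toSpanSingleton R M t)
      (LocalizedModule.mk a 1) = 0 := by
    rw [LocalizedModule.map_mk, LinearMap.toSpanSingleton_apply, ha, LocalizedModule.zero_mk]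
  have h2 : (LocalizedModule.mk a 1 : LocalizedModule (Submonoid.powers f) R) = 0 :=
    h.1 (h1.trans (map_zero _).symm)
  rw [← LocalizedModule.zero_mk (1 : Submonoid.powers f), LocalizedModule.mk_eq] at h2
  obtain ⟨u, hu⟩ := h2
  obtain ⟨k, hk⟩ := u.2
  refine ⟨k, ?_⟩
  have h3 : (u : R) • ((1 : Submonoid.powers f) : R) • a = (u : R) • ((1 : Submonoid.powers f) : R) • (0 : R) := hu
  simpa [← hk] using h3

variable {ι : Type*} (t : ι → M)
  (hloc : ∀ p : PrimeSpectrum R, ∃ i, ∃ f, f ∉ p.asIdeal ∧ Function.Bijective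
    (LocalizedModule.map (Submonoid.powers f) (LinearMap.toSpanSingleton R M (t i))))

include hloc in
theorem span_eq_top_of_locally_bijective : Submodule.span R (Set.range t) = ⊤ := by
  rw [eq_top_iff]
  intro m _
  set s : Set R := {f | ∃ N : ℕ, f ^ N • m ∈ Submodule.span R (Set.range t)} with hs
  have hspan : Ideal.span s = ⊤ := by
    by_contra hne
    obtain ⟨P, hP, hle⟩ := Ideal.exists_le_maximal _ hne
    obtain ⟨i, f, hf, hbij⟩ := hloc ⟨P, hP.isPrime⟩
    obtain ⟨N, a, hNa⟩ := exists_pow_smul_eq_of_bijective hbij m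
    have hfs : f ∈ s := ⟨N, by rw [hNa]; exact Submodule.smul_mem _ _ (Submodule.subset_span ⟨i, rfl⟩)⟩
    exact hf (hle (Ideal.subset_span hfs))
  exact Submodule.mem_of_span_eq_top_of_smul_pow_mem _ s hspan m (fun r => r.2)

include hloc in
theorem finrank_localizedModule_eq_one (p : PrimeSpectrum R) :
    Module.finrank (Localization.AtPrime p.asIdeal)
      (LocalizedModule p.asIdeal.primeCompl M) = 1 := by
  obtain ⟨i, f, hf, hbij⟩ := hloc p
  set S := p.asIdeal.primeCompl with hS
  set Rp := Localization.AtPrime p.asIdeal with hRp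
  let τ : LocalizedModule S M := LocalizedModule.mk (t i) 1
  let g : Rp →ₗ[Rp] LocalizedModule S M := LinearMap.toSpanSingleton Rp _ τ
  have hg : Function.Bijective g := by
    constructor
    · rw [injective_iff_map_eq_zero]
      intro x hx
      obtain ⟨a, s, rfl⟩ := IsLocalization.exists_mk'_eq S x
      have h1 : (IsLocalization.mk' Rp a s) • τ = LocalizedModule.mk (a • t i) s := by
        rw [← Localization.mk_eq_mk', LocalizedModule.mk_smul_mk, mul_one]
      have h2 : (LocalizedModule.mk (a • t i) s : LocalizedModule S M) = 0 := by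
        rw [← h1]; exact hx
      rw [← LocalizedModule.zero_mk s, LocalizedModule.mk_eq] at h2
      obtain ⟨u, hu⟩ := h2
      have h3 : ((u : R) * (s : R) * a) • t i = 0 := by
        have : (u : R) • (s : R) • a • t i = (u : R) • (s : R) • (0 : M) := hu
        rw [smul_zero, smul_zero] at this
        rw [mul_smul, mul_smul]
        exact this
      obtain ⟨N, hN⟩ := exists_pow_mul_eq_zero_of_bijective hbij _ h3
      rw [IsLocalization.mk'_eq_zero_iff]
      refine ⟨⟨f ^ N * (u : R) * (s : R), ?_⟩, ?_⟩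
      · exact S.mul_mem (S.mul_mem (S.pow_mem hf N) u.2) s.2
      · have h4 : f ^ N * (u : R) * (s : R) * a = f ^ N * ((u : R) * (s : R) * a) := by ring
        exact h4.trans hN
    · intro y
      induction' y using LocalizedModule.induction_on with m s
      obtain ⟨N, a, hNa⟩ := exists_pow_smul_eq_of_bijective hbij m
      refine ⟨IsLocalization.mk' Rp a (⟨f ^ N, S.pow_mem hf N⟩ * s), ?_⟩
      have h5 : g (IsLocalization.mk' Rp a (⟨f ^ N, S.pow_mem hf N⟩ * s)) =
          (IsLocalization.mk' Rp a (⟨f ^ N, S.pow_mem hf N⟩ * s)) • τ := rfl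
      rw [h5, ← Localization.mk_eq_mk', LocalizedModule.mk_smul_mk, mul_one, LocalizedModule.mk_eq]
      refine ⟨1, ?_⟩
      rw [one_smul, one_smul, ← hNa]
      have h6 : (((⟨f ^ N, S.pow_mem hf N⟩ * s : S) : R)) = f ^ N * (s : R) := rfl
      have h7 : ((⟨f ^ N, S.pow_mem hf N⟩ * s : S)) • m = (f ^ N * (s : R)) • m := rfl
      rw [h7, mul_smul, smul_comm]
      rfl
  have e : Rp ≃ₗ[Rp] LocalizedModule S M := LinearEquiv.ofBijective g hg
  rw [← e.finrank_eq, Module.finrank_self]

end Groth.Agent.Lib.T2H9.PnSec
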