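import Mathlib
import Groth.Agent.Lib.T2H6VAmpleC
import Groth.Agent.Lib.T2H9Alg3
import Groth.Agent.Lib.Helper18OmLS11
import Groth.Agent.Lib.T2H5Twist

/-!
Rigidity of projective space (SGA1 III), part 5: modules with n+1 global sections (Dat), their pullbacks and isomorphisms, and the universal property of projective space in these terms (ext, exists_mor, generatedBy_of_equiv).
-/

set_option autoImplicit false
set_option linter.style.haveILetI false
set_option linter.unusedVariables false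
set_option linter.unusedSectionVars false
universe u
open CategoryTheory CategoryTheory.Limits Opposite AlgebraicGeometry TopologicalSpace

namespace Groth.Agent.Lib.T3H9.Rig

/-- a module with `n + 1` global sections -/
structure Dat (T : Scheme.{u}) (n : ℕ) where
  N : T.Modules
  σ : Fin (n + 1) → ProjUP.Γm N

namespace Dat

variable {T T' T'' : Scheme.{u}} {n : ℕ}

/-- isomorphism of data -/
def Equiv (D D' : Dat T n) : Prop := ∃ τ : D.N ≅ D'.N, ∀ k, τ.hom.app ⊤ (D.σ k) = D'.σ k

theorem Equiv.refl (D : Dat T n) : Equiv D D := ⟨Iso.refl _, fun k => rfl⟩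

theorem Equiv.symm {D D' : Dat T n} (h : Equiv D D') : Equiv D' D := by
  obtain ⟨τ, hτ⟩ := h
  refine ⟨τ.symm, fun k => ?_⟩
  rw [← hτ k]
  change (τ.hom ≫ τ.inv).app ⊤ _ = _
  rw [τ.hom_inv_id]
  rfl

theorem Equiv.trans {D D' D'' : Dat T n} (h : Equiv D D') (h' : Equiv D' D'') : Equiv D D'' := by
  obtain ⟨τ, hτ⟩ := h
  obtain ⟨τ', hτ'⟩ := h'
  refine ⟨τ ≪≫ τ', fun k => ?_⟩
  change τ'.hom.app ⊤ (τ.hom.app ⊤ _) = _
  rw [hτ k, hτ' k]

/-- pullback of data -/
noncomputable def pull (g : T' ⟶ T) (D : Dat T n) : Dat T' n :=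
  ⟨(Scheme.Modules.pullback g).obj D.N, fun k => ProjUP.pullSec g D.N (D.σ k)⟩

theorem pull_equiv (g : T' ⟶ T) {D D' : Dat T n} (h : Equiv D D') : Equiv (pull g D) (pull g D') := by
  obtain ⟨τ, hτ⟩ := h
  refine ⟨(Scheme.Modules.pullback g).mapIso τ, fun k => ?_⟩
  change ((Scheme.Modules.pullback g).map τ.hom).app ⊤ (ProjUP.pullSec g D.N (D.σ k)) = _
  rw [Groth.Agent.Lib.T2H9.Alg.map_pullSec, hτ k]
  rfl

theorem pull_comp (j : T'' ⟶ T') (p : T' ⟶ T) (D : Dat T n) :
    Equiv (pull j (pull p D)) (pull (j ≫ p) D) :=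
  ⟨(Scheme.Modules.pullbackComp j p).app D.N, fun k =>
    Groth.Agent.Lib.T2H9.Alg.pullbackComp_pullSec j p D.N (D.σ k)⟩

theorem pull_id (D : Dat T n) : Equiv (pull (𝟙 T) D) D :=
  ⟨(Scheme.Modules.pullbackId T).app D.N, fun k =>
    Groth.Agent.Helper18OmLS.pullbackId_hom_pullSect D.N ⊤ (D.σ k)⟩

theorem pull_congr {g g' : T' ⟶ T} (h : g = g') (D : Dat T n) : Equiv (pull g D) (pull g' D) := by
  subst h
  exact Equiv.refl _

/-- the universal datum on projective space -/
noncomputable def univ (n : ℕ) (R : Type u) [CommRing R] : Dat (CohB1.ProjSpace n R) n :=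
  ⟨Twist.twistProjSpace n R 1, ProjUP.coord n R⟩

variable {R : Type u} [CommRing R]

theorem isInvertible_univ (n : ℕ) (R : Type u) [CommRing R] : PicF.IsInvertible (univ n R).N :=
  Groth.Agent.Lib.T2H5.Twist.isInvertible_twist n R 1

theorem isInvertible_pull (g : T' ⟶ T) (D : Dat T n) (h : PicF.IsInvertible D.N) :
    PicF.IsInvertible (pull g D).N :=
  Groth.Agent.Lib.Helper23.PB.isInvertible_pullback g D.N h

/-- two morphisms to projective space with isomorphic pulled back universal data coincide -/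
theorem ext (r r' : T ⟶ CohB1.ProjSpace n R)
    (h : r ≫ CohB1.ProjSpace.toSpec n R = r' ≫ CohB1.ProjSpace.toSpec n R)
    (he : Equiv (pull r (univ n R)) (pull r' (univ n R))) : r = r' := by
  obtain ⟨τ, hτ⟩ := he
  exact Groth.Agent.S3573.result n r r' h τ hτ

/-- the morphism to projective space attached to a generated invertible datum -/
theorem exists_mor (q : T ⟶ Spec (CommRingCat.of R)) (D : Dat T n) (hinv : PicF.IsInvertible D.N)
    (hgen : ProjUP.GeneratedBy D.N D.σ) :
    ∃ r : T ⟶ CohB1.ProjSpace n R, r ≫ CohB1.ProjSpace.toSpec n R = q ∧ Equiv (pull r (univ n R)) D := by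
  obtain ⟨r, hr, -, τ, hτ⟩ := Groth.Agent.Lib.T2H6.VAmpleC.exists_mor_Pn n q D.N hinv D.σ hgen
  exact ⟨r, hr, τ, hτ⟩

theorem generatedBy_of_equiv (r : T ⟶ CohB1.ProjSpace n R) (D : Dat T n) (hinv : PicF.IsInvertible D.N)
    (h : Equiv (pull r (univ n R)) D) : ProjUP.GeneratedBy D.N D.σ := by
  obtain ⟨τ, hτ⟩ := h
  exact (Groth.Agent.Lib.T2H6.VAmpleC.chart_data_of_iso n r D.N hinv τ D.σ (fun k => (hτ k).symm)).1

theorem generatedBy_pull_univ (r : T ⟶ CohB1.ProjSpace n R) :
    ProjUP.GeneratedBy (pull r (univ n R)).N (pull r (univ n R)).σ :=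
  generatedBy_of_equiv r _ (isInvertible_pull r _ (isInvertible_univ n R)) (Equiv.refl _)

theorem generatedBy_univ (n : ℕ) (R : Type u) [CommRing R] :
    ProjUP.GeneratedBy (univ n R).N (univ n R).σ :=
  generatedBy_of_equiv (𝟙 _) _ (isInvertible_univ n R) (pull_id _)

end Dat

end Groth.Agent.Lib.T3H9.Rig
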