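import Mathlib
import Groth.Prelude.Def_ProjUP
import Groth.Agent.Lib.T2H9PnSec3
import Groth.Agent.Lib.T2H9PnSec4
import Groth.Agent.Lib.Helper13ProjUPb
import Groth.Agent.Lib.Helper2FPAff
import Groth.Agent.Lib.Helper18PBUnit2
import Groth.Agent.Lib.T3H9Rig5

/-!
# T2H9PnSec5 (helper9): global sections of an invertible module on `Spec R` generated by sections
-/

set_option autoImplicit false
set_option linter.style.haveILetI false
universe u

open AlgebraicGeometry CategoryTheory TopologicalSpace Opposite

namespace Groth.Agent.Lib.T2H9.PnSec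

open Groth.Agent.Lib.Helper23.SecTw Groth.Agent.Lib.Helper6

variable {R : CommRingCat.{u}} (L : (Spec R).Modules)

/-- global sections as an `R`-module -/
noncomputable abbrev GQ : ModuleCat.{u} R := (modulesSpecToSheaf.obj L).presheaf.obj (.op ⊤)

theorem fromTildeΓ_app_sec (U : (Spec R).Opens) (q : GQ L) :
    L.fromTildeΓ.app U (sec (GQ L) U q) = res L le_top q := by
  have h := Scheme.Modules.toOpen_fromTildeΓ_app L U
  have h2 := congrArg (fun φ => φ.hom q) h
  exact h2

theorem finite_projective_GQ (hL : PicF.IsInvertible L) :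
    Module.Finite R (GQ L) ∧ Module.Projective R (GQ L) := by
  haveI : L.IsQuasicoherent := isQuasicoherent_of_isInvertible L hL
  haveI hiso : IsIso L.fromTildeΓ := inferInstance
  have h1 : FlatMod.IsFinLocFree (tilde (GQ L)) :=
    Groth.Agent.Helper18PBUnit.isFinLocFree_of_iso (asIso L.fromTildeΓ).symm
      (Groth.Agent.Helper18PBUnit.isFinLocFree_of_isInvertible hL)
  exact (Groth.Agent.Lib.Helper2.FPAff.isFinLocFree_tilde_iff R (GQ L)).1 h1

theorem exists_bijective_of_generatedBy (hL : PicF.IsInvertible L) {ι : Type*}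
    (t : ι → ProjUP.Γm L) (hgen : ProjUP.GeneratedBy L t) (p : PrimeSpectrum R) :
    ∃ i, ∃ f : R, f ∉ p.asIdeal ∧ Function.Bijective
      (LocalizedModule.map (Submonoid.powers f)
        (LinearMap.toSpanSingleton R (GQ L) (t i))) := by
  haveI : L.IsQuasicoherent := isQuasicoherent_of_isInvertible L hL
  haveI hiso : IsIso L.fromTildeΓ := inferInstance
  obtain ⟨i, hi⟩ := Groth.Agent.Helper13ProjUP.exists_mem_genLocus L hL t hgen p
  obtain ⟨_, ⟨_, ⟨f, rfl⟩, rfl⟩, hpf, hfW⟩ :=
    PrimeSpectrum.isBasis_basic_opens.exists_subset_of_mem_open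
      hi (CohB1.genLocus L (secHom L (t i))).2
  refine ⟨i, f, hpf, ?_⟩
  have hle : (PrimeSpectrum.basicOpen f : (Spec R).Opens) ≤ CohB1.genLocus L (secHom L (t i)) := hfW
  have h1 := ((isGen_sv_genLocus L (secHom L (t i))).mono hle) (PrimeSpectrum.basicOpen f) le_rfl
  rw [res_res, sv_secHom, res_res] at h1
  rw [← bijective_smul_sec_iff]
  have hb : Function.Bijective (L.fromTildeΓ.app (PrimeSpectrum.basicOpen f)) := by
    haveI : IsIso (L.fromTildeΓ.app (PrimeSpectrum.basicOpen f)) :=
      Scheme.Modules.Hom.isIso_iff_isIso_app.1 inferInstance _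
    exact ConcreteCategory.bijective_of_isIso _
  have h2 : (fun a : Γ(Spec R, PrimeSpectrum.basicOpen f) => a • res L le_top (t i)) =
      (L.fromTildeΓ.app (PrimeSpectrum.basicOpen f)) ∘
        (fun a : Γ(Spec R, PrimeSpectrum.basicOpen f) =>
          a • sec (GQ L) (PrimeSpectrum.basicOpen f) (t i)) := by
    funext a
    rw [Function.comp_apply, Scheme.Modules.Hom.app_smul, fromTildeΓ_app_sec]
  rw [h2] at h1
  exact (Function.Bijective.of_comp_iff' hb _).1 h1

/-- transporting the rank-one condition along a linear equivalence -/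
theorem finrank_localizedModule_congr {A : Type u} [CommRing A] {M N : Type u}
    [AddCommGroup M] [Module A M] [AddCommGroup N] [Module A N] (e : M ≃ₗ[A] N)
    (p : PrimeSpectrum A) :
    Module.finrank (Localization.AtPrime p.asIdeal) (LocalizedModule p.asIdeal.primeCompl M) =
      Module.finrank (Localization.AtPrime p.asIdeal) (LocalizedModule p.asIdeal.primeCompl N) :=
  (IsLocalizedModule.mapEquiv p.asIdeal.primeCompl
    (LocalizedModule.mkLinearMap p.asIdeal.primeCompl M)
    (LocalizedModule.mkLinearMap p.asIdeal.primeCompl N)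
    (Localization.AtPrime p.asIdeal) e).finrank_eq

theorem quotient_secKernel_invertible {A : Type u} [CommRing A] (n : ℕ)
    (s : Spec (CommRingCat.of A) ⟶ CohB1.ProjSpace n A) :
    Module.Projective A ((Fin (n + 1) → A) ⧸ ProjUP.secKernel n A s) ∧
    ∀ p : PrimeSpectrum A, Module.finrank (Localization.AtPrime p.asIdeal)
      (LocalizedModule p.asIdeal.primeCompl
        ((Fin (n + 1) → A) ⧸ ProjUP.secKernel n A s)) = 1 := by
  set L : (Spec (CommRingCat.of A)).Modules :=
    (Scheme.Modules.pullback s).obj (Twist.twistProjSpace n A 1) with hLdef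
  set t : Fin (n + 1) → ProjUP.Γm L :=
    fun i => ProjUP.pullSec s (Twist.twistProjSpace n A 1) (ProjUP.coord n A i) with htdef
  have hL : PicF.IsInvertible L :=
    Groth.Agent.Lib.Helper23.PB.isInvertible_pullback s _
      (Groth.Agent.Lib.T2H5.Twist.isInvertible_twist n A 1)
  have hgen : ProjUP.GeneratedBy L t := Groth.Agent.Lib.T3H9.Rig.Dat.generatedBy_pull_univ s
  have hloc := exists_bijective_of_generatedBy L hL t hgen
  let t' : Fin (n + 1) → (GQ L : Type u) := fun i => t i
  have hspan : Submodule.span A (Set.range t') = ⊤ :=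
    span_eq_top_of_locally_bijective (R := A) (M := GQ L) t' hloc
  have hrk := finrank_localizedModule_eq_one (R := A) (M := GQ L) t' hloc
  obtain ⟨hfin, hproj⟩ := finite_projective_GQ L hL
  let φ : (Fin (n + 1) → A) →ₗ[A] GQ L := Fintype.linearCombination A t'
  have hφs : Function.Surjective φ := by
    rw [← LinearMap.range_eq_top, Fintype.range_linearCombination]
    exact hspan
  have hker : LinearMap.ker φ = ProjUP.secKernel n A s := by
    ext c
    rw [mem_secKernel_iff, LinearMap.mem_ker, Fintype.linearCombination_apply]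
    have h1 : ∀ i, (c i • t' i : GQ L) =
        ((Scheme.ΓSpecIso (CommRingCat.of A)).inv (c i) : Γ(Spec (CommRingCat.of A), ⊤)) •
          (t i : Γ(L, ⊤)) := fun i =>
      smul_top_eq (R := CommRingCat.of A) L (c i) (t i)
    rw [Finset.sum_congr rfl (fun i _ => h1 i)]
    rfl
  let e : ((Fin (n + 1) → A) ⧸ ProjUP.secKernel n A s) ≃ₗ[A] GQ L :=
    (Submodule.quotEquivOfEq _ _ hker.symm).trans (φ.quotKerEquivOfSurjective hφs)
  refine ⟨Module.Projective.of_equiv e.symm, fun p => ?_⟩
  rw [finrank_localizedModule_congr e p]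
  exact hrk p

end Groth.Agent.Lib.T2H9.PnSec
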