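import Mathlib
import Groth.Agent.Lib.T2H9PrincRad
import Groth.Agent.Lib.Helper13KzSamuel
import Groth.Agent.Lib.Helper13KzDim
import Groth.Agent.Lib.Helper13KzRank
import Groth.Agent.Lib.Helper5Sop
import Groth.Agent.Lib.Helper28Hartshorne

/-!
# Principal radical ideals in catenary Noetherian normal local domains (helper9)

General-dimension version of `T2H9PrincRad`: the bound on the number of components comes from the
Koszul Euler characteristic (= Samuel multiplicity) `chi` of helper13.
-/

set_option autoImplicit false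
set_option linter.unusedSectionVars false
set_option linter.style.haveILetI false
universe u

namespace Groth.Agent.Lib.T2H9.PrincRadCat

open IsLocalRing Groth.Agent.Helper13Kz Pointwise

section Chi

variable {R : Type u} [CommRing R] [IsNoetherianRing R] [IsLocalRing R]

theorem fli_quot {l : List R} {I : Ideal R}
    (hI : maximalIdeal R ≤ (I ⊔ Ideal.span {a | a ∈ l}).radical) :
    FLI (Ideal.span {a | a ∈ l}) (R ⧸ I) := by
  intro p hp hl
  have hIp : I ≤ p.asIdeal := by
    rw [Module.mem_support_iff_of_finite, Ideal.annihilator_quotient] at hp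
    exact hp
  have : maximalIdeal R ≤ p.asIdeal :=
    hI.trans ((Ideal.IsPrime.radical_le_iff p.2).mpr (sup_le hIp hl))
  rw [← (maximalIdeal.isMaximal R).eq_of_le p.2.ne_top this]
  exact maximalIdeal.isMaximal R

/-- exact sequence `0 → K → R/I' → R/I → 0` -/
theorem chi_quot_eq (l : List R) {I' I : Ideal R} (h : I' ≤ I)
    (hfl : FLI (Ideal.span {a | a ∈ l}) (R ⧸ I')) :
    chi l (R ⧸ I') = chi l (LinearMap.ker (Submodule.factor h)) + chi l (R ⧸ I) := by
  refine chi_add l (LinearMap.ker (Submodule.factor h)).subtype (Submodule.factor h)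
    (Submodule.subtype_injective _) (Submodule.factor_surjective h) ?_ hfl
  rw [LinearMap.exact_iff]
  exact (Submodule.range_subtype _).symm

theorem chi_quot_le (l : List R) (hl : ∀ a ∈ l, a ∈ maximalIdeal R) {I' I : Ideal R} (h : I' ≤ I)
    (hfl : FLI (Ideal.span {a | a ∈ l}) (R ⧸ I')) : chi l (R ⧸ I) ≤ chi l (R ⧸ I') := by
  rw [chi_quot_eq l h hfl]
  have := (chi_nonneg_and_pos l hl (LinearMap.ker (Submodule.factor h))
    (hfl.of_injective _ (Submodule.subtype_injective _))).1
  linarith

theorem chi_quot_lt (l : List R) (hl : ∀ a ∈ l, a ∈ maximalIdeal R) {I' I P' : Ideal R}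
    [P'.IsPrime] (h : I' ≤ I) (hfl : FLI (Ideal.span {a | a ∈ l}) (R ⧸ I'))
    (a : R) (haI : a ∈ I) (ha : ∀ r, r * a ∈ I' ↔ r ∈ P')
    (hdim : ringKrullDim (R ⧸ P') = (l.length : WithBot ℕ∞)) :
    chi l (R ⧸ I) < chi l (R ⧸ I') := by
  rw [chi_quot_eq l h hfl]
  have hflK := hfl.of_injective _ (Submodule.subtype_injective (LinearMap.ker (Submodule.factor h)))
  have hK := chi_nonneg_and_pos l hl (LinearMap.ker (Submodule.factor h)) hflK
  suffices hsd : Module.supportDim R (LinearMap.ker (Submodule.factor h)) =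
      (l.length : WithBot ℕ∞) by
    have := hK.2 hsd
    linarith
  apply le_antisymm (supportDim_le_length_of_FLI _ l hl hflK)
  -- the element `ā` of the kernel
  let abar : LinearMap.ker (Submodule.factor h) :=
    ⟨Submodule.mkQ I' a, by
      rw [LinearMap.mem_ker, Submodule.factor_mk, Submodule.mkQ_apply,
        Submodule.Quotient.mk_eq_zero]
      exact haI⟩
  let φ : (R ⧸ P') →ₗ[R] LinearMap.ker (Submodule.factor h) :=
    Submodule.liftQ P' (LinearMap.toSpanSingleton R _ abar) (by
      intro r hr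
      rw [LinearMap.mem_ker, LinearMap.toSpanSingleton_apply]
      apply Subtype.ext
      change r • Submodule.mkQ I' a = 0
      rw [← map_smul, Submodule.mkQ_apply, Submodule.Quotient.mk_eq_zero, smul_eq_mul]
      exact (ha r).mpr hr)
  have hφ : Function.Injective φ := by
    rw [← LinearMap.ker_eq_bot, eq_bot_iff]
    intro x hx
    obtain ⟨r, rfl⟩ := Submodule.mkQ_surjective P' x
    rw [LinearMap.mem_ker] at hx
    have hx' : r • abar = 0 := by
      rw [← hx]
      change _ = Submodule.liftQ P' _ _ (Submodule.Quotient.mk r)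
      rw [Submodule.liftQ_apply, LinearMap.toSpanSingleton_apply]
    have h1 : r • Submodule.mkQ I' a = 0 := congrArg Subtype.val hx'
    rw [← map_smul, Submodule.mkQ_apply, Submodule.Quotient.mk_eq_zero, smul_eq_mul] at h1
    rw [Submodule.mem_bot, Submodule.mkQ_apply, Submodule.Quotient.mk_eq_zero]
    exact (ha r).mp h1
  rw [← hdim, ← Module.supportDim_quotient_eq_ringKrullDim]
  exact Module.supportDim_le_of_injective φ hφ

theorem chi_eq_of_span_eq (l l' : List R) (hl : ∀ a ∈ l, a ∈ maximalIdeal R)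
    (hl' : ∀ a ∈ l', a ∈ maximalIdeal R) (hlen : l.length = l'.length)
    (hspan : Ideal.span {a | a ∈ l} = Ideal.span {a | a ∈ l'})
    (M : Type u) [AddCommGroup M] [Module R M] [Module.Finite R M]
    (hfl : FLI (Ideal.span {a | a ∈ l}) M) : chi l M = chi l' M := by
  have h1 := tendsto_seq_chi l hl M hfl
  have h2 := tendsto_seq_chi l' hl' M (hspan ▸ hfl)
  have hseq : seq l M = seq l' M := by
    funext t
    unfold seq
    rw [hspan, hlen]
  rw [hseq] at h1
  exact Int.cast_injective (tendsto_nhds_unique h1 h2)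

theorem smul_top_eq_span (f : R) : (f • (⊤ : Submodule R R)) = Ideal.span {f} := by
  ext x
  rw [Submodule.mem_smul_pointwise_iff_exists, Ideal.mem_span_singleton']
  constructor
  · rintro ⟨y, -, rfl⟩
    exact ⟨y, by rw [smul_eq_mul, mul_comm]⟩
  · rintro ⟨y, rfl⟩
    exact ⟨y, trivial, by rw [smul_eq_mul, mul_comm]⟩

theorem chi_cons_quot (l : List R) (f : R) (hf : IsSMulRegular R f) :
    chi (f :: l) R = chi l (R ⧸ Ideal.span {f}) := by
  rw [chi_cons_of_regular l f hf]
  exact chi_congr l (Submodule.quotEquivOfEq _ _ (smul_top_eq_span f))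

end Chi

section Cat

variable {R : Type u} [CommRing R] [IsDomain R] [IsNoetherianRing R] [IsLocalRing R]

/-- In a catenary Noetherian local domain of dimension `d`, `dim R/P = d - 1` for height one `P`. -/
theorem ringKrullDim_quotient_of_height_one (hc : CAlg.IsCatenary R) (d : ℕ)
    (hd : ringKrullDim R = (d : WithBot ℕ∞)) {P : Ideal R} [hPp : P.IsPrime] (hP : P.height = 1) :
    ringKrullDim (R ⧸ P) = ((d - 1 : ℕ) : WithBot ℕ∞) := by
  have hcov : (⟨⊥, Ideal.isPrime_bot⟩ : PrimeSpectrum R) ⋖ ⟨P, hPp⟩ := by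
    constructor
    · rw [← PrimeSpectrum.asIdeal_lt_asIdeal]
      exact bot_lt_iff_ne_bot.mpr (Ideal.ne_bot_of_height_eq_one hP)
    · intro Q hQ1 hQ2
      rw [← PrimeSpectrum.asIdeal_lt_asIdeal] at hQ1 hQ2
      haveI := Q.2
      have h1 : (⊥ : Ideal R).height + 1 ≤ Q.asIdeal.height :=
        Ideal.height_add_one_le_of_lt_of_isPrime hQ1
      have h2 : Q.asIdeal.height + 1 ≤ P.height :=
        Ideal.height_add_one_le_of_lt_of_isPrime hQ2
      rw [hP] at h2
      rw [Ideal.height_bot, zero_add] at h1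
      have h3 : (1 : ℕ∞) + 1 ≤ 1 := (add_le_add_left h1 1).trans h2
      exact absurd h3 (by norm_num)
  have h1 := Groth.Agent.Lib.Helper28.ringKrullDim_quotient_eq_add_one_of_covBy hc hcov
  have h2 : ringKrullDim (R ⧸ (⊥ : Ideal R)) = ringKrullDim R :=
    ringKrullDim_eq_of_ringEquiv (RingEquiv.quotientBot R)
  change ringKrullDim (R ⧸ (⊥ : Ideal R)) = ringKrullDim (R ⧸ P) + 1 at h1
  rw [h2, hd] at h1
  have hd1 : 1 ≤ d := by
    by_contra hlt
    have hd0 : d = 0 := by omega
    subst hd0
    have h3 : (maximalIdeal R).height = 0 := by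
      have h := IsLocalRing.maximalIdeal_height_eq_ringKrullDim (R := R)
      rw [hd] at h
      have h' : ((maximalIdeal R).height : WithBot ℕ∞) = ((0 : ℕ∞) : WithBot ℕ∞) := h
      exact WithBot.coe_injective h'
    have h4 : P.height ≤ (maximalIdeal R).height :=
      Ideal.height_mono (IsLocalRing.le_maximalIdeal hPp.ne_top)
    rw [h3, hP] at h4
    exact absurd h4 (by norm_num)
  obtain ⟨n, rfl⟩ : ∃ n, d = n + 1 := ⟨d - 1, by omega⟩
  rw [Nat.add_sub_cancel]
  exact Groth.Agent.Helper13Kz.wb_eq_of_succ_eq h1.symm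

end Cat

section Main

variable {R : Type u} [CommRing R] [IsDomain R] [IsNoetherianRing R] [IsLocalRing R]

open Groth.Agent.Lib.T2H9.PrincRad

/-- Nakayama: perturbing `f` by an element of `m • (f, l)` does not change the ideal `(f, l)`. -/
theorem span_cons_add_eq {f g : R} {l : List R} {c : Ideal R}
    (hc : Ideal.span {a | a ∈ f :: l} = c) (hg : g ∈ maximalIdeal R • c) :
    Ideal.span {a | a ∈ (f + g) :: l} = c := by
  have hfc : f ∈ c := hc ▸ Ideal.subset_span (List.mem_cons_self)
  have hlc : ∀ a ∈ l, a ∈ c := fun a ha => hc ▸ Ideal.subset_span (List.mem_cons_of_mem _ ha)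
  have hgc : g ∈ c := (Submodule.smul_le_right : maximalIdeal R • c ≤ c) hg
  apply le_antisymm
  · rw [Ideal.span_le]
    intro a ha
    rcases List.mem_cons.mp ha with rfl | ha
    exacts [c.add_mem hfc hgc, hlc a ha]
  · apply Submodule.le_of_le_smul_of_le_jacobson_bot (IsNoetherian.noetherian c)
      (IsLocalRing.maximalIdeal_le_jacobson ⊥)
    conv_lhs => rw [← hc]
    rw [Ideal.span_le]
    intro a ha
    rcases List.mem_cons.mp ha with rfl | ha
    · have h1 : (a + g) + (-g) ∈ Ideal.span {a' | a' ∈ (a + g) :: l} ⊔ maximalIdeal R • c :=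
        Submodule.add_mem_sup (Ideal.subset_span (List.mem_cons_self))
          (Submodule.neg_mem _ hg)
      rwa [add_neg_cancel_right] at h1
    · exact Submodule.mem_sup_left (Ideal.subset_span (List.mem_cons_of_mem _ ha))

variable [IsIntegrallyClosed R]

theorem exists_isRadical_of_two_le (hc : CAlg.IsCatenary R) (d : ℕ)
    (hd : ringKrullDim R = (d : WithBot ℕ∞)) (hd2 : 2 ≤ d)
    (J : Ideal R) (hJ : J.IsRadical) (hJ0 : J ≠ ⊥) (hJtop : J ≠ ⊤) :
    ∃ f ∈ J, f ≠ 0 ∧ (Ideal.span {f}).IsRadical := by
  classical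
  have hmd : (maximalIdeal R).height = d := by
    have h := IsLocalRing.maximalIdeal_height_eq_ringKrullDim (R := R)
    rw [hd] at h
    have h' : ((maximalIdeal R).height : WithBot ℕ∞) = ((d : ℕ∞) : WithBot ℕ∞) := h
    exact WithBot.coe_injective h'
  have hnotle : ∀ {P : Ideal R}, P.height ≤ 1 → ¬ maximalIdeal R ≤ P := by
    intro P hP h
    have h1 := Ideal.height_mono h
    rw [hmd] at h1
    have h2 : (d : ℕ∞) ≤ 1 := h1.trans hP
    have h3 : d ≤ 1 := by exact_mod_cast h2
    omega
  obtain ⟨f₀, hf₀J, hf₀⟩ := Submodule.exists_mem_ne_zero_of_ne_bot hJ0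
  have hJm : J ≤ maximalIdeal R := IsLocalRing.le_maximalIdeal hJtop
  have hf₀m := hJm hf₀J
  obtain ⟨g, -, hgm, hgrad⟩ := Groth.Agent.Lib.Helper5.Sop.exists_sop R d hd f₀ hf₀m
    (by
      intro p hp
      rw [IsDomain.minimalPrimes_eq_singleton_bot] at hp
      rw [Set.mem_singleton_iff.mp hp, Ideal.mem_bot]
      exact hf₀) 0
  set l : List R := List.ofFn g with hldef
  have hlen : l.length = d - 1 := List.length_ofFn
  have hlmem : ∀ a, a ∈ l ↔ a ∈ Set.range g := fun a => by
    rw [hldef, List.mem_ofFn]; rfl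
  have hlm : ∀ a ∈ l, a ∈ maximalIdeal R := by
    intro a ha
    obtain ⟨i, rfl⟩ := (hlmem a).mp ha
    exact hgm i
  set c : Ideal R := Ideal.span {a | a ∈ f₀ :: l} with hcdef
  have hc_eq : c = Ideal.span (insert f₀ (Set.range g)) := by
    rw [hcdef]
    congr 1
    ext a
    simp only [Set.mem_ofPred_eq, List.mem_cons, Set.mem_insert_iff, hlmem]
  have hcm : c ≤ maximalIdeal R := by
    rw [hcdef, Ideal.span_le]
    intro a ha
    rcases List.mem_cons.mp ha with rfl | ha
    exacts [hf₀m, hlm a ha]
  have hrad : c.radical = maximalIdeal R :=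
    le_antisymm ((Ideal.IsPrime.radical_le_iff inferInstance).mpr hcm) (hc_eq ▸ hgrad)
  obtain ⟨k, hk⟩ := Ideal.exists_radical_pow_le_of_fg c (IsNoetherian.noetherian _)
  rw [hrad] at hk
  -- `(l)` is not primary to the maximal ideal
  have hlrad : ¬ maximalIdeal R ≤ (Ideal.span {a | a ∈ l}).radical := by
    intro h
    have hle : Ideal.span {a | a ∈ l} ≤ maximalIdeal R := by
      rw [Ideal.span_le]; exact hlm
    have hreq : (Ideal.span {a | a ∈ l}).radical = maximalIdeal R :=
      le_antisymm ((Ideal.IsPrime.radical_le_iff inferInstance).mpr hle) h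
    have hset : {a | a ∈ l} = ((l.toFinset : Finset R) : Set R) := by
      ext a; simp
    have hmem : maximalIdeal R ∈ (Ideal.span ((l.toFinset : Finset R) : Set R)).minimalPrimes := by
      rw [← hset, ← Ideal.radical_minimalPrimes, hreq, Ideal.minimalPrimes_eq_subsingleton_self]
      rfl
    have h1 := Ideal.height_le_card_of_mem_minimalPrimes_span_finset hmem
    rw [hmd] at h1
    have h2 : l.toFinset.card ≤ d - 1 := hlen ▸ List.toFinset_card_le l
    have h3 : d ≤ l.toFinset.card := by exact_mod_cast h1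
    omega
  -- the family
  let Φ : Set R := {f | Ideal.span {a | a ∈ f :: l} = c ∧ f ∈ J}
  have hΦ₀ : f₀ ∈ Φ := ⟨rfl, hf₀J⟩
  have hΦne : ∀ f ∈ Φ, f ≠ 0 := by
    rintro f ⟨hf, -⟩ rfl
    apply hlrad
    rw [← hrad, ← hf]
    apply Ideal.radical_mono
    rw [Ideal.span_le]
    intro a ha
    rcases List.mem_cons.mp ha with rfl | ha
    · exact Ideal.zero_mem _
    · exact Ideal.subset_span ha
  have hfli : ∀ f ∈ Φ, ∀ I : Ideal R, f ∈ I → FLI (Ideal.span {a | a ∈ l}) (R ⧸ I) := by
    intro f hf I hfI
    apply fli_quot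
    rw [← hrad, ← hf.1]
    apply Ideal.radical_mono
    rw [Ideal.span_le]
    intro a ha
    rcases List.mem_cons.mp ha with rfl | ha
    · exact Submodule.mem_sup_left hfI
    · exact Submodule.mem_sup_right (Ideal.subset_span ha)
  let μ : R → ℤ := fun f => chi l (R ⧸ (Ideal.span {f}).radical)
  -- the uniform bound
  have hbound : ∀ f ∈ Φ, μ f ≤ chi (f₀ :: l) R := by
    intro f hf
    have hf0 := hΦne f hf
    have h1 : μ f ≤ chi l (R ⧸ Ideal.span {f}) :=
      chi_quot_le l hlm Ideal.le_radical (hfli f hf _ (Ideal.mem_span_singleton_self f))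
    have hreg : IsSMulRegular R f := (IsRegular.of_ne_zero hf0).left.isSMulRegular
    have h2 : chi (f :: l) R = chi l (R ⧸ Ideal.span {f}) := chi_cons_quot l f hreg
    have hflR : FLI (Ideal.span {a | a ∈ f :: l}) R := by
      intro p _ hp
      rw [hf.1] at hp
      have : maximalIdeal R ≤ p.asIdeal := by
        rw [← hrad]; exact (Ideal.IsPrime.radical_le_iff p.2).mpr hp
      rw [← (maximalIdeal.isMaximal R).eq_of_le p.2.ne_top this]
      exact maximalIdeal.isMaximal R
    have h3 : chi (f :: l) R = chi (f₀ :: l) R := by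
      refine chi_eq_of_span_eq (f :: l) (f₀ :: l) ?_ ?_ (by simp) hf.1 R hflR
      · intro a ha
        rcases List.mem_cons.mp ha with rfl | ha
        exacts [hJm hf.2, hlm a ha]
      · intro a ha
        rcases List.mem_cons.mp ha with rfl | ha
        exacts [hf₀m, hlm a ha]
    rw [← h3, h2]
    exact h1
  obtain ⟨_, ⟨f, hfΦ, rfl⟩, hmax⟩ := Int.exists_greatest_of_bdd (P := fun z => ∃ f ∈ Φ, μ f = z)
    ⟨chi (f₀ :: l) R, by rintro z ⟨f, hf, rfl⟩; exact hbound f hf⟩ ⟨_, f₀, hΦ₀, rfl⟩
  have hf0 := hΦne f hfΦ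
  have hfinJ := J.finite_minimalPrimes_of_isNoetherianRing
  have hJsInf : sInf J.minimalPrimes = J := by rw [Ideal.sInf_minimalPrimes, hJ.radical]
  have hgood : ∀ q ∈ (Ideal.span {f}).minimalPrimes, ∀ a ∈ q, ∃ d, d ∉ q ∧ f ∣ d * a := by
    intro q hq
    by_contra hbad
    haveI hqprime : q.IsPrime := hq.1.1
    have hqh := height_eq_one_of_mem_minimalPrimes hf0 hq
    have hfinf := (Ideal.span {f}).finite_minimalPrimes_of_isNoetherianRing
    set T : Finset (Ideal R) := hfinf.toFinset.erase q with hTdef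
    have hTmem : ∀ P ∈ T, P ∈ (Ideal.span {f}).minimalPrimes := fun P hP =>
      hfinf.mem_toFinset.mp (Finset.mem_of_mem_erase hP)
    have hT : ∀ P ∈ T, P.IsPrime ∧ ¬ q ≤ P := by
      intro P hP
      have hP' := hTmem P hP
      exact ⟨hP'.1.1, fun hqP => Finset.ne_of_mem_erase hP (le_antisymm (hP'.2 hq.1 hqP) hqP)⟩
    obtain ⟨π, hπq, hπT, hπ⟩ := exists_uniformizer q hqh T hT
    have hfq : f ∈ q := hq.1.2 (Ideal.mem_span_singleton_self f)
    obtain ⟨d', hdq, y, hy⟩ := hπ f hfq
    have hyq : y ∈ q := by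
      by_contra hyq
      apply hbad
      intro a ha
      obtain ⟨d'', hd'q, c', hc'⟩ := hπ a ha
      refine ⟨y * d'', fun h => (hqprime.mem_or_mem h).elim hyq hd'q, d' * c', ?_⟩
      calc y * d'' * a = y * (d'' * a) := by ring
        _ = y * (π * c') := by rw [hc']
        _ = (π * y) * c' := by ring
        _ = (d' * f) * c' := by rw [hy]
        _ = f * (d' * c') := by ring
    -- primes (minimal over `f` or over `J`) not contained in `q`
    set T' : Finset (Ideal R) :=
      (hfinf.toFinset ∪ hfinJ.toFinset).filter (fun P => ¬ P ≤ q) with hT'def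
    have hT'prime : ∀ P ∈ T', P.IsPrime := by
      intro P hP
      rcases Finset.mem_union.mp (Finset.mem_filter.mp hP).1 with h | h
      · exact (hfinf.mem_toFinset.mp h).1.1
      · exact (hfinJ.mem_toFinset.mp h).1.1
    have hnotle' : ∀ P ∈ T', ∃ b ∈ P, b ∉ q := fun P hP =>
      Set.not_subset.mp (Finset.mem_filter.mp hP).2
    choose! β hβP hβq using hnotle'
    obtain ⟨z, hzm, hzq⟩ : ∃ z ∈ maximalIdeal R, z ∉ q :=
      Set.not_subset.mp (hnotle hqh.le)
    set e₀ : R := z * ∏ P ∈ T', β P with he₀def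
    have he₀m : e₀ ∈ maximalIdeal R := Ideal.mul_mem_right _ _ hzm
    have he₀T : ∀ P ∈ T', e₀ ∈ P := by
      intro P hP
      obtain ⟨c', hc'⟩ := Finset.dvd_prod_of_mem β hP
      rw [he₀def, hc']
      exact P.mul_mem_left _ (P.mul_mem_right _ (hβP P hP))
    have he₀q : e₀ ∉ q := by
      intro h
      rcases hqprime.mem_or_mem h with h | h
      · exact hzq h
      · obtain ⟨P, hP, hPq⟩ := (hqprime.prod_mem_iff).mp h
        exact hβq P hP hPq
    set e : R := e₀ ^ (k + 1) with hedef
    have heq : e ∉ q := fun h => he₀q (hqprime.mem_of_pow_mem _ h)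
    have heT : ∀ P ∈ T', e ∈ P := fun P hP =>
      Ideal.pow_mem_of_mem _ (he₀T P hP) _ (Nat.succ_pos k)
    have hTT' : ∀ P ∈ T, P ∈ T' := by
      intro P hP
      refine Finset.mem_filter.mpr ⟨Finset.mem_union_left _ (Finset.mem_of_mem_erase hP), ?_⟩
      intro hPq
      exact Finset.ne_of_mem_erase hP (le_antisymm hPq (hq.2 (hTmem P hP).1 hPq))
    have hemc : e ∈ maximalIdeal R • c := by
      have h1 : e ∈ maximalIdeal R ^ (k + 1) := Ideal.pow_mem_pow he₀m _
      rw [pow_succ'] at h1
      exact Ideal.mul_mono_right hk h1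
    set f' : R := f + e * y with hf'def
    have hf'c : Ideal.span {a | a ∈ f' :: l} = c :=
      span_cons_add_eq hfΦ.1 (Ideal.mul_mem_right _ _ hemc)
    have hf'P : ∀ P ∈ (Ideal.span {f}).minimalPrimes, f' ∈ P := by
      intro P hP
      have hfP : f ∈ P := hP.1.2 (Ideal.mem_span_singleton_self f)
      by_cases hPq : P = q
      · subst hPq; exact P.add_mem hfP (P.mul_mem_left _ hyq)
      · exact P.add_mem hfP (P.mul_mem_right _
          (heT P (hTT' P (Finset.mem_erase.mpr ⟨hPq, hfinf.mem_toFinset.mpr hP⟩))))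
    have hf'J : f' ∈ J := by
      rw [← hJsInf, Ideal.mem_sInf]
      intro P hP
      have hfP : f ∈ P := hP.1.2 hfΦ.2
      refine P.add_mem hfP ?_
      by_cases hPq : P ≤ q
      · -- then `P = q`
        haveI := hP.1.1
        have hPne : P ≠ ⊥ := fun h => hJ0 (le_bot_iff.mp (h ▸ hP.1.2))
        have hPeq : P = q := by
          by_contra hne
          have hlt : P < q := lt_of_le_of_ne hPq hne
          have h1 : P.height + 1 ≤ q.height := Ideal.height_add_one_le_of_lt_of_isPrime hlt
          rw [hqh] at h1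
          have h2 : P.height = 0 := by
            by_contra h0
            have h3 : 1 ≤ P.height := Order.one_le_iff_pos.mpr (pos_iff_ne_zero.mpr h0)
            have h4 : (1 : ℕ∞) + 1 ≤ 1 := (add_le_add_left h3 1).trans h1
            exact absurd h4 (by norm_num)
          exact hPne (Ideal.height_eq_zero_iff_eq_bot.mp h2)
        rw [hPeq]
        exact q.mul_mem_left _ hyq
      · exact P.mul_mem_right _ (heT P (Finset.mem_filter.mpr
          ⟨Finset.mem_union_right _ (hfinJ.mem_toFinset.mpr hP), hPq⟩))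
    have hf'Φ : f' ∈ Φ := ⟨hf'c, hf'J⟩
    have hf'0 := hΦne f' hf'Φ
    have hradle : (Ideal.span {f'}).radical ≤ (Ideal.span {f}).radical := by
      rw [Ideal.radical_le_radical_iff, Ideal.span_singleton_le_iff_mem,
        ← Ideal.sInf_minimalPrimes, Submodule.mem_sInf]
      exact hf'P
    have hkey : π * f' = f * (π + e * d') := by
      calc π * f' = π * f + e * (π * y) := by rw [hf'def]; ring
        _ = π * f + e * (d' * f) := by rw [hy]
        _ = f * (π + e * d') := by ring
    have hsumP : ∀ P ∈ (Ideal.span {f}).minimalPrimes, π + e * d' ∉ P := by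
      intro P hP hsum
      by_cases hPq : P = q
      · subst hPq
        have : e * d' ∈ P := by
          have := P.sub_mem hsum hπq
          simpa using this
        exact (hqprime.mem_or_mem this).elim heq hdq
      · have hPT : P ∈ T := Finset.mem_erase.mpr ⟨hPq, hfinf.mem_toFinset.mpr hP⟩
        have : π ∈ P := by
          have := P.sub_mem hsum (P.mul_mem_right d' (heT P (hTT' P hPT)))
          simpa using this
        exact hπT P hPT this
    have hradne : ¬ (Ideal.span {f}).radical ≤ (Ideal.span {f'}).radical := by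
      intro hle
      have heq' : (Ideal.span {f'}).radical = (Ideal.span {f}).radical := le_antisymm hradle hle
      have hmin' : (Ideal.span {f'}).minimalPrimes = (Ideal.span {f}).minimalPrimes := by
        rw [← Ideal.radical_minimalPrimes, heq', Ideal.radical_minimalPrimes]
      have hdvd : f' ∣ f := by
        apply dvd_of_forall_minimalPrimes hf'0
        rw [hmin']
        intro P hP
        exact ⟨π + e * d', hsumP P hP, π, by rw [mul_comm, ← hkey, mul_comm]⟩
      obtain ⟨w, hw⟩ := hdvd
      have hπw : π = w * (π + e * d') := by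
        apply mul_left_cancel₀ hf'0
        calc f' * π = π * f' := mul_comm _ _
          _ = f * (π + e * d') := hkey
          _ = f' * (w * (π + e * d')) := by rw [hw]; ring
      have hwq : w ∈ q := by
        have h1 : w * (π + e * d') ∈ q := hπw ▸ hπq
        exact (hqprime.mem_or_mem h1).resolve_right (hsumP q hq)
      have hwm : w ∈ maximalIdeal R := IsLocalRing.le_maximalIdeal hqprime.ne_top hwq
      have hf'c' : f' ∈ c := hf'c ▸ Ideal.subset_span (List.mem_cons_self)
      have hcx : c ≤ Ideal.span {a | a ∈ l} := by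
        apply Submodule.le_of_le_smul_of_le_jacobson_bot (IsNoetherian.noetherian c)
          (IsLocalRing.maximalIdeal_le_jacobson ⊥)
        conv_lhs => rw [← hfΦ.1]
        rw [Ideal.span_le]
        intro a ha
        rcases List.mem_cons.mp ha with rfl | ha
        · apply Submodule.mem_sup_right
          rw [hw, mul_comm]
          exact Ideal.mul_mem_mul hwm hf'c'
        · exact Submodule.mem_sup_left (Ideal.subset_span ha)
      apply hlrad
      rw [← hrad]
      exact Ideal.radical_mono hcx
    -- a new component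
    obtain ⟨P', hP', hP'not⟩ : ∃ P' ∈ (Ideal.span {f'}).minimalPrimes,
        ¬ (Ideal.span {f}).radical ≤ P' := by
      by_contra hall
      push Not at hall
      apply hradne
      rw [← Ideal.sInf_minimalPrimes (I := Ideal.span {f'})]
      exact le_sInf hall
    haveI hP'prime : P'.IsPrime := hP'.1.1
    have hfinf' := (Ideal.span {f'}).finite_minimalPrimes_of_isNoetherianRing
    obtain ⟨a₁, ha₁, ha₁P⟩ := Set.not_subset.mp hP'not
    have hothers : ∀ P ∈ hfinf'.toFinset.erase P', ∃ b ∈ P, b ∉ P' := by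
      intro P hP
      have hPm := hfinf'.mem_toFinset.mp (Finset.mem_of_mem_erase hP)
      have : ¬ P ≤ P' := fun hle =>
        Finset.ne_of_mem_erase hP (le_antisymm hle (hP'.2 hPm.1 hle))
      exact Set.not_subset.mp this
    choose! γ hγP hγP' using hothers
    set a : R := a₁ * ∏ P ∈ hfinf'.toFinset.erase P', γ P with hadef
    have haI : a ∈ (Ideal.span {f}).radical := Ideal.mul_mem_right _ _ ha₁
    have haP' : a ∉ P' := by
      intro h
      rcases hP'prime.mem_or_mem h with h | h
      · exact ha₁P h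
      · obtain ⟨P, hP, hPq⟩ := (hP'prime.prod_mem_iff).mp h
        exact hγP' P hP hPq
    have ha : ∀ r, r * a ∈ (Ideal.span {f'}).radical ↔ r ∈ P' := by
      intro r
      constructor
      · intro h
        have h1 : r * a ∈ P' := ((hP'prime.radical_le_iff).mpr hP'.1.2) h
        exact (hP'prime.mem_or_mem h1).resolve_right haP'
      · intro hr
        rw [← Ideal.sInf_minimalPrimes, Ideal.mem_sInf]
        intro P hP
        by_cases hPP' : P = P'
        · rw [hPP']; exact P'.mul_mem_right _ hr
        · have hPmem : P ∈ hfinf'.toFinset.erase P' :=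
            Finset.mem_erase.mpr ⟨hPP', hfinf'.mem_toFinset.mpr hP⟩
          obtain ⟨c', hc'⟩ := Finset.dvd_prod_of_mem γ hPmem
          rw [hadef, hc']
          exact P.mul_mem_left _ (P.mul_mem_left _ (P.mul_mem_right _ (hγP P hPmem)))
    have hdimP' : ringKrullDim (R ⧸ P') = (l.length : WithBot ℕ∞) := by
      rw [hlen]
      exact ringKrullDim_quotient_of_height_one hc d hd
        (height_eq_one_of_mem_minimalPrimes hf'0 hP')
    have hlt : μ f < μ f' :=
      chi_quot_lt l hlm hradle
        (hfli f' hf'Φ _ (Ideal.le_radical (Ideal.mem_span_singleton_self f'))) a haI ha hdimP'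
    have := hmax (μ f') ⟨f', hf'Φ, rfl⟩
    omega
  refine ⟨f, hfΦ.2, hf0, ?_⟩
  intro a ha
  rw [Ideal.mem_span_singleton]
  apply dvd_of_forall_minimalPrimes hf0
  intro P hP
  have haP : a ∈ P := by
    have : (Ideal.span {f}).radical ≤ P := (hP.1.1.radical_le_iff).mpr hP.1.2
    exact this ha
  exact hgood P hP a haP

end Main

section Final

variable {R : Type u} [CommRing R] [IsDomain R] [IsNoetherianRing R] [IsLocalRing R]
  [IsIntegrallyClosed R]

open Groth.Agent.Lib.T2H9.PrincRad

/-- **Principal radical ideals**: in a catenary Noetherian normal local domain every nonzero radical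
ideal contains a nonzero element generating a radical ideal. -/
theorem exists_isRadical (hc : CAlg.IsCatenary R) (J : Ideal R) (hJ : J.IsRadical) (hJ0 : J ≠ ⊥) :
    ∃ f ∈ J, f ≠ 0 ∧ (Ideal.span {f}).IsRadical := by
  classical
  by_cases hJtop : J = ⊤
  · refine ⟨1, hJtop ▸ Submodule.mem_top, one_ne_zero, ?_⟩
    rw [Ideal.span_singleton_one]
    exact fun _ _ => Submodule.mem_top
  have hfin : (maximalIdeal R).height ≠ ⊤ := Ideal.height_ne_top_of_isPrime
  obtain ⟨d, hdh⟩ := ENat.ne_top_iff_exists.mp hfin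
  have hd : ringKrullDim R = (d : WithBot ℕ∞) := by
    rw [← IsLocalRing.maximalIdeal_height_eq_ringKrullDim, ← hdh]
    rfl
  have hJm : J ≤ maximalIdeal R := IsLocalRing.le_maximalIdeal hJtop
  have hmbot : maximalIdeal R ≠ ⊥ := fun h => hJ0 (le_bot_iff.mp (h ▸ hJm))
  have hd1 : 1 ≤ d := by
    by_contra hlt
    have hd0 : d = 0 := by omega
    subst hd0
    exact hmbot (Ideal.height_eq_zero_iff_eq_bot.mp hdh.symm)
  rcases Nat.lt_or_ge d 2 with hlt | hge
  · -- dimension one: a discrete valuation ring
    have hd1' : d = 1 := by omega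
    subst hd1'
    have hmh : (maximalIdeal R).height = 1 := hdh.symm
    obtain ⟨π, hπm, -, hπ⟩ := exists_uniformizer (maximalIdeal R) hmh ∅ (by simp)
    have hmspan : maximalIdeal R = Ideal.span {π} := by
      apply le_antisymm
      · intro a ha
        obtain ⟨u, hu, hdvd⟩ := hπ a ha
        have huu : IsUnit u := by
          by_contra h
          exact hu ((IsLocalRing.mem_maximalIdeal u).mpr h)
        rw [Ideal.mem_span_singleton]
        exact (huu.dvd_mul_left).mp hdvd
      · exact (Ideal.span_singleton_le_iff_mem _).mpr hπm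
    have hJeq : J = maximalIdeal R := by
      apply le_antisymm hJm
      rw [← hJ.radical, Ideal.radical_eq_sInf]
      apply le_sInf
      rintro P ⟨hJP, hPp⟩
      haveI := hPp
      have hPne : P ≠ ⊥ := fun h => hJ0 (le_bot_iff.mp (h ▸ hJP))
      have hPm : P ≤ maximalIdeal R := IsLocalRing.le_maximalIdeal hPp.ne_top
      by_contra hne
      have hlt' : P < maximalIdeal R := lt_of_le_of_ne hPm (fun h => hne (h ▸ le_refl _))
      have h1 : P.height + 1 ≤ (maximalIdeal R).height :=
        Ideal.height_add_one_le_of_lt_of_isPrime hlt'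
      rw [hmh] at h1
      have h2 : P.height = 0 := by
        by_contra h0
        have h3 : 1 ≤ P.height := Order.one_le_iff_pos.mpr (pos_iff_ne_zero.mpr h0)
        have h4 : (1 : ℕ∞) + 1 ≤ 1 := (add_le_add_left h3 1).trans h1
        exact absurd h4 (by norm_num)
      exact hPne (Ideal.height_eq_zero_iff_eq_bot.mp h2)
    refine ⟨π, hJeq ▸ hπm, ?_, ?_⟩
    · rintro rfl
      apply hmbot
      rw [hmspan]
      exact Ideal.span_singleton_eq_bot.mpr rfl
    · rw [← hmspan]
      exact (inferInstance : (maximalIdeal R).IsPrime).isRadical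
  · exact exists_isRadical_of_two_le hc d hd hge J hJ hJ0 hJtop

end Final

end Groth.Agent.Lib.T2H9.PrincRadCat
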