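import Mathlib
import Groth.Agent.Lib.T2H9WeakDimOne

/-! Products of valuation subrings of a field: weak dimension one, total fractions. -/

namespace Groth.Agent.Lib.T2H9.ProdVal

universe u

variable {ι : Type u} {K : Type u} [Field K] (W : ι → ValuationSubring K)

open Classical in
/-- the support idempotent of an element of the product -/
noncomputable def idem (z : ∀ i, W i) : ∀ i, W i := fun i => if z i = 0 then 0 else 1

theorem idem_mul (z : ∀ i, W i) : idem W z * z = z := by
  funext i
  simp only [Pi.mul_apply, idem]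
  split_ifs with h
  · rw [h, mul_zero]
  · rw [one_mul]

theorem mul_idem_eq_zero (z r : ∀ i, W i) (h : r * z = 0) : r * idem W z = 0 := by
  funext i
  have hi := congrFun h i
  simp only [Pi.mul_apply, Pi.zero_apply, idem] at hi ⊢
  split_ifs with hz
  · rw [mul_zero]
  · rcases mul_eq_zero.mp hi with h1 | h1
    · rw [h1, zero_mul]
    · exact absurd h1 hz

/-- a chosen coefficient -/
noncomputable def coeff (z : ∀ i, W i) (w : (Ideal.span {z} : Ideal (∀ i, W i))) : ∀ i, W i :=
  Classical.choose (Ideal.mem_span_singleton'.mp w.2)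

theorem coeff_mul (z : ∀ i, W i) (w : (Ideal.span {z} : Ideal (∀ i, W i))) :
    coeff W z w * z = (w : ∀ i, W i) :=
  Classical.choose_spec (Ideal.mem_span_singleton'.mp w.2)

/-- the splitting of `r ↦ r z` -/
noncomputable def sec (z : ∀ i, W i) :
    (Ideal.span {z} : Ideal (∀ i, W i)) →ₗ[∀ i, W i] (∀ i, W i) where
  toFun w := coeff W z w * idem W z
  map_add' w w' := by
    have h : (coeff W z (w + w') - coeff W z w - coeff W z w') * z = 0 := by
      rw [sub_mul, sub_mul, coeff_mul, coeff_mul, coeff_mul]
      simp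
    have h2 := mul_idem_eq_zero W z _ h
    rw [sub_mul, sub_mul, sub_sub, sub_eq_zero] at h2
    exact h2
  map_smul' c w := by
    have h : (coeff W z (c • w) - c * coeff W z w) * z = 0 := by
      rw [sub_mul, mul_assoc, coeff_mul, coeff_mul]
      simp
    have h2 := mul_idem_eq_zero W z _ h
    rw [sub_mul, sub_eq_zero] at h2
    rw [h2, RingHom.id_apply, smul_eq_mul, mul_assoc]

/-- multiplication by `z` onto the principal ideal -/
noncomputable def toSpan (z : ∀ i, W i) :
    (∀ i, W i) →ₗ[∀ i, W i] (Ideal.span {z} : Ideal (∀ i, W i)) where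
  toFun r := ⟨r * z, Ideal.mul_mem_left _ _ (Ideal.subset_span rfl)⟩
  map_add' r r' := Subtype.ext (add_mul r r' z)
  map_smul' c r := Subtype.ext (by simp [mul_assoc])

theorem toSpan_comp_sec (z : ∀ i, W i) : (toSpan W z).comp (sec W z) = LinearMap.id := by
  apply LinearMap.ext
  intro w
  apply Subtype.ext
  change coeff W z w * idem W z * z = w
  rw [mul_assoc, idem_mul, coeff_mul]

theorem flat_span_singleton (z : ∀ i, W i) :
    Module.Flat (∀ i, W i) (Ideal.span {z} : Ideal (∀ i, W i)) := by
  have : Module.Projective (∀ i, W i) (Ideal.span {z} : Ideal (∀ i, W i)) :=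
    Module.Projective.of_split (sec W z) (toSpan W z) (toSpan_comp_sec W z)
  infer_instance

theorem isBezout : IsBezout (∀ i, W i) := by
  classical
  rw [IsBezout.iff_span_pair_isPrincipal]
  intro x y
  let g : ∀ i, W i := fun i => if x i ∣ y i then x i else y i
  have hx : ∀ i, ∃ c, x i = c * g i := by
    intro i
    by_cases h : x i ∣ y i
    · exact ⟨1, by simp [g, h]⟩
    · have h2 : y i ∣ x i := (ValuationRing.dvd_total (x i) (y i)).resolve_left h
      obtain ⟨c, hc⟩ := h2
      exact ⟨c, by simp only [g, h, if_false]; rw [hc, mul_comm]⟩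
  have hy : ∀ i, ∃ c, y i = c * g i := by
    intro i
    by_cases h : x i ∣ y i
    · have hg : g i = x i := if_pos h
      obtain ⟨c, hc⟩ := h
      exact ⟨c, by rw [hg, hc, mul_comm]⟩
    · exact ⟨1, by simp [g, h]⟩
  choose cx hcx using hx
  choose cy hcy using hy
  refine ⟨⟨g, ?_⟩⟩
  apply le_antisymm
  · rw [Ideal.span_le]
    intro w hw
    rcases hw with rfl | rfl
    · have : w = cx * g := funext hcx
      rw [this]
      exact Ideal.mul_mem_left _ _ (Ideal.subset_span rfl)
    · have : w = cy * g := funext hcy
      rw [this]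
      exact Ideal.mul_mem_left _ _ (Ideal.subset_span rfl)
  · rw [Submodule.span_singleton_le_iff_mem]
    let a : ∀ i, W i := fun i => if x i ∣ y i then 1 else 0
    let b : ∀ i, W i := fun i => if x i ∣ y i then 0 else 1
    have hg : g = a * x + b * y := by
      funext i
      by_cases h : x i ∣ y i <;> simp [g, a, b, h]
    rw [hg]
    exact Ideal.add_mem _ (Ideal.mul_mem_left _ _ (Ideal.subset_span (by simp)))
      (Ideal.mul_mem_left _ _ (Ideal.subset_span (by simp)))

theorem flat_of_fg (I : Ideal (∀ i, W i)) (hI : I.FG) : Module.Flat (∀ i, W i) I := by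
  have := isBezout W
  obtain ⟨⟨z, hz⟩⟩ := IsBezout.isPrincipal_of_FG I hI
  have hz' : I = Ideal.span {z} := hz
  rw [hz']
  exact flat_span_singleton W z

/-- every ideal of a product of valuation rings is flat -/
theorem flat_ideal (I : Ideal (∀ i, W i)) : Module.Flat (∀ i, W i) I := by
  have h4 := fun (p : Ideal (∀ i, W i)) (hp : p.IsPrime) =>
    Groth.Agent.Lib.T2H9.WeakDimOne.valuationRing_localization_of_flat_fg (flat_of_fg W) p
  exact Groth.Agent.Lib.T2H9.WeakDimOne.flat_submodule_of_valuationRing_localization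
    (fun p hp => h4 p hp) (∀ i, W i) I

/-- the inclusion of the product into the product of copies of the field -/
def incl : (∀ i, W i) →+* (ι → K) :=
  RingHom.pi (fun i => (W i).subtype.comp (Pi.evalRingHom (fun i => W i) i))

@[simp] theorem incl_apply (v : ∀ i, W i) (i : ι) : incl W v i = (v i : K) := rfl

theorem incl_injective : Function.Injective (incl W) := by
  intro v v' h
  funext i
  exact Subtype.ext (congrFun h i)

/-- the elements with all components nonzero -/
def nz : Submonoid (∀ i, W i) where
  carrier := {z | ∀ i, z i ≠ 0}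
  one_mem' := fun _ => one_ne_zero
  mul_mem' := fun hz hz' i => mul_ne_zero (hz i) (hz' i)

theorem isLocalization :
    letI := (incl W).toAlgebra
    IsLocalization (nz W) (ι → K) := by
  classical
  let _ := (incl W).toAlgebra
  rw [isLocalization_iff]
  refine ⟨?_, ?_, ?_⟩
  · intro z
    change IsUnit (incl W z)
    rw [Pi.isUnit_iff]
    intro i
    rw [incl_apply, isUnit_iff_ne_zero]
    intro h
    exact z.2 i (Subtype.ext h)
  · intro l
    have h : ∀ i, ∃ p : W i × W i, p.2 ≠ 0 ∧ l i * (p.2 : K) = (p.1 : K) := by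
      intro i
      rcases (W i).mem_or_inv_mem (l i) with h1 | h1
      · exact ⟨(⟨l i, h1⟩, 1), one_ne_zero, by simp⟩
      · by_cases h0 : l i = 0
        · exact ⟨(0, 1), one_ne_zero, by simp [h0]⟩
        · refine ⟨(1, ⟨(l i)⁻¹, h1⟩), ?_, ?_⟩
          · intro h2
            exact inv_ne_zero h0 (congrArg Subtype.val h2)
          · simp [h0]
    choose p hp1 hp2 using h
    refine ⟨(fun i => (p i).1, ⟨fun i => (p i).2, hp1⟩), ?_⟩
    change l * incl W _ = incl W _
    funext i
    simp only [Pi.mul_apply, incl_apply]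
    exact hp2 i
  · intro x y hxy
    refine ⟨1, ?_⟩
    have : x = y := incl_injective W hxy
    rw [this]

end Groth.Agent.Lib.T2H9.ProdVal
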